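import Mathlib
import Cfsg.Statements.S0308
-- import your own Cfsg.Agent.* helpers here

set_option autoImplicit false
open Cfsg

namespace Cfsg.Agent.S0308

/-- the union of the double cosets `B n B`, `n ∈ N` -/
def bnb {G : Type*} [Group G] (P : Cfsg.BNPair G) : Set G :=
  {g | ∃ n ∈ P.N, g ∈ DoubleCoset.doubleCoset n (P.B : Set G) P.B}

theorem B_mul_bnb {G : Type*} [Group G] (P : Cfsg.BNPair G) {b x : G} (hb : b ∈ P.B)
    (hx : x ∈ bnb P) : b * x ∈ bnb P := by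
  obtain ⟨n, hn, hx⟩ := hx
  rw [DoubleCoset.mem_doubleCoset] at hx
  obtain ⟨b1, hb1, b2, hb2, rfl⟩ := hx
  refine ⟨n, hn, ?_⟩
  rw [DoubleCoset.mem_doubleCoset]
  exact ⟨b * b1, P.B.mul_mem hb hb1, b2, hb2, by group⟩

theorem S_mul_bnb {G : Type*} [Group G] (P : Cfsg.BNPair G) {s x : G} (hs : s ∈ P.S)
    (hx : x ∈ bnb P) : s * x ∈ bnb P := by
  obtain ⟨n, hn, hx⟩ := hx
  rw [DoubleCoset.mem_doubleCoset] at hx
  obtain ⟨b1, hb1, b2, hb2, rfl⟩ := hx
  have h := P.mul_mem_union s hs n hn b1 hb1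
  rcases h with h | h
  · rw [DoubleCoset.mem_doubleCoset] at h
    obtain ⟨c1, hc1, c2, hc2, heq⟩ := h
    refine ⟨s * n, P.N.mul_mem (P.subset hs) hn, ?_⟩
    rw [DoubleCoset.mem_doubleCoset]
    refine ⟨c1, hc1, c2 * b2, P.B.mul_mem hc2 hb2, ?_⟩
    calc s * (b1 * n * b2) = (s * b1 * n) * b2 := by group
      _ = (c1 * (s * n) * c2) * b2 := by rw [heq]
      _ = c1 * (s * n) * (c2 * b2) := by group
  · rw [DoubleCoset.mem_doubleCoset] at h
    obtain ⟨c1, hc1, c2, hc2, heq⟩ := h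
    refine ⟨n, hn, ?_⟩
    rw [DoubleCoset.mem_doubleCoset]
    refine ⟨c1, hc1, c2 * b2, P.B.mul_mem hc2 hb2, ?_⟩
    calc s * (b1 * n * b2) = (s * b1 * n) * b2 := by group
      _ = (c1 * n * c2) * b2 := by rw [heq]
      _ = c1 * n * (c2 * b2) := by group

/-- the subgroup of elements stabilising `bnb` under left multiplication -/
def stab {G : Type*} [Group G] (P : Cfsg.BNPair G) : Subgroup G where
  carrier := {g | (∀ x ∈ bnb P, g * x ∈ bnb P) ∧ (∀ x ∈ bnb P, g⁻¹ * x ∈ bnb P)}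
  mul_mem' := by
    rintro a b ⟨ha1, ha2⟩ ⟨hb1, hb2⟩
    refine ⟨fun x hx => ?_, fun x hx => ?_⟩
    · rw [mul_assoc]; exact ha1 _ (hb1 _ hx)
    · rw [mul_inv_rev, mul_assoc]; exact hb2 _ (ha2 _ hx)
  one_mem' := by
    refine ⟨fun x hx => ?_, fun x hx => ?_⟩
    · rw [one_mul]; exact hx
    · rw [inv_one, one_mul]; exact hx
  inv_mem' := by
    rintro a ⟨ha1, ha2⟩
    refine ⟨ha2, fun x hx => ?_⟩
    rw [inv_inv]; exact ha1 x hx

theorem stab_eq_top {G : Type*} [Group G] (P : Cfsg.BNPair G) : stab P = ⊤ := by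
  have hB : P.B ≤ stab P := by
    intro b hb
    exact ⟨fun x hx => B_mul_bnb P hb hx, fun x hx => B_mul_bnb P (P.B.inv_mem hb) hx⟩
  have hS : P.S ⊆ (stab P : Set G) := by
    intro s hs
    refine ⟨fun x hx => S_mul_bnb P hs hx, fun x hx => ?_⟩
    have h1 : s⁻¹ * x = (s * s)⁻¹ * (s * x) := by group
    rw [h1]
    exact B_mul_bnb P (P.B.inv_mem (P.sq_mem s hs)) (S_mul_bnb P hs hx)
  have hN : P.N ≤ stab P := by
    rw [← P.closure_sup]
    apply sup_le
    · exact (Subgroup.closure_le _).mpr hS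
    · exact inf_le_left.trans hB
  rw [eq_top_iff, ← P.sup_eq_top]
  exact sup_le hB hN

theorem result {G : Type*} [Group G] (P : Cfsg.BNPair G) (g : G) :
    ∃ n ∈ P.N, g ∈ DoubleCoset.doubleCoset n (P.B : Set G) P.B := by
  have h1 : (1 : G) ∈ bnb P := by
    refine ⟨1, P.N.one_mem, ?_⟩
    rw [DoubleCoset.mem_doubleCoset]
    exact ⟨1, P.B.one_mem, 1, P.B.one_mem, by group⟩
  have hg : g ∈ stab P := by rw [stab_eq_top]; trivial
  have := hg.1 1 h1
  rw [mul_one] at this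
  exact this

end Cfsg.Agent.S0308
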