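import Mathlib
import Cfsg.Statements.S0310
-- import your own Cfsg.Agent.* helpers here

set_option autoImplicit false
open Cfsg

namespace Cfsg.Agent.S0310

/-- the union of the double cosets `B n B`, `n ∈ closure J` -/
def bnb {G : Type*} [Group G] (P : Cfsg.BNPair G) (J : Set G) : Set G :=
  {g | ∃ n ∈ Subgroup.closure J, g ∈ DoubleCoset.doubleCoset n (P.B : Set G) P.B}

theorem B_mul_bnb {G : Type*} [Group G] (P : Cfsg.BNPair G) (J : Set G) {b x : G} (hb : b ∈ P.B)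
    (hx : x ∈ bnb P J) : b * x ∈ bnb P J := by
  obtain ⟨n, hn, hx⟩ := hx
  rw [DoubleCoset.mem_doubleCoset] at hx
  obtain ⟨b1, hb1, b2, hb2, rfl⟩ := hx
  refine ⟨n, hn, ?_⟩
  rw [DoubleCoset.mem_doubleCoset]
  exact ⟨b * b1, P.B.mul_mem hb hb1, b2, hb2, by group⟩

theorem S_mul_bnb {G : Type*} [Group G] (P : Cfsg.BNPair G) {J : Set G} (hJ : J ⊆ P.S) {s x : G}
    (hs : s ∈ J) (hx : x ∈ bnb P J) : s * x ∈ bnb P J := by
  obtain ⟨n, hn, hx⟩ := hx
  rw [DoubleCoset.mem_doubleCoset] at hx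
  obtain ⟨b1, hb1, b2, hb2, rfl⟩ := hx
  have hnN : n ∈ P.N := by
    have : Subgroup.closure J ≤ P.N := (Subgroup.closure_le _).mpr (hJ.trans P.subset)
    exact this hn
  have h := P.mul_mem_union s (hJ hs) n hnN b1 hb1
  rcases h with h | h
  · rw [DoubleCoset.mem_doubleCoset] at h
    obtain ⟨c1, hc1, c2, hc2, heq⟩ := h
    refine ⟨s * n, Subgroup.mul_mem _ (Subgroup.subset_closure hs) hn, ?_⟩
    rw [DoubleCoset.mem_doubleCoset]
    refine ⟨c1, hc1, c2 * b2, P.B.mul_mem hc2 hb2, ?_⟩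
    calc s * (b1 * n * b2) = (s * b1 * n) * b2 := by group
      _ = (c1 * (s * n) * c2) * b2 := by rw [heq]
      _ = c1 * (s * n) * (c2 * b2) := by group
  · rw [DoubleCoset.mem_doubleCoset] at h
    obtain ⟨c1, hc1, c2, hc2, heq⟩ := h
    refine ⟨n, hn, ?_⟩
    rw [DoubleCoset.mem_doubleCoset]
    refine ⟨c1, hc1, c2 * b2, P.B.mul_mem hc2 hb2, ?_⟩
    calc s * (b1 * n * b2) = (s * b1 * n) * b2 := by group
      _ = (c1 * n * c2) * b2 := by rw [heq]
      _ = c1 * n * (c2 * b2) := by group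

/-- the subgroup of elements stabilising `bnb` under left multiplication -/
def stab {G : Type*} [Group G] (P : Cfsg.BNPair G) (J : Set G) : Subgroup G where
  carrier := {g | (∀ x ∈ bnb P J, g * x ∈ bnb P J) ∧ (∀ x ∈ bnb P J, g⁻¹ * x ∈ bnb P J)}
  mul_mem' := by
    rintro a b ⟨ha1, ha2⟩ ⟨hb1, hb2⟩
    refine ⟨fun x hx => ?_, fun x hx => ?_⟩
    · rw [mul_assoc]; exact ha1 _ (hb1 _ hx)
    · rw [mul_inv_rev, mul_assoc]; exact hb2 _ (ha2 _ hx)
  one_mem' := by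
    refine ⟨fun x hx => ?_, fun x hx => ?_⟩
    · rw [one_mul]; exact hx
    · rw [inv_one, one_mul]; exact hx
  inv_mem' := by
    rintro a ⟨ha1, ha2⟩
    refine ⟨ha2, fun x hx => ?_⟩
    rw [inv_inv]; exact ha1 x hx

theorem parabolic_le_stab {G : Type*} [Group G] (P : Cfsg.BNPair G) {J : Set G} (hJ : J ⊆ P.S) :
    P.parabolic J ≤ stab P J := by
  have hB : P.B ≤ stab P J := by
    intro b hb
    exact ⟨fun x hx => B_mul_bnb P J hb hx, fun x hx => B_mul_bnb P J (P.B.inv_mem hb) hx⟩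
  have hS : J ⊆ (stab P J : Set G) := by
    intro s hs
    refine ⟨fun x hx => S_mul_bnb P hJ hs hx, fun x hx => ?_⟩
    have h1 : s⁻¹ * x = (s * s)⁻¹ * (s * x) := by group
    rw [h1]
    exact B_mul_bnb P J (P.B.inv_mem (P.sq_mem s (hJ hs))) (S_mul_bnb P hJ hs hx)
  unfold Cfsg.BNPair.parabolic
  exact sup_le hB ((Subgroup.closure_le _).mpr hS)

theorem result {G : Type*} [Group G] (P : Cfsg.BNPair G) {J : Set G}
    (hJ : J ⊆ P.S) (g : G) :
    g ∈ P.parabolic J ↔ ∃ n ∈ Subgroup.closure J, g ∈ DoubleCoset.doubleCoset n (P.B : Set G) P.B := by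
  constructor
  · intro hg
    have h1 : (1 : G) ∈ bnb P J := by
      refine ⟨1, Subgroup.one_mem _, ?_⟩
      rw [DoubleCoset.mem_doubleCoset]
      exact ⟨1, P.B.one_mem, 1, P.B.one_mem, by group⟩
    have := (parabolic_le_stab P hJ hg).1 1 h1
    rw [mul_one] at this
    exact this
  · rintro ⟨n, hn, hg⟩
    rw [DoubleCoset.mem_doubleCoset] at hg
    obtain ⟨b1, hb1, b2, hb2, rfl⟩ := hg
    have hB : P.B ≤ P.parabolic J := le_sup_left
    have hJ' : Subgroup.closure J ≤ P.parabolic J := le_sup_right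
    exact Subgroup.mul_mem _ (Subgroup.mul_mem _ (hB hb1) (hJ' hn)) (hB hb2)

end Cfsg.Agent.S0310
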