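import Mathlib
import Cfsg.Statements.S0311
import Cfsg.Agent.Lib.Helper1_BN
import Cfsg.Agent.S0308

set_option autoImplicit false
open Cfsg

namespace Cfsg.Agent.S0311

open Cfsg.Agent.Lib.Helper1_BN in
/-- a subgroup containing `B` is the parabolic subgroup of `S ∩ M` -/
theorem eq_parabolic {G : Type*} [Group G] (P : Cfsg.BNPair G) (M : Subgroup G)
    (hM : P.B ≤ M) : M = P.parabolic (P.S ∩ (M : Set G)) := by
  apply le_antisymm
  · intro g hg
    obtain ⟨n, hn, hgn⟩ := Cfsg.Agent.S0308.result P g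
    rw [DoubleCoset.mem_doubleCoset] at hgn
    obtain ⟨b1, hb1, b2, hb2, rfl⟩ := hgn
    have hnM : n ∈ M := by
      have : n = b1⁻¹ * (b1 * n * b2) * b2⁻¹ := by group
      rw [this]
      exact M.mul_mem (M.mul_mem (M.inv_mem (hM hb1)) hg) (M.inv_mem (hM hb2))
    have h1 : n ∈ P.parabolic (P.S ∩ (M : Set G)) :=
      (ofBN P).mem_parabolic_of_mem hn hM hnM
    have hB : P.B ≤ P.parabolic (P.S ∩ (M : Set G)) := le_sup_left
    exact Subgroup.mul_mem _ (Subgroup.mul_mem _ (hB hb1) h1) (hB hb2)
  · unfold Cfsg.BNPair.parabolic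
    apply sup_le hM
    rw [Subgroup.closure_le]
    exact Set.inter_subset_right

/-- Every subgroup containing `B` is a standard parabolic subgroup: it is generated by `B` and some set of
distinguished generators. -/
theorem result {G : Type*} [Group G] (P : Cfsg.BNPair G) (M : Subgroup G)
    (hM : P.B ≤ M) : ∃ J ⊆ P.S, M = P.parabolic J :=
  ⟨P.S ∩ (M : Set G), Set.inter_subset_left, eq_parabolic P M hM⟩

end Cfsg.Agent.S0311
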