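import Cfsg.Statements.S0362
import Mathlib
set_option autoImplicit false
open Cfsg
namespace Cfsg.Agent.S0362

set_option maxRecDepth 100000 in
theorem qr_dot : ∀ s t : ZMod 23, ∑ i : GolayPt, qrWord s i * qrWord t i = 0 := by decide

set_option maxRecDepth 100000 in
theorem qr_one : ∀ s : ZMod 23, ∑ i : GolayPt, qrWord s i * (1 : GolayPt → ZMod 2) i = 0 := by
  decide

set_option maxRecDepth 100000 in
theorem one_one : ∑ i : GolayPt, (1 : GolayPt → ZMod 2) i * (1 : GolayPt → ZMod 2) i = 0 := by
  decide

theorem gen_gen (v w : GolayPt → ZMod 2) (hv : v ∈ Set.range qrWord ∪ {1})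
    (hw : w ∈ Set.range qrWord ∪ {1}) : ∑ i, v i * w i = 0 := by
  rcases hv with ⟨s, rfl⟩ | hv <;> rcases hw with ⟨t, rfl⟩ | hw
  · exact qr_dot s t
  · rw [Set.mem_singleton_iff.mp hw]; exact qr_one s
  · rw [Set.mem_singleton_iff.mp hv]
    rw [← qr_one t]
    exact Finset.sum_congr rfl fun i _ => mul_comm _ _
  · rw [Set.mem_singleton_iff.mp hv, Set.mem_singleton_iff.mp hw]; exact one_one

theorem result (v w : Cfsg.GolayPt → ZMod 2) (hv : v ∈ Cfsg.golayCode) (hw : w ∈ Cfsg.golayCode) : ∑ i, v i * w i = 0 := by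
  unfold golayCode at hv hw
  induction hv using Submodule.span_induction with
  | mem v hv =>
    induction hw using Submodule.span_induction with
    | mem w hw => exact gen_gen v w hv hw
    | zero => simp
    | add x y _ _ hx hy =>
      simp only [Pi.add_apply, mul_add, Finset.sum_add_distrib, hx, hy, add_zero]
    | smul a x _ hx =>
      simp only [Pi.smul_apply, smul_eq_mul, mul_left_comm _ a, ← Finset.mul_sum, hx, mul_zero]
  | zero => simp
  | add x y _ _ hx hy =>
    simp only [Pi.add_apply, add_mul, Finset.sum_add_distrib, hx, hy, add_zero]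
  | smul a x _ hx =>
    simp only [Pi.smul_apply, smul_eq_mul, mul_assoc, ← Finset.mul_sum, hx, mul_zero]

end Cfsg.Agent.S0362
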