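import Cfsg.Statements.S0557
import Mathlib
import Cfsg.Agent.Lib.Helper1_Index

set_option autoImplicit false
open Cfsg

namespace Cfsg.Agent.S0557

universe u

open scoped commutatorElement

/-- A normal subgroup whose order is coprime to its index is the unique subgroup of its order. -/
theorem eq_of_card_eq_of_normal_coprime {L : Type*} [Group L] [Finite L] (N : Subgroup L)
    [N.Normal] (hcop : (Nat.card N).Coprime N.index) (M : Subgroup L)
    (hM : Nat.card M = Nat.card N) : M = N := by
  have h1 : Nat.card (M.map (QuotientGroup.mk' N)) ∣ Nat.card M := Subgroup.card_map_dvd _ _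
  have h2 : Nat.card (M.map (QuotientGroup.mk' N)) ∣ N.index := by
    rw [Subgroup.index_eq_card]
    exact Subgroup.card_subgroup_dvd_card _
  rw [hM] at h1
  have h3 : Nat.card (M.map (QuotientGroup.mk' N)) = 1 :=
    Nat.eq_one_of_dvd_coprimes hcop h1 h2
  have h4 : M ≤ N := by
    rw [Subgroup.card_eq_one, Subgroup.map_eq_bot_iff, QuotientGroup.ker_mk'] at h3
    exact h3
  exact Subgroup.eq_of_le_of_card_ge h4 hM.ge

theorem characteristic_of_normal_coprime {L : Type*} [Group L] [Finite L] (N : Subgroup L)
    [N.Normal] (hcop : (Nat.card N).Coprime N.index) : N.Characteristic := by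
  rw [Subgroup.characteristic_iff_map_eq]
  intro ϕ
  apply eq_of_card_eq_of_normal_coprime N hcop
  exact Subgroup.card_map_of_injective ϕ.injective

/-- Compatibility of focal subgroups with passage to a subgroup. -/
theorem focal_map_le {G : Type*} [Group G] (K : Subgroup G) (B : Subgroup K) (A : Subgroup G)
    (h : B.map K.subtype ≤ A) : (Subgroup.focalSubgroup B).map K.subtype ≤ Subgroup.focalSubgroup A := by
  rw [Subgroup.focalSubgroup_def, MonoidHom.map_closure, Subgroup.closure_le]
  rintro _ ⟨g, ⟨hg, x, hx, u, rfl⟩, rfl⟩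
  rw [Subgroup.focalSubgroup_def]
  apply Subgroup.subset_closure
  refine ⟨h ⟨_, hg, rfl⟩, (x : G), h ⟨x, hx, rfl⟩, (u : G), ?_⟩
  simp [commutatorElement_def]

theorem focal_iter_map_le {G : Type*} [Group G] (K : Subgroup G) (m : ℕ) :
    ∀ (B : Subgroup K) (A : Subgroup G), B.map K.subtype ≤ A →
      ((fun X : Subgroup K => Subgroup.focalSubgroup X)^[m] B).map K.subtype ≤
        (fun X : Subgroup G => Subgroup.focalSubgroup X)^[m] A := by
  induction m with
  | zero => intro B A h; exact h
  | succ m ih =>
    intro B A h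
    rw [Function.iterate_succ_apply, Function.iterate_succ_apply]
    exact ih _ _ (focal_map_le K B A h)

/-- Transfer facts for a Hall subgroup. -/
theorem transfer_facts {G : Type*} [Group G] [Finite G] (H : Subgroup G)
    (hHall : (Nat.card H).Coprime H.index) :
    ∃ K : Subgroup G, K.Normal ∧ K ⊔ H = ⊤ ∧ K ⊓ H = Subgroup.focalSubgroup H := by
  have hcop : (Nat.card (H ⧸ H.focalSubgroupOf)).Coprime H.index :=
    Nat.Coprime.coprime_dvd_left (Subgroup.card_quotient_dvd_card _) hHall
  have hpow : ∀ x : H, H.transferFocal (x : G) = (x : H ⧸ H.focalSubgroupOf) ^ H.index :=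
    Subgroup.transferFocal_eq_pow H
  have hinj : ∀ y : H ⧸ H.focalSubgroupOf, y ^ H.index = 1 → y = 1 := by
    intro y hy
    have : powCoprime hcop y = powCoprime hcop 1 := by
      rw [powCoprime_one]; exact hy
    exact (powCoprime hcop).injective this
  refine ⟨H.transferFocal.ker, inferInstance, ?_, ?_⟩
  · rw [eq_top_iff]
    intro g _
    obtain ⟨y, hy⟩ := (powCoprime hcop).surjective (H.transferFocal g)
    obtain ⟨h, rfl⟩ := QuotientGroup.mk_surjective y
    have hy' : H.transferFocal (h : G) = H.transferFocal g := by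
      rw [hpow]; exact hy
    have hk : g * (h : G)⁻¹ ∈ H.transferFocal.ker := by
      rw [MonoidHom.mem_ker, map_mul, map_inv, hy', mul_inv_cancel]
    have : g = (g * (h : G)⁻¹) * h := by group
    rw [this]
    exact Subgroup.mul_mem _ (Subgroup.mem_sup_left hk) (Subgroup.mem_sup_right h.2)
  · ext x
    rw [Subgroup.mem_inf, MonoidHom.mem_ker]
    constructor
    · rintro ⟨hxK, hxH⟩
      have h1 := hpow ⟨x, hxH⟩
      rw [Subgroup.coe_mk, hxK] at h1
      have h2 := hinj _ h1.symm
      rw [QuotientGroup.eq_one_iff, Subgroup.focalSubgroupOf_def, Subgroup.mem_subgroupOf] at h2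
      exact h2
    · intro hx
      have hxH : x ∈ H := Subgroup.focalSubgroup_le H hx
      refine ⟨?_, hxH⟩
      have h1 := hpow ⟨x, hxH⟩
      rw [Subgroup.coe_mk] at h1
      rw [h1]
      have : ((⟨x, hxH⟩ : H) : H ⧸ H.focalSubgroupOf) = 1 := by
        rw [QuotientGroup.eq_one_iff, Subgroup.focalSubgroupOf_def, Subgroup.mem_subgroupOf]
        exact hx
      rw [this, one_pow]

theorem main (n : ℕ) : ∀ (G : Type u) [Group G] [Finite G] (H : Subgroup G),
    (Nat.card H).Coprime H.index →
    (fun K : Subgroup G => Subgroup.focalSubgroup K)^[n] H = ⊥ →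
    ∃ N : Subgroup G, N.Normal ∧ Subgroup.IsComplement' N H := by
  induction n with
  | zero =>
    intro G _ _ H _ hH
    rw [Function.iterate_zero, id_eq] at hH
    subst hH
    exact ⟨⊤, inferInstance, Subgroup.isComplement'_top_bot⟩
  | succ n ih =>
    intro G _ _ H hHall hfoc
    rw [Function.iterate_succ_apply] at hfoc
    obtain ⟨K, hKn, hKH, hKF⟩ := transfer_facts H hHall
    set F := Subgroup.focalSubgroup H with hF
    have hFK : F ≤ K := hKF ▸ inf_le_left
    have hFH : F ≤ H := Subgroup.focalSubgroup_le H
    -- index of F in K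
    have hidx : (F.subgroupOf K).index = H.index := by
      have h1 := Cfsg.Agent.Lib.Helper1_Index.second_iso_abs K H
      rw [hKH, Subgroup.relIndex_top_right, hKF] at h1
      exact h1.symm
    have hcardF : Nat.card (F.subgroupOf K) = Nat.card F := by
      rw [← Subgroup.card_map_of_injective K.subtype_injective,
        Subgroup.map_subgroupOf_eq_of_le hFK]
    have hcop' : (Nat.card (F.subgroupOf K)).Coprime (F.subgroupOf K).index := by
      rw [hidx, hcardF]
      exact Nat.Coprime.coprime_dvd_left (Subgroup.card_dvd_of_le hFH) hHall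
    have hfoc' : (fun X : Subgroup K => Subgroup.focalSubgroup X)^[n] (F.subgroupOf K) = ⊥ := by
      have := focal_iter_map_le K n (F.subgroupOf K) F
        (by rw [Subgroup.map_subgroupOf_eq_of_le hFK])
      rw [hfoc, le_bot_iff, Subgroup.map_eq_bot_iff_of_injective _ K.subtype_injective] at this
      exact this
    obtain ⟨N', hN'n, hN'c⟩ := ih K (F.subgroupOf K) hcop' hfoc'
    have hN'card : Nat.card N' = H.index := by
      rw [← hidx]; exact hN'c.index_eq_card.symm
    have hN'idx : N'.index = Nat.card (F.subgroupOf K) := hN'c.symm.index_eq_card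
    haveI : N'.Characteristic := by
      apply characteristic_of_normal_coprime
      rw [hN'card, hN'idx, hcardF]
      exact (Nat.Coprime.coprime_dvd_left (Subgroup.card_dvd_of_le hFH) hHall).symm
    refine ⟨N'.map K.subtype, inferInstance, ?_⟩
    apply Subgroup.isComplement'_of_coprime
    · rw [Subgroup.card_map_of_injective K.subtype_injective, hN'card, mul_comm]
      exact H.card_mul_index
    · rw [Subgroup.card_map_of_injective K.subtype_injective, hN'card]
      exact hHall.symm

theorem result {G : Type*} [Group G] [Finite G] (H : Subgroup G) (hHall : (Nat.card H).Coprime H.index) (n : ℕ) (hfoc : (fun K : Subgroup G => Subgroup.focalSubgroup K)^[n] H = ⊥) : ∃ N : Subgroup G, N.Normal ∧ Subgroup.IsComplement' N H :=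
  main n G H hHall hfoc

end Cfsg.Agent.S0557
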