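import Cfsg.Statements.S1550
import Mathlib
import Cfsg.Agent.Lib.Helper1_Sextets

set_option autoImplicit false
open Cfsg
open scoped Pointwise
open Cfsg.Agent.Lib.Helper1_Chain Cfsg.Agent.Lib.Helper1_Golay

namespace Cfsg.Agent.S1550

theorem ncard_sextets : Cfsg.sextets.ncard = 1771 := by
  classical
  have hfin : (Cfsg.sextets : Set (Finset (Finset GolayPt))).Finite := Set.toFinite _
  set SX : Finset (Finset (Finset GolayPt)) := hfin.toFinset with hSX
  have hmem : ∀ S, S ∈ SX ↔ S ∈ sextets := fun S => Set.Finite.mem_toFinset hfin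
  set T4 : Finset (Finset GolayPt) := Finset.powersetCard 4 Finset.univ with hT4
  have hT4mem : ∀ t, t ∈ T4 ↔ t.card = 4 := by
    intro t; rw [hT4, Finset.mem_powersetCard]; simp
  -- the sextet of a tetrad
  have hex : ∀ t : Finset GolayPt, ∃ S : Finset (Finset GolayPt), t.card = 4 → (S ∈ sextets ∧ t ∈ S) := by
    intro t
    by_cases ht : t.card = 4
    · obtain ⟨S, hS, _⟩ := existsUnique_sextet ht
      exact ⟨S, fun _ => hS⟩
    · exact ⟨∅, fun h => absurd h ht⟩
  choose f hf using hex
  have hcard : T4.card = ∑ S ∈ SX, (T4.filter (fun t => f t = S)).card := by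
    apply Finset.card_eq_sum_card_fiberwise
    intro t ht
    exact (hmem _).2 (hf t ((hT4mem t).1 ht)).1
  have hfib : ∀ S ∈ SX, (T4.filter (fun t => f t = S)).card = 6 := by
    intro S hS
    have hS' := (hmem S).1 hS
    have : T4.filter (fun t => f t = S) = S := by
      ext t
      rw [Finset.mem_filter, hT4mem]
      constructor
      · rintro ⟨ht, hfS⟩
        rw [← hfS]; exact (hf t ht).2
      · intro htS
        have ht : t.card = 4 := hS'.2.1 t htS
        refine ⟨ht, ?_⟩
        exact (existsUnique_sextet ht).unique (hf t ht) ⟨hS', htS⟩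
    rw [this]; exact hS'.1
  rw [Finset.sum_congr rfl hfib, Finset.sum_const, smul_eq_mul] at hcard
  have h10626 : T4.card = 10626 := by
    rw [hT4, Finset.card_powersetCard]
    simp only [Finset.card_univ]
    have : Fintype.card GolayPt = 24 := by decide
    rw [this]; decide
  have : SX.card = 1771 := by omega
  rw [← this, ← Set.ncard_coe_finset, hSX, Set.Finite.coe_toFinset]

/-- Every 4-element set of the 24 points is a tetrad of exactly one sextet, and the sextets number 1771. -/
theorem result : (∀ t : Finset Cfsg.GolayPt, t.card = 4 → ∃! S : Finset (Finset Cfsg.GolayPt), S ∈ Cfsg.sextets ∧ t ∈ S) ∧ Cfsg.sextets.ncard = 1771 :=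
  ⟨fun _ ht => existsUnique_sextet ht, ncard_sextets⟩

end Cfsg.Agent.S1550
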