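import Cfsg.Statements.S1552
import Mathlib
import Cfsg.Agent.Lib.Helper1_OrbitCert2
import Cfsg.Agent.Lib.Helper1_OC_S0_sextets
import Cfsg.Agent.Lib.Helper1_SextetStab

set_option autoImplicit false
open Cfsg
open scoped Pointwise
open Cfsg.Agent.Lib.Helper1_Golay Cfsg.Agent.Lib.Helper1_Chain Cfsg.Agent.Lib.Helper1_Cert
open Cfsg.Agent.Lib.Helper1_OC_S0_sextets

namespace Cfsg.Agent.S1552

set_option maxRecDepth 1000000 in
theorem bases_ok : ∀ c ∈ [c1, c2, c3, c4], SextetL c.base := by decide +kernel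

set_option maxRecDepth 1000000 in
theorem lens : ([c1, c2, c3, c4].map fun c => c.ents.length) = [1, 90, 240, 1440] := by
  decide +kernel

/-- the decomposition for the standard sextet -/
theorem decomp_S0 : OrbitDecomp S0 sextets [1, 90, 240, 1440] := by
  have h := decomp_of_cert encF encF x0 gens [c1, c2, c3, c4] sextets
    (fun σ hσ y hy => smul_mem_sextets hσ hy) (by decide +kernel) gens_ok (by decide)
    (by
      intro c hc
      simp only [List.mem_cons, List.not_mem_nil, or_false] at hc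
      rcases hc with rfl | rfl | rfl | rfl
      exacts [c1_ok, c2_ok, c3_ok, c4_ok])
    (fun c hc => mset_mem_sextets (bases_ok c hc))
    (by rw [lens, Cfsg.Agent.S1550.ncard_sextets]; decide)
  rw [lens] at h
  exact h

theorem result (S : Finset (Finset Cfsg.GolayPt)) (hS : S ∈ Cfsg.sextets) : ∃ X₁ ∈ Cfsg.sextets, ∃ X₂ ∈ Cfsg.sextets, ∃ X₃ ∈ Cfsg.sextets, (MulAction.orbit ↥(MulAction.stabilizer Cfsg.M24 S) X₁).ncard = 90 ∧ (MulAction.orbit ↥(MulAction.stabilizer Cfsg.M24 S) X₂).ncard = 240 ∧ (MulAction.orbit ↥(MulAction.stabilizer Cfsg.M24 S) X₃).ncard = 1440 ∧ Cfsg.sextets = {S} ∪ MulAction.orbit ↥(MulAction.stabilizer Cfsg.M24 S) X₁ ∪ MulAction.orbit ↥(MulAction.stabilizer Cfsg.M24 S) X₂ ∪ MulAction.orbit ↥(MulAction.stabilizer Cfsg.M24 S) X₃ ∧ IsCoatom (MulAction.stabilizer Cfsg.M24 S) := by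
  obtain ⟨g, hg, rfl⟩ := sextet_trans S0_mem_sextets hS
  have hd : OrbitDecomp (g • S0) sextets [1, 90, 240, 1440] :=
    decomp_S0.smul (fun σ hσ y hy => smul_mem_sextets hσ hy) hg
  obtain ⟨L, hF, hcov⟩ := hd.head_eq hS (by decide)
  rcases hF with _ | ⟨⟨h1, h1'⟩, hF⟩
  rcases hF with _ | ⟨⟨h2, h2'⟩, hF⟩
  rcases hF with _ | ⟨⟨h3, h3'⟩, hF⟩
  cases hF
  refine ⟨_, h1, _, h2, _, h3, h1', h2', h3', ?_, ?_⟩
  · ext y
    rw [hcov y]
    simp only [List.mem_cons, List.not_mem_nil, or_false, exists_eq_or_imp, exists_eq_left,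
      Set.mem_union, Set.mem_singleton_iff]
    tauto
  · apply isCoatom_of_decomp ![1, 90, 240, 1440]
    · rw [orbit_M24_sextet hS]
      exact hd
    · rfl
    · decide
    · decide
    · decide

end Cfsg.Agent.S1552
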