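import Cfsg.Statements.S1557
import Mathlib
import Cfsg.Agent.Lib.Helper1_Octads2

set_option autoImplicit false
open Cfsg
open scoped Pointwise
open Cfsg.Agent.Lib.Helper1_Chain Cfsg.Agent.Lib.Helper1_Golay

namespace Cfsg.Agent.S1557

theorem compl_union_mem {o o' : Finset GolayPt} (ho : o ∈ octads) (ho' : o' ∈ octads)
    (hd : Disjoint o o') : (o ∪ o')ᶜ ∈ octads := by
  have h1 : symmDiff o o' = o ∪ o' := by
    rw [symmDiff_def, Finset.sup_eq_union, hd.sdiff_eq_left, hd.sdiff_eq_right]
  have h2 := compl_mem (symmDiff_mem ho.1 ho'.1)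
  rw [h1] at h2
  refine ⟨h2, ?_⟩
  rw [Finset.card_compl, Finset.card_union_of_disjoint hd, ho.2, ho'.2]
  rfl

/-- the third octad of a trio -/
def third (p : Finset GolayPt × Finset GolayPt) : Finset (Finset GolayPt) :=
  {p.1, p.2, (p.1 ∪ p.2)ᶜ}

theorem octad_ne_of_disjoint {a b : Finset GolayPt} (ha : a ∈ octads) (hd : Disjoint a b) :
    a ≠ b := by
  rintro rfl
  rw [disjoint_self] at hd
  have := ha.2
  rw [hd] at this
  simp at this

theorem third_mem_trios {a b : Finset GolayPt} (ha : a ∈ octads) (hb : b ∈ octads)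
    (hd : Disjoint a b) : third (a, b) ∈ trios := by
  have hc := compl_union_mem ha hb hd
  have hac : Disjoint a (a ∪ b)ᶜ := by
    rw [Finset.disjoint_left]
    intro p hp hpc
    rw [Finset.mem_compl] at hpc
    exact hpc (Finset.mem_union_left _ hp)
  have hbc : Disjoint b (a ∪ b)ᶜ := by
    rw [Finset.disjoint_left]
    intro p hp hpc
    rw [Finset.mem_compl] at hpc
    exact hpc (Finset.mem_union_right _ hp)
  have hab := octad_ne_of_disjoint ha hd
  have hac' := octad_ne_of_disjoint ha hac
  have hbc' := octad_ne_of_disjoint hb hbc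
  refine ⟨?_, ?_, ?_⟩
  · unfold third
    rw [Finset.card_insert_of_notMem, Finset.card_pair hbc']
    simp only [Finset.mem_insert, Finset.mem_singleton, not_or]
    exact ⟨hab, hac'⟩
  · intro o ho
    unfold third at ho
    simp only [Finset.mem_insert, Finset.mem_singleton] at ho
    rcases ho with rfl | rfl | rfl
    · exact ha
    · exact hb
    · exact hc
  · intro o ho o' ho' hne
    unfold third at ho ho'
    simp only [Finset.mem_insert, Finset.mem_singleton] at ho ho'
    rcases ho with rfl | rfl | rfl <;> rcases ho' with rfl | rfl | rfl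
    · exact absurd rfl hne
    · exact hd
    · exact hac
    · exact hd.symm
    · exact absurd rfl hne
    · exact hbc
    · exact hac.symm
    · exact hbc.symm
    · exact absurd rfl hne

theorem third_eq {t : Finset (Finset GolayPt)} (ht : t ∈ trios) {a b : Finset GolayPt}
    (ha : a ∈ t) (hb : b ∈ t) (hab : a ≠ b) : third (a, b) = t := by
  obtain ⟨h3, hoct, hdis⟩ := ht
  have hd := hdis a ha b hb hab
  -- a third element
  have hex : ∃ c ∈ t, c ≠ a ∧ c ≠ b := by
    by_contra hcon
    push Not at hcon
    have : t ⊆ {a, b} := by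
      intro c hc
      simp only [Finset.mem_insert, Finset.mem_singleton]
      by_cases hca : c = a
      · exact Or.inl hca
      · exact Or.inr (hcon c hc hca)
    have := Finset.card_le_card this
    rw [h3, Finset.card_pair hab] at this
    omega
  obtain ⟨c, hc, hca, hcb⟩ := hex
  have hcu : c = (a ∪ b)ᶜ := by
    apply Finset.eq_of_subset_of_card_le
    · intro p hp
      rw [Finset.mem_compl, Finset.mem_union]
      rintro (h | h)
      · exact Finset.disjoint_left.1 (hdis c hc a ha hca) hp h
      · exact Finset.disjoint_left.1 (hdis c hc b hb hcb) hp h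
    · rw [(compl_union_mem (hoct a ha) (hoct b hb) hd).2, (hoct c hc).2]
  symm
  apply Finset.eq_of_superset_of_card_ge
  · intro x hx
    unfold third at hx
    simp only [Finset.mem_insert, Finset.mem_singleton] at hx
    rcases hx with rfl | rfl | rfl
    · exact ha
    · exact hb
    · rw [← hcu]; exact hc
  · rw [h3, (third_mem_trios (hoct a ha) (hoct b hb) hd).1]

theorem trios_count : trios.ncard = 3795 := by
  classical
  have hOfin : (octads : Set (Finset GolayPt)).Finite := Set.toFinite _
  have hTfin : (trios : Set (Finset (Finset GolayPt))).Finite := Set.toFinite _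
  set O : Finset (Finset GolayPt) := hOfin.toFinset with hOdef
  set T : Finset (Finset (Finset GolayPt)) := hTfin.toFinset with hTdef
  have hO : ∀ o, o ∈ O ↔ o ∈ octads := fun o => by rw [hOdef, Set.Finite.mem_toFinset]
  have hT : ∀ t, t ∈ T ↔ t ∈ trios := fun t => by rw [hTdef, Set.Finite.mem_toFinset]
  have hOcard : O.card = 759 := by
    rw [← ncard_octads, Set.ncard_eq_toFinset_card _ hOfin]
  have hTcard : trios.ncard = T.card := Set.ncard_eq_toFinset_card _ hTfin
  set P : Finset (Finset GolayPt × Finset GolayPt) :=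
    (O ×ˢ O).filter (fun p => Disjoint p.1 p.2) with hPdef
  have hPcard : P.card = 759 * 30 := by
    rw [hPdef, Finset.card_filter, Finset.sum_product]
    have : ∀ o ∈ O, (∑ o' ∈ O, if Disjoint (o, o').1 (o, o').2 then 1 else 0) = 30 := by
      intro o ho
      rw [← Finset.card_filter]
      have h30 := (ncard_octads_inter_octad ((hO o).1 ho)).1
      rw [← h30, ← Set.ncard_coe_finset]
      congr 1
      ext o'
      simp only [Finset.coe_filter, Set.mem_ofPred_eq, hO, Finset.card_eq_zero,
        Finset.disjoint_iff_inter_eq_empty, Finset.inter_comm]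
    rw [Finset.sum_congr rfl this, Finset.sum_const, hOcard, smul_eq_mul]
  have hmaps : ∀ p ∈ P, third p ∈ T := by
    rintro ⟨a, b⟩ hp
    rw [hPdef, Finset.mem_filter, Finset.mem_product] at hp
    rw [hT]
    exact third_mem_trios ((hO a).1 hp.1.1) ((hO b).1 hp.1.2) hp.2
  have hfib := Finset.card_eq_sum_card_fiberwise hmaps
  have h6 : ∀ t ∈ T, (P.filter (fun p => third p = t)).card = 6 := by
    intro t ht
    rw [hT] at ht
    have : P.filter (fun p => third p = t) = t.offDiag := by
      ext ⟨a, b⟩
      rw [Finset.mem_filter, Finset.mem_offDiag, hPdef, Finset.mem_filter, Finset.mem_product]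
      simp only [hO]
      constructor
      · rintro ⟨⟨⟨ha, hb⟩, hd⟩, hthird⟩
        refine ⟨?_, ?_, octad_ne_of_disjoint ha hd⟩
        · rw [← hthird]; unfold third; simp
        · rw [← hthird]; unfold third; simp
      · rintro ⟨ha, hb, hab⟩
        exact ⟨⟨⟨ht.2.1 a ha, ht.2.1 b hb⟩, ht.2.2 a ha b hb hab⟩, third_eq ht ha hb hab⟩
    rw [this, Finset.offDiag_card, ht.1]
  rw [Finset.sum_congr rfl h6, Finset.sum_const, smul_eq_mul, hPcard] at hfib
  rw [hTcard]
  omega

/-- statement -/
theorem result : (∀ o o' : Finset Cfsg.GolayPt, o ∈ Cfsg.octads → o' ∈ Cfsg.octads → Disjoint o o' → (o ∪ o')ᶜ ∈ Cfsg.octads) ∧ Cfsg.trios.ncard = 3795 :=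
  ⟨fun _ _ ho ho' hd => compl_union_mem ho ho' hd, trios_count⟩

end Cfsg.Agent.S1557
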