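import Cfsg.Statements.S5611
import Mathlib
import Cfsg.Agent.Lib.Helper1_OrbitCert2
import Cfsg.Agent.Lib.Helper1_OC_S0_octads
import Cfsg.Agent.Lib.Helper1_OC_S0_trios
import Cfsg.Agent.Lib.Helper1_SextetStab
import Cfsg.Agent.Lib.Helper1_Trios

set_option autoImplicit false
open Cfsg
open scoped Pointwise
open Cfsg.Agent.Lib.Helper1_Golay Cfsg.Agent.Lib.Helper1_Chain Cfsg.Agent.Lib.Helper1_Cert

namespace Cfsg.Agent.S5611

section octads
open Cfsg.Agent.Lib.Helper1_OC_S0_octads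

set_option maxRecDepth 1000000 in
theorem basesO_ok : ∀ c ∈ [c1, c2, c3], IsOctadMask (c.base.headD 0) := by decide +kernel

set_option maxRecDepth 1000000 in
theorem lensO : ([c1, c2, c3].map fun c => c.ents.length) = [15, 360, 384] := by
  decide +kernel

theorem decomp_S0_octads : OrbitDecomp S0 octads [15, 360, 384] := by
  have h := decomp_of_cert encF encS x0 gens [c1, c2, c3] octads
    (fun σ hσ y hy => smul_mem_octads hσ hy) (by decide +kernel) gens_ok (by decide)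
    (by
      intro c hc
      simp only [List.mem_cons, List.not_mem_nil, or_false] at hc
      rcases hc with rfl | rfl | rfl
      exacts [c1_ok, c2_ok, c3_ok])
    (fun c hc => maskSet_mem_octads (basesO_ok c hc))
    (by rw [lensO, ncard_octads]; decide)
  rw [lensO] at h
  exact h

end octads

section trios
open Cfsg.Agent.Lib.Helper1_OC_S0_trios

set_option maxRecDepth 1000000 in
theorem basesT_ok : ∀ c ∈ [c1, c2, c3, c4], TrioL c.base := by decide +kernel

set_option maxRecDepth 1000000 in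
theorem lensT : ([c1, c2, c3, c4].map fun c => c.ents.length) = [15, 180, 720, 2880] := by
  decide +kernel

theorem decomp_S0_trios : OrbitDecomp S0 trios [15, 180, 720, 2880] := by
  have h := decomp_of_cert encF encF x0 gens [c1, c2, c3, c4] trios
    (fun σ hσ y hy => smul_mem_trios hσ hy) (by decide +kernel) gens_ok (by decide)
    (by
      intro c hc
      simp only [List.mem_cons, List.not_mem_nil, or_false] at hc
      rcases hc with rfl | rfl | rfl | rfl
      exacts [c1_ok, c2_ok, c3_ok, c4_ok])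
    (fun c hc => mset_mem_trios (basesT_ok c hc))
    (by rw [lensT, Cfsg.Agent.S1557.trios_count]; decide)
  rw [lensT] at h
  exact h

end trios

theorem result (S : Finset (Finset Cfsg.GolayPt)) (hS : S ∈ Cfsg.sextets) : (∃ X₁ ∈ Cfsg.octads, ∃ X₂ ∈ Cfsg.octads, ∃ X₃ ∈ Cfsg.octads, (MulAction.orbit ↥(MulAction.stabilizer Cfsg.M24 S) X₁).ncard = 15 ∧ (MulAction.orbit ↥(MulAction.stabilizer Cfsg.M24 S) X₂).ncard = 360 ∧ (MulAction.orbit ↥(MulAction.stabilizer Cfsg.M24 S) X₃).ncard = 384 ∧ Cfsg.octads = MulAction.orbit ↥(MulAction.stabilizer Cfsg.M24 S) X₁ ∪ MulAction.orbit ↥(MulAction.stabilizer Cfsg.M24 S) X₂ ∪ MulAction.orbit ↥(MulAction.stabilizer Cfsg.M24 S) X₃) ∧ (∃ Y₁ ∈ Cfsg.trios, ∃ Y₂ ∈ Cfsg.trios, ∃ Y₃ ∈ Cfsg.trios, ∃ Y₄ ∈ Cfsg.trios, (MulAction.orbit ↥(MulAction.stabilizer Cfsg.M24 S) Y₁).ncard = 15 ∧ (MulAction.orbit ↥(MulAction.stabilizer Cfsg.M24 S) Y₂).ncard = 180 ∧ (MulAction.orbit ↥(MulAction.stabilizer Cfsg.M24 S) Y₃).ncard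 = 720 ∧ (MulAction.orbit ↥(MulAction.stabilizer Cfsg.M24 S) Y₄).ncard = 2880 ∧ Cfsg.trios = MulAction.orbit ↥(MulAction.stabilizer Cfsg.M24 S) Y₁ ∪ MulAction.orbit ↥(MulAction.stabilizer Cfsg.M24 S) Y₂ ∪ MulAction.orbit ↥(MulAction.stabilizer Cfsg.M24 S) Y₃ ∪ MulAction.orbit ↥(MulAction.stabilizer Cfsg.M24 S) Y₄) := by
  obtain ⟨g, hg, rfl⟩ := sextet_trans S0_mem_sextets hS
  exact ⟨(decomp_S0_octads.smul (fun σ hσ y hy => smul_mem_octads hσ hy) hg).three,
    (decomp_S0_trios.smul (fun σ hσ y hy => smul_mem_trios hσ hy) hg).four⟩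

end Cfsg.Agent.S5611
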