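import Cfsg.Statements.S5610
import Mathlib
import Cfsg.Agent.Lib.Helper1_OrbitCert2
import Cfsg.Agent.Lib.Helper1_OC_O0_trios
import Cfsg.Agent.Lib.Helper1_OC_O0_sextets
import Cfsg.Agent.Lib.Helper1_SextetStab
import Cfsg.Agent.Lib.Helper1_Trios
import Cfsg.Agent.Lib.Helper1_M24c

set_option autoImplicit false
open Cfsg
open scoped Pointwise
open Cfsg.Agent.Lib.Helper1_Golay Cfsg.Agent.Lib.Helper1_Chain Cfsg.Agent.Lib.Helper1_Cert

namespace Cfsg.Agent.S5610

section trios
open Cfsg.Agent.Lib.Helper1_OC_O0_trios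

set_option maxRecDepth 1000000 in
theorem basesT_ok : ∀ c ∈ [c1, c2, c3], TrioL c.base := by decide +kernel

set_option maxRecDepth 1000000 in
theorem lensT : ([c1, c2, c3].map fun c => c.ents.length) = [15, 420, 3360] := by
  decide +kernel

theorem decomp_O0_trios : OrbitDecomp (maskSet Omask) trios [15, 420, 3360] := by
  have h := decomp_of_cert encS encF x0 gens [c1, c2, c3] trios
    (fun σ hσ y hy => smul_mem_trios hσ hy) (by decide +kernel) gens_ok (by decide)
    (by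
      intro c hc
      simp only [List.mem_cons, List.not_mem_nil, or_false] at hc
      rcases hc with rfl | rfl | rfl
      exacts [c1_ok, c2_ok, c3_ok])
    (fun c hc => mset_mem_trios (basesT_ok c hc))
    (by rw [lensT, Cfsg.Agent.S1557.trios_count]; decide)
  rw [lensT] at h
  exact h

end trios

section sextets
open Cfsg.Agent.Lib.Helper1_OC_O0_sextets

set_option maxRecDepth 1000000 in
theorem basesS_ok : ∀ c ∈ [c1, c2, c3], SextetL c.base := by decide +kernel

set_option maxRecDepth 1000000 in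
theorem lensS : ([c1, c2, c3].map fun c => c.ents.length) = [35, 840, 896] := by
  decide +kernel

theorem decomp_O0_sextets : OrbitDecomp (maskSet Omask) sextets [35, 840, 896] := by
  have h := decomp_of_cert encS encF x0 gens [c1, c2, c3] sextets
    (fun σ hσ y hy => smul_mem_sextets hσ hy) (by decide +kernel) gens_ok (by decide)
    (by
      intro c hc
      simp only [List.mem_cons, List.not_mem_nil, or_false] at hc
      rcases hc with rfl | rfl | rfl
      exacts [c1_ok, c2_ok, c3_ok])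
    (fun c hc => mset_mem_sextets (basesS_ok c hc))
    (by rw [lensS, Cfsg.Agent.S1550.ncard_sextets]; decide)
  rw [lensS] at h
  exact h

end sextets

theorem result (o : Finset Cfsg.GolayPt) (ho : o ∈ Cfsg.octads) : (∃ X₁ ∈ Cfsg.trios, ∃ X₂ ∈ Cfsg.trios, ∃ X₃ ∈ Cfsg.trios, (MulAction.orbit ↥(MulAction.stabilizer Cfsg.M24 o) X₁).ncard = 15 ∧ (MulAction.orbit ↥(MulAction.stabilizer Cfsg.M24 o) X₂).ncard = 420 ∧ (MulAction.orbit ↥(MulAction.stabilizer Cfsg.M24 o) X₃).ncard = 3360 ∧ Cfsg.trios = MulAction.orbit ↥(MulAction.stabilizer Cfsg.M24 o) X₁ ∪ MulAction.orbit ↥(MulAction.stabilizer Cfsg.M24 o) X₂ ∪ MulAction.orbit ↥(MulAction.stabilizer Cfsg.M24 o) X₃) ∧ (∃ Y₁ ∈ Cfsg.sextets, ∃ Y₂ ∈ Cfsg.sextets, ∃ Y₃ ∈ Cfsg.sextets, (MulAction.orbit ↥(MulAction.stabilizer Cfsg.M24 o) Y₁).ncard = 35 ∧ (MulAction.orbit ↥(MulAction.stabilizer Cfsg.M24 o) Y₂).ncard = 840 ∧ (MulAction.orbit ↥(MulAction.stabilizer Cfsg.M24 o) Y₃).ncard = 896 ∧ Cfsg.sextets = MulAction.orbit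 ↥(MulAction.stabilizer Cfsg.M24 o) Y₁ ∪ MulAction.orbit ↥(MulAction.stabilizer Cfsg.M24 o) Y₂ ∪ MulAction.orbit ↥(MulAction.stabilizer Cfsg.M24 o) Y₃) := by
  obtain ⟨g, hg, rfl⟩ := M24_octad_transitive (maskSet_mem_octads Omask_isOctad) ho
  exact ⟨(decomp_O0_trios.smul (fun σ hσ y hy => smul_mem_trios hσ hy) hg).three,
    (decomp_O0_sextets.smul (fun σ hσ y hy => smul_mem_sextets hσ hy) hg).three⟩

end Cfsg.Agent.S5610
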