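import Cfsg.Statements.S5615
import Mathlib
import Cfsg.Agent.Lib.Helper1_OrbitCert2
import Cfsg.Agent.Lib.Helper1_OC_OT
import Cfsg.Agent.Lib.Helper1_M22
import Cfsg.Agent.S5610

set_option autoImplicit false
open Cfsg
open scoped Pointwise
open Cfsg.Agent.Lib.Helper1_Golay Cfsg.Agent.Lib.Helper1_Chain Cfsg.Agent.Lib.Helper1_Cert
open Cfsg.Agent.Lib.Helper1_OC_O0_trios renaming c1 → t1, c2 → t2, c3 → t3, gens → tgens,
  x0 → tx0, c1_ok → t1_ok, c2_ok → t2_ok, c3_ok → t3_ok, gens_ok → tgens_ok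
open Cfsg.Agent.Lib.Helper1_OC_OT renaming c1 → j1, gens → jgens, c1_ok → j1_ok,
  gens_ok → jgens_ok, x0 → jx0
open Cfsg.Agent.Lib.Helper1_OC_OT (P16 P16_good P16_fix P16_trans)

namespace Cfsg.Agent.S5615

/-- the standard octad -/
abbrev O0 : Finset GolayPt := maskSet Omask

theorem facts : (∀ c ∈ [t1, t2, t3],
    MulAction.orbit ↥(MulAction.stabilizer M24 O0) (cbase encF c) = cset encF c) ∧
    {y | ∃ c ∈ [t1, t2, t3], y ∈ cset encF c} = trios :=
  cert_facts encS encF tx0 tgens [t1, t2, t3] trios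
    (fun σ hσ y hy => smul_mem_trios hσ hy) (by decide +kernel) tgens_ok (by decide)
    (by
      intro c hc
      simp only [List.mem_cons, List.not_mem_nil, or_false] at hc
      rcases hc with rfl | rfl | rfl
      exacts [t1_ok, t2_ok, t3_ok])
    (fun c hc => mset_mem_trios (Cfsg.Agent.S5610.basesT_ok c hc))
    (by rw [Cfsg.Agent.S5610.lensT, Cfsg.Agent.S1557.trios_count]; decide)

set_option maxRecDepth 1000000 in
theorem mem_t1 : ∀ e ∈ t1.ents, 5279 ∈ e.1 := by decide +kernel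

set_option maxRecDepth 1000000 in
theorem notMem_t23 : ∀ c ∈ [t2, t3], ∀ e ∈ c.ents, 5279 ∉ e.1 := by decide +kernel

theorem mem_mset_iff {l : List ℕ} (hl : WF l) {m : ℕ} (hm : m < 2 ^ 24) :
    maskSet m ∈ mset l ↔ m ∈ l := by
  rw [mem_mset]
  constructor
  · rintro ⟨m', hm', h⟩
    rw [← maskSet_inj (hl.2 m' hm') hm h]
    exact hm'
  · intro h
    exact ⟨m, h, rfl⟩

theorem lemA (T : Finset (Finset GolayPt)) : (T ∈ trios ∧ O0 ∈ T) ↔ T ∈ cset encF t1 := by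
  have h5279 : (5279 : ℕ) < 2 ^ 24 := by norm_num
  constructor
  · rintro ⟨hT, hO⟩
    rw [← facts.2] at hT
    obtain ⟨c, hc, hTc⟩ := hT
    simp only [List.mem_cons, List.not_mem_nil, or_false] at hc
    rcases hc with rfl | rfl | rfl
    · exact hTc
    · exfalso
      obtain ⟨e, he, rfl⟩ := hTc
      exact notMem_t23 t2 (by simp) e he ((mem_mset_iff (t2_ok.2.2.2.1 e he) h5279).1 hO)
    · exfalso
      obtain ⟨e, he, rfl⟩ := hTc
      exact notMem_t23 t3 (by simp) e he ((mem_mset_iff (t3_ok.2.2.2.1 e he) h5279).1 hO)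
  · intro hT
    refine ⟨?_, ?_⟩
    · rw [← facts.2]
      exact ⟨t1, by simp, hT⟩
    · obtain ⟨e, he, rfl⟩ := hT
      exact (mem_mset_iff (t1_ok.2.2.2.1 e he) h5279).2 (mem_t1 e he)

set_option maxRecDepth 1000000 in
theorem len_t1 : t1.ents.length = 15 := by decide +kernel

theorem part1 : {T : Finset (Finset GolayPt) | T ∈ trios ∧ O0 ∈ T}.ncard = 15 := by
  have : {T : Finset (Finset GolayPt) | T ∈ trios ∧ O0 ∈ T} = cset encF t1 := by
    ext T
    exact lemA T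
  rw [this, ncard_cset encF t1_ok, len_t1]

set_option maxRecDepth 1000000 in
theorem base_t1 : t1.base = T0m := by decide +kernel

theorem lemA_trans {T : Finset (Finset GolayPt)} (hT : T ∈ trios) (hO : O0 ∈ T) :
    ∃ σ ∈ M24, σ • O0 = O0 ∧ σ • T0 = T := by
  have h1 := (lemA T).1 ⟨hT, hO⟩
  rw [← facts.1 t1 (by simp), mem_orbit_stab_iff] at h1
  obtain ⟨σ, hσ, hO', hT'⟩ := h1
  refine ⟨σ, hσ, hO', ?_⟩
  rw [← hT']
  show σ • mset T0m = σ • mset t1.base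
  rw [base_t1]

set_option maxRecDepth 1000000 in
theorem jgens_fix : ∀ t ∈ jgens, GoodTable t ∧ ValidTable t ∧ encS.step t [5279] [5279] ∧
    encF.step t T0m T0m := by decide +kernel

/-- the second standard trio -/
abbrev Tb2 : Finset (Finset GolayPt) := mset j1.base

theorem lemB_aux : ∀ e ∈ j1.ents, ∃ σ ∈ M24, σ • O0 = O0 ∧ σ • T0 = T0 ∧ σ • Tb2 = mset e.1 := by
  intro e he
  obtain ⟨ch, hch, hech⟩ := List.mem_flatten.1 he
  have hgens' : ∀ t ∈ jgens, ValidTable t ∧ ∃ σ ∈ M24 ⊓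
      MulAction.stabilizer (Equiv.Perm GolayPt) O0 ⊓ MulAction.stabilizer (Equiv.Perm GolayPt) T0,
      ∀ p, σ p = tfun t p := by
    intro t ht
    obtain ⟨h1, h2, h3, h4⟩ := jgens_fix t ht
    obtain ⟨σ, hσ, hσt⟩ := exists_perm_of_good h1
    refine ⟨h2, σ, ?_, hσt⟩
    refine Subgroup.mem_inf.2 ⟨Subgroup.mem_inf.2 ⟨hσ, MulAction.mem_stabilizer_iff.2 ?_⟩,
      MulAction.mem_stabilizer_iff.2 ?_⟩
    · exact encS.step_sound t σ h2 hσt [5279] [5279] (by decide) (by decide) h3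
    · exact encF.step_sound t σ h2 hσt T0m T0m T0m_trio.1 T0m_trio.1 h4
  have hP : ∀ ch ∈ j1.2, ∀ x ∈ ch, encF.wf x.1 := fun ch hch x hx =>
    j1_ok.2.2.2.1 x (List.mem_flatten.2 ⟨ch, hch, hx⟩)
  obtain ⟨σ, hσ, hσe⟩ := cert_sound (fun e => encF.dec e) encF.wf encF.step encF.step_sound _
    jgens hgens' j1.2 j1.base hP j1_ok.2.1 ch hch e hech
  obtain ⟨h12, h3⟩ := Subgroup.mem_inf.1 hσ
  obtain ⟨h1, h2⟩ := Subgroup.mem_inf.1 h12
  exact ⟨σ, h1, MulAction.mem_stabilizer_iff.1 h2, MulAction.mem_stabilizer_iff.1 h3, hσe⟩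

set_option maxRecDepth 1000000 in
theorem link : ∀ e ∈ t1.ents, e.1 ≠ T0m → ∃ e' ∈ j1.ents, e'.1 = e.1 := by decide +kernel

theorem lemB {T : Finset (Finset GolayPt)} (hT : T ∈ trios) (hO : O0 ∈ T) (hne : T ≠ T0) :
    ∃ σ ∈ M24, σ • O0 = O0 ∧ σ • T0 = T0 ∧ σ • Tb2 = T := by
  obtain ⟨e, he, rfl⟩ := (lemA T).1 ⟨hT, hO⟩
  have hne' : e.1 ≠ T0m := by
    intro h
    apply hne
    show mset e.1 = mset T0m
    rw [h]
  obtain ⟨e', he', hee⟩ := link e he hne'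
  obtain ⟨σ, hσ, h1, h2, h3⟩ := lemB_aux e' he'
  refine ⟨σ, hσ, h1, h2, ?_⟩
  rw [h3, hee]
  rfl

theorem std_pair {T₁ T₂ : Finset (Finset GolayPt)} (h1 : T₁ ∈ trios) (h2 : T₂ ∈ trios)
    (ho1 : O0 ∈ T₁) (ho2 : O0 ∈ T₂) (hne : T₁ ≠ T₂) :
    ∃ g ∈ M24, g • O0 = O0 ∧ g • T0 = T₁ ∧ g • Tb2 = T₂ := by
  obtain ⟨g1, hg1, hg1O, hg1T⟩ := lemA_trans h1 ho1
  have h2' : g1⁻¹ • T₂ ∈ trios := smul_mem_trios (M24.inv_mem hg1) h2
  have ho2' : O0 ∈ g1⁻¹ • T₂ := by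
    have : g1⁻¹ • O0 = O0 := by rw [inv_smul_eq_iff, hg1O]
    rw [← this]
    exact Finset.smul_mem_smul_finset ho2
  have hne' : g1⁻¹ • T₂ ≠ T0 := by
    intro h
    apply hne
    rw [← hg1T, ← h, smul_inv_smul]
  obtain ⟨g2, hg2, hg2O, hg2T, hg2b⟩ := lemB h2' ho2' hne'
  refine ⟨g1 * g2, M24.mul_mem hg1 hg2, ?_, ?_, ?_⟩
  · rw [mul_smul, hg2O, hg1O]
  · rw [mul_smul, hg2T, hg1T]
  · rw [mul_smul, hg2b, smul_inv_smul]

theorem part2 (T₁ T₂ T₁' T₂' : Finset (Finset GolayPt)) (h1 : T₁ ∈ trios) (h2 : T₂ ∈ trios)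
    (h1' : T₁' ∈ trios) (h2' : T₂' ∈ trios) (ho1 : O0 ∈ T₁) (ho2 : O0 ∈ T₂) (ho1' : O0 ∈ T₁')
    (ho2' : O0 ∈ T₂') (hne : T₁ ≠ T₂) (hne' : T₁' ≠ T₂') :
    ∃ g ∈ M24, g • O0 = O0 ∧ g • T₁ = T₁' ∧ g • T₂ = T₂' := by
  obtain ⟨g, hg, hgO, hg1, hg2⟩ := std_pair h1 h2 ho1 ho2 hne
  obtain ⟨g', hg', hgO', hg1', hg2'⟩ := std_pair h1' h2' ho1' ho2' hne'
  refine ⟨g' * g⁻¹, M24.mul_mem hg' (M24.inv_mem hg), ?_, ?_, ?_⟩
  · rw [mul_smul, inv_smul_eq_iff.2 hgO.symm, hgO']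
  · rw [mul_smul, ← hg1, inv_smul_smul, hg1']
  · rw [mul_smul, ← hg2, inv_smul_smul, hg2']


/-! ### the kernel -/

set_option maxRecDepth 1000000 in
theorem P16_trios : ∀ t ∈ P16, ∀ e ∈ t1.ents, encF.step t e.1 e.1 := by decide +kernel

set_option maxRecDepth 1000000 in
theorem sep : ∀ y z : GolayPt, Omask.testBit (idx y) = false ∧ Omask.testBit (idx z) = false ∧
    idx y ≠ idx z → ∃ e ∈ t1.ents, ∃ a ∈ e.1, a.testBit (idx y) = true ∧ a.testBit (idx z) = false := by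
  decide +kernel

set_option maxRecDepth 1000000 in
theorem x0_mem : ∀ e ∈ t1.ents, ∃ b ∈ e.1, b.testBit (idx (bpt 5)) = true := by decide +kernel

theorem smul_eq_of_fix' {σ : Equiv.Perm GolayPt} {s : Finset GolayPt} (h : ∀ p ∈ s, σ p = p) :
    σ • s = s := by
  ext q
  rw [Finset.mem_smul_finset]
  constructor
  · rintro ⟨p, hp, rfl⟩
    show σ p ∈ s
    rw [h p hp]
    exact hp
  · intro hq
    exact ⟨q, hq, h q hq⟩

theorem notMem_O0_iff (p : GolayPt) : p ∉ O0 ↔ Omask.testBit (idx p) = false := by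
  rw [mem_maskSet]
  simp

theorem fix_members {h : Equiv.Perm GolayPt} (hO : h • O0 = O0) (hx : h (bpt 5) = bpt 5)
    {T : Finset (Finset GolayPt)} (hT : T ∈ cset encF t1) (hhT : h • T = T) :
    ∀ m ∈ T, h • m = m := by
  have hTO := (lemA T).2 hT
  obtain ⟨hTt, hOT⟩ := hTO
  obtain ⟨e, he, rfl⟩ := hT
  change h • mset e.1 = mset e.1 at hhT
  change mset e.1 ∈ trios at hTt
  change O0 ∈ mset e.1 at hOT
  show ∀ m ∈ mset e.1, h • m = m
  obtain ⟨b, hb, hb5⟩ := x0_mem e he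
  have hBT : maskSet b ∈ mset e.1 := mem_mset.2 ⟨b, hb, rfl⟩
  have hxB : bpt 5 ∈ maskSet b := mem_maskSet.2 hb5
  have hmem : ∀ m ∈ mset e.1, h • m ∈ mset e.1 := by
    intro m hm
    have := Finset.smul_mem_smul_finset (a := h) hm
    rw [hhT] at this
    exact this
  have hB : h • maskSet b = maskSet b := by
    by_contra hne
    have hd := hTt.2.2 _ (hmem _ hBT) _ hBT hne
    have h1 : bpt 5 ∈ h • maskSet b := by
      rw [← hx]
      exact Finset.smul_mem_smul_finset hxB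
    exact Finset.disjoint_left.1 hd h1 hxB
  have hBO : maskSet b ≠ O0 := by
    intro h'
    rw [h'] at hxB
    exact bpt5_notMem hxB
  intro m hm
  by_cases hmO : m = O0
  · rw [hmO]; exact hO
  by_cases hmB : m = maskSet b
  · rw [hmB]; exact hB
  have hsub : ({O0, maskSet b, m} : Finset (Finset GolayPt)) ⊆ mset e.1 := by
    intro v hv
    simp only [Finset.mem_insert, Finset.mem_singleton] at hv
    rcases hv with rfl | rfl | rfl
    · exact hOT
    · exact hBT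
    · exact hm
  have hcard : ({O0, maskSet b, m} : Finset (Finset GolayPt)).card = 3 := by
    rw [Finset.card_insert_of_notMem, Finset.card_pair (Ne.symm hmB)]
    simp only [Finset.mem_insert, Finset.mem_singleton, not_or]
    exact ⟨Ne.symm hBO, Ne.symm hmO⟩
  have heq : ({O0, maskSet b, m} : Finset (Finset GolayPt)) = mset e.1 :=
    Finset.eq_of_subset_of_card_le hsub (by rw [hcard, hTt.1])
  have := hmem m hm
  rw [← heq] at this
  simp only [Finset.mem_insert, Finset.mem_singleton] at this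
  rcases this with h1 | h1 | h1
  · exfalso
    apply hmO
    rw [← hO] at h1
    exact smul_left_cancel h h1
  · exfalso
    apply hmB
    rw [← hB] at h1
    exact smul_left_cancel h h1
  · exact h1

theorem eq_one_of_fix {h : Equiv.Perm GolayPt} (hh : h ∈ M24) (hO : h • O0 = O0)
    (hx : h (bpt 5) = bpt 5) (hT : ∀ T ∈ cset encF t1, h • T = T) : h = 1 := by
  have hfix : ∀ y, y ∉ O0 → h y = y := by
    intro y hy
    by_contra hne
    have hy' : h y ∉ O0 := by rw [apply_mem_iff_of_smul_eq hO]; exact hy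
    obtain ⟨e, he, a, ha, hay, haz⟩ := sep y (h y) ⟨(notMem_O0_iff y).1 hy,
      (notMem_O0_iff _).1 hy', fun h' => hne (idx_injective h').symm⟩
    have hTe : mset e.1 ∈ cset encF t1 := ⟨e, he, rfl⟩
    have := fix_members hO hx hTe (hT _ hTe) (maskSet a) (mem_mset.2 ⟨a, ha, rfl⟩)
    have h1 : h y ∈ h • maskSet a := Finset.smul_mem_smul_finset (mem_maskSet.2 hay)
    rw [this, mem_maskSet, haz] at h1
    exact absurd h1 (by decide)
  apply eq_one_of_nine_fixed hh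
  have hsub : O0ᶜ ⊆ Finset.univ.filter (fun x => h x = x) := by
    intro y hy
    rw [Finset.mem_compl] at hy
    rw [Finset.mem_filter]
    exact ⟨Finset.mem_univ _, hfix y hy⟩
  have hc : (O0ᶜ).card = 16 := by
    rw [Finset.card_compl, card_maskSet]
    decide
  calc 9 ≤ 16 := by norm_num
    _ = (O0ᶜ).card := hc.symm
    _ ≤ _ := Finset.card_le_card hsub

theorem exists_P16 {g : Equiv.Perm GolayPt} (hO : g • O0 = O0) :
    ∃ σ ∈ M24, σ (bpt 5) = g (bpt 5) ∧ (∀ p ∈ O0, σ p = p) ∧ ∀ T ∈ cset encF t1, σ • T = T := by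
  have hy' : g (bpt 5) ∉ O0 := by rw [apply_mem_iff_of_smul_eq hO]; exact bpt5_notMem
  obtain ⟨t, ht, htx⟩ := P16_trans _ ((notMem_O0_iff _).1 hy')
  obtain ⟨σ, hσ, hσt⟩ := exists_perm_of_good (P16_good t ht).1
  refine ⟨σ, hσ, by rw [hσt, htx], ?_, ?_⟩
  · intro p hp
    rw [hσt]
    exact P16_fix t ht p (mem_maskSet.1 hp)
  · rintro T ⟨e, he, rfl⟩
    exact encF.step_sound t σ (P16_good t ht).2 hσt e.1 e.1 (t1_ok.2.2.2.1 e he)
      (t1_ok.2.2.2.1 e he) (P16_trios t ht e he)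

theorem part3 (g : Equiv.Perm GolayPt) (hg : g ∈ M24) (hO : g • O0 = O0) :
    (∀ T ∈ trios, O0 ∈ T → g • T = T) ↔ ∀ p ∈ O0, g p = p := by
  obtain ⟨σ, hσ, hσx, hσO, hσT⟩ := exists_P16 hO
  have hσO' : σ • O0 = O0 := smul_eq_of_fix' hσO
  have hh : σ⁻¹ * g ∈ M24 := M24.mul_mem (M24.inv_mem hσ) hg
  have hhO : (σ⁻¹ * g) • O0 = O0 := by rw [mul_smul, hO, inv_smul_eq_iff, hσO']
  have hhx : (σ⁻¹ * g) (bpt 5) = bpt 5 := by
    rw [Equiv.Perm.mul_apply, ← hσx]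
    simp
  constructor
  · intro hT
    have h1 : σ⁻¹ * g = 1 := by
      apply eq_one_of_fix hh hhO hhx
      intro T hTc
      have hTT := (lemA T).2 hTc
      rw [mul_smul, hT T hTT.1 hTT.2, inv_smul_eq_iff, hσT T hTc]
    have : g = σ := by
      rw [inv_mul_eq_one] at h1
      exact h1.symm
    intro p hp
    rw [this]
    exact hσO p hp
  · intro hp
    have h1 : σ⁻¹ * g = 1 := by
      apply eq_one_of_nine_fixed hh
      have hsub : insert (bpt 5) O0 ⊆ Finset.univ.filter (fun x => (σ⁻¹ * g) x = x) := by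
        intro y hy
        rw [Finset.mem_filter]
        refine ⟨Finset.mem_univ _, ?_⟩
        rcases Finset.mem_insert.1 hy with rfl | hy
        · exact hhx
        · rw [Equiv.Perm.mul_apply, hp y hy, Equiv.Perm.inv_eq_iff_eq, hσO y hy]
      have hc : (insert (bpt 5) O0).card = 9 := by
        rw [Finset.card_insert_of_notMem bpt5_notMem, card_maskSet]
        decide
      rw [← hc]
      exact Finset.card_le_card hsub
    have : g = σ := by
      rw [inv_mul_eq_one] at h1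
      exact h1.symm
    intro T hT hOT
    rw [this]
    exact hσT T ((lemA T).1 ⟨hT, hOT⟩)


theorem result (o : Finset Cfsg.GolayPt) (ho : o ∈ Cfsg.octads) : {T : Finset (Finset Cfsg.GolayPt) | T ∈ Cfsg.trios ∧ o ∈ T}.ncard = 15 ∧ (∀ T₁ T₂ T₁' T₂' : Finset (Finset Cfsg.GolayPt), T₁ ∈ Cfsg.trios → T₂ ∈ Cfsg.trios → T₁' ∈ Cfsg.trios → T₂' ∈ Cfsg.trios → o ∈ T₁ → o ∈ T₂ → o ∈ T₁' → o ∈ T₂' → T₁ ≠ T₂ → T₁' ≠ T₂' → ∃ g ∈ Cfsg.M24, g • o = o ∧ g • T₁ = T₁' ∧ g • T₂ = T₂') ∧ ∀ g ∈ Cfsg.M24, g • o = o → ((∀ T ∈ Cfsg.trios, o ∈ T → g • T = T) ↔ ∀ p ∈ o, g p = p) := by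
  obtain ⟨k, hk, rfl⟩ := M24_octad_transitive (maskSet_mem_octads Omask_isOctad) ho
  have hkinv : k⁻¹ ∈ M24 := M24.inv_mem hk
  have hmem : ∀ T : Finset (Finset GolayPt), k • O0 ∈ T ↔ O0 ∈ k⁻¹ • T := by
    intro T
    rw [← Finset.smul_mem_smul_finset_iff k⁻¹, inv_smul_smul]
  refine ⟨?_, ?_, ?_⟩
  · have : {T : Finset (Finset GolayPt) | T ∈ trios ∧ k • O0 ∈ T} =
        (fun T => k • T) '' {T : Finset (Finset GolayPt) | T ∈ trios ∧ O0 ∈ T} := by
      ext T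
      constructor
      · rintro ⟨hT, hO⟩
        exact ⟨k⁻¹ • T, ⟨smul_mem_trios hkinv hT, (hmem T).1 hO⟩, smul_inv_smul k T⟩
      · rintro ⟨T', ⟨hT', hO'⟩, rfl⟩
        exact ⟨smul_mem_trios hk hT', Finset.smul_mem_smul_finset hO'⟩
    rw [this, Set.ncard_image_of_injective _ (MulAction.injective k), part1]
  · intro T₁ T₂ T₁' T₂' h1 h2 h1' h2' ho1 ho2 ho1' ho2' hne hne'
    obtain ⟨g, hg, hgO, hg1, hg2⟩ := part2 (k⁻¹ • T₁) (k⁻¹ • T₂) (k⁻¹ • T₁') (k⁻¹ • T₂')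
      (smul_mem_trios hkinv h1) (smul_mem_trios hkinv h2) (smul_mem_trios hkinv h1')
      (smul_mem_trios hkinv h2') ((hmem _).1 ho1) ((hmem _).1 ho2) ((hmem _).1 ho1')
      ((hmem _).1 ho2') (fun h => hne (smul_left_cancel _ h)) (fun h => hne' (smul_left_cancel _ h))
    refine ⟨k * g * k⁻¹, M24.mul_mem (M24.mul_mem hk hg) hkinv, ?_, ?_, ?_⟩
    · rw [mul_smul, mul_smul, inv_smul_smul, hgO]
    · rw [mul_smul, mul_smul, hg1, smul_inv_smul]
    · rw [mul_smul, mul_smul, hg2, smul_inv_smul]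
  · intro g hg hgo
    have hg' : k⁻¹ * g * k ∈ M24 := M24.mul_mem (M24.mul_mem hkinv hg) hk
    have hgo' : (k⁻¹ * g * k) • O0 = O0 := by rw [mul_smul, mul_smul, hgo, inv_smul_smul]
    have h3 := part3 _ hg' hgo'
    constructor
    · intro hT p hp
      obtain ⟨q, hq, rfl⟩ := Finset.mem_smul_finset.1 hp
      have h4 := h3.1 (fun T hT' hO' => by
        rw [mul_smul, mul_smul, hT (k • T) (smul_mem_trios hk hT')
          (Finset.smul_mem_smul_finset hO'), inv_smul_smul]) q hq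
      have h5 : k⁻¹ (g (k q)) = q := h4
      show g (k q) = k q
      exact Equiv.Perm.inv_eq_iff_eq.1 h5
    · intro hp T hT hO
      have h4 := h3.2 (fun q hq => by
        show k⁻¹ (g (k q)) = q
        rw [hp (k q) (Finset.smul_mem_smul_finset hq)]
        simp) (k⁻¹ • T) (smul_mem_trios hkinv hT) ((hmem T).1 hO)
      rw [mul_smul, mul_smul, smul_inv_smul] at h4
      exact smul_left_cancel _ h4

end Cfsg.Agent.S5615
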