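import Cfsg.Statements.S0370
import Mathlib
import Cfsg.Agent.Lib.Helper1_Golay2
set_option autoImplicit false
open Cfsg
namespace Cfsg.Agent.S0370
open Cfsg.Agent.Lib.Helper1_Golay

set_option maxRecDepth 100000 in
theorem shift_qrWord : ∀ t : ZMod 23, ∀ p : GolayPt,
    qrWord t (Equiv.optionCongr (Equiv.addRight (1 : ZMod 23)) p) = qrWord (t - 1) p := by
  decide +kernel

theorem result : Equiv.optionCongr (Equiv.addRight (1 : ZMod 23)) ∈ Cfsg.M24 := by
  apply mem_M24_of_comp
  intro t
  have : (fun p => qrWord t (Equiv.optionCongr (Equiv.addRight (1 : ZMod 23)) p)) = qrWord (t - 1) :=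
    funext (shift_qrWord t)
  rw [this]
  exact qrWord_mem_golay _

end Cfsg.Agent.S0370
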