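import Cfsg.Statements.S0373
import Mathlib
import Cfsg.Agent.Lib.Helper1_Golay2
set_option autoImplicit false
open Cfsg
namespace Cfsg.Agent.S0373
open Cfsg.Agent.Lib.Helper1_Golay

set_option maxRecDepth 100000 in
theorem cubeTwist_qrWord : ∀ t : ZMod 23, ∀ p : GolayPt,
    enc (fun q => qrWord t (cubeTwistFun q)) p = qrWord t (cubeTwistFun p) := by
  decide +kernel

theorem result : Cfsg.cubeTwist ∈ Cfsg.M24 := by
  apply mem_M24_of_comp
  intro t
  rw [mem_golay_iff_enc]
  exact funext (cubeTwist_qrWord t)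

end Cfsg.Agent.S0373
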