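import Cfsg.Statements.S0555
import Mathlib
set_option autoImplicit false
open Cfsg
namespace Cfsg.Agent.S0555

open scoped commutatorElement

variable {G : Type*} [Group G]

/-- endomorphisms of a cyclic group commute -/
theorem end_comm {N : Type*} [Group N] [IsCyclic N] (f g : N →* N) (x : N) : f (g x) = g (f x) := by
  obtain ⟨r, hr⟩ := MonoidHom.map_cyclic f
  obtain ⟨s, hs⟩ := MonoidHom.map_cyclic g
  rw [hs x, hr (x ^ s), hr x, hs (x ^ r), ← zpow_mul, ← zpow_mul, mul_comm]

/-- the conjugation action of `g` on `B ⧸ C` -/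
noncomputable def α (B C : Subgroup G) [B.Normal] [C.Normal] (g : G) :
    (B ⧸ C.subgroupOf B) →* (B ⧸ C.subgroupOf B) :=
  QuotientGroup.map (C.subgroupOf B) (C.subgroupOf B) (MulAut.conjNormal g : MulAut B).toMonoidHom (by
    intro b hb
    rw [Subgroup.mem_comap, Subgroup.mem_subgroupOf]
    rw [Subgroup.mem_subgroupOf] at hb
    show ((MulAut.conjNormal g b : B) : G) ∈ C
    rw [MulAut.conjNormal_apply]
    exact Subgroup.Normal.conj_mem inferInstance _ hb g)

theorem α_mk (B C : Subgroup G) [B.Normal] [C.Normal] (g : G) (b : B) :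
    α B C g (QuotientGroup.mk b) = QuotientGroup.mk (MulAut.conjNormal g b) := rfl

theorem α_mul (B C : Subgroup G) [B.Normal] [C.Normal] (g h : G) (x : B ⧸ C.subgroupOf B) :
    α B C (g * h) x = α B C g (α B C h x) := by
  obtain ⟨b, rfl⟩ := QuotientGroup.mk_surjective x
  rw [α_mk, α_mk, α_mk, map_mul]
  rfl

theorem α_one (B C : Subgroup G) [B.Normal] [C.Normal] (x : B ⧸ C.subgroupOf B) :
    α B C 1 x = x := by
  obtain ⟨b, rfl⟩ := QuotientGroup.mk_surjective x
  rw [α_mk, map_one]
  rfl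

/-- Step 1: commutators act trivially on the cyclic section `B/C`. -/
theorem step1 (B C : Subgroup G) [B.Normal] [C.Normal] [IsCyclic (B ⧸ C.subgroupOf B)] :
    ∀ a ∈ commutator G, ∀ b ∈ B, a * b * a⁻¹ * b⁻¹ ∈ C := by
  -- the subgroup of elements acting trivially
  let Z : Subgroup G :=
    { carrier := {a | ∀ x, α B C a x = x}
      mul_mem' := by
        intro a a' ha ha' x
        rw [α_mul, ha' x, ha x]
      one_mem' := α_one B C
      inv_mem' := by
        intro a ha x
        have h1 : α B C (a⁻¹ * a) x = x := by rw [inv_mul_cancel]; exact α_one B C x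
        rw [α_mul, ha x] at h1
        exact h1 }
  have hZ : commutator G ≤ Z := by
    rw [commutator_def, Subgroup.commutator_le]
    intro x _ y _ z
    show α B C ⁅x, y⁆ z = z
    rw [commutatorElement_def, α_mul, α_mul, α_mul]
    rw [end_comm (α B C y) (α B C x⁻¹), ← α_mul B C x x⁻¹, mul_inv_cancel, α_one, ← α_mul,
      mul_inv_cancel, α_one]
  intro a ha b hb
  have := hZ ha (QuotientGroup.mk ⟨b, hb⟩)
  rw [α_mk, eq_comm, QuotientGroup.eq, Subgroup.mem_subgroupOf] at this
  have h2 : ((⟨b, hb⟩⁻¹ * (MulAut.conjNormal a) ⟨b, hb⟩ : B) : G) = b⁻¹ * (a * b * a⁻¹) := by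
    rw [Subgroup.coe_mul, MulAut.conjNormal_apply]; rfl
  rw [h2] at this
  -- conjugate by b
  have h3 := Subgroup.Normal.conj_mem (inferInstance : C.Normal) _ this b
  have e : b * (b⁻¹ * (a * b * a⁻¹)) * b⁻¹ = a * b * a⁻¹ * b⁻¹ := by group
  rw [e] at h3
  exact h3

theorem result {G : Type*} [Group G] (i : ℕ) (hi : 1 ≤ i) (h₁ : IsCyclic (↥(derivedSeries G i) ⧸ (derivedSeries G (i + 1)).subgroupOf (derivedSeries G i))) (h₂ : IsCyclic (↥(derivedSeries G (i + 1)) ⧸ (derivedSeries G (i + 2)).subgroupOf (derivedSeries G (i + 1)))) : derivedSeries G (i + 1) = derivedSeries G (i + 2) := by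
  set A := derivedSeries G i with hA
  set B := derivedSeries G (i + 1) with hB
  set C := derivedSeries G (i + 2) with hC
  have hBA : B ≤ A := derivedSeries_antitone G (by omega)
  have hCB : C ≤ B := derivedSeries_antitone G (by omega)
  have hAcomm : A ≤ commutator G := by
    rw [← derivedSeries_one]
    exact derivedSeries_antitone G hi
  have hBn : B.Normal := derivedSeries_normal G _
  have hCn : C.Normal := derivedSeries_normal G _
  have hs1 := step1 B C
  apply le_antisymm _ hCB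
  -- the natural map A/C → A/B
  let f : (A ⧸ C.subgroupOf A) →* (A ⧸ B.subgroupOf A) :=
    QuotientGroup.map (C.subgroupOf A) (B.subgroupOf A) (MonoidHom.id A) (by
      intro a ha
      rw [Subgroup.mem_comap, Subgroup.mem_subgroupOf]
      rw [Subgroup.mem_subgroupOf] at ha
      exact hCB ha)
  have hker : f.ker ≤ Subgroup.center (A ⧸ C.subgroupOf A) := by
    intro x hx
    obtain ⟨a, rfl⟩ := QuotientGroup.mk_surjective x
    rw [MonoidHom.mem_ker] at hx
    have haB : (a : G) ∈ B := by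
      have : f (QuotientGroup.mk a) = QuotientGroup.mk a := rfl
      rw [this, QuotientGroup.eq_one_iff, Subgroup.mem_subgroupOf] at hx
      exact hx
    rw [Subgroup.mem_center_iff]
    intro y
    obtain ⟨a', rfl⟩ := QuotientGroup.mk_surjective y
    rw [← QuotientGroup.mk_mul, ← QuotientGroup.mk_mul, QuotientGroup.eq, Subgroup.mem_subgroupOf]
    -- (a' a)⁻¹ (a a') ∈ C
    have h := hs1 (a'⁻¹ : G) (hAcomm (A.inv_mem a'.2)) (a : G) haB
    have h' := Subgroup.Normal.conj_mem (inferInstance : C.Normal) _ h (a : G)⁻¹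
    have e : ((a' * a)⁻¹ * (a * a') : A) = (a : G)⁻¹ * ((a' : G)⁻¹ * a * (a' : G)⁻¹⁻¹ * (a : G)⁻¹) * (a : G)⁻¹⁻¹ := by
      simp only [Subgroup.coe_mul, Subgroup.coe_inv]
      group
    rw [e]
    exact h'
  have hcomm := fun x y => commutative_of_cyclic_center_quotient f hker x y
  rw [hB, derivedSeries_succ, Subgroup.commutator_le]
  intro a ha a' ha'
  have h := hcomm (QuotientGroup.mk (⟨a', ha'⟩⁻¹ : A)) (QuotientGroup.mk (⟨a, ha⟩⁻¹ : A))
  rw [← QuotientGroup.mk_mul, ← QuotientGroup.mk_mul, QuotientGroup.eq, Subgroup.mem_subgroupOf] at h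
  have e : (((⟨a', ha'⟩⁻¹ * ⟨a, ha⟩⁻¹ : A))⁻¹ * (⟨a, ha⟩⁻¹ * ⟨a', ha'⟩⁻¹) : A) = ⁅a, a'⁆ := by
    simp only [Subgroup.coe_mul, Subgroup.coe_inv, commutatorElement_def]
    group
  rw [e] at h
  exact h

end Cfsg.Agent.S0555
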