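import Mathlib
import Cfsg.Statements.S0154
import Cfsg.Agent.Lib.Helper2_ClassFn
import Cfsg.Agent.Lib.Helper2_CharBasic
import Cfsg.Agent.Lib.Helper2_CharOrtho

set_option autoImplicit false
open Cfsg
open Cfsg.Agent.Lib.Helper2_ClassFn
open Cfsg.Agent.Lib.Helper2_CharBasic
open Cfsg.Agent.Lib.Helper2_CharOrtho

namespace Cfsg.Agent.S0154

/-- A character of degree one is multiplicative. -/
theorem mul_of_degree_one {G : Type*} [Group G] (ρ : Representation ℂ G (Fin 1 → ℂ)) (g h : G) :
    ρ.character (g * h) = ρ.character g * ρ.character h := by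
  rw [← trace_mat, ← trace_mat, ← trace_mat, mat_mul]
  simp [Matrix.trace, Matrix.mul_apply]

/-- The linear character attached to an irreducible character of degree one. -/
theorem exists_hom_of_degree_one {G : Type*} [Group G] (χ : G → ℂ) (hχ : IsIrrCharacter G χ)
    (h1 : χ 1 = 1) : ∃ ω : G →* ℂˣ, χ = fun g => ((ω g : ℂˣ) : ℂ) := by
  obtain ⟨n, ρ, hirr, rfl⟩ := hχ
  have hn : n = 1 := by
    rw [Representation.char_one] at h1
    simp only [Module.finrank_fintype_fun_eq_card, Fintype.card_fin] at h1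
    exact_mod_cast h1
  subst hn
  have hmul := mul_of_degree_one ρ
  have hunit : ∀ g : G, ρ.character g * ρ.character g⁻¹ = 1 := by
    intro g
    rw [← hmul, mul_inv_cancel, h1]
  refine ⟨{ toFun := fun g => ⟨ρ.character g, ρ.character g⁻¹, hunit g, by
              rw [mul_comm]; exact hunit g⟩
            map_one' := Units.ext h1
            map_mul' := fun g h => Units.ext (hmul g h) }, ?_⟩
  rfl

/-- A finite group has exactly as many irreducible complex characters of degree 1 as the index of its commutator subgroup. -/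
theorem result {G : Type*} [Group G] [Finite G] : Nat.card {χ : Cfsg.IrrCharacter G // (χ : G → ℂ) 1 = 1} = (commutator G).index := by
  have e1 : {χ : Cfsg.IrrCharacter G // (χ : G → ℂ) 1 = 1} ≃ (G →* ℂˣ) :=
    Equiv.symm (Equiv.ofBijective
      (fun ω : G →* ℂˣ => (⟨⟨fun g => ((ω g : ℂˣ) : ℂ), isIrrCharacter_of_hom ω⟩, by simp⟩ :
        {χ : Cfsg.IrrCharacter G // (χ : G → ℂ) 1 = 1}))
      ⟨by
        intro ω ω' h
        have h' : (fun g => ((ω g : ℂˣ) : ℂ)) = fun g => ((ω' g : ℂˣ) : ℂ) :=
          congrArg (fun x : {χ : Cfsg.IrrCharacter G // (χ : G → ℂ) 1 = 1} =>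
            ((x.1 : Cfsg.IrrCharacter G) : G → ℂ)) h
        ext g
        exact congrFun h' g,
       by
        rintro ⟨⟨χ, hχ⟩, h1⟩
        obtain ⟨ω, rfl⟩ := exists_hom_of_degree_one χ hχ h1
        exact ⟨ω, rfl⟩⟩)
  have e2 : (G →* ℂˣ) ≃ (Abelianization G →* ℂˣ) := Abelianization.lift
  rw [Nat.card_congr (e1.trans e2)]
  have hexp : NeZero ((Monoid.exponent (Abelianization G) : ℕ) : ℂ) := by
    constructor
    have := Monoid.exponent_ne_zero_of_finite (G := Abelianization G)
    exact_mod_cast this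
  rw [CommGroup.card_monoidHom_of_hasEnoughRootsOfUnity (Abelianization G) ℂ]
  rfl

end Cfsg.Agent.S0154
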