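import Cfsg.Statements.S0160
import Mathlib
import Cfsg.Agent.Lib.Helper2_ClassFn
import Cfsg.Agent.Lib.Helper2_CharBasic
import Cfsg.Agent.Lib.Helper2_CharOrtho
import Cfsg.Agent.Lib.Helper2_CharMore
import Cfsg.Agent.Lib.Helper2_Clifford
import Cfsg.Agent.Lib.Helper2_CharValues
import Cfsg.Agent.Lib.Helper2_CharComplete
import Cfsg.Agent.Lib.Helper2_CharInd
import Cfsg.Agent.Lib.Helper2_CharTable
import Cfsg.Agent.Lib.Helper2_CharSum
import Cfsg.Agent.Lib.Helper2_CharDeg
import Cfsg.Agent.Lib.Helper2_CharFrob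

set_option autoImplicit false
open Cfsg

open Cfsg.Agent.Lib.Helper2_ClassFn Cfsg.Agent.Lib.Helper2_CharBasic Cfsg.Agent.Lib.Helper2_CharOrtho
open Cfsg.Agent.Lib.Helper2_CharMore Cfsg.Agent.Lib.Helper2_Clifford Cfsg.Agent.Lib.Helper2_CharValues
open Cfsg.Agent.Lib.Helper2_CharComplete Cfsg.Agent.Lib.Helper2_CharInd Cfsg.Agent.Lib.Helper2_CharTable
open Cfsg.Agent.Lib.Helper2_CharSum Cfsg.Agent.Lib.Helper2_CharDeg Cfsg.Agent.Lib.Helper2_CharFrob

namespace Cfsg.Agent.S0160

open Classical in
theorem sum_over_classes {G : Type*} [Group G] [Fintype G] (F : ConjClasses G → ℂ) :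
    ∑ g : G, F (ConjClasses.mk g) /
      ((Finset.univ.filter (fun x : G => IsConj x g)).card : ℂ) = ∑ C : ConjClasses G, F C := by
  rw [← Finset.sum_fiberwise (s := Finset.univ) (g := fun g : G => ConjClasses.mk g)]
  refine Finset.sum_congr rfl fun C _ => ?_
  obtain ⟨g₀, rfl⟩ := ConjClasses.mk_surjective C
  have hset : (Finset.univ.filter (fun g : G => ConjClasses.mk g = ConjClasses.mk g₀))
      = (Finset.univ.filter (fun x : G => IsConj x g₀)) := by
    ext x
    simp only [Finset.mem_filter, Finset.mem_univ, true_and]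
    exact ConjClasses.mk_eq_mk_iff_isConj
  have hterm : ∀ g ∈ Finset.univ.filter (fun g : G => ConjClasses.mk g = ConjClasses.mk g₀),
      F (ConjClasses.mk g) / ((Finset.univ.filter (fun x : G => IsConj x g)).card : ℂ)
      = F (ConjClasses.mk g₀) / ((Finset.univ.filter (fun x : G => IsConj x g₀)).card : ℂ) := by
    intro g hg
    have hgc : IsConj g g₀ := ConjClasses.mk_eq_mk_iff_isConj.mp (Finset.mem_filter.mp hg).2
    rw [(Finset.mem_filter.mp hg).2]
    have : (Finset.univ.filter (fun x : G => IsConj x g))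
        = (Finset.univ.filter (fun x : G => IsConj x g₀)) := by
      ext x
      simp only [Finset.mem_filter, Finset.mem_univ, true_and]
      exact ⟨fun h => h.trans hgc, fun h => h.trans hgc.symm⟩
    rw [this]
  rw [Finset.sum_congr rfl hterm, Finset.sum_const, hset, nsmul_eq_mul]
  have hpos : ((Finset.univ.filter (fun x : G => IsConj x g₀)).card : ℂ) ≠ 0 := by
    have : 0 < (Finset.univ.filter (fun x : G => IsConj x g₀)).card :=
      Finset.card_pos.mpr ⟨g₀, Finset.mem_filter.mpr ⟨Finset.mem_univ _, IsConj.refl g₀⟩⟩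
    exact_mod_cast this.ne'
  field_simp

open Classical in
/-- the number of real irreducible characters, as a sum over the group -/
theorem card_real_irr {G : Type*} [Group G] [Fintype G] :
    ((Finset.filter (fun χ : G → ℂ => (fun x => (starRingEnd ℂ) (χ x)) = χ) (irrFinset G)).card : ℂ)
      = ∑ g : G, (if IsConj g g⁻¹ then (1 : ℂ) else 0) /
          ((Finset.univ.filter (fun x : G => IsConj x g)).card : ℂ) := by
  have h1 : ∀ χ ∈ irrFinset G, classInner (fun x => (starRingEnd ℂ) (χ x)) χ
      = if (fun x => (starRingEnd ℂ) (χ x)) = χ then 1 else 0 := by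
    intro χ hχ
    exact classInner_irr (IsIrrCharacter.conj (mem_irrFinset.mp hχ)) (mem_irrFinset.mp hχ)
  have h2 : ((Finset.filter (fun χ : G → ℂ => (fun x => (starRingEnd ℂ) (χ x)) = χ)
      (irrFinset G)).card : ℂ)
      = ∑ χ ∈ irrFinset G, classInner (fun x => (starRingEnd ℂ) (χ x)) χ := by
    rw [Finset.sum_congr rfl h1, Finset.sum_ite, Finset.sum_const_zero, add_zero,
      Finset.sum_const, nsmul_eq_mul, mul_one]
  rw [h2]
  simp only [classInner_def]
  rw [← Finset.mul_sum, Finset.sum_comm, Finset.mul_sum]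
  refine Finset.sum_congr rfl fun g _ => ?_
  have h3 : ∑ χ ∈ irrFinset G, (starRingEnd ℂ) (χ g) * (starRingEnd ℂ) (χ g)
      = (starRingEnd ℂ) (∑ χ ∈ irrFinset G, χ g * (starRingEnd ℂ) (χ g⁻¹)) := by
    rw [map_sum]
    refine Finset.sum_congr rfl fun χ hχ => ?_
    rw [IsCharacter.apply_inv (IsIrrCharacter.isCharacter (mem_irrFinset.mp hχ)) g]
    simp
  rw [h3, second_orthogonality]
  have hG := card_ne_zero_complex (G := G)
  by_cases hc : IsConj g g⁻¹
  · rw [if_pos hc, if_pos hc]
    have : (Finset.univ.filter (fun x : G => IsConj x g⁻¹))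
        = (Finset.univ.filter (fun x : G => IsConj x g)) := by
      ext x
      simp only [Finset.mem_filter, Finset.mem_univ, true_and]
      exact ⟨fun h => h.trans hc.symm, fun h => h.trans hc⟩
    rw [this]
    simp only [map_div₀, map_natCast]
    field_simp
  · rw [if_neg hc, if_neg hc]; simp


/-- A finite group has as many real-valued irreducible complex characters as conjugacy classes closed under taking inverses. -/
theorem result {G : Type*} [Group G] [Finite G] : Nat.card {χ : Cfsg.IrrCharacter G // ∀ g : G, ((χ : G → ℂ) g).im = 0} = Nat.card {C : ConjClasses G // ∀ g : G, ConjClasses.mk g = C → IsConj g g⁻¹} := by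
  classical
  have := Fintype.ofFinite G
  have hR : Nat.card {χ : Cfsg.IrrCharacter G // ∀ g : G, ((χ : G → ℂ) g).im = 0}
      = (Finset.filter (fun χ : G → ℂ => (fun x => (starRingEnd ℂ) (χ x)) = χ)
          (irrFinset G)).card := by
    rw [← Nat.card_eq_finsetCard]
    apply Nat.card_congr
    have hiff : ∀ χ : G → ℂ, (∀ g : G, (χ g).im = 0) ↔ (fun x => (starRingEnd ℂ) (χ x)) = χ := by
      intro χ
      constructor
      · intro h
        ext x
        exact Complex.conj_eq_iff_im.mpr (h x)
      · intro h g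
        exact Complex.conj_eq_iff_im.mp (congrFun h g)
    refine
      { toFun := fun χ => ⟨(χ.1 : G → ℂ), Finset.mem_filter.mpr
          ⟨mem_irrFinset.mpr χ.1.2, (hiff _).mp χ.2⟩⟩
        invFun := fun ψ => ⟨⟨ψ.1, mem_irrFinset.mp (Finset.mem_filter.mp ψ.2).1⟩,
          (hiff _).mpr (Finset.mem_filter.mp ψ.2).2⟩
        left_inv := fun χ => rfl
        right_inv := fun ψ => rfl }
  have hL : Nat.card {C : ConjClasses G // ∀ g : G, ConjClasses.mk g = C → IsConj g g⁻¹}
      = (Finset.univ.filter (fun C : ConjClasses G =>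
          ∀ g : G, ConjClasses.mk g = C → IsConj g g⁻¹)).card := by
    rw [Nat.card_eq_fintype_card, Fintype.card_subtype]
  rw [hR, hL]
  have key := card_real_irr (G := G)
  have e1 : ∑ g : G, (if IsConj g g⁻¹ then (1 : ℂ) else 0) /
      ((Finset.univ.filter (fun x : G => IsConj x g)).card : ℂ)
      = ∑ g : G, (if (∀ g' : G, ConjClasses.mk g' = ConjClasses.mk g → IsConj g' g'⁻¹)
          then (1 : ℂ) else 0) / ((Finset.univ.filter (fun x : G => IsConj x g)).card : ℂ) := by
    refine Finset.sum_congr rfl fun g _ => ?_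
    have : (∀ g' : G, ConjClasses.mk g' = ConjClasses.mk g → IsConj g' g'⁻¹) ↔ IsConj g g⁻¹ := by
      constructor
      · intro h; exact h g rfl
      · intro h g' hg'
        have hc : IsConj g' g := ConjClasses.mk_eq_mk_iff_isConj.mp hg'
        obtain ⟨c, hc'⟩ := isConj_iff.mp hc
        have hinv : IsConj g⁻¹ g'⁻¹ := by
          rw [isConj_iff]
          refine ⟨c⁻¹, ?_⟩
          rw [← hc']; group
        exact hc.trans (h.trans hinv)
    rw [if_congr this rfl rfl]
  rw [e1, sum_over_classes (fun C => if (∀ g' : G, ConjClasses.mk g' = C → IsConj g' g'⁻¹)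
    then (1 : ℂ) else 0), Finset.sum_ite, Finset.sum_const_zero, add_zero, Finset.sum_const,
    nsmul_eq_mul, mul_one] at key
  exact_mod_cast key

end Cfsg.Agent.S0160
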