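import Cfsg.Statements.S0015
import Mathlib

set_option autoImplicit false
open Cfsg

namespace Cfsg.Agent.S0015

open commutatorElement

/-- In a nilpotent group a nontrivial normal subgroup meets the centre nontrivially. -/
theorem normal_inf_center_ne_bot {Q : Type*} [Group Q] [Group.IsNilpotent Q] (A : Subgroup Q)
    [hAn : A.Normal] (hA : A ≠ ⊥) : ∃ a ∈ A, a ∈ Subgroup.center Q ∧ a ≠ 1 := by
  classical
  obtain ⟨n, hn⟩ := Group.IsNilpotent.nilpotent Q
  have hex : ∃ i, A ⊓ Subgroup.upperCentralSeries Q i ≠ ⊥ := ⟨n, by rw [hn, inf_top_eq]; exact hA⟩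
  have hspec := Nat.find_spec hex
  have hmin := fun {m : ℕ} (h : m < Nat.find hex) => Nat.find_min hex h
  cases hi : Nat.find hex with
  | zero =>
    rw [hi, Subgroup.upperCentralSeries_zero, inf_bot_eq] at hspec
    exact absurd rfl hspec
  | succ j =>
    rw [hi] at hspec
    have hj : A ⊓ Subgroup.upperCentralSeries Q j = ⊥ := by
      have := hmin (m := j) (by omega)
      rwa [not_not] at this
    obtain ⟨a, ha1⟩ := (Subgroup.ne_bot_iff_exists_ne_one).mp hspec
    have haA : (a : Q) ∈ A := (Subgroup.mem_inf.mp a.2).1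
    have haZ : (a : Q) ∈ Subgroup.upperCentralSeries Q (j + 1) := (Subgroup.mem_inf.mp a.2).2
    refine ⟨a, haA, ?_, fun h => ha1 (Subtype.ext h)⟩
    rw [Subgroup.mem_center_iff]
    intro y
    have h1 : ⁅(a : Q), y⁆ ∈ Subgroup.upperCentralSeries Q j :=
      Subgroup.mem_upperCentralSeries_succ_iff.mp haZ y
    have h2 : ⁅(a : Q), y⁆ ∈ A := by
      have e : ⁅(a : Q), y⁆ = (a : Q) * (y * (a : Q)⁻¹ * y⁻¹) := by
        simp only [commutatorElement_def]; group
      rw [e]
      exact A.mul_mem haA (hAn.conj_mem _ (A.inv_mem haA) y)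
    have h3 : ⁅(a : Q), y⁆ ∈ A ⊓ Subgroup.upperCentralSeries Q j := Subgroup.mem_inf.mpr ⟨h2, h1⟩
    rw [hj, Subgroup.mem_bot, commutatorElement_def] at h3
    have := congrArg (fun z => z * y * (a : Q)) h3
    simp only [one_mul] at this
    rw [← this]; group


/-- In a finite nilpotent group, an abelian normal subgroup that is maximal among abelian normal subgroups equals its own centralizer. -/
theorem result {G : Type*} [Group G] [Finite G] [Group.IsNilpotent G]
    (N : Subgroup G) [N.Normal] [IsMulCommutative N]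
    (hmax : ∀ M : Subgroup G, M.Normal → IsMulCommutative M → N ≤ M → M = N) :
    Subgroup.centralizer (N : Set G) = N := by
  classical
  have hNC : N ≤ Subgroup.centralizer (N : Set G) := by
    intro a ha
    rw [Subgroup.mem_centralizer_iff]
    intro b hb
    exact congrArg Subtype.val (mul_comm' (⟨b, hb⟩ : N) ⟨a, ha⟩)
  by_contra hne
  have hlt : N < Subgroup.centralizer (N : Set G) := lt_of_le_of_ne hNC (Ne.symm hne)
  have hCn : (Subgroup.centralizer (N : Set G)).Normal := inferInstance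
  have hsurj := QuotientGroup.mk'_surjective N
  have hAn : ((Subgroup.centralizer (N : Set G)).map (QuotientGroup.mk' N)).Normal :=
    hCn.map _ hsurj
  have hAne : (Subgroup.centralizer (N : Set G)).map (QuotientGroup.mk' N) ≠ ⊥ := by
    intro h
    rw [Subgroup.map_eq_bot_iff, QuotientGroup.ker_mk'] at h
    exact absurd (le_antisymm h hNC) hne
  obtain ⟨a, haA, haZ, ha1⟩ := normal_inf_center_ne_bot _ hAne
  obtain ⟨x, hxC, rfl⟩ := haA
  have hxN : x ∉ N := fun h => ha1 ((QuotientGroup.eq_one_iff x).mpr h)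
  have hxn : ∀ n ∈ N, n * x = x * n := fun n hn => Subgroup.mem_centralizer_iff.mp hxC n hn
  have hxkn : ∀ (k : ℤ), ∀ n ∈ N, n * x ^ k = x ^ k * n := by
    intro k n hn
    exact (Commute.zpow_right (hxn n hn) k)
  have hcommgx : ∀ g : G, ⁅g, x⁆ ∈ N := by
    intro g
    rw [← QuotientGroup.eq_one_iff]
    have h1 := Subgroup.mem_center_iff.mp haZ (QuotientGroup.mk' N g)
    have : ((⁅g, x⁆ : G) : G ⧸ N) = ⁅QuotientGroup.mk' N g, QuotientGroup.mk' N x⁆ := by
      simp [commutatorElement_def]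
    rw [this, commutatorElement_def, h1]
    group
  -- M = N ⊔ zpowers x
  have hmem : ∀ y, y ∈ N ⊔ Subgroup.zpowers x ↔ ∃ n ∈ N, ∃ k : ℤ, y = n * x ^ k := by
    intro y
    rw [sup_comm, ← SetLike.mem_coe, Subgroup.mul_normal (Subgroup.zpowers x) N]
    constructor
    · rintro ⟨z, hz, n, hn, rfl⟩
      obtain ⟨k, rfl⟩ := Subgroup.mem_zpowers_iff.mp hz
      exact ⟨n, hn, k, (hxkn k n hn).symm⟩
    · rintro ⟨n, hn, k, rfl⟩
      exact ⟨x ^ k, Subgroup.zpow_mem_zpowers x k, n, hn, (hxkn k n hn).symm⟩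
  have hMc : IsMulCommutative (N ⊔ Subgroup.zpowers x : Subgroup G) := by
    refine ⟨⟨fun a b => Subtype.ext ?_⟩⟩
    obtain ⟨n, hn, k, hak⟩ := (hmem a).mp a.2
    obtain ⟨n', hn', l, hbl⟩ := (hmem b).mp b.2
    show (a : G) * b = b * a
    rw [hak, hbl]
    have h1 : n * n' = n' * n := congrArg Subtype.val (mul_comm' (⟨n, hn⟩ : N) ⟨n', hn'⟩)
    calc n * x ^ k * (n' * x ^ l) = n * (x ^ k * n') * x ^ l := by group
      _ = n * (n' * x ^ k) * x ^ l := by rw [hxkn k n' hn']
      _ = (n * n') * (x ^ k * x ^ l) := by group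
      _ = (n' * n) * (x ^ l * x ^ k) := by rw [h1, ← zpow_add, ← zpow_add, add_comm]
      _ = n' * (n * x ^ l) * x ^ k := by group
      _ = n' * (x ^ l * n) * x ^ k := by rw [hxkn l n hn]
      _ = n' * x ^ l * (n * x ^ k) := by group
  have hMn : (N ⊔ Subgroup.zpowers x : Subgroup G).Normal := by
    constructor
    intro y hy g
    obtain ⟨n, hn, k, rfl⟩ := (hmem y).mp hy
    have h1 : g * x * g⁻¹ ∈ N ⊔ Subgroup.zpowers x := by
      have e : g * x * g⁻¹ = ⁅g, x⁆ * x := by simp only [commutatorElement_def]; group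
      rw [e]
      exact Subgroup.mul_mem _ (Subgroup.mem_sup_left (hcommgx g))
        (Subgroup.mem_sup_right (Subgroup.mem_zpowers x))
    have e2 : g * (n * x ^ k) * g⁻¹ = (g * n * g⁻¹) * (g * x * g⁻¹) ^ k := by
      rw [conj_zpow]; group
    rw [e2]
    exact Subgroup.mul_mem _ (Subgroup.mem_sup_left (‹N.Normal›.conj_mem n hn g))
      (Subgroup.zpow_mem _ h1 k)
  have hMN := hmax _ hMn hMc le_sup_left
  apply hxN
  rw [← hMN]
  exact Subgroup.mem_sup_right (Subgroup.mem_zpowers x)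

end Cfsg.Agent.S0015
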