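import Cfsg.Statements.S0002
import Mathlib

set_option autoImplicit false
open Pointwise
open Cfsg

namespace Cfsg.Agent.S0002

open Subgroup MulAction MulOpposite

theorem card_lt {G : Type*} [Group G] [Finite G] {H K : Subgroup G} (h : H < K) :
    Nat.card H < Nat.card K := by
  have h1 : (H : Set G) ⊂ (K : Set G) := SetLike.coe_ssubset_coe.mpr h
  have h2 := Set.ncard_lt_ncard h1 (Set.toFinite _)
  rw [← Nat.card_coe_set_eq, ← Nat.card_coe_set_eq] at h2
  exact h2

theorem eq_of_le_of_card_eq {G : Type*} [Group G] [Finite G] {H K : Subgroup G} (h : H ≤ K)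
    (hc : Nat.card H = Nat.card K) : H = K := by
  rcases eq_or_lt_of_le h with h1 | h1
  · exact h1
  · have := card_lt h1; omega

/-- the class of a complement, as a transversal -/
noncomputable def cls {G : Type*} [Group G] (A : Subgroup G) [IsMulCommutative A] [A.FiniteIndex]
    (K : Subgroup G) (hK : Subgroup.IsComplement' A K) : A.QuotientDiff :=
  Quotient.mk'' (⟨(K : Set G), hK.symm⟩ : A.LeftTransversal)

/-- each complement is the stabilizer of its own class -/
theorem complement_eq_stabilizer {G : Type*} [Group G] [Finite G] (A : Subgroup G) [A.Normal]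
    [IsMulCommutative A] (hA : (Nat.card A).Coprime A.index) (K : Subgroup G)
    (hK : Subgroup.IsComplement' A K) :
    K = stabilizer G (cls A K hK) := by
  have hst := isComplement'_stabilizer_of_coprime (α := cls A K hK) hA
  apply eq_of_le_of_card_eq
  · intro k hk
    rw [mem_stabilizer_iff]
    show Quotient.mk'' (op k⁻¹ • (⟨(K : Set G), hK.symm⟩ : A.LeftTransversal)) = cls A K hK
    unfold cls
    congr 1
    apply Subtype.ext
    show (op k⁻¹) • (K : Set G) = (K : Set G)
    ext x
    rw [Set.mem_smul_set]
    constructor
    · rintro ⟨y, hy, rfl⟩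
      exact K.mul_mem hy (K.inv_mem hk)
    · intro hx
      refine ⟨x * k, K.mul_mem hx hk, ?_⟩
      simp
  · have h1 := hK.card_mul_card
    have h2 := hst.card_mul_card
    have hpos : 0 < Nat.card A := Nat.card_pos
    exact Nat.eq_of_mul_eq_mul_left hpos (h1.trans h2.symm)

/-- Schur's Theorem, conjugacy part, for an abelian normal subgroup of coprime order and index: any two complements are conjugate by an element of the normal subgroup. -/
theorem result {G : Type*} [Group G] [Finite G] (A : Subgroup G) [A.Normal] [IsMulCommutative A]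
    (hA : (Nat.card A).Coprime A.index)
    (H K : Subgroup G) (hH : Subgroup.IsComplement' A H) (hK : Subgroup.IsComplement' A K) :
    ∃ a ∈ A, MulAut.conj a • H = K := by
  have eH := complement_eq_stabilizer A hA H hH
  have eK := complement_eq_stabilizer A hA K hK
  obtain ⟨a, ha⟩ := exists_smul_eq hA (cls A H hH) (cls A K hK)
  refine ⟨a, a.2, ?_⟩
  have h1 : stabilizer G (cls A K hK) = (stabilizer G (cls A H hH)).map (MulAut.conj (a : G)).toMonoidHom := by
    rw [← stabilizer_smul_eq_stabilizer_map_conj, ← ha]
    rfl
  rw [eK, h1, ← eH]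
  rfl

end Cfsg.Agent.S0002
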