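import Mathlib
import Cfsg.Statements.S1488
import Cfsg.Agent.Lib.Helper2_ClassFn
import Cfsg.Agent.Lib.Lead_SZ

set_option autoImplicit false
open Cfsg
open Cfsg.Agent.Lib.Helper2_ClassFn

namespace Cfsg.Agent.S1488

/-- Summing a function of `f x` over the source of a surjective homomorphism. -/
theorem sum_comp_surjective {G Q : Type*} [Group G] [Fintype G] [Group Q] [Fintype Q]
    (f : G →* Q) (hf : Function.Surjective f) (F : Q → ℂ) :
    ∑ x : G, F (f x) = (Nat.card f.ker : ℂ) * ∑ q : Q, F q := by
  classical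
  rw [← Finset.sum_fiberwise (s := Finset.univ) (g := fun x => f x) (f := fun x => F (f x)),
    Finset.mul_sum]
  refine Finset.sum_congr rfl fun q _ => ?_
  have h1 : ∀ x ∈ Finset.univ.filter (fun x => f x = q), F (f x) = F q := by
    intro x hx
    rw [(Finset.mem_filter.mp hx).2]
  rw [Finset.sum_congr rfl h1, Finset.sum_const, nsmul_eq_mul]
  congr 1
  have h2 := MonoidHom.card_fiber_eq_of_mem_range f (x := q) (y := 1) (hf q) ⟨1, map_one f⟩
  rw [h2]
  have : (Finset.univ.filter (fun g => f g = 1)).card = Nat.card f.ker := by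
    rw [Nat.card_eq_fintype_card, Fintype.card_subtype]
    congr 1
    ext g
    simp [MonoidHom.mem_ker]
  rw [this]

/-- Let A be a normal subgroup of the finite group G contained in the subgroup H, let θ be a function on H and θ₁ a function on the image of H in G ⧸ A whose composite with the projection is θ. Then the function induced from θ₁ to G ⧸ A, composed with the projection G → G ⧸ A, equals the function induced from θ to G. -/
theorem result {G : Type*} [Group G] [Fintype G] (A H : Subgroup G) [A.Normal] (hAH : A ≤ H) [Fintype (G ⧸ A)] [Fintype ↥(H.map (QuotientGroup.mk' A))] (θ : H → ℂ) (θ₁ : ↥(H.map (QuotientGroup.mk' A)) → ℂ) (hθ : ∀ x : H, θ₁ ⟨QuotientGroup.mk' A x, Subgroup.mem_map_of_mem _ x.2⟩ = θ x) (g : G) : Cfsg.indFun (H.map (QuotientGroup.mk' A)) θ₁ (QuotientGroup.mk' A g) = Cfsg.indFun H θ g := by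
  have hext : ∀ z : G, extendByZero H θ z
      = extendByZero (H.map (QuotientGroup.mk' A)) θ₁ (QuotientGroup.mk' A z) := by
    intro z
    by_cases hz : z ∈ H
    · rw [extendByZero_of_mem H θ hz,
        extendByZero_of_mem _ θ₁ (Subgroup.mem_map_of_mem _ hz)]
      exact (hθ ⟨z, hz⟩).symm
    · rw [extendByZero_of_not_mem H θ hz, extendByZero_of_not_mem]
      rintro ⟨h, hh, hhz⟩
      apply hz
      have : h⁻¹ * z ∈ A := by
        rw [← QuotientGroup.eq]
        exact hhz
      have := H.mul_mem hh (hAH this)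
      simpa using this
  rw [indFun_apply, indFun_apply]
  simp only [hext]
  have key := sum_comp_surjective (QuotientGroup.mk' A) (QuotientGroup.mk'_surjective A)
    (fun y => extendByZero (H.map (QuotientGroup.mk' A)) θ₁ (y⁻¹ * QuotientGroup.mk' A g * y))
  have key2 : ∑ x : G, extendByZero (H.map (QuotientGroup.mk' A)) θ₁
      (QuotientGroup.mk' A (x⁻¹ * g * x))
      = (Nat.card A : ℂ) * ∑ y : G ⧸ A, extendByZero (H.map (QuotientGroup.mk' A)) θ₁
        (y⁻¹ * QuotientGroup.mk' A g * y) := by
    have hker : Nat.card (QuotientGroup.mk' A).ker = Nat.card A := by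
      rw [QuotientGroup.ker_mk']
    rw [hker] at key
    rw [← key]
    refine Finset.sum_congr rfl fun x _ => ?_
    simp
  rw [key2]
  have hcard := Cfsg.Agent.Lib.Lead_SZ.card_map_mul A H
  have hinf : H ⊓ A = A := inf_eq_right.mpr hAH
  rw [hinf] at hcard
  have hA0 : (Nat.card A : ℂ) ≠ 0 := card_subgroup_ne_zero A
  have hM0 : (Nat.card (H.map (QuotientGroup.mk' A)) : ℂ) ≠ 0 := by
    have : 0 < Nat.card (H.map (QuotientGroup.mk' A)) := Nat.card_pos
    exact_mod_cast this.ne'
  rw [← hcard]
  push_cast
  field_simp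

end Cfsg.Agent.S1488
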