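import Cfsg.Statements.S0173
import Mathlib
import Cfsg.Agent.Lib.Helper2_ClassFn
import Cfsg.Agent.Lib.Helper2_CharBasic
import Cfsg.Agent.Lib.Helper2_CharOrtho
import Cfsg.Agent.Lib.Helper2_CharMore
import Cfsg.Agent.Lib.Helper2_Clifford
import Cfsg.Agent.Lib.Helper2_CharValues
import Cfsg.Agent.Lib.Helper2_CharComplete
import Cfsg.Agent.Lib.Helper2_CharInd
import Cfsg.Agent.Lib.Helper2_CharTable
import Cfsg.Agent.Lib.Helper2_CharSum
import Cfsg.Agent.Lib.Helper2_CharDeg
import Cfsg.Agent.Lib.Helper2_CharFrob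

set_option autoImplicit false
open Cfsg

open Cfsg.Agent.Lib.Helper2_ClassFn Cfsg.Agent.Lib.Helper2_CharBasic Cfsg.Agent.Lib.Helper2_CharOrtho
open Cfsg.Agent.Lib.Helper2_CharMore Cfsg.Agent.Lib.Helper2_Clifford Cfsg.Agent.Lib.Helper2_CharValues
open Cfsg.Agent.Lib.Helper2_CharComplete Cfsg.Agent.Lib.Helper2_CharInd Cfsg.Agent.Lib.Helper2_CharTable
open Cfsg.Agent.Lib.Helper2_CharSum Cfsg.Agent.Lib.Helper2_CharDeg Cfsg.Agent.Lib.Helper2_CharFrob

namespace Cfsg.Agent.S0173

open Classical in
theorem sum_over_classes {G : Type*} [Group G] [Fintype G] (F : ConjClasses G → ℂ) :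
    ∑ g : G, F (ConjClasses.mk g) /
      ((Finset.univ.filter (fun x : G => IsConj x g)).card : ℂ) = ∑ C : ConjClasses G, F C := by
  rw [← Finset.sum_fiberwise (s := Finset.univ) (g := fun g : G => ConjClasses.mk g)]
  refine Finset.sum_congr rfl fun C _ => ?_
  obtain ⟨g₀, rfl⟩ := ConjClasses.mk_surjective C
  have hset : (Finset.univ.filter (fun g : G => ConjClasses.mk g = ConjClasses.mk g₀))
      = (Finset.univ.filter (fun x : G => IsConj x g₀)) := by
    ext x
    simp only [Finset.mem_filter, Finset.mem_univ, true_and]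
    exact ConjClasses.mk_eq_mk_iff_isConj
  have hterm : ∀ g ∈ Finset.univ.filter (fun g : G => ConjClasses.mk g = ConjClasses.mk g₀),
      F (ConjClasses.mk g) / ((Finset.univ.filter (fun x : G => IsConj x g)).card : ℂ)
      = F (ConjClasses.mk g₀) / ((Finset.univ.filter (fun x : G => IsConj x g₀)).card : ℂ) := by
    intro g hg
    have hgc : IsConj g g₀ := ConjClasses.mk_eq_mk_iff_isConj.mp (Finset.mem_filter.mp hg).2
    rw [(Finset.mem_filter.mp hg).2]
    have : (Finset.univ.filter (fun x : G => IsConj x g))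
        = (Finset.univ.filter (fun x : G => IsConj x g₀)) := by
      ext x
      simp only [Finset.mem_filter, Finset.mem_univ, true_and]
      exact ⟨fun h => h.trans hgc, fun h => h.trans hgc.symm⟩
    rw [this]
  rw [Finset.sum_congr rfl hterm, Finset.sum_const, hset, nsmul_eq_mul]
  have hpos : ((Finset.univ.filter (fun x : G => IsConj x g₀)).card : ℂ) ≠ 0 := by
    have : 0 < (Finset.univ.filter (fun x : G => IsConj x g₀)).card :=
      Finset.card_pos.mpr ⟨g₀, Finset.mem_filter.mpr ⟨Finset.mem_univ _, IsConj.refl g₀⟩⟩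
    exact_mod_cast this.ne'
  field_simp


/-- Brauer's permutation lemma for a single automorphism: the number of conjugacy classes mapped to themselves equals the number of irreducible complex characters χ with χ ∘ α = χ. -/
theorem result {G : Type*} [Group G] [Finite G] (α : G ≃* G) : Nat.card {C : ConjClasses G // ConjClasses.map α.toMonoidHom C = C} = Nat.card {χ : Cfsg.IrrCharacter G // (χ : G → ℂ) ∘ α = (χ : G → ℂ)} := by
  classical
  have := Fintype.ofFinite G
  -- right-hand side
  have hR : Nat.card {χ : Cfsg.IrrCharacter G // (χ : G → ℂ) ∘ α = (χ : G → ℂ)}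
      = (Finset.filter (fun χ : G → ℂ => (fun x => χ (α x)) = χ) (irrFinset G)).card := by
    rw [← Nat.card_eq_finsetCard]
    apply Nat.card_congr
    refine
      { toFun := fun χ => ⟨(χ.1 : G → ℂ), Finset.mem_filter.mpr ⟨mem_irrFinset.mpr χ.1.2, χ.2⟩⟩
        invFun := fun ψ => ⟨⟨ψ.1, mem_irrFinset.mp (Finset.mem_filter.mp ψ.2).1⟩,
          (Finset.mem_filter.mp ψ.2).2⟩
        left_inv := fun χ => rfl
        right_inv := fun ψ => rfl }
  have hL : Nat.card {C : ConjClasses G // ConjClasses.map α.toMonoidHom C = C}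
      = (Finset.univ.filter (fun C : ConjClasses G => ConjClasses.map α.toMonoidHom C = C)).card := by
    rw [Nat.card_eq_fintype_card, Fintype.card_subtype]
  rw [hR, hL]
  have key := card_fixed_irr α
  have hG := card_ne_zero_complex (G := G)
  have e1 : (Nat.card G : ℂ)⁻¹ * ∑ g : G, (if IsConj (α g) g then (Nat.card G : ℂ) /
      ((Finset.univ.filter (fun x : G => IsConj x g)).card : ℂ) else 0)
      = ∑ g : G, (if ConjClasses.map α.toMonoidHom (ConjClasses.mk g) = ConjClasses.mk g
          then (1 : ℂ) else 0) / ((Finset.univ.filter (fun x : G => IsConj x g)).card : ℂ) := by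
    rw [Finset.mul_sum]
    refine Finset.sum_congr rfl fun g _ => ?_
    have : ConjClasses.map α.toMonoidHom (ConjClasses.mk g) = ConjClasses.mk g ↔ IsConj (α g) g := by
      change ConjClasses.mk (α g) = ConjClasses.mk g ↔ _
      exact ConjClasses.mk_eq_mk_iff_isConj
    by_cases hc : IsConj (α g) g
    · rw [if_pos hc, if_pos (this.mpr hc)]
      field_simp
    · rw [if_neg hc, if_neg (fun h => hc (this.mp h))]
      simp
  rw [e1, sum_over_classes (fun C => if ConjClasses.map α.toMonoidHom C = C then (1 : ℂ) else 0),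
    Finset.sum_ite, Finset.sum_const_zero, add_zero, Finset.sum_const, nsmul_eq_mul, mul_one] at key
  exact_mod_cast key.symm

end Cfsg.Agent.S0173
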