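import Cfsg.Statements.S0867
import Cfsg.Agent.Lib.Helper2_ClassFn
import Cfsg.Agent.Lib.Helper2_CharBasic
import Cfsg.Agent.Lib.Helper2_CharOrtho
import Cfsg.Agent.Lib.Helper2_Clifford
import Cfsg.Agent.Lib.Helper2_CharMore
import Cfsg.Agent.Lib.Helper2_CharNorm
import Cfsg.Agent.Lib.Helper2_CharValues
import Cfsg.Agent.Lib.Helper2_CharComplete
import Cfsg.Agent.Lib.Helper2_CharInd
import Cfsg.Agent.Lib.Helper2_CharTable
import Cfsg.Agent.Lib.Helper2_CharFrob
import Cfsg.Agent.Lib.Helper2_CharDeg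
import Cfsg.Agent.Lib.Helper2_CharSum
import Cfsg.Agent.Lib.Helper2_CharExtra
import Cfsg.Agent.Lib.Helper2_CharCentral
import Cfsg.Agent.Lib.Helper2_PermChar
import Cfsg.Agent.Lib.Helper2_FrobSchur
import Cfsg.Agent.Lib.Helper2_CliffordCorr
import Cfsg.Agent.Lib.Helper2_CharKernel
import Cfsg.Agent.Lib.Helper2_CyclicTI
import Cfsg.Agent.Lib.Helper2_CharGalois
import Cfsg.Agent.Lib.Helper2_CharInt
import Cfsg.Agent.Lib.Helper2_CharBurnside
import Cfsg.Agent.Lib.Helper2_CharCenter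
import Cfsg.Agent.Lib.Helper2_Ito
import Cfsg.Agent.Lib.Helper2_Gallagher
import Cfsg.Agent.Lib.Helper2_Artin
import Cfsg.Agent.Lib.Helper2_MGroup
import Cfsg.Agent.Lib.Helper2_RepEquiv
import Cfsg.Agent.Lib.Helper2_CyclicExt
import Cfsg.Agent.Lib.Helper2_Extraspecial
import Cfsg.Agent.Lib.Helper2_ProjLift
import Cfsg.Agent.Lib.Helper2_CentralExt
import Cfsg.Agent.Lib.Helper2_SylowExt
import Cfsg.Agent.Lib.Helper2_DetChar
import Cfsg.Agent.Lib.Helper2_LinExt
import Cfsg.Agent.Lib.Helper2_DetExt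
import Cfsg.Agent.Lib.Helper2_GallagherExt

set_option autoImplicit false
open Cfsg

namespace Cfsg.Agent.S0867

open Cfsg.Agent.Lib.Helper2_ClassFn Cfsg.Agent.Lib.Helper2_CharBasic Cfsg.Agent.Lib.Helper2_CharOrtho Cfsg.Agent.Lib.Helper2_Clifford Cfsg.Agent.Lib.Helper2_CharMore Cfsg.Agent.Lib.Helper2_CharNorm Cfsg.Agent.Lib.Helper2_CharValues Cfsg.Agent.Lib.Helper2_CharComplete Cfsg.Agent.Lib.Helper2_CharInd Cfsg.Agent.Lib.Helper2_CharTable Cfsg.Agent.Lib.Helper2_CharFrob Cfsg.Agent.Lib.Helper2_CharDeg Cfsg.Agent.Lib.Helper2_CharSum Cfsg.Agent.Lib.Helper2_CharExtra Cfsg.Agent.Lib.Helper2_CharCentral Cfsg.Agent.Lib.Helper2_PermChar Cfsg.Agent.Lib.Helper2_FrobSchur Cfsg.Agent.Lib.Helper2_CliffordCorr Cfsg.Agent.Lib.Helper2_CharKernel Cfsg.Agent.Lib.Helper2_CyclicTI Cfsg.Agent.Lib.Helper2_CharGalois Cfsg.Agent.Lib.Helper2_CharInt Cfsg.Agent.Lib.Helper2_CharBurnside Cfsg.Agent.Lib.Helper2_CharCenter Cfsg.Agent.Lib.Helper2_Ito Cfsg.Agent.Lib.Helper2_Gallagher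 Cfsg.Agent.Lib.Helper2_Artin Cfsg.Agent.Lib.Helper2_MGroup Cfsg.Agent.Lib.Helper2_RepEquiv Cfsg.Agent.Lib.Helper2_CyclicExt Cfsg.Agent.Lib.Helper2_Extraspecial Cfsg.Agent.Lib.Helper2_ProjLift Cfsg.Agent.Lib.Helper2_CentralExt Cfsg.Agent.Lib.Helper2_SylowExt Cfsg.Agent.Lib.Helper2_DetChar Cfsg.Agent.Lib.Helper2_LinExt Cfsg.Agent.Lib.Helper2_DetExt Cfsg.Agent.Lib.Helper2_GallagherExt
open scoped Pointwise


/-- Let N be a normal subgroup of the finite group G and ϑ an irreducible character of N of degree d, invariant under conjugation by G, such that the index of N is coprime to the product of d and the determinantal order of ϑ. Then there is an irreducible character χ of G restricting to ϑ whose determinantal order equals that of ϑ, and χ is the only irreducible character of G restricting to ϑ whose determinantal order is coprime to the index of N. -/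
theorem result {G : Type*} [Group G] [Finite G] (N : Subgroup G) [hN : N.Normal] (ϑ : N → ℂ) (hϑ : Cfsg.IsIrrCharacter N ϑ) (hinv : ∀ (g : G) (n : N), ϑ ⟨g * n * g⁻¹, hN.conj_mem (n : G) n.2 g⟩ = ϑ n) (d : ℕ) (hd : ϑ 1 = d) (hcop : Nat.Coprime N.index (Cfsg.detOrder ϑ * d)) : ∃ χ : G → ℂ, (Cfsg.IsIrrCharacter G χ ∧ (∀ n : N, χ n = ϑ n) ∧ Cfsg.detOrder χ = Cfsg.detOrder ϑ) ∧ ∀ χ' : G → ℂ, Cfsg.IsIrrCharacter G χ' → (∀ n : N, χ' n = ϑ n) → Nat.Coprime N.index (Cfsg.detOrder χ') → χ' = χ := by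
  classical
  haveI := Fintype.ofFinite G
  have hϑc := IsIrrCharacter.isCharacter hϑ
  obtain ⟨lam, hlam⟩ := exists_detHom hϑc
  have hordϑ : detOrder ϑ = orderOf lam := by unfold detOrder; rw [hlam, orderOf_coe]
  have hcop1 : Nat.Coprime N.index (orderOf lam) := by
    rw [← hordϑ]; exact Nat.Coprime.coprime_mul_right_right hcop
  have hcop2 : Nat.Coprime N.index d := Nat.Coprime.coprime_mul_left_right hcop
  have hlaminv : ∀ (g : G) (n : N), lam ⟨g * n * g⁻¹, hN.conj_mem (n : G) n.2 g⟩ = lam n := by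
    intro g n
    have h1 := detChar_comp hϑc ((MulAut.conjNormal g : N ≃* N).toMonoidHom)
    have h2 : (fun h : N => ϑ ((MulAut.conjNormal g : N ≃* N).toMonoidHom h)) = ϑ := by
      ext n'; exact hinv g n'
    rw [h2, hlam] at h1
    have h3 := congrFun h1 n
    simp only [MulEquiv.coe_toMonoidHom] at h3
    apply Units.ext
    rw [h3]
    rfl
  obtain ⟨μ, hμres, hμord⟩ := exists_linear_extension N lam hlaminv hcop1
  have hμN : ∀ n : N, ((μ n : ℂˣ) : ℂ) = detChar ϑ n := by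
    intro n; rw [hlam, hμres]
  obtain ⟨η, hη, hηres⟩ := exists_ext_of_det_ext N ϑ hϑ hinv d hd hcop2 μ hμN
  obtain ⟨χ, ⟨hχ, hχres, hχdet⟩, hχuniq⟩ :=
    exists_unique_ext_with_det N ϑ hϑ d hd hcop2 η hη hηres μ hμN
  refine ⟨χ, ⟨hχ, hχres, ?_⟩, ?_⟩
  · unfold detOrder; rw [hχdet, orderOf_coe, hμord, hlam, orderOf_coe]
  · intro χ' hχ' hχ'res hcop'
    apply hχuniq χ' hχ' hχ'res
    obtain ⟨δ, hδ⟩ := exists_detHom (IsIrrCharacter.isCharacter hχ')
    rw [hδ]
    have hδμ : δ = μ := by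
      apply linear_extension_unique N δ μ
      · intro n
        have h1 := detChar_comp (IsIrrCharacter.isCharacter hχ') N.subtype
        have h2 : (fun n : N => χ' (N.subtype n)) = ϑ := funext hχ'res
        rw [h2, hlam, hδ] at h1
        have h3 := congrFun h1 n
        simp only [Subgroup.coe_subtype] at h3
        rw [hμres]; exact (Units.ext h3).symm
      · have h4 : detOrder χ' = orderOf δ := by unfold detOrder; rw [hδ, orderOf_coe]
        rw [← h4]; exact hcop'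
      · rw [hμord]; exact hcop1
    rw [hδμ]

end Cfsg.Agent.S0867
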