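import Cfsg.Statements.S0133
import Mathlib
import Cfsg.Agent.Lib.Helper2_ClassFn
import Cfsg.Agent.Lib.Helper2_CharBasic
import Cfsg.Agent.Lib.Helper2_CharOrtho
import Cfsg.Agent.Lib.Helper2_CharMore
import Cfsg.Agent.Lib.Helper2_Clifford
import Cfsg.Agent.Lib.Helper2_CharValues
import Cfsg.Agent.Lib.Helper2_CharComplete
import Cfsg.Agent.Lib.Helper2_CharInd
import Cfsg.Agent.Lib.Helper2_CharTable
import Cfsg.Agent.Lib.Helper2_CharSum
import Cfsg.Agent.Lib.Helper2_CharDeg
import Cfsg.Agent.Lib.Helper2_CharFrob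
import Cfsg.Agent.S0173

set_option autoImplicit false
open Cfsg

open Cfsg.Agent.Lib.Helper2_ClassFn Cfsg.Agent.Lib.Helper2_CharBasic Cfsg.Agent.Lib.Helper2_CharOrtho
open Cfsg.Agent.Lib.Helper2_CharMore Cfsg.Agent.Lib.Helper2_Clifford Cfsg.Agent.Lib.Helper2_CharValues
open Cfsg.Agent.Lib.Helper2_CharComplete Cfsg.Agent.Lib.Helper2_CharInd Cfsg.Agent.Lib.Helper2_CharTable
open Cfsg.Agent.Lib.Helper2_CharSum Cfsg.Agent.Lib.Helper2_CharDeg Cfsg.Agent.Lib.Helper2_CharFrob

namespace Cfsg.Agent.S0133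

/-- The number of irreducible complex characters of a finite group equals the number of its conjugacy classes. -/
theorem result {G : Type*} [Group G] [Finite G] : Nat.card (Cfsg.IrrCharacter G) = Nat.card (ConjClasses G) := by
  have h := Cfsg.Agent.S0173.result (G := G) (MulEquiv.refl G)
  have e1 : Nat.card {C : ConjClasses G // ConjClasses.map (MulEquiv.refl G).toMonoidHom C = C}
      = Nat.card (ConjClasses G) := by
    apply Nat.card_congr
    refine Equiv.subtypeUnivEquiv ?_
    intro C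
    obtain ⟨g, rfl⟩ := ConjClasses.mk_surjective C
    rfl
  have e2 : Nat.card {χ : Cfsg.IrrCharacter G // (χ : G → ℂ) ∘ (MulEquiv.refl G) = (χ : G → ℂ)}
      = Nat.card (Cfsg.IrrCharacter G) := by
    apply Nat.card_congr
    refine Equiv.subtypeUnivEquiv ?_
    intro χ
    rfl
  rw [← e1, ← e2, h]

end Cfsg.Agent.S0133
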