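import Cfsg.Statements.S0857
import Cfsg.Agent.Lib.Helper2_ClassFn
import Cfsg.Agent.Lib.Helper2_CharBasic
import Cfsg.Agent.Lib.Helper2_CharOrtho
import Cfsg.Agent.Lib.Helper2_Clifford
import Cfsg.Agent.Lib.Helper2_CharMore
import Cfsg.Agent.Lib.Helper2_CharNorm
import Cfsg.Agent.Lib.Helper2_CharValues
import Cfsg.Agent.Lib.Helper2_CharComplete
import Cfsg.Agent.Lib.Helper2_CharInd
import Cfsg.Agent.Lib.Helper2_CharTable
import Cfsg.Agent.Lib.Helper2_CharFrob
import Cfsg.Agent.Lib.Helper2_CharDeg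
import Cfsg.Agent.Lib.Helper2_CharSum
import Cfsg.Agent.Lib.Helper2_CharExtra
import Cfsg.Agent.Lib.Helper2_CharCentral
import Cfsg.Agent.Lib.Helper2_PermChar
import Cfsg.Agent.Lib.Helper2_FrobSchur
import Cfsg.Agent.Lib.Helper2_CliffordCorr
import Cfsg.Agent.Lib.Helper2_CharKernel
import Cfsg.Agent.Lib.Helper2_CyclicTI
import Cfsg.Agent.Lib.Helper2_CharGalois
import Cfsg.Agent.Lib.Helper2_CharInt
import Cfsg.Agent.Lib.Helper2_CharBurnside
import Cfsg.Agent.Lib.Helper2_CharCenter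
import Cfsg.Agent.Lib.Helper2_Ito
import Cfsg.Agent.Lib.Helper2_Gallagher
import Cfsg.Agent.Lib.Helper2_Artin
import Cfsg.Agent.Lib.Helper2_MGroup
import Cfsg.Agent.Lib.Helper2_RepEquiv
import Cfsg.Agent.Lib.Helper2_CyclicExt
import Cfsg.Agent.Lib.Helper2_Extraspecial
import Cfsg.Agent.Lib.Helper2_ProjLift
import Cfsg.Agent.Lib.Helper2_CentralExt
import Cfsg.Agent.Lib.Helper2_SylowExt
import Cfsg.Agent.Lib.Helper2_DetChar
import Cfsg.Agent.Lib.Helper2_LinExt
import Cfsg.Agent.Lib.Helper2_DetExt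
import Cfsg.Agent.Lib.Helper2_GallagherExt
import Cfsg.Agent.Lib.Helper2_PermInd
import Cfsg.Agent.Lib.Helper2_QuasiElem
import Cfsg.Agent.Lib.Helper2_BrauerInd
import Cfsg.Agent.Lib.Helper2_BrauerThm
import Cfsg.Agent.Lib.Helper2_NilDecomp
import Cfsg.Agent.Lib.Helper2_DefectZero
import Cfsg.Agent.Lib.Helper2_CharGalois2
import Cfsg.Agent.Lib.Helper2_CosetAvg
import Cfsg.Agent.Lib.Helper2_Thompson
import Cfsg.Agent.Lib.Helper2_ItoSolv
import Cfsg.Agent.Lib.Helper2_ItoPSolv
import Cfsg.Agent.Lib.Helper2_GaloisConj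
import Cfsg.Agent.Lib.Helper2_AbelInertia
import Cfsg.Agent.Lib.Helper2_Gagola
import Cfsg.Agent.Lib.Helper2_GoingDown

set_option autoImplicit false
open Cfsg

namespace Cfsg.Agent.S0857

open Cfsg.Agent.Lib.Helper2_ClassFn Cfsg.Agent.Lib.Helper2_CharBasic Cfsg.Agent.Lib.Helper2_CharOrtho Cfsg.Agent.Lib.Helper2_Clifford Cfsg.Agent.Lib.Helper2_CharMore Cfsg.Agent.Lib.Helper2_CharNorm Cfsg.Agent.Lib.Helper2_CharValues Cfsg.Agent.Lib.Helper2_CharComplete Cfsg.Agent.Lib.Helper2_CharInd Cfsg.Agent.Lib.Helper2_CharTable Cfsg.Agent.Lib.Helper2_CharFrob Cfsg.Agent.Lib.Helper2_CharDeg Cfsg.Agent.Lib.Helper2_CharSum Cfsg.Agent.Lib.Helper2_CharExtra Cfsg.Agent.Lib.Helper2_CharCentral Cfsg.Agent.Lib.Helper2_PermChar Cfsg.Agent.Lib.Helper2_FrobSchur Cfsg.Agent.Lib.Helper2_CliffordCorr Cfsg.Agent.Lib.Helper2_CharKernel Cfsg.Agent.Lib.Helper2_CyclicTI Cfsg.Agent.Lib.Helper2_CharGalois Cfsg.Agent.Lib.Helper2_CharInt Cfsg.Agent.Lib.Helper2_CharBurnside Cfsg.Agent.Lib.Helper2_CharCenter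 Cfsg.Agent.Lib.Helper2_Ito Cfsg.Agent.Lib.Helper2_Gallagher Cfsg.Agent.Lib.Helper2_Artin Cfsg.Agent.Lib.Helper2_MGroup Cfsg.Agent.Lib.Helper2_RepEquiv Cfsg.Agent.Lib.Helper2_CyclicExt Cfsg.Agent.Lib.Helper2_Extraspecial Cfsg.Agent.Lib.Helper2_ProjLift Cfsg.Agent.Lib.Helper2_CentralExt Cfsg.Agent.Lib.Helper2_SylowExt Cfsg.Agent.Lib.Helper2_DetChar Cfsg.Agent.Lib.Helper2_LinExt Cfsg.Agent.Lib.Helper2_DetExt Cfsg.Agent.Lib.Helper2_GallagherExt Cfsg.Agent.Lib.Helper2_PermInd Cfsg.Agent.Lib.Helper2_QuasiElem Cfsg.Agent.Lib.Helper2_BrauerInd Cfsg.Agent.Lib.Helper2_BrauerThm Cfsg.Agent.Lib.Helper2_NilDecomp Cfsg.Agent.Lib.Helper2_DefectZero Cfsg.Agent.Lib.Helper2_CharGalois2 Cfsg.Agent.Lib.Helper2_CosetAvg Cfsg.Agent.Lib.Helper2_Thompson Cfsg.Agent.Lib.Helper2_ItoSolv Cfsg.Agent.Lib.Helper2_ItoPSolv Cfsg.Agent.Lib.Helper2_GaloisConj Cfsg.Agent.Lib.Helper2_AbelInertia Cfsg.Agent.Lib.Helper2_Gagola Cfsg.Agent.Lib.Helper2_GoingDown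
open scoped Pointwise


/-- Let L < K be normal subgroups of the finite group G with no normal subgroup of G strictly between them and with K / L abelian (the commutator subgroup of K lies in L). Let ϑ be an irreducible character of K invariant under conjugation by G. Then the restriction of ϑ to L is irreducible; or it equals e times an irreducible character of L with e ^ 2 equal to the index of L in K; or it is the sum of a family of pairwise distinct irreducible characters of L indexed by a set whose size is the index of L in K. -/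
theorem result {G : Type*} [Group G] [Fintype G] (K L : Subgroup G) [hK : K.Normal] [L.Normal] (hLK : L < K) (hchief : ∀ M : Subgroup G, M.Normal → L ≤ M → M ≤ K → M = L ∨ M = K) (hab : ⁅K, K⁆ ≤ L) (ϑ : K → ℂ) (hϑ : Cfsg.IsIrrCharacter K ϑ) (hinv : ∀ (g : G) (n : K), ϑ ⟨g * n * g⁻¹, hK.conj_mem (n : G) n.2 g⟩ = ϑ n) : Cfsg.IsIrrCharacter L (fun x : L => ϑ ⟨(x : G), hLK.le x.2⟩) ∨ (∃ (φ : L → ℂ) (e : ℕ), Cfsg.IsIrrCharacter L φ ∧ (fun x : L => ϑ ⟨(x : G), hLK.le x.2⟩) = (e : ℂ) • φ ∧ e ^ 2 = L.relIndex K) ∨ (∃ F : Finset (L → ℂ), (∀ φ ∈ F, Cfsg.IsIrrCharacter L φ) ∧ F.card = L.relIndex K ∧ (fun x : L => ϑ ⟨(x : G), hLK.le x.2⟩) = ∑ φ ∈ F, φ) := by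
  classical
  haveI : Fintype K := Fintype.ofFinite _
  haveI : Fintype L := Fintype.ofFinite _
  haveI : Fintype (L.subgroupOf K) := Fintype.ofFinite _
  have hLKle : L ≤ K := hLK.le
  let e : L.subgroupOf K ≃* L := Subgroup.subgroupOfEquivOfLe hLKle
  have he_coe : ∀ n : L.subgroupOf K, ((e n : L) : G) = ((n : K) : G) := fun n => rfl
  have hesymm_coe : ∀ x : L, (((e.symm x : L.subgroupOf K) : K) : G) = (x : G) := by
    intro x
    have := he_coe (e.symm x)
    rw [MulEquiv.apply_symm_apply] at this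
    exact this.symm
  have hϑc := IsIrrCharacter.isCharacter hϑ
  -- conjugation automorphisms
  have hα : ∀ (g : G) (k : K), ((MulAut.conjNormal g k : K) : G) = g * k * g⁻¹ :=
    fun g k => MulAut.conjNormal_apply g k
  have hϑα : ∀ (g : G) (k : K), ϑ (MulAut.conjNormal g k) = ϑ k := by
    intro g k
    rw [← hinv g k]
    congr 1
  have hNα : ∀ (g : G) (k : K), k ∈ L.subgroupOf K → MulAut.conjNormal g k ∈ L.subgroupOf K := by
    intro g k hk
    rw [Subgroup.mem_subgroupOf] at hk ⊢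
    rw [hα]
    exact ‹L.Normal›.conj_mem _ hk g
  have habX : ∀ x y : K, x * y * x⁻¹ * y⁻¹ ∈ L.subgroupOf K := by
    intro x y
    rw [Subgroup.mem_subgroupOf]
    apply hab
    have := Subgroup.commutator_mem_commutator x.2 y.2
    rw [commutatorElement_def] at this
    simpa using this
  -- stable subgroups
  have hstab : ∀ M₁ : Subgroup K, L.subgroupOf K ≤ M₁ →
      (∀ (g : G) (m : K), m ∈ M₁ → MulAut.conjNormal g m ∈ M₁) →
      M₁ = L.subgroupOf K ∨ M₁ = ⊤ := by
    intro M₁ hNM hst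
    have hMn : (M₁.map K.subtype).Normal := by
      constructor
      intro x hx g
      obtain ⟨m, hm, rfl⟩ := Subgroup.mem_map.mp hx
      refine Subgroup.mem_map.mpr ⟨MulAut.conjNormal g m, hst g m hm, ?_⟩
      exact hα g m
    have hLM : L ≤ M₁.map K.subtype := by
      intro l hl
      refine Subgroup.mem_map.mpr ⟨⟨l, hLKle hl⟩, hNM (Subgroup.mem_subgroupOf.mpr hl), rfl⟩
    have hMK : M₁.map K.subtype ≤ K := by
      intro x hx
      obtain ⟨m, -, rfl⟩ := Subgroup.mem_map.mp hx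
      exact m.2
    rcases hchief _ hMn hLM hMK with h | h
    · left
      apply le_antisymm _ hNM
      intro m hm
      rw [Subgroup.mem_subgroupOf, ← h]
      exact Subgroup.mem_map.mpr ⟨m, hm, rfl⟩
    · right
      rw [eq_top_iff]
      intro k _
      have : (k : G) ∈ M₁.map K.subtype := by rw [h]; exact k.2
      obtain ⟨m, hm, hmk⟩ := Subgroup.mem_map.mp this
      have : m = k := Subtype.ext hmk
      rw [← this]; exact hm
  -- first hypothesis
  have H1 : L.subgroupOf K ⊔ Subgroup.closure {x : K | ϑ x ≠ 0} = L.subgroupOf K ∨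
      L.subgroupOf K ⊔ Subgroup.closure {x : K | ϑ x ≠ 0} = ⊤ := by
    apply hstab _ le_sup_left
    intro g
    change L.subgroupOf K ⊔ Subgroup.closure {x : K | ϑ x ≠ 0} ≤
      (L.subgroupOf K ⊔ Subgroup.closure {x : K | ϑ x ≠ 0}).comap
        (MulAut.conjNormal g : MulAut K).toMonoidHom
    apply sup_le
    · intro n hn
      rw [Subgroup.mem_comap]
      exact le_sup_left (a := L.subgroupOf K) (hNα g n hn)
    · rw [Subgroup.closure_le]
      intro x hx
      rw [SetLike.mem_coe, Subgroup.mem_comap]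
      apply le_sup_right (a := L.subgroupOf K)
      apply Subgroup.subset_closure
      change ϑ (MulAut.conjNormal g x) ≠ 0
      rw [hϑα]; exact hx
  -- second hypothesis
  have H2 : ∀ φ : L.subgroupOf K → ℂ, IsIrrCharacter (L.subgroupOf K) φ →
      classInner (fun n : L.subgroupOf K => ϑ n) φ ≠ 0 →
      inertia (L.subgroupOf K) φ = L.subgroupOf K ∨ inertia (L.subgroupOf K) φ = ⊤ := by
    intro φ hφ hconst
    have hφcf := IsCharacter.isClassFunction (IsIrrCharacter.isCharacter hφ)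
    apply hstab _ (le_inertia _ hφcf)
    intro g t ht
    -- the automorphism of N induced by g
    let a : L.subgroupOf K ≃* L.subgroupOf K :=
      e.trans ((MulAut.conjNormal g : MulAut L).trans e.symm)
    have ha_coe : ∀ n : L.subgroupOf K, ((a n : K) : G) = g * ((n : K) : G) * g⁻¹ := by
      intro n
      change (((e.symm ((MulAut.conjNormal g : MulAut L) (e n)) : L.subgroupOf K) : K) : G) = _
      rw [hesymm_coe, MulAut.conjNormal_apply, he_coe]
    have ha_eq : ∀ n : L.subgroupOf K, (a n : K) = MulAut.conjNormal g (n : K) := by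
      intro n
      apply Subtype.ext
      rw [ha_coe, hα]
    have hφa : IsIrrCharacter (L.subgroupOf K) (fun n => φ (a n)) :=
      IsIrrCharacter.comp_mulEquiv hφ a
    have hconst' : classInner (fun n : L.subgroupOf K => ϑ n) (fun n => φ (a n)) ≠ 0 := by
      have h1 : (fun n : L.subgroupOf K => ϑ n) = fun n => (fun m : L.subgroupOf K => ϑ m) (a n) := by
        ext n
        change ϑ n = ϑ (a n : K)
        rw [ha_eq, hϑα]
      rw [h1]
      have := classInner_comp_equiv a (fun m : L.subgroupOf K => ϑ m) φ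
      rw [this]
      exact hconst
    obtain ⟨k, hk⟩ := clifford_conj_of_constituent (L.subgroupOf K) hϑ hφ hφa hconst hconst'
    rw [mem_inertia] at ht ⊢
    intro h
    obtain ⟨m, rfl⟩ := a.surjective h
    -- t'' = k t k⁻¹ lies in the inertia group
    have ht'' : k * t * k⁻¹ ∈ inertia (L.subgroupOf K) φ := by
      have h1 : k * t * k⁻¹ = (k * t * k⁻¹ * t⁻¹) * t := by group
      rw [h1]
      exact Subgroup.mul_mem _ (le_inertia _ hφcf (habX k t)) ((mem_inertia _ φ t).mpr ht)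
    have hnorm := (inferInstance : (L.subgroupOf K).Normal)
    have e1 : (⟨MulAut.conjNormal g t * (a m : K) * (MulAut.conjNormal g t)⁻¹,
        hnorm.conj_mem _ (a m).2 _⟩ : L.subgroupOf K)
        = a ⟨t * (m : K) * t⁻¹, hnorm.conj_mem _ m.2 t⟩ := by
      apply Subtype.ext
      apply Subtype.ext
      rw [ha_coe]
      simp only [Subgroup.coe_mul, Subgroup.coe_inv, hα, ha_coe]
      group
    rw [e1]
    have e2 := congrFun hk ⟨t * (m : K) * t⁻¹, hnorm.conj_mem _ m.2 t⟩
    have e3 := congrFun hk m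
    simp only [conjFn_apply] at e2 e3
    rw [e2, e3]
    have e4 := (mem_inertia _ φ _).mp ht'' ⟨k * (m : K) * k⁻¹, hnorm.conj_mem _ m.2 k⟩
    rw [← e4]
    congr 1
    apply Subtype.ext
    simp only
    group
  have hmain := going_down_aux (L.subgroupOf K) habX hϑ H1 H2
  -- transport to L
  have hres : (fun x : L => ϑ ⟨(x : G), hLK.le x.2⟩)
      = fun x : L => (fun n : L.subgroupOf K => ϑ n) (e.symm x) := by
    ext x
    change ϑ ⟨(x : G), _⟩ = ϑ ((e.symm x : L.subgroupOf K) : K)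
    congr 1
  rcases hmain with h | ⟨φ, n, hφ, hφres, hn⟩ | ⟨F, hF, hFcard, hFsum⟩
  · left
    rw [hres]
    exact IsIrrCharacter.comp_mulEquiv h e.symm
  · right; left
    refine ⟨fun x => φ (e.symm x), n, IsIrrCharacter.comp_mulEquiv hφ e.symm, ?_, hn⟩
    rw [hres, hφres]
    rfl
  · right; right
    have hinj : Function.Injective (fun (f : L.subgroupOf K → ℂ) (x : L) => f (e.symm x)) := by
      intro f₁ f₂ h
      ext n
      have := congrFun h (e n)
      simpa using this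
    refine ⟨F.image (fun (f : L.subgroupOf K → ℂ) (x : L) => f (e.symm x)), ?_, ?_, ?_⟩
    · intro φ hφ
      obtain ⟨f, hf, rfl⟩ := Finset.mem_image.mp hφ
      exact IsIrrCharacter.comp_mulEquiv (hF f hf) e.symm
    · rw [Finset.card_image_of_injective _ hinj, hFcard]
      rfl
    · rw [hres, hFsum, Finset.sum_image (fun _ _ _ _ h => hinj h)]
      ext x
      simp only [Finset.sum_apply]

end Cfsg.Agent.S0857
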