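import Cfsg.Statements.S4567
import Cfsg.Agent.Lib.Helper2_ClassFn
import Cfsg.Agent.Lib.Helper2_CharBasic
import Cfsg.Agent.Lib.Helper2_CharOrtho
import Cfsg.Agent.Lib.Helper2_Clifford
import Cfsg.Agent.Lib.Helper2_CharMore
import Cfsg.Agent.Lib.Helper2_CharNorm
import Cfsg.Agent.Lib.Helper2_CharValues
import Cfsg.Agent.Lib.Helper2_CharComplete
import Cfsg.Agent.Lib.Helper2_CharInd
import Cfsg.Agent.Lib.Helper2_CharTable
import Cfsg.Agent.Lib.Helper2_CharFrob
import Cfsg.Agent.Lib.Helper2_CharDeg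
import Cfsg.Agent.Lib.Helper2_CharSum
import Cfsg.Agent.Lib.Helper2_CharExtra
import Cfsg.Agent.Lib.Helper2_CharCentral
import Cfsg.Agent.Lib.Helper2_PermChar
import Cfsg.Agent.Lib.Helper2_FrobSchur
import Cfsg.Agent.Lib.Helper2_CliffordCorr
import Cfsg.Agent.Lib.Helper2_CharKernel
import Cfsg.Agent.Lib.Helper2_CyclicTI
import Cfsg.Agent.Lib.Helper2_CharGalois
import Cfsg.Agent.Lib.Helper2_CharInt
import Cfsg.Agent.Lib.Helper2_CharBurnside
import Cfsg.Agent.Lib.Helper2_CharCenter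
import Cfsg.Agent.Lib.Helper2_Ito
import Cfsg.Agent.Lib.Helper2_Gallagher
import Cfsg.Agent.Lib.Helper2_Artin
import Cfsg.Agent.Lib.Helper2_MGroup
import Cfsg.Agent.Lib.Helper2_RepEquiv
import Cfsg.Agent.Lib.Helper2_CyclicExt
import Cfsg.Agent.Lib.Helper2_Extraspecial
import Cfsg.Agent.Lib.Helper2_ProjLift
import Cfsg.Agent.Lib.Helper2_CentralExt
import Cfsg.Agent.Lib.Helper2_SylowExt
import Cfsg.Agent.Lib.Helper2_DetChar
import Cfsg.Agent.Lib.Helper2_LinExt
import Cfsg.Agent.Lib.Helper2_DetExt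
import Cfsg.Agent.Lib.Helper2_GallagherExt
import Cfsg.Agent.Lib.Helper2_PermInd
import Cfsg.Agent.Lib.Helper2_QuasiElem
import Cfsg.Agent.Lib.Helper2_BrauerInd
import Cfsg.Agent.Lib.Helper2_BrauerThm
import Cfsg.Agent.Lib.Helper2_NilDecomp
import Cfsg.Agent.Lib.Helper2_DefectZero
import Cfsg.Agent.Lib.Helper2_CharGalois2
import Cfsg.Agent.Lib.Helper2_CosetAvg
import Cfsg.Agent.Lib.Helper2_Thompson
import Cfsg.Agent.Lib.Helper2_ItoSolv
import Cfsg.Agent.Lib.Helper2_ItoPSolv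
import Cfsg.Agent.Lib.Helper2_GaloisConj
import Cfsg.Agent.Lib.Helper2_AbelInertia
import Cfsg.Agent.Lib.Helper2_Gagola
import Cfsg.Agent.Lib.Helper2_GoingDown
import Cfsg.Agent.Lib.Helper2_RelMGroup
import Cfsg.Agent.Lib.Helper2_Gagola2
import Cfsg.Agent.Lib.Helper2_Gagola3
import Cfsg.Agent.S0154
import Cfsg.Agent.S0160

set_option autoImplicit false
open Cfsg

namespace Cfsg.Agent.S4567

open Cfsg.Agent.Lib.Helper2_ClassFn Cfsg.Agent.Lib.Helper2_CharBasic Cfsg.Agent.Lib.Helper2_CharOrtho Cfsg.Agent.Lib.Helper2_Clifford Cfsg.Agent.Lib.Helper2_CharMore Cfsg.Agent.Lib.Helper2_CharNorm Cfsg.Agent.Lib.Helper2_CharValues Cfsg.Agent.Lib.Helper2_CharComplete Cfsg.Agent.Lib.Helper2_CharInd Cfsg.Agent.Lib.Helper2_CharTable Cfsg.Agent.Lib.Helper2_CharFrob Cfsg.Agent.Lib.Helper2_CharDeg Cfsg.Agent.Lib.Helper2_CharSum Cfsg.Agent.Lib.Helper2_CharExtra Cfsg.Agent.Lib.Helper2_CharCentral Cfsg.Agent.Lib.Helper2_PermChar Cfsg.Agent.Lib.Helper2_FrobSchur Cfsg.Agent.Lib.Helper2_CliffordCorr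 Cfsg.Agent.Lib.Helper2_CharKernel Cfsg.Agent.Lib.Helper2_CyclicTI Cfsg.Agent.Lib.Helper2_CharGalois Cfsg.Agent.Lib.Helper2_CharInt Cfsg.Agent.Lib.Helper2_CharBurnside Cfsg.Agent.Lib.Helper2_CharCenter Cfsg.Agent.Lib.Helper2_Ito Cfsg.Agent.Lib.Helper2_Gallagher Cfsg.Agent.Lib.Helper2_Artin Cfsg.Agent.Lib.Helper2_MGroup Cfsg.Agent.Lib.Helper2_RepEquiv Cfsg.Agent.Lib.Helper2_CyclicExt Cfsg.Agent.Lib.Helper2_Extraspecial Cfsg.Agent.Lib.Helper2_ProjLift Cfsg.Agent.Lib.Helper2_CentralExt Cfsg.Agent.Lib.Helper2_SylowExt Cfsg.Agent.Lib.Helper2_DetChar Cfsg.Agent.Lib.Helper2_LinExt Cfsg.Agent.Lib.Helper2_DetExt Cfsg.Agent.Lib.Helper2_GallagherExt Cfsg.Agent.Lib.Helper2_PermInd Cfsg.Agent.Lib.Helper2_QuasiElem Cfsg.Agent.Lib.Helper2_BrauerInd Cfsg.Agent.Lib.Helper2_BrauerThm Cfsg.Agent.Lib.Helper2_NilDecomp Cfsg.Agent.Lib.Helper2_DefectZero Cfsg.Agent.Lib.Helper2_CharGalois2 Cfsg.Agent.Lib.Helper2_CosetAvg Cfsg.Agent.Lib.Helper2_Thompson Cfsg.Agent.Lib.Helper2_ItoSolv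 Cfsg.Agent.Lib.Helper2_ItoPSolv Cfsg.Agent.Lib.Helper2_GaloisConj Cfsg.Agent.Lib.Helper2_AbelInertia Cfsg.Agent.Lib.Helper2_Gagola Cfsg.Agent.Lib.Helper2_GoingDown Cfsg.Agent.Lib.Helper2_RelMGroup Cfsg.Agent.Lib.Helper2_Gagola2 Cfsg.Agent.Lib.Helper2_Gagola3
open scoped Pointwise
variable {G : Type*} [Group G] [Fintype G]

theorem restrict_eq (N : Subgroup G) [Fintype N] (hN : N ≤ Subgroup.center G)
    {ψ : ↥N → ℂ} (hψ : IsIrrCharacter ↥N ψ) {χ : G → ℂ} (hχ : IsIrrCharacter G χ)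
    (hover : classInner (fun n : ↥N => χ n) ψ ≠ 0) (m : ↥N) : χ m = χ 1 * ψ m := by
  classical
  have hψc := IsIrrCharacter.isCharacter hψ
  have h10 : χ 1 ≠ 0 := IsIrrCharacter.apply_one_ne_zero hχ
  have hNcomm : ∀ a b : ↥N, a * b = b * a := by
    intro a b
    apply Subtype.ext
    have := hN a.2
    rw [Subgroup.mem_center_iff] at this
    exact (this b).symm
  have hψ1 : ψ 1 = 1 := IsIrrCharacter.apply_one_of_comm hNcomm hψ
  obtain ⟨ω, hω⟩ := Cfsg.Agent.S0154.exists_hom_of_degree_one ψ hψ hψ1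
  have hzc : ∀ y : G, (m : G) * y = y * m := by
    intro y
    have := hN m.2
    rw [Subgroup.mem_center_iff] at this
    exact (this y).symm
  have hS : ∑ n : ↥N, χ n * (starRingEnd ℂ) (ψ n) ≠ 0 := by
    intro h0
    apply hover
    rw [classInner_def, h0, mul_zero]
  have ha : ∑ n : ↥N, χ ((n * m : ↥N) : G) * (starRingEnd ℂ) (ψ n)
      = (χ m / χ 1) * ∑ n : ↥N, χ n * (starRingEnd ℂ) (ψ n) := by
    rw [Finset.mul_sum]
    refine Finset.sum_congr rfl fun n _ => ?_
    have : ((n * m : ↥N) : G) = m * n := by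
      rw [Subgroup.coe_mul]
      exact (hzc n).symm
    rw [this, apply_central_mul hχ m hzc]
    ring
  have hb : ∑ n : ↥N, χ ((n * m : ↥N) : G) * (starRingEnd ℂ) (ψ n)
      = ψ m * ∑ n : ↥N, χ n * (starRingEnd ℂ) (ψ n) := by
    rw [Finset.mul_sum]
    refine Fintype.sum_equiv (Equiv.mulRight m) _ _ fun n => ?_
    simp only [Equiv.coe_mulRight]
    have h1 : ψ n = ψ (n * m) * ψ m⁻¹ := by
      rw [hω]
      simp only
      rw [← Units.val_mul, ← map_mul, mul_assoc, mul_inv_cancel, mul_one]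
    rw [h1, map_mul, IsCharacter.apply_inv hψc, Complex.conj_conj]
    ring
  have := ha.symm.trans hb
  have h2 := mul_right_cancel₀ hS this
  rw [← h2]
  field_simp

theorem sum_psi_conj (N : Subgroup G) [Fintype N] (hN : N ≤ Subgroup.center G)
    {ψ : ↥N → ℂ} (hψ : IsIrrCharacter ↥N ψ) {χ : G → ℂ} (hχ : IsIrrCharacter G χ) (g : G) :
    ∑ n : ↥N, ψ n * (starRingEnd ℂ) (χ (g * n))
      = if classInner (fun n : ↥N => χ n) ψ ≠ 0
          then (Nat.card ↥N : ℂ) * (starRingEnd ℂ) (χ g) else 0 := by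
  classical
  have h10 : χ 1 ≠ 0 := IsIrrCharacter.apply_one_ne_zero hχ
  have hcen : ∀ (n : ↥N) (y : G), (n : G) * y = y * n := by
    intro n y
    have := hN n.2
    rw [Subgroup.mem_center_iff] at this
    exact (this y).symm
  have hN0 : (Nat.card ↥N : ℂ) ≠ 0 := card_ne_zero_complex
  have hψψ : ∑ n : ↥N, ψ n * (starRingEnd ℂ) (ψ n) = (Nat.card ↥N : ℂ) := by
    have := classInner_irr_self hψ
    rw [classInner_def] at this
    field_simp at this
    exact this
  split_ifs with hc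
  · have hr := restrict_eq N hN hψ hχ hc
    rw [← hψψ, Finset.sum_mul]
    refine Finset.sum_congr rfl fun n _ => ?_
    have e1 : g * (n : G) = n * g := (hcen n g).symm
    rw [e1, apply_central_mul hχ n (hcen n), hr n]
    have e2 : χ 1 * ψ n * χ g / χ 1 = ψ n * χ g := by field_simp
    rw [e2, map_mul]
    ring
  · push Not at hc
    have h0 : ∑ n : ↥N, χ n * (starRingEnd ℂ) (ψ n) = 0 := by
      rw [classInner_def] at hc
      rcases mul_eq_zero.mp hc with h | h
      · exact absurd (inv_eq_zero.mp h) hN0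
      · exact h
    have hterm : ∀ n : ↥N, ψ n * (starRingEnd ℂ) (χ (g * n))
        = (starRingEnd ℂ) (χ g / χ 1) * (starRingEnd ℂ) (χ n * (starRingEnd ℂ) (ψ n)) := by
      intro n
      have e1 : g * (n : G) = n * g := (hcen n g).symm
      rw [e1, apply_central_mul hχ n (hcen n)]
      simp only [map_mul, map_div₀, Complex.conj_conj]
      ring
    rw [Finset.sum_congr rfl (fun n _ => hterm n), ← Finset.mul_sum, ← map_sum, h0, map_zero,
      mul_zero]

open Classical in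
theorem sum_conj_psi (N : Subgroup G) [Fintype N] (hN : N ≤ Subgroup.center G)
    {ψ : ↥N → ℂ} (hψ : IsIrrCharacter ↥N ψ) (hfaith : ∀ n : ↥N, ψ n = ψ 1 → n = 1) (g : G) :
    ∑ n : ↥N, (if IsConj g (g * n) then ψ n else 0)
      = if (∀ x : G, x⁻¹ * g⁻¹ * x * g ∈ N → x * g = g * x) then 1 else 0 := by
  classical
  have hNcomm : ∀ a b : ↥N, a * b = b * a := by
    intro a b
    apply Subtype.ext
    have := hN a.2
    rw [Subgroup.mem_center_iff] at this
    exact (this b).symm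
  have hψ1 : ψ 1 = 1 := IsIrrCharacter.apply_one_of_comm hNcomm hψ
  obtain ⟨ω, hω⟩ := Cfsg.Agent.S0154.exists_hom_of_degree_one ψ hψ hψ1
  have hcen : ∀ (n : ↥N) (y : G), (n : G) * y = y * n := by
    intro n y
    have := hN n.2
    rw [Subgroup.mem_center_iff] at this
    exact (this y).symm
  split_ifs with hsp
  · rw [Finset.sum_eq_single (1 : ↥N)]
    · rw [Subgroup.coe_one, mul_one, if_pos (IsConj.refl g), hψ1]
    · intro n _ hn
      rw [if_neg]
      intro hconj
      apply hn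
      obtain ⟨x, hx⟩ := isConj_iff.mp hconj
      have h1 : (x⁻¹)⁻¹ * g⁻¹ * x⁻¹ * g = (n : G)⁻¹ := by
        have : (x⁻¹)⁻¹ * g⁻¹ * x⁻¹ * g = (x * g * x⁻¹)⁻¹ * g := by group
        rw [this, hx]
        group
      have h2 := hsp x⁻¹ (by rw [h1]; exact N.inv_mem n.2)
      have h3 : x * g * x⁻¹ = g := by
        calc x * g * x⁻¹ = x * (g * x⁻¹) := by group
          _ = x * (x⁻¹ * g) := by rw [h2]
          _ = g := by group
      rw [h3] at hx
      have : (n : G) = 1 := by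
        have h4 : g * 1 = g * (n : G) := by rw [mul_one]; exact hx
        exact (mul_left_cancel h4).symm
      exact Subtype.ext this
    · intro h
      exact absurd (Finset.mem_univ _) h
  · push Not at hsp
    obtain ⟨x, hxN, hxne⟩ := hsp
    set m : ↥N := ⟨x⁻¹ * g⁻¹ * x * g, hxN⟩ with hm
    have hmcoe : (m : G) = x⁻¹ * g⁻¹ * x * g := rfl
    have hm1 : m ≠ 1 := by
      intro h
      apply hxne
      have h5 : x⁻¹ * g⁻¹ * x * g = 1 := congrArg Subtype.val h
      calc x * g = g * x * (x⁻¹ * g⁻¹ * x * g) := by group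
        _ = g * x := by rw [h5, mul_one]
    have hψm : ψ m ≠ 1 := by
      intro h
      exact hm1 (hfaith m (by rw [h, hψ1]))
    have hconj : x * g * x⁻¹ = g * m := by
      have e1 : x * g = g * x * (m : G) := by rw [hmcoe]; group
      calc x * g * x⁻¹ = g * x * m * x⁻¹ := by rw [e1]
        _ = g * (x * m) * x⁻¹ := by group
        _ = g * (m * x) * x⁻¹ := by rw [hcen m x]
        _ = g * m := by group
    have hinv : ∀ n : ↥N, IsConj g (g * n) ↔ IsConj g (g * ((n * m : ↥N) : G)) := by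
      intro n
      have key : x * (g * n) * x⁻¹ = g * ((n * m : ↥N) : G) := by
        rw [Subgroup.coe_mul]
        calc x * (g * n) * x⁻¹ = (x * g * x⁻¹) * (x * n * x⁻¹) := by group
          _ = g * m * (n * x * x⁻¹) := by rw [hconj, ← hcen n x]
          _ = g * (m * n) := by group
          _ = g * (n * m) := by rw [hcen m n]
      constructor
      · intro h
        exact h.trans (isConj_iff.mpr ⟨x, key⟩)
      · intro h
        exact h.trans (isConj_iff.mpr ⟨x, key⟩).symm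
    set T := ∑ n : ↥N, (if IsConj g (g * n) then ψ n else 0) with hT
    have hT2 : ψ m * T = T := by
      rw [hT, Finset.mul_sum]
      refine Fintype.sum_equiv (Equiv.mulRight m) _ _ fun n => ?_
      change ψ m * (if IsConj g (g * n) then ψ n else 0)
        = if IsConj g (g * ((n * m : ↥N) : G)) then ψ (n * m) else 0
      by_cases h : IsConj g (g * n)
      · rw [if_pos h, if_pos ((hinv n).mp h)]
        rw [hω]
        simp only
        rw [map_mul, Units.val_mul]
        ring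
      · rw [if_neg h, if_neg (fun h' => h ((hinv n).mpr h')), mul_zero]
    have h6 : (ψ m - 1) * T = 0 := by rw [sub_mul, hT2, one_mul, sub_self]
    rcases mul_eq_zero.mp h6 with h | h
    · exact absurd (sub_eq_zero.mp h) hψm
    · exact h

open Classical in
theorem key_sum (N : Subgroup G) [Fintype N] (hN : N ≤ Subgroup.center G)
    {ψ : ↥N → ℂ} (hψ : IsIrrCharacter ↥N ψ) (hfaith : ∀ n : ↥N, ψ n = ψ 1 → n = 1) (g : G) :
    ∑ χ ∈ (irrFinset G).filter (fun χ => classInner (fun n : ↥N => χ n) ψ ≠ 0),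
        χ g * (starRingEnd ℂ) (χ g) * (Nat.card ↥N : ℂ)
      = if (∀ x : G, x⁻¹ * g⁻¹ * x * g ∈ N → x * g = g * x)
          then (Nat.card (Subgroup.centralizer ({g} : Set G)) : ℂ) else 0 := by
  classical
  rw [Finset.sum_filter]
  have h1 : ∀ χ ∈ irrFinset G, (if classInner (fun n : ↥N => χ n) ψ ≠ 0
        then χ g * (starRingEnd ℂ) (χ g) * (Nat.card ↥N : ℂ) else 0)
      = ∑ n : ↥N, ψ n * (χ g * (starRingEnd ℂ) (χ (g * n))) := by
    intro χ hχ
    have := sum_psi_conj N hN hψ (mem_irrFinset.mp hχ) g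
    have e : ∑ n : ↥N, ψ n * (χ g * (starRingEnd ℂ) (χ (g * n)))
        = χ g * ∑ n : ↥N, ψ n * (starRingEnd ℂ) (χ (g * n)) := by
      rw [Finset.mul_sum]
      refine Finset.sum_congr rfl fun n _ => by ring
    rw [e, this]
    split_ifs <;> ring
  rw [Finset.sum_congr rfl h1, Finset.sum_comm]
  have h2 : ∀ n : ↥N, ∑ χ ∈ irrFinset G, ψ n * (χ g * (starRingEnd ℂ) (χ (g * n)))
      = (if IsConj g (g * n) then ψ n else 0)
        * (Nat.card (Subgroup.centralizer ({g} : Set G)) : ℂ) := by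
    intro n
    rw [← Finset.mul_sum, second_orthogonality' g (g * n)]
    split_ifs <;> ring
  rw [Finset.sum_congr rfl (fun n _ => h2 n), ← Finset.sum_mul, sum_conj_psi N hN hψ hfaith g]
  split_ifs <;> ring

open Classical in
theorem count_over (N : Subgroup G) [Fintype N] (hN : N ≤ Subgroup.center G)
    {ψ : ↥N → ℂ} (hψ : IsIrrCharacter ↥N ψ) (hfaith : ∀ n : ↥N, ψ n = ψ 1 → n = 1) :
    (((irrFinset G).filter (fun χ => classInner (fun n : ↥N => χ n) ψ ≠ 0)).card : ℂ)
        * (Nat.card G : ℂ) * (Nat.card ↥N : ℂ)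
      = ∑ g : G, if (∀ x : G, x⁻¹ * g⁻¹ * x * g ∈ N → x * g = g * x)
          then (Nat.card (Subgroup.centralizer ({g} : Set G)) : ℂ) else 0 := by
  classical
  rw [← Finset.sum_congr rfl (fun g _ => key_sum N hN hψ hfaith g), Finset.sum_comm]
  have h1 : ∀ χ ∈ (irrFinset G).filter (fun χ => classInner (fun n : ↥N => χ n) ψ ≠ 0),
      ∑ g : G, χ g * (starRingEnd ℂ) (χ g) * (Nat.card ↥N : ℂ)
        = (Nat.card G : ℂ) * (Nat.card ↥N : ℂ) := by
    intro χ hχ
    have hirr := mem_irrFinset.mp (Finset.mem_filter.mp hχ).1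
    have := classInner_irr_self hirr
    rw [classInner_def] at this
    rw [← Finset.sum_mul]
    congr 1
    have hG0 : (Nat.card G : ℂ) ≠ 0 := card_ne_zero_complex
    field_simp at this
    exact this
  rw [Finset.sum_congr rfl h1, Finset.sum_const, nsmul_eq_mul]
  ring

omit [Fintype G] in
theorem comm_iff (N : Subgroup G) [N.Normal] (x g : G) :
    x⁻¹ * g⁻¹ * x * g ∈ N ↔ (x : G ⧸ N) * (g : G ⧸ N) = (g : G ⧸ N) * (x : G ⧸ N) := by
  rw [← QuotientGroup.eq_one_iff]
  simp only [QuotientGroup.mk_mul, QuotientGroup.mk_inv]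
  constructor
  · intro h
    calc (x : G ⧸ N) * (g : G ⧸ N)
        = (g : G ⧸ N) * (x : G ⧸ N) * ((x : G ⧸ N)⁻¹ * (g : G ⧸ N)⁻¹ * x * g) := by group
      _ = (g : G ⧸ N) * (x : G ⧸ N) := by rw [h, mul_one]
  · intro h
    calc (x : G ⧸ N)⁻¹ * (g : G ⧸ N)⁻¹ * x * g
        = (x : G ⧸ N)⁻¹ * (g : G ⧸ N)⁻¹ * ((x : G ⧸ N) * g) := by group
      _ = 1 := by rw [h]; group

theorem card_centralizer_of_sp (N : Subgroup G) [N.Normal] (g : G)
    (hsp : ∀ x : G, x⁻¹ * g⁻¹ * x * g ∈ N → x * g = g * x) :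
    Nat.card (Subgroup.centralizer ({g} : Set G))
      = Nat.card ↥N * Nat.card (Subgroup.centralizer ({(g : G ⧸ N)} : Set (G ⧸ N))) := by
  have hcomap : Subgroup.centralizer ({g} : Set G)
      = (Subgroup.centralizer ({(g : G ⧸ N)} : Set (G ⧸ N))).comap (QuotientGroup.mk' N) := by
    ext x
    rw [Subgroup.mem_comap, Subgroup.mem_centralizer_singleton_iff,
      Subgroup.mem_centralizer_singleton_iff]
    constructor
    · intro h
      change (x : G ⧸ N) * (g : G ⧸ N) = (g : G ⧸ N) * (x : G ⧸ N)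
      rw [← QuotientGroup.mk_mul, ← QuotientGroup.mk_mul, h]
    · intro h
      apply hsp
      rw [comm_iff]
      exact h
  have h1 := Subgroup.index_comap_of_surjective
    (Subgroup.centralizer ({(g : G ⧸ N)} : Set (G ⧸ N))) (QuotientGroup.mk'_surjective N)
  rw [← hcomap] at h1
  have h2 := Subgroup.card_mul_index (Subgroup.centralizer ({g} : Set G))
  have h3 := Subgroup.card_mul_index (Subgroup.centralizer ({(g : G ⧸ N)} : Set (G ⧸ N)))
  have h4 := Subgroup.card_mul_index N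
  rw [Subgroup.index_eq_card] at h4
  have hpos : 0 < (Subgroup.centralizer ({(g : G ⧸ N)} : Set (G ⧸ N))).index :=
    Nat.pos_of_ne_zero Subgroup.index_ne_zero_of_finite
  apply Nat.eq_of_mul_eq_mul_right hpos
  rw [mul_assoc, h3, h4, ← h1, h2]

theorem sum_comp_mk (N : Subgroup G) [N.Normal] [Fintype (G ⧸ N)] (F : G ⧸ N → ℂ) :
    ∑ g : G, F (g : G ⧸ N) = (Nat.card ↥N : ℂ) * ∑ q : G ⧸ N, F q := by
  classical
  rw [← Finset.sum_fiberwise (s := Finset.univ) (g := fun g : G => (g : G ⧸ N)), Finset.mul_sum]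
  refine Finset.sum_congr rfl fun q _ => ?_
  obtain ⟨g₀, rfl⟩ := QuotientGroup.mk_surjective q
  have hterm : ∀ g ∈ Finset.univ.filter (fun g : G => (g : G ⧸ N) = (g₀ : G ⧸ N)),
      F (g : G ⧸ N) = F (g₀ : G ⧸ N) := by
    intro g hg
    rw [(Finset.mem_filter.mp hg).2]
  rw [Finset.sum_congr rfl hterm, Finset.sum_const, nsmul_eq_mul]
  congr 1
  have : (Finset.univ.filter (fun g : G => (g : G ⧸ N) = (g₀ : G ⧸ N))).card = Nat.card ↥N := by
    rw [← Fintype.card_subtype, ← Nat.card_eq_fintype_card]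
    apply Nat.card_congr
    exact
      { toFun := fun g => ⟨g₀⁻¹ * g.1, QuotientGroup.eq.mp g.2.symm⟩
        invFun := fun n => ⟨g₀ * n.1, by
          rw [QuotientGroup.eq]
          have : (g₀ * (n : G))⁻¹ * g₀ = (n : G)⁻¹ := by group
          rw [this]
          exact N.inv_mem n.2⟩
        left_inv := fun g => by simp
        right_inv := fun n => by simp }
  exact_mod_cast this

open Classical in
theorem card_classes {Q : Type*} [Group Q] [Fintype Q] (P : ConjClasses Q → Prop) :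
    (Nat.card {C : ConjClasses Q // P C} : ℂ) * (Nat.card Q : ℂ)
      = ∑ q : Q, if P (ConjClasses.mk q)
          then (Nat.card (Subgroup.centralizer ({q} : Set Q)) : ℂ) else 0 := by
  classical
  have h := Cfsg.Agent.S0160.sum_over_classes (G := Q) (fun C => if P C then (1 : ℂ) else 0)
  have h2 : ∑ C : ConjClasses Q, (if P C then (1 : ℂ) else 0)
      = (Nat.card {C : ConjClasses Q // P C} : ℂ) := by
    rw [Finset.sum_boole, Nat.card_eq_fintype_card, Fintype.card_subtype]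
  rw [← h2, ← h, Finset.sum_mul]
  refine Finset.sum_congr rfl fun q _ => ?_
  have h3 := card_class_mul_card_centralizer q
  have h4 : ((Finset.univ.filter (fun x : Q => IsConj x q)).card : ℂ)
      * (Nat.card (Subgroup.centralizer ({q} : Set Q)) : ℂ) = (Nat.card Q : ℂ) := by
    exact_mod_cast h3
  have hpos : ((Finset.univ.filter (fun x : Q => IsConj x q)).card : ℂ) ≠ 0 := by
    have : 0 < (Finset.univ.filter (fun x : Q => IsConj x q)).card :=
      Finset.card_pos.mpr ⟨q, Finset.mem_filter.mpr ⟨Finset.mem_univ _, IsConj.refl q⟩⟩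
    exact_mod_cast this.ne'
  rw [← h4]
  split_ifs
  · field_simp
  · simp



/-- Let N be a central subgroup of the finite group G and ψ a faithful irreducible (hence degree-one) character of N. Call a coset g N special when every x ∈ G whose commutator x⁻¹ g⁻¹ x g lies in N actually commutes with g (this depends only on the coset). Then the number of irreducible characters of G whose restriction to N contains ψ equals the number of conjugacy classes of G/N consisting of special cosets. -/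
theorem result {G : Type*} [Group G] [Fintype G] (N : Subgroup G) [N.Normal] [Fintype N] (hN : N ≤ Subgroup.center G) (ψ : Cfsg.IrrCharacter ↥N) (hfaith : ∀ n : ↥N, (ψ : ↥N → ℂ) n = (ψ : ↥N → ℂ) 1 → n = 1) : Nat.card {χ : Cfsg.IrrCharacter G // Cfsg.classInner (fun n : ↥N => (χ : G → ℂ) n) (ψ : ↥N → ℂ) ≠ 0} = Nat.card {C : ConjClasses (G ⧸ N) // ∃ g : G, ConjClasses.mk (g : G ⧸ N) = C ∧ ∀ x : G, x⁻¹ * g⁻¹ * x * g ∈ N → x * g = g * x} := by
  classical
  haveI : Fintype (G ⧸ N) := Fintype.ofFinite _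
  obtain ⟨ψ, hψ⟩ := ψ
  change ∀ n : ↥N, ψ n = ψ 1 → n = 1 at hfaith
  have hL : Nat.card {χ : Cfsg.IrrCharacter G //
        Cfsg.classInner (fun n : ↥N => (χ : G → ℂ) n) ψ ≠ 0}
      = ((irrFinset G).filter (fun χ => classInner (fun n : ↥N => χ n) ψ ≠ 0)).card := by
    rw [← Nat.card_eq_finsetCard]
    apply Nat.card_congr
    exact
      { toFun := fun χ => ⟨χ.1.1, Finset.mem_filter.mpr ⟨mem_irrFinset.mpr χ.1.2, χ.2⟩⟩
        invFun := fun χ => ⟨⟨χ.1, mem_irrFinset.mp (Finset.mem_filter.mp χ.2).1⟩,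
          (Finset.mem_filter.mp χ.2).2⟩
        left_inv := fun χ => rfl
        right_inv := fun χ => rfl }
  change Nat.card {χ : Cfsg.IrrCharacter G //
        Cfsg.classInner (fun n : ↥N => (χ : G → ℂ) n) ψ ≠ 0} = _
  rw [hL]
  have hcen : ∀ (n : G), n ∈ N → ∀ y : G, n * y = y * n := by
    intro n hn y
    have := hN hn
    rw [Subgroup.mem_center_iff] at this
    exact (this y).symm
  set P : ConjClasses (G ⧸ N) → Prop := fun C => ∃ g : G, ConjClasses.mk (g : G ⧸ N) = C ∧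
    ∀ x : G, x⁻¹ * g⁻¹ * x * g ∈ N → x * g = g * x with hP
  have hcount := count_over N hN hψ hfaith
  have hclasses := card_classes (Q := G ⧸ N) P
  have hPiff : ∀ g : G, P (ConjClasses.mk (g : G ⧸ N))
      ↔ (∀ x : G, x⁻¹ * g⁻¹ * x * g ∈ N → x * g = g * x) := by
    intro g
    constructor
    · rintro ⟨g', hg', hsp⟩ x hx
      rw [ConjClasses.mk_eq_mk_iff_isConj, isConj_iff] at hg'
      obtain ⟨c, hc⟩ := hg'
      obtain ⟨y, rfl⟩ := QuotientGroup.mk_surjective c
      rw [comm_iff] at hx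
      -- g = y g' y⁻¹ n
      have hn : (y * g' * y⁻¹)⁻¹ * g ∈ N := by
        rw [← QuotientGroup.eq]
        simp only [QuotientGroup.mk_mul, QuotientGroup.mk_inv]
        exact hc
      set n := (y * g' * y⁻¹)⁻¹ * g with hndef
      have hg : g = y * g' * y⁻¹ * n := by rw [hndef]; group
      have h1 : (y⁻¹ * x * y)⁻¹ * g'⁻¹ * (y⁻¹ * x * y) * g' ∈ N := by
        rw [comm_iff]
        simp only [QuotientGroup.mk_mul, QuotientGroup.mk_inv]
        rw [← hc] at hx
        calc (y : G ⧸ N)⁻¹ * x * y * g'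
            = (y : G ⧸ N)⁻¹ * ((x : G ⧸ N) * ((y : G ⧸ N) * g' * (y : G ⧸ N)⁻¹)) * y := by group
          _ = (y : G ⧸ N)⁻¹ * (((y : G ⧸ N) * g' * (y : G ⧸ N)⁻¹) * (x : G ⧸ N)) * y := by rw [hx]
          _ = (g' : G ⧸ N) * ((y : G ⧸ N)⁻¹ * x * y) := by group
      have h2 := hsp _ h1
      have h3 : x * (y * g' * y⁻¹) = (y * g' * y⁻¹) * x := by
        calc x * (y * g' * y⁻¹) = y * ((y⁻¹ * x * y) * g') * y⁻¹ := by group
          _ = y * (g' * (y⁻¹ * x * y)) * y⁻¹ := by rw [h2]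
          _ = (y * g' * y⁻¹) * x := by group
      rw [hg]
      calc x * (y * g' * y⁻¹ * n) = (x * (y * g' * y⁻¹)) * n := by group
        _ = (y * g' * y⁻¹) * x * n := by rw [h3]
        _ = (y * g' * y⁻¹) * (x * n) := by group
        _ = (y * g' * y⁻¹) * (n * x) := by rw [hcen n hn x]
        _ = y * g' * y⁻¹ * n * x := by group
    · intro h
      exact ⟨g, rfl, h⟩
  -- assemble
  have hN0 : (Nat.card ↥N : ℂ) ≠ 0 := card_ne_zero_complex
  have hG0 : (Nat.card G : ℂ) ≠ 0 := card_ne_zero_complex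
  have hGN : (Nat.card (G ⧸ N) : ℂ) * (Nat.card ↥N : ℂ) = (Nat.card G : ℂ) := card_quot_mul_card N
  have hsum : ∑ g : G, (if (∀ x : G, x⁻¹ * g⁻¹ * x * g ∈ N → x * g = g * x)
          then (Nat.card (Subgroup.centralizer ({g} : Set G)) : ℂ) else 0)
      = (Nat.card ↥N : ℂ) * ((Nat.card ↥N : ℂ) * ∑ q : G ⧸ N, if P (ConjClasses.mk q)
          then (Nat.card (Subgroup.centralizer ({q} : Set (G ⧸ N))) : ℂ) else 0) := by
    rw [← sum_comp_mk N (fun q => if P (ConjClasses.mk q)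
          then (Nat.card (Subgroup.centralizer ({q} : Set (G ⧸ N))) : ℂ) else 0), Finset.mul_sum]
    refine Finset.sum_congr rfl fun g _ => ?_
    by_cases hsp : ∀ x : G, x⁻¹ * g⁻¹ * x * g ∈ N → x * g = g * x
    · rw [if_pos hsp, if_pos ((hPiff g).mpr hsp), card_centralizer_of_sp N g hsp]
      push_cast
      ring
    · rw [if_neg hsp, if_neg (fun h => hsp ((hPiff g).mp h)), mul_zero]
  rw [hsum] at hcount
  have hcount2 : (((irrFinset G).filter
      (fun χ => classInner (fun n : ↥N => χ n) ψ ≠ 0)).card : ℂ) * (Nat.card G : ℂ) * (Nat.card ↥N : ℂ)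
      = (Nat.card ↥N : ℂ) * ((Nat.card ↥N : ℂ) * ((Nat.card {C : ConjClasses (G ⧸ N) // P C} : ℂ) * (Nat.card (G ⧸ N) : ℂ))) := by
    rw [hcount]
    congr 2
    rw [hclasses]
    refine Finset.sum_congr rfl fun q _ => ?_
    congr 1
  have hfinal : (((irrFinset G).filter
      (fun χ => classInner (fun n : ↥N => χ n) ψ ≠ 0)).card : ℂ)
      = (Nat.card {C : ConjClasses (G ⧸ N) // P C} : ℂ) := by
    have h5 : (((irrFinset G).filter
        (fun χ => classInner (fun n : ↥N => χ n) ψ ≠ 0)).card : ℂ) * ((Nat.card G : ℂ) * (Nat.card ↥N : ℂ))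
        = (Nat.card {C : ConjClasses (G ⧸ N) // P C} : ℂ) * ((Nat.card G : ℂ) * (Nat.card ↥N : ℂ)) := by
      rw [← mul_assoc, hcount2, ← hGN]
      ring
    exact mul_right_cancel₀ (mul_ne_zero hG0 hN0) h5
  exact_mod_cast hfinal

end Cfsg.Agent.S4567
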