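import Cfsg.Statements.S0876
import Cfsg.Agent.Lib.Helper2_ClassFn
import Cfsg.Agent.Lib.Helper2_CharBasic
import Cfsg.Agent.Lib.Helper2_CharOrtho
import Cfsg.Agent.Lib.Helper2_Clifford
import Cfsg.Agent.Lib.Helper2_CharMore
import Cfsg.Agent.Lib.Helper2_CharNorm
import Cfsg.Agent.Lib.Helper2_CharValues
import Cfsg.Agent.Lib.Helper2_CharComplete
import Cfsg.Agent.Lib.Helper2_CharInd
import Cfsg.Agent.Lib.Helper2_CharTable
import Cfsg.Agent.Lib.Helper2_CharFrob
import Cfsg.Agent.Lib.Helper2_CharDeg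
import Cfsg.Agent.Lib.Helper2_CharSum
import Cfsg.Agent.Lib.Helper2_CharExtra
import Cfsg.Agent.Lib.Helper2_CharCentral
import Cfsg.Agent.Lib.Helper2_PermChar
import Cfsg.Agent.Lib.Helper2_FrobSchur
import Cfsg.Agent.Lib.Helper2_CliffordCorr
import Cfsg.Agent.Lib.Helper2_CharKernel
import Cfsg.Agent.Lib.Helper2_CyclicTI
import Cfsg.Agent.Lib.Helper2_CharGalois
import Cfsg.Agent.Lib.Helper2_CharInt
import Cfsg.Agent.Lib.Helper2_CharBurnside
import Cfsg.Agent.Lib.Helper2_CharCenter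
import Cfsg.Agent.Lib.Helper2_Ito
import Cfsg.Agent.Lib.Helper2_Gallagher
import Cfsg.Agent.Lib.Helper2_Artin
import Cfsg.Agent.Lib.Helper2_MGroup
import Cfsg.Agent.Lib.Helper2_RepEquiv
import Cfsg.Agent.Lib.Helper2_CyclicExt
import Cfsg.Agent.Lib.Helper2_Extraspecial
import Cfsg.Agent.Lib.Helper2_ProjLift
import Cfsg.Agent.Lib.Helper2_CentralExt
import Cfsg.Agent.Lib.Helper2_SylowExt
import Cfsg.Agent.Lib.Helper2_DetChar
import Cfsg.Agent.Lib.Helper2_LinExt
import Cfsg.Agent.Lib.Helper2_DetExt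
import Cfsg.Agent.Lib.Helper2_GallagherExt
import Cfsg.Agent.Lib.Helper2_PermInd
import Cfsg.Agent.Lib.Helper2_QuasiElem
import Cfsg.Agent.Lib.Helper2_BrauerInd
import Cfsg.Agent.Lib.Helper2_BrauerThm
import Cfsg.Agent.Lib.Helper2_NilDecomp
import Cfsg.Agent.Lib.Helper2_DefectZero
import Cfsg.Agent.Lib.Helper2_CharGalois2
import Cfsg.Agent.Lib.Helper2_CosetAvg
import Cfsg.Agent.Lib.Helper2_Thompson
import Cfsg.Agent.Lib.Helper2_ItoSolv
import Cfsg.Agent.Lib.Helper2_ItoPSolv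
import Cfsg.Agent.Lib.Helper2_GaloisConj
import Cfsg.Agent.Lib.Helper2_AbelInertia
import Cfsg.Agent.Lib.Helper2_Gagola
import Cfsg.Agent.Lib.Helper2_GoingDown
import Cfsg.Agent.Lib.Helper2_RelMGroup
import Cfsg.Agent.Lib.Helper2_Gagola2
import Cfsg.Agent.Lib.Helper2_Gagola3
import Cfsg.Agent.Lib.Helper2_Dade
import Cfsg.Agent.Lib.Helper2_PiSection
import Cfsg.Agent.Lib.Helper2_ModM

set_option autoImplicit false
open Cfsg

namespace Cfsg.Agent.S0876

open Cfsg.Agent.Lib.Helper2_ClassFn Cfsg.Agent.Lib.Helper2_CharBasic Cfsg.Agent.Lib.Helper2_CharOrtho Cfsg.Agent.Lib.Helper2_Clifford Cfsg.Agent.Lib.Helper2_CharMore Cfsg.Agent.Lib.Helper2_CharNorm Cfsg.Agent.Lib.Helper2_CharValues Cfsg.Agent.Lib.Helper2_CharComplete Cfsg.Agent.Lib.Helper2_CharInd Cfsg.Agent.Lib.Helper2_CharTable Cfsg.Agent.Lib.Helper2_CharFrob Cfsg.Agent.Lib.Helper2_CharDeg Cfsg.Agent.Lib.Helper2_CharSum Cfsg.Agent.Lib.Helper2_CharExtra Cfsg.Agent.Lib.Helper2_CharCentral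 Cfsg.Agent.Lib.Helper2_PermChar Cfsg.Agent.Lib.Helper2_FrobSchur Cfsg.Agent.Lib.Helper2_CliffordCorr Cfsg.Agent.Lib.Helper2_CharKernel Cfsg.Agent.Lib.Helper2_CyclicTI Cfsg.Agent.Lib.Helper2_CharGalois Cfsg.Agent.Lib.Helper2_CharInt Cfsg.Agent.Lib.Helper2_CharBurnside Cfsg.Agent.Lib.Helper2_CharCenter Cfsg.Agent.Lib.Helper2_Ito Cfsg.Agent.Lib.Helper2_Gallagher Cfsg.Agent.Lib.Helper2_Artin Cfsg.Agent.Lib.Helper2_MGroup Cfsg.Agent.Lib.Helper2_RepEquiv Cfsg.Agent.Lib.Helper2_CyclicExt Cfsg.Agent.Lib.Helper2_Extraspecial Cfsg.Agent.Lib.Helper2_ProjLift Cfsg.Agent.Lib.Helper2_CentralExt Cfsg.Agent.Lib.Helper2_SylowExt Cfsg.Agent.Lib.Helper2_DetChar Cfsg.Agent.Lib.Helper2_LinExt Cfsg.Agent.Lib.Helper2_DetExt Cfsg.Agent.Lib.Helper2_GallagherExt Cfsg.Agent.Lib.Helper2_PermInd Cfsg.Agent.Lib.Helper2_QuasiElem Cfsg.Agent.Lib.Helper2_BrauerInd Cfsg.Agent.Lib.Helper2_BrauerThm Cfsg.Agent.Lib.Helper2_NilDecomp Cfsg.Agent.Lib.Helper2_DefectZero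 Cfsg.Agent.Lib.Helper2_CharGalois2 Cfsg.Agent.Lib.Helper2_CosetAvg Cfsg.Agent.Lib.Helper2_Thompson Cfsg.Agent.Lib.Helper2_ItoSolv Cfsg.Agent.Lib.Helper2_ItoPSolv Cfsg.Agent.Lib.Helper2_GaloisConj Cfsg.Agent.Lib.Helper2_AbelInertia Cfsg.Agent.Lib.Helper2_Gagola Cfsg.Agent.Lib.Helper2_GoingDown Cfsg.Agent.Lib.Helper2_RelMGroup Cfsg.Agent.Lib.Helper2_Gagola2 Cfsg.Agent.Lib.Helper2_Gagola3 Cfsg.Agent.Lib.Helper2_Dade Cfsg.Agent.Lib.Helper2_PiSection Cfsg.Agent.Lib.Helper2_ModM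
open scoped Pointwise


/-- Let G be a finite group, p a prime and M a maximal ideal of the ring of algebraic integers containing p. Let x, y be elements with p-parts a and b (so a⁻¹ * x and b⁻¹ * y are their p-regular parts). Then a⁻¹ * x and b⁻¹ * y are conjugate in G if and only if, for every irreducible character χ, the difference χ x - χ y lies in the local ideal at M. -/
theorem result {G : Type*} [Group G] [Finite G] (p : ℕ) (M : Ideal Cfsg.AlgInt) (hM : Cfsg.IsPModular p M) (x y a b : G) (ha : Cfsg.IsPPart p x a) (hb : Cfsg.IsPPart p y b) : IsConj (a⁻¹ * x) (b⁻¹ * y) ↔ ∀ χ : Cfsg.IrrCharacter G, Cfsg.MemLocalIdeal M ((χ : G → ℂ) x - (χ : G → ℂ) y) := by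
  classical
  haveI : Fintype G := Fintype.ofFinite G
  have hp := hM.1
  have hcard0 : Nat.card G ≠ 0 := Nat.card_pos.ne'
  set e := (Nat.card G).factorization p with he
  set m := p ^ e with hm_def
  set n := Nat.card G / p ^ e with hn_def
  have hmn : Nat.card G = m * n := (Nat.ordProj_mul_ordCompl_eq_self (Nat.card G) p).symm
  have hpn : p.Coprime n := Nat.coprime_ordCompl hp hcard0
  have hcop : m.Coprime n := hpn.pow_left e
  have hpos : 0 < m * n := by rw [← hmn]; exact Nat.card_pos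
  obtain ⟨r, hm, hn, hr⟩ := exists_crt_exp m n hcop hpos
  obtain ⟨t, ht⟩ := hn
  have hrt : r = n * t + 1 := by omega
  have hpowG : ∀ z : G, z ^ (m * n) = 1 := by
    intro z
    rw [← hmn]
    exact pow_card_eq_one'
  have key : ∀ z c : G, Cfsg.IsPPart p z c → z ^ r = c⁻¹ * z := by
    intro z c hpart
    obtain ⟨w, hcw, hcomm, ⟨k, hk⟩, hw⟩ := hpart
    have hc1 : orderOf c ∣ m := by
      have h1 : orderOf c ∣ m * n := orderOf_dvd_of_pow_eq_one (hpowG c)
      have h2 : (orderOf c).Coprime n := by rw [hk]; exact hpn.pow_left k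
      exact Nat.Coprime.dvd_of_dvd_mul_right h2 h1
    have hw1 : orderOf w ∣ n := by
      have h1 : orderOf w ∣ m * n := orderOf_dvd_of_pow_eq_one (hpowG w)
      have h2 : (orderOf w).Coprime m := by
        have : p.Coprime (orderOf w) := (Nat.Prime.coprime_iff_not_dvd hp).mpr hw
        exact (this.pow_left e).symm
      exact Nat.Coprime.dvd_of_dvd_mul_left h2 h1
    have hcr : c ^ r = 1 := orderOf_dvd_iff_pow_eq_one.mp (dvd_trans hc1 hm)
    have hwr : w ^ r = w := by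
      rw [hrt, pow_succ, pow_mul, orderOf_dvd_iff_pow_eq_one.mp hw1, one_pow, one_mul]
    rw [← hcw, hcomm.mul_pow, hcr, hwr, one_mul, inv_mul_cancel_left]
  rw [← key x a ha, ← key y b hb]
  have hcardr : Nat.card G ∣ (r - 1) * p ^ e := by
    rw [hmn, ht]
    exact ⟨t, by ring⟩
  constructor
  · intro hconj χ
    have hχ := IsIrrCharacter.isCharacter χ.2
    have h1 := char_pow_sub_mem hM hχ x e r hcardr hr
    have h2 := char_pow_sub_mem hM hχ y e r hcardr hr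
    have h3 : (χ : G → ℂ) (x ^ r) = (χ : G → ℂ) (y ^ r) := by
      obtain ⟨c, hc⟩ := isConj_iff.mp hconj
      rw [← hc]
      exact (IsCharacter.isClassFunction hχ _ _).symm
    have : (χ : G → ℂ) x - (χ : G → ℂ) y =
        ((χ : G → ℂ) (y ^ r) - (χ : G → ℂ) y) - ((χ : G → ℂ) (x ^ r) - (χ : G → ℂ) x) := by
      rw [h3]; ring
    rw [this]
    exact memLocalIdeal_sub hM.2.1 h2 h1
  · intro hall
    by_contra hnc
    set ϑ : G → ℂ := fun z => if IsConj (z ^ r) (x ^ r) then (n : ℂ) else 0 with hϑ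
    have k1 : ∀ z : G, IsConj (z ^ r) (x ^ r) → ϑ z = n := by
      intro z hz
      simp only [hϑ, if_pos hz]
    have k0 : ∀ z : G, ¬ IsConj (z ^ r) (x ^ r) → ϑ z = 0 := by
      intro z hz
      simp only [hϑ, if_neg hz]
    have hcf := classFn_of_pow r (x ^ r) (n : ℂ) ϑ k1 k0
    have hR := pi_section_rint' m n r hmn hcop hm ⟨t, ht⟩ hr (x ^ r) ϑ k1 k0
    have hexp := IsClassFunction.expansion hcf
    have hx : ϑ x = n := k1 x (IsConj.refl _)
    have hy : ϑ y = 0 := k0 y (fun h => hnc h.symm)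
    have hdiff : ϑ x - ϑ y = ∑ ν ∈ irrFinset G, classInner ϑ ν * (ν x - ν y) := by
      have ex := congrFun hexp x
      have ey := congrFun hexp y
      rw [Finset.sum_apply] at ex ey
      rw [ex, ey, ← Finset.sum_sub_distrib]
      apply Finset.sum_congr rfl
      intro ν _
      simp only [Pi.smul_apply, smul_eq_mul]
      ring
    have hmem : Cfsg.MemLocalIdeal M (ϑ x - ϑ y) := by
      rw [hdiff]
      apply memLocalIdeal_sum hM.2.1
      intro ν hν
      have hνirr := mem_irrFinset.mp hν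
      exact memLocalIdeal_mul_int hM.2.1 (hall ⟨ν, hνirr⟩) (hR ν hνirr)
    rw [hx, hy, sub_zero] at hmem
    exact not_memLocalIdeal_nat hM n hpn.symm hmem

end Cfsg.Agent.S0876
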