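import Cfsg.Statements.S0144
import Cfsg.Agent.Lib.Helper2_ClassFn
import Cfsg.Agent.Lib.Helper2_CharBasic
import Cfsg.Agent.Lib.Helper2_CharOrtho
import Cfsg.Agent.Lib.Helper2_Clifford
import Cfsg.Agent.Lib.Helper2_CharMore
import Cfsg.Agent.Lib.Helper2_CharNorm
import Cfsg.Agent.Lib.Helper2_CharValues
import Cfsg.Agent.Lib.Helper2_CharComplete
import Cfsg.Agent.Lib.Helper2_CharInd
import Cfsg.Agent.Lib.Helper2_CharTable
import Cfsg.Agent.Lib.Helper2_CharFrob
import Cfsg.Agent.Lib.Helper2_CharDeg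
import Cfsg.Agent.Lib.Helper2_CharSum
import Cfsg.Agent.Lib.Helper2_CharExtra
import Cfsg.Agent.Lib.Helper2_CharCentral
import Cfsg.Agent.Lib.Helper2_PermChar
import Cfsg.Agent.Lib.Helper2_FrobSchur
import Cfsg.Agent.Lib.Helper2_CliffordCorr
import Cfsg.Agent.Lib.Helper2_CharKernel
import Cfsg.Agent.Lib.Helper2_CyclicTI
import Cfsg.Agent.Lib.Helper2_CharGalois
import Cfsg.Agent.Lib.Helper2_CharInt
import Cfsg.Agent.Lib.Helper2_CharBurnside

set_option autoImplicit false
open Cfsg

namespace Cfsg.Agent.S0144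

open Cfsg.Agent.Lib.Helper2_ClassFn Cfsg.Agent.Lib.Helper2_CharBasic Cfsg.Agent.Lib.Helper2_CharOrtho Cfsg.Agent.Lib.Helper2_Clifford Cfsg.Agent.Lib.Helper2_CharMore Cfsg.Agent.Lib.Helper2_CharNorm Cfsg.Agent.Lib.Helper2_CharValues Cfsg.Agent.Lib.Helper2_CharComplete Cfsg.Agent.Lib.Helper2_CharInd Cfsg.Agent.Lib.Helper2_CharTable Cfsg.Agent.Lib.Helper2_CharFrob Cfsg.Agent.Lib.Helper2_CharDeg Cfsg.Agent.Lib.Helper2_CharSum Cfsg.Agent.Lib.Helper2_CharExtra Cfsg.Agent.Lib.Helper2_CharCentral Cfsg.Agent.Lib.Helper2_PermChar Cfsg.Agent.Lib.Helper2_FrobSchur Cfsg.Agent.Lib.Helper2_CliffordCorr Cfsg.Agent.Lib.Helper2_CharKernel Cfsg.Agent.Lib.Helper2_CyclicTI Cfsg.Agent.Lib.Helper2_CharGalois Cfsg.Agent.Lib.Helper2_CharInt Cfsg.Agent.Lib.Helper2_CharBurnside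
open scoped Pointwise
theorem dvd_two_prime_pow {p q a b d : ℕ} (hp : p.Prime) (hq : q.Prime) (h : d ∣ p ^ a * q ^ b) :
    ∃ a' b', d = p ^ a' * q ^ b' := by
  obtain ⟨d1, d2, h1, h2, rfl⟩ := (Nat.dvd_mul).mp h
  obtain ⟨a', -, rfl⟩ := (Nat.dvd_prime_pow hp).mp h1
  obtain ⟨b', -, rfl⟩ := (Nat.dvd_prime_pow hq).mp h2
  exact ⟨a', b', rfl⟩

theorem simple_two_prime_false {G : Type*} [Group G] [Finite G] [IsSimpleGroup G]
    (hnc : ¬ ∀ a b : G, a * b = b * a) (r s a b : ℕ) (hr : r.Prime) (hs : s.Prime)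
    (hcard : Nat.card G = r ^ a * s ^ b) (hdvd : s ∣ Nat.card G) : False := by
  classical
  haveI := Fintype.ofFinite G
  haveI : Fact s.Prime := ⟨hs⟩
  obtain Q : Sylow s G := default
  have hQnt : Nontrivial Q := by
    have h1 : s ∣ Nat.card Q := by
      have := Sylow.card_eq_multiplicity Q
      rw [this]
      have hpos : 0 < (Nat.card G).factorization s := by
        apply Nat.Prime.factorization_pos_of_dvd hs Nat.card_pos.ne' hdvd
      exact dvd_pow_self s hpos.ne'
    have h2 : 1 < Nat.card Q := by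
      have := Nat.le_of_dvd Nat.card_pos h1
      exact lt_of_lt_of_le hs.one_lt this
    exact Finite.one_lt_card_iff_nontrivial.mp h2
  have hQp : IsPGroup s Q := Q.isPGroup'
  have hcnt : Nontrivial (Subgroup.center Q) := IsPGroup.center_nontrivial hQp
  obtain ⟨z, hz⟩ := exists_ne (1 : Subgroup.center Q)
  set g : G := ((z : Q) : G) with hg
  have hg1 : g ≠ 1 := by
    intro h
    apply hz
    ext
    exact h
  have hle : (Q : Subgroup G) ≤ Subgroup.centralizer ({g} : Set G) := by
    intro x hx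
    rw [Subgroup.mem_centralizer_singleton_iff]
    have hzc := Subgroup.mem_center_iff.mp z.2 ⟨x, hx⟩
    have := congrArg (Subtype.val : Q → G) hzc
    simp only [Subgroup.coe_mul] at this
    exact this
  have hidx1 : (Subgroup.centralizer ({g} : Set G)).index ∣ (Q : Subgroup G).index :=
    Subgroup.index_dvd_of_le hle
  have hcop : Nat.Coprime (Q : Subgroup G).index s := by
    rw [Nat.coprime_comm, Nat.Prime.coprime_iff_not_dvd hs]
    exact Sylow.not_dvd_index Q
  have hidx2 : (Q : Subgroup G).index ∣ r ^ a := by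
    have : (Q : Subgroup G).index ∣ r ^ a * s ^ b := by
      rw [← hcard]; exact Subgroup.index_dvd_card _
    exact Nat.Coprime.dvd_of_dvd_mul_right (Nat.Coprime.pow_right b hcop) this
  obtain ⟨k, -, hk⟩ := (Nat.dvd_prime_pow hr).mp (hidx1.trans hidx2)
  rw [index_centralizer_eq_card_class g] at hk
  exact burnside_class_prime_power hnc r k hr g hg1 hk

theorem two_prime_solvable_aux.{u} (p q : ℕ) (hp : p.Prime) (hq : q.Prime) :
    ∀ n : ℕ, ∀ (G : Type u) [Group G] [Finite G], Nat.card G = n →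
      (∃ a b, n = p ^ a * q ^ b) → Group.IsSolvable G := by
  intro n
  induction n using Nat.strong_induction_on with
  | _ n ih =>
  intro G _ _ hcard hn
  obtain ⟨a, b, hab⟩ := hn
  rcases subsingleton_or_nontrivial G with hss | hnt
  · infer_instance
  by_cases hsimple : ∀ H : Subgroup G, H.Normal → H = ⊥ ∨ H = ⊤
  · haveI : IsSimpleGroup G := ⟨hsimple⟩
    by_cases hc : ∀ a b : G, a * b = b * a
    · exact Group.isSolvable_of_comm hc
    · exfalso
      have h1 : 1 < Nat.card G := Finite.one_lt_card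
      have hdv : p ∣ Nat.card G ∨ q ∣ Nat.card G := by
        rcases Nat.eq_zero_or_pos a with ha | ha
        · rcases Nat.eq_zero_or_pos b with hb | hb
          · rw [hcard, hab, ha, hb] at h1
            simp at h1
          · right
            rw [hcard, hab]
            exact Dvd.dvd.mul_left (dvd_pow_self q hb.ne') _
        · left
          rw [hcard, hab]
          exact Dvd.dvd.mul_right (dvd_pow_self p ha.ne') _
      rcases hdv with hdv | hdv
      · exact simple_two_prime_false hc q p b a hq hp (by rw [hcard, hab, mul_comm]) hdv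
      · exact simple_two_prime_false hc p q a b hp hq (by rw [hcard, hab]) hdv
  · push Not at hsimple
    obtain ⟨N, hN, hNbot, hNtop⟩ := hsimple
    have hNcard : Nat.card N ∣ n := by rw [← hcard]; exact Subgroup.card_subgroup_dvd_card N
    have hQcard : Nat.card (G ⧸ N) ∣ n := by
      rw [← hcard, ← Subgroup.index_eq_card]; exact Subgroup.index_dvd_card N
    have hNlt : Nat.card N < n := by
      rw [← hcard]
      apply lt_of_le_of_ne (Subgroup.card_le_card_group N)
      intro h
      exact hNtop (Subgroup.card_eq_iff_eq_top N |>.mp h)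
    have hQlt : Nat.card (G ⧸ N) < n := by
      rw [← hcard, ← Subgroup.index_eq_card]
      have h1 := Subgroup.card_mul_index N
      have h2 : 1 < Nat.card N := by
        rw [Subgroup.one_lt_card_iff_ne_bot]; exact hNbot
      have hipos : 0 < N.index := Nat.pos_of_ne_zero Subgroup.index_ne_zero_of_finite
      nlinarith
    haveI := hN
    haveI : Group.IsSolvable N := ih _ hNlt N rfl (dvd_two_prime_pow hp hq (hab ▸ hNcard))
    haveI : Group.IsSolvable (G ⧸ N) := ih _ hQlt (G ⧸ N) rfl (dvd_two_prime_pow hp hq (hab ▸ hQcard))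
    apply Group.isSolvable_of_ker_le_range N.subtype (QuotientGroup.mk' N)
    rw [QuotientGroup.ker_mk', Subgroup.range_subtype]


/-- The Burnside two-prime Theorem: a finite group of order p ^ a * q ^ b, for primes p and q, is solvable. -/
theorem result {G : Type*} [Group G] [Finite G] (p q a b : ℕ) (hp : p.Prime) (hq : q.Prime) (hcard : Nat.card G = p ^ a * q ^ b) : Group.IsSolvable G := by
  exact two_prime_solvable_aux p q hp hq (Nat.card G) G rfl ⟨a, b, hcard⟩

end Cfsg.Agent.S0144
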