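import Cfsg.Statements.S3743
import Mathlib

set_option autoImplicit false
open Cfsg

namespace Cfsg.Agent.S3743

universe u

/-- all prime divisors of `n` lie in `π` -/
def IsPi (π : Set ℕ) (n : ℕ) : Prop := ∀ p : ℕ, p.Prime → p ∣ n → p ∈ π

theorem isPi_of_dvd {π : Set ℕ} {n m : ℕ} (h : IsPi π n) (hd : m ∣ n) : IsPi π m :=
  fun p hp hpm => h p hp (hpm.trans hd)

theorem isPi_mul {π : Set ℕ} {n m : ℕ} (h1 : IsPi π n) (h2 : IsPi π m) : IsPi π (n * m) := by
  intro p hp hpm
  rcases (Nat.Prime.dvd_mul hp).mp hpm with h | h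
  · exact h1 p hp h
  · exact h2 p hp h

theorem card_sup_dvd {G : Type*} [Group G] [Finite G] (N₁ N₂ : Subgroup G) [N₂.Normal] :
    Nat.card (N₁ ⊔ N₂ : Subgroup G) ∣ Nat.card N₁ * Nat.card N₂ := by
  have h1 := Subgroup.card_mul_index (N₂.subgroupOf (N₁ ⊔ N₂))
  rw [← Subgroup.relIndex, Subgroup.relIndex_sup_right,
    Nat.card_congr (Subgroup.subgroupOfEquivOfLe (le_sup_right : N₂ ≤ N₁ ⊔ N₂)).toEquiv] at h1
  rw [← h1, mul_comm]
  exact Nat.mul_dvd_mul_right (Subgroup.relIndex_dvd_card N₂ N₁) _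

/-- `O_π(G)` is a `π`-group -/
theorem piCore_isPi {G : Type*} [Group G] [Finite G] (π : Set ℕ) :
    IsPi π (Nat.card (Cfsg.piCore π G)) := by
  set 𝒩 : Set (Subgroup G) := {N : Subgroup G | N.Normal ∧ ∀ p : ℕ, p.Prime → p ∣ Nat.card N → p ∈ π}
    with h𝒩
  have hfin : 𝒩.Finite := Set.toFinite _
  have hne : 𝒩.Nonempty := by
    refine ⟨⊥, inferInstance, ?_⟩
    intro p hp hd
    rw [Subgroup.card_bot] at hd
    exact absurd (Nat.dvd_one.mp hd) hp.one_lt.ne'
  obtain ⟨M, hM, hmax⟩ := Set.exists_max_image 𝒩 (fun N => Nat.card N) hfin hne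
  have hall : ∀ N ∈ 𝒩, N ≤ M := by
    intro N hN
    have hMn : M.Normal := hM.1
    have hNn : N.Normal := hN.1
    have hsup : M ⊔ N ∈ 𝒩 := by
      refine ⟨inferInstance, ?_⟩
      exact isPi_of_dvd (isPi_mul hM.2 hN.2) (card_sup_dvd M N)
    have h1 := hmax _ hsup
    have h2 : M = M ⊔ N := Subgroup.eq_of_le_of_card_ge le_sup_left h1
    rw [h2]; exact le_sup_right
  have heq : Cfsg.piCore π G = M := by
    apply le_antisymm
    · exact sSup_le hall
    · exact le_sSup hM
  rw [heq]
  exact hM.2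

theorem piCore_char {G : Type*} [Group G] (π : Set ℕ) : (Cfsg.piCore π G).Characteristic := by
  rw [Subgroup.characteristic_iff_le_comap]
  intro φ
  apply sSup_le
  intro N hN
  rw [← Subgroup.map_le_iff_le_comap]
  apply le_sSup
  have hNn : N.Normal := hN.1
  refine ⟨Subgroup.Normal.map hN.1 _ φ.surjective, ?_⟩
  rw [Subgroup.card_map_of_injective φ.injective]
  exact hN.2

theorem main_pi (π : Set ℕ) : ∀ n : ℕ, ∀ (G : Type u) [Group G] [Finite G], Nat.card G = n →
    ∀ A : Subgroup G, A.IsSubnormal → IsPi π (Nat.card A) → A ≤ Cfsg.piCore π G := by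
  intro n
  induction n using Nat.strong_induction_on with
  | _ n ih =>
    intro G _ _ hn A hA hAp
    by_cases htop : A = ⊤
    · apply le_sSup
      exact ⟨htop ▸ inferInstance, hAp⟩
    · obtain ⟨N, hN, hAN, hNlt⟩ := hA.exists_normal_and_le_and_lt_top_of_ne htop
      have hcard : Nat.card N < n := by
        rw [← hn]
        have h1 : Nat.card N ≤ Nat.card G := Subgroup.card_le_card_group N
        rcases Nat.lt_or_ge (Nat.card N) (Nat.card G) with h | h
        · exact h
        · exact absurd (Subgroup.eq_top_of_le_card N h) hNlt.ne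
      have hAp' : IsPi π (Nat.card (A.subgroupOf N)) := by
        rw [Nat.card_congr (Subgroup.subgroupOfEquivOfLe hAN).toEquiv]; exact hAp
      have h1 := ih (Nat.card N) hcard ↥N rfl (A.subgroupOf N) hA.subgroupOf hAp'
      have hchar : (Cfsg.piCore π ↥N).Characteristic := piCore_char π
      have hn' : ((Cfsg.piCore π ↥N).map N.subtype).Normal :=
        ConjAct.normal_of_characteristic_of_normal
      have hle : (Cfsg.piCore π ↥N).map N.subtype ≤ Cfsg.piCore π G := by
        apply le_sSup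
        refine ⟨hn', ?_⟩
        rw [Subgroup.card_map_of_injective N.subtype_injective]
        exact piCore_isPi π
      intro a ha
      apply hle
      refine ⟨⟨a, hAN ha⟩, h1 ?_, rfl⟩
      rw [Subgroup.mem_subgroupOf]; exact ha

/-- In a finite group G, every subnormal nilpotent subgroup lies in the Fitting subgroup F(G), and, for a set of primes π, every subnormal subgroup all of whose prime divisors lie in π lies in O_π(G). -/
theorem result {G : Type*} [Group G] [Finite G] (A : Subgroup G) (hA : A.IsSubnormal) : (Group.IsNilpotent A → A ≤ Cfsg.fittingSubgroup G) ∧ ∀ π : Set ℕ, (∀ p : ℕ, p.Prime → p ∣ Nat.card A → p ∈ π) → A ≤ Cfsg.piCore π G := by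
  refine ⟨?_, fun π hπ => main_pi π _ G rfl A hA hπ⟩
  intro hnil
  -- O_p(G) ≤ F(G)
  have hOp : ∀ p : ℕ, p.Prime → Cfsg.piCore {p} G ≤ Cfsg.fittingSubgroup G := by
    intro p hp
    have : Fact p.Prime := ⟨hp⟩
    apply le_sSup
    refine ⟨inferInstance, ?_⟩
    have hpi := piCore_isPi (G := G) {p}
    have hcard : Nat.card (Cfsg.piCore {p} G) = p ^ (Nat.card (Cfsg.piCore {p} G)).primeFactorsList.length := by
      apply Nat.eq_prime_pow_of_unique_prime_dvd Nat.card_pos.ne'
      intro d hd hdvd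
      exact hpi d hd hdvd
    exact (IsPGroup.of_card hcard).isNilpotent
  -- the part of F(G) in A has index 1
  set B : Subgroup A := (Cfsg.fittingSubgroup G).subgroupOf A with hB
  have hidx : B.index = 1 := by
    rw [Nat.eq_one_iff_not_exists_prime_dvd]
    intro p hp hdvd
    have : Fact p.Prime := ⟨hp⟩
    obtain ⟨P⟩ : Nonempty (Sylow p A) := inferInstance
    have hPn : (P : Subgroup A).Normal :=
      (Group.isNilpotent_of_finite_tfae.out 0 3 rfl rfl).mp hnil p ⟨hp⟩ P
    have hsub : ((P : Subgroup A).map A.subtype).IsSubnormal := by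
      apply Subgroup.IsSubnormal.trans (Subgroup.map_subtype_le _) _ hA
      rw [Subgroup.subgroupOf, Subgroup.comap_map_eq_self_of_injective A.subtype_injective]
      exact hPn.isSubnormal
    have hPpi : IsPi {p} (Nat.card ((P : Subgroup A).map A.subtype)) := by
      rw [Subgroup.card_map_of_injective A.subtype_injective]
      intro q hq hqd
      obtain ⟨k, hk⟩ := IsPGroup.iff_card.mp P.isPGroup'
      rw [hk] at hqd
      exact (Nat.prime_dvd_prime_iff_eq hq hp).mp (hq.dvd_of_dvd_pow hqd)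
    have hPle := main_pi {p} _ G rfl _ hsub hPpi
    have hPB : (P : Subgroup A) ≤ B := by
      intro x hx
      rw [hB, Subgroup.mem_subgroupOf]
      exact hOp p hp (hPle ⟨x, hx, rfl⟩)
    have h1 : B.index ∣ (P : Subgroup A).index := Subgroup.index_dvd_of_le hPB
    exact P.not_dvd_index (hdvd.trans h1)
  rw [Subgroup.index_eq_one] at hidx
  intro a ha
  have : (⟨a, ha⟩ : A) ∈ B := by rw [hidx]; exact Subgroup.mem_top _
  rw [hB, Subgroup.mem_subgroupOf] at this
  exact this

end Cfsg.Agent.S3743
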