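import Mathlib
import Cfsg.Statements.S4244

set_option autoImplicit false
open Cfsg

namespace Cfsg.Agent.S4244

/-- second isomorphism theorem for indices, absolute version -/
theorem second_iso_abs {G : Type*} [Group G] [Finite G] (N L : Subgroup G) [N.Normal] :
    L.relIndex (N ⊔ L) = (N ⊓ L).relIndex N := by
  have h1 : N.relIndex (N ⊔ L) = N.relIndex L := Subgroup.relIndex_sup_left L N
  -- card (N ⊔ L) = card N * N.relIndex (N ⊔ L)
  have c1 : Nat.card N * N.relIndex (N ⊔ L) = Nat.card (N ⊔ L : Subgroup G) := by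
    have := Subgroup.card_mul_index (N.subgroupOf (N ⊔ L))
    rw [Nat.card_congr (Subgroup.subgroupOfEquivOfLe (le_sup_left : N ≤ N ⊔ L)).toEquiv] at this
    exact this
  have c2 : Nat.card L * L.relIndex (N ⊔ L) = Nat.card (N ⊔ L : Subgroup G) := by
    have := Subgroup.card_mul_index (L.subgroupOf (N ⊔ L))
    rw [Nat.card_congr (Subgroup.subgroupOfEquivOfLe (le_sup_right : L ≤ N ⊔ L)).toEquiv] at this
    exact this
  have c3 : Nat.card (N ⊓ L : Subgroup G) * (N ⊓ L).relIndex N = Nat.card N := by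
    have := Subgroup.card_mul_index ((N ⊓ L).subgroupOf N)
    rw [Nat.card_congr (Subgroup.subgroupOfEquivOfLe (inf_le_left : N ⊓ L ≤ N)).toEquiv] at this
    exact this
  have c4 : Nat.card (N ⊓ L : Subgroup G) * N.relIndex L = Nat.card L := by
    have := Subgroup.card_mul_index ((N ⊓ L).subgroupOf L)
    rw [Nat.card_congr (Subgroup.subgroupOfEquivOfLe (inf_le_right : N ⊓ L ≤ L)).toEquiv] at this
    have h2 : (N ⊓ L).relIndex L = N.relIndex L := Subgroup.inf_relIndex_right N L
    unfold Subgroup.relIndex at h2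
    rw [h2] at this
    exact this
  have hpos : 0 < Nat.card (N ⊓ L : Subgroup G) := Nat.card_pos
  have hpos2 : 0 < N.relIndex L := by
    rcases Nat.eq_zero_or_pos (N.relIndex L) with h | h
    · rw [h, mul_zero] at c4
      have : 0 < Nat.card L := Nat.card_pos
      omega
    · exact h
  rw [h1] at c1
  have key : Nat.card (N ⊓ L : Subgroup G) * N.relIndex L * L.relIndex (N ⊔ L)
      = Nat.card (N ⊓ L : Subgroup G) * N.relIndex L * (N ⊓ L).relIndex N := by
    calc Nat.card (N ⊓ L : Subgroup G) * N.relIndex L * L.relIndex (N ⊔ L)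
        = Nat.card L * L.relIndex (N ⊔ L) := by rw [c4]
      _ = Nat.card N * N.relIndex L := by rw [c2, c1]
      _ = Nat.card (N ⊓ L : Subgroup G) * (N ⊓ L).relIndex N * N.relIndex L := by rw [c3]
      _ = _ := by ring
  exact Nat.eq_of_mul_eq_mul_left (Nat.mul_pos hpos hpos2) key

/-- relative version -/
theorem second_iso_rel {G : Type*} [Group G] [Finite G] (N L K : Subgroup G)
    (hNK : N ≤ K) (hLK : L ≤ K) (hn : (N.subgroupOf K).Normal) :
    L.relIndex (N ⊔ L) = (N ⊓ L).relIndex N := by
  have := second_iso_abs (N.subgroupOf K) (L.subgroupOf K)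
  rw [← Subgroup.subgroupOf_sup hNK hLK, Subgroup.relIndex_subgroupOf (sup_le hNK hLK)] at this
  rw [this]
  have h2 : N.subgroupOf K ⊓ L.subgroupOf K = (N ⊓ L).subgroupOf K := by
    ext x
    simp [Subgroup.mem_subgroupOf]
  rw [h2, Subgroup.relIndex_subgroupOf hNK]

theorem result {G : Type*} [Group G] [Finite G] (H : Subgroup G) (hH : H.IsSubnormal) (K : Subgroup G) :
    (H ⊓ K).relIndex H ∣ K.index := by
  induction hH generalizing K with
  | top =>
    rw [Subgroup.inf_relIndex_left, Subgroup.relIndex_top_right]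
  | step H K' hle hsub hn ih =>
    have ih' := ih K
    set L := K' ⊓ K with hL
    have hLK' : L ≤ K' := inf_le_left
    have h1 : L.relIndex (H ⊔ L) = (H ⊓ L).relIndex H := second_iso_rel H L K' hle hLK' hn
    have h2 : H ⊓ L = H ⊓ K := by
      rw [hL, ← inf_assoc, inf_eq_left.mpr hle]
    rw [h2] at h1
    rw [← h1]
    have h3 : L.relIndex (H ⊔ L) * (H ⊔ L).relIndex K' = L.relIndex K' :=
      Subgroup.relIndex_mul_relIndex L (H ⊔ L) K' le_sup_right (sup_le hle hLK')
    exact dvd_trans (Dvd.intro _ h3) ih'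

end Cfsg.Agent.S4244
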