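import Mathlib
import Cfsg.Statements.S4496
import Cfsg.Agent.S4244

set_option autoImplicit false
open Cfsg

namespace Cfsg.Agent.S4496

open scoped Pointwise

theorem mem_cent {G : Type*} [Group G] (x g : G) :
    g ∈ Subgroup.centralizer ({x} : Set G) ↔ g * x = x * g := by
  rw [Subgroup.mem_centralizer_iff]
  constructor
  · intro h; exact (h x rfl).symm
  · intro h y hy
    rw [Set.mem_singleton_iff] at hy
    rw [hy]; exact h.symm

/-- all Sylow `p`-subgroups have order `p` -/
theorem sylow_card {G : Type*} [Group G] [Finite G] (p : ℕ) [hp : Fact p.Prime] (x : G)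
    (hx : orderOf x = p) (hC : Subgroup.centralizer ({x} : Set G) = Subgroup.zpowers x)
    (P : Sylow p G) : Nat.card (P : Subgroup G) = p := by
  have hX : IsPGroup p (Subgroup.zpowers x) := by
    apply IsPGroup.of_card (n := 1)
    rw [Nat.card_zpowers, hx, pow_one]
  obtain ⟨P₀, hP₀⟩ := hX.exists_le_sylow
  have hxP₀ : x ∈ P₀ := hP₀ (Subgroup.mem_zpowers x)
  have hx1 : x ≠ 1 := by
    intro h
    rw [h, orderOf_one] at hx
    exact hp.out.one_lt.ne hx
  haveI : Nontrivial (P₀ : Subgroup G) := ⟨⟨⟨x, hxP₀⟩, 1, fun h => hx1 (congrArg Subtype.val h)⟩⟩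
  haveI : Nontrivial (Subgroup.center (P₀ : Subgroup G)) := P₀.isPGroup'.center_nontrivial
  obtain ⟨⟨z, hz⟩, hz1⟩ := exists_ne (1 : Subgroup.center (P₀ : Subgroup G))
  have hz1' : (z : G) ≠ 1 := by
    intro h
    apply hz1
    apply Subtype.ext
    apply Subtype.ext
    exact h
  have hzc := Subgroup.mem_center_iff.mp hz
  have hzx : (z : G) ∈ Subgroup.zpowers x := by
    rw [← hC, mem_cent]
    have := hzc ⟨x, hxP₀⟩
    exact (congrArg Subtype.val this).symm
  -- zpowers z = zpowers x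
  have hzz : Subgroup.zpowers (z : G) = Subgroup.zpowers x := by
    apply Subgroup.eq_of_le_of_card_ge
    · rw [Subgroup.zpowers_le]; exact hzx
    · rw [Nat.card_zpowers, Nat.card_zpowers, hx]
      have h1 : orderOf (z : G) ∣ p := by
        have := Subgroup.card_dvd_of_le ((Subgroup.zpowers_le (g := (z : G))).mpr hzx)
        rwa [Nat.card_zpowers, Nat.card_zpowers, hx] at this
      rcases (Nat.dvd_prime hp.out).mp h1 with h2 | h2
      · exact absurd (orderOf_eq_one_iff.mp h2) hz1'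
      · exact h2.ge
  have hxz : x ∈ Subgroup.zpowers (z : G) := by rw [hzz]; exact Subgroup.mem_zpowers x
  obtain ⟨k, hk⟩ := Subgroup.mem_zpowers_iff.mp hxz
  have hle : (P₀ : Subgroup G) ≤ Subgroup.zpowers x := by
    intro y hy
    rw [← hC, mem_cent, ← hk]
    have h1 : y * (z : G) = (z : G) * y := by
      have := hzc ⟨y, hy⟩
      exact congrArg Subtype.val this
    exact ((show Commute y (z : G) from h1).zpow_right k).eq
  have hP₀eq : (P₀ : Subgroup G) = Subgroup.zpowers x := le_antisymm hle hP₀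
  have hP₀card : Nat.card (P₀ : Subgroup G) = p := by rw [hP₀eq, Nat.card_zpowers, hx]
  rw [Sylow.card_eq_multiplicity] at hP₀card ⊢
  exact hP₀card

/-- the twisted map `s ↦ s x s⁻¹ x⁻¹` on a finite normal subgroup on which `x` acts freely is onto -/
theorem twist_surj {G : Type*} [Group G] (S : Subgroup G) [hSn : S.Normal] [Finite S] (x : G)
    (hfree : ∀ s ∈ S, s * x = x * s → s = 1) (u : G) (hu : u ∈ S) :
    ∃ s ∈ S, s * x * s⁻¹ * x⁻¹ = u := by
  let τ : S → S := fun s => ⟨(s : G) * x * (s : G)⁻¹ * x⁻¹, by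
    have : (s : G) * x * (s : G)⁻¹ * x⁻¹ = (s : G) * (x * (s : G)⁻¹ * x⁻¹) := by group
    rw [this]
    exact S.mul_mem s.2 (hSn.conj_mem _ (S.inv_mem s.2) x)⟩
  have hτ : Function.Injective τ := by
    intro s s' h
    have h1 : (s : G) * x * (s : G)⁻¹ * x⁻¹ = (s' : G) * x * (s' : G)⁻¹ * x⁻¹ := congrArg Subtype.val h
    have h2 : (s : G) * x * (s : G)⁻¹ = (s' : G) * x * (s' : G)⁻¹ := mul_right_cancel h1
    have h3 : ((s' : G)⁻¹ * (s : G)) * x = x * ((s' : G)⁻¹ * (s : G)) := by
      calc ((s' : G)⁻¹ * (s : G)) * x = (s' : G)⁻¹ * ((s : G) * x * (s : G)⁻¹) * (s : G) := by group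
        _ = (s' : G)⁻¹ * ((s' : G) * x * (s' : G)⁻¹) * (s : G) := by rw [h2]
        _ = _ := by group
    have h4 := hfree _ (S.mul_mem (S.inv_mem s'.2) s.2) h3
    apply Subtype.ext
    have : (s : G) = (s' : G) * ((s' : G)⁻¹ * (s : G)) := by group
    rw [this, h4, mul_one]
  obtain ⟨s, hs⟩ := (Finite.injective_iff_surjective.mp hτ) ⟨u, hu⟩
  exact ⟨s, s.2, congrArg Subtype.val hs⟩

/-- conjugation by an element normalizing `⟨x⟩` is a power map on `⟨x⟩` -/
theorem conj_pow_of_normalizer {G : Type*} [Group G] (x n : G)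
    (hn : n ∈ Subgroup.normalizer ((Subgroup.zpowers x : Subgroup G) : Set G)) :
    ∃ a : ℤ, ∀ y ∈ Subgroup.zpowers x, n * y * n⁻¹ = y ^ a := by
  have h1 : n * x * n⁻¹ ∈ Subgroup.zpowers x :=
    (Subgroup.mem_normalizer_iff.mp hn x).mp (Subgroup.mem_zpowers x)
  obtain ⟨a, ha⟩ := Subgroup.mem_zpowers_iff.mp h1
  refine ⟨a, ?_⟩
  intro y hy
  obtain ⟨j, rfl⟩ := Subgroup.mem_zpowers_iff.mp hy
  have h2 : n * x ^ j * n⁻¹ = (n * x * n⁻¹) ^ j := by
    rw [conj_zpow]
  rw [h2, ← ha, ← zpow_mul, ← zpow_mul, mul_comm]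

/-- commutators of elements normalizing `⟨x⟩` centralize `x` -/
theorem comm_normalizer_centralizes {G : Type*} [Group G] (x n₁ n₂ : G)
    (h₁ : n₁ ∈ Subgroup.normalizer ((Subgroup.zpowers x : Subgroup G) : Set G))
    (h₂ : n₂ ∈ Subgroup.normalizer ((Subgroup.zpowers x : Subgroup G) : Set G)) :
    ((n₂ * n₁)⁻¹ * (n₁ * n₂)) * x = x * ((n₂ * n₁)⁻¹ * (n₁ * n₂)) := by
  obtain ⟨a, ha⟩ := conj_pow_of_normalizer x n₁ h₁
  obtain ⟨b, hb⟩ := conj_pow_of_normalizer x n₂ h₂
  have hx := Subgroup.mem_zpowers x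
  have e1 : (n₁ * n₂) * x * (n₁ * n₂)⁻¹ = (x ^ b) ^ a := by
    have : (n₁ * n₂) * x * (n₁ * n₂)⁻¹ = n₁ * (n₂ * x * n₂⁻¹) * n₁⁻¹ := by group
    rw [this, hb x hx, ha _ (Subgroup.zpow_mem _ hx b)]
  have e2 : (n₂ * n₁) * x * (n₂ * n₁)⁻¹ = (x ^ a) ^ b := by
    have : (n₂ * n₁) * x * (n₂ * n₁)⁻¹ = n₂ * (n₁ * x * n₁⁻¹) * n₂⁻¹ := by group
    rw [this, ha x hx, hb _ (Subgroup.zpow_mem _ hx a)]
  have e3 : (n₁ * n₂) * x * (n₁ * n₂)⁻¹ = (n₂ * n₁) * x * (n₂ * n₁)⁻¹ := by
    rw [e1, e2, ← zpow_mul, ← zpow_mul, mul_comm]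
  calc ((n₂ * n₁)⁻¹ * (n₁ * n₂)) * x
      = (n₂ * n₁)⁻¹ * ((n₁ * n₂) * x * (n₁ * n₂)⁻¹) * (n₁ * n₂) := by group
    _ = (n₂ * n₁)⁻¹ * ((n₂ * n₁) * x * (n₂ * n₁)⁻¹) * (n₁ * n₂) := by rw [e3]
    _ = _ := by group

theorem part_a {G : Type*} [Group G] [Finite G] (p : ℕ) [hpf : Fact p.Prime] (x : G) (hx : orderOf x = p)
    (hC : Subgroup.centralizer ({x} : Set G) = Subgroup.zpowers x) (S : Subgroup G) [hSn : S.Normal]
    (hpS : p ∣ Nat.card S) : commutator G ≤ S := by
  have hp : p.Prime := hpf.out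
  have hXcard : Nat.card (Subgroup.zpowers x) = p := by rw [Nat.card_zpowers, hx]
  obtain ⟨P₁⟩ : Nonempty (Sylow p G) := inferInstance
  have hfact : (Nat.card G).factorization p = 1 := by
    have h1 := sylow_card p x hx hC P₁
    rw [Sylow.card_eq_multiplicity] at h1
    exact Nat.pow_right_injective hp.two_le (by simpa using h1)
  -- X as a Sylow subgroup
  let X₀ : Sylow p G := Sylow.ofCard (Subgroup.zpowers x) (by rw [hXcard, hfact, pow_one])
  have hX₀ : (X₀ : Subgroup G) = Subgroup.zpowers x := Sylow.coe_ofCard _ _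
  -- x ∈ S
  have hxS : x ∈ S := by
    obtain ⟨y, hy⟩ := exists_prime_orderOf_dvd_card' (G := S) p hpS
    have hY : IsPGroup p (Subgroup.zpowers (y : G)) := by
      apply IsPGroup.of_card (n := 1)
      rw [Nat.card_zpowers, Subgroup.orderOf_coe, hy, pow_one]
    obtain ⟨P, hP⟩ := hY.exists_le_sylow
    have hPeq : Subgroup.zpowers (y : G) = (P : Subgroup G) := by
      apply Subgroup.eq_of_le_of_card_ge hP
      rw [sylow_card p x hx hC P, Nat.card_zpowers, Subgroup.orderOf_coe, hy]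
    obtain ⟨g, hg⟩ := MulAction.exists_smul_eq G X₀ P
    have h1 : g * x * g⁻¹ ∈ (P : Subgroup G) := by
      rw [← hg, Sylow.coe_subgroup_smul, Subgroup.mem_pointwise_smul_iff_inv_smul_mem,
        MulAut.smul_def, MulAut.conj_inv_apply, hX₀]
      have : g⁻¹ * (g * x * g⁻¹) * g = x := by group
      rw [this]; exact Subgroup.mem_zpowers x
    rw [← hPeq] at h1
    have h2 : g * x * g⁻¹ ∈ S := by
      have : Subgroup.zpowers (y : G) ≤ S := (Subgroup.zpowers_le).mpr y.2
      exact this h1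
    have h3 := hSn.conj_mem _ h2 g⁻¹
    have : g⁻¹ * (g * x * g⁻¹) * g⁻¹⁻¹ = x := by group
    rwa [this] at h3
  have hXS : Subgroup.zpowers x ≤ S := (Subgroup.zpowers_le).mpr hxS
  -- Frattini
  have hfactS : (Nat.card S).factorization p = 1 := by
    have h1 : (Nat.card S).factorization p ≤ (Nat.card G).factorization p :=
      (Nat.factorization_le_iff_dvd Nat.card_pos.ne' Nat.card_pos.ne').mpr
        (Subgroup.card_subgroup_dvd_card S) p
    have h2 : 1 ≤ (Nat.card S).factorization p :=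
      (hp.dvd_iff_one_le_factorization Nat.card_pos.ne').mp hpS
    omega
  let P : Sylow p S := Sylow.ofCard ((Subgroup.zpowers x).subgroupOf S) (by
    rw [Nat.card_congr (Subgroup.subgroupOfEquivOfLe hXS).toEquiv, hXcard, hfactS, pow_one])
  have hPmap : (P : Subgroup S).map S.subtype = Subgroup.zpowers x := by
    have : (P : Subgroup S) = (Subgroup.zpowers x).subgroupOf S := Sylow.coe_ofCard _ _
    rw [this]
    exact Subgroup.map_subgroupOf_eq_of_le hXS
  have hfrat : Subgroup.normalizer ((Subgroup.zpowers x : Subgroup G) : Set G) ⊔ S = ⊤ := by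
    have := Sylow.normalizer_sup_eq_top P
    rw [hPmap] at this
    exact this
  have hdec : ∀ g : G, ∃ n ∈ Subgroup.normalizer ((Subgroup.zpowers x : Subgroup G) : Set G),
      ∃ s ∈ S, g = n * s := by
    intro g
    have hg : g ∈ ((Subgroup.normalizer ((Subgroup.zpowers x : Subgroup G) : Set G) ⊔ S : Subgroup G) : Set G) := by
      rw [hfrat]; trivial
    rw [Subgroup.mul_normal] at hg
    obtain ⟨n, hn, s, hs, rfl⟩ := Set.mem_mul.mp hg
    exact ⟨n, hn, s, hs, rfl⟩
  -- the quotient is commutative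
  have hcomm : ∀ a b : G ⧸ S, a * b = b * a := by
    intro a b
    induction a using QuotientGroup.induction_on with
    | H a =>
    induction b using QuotientGroup.induction_on with
    | H b =>
    obtain ⟨n₁, hn₁, s₁, hs₁, rfl⟩ := hdec a
    obtain ⟨n₂, hn₂, s₂, hs₂, rfl⟩ := hdec b
    have e1 : (QuotientGroup.mk (n₁ * s₁) : G ⧸ S) = QuotientGroup.mk n₁ := by
      rw [QuotientGroup.mk_mul, (QuotientGroup.eq_one_iff s₁).mpr hs₁, mul_one]
    have e2 : (QuotientGroup.mk (n₂ * s₂) : G ⧸ S) = QuotientGroup.mk n₂ := by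
      rw [QuotientGroup.mk_mul, (QuotientGroup.eq_one_iff s₂).mpr hs₂, mul_one]
    rw [e1, e2, ← QuotientGroup.mk_mul, ← QuotientGroup.mk_mul, eq_comm, QuotientGroup.eq]
    have h1 := comm_normalizer_centralizes x n₁ n₂ hn₁ hn₂
    have h2 : (n₂ * n₁)⁻¹ * (n₁ * n₂) ∈ Subgroup.zpowers x := by
      rw [← hC, mem_cent]; exact h1
    exact hXS h2
  rw [commutator_def, Subgroup.commutator_le]
  intro g₁ _ g₂ _
  rw [← QuotientGroup.eq_one_iff, commutatorElement_def, QuotientGroup.mk_mul, QuotientGroup.mk_mul,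
    QuotientGroup.mk_mul, QuotientGroup.mk_inv, QuotientGroup.mk_inv, hcomm (QuotientGroup.mk g₁)]
  group

theorem part_b {G : Type*} [Group G] [Finite G] (p : ℕ) [hpf : Fact p.Prime] (x : G) (hx : orderOf x = p)
    (hC : Subgroup.centralizer ({x} : Set G) = Subgroup.zpowers x) (S : Subgroup G) [hSn : S.Normal]
    (hpS : ¬ p ∣ Nat.card S) :
    Nat.card S ∣ Nat.card {H : Subgroup G // Nat.card H = p} ∧ Nat.card S % p = 1 ∧
      orderOf (QuotientGroup.mk x : G ⧸ S) = p ∧
      Subgroup.centralizer ({(QuotientGroup.mk x : G ⧸ S)} : Set (G ⧸ S)) =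
        Subgroup.zpowers (QuotientGroup.mk x : G ⧸ S) := by
  have hp : p.Prime := hpf.out
  have hXcard : Nat.card (Subgroup.zpowers x) = p := by rw [Nat.card_zpowers, hx]
  -- X ∩ S = 1
  have hXS : Subgroup.zpowers x ⊓ S = ⊥ := by
    have hd1 : Nat.card (Subgroup.zpowers x ⊓ S : Subgroup G) ∣ p :=
      hXcard ▸ Subgroup.card_dvd_of_le inf_le_left
    have hd2 : Nat.card (Subgroup.zpowers x ⊓ S : Subgroup G) ∣ Nat.card S :=
      Subgroup.card_dvd_of_le inf_le_right
    rcases (Nat.dvd_prime hp).mp hd1 with h | h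
    · exact Subgroup.card_eq_one.mp h
    · exact absurd (h ▸ hd2) hpS
  have hfree : ∀ s ∈ S, s * x = x * s → s = 1 := by
    intro s hs hsx
    have h1 : s ∈ Subgroup.zpowers x := by rw [← hC, mem_cent]; exact hsx
    have : s ∈ Subgroup.zpowers x ⊓ S := ⟨h1, hs⟩
    rw [hXS] at this
    exact this
  have hxS : x ∉ S := by
    intro h
    have : x ∈ Subgroup.zpowers x ⊓ S := ⟨Subgroup.mem_zpowers x, h⟩
    rw [hXS, Subgroup.mem_bot] at this
    rw [this, orderOf_one] at hx
    exact hp.one_lt.ne hx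
  obtain ⟨P₁⟩ : Nonempty (Sylow p G) := inferInstance
  have hfact : (Nat.card G).factorization p = 1 := by
    have h1 := sylow_card p x hx hC P₁
    rw [Sylow.card_eq_multiplicity] at h1
    exact Nat.pow_right_injective hp.two_le (by simpa using h1)
  let X₀ : Sylow p G := Sylow.ofCard (Subgroup.zpowers x) (by rw [hXcard, hfact, pow_one])
  have hX₀ : (X₀ : Subgroup G) = Subgroup.zpowers x := Sylow.coe_ofCard _ _
  refine ⟨?_, ?_, ?_, ?_⟩
  · -- divisibility
    have hcardH : ∀ H : {H : Subgroup G // Nat.card H = p},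
        Nat.card (H.1) = p ^ (Nat.card G).factorization p := by
      intro H; rw [H.2, hfact, pow_one]
    let e : Sylow p G ≃ {H : Subgroup G // Nat.card H = p} :=
      { toFun := fun P => ⟨(P : Subgroup G), sylow_card p x hx hC P⟩
        invFun := fun H => Sylow.ofCard (p := p) H.1 (hcardH H)
        left_inv := fun P => Sylow.ext (Sylow.coe_ofCard _ _)
        right_inv := fun H => Subtype.ext (Sylow.coe_ofCard (p := p) H.1 (hcardH H)) }
    rw [← Nat.card_congr e, Sylow.card_eq_index_normalizer X₀]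
    set L : Subgroup G := Subgroup.normalizer ((X₀ : Subgroup G) : Set G) with hL
    have hSL : S ⊓ L = ⊥ := by
      rw [Subgroup.eq_bot_iff_forall]
      intro s hs
      obtain ⟨hsS, hsL⟩ := Subgroup.mem_inf.mp hs
      rw [hL, hX₀] at hsL
      have h1 : s * x * s⁻¹ ∈ Subgroup.zpowers x :=
        (Subgroup.mem_normalizer_iff.mp hsL x).mp (Subgroup.mem_zpowers x)
      have h2 : s * x * s⁻¹ * x⁻¹ ∈ Subgroup.zpowers x :=
        Subgroup.mul_mem _ h1 (Subgroup.inv_mem _ (Subgroup.mem_zpowers x))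
      have h3 : s * x * s⁻¹ * x⁻¹ ∈ S := by
        have : s * x * s⁻¹ * x⁻¹ = s * (x * s⁻¹ * x⁻¹) := by group
        rw [this]
        exact S.mul_mem hsS (hSn.conj_mem _ (S.inv_mem hsS) x)
      have h4 : s * x * s⁻¹ * x⁻¹ ∈ Subgroup.zpowers x ⊓ S := ⟨h2, h3⟩
      rw [hXS, Subgroup.mem_bot] at h4
      apply hfree s hsS
      have := congrArg (fun t => t * x * s) h4
      simpa [mul_assoc] using this
    have h1 := Cfsg.Agent.S4244.second_iso_abs S L
    rw [hSL, Subgroup.relIndex_bot_left] at h1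
    rw [← h1]
    exact Subgroup.relIndex_dvd_index_of_le le_sup_right
  · -- congruence
    have hX : IsPGroup p (Subgroup.zpowers x) := by
      apply IsPGroup.of_card (n := 1)
      rw [hXcard, pow_one]
    letI : MulAction (Subgroup.zpowers x) S :=
      MulAction.compHom S ((MulAut.conjNormal (H := S)).comp (Subgroup.zpowers x).subtype)
    have hsm : ∀ (y : Subgroup.zpowers x) (s : S), ((y • s : S) : G) = (y : G) * (s : G) * (y : G)⁻¹ := by
      intro y s; rfl
    have hmod := hX.card_modEq_card_fixedPoints S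
    have hfix : Nat.card (MulAction.fixedPoints (Subgroup.zpowers x) S) = 1 := by
      rw [Nat.card_eq_one_iff_unique]
      refine ⟨⟨?_⟩, ⟨⟨1, ?_⟩⟩⟩
      · rintro ⟨s, hs⟩ ⟨s', hs'⟩
        apply Subtype.ext
        have key : ∀ t : S, t ∈ MulAction.fixedPoints (Subgroup.zpowers x) S → t = 1 := by
          intro t ht
          have h1 := ht ⟨x, Subgroup.mem_zpowers x⟩
          have h2 : x * (t : G) * x⁻¹ = (t : G) := by
            have := congrArg Subtype.val h1
            rwa [hsm] at this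
          apply Subtype.ext
          apply hfree _ t.2
          calc (t : G) * x = (x * (t : G) * x⁻¹) * x := by rw [h2]
            _ = x * (t : G) := by group
        show s = s'
        rw [key s hs, key s' hs']
      · intro y
        apply Subtype.ext
        rw [hsm]
        simp
    rw [hfix] at hmod
    have := hmod
    unfold Nat.ModEq at this
    rw [this]
    exact Nat.mod_eq_of_lt hp.one_lt
  · -- order of the image
    have h1 : orderOf (QuotientGroup.mk x : G ⧸ S) ∣ p := by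
      rw [← hx]; exact orderOf_map_dvd (QuotientGroup.mk' S) x
    rcases (Nat.dvd_prime hp).mp h1 with h | h
    · exfalso
      apply hxS
      exact (QuotientGroup.eq_one_iff x).mp (orderOf_eq_one_iff.mp h)
    · exact h
  · -- centralizer in the quotient
    ext g
    induction g using QuotientGroup.induction_on with
    | H g =>
    rw [mem_cent]
    constructor
    · intro hg
      have hu : g * x * g⁻¹ * x⁻¹ ∈ S := by
        rw [← QuotientGroup.eq_one_iff, QuotientGroup.mk_mul, QuotientGroup.mk_mul,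
          QuotientGroup.mk_mul, QuotientGroup.mk_inv, QuotientGroup.mk_inv, hg]
        group
      obtain ⟨s, hs, hsu⟩ := twist_surj S x hfree _ hu
      have h1 : s * x * s⁻¹ = g * x * g⁻¹ := mul_right_cancel hsu
      have h2 : (s⁻¹ * g) * x = x * (s⁻¹ * g) := by
        calc (s⁻¹ * g) * x = s⁻¹ * (g * x * g⁻¹) * g := by group
          _ = s⁻¹ * (s * x * s⁻¹) * g := by rw [h1]
          _ = _ := by group
      have h3 : s⁻¹ * g ∈ Subgroup.zpowers x := by rw [← hC, mem_cent]; exact h2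
      obtain ⟨k, hk⟩ := Subgroup.mem_zpowers_iff.mp h3
      rw [Subgroup.mem_zpowers_iff]
      refine ⟨k, ?_⟩
      rw [← QuotientGroup.mk_zpow, hk, QuotientGroup.mk_mul, QuotientGroup.mk_inv,
        (QuotientGroup.eq_one_iff s).mpr hs]
      simp
    · intro hg
      obtain ⟨k, hk⟩ := Subgroup.mem_zpowers_iff.mp hg
      rw [← hk]
      exact ((Commute.refl (QuotientGroup.mk x : G ⧸ S)).zpow_left k).eq

theorem result {G : Type*} [Group G] [Finite G] (p : ℕ) (hp : p.Prime) (x : G) (hx : orderOf x = p) (hC : Subgroup.centralizer ({x} : Set G) = Subgroup.zpowers x) (S : Subgroup G) [S.Normal] : (p ∣ Nat.card S → commutator G ≤ S) ∧ (¬ p ∣ Nat.card S → Nat.card S ∣ Nat.card {H : Subgroup G // Nat.card H = p} ∧ Nat.card S % p = 1 ∧ orderOf (QuotientGroup.mk x : G ⧸ S) = p ∧ Subgroup.centralizer ({(QuotientGroup.mk x : G ⧸ S)} : Set (G ⧸ S)) = Subgroup.zpowers (QuotientGroup.mk x : G ⧸ S)) := by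
  haveI : Fact p.Prime := ⟨hp⟩
  exact ⟨part_a p x hx hC S, part_b p x hx hC S⟩

end Cfsg.Agent.S4496
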