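import Mathlib
import Cfsg.Statements.S1259

set_option autoImplicit false
open Cfsg
open scoped commutatorElement

namespace Cfsg.Agent.S1259

/-- In a quasisimple group, every subnormal subgroup is either the whole group or central. -/
theorem result {X : Type*} [Group X] [Finite X] (hX : Cfsg.IsQuasisimple X) (H : Subgroup X) (hH : H.IsSubnormal) : H = ⊤ ∨ H ≤ Subgroup.center X := by
  obtain ⟨hperf, hsimple⟩ := hX
  have hsurj : Function.Surjective (QuotientGroup.mk' (Subgroup.center X)) :=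
    QuotientGroup.mk'_surjective _
  have hmap := hH.map hsurj
  rcases hmap.eq_bot_or_top_of_isSimpleGroup hsimple with hbot | htop
  · right
    rw [Subgroup.map_eq_bot_iff, QuotientGroup.ker_mk'] at hbot
    exact hbot
  · left
    have hsup : H ⊔ Subgroup.center X = ⊤ := by
      have := Subgroup.comap_map_eq (QuotientGroup.mk' (Subgroup.center X)) H
      rw [htop, Subgroup.comap_top, QuotientGroup.ker_mk'] at this
      exact this.symm
    have hle : commutator X ≤ H := by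
      rw [commutator_def, ← hsup, Subgroup.commutator_le]
      intro g₁ hg₁ g₂ hg₂
      rw [← SetLike.mem_coe, Subgroup.mul_normal, Set.mem_mul] at hg₁ hg₂
      obtain ⟨h₁, hh₁, z₁, hz₁, rfl⟩ := hg₁
      obtain ⟨h₂, hh₂, z₂, hz₂, rfl⟩ := hg₂
      have hz₁' : z₁ ∈ Subgroup.center X := hz₁
      have hz₂' : z₂ ∈ Subgroup.center X := hz₂
      rw [Subgroup.mem_center_iff] at hz₁' hz₂'
      have : ⁅h₁ * z₁, h₂ * z₂⁆ = ⁅h₁, h₂⁆ := by
        have c6 : ∀ g, g * z₁⁻¹ = z₁⁻¹ * g := fun g => ((show Commute g z₁ from hz₁' g).inv_right).eq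
        have c7 : ∀ g, g * z₂⁻¹ = z₂⁻¹ * g := fun g => ((show Commute g z₂ from hz₂' g).inv_right).eq
        rw [commutatorElement_def, commutatorElement_def, mul_inv_rev, mul_inv_rev]
        calc h₁ * z₁ * (h₂ * z₂) * (z₁⁻¹ * h₁⁻¹) * (z₂⁻¹ * h₂⁻¹)
            = h₁ * z₁ * (h₂ * z₂) * z₁⁻¹ * h₁⁻¹ * z₂⁻¹ * h₂⁻¹ := by simp only [mul_assoc]
          _ = z₁⁻¹ * (h₁ * z₁ * (h₂ * z₂)) * h₁⁻¹ * z₂⁻¹ * h₂⁻¹ := by rw [c6]
          _ = z₁⁻¹ * (z₁ * h₁ * (h₂ * z₂)) * h₁⁻¹ * z₂⁻¹ * h₂⁻¹ := by rw [hz₁' h₁]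
          _ = h₁ * (h₂ * z₂) * h₁⁻¹ * z₂⁻¹ * h₂⁻¹ := by simp only [mul_assoc, inv_mul_cancel_left]
          _ = z₂⁻¹ * (h₁ * (h₂ * z₂) * h₁⁻¹) * h₂⁻¹ := by rw [c7]
          _ = z₂⁻¹ * (h₁ * (z₂ * h₂) * h₁⁻¹) * h₂⁻¹ := by rw [hz₂' h₂]
          _ = z₂⁻¹ * (z₂ * h₁ * h₂ * h₁⁻¹) * h₂⁻¹ := by rw [← mul_assoc h₁ z₂ h₂, hz₂' h₁]
          _ = h₁ * h₂ * h₁⁻¹ * h₂⁻¹ := by simp only [mul_assoc, inv_mul_cancel_left]
      rw [this]
      exact H.mul_mem (H.mul_mem (H.mul_mem hh₁ hh₂) (H.inv_mem hh₁)) (H.inv_mem hh₂)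
    rw [hperf.commutator_eq_top] at hle
    exact top_le_iff.mp hle

end Cfsg.Agent.S1259
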