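import Cfsg.Statements.S1754

set_option autoImplicit false
open Cfsg

namespace Cfsg.Agent.S1754

theorem quasisimple_of_equiv {A A' : Type*} [Group A] [Group A'] (e : A ≃* A')
    (h : Cfsg.IsQuasisimple A) : Cfsg.IsQuasisimple A' := by
  obtain ⟨hp, hs⟩ := h
  haveI := hp
  refine ⟨Group.IsPerfect.ofSurjective (f := e.toMonoidHom) e.surjective, ?_⟩
  have hc : (Subgroup.center A).map e.toMonoidHom = Subgroup.center A' := by
    ext x
    constructor
    · rintro ⟨a, ha, rfl⟩
      rw [Subgroup.mem_center_iff]
      intro y
      obtain ⟨b, rfl⟩ := e.surjective y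
      have := Subgroup.mem_center_iff.mp ha b
      show e b * e a = e a * e b
      rw [← map_mul, ← map_mul, this]
    · intro hx
      refine ⟨e.symm x, ?_, by simp⟩
      show e.symm x ∈ Subgroup.center A
      rw [Subgroup.mem_center_iff]
      intro b
      apply e.injective
      have := Subgroup.mem_center_iff.mp hx (e b)
      simp only [map_mul, MulEquiv.apply_symm_apply]
      exact this
  have e' : A ⧸ Subgroup.center A ≃* A' ⧸ Subgroup.center A' :=
    QuotientGroup.congr _ _ e hc
  haveI := hs
  exact e'.symm.isSimpleGroup

/-- Let A be a standard subgroup of the finite group G (A quasisimple, C_G(A) tightly embedded of even order, A commuting elementwise with no other conjugate of itself, and N_G(A) = N_G(C_G(A))), and let t be an involution of G centralizing A. Then the centralizer of t lies in the normalizer of A; in particular A, viewed inside C_G(t), is a component of C_G(t). -/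
theorem result {G : Type*} [Group G] [Finite G]
    (A : Subgroup G) (hA : Cfsg.IsStandardSubgroup A) (t : G) (ht : orderOf t = 2) (htA : t ∈ Subgroup.centralizer (A : Set G)) :
    Subgroup.centralizer ({t} : Set G) ≤ Subgroup.normalizer (A : Set G) ∧
      Cfsg.IsComponent (A.subgroupOf (Subgroup.centralizer ({t} : Set G))) := by
  obtain ⟨hq, ⟨heven, htight⟩, hcomm, hnorm⟩ := hA
  have h1 : Subgroup.centralizer ({t} : Set G) ≤ Subgroup.normalizer (A : Set G) := by
    intro c hc
    rw [hnorm]
    by_contra hcn
    have hodd := htight c hcn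
    have hct : c * t * c⁻¹ = t := by
      have := Subgroup.mem_centralizer_singleton_iff.mp hc
      rw [this]; group
    have htK : t ∈ Subgroup.centralizer (A : Set G) ⊓
        (Subgroup.centralizer (A : Set G)).map (MulAut.conj c).toMonoidHom :=
      ⟨htA, ⟨t, htA, by simp only [MulEquiv.coe_toMonoidHom, MulAut.conj_apply]; exact hct⟩⟩
    have h2 : 2 ∣ Nat.card ↥(Subgroup.centralizer (A : Set G) ⊓
        (Subgroup.centralizer (A : Set G)).map (MulAut.conj c).toMonoidHom) := by
      have := orderOf_dvd_natCard (⟨t, htK⟩ : ↥(Subgroup.centralizer (A : Set G) ⊓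
        (Subgroup.centralizer (A : Set G)).map (MulAut.conj c).toMonoidHom))
      rwa [Subgroup.orderOf_mk, ht] at this
    exact (Nat.not_even_iff_odd.mpr hodd) (even_iff_two_dvd.mpr h2)
  have hAC : A ≤ Subgroup.centralizer ({t} : Set G) := by
    intro a ha
    rw [Subgroup.mem_centralizer_singleton_iff]
    exact (Subgroup.mem_centralizer_iff.mp htA a ha)
  refine ⟨h1, ?_, ?_⟩
  · have : (A.subgroupOf (Subgroup.centralizer ({t} : Set G))).Normal :=
      Subgroup.normal_subgroupOf_of_le_normalizer h1
    exact this.isSubnormal
  · exact quasisimple_of_equiv (Subgroup.subgroupOfEquivOfLe hAC).symm hq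

end Cfsg.Agent.S1754
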