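import Cfsg.Statements.S1265
import Cfsg.Agent.S3743
import Cfsg.Agent.S1754
import Cfsg.Agent.Lib.Lead_Fitting

set_option autoImplicit false
open Cfsg

namespace Cfsg.Agent.S1265

theorem component_conj {G : Type*} [Group G] (K : Subgroup G) (hK : Cfsg.IsComponent K) (g : G) :
    Cfsg.IsComponent (K.map (MulAut.conj g).toMonoidHom) := by
  refine ⟨hK.1.map (MulAut.conj g).surjective, ?_⟩
  exact Cfsg.Agent.S1754.quasisimple_of_equiv
    (K.equivMapOfInjective _ (MulAut.conj g).injective) hK.2

theorem layer_normal (G : Type*) [Group G] : (Cfsg.layer G).Normal := by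
  constructor
  intro n hn g
  have h : Cfsg.layer G ≤ (Cfsg.layer G).comap (MulAut.conj g).toMonoidHom := by
    apply sSup_le
    intro K hK
    rw [← Subgroup.map_le_iff_le_comap]
    exact le_sSup (component_conj K hK g)
  exact h hn

theorem fitting_normal (G : Type*) [Group G] [Finite G] : (Cfsg.fittingSubgroup G).Normal := by
  rw [Cfsg.Agent.Lib.Lead_Fitting.fitting_eq]
  exact Cfsg.Agent.Lib.Lead_Fitting.F0_normal G

theorem gf_normal (G : Type*) [Group G] [Finite G] : (Cfsg.generalizedFittingSubgroup G).Normal := by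
  haveI := layer_normal G
  haveI := fitting_normal G
  unfold Cfsg.generalizedFittingSubgroup
  infer_instance

theorem nilpotent_of_commutator_le_center {K : Type*} [Group K]
    (h : commutator K ≤ Subgroup.center K) : Group.IsNilpotent K := by
  rw [Group.isNilpotent_iff]
  refine ⟨2, ?_⟩
  rw [eq_top_iff]
  intro x _
  rw [Subgroup.mem_upperCentralSeries_succ_iff]
  intro y
  rw [Subgroup.upperCentralSeries_one]
  apply h
  rw [commutator_def]
  exact Subgroup.commutator_mem_commutator (Subgroup.mem_top x) (Subgroup.mem_top y)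

/-- For a finite group G, the centralizer of the generalized Fitting subgroup F*(G) is contained in F*(G). -/
theorem result {G : Type*} [Group G] [Finite G] : Subgroup.centralizer (Cfsg.generalizedFittingSubgroup G : Set G) ≤ Cfsg.generalizedFittingSubgroup G := by
  classical
  haveI hFn : (Cfsg.generalizedFittingSubgroup G).Normal := gf_normal G
  set Fs := Cfsg.generalizedFittingSubgroup G with hFs
  set H := Subgroup.centralizer (Fs : Set G) with hH
  have hHn : H.Normal := inferInstance
  by_contra hcon
  let 𝒦 : Set (Subgroup G) := {K | K.IsSubnormal ∧ K ≤ H ∧ ¬ K ≤ Fs}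
  have hH𝒦 : H ∈ 𝒦 := ⟨hHn.isSubnormal, le_rfl, hcon⟩
  obtain ⟨K, hK⟩ := (Set.toFinite 𝒦).exists_minimal ⟨H, hH𝒦⟩
  obtain ⟨hKsn, hKH, hKF⟩ := hK.prop
  have hprop : ∀ N : Subgroup ↥K, N.Normal → N ≠ ⊤ → N ≤ Subgroup.center ↥K := by
    intro N hN hNtop
    have hNsn : (N.map K.subtype).IsSubnormal := hN.isSubnormal.trans' hKsn
    have hNK : N.map K.subtype ≤ K := Subgroup.map_subtype_le N
    have hNF : N.map K.subtype ≤ Fs := by
      by_contra h
      have hle := hK.2 (show N.map K.subtype ∈ 𝒦 from ⟨hNsn, hNK.trans hKH, h⟩) hNK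
      apply hNtop
      rw [eq_top_iff]
      intro x _
      obtain ⟨y, hy, hxy⟩ := hle x.2
      have : y = x := Subtype.ext hxy
      rwa [← this]
    intro n hn
    rw [Subgroup.mem_center_iff]
    intro k
    have h1 : (n : G) ∈ Fs := hNF ⟨n, hn, rfl⟩
    have h2 := Subgroup.mem_centralizer_iff.mp (hKH k.2) (n : G) h1
    exact Subtype.ext h2.symm
  by_cases hperf : commutator ↥K = ⊤
  · have hZne : Subgroup.center ↥K ≠ ⊤ := by
      intro h
      apply hKF
      have hcomm : commutator ↥K = ⊥ := by
        rw [commutator_def, Subgroup.commutator_eq_bot_iff_le_centralizer, Subgroup.coe_top,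
          Subgroup.centralizer_univ, h]
      rw [hcomm] at hperf
      intro x hx
      have h1 : (⟨x, hx⟩ : ↥K) ∈ (⊥ : Subgroup ↥K) := by rw [hperf]; trivial
      rw [Subgroup.mem_bot] at h1
      have h2 : x = 1 := congrArg Subtype.val h1
      rw [h2]; exact Subgroup.one_mem _
    have hqs : Cfsg.IsQuasisimple ↥K := by
      refine ⟨⟨hperf⟩, ?_⟩
      refine { exists_pair_ne := ?_, eq_bot_or_eq_top_of_normal := ?_ }
      · obtain ⟨x, hx⟩ : ∃ x : ↥K, x ∉ Subgroup.center ↥K := by
          by_contra h
          push Not at h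
          exact hZne (eq_top_iff.mpr (fun x _ => h x))
        refine ⟨(QuotientGroup.mk' _) x, 1, ?_⟩
        intro h
        exact hx ((QuotientGroup.eq_one_iff x).mp h)
      · intro N hN
        by_cases h : N.comap (QuotientGroup.mk' (Subgroup.center ↥K)) = ⊤
        · right
          rw [eq_top_iff]
          intro y _
          obtain ⟨x, rfl⟩ := QuotientGroup.mk'_surjective _ y
          have : x ∈ N.comap (QuotientGroup.mk' (Subgroup.center ↥K)) := by rw [h]; trivial
          exact this
        · left
          have hle := hprop _ (hN.comap _) h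
          rw [eq_bot_iff]
          intro y hy
          obtain ⟨x, rfl⟩ := QuotientGroup.mk'_surjective _ y
          rw [Subgroup.mem_bot]
          exact (QuotientGroup.eq_one_iff x).mpr (hle hy)
    have hle : K ≤ Cfsg.layer G := le_sSup ⟨hKsn, hqs⟩
    exact hKF (hle.trans le_sup_left)
  · have hc : commutator ↥K ≤ Subgroup.center ↥K := hprop _ inferInstance hperf
    have hnil : Group.IsNilpotent ↥K := nilpotent_of_commutator_le_center hc
    have hle := (Cfsg.Agent.S3743.result K hKsn).1 hnil
    exact hKF (hle.trans le_sup_right)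

end Cfsg.Agent.S1265
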