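import Mathlib
import Cfsg.Statements.S3747
import Cfsg.Agent.S1265
import Cfsg.Agent.S3743
import Cfsg.Agent.Lib.Helper3_Components

set_option autoImplicit false

open Cfsg

namespace Cfsg.Agent.S3747

open Cfsg.Agent.Lib.Helper3_Components
open scoped commutatorElement

universe u

/-- decomposition in the join of two elementwise commuting subgroups -/
theorem exists_mul_of_mem_sup {G : Type*} [Group G] (L M : Subgroup G)
    (h : ∀ a ∈ L, ∀ b ∈ M, a * b = b * a) (x : G) (hx : x ∈ L ⊔ M) :
    ∃ l ∈ L, ∃ m ∈ M, x = l * m := by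
  rw [← Subgroup.closure_eq L, ← Subgroup.closure_eq M, ← Subgroup.closure_union] at hx
  refine Subgroup.closure_induction (p := fun x _ => ∃ l ∈ L, ∃ m ∈ M, x = l * m) ?_ ?_ ?_ ?_ hx
  · intro y hy
    rcases hy with hy | hy
    · exact ⟨y, hy, 1, M.one_mem, (mul_one y).symm⟩
    · exact ⟨1, L.one_mem, y, hy, (one_mul y).symm⟩
  · exact ⟨1, L.one_mem, 1, M.one_mem, (mul_one 1).symm⟩
  · rintro y z _ _ ⟨l, hl, m, hm, rfl⟩ ⟨l', hl', m', hm', rfl⟩
    refine ⟨l * l', L.mul_mem hl hl', m * m', M.mul_mem hm hm', ?_⟩
    calc l * m * (l' * m') = l * (m * l') * m' := by group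
      _ = l * (l' * m) * m' := by rw [← h l' hl' m hm]
      _ = l * l' * (m * m') := by group
  · rintro y _ ⟨l, hl, m, hm, rfl⟩
    refine ⟨l⁻¹, L.inv_mem hl, m⁻¹, M.inv_mem hm, ?_⟩
    rw [mul_inv_rev, h l⁻¹ (L.inv_mem hl) m⁻¹ (M.inv_mem hm)]

/-- pairwise commuting centerless subgroups generate a centerless subgroup -/
theorem eq_one_of_central_sup {G : Type*} [Group G] [DecidableEq (Subgroup G)]
    (T : Finset (Subgroup G)) :
    (∀ L ∈ T, ∀ L' ∈ T, L ≠ L' → ∀ a ∈ L, ∀ b ∈ L', a * b = b * a) →
    (∀ L ∈ T, ∀ l ∈ L, (∀ y ∈ L, l * y = y * l) → l = 1) →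
    ∀ x ∈ T.sup id, (∀ L ∈ T, ∀ y ∈ L, x * y = y * x) → x = 1 := by
  induction T using Finset.induction_on with
  | empty =>
    intro _ _ x hx _
    rw [Finset.sup_empty] at hx
    exact Subgroup.mem_bot.mp hx
  | insert L T hLT ih =>
    intro hcomm hcen x hx hxc
    rw [Finset.sup_insert] at hx
    have hLM : ∀ a ∈ (id L : Subgroup G), ∀ b ∈ T.sup id, a * b = b * a := by
      intro a ha b hb
      have hle : T.sup id ≤ Subgroup.centralizer ((L : Subgroup G) : Set G) := by
        apply Finset.sup_le
        intro L' hL' b hb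
        rw [Subgroup.mem_centralizer_iff]
        intro a ha
        have hne : L ≠ L' := fun h => hLT (h ▸ hL')
        exact hcomm L (Finset.mem_insert_self L T) L' (Finset.mem_insert_of_mem hL') hne a ha b hb
      exact Subgroup.mem_centralizer_iff.mp (hle hb) a ha
    obtain ⟨l, hl, m, hm, rfl⟩ := exists_mul_of_mem_sup _ _ hLM x hx
    have hl1 : l = 1 := by
      apply hcen L (Finset.mem_insert_self L T) l hl
      intro y hy
      have h1 := hxc L (Finset.mem_insert_self L T) y hy
      have h2 : m * y = y * m := (hLM y hy m hm).symm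
      have h3 : l * y * m = y * l * m := by
        calc l * y * m = l * (y * m) := by group
          _ = l * (m * y) := by rw [h2]
          _ = l * m * y := by group
          _ = y * (l * m) := h1
          _ = y * l * m := by group
      exact mul_right_cancel h3
    rw [hl1, one_mul] at hxc ⊢
    apply ih
    · intro L₁ h₁ L₂ h₂
      exact hcomm L₁ (Finset.mem_insert_of_mem h₁) L₂ (Finset.mem_insert_of_mem h₂)
    · intro L₁ h₁
      exact hcen L₁ (Finset.mem_insert_of_mem h₁)
    · exact hm
    · intro L₁ h₁
      exact hxc L₁ (Finset.mem_insert_of_mem h₁)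

/-- a non-abelian simple group is quasisimple -/
theorem quasisimple_of_simple {A : Type*} [Group A] [IsSimpleGroup A]
    (hna : ∃ a b : A, a * b ≠ b * a) : Cfsg.IsQuasisimple A := by
  obtain ⟨a, b, hab⟩ := hna
  constructor
  · rw [Group.isPerfect_def]
    rcases (inferInstance : (commutator A).Normal).eq_bot_or_eq_top with h | h
    · exfalso
      apply hab
      have h1 : ⁅a, b⁆ ∈ commutator A := Subgroup.commutator_mem_commutator (Subgroup.mem_top a) (Subgroup.mem_top b)
      rw [h, Subgroup.mem_bot, commutatorElement_eq_one_iff_mul_comm] at h1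
      exact h1
    · exact h
  · haveI : Nontrivial (A ⧸ Subgroup.center A) := by
      refine ⟨⟨QuotientGroup.mk a, 1, ?_⟩⟩
      intro h
      rw [QuotientGroup.eq_one_iff, Subgroup.mem_center_iff] at h
      exact hab (h b).symm
    exact IsSimpleGroup.isSimpleGroup_of_surjective (QuotientGroup.mk' (Subgroup.center A))
      (QuotientGroup.mk'_surjective _)

/-- the normal closure of a centerless component is a minimal normal subgroup -/
theorem minimal_normalClosure {G : Type u} [Group G] [Finite G] (K : Subgroup G)
    (hK : Cfsg.IsComponent K) (hZ : Subgroup.center ↥K = ⊥) :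
    Subgroup.normalClosure (K : Set G) ≠ ⊥ ∧ ∀ N : Subgroup G, N.Normal →
      N ≤ Subgroup.normalClosure (K : Set G) → N = ⊥ ∨ N = Subgroup.normalClosure (K : Set G) := by
  classical
  letI : Fintype G := Fintype.ofFinite G
  constructor
  · intro h
    haveI := quasisimple_nontrivial hK.2
    obtain ⟨k, hk⟩ := exists_ne (1 : ↥K)
    apply hk
    have : (k : G) ∈ Subgroup.normalClosure (K : Set G) := Subgroup.le_normalClosure k.2
    rw [h, Subgroup.mem_bot] at this
    exact Subtype.ext this
  · intro N hN hNle
    rcases component_le_or_commute K N hK hN.isSubnormal with h | h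
    · right
      exact le_antisymm hNle (Subgroup.normalClosure_le_normal h)
    · left
      rw [eq_bot_iff]
      intro x hx
      rw [Subgroup.mem_bot]
      have hcK : ∀ k ∈ K, ∀ n ∈ N, k * n = n * k := fun k hk n hn =>
        commute_of_commutator_eq_bot h hk hn
      apply eq_one_of_central_sup
        ((Finset.univ : Finset G).image (fun g => K.map (MulAut.conj g).toMonoidHom))
      · intro L hL L' hL' hne a ha b hb
        obtain ⟨g, -, rfl⟩ := Finset.mem_image.mp hL
        obtain ⟨g', -, rfl⟩ := Finset.mem_image.mp hL'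
        have := components_commute _ _ (Cfsg.Agent.S1265.component_conj K hK g)
          (Cfsg.Agent.S1265.component_conj K hK g') hne
        exact commute_of_commutator_eq_bot this ha hb
      · intro L hL l hl hlc
        obtain ⟨g, -, rfl⟩ := Finset.mem_image.mp hL
        obtain ⟨k, hk, rfl⟩ := hl
        have hk1 : (⟨k, hk⟩ : ↥K) ∈ Subgroup.center ↥K := by
          rw [Subgroup.mem_center_iff]
          intro y
          apply Subtype.ext
          have h1 := hlc (MulAut.conj g y) ⟨y, y.2, rfl⟩
          simp only [MulEquiv.coe_toMonoidHom, MulAut.conj_apply] at h1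
          show (y : G) * k = k * (y : G)
          have h2 : g * (k * y) * g⁻¹ = g * (y * k) * g⁻¹ := by
            calc g * (k * y) * g⁻¹ = g * k * g⁻¹ * (g * y * g⁻¹) := by group
              _ = g * y * g⁻¹ * (g * k * g⁻¹) := h1
              _ = g * (y * k) * g⁻¹ := by group
          exact (mul_left_cancel (mul_right_cancel h2)).symm
        rw [hZ, Subgroup.mem_bot] at hk1
        have hk2 : k = 1 := congrArg Subtype.val hk1
        rw [hk2]
        simp
      · apply (show Subgroup.normalClosure (K : Set G) ≤ _ from ?_) (hNle hx)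
        rw [Subgroup.normalClosure, Subgroup.closure_le]
        intro y hy
        obtain ⟨k, hk, hky⟩ := Group.mem_conjugatesOfSet_iff.mp hy
        obtain ⟨g, rfl⟩ := isConj_iff.mp hky
        have hmem : K.map (MulAut.conj g).toMonoidHom ≤
            ((Finset.univ : Finset G).image (fun g => K.map (MulAut.conj g).toMonoidHom)).sup id :=
          Finset.le_sup (f := id) (Finset.mem_image.mpr ⟨g, Finset.mem_univ g, rfl⟩)
        exact hmem ⟨k, hk, rfl⟩
      · intro L hL y hy
        obtain ⟨g, -, rfl⟩ := Finset.mem_image.mp hL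
        obtain ⟨k, hk, rfl⟩ := hy
        simp only [MulEquiv.coe_toMonoidHom, MulAut.conj_apply]
        have h1 : g⁻¹ * x * g ∈ N := by
          have := hN.conj_mem x hx g⁻¹
          simpa using this
        have h2 := hcK k hk _ h1
        calc x * (g * k * g⁻¹) = g * ((g⁻¹ * x * g) * k) * g⁻¹ := by group
          _ = g * (k * (g⁻¹ * x * g)) * g⁻¹ := by rw [h2]
          _ = g * k * g⁻¹ * x := by group

/-- Let G be a finite group. (a) If K is a component of G with trivial centre, then the normal closure of K in G is a minimal normal subgroup of G. (b) If the Fitting subgroup of G is trivial, then the layer E(G) is generated by the minimal normal subgroups of G. -/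
theorem result {G : Type*} [Group G] [Finite G] : (∀ K : Subgroup G, Cfsg.IsComponent K → Subgroup.center ↥K = ⊥ → (Subgroup.normalClosure (K : Set G) ≠ ⊥ ∧ ∀ N : Subgroup G, N.Normal → N ≤ Subgroup.normalClosure (K : Set G) → N = ⊥ ∨ N = Subgroup.normalClosure (K : Set G))) ∧ (Cfsg.fittingSubgroup G = ⊥ → sSup {N : Subgroup G | N ≠ ⊥ ∧ N.Normal ∧ ∀ N' : Subgroup G, N'.Normal → N' ≤ N → N' = ⊥ ∨ N' = N} = Cfsg.layer G) := by
  classical
  refine ⟨fun K hK hZ => minimal_normalClosure K hK hZ, ?_⟩
  intro hF
  haveI hLn := Cfsg.Agent.S1265.layer_normal G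
  apply le_antisymm
  · apply sSup_le
    rintro N ⟨hN1, hNn, hNmin⟩
    obtain ⟨T, hTle, hTmin⟩ := (Set.toFinite {T : Subgroup G | T ≠ ⊥ ∧ T.IsSubnormal ∧ T ≤ N}).exists_le_minimal
      (a := N) ⟨hN1, hNn.isSubnormal, le_rfl⟩
    obtain ⟨hT1, hTsn, hTN⟩ := hTmin.prop
    haveI : Nontrivial ↥T := (Subgroup.nontrivial_iff_ne_bot T).mpr hT1
    haveI hTsimple : IsSimpleGroup ↥T := by
      refine ⟨fun H hH => ?_⟩
      by_cases hH1 : H = ⊥
      · left; exact hH1
      · right
        have h1 : (H.map T.subtype).IsSubnormal := Subgroup.IsSubnormal.trans' hH.isSubnormal hTsn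
        have h2 : H.map T.subtype ≤ T := Subgroup.map_subtype_le H
        have h3 : H.map T.subtype ≠ ⊥ := by
          rwa [Ne, Subgroup.map_eq_bot_iff_of_injective _ T.subtype_injective]
        have h4 := hTmin.le_of_le ⟨h3, h1, h2.trans hTN⟩ h2
        rw [eq_top_iff]
        intro t _
        obtain ⟨y, hy, hyt⟩ := h4 t.2
        have : y = t := Subtype.ext hyt
        rwa [← this]
    have hna : ∃ a b : ↥T, a * b ≠ b * a := by
      by_contra hcon
      push Not at hcon
      have hnil : Group.IsNilpotent ↥T := by
        letI : CommGroup ↥T := { (inferInstance : Group ↥T) with mul_comm := hcon }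
        infer_instance
      have := (Cfsg.Agent.S3743.result T hTsn).1 hnil
      rw [hF] at this
      exact hT1 (le_bot_iff.mp this)
    have hTcomp : Cfsg.IsComponent T := ⟨hTsn, quasisimple_of_simple hna⟩
    have hTL : T ≤ Cfsg.layer G := le_sSup hTcomp
    have hcl : Subgroup.normalClosure (T : Set G) = N := by
      rcases hNmin _ Subgroup.normalClosure_normal (Subgroup.normalClosure_le_normal hTN) with h | h
      · exfalso
        apply hT1
        rw [eq_bot_iff, ← h]
        exact Subgroup.le_normalClosure
      · exact h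
    rw [← hcl]
    exact Subgroup.normalClosure_le_normal hTL
  · apply sSup_le
    intro K hK
    have hZ : Subgroup.center ↥K = ⊥ := by
      have h1 : ((Subgroup.center ↥K).map K.subtype).IsSubnormal :=
        Subgroup.IsSubnormal.trans' (inferInstance : (Subgroup.center ↥K).Normal).isSubnormal hK.1
      haveI hcn : Group.IsNilpotent ↥(Subgroup.center ↥K) := by
        letI : CommGroup ↥(Subgroup.center ↥K) :=
          { (inferInstance : Group ↥(Subgroup.center ↥K)) with
            mul_comm := fun a b => Subtype.ext (Subgroup.mem_center_iff.mp b.2 a) }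
        infer_instance
      have h2 : Group.IsNilpotent ↥((Subgroup.center ↥K).map K.subtype) :=
        Group.nilpotent_of_surjective ((K.subtype).subgroupMap (Subgroup.center ↥K))
          (MonoidHom.subgroupMap_surjective _ _)
      have h3 := (Cfsg.Agent.S3743.result _ h1).1 h2
      rw [hF, le_bot_iff, Subgroup.map_eq_bot_iff_of_injective _ K.subtype_injective] at h3
      exact h3
    obtain ⟨hne, hmin⟩ := minimal_normalClosure K hK hZ
    exact (Subgroup.le_normalClosure).trans (le_sSup ⟨hne, Subgroup.normalClosure_normal, hmin⟩)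

end Cfsg.Agent.S3747
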