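import Cfsg.Statements.S1317
import Cfsg.Agent.Lib.Helper3_Components
import Cfsg.Agent.Lib.Helper3_LayerPre
import Cfsg.Agent.Lib.Lead_Fitting
import Cfsg.Agent.S1265

set_option autoImplicit false
open Cfsg

namespace Cfsg.Agent.S1317

/-- commutative groups are nilpotent (`IsMulCommutative` form) -/
theorem isNilpotent_of_isMulCommutative (A : Type*) [Group A] [h : IsMulCommutative A] :
    Group.IsNilpotent A :=
  ⟨⟨1, Subgroup.upperCentralSeries_one_eq_top_iff.mpr h⟩⟩

/-- the Fitting subgroup of a finite group is nilpotent -/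
theorem fitting_nilpotent (X : Type*) [Group X] [Finite X] :
    Group.IsNilpotent ↥(Cfsg.fittingSubgroup X) := by
  rw [Cfsg.Agent.Lib.Lead_Fitting.fitting_eq]
  exact Cfsg.Agent.Lib.Lead_Fitting.F0_nilpotent X

/-- `[E(X), F(X)] = 1` -/
theorem layer_commute_fitting (X : Type*) [Group X] [Finite X] :
    ⁅Cfsg.layer X, Cfsg.fittingSubgroup X⁆ = ⊥ := by
  haveI := Cfsg.Agent.S1265.fitting_normal X
  haveI := fitting_nilpotent X
  exact Cfsg.Agent.Lib.Helper3_LayerPre.layer_commute_normal_solvable _ inferInstance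

/-- `Z(E(X))`, as a subgroup of `X`, is normal -/
theorem center_layer_normal (X : Type*) [Group X] :
    ((Subgroup.center ↥(Cfsg.layer X)).map (Cfsg.layer X).subtype).Normal := by
  haveI := Cfsg.Agent.S1265.layer_normal X
  infer_instance

/-- For a finite group X, the centre of the layer E(X) is F(X) ∩ E(X). -/
theorem result {X : Type*} [Group X] [Finite X] : (Subgroup.center ↥(Cfsg.layer X)).map (Cfsg.layer X).subtype = Cfsg.fittingSubgroup X ⊓ Cfsg.layer X := by
  classical
  have hEn := Cfsg.Agent.S1265.layer_normal X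
  apply le_antisymm
  · apply le_inf
    · apply le_sSup
      refine ⟨center_layer_normal X, ?_⟩
      haveI := isNilpotent_of_isMulCommutative ↥(Subgroup.center ↥(Cfsg.layer X))
      exact Group.nilpotent_of_mulEquiv
        ((Subgroup.center ↥(Cfsg.layer X)).equivMapOfInjective _ (Subgroup.subtype_injective _))
    · exact Subgroup.map_subtype_le _
  · rintro x ⟨hxF, hxE⟩
    refine ⟨⟨x, hxE⟩, ?_, rfl⟩
    rw [SetLike.mem_coe, Subgroup.mem_center_iff]
    intro e
    apply Subtype.ext
    show (e : X) * x = x * (e : X)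
    exact Cfsg.Agent.Lib.Helper3_Components.commute_of_commutator_eq_bot (layer_commute_fitting X) e.2 hxF

end Cfsg.Agent.S1317
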