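import Cfsg.Statements.S1318
import Cfsg.Agent.Lib.Helper3_Components
import Cfsg.Agent.Lib.Helper3_SupNormalizer
import Cfsg.Agent.Lib.Helper3_LayerPre
import Cfsg.Agent.S1265
import Cfsg.Agent.S1317
import Cfsg.Agent.S3743

set_option autoImplicit false
open Cfsg

namespace Cfsg.Agent.S1318

universe u

open Cfsg.Agent.Lib.Helper3_Components

/-- for a subnormal subgroup `S`, `F(S) = F(X) ∩ S` -/
theorem fitting_subnormal {X : Type u} [Group X] [Finite X] (S : Subgroup X) (hS : S.IsSubnormal) :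
    (Cfsg.fittingSubgroup ↥S).map S.subtype = Cfsg.fittingSubgroup X ⊓ S := by
  have hFn := Cfsg.Agent.S1265.fitting_normal X
  apply le_antisymm
  · apply le_inf
    · have hn : (Cfsg.fittingSubgroup ↥S).Normal := Cfsg.Agent.S1265.fitting_normal ↥S
      have hsn : ((Cfsg.fittingSubgroup ↥S).map S.subtype).IsSubnormal := hn.isSubnormal.trans' hS
      apply (Cfsg.Agent.S3743.result _ hsn).1
      haveI := Cfsg.Agent.S1317.fitting_nilpotent ↥S
      exact Group.nilpotent_of_mulEquiv
        ((Cfsg.fittingSubgroup ↥S).equivMapOfInjective _ (Subgroup.subtype_injective _))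
    · exact Subgroup.map_subtype_le _
  · have h1 : (Cfsg.fittingSubgroup X).subgroupOf S ≤ Cfsg.fittingSubgroup ↥S := by
      apply le_sSup
      refine ⟨inferInstance, ?_⟩
      haveI := Cfsg.Agent.S1317.fitting_nilpotent X
      have hle : Cfsg.fittingSubgroup X ⊓ S ≤ Cfsg.fittingSubgroup X := inf_le_left
      haveI : Group.IsNilpotent ↥(Cfsg.fittingSubgroup X ⊓ S : Subgroup X) :=
        Group.nilpotent_of_mulEquiv (Subgroup.subgroupOfEquivOfLe hle)
      rw [← Subgroup.inf_subgroupOf_right]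
      exact Group.nilpotent_of_mulEquiv (Subgroup.subgroupOfEquivOfLe inf_le_right).symm
    have h2 := Subgroup.map_mono (f := S.subtype) h1
    rwa [Subgroup.subgroupOf_map_subtype] at h2

theorem decomposition {X : Type u} [Group X] [Finite X] (S : Subgroup X)
    (hS : S ≤ Cfsg.generalizedFittingSubgroup X) (hSsn : S.IsSubnormal) :
    ∀ s ∈ S, ∃ e1 c, e1 ∈ (Cfsg.layer ↥S).map S.subtype ∧ c ∈ Cfsg.fittingSubgroup X ⊓ S ∧
      s = e1 * c := by
  classical
  have hFn := Cfsg.Agent.S1265.fitting_normal X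
  set F := Cfsg.fittingSubgroup X with hF
  set E1 := sSup {L : Subgroup X | Cfsg.IsComponent L ∧ L ≤ S} with hE1
  set E2 := sSup {L : Subgroup X | Cfsg.IsComponent L ∧ ⁅L, S⁆ = ⊥} with hE2
  have ha : Cfsg.layer X ≤ E1 ⊔ E2 := by
    apply sSup_le
    intro L hL
    rcases component_le_or_commute L S hL hSsn with h | h
    · have h1 : L ≤ E1 := le_sSup (show L ∈ {L : Subgroup X | Cfsg.IsComponent L ∧ L ≤ S} from ⟨hL, h⟩)
      exact h1.trans le_sup_left
    · have h1 : L ≤ E2 :=
        le_sSup (show L ∈ {L : Subgroup X | Cfsg.IsComponent L ∧ ⁅L, S⁆ = ⊥} from ⟨hL, h⟩)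
      exact h1.trans le_sup_right
  have hE1S : E1 ≤ S := sSup_le (fun L hL => hL.2)
  have hE1E : E1 ≤ Cfsg.layer X := sSup_le (fun L hL => le_sSup hL.1)
  have hE2E : E2 ≤ Cfsg.layer X := sSup_le (fun L hL => le_sSup hL.1)
  have hb : E1 ≤ (Cfsg.layer ↥S).map S.subtype := by
    apply sSup_le
    rintro L ⟨hL, hLS⟩
    have h1 : L.subgroupOf S ≤ Cfsg.layer ↥S := le_sSup (component_subgroupOf L S hL hLS)
    have h2 := Subgroup.map_mono (f := S.subtype) h1
    rwa [Subgroup.map_subgroupOf_eq_of_le hLS] at h2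
  have hc : E2 ≤ Subgroup.centralizer (S : Set X) := by
    apply sSup_le
    rintro L ⟨hL, hLS⟩
    rw [Subgroup.commutator_eq_bot_iff_le_centralizer] at hLS
    exact hLS
  have hEF : ⁅Cfsg.layer X, F⁆ = ⊥ := Cfsg.Agent.S1317.layer_commute_fitting X
  have hFcE : F ≤ Subgroup.centralizer (Cfsg.layer X : Set X) := by
    rw [← Subgroup.commutator_eq_bot_iff_le_centralizer, Subgroup.commutator_comm]
    exact hEF
  have hd : E2 ⊔ F ≤ Subgroup.centralizer (E1 : Set X) := by
    apply sup_le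
    · exact hc.trans (Subgroup.centralizer_le hE1S)
    · exact hFcE.trans (Subgroup.centralizer_le hE1E)
  have hn : E2 ⊔ F ≤ Subgroup.normalizer (E1 : Set X) :=
    hd.trans (Subgroup.centralizer_le_normalizer _)
  intro s hs
  have hs1 : s ∈ E1 ⊔ (E2 ⊔ F) := by
    have h1 : s ∈ Cfsg.layer X ⊔ F := hS hs
    have hle : Cfsg.layer X ⊔ F ≤ E1 ⊔ (E2 ⊔ F) := by
      rw [← sup_assoc]
      exact sup_le_sup_right ha F
    exact hle h1
  obtain ⟨e1, he1, c, hcK, rfl⟩ :=
    Cfsg.Agent.Lib.Helper3_SupNormalizer.exists_mul_of_mem_sup E1 _ hn hs1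
  have hcS : c ∈ S := by
    have : c = e1⁻¹ * (e1 * c) := by group
    rw [this]
    exact S.mul_mem (S.inv_mem (hE1S he1)) hs
  have hnF : E2 ≤ Subgroup.normalizer (F : Set X) := by
    rw [Subgroup.normalizer_eq_top_iff.mpr hFn]; exact le_top
  rw [sup_comm] at hcK
  obtain ⟨f, hf, e2, he2, rfl⟩ :=
    Cfsg.Agent.Lib.Helper3_SupNormalizer.exists_mul_of_mem_sup F E2 hnF hcK
  have he2E : e2 ∈ Cfsg.layer X := hE2E he2
  have hfc : ∀ y ∈ Cfsg.layer X, y * f = f * y := fun y hy =>
    commute_of_commutator_eq_bot hEF hy hf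
  have he2c : Cfsg.layer X ≤ Subgroup.centralizer ({e2} : Set X) := by
    apply sSup_le
    intro L hL
    intro y hy
    rw [Subgroup.mem_centralizer_singleton_iff]
    rcases component_le_or_commute L S hL hSsn with h | h
    · exact Subgroup.mem_centralizer_iff.mp (hc he2) y (h hy)
    · have h1 : y * (f * e2) = (f * e2) * y := commute_of_commutator_eq_bot h hy hcS
      have h2 : y * f = f * y := hfc y (le_sSup hL hy)
      have h3 : f * (y * e2) = f * (e2 * y) := by
        calc f * (y * e2) = (f * y) * e2 := by group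
          _ = (y * f) * e2 := by rw [h2]
          _ = y * (f * e2) := by group
          _ = (f * e2) * y := h1
          _ = f * (e2 * y) := by group
      exact mul_left_cancel h3
  have he2Z : e2 ∈ (Subgroup.center ↥(Cfsg.layer X)).map (Cfsg.layer X).subtype := by
    refine ⟨⟨e2, he2E⟩, ?_, rfl⟩
    rw [SetLike.mem_coe, Subgroup.mem_center_iff]
    intro y
    apply Subtype.ext
    have := he2c y.2
    rw [Subgroup.mem_centralizer_singleton_iff] at this
    exact this
  rw [Cfsg.Agent.S1317.result] at he2Z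
  refine ⟨e1, f * e2, hb he1, ⟨F.mul_mem hf he2Z.1, hcS⟩, rfl⟩

/-- Let X be finite and S ≤ F*(X) a subgroup subnormal in F*(X). Then F(S) = F(X) ∩ S (inside X) and S = F(S)E(S). -/
theorem result {X : Type*} [Group X] [Finite X] (S : Subgroup X) (hS : S ≤ Cfsg.generalizedFittingSubgroup X) (hsn : (S.subgroupOf (Cfsg.generalizedFittingSubgroup X)).IsSubnormal) : (Cfsg.fittingSubgroup ↥S).map S.subtype = Cfsg.fittingSubgroup X ⊓ S ∧ Cfsg.fittingSubgroup ↥S ⊔ Cfsg.layer ↥S = ⊤ := by
  classical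
  have hFsn := Cfsg.Agent.S1265.gf_normal X
  have hSsn : S.IsSubnormal := Subgroup.IsSubnormal.trans hS hsn hFsn.isSubnormal
  have hpart1 := fitting_subnormal S hSsn
  refine ⟨hpart1, ?_⟩
  rw [eq_top_iff]
  intro s _
  obtain ⟨e1, c, he1, hc, hsc⟩ := decomposition S hS hSsn s.1 s.2
  rw [← hpart1] at hc
  obtain ⟨e1', he1', rfl⟩ := he1
  obtain ⟨c', hc', rfl⟩ := hc
  have : s = e1' * c' := Subtype.ext hsc
  rw [this, sup_comm]
  exact Subgroup.mul_mem_sup he1' hc'

end Cfsg.Agent.S1318
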