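import Cfsg.Statements.S1320
import Cfsg.Agent.Lib.Helper3_Components
import Cfsg.Agent.S1265
import Cfsg.Agent.S1318

set_option autoImplicit false
open Cfsg

namespace Cfsg.Agent.S1320

/-- Let B be a normal subgroup of the finite group A. Then F*(A) ∩ B = F*(B). -/
theorem result {A : Type*} [Group A] [Finite A] (B : Subgroup A) [B.Normal] : Cfsg.generalizedFittingSubgroup A ⊓ B = (Cfsg.generalizedFittingSubgroup ↥B).map B.subtype := by
  classical
  have hBn : B.Normal := inferInstance
  have hBsn : B.IsSubnormal := hBn.isSubnormal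
  have hFsn := Cfsg.Agent.S1265.gf_normal A
  have hFB := Cfsg.Agent.S1318.fitting_subnormal B hBsn
  -- components of B
  have hEB : ∀ L : Subgroup A, Cfsg.IsComponent L → L ≤ B → L ≤ (Cfsg.layer ↥B).map B.subtype := by
    intro L hL hLB
    have h1 : L.subgroupOf B ≤ Cfsg.layer ↥B :=
      le_sSup (Cfsg.Agent.Lib.Helper3_Components.component_subgroupOf L B hL hLB)
    have h2 := Subgroup.map_mono (f := B.subtype) h1
    rwa [Subgroup.map_subgroupOf_eq_of_le hLB] at h2
  apply le_antisymm
  · set T := Cfsg.generalizedFittingSubgroup A ⊓ B with hT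
    have hTn : T.Normal := inferInstance
    have hTle : T ≤ Cfsg.generalizedFittingSubgroup A := inf_le_left
    have hTB : T ≤ B := inf_le_right
    have hTsn : (T.subgroupOf (Cfsg.generalizedFittingSubgroup A)).IsSubnormal :=
      (inferInstance : (T.subgroupOf (Cfsg.generalizedFittingSubgroup A)).Normal).isSubnormal
    obtain ⟨h1, h2⟩ := Cfsg.Agent.S1318.result T hTle hTsn
    have hFT : (Cfsg.fittingSubgroup ↥T).map T.subtype ≤
        (Cfsg.generalizedFittingSubgroup ↥B).map B.subtype := by
      rw [h1]
      have : Cfsg.fittingSubgroup A ⊓ T ≤ Cfsg.fittingSubgroup A ⊓ B := inf_le_inf_left _ hTB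
      rw [← hFB] at this
      exact this.trans (Subgroup.map_mono le_sup_right)
    have hET : (Cfsg.layer ↥T).map T.subtype ≤
        (Cfsg.generalizedFittingSubgroup ↥B).map B.subtype := by
      rw [Subgroup.map_le_iff_le_comap]
      apply sSup_le
      intro K hK
      rw [← Subgroup.map_le_iff_le_comap]
      have hL := Cfsg.Agent.Lib.Helper3_Components.component_map_subtype T hTn.isSubnormal K hK
      have hLB : K.map T.subtype ≤ B := (Subgroup.map_subtype_le K).trans hTB
      exact (hEB _ hL hLB).trans (Subgroup.map_mono le_sup_left)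
    intro t ht
    have htop : (⟨t, ht⟩ : ↥T) ∈ Cfsg.fittingSubgroup ↥T ⊔ Cfsg.layer ↥T := by
      rw [h2]; trivial
    have hle : Cfsg.fittingSubgroup ↥T ⊔ Cfsg.layer ↥T ≤
        ((Cfsg.generalizedFittingSubgroup ↥B).map B.subtype).comap T.subtype := by
      apply sup_le
      · rw [← Subgroup.map_le_iff_le_comap]; exact hFT
      · rw [← Subgroup.map_le_iff_le_comap]; exact hET
    exact hle htop
  · apply le_inf
    · unfold Cfsg.generalizedFittingSubgroup
      rw [Subgroup.map_sup]
      apply sup_le
      · rw [Subgroup.map_le_iff_le_comap]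
        apply sSup_le
        intro K hK
        rw [← Subgroup.map_le_iff_le_comap]
        have hL := Cfsg.Agent.Lib.Helper3_Components.component_map_subtype B hBsn K hK
        have : K.map B.subtype ≤ Cfsg.layer A := le_sSup hL
        exact this.trans le_sup_left
      · rw [hFB]
        exact inf_le_left.trans le_sup_right
    · exact Subgroup.map_subtype_le _

end Cfsg.Agent.S1320
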