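import Cfsg.Statements.S0044
import Mathlib
import Cfsg.Agent.Lib.Lead_Coprime

set_option autoImplicit false
open Cfsg

namespace Cfsg.Agent.S0044

open Cfsg.Agent.Lib.Lead_Coprime

theorem sSup_normal {G : Type*} [Group G] (S : Set (Subgroup G)) (h : ∀ N ∈ S, N.Normal) :
    (sSup S).Normal := by
  constructor
  intro n hn g
  have h1 : (sSup S).map (MulAut.conj g).toMonoidHom ≤ sSup S := by
    rw [sSup_eq_iSup', Subgroup.map_iSup]
    apply iSup_le
    intro N
    have hN := h N.1 N.2
    refine le_trans ?_ (le_iSup (fun a : S => (a : Subgroup G)) N)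
    rintro _ ⟨x, hx, rfl⟩
    exact hN.conj_mem x hx g
  exact h1 ⟨n, hn, rfl⟩

theorem fitting_normal {G : Type*} [Group G] : (Cfsg.fittingSubgroup G).Normal :=
  sSup_normal _ (fun _ hN => hN.1)


/-- In a finite solvable group, the centraliser of the Fitting subgroup is contained in the Fitting subgroup. -/
theorem result {G : Type*} [Group G] [Finite G] [Group.IsSolvable G] :
    Subgroup.centralizer (Cfsg.fittingSubgroup G : Set G) ≤ Cfsg.fittingSubgroup G := by
  classical
  have hFn : (Cfsg.fittingSubgroup G).Normal := fitting_normal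
  have hCn : (Subgroup.centralizer (Cfsg.fittingSubgroup G : Set G)).Normal := inferInstance
  by_contra hCF
  -- the derived series of C, as subgroups of G
  have hsolvC : Group.IsSolvable (Subgroup.centralizer (Cfsg.fittingSubgroup G : Set G)) :=
    inferInstance
  obtain ⟨n, hn⟩ := (Group.isSolvable_def _).mp hsolvC
  have hex : ∃ i, (derivedSeries (Subgroup.centralizer (Cfsg.fittingSubgroup G : Set G)) i).map
      (Subgroup.centralizer (Cfsg.fittingSubgroup G : Set G)).subtype ≤ Cfsg.fittingSubgroup G :=
    ⟨n, by rw [hn, Subgroup.map_bot]; exact bot_le⟩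
  have hspec := Nat.find_spec hex
  have hmin := fun {m : ℕ} (h : m < Nat.find hex) => Nat.find_min hex h
  cases hi : Nat.find hex with
  | zero =>
    rw [hi, derivedSeries_zero, ← MonoidHom.range_eq_map, Subgroup.range_subtype] at hspec
    exact hCF hspec
  | succ j =>
    rw [hi] at hspec
    have hj : ¬ (derivedSeries (Subgroup.centralizer (Cfsg.fittingSubgroup G : Set G)) j).map
      (Subgroup.centralizer (Cfsg.fittingSubgroup G : Set G)).subtype ≤ Cfsg.fittingSubgroup G :=
      hmin (by omega)
    apply hj
    set A := (derivedSeries (Subgroup.centralizer (Cfsg.fittingSubgroup G : Set G)) j).map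
      (Subgroup.centralizer (Cfsg.fittingSubgroup G : Set G)).subtype with hA
    have hAC : A ≤ Subgroup.centralizer (Cfsg.fittingSubgroup G : Set G) :=
      Subgroup.map_subtype_le _
    have hAn : A.Normal := by
      rw [← Subgroup.normalizer_eq_top_iff, eq_top_iff]
      refine le_trans ?_ (normalizer_le_normalizer_char_map (derivedSeries _ j))
      rw [Subgroup.normalizer_eq_top_iff.mpr hCn]
    have hAA : ⁅A, A⁆ ≤ Cfsg.fittingSubgroup G := by
      rw [hA, ← Subgroup.map_commutator, ← derivedSeries_succ]
      exact hspec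
    have hnil : Group.IsNilpotent A := by
      rw [Subgroup.isNilpotent_iff_lowerCentralSeries]
      refine ⟨2, ?_⟩
      rw [Subgroup.lowerCentralSeries_succ, Subgroup.lowerCentralSeries_succ,
        Subgroup.lowerCentralSeries_zero, Subgroup.commutator_eq_bot_iff_le_centralizer]
      exact hAA.trans (Subgroup.le_centralizer_iff.mp hAC)
    exact le_sSup ⟨hAn, hnil⟩

end Cfsg.Agent.S0044
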