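import Cfsg.Statements.S0017
import Mathlib
import Cfsg.Agent.Lib.Lead_Coprime
import Cfsg.Agent.S0044

set_option autoImplicit false
open Cfsg

namespace Cfsg.Agent.S0017

open Cfsg.Agent.Lib.Lead_Coprime

/-- In a finite solvable group whose largest normal subgroup of order prime to p is trivial, the centralizer of the p-core is contained in the p-core. -/
theorem result {G : Type*} [Group G] [Finite G] [Group.IsSolvable G] (p : ℕ) [Fact p.Prime]
    (h : Cfsg.pPrimeCore p G = ⊥) :
    Subgroup.centralizer (Cfsg.pCore p G : Set G) ≤ Cfsg.pCore p G := by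
  classical
  have hp : p.Prime := Fact.out
  have hPn : (Cfsg.pCore p G).Normal := Cfsg.Agent.S0044.sSup_normal _ (fun _ hN => hN.1)
  have hCn : (Subgroup.centralizer (Cfsg.pCore p G : Set G)).Normal := inferInstance
  by_contra hCF
  have hsolvC : Group.IsSolvable (Subgroup.centralizer (Cfsg.pCore p G : Set G)) :=
    inferInstance
  obtain ⟨n, hn⟩ := (Group.isSolvable_def _).mp hsolvC
  have hex : ∃ i, (derivedSeries (Subgroup.centralizer (Cfsg.pCore p G : Set G)) i).map
      (Subgroup.centralizer (Cfsg.pCore p G : Set G)).subtype ≤ Cfsg.pCore p G :=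
    ⟨n, by rw [hn, Subgroup.map_bot]; exact bot_le⟩
  have hspec := Nat.find_spec hex
  have hmin := fun {m : ℕ} (h : m < Nat.find hex) => Nat.find_min hex h
  cases hi : Nat.find hex with
  | zero =>
    rw [hi, derivedSeries_zero, ← MonoidHom.range_eq_map, Subgroup.range_subtype] at hspec
    exact hCF hspec
  | succ j =>
    rw [hi] at hspec
    have hj : ¬ (derivedSeries (Subgroup.centralizer (Cfsg.pCore p G : Set G)) j).map
      (Subgroup.centralizer (Cfsg.pCore p G : Set G)).subtype ≤ Cfsg.pCore p G :=
      hmin (by omega)
    apply hj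
    set A := (derivedSeries (Subgroup.centralizer (Cfsg.pCore p G : Set G)) j).map
      (Subgroup.centralizer (Cfsg.pCore p G : Set G)).subtype with hA
    have hAC : A ≤ Subgroup.centralizer (Cfsg.pCore p G : Set G) :=
      Subgroup.map_subtype_le _
    have hAn : A.Normal := by
      rw [← Subgroup.normalizer_eq_top_iff, eq_top_iff]
      refine le_trans ?_ (normalizer_le_normalizer_char_map (derivedSeries _ j))
      rw [Subgroup.normalizer_eq_top_iff.mpr hCn]
    have hAA : ⁅A, A⁆ ≤ Cfsg.pCore p G := by
      rw [hA, ← Subgroup.map_commutator, ← derivedSeries_succ]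
      exact hspec
    have hnil : Group.IsNilpotent A := by
      rw [Subgroup.isNilpotent_iff_lowerCentralSeries]
      refine ⟨2, ?_⟩
      rw [Subgroup.lowerCentralSeries_succ, Subgroup.lowerCentralSeries_succ,
        Subgroup.lowerCentralSeries_zero, Subgroup.commutator_eq_bot_iff_le_centralizer]
      exact hAA.trans (Subgroup.le_centralizer_iff.mp hAC)
    -- A is a p-group
    have hprime : ∀ {q : ℕ}, q.Prime → q ∣ Nat.card A → q = p := by
      intro q hq hqd
      by_contra hqp
      haveI := Fact.mk hq
      obtain ⟨Q⟩ : Nonempty (Sylow q A) := inferInstance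
      have hQn : (Q : Subgroup A).Normal :=
        Sylow.normal_of_normalizerCondition normalizerCondition_of_isNilpotent Q
      haveI : (Q : Subgroup A).Characteristic := Sylow.characteristic_of_normal Q hQn
      have hQG : ((Q : Subgroup A).map A.subtype).Normal := by
        rw [← Subgroup.normalizer_eq_top_iff, eq_top_iff]
        refine le_trans ?_ (normalizer_le_normalizer_char_map (Q : Subgroup A))
        rw [Subgroup.normalizer_eq_top_iff.mpr hAn]
      have hQcop : (Nat.card ((Q : Subgroup A).map A.subtype)).Coprime p := by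
        rw [Subgroup.card_map_of_injective A.subtype_injective]
        obtain ⟨k, hk⟩ := Q.isPGroup'.exists_card_eq
        rw [hk]
        exact Nat.Coprime.pow_left k ((Nat.coprime_primes hq hp).mpr hqp)
      have hQle : (Q : Subgroup A).map A.subtype ≤ Cfsg.pPrimeCore p G := le_sSup ⟨hQG, hQcop⟩
      rw [h, le_bot_iff, Subgroup.map_eq_bot_iff_of_injective _ A.subtype_injective] at hQle
      exact Q.ne_bot_of_dvd_card hqd hQle
    have hcardA : Nat.card A = p ^ (Nat.card A).primeFactorsList.length :=
      Nat.eq_prime_pow_of_unique_prime_dvd Nat.card_pos.ne' hprime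
    exact le_sSup ⟨hAn, IsPGroup.of_card hcardA⟩

end Cfsg.Agent.S0017
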