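import Cfsg.Statements.S1963
import Cfsg.Agent.Lib.Helper3_Conj

set_option autoImplicit false
open Cfsg

namespace Cfsg.Agent.S1963

open Cfsg.Agent.Lib.Helper3_Conj

/-- Base Sylow lemma: some conjugate `V^x` has `N_S(V^x)` Sylow in `N_G(V^x)`, with `N_S(V)^x ≤ S`. -/
theorem exists_conj_sylow_normalizer {G : Type*} [Group G] [Finite G] {p : ℕ} [Fact p.Prime]
    (S : Sylow p G) (V : Subgroup G) :
    ∃ x : G, ((S : Subgroup G) ⊓ Subgroup.normalizer ((V : Subgroup G) : Set G)).map
        (MulAut.conj x).toMonoidHom ≤ (S : Subgroup G) ∧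
      ¬ p ∣ ((S : Subgroup G) ⊓ Subgroup.normalizer
          ((V.map (MulAut.conj x).toMonoidHom : Subgroup G) : Set G)).relIndex
        (Subgroup.normalizer ((V.map (MulAut.conj x).toMonoidHom : Subgroup G) : Set G)) := by
  set NV := Subgroup.normalizer ((V : Subgroup G) : Set G) with hNV
  have hP0 : IsPGroup p ↥(((S : Subgroup G) ⊓ NV).subgroupOf NV) :=
    (S.2.to_le inf_le_left).comap_of_injective NV.subtype (Subgroup.subtype_injective NV)
  obtain ⟨R', hR'⟩ := hP0.exists_le_sylow
  set R := (R' : Subgroup NV).map NV.subtype with hR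
  have hRp : IsPGroup p ↥R := R'.2.map _
  have hRN : R ≤ NV := Subgroup.map_subtype_le _
  have hRrel : ¬ p ∣ R.relIndex NV := by
    have : R.subgroupOf NV = (R' : Subgroup NV) := by
      rw [hR, Subgroup.subgroupOf]
      exact Subgroup.comap_map_eq_self_of_injective (Subgroup.subtype_injective NV) _
    rw [Subgroup.relIndex, this]
    exact R'.not_dvd_index
  have hle : (S : Subgroup G) ⊓ NV ≤ R := by
    intro s hs
    have h1 : (⟨s, hs.2⟩ : NV) ∈ ((S : Subgroup G) ⊓ NV).subgroupOf NV := by
      rw [Subgroup.mem_subgroupOf]; exact hs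
    exact ⟨⟨s, hs.2⟩, hR' h1, rfl⟩
  obtain ⟨S'', hS''⟩ := hRp.exists_le_sylow
  obtain ⟨y, hy⟩ := MulAction.exists_smul_eq G S'' S
  have hRy : R.map (MulAut.conj y).toMonoidHom ≤ (S : Subgroup G) := by
    rw [← hy, smul_sylow_eq_map_conj]
    exact Subgroup.map_mono hS''
  refine ⟨y, (Subgroup.map_mono hle).trans hRy, ?_⟩
  have hN' : Subgroup.normalizer ((V.map (MulAut.conj y).toMonoidHom : Subgroup G) : Set G)
      = NV.map (MulAut.conj y).toMonoidHom :=
    (Subgroup.map_equiv_normalizer_eq V (MulAut.conj y)).symm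
  have hRle : R.map (MulAut.conj y).toMonoidHom ≤ (S : Subgroup G) ⊓
      Subgroup.normalizer ((V.map (MulAut.conj y).toMonoidHom : Subgroup G) : Set G) := by
    refine le_inf hRy ?_
    rw [hN']
    exact Subgroup.map_mono hRN
  have hrel : (R.map (MulAut.conj y).toMonoidHom).relIndex
      (Subgroup.normalizer ((V.map (MulAut.conj y).toMonoidHom : Subgroup G) : Set G))
      = R.relIndex NV := by
    rw [hN']
    exact Subgroup.relIndex_map_map_of_injective R NV (MulAut.conj y).injective
  intro hdvd
  apply hRrel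
  rw [← hrel]
  exact dvd_trans hdvd (Subgroup.relIndex_dvd_of_le_left _ hRle)

/-- If `N_S(U)` is Sylow in `N_G(U)` and `N_S(U)^x ≤ S`, then `N_S(U^x) = N_S(U)^x` is Sylow in
`N_G(U^x)`. -/
theorem sylow_normalizer_conj {G : Type*} [Group G] [Finite G] {p : ℕ} [hp : Fact p.Prime]
    (S : Sylow p G) (U : Subgroup G)
    (hU : ¬ p ∣ ((S : Subgroup G) ⊓ Subgroup.normalizer ((U : Subgroup G) : Set G)).relIndex
      (Subgroup.normalizer ((U : Subgroup G) : Set G))) (x : G)
    (hx : ((S : Subgroup G) ⊓ Subgroup.normalizer ((U : Subgroup G) : Set G)).map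
        (MulAut.conj x).toMonoidHom ≤ (S : Subgroup G)) :
    (S : Subgroup G) ⊓ Subgroup.normalizer ((U.map (MulAut.conj x).toMonoidHom : Subgroup G) : Set G)
      = ((S : Subgroup G) ⊓ Subgroup.normalizer ((U : Subgroup G) : Set G)).map
        (MulAut.conj x).toMonoidHom ∧
    ¬ p ∣ ((S : Subgroup G) ⊓ Subgroup.normalizer
          ((U.map (MulAut.conj x).toMonoidHom : Subgroup G) : Set G)).relIndex
        (Subgroup.normalizer ((U.map (MulAut.conj x).toMonoidHom : Subgroup G) : Set G)) := by
  set NU := Subgroup.normalizer ((U : Subgroup G) : Set G) with hNU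
  set N' := Subgroup.normalizer ((U.map (MulAut.conj x).toMonoidHom : Subgroup G) : Set G) with hN'def
  set P := ((S : Subgroup G) ⊓ NU).map (MulAut.conj x).toMonoidHom with hP
  set R' := (S : Subgroup G) ⊓ N' with hR'
  have hN' : N' = NU.map (MulAut.conj x).toMonoidHom :=
    (Subgroup.map_equiv_normalizer_eq U (MulAut.conj x)).symm
  have hPR' : P ≤ R' := by
    refine le_inf hx ?_
    rw [hN']
    exact Subgroup.map_mono inf_le_right
  have hR'N' : R' ≤ N' := inf_le_right
  have hPrel : P.relIndex N' = ((S : Subgroup G) ⊓ NU).relIndex NU := by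
    rw [hN']
    exact Subgroup.relIndex_map_map_of_injective _ NU (MulAut.conj x).injective
  have hmul : P.relIndex R' * R'.relIndex N' = P.relIndex N' :=
    Subgroup.relIndex_mul_relIndex P R' N' hPR' hR'N'
  have hR'p : IsPGroup p ↥R' := S.2.to_le inf_le_left
  have hnd : ¬ p ∣ P.relIndex N' := by rw [hPrel]; exact hU
  have h1 : P.relIndex R' = 1 := by
    obtain ⟨k, hk⟩ := IsPGroup.iff_card.mp hR'p
    have hd : P.relIndex R' ∣ p ^ k := by rw [← hk]; exact Subgroup.relIndex_dvd_card _ _
    obtain ⟨j, _, hj⟩ := (Nat.dvd_prime_pow hp.out).mp hd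
    rcases Nat.eq_zero_or_pos j with h0 | hpos
    · rw [hj, h0, pow_zero]
    · exfalso
      apply hnd
      rw [← hmul, hj]
      exact Dvd.dvd.mul_right (dvd_pow_self p hpos.ne') _
  refine ⟨le_antisymm (Subgroup.relIndex_eq_one.mp h1) hPR', ?_⟩
  intro hdvd
  apply hnd
  rw [← hmul]
  exact Dvd.dvd.mul_left hdvd _

/-- A `p`-group normalizes the value of a conjugacy functor on it. -/
theorem le_normalizer_functor {G : Type*} [Group G] {p : ℕ} (W : Subgroup G → Subgroup G)
    (hW : Cfsg.IsConjugacyFunctor p W) (P : Subgroup G) (hP : IsPGroup p ↥P) :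
    P ≤ Subgroup.normalizer ((W P : Subgroup G) : Set G) := by
  intro s hs
  apply mem_normalizer_of_map_conj_eq_self
  rw [← (hW P hP).2.2 s, map_conj_eq_self_of_mem_normalizer P s (Subgroup.le_normalizer hs)]

/-- `N_S` of the tower terms increases. -/
theorem NS_tower_mono {G : Type*} [Group G] {p : ℕ} (S : Sylow p G) (W : Subgroup G → Subgroup G)
    (hW : Cfsg.IsConjugacyFunctor p W) (T : Subgroup G) (i : ℕ) :
    (S : Subgroup G) ⊓ Subgroup.normalizer ((functorTower W (S : Subgroup G) T i : Subgroup G) : Set G) ≤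
    (S : Subgroup G) ⊓ Subgroup.normalizer ((functorTower W (S : Subgroup G) T (i + 1) : Subgroup G) : Set G) := by
  refine le_inf inf_le_left ?_
  show _ ≤ Subgroup.normalizer ((W ((S : Subgroup G) ⊓ Subgroup.normalizer
    ((functorTower W (S : Subgroup G) T i : Subgroup G) : Set G)) : Subgroup G) : Set G)
  exact le_normalizer_functor W hW _ (S.2.to_le inf_le_left)

theorem NS_tower_mono' {G : Type*} [Group G] {p : ℕ} (S : Sylow p G) (W : Subgroup G → Subgroup G)
    (hW : Cfsg.IsConjugacyFunctor p W) (T : Subgroup G) (i j : ℕ) (hij : i ≤ j) :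
    (S : Subgroup G) ⊓ Subgroup.normalizer ((functorTower W (S : Subgroup G) T i : Subgroup G) : Set G) ≤
    (S : Subgroup G) ⊓ Subgroup.normalizer ((functorTower W (S : Subgroup G) T j : Subgroup G) : Set G) := by
  induction j, hij using Nat.le_induction with
  | base => exact le_rfl
  | succ j _ ih => exact ih.trans (NS_tower_mono S W hW T j)

/-- The tower of a conjugate is the conjugate of the tower, as long as `N_S` commutes with the
conjugation. -/
theorem tower_conj {G : Type*} [Group G] {p : ℕ} (S : Sylow p G) (W : Subgroup G → Subgroup G)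
    (hW : Cfsg.IsConjugacyFunctor p W) (T : Subgroup G) (x : G) (i : ℕ)
    (h : ∀ j < i, (S : Subgroup G) ⊓ Subgroup.normalizer
        (((functorTower W (S : Subgroup G) T j).map (MulAut.conj x).toMonoidHom : Subgroup G) : Set G)
      = ((S : Subgroup G) ⊓ Subgroup.normalizer
        ((functorTower W (S : Subgroup G) T j : Subgroup G) : Set G)).map (MulAut.conj x).toMonoidHom) :
    ∀ j ≤ i, functorTower W (S : Subgroup G) (T.map (MulAut.conj x).toMonoidHom) j
      = (functorTower W (S : Subgroup G) T j).map (MulAut.conj x).toMonoidHom := by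
  intro j
  induction j with
  | zero => intro _; rfl
  | succ j ih =>
    intro hj
    have ihj := ih (by omega)
    show W ((S : Subgroup G) ⊓ Subgroup.normalizer
      ((functorTower W (S : Subgroup G) (T.map (MulAut.conj x).toMonoidHom) j : Subgroup G) : Set G))
      = (W ((S : Subgroup G) ⊓ Subgroup.normalizer
      ((functorTower W (S : Subgroup G) T j : Subgroup G) : Set G))).map (MulAut.conj x).toMonoidHom
    rw [ihj, h j (by omega)]
    exact (hW _ (S.2.to_le inf_le_left)).2.2 x

/-- Once `N_S` stabilizes, the tower is constant. -/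
theorem tower_stable {G : Type*} [Group G] (S : Subgroup G) (W : Subgroup G → Subgroup G)
    (T : Subgroup G) (j : ℕ)
    (h : S ⊓ Subgroup.normalizer ((functorTower W S T j : Subgroup G) : Set G) =
      S ⊓ Subgroup.normalizer ((functorTower W S T (j + 1) : Subgroup G) : Set G)) :
    ∀ k, functorTower W S T (j + 1 + k) = functorTower W S T (j + 1) := by
  intro k
  induction k with
  | zero => rfl
  | succ k ih =>
    show W (S ⊓ Subgroup.normalizer ((functorTower W S T (j + 1 + k) : Subgroup G) : Set G)) =
      W (S ⊓ Subgroup.normalizer ((functorTower W S T j : Subgroup G) : Set G))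
    rw [ih, h]

/-- Pigeonhole: the increasing chain `N_S(U_j)` must repeat. -/
theorem exists_stable {G : Type*} [Group G] [Finite G] {p : ℕ} (S : Sylow p G)
    (W : Subgroup G → Subgroup G) (hW : Cfsg.IsConjugacyFunctor p W) (T : Subgroup G) :
    ∃ j ≤ Nat.card (S : Subgroup G),
      (S : Subgroup G) ⊓ Subgroup.normalizer ((functorTower W (S : Subgroup G) T j : Subgroup G) : Set G) =
      (S : Subgroup G) ⊓ Subgroup.normalizer ((functorTower W (S : Subgroup G) T (j + 1) : Subgroup G) : Set G) := by
  by_contra hcon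
  push Not at hcon
  have key : ∀ j ≤ Nat.card (S : Subgroup G) + 1, j + 1 ≤ Nat.card ↥((S : Subgroup G) ⊓
      Subgroup.normalizer ((functorTower W (S : Subgroup G) T j : Subgroup G) : Set G)) := by
    intro j
    induction j with
    | zero => intro _; exact Nat.card_pos
    | succ j ih =>
      intro hj
      have h1 := ih (by omega)
      have h2 := hcon j (by omega)
      have h3 := NS_tower_mono S W hW T j
      have h4 : Nat.card ↥((S : Subgroup G) ⊓
          Subgroup.normalizer ((functorTower W (S : Subgroup G) T j : Subgroup G) : Set G)) <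
          Nat.card ↥((S : Subgroup G) ⊓
          Subgroup.normalizer ((functorTower W (S : Subgroup G) T (j + 1) : Subgroup G) : Set G)) := by
        by_contra h5
        push Not at h5
        exact h2 (Subgroup.eq_of_le_of_card_ge h3 h5)
      omega
  have h1 := key (Nat.card (S : Subgroup G)) (by omega)
  have h2 : Nat.card ↥((S : Subgroup G) ⊓ Subgroup.normalizer
      ((functorTower W (S : Subgroup G) T (Nat.card (S : Subgroup G)) : Subgroup G) : Set G)) ≤
      Nat.card (S : Subgroup G) := Subgroup.card_le_of_le inf_le_left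
  omega

/-- Main induction: some conjugate is good up to level `i`. -/
theorem exists_good_upto {G : Type*} [Group G] [Finite G] {p : ℕ} [Fact p.Prime] (S : Sylow p G)
    (W : Subgroup G → Subgroup G) (hW : Cfsg.IsConjugacyFunctor p W) (T : Subgroup G)
    (hT : T ≤ (S : Subgroup G)) (i : ℕ) :
    ∃ x : G, T.map (MulAut.conj x).toMonoidHom ≤ (S : Subgroup G) ∧ ∀ j ≤ i,
      ¬ p ∣ ((S : Subgroup G) ⊓ Subgroup.normalizer ((functorTower W (S : Subgroup G)
          (T.map (MulAut.conj x).toMonoidHom) j : Subgroup G) : Set G)).relIndex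
        (Subgroup.normalizer ((functorTower W (S : Subgroup G)
          (T.map (MulAut.conj x).toMonoidHom) j : Subgroup G) : Set G)) := by
  induction i with
  | zero =>
    obtain ⟨x, hx1, hx2⟩ := exists_conj_sylow_normalizer S T
    refine ⟨x, ?_, ?_⟩
    · exact (Subgroup.map_mono (le_inf hT Subgroup.le_normalizer)).trans hx1
    · intro j hj
      have : j = 0 := by omega
      subst this
      exact hx2
  | succ i ih =>
    obtain ⟨x, hxS, hx⟩ := ih
    set T' := T.map (MulAut.conj x).toMonoidHom with hT'
    set V := functorTower W (S : Subgroup G) T' (i + 1) with hV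
    obtain ⟨y, hy1, hy2⟩ := exists_conj_sylow_normalizer S V
    -- N_j(T')^y ≤ S for j ≤ i + 1
    have hNy : ∀ j ≤ i + 1, ((S : Subgroup G) ⊓ Subgroup.normalizer
        ((functorTower W (S : Subgroup G) T' j : Subgroup G) : Set G)).map
        (MulAut.conj y).toMonoidHom ≤ (S : Subgroup G) := by
      intro j hj
      exact (Subgroup.map_mono (NS_tower_mono' S W hW T' j (i + 1) hj)).trans hy1
    have hL2 : ∀ j ≤ i, _ := fun j hj =>
      sylow_normalizer_conj S (functorTower W (S : Subgroup G) T' j) (hx j hj) y (hNy j (by omega))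
    have htow := tower_conj S W hW T' y (i + 1) (fun j hj => (hL2 j (by omega)).1)
    refine ⟨y * x, ?_, ?_⟩
    · rw [← map_conj_map_conj]
      have h0 : T' ≤ (S : Subgroup G) ⊓ Subgroup.normalizer
          ((functorTower W (S : Subgroup G) T' 0 : Subgroup G) : Set G) :=
        le_inf hxS Subgroup.le_normalizer
      exact (Subgroup.map_mono h0).trans (hNy 0 (by omega))
    · intro j hj
      rw [← map_conj_map_conj, ← hT', htow j hj]
      rcases Nat.lt_or_ge j (i + 1) with hlt | hge
      · exact (hL2 j (by omega)).2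
      · have : j = i + 1 := by omega
        subst this
        exact hy2

/-- Let p be a prime, G a finite group with Sylow p-subgroup S, W a conjugacy functor for p on G and T a subgroup of S. Then some G-conjugate of T is well placed in S with respect to W. -/
theorem result {G : Type*} [Group G] [Finite G] {p : ℕ} [Fact p.Prime] (S : Sylow p G) (W : Subgroup G → Subgroup G) (hW : Cfsg.IsConjugacyFunctor p W) (T : Subgroup G) (hT : T ≤ (S : Subgroup G)) : ∃ g : G, Cfsg.IsWellPlaced p W (S : Subgroup G) (T.map (MulAut.conj g).toMonoidHom) := by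
  obtain ⟨x, hxS, hx⟩ := exists_good_upto S W hW T hT (Nat.card (S : Subgroup G) + 1)
  refine ⟨x, hxS, ?_⟩
  set T' := T.map (MulAut.conj x).toMonoidHom with hT'
  obtain ⟨j, hj, hjeq⟩ := exists_stable S W hW T'
  have hst := tower_stable (S : Subgroup G) W T' j hjeq
  intro k
  rcases Nat.lt_or_ge k (j + 1) with hlt | hge
  · exact hx k (by omega)
  · obtain ⟨d, rfl⟩ := Nat.exists_eq_add_of_le hge
    rw [hst d]
    exact hx (j + 1) (by omega)

end Cfsg.Agent.S1963
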