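import Cfsg.Statements.S1965
import Cfsg.Agent.Lib.Helper3_Alperin

set_option autoImplicit false
open Cfsg

namespace Cfsg.Agent.S1965

open Cfsg.Agent.Lib.Helper3_Conj Cfsg.Agent.Lib.Helper3_SylowRel Cfsg.Agent.Lib.Helper3_Alperin

/-- Step 1: move `A` onto `U` together with its normalizer in `S`. -/
theorem step1 {G : Type*} [Group G] [Finite G] {p : ℕ} [Fact p.Prime] (S : Sylow p G)
    (𝓕 : Set (Subgroup G)) (U : Subgroup G)
    (hU : ¬ p ∣ ((S : Subgroup G) ⊓ Subgroup.normalizer ((U : Subgroup G) : Set G)).relIndex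
      (Subgroup.normalizer ((U : Subgroup G) : Set G)))
    (A : Subgroup G) (hAS : A ≤ (S : Subgroup G)) (hne : A ≠ (S : Subgroup G)) (k : G)
    (hk : A.map (MulAut.conj k).toMonoidHom = U)
    (IH : ∀ B : Subgroup G, B ≤ (S : Subgroup G) → Nat.card A < Nat.card B →
      ∀ g : G, (∀ b ∈ B, g⁻¹ * b * g ∈ (S : Subgroup G)) → Good 𝓕 (B : Set G) g) :
    ∃ h₁ : G, (∀ a, a ∈ A ↔ h₁⁻¹ * a * h₁ ∈ U) ∧ Good 𝓕 (A : Set G) h₁ := by
  set NA := (S : Subgroup G) ⊓ Subgroup.normalizer ((A : Subgroup G) : Set G) with hNA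
  have hlt : Nat.card A < Nat.card NA := card_lt_card_inf_normalizer (S : Subgroup G) A S.2 hAS hne
  set Q := NA.map (MulAut.conj k).toMonoidHom with hQ
  have hNAp : IsPGroup p ↥NA := S.2.to_le inf_le_left
  have hQp : IsPGroup p ↥Q := hNAp.map _
  have hQN : Q ≤ Subgroup.normalizer ((U : Subgroup G) : Set G) := by
    rintro x ⟨y, hy, rfl⟩
    have := conj_mem_normalizer_map_conj A k y hy.2
    rw [hk] at this
    simpa [MulAut.conj_apply] using this
  have hRp : IsPGroup p ↥((S : Subgroup G) ⊓ Subgroup.normalizer ((U : Subgroup G) : Set G)) :=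
    S.2.to_le inf_le_left
  obtain ⟨n, hnN, hn⟩ := exists_conj_le_of_relIndex (Subgroup.normalizer ((U : Subgroup G) : Set G))
    ((S : Subgroup G) ⊓ Subgroup.normalizer ((U : Subgroup G) : Set G)) Q inf_le_right hRp hU hQN hQp
  have hAU : ∀ a, a ∈ A ↔ k * a * k⁻¹ ∈ U := by
    intro a
    rw [← hk, mem_map_conj]
    have e : k⁻¹ * (k * a * k⁻¹) * k = a := by group
    rw [e]
  have hconj : ∀ a : G, (n * k)⁻¹⁻¹ * a * (n * k)⁻¹ = n * (k * a * k⁻¹) * n⁻¹ := by
    intro a; group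
  refine ⟨(n * k)⁻¹, ?_, ?_⟩
  · intro a
    rw [hconj, hAU a]
    exact (Subgroup.mem_normalizer_iff.mp hnN) _
  · have hgood : Good 𝓕 (NA : Set G) (n * k)⁻¹ := by
      apply IH NA inf_le_left hlt
      intro b hb
      rw [hconj]
      have hbQ : k * b * k⁻¹ ∈ Q := conj_mem_map_conj NA k b hb
      exact (hn _ hbQ).1
    apply good_mono 𝓕 _ _ hgood
    intro a ha
    exact ⟨hAS ha, Subgroup.le_normalizer ha⟩

theorem main {G : Type*} [Group G] [Finite G] {p : ℕ} [Fact p.Prime] (S : Sylow p G)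
    (𝓕 : Set (Subgroup G)) (h𝓕 : ∀ U ∈ 𝓕, U ≤ (S : Subgroup G))
    (h : ∀ T : Subgroup G, T ≤ (S : Subgroup G) → ∃ U ∈ 𝓕, (∃ g : G, T.map (MulAut.conj g).toMonoidHom = U) ∧ ¬ p ∣ ((S : Subgroup G) ⊓ Subgroup.normalizer ((U : Subgroup G) : Set G)).relIndex (Subgroup.normalizer ((U : Subgroup G) : Set G))) :
    ∀ n : ℕ, ∀ A : Subgroup G, A ≤ (S : Subgroup G) → Nat.card (S : Subgroup G) - Nat.card A = n →
      ∀ g : G, (∀ a ∈ A, g⁻¹ * a * g ∈ (S : Subgroup G)) → Good 𝓕 (A : Set G) g := by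
  intro n
  induction n using Nat.strong_induction_on with
  | _ n ih =>
  intro A hAS hn g hg
  by_cases hAeq : A = (S : Subgroup G)
  · -- A = S
    obtain ⟨U, hU𝓕, ⟨k, hk⟩, _⟩ := h A hAS
    have hUS : U ≤ A := by rw [hAeq]; exact h𝓕 U hU𝓕
    have hcard : Nat.card U = Nat.card A := by
      rw [← hk]; exact Subgroup.card_map_of_injective (MulAut.conj k).injective
    have hUeq : U = A := Subgroup.eq_of_le_of_card_ge hUS (le_of_eq hcard.symm)
    rw [hUeq] at hU𝓕
    refine ⟨[(A, g)], ?_, by simp [lprod]⟩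
    have hg' : ∀ a ∈ A, g⁻¹ * a * g ∈ A := by
      intro a ha
      rw [hAeq]
      exact hg a ha
    apply ch_single 𝓕 _ _ _ _ hU𝓕 (mem_normalizer_of_conj_le A g hg')
    intro a ha
    simpa using ha
  · -- A < S
    have hcardle : ∀ B : Subgroup G, B ≤ (S : Subgroup G) → Nat.card B ≤ Nat.card (S : Subgroup G) :=
      fun B hB => Subgroup.card_le_of_le hB
    have hAlt : Nat.card A < Nat.card (S : Subgroup G) := by
      by_contra hcon
      push Not at hcon
      exact hAeq (Subgroup.eq_of_le_of_card_ge hAS hcon)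
    obtain ⟨U, hU𝓕, ⟨k, hk⟩, hU⟩ := h A hAS
    -- induction hypothesis in convenient form
    have IH : ∀ A' : Subgroup G, Nat.card A' = Nat.card A → ∀ B : Subgroup G, B ≤ (S : Subgroup G) →
        Nat.card A' < Nat.card B →
        ∀ g : G, (∀ b ∈ B, g⁻¹ * b * g ∈ (S : Subgroup G)) → Good 𝓕 (B : Set G) g := by
      intro A' hA' B hBS hlt g' hg'
      have hBle := hcardle B hBS
      apply ih (Nat.card (S : Subgroup G) - Nat.card B) _ B hBS rfl g' hg'
      omega
    obtain ⟨h₁, hh₁, hgood₁⟩ := step1 S 𝓕 U hU A hAS hAeq k hk (IH A rfl)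
    -- the subgroup B = A^g
    set B := A.map (MulAut.conj g⁻¹).toMonoidHom with hB
    have hBmem : ∀ b, b ∈ B ↔ g * b * g⁻¹ ∈ A := by
      intro b
      rw [hB, mem_map_conj]
      simp
    have hBS : B ≤ (S : Subgroup G) := by
      intro b hb
      have := hg _ ((hBmem b).mp hb)
      have e : g⁻¹ * (g * b * g⁻¹) * g = b := by group
      rwa [e] at this
    have hBcard : Nat.card B = Nat.card A :=
      Subgroup.card_map_of_injective (MulAut.conj g⁻¹).injective
    have hBne : B ≠ (S : Subgroup G) := by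
      intro hcon
      rw [hcon] at hBcard
      omega
    have hkB : B.map (MulAut.conj (k * g)).toMonoidHom = U := by
      rw [hB, map_conj_map_conj]
      have : k * g * g⁻¹ = k := by group
      rw [this, hk]
    obtain ⟨h₂, hh₂, hgood₂⟩ := step1 S 𝓕 U hU B hBS hBne (k * g) hkB (IH B hBcard)
    -- the middle element
    set m := h₁⁻¹ * g * h₂ with hm
    have hmN : m ∈ Subgroup.normalizer ((U : Subgroup G) : Set G) := by
      apply mem_normalizer_of_conj_le
      intro u hu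
      have ha : h₁ * u * h₁⁻¹ ∈ A := by
        rw [hh₁]
        have e : h₁⁻¹ * (h₁ * u * h₁⁻¹) * h₁ = u := by group
        rw [e]; exact hu
      have hb : g⁻¹ * (h₁ * u * h₁⁻¹) * g ∈ B := by
        rw [hBmem]
        have e : g * (g⁻¹ * (h₁ * u * h₁⁻¹) * g) * g⁻¹ = h₁ * u * h₁⁻¹ := by group
        rw [e]; exact ha
      have := (hh₂ _).mp hb
      have e : m⁻¹ * u * m = h₂⁻¹ * (g⁻¹ * (h₁ * u * h₁⁻¹) * g) * h₂ := by
        rw [hm]; group
      rw [e]; exact this
    obtain ⟨l₁, hl₁, hp₁⟩ := hgood₁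
    obtain ⟨l₂, hl₂, hp₂⟩ := hgood₂
    -- reversed second chain, transported to A
    have hrev := ch_reverse 𝓕 (B : Set G) l₂ 1 hl₂
    rw [one_mul, hp₂] at hrev
    have hBimage : (B : Set G) = (fun a => g⁻¹ * a * g) '' (A : Set G) := by
      ext b
      constructor
      · intro hb
        refine ⟨g * b * g⁻¹, (hBmem b).mp hb, ?_⟩
        group
      · rintro ⟨a, ha, rfl⟩
        show g⁻¹ * a * g ∈ B
        rw [hBmem]
        have e : g * (g⁻¹ * a * g) * g⁻¹ = a := by group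
        rw [e]; exact ha
    rw [hBimage] at hrev
    have hrev' := ch_conj 𝓕 (A : Set G) g _ _ hrev
    -- middle chain
    have hmid : Ch 𝓕 (A : Set G) h₁ [(U, m)] := by
      apply ch_single 𝓕 _ _ _ _ hU𝓕 hmN
      intro a ha
      exact (hh₁ a).mp ha
    refine ⟨l₁ ++ ([(U, m)] ++ rinv l₂), ?_, ?_⟩
    · apply ch_append 𝓕 _ _ _ _ hl₁
      rw [one_mul, hp₁]
      apply ch_append 𝓕 _ _ _ _ hmid
      have e : h₁ * lprod [(U, m)] = g * h₂ := by
        simp only [lprod_cons, lprod_nil, mul_one, hm]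
        group
      rw [e]
      exact hrev'
    · rw [lprod_append, lprod_append, lprod_rinv, hp₁, hp₂, lprod_cons, lprod_nil, mul_one, hm]
      group

/-- Let p be a prime, G a finite group with Sylow p-subgroup S and 𝓕 a set of subgroups of S. Suppose that every subgroup T of S is G-conjugate to some member U of 𝓕 for which N_S(U) is a Sylow p-subgroup of N_G(U). Then 𝓕 is a conjugation family for S in G. -/
theorem result {G : Type*} [Group G] [Finite G] {p : ℕ} [Fact p.Prime] (S : Sylow p G) (𝓕 : Set (Subgroup G)) (h𝓕 : ∀ U ∈ 𝓕, U ≤ (S : Subgroup G)) (h : ∀ T : Subgroup G, T ≤ (S : Subgroup G) → ∃ U ∈ 𝓕, (∃ g : G, T.map (MulAut.conj g).toMonoidHom = U) ∧ ¬ p ∣ ((S : Subgroup G) ⊓ Subgroup.normalizer ((U : Subgroup G) : Set G)).relIndex (Subgroup.normalizer ((U : Subgroup G) : Set G))) : Cfsg.IsConjugationFamily 𝓕 (S : Subgroup G) := by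
  refine ⟨h𝓕, ?_⟩
  intro A g _ hAS hAg
  have hcl : Subgroup.closure A ≤ (S : Subgroup G) := (Subgroup.closure_le _).mpr hAS
  have hclg : ∀ a ∈ Subgroup.closure A, g⁻¹ * a * g ∈ (S : Subgroup G) := by
    have hle : Subgroup.closure A ≤ (S : Subgroup G).comap (MulAut.conj g⁻¹).toMonoidHom := by
      rw [Subgroup.closure_le]
      intro a ha
      have h1 : g⁻¹ * a * g ∈ (S : Subgroup G) := hAg ⟨a, ha, rfl⟩
      show (MulAut.conj g⁻¹) a ∈ (S : Subgroup G)
      rw [MulAut.conj_apply, inv_inv]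
      exact h1
    intro a ha
    have := hle ha
    have h2 : (MulAut.conj g⁻¹) a ∈ (S : Subgroup G) := this
    rw [MulAut.conj_apply, inv_inv] at h2
    exact h2
  have hgood := main S 𝓕 h𝓕 h _ (Subgroup.closure A) hcl rfl g hclg
  exact good_to_fin 𝓕 A g (good_mono 𝓕 Subgroup.subset_closure g hgood)

end Cfsg.Agent.S1965
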