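import Cfsg.Statements.S1961
import Cfsg.Agent.S1963
import Cfsg.Agent.S1965

set_option autoImplicit false
open Cfsg

namespace Cfsg.Agent.S1961

open Cfsg.Agent.Lib.Helper3_Conj Cfsg.Agent.Lib.Helper3_SylowRel Cfsg.Agent.Lib.Helper3_Alperin

/-- Two Sylow subgroups (in relative-index form) of `H` are conjugate in `H`. -/
theorem exists_conj_eq_of_relIndex {G : Type*} [Group G] [Finite G] {p : ℕ} [Fact p.Prime]
    (H R T₀ : Subgroup G) (hRH : R ≤ H) (hR : IsPGroup p ↥R) (hRi : ¬ p ∣ R.relIndex H)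
    (hTH : T₀ ≤ H) (hT : IsPGroup p ↥T₀) (hTi : ¬ p ∣ T₀.relIndex H) :
    ∃ u ∈ H, T₀.map (MulAut.conj u).toMonoidHom = R := by
  obtain ⟨n, hnH, hn⟩ := exists_conj_le_of_relIndex H R T₀ hRH hR hRi hTH hT
  obtain ⟨n', _, hn'⟩ := exists_conj_le_of_relIndex H T₀ R hTH hT hTi hRH hR
  have h1 : T₀.map (MulAut.conj n).toMonoidHom ≤ R := by
    rintro _ ⟨t, ht, rfl⟩
    simpa [MulAut.conj_apply] using hn t ht
  have h2 : R.map (MulAut.conj n').toMonoidHom ≤ T₀ := by
    rintro _ ⟨t, ht, rfl⟩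
    simpa [MulAut.conj_apply] using hn' t ht
  have c1 : Nat.card (T₀.map (MulAut.conj n).toMonoidHom) = Nat.card T₀ :=
    Subgroup.card_map_of_injective (MulAut.conj n).injective
  have c2 : Nat.card (R.map (MulAut.conj n').toMonoidHom) = Nat.card R :=
    Subgroup.card_map_of_injective (MulAut.conj n').injective
  have c3 := Subgroup.card_le_of_le h2
  refine ⟨n, hnH, Subgroup.eq_of_le_of_card_ge h1 ?_⟩
  omega

/-- Control of strong fusion in `H`, transported to a prescribed Sylow subgroup `R` of `H`. -/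
theorem control_at {G : Type*} [Group G] [Finite G] {p : ℕ} [Fact p.Prime]
    (W : Subgroup G → Subgroup G) (hW : Cfsg.IsConjugacyFunctor p W) (H R : Subgroup G)
    (hRH : R ≤ H) (hR : IsPGroup p ↥R) (hRi : ¬ p ∣ R.relIndex H)
    (hc : Cfsg.ControlsStrongFusionIn p W H) (A : Set G) (h : G) (hh : h ∈ H) (hAR : A ⊆ R)
    (hAh : ∀ a ∈ A, h * a * h⁻¹ ∈ R) :
    ∃ y ∈ H ⊓ Subgroup.normalizer ((W R : Subgroup G) : Set G), ∀ a ∈ A, y * a * y⁻¹ = h * a * h⁻¹ := by
  obtain ⟨T₀, hT₀H, hT₀p, hT₀i, hT₀⟩ := hc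
  obtain ⟨u, huH, hu⟩ := exists_conj_eq_of_relIndex H R T₀ hRH hR hRi hT₀H hT₀p hT₀i
  have hWR : W R = (W T₀).map (MulAut.conj u).toMonoidHom := by
    rw [← hu]; exact (hW T₀ hT₀p).2.2 u
  set A' : Set G := (fun t => u⁻¹ * t * u) '' A with hA'
  have hA'T₀ : A' ⊆ T₀ := by
    rintro _ ⟨t, ht, rfl⟩
    have : t ∈ T₀.map (MulAut.conj u).toMonoidHom := by rw [hu]; exact hAR ht
    exact (mem_map_conj T₀ u t).mp this
  have hA'h : (fun a => (u⁻¹ * h * u) * a * (u⁻¹ * h * u)⁻¹) '' A' ⊆ T₀ := by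
    rintro _ ⟨_, ⟨t, ht, rfl⟩, rfl⟩
    have h1 : h * t * h⁻¹ ∈ R := hAh t ht
    rw [← hu, mem_map_conj] at h1
    have : (u⁻¹ * h * u) * (u⁻¹ * t * u) * (u⁻¹ * h * u)⁻¹ = u⁻¹ * (h * t * h⁻¹) * u := by group
    show (u⁻¹ * h * u) * (u⁻¹ * t * u) * (u⁻¹ * h * u)⁻¹ ∈ (T₀ : Set G)
    rw [this]; exact h1
  have hh' : u⁻¹ * h * u ∈ H := H.mul_mem (H.mul_mem (H.inv_mem huH) hh) huH
  obtain ⟨x, hx, hxa⟩ := hT₀ A' (u⁻¹ * h * u) hh' hA'T₀ hA'h
  refine ⟨u * x * u⁻¹, ⟨H.mul_mem (H.mul_mem huH hx.1) (H.inv_mem huH), ?_⟩, ?_⟩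
  · rw [hWR]
    exact conj_mem_normalizer_map_conj (W T₀) u x hx.2
  · intro t ht
    have h1 := hxa (u⁻¹ * t * u) ⟨t, ht, rfl⟩
    calc (u * x * u⁻¹) * t * (u * x * u⁻¹)⁻¹ = u * (x * (u⁻¹ * t * u) * x⁻¹) * u⁻¹ := by group
      _ = u * ((u⁻¹ * h * u) * (u⁻¹ * t * u) * (u⁻¹ * h * u)⁻¹) * u⁻¹ := by rw [h1]
      _ = h * t * h⁻¹ := by group

/-- The tower of a tower term is the shifted tower. -/
theorem tower_shift {G : Type*} [Group G] (W : Subgroup G → Subgroup G) (S T : Subgroup G) (i : ℕ) :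
    ∀ k, functorTower W S (functorTower W S T i) k = functorTower W S T (i + k) := by
  intro k
  induction k with
  | zero => rfl
  | succ k ih =>
    show W (S ⊓ Subgroup.normalizer ((functorTower W S (functorTower W S T i) k : Subgroup G) : Set G)) =
      W (S ⊓ Subgroup.normalizer ((functorTower W S T (i + k) : Subgroup G) : Set G))
    rw [ih]

theorem tower_le {G : Type*} [Group G] {p : ℕ} (S : Sylow p G) (W : Subgroup G → Subgroup G)
    (hW : Cfsg.IsConjugacyFunctor p W) (T : Subgroup G) (hT : T ≤ (S : Subgroup G)) :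
    ∀ i, functorTower W (S : Subgroup G) T i ≤ (S : Subgroup G) := by
  intro i
  cases i with
  | zero => exact hT
  | succ i =>
    show W ((S : Subgroup G) ⊓ Subgroup.normalizer
      ((functorTower W (S : Subgroup G) T i : Subgroup G) : Set G)) ≤ _
    exact ((hW _ (S.2.to_le inf_le_left)).1).trans inf_le_left

theorem tower_ne_bot {G : Type*} [Group G] {p : ℕ} (S : Sylow p G) (W : Subgroup G → Subgroup G)
    (hW : Cfsg.IsConjugacyFunctor p W) (T : Subgroup G) (hT : T ≤ (S : Subgroup G)) (hne : T ≠ ⊥) :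
    ∀ i, functorTower W (S : Subgroup G) T i ≠ ⊥ := by
  intro i
  induction i with
  | zero => exact hne
  | succ i ih =>
    show W ((S : Subgroup G) ⊓ Subgroup.normalizer
      ((functorTower W (S : Subgroup G) T i : Subgroup G) : Set G)) ≠ ⊥
    apply (hW _ (S.2.to_le inf_le_left)).2.1
    intro hbot
    apply ih
    have hle : functorTower W (S : Subgroup G) T i ≤ (S : Subgroup G) ⊓ Subgroup.normalizer
        ((functorTower W (S : Subgroup G) T i : Subgroup G) : Set G) :=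
      le_inf (tower_le S W hW T hT i) Subgroup.le_normalizer
    rw [hbot] at hle
    exact le_bot_iff.mp hle

theorem tower_wellPlaced {G : Type*} [Group G] {p : ℕ} (S : Sylow p G) (W : Subgroup G → Subgroup G)
    (hW : Cfsg.IsConjugacyFunctor p W) (T : Subgroup G)
    (hT : Cfsg.IsWellPlaced p W (S : Subgroup G) T) (i : ℕ) :
    Cfsg.IsWellPlaced p W (S : Subgroup G) (functorTower W (S : Subgroup G) T i) := by
  refine ⟨tower_le S W hW T hT.1 i, ?_⟩
  intro k
  rw [tower_shift]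
  exact hT.2 (i + k)

/-- Eventually `N_S(U_j) = S`. -/
theorem exists_NS_eq {G : Type*} [Group G] [Finite G] {p : ℕ} [Fact p.Prime] (S : Sylow p G)
    (W : Subgroup G → Subgroup G) (hW : Cfsg.IsConjugacyFunctor p W) (T : Subgroup G) :
    ∃ j, (S : Subgroup G) ⊓ Subgroup.normalizer
      ((functorTower W (S : Subgroup G) T j : Subgroup G) : Set G) = (S : Subgroup G) := by
  obtain ⟨j, _, hj⟩ := Cfsg.Agent.S1963.exists_stable S W hW T
  refine ⟨j, ?_⟩
  set Nj := (S : Subgroup G) ⊓ Subgroup.normalizer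
      ((functorTower W (S : Subgroup G) T j : Subgroup G) : Set G) with hNj
  by_contra hne
  have hlt := card_lt_card_inf_normalizer (S : Subgroup G) Nj S.2 inf_le_left hne
  have hNjp : IsPGroup p ↥Nj := S.2.to_le inf_le_left
  -- N_S(N_j) ≤ N_S(W N_j) = N_{j+1} = N_j
  have hle : (S : Subgroup G) ⊓ Subgroup.normalizer ((Nj : Subgroup G) : Set G) ≤ Nj := by
    have h1 : (S : Subgroup G) ⊓ Subgroup.normalizer ((Nj : Subgroup G) : Set G) ≤
        (S : Subgroup G) ⊓ Subgroup.normalizer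
          ((functorTower W (S : Subgroup G) T (j + 1) : Subgroup G) : Set G) := by
      refine le_inf inf_le_left ?_
      show _ ≤ Subgroup.normalizer ((W Nj : Subgroup G) : Set G)
      intro s hs
      apply mem_normalizer_of_map_conj_eq_self
      rw [← (hW Nj hNjp).2.2 s, map_conj_eq_self_of_mem_normalizer Nj s hs.2]
    exact h1.trans (le_of_eq hj.symm)
  have := Subgroup.card_le_of_le hle
  omega

/-- Chain lemma: an element of `N_G(T)` acts on `T` like an element of `N_G(U_i)`, every `i`. -/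
theorem chain {G : Type*} [Group G] [Finite G] {p : ℕ} [Fact p.Prime] (S : Sylow p G)
    (W : Subgroup G → Subgroup G) (hW : Cfsg.IsConjugacyFunctor p W)
    (hloc : ∀ T : Subgroup G, T ≠ ⊥ → Cfsg.IsWellPlaced p W (S : Subgroup G) T →
      Cfsg.ControlsStrongFusionIn p W (Subgroup.normalizer ((T : Subgroup G) : Set G)))
    (T : Subgroup G) (hT : Cfsg.IsWellPlaced p W (S : Subgroup G) T) (hne : T ≠ ⊥) (x : G)
    (hx : x ∈ Subgroup.normalizer ((T : Subgroup G) : Set G)) :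
    ∀ i, ∃ y ∈ Subgroup.normalizer ((functorTower W (S : Subgroup G) T i : Subgroup G) : Set G),
      ∀ t ∈ T, y * t * y⁻¹ = x * t * x⁻¹ := by
  intro i
  induction i with
  | zero => exact ⟨x, hx, fun _ _ => rfl⟩
  | succ i ih =>
    obtain ⟨y, hy, hyt⟩ := ih
    set U := functorTower W (S : Subgroup G) T i with hU
    have hUwp := tower_wellPlaced S W hW T hT i
    have hUne := tower_ne_bot S W hW T hT.1 hne i
    have hc := hloc U hUne hUwp
    have hRi : ¬ p ∣ ((S : Subgroup G) ⊓ Subgroup.normalizer ((U : Subgroup G) : Set G)).relIndex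
        (Subgroup.normalizer ((U : Subgroup G) : Set G)) := hT.2 i
    have hTR : T ≤ (S : Subgroup G) ⊓ Subgroup.normalizer ((U : Subgroup G) : Set G) := by
      have h0 : T ≤ (S : Subgroup G) ⊓ Subgroup.normalizer
          ((functorTower W (S : Subgroup G) T 0 : Subgroup G) : Set G) :=
        le_inf hT.1 Subgroup.le_normalizer
      exact h0.trans (Cfsg.Agent.S1963.NS_tower_mono' S W hW T 0 i (Nat.zero_le i))
    obtain ⟨z, hz, hzt⟩ := control_at W hW (Subgroup.normalizer ((U : Subgroup G) : Set G))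
      ((S : Subgroup G) ⊓ Subgroup.normalizer ((U : Subgroup G) : Set G)) inf_le_right
      (S.2.to_le inf_le_left) hRi hc (T : Set G) y hy hTR (by
        intro a ha
        rw [hyt a ha]
        apply hTR
        exact (Subgroup.mem_normalizer_iff.mp hx a).mp ha)
    refine ⟨z, hz.2, ?_⟩
    intro t ht
    rw [hzt t ht, hyt t ht]

/-- Key claim: elements of normalizers of well-placed subgroups act like elements of `N_G(W S)`. -/
theorem claim {G : Type*} [Group G] [Finite G] {p : ℕ} [Fact p.Prime] (S : Sylow p G)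
    (W : Subgroup G → Subgroup G) (hW : Cfsg.IsConjugacyFunctor p W)
    (hloc : ∀ T : Subgroup G, T ≠ ⊥ → Cfsg.IsWellPlaced p W (S : Subgroup G) T →
      Cfsg.ControlsStrongFusionIn p W (Subgroup.normalizer ((T : Subgroup G) : Set G)))
    (T : Subgroup G) (hT : Cfsg.IsWellPlaced p W (S : Subgroup G) T) (x : G)
    (hx : x ∈ Subgroup.normalizer ((T : Subgroup G) : Set G)) :
    ∃ y ∈ Subgroup.normalizer ((W (S : Subgroup G) : Subgroup G) : Set G),
      ∀ t ∈ T, y * t * y⁻¹ = x * t * x⁻¹ := by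
  by_cases hne : T = ⊥
  · refine ⟨1, Subgroup.one_mem _, ?_⟩
    intro t ht
    rw [hne, Subgroup.mem_bot] at ht
    rw [ht]; group
  · obtain ⟨j, hj⟩ := exists_NS_eq S W hW T
    obtain ⟨y, hy, hyt⟩ := chain S W hW hloc T hT hne x hx (j + 1)
    refine ⟨y, ?_, hyt⟩
    have : functorTower W (S : Subgroup G) T (j + 1) = W (S : Subgroup G) := by
      show W ((S : Subgroup G) ⊓ Subgroup.normalizer
        ((functorTower W (S : Subgroup G) T j : Subgroup G) : Set G)) = _
      rw [hj]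
    rw [this] at hy
    exact hy

/-- Replace a chain through `𝓕` by a single element of `M`. -/
theorem collapse {G : Type*} [Group G] (𝓕 : Set (Subgroup G)) (M : Subgroup G) (A : Set G)
    (hM : ∀ T ∈ 𝓕, ∀ x ∈ Subgroup.normalizer ((T : Subgroup G) : Set G),
      ∃ z ∈ M, ∀ t ∈ T, z⁻¹ * t * z = x⁻¹ * t * x) :
    ∀ (l : List (Subgroup G × G)) (c : G), Ch 𝓕 A c l →
      ∃ z ∈ M, ∀ a ∈ A, (c * z)⁻¹ * a * (c * z) = (c * lprod l)⁻¹ * a * (c * lprod l)
  | [], c, _ => ⟨1, M.one_mem, fun a _ => by rw [lprod_nil]⟩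
  | q :: l, c, h => by
    obtain ⟨h1, h2, h3, h4⟩ := h
    obtain ⟨z₁, hz₁, hz₁t⟩ := hM q.1 h1 q.2 h2
    obtain ⟨z₂, hz₂, hz₂a⟩ := collapse 𝓕 M A hM l (c * q.2) h4
    refine ⟨z₁ * z₂, M.mul_mem hz₁ hz₂, ?_⟩
    intro a ha
    have e1 := hz₁t _ (h3 a ha)
    have e2 := hz₂a a ha
    calc (c * (z₁ * z₂))⁻¹ * a * (c * (z₁ * z₂)) = z₂⁻¹ * (z₁⁻¹ * (c⁻¹ * a * c) * z₁) * z₂ := by group
      _ = z₂⁻¹ * (q.2⁻¹ * (c⁻¹ * a * c) * q.2) * z₂ := by rw [e1]
      _ = (c * q.2 * z₂)⁻¹ * a * (c * q.2 * z₂) := by group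
      _ = (c * q.2 * lprod l)⁻¹ * a * (c * q.2 * lprod l) := e2
      _ = (c * lprod (q :: l))⁻¹ * a * (c * lprod (q :: l)) := by
        rw [lprod_cons, ← mul_assoc c q.2 (lprod l)]

/-- Local-to-global control of strong fusion through well-placed subgroups. Let p be a prime, G a finite group with Sylow p-subgroup S, and W a conjugacy functor for p on G. If W controls strong fusion in N_G(T) for every nonidentity subgroup T of S that is well placed in S with respect to W, then W controls strong fusion in G. -/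
theorem result {G : Type*} [Group G] [Finite G] {p : ℕ} [Fact p.Prime] (S : Sylow p G) (W : Subgroup G → Subgroup G) (hW : Cfsg.IsConjugacyFunctor p W) (hloc : ∀ T : Subgroup G, T ≠ ⊥ → Cfsg.IsWellPlaced p W (S : Subgroup G) T → Cfsg.ControlsStrongFusionIn p W (Subgroup.normalizer ((T : Subgroup G) : Set G))) : Cfsg.ControlsStrongFusionIn p W ⊤ := by
  refine ⟨S, le_top, S.isPGroup', ?_, ?_⟩
  · rw [Subgroup.relIndex_top_right]; exact S.not_dvd_index
  · intro A h _ hAS hAh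
    set 𝓕 : Set (Subgroup G) := {T : Subgroup G | Cfsg.IsWellPlaced p W (S : Subgroup G) T} with h𝓕def
    have h𝓕 : ∀ U ∈ 𝓕, U ≤ (S : Subgroup G) := fun U hU => hU.1
    have hcond : ∀ T : Subgroup G, T ≤ (S : Subgroup G) → ∃ U ∈ 𝓕, (∃ g : G, T.map (MulAut.conj g).toMonoidHom = U) ∧ ¬ p ∣ ((S : Subgroup G) ⊓ Subgroup.normalizer ((U : Subgroup G) : Set G)).relIndex (Subgroup.normalizer ((U : Subgroup G) : Set G)) := by
      intro T hT
      obtain ⟨g, hg⟩ := Cfsg.Agent.S1963.result S W hW T hT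
      exact ⟨T.map (MulAut.conj g).toMonoidHom, hg, ⟨g, rfl⟩, hg.2 0⟩
    have hcl : Subgroup.closure A ≤ (S : Subgroup G) := (Subgroup.closure_le _).mpr hAS
    have hclg : ∀ a ∈ Subgroup.closure A, h⁻¹⁻¹ * a * h⁻¹ ∈ (S : Subgroup G) := by
      have hle : Subgroup.closure A ≤ (S : Subgroup G).comap (MulAut.conj h).toMonoidHom := by
        rw [Subgroup.closure_le]
        intro a ha
        have h1 : h * a * h⁻¹ ∈ (S : Subgroup G) := hAh ⟨a, ha, rfl⟩
        show (MulAut.conj h) a ∈ (S : Subgroup G)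
        rw [MulAut.conj_apply]
        exact h1
      intro a ha
      have h2 : (MulAut.conj h) a ∈ (S : Subgroup G) := hle ha
      rw [MulAut.conj_apply] at h2
      rw [inv_inv]
      exact h2
    obtain ⟨l, hl, hp⟩ := Cfsg.Agent.S1965.main S 𝓕 h𝓕 hcond _ (Subgroup.closure A) hcl rfl h⁻¹ hclg
    have hM : ∀ T ∈ 𝓕, ∀ x ∈ Subgroup.normalizer ((T : Subgroup G) : Set G),
        ∃ z ∈ Subgroup.normalizer ((W (S : Subgroup G) : Subgroup G) : Set G),
          ∀ t ∈ T, z⁻¹ * t * z = x⁻¹ * t * x := by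
      intro T hT x hx
      obtain ⟨y, hy, hyt⟩ := claim S W hW hloc T hT x⁻¹ (Subgroup.inv_mem _ hx)
      refine ⟨y⁻¹, Subgroup.inv_mem _ hy, ?_⟩
      intro t ht
      rw [inv_inv]
      have := hyt t ht
      rw [inv_inv] at this
      exact this
    obtain ⟨z, hz, hza⟩ := collapse 𝓕 _ (Subgroup.closure A : Set G) hM l 1 hl
    refine ⟨z⁻¹, ⟨Subgroup.mem_top _, Subgroup.inv_mem _ hz⟩, ?_⟩
    intro a ha
    have := hza a (Subgroup.subset_closure ha)
    rw [one_mul, one_mul, hp] at this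
    rw [inv_inv] at this ⊢
    exact this

end Cfsg.Agent.S1961
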