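import Cfsg.Statements.S1960
import Cfsg.Agent.S1963
import Cfsg.Agent.S1961

set_option autoImplicit false
open Cfsg

namespace Cfsg.Agent.S1960

open Cfsg.Agent.Lib.Helper3_Conj Cfsg.Agent.Lib.Helper3_SylowRel Cfsg.Agent.Lib.Helper3_Alperin
open scoped commutatorElement

variable {G : Type*} [Group G]

/-- left-conjugation version of `mem_normalizer_of_conj_le`. -/
theorem mem_normalizer_of_conj_le' [Finite G] (H : Subgroup G) (g : G)
    (h : ∀ a ∈ H, g * a * g⁻¹ ∈ H) : g ∈ Subgroup.normalizer ((H : Subgroup G) : Set G) := by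
  have := mem_normalizer_of_conj_le H g⁻¹ (by
    intro a ha
    rw [inv_inv]; exact h a ha)
  simpa using Subgroup.inv_mem _ this

/-- `N(P) ≤ N(W P)` for a `p`-group `P`. -/
theorem normalizer_le_normalizer_functor {p : ℕ} (W : Subgroup G → Subgroup G)
    (hW : Cfsg.IsConjugacyFunctor p W) (P : Subgroup G) (hP : IsPGroup p ↥P) :
    Subgroup.normalizer ((P : Subgroup G) : Set G) ≤ Subgroup.normalizer ((W P : Subgroup G) : Set G) := by
  intro s hs
  apply mem_normalizer_of_map_conj_eq_self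
  rw [← (hW P hP).2.2 s, map_conj_eq_self_of_mem_normalizer P s hs]

section abstractAlperin

variable [Finite G] {p : ℕ} [Fact p.Prime] (S : Sylow p G) (Gd : Set G → G → Prop)
  (hmono : ∀ (A B : Set G) (g : G), B ⊆ A → Gd A g → Gd B g)
  (hcomp : ∀ (A A' : Set G) (g h : G), (∀ a ∈ A, g * a * g⁻¹ ∈ A') → Gd A g → Gd A' h → Gd A (h * g))
  (hinv : ∀ (A : Set G) (g : G), Gd A g → Gd ((fun a => g * a * g⁻¹) '' A) g⁻¹)

include hmono in
/-- Step 1 (left conjugation): move `A` onto `U` together with its normalizer in `S`. -/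
theorem step1 (U : Subgroup G)
    (hU : ¬ p ∣ ((S : Subgroup G) ⊓ Subgroup.normalizer ((U : Subgroup G) : Set G)).relIndex
      (Subgroup.normalizer ((U : Subgroup G) : Set G)))
    (A : Subgroup G) (hAS : A ≤ (S : Subgroup G)) (hne : A ≠ (S : Subgroup G)) (k : G)
    (hk : A.map (MulAut.conj k).toMonoidHom = U)
    (IH : ∀ B : Subgroup G, B ≤ (S : Subgroup G) → Nat.card A < Nat.card B →
      ∀ g : G, (∀ b ∈ B, g * b * g⁻¹ ∈ (S : Subgroup G)) → Gd (B : Set G) g) :
    ∃ h₁ : G, (∀ a, a ∈ A ↔ h₁ * a * h₁⁻¹ ∈ U) ∧ Gd (A : Set G) h₁ := by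
  set NA := (S : Subgroup G) ⊓ Subgroup.normalizer ((A : Subgroup G) : Set G) with hNA
  have hlt : Nat.card A < Nat.card NA := card_lt_card_inf_normalizer (S : Subgroup G) A S.2 hAS hne
  set Q := NA.map (MulAut.conj k).toMonoidHom with hQ
  have hNAp : IsPGroup p ↥NA := S.2.to_le inf_le_left
  have hQp : IsPGroup p ↥Q := hNAp.map _
  have hQN : Q ≤ Subgroup.normalizer ((U : Subgroup G) : Set G) := by
    rintro x ⟨y, hy, rfl⟩
    have := conj_mem_normalizer_map_conj A k y hy.2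
    rw [hk] at this
    simpa [MulAut.conj_apply] using this
  have hRp : IsPGroup p ↥((S : Subgroup G) ⊓ Subgroup.normalizer ((U : Subgroup G) : Set G)) :=
    S.2.to_le inf_le_left
  obtain ⟨n, hnN, hn⟩ := exists_conj_le_of_relIndex (Subgroup.normalizer ((U : Subgroup G) : Set G))
    ((S : Subgroup G) ⊓ Subgroup.normalizer ((U : Subgroup G) : Set G)) Q inf_le_right hRp hU hQN hQp
  have hAU : ∀ a, a ∈ A ↔ k * a * k⁻¹ ∈ U := by
    intro a
    rw [← hk, mem_map_conj]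
    have e : k⁻¹ * (k * a * k⁻¹) * k = a := by group
    rw [e]
  have hconj : ∀ a : G, (n * k) * a * (n * k)⁻¹ = n * (k * a * k⁻¹) * n⁻¹ := by
    intro a; group
  refine ⟨n * k, ?_, ?_⟩
  · intro a
    rw [hconj, hAU a]
    exact (Subgroup.mem_normalizer_iff.mp hnN) _
  · have hgood : Gd (NA : Set G) (n * k) := by
      apply IH NA inf_le_left hlt
      intro b hb
      rw [hconj]
      have hbQ : k * b * k⁻¹ ∈ Q := conj_mem_map_conj NA k b hb
      exact (hn _ hbQ).1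
    apply hmono _ _ _ _ hgood
    intro a ha
    exact ⟨hAS ha, Subgroup.le_normalizer ha⟩

include hmono hcomp hinv in
/-- Alperin's argument with an abstract notion `Gd`. -/
theorem alperin_step (U : Subgroup G)
    (hU : ¬ p ∣ ((S : Subgroup G) ⊓ Subgroup.normalizer ((U : Subgroup G) : Set G)).relIndex
      (Subgroup.normalizer ((U : Subgroup G) : Set G)))
    (hUgood : ∀ m ∈ Subgroup.normalizer ((U : Subgroup G) : Set G), Gd (U : Set G) m)
    (A : Subgroup G) (hAS : A ≤ (S : Subgroup G)) (hne : A ≠ (S : Subgroup G)) (k : G)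
    (hk : A.map (MulAut.conj k).toMonoidHom = U)
    (IH : ∀ B : Subgroup G, B ≤ (S : Subgroup G) → Nat.card A < Nat.card B →
      ∀ g : G, (∀ b ∈ B, g * b * g⁻¹ ∈ (S : Subgroup G)) → Gd (B : Set G) g) :
    ∀ g : G, (∀ a ∈ A, g * a * g⁻¹ ∈ (S : Subgroup G)) → Gd (A : Set G) g := by
  intro g hg
  obtain ⟨h₁, hh₁, hgood₁⟩ := step1 S Gd hmono U hU A hAS hne k hk IH
  set B := A.map (MulAut.conj g).toMonoidHom with hB
  have hBmem : ∀ b, b ∈ B ↔ g⁻¹ * b * g ∈ A := fun b => mem_map_conj A g b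
  have hBS : B ≤ (S : Subgroup G) := by
    intro b hb
    have := hg _ ((hBmem b).mp hb)
    have e : g * (g⁻¹ * b * g) * g⁻¹ = b := by group
    rwa [e] at this
  have hBcard : Nat.card B = Nat.card A :=
    Subgroup.card_map_of_injective (MulAut.conj g).injective
  have hAlt : Nat.card A < Nat.card (S : Subgroup G) := by
    by_contra hcon
    push Not at hcon
    exact hne (Subgroup.eq_of_le_of_card_ge hAS hcon)
  have hBne : B ≠ (S : Subgroup G) := by
    intro hcon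
    rw [hcon] at hBcard
    omega
  have hkB : B.map (MulAut.conj (k * g⁻¹)).toMonoidHom = U := by
    rw [hB, map_conj_map_conj]
    have : k * g⁻¹ * g = k := by group
    rw [this, hk]
  have IH' : ∀ B' : Subgroup G, B' ≤ (S : Subgroup G) → Nat.card B < Nat.card B' →
      ∀ g : G, (∀ b ∈ B', g * b * g⁻¹ ∈ (S : Subgroup G)) → Gd (B' : Set G) g := by
    intro B' hB' hlt
    apply IH B' hB'
    omega
  obtain ⟨h₂, hh₂, hgood₂⟩ := step1 S Gd hmono U hU B hBS hBne (k * g⁻¹) hkB IH'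
  set m := h₂ * g * h₁⁻¹ with hm
  have hmN : m ∈ Subgroup.normalizer ((U : Subgroup G) : Set G) := by
    apply mem_normalizer_of_conj_le'
    intro u hu
    have ha : h₁⁻¹ * u * h₁ ∈ A := by
      rw [hh₁]
      have e : h₁ * (h₁⁻¹ * u * h₁) * h₁⁻¹ = u := by group
      rw [e]; exact hu
    have hb : g * (h₁⁻¹ * u * h₁) * g⁻¹ ∈ B := by
      rw [hBmem]
      have e : g⁻¹ * (g * (h₁⁻¹ * u * h₁) * g⁻¹) * g = h₁⁻¹ * u * h₁ := by group
      rw [e]; exact ha
    have := (hh₂ _).mp hb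
    have e : m * u * m⁻¹ = h₂ * (g * (h₁⁻¹ * u * h₁) * g⁻¹) * h₂⁻¹ := by
      rw [hm]; group
    rw [e]; exact this
  have c1 : Gd (A : Set G) (m * h₁) :=
    hcomp (A : Set G) (U : Set G) h₁ m (fun a ha => (hh₁ a).mp ha) hgood₁ (hUgood m hmN)
  have c2 := hinv (B : Set G) h₂ hgood₂
  have c3 : Gd (A : Set G) (h₂⁻¹ * (m * h₁)) := by
    refine hcomp (A : Set G) _ (m * h₁) h₂⁻¹ ?_ c1 c2
    intro a ha
    refine ⟨g * a * g⁻¹, ?_, ?_⟩
    · show g * a * g⁻¹ ∈ B
      rw [hBmem]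
      have e : g⁻¹ * (g * a * g⁻¹) * g = a := by group
      rw [e]; exact ha
    · show h₂ * (g * a * g⁻¹) * h₂⁻¹ = m * h₁ * a * (m * h₁)⁻¹
      rw [hm]; group
  have e : h₂⁻¹ * (m * h₁) = g := by rw [hm]; group
  rw [e] at c3
  exact c3

end abstractAlperin

/-- The notion of goodness for transfer: the "commutators" `a⁻¹ a^g` lie in `D`. -/
def Gd (D : Subgroup G) (A : Set G) (g : G) : Prop := ∀ a ∈ A, a⁻¹ * (g * a * g⁻¹) ∈ D

theorem gd_mono (D : Subgroup G) (A B : Set G) (g : G) (hBA : B ⊆ A) (h : Gd D A g) : Gd D B g :=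
  fun a ha => h a (hBA ha)

theorem gd_comp (D : Subgroup G) (A A' : Set G) (g h : G) (hsub : ∀ a ∈ A, g * a * g⁻¹ ∈ A')
    (hg : Gd D A g) (hh : Gd D A' h) : Gd D A (h * g) := by
  intro a ha
  have e : a⁻¹ * (h * g * a * (h * g)⁻¹) =
      (a⁻¹ * (g * a * g⁻¹)) * ((g * a * g⁻¹)⁻¹ * (h * (g * a * g⁻¹) * h⁻¹)) := by group
  rw [e]
  exact D.mul_mem (hg a ha) (hh _ (hsub a ha))

theorem gd_inv (D : Subgroup G) (A : Set G) (g : G) (hg : Gd D A g) :
    Gd D ((fun a => g * a * g⁻¹) '' A) g⁻¹ := by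
  rintro _ ⟨a, ha, rfl⟩
  have e : (g * a * g⁻¹)⁻¹ * (g⁻¹ * (g * a * g⁻¹) * g⁻¹⁻¹) = (a⁻¹ * (g * a * g⁻¹))⁻¹ := by group
  rw [e]
  exact D.inv_mem (hg a ha)

/-- Family control of transfer in `H`, transported to a prescribed Sylow subgroup `R` of `H`. -/
theorem family_transfer_at [Finite G] {p : ℕ} [Fact p.Prime]
    (𝓦 : Set (Subgroup G → Subgroup G)) (h𝓦 : ∀ W ∈ 𝓦, Cfsg.IsConjugacyFunctor p W)
    (H R : Subgroup G)
    (hRH : R ≤ H) (hR : IsPGroup p ↥R) (hRi : ¬ p ∣ R.relIndex H)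
    (hc : Cfsg.FamilyControlsTransferIn p 𝓦 H) :
    R ⊓ ⁅H, H⁆ = ⨆ W ∈ 𝓦, R ⊓ ⁅H ⊓ Subgroup.normalizer ((W R : Subgroup G) : Set G),
      H ⊓ Subgroup.normalizer ((W R : Subgroup G) : Set G)⁆ := by
  obtain ⟨T₀, hT₀H, hT₀p, hT₀i, hT₀⟩ := hc
  obtain ⟨u, huH, hu⟩ := Cfsg.Agent.S1961.exists_conj_eq_of_relIndex H R T₀ hRH hR hRi hT₀H hT₀p hT₀i
  have hWR : ∀ W ∈ 𝓦, W R = (W T₀).map (MulAut.conj u).toMonoidHom := by
    intro W hW
    rw [← hu]; exact (h𝓦 W hW T₀ hT₀p).2.2 u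
  have hinj : Function.Injective (MulAut.conj u).toMonoidHom := (MulAut.conj u).injective
  have hHu : H.map (MulAut.conj u).toMonoidHom = H :=
    map_conj_eq_self_of_mem_normalizer H u (Subgroup.le_normalizer huH)
  have h1 := congrArg (Subgroup.map (MulAut.conj u).toMonoidHom) hT₀
  rw [Subgroup.map_inf_eq _ _ _ hinj, Subgroup.map_commutator, hHu, hu] at h1
  rw [h1]
  simp only [Subgroup.map_iSup]
  refine iSup_congr fun W => iSup_congr fun hW => ?_
  rw [Subgroup.map_inf_eq _ _ _ hinj, Subgroup.map_commutator, Subgroup.map_inf_eq _ _ _ hinj, hHu, hu,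
    Subgroup.map_equiv_normalizer_eq (W T₀) (MulAut.conj u), ← hWR W hW]

section mainInduction

variable [Finite G] {p : ℕ} [Fact p.Prime] (S : Sylow p G)
  (𝓦 : Set (Subgroup G → Subgroup G)) (h𝓦 : ∀ W ∈ 𝓦, Cfsg.IsConjugacyFunctor p W)
  (hloc : ∀ T : Subgroup G, T ≤ (S : Subgroup G) → T ≠ ⊥ → ¬ p ∣ ((S : Subgroup G) ⊓ Subgroup.normalizer ((T : Subgroup G) : Set G)).relIndex (Subgroup.normalizer ((T : Subgroup G) : Set G)) → Cfsg.FamilyControlsTransferIn p 𝓦 (Subgroup.normalizer ((T : Subgroup G) : Set G)))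

/-- The target subgroup. -/
def DD {p : ℕ} (S : Sylow p G) (𝓦 : Set (Subgroup G → Subgroup G)) : Subgroup G :=
  ⨆ W ∈ 𝓦, (S : Subgroup G) ⊓ ⁅Subgroup.normalizer ((W (S : Subgroup G) : Subgroup G) : Set G),
    Subgroup.normalizer ((W (S : Subgroup G) : Subgroup G) : Set G)⁆

def PP {p : ℕ} (S : Sylow p G) (𝓦 : Set (Subgroup G → Subgroup G)) (A : Subgroup G) : Prop :=
  ∀ g : G, (∀ a ∈ A, g * a * g⁻¹ ∈ (S : Subgroup G)) → Gd (DD S 𝓦) (A : Set G) g

def QQ {p : ℕ} (S : Sylow p G) (𝓦 : Set (Subgroup G → Subgroup G)) (R : Subgroup G) : Prop :=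
  ∀ W ∈ 𝓦, R ⊓ ⁅Subgroup.normalizer ((W R : Subgroup G) : Set G),
    Subgroup.normalizer ((W R : Subgroup G) : Set G)⁆ ≤ DD S 𝓦

omit [Finite G] [Fact p.Prime] in
theorem QQ_top : QQ S 𝓦 (S : Subgroup G) := by
  intro W hW
  exact le_iSup₂ (f := fun (W : Subgroup G → Subgroup G) (_ : W ∈ 𝓦) =>
    (S : Subgroup G) ⊓ ⁅Subgroup.normalizer ((W (S : Subgroup G) : Subgroup G) : Set G),
    Subgroup.normalizer ((W (S : Subgroup G) : Subgroup G) : Set G)⁆) W hW

include h𝓦 in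
/-- Local control at `V`. -/
theorem loc (V : Subgroup G)
    (hc : Cfsg.FamilyControlsTransferIn p 𝓦 (Subgroup.normalizer ((V : Subgroup G) : Set G)))
    (hVi : ¬ p ∣ ((S : Subgroup G) ⊓ Subgroup.normalizer ((V : Subgroup G) : Set G)).relIndex
      (Subgroup.normalizer ((V : Subgroup G) : Set G)))
    (hQ : QQ S 𝓦 ((S : Subgroup G) ⊓ Subgroup.normalizer ((V : Subgroup G) : Set G))) :
    ((S : Subgroup G) ⊓ Subgroup.normalizer ((V : Subgroup G) : Set G)) ⊓
      ⁅Subgroup.normalizer ((V : Subgroup G) : Set G), Subgroup.normalizer ((V : Subgroup G) : Set G)⁆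
      ≤ DD S 𝓦 := by
  rw [family_transfer_at 𝓦 h𝓦 (Subgroup.normalizer ((V : Subgroup G) : Set G))
    ((S : Subgroup G) ⊓ Subgroup.normalizer ((V : Subgroup G) : Set G)) inf_le_right
    (S.2.to_le inf_le_left) hVi hc]
  refine iSup₂_le fun W hW => ?_
  refine le_trans ?_ (hQ W hW)
  exact inf_le_inf_left _ (Subgroup.commutator_mono inf_le_right inf_le_right)

include h𝓦 in
theorem loc' (V : Subgroup G)
    (hc : Cfsg.FamilyControlsTransferIn p 𝓦 (Subgroup.normalizer ((V : Subgroup G) : Set G)))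
    (hVi : ¬ p ∣ ((S : Subgroup G) ⊓ Subgroup.normalizer ((V : Subgroup G) : Set G)).relIndex
      (Subgroup.normalizer ((V : Subgroup G) : Set G)))
    (hQ : QQ S 𝓦 ((S : Subgroup G) ⊓ Subgroup.normalizer ((V : Subgroup G) : Set G)))
    (m : G) (hm : m ∈ Subgroup.normalizer ((V : Subgroup G) : Set G)) (b : G)
    (hb : b ∈ (S : Subgroup G) ⊓ Subgroup.normalizer ((V : Subgroup G) : Set G))
    (hbm : m * b * m⁻¹ ∈ (S : Subgroup G) ⊓ Subgroup.normalizer ((V : Subgroup G) : Set G)) :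
    b⁻¹ * (m * b * m⁻¹) ∈ DD S 𝓦 := by
  apply loc S 𝓦 h𝓦 V hc hVi hQ
  refine ⟨Subgroup.mul_mem _ (Subgroup.inv_mem _ hb) hbm, ?_⟩
  have e : b⁻¹ * (m * b * m⁻¹) = ⁅b⁻¹, m⁆ := by rw [commutatorElement_def]; group
  rw [e]
  exact Subgroup.commutator_mem_commutator (Subgroup.inv_mem _ hb.2) hm

include h𝓦 hloc in
theorem QQ_step (A : Subgroup G) (hAS : A ≤ (S : Subgroup G)) (hne : A ≠ (S : Subgroup G))
    (IHP : ∀ B : Subgroup G, B ≤ (S : Subgroup G) → Nat.card A < Nat.card B → PP S 𝓦 B)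
    (IHQ : ∀ B : Subgroup G, B ≤ (S : Subgroup G) → Nat.card A < Nat.card B → QQ S 𝓦 B) :
    QQ S 𝓦 A := by
  intro W hW z hz
  by_cases hA : A = ⊥
  · have hzA : z ∈ A := hz.1
    rw [hA, Subgroup.mem_bot] at hzA
    rw [hzA]; exact Subgroup.one_mem _
  have hAp : IsPGroup p ↥A := S.2.to_le hAS
  set V := W A with hVdef
  have hVA : V ≤ A := (h𝓦 W hW A hAp).1
  have hVne : V ≠ ⊥ := (h𝓦 W hW A hAp).2.1 hA
  have hVS : V ≤ (S : Subgroup G) := hVA.trans hAS
  set R₁ := (S : Subgroup G) ⊓ Subgroup.normalizer ((V : Subgroup G) : Set G) with hR₁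
  have hNA : (S : Subgroup G) ⊓ Subgroup.normalizer ((A : Subgroup G) : Set G) ≤ R₁ :=
    inf_le_inf_left _ (normalizer_le_normalizer_functor W (h𝓦 W hW) A hAp)
  have hAR₁ : A ≤ R₁ := (le_inf hAS Subgroup.le_normalizer).trans hNA
  have hlt1 : Nat.card A < Nat.card R₁ :=
    lt_of_lt_of_le (card_lt_card_inf_normalizer (S : Subgroup G) A S.2 hAS hne)
      (Subgroup.card_le_of_le hNA)
  obtain ⟨y, hy1, hy2⟩ := Cfsg.Agent.S1963.exists_conj_sylow_normalizer S V
  set V' := V.map (MulAut.conj y).toMonoidHom with hV'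
  set R₁' := (S : Subgroup G) ⊓ Subgroup.normalizer ((V' : Subgroup G) : Set G) with hR₁'
  have hNV' : Subgroup.normalizer ((V' : Subgroup G) : Set G) =
      (Subgroup.normalizer ((V : Subgroup G) : Set G)).map (MulAut.conj y).toMonoidHom := by
    rw [hV', ← Subgroup.map_equiv_normalizer_eq V (MulAut.conj y)]
  have hRR : R₁.map (MulAut.conj y).toMonoidHom ≤ R₁' := by
    refine le_inf hy1 ?_
    rw [hNV']
    exact Subgroup.map_mono inf_le_right
  have hlt2 : Nat.card A < Nat.card R₁' := by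
    have h1 : Nat.card (R₁.map (MulAut.conj y).toMonoidHom) = Nat.card R₁ :=
      Subgroup.card_map_of_injective (MulAut.conj y).injective
    have h2 := Subgroup.card_le_of_le hRR
    omega
  have hV'S : V' ≤ (S : Subgroup G) :=
    (Subgroup.map_mono (le_inf hVS Subgroup.le_normalizer)).trans hy1
  have hV'ne : V' ≠ ⊥ := by
    intro hbot
    exact hVne ((Subgroup.map_eq_bot_iff_of_injective V (MulAut.conj y).injective).mp hbot)
  have hcV' := hloc V' hV'S hV'ne hy2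
  have hPR₁ : PP S 𝓦 R₁ := IHP R₁ inf_le_left hlt1
  have hQR₁' : QQ S 𝓦 R₁' := IHQ R₁' inf_le_left hlt2
  have hygood : Gd (DD S 𝓦) (R₁ : Set G) y :=
    hPR₁ y (fun b hb => hy1 (conj_mem_map_conj R₁ y b hb))
  -- y z y⁻¹ ∈ D
  have h1 : y * z * y⁻¹ ∈ DD S 𝓦 := by
    apply loc S 𝓦 h𝓦 V' hcV' hy2 hQR₁'
    refine ⟨hRR (conj_mem_map_conj R₁ y z (hAR₁ hz.1)), ?_⟩
    rw [hNV', ← Subgroup.map_commutator]
    exact conj_mem_map_conj _ y z hz.2
  have h2 : z⁻¹ * (y * z * y⁻¹) ∈ DD S 𝓦 := hygood z (hAR₁ hz.1)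
  have e : z = (y * z * y⁻¹) * (z⁻¹ * (y * z * y⁻¹))⁻¹ := by group
  rw [e]
  exact Subgroup.mul_mem _ h1 (Subgroup.inv_mem _ h2)

include h𝓦 hloc in
theorem PP_step (A : Subgroup G) (hAS : A ≤ (S : Subgroup G))
    (IHP : ∀ B : Subgroup G, B ≤ (S : Subgroup G) → Nat.card A < Nat.card B → PP S 𝓦 B)
    (IHQ : ∀ B : Subgroup G, B ≤ (S : Subgroup G) → Nat.card A < Nat.card B → QQ S 𝓦 B) :
    PP S 𝓦 A := by
  by_cases hA : A = ⊥
  · intro g _ b hb
    have hb' : b ∈ A := hb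
    rw [hA, Subgroup.mem_bot] at hb'
    rw [hb']
    have : (1 : G)⁻¹ * (g * 1 * g⁻¹) = 1 := by group
    rw [this]; exact Subgroup.one_mem _
  by_cases hAeq : A = (S : Subgroup G)
  · intro g hg
    have hg' : ∀ a ∈ A, g * a * g⁻¹ ∈ A := by
      intro a ha; rw [hAeq]; exact hg a ha
    have hgN : g ∈ Subgroup.normalizer ((A : Subgroup G) : Set G) := mem_normalizer_of_conj_le' A g hg'
    have hinf : (S : Subgroup G) ⊓ Subgroup.normalizer ((A : Subgroup G) : Set G) = (S : Subgroup G) := by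
      rw [inf_eq_left, ← hAeq]; exact Subgroup.le_normalizer
    have hcond : ¬ p ∣ ((S : Subgroup G) ⊓ Subgroup.normalizer ((A : Subgroup G) : Set G)).relIndex
        (Subgroup.normalizer ((A : Subgroup G) : Set G)) := by
      rw [hinf]
      intro hdvd
      apply S.not_dvd_index
      have hle : (S : Subgroup G) ≤ Subgroup.normalizer ((A : Subgroup G) : Set G) := by
        rw [← hAeq]; exact Subgroup.le_normalizer
      exact dvd_trans hdvd (Subgroup.relIndex_dvd_index_of_le hle)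
    have hc := hloc A hAS hA hcond
    have hQ : QQ S 𝓦 ((S : Subgroup G) ⊓ Subgroup.normalizer ((A : Subgroup G) : Set G)) := by
      rw [hinf]; exact QQ_top S 𝓦
    intro a ha
    apply loc' S 𝓦 h𝓦 A hc hcond hQ g hgN
    · rw [hinf]; exact hAS ha
    · rw [hinf]; exact hg a ha
  · obtain ⟨y, hy1, hy2⟩ := Cfsg.Agent.S1963.exists_conj_sylow_normalizer S A
    set U := A.map (MulAut.conj y).toMonoidHom with hU
    have hUS : U ≤ (S : Subgroup G) :=
      (Subgroup.map_mono (le_inf hAS Subgroup.le_normalizer)).trans hy1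
    have hUne : U ≠ ⊥ := by
      intro hbot
      exact hA ((Subgroup.map_eq_bot_iff_of_injective A (MulAut.conj y).injective).mp hbot)
    have hUcard : Nat.card U = Nat.card A :=
      Subgroup.card_map_of_injective (MulAut.conj y).injective
    have hAlt : Nat.card A < Nat.card (S : Subgroup G) := by
      by_contra hcon
      push Not at hcon
      exact hAeq (Subgroup.eq_of_le_of_card_ge hAS hcon)
    have hUneS : U ≠ (S : Subgroup G) := by
      intro hcon
      rw [hcon] at hUcard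
      omega
    have hlt : Nat.card A < Nat.card ↥((S : Subgroup G) ⊓ Subgroup.normalizer ((U : Subgroup G) : Set G)) := by
      rw [← hUcard]
      exact card_lt_card_inf_normalizer (S : Subgroup G) U S.2 hUS hUneS
    have hQ : QQ S 𝓦 ((S : Subgroup G) ⊓ Subgroup.normalizer ((U : Subgroup G) : Set G)) :=
      IHQ _ inf_le_left hlt
    have hc := hloc U hUS hUne hy2
    have hUgood : ∀ m ∈ Subgroup.normalizer ((U : Subgroup G) : Set G),
        Gd (DD S 𝓦) (U : Set G) m := by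
      intro m hm u hu
      apply loc' S 𝓦 h𝓦 U hc hy2 hQ m hm
      · exact ⟨hUS hu, Subgroup.le_normalizer hu⟩
      · have : m * u * m⁻¹ ∈ U := (Subgroup.mem_normalizer_iff.mp hm u).mp hu
        exact ⟨hUS this, Subgroup.le_normalizer this⟩
    exact alperin_step S (Gd (DD S 𝓦)) (gd_mono _) (gd_comp _) (gd_inv _) U hy2 hUgood A hAS hAeq y rfl IHP

include h𝓦 hloc in
theorem main : ∀ n : ℕ, ∀ A : Subgroup G, A ≤ (S : Subgroup G) →
    Nat.card (S : Subgroup G) - Nat.card A = n → PP S 𝓦 A ∧ QQ S 𝓦 A := by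
  intro n
  induction n using Nat.strong_induction_on with
  | _ n ih =>
  intro A hAS hn
  have hcardle : ∀ B : Subgroup G, B ≤ (S : Subgroup G) → Nat.card B ≤ Nat.card (S : Subgroup G) :=
    fun B hB => Subgroup.card_le_of_le hB
  have IHP : ∀ B : Subgroup G, B ≤ (S : Subgroup G) → Nat.card A < Nat.card B → PP S 𝓦 B := by
    intro B hBS hlt
    have := hcardle B hBS
    exact (ih (Nat.card (S : Subgroup G) - Nat.card B) (by omega) B hBS rfl).1
  have IHQ : ∀ B : Subgroup G, B ≤ (S : Subgroup G) → Nat.card A < Nat.card B → QQ S 𝓦 B := by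
    intro B hBS hlt
    have := hcardle B hBS
    exact (ih (Nat.card (S : Subgroup G) - Nat.card B) (by omega) B hBS rfl).2
  refine ⟨PP_step S 𝓦 h𝓦 hloc A hAS IHP IHQ, ?_⟩
  by_cases hAeq : A = (S : Subgroup G)
  · rw [hAeq]; exact QQ_top S 𝓦
  · exact QQ_step S 𝓦 h𝓦 hloc A hAS hAeq IHP IHQ

end mainInduction

/-- Let p be a prime, G a finite group with Sylow p-subgroup S, and 𝓦 a set of conjugacy functors for p on G. Suppose that 𝓦 controls transfer in N_G(T) for every nonidentity subgroup T of S for which N_S(T) is a Sylow p-subgroup of N_G(T): for a Sylow p-subgroup T' of N_G(T), the intersection of T' with the derived subgroup of N_G(T) is generated by its intersections with the derived subgroups of the normalizers in N_G(T) of the W(T'), W ∈ 𝓦. Then 𝓦 controls transfer in G: S ∩ G' is generated by the subgroups S ∩ (N_G(W(S)))', W ∈ 𝓦. -/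
theorem result {G : Type*} [Group G] [Finite G] {p : ℕ} [Fact p.Prime] (S : Sylow p G) (𝓦 : Set (Subgroup G → Subgroup G)) (h𝓦 : ∀ W ∈ 𝓦, Cfsg.IsConjugacyFunctor p W) (hloc : ∀ T : Subgroup G, T ≤ (S : Subgroup G) → T ≠ ⊥ → ¬ p ∣ ((S : Subgroup G) ⊓ Subgroup.normalizer ((T : Subgroup G) : Set G)).relIndex (Subgroup.normalizer ((T : Subgroup G) : Set G)) → Cfsg.FamilyControlsTransferIn p 𝓦 (Subgroup.normalizer ((T : Subgroup G) : Set G))) : Cfsg.FamilyControlsTransferIn p 𝓦 ⊤ := by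
  refine ⟨S, le_top, S.isPGroup', ?_, ?_⟩
  · rw [Subgroup.relIndex_top_right]; exact S.not_dvd_index
  · simp only [top_inf_eq]
    show _ = DD S 𝓦
    apply le_antisymm
    · have hfoc : (S : Subgroup G) ⊓ ⁅(⊤ : Subgroup G), ⊤⁆ = (S : Subgroup G).focalSubgroup := by
        rw [inf_comm, ← commutator_def]
        exact Subgroup.commutator_inf_eq_focalSubgroup S
      rw [hfoc, Subgroup.focalSubgroup_def, Subgroup.closure_le]
      rintro g ⟨hgS, x, hxS, u, rfl⟩
      have haS : x⁻¹ ∈ (S : Subgroup G) := Subgroup.inv_mem _ hxS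
      have hbS : u * x⁻¹ * u⁻¹ ∈ (S : Subgroup G) := by
        have e : u * x⁻¹ * u⁻¹ = x⁻¹ * ⁅x, u⁆ := by rw [commutatorElement_def]; group
        rw [e]; exact Subgroup.mul_mem _ haS hgS
      have hcl : Subgroup.zpowers x⁻¹ ≤ (S : Subgroup G) := by
        rw [Subgroup.zpowers_le]; exact haS
      have hclg : ∀ a ∈ Subgroup.zpowers x⁻¹, u * a * u⁻¹ ∈ (S : Subgroup G) := by
        intro a ha
        obtain ⟨k, rfl⟩ := Subgroup.mem_zpowers_iff.mp ha
        have e : u * x⁻¹ ^ k * u⁻¹ = (u * x⁻¹ * u⁻¹) ^ k := by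
          have := map_zpow (MulAut.conj u) x⁻¹ k
          simp only [MulAut.conj_apply] at this
          exact this
        rw [e]
        exact Subgroup.zpow_mem _ hbS k
      have hPP := (main S 𝓦 h𝓦 hloc _ (Subgroup.zpowers x⁻¹) hcl rfl).1
      have := hPP u hclg x⁻¹ (Subgroup.mem_zpowers x⁻¹)
      have e : x⁻¹⁻¹ * (u * x⁻¹ * u⁻¹) = ⁅x, u⁆ := by rw [commutatorElement_def]; group
      rw [e] at this
      exact this
    · refine iSup₂_le fun W hW => ?_
      exact inf_le_inf_left _ (Subgroup.commutator_mono le_top le_top)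

end Cfsg.Agent.S1960
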