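import Cfsg.Statements.S1958
import Cfsg.Agent.S0017
import Cfsg.Agent.Lib.Helper5_AxB
import Cfsg.Agent.Lib.Helper5_PPrime
import Cfsg.Agent.Lib.Helper4_PCore
import Cfsg.Agent.Lib.Lead_Hall
import Cfsg.Agent.S1960

set_option autoImplicit false
open Cfsg

namespace Cfsg.Agent.S1958

open Cfsg.Agent.Lib.Helper4_PCore Cfsg.Agent.Lib.Helper5_PPrime

/-- `O_{p'}(G / O_{p'}(G)) = 1` -/
theorem pPrimeCore_quotient (p : ℕ) [Fact p.Prime] (G : Type*) [Group G] [Finite G] :
    Cfsg.pPrimeCore p (G ⧸ Cfsg.pPrimeCore p G) = ⊥ := by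
  haveI hKn : (Cfsg.pPrimeCore p G).Normal := pPrimeCore_normal p G
  have hKc : (Nat.card (Cfsg.pPrimeCore p G)).Coprime p := pPrimeCore_coprime p G
  rw [eq_bot_iff]
  apply sSup_le
  rintro N ⟨hNn, hNc⟩
  haveI := hNn
  have hMn : (N.comap (QuotientGroup.mk' (Cfsg.pPrimeCore p G))).Normal := inferInstance
  have hMc : (Nat.card (N.comap (QuotientGroup.mk' (Cfsg.pPrimeCore p G)))).Coprime p := by
    rw [Cfsg.Agent.Lib.Lead_Hall.card_comap_mk]
    exact Nat.Coprime.mul_left hNc hKc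
  have hle : N.comap (QuotientGroup.mk' (Cfsg.pPrimeCore p G)) ≤ Cfsg.pPrimeCore p G :=
    le_pPrimeCore _ hMc
  intro x hx
  obtain ⟨g, rfl⟩ := QuotientGroup.mk_surjective x
  rw [Subgroup.mem_bot]
  exact (QuotientGroup.eq_one_iff g).mpr (hle hx)

/-- the case `O_{p'}(K) = 1` -/
theorem key0 {K : Type*} [Group K] [Finite K] [Group.IsSolvable K] (p : ℕ) [Fact p.Prime]
    (h : Cfsg.pPrimeCore p K = ⊥) (P X : Subgroup K) (hP : IsPGroup p ↥P)
    (hXP : X ≤ Subgroup.centralizer (P : Set K))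
    (hN : Subgroup.centralizer (P : Set K) ≤ Subgroup.normalizer (X : Set K))
    (hX : (Nat.card X).Coprime p) : X = ⊥ := by
  have hQn : (Cfsg.pCore p K).Normal := pCore_normal p K
  have hQp : IsPGroup p ↥(Cfsg.pCore p K) := pCore_isPGroup
  have hXQ : X ⊓ Cfsg.pCore p K = ⊥ := by
    rw [inf_comm]; exact inf_eq_bot_of_pGroup_of_coprime hQp hX
  have hA : ∀ a ∈ X, (orderOf a).Coprime p := by
    intro a ha
    have h2 : orderOf a ∣ Nat.card X := by
      have := orderOf_dvd_natCard (⟨a, ha⟩ : X)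
      rwa [Subgroup.orderOf_mk] at this
    exact Nat.Coprime.coprime_dvd_left h2 hX
  have hnorm : ∀ Y : Subgroup K, Y ≤ Subgroup.normalizer ((Cfsg.pCore p K : Subgroup K) : Set K) := by
    intro Y
    rw [Subgroup.normalizer_eq_top_iff.mpr hQn]; exact le_top
  have h1 := Cfsg.Agent.Lib.Helper5_AxB.thompson_AxB (p := p) X P hA hP hXP (Cfsg.pCore p K) hQp
    (hnorm X) (hnorm P) (by
      intro c hc
      rw [Subgroup.mem_centralizer_iff]
      intro x hx
      have hcx : c * x * c⁻¹ ∈ X := (Subgroup.mem_normalizer_iff.mp (hN hc.2) x).mp hx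
      have h3 : c * x * c⁻¹ * x⁻¹ ∈ X ⊓ Cfsg.pCore p K := by
        refine ⟨X.mul_mem hcx (X.inv_mem hx), ?_⟩
        have h4 : x * c⁻¹ * x⁻¹ ∈ Cfsg.pCore p K := hQn.conj_mem _ (Subgroup.inv_mem _ hc.1) x
        have e : c * x * c⁻¹ * x⁻¹ = c * (x * c⁻¹ * x⁻¹) := by group
        rw [e]; exact Subgroup.mul_mem _ hc.1 h4
      rw [hXQ, Subgroup.mem_bot] at h3
      calc x * c = (c * x * c⁻¹ * x⁻¹)⁻¹ * (c * x) := by group
        _ = c * x := by rw [h3, inv_one, one_mul])
  have h2 : X ≤ Subgroup.centralizer ((Cfsg.pCore p K : Subgroup K) : Set K) := by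
    intro x hx
    rw [Subgroup.mem_centralizer_iff]
    intro q hq
    exact (Subgroup.mem_centralizer_iff.mp (h1 hq) x hx).symm
  have h3 : X ≤ Cfsg.pCore p K := h2.trans (Cfsg.Agent.S0017.result p h)
  rw [← hXQ]
  exact (le_inf le_rfl h3).antisymm inf_le_left

/-- In a finite solvable group `H`, a `p'`-subgroup `X` of `C_H(P)` normalized by `C_H(P)`
(`P` a `p`-subgroup) lies in `O_{p'}(H)`. -/
theorem key {H : Type*} [Group H] [Finite H] [Group.IsSolvable H] (p : ℕ) [Fact p.Prime]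
    (P X : Subgroup H) (hP : IsPGroup p ↥P)
    (hXP : X ≤ Subgroup.centralizer (P : Set H))
    (hN : Subgroup.centralizer (P : Set H) ≤ Subgroup.normalizer (X : Set H))
    (hX : (Nat.card X).Coprime p) : X ≤ Cfsg.pPrimeCore p H := by
  haveI hDn : (Cfsg.pPrimeCore p H).Normal := pPrimeCore_normal p H
  have hDc : (Nat.card (Cfsg.pPrimeCore p H)).Coprime p := pPrimeCore_coprime p H
  set D := Cfsg.pPrimeCore p H with hD
  set f := QuotientGroup.mk' D with hf
  have hbot := pPrimeCore_quotient p H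
  have hker : ∀ z : H, f z = 1 ↔ z ∈ D := fun z => QuotientGroup.eq_one_iff z
  have h0 := key0 p hbot (P.map f) (X.map f) (hP.map f)
    (by
      rintro _ ⟨x, hx, rfl⟩
      rw [Subgroup.mem_centralizer_iff]
      rintro _ ⟨a, ha, rfl⟩
      rw [← map_mul, ← map_mul, Subgroup.mem_centralizer_iff.mp (hXP hx) a ha])
    (by
      intro ybar hy
      obtain ⟨y, rfl⟩ := QuotientGroup.mk'_surjective D ybar
      -- y centralizes P modulo D
      have hmod : ∀ a ∈ P, y⁻¹ * a * y * a⁻¹ ∈ D := by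
        intro a ha
        rw [← hker]
        have h1 : f a * f y = f y * f a := Subgroup.mem_centralizer_iff.mp hy (f a) ⟨a, ha, rfl⟩
        simp only [map_mul, map_inv]
        rw [mul_assoc (f y)⁻¹, h1]
        group
      have hPD : P ≤ Subgroup.normalizer (D : Set H) := by
        rw [Subgroup.normalizer_eq_top_iff.mpr hDn]; exact le_top
      have hcop : (Nat.card P).Coprime (Nat.card D) := by
        obtain ⟨k, hk⟩ := hP.exists_card_eq
        rw [hk]
        exact Nat.Coprime.pow_left k hDc.symm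
      obtain ⟨d, hd, hyd⟩ := Cfsg.Agent.Lib.Lead_Coprime.lemmaC D P hPD hcop
        (Or.inl inferInstance) y hmod
      have hfy : (QuotientGroup.mk' D) y = f (y * d) := by
        show f y = f (y * d)
        rw [map_mul, (hker d).mpr hd, mul_one]
      rw [hfy]
      have hnorm := hN hyd
      apply Cfsg.Agent.S1960.mem_normalizer_of_conj_le'
      rintro _ ⟨x, hx, rfl⟩
      refine ⟨(y * d) * x * (y * d)⁻¹, (Subgroup.mem_normalizer_iff.mp hnorm x).mp hx, ?_⟩
      simp only [map_mul, map_inv])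
    (Nat.Coprime.coprime_dvd_left (Subgroup.card_map_dvd X f) hX)
  intro x hx
  rw [← hker]
  have : f x ∈ X.map f := ⟨x, hx, rfl⟩
  rw [h0, Subgroup.mem_bot] at this
  exact this


theorem cppc_le {G : Type*} [Group G] (p : ℕ) (y : G) :
    Cfsg.centralizerPPrimeCore p y ≤ Subgroup.centralizer ({y} : Set G) := by
  rintro _ ⟨z, _, rfl⟩
  exact z.2

theorem half {G : Type*} [Group G] [Finite G] (p : ℕ) [Fact p.Prime] (x y : G)
    (hy : orderOf y = p) (hxy : x * y = y * x)
    (hCx : Group.IsSolvable ↥(Subgroup.centralizer ({x} : Set G))) :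
    Cfsg.centralizerPPrimeCore p y ⊓ Subgroup.centralizer ({x} : Set G) ≤
      Cfsg.centralizerPPrimeCore p x := by
  set H := Subgroup.centralizer ({x} : Set G) with hH
  set Cy := Subgroup.centralizer ({y} : Set G) with hCy
  have hyH : y ∈ H := Subgroup.mem_centralizer_singleton_iff.mpr hxy.symm
  set yH : ↥H := ⟨y, hyH⟩ with hyHdef
  set P : Subgroup ↥H := Subgroup.zpowers yH with hPdef
  have hP : IsPGroup p ↥P := by
    apply IsPGroup.of_card (n := 1)
    rw [Nat.card_zpowers, pow_one, Subgroup.orderOf_mk, hy]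
  set W := Cfsg.centralizerPPrimeCore p y ⊓ H with hW
  set X : Subgroup ↥H := W.subgroupOf H with hXdef
  have hle : Cfsg.centralizerPPrimeCore p y ≤ Cy := cppc_le p y
  have hnormal : ∀ c ∈ Cy, ∀ w ∈ Cfsg.centralizerPPrimeCore p y,
      c * w * c⁻¹ ∈ Cfsg.centralizerPPrimeCore p y := by
    rintro c hc _ ⟨z, hz, rfl⟩
    have hn := pPrimeCore_normal p ↥Cy
    exact ⟨⟨c, hc⟩ * z * ⟨c, hc⟩⁻¹, hn.conj_mem z hz ⟨c, hc⟩, rfl⟩
  have hcard : (Nat.card (Cfsg.centralizerPPrimeCore p y)).Coprime p := by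
    unfold Cfsg.centralizerPPrimeCore
    rw [Subgroup.card_map_of_injective (Subgroup.subtype_injective _)]
    exact pPrimeCore_coprime p _
  have hXP : X ≤ Subgroup.centralizer (P : Set ↥H) := by
    intro w hw
    rw [Subgroup.mem_centralizer_iff]
    intro a ha
    obtain ⟨k, rfl⟩ := Subgroup.mem_zpowers_iff.mp ha
    have hw' : (w : G) ∈ W := Subgroup.mem_subgroupOf.mp hw
    have h1 : (w : G) * y = y * w := Subgroup.mem_centralizer_singleton_iff.mp (hle hw'.1)
    have h2 : Commute yH w := Subtype.ext h1.symm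
    exact (h2.zpow_left k)
  have hN : Subgroup.centralizer (P : Set ↥H) ≤ Subgroup.normalizer (X : Set ↥H) := by
    intro c hc
    apply Cfsg.Agent.S1960.mem_normalizer_of_conj_le'
    intro w hw
    have hcy : (c : G) ∈ Cy := by
      rw [hCy, Subgroup.mem_centralizer_singleton_iff]
      have := Subgroup.mem_centralizer_iff.mp hc yH (Subgroup.mem_zpowers yH)
      exact (congrArg Subtype.val this).symm
    have hw' : (w : G) ∈ W := Subgroup.mem_subgroupOf.mp hw
    rw [hXdef, Subgroup.mem_subgroupOf]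
    refine ⟨?_, (c * w * c⁻¹).2⟩
    have := hnormal c hcy w hw'.1
    simpa using this
  have hX : (Nat.card X).Coprime p := by
    have h1 : Nat.card X = Nat.card W :=
      Nat.card_congr (Subgroup.subgroupOfEquivOfLe (inf_le_right : W ≤ H)).toEquiv
    rw [h1]
    exact Nat.Coprime.coprime_dvd_left (Subgroup.card_dvd_of_le inf_le_left) hcard
  have hkey := key p P X hP hXP hN hX
  intro w hw
  exact ⟨⟨w, hw.2⟩, hkey (Subgroup.mem_subgroupOf.mpr hw), rfl⟩

/-- Let `G` be a finite group, `p` a prime, and `x, y` commuting elements of order `p` whose centralizers `C_G(x)` and `C_G(y)` are both solvable. Then `O_{p'}(C_G(x)) ∩ C_G(y) = O_{p'}(C_G(y)) ∩ C_G(x)` (balance). -/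
theorem result {G : Type*} [Group G] [Finite G]
    (p : ℕ) [Fact p.Prime] (x y : G) (hx : orderOf x = p) (hy : orderOf y = p) (hxy : x * y = y * x)
    (hCx : Group.IsSolvable ↥(Subgroup.centralizer ({x} : Set G))) (hCy : Group.IsSolvable ↥(Subgroup.centralizer ({y} : Set G))) :
    Cfsg.centralizerPPrimeCore p x ⊓ Subgroup.centralizer {y} = Cfsg.centralizerPPrimeCore p y ⊓ Subgroup.centralizer {x} := by
  apply le_antisymm
  · exact le_inf (half p y x hx hxy.symm hCy) (inf_le_left.trans (cppc_le p x))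
  · exact le_inf (half p x y hy hxy hCx) (inf_le_left.trans (cppc_le p y))

end Cfsg.Agent.S1958
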