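import Cfsg.Statements.S1266
import Cfsg.Agent.Lib.Helper3_Components
import Cfsg.Agent.Lib.Helper3_LayerPre
import Cfsg.Agent.Lib.Helper5_AxB
import Cfsg.Agent.Lib.Helper4_PCore

set_option autoImplicit false
open Cfsg

namespace Cfsg.Agent.S1266

/-- Let P be a p-subgroup of the finite group G and N = N_G(P). Then the preimage in N of E(N / O_{p'}(N)) centralizes O_p(G). -/
theorem result {G : Type*} [Group G] [Finite G] (p : ℕ) [Fact p.Prime] (P : Subgroup G) (hP : IsPGroup p ↥P) : (((Cfsg.layer (↥(Subgroup.normalizer ((P : Subgroup G) : Set G)) ⧸ Cfsg.pPrimeCore p ↥(Subgroup.normalizer ((P : Subgroup G) : Set G)))).comap (QuotientGroup.mk' (Cfsg.pPrimeCore p ↥(Subgroup.normalizer ((P : Subgroup G) : Set G))))).map (Subgroup.normalizer ((P : Subgroup G) : Set G)).subtype) ≤ Subgroup.centralizer (Cfsg.pCore p G : Set G) := by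
  classical
  have hQn : (Cfsg.pCore p G).Normal := Cfsg.pCore_normal p G
  have hQp : IsPGroup p ↥(Cfsg.pCore p G) := Cfsg.Agent.Lib.Helper4_PCore.pCore_isPGroup
  set Q := Cfsg.pCore p G with hQ
  set N := Subgroup.normalizer ((P : Subgroup G) : Set G) with hN
  have hPN : P ≤ N := Subgroup.le_normalizer
  -- normal p-subgroups of N
  have hR1n : (P.subgroupOf N).Normal := Subgroup.normal_subgroupOf_of_le_normalizer le_rfl
  have hR1p : IsPGroup p ↥(P.subgroupOf N) :=
    hP.of_equiv (Subgroup.subgroupOfEquivOfLe hPN).symm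
  have hR2n : (Q.subgroupOf N).Normal := inferInstance
  have hR2p : IsPGroup p ↥(Q.subgroupOf N) := by
    have h1 : IsPGroup p ↥(Q ⊓ N : Subgroup G) := hQp.to_le inf_le_left
    have e := Subgroup.subgroupOfEquivOfLe (inf_le_right : Q ⊓ N ≤ N)
    rw [← Subgroup.inf_subgroupOf_right]
    exact h1.of_equiv e.symm
  have hc1 := Cfsg.Agent.Lib.Helper3_LayerPre.layerPre_commute_normal_pgroup p (P.subgroupOf N) hR1p
  have hc2 := Cfsg.Agent.Lib.Helper3_LayerPre.layerPre_commute_normal_pgroup p (Q.subgroupOf N) hR2p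
  rw [Subgroup.map_le_iff_le_comap]
  apply Cfsg.Agent.Lib.Helper3_LayerPre.layerPre_le_of_pprime_mem p
  intro x hx hcop
  show (x : G) ∈ Subgroup.centralizer (Q : Set G)
  set a : G := (x : G) with ha
  have hcopa : (orderOf a).Coprime p := by rw [ha, Subgroup.orderOf_coe]; exact hcop
  have hnormQ : ∀ Y : Subgroup G, Y ≤ Subgroup.normalizer ((Q : Subgroup G) : Set G) := by
    intro Y
    rw [Subgroup.normalizer_eq_top_iff.mpr hQn]; exact le_top
  have hA : ∀ y ∈ Subgroup.zpowers a, (orderOf y).Coprime p := by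
    intro y hy
    exact Nat.Coprime.coprime_dvd_left (orderOf_dvd_of_mem_zpowers hy) hcopa
  have hacentP : ∀ y ∈ P, a * y = y * a := by
    intro y hy
    have h := Cfsg.Agent.Lib.Helper3_Components.commute_of_commutator_eq_bot hc1 hx
      (show (⟨y, hPN hy⟩ : ↥N) ∈ P.subgroupOf N from Subgroup.mem_subgroupOf.mpr hy)
    exact congrArg Subtype.val h
  have hacentQ : ∀ y ∈ Q ⊓ N, a * y = y * a := by
    intro y hy
    have h := Cfsg.Agent.Lib.Helper3_Components.commute_of_commutator_eq_bot hc2 hx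
      (show (⟨y, hy.2⟩ : ↥N) ∈ Q.subgroupOf N from Subgroup.mem_subgroupOf.mpr hy.1)
    exact congrArg Subtype.val h
  have hAB : Subgroup.zpowers a ≤ Subgroup.centralizer (P : Set G) := by
    rw [Subgroup.zpowers_le, Subgroup.mem_centralizer_iff]
    intro y hy
    exact (hacentP y hy).symm
  have h4 := Cfsg.Agent.Lib.Helper5_AxB.thompson_AxB (p := p) (Subgroup.zpowers a) P hA
    hP hAB Q hQp (hnormQ _) (hnormQ _) (by
      intro y hy
      rw [Subgroup.mem_centralizer_iff]
      intro z hz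
      obtain ⟨k, rfl⟩ := Subgroup.mem_zpowers_iff.mp hz
      have hyN : y ∈ N := Subgroup.centralizer_le_normalizer _ hy.2
      have hc : Commute a y := hacentQ y ⟨hy.1, hyN⟩
      exact (hc.zpow_left k))
  rw [Subgroup.mem_centralizer_iff]
  intro y hy
  exact (Subgroup.mem_centralizer_iff.mp (h4 hy) a (Subgroup.mem_zpowers a)).symm

end Cfsg.Agent.S1266
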