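import Cfsg.Statements.S1268
import Cfsg.Agent.Lib.Helper3_Components
import Cfsg.Agent.Lib.Helper3_LayerPre
import Cfsg.Agent.Lib.Lead_Fitting
import Cfsg.Agent.S1265
import Cfsg.Agent.S1266

set_option autoImplicit false
open Cfsg

namespace Cfsg.Agent.S1268

/-- if `O_{p'}(M) = 1` then `F(M) = O_p(M)` -/
theorem fitting_eq_pCore_of_pPrimeCore_eq_bot {M : Type*} [Group M] [Finite M] (p : ℕ)
    [Fact p.Prime] (hD : Cfsg.pPrimeCore p M = ⊥) : Cfsg.fittingSubgroup M = Cfsg.pCore p M := by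
  apply le_antisymm
  · rw [Cfsg.Agent.Lib.Lead_Fitting.fitting_eq]
    refine (Cfsg.Agent.Lib.Lead_Fitting.F0_le M p).trans ?_
    apply sup_le le_rfl
    obtain ⟨hYn, hYc⟩ := Cfsg.Agent.Lib.Lead_Fitting.Y_spec M p
    have : Cfsg.Agent.Lib.Lead_Fitting.Y M p ≤ Cfsg.pPrimeCore p M := le_sSup ⟨hYn, hYc⟩
    rw [hD] at this
    exact this.trans bot_le
  · apply le_sSup
    refine ⟨Cfsg.pCore_normal p M, ?_⟩
    exact (Cfsg.Agent.Lib.Helper4_PCore.pCore_isPGroup (G := M) (p := p)).isNilpotent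

/-- if `O_{p'}(M) = 1` and the preimage of `E(M / O_{p'}(M))` is a `p`-group then `F*(M) = O_p(M)` -/
theorem gf_eq_pCore_of_layerPre_pGroup {M : Type*} [Group M] [Finite M] (p : ℕ) [Fact p.Prime]
    (hX : IsPGroup p ↥((Cfsg.layer (M ⧸ Cfsg.pPrimeCore p M)).comap
      (QuotientGroup.mk' (Cfsg.pPrimeCore p M)))) :
    Cfsg.generalizedFittingSubgroup M = Cfsg.pCore p M := by
  set D := Cfsg.pPrimeCore p M with hDdef
  have hDle : D ≤ (Cfsg.layer (M ⧸ D)).comap (QuotientGroup.mk' D) := by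
    intro d hd
    rw [Subgroup.mem_comap]
    have : QuotientGroup.mk' D d = 1 := (QuotientGroup.eq_one_iff d).mpr hd
    rw [this]; exact Subgroup.one_mem _
  have hDp : IsPGroup p ↥D := hX.to_le hDle
  have hD : D = ⊥ := by
    have := Cfsg.Agent.Lib.Helper5_PPrime.inf_eq_bot_of_pGroup_of_coprime hDp
      (Cfsg.Agent.Lib.Helper5_PPrime.pPrimeCore_coprime p M)
    rwa [inf_idem] at this
  have hinj : Function.Injective (QuotientGroup.mk' D) := by
    rw [← MonoidHom.ker_eq_bot_iff, QuotientGroup.ker_mk']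
    exact hD
  have hlayer : Cfsg.layer M = ⊥ := by
    rw [eq_bot_iff]
    apply sSup_le
    intro L hL
    exfalso
    have hLbar : Cfsg.IsComponent (L.map (QuotientGroup.mk' D)) :=
      ⟨hL.1.map (QuotientGroup.mk'_surjective D),
        Cfsg.Agent.S1754.quasisimple_of_equiv (L.equivMapOfInjective _ hinj) hL.2⟩
    have hLle : L ≤ (Cfsg.layer (M ⧸ D)).comap (QuotientGroup.mk' D) := by
      rw [← Subgroup.map_le_iff_le_comap]
      exact le_sSup hLbar
    have hLp : IsPGroup p ↥L := hX.to_le hLle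
    apply Cfsg.Agent.Lib.Helper3_Components.quasisimple_not_solvable hL.2
    haveI : Group.IsNilpotent ↥L := hLp.isNilpotent
    infer_instance
  unfold Cfsg.generalizedFittingSubgroup
  rw [hlayer, bot_sup_eq]
  exact fitting_eq_pCore_of_pPrimeCore_eq_bot p hD

/-- Let G be finite with F*(G) = O_p(G). Then F*(N) = O_p(N) for N the normalizer of any p-subgroup P of G. -/
theorem result {G : Type*} [Group G] [Finite G] (p : ℕ) [Fact p.Prime] (h : Cfsg.generalizedFittingSubgroup G = Cfsg.pCore p G) (P : Subgroup G) (hP : IsPGroup p ↥P) : Cfsg.generalizedFittingSubgroup ↥(Subgroup.normalizer ((P : Subgroup G) : Set G)) = Cfsg.pCore p ↥(Subgroup.normalizer ((P : Subgroup G) : Set G)) := by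
  classical
  have hQp : IsPGroup p ↥(Cfsg.pCore p G) := Cfsg.Agent.Lib.Helper4_PCore.pCore_isPGroup
  apply gf_eq_pCore_of_layerPre_pGroup p
  have h1 := Cfsg.Agent.S1266.result p P hP
  have h2 : Subgroup.centralizer (Cfsg.pCore p G : Set G) ≤ Cfsg.pCore p G := by
    have := Cfsg.Agent.S1265.result (G := G)
    rwa [h] at this
  have h3 := h1.trans h2
  have hp' := hQp.to_le h3
  exact hp'.of_equiv
    (Subgroup.equivMapOfInjective _ _ (Subgroup.subtype_injective _)).symm

end Cfsg.Agent.S1268
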