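import Cfsg.Statements.S1306
import Cfsg.Agent.Lib.Helper3_Components
import Cfsg.Agent.Lib.Helper3_Transport
import Cfsg.Agent.S1960

set_option autoImplicit false
open Cfsg

namespace Cfsg.Agent.S1306

universe u

open Cfsg.Agent.Lib.Helper3_Components

theorem mem_centralizer_map_conj {G : Type u} [Group G] (L : Subgroup G) (g z : G) :
    z ∈ Subgroup.centralizer ((L.map (MulAut.conj g).toMonoidHom : Subgroup G) : Set G) ↔
      g⁻¹ * z * g ∈ Subgroup.centralizer (L : Set G) := by
  rw [Subgroup.mem_centralizer_iff, Subgroup.mem_centralizer_iff]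
  constructor
  · intro h l hl
    have h1 := h (g * l * g⁻¹) ⟨l, hl, rfl⟩
    calc l * (g⁻¹ * z * g) = g⁻¹ * ((g * l * g⁻¹) * z) * g := by group
      _ = g⁻¹ * (z * (g * l * g⁻¹)) * g := by rw [h1]
      _ = g⁻¹ * z * g * l := by group
  · rintro h _ ⟨l, hl, rfl⟩
    have h1 := h l hl
    show g * l * g⁻¹ * z = z * (g * l * g⁻¹)
    calc g * l * g⁻¹ * z = g * (l * (g⁻¹ * z * g)) * g⁻¹ := by group
      _ = g * ((g⁻¹ * z * g) * l) * g⁻¹ := by rw [h1]
      _ = z * (g * l * g⁻¹) := by group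

/-- conjugation as an isomorphism between centralizers -/
def centConj {G : Type u} [Group G] (g y : G) :
    ↥(Subgroup.centralizer ({y} : Set G)) ≃* ↥(Subgroup.centralizer ({g * y * g⁻¹} : Set G)) where
  toFun z := ⟨g * z * g⁻¹, by
    have hz := z.2
    rw [Subgroup.mem_centralizer_singleton_iff] at hz ⊢
    calc g * ↑z * g⁻¹ * (g * y * g⁻¹) = g * (↑z * y) * g⁻¹ := by group
      _ = g * (y * ↑z) * g⁻¹ := by rw [hz]
      _ = g * y * g⁻¹ * (g * ↑z * g⁻¹) := by group⟩
  invFun w := ⟨g⁻¹ * w * g, by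
    have hw := w.2
    rw [Subgroup.mem_centralizer_singleton_iff] at hw ⊢
    calc g⁻¹ * ↑w * g * y = g⁻¹ * (↑w * (g * y * g⁻¹)) * g := by group
      _ = g⁻¹ * ((g * y * g⁻¹) * ↑w) * g := by rw [hw]
      _ = y * (g⁻¹ * ↑w * g) := by group⟩
  left_inv z := by apply Subtype.ext; simp only; group
  right_inv w := by apply Subtype.ext; simp only; group
  map_mul' a b := by apply Subtype.ext; simp only [Subgroup.coe_mul]; group

theorem compOf_conj {G : Type u} [Group G] (L : Subgroup G) (y g : G)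
    (hLy : L ≤ Subgroup.centralizer ({y} : Set G))
    (hL : Cfsg.IsComponent (L.subgroupOf (Subgroup.centralizer ({y} : Set G)))) :
    L.map (MulAut.conj g).toMonoidHom ≤ Subgroup.centralizer ({g * y * g⁻¹} : Set G) ∧
      Cfsg.IsComponent ((L.map (MulAut.conj g).toMonoidHom).subgroupOf
        (Subgroup.centralizer ({g * y * g⁻¹} : Set G))) := by
  have hle : L.map (MulAut.conj g).toMonoidHom ≤ Subgroup.centralizer ({g * y * g⁻¹} : Set G) := by
    rintro _ ⟨l, hl, rfl⟩
    exact (centConj g y ⟨l, hLy hl⟩).2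
  refine ⟨hle, ?_⟩
  have h1 := Cfsg.Agent.Lib.Helper3_Transport.component_map_equiv (centConj g y) _ hL
  have e : (L.subgroupOf (Subgroup.centralizer ({y} : Set G))).map (centConj g y).toMonoidHom =
      (L.map (MulAut.conj g).toMonoidHom).subgroupOf (Subgroup.centralizer ({g * y * g⁻¹} : Set G)) := by
    ext w
    rw [Subgroup.mem_subgroupOf]
    constructor
    · rintro ⟨z, hz, rfl⟩
      exact ⟨(z : G), Subgroup.mem_subgroupOf.mp hz, rfl⟩
    · rintro ⟨l, hl, hlw⟩
      refine ⟨⟨l, hLy hl⟩, Subgroup.mem_subgroupOf.mpr hl, ?_⟩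
      apply Subtype.ext
      exact hlw
  rwa [e] at h1

theorem eq_or_commute {G : Type u} [Group G] [Finite G] (L1 L2 C : Subgroup G) (h1 : L1 ≤ C)
    (h2 : L2 ≤ C) (hc1 : Cfsg.IsComponent (L1.subgroupOf C))
    (hc2 : Cfsg.IsComponent (L2.subgroupOf C)) : L1 = L2 ∨ ⁅L1, L2⁆ = ⊥ := by
  by_cases h : L1.subgroupOf C = L2.subgroupOf C
  · left
    have e1 := Subgroup.map_subgroupOf_eq_of_le h1
    have e2 := Subgroup.map_subgroupOf_eq_of_le h2
    rw [← e1, ← e2, h]
  · right
    exact commutator_eq_bot_of_subgroupOf L1 L2 C h1 h2 (components_commute _ _ hc1 hc2 h)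

theorem orderOf_conj_inv {G : Type u} [Group G] (g y : G) : orderOf (g⁻¹ * y * g) = orderOf y := by
  have := (MulAut.conj g⁻¹).orderOf_eq y
  simpa [MulAut.conj_apply] using this

/-- Let G be finite, x an involution and L ≤ C_G(x) a component of C_G(x). Suppose L is a component of C_G(y) for every involution y ∈ C_G(L), and ⁅L, g L g⁻¹⁆ ≠ 1 whenever g L g⁻¹ ≠ L. Then L is a standard subgroup of G. -/
theorem result {G : Type*} [Group G] [Finite G] (x : G) (hx : orderOf x = 2) (L : Subgroup G) (hLx : L ≤ Subgroup.centralizer ({x} : Set G)) (hL : Cfsg.IsComponent (L.subgroupOf (Subgroup.centralizer ({x} : Set G)))) (hne : ∀ y : G, orderOf y = 2 → y ∈ Subgroup.centralizer (L : Set G) → L ≤ Subgroup.centralizer ({y} : Set G) ∧ Cfsg.IsComponent (L.subgroupOf (Subgroup.centralizer ({y} : Set G)))) (hnc : ∀ g : G, L.map (MulAut.conj g).toMonoidHom ≠ L → ⁅L, L.map (MulAut.conj g).toMonoidHom⁆ ≠ ⊥) : Cfsg.IsStandardSubgroup L := by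
  classical
  set K := Subgroup.centralizer (L : Set G) with hK
  have hxK : x ∈ K := by
    rw [hK, Subgroup.mem_centralizer_iff]
    intro l hl
    have := hLx hl
    rw [Subgroup.mem_centralizer_singleton_iff] at this
    exact this
  -- key: an involution centralizing L and L^g forces L^g = L
  have key : ∀ g y : G, orderOf y = 2 → y ∈ K →
      y ∈ Subgroup.centralizer ((L.map (MulAut.conj g).toMonoidHom : Subgroup G) : Set G) →
      L.map (MulAut.conj g).toMonoidHom = L := by
    intro g y hy hyK hyg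
    by_contra hne'
    obtain ⟨h1, h2⟩ := hne y hy hyK
    rw [mem_centralizer_map_conj] at hyg
    obtain ⟨h3, h4⟩ := hne (g⁻¹ * y * g) (by rw [orderOf_conj_inv]; exact hy) hyg
    obtain ⟨h5, h6⟩ := compOf_conj L (g⁻¹ * y * g) g h3 h4
    have e : g * (g⁻¹ * y * g) * g⁻¹ = y := by group
    rw [e] at h5 h6
    rcases eq_or_commute L (L.map (MulAut.conj g).toMonoidHom) _ h1 h5 h2 h6 with h | h
    · exact hne' h.symm
    · exact hnc g hne' h
  have hNL : Subgroup.normalizer (L : Set G) ≤ Subgroup.normalizer (K : Set G) := by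
    intro g hg
    apply Cfsg.Agent.S1960.mem_normalizer_of_conj_le'
    intro a ha
    rw [hK, Subgroup.mem_centralizer_iff] at ha ⊢
    intro l hl
    have hl' : g⁻¹ * l * g ∈ L := by
      have := (Subgroup.mem_normalizer_iff.mp (Subgroup.inv_mem _ hg) l).mp hl
      simpa using this
    have h1 := ha _ hl'
    calc l * (g * a * g⁻¹) = g * ((g⁻¹ * l * g) * a) * g⁻¹ := by group
      _ = g * (a * (g⁻¹ * l * g)) * g⁻¹ := by rw [h1]
      _ = g * a * g⁻¹ * l := by group
  have hKconj : ∀ g z : G, z ∈ K.map (MulAut.conj g).toMonoidHom →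
      z ∈ Subgroup.centralizer ((L.map (MulAut.conj g).toMonoidHom : Subgroup G) : Set G) := by
    rintro g _ ⟨k, hk, rfl⟩
    rw [mem_centralizer_map_conj]
    have e : g⁻¹ * (MulAut.conj g).toMonoidHom k * g = k := by
      show g⁻¹ * (g * k * g⁻¹) * g = k
      group
    rw [e]; exact hk
  refine ⟨?_, ⟨?_, ?_⟩, hnc, ?_⟩
  · exact Cfsg.Agent.S1754.quasisimple_of_equiv (Subgroup.subgroupOfEquivOfLe hLx) hL.2
  · have h2 : 2 ∣ Nat.card ↥K := by
      have := orderOf_dvd_natCard (⟨x, hxK⟩ : ↥K)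
      rwa [Subgroup.orderOf_mk, hx] at this
    exact even_iff_two_dvd.mpr h2
  · intro g hg
    rw [← Nat.not_even_iff_odd]
    intro heven
    haveI : Fact (Nat.Prime 2) := ⟨Nat.prime_two⟩
    obtain ⟨y, hy⟩ := exists_prime_orderOf_dvd_card' 2 (even_iff_two_dvd.mp heven)
    have hy2 : orderOf (y : G) = 2 := by rw [Subgroup.orderOf_coe]; exact hy
    have h1 := key g (y : G) hy2 y.2.1 (hKconj g _ y.2.2)
    apply hg
    apply hNL
    rw [Subgroup.mem_normalizer_iff_map_conj_eq]
    exact h1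
  · apply le_antisymm hNL
    intro g hg
    rw [Subgroup.mem_normalizer_iff_map_conj_eq]
    apply key g x hx hxK
    apply hKconj
    have hgK : K.map (MulAut.conj g).toMonoidHom = K := Subgroup.mem_normalizer_iff_map_conj_eq.mp hg
    rw [hgK]
    exact hxK

end Cfsg.Agent.S1306
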