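import Cfsg.Statements.S1270
import Cfsg.Agent.Lib.Helper3_Diag
import Cfsg.Agent.Lib.Helper3_PComp4

set_option autoImplicit false
open Cfsg

namespace Cfsg.Agent.S1270

open scoped commutatorElement

/-- Let G be finite with O_{p'}(G) = 1, x of order p, and L a component with ⁅L, ⟨x⟩⁆ ≠ L. Then ⁅L, O_{p'}(C_G(x))⁆ = 1. -/
theorem result {G : Type*} [Group G] [Finite G] (p : ℕ) [Fact p.Prime] (hO : Cfsg.pPrimeCore p G = ⊥) (x : G) (hx : orderOf x = p) (L : Subgroup G) (hL : Cfsg.IsComponent L) (hne : ⁅L, Subgroup.zpowers x⁆ ≠ L) : ⁅L, Cfsg.centralizerPPrimeCore p x⁆ = ⊥ := by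
  classical
  haveI hWn : (Cfsg.pPrimeCore p ↥(Subgroup.centralizer ({x} : Set G))).Normal :=
    Cfsg.Agent.Lib.Helper5_PPrime.pPrimeCore_normal p _
  have hWc : (Nat.card ↥(Cfsg.pPrimeCore p ↥(Subgroup.centralizer ({x} : Set G)))).Coprime p :=
    Cfsg.Agent.Lib.Helper5_PPrime.pPrimeCore_coprime p _
  have hxp : x ^ p = 1 := by rw [← hx]; exact pow_orderOf_eq_one x
  unfold Cfsg.centralizerPPrimeCore
  have hWcop : (Nat.card ↥((Cfsg.pPrimeCore p ↥(Subgroup.centralizer ({x} : Set G))).map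
      (Subgroup.centralizer ({x} : Set G)).subtype)).Coprime p :=
    Nat.Coprime.coprime_dvd_left (Subgroup.card_map_dvd _ _) hWc
  have hWx : ∀ w ∈ (Cfsg.pPrimeCore p ↥(Subgroup.centralizer ({x} : Set G))).map
      (Subgroup.centralizer ({x} : Set G)).subtype, w * x = x * w := by
    rintro _ ⟨w, _, rfl⟩
    exact Subgroup.mem_centralizer_singleton_iff.mp w.2
  have hNW : ∀ g : G, g * x = x * g → g ∈ Subgroup.normalizer
      (((Cfsg.pPrimeCore p ↥(Subgroup.centralizer ({x} : Set G))).map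
        (Subgroup.centralizer ({x} : Set G)).subtype : Subgroup G) : Set G) := by
    intro g hg
    have hgC : g ∈ Subgroup.centralizer ({x} : Set G) :=
      Subgroup.mem_centralizer_singleton_iff.mpr hg
    apply Cfsg.Agent.S1960.mem_normalizer_of_conj_le'
    rintro _ ⟨v, hv, rfl⟩
    refine ⟨⟨g, hgC⟩ * v * ⟨g, hgC⟩⁻¹, hWn.conj_mem v hv ⟨g, hgC⟩, ?_⟩
    simp
  have hRp : IsPGroup p ↥(Subgroup.zpowers x) := by
    apply IsPGroup.of_card (n := 1)
    rw [Nat.card_zpowers, hx, pow_one]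
  have hWR : ∀ w ∈ (Cfsg.pPrimeCore p ↥(Subgroup.centralizer ({x} : Set G))).map
      (Subgroup.centralizer ({x} : Set G)).subtype, ∀ t ∈ Subgroup.zpowers x, w * t = t * w := by
    intro w hw t ht
    rw [Subgroup.mem_zpowers_iff] at ht
    obtain ⟨k, rfl⟩ := ht
    have hc : Commute w x := hWx w hw
    exact (hc.zpow_right k).eq
  obtain ⟨_, hA2⟩ := Cfsg.Agent.Lib.Helper3_LBal.lemmaA p hO (Subgroup.zpowers x) _ hRp hWcop hWR
    (fun g hg => hNW g (hg x (Subgroup.mem_zpowers x)))
  have hWL := hA2 L hL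
  haveI hLperf : Group.IsPerfect ↥L := hL.2.1
  rw [Subgroup.commutator_eq_bot_iff_le_centralizer]
  by_cases hxN : x ∈ Subgroup.normalizer (L : Set G)
  · -- `x` normalizes, hence centralizes, `L`
    have hZN : Subgroup.zpowers x ≤ Subgroup.normalizer (L : Set G) := by
      rw [Subgroup.zpowers_le]; exact hxN
    have hcomL : ⁅L, Subgroup.zpowers x⁆ ≤ L :=
      Cfsg.Agent.Lib.Helper5_AxB.commutator_le_of_le_normalizer hZN
    haveI hn : ((⁅L, Subgroup.zpowers x⁆ : Subgroup G).subgroupOf L).Normal :=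
      Subgroup.normal_subgroupOf_of_le_normalizer
        (Cfsg.Agent.Lib.Lead_Coprime.le_normalizer_commutator_left L (Subgroup.zpowers x))
    have hcen : (⁅L, Subgroup.zpowers x⁆ : Subgroup G).subgroupOf L ≤ Subgroup.center ↥L := by
      rcases Cfsg.Agent.S1259.result hL.2 _ hn.isSubnormal with h | h
      · exfalso
        apply hne
        apply le_antisymm hcomL
        intro l hl
        have : (⟨l, hl⟩ : ↥L) ∈ (⁅L, Subgroup.zpowers x⁆ : Subgroup G).subgroupOf L := by
          rw [h]; exact Subgroup.mem_top _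
        rw [Subgroup.mem_subgroupOf] at this
        exact this
      · exact h
    have hxL : ∀ l ∈ L, x * l = l * x := by
      refine Cfsg.Agent.Lib.Helper3_Diag.centralizes_of_commutator_central L x ?_ ?_
      · intro l hl
        exact L.mul_mem ((Subgroup.mem_normalizer_iff.mp hxN l).mp hl) (L.inv_mem hl)
      · intro l hl z hz
        have hmem : x * l * x⁻¹ * l⁻¹ ∈ ⁅L, Subgroup.zpowers x⁆ := by
          have h1 : ⁅l, x⁆ ∈ ⁅L, Subgroup.zpowers x⁆ :=
            Subgroup.commutator_mem_commutator hl (Subgroup.mem_zpowers x)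
          have h2 : x * l * x⁻¹ * l⁻¹ = ⁅l, x⁆⁻¹ := by
            rw [commutatorElement_def]; group
          rw [h2]
          exact Subgroup.inv_mem _ h1
        have hmem' : (⟨x * l * x⁻¹ * l⁻¹, hcomL hmem⟩ : ↥L) ∈
            (⁅L, Subgroup.zpowers x⁆ : Subgroup G).subgroupOf L := by
          rw [Subgroup.mem_subgroupOf]; exact hmem
        have := Subgroup.mem_center_iff.mp (hcen hmem') ⟨z, hz⟩
        exact (congrArg Subtype.val this).symm
    have hLC : L ≤ Subgroup.centralizer ({x} : Set G) := by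
      intro l hl
      rw [Subgroup.mem_centralizer_singleton_iff]
      exact (hxL l hl).symm
    have hL' := Cfsg.Agent.Lib.Helper3_Components.component_subgroupOf L _ hL hLC
    rcases Cfsg.Agent.Lib.Helper3_Components.component_le_or_commute _ _ hL' hWn.isSubnormal
      with h | h
    · exfalso
      have hLD : ¬ L ≤ Cfsg.pPrimeCore p G := by
        rw [hO]
        intro hle
        haveI := Cfsg.Agent.Lib.Helper3_Components.quasisimple_nontrivial hL.2
        obtain ⟨a, ha⟩ := exists_ne (1 : ↥L)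
        apply ha
        apply Subtype.ext
        exact Subgroup.mem_bot.mp (hle a.2)
      have hdvd := Cfsg.Agent.Lib.Helper3_PComp.pc_dvd_card p
        (Cfsg.Agent.Lib.Helper3_PComp4.component_isPComponent p hL hLD)
      have h1 : Nat.card ↥(L.subgroupOf (Subgroup.centralizer ({x} : Set G))) ∣
          Nat.card ↥(Cfsg.pPrimeCore p ↥(Subgroup.centralizer ({x} : Set G))) :=
        Subgroup.card_dvd_of_le h
      rw [Cfsg.Agent.Lib.Lead_SZ.card_subgroupOf_of_le hLC] at h1
      have h2 := Nat.Coprime.coprime_dvd_left h1 hWc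
      exact (Nat.Prime.coprime_iff_not_dvd (Fact.out : p.Prime)).mp h2.symm hdvd
    · intro l hl
      refine Subgroup.mem_centralizer_iff.mpr ?_
      rintro _ ⟨w, hw, rfl⟩
      have := Cfsg.Agent.Lib.Helper3_Components.commute_of_commutator_eq_bot h
        (show (⟨l, hLC hl⟩ : ↥(Subgroup.centralizer ({x} : Set G))) ∈
          L.subgroupOf (Subgroup.centralizer ({x} : Set G)) by
            rw [Subgroup.mem_subgroupOf]; exact hl) hw
      exact (congrArg Subtype.val this).symm
  · -- `x` moves `L` to `p` distinct components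
    have hyp : x⁻¹ ^ p = 1 := by rw [inv_pow, hxp, inv_one]
    have hyo : orderOf x⁻¹ = p := by rw [orderOf_inv, hx]
    have hdist : ∀ i j : ℕ, i < j → j < p →
        Cfsg.Agent.Lib.Helper3_LBal.cj (x⁻¹ ^ i) L ≠ Cfsg.Agent.Lib.Helper3_LBal.cj (x⁻¹ ^ j) L := by
      intro i j hij hjp heq
      have hj : x⁻¹ ^ j = x⁻¹ ^ i * x⁻¹ ^ (j - i) := by
        rw [← pow_add]; congr 1; omega
      rw [hj, Cfsg.Agent.Lib.Helper3_LBal.cj_mul] at heq
      have h1 := congrArg (Cfsg.Agent.Lib.Helper3_LBal.cj (x⁻¹ ^ i)⁻¹) heq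
      rw [Cfsg.Agent.Lib.Helper3_LBal.cj_inv_cj, Cfsg.Agent.Lib.Helper3_LBal.cj_inv_cj] at h1
      have h2 : x⁻¹ ^ (j - i) ∈ Subgroup.normalizer (L : Set G) :=
        Cfsg.Agent.Lib.Helper3_LBal.mem_normalizer_iff_cj.mpr h1.symm
      have hcop : (j - i).Coprime (orderOf x⁻¹) := by
        rw [hyo]
        apply Nat.Coprime.symm
        rw [Nat.Prime.coprime_iff_not_dvd (Fact.out : p.Prime)]
        intro hd
        have := Nat.le_of_dvd (by omega) hd
        omega
      obtain ⟨m, hm⟩ := exists_pow_eq_self_of_coprime hcop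
      apply hxN
      have h3 : x⁻¹ ∈ Subgroup.normalizer (L : Set G) := by
        rw [← hm]; exact Subgroup.pow_mem _ h2 _
      simpa using Subgroup.inv_mem _ h3
    have Hc : ∀ i j : ℕ, i < p → j < p → i ≠ j → ∀ a ∈ L, ∀ b ∈ L,
        Commute (x⁻¹ ^ i * a * (x⁻¹ ^ i)⁻¹) (x⁻¹ ^ j * b * (x⁻¹ ^ j)⁻¹) := by
      intro i j hi hj hij a ha b hb
      have hne' : Cfsg.Agent.Lib.Helper3_LBal.cj (x⁻¹ ^ i) L ≠
          Cfsg.Agent.Lib.Helper3_LBal.cj (x⁻¹ ^ j) L := by
        rcases lt_or_gt_of_ne hij with h | h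
        · exact hdist i j h hj
        · exact (hdist j i h hi).symm
      have hcm := Cfsg.Agent.Lib.Helper3_Components.components_commute _ _
        (Cfsg.Agent.Lib.Helper3_LBal.component_cj L hL (x⁻¹ ^ i))
        (Cfsg.Agent.Lib.Helper3_LBal.component_cj L hL (x⁻¹ ^ j)) hne'
      exact Cfsg.Agent.Lib.Helper3_Components.commute_of_commutator_eq_bot hcm
        (Cfsg.Agent.Lib.Helper3_LBal.conj_mem_cj ha) (Cfsg.Agent.Lib.Helper3_LBal.conj_mem_cj hb)
    have hmain := Cfsg.Agent.Lib.Helper3_Diag.centralizes_of_diag p hO L hL x⁻¹ hyp Hc _ hWcop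
      (by
        intro w hw
        have hc : Commute w x := hWx w hw
        exact hc.inv_right.eq) hWL
      (by
        intro g hg
        apply hNW
        have hc : Commute g x⁻¹ := hg
        have := hc.inv_right
        rw [inv_inv] at this
        exact this.eq)
    intro l hl
    refine Subgroup.mem_centralizer_iff.mpr ?_
    intro w hw
    exact hmain l hl w hw

end Cfsg.Agent.S1270
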