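import Cfsg.Statements.S1326
import Cfsg.Agent.Lib.Helper3_Components
import Cfsg.Agent.S1265
import Cfsg.Agent.S1317

set_option autoImplicit false
open Cfsg

namespace Cfsg.Agent.S1326

/-- For a finite group X: the Fitting subgroup contains its centralizer if and only if the layer of X is trivial. -/
theorem result {X : Type*} [Group X] [Finite X] : Subgroup.centralizer (Cfsg.fittingSubgroup X : Set X) ≤ Cfsg.fittingSubgroup X ↔ Cfsg.layer X = ⊥ := by
  classical
  constructor
  · intro h
    rw [eq_bot_iff]
    apply sSup_le
    intro L hL
    exfalso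
    have hEF := Cfsg.Agent.S1317.layer_commute_fitting X
    rw [Subgroup.commutator_eq_bot_iff_le_centralizer] at hEF
    have hLF : L ≤ Cfsg.fittingSubgroup X := ((le_sSup hL : L ≤ Cfsg.layer X).trans hEF).trans h
    apply Cfsg.Agent.Lib.Helper3_Components.quasisimple_not_solvable hL.2
    haveI := Cfsg.Agent.S1317.fitting_nilpotent X
    haveI : Group.IsSolvable ↥(Cfsg.fittingSubgroup X) := inferInstance
    exact Group.isSolvable_of_isSolvable_injective (f := Subgroup.inclusion hLF)
      (Subgroup.inclusion_injective hLF)
  · intro h
    have h1 := Cfsg.Agent.S1265.result (G := X)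
    have h2 : Cfsg.generalizedFittingSubgroup X = Cfsg.fittingSubgroup X := by
      unfold Cfsg.generalizedFittingSubgroup
      rw [h, bot_sup_eq]
    rwa [h2] at h1

end Cfsg.Agent.S1326
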