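import Cfsg.Statements.S1327
import Cfsg.Agent.Lib.Helper3_PComp4
import Cfsg.Agent.Lib.Lead_Coprime
import Cfsg.Agent.S1272
import Cfsg.Agent.S1326
import Cfsg.Agent.S1268

set_option autoImplicit false
open Cfsg

namespace Cfsg.Agent.S1327

/-- the `p`-layer is trivial iff the layer of `X / O_{p'}(X)` is trivial -/
theorem pLayer_eq_bot_iff {X : Type*} [Group X] [Finite X] (p : ℕ) [Fact p.Prime] :
    Cfsg.pLayer p X = ⊥ ↔ Cfsg.layer (X ⧸ Cfsg.pPrimeCore p X) = ⊥ := by
  have h2 := (Cfsg.Agent.S1272.result (X := X) p).2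
  constructor
  · intro h
    rw [← h2, h, Subgroup.map_bot]
  · intro h
    rw [eq_bot_iff]
    apply sSup_le
    intro K hK
    exfalso
    have h3 : K.map (QuotientGroup.mk' (Cfsg.pPrimeCore p X)) ≤ Cfsg.layer (X ⧸ Cfsg.pPrimeCore p X) :=
      le_sSup hK.2.1
    rw [h, le_bot_iff] at h3
    haveI := Cfsg.Agent.Lib.Helper3_Components.quasisimple_nontrivial hK.2.1.2
    exact (Subgroup.nontrivial_iff_ne_bot _).mp inferInstance h3

/-- in a group with `O_{p'} = 1`, the layer is trivial iff `O_p` contains its centralizer -/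
theorem layer_eq_bot_iff_of_core {Q : Type*} [Group Q] [Finite Q] (p : ℕ) [Fact p.Prime]
    (hO : Cfsg.pPrimeCore p Q = ⊥) :
    Cfsg.layer Q = ⊥ ↔ Subgroup.centralizer (Cfsg.pCore p Q : Set Q) ≤ Cfsg.pCore p Q := by
  rw [← Cfsg.Agent.S1268.fitting_eq_pCore_of_pPrimeCore_eq_bot p hO]
  exact (Cfsg.Agent.S1326.result (X := Q)).symm

/-- A finite group X is p-constrained if and only if its p-layer L_{p'}(X) is trivial (equivalently X / O_{p'}(X) has trivial layer). -/
theorem result {X : Type*} [Group X] [Finite X] (p : ℕ) [Fact p.Prime] : Cfsg.IsPConstrained p X ↔ Cfsg.pLayer p X = ⊥ := by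
  classical
  rw [pLayer_eq_bot_iff p, layer_eq_bot_iff_of_core p (Cfsg.Agent.S1958.pPrimeCore_quotient p X)]
  set D := Cfsg.pPrimeCore p X with hD
  set π := QuotientGroup.mk' D with hπ
  set Q1 := Cfsg.pCore p (X ⧸ D) with hQ1
  have hQ1p : IsPGroup p ↥Q1 := Cfsg.Agent.Lib.Helper4_PCore.pCore_isPGroup
  have hR : Cfsg.pPrimePCore p X = Q1.comap π := rfl
  have hDc : (Nat.card ↥D).Coprime p := Cfsg.Agent.Lib.Helper5_PPrime.pPrimeCore_coprime p X
  -- the image of a Sylow p-subgroup of R is Q1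
  have himage : ∀ P : Sylow p ↥(Cfsg.pPrimePCore p X),
      ((P : Subgroup ↥(Cfsg.pPrimePCore p X)).map (Cfsg.pPrimePCore p X).subtype).map π = Q1 := by
    intro P
    let f : ↥(Cfsg.pPrimePCore p X) →* ↥Q1 := π.subgroupComap Q1
    have hf : Function.Surjective f :=
      π.subgroupComap_surjective_of_surjective Q1 (QuotientGroup.mk'_surjective D)
    have h1 : ((P.mapSurjective hf : Sylow p ↥Q1) : Subgroup ↥Q1) = ⊤ := by
      have htop : IsPGroup p ↥(⊤ : Subgroup ↥Q1) := hQ1p.of_equiv Subgroup.topEquiv.symm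
      exact ((P.mapSurjective hf).is_maximal' htop le_top).symm
    replace h1 : (P : Subgroup ↥(Cfsg.pPrimePCore p X)).map f = ⊤ :=
      (Sylow.coe_mapSurjective hf P).symm.trans h1
    apply le_antisymm
    · rintro _ ⟨_, ⟨x, _, rfl⟩, rfl⟩
      exact x.2
    · intro y hy
      have : (⟨y, hy⟩ : ↥Q1) ∈ (P : Subgroup ↥(Cfsg.pPrimePCore p X)).map f := by rw [h1]; trivial
      obtain ⟨x, hx, hxy⟩ := this
      refine ⟨x.1, ⟨x, hx, rfl⟩, ?_⟩
      exact congrArg Subtype.val hxy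
  constructor
  · intro h
    obtain ⟨P⟩ : Nonempty (Sylow p ↥(Cfsg.pPrimePCore p X)) := inferInstance
    set P' := (P : Subgroup ↥(Cfsg.pPrimePCore p X)).map (Cfsg.pPrimePCore p X).subtype with hP'
    have hP'p : IsPGroup p ↥P' :=
      P.isPGroup'.of_equiv ((P : Subgroup ↥(Cfsg.pPrimePCore p X)).equivMapOfInjective _
        (Subgroup.subtype_injective _))
    have hP'Q : P'.map π = Q1 := himage P
    intro y hy
    obtain ⟨x, rfl⟩ := QuotientGroup.mk'_surjective D y
    -- x⁻¹ a x a⁻¹ ∈ D for a ∈ P'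
    have hx : ∀ a ∈ P', x⁻¹ * a * x * a⁻¹ ∈ D := by
      intro a ha
      rw [← QuotientGroup.eq_one_iff]
      have h1 : π a ∈ Q1 := by rw [← hP'Q]; exact Subgroup.mem_map_of_mem π ha
      have h2 := Subgroup.mem_centralizer_iff.mp hy (π a) h1
      show π (x⁻¹ * a * x * a⁻¹) = 1
      rw [map_mul, map_mul, map_mul, map_inv, map_inv]
      calc (π x)⁻¹ * π a * π x * (π a)⁻¹ = (π x)⁻¹ * (π a * π x) * (π a)⁻¹ := by group
        _ = (π x)⁻¹ * (π x * π a) * (π a)⁻¹ := by rw [h2]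
        _ = 1 := by group
    have hnorm : P' ≤ Subgroup.normalizer (D : Set X) := by
      rw [Subgroup.normalizer_eq_top_iff.mpr (Cfsg.pPrimeCore_normal p X)]; exact le_top
    have hcop : (Nat.card ↥P').Coprime (Nat.card ↥D) := by
      obtain ⟨k, hk⟩ := hP'p.exists_card_eq
      rw [hk]
      exact Nat.Coprime.pow_left k hDc.symm
    have hsolv : Group.IsSolvable ↥P' := by
      haveI : Group.IsNilpotent ↥P' := hP'p.isNilpotent
      infer_instance
    obtain ⟨d, hd, hxd⟩ := Cfsg.Agent.Lib.Lead_Coprime.lemmaC D P' hnorm hcop (Or.inl hsolv) x hx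
    have h3 := h P hxd
    rw [hR, Subgroup.mem_comap, map_mul] at h3
    have h4 : π d = 1 := (QuotientGroup.eq_one_iff d).mpr hd
    rw [h4, mul_one] at h3
    exact h3
  · intro h P x hx
    rw [hR, Subgroup.mem_comap]
    apply h
    rw [Subgroup.mem_centralizer_iff]
    intro y hy
    rw [← himage P] at hy
    obtain ⟨a, ha, rfl⟩ := hy
    have := Subgroup.mem_centralizer_iff.mp hx a ha
    rw [← map_mul, ← map_mul, this]

end Cfsg.Agent.S1327
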