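import Cfsg.Statements.S1293
import Cfsg.Agent.Lib.Helper3_PComp4
import Cfsg.Agent.Lib.Helper3_Transport
import Cfsg.Agent.Lib.Lead_Coprime
import Cfsg.Agent.Lib.Lead_SZ
import Cfsg.Agent.S1265
import Cfsg.Agent.S1268
import Cfsg.Agent.S1327

set_option autoImplicit false
open Cfsg

namespace Cfsg.Agent.S1293

universe u

open Cfsg.Agent.Lib.Lead_SZ
open scoped Pointwise

/-- `F*(M) = O_p(M)` forces `O_{p'}(M) = 1` and `E(M) = 1` -/
theorem core_layer_bot_of_gf_eq {M : Type u} [Group M] [Finite M] (p : ℕ) [Fact p.Prime]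
    (h : Cfsg.generalizedFittingSubgroup M = Cfsg.pCore p M) :
    Cfsg.pPrimeCore p M = ⊥ ∧ Cfsg.layer M = ⊥ := by
  have hQp : IsPGroup p ↥(Cfsg.pCore p M) := Cfsg.Agent.Lib.Helper4_PCore.pCore_isPGroup
  have hcent : Subgroup.centralizer (Cfsg.pCore p M : Set M) ≤ Cfsg.pCore p M := by
    have := Cfsg.Agent.S1265.result (G := M)
    rwa [h] at this
  constructor
  · have hDc := Cfsg.Agent.Lib.Helper5_PPrime.pPrimeCore_coprime p M
    have hdis : Disjoint (Cfsg.pPrimeCore p M) (Cfsg.pCore p M) := by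
      rw [disjoint_iff, inf_comm]
      exact Cfsg.Agent.Lib.Helper5_PPrime.inf_eq_bot_of_pGroup_of_coprime hQp hDc
    have hle : Cfsg.pPrimeCore p M ≤ Cfsg.pCore p M := by
      intro d hd
      apply hcent
      rw [Subgroup.mem_centralizer_iff]
      intro y hy
      exact ((Subgroup.commute_of_normal_of_disjoint _ _ (Cfsg.pPrimeCore_normal p M)
        (Cfsg.pCore_normal p M) hdis d y hd hy).eq).symm
    rw [eq_bot_iff]
    intro d hd
    have : d ∈ Cfsg.pPrimeCore p M ⊓ Cfsg.pCore p M := ⟨hd, hle hd⟩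
    rwa [disjoint_iff.mp hdis] at this
  · rw [eq_bot_iff]
    apply sSup_le
    intro L hL
    exfalso
    have h3 : L ≤ Cfsg.pCore p M := by
      rw [← h]
      have h2' : L ≤ Cfsg.layer M := le_sSup hL
      exact h2'.trans le_sup_left
    have h5 : IsPGroup p ↥L := hQp.to_le h3
    apply Cfsg.Agent.Lib.Helper3_Components.quasisimple_not_solvable hL.2
    haveI : Group.IsNilpotent ↥L := h5.isNilpotent
    infer_instance

/-- Let G be finite with L_{p'}(G) = 1, and H = N_G(P) for a nontrivial p-subgroup P. Then L_{p'}(H) = 1 and O_{p'}(H) ≤ O_{p'}(G). -/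
theorem result {G : Type*} [Group G] [Finite G] (p : ℕ) [Fact p.Prime] (hL : Cfsg.pLayer p G = ⊥) (P : Subgroup G) (hP : IsPGroup p ↥P) (hP1 : P ≠ ⊥) : Cfsg.pLayer p ↥(Subgroup.normalizer (P : Set G)) = ⊥ ∧ (Cfsg.pPrimeCore p ↥(Subgroup.normalizer (P : Set G))).map (Subgroup.normalizer (P : Set G)).subtype ≤ Cfsg.pPrimeCore p G := by
  classical
  set D := Cfsg.pPrimeCore p G with hD
  set π := QuotientGroup.mk' D with hπ
  have hDn : D.Normal := Cfsg.pPrimeCore_normal p G
  have hDc : (Nat.card ↥D).Coprime p := Cfsg.Agent.Lib.Helper5_PPrime.pPrimeCore_coprime p G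
  have hOQ : Cfsg.pPrimeCore p (G ⧸ D) = ⊥ := Cfsg.Agent.S1958.pPrimeCore_quotient p G
  -- F*(G/D) = O_p(G/D)
  have hlayerQ : Cfsg.layer (G ⧸ D) = ⊥ := (Cfsg.Agent.S1327.pLayer_eq_bot_iff p).mp hL
  have hgfQ : Cfsg.generalizedFittingSubgroup (G ⧸ D) = Cfsg.pCore p (G ⧸ D) := by
    unfold Cfsg.generalizedFittingSubgroup
    rw [hlayerQ, bot_sup_eq]
    exact Cfsg.Agent.S1268.fitting_eq_pCore_of_pPrimeCore_eq_bot p hOQ
  set Pb := P.map π with hPb
  have hPbp : IsPGroup p ↥Pb := hP.map π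
  have hNb := Cfsg.Agent.S1268.result p hgfQ Pb hPbp
  obtain ⟨hNbO, hNbL⟩ := core_layer_bot_of_gf_eq p hNb
  set N := Subgroup.normalizer (P : Set G) with hN
  set Nb := Subgroup.normalizer (Pb : Set (G ⧸ D)) with hNbdef
  -- the restriction of π to N
  have hmapN : ∀ x ∈ N, π x ∈ Nb := by
    intro x hx
    apply Cfsg.Agent.S1960.mem_normalizer_of_conj_le'
    rintro _ ⟨a, ha, rfl⟩
    refine ⟨x * a * x⁻¹, ?_, by rw [map_mul, map_mul, map_inv]⟩
    exact (Subgroup.mem_normalizer_iff.mp hx a).mp ha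
  let φ : ↥N →* ↥Nb :=
    { toFun := fun x => ⟨π x, hmapN x x.2⟩
      map_one' := by apply Subtype.ext; simp
      map_mul' := by intro a b; apply Subtype.ext; simp }
  have hφval : ∀ x : ↥N, ((φ x : ↥Nb) : G ⧸ D) = π x := fun x => rfl
  have hPs : Group.IsSolvable ↥P := by
    haveI : Group.IsNilpotent ↥P := hP.isNilpotent
    infer_instance
  have hcop : (Nat.card ↥P).Coprime (Nat.card ↥D) := by
    obtain ⟨k, hk⟩ := hP.exists_card_eq
    rw [hk]
    exact Nat.Coprime.pow_left k hDc.symm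
  have hPD : P ≤ Subgroup.normalizer (D : Set G) := by
    rw [Subgroup.normalizer_eq_top_iff.mpr hDn]; exact le_top
  have hφ : Function.Surjective φ := by
    rintro ⟨yb, hyb⟩
    obtain ⟨y, rfl⟩ := QuotientGroup.mk'_surjective D yb
    have hA₂ : MulAut.conj y • P ≤ D ⊔ P := by
      intro z hz
      have h1 : π z ∈ (MulAut.conj y • P).map π := Subgroup.mem_map_of_mem π hz
      rw [map_conj_smul] at h1
      have h2 : MulAut.conj (π y) • Pb = Pb := conj_smul_le_normalizer.mp hyb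
      rw [h2] at h1
      have h3 : z ∈ Pb.comap π := h1
      rw [hPb, Subgroup.comap_map_eq, QuotientGroup.ker_mk', sup_comm] at h3
      exact h3
    obtain ⟨d, hd, hdP⟩ := Cfsg.Agent.Lib.Lead_Coprime.exists_conj_of_le_sup D P _ hPD hcop
      (Or.inl hPs) hA₂ (card_conj_smul y P)
    have hmem : d⁻¹ * y ∈ N := by
      rw [hN, conj_smul_le_normalizer, ← conj_smul_smul, ← hdP, conj_smul_smul, inv_mul_cancel,
        map_one, one_smul]
    refine ⟨⟨d⁻¹ * y, hmem⟩, ?_⟩
    apply Subtype.ext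
    show π (d⁻¹ * y) = π y
    have hd1 : π d = 1 := (QuotientGroup.eq_one_iff d).mpr hd
    rw [map_mul, map_inv, hd1, inv_one, one_mul]
  -- kernel
  have hker : φ.ker = D.subgroupOf N := by
    ext x
    rw [MonoidHom.mem_ker, Subgroup.mem_subgroupOf]
    constructor
    · intro hx
      have := congrArg Subtype.val hx
      exact (QuotientGroup.eq_one_iff (x : G)).mp this
    · intro hx
      apply Subtype.ext
      exact (QuotientGroup.eq_one_iff (x : G)).mpr hx
  have hcoreker : Cfsg.pPrimeCore p ↥N = φ.ker := by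
    apply le_antisymm
    · have hn : ((Cfsg.pPrimeCore p ↥N).map φ).Normal :=
        (Cfsg.pPrimeCore_normal p ↥N).map φ hφ
      have hc : (Nat.card ↥((Cfsg.pPrimeCore p ↥N).map φ)).Coprime p :=
        Nat.Coprime.coprime_dvd_left (Subgroup.card_map_dvd _ _)
          (Cfsg.Agent.Lib.Helper5_PPrime.pPrimeCore_coprime p ↥N)
      have hle : (Cfsg.pPrimeCore p ↥N).map φ ≤ Cfsg.pPrimeCore p ↥Nb := le_sSup ⟨hn, hc⟩
      rw [hNbO, le_bot_iff] at hle
      intro x hx
      rw [MonoidHom.mem_ker]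
      have : φ x ∈ (Cfsg.pPrimeCore p ↥N).map φ := Subgroup.mem_map_of_mem φ hx
      rw [hle, Subgroup.mem_bot] at this
      exact this
    · apply le_sSup
      refine ⟨inferInstance, ?_⟩
      rw [hker]
      have hle : D ⊓ N ≤ D := inf_le_left
      rw [← Subgroup.inf_subgroupOf_right,
        Nat.card_congr (Subgroup.subgroupOfEquivOfLe (inf_le_right : D ⊓ N ≤ N)).toEquiv]
      exact Nat.Coprime.coprime_dvd_left (Subgroup.card_dvd_of_le hle) hDc
  constructor
  · rw [Cfsg.Agent.S1327.pLayer_eq_bot_iff p]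
    let e : ↥N ⧸ Cfsg.pPrimeCore p ↥N ≃* ↥Nb :=
      (QuotientGroup.quotientMulEquivOfEq hcoreker).trans
        (QuotientGroup.quotientKerEquivOfSurjective φ hφ)
    have h1 := Cfsg.Agent.Lib.Helper3_Transport.layer_map_equiv e.symm
    rw [hNbL, Subgroup.map_bot] at h1
    exact h1.symm
  · rw [hcoreker, hker, Subgroup.subgroupOf_map_subtype]
    exact inf_le_left

end Cfsg.Agent.S1293
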