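import Cfsg.Statements.S1246
import Cfsg.Agent.Lib.Helper3_GFp
import Cfsg.Agent.Lib.Helper3_SupNormalizer

set_option autoImplicit false
open Cfsg

namespace Cfsg.Agent.S1246

universe u

open Cfsg.Agent.Lib.Helper3_GFp

theorem normalizer_le_normalizer_centralizer {G : Type u} [Group G] [Finite G] (V : Subgroup G) :
    Subgroup.normalizer (V : Set G) ≤
      Subgroup.normalizer ((Subgroup.centralizer (V : Set G) : Subgroup G) : Set G) := by
  intro g hg
  apply Cfsg.Agent.S1960.mem_normalizer_of_conj_le'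
  intro a ha
  rw [Subgroup.mem_centralizer_iff] at ha ⊢
  intro x hx
  have hx' : g⁻¹ * x * g ∈ V := by
    have := (Subgroup.mem_normalizer_iff.mp (Subgroup.inv_mem _ hg) x).mp hx
    simpa using this
  have h2 := ha _ hx'
  calc x * (g * a * g⁻¹) = g * ((g⁻¹ * x * g) * a) * g⁻¹ := by group
    _ = g * (a * (g⁻¹ * x * g)) * g⁻¹ := by rw [h2]
    _ = g * a * g⁻¹ * x := by group

theorem step {G : Type u} [Group G] [Finite G] (p : ℕ) [Fact p.Prime] (V V1 : Subgroup G)
    (hVV1 : V ≤ V1) (hn : V1 ≤ Subgroup.normalizer (V : Set G)) (hV1 : IsPGroup p ↥V1)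
    (h : IsPGroup p ↥(Cfsg.generalizedFittingSubgroup ↥(Subgroup.centralizer (V : Set G)))) :
    IsPGroup p ↥(Cfsg.generalizedFittingSubgroup ↥(Subgroup.centralizer (V1 : Set G))) := by
  classical
  set H := Subgroup.centralizer (V : Set G) with hH
  have hV1H : V1 ≤ Subgroup.normalizer (H : Set G) :=
    hn.trans (normalizer_le_normalizer_centralizer V)
  set H1 := H ⊔ V1 with hH1
  have hHH1 : H ≤ H1 := le_sup_left
  have hV1H1 : V1 ≤ H1 := le_sup_right
  haveI hBn : (H.subgroupOf H1).Normal := by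
    have := Subgroup.normal_subgroupOf_sup_of_le_normalizer hV1H
    rwa [sup_comm] at this
  have hq : IsPGroup p (↥H1 ⧸ H.subgroupOf H1) := by
    intro q
    obtain ⟨g, rfl⟩ := QuotientGroup.mk'_surjective _ q
    obtain ⟨x, hx, v, hv, hg⟩ :=
      Cfsg.Agent.Lib.Helper3_SupNormalizer.exists_mul_of_mem_sup H V1 hV1H g.2
    obtain ⟨k, hk⟩ := hV1 ⟨v, hv⟩
    refine ⟨k, ?_⟩
    have e : g = (⟨x, hHH1 hx⟩ : ↥H1) * ⟨v, hV1H1 hv⟩ := Subtype.ext hg
    have h1 : QuotientGroup.mk' (H.subgroupOf H1) (⟨x, hHH1 hx⟩ : ↥H1) = 1 := by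
      rw [QuotientGroup.mk'_apply, QuotientGroup.eq_one_iff, Subgroup.mem_subgroupOf]
      exact hx
    rw [e, map_mul, h1, one_mul, ← map_pow]
    have h2 : (⟨v, hV1H1 hv⟩ : ↥H1) ^ p ^ k = 1 := by
      apply Subtype.ext
      have := congrArg Subtype.val hk
      simpa using this
    rw [h2, map_one]
  have hB : IsPGroup p ↥(Cfsg.generalizedFittingSubgroup ↥(H.subgroupOf H1)) :=
    gf_pgroup_of_equiv p (Subgroup.subgroupOfEquivOfLe hHH1).symm h
  have hH1p := gf_pgroup_of_normal_pQuotient p (H.subgroupOf H1) hq hB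
  have hV1'p : IsPGroup p ↥(V1.subgroupOf H1) :=
    hV1.of_equiv (Subgroup.subgroupOfEquivOfLe hV1H1).symm
  have hC := gf_pgroup_centralizer p hH1p (V1.subgroupOf H1) hV1'p
  have hCle : Subgroup.centralizer (V1 : Set G) ≤ H1 :=
    (Subgroup.centralizer_le hVV1).trans hHH1
  have heq : Subgroup.centralizer ((V1.subgroupOf H1 : Subgroup ↥H1) : Set ↥H1) =
      (Subgroup.centralizer (V1 : Set G)).subgroupOf H1 := by
    ext x
    rw [Subgroup.mem_subgroupOf, Subgroup.mem_centralizer_iff, Subgroup.mem_centralizer_iff]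
    constructor
    · intro hx v hv
      have := hx ⟨v, hV1H1 hv⟩ (Subgroup.mem_subgroupOf.mpr hv)
      exact congrArg Subtype.val this
    · intro hx v hv
      apply Subtype.ext
      exact hx v.1 (Subgroup.mem_subgroupOf.mp hv)
  have e : ↥(Subgroup.centralizer ((V1.subgroupOf H1 : Subgroup ↥H1) : Set ↥H1)) ≃*
      ↥(Subgroup.centralizer (V1 : Set G)) :=
    (MulEquiv.subgroupCongr heq).trans (Subgroup.subgroupOfEquivOfLe hCle)
  exact gf_pgroup_of_equiv p e hC

theorem main {G : Type u} [Group G] [Finite G] (p : ℕ) [Fact p.Prime] (U : Subgroup G)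
    (hU : IsPGroup p ↥U) : ∀ n : ℕ, ∀ V : Subgroup G, V ≤ U → Nat.card ↥U - Nat.card ↥V = n →
      IsPGroup p ↥(Cfsg.generalizedFittingSubgroup ↥(Subgroup.centralizer (V : Set G))) →
      IsPGroup p ↥(Cfsg.generalizedFittingSubgroup ↥(Subgroup.centralizer (U : Set G))) := by
  intro n
  induction n using Nat.strong_induction_on with
  | _ n ih =>
    intro V hVU hn hV
    by_cases hEq : V = U
    · rw [← hEq]; exact hV
    set V1 := Subgroup.normalizer (V : Set G) ⊓ U with hV1
    have hVV1 : V ≤ V1 := le_inf Subgroup.le_normalizer hVU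
    have hV1U : V1 ≤ U := inf_le_right
    have hV1p : IsPGroup p ↥V1 := hU.to_le hV1U
    have hlt : V ≠ V1 := by
      haveI : Group.IsNilpotent ↥U := hU.isNilpotent
      have hnc : NormalizerCondition ↥U := Group.normalizerCondition_of_isNilpotent
      have hlt' : V.subgroupOf U < ⊤ := by
        rw [lt_top_iff_ne_top, Ne, Subgroup.subgroupOf_eq_top]
        intro hUV
        exact hEq (le_antisymm hVU hUV)
      have h1 := hnc _ hlt'
      rw [← Subgroup.subgroupOf_normalizer_eq hVU] at h1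
      obtain ⟨x, hx1, hx2⟩ := SetLike.exists_of_lt h1
      intro hVeq
      apply hx2
      rw [Subgroup.mem_subgroupOf] at hx1 ⊢
      rw [hVeq]
      exact ⟨hx1, x.2⟩
    have hcard : Nat.card ↥V < Nat.card ↥V1 := by
      by_contra hle
      push Not at hle
      exact hlt (Subgroup.eq_of_le_of_card_ge hVV1 hle)
    have hcard2 : Nat.card ↥V1 ≤ Nat.card ↥U := Subgroup.card_le_of_le hV1U
    have hV1' := step p V V1 hVV1 inf_le_left hV1p hV
    exact ih (Nat.card ↥U - Nat.card ↥V1) (by omega) V1 hV1U rfl hV1'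

/-- Let V ≤ U be p-subgroups of the finite group G. If the generalized Fitting subgroup of C_G(V) is a p-group, then so is that of C_G(U). -/
theorem result {G : Type*} [Group G] [Finite G] {p : ℕ} [Fact p.Prime] (U V : Subgroup G) (hVU : V ≤ U) (hU : IsPGroup p U) (hV : IsPGroup p ↥(Cfsg.generalizedFittingSubgroup ↥(Subgroup.centralizer (V : Set G)))) : IsPGroup p ↥(Cfsg.generalizedFittingSubgroup ↥(Subgroup.centralizer (U : Set G))) := by
  exact main p U hU _ V hVU rfl hV

end Cfsg.Agent.S1246
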