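import Cfsg.Statements.S0579
import Mathlib
import Cfsg.Agent.Lib.Helper3_Huppert
import Cfsg.Agent.Lib.Helper1_Supersolvable3
import Cfsg.Agent.Lib.Helper4_MaxNormAb0

set_option autoImplicit false
open Cfsg

namespace Cfsg.Agent.S0579

open scoped commutatorElement
open Cfsg.Agent.Lib.Helper3_Huppert Cfsg.Agent.Lib.Helper1_Supersolvable
open Cfsg.Agent.Lib.Helper1_Supersolvable3

/-- A minimal normal subgroup inside a normal `p`-subgroup `P` is central in `P`, abelian and of
exponent `p`. -/
theorem minimal_props {G : Type*} [Group G] [Finite G] (p : ℕ) [hp : Fact p.Prime]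
    (P : Subgroup G) [hPn : P.Normal] (hP : IsPGroup p P)
    (N : Subgroup G) [hNn : N.Normal] (hNP : N ≤ P) (hN1 : N ≠ ⊥)
    (hmin : ∀ K : Subgroup G, K.Normal → K ≤ N → K = ⊥ ∨ K = N) :
    (∀ x ∈ P, ∀ n ∈ N, x * n * x⁻¹ = n) ∧ (∀ n ∈ N, n ^ p = 1) := by
  classical
  -- N meets the centre of P
  haveI : Group.IsNilpotent ↥P := hP.isNilpotent
  haveI : (N.subgroupOf P).Normal := hNn.subgroupOf P
  have hA1 : N.subgroupOf P ≠ ⊥ := by
    intro h0
    rw [Subgroup.subgroupOf_eq_bot] at h0
    apply hN1
    rw [eq_bot_iff]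
    intro x hx
    have : x ∈ N ⊓ P := ⟨hx, hNP hx⟩
    rw [disjoint_iff.mp h0] at this
    exact this
  obtain ⟨a, haA, haZ, ha1⟩ := Cfsg.Agent.Lib.Helper4_MaxNormAb0.normal_inf_center (N.subgroupOf P) hA1
  let K : Subgroup G := N ⊓ Subgroup.centralizer (P : Set G)
  have hKn : K.Normal := by
    refine ⟨fun n hn g => Subgroup.mem_inf.mpr ⟨hNn.conj_mem n hn.1 g, ?_⟩⟩
    rw [Subgroup.mem_centralizer_iff]
    intro x hx
    have hx' : g⁻¹ * x * g ∈ P := by simpa using hPn.conj_mem x hx g⁻¹
    have := (Subgroup.mem_centralizer_iff.mp hn.2) _ hx'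
    calc x * (g * n * g⁻¹) = g * ((g⁻¹ * x * g) * n) * g⁻¹ := by group
      _ = g * (n * (g⁻¹ * x * g)) * g⁻¹ := by rw [this]
      _ = g * n * g⁻¹ * x := by group
  have haK : (a : G) ∈ K := by
    refine Subgroup.mem_inf.mpr ⟨haA, ?_⟩
    rw [Subgroup.mem_centralizer_iff]
    intro x hx
    have := Subgroup.mem_center_iff.mp haZ ⟨x, hx⟩
    exact congrArg Subtype.val this
  have hKN : K = N := by
    rcases hmin K hKn inf_le_left with h0 | h0
    · exfalso
      rw [h0, Subgroup.mem_bot] at haK
      exact ha1 (Subtype.ext haK)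
    · exact h0
  have hcent : ∀ x ∈ P, ∀ n ∈ N, x * n * x⁻¹ = n := by
    intro x hx n hn
    have hn' : n ∈ K := by rw [hKN]; exact hn
    have := (Subgroup.mem_centralizer_iff.mp hn'.2) x hx
    rw [this]; group
  refine ⟨hcent, ?_⟩
  -- exponent p
  have hcomm : ∀ x ∈ N, ∀ y ∈ N, x * y = y * x := by
    intro x hx y hy
    have := hcent x (hNP hx) y hy
    calc x * y = (x * y * x⁻¹) * x := by group
      _ = y * x := by rw [this]
  let L : Subgroup G :=
    { carrier := {n | n ∈ N ∧ n ^ p = 1}
      one_mem' := ⟨N.one_mem, one_pow _⟩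
      mul_mem' := by
        rintro x y ⟨hx, hx'⟩ ⟨hy, hy'⟩
        refine ⟨N.mul_mem hx hy, ?_⟩
        rw [(show Commute x y from hcomm x hx y hy).mul_pow, hx', hy', one_mul]
      inv_mem' := by
        rintro x ⟨hx, hx'⟩
        exact ⟨N.inv_mem hx, by rw [inv_pow, hx', inv_one]⟩ }
  have hLn : L.Normal := by
    refine ⟨fun n hn g => ⟨hNn.conj_mem n hn.1 g, ?_⟩⟩
    rw [conj_pow, hn.2]; group
  have hLN : L ≤ N := fun n hn => hn.1
  have hNp : IsPGroup p N := hP.to_le hNP
  haveI : Nontrivial N := (Subgroup.nontrivial_iff_ne_bot N).mpr hN1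
  have hdvd : p ∣ Nat.card N := by
    obtain ⟨k, hk⟩ := (IsPGroup.iff_card.mp hNp)
    rw [hk]
    have hk0 : k ≠ 0 := by
      intro h0
      rw [h0, pow_zero] at hk
      have := Finite.one_lt_card (α := N)
      omega
    exact dvd_pow_self p hk0
  obtain ⟨b, hb⟩ := exists_prime_orderOf_dvd_card' (G := N) p hdvd
  have hbL : (b : G) ∈ L := by
    refine ⟨b.2, ?_⟩
    have := pow_orderOf_eq_one b
    rw [hb] at this
    have := congrArg Subtype.val this
    simpa using this
  have hb1 : (b : G) ≠ 1 := by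
    intro h
    have : b = 1 := Subtype.ext h
    rw [this, orderOf_one] at hb
    exact hp.out.one_lt.ne hb
  rcases hmin L hLn hLN with h0 | h0
  · exfalso
    rw [h0, Subgroup.mem_bot] at hbL
    exact hb1 hbL
  · intro n hn
    have : n ∈ L := by rw [h0]; exact hn
    exact this.2
/-- Huppert's supersolvability criterion: if every maximal subgroup of a finite group has prime index, then the group is supersolvable. -/
theorem result {G : Type*} [Group G] [Finite G] (h : ∀ M : Subgroup G, IsCoatom M → M.index.Prime) : Cfsg.IsSupersolvable G := by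
  classical
  induction hn : Nat.card G using Nat.strong_induction_on generalizing G with
  | _ n ih =>
  rcases subsingleton_or_nontrivial G with hs | hnt
  · exact of_subsingleton
  have h1 : 1 < Nat.card G := Finite.one_lt_card
  obtain ⟨p, hp, hpG, hmax⟩ := exists_max_prime (Nat.card G) h1
  haveI := Fact.mk hp
  let P : Sylow p G := default
  haveI hPn : (P : Subgroup G).Normal := sylow_normal_of_prime_index h p hmax P
  have hPp : IsPGroup p (P : Subgroup G) := P.isPGroup'
  have hP1 : (P : Subgroup G) ≠ ⊥ := P.ne_bot_of_dvd_card hpG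
  -- minimal normal subgroup inside P
  obtain ⟨N, ⟨hNn, hNP, hN1⟩, hNmin⟩ := WellFounded.has_min (wellFounded_lt (α := Subgroup G))
    {N : Subgroup G | N.Normal ∧ N ≤ (P : Subgroup G) ∧ N ≠ ⊥} ⟨P, hPn, le_rfl, hP1⟩
  haveI := hNn
  have hmin : ∀ K : Subgroup G, K.Normal → K ≤ N → K = ⊥ ∨ K = N := by
    intro K hKn hKN
    by_cases hK : K = ⊥
    · exact Or.inl hK
    · right
      have := hNmin K ⟨hKn, hKN.trans hNP, hK⟩
      exact eq_of_le_of_not_lt hKN this
  obtain ⟨hcent, hexp⟩ := minimal_props p (P : Subgroup G) hPp N hNP hN1 hmin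
  have hcomm : ∀ x ∈ N, ∀ y ∈ N, x * y = y * x := by
    intro x hx y hy
    have := hcent x (hNP hx) y hy
    calc x * y = (x * y * x⁻¹) * x := by group
      _ = y * x := by rw [this]
  -- the quotient is supersolvable
  haveI : Nontrivial N := (Subgroup.nontrivial_iff_ne_bot N).mpr hN1
  have hlt : Nat.card (G ⧸ N) < n := by
    rw [← hn, ← Subgroup.index_eq_card, ← Subgroup.index_mul_card N]
    have h2 : 1 < Nat.card N := Finite.one_lt_card
    have h3 : 0 < N.index := Nat.pos_of_ne_zero Subgroup.index_ne_zero_of_finite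
    nlinarith
  have hsupQ : Cfsg.IsSupersolvable (G ⧸ N) := ih _ hlt (quotient_coatom_prime h N) rfl
  -- the key claim
  have hcard : Nat.card N = p := by
    by_cases h3 : ∀ M : Subgroup G, IsCoatom M → N ≤ M
    · -- case B
      have hcop : Nat.Coprime (Nat.card (P : Subgroup G)) (P : Subgroup G).index :=
        P.card_coprime_index
      obtain ⟨H, hH⟩ := Subgroup.exists_right_complement'_of_coprime hcop
      have hPH : (P : Subgroup G) ⊔ H = ⊤ := hH.sup_eq_top
      have hPHd : (P : Subgroup G) ⊓ H = ⊥ := hH.disjoint.eq_bot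
      have hHcard : Nat.card H = (P : Subgroup G).index := by
        have e1 := hH.card_mul
        have e2 := Subgroup.card_mul_index (P : Subgroup G)
        have h0 : 0 < Nat.card (P : Subgroup G) := Nat.card_pos
        exact Nat.eq_of_mul_eq_mul_left h0 (e1.trans e2.symm)
      have hHp : (Nat.card H).Coprime p := by
        rw [hHcard]
        exact ((Nat.Prime.coprime_iff_not_dvd hp).mpr P.not_dvd_index).symm
      have hHP : (Nat.card H).Coprime (Nat.card (P : Subgroup G)) := by
        rw [hHcard]; exact hcop.symm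
      -- the subgroup D
      let D : Subgroup G :=
        { carrier := {g | g ∈ H ∧ ∀ x ∈ (P : Subgroup G), g * x * g⁻¹ * x⁻¹ ∈ N}
          one_mem' := ⟨H.one_mem, fun x _ => by simp⟩
          mul_mem' := by
            rintro a b ⟨ha, ha'⟩ ⟨hb, hb'⟩
            refine ⟨H.mul_mem ha hb, fun x hx => ?_⟩
            have e : a * b * x * (a * b)⁻¹ * x⁻¹
                = a * (b * x * b⁻¹ * x⁻¹) * a⁻¹ * (a * x * a⁻¹ * x⁻¹) := by group
            rw [e]
            exact N.mul_mem (hNn.conj_mem _ (hb' x hx) a) (ha' x hx)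
          inv_mem' := by
            rintro a ⟨ha, ha'⟩
            refine ⟨H.inv_mem ha, fun x hx => ?_⟩
            have hx' : a⁻¹ * x * a ∈ (P : Subgroup G) := by simpa using hPn.conj_mem x hx a⁻¹
            have := N.inv_mem (ha' _ hx')
            have e : (a * (a⁻¹ * x * a) * a⁻¹ * (a⁻¹ * x * a)⁻¹)⁻¹ = a⁻¹ * x * a⁻¹⁻¹ * x⁻¹ := by group
            rw [e] at this
            exact this }
      have hDH : D ≤ H := fun g hg => hg.1
      have hDnorm : ∀ h ∈ H, ∀ d ∈ D, h * d * h⁻¹ ∈ D := by
        intro h hh d hd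
        refine ⟨H.mul_mem (H.mul_mem hh hd.1) (H.inv_mem hh), fun x hx => ?_⟩
        have hx' : h⁻¹ * x * h ∈ (P : Subgroup G) := by simpa using hPn.conj_mem x hx h⁻¹
        have := hNn.conj_mem _ (hd.2 _ hx') h
        have e : h * (d * (h⁻¹ * x * h) * d⁻¹ * (h⁻¹ * x * h)⁻¹) * h⁻¹
            = h * d * h⁻¹ * x * (h * d * h⁻¹)⁻¹ * x⁻¹ := by group
        rw [e] at this
        exact this
      -- commutators and powers of H lie in D
      have hTmem : ∀ c ∈ H, ((∃ y z : G, c = ⁅y, z⁆) ∨ ∃ y : G, c = y ^ (p - 1)) → c ∈ D := by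
        intro c hc hcc
        refine ⟨hc, fun x hx => ?_⟩
        have hco : (orderOf c).Coprime p :=
          Nat.Coprime.coprime_dvd_left (Subgroup.orderOf_dvd_natCard H hc) hHp
        have hcob : (orderOf (QuotientGroup.mk' N c)).Coprime p :=
          Nat.Coprime.coprime_dvd_left (orderOf_map_dvd _ c) hco
        have hccb : (∃ y z : G ⧸ N, QuotientGroup.mk' N c = ⁅y, z⁆) ∨
            ∃ y : G ⧸ N, QuotientGroup.mk' N c = y ^ (p - 1) := by
          rcases hcc with ⟨y, z, rfl⟩ | ⟨y, rfl⟩
          · exact Or.inl ⟨QuotientGroup.mk' N y, QuotientGroup.mk' N z, map_commutatorElement _ _ _⟩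
          · exact Or.inr ⟨QuotientGroup.mk' N y, map_pow _ _ _⟩
        haveI : ((P : Subgroup G).map (QuotientGroup.mk' N)).Normal :=
          hPn.map _ (QuotientGroup.mk'_surjective N)
        have key := centralizes_of_supersolvable hsupQ p ((P : Subgroup G).map (QuotientGroup.mk' N))
          (hPp.map _) (QuotientGroup.mk' N c) hcob hccb (QuotientGroup.mk' N x)
          (Subgroup.mem_map_of_mem _ hx)
        rw [← QuotientGroup.ker_mk' N, MonoidHom.mem_ker, map_mul, map_inv, map_mul, map_mul,
          map_inv, key]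
        group
      -- coprime decomposition
      have hDP : D ≤ Subgroup.normalizer ((P : Subgroup G) : Set G) := by
        rw [Subgroup.normalizer_eq_top_iff.mpr hPn]; exact le_top
      have hDcop : (Nat.card D).Coprime (Nat.card (P : Subgroup G)) :=
        Nat.Coprime.coprime_dvd_left (Subgroup.card_dvd_of_le hDH) hHP
      haveI : Group.IsNilpotent ↥(P : Subgroup G) := hPp.isNilpotent
      have hsolv : Group.IsSolvable D ∨ Group.IsSolvable ↥(P : Subgroup G) := Or.inr inferInstance
      have hcommPD : ⁅(P : Subgroup G), D⁆ ≤ N := by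
        rw [Subgroup.commutator_le]
        intro x hx d hd
        have := N.inv_mem (hd.2 x hx)
        have e : (d * x * d⁻¹ * x⁻¹)⁻¹ = ⁅x, d⁆ := by
          simp only [commutatorElement_def]; group
        rw [e] at this
        exact this
      let C : Subgroup G := (P : Subgroup G) ⊓ Subgroup.centralizer (D : Set G)
      have hdecomp : ∀ k ∈ (P : Subgroup G), ∃ n ∈ N, ∃ c ∈ C, k = n * c := by
        intro k hk
        obtain ⟨n, hn', c, hc, e⟩ := Cfsg.Agent.Lib.Lead_Coprime.decomp D (P : Subgroup G) hDP hDcop hsolv k hk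
        exact ⟨n, hcommPD hn', c, hc, e⟩
      have hCH : ∀ h ∈ H, ∀ c ∈ C, h * c * h⁻¹ ∈ C := by
        intro h hh c hc
        refine Subgroup.mem_inf.mpr ⟨hPn.conj_mem c hc.1 h, ?_⟩
        rw [Subgroup.mem_centralizer_iff]
        intro d hd
        have hd' : h⁻¹ * d * h ∈ D := by simpa using hDnorm h⁻¹ (H.inv_mem hh) d hd
        have := (Subgroup.mem_centralizer_iff.mp hc.2) _ hd'
        calc d * (h * c * h⁻¹) = h * ((h⁻¹ * d * h) * c) * h⁻¹ := by group
          _ = h * (c * (h⁻¹ * d * h)) * h⁻¹ := by rw [this]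
          _ = h * c * h⁻¹ * d := by group
      have hCHtop : C ⊔ H = ⊤ := by
        by_contra hne
        obtain ⟨M, hM, hCM⟩ := (eq_top_or_exists_le_coatom _).resolve_left hne
        have hNM := h3 M hM
        apply hM.1
        rw [eq_top_iff, ← hPH]
        apply sup_le
        · intro k hk
          obtain ⟨n, hn', c, hc, rfl⟩ := hdecomp k hk
          exact M.mul_mem (hNM hn') (hCM (Subgroup.mem_sup_left hc))
        · exact le_sup_right.trans hCM
      have hCn : C.Normal := by
        apply normal_of_sup_eq_top C C H hCHtop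
        · intro q hq n hn'
          exact C.mul_mem (C.mul_mem hq hn') (C.inv_mem hq)
        · exact hCH
      have hPC : (P : Subgroup G) ≤ C := by
        intro x hx
        have hx' : x ∈ C ⊔ H := by rw [hCHtop]; trivial
        rw [Subgroup.mem_sup_of_normal_left] at hx'
        obtain ⟨c, hc, h', hh', rfl⟩ := hx'
        have : h' ∈ (P : Subgroup G) ⊓ H := by
          refine Subgroup.mem_inf.mpr ⟨?_, hh'⟩
          have := (P : Subgroup G).mul_mem ((P : Subgroup G).inv_mem hc.1) hx
          rwa [inv_mul_cancel_left] at this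
        rw [hPHd, Subgroup.mem_bot] at this
        rw [this, mul_one]; exact hc
      have hDcent : ∀ d ∈ D, ∀ n' ∈ N, d * n' * d⁻¹ = n' := by
        intro d hd n' hn'
        have := (Subgroup.mem_centralizer_iff.mp (hPC (hNP hn')).2) d hd
        rw [this]; group
      exact card_eq_of_scalar p N hN1 hcomm hexp hmin (P : Subgroup G) H hPH hcent
        (fun y hy z hz n' hn' => hDcent _ (hTmem _ (by
          rw [commutatorElement_def]
          exact H.mul_mem (H.mul_mem (H.mul_mem hy hz) (H.inv_mem hy)) (H.inv_mem hz))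
          (Or.inl ⟨y, z, rfl⟩)) n' hn')
        (fun y hy n' hn' => hDcent _ (hTmem _ (H.pow_mem hy _) (Or.inr ⟨y, rfl⟩)) n' hn')
    · -- case A
      push Not at h3
      obtain ⟨M, hM, hNM⟩ := h3
      have hsup : N ⊔ M = ⊤ := by
        by_contra hne
        have hlt : M < N ⊔ M := lt_of_le_of_ne le_sup_right (fun h' => hNM (h' ▸ le_sup_left))
        exact hne (hM.2 _ hlt)
      have hKn : (N ⊓ M).Normal := by
        apply normal_of_sup_eq_top (N ⊓ M) N M hsup
        · intro q hq k hk
          have : q * k * q⁻¹ = k := by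
            rw [hcomm q hq k hk.1]; group
          rw [this]; exact hk
        · intro m hm k hk
          exact ⟨hNn.conj_mem k hk.1 m, M.mul_mem (M.mul_mem hm hk.2) (M.inv_mem hm)⟩
      have hK0 : N ⊓ M = ⊥ := by
        rcases hmin _ hKn inf_le_left with h0 | h0
        · exact h0
        · exact absurd (h0 ▸ inf_le_right) hNM
      have e1 : N.index = Nat.card M := by
        have a1 : N.relIndex (M ⊔ N) = N.relIndex M := Subgroup.relIndex_sup_right M N
        rw [sup_comm, hsup, Subgroup.relIndex_top_right] at a1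
        rw [a1, ← Subgroup.inf_relIndex_right, hK0, Subgroup.relIndex_bot_left]
      have e2 : Nat.card N = M.index := by
        have a1 := Subgroup.card_mul_index N
        have a2 := Subgroup.card_mul_index M
        rw [e1] at a1
        have h0 : 0 < Nat.card M := Nat.card_pos
        have : Nat.card M * Nat.card N = Nat.card M * M.index := by
          rw [mul_comm, a1, a2]
        exact Nat.eq_of_mul_eq_mul_left h0 this
      have hpr : (Nat.card N).Prime := e2 ▸ h M hM
      obtain ⟨k, hk⟩ := IsPGroup.iff_card.mp (hPp.to_le hNP)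
      rw [hk] at hpr ⊢
      rcases k with _ | _ | k
      · rw [pow_zero] at hpr; exact absurd hpr Nat.not_prime_one
      · rw [pow_one]
      · exact absurd hpr (Nat.Prime.not_prime_pow (by omega))
  haveI : IsCyclic N := isCyclic_of_prime_card hcard
  exact of_quotient_of_isCyclic N hsupQ

end Cfsg.Agent.S0579
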