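import Cfsg.Statements.S1907
import Cfsg.Agent.S1960
import Cfsg.Agent.S2013
import Cfsg.Agent.Lib.Helper5_Residual
import Cfsg.Agent.Lib.Helper4_PCore
import Cfsg.Agent.Lib.Helper5_PPrime

set_option autoImplicit false
open Cfsg

namespace Cfsg.Agent.S1907

open Cfsg.Agent.Lib.Helper3_Conj Cfsg.Agent.Lib.Helper3_SylowRel
open Cfsg.Agent.Lib.Helper5_Residual Cfsg.Agent.Lib.Helper4_PCore Cfsg.Agent.Lib.Helper5_PPrime

variable {G : Type*} [Group G] [Finite G] {p : ℕ} [hp : Fact p.Prime]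

omit hp in
theorem D_normal : (Cfsg.pPrimeCore p G).Normal := pPrimeCore_normal p G

theorem K_normal : (Cfsg.pPrimePCore p G).Normal := by
  haveI := D_normal (G := G) (p := p)
  unfold Cfsg.pPrimePCore
  haveI := pCore_normal p (G ⧸ Cfsg.pPrimeCore p G)
  exact Subgroup.Normal.comap inferInstance _

/-- `p'`-elements of `O_{p',p}(G)` lie in `O_{p'}(G)`. -/
theorem mem_D_of_coprime (k : G) (hk : k ∈ Cfsg.pPrimePCore p G) (hc : (orderOf k).Coprime p) :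
    k ∈ Cfsg.pPrimeCore p G := by
  haveI := D_normal (G := G) (p := p)
  have h1 : (QuotientGroup.mk' (Cfsg.pPrimeCore p G)) k ∈ Cfsg.pCore p (G ⧸ Cfsg.pPrimeCore p G) := hk
  obtain ⟨j, hj⟩ := (pCore_isPGroup (G := G ⧸ Cfsg.pPrimeCore p G) (p := p)) ⟨_, h1⟩
  have hj' : ((QuotientGroup.mk' (Cfsg.pPrimeCore p G)) k) ^ p ^ j = 1 := by
    have := congrArg Subtype.val hj
    simpa using this
  have h2 : orderOf ((QuotientGroup.mk' (Cfsg.pPrimeCore p G)) k) ∣ p ^ j := orderOf_dvd_of_pow_eq_one hj'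
  have h3 : orderOf ((QuotientGroup.mk' (Cfsg.pPrimeCore p G)) k) ∣ orderOf k := orderOf_map_dvd _ k
  have h4 : orderOf ((QuotientGroup.mk' (Cfsg.pPrimeCore p G)) k) = 1 := by
    have hcop : (orderOf k).Coprime (p ^ j) := Nat.Coprime.pow_right j hc
    exact Nat.eq_one_of_dvd_coprimes hcop h3 h2
  rw [orderOf_eq_one_iff] at h4
  exact (QuotientGroup.eq_one_iff k).mp h4

section main

variable (P : Sylow p G)

/-- `H = P ∩ O_{p',p}(G)` is a Sylow subgroup of `O_{p',p}(G)`. -/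
theorem H_sylow : ¬ p ∣ ((P : Subgroup G) ⊓ Cfsg.pPrimePCore p G).relIndex (Cfsg.pPrimePCore p G) := by
  haveI := K_normal (G := G) (p := p)
  rw [Subgroup.inf_relIndex_right]
  exact not_dvd_relIndex_of_normal P _

/-- `O_{p',p}(G) ≤ H ⊔ O_{p'}(G)`. -/
theorem K_le : Cfsg.pPrimePCore p G ≤ ((P : Subgroup G) ⊓ Cfsg.pPrimePCore p G) ⊔ Cfsg.pPrimeCore p G := by
  refine (le_sup_residualOf p _ _ (H_sylow P)).trans (sup_le_sup le_rfl ?_)
  unfold residualOf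
  rw [Subgroup.closure_le]
  intro g hg
  exact mem_D_of_coprime g hg.1 hg.2

/-- a `p`-subgroup meets `O_{p'}(G)` trivially -/
theorem inf_D (R : Subgroup G) (hR : IsPGroup p ↥R) : R ⊓ Cfsg.pPrimeCore p G = ⊥ :=
  inf_eq_bot_of_pGroup_of_coprime hR (pPrimeCore_coprime p G)

/-- `N_D(H) ≤ C(H)` -/
theorem ND_le (H : Subgroup G) (hH : IsPGroup p ↥H) (d : G) (hdD : d ∈ Cfsg.pPrimeCore p G)
    (hdN : d ∈ Subgroup.normalizer (H : Set G)) : d ∈ Subgroup.centralizer (H : Set G) := by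
  haveI := D_normal (G := G) (p := p)
  rw [Subgroup.mem_centralizer_iff]
  intro h hh
  have h1 : d * h * d⁻¹ * h⁻¹ ∈ H :=
    H.mul_mem ((Subgroup.mem_normalizer_iff.mp hdN h).mp hh) (H.inv_mem hh)
  have h2 : d * h * d⁻¹ * h⁻¹ ∈ Cfsg.pPrimeCore p G := by
    have : h * d⁻¹ * h⁻¹ ∈ Cfsg.pPrimeCore p G :=
      (D_normal (G := G) (p := p)).conj_mem _ (Subgroup.inv_mem _ hdD) h
    have e : d * h * d⁻¹ * h⁻¹ = d * (h * d⁻¹ * h⁻¹) := by group
    rw [e]; exact Subgroup.mul_mem _ hdD this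
  have h3 : d * h * d⁻¹ * h⁻¹ ∈ H ⊓ Cfsg.pPrimeCore p G := ⟨h1, h2⟩
  rw [inf_D H hH, Subgroup.mem_bot] at h3
  have : d * h = h * d := by
    calc d * h = (d * h * d⁻¹ * h⁻¹) * (h * d) := by group
      _ = h * d := by rw [h3, one_mul]
  exact this.symm

/-- part (a) -/
theorem partA (y : G)
    (hyN : y ∈ Subgroup.normalizer (((P : Subgroup G) ⊓ Cfsg.pPrimePCore p G : Subgroup G) : Set G))
    (hyp : ∃ k : ℕ, orderOf y = p ^ k) (d : G) (hdD : d ∈ Cfsg.pPrimeCore p G)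
    (hdy : d⁻¹ * y * d ∈ Subgroup.normalizer (((P : Subgroup G) ⊓ Cfsg.pPrimePCore p G : Subgroup G) : Set G)) :
    ∃ d₁ ∈ Cfsg.pPrimeCore p G ⊓ Subgroup.centralizer ({y} : Set G),
      ∃ d₂ ∈ Cfsg.pPrimeCore p G ⊓ Subgroup.centralizer (((P : Subgroup G) ⊓ Cfsg.pPrimePCore p G : Subgroup G) : Set G), d = d₁ * d₂ := by
  haveI hDn := D_normal (G := G) (p := p)
  haveI hKn := K_normal (G := G) (p := p)
  set D := Cfsg.pPrimeCore p G with hD
  set K := Cfsg.pPrimePCore p G with hK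
  set H := (P : Subgroup G) ⊓ K with hH
  have hHp : IsPGroup p ↥H := P.2.to_le inf_le_left
  set y' := d⁻¹ * y * d with hy'
  -- y' has p-power order
  have hy'p : IsPGroup p ↥(Subgroup.zpowers y') := by
    obtain ⟨k, hk⟩ := hyp
    have : orderOf y' = p ^ k := by
      rw [← hk, hy']
      have := (MulAut.conj d⁻¹).orderOf_eq y
      simpa [MulAut.conj_apply] using this
    rw [IsPGroup.iff_card]
    exact ⟨k, by rw [Nat.card_zpowers, this]⟩
  have hyp' : IsPGroup p ↥(Subgroup.zpowers y) := by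
    obtain ⟨k, hk⟩ := hyp
    rw [IsPGroup.iff_card]
    exact ⟨k, by rw [Nat.card_zpowers, hk]⟩
  set R := H ⊔ Subgroup.zpowers y with hR
  set R' := H ⊔ Subgroup.zpowers y' with hR'
  have hRp : IsPGroup p ↥R := hHp.to_sup_of_normal_left' hyp' (by rw [Subgroup.zpowers_le]; exact hyN)
  have hR'p : IsPGroup p ↥R' := hHp.to_sup_of_normal_left' hy'p (by rw [Subgroup.zpowers_le]; exact hdy)
  set L := D ⊔ R' with hL
  have hR'L : R' ≤ L := le_sup_right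
  have hDL : D ≤ L := le_sup_left
  have hRL : R ≤ L := by
    apply sup_le ((le_sup_left : H ≤ R').trans hR'L)
    rw [Subgroup.zpowers_le]
    have e : y = d * y' * d⁻¹ := by rw [hy']; group
    rw [e]
    have hy'L : y' ∈ L := hR'L (Subgroup.mem_sup_right (Subgroup.mem_zpowers y'))
    exact L.mul_mem (L.mul_mem (hDL hdD) hy'L) (L.inv_mem (hDL hdD))
  have hR'i : ¬ p ∣ R'.relIndex L := by
    have h1 : Nat.card ↥L ∣ Nat.card ↥D * Nat.card ↥R' := card_sup_dvd_mul D R'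
    have h2 : Nat.card ↥R' * R'.relIndex L = Nat.card ↥L := by
      rw [← Subgroup.relIndex_bot_left, ← Subgroup.relIndex_bot_left]
      exact Subgroup.relIndex_mul_relIndex ⊥ R' L bot_le hR'L
    have hpos : 0 < Nat.card ↥R' := Nat.card_pos
    have h3 : R'.relIndex L ∣ Nat.card ↥D := by
      rw [← h2, mul_comm (Nat.card ↥D)] at h1
      exact Nat.dvd_of_mul_dvd_mul_left hpos h1
    intro hdvd
    have hcop := pPrimeCore_coprime p G
    have : p ∣ Nat.card ↥D := hdvd.trans h3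
    exact (Nat.Prime.coprime_iff_not_dvd hp.out).mp hcop.symm this
  obtain ⟨l, hlL, hl⟩ := exists_conj_le_of_relIndex L R' R hR'L hR'p hR'i hRL hRp
  -- write l = r' * d'
  have hlmem : l ∈ ((R' ⊔ D : Subgroup G) : Set G) := by
    have : l ∈ R' ⊔ D := by rw [sup_comm]; exact hlL
    exact this
  rw [Subgroup.mul_normal R' D, Set.mem_mul] at hlmem
  obtain ⟨r', hr', d', hd', rfl⟩ := hlmem
  have hr'R : r' ∈ R' := hr'
  have hd'D : d' ∈ D := hd'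
  have hconj : ∀ r ∈ R, d' * r * d'⁻¹ ∈ R' := by
    intro r hr
    have h1 := hl r hr
    have e : d' * r * d'⁻¹ = r'⁻¹ * (r' * d' * r * (r' * d')⁻¹) * r' := by group
    rw [e]
    exact R'.mul_mem (R'.mul_mem (R'.inv_mem hr'R) h1) hr'R
  -- R' ∩ K = H
  have hR'K : R' ⊓ K = H := by
    have h1 : H ≤ R' ⊓ K := le_inf le_sup_left inf_le_right
    exact (Cfsg.Agent.S2013.eq_of_le_of_relIndex H (R' ⊓ K) K h1 inf_le_right
      (hR'p.to_le inf_le_left) (H_sylow P)).symm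
  -- d' normalizes H
  have hd'N : d' ∈ Subgroup.normalizer (H : Set G) := by
    apply Cfsg.Agent.S1960.mem_normalizer_of_conj_le'
    intro h hh
    have h1 : d' * h * d'⁻¹ ∈ R' := hconj h (Subgroup.mem_sup_left hh)
    have h2 : d' * h * d'⁻¹ ∈ K := hKn.conj_mem h hh.2 d'
    have h3 : d' * h * d'⁻¹ ∈ R' ⊓ K := ⟨h1, h2⟩
    rw [hR'K] at h3
    exact h3
  have hd'C : d' ∈ Subgroup.centralizer (H : Set G) := ND_le H hHp d' hd'D hd'N
  -- d' y d'⁻¹ = y'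
  have hy1 : d' * y * d'⁻¹ ∈ R' := hconj y (Subgroup.mem_sup_right (Subgroup.mem_zpowers y))
  have hy2 : y' ∈ R' := Subgroup.mem_sup_right (Subgroup.mem_zpowers y')
  have hquot : (d' * y * d'⁻¹)⁻¹ * y' ∈ D := by
    have e : (d' * y * d'⁻¹)⁻¹ * y' = (d' * (y⁻¹ * d'⁻¹ * y⁻¹⁻¹)) * ((y⁻¹ * d⁻¹ * y⁻¹⁻¹) * d) := by
      rw [hy']; group
    rw [e]
    exact D.mul_mem (D.mul_mem hd'D (hDn.conj_mem _ (D.inv_mem hd'D) y⁻¹))
      (D.mul_mem (hDn.conj_mem _ (D.inv_mem hdD) y⁻¹) hdD)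
  have hone : (d' * y * d'⁻¹)⁻¹ * y' = 1 := by
    have h3 : (d' * y * d'⁻¹)⁻¹ * y' ∈ R' ⊓ D := ⟨R'.mul_mem (R'.inv_mem hy1) hy2, hquot⟩
    rw [inf_D R' hR'p, Subgroup.mem_bot] at h3
    exact h3
  have heq : d' * y * d'⁻¹ = d⁻¹ * y * d := by
    have := inv_mul_eq_one.mp hone
    rw [this]
  refine ⟨d * d', ⟨D.mul_mem hdD hd'D, ?_⟩, d'⁻¹, ⟨D.inv_mem hd'D, Subgroup.inv_mem _ hd'C⟩, by group⟩
  show d * d' ∈ Subgroup.centralizer ({y} : Set G)
  rw [Subgroup.mem_centralizer_singleton_iff]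
  calc d * d' * y = d * (d' * y * d'⁻¹) * d' := by group
    _ = d * (d⁻¹ * y * d) * d' := by rw [heq]
    _ = y * (d * d') := by group

/-- Frattini argument: `G = D N`. -/
theorem frattini (g : G) : ∃ d ∈ Cfsg.pPrimeCore p G,
    ∃ n ∈ Subgroup.normalizer (((P : Subgroup G) ⊓ Cfsg.pPrimePCore p G : Subgroup G) : Set G), g = d * n := by
  haveI hDn := D_normal (G := G) (p := p)
  haveI hKn := K_normal (G := G) (p := p)
  set D := Cfsg.pPrimeCore p G with hD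
  set K := Cfsg.pPrimePCore p G with hK
  set H := (P : Subgroup G) ⊓ K with hH
  have hHp : IsPGroup p ↥H := P.2.to_le inf_le_left
  set H' := H.map (MulAut.conj g).toMonoidHom with hH'
  have hH'K : H' ≤ K := by
    rintro _ ⟨h, hh, rfl⟩
    simp only [MulEquiv.coe_toMonoidHom, MulAut.conj_apply]
    exact hKn.conj_mem h hh.2 g
  have hH'p : IsPGroup p ↥H' := hHp.map _
  obtain ⟨k, hkK, hk⟩ := exists_conj_le_of_relIndex K H H' inf_le_right hHp (H_sylow P) hH'K hH'p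
  -- k = h * d
  have hkmem : k ∈ ((H ⊔ D : Subgroup G) : Set G) := K_le P hkK
  rw [Subgroup.mul_normal H D, Set.mem_mul] at hkmem
  obtain ⟨h₀, hh₀, d₀, hd₀, rfl⟩ := hkmem
  have hh₀H : h₀ ∈ H := hh₀
  have hd₀D : d₀ ∈ D := hd₀
  -- d₀ g normalizes H
  have hN : d₀ * g ∈ Subgroup.normalizer (H : Set G) := by
    apply Cfsg.Agent.S1960.mem_normalizer_of_conj_le'
    intro h hh
    have h1 := hk (g * h * g⁻¹) (conj_mem_map_conj H g h hh)
    have e : d₀ * g * h * (d₀ * g)⁻¹ = h₀⁻¹ * (h₀ * d₀ * (g * h * g⁻¹) * (h₀ * d₀)⁻¹) * h₀ := by group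
    rw [e]
    exact H.mul_mem (H.mul_mem (H.inv_mem hh₀H) h1) hh₀H
  exact ⟨d₀⁻¹, D.inv_mem hd₀D, d₀ * g, hN, by group⟩

end main

/-- Let P be a Sylow p-subgroup of a finite group G, H = P ∩ O_{p',p}(G), N = N_G(H) and D = O_{p'}(G). (a) If y is an element of p-power order of N and d ∈ D with d⁻¹ y d ∈ N, then d = d₁ d₂ with d₁ ∈ C_D(y) and d₂ ∈ C_D(H). (b) Two elements of P that are conjugate in G are conjugate in N. -/
theorem result {G : Type*} [Group G] [Finite G] {p : ℕ} [Fact p.Prime] (P : Sylow p G) :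
    (∀ y ∈ Subgroup.normalizer (((P : Subgroup G) ⊓ Cfsg.pPrimePCore p G : Subgroup G) : Set G), (∃ k : ℕ, orderOf y = p ^ k) →
      ∀ d ∈ Cfsg.pPrimeCore p G, d⁻¹ * y * d ∈ Subgroup.normalizer (((P : Subgroup G) ⊓ Cfsg.pPrimePCore p G : Subgroup G) : Set G) →
        ∃ d₁ ∈ Cfsg.pPrimeCore p G ⊓ Subgroup.centralizer ({y} : Set G),
          ∃ d₂ ∈ Cfsg.pPrimeCore p G ⊓ Subgroup.centralizer (((P : Subgroup G) ⊓ Cfsg.pPrimePCore p G : Subgroup G) : Set G), d = d₁ * d₂) ∧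
    ∀ x y : G, x ∈ (P : Subgroup G) → y ∈ (P : Subgroup G) → IsConj x y →
      ∃ n ∈ Subgroup.normalizer (((P : Subgroup G) ⊓ Cfsg.pPrimePCore p G : Subgroup G) : Set G), n * x * n⁻¹ = y := by
  haveI hKn := K_normal (G := G) (p := p)
  refine ⟨fun y hyN hyp d hdD hdy => partA P y hyN hyp d hdD hdy, ?_⟩
  intro x y hxP hyP hconj
  obtain ⟨g, hg⟩ := isConj_iff.mp hconj
  -- P normalizes H
  have hPN : (P : Subgroup G) ≤ Subgroup.normalizer (((P : Subgroup G) ⊓ Cfsg.pPrimePCore p G : Subgroup G) : Set G) := by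
    intro a ha
    apply Cfsg.Agent.S1960.mem_normalizer_of_conj_le'
    intro h hh
    exact ⟨Subgroup.mul_mem _ (Subgroup.mul_mem _ ha hh.1) (Subgroup.inv_mem _ ha), hKn.conj_mem h hh.2 a⟩
  -- g⁻¹ = d * n, so g = n⁻¹ * d⁻¹
  obtain ⟨d, hdD, n, hnN, hgdn⟩ := frattini P g⁻¹
  have hg' : g = n⁻¹ * d⁻¹ := by
    have : g = (g⁻¹)⁻¹ := (inv_inv g).symm
    rw [this, hgdn]; group
  -- d⁻¹ x d ∈ N
  have hdx : d⁻¹ * x * d ∈ Subgroup.normalizer (((P : Subgroup G) ⊓ Cfsg.pPrimePCore p G : Subgroup G) : Set G) := by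
    have e : d⁻¹ * x * d = n * y * n⁻¹ := by
      rw [← hg, hg']; group
    rw [e]
    exact Subgroup.mul_mem _ (Subgroup.mul_mem _ hnN (hPN hyP)) (Subgroup.inv_mem _ hnN)
  have hxp : ∃ k : ℕ, orderOf x = p ^ k := by
    obtain ⟨k, hk⟩ := (IsPGroup.iff_orderOf.mp P.2) ⟨x, hxP⟩
    exact ⟨k, by rw [← hk, Subgroup.orderOf_mk]⟩
  obtain ⟨d₁, hd₁, d₂, hd₂, hd12⟩ := partA P x (hPN hxP) hxp d hdD hdx
  have hd₁x : d₁ * x = x * d₁ := Subgroup.mem_centralizer_singleton_iff.mp hd₁.2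
  have hd₂N : d₂ ∈ Subgroup.normalizer (((P : Subgroup G) ⊓ Cfsg.pPrimePCore p G : Subgroup G) : Set G) :=
    Subgroup.centralizer_le_normalizer _ hd₂.2
  refine ⟨n⁻¹ * d₂⁻¹, Subgroup.mul_mem _ (Subgroup.inv_mem _ hnN) (Subgroup.inv_mem _ hd₂N), ?_⟩
  rw [← hg, hg', hd12]
  calc n⁻¹ * d₂⁻¹ * x * (n⁻¹ * d₂⁻¹)⁻¹ = n⁻¹ * d₂⁻¹ * (d₁⁻¹ * (d₁ * x)) * d₂ * n := by group
    _ = n⁻¹ * d₂⁻¹ * (d₁⁻¹ * (x * d₁)) * d₂ * n := by rw [hd₁x]
    _ = n⁻¹ * (d₁ * d₂)⁻¹ * x * (n⁻¹ * (d₁ * d₂)⁻¹)⁻¹ := by group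

end Cfsg.Agent.S1907
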