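import Cfsg.Statements.S2896
import Cfsg.Agent.Lib.Helper3_GFp3
import Cfsg.Agent.Lib.Lead_SZ
import Cfsg.Agent.Lib.Helper4_Kieler0

set_option autoImplicit false
open Cfsg

namespace Cfsg.Agent.S2896

open Cfsg.Agent.Lib.Helper3_GFp Cfsg.Agent.Lib.Helper3_GFp2 Cfsg.Agent.Lib.Helper3_GFp3

/-- a nontrivial finite `p`-group has an element of order `p` -/
theorem exists_order_p {G : Type*} [Group G] [Finite G] {p : ℕ} [Fact p.Prime] (W : Subgroup G)
    (hW : IsPGroup p ↥W) (hW1 : W ≠ ⊥) : ∃ x ∈ W, orderOf x = p := by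
  have hdvd : p ∣ Nat.card ↥W := by
    rcases hW.card_eq_or_dvd with h | h
    · exact absurd (Subgroup.card_eq_one.mp h) hW1
    · exact h
  obtain ⟨x, hx⟩ := exists_prime_orderOf_dvd_card' p hdvd
  exact ⟨(x : G), x.2, by rw [Subgroup.orderOf_coe]; exact hx⟩

/-- the key step: if `z` has order `p`, lies in `R` and in a conjugate `g S g⁻¹`, and the
hypothesis holds for `g⁻¹ z g`, then `N_G(R)` has characteristic `p` -/
theorem key {G : Type*} [Group G] [Finite G] {p : ℕ} [Fact p.Prime] (R : Subgroup G)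
    (hR : IsPGroup p ↥R) (z g : G) (hzR : z ∈ R)
    (h : Cfsg.generalizedFittingSubgroup ↥(Subgroup.centralizer ({g⁻¹ * z * g} : Set G)) =
      Cfsg.pCore p ↥(Subgroup.centralizer ({g⁻¹ * z * g} : Set G))) :
    Subgroup.centralizer (Cfsg.pCore p ↥(Subgroup.normalizer (R : Set G)) :
      Set ↥(Subgroup.normalizer (R : Set G))) ≤ Cfsg.pCore p ↥(Subgroup.normalizer (R : Set G)) := by
  rw [← gf_eq_pCore_iff_centralizer p, ← gf_pgroup_iff p]
  have h1 := gf_pgroup_centralizer_conj p g (g⁻¹ * z * g) ((gf_pgroup_iff p).mpr h)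
  have e : g * (g⁻¹ * z * g) * g⁻¹ = z := by group
  rw [e] at h1
  exact gf_pgroup_normalizer_of_mem p R hR z hzR h1

/-- Let p be a prime dividing the order of the finite group G, S a Sylow p-subgroup of G and X a subgroup of S. (i) If some nontrivial element z of the centre of X has F*(C_G(z)) = O_p(C_G(z)), then F*(N_G(X)) = O_p(N_G(X)). (ii) G has parabolic characteristic p if and only if F*(C_G(z)) = O_p(C_G(z)) for every nontrivial z ∈ Ω₁(Z(S)). (iii) If F*(C_G(z)) = O_p(C_G(z)) for every element z of S of order p, then G has local characteristic p. -/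
theorem result {G : Type*} [Group G] [Finite G] {p : ℕ} [Fact p.Prime] (hdiv : p ∣ Nat.card G) (S : Sylow p G) (X : Subgroup G) (hX : X ≤ (S : Subgroup G)) : (∀ z : G, z ≠ 1 → z ∈ X → (∀ x ∈ X, x * z = z * x) → Cfsg.generalizedFittingSubgroup ↥(Subgroup.centralizer ({z} : Set G)) = Cfsg.pCore p ↥(Subgroup.centralizer ({z} : Set G)) → Cfsg.generalizedFittingSubgroup ↥(Subgroup.normalizer (X : Set G)) = Cfsg.pCore p ↥(Subgroup.normalizer (X : Set G))) ∧ (Cfsg.IsOfParabolicCharacteristic p G ↔ ∀ z : G, z ≠ 1 → z ∈ Cfsg.omegaOne p ((S : Subgroup G) ⊓ Subgroup.centralizer ((S : Subgroup G) : Set G)) → Cfsg.generalizedFittingSubgroup ↥(Subgroup.centralizer ({z} : Set G)) = Cfsg.pCore p ↥(Subgroup.centralizer ({z} : Set G))) ∧ ((∀ z : G, z ∈ (S : Subgroup G) → orderOf z = p → Cfsg.generalizedFittingSubgroup ↥(Subgroup.centralizer ({z} : Set G)) = Cfsg.pCore p ↥(Subgroup.centralizer ({z} : Set G))) → Cfsg.IsOfLocalCharacteristic p G) := by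
  classical
  have hSp : IsPGroup p ↥(S : Subgroup G) := S.isPGroup'
  refine ⟨?_, ?_, ?_⟩
  · intro z hz1 hzX hzc hgf
    rw [← gf_pgroup_iff p]
    exact gf_pgroup_normalizer_of_mem p X (hSp.to_le hX) z hzX ((gf_pgroup_iff p).mpr hgf)
  · constructor
    · intro hpar z hz1 hzΩ
      have hzZ : z ∈ (S : Subgroup G) ⊓ Subgroup.centralizer ((S : Subgroup G) : Set G) := by
        have hle : Cfsg.omegaOne p ((S : Subgroup G) ⊓ Subgroup.centralizer ((S : Subgroup G) : Set G)) ≤
            (S : Subgroup G) ⊓ Subgroup.centralizer ((S : Subgroup G) : Set G) := by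
          unfold Cfsg.omegaOne
          rw [Subgroup.closure_le]
          intro x hx
          exact hx.1
        exact hle hzΩ
      have hRp : IsPGroup p ↥(Subgroup.zpowers z) :=
        hSp.to_le (by rw [Subgroup.zpowers_le]; exact hzZ.1)
      have hR1 : Subgroup.zpowers z ≠ ⊥ := by
        rw [Ne, Subgroup.zpowers_eq_bot]; exact hz1
      have hpara : Cfsg.IsParabolic p (Subgroup.normalizer ((Subgroup.zpowers z : Subgroup G) : Set G)) := by
        refine ⟨S, ?_⟩
        intro s hs
        have h1 : s ∈ Subgroup.centralizer ((Subgroup.zpowers z : Subgroup G) : Set G) := by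
          rw [centralizer_zpowers, Subgroup.mem_centralizer_singleton_iff]
          exact Subgroup.mem_centralizer_iff.mp hzZ.2 s hs
        exact Subgroup.centralizer_le_normalizer _ h1
      have h1 := hpar _ hRp hR1 hpara
      have h2 := (gf_eq_pCore_iff_centralizer p).mpr h1
      have h3 := gf_pgroup_centralizer_of_normalizer p _ ((gf_pgroup_iff p).mpr h2)
      have h4 := gf_pgroup_of_equiv p (MulEquiv.subgroupCongr (centralizer_zpowers z)) h3
      exact (gf_pgroup_iff p).mp h4
    · rintro hall R hRp hR1 ⟨T, hT⟩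
      have hTp : IsPGroup p ↥(T : Subgroup G) := T.isPGroup'
      have hRT : R ≤ (T : Subgroup G) := by
        have h1 : IsPGroup p ↥((T : Subgroup G) ⊔ R) := IsPGroup.to_sup_of_normal_right' hTp hRp hT
        have h2 := T.is_maximal' h1 le_sup_left
        rw [← h2]
        exact le_sup_right
      -- an element of order `p` in `R ∩ Z(T)`
      haveI : Group.IsNilpotent ↥(T : Subgroup G) := hTp.isNilpotent
      haveI : (R.subgroupOf (T : Subgroup G)).Normal := Subgroup.normal_subgroupOf_of_le_normalizer hT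
      have hne : R.subgroupOf (T : Subgroup G) ≠ ⊥ := by
        intro h0
        rw [Subgroup.subgroupOf_eq_bot] at h0
        exact hR1 (h0.eq_bot_of_le hRT)
      obtain ⟨a, haA, haZ, ha1⟩ :=
        Cfsg.Agent.Lib.Helper4_Kieler0.normal_inf_center_ne_bot' (R.subgroupOf (T : Subgroup G)) hne
      have hW1 : R ⊓ ((T : Subgroup G) ⊓ Subgroup.centralizer ((T : Subgroup G) : Set G)) ≠ ⊥ := by
        intro h0
        have : (a : G) ∈ R ⊓ ((T : Subgroup G) ⊓ Subgroup.centralizer ((T : Subgroup G) : Set G)) := by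
          refine ⟨Subgroup.mem_subgroupOf.mp haA, a.2, Subgroup.mem_centralizer_iff.mpr ?_⟩
          intro t ht
          have := Subgroup.mem_center_iff.mp haZ ⟨t, ht⟩
          exact congrArg Subtype.val this
        rw [h0, Subgroup.mem_bot] at this
        exact ha1 (Subtype.ext this)
      obtain ⟨zT, hzTW, hzTo⟩ := exists_order_p _ (hRp.to_le inf_le_left) hW1
      obtain ⟨g, hg⟩ := MulAction.exists_smul_eq G S T
      have hTg : ∀ x, x ∈ (T : Subgroup G) ↔ g⁻¹ * x * g ∈ (S : Subgroup G) := by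
        intro x
        rw [← hg, Sylow.coe_subgroup_smul, Cfsg.Agent.Lib.Lead_SZ.mem_conj_smul]
      apply key R hRp zT g hzTW.1
      apply hall
      · intro h0
        have : zT = 1 := by
          have h5 : g * (g⁻¹ * zT * g) * g⁻¹ = zT := by group
          rw [← h5, h0]; group
        rw [this, orderOf_one] at hzTo
        exact (Fact.out : p.Prime).one_lt.ne hzTo
      · apply Subgroup.subset_closure
        refine ⟨⟨(hTg zT).mp hzTW.2.1, Subgroup.mem_centralizer_iff.mpr ?_⟩, ?_⟩
        · intro s hs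
          have hsT : g * s * g⁻¹ ∈ (T : Subgroup G) := by
            rw [hTg]
            have : g⁻¹ * (g * s * g⁻¹) * g = s := by group
            rw [this]; exact hs
          have h5 := Subgroup.mem_centralizer_iff.mp hzTW.2.2 _ hsT
          calc s * (g⁻¹ * zT * g) = g⁻¹ * ((g * s * g⁻¹) * zT) * g := by group
            _ = g⁻¹ * (zT * (g * s * g⁻¹)) * g := by rw [h5]
            _ = g⁻¹ * zT * g * s := by group
        · have h5 : (g⁻¹ * zT * g) ^ p = g⁻¹ * zT ^ p * g := by
            have := map_pow (MulAut.conj g⁻¹).toMonoidHom zT p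
            simpa [MulAut.conj_apply] using this.symm
          rw [h5, ← hzTo, pow_orderOf_eq_one]
          group
  · intro hall
    refine ⟨hdiv, ?_⟩
    intro T hTp hT1
    obtain ⟨zT, hzTT, hzTo⟩ := exists_order_p T hTp hT1
    obtain ⟨Q, hQ⟩ := hTp.exists_le_sylow
    obtain ⟨g, hg⟩ := MulAction.exists_smul_eq G S Q
    have hQg : ∀ x, x ∈ (Q : Subgroup G) ↔ g⁻¹ * x * g ∈ (S : Subgroup G) := by
      intro x
      rw [← hg, Sylow.coe_subgroup_smul, Cfsg.Agent.Lib.Lead_SZ.mem_conj_smul]
    apply key T hTp zT g hzTT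
    apply hall
    · exact (hQg zT).mp (hQ hzTT)
    · have := (MulAut.conj g⁻¹).orderOf_eq zT
      simpa [MulAut.conj_apply, hzTo] using this

end Cfsg.Agent.S2896
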