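import Cfsg.Statements.S0112
import Mathlib
import Cfsg.Agent.Lib.Lead_Hall
import Cfsg.Agent.Lib.Lead_SZ

set_option autoImplicit false
open Cfsg

namespace Cfsg.Agent.S0112

universe u

theorem aux (p : ℕ) [hfact : Fact p.Prime] : ∀ (n : ℕ) (X : Type u) [Group X] [Finite X],
    Nat.card X = p ^ n → ∀ A : Subgroup X, Nat.card A = p ^ 2 →
    Subgroup.centralizer (A : Set X) = A → Group.nilpotencyClass X = n - 1 := by
  have hp := hfact.out
  intro n
  induction n with
  | zero =>
    intro X _ _ hX A hA hC
    exfalso
    have h1 : Nat.card A ∣ Nat.card X := Subgroup.card_subgroup_dvd_card A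
    rw [hA, hX, pow_zero, Nat.dvd_one] at h1
    have : 1 < p ^ 2 := Nat.one_lt_pow (by norm_num) hp.one_lt
    omega
  | succ n ih =>
    intro X _ _ hX A hA hC
    have hXp : IsPGroup p X := IsPGroup.of_card hX
    have hnil : Group.IsNilpotent X := hXp.isNilpotent
    have hnt : Nontrivial X := by
      rw [← Finite.one_lt_card_iff_nontrivial, hX]
      exact Nat.one_lt_pow (by omega) hp.one_lt
    have hAab : ∀ a ∈ A, ∀ b ∈ A, a * b = b * a := by
      intro a ha b hb
      have h1 : a ∈ Subgroup.centralizer (A : Set X) := by rw [hC]; exact ha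
      exact (Subgroup.mem_centralizer_iff.mp h1 b hb).symm
    have hn2 : 2 ≤ n + 1 := by
      have h1 : Nat.card A ∣ Nat.card X := Subgroup.card_subgroup_dvd_card A
      rw [hA, hX] at h1
      exact (Nat.pow_dvd_pow_iff_le_right hp.one_lt).mp h1
    set Z : Subgroup X := Subgroup.center X with hZ
    have hZA : Z ≤ A := by
      rw [← hC]; exact Subgroup.center_le_centralizer _
    have hZ0 : Z ≠ ⊥ := (hXp.bot_lt_center).ne'
    have hclass : Group.nilpotencyClass X = Group.nilpotencyClass (X ⧸ Z) + 1 :=
      Group.nilpotencyClass_eq_quotient_center_plus_one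
    by_cases hn : n + 1 = 2
    · -- X = A abelian
      have hAtop : A = ⊤ := by
        apply Subgroup.eq_top_of_card_eq
        rw [hA, hX, hn]
      have hZtop : Z = ⊤ := by
        rw [eq_top_iff, ← hAtop]
        intro a ha
        rw [hZ, Subgroup.mem_center_iff]
        intro g
        have hg : g ∈ A := by rw [hAtop]; trivial
        exact hAab g hg a ha
      have hsub : Subsingleton (X ⧸ Z) := by
        rw [hZtop]; exact QuotientGroup.subsingleton_quotient_top
      have h0 : Group.nilpotencyClass (X ⧸ Z) = 0 :=
        Group.nilpotencyClass_zero_iff_subsingleton.mpr hsub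
      rw [hclass, h0, hn]
    · have hn3 : 3 ≤ n + 1 := by omega
      -- Z ≠ A
      have hZneA : Z ≠ A := by
        intro h
        have h1 : Subgroup.centralizer (A : Set X) = ⊤ := by
          rw [← h, hZ]
          exact Subgroup.centralizer_eq_top_iff_subset.mpr (le_refl _)
        rw [hC] at h1
        have h2 : Nat.card A = Nat.card X := by rw [h1, Subgroup.card_top]
        rw [hA, hX] at h2
        have := Nat.pow_right_injective hp.two_le h2
        omega
      have hZcard : Nat.card Z = p := by
        have h1 : Nat.card Z ∣ p ^ 2 := by rw [← hA]; exact Subgroup.card_dvd_of_le hZA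
        obtain ⟨k, hk, hk'⟩ := (Nat.dvd_prime_pow hp).mp h1
        have hk0 : k ≠ 0 := by
          intro h
          rw [h, pow_zero] at hk'
          exact hZ0 (Subgroup.card_eq_one.mp hk')
        have hk2 : k ≠ 2 := by
          intro h
          rw [h] at hk'
          exact hZneA (Subgroup.eq_of_le_of_card_ge hZA (by rw [hk', hA]))
        have : k = 1 := by omega
        rw [hk', this, pow_one]
      have hQcard : Nat.card (X ⧸ Z) = p ^ n := by
        have h1 := Subgroup.card_eq_card_quotient_mul_card_subgroup Z
        rw [hX, hZcard, pow_succ] at h1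
        exact (Nat.eq_of_mul_eq_mul_right hp.pos h1).symm
      -- pick a ∈ A \ Z
      obtain ⟨a, haA, haZ⟩ : ∃ a ∈ A, a ∉ Z := by
        by_contra hcon
        push Not at hcon
        exact hZneA (le_antisymm hZA hcon)
      set π := QuotientGroup.mk' Z with hπ
      set Ab : Subgroup (X ⧸ Z) := A.map π with hAb
      set Db : Subgroup (X ⧸ Z) := Subgroup.centralizer (Ab : Set (X ⧸ Z)) with hDb
      set D : Subgroup X := Db.comap π with hD
      have hDmem : ∀ g : X, g ∈ D → ∀ b ∈ A, g * b * g⁻¹ * b⁻¹ ∈ Z := by
        intro g hg b hb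
        have h1 : π g ∈ Db := hg
        rw [hDb, Subgroup.mem_centralizer_iff] at h1
        have h2 := h1 (π b) (Subgroup.mem_map_of_mem π hb)
        rw [← QuotientGroup.eq_one_iff]
        show π (g * b * g⁻¹ * b⁻¹) = 1
        rw [map_mul, map_mul, map_mul, ← h2, map_inv, map_inv]
        group
      have hAD : A ≤ D := by
        intro b hb
        show π b ∈ Db
        rw [hDb, Subgroup.mem_centralizer_iff]
        rintro _ ⟨c, hc, rfl⟩
        rw [← map_mul, ← map_mul, hAab c hc b hb]
      have hZc : ∀ z ∈ Z, ∀ g : X, g * z = z * g := fun z hz g =>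
        Subgroup.mem_center_iff.mp hz g
      -- the homomorphism ψ : D → Z
      let ψ : D →* Z := MonoidHom.mk' (fun g => ⟨(g : X) * a * (g : X)⁻¹ * a⁻¹, hDmem g g.2 a haA⟩) (by
        intro g h
        apply Subtype.ext
        show ((g * h : D) : X) * a * ((g * h : D) : X)⁻¹ * a⁻¹
          = ((g : X) * a * (g : X)⁻¹ * a⁻¹) * ((h : X) * a * (h : X)⁻¹ * a⁻¹)
        have hz := hZc _ (hDmem h h.2 a haA) (g : X)
        rw [Subgroup.coe_mul]
        calc (g : X) * h * a * ((g : X) * h)⁻¹ * a⁻¹
            = ((g : X) * ((h : X) * a * (h : X)⁻¹ * a⁻¹)) * a * (g : X)⁻¹ * a⁻¹ := by group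
          _ = (((h : X) * a * (h : X)⁻¹ * a⁻¹) * (g : X)) * a * (g : X)⁻¹ * a⁻¹ := by rw [hz]
          _ = ((h : X) * a * (h : X)⁻¹ * a⁻¹) * ((g : X) * a * (g : X)⁻¹ * a⁻¹) := by group
          _ = ((g : X) * a * (g : X)⁻¹ * a⁻¹) * ((h : X) * a * (h : X)⁻¹ * a⁻¹) :=
            (hZc _ (hDmem h h.2 a haA) _).symm)
      have hker : ψ.ker = A.subgroupOf D := by
        ext g
        rw [MonoidHom.mem_ker, Subgroup.mem_subgroupOf]
        constructor
        · intro h
          have h1 : (g : X) * a * (g : X)⁻¹ * a⁻¹ = 1 := congrArg Subtype.val h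
          have hga : (g : X) * a = a * g := by
            calc (g : X) * a = ((g : X) * a * (g : X)⁻¹ * a⁻¹) * (a * g) := by group
              _ = a * g := by rw [h1, one_mul]
          -- K = A ⊓ C(g) is all of A
          set K : Subgroup X := A ⊓ Subgroup.centralizer ({(g : X)} : Set X) with hK
          have hZK : Z ≤ K := by
            intro z hz
            refine Subgroup.mem_inf.mpr ⟨hZA hz, ?_⟩
            rw [Subgroup.mem_centralizer_singleton_iff]
            exact (hZc z hz g).symm
          have haK : a ∈ K := by
            refine Subgroup.mem_inf.mpr ⟨haA, ?_⟩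
            rw [Subgroup.mem_centralizer_singleton_iff]
            exact hga.symm
          have hKA : K = A := by
            have h2 : Nat.card K ∣ p ^ 2 := by rw [← hA]; exact Subgroup.card_dvd_of_le inf_le_left
            obtain ⟨k, hk, hk'⟩ := (Nat.dvd_prime_pow hp).mp h2
            have h3 : p ∣ Nat.card K := by rw [← hZcard]; exact Subgroup.card_dvd_of_le hZK
            have hk0 : k ≠ 0 := by
              intro h0
              rw [hk', h0, pow_zero, Nat.dvd_one] at h3
              exact hp.one_lt.ne' h3
            have hk1 : k ≠ 1 := by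
              intro h1'
              have : Z = K := Subgroup.eq_of_le_of_card_ge hZK (by rw [hk', h1', pow_one, hZcard])
              exact haZ (this ▸ haK)
            have hk2 : k = 2 := by omega
            exact Subgroup.eq_of_le_of_card_ge inf_le_left (by rw [hk', hk2, hA])
          have hgC : (g : X) ∈ Subgroup.centralizer (A : Set X) := by
            rw [Subgroup.mem_centralizer_iff]
            intro b hb
            have hb' : b ∈ K := by rw [hKA]; exact hb
            have := (Subgroup.mem_inf.mp hb').2
            rw [Subgroup.mem_centralizer_singleton_iff] at this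
            exact this
          rw [hC] at hgC
          exact hgC
        · intro h
          apply Subtype.ext
          show (g : X) * a * (g : X)⁻¹ * a⁻¹ = 1
          rw [hAab _ h a haA]; group
      have hDcard : Nat.card D ≤ p ^ 3 := by
        have h1 := Subgroup.card_mul_index ψ.ker
        rw [Subgroup.index_ker, hker, Nat.card_congr (Subgroup.subgroupOfEquivOfLe hAD).toEquiv, hA] at h1
        have h2 : Nat.card ψ.range ≤ p := by
          rw [← hZcard]; exact Subgroup.card_le_card_group _
        calc Nat.card D = p ^ 2 * Nat.card ψ.range := h1.symm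
          _ ≤ p ^ 2 * p := Nat.mul_le_mul_left _ h2
          _ = p ^ 3 := by ring
      have hDbcard_le : Nat.card Db ≤ p ^ 2 := by
        have h1 := Cfsg.Agent.Lib.Lead_Hall.card_comap_mk Z Db
        rw [hZcard] at h1
        have h2 : Nat.card Db * p ≤ p ^ 2 * p := by
          calc Nat.card Db * p = Nat.card D := h1.symm
            _ ≤ p ^ 3 := hDcard
            _ = p ^ 2 * p := by ring
        exact Nat.le_of_mul_le_mul_right h2 hp.pos
      have hQp : IsPGroup p (X ⧸ Z) := IsPGroup.of_card hQcard
      have hAbab : ∀ x ∈ Ab, ∀ y ∈ Ab, x * y = y * x := by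
        rintro _ ⟨b, hb, rfl⟩ _ ⟨c, hc, rfl⟩
        rw [← map_mul, ← map_mul, hAab b hb c hc]
      have hAbDb : Ab ≤ Db := by
        intro x hx
        rw [hDb, Subgroup.mem_centralizer_iff]
        intro y hy
        exact hAbab y hy x hx
      have hAbcard : Nat.card Ab = p := by
        have h1 := Cfsg.Agent.Lib.Lead_SZ.card_map_of_le Z A hZA
        rw [hZcard, hA, pow_two] at h1
        exact Nat.eq_of_mul_eq_mul_right hp.pos h1
      have hDbcard : Nat.card Db = p ^ 2 := by
        obtain ⟨k, hk⟩ := (hQp.to_subgroup Db).exists_card_eq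
        have hk2 : k ≤ 2 := by
          rw [hk] at hDbcard_le
          exact (Nat.pow_le_pow_iff_right hp.one_lt).mp hDbcard_le
        have hk1 : 1 ≤ k := by
          have h1 : Nat.card Ab ∣ Nat.card Db := Subgroup.card_dvd_of_le hAbDb
          rw [hAbcard, hk] at h1
          by_contra h0
          have : k = 0 := by omega
          rw [this, pow_zero, Nat.dvd_one] at h1
          exact hp.one_lt.ne' h1
        by_cases hk' : k = 2
        · rw [hk, hk']
        · exfalso
          have hk1' : k = 1 := by omega
          have hDbAb : Ab = Db := Subgroup.eq_of_le_of_card_ge hAbDb (by rw [hk, hk1', pow_one, hAbcard])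
          have hntQ : Nontrivial (X ⧸ Z) := by
            rw [← Finite.one_lt_card_iff_nontrivial, hQcard]
            exact Nat.one_lt_pow (by omega) hp.one_lt
          have hcQ : Subgroup.center (X ⧸ Z) ≤ Ab := by
            rw [hDbAb, hDb]; exact Subgroup.center_le_centralizer _
          have hcQ0 : Subgroup.center (X ⧸ Z) ≠ ⊥ := (hQp.bot_lt_center).ne'
          have hcQeq : Subgroup.center (X ⧸ Z) = Ab := by
            apply Subgroup.eq_of_le_of_card_ge hcQ
            have h1 : Nat.card (Subgroup.center (X ⧸ Z)) ∣ p := by
              rw [← hAbcard]; exact Subgroup.card_dvd_of_le hcQ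
            rcases (Nat.dvd_prime hp).mp h1 with h2 | h2
            · exact absurd (Subgroup.card_eq_one.mp h2) hcQ0
            · rw [h2, hAbcard]
          have hDbtop : Db = ⊤ := by
            rw [hDb, ← hcQeq]
            exact Subgroup.centralizer_eq_top_iff_subset.mpr (le_refl _)
          have h3 : Nat.card Db = Nat.card (X ⧸ Z) := by rw [hDbtop, Subgroup.card_top]
          rw [hk, hk1', hQcard] at h3
          have := Nat.pow_right_injective hp.two_le h3
          omega
      have hDbself : Subgroup.centralizer (Db : Set (X ⧸ Z)) = Db := by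
        apply le_antisymm
        · calc Subgroup.centralizer (Db : Set (X ⧸ Z)) ≤ Subgroup.centralizer (Ab : Set (X ⧸ Z)) :=
              Subgroup.centralizer_le hAbDb
            _ = Db := hDb.symm
        · have hc : IsMulCommutative Db := IsPGroup.isMulCommutative_of_card_eq_prime_sq hDbcard
          intro x hx
          rw [Subgroup.mem_centralizer_iff]
          intro y hy
          exact congrArg Subtype.val (hc.is_comm.comm ⟨y, hy⟩ ⟨x, hx⟩)
      have hih := ih (X ⧸ Z) hQcard Db hDbcard hDbself
      rw [hclass, hih]
      omega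

/-- A p-group with a self-centralizing subgroup of order p^2 is of maximal class. -/
theorem result {X : Type*} [Group X] [Finite X] {p : ℕ} [Fact p.Prime] (n : ℕ) (hX : Nat.card X = p ^ n) (A : Subgroup X) (hA : Nat.card A = p ^ 2) (hC : Subgroup.centralizer (A : Set X) = A) : Group.nilpotencyClass X = n - 1 :=
  aux p n X hX A hA hC

end Cfsg.Agent.S0112
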