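import Cfsg.Statements.S3303
import Mathlib
import Cfsg.Agent.S0044
import Cfsg.Agent.S1958
import Cfsg.Agent.Lib.Lead_Fitting
import Cfsg.Agent.Lib.Helper1_Index
import Cfsg.Agent.Lib.Helper4_PCore
import Cfsg.Agent.Lib.Helper5_PPrime

set_option autoImplicit false
open Cfsg

namespace Cfsg.Agent.S3303

open Cfsg.Agent.Lib.Helper4_PCore Cfsg.Agent.Lib.Helper5_PPrime Cfsg.Agent.Lib.Lead_Fitting

/-- the kernel of the conjugation action on a normal subgroup is its centraliser -/
theorem ker_conjNormal {X : Type*} [Group X] (Q : Subgroup X) [hQ : Q.Normal] :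
    (MulAut.conjNormal : X →* MulAut Q).ker = Subgroup.centralizer (Q : Set X) := by
  ext g
  rw [MonoidHom.mem_ker, Subgroup.mem_centralizer_iff]
  constructor
  · intro hg n hn
    have := congrArg (fun f : MulAut Q => ((f ⟨n, hn⟩ : Q) : X)) hg
    simp only [MulAut.conjNormal_apply, MulAut.one_apply] at this
    calc n * g = (g * n * g⁻¹) * g := by rw [this]
      _ = g * n := by group
  · intro hg
    ext n
    simp only [MulAut.conjNormal_apply, MulAut.one_apply]
    rw [← hg n.1 n.2]; group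

/-- a solvable group with `O(X) = 1` and cyclic `O₂(X)` is a 2-group -/
theorem two_group_of_cyclic_core {X : Type*} [Group X] [Finite X] [Group.IsSolvable X]
    (hO : Cfsg.pPrimeCore 2 X = ⊥) (hcyc : IsCyclic ↥(Cfsg.pCore 2 X)) : IsPGroup 2 X := by
  haveI : Fact (Nat.Prime 2) := ⟨Nat.prime_two⟩
  set Q := Cfsg.pCore 2 X with hQ
  haveI hQn : Q.Normal := pCore_normal 2 X
  have hQp : IsPGroup 2 Q := pCore_isPGroup
  have hF : Cfsg.fittingSubgroup X = Q := by
    rw [fitting_eq]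
    apply le_antisymm
    · apply iSup_le
      intro q
      by_cases hq2 : (q : ℕ) = 2
      · rw [hq2]
      · haveI : Fact (Nat.Prime (q : ℕ)) := ⟨q.2⟩
        haveI : (Cfsg.pCore (q : ℕ) X).Normal := pCore_normal _ X
        have hp : IsPGroup (q : ℕ) (Cfsg.pCore (q : ℕ) X) := pCore_isPGroup
        obtain ⟨k, hk⟩ := IsPGroup.iff_card.mp hp
        have hcop : (Nat.card (Cfsg.pCore (q : ℕ) X)).Coprime 2 := by
          rw [hk]
          apply Nat.Coprime.pow_left
          exact (Nat.coprime_primes q.2 Nat.prime_two).mpr hq2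
        have := le_pPrimeCore (Cfsg.pCore (q : ℕ) X) hcop
        rw [hO] at this
        exact this.trans bot_le
    · exact pCore_le_F0 2
  have hCQ : Subgroup.centralizer (Q : Set X) ≤ Q := by
    have := Cfsg.Agent.S0044.result (G := X)
    rwa [hF] at this
  let φ : X →* MulAut Q := MulAut.conjNormal
  have hker : φ.ker = Subgroup.centralizer (Q : Set X) := ker_conjNormal Q
  obtain ⟨n, hn⟩ := IsPGroup.iff_card.mp hQp
  have h1 : ∃ a, Nat.card φ.ker = 2 ^ a := by
    have hdvd : Nat.card φ.ker ∣ 2 ^ n := by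
      rw [← hn, hker]; exact Subgroup.card_dvd_of_le hCQ
    obtain ⟨a, -, ha⟩ := (Nat.dvd_prime_pow Nat.prime_two).mp hdvd
    exact ⟨a, ha⟩
  have h2 : ∃ b, Nat.card φ.range = 2 ^ b := by
    have hdvd : Nat.card φ.range ∣ Nat.card (MulAut Q) := Subgroup.card_subgroup_dvd_card _
    rw [IsCyclic.card_mulAut, hn] at hdvd
    rcases Nat.eq_zero_or_pos n with h0 | hpos
    · rw [h0, pow_zero, Nat.totient_one] at hdvd
      exact ⟨0, by rw [pow_zero]; exact Nat.dvd_one.mp hdvd⟩
    · rw [Nat.totient_prime_pow Nat.prime_two hpos] at hdvd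
      simp only [Nat.add_one_sub_one, mul_one] at hdvd
      obtain ⟨b, -, hb⟩ := (Nat.dvd_prime_pow Nat.prime_two).mp hdvd
      exact ⟨b, hb⟩
  obtain ⟨a, ha⟩ := h1
  obtain ⟨b, hb⟩ := h2
  apply IsPGroup.of_card (n := a + b)
  rw [← Subgroup.card_mul_index φ.ker, Subgroup.index_ker, ha, hb, pow_add]

/-- Let G be a finite solvable group in which the intersection of any two distinct Sylow 2-subgroups is cyclic. Then G/O(G) has a normal Sylow 2-subgroup, where O(G) is the largest normal subgroup of odd order. -/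
theorem result {G : Type*} [Group G] [Finite G] (hs : Group.IsSolvable G)
    (hC : ∀ S T : Sylow 2 G, S ≠ T → IsCyclic ↥((S : Subgroup G) ⊓ (T : Subgroup G))) :
    ∃ P : Sylow 2 (G ⧸ Cfsg.oddCore G), (P : Subgroup (G ⧸ Cfsg.oddCore G)).Normal := by
  classical
  haveI : Fact (Nat.Prime 2) := ⟨Nat.prime_two⟩
  haveI := hs
  set π : G →* G ⧸ Cfsg.oddCore G := QuotientGroup.mk' (Cfsg.oddCore G) with hπ
  have hπs : Function.Surjective π := QuotientGroup.mk'_surjective _
  have hObar : Cfsg.pPrimeCore 2 (G ⧸ Cfsg.oddCore G) = ⊥ :=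
    Cfsg.Agent.S1958.pPrimeCore_quotient 2 G
  obtain ⟨S⟩ : Nonempty (Sylow 2 G) := inferInstance
  set Qb := Cfsg.pCore 2 (G ⧸ Cfsg.oddCore G) with hQb
  haveI hQbn : Qb.Normal := pCore_normal 2 _
  set Q1 := Qb.comap π with hQ1
  haveI hQ1n : Q1.Normal := Subgroup.Normal.comap hQbn π
  set R := (S : Subgroup G) ⊓ Q1 with hR
  have hRmap : R.map π = Qb := by
    apply le_antisymm
    · rintro _ ⟨r, hr, rfl⟩; exact hr.2
    · intro q hq
      have h1 : q ∈ ((S.mapSurjective hπs : Sylow 2 (G ⧸ Cfsg.oddCore G)) : Subgroup _) :=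
        pCore_le_sylow _ hq
      rw [Sylow.coe_mapSurjective] at h1
      obtain ⟨s, hs', rfl⟩ := h1
      exact ⟨s, ⟨hs', hq⟩, rfl⟩
  by_cases hcase : Subgroup.normalizer (R : Set G) ≤ Subgroup.normalizer ((S : Subgroup G) : Set G)
  · refine ⟨S.mapSurjective hπs, ?_⟩
    let R0 : Sylow 2 Q1 := Cfsg.Agent.Lib.Helper1_Index.sylowOfSubnormal 2 S Q1 hQ1n.isSubnormal
    have hfr := Sylow.normalizer_sup_eq_top R0
    have hR0 : (R0 : Subgroup Q1).map Q1.subtype = R := by
      rw [Cfsg.Agent.Lib.Helper1_Index.coe_sylowOfSubnormal, Subgroup.subgroupOf_map_subtype]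
    rw [hR0] at hfr
    constructor
    intro y hy gb
    obtain ⟨g, rfl⟩ := hπs gb
    have hg : g ∈ Subgroup.normalizer (R : Set G) ⊔ Q1 := hfr ▸ Subgroup.mem_top g
    obtain ⟨n, hn, q, hq, rfl⟩ := Subgroup.mem_sup_of_normal_right.mp hg
    have hq' : π q ∈ R.map π := by rw [hRmap]; exact hq
    obtain ⟨r, hr, hrq⟩ := hq'
    have hnr : n * r ∈ Subgroup.normalizer ((S : Subgroup G) : Set G) :=
      hcase (Subgroup.mul_mem _ hn (Subgroup.le_normalizer hr))
    have hπ' : π (n * q) = π (n * r) := by rw [map_mul, map_mul, hrq]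
    rw [hπ']
    rw [← SetLike.mem_coe, Sylow.coe_mapSurjective] at hy ⊢
    obtain ⟨s, hs', rfl⟩ := hy
    refine ⟨(n * r) * s * (n * r)⁻¹, ?_, by simp⟩
    exact (Subgroup.mem_normalizer_iff.mp hnr s).mp hs'
  · rw [SetLike.not_le_iff_exists] at hcase
    obtain ⟨n, hnR, hnS⟩ := hcase
    have hne : n • S ≠ S := fun h => hnS (Sylow.smul_eq_iff_mem_normalizer.mp h)
    have hcyc := hC S (n • S) hne.symm
    have hle : R ≤ (S : Subgroup G) ⊓ ((n • S : Sylow 2 G) : Subgroup G) := by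
      refine le_inf inf_le_left ?_
      intro r hr
      have hn' : n⁻¹ ∈ Subgroup.normalizer (R : Set G) := Subgroup.inv_mem _ hnR
      have h1 : n⁻¹ * r * n⁻¹⁻¹ ∈ R := (Subgroup.mem_normalizer_iff.mp hn' r).mp hr
      rw [inv_inv] at h1
      rw [Sylow.coe_subgroup_smul, Subgroup.mem_smul_pointwise_iff_exists]
      refine ⟨n⁻¹ * r * n, h1.1, ?_⟩
      rw [MulAut.smul_def, MulAut.conj_apply]; group
    haveI : IsCyclic ↥((S : Subgroup G) ⊓ ((n • S : Sylow 2 G) : Subgroup G)) := hcyc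
    haveI hRc : IsCyclic R := Subgroup.isCyclic_of_le hle
    have hQbc : IsCyclic Qb := by
      rw [← hRmap]
      exact isCyclic_of_surjective (π.subgroupMap R) (π.subgroupMap_surjective R)
    have h2 := two_group_of_cyclic_core hObar hQbc
    obtain ⟨P⟩ : Nonempty (Sylow 2 (G ⧸ Cfsg.oddCore G)) := inferInstance
    refine ⟨P, ?_⟩
    have : (P : Subgroup (G ⧸ Cfsg.oddCore G)) = ⊤ := (P.is_maximal' (h2.to_subgroup ⊤) le_top).symm
    rw [this]; infer_instance

end Cfsg.Agent.S3303
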