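import Cfsg.Statements.S3975
import Mathlib
import Cfsg.Agent.Lib.Helper6_Derangement
import Cfsg.Agent.Lib.Helper7_Basic

set_option autoImplicit false
open Cfsg
open Pointwise MulAction

namespace Cfsg.Agent.S3975

variable {G : Type*} [Group G]

/-- the left coset attached to an element of the quotient, as a set -/
def cosetSet (K : Subgroup G) (q : G ⧸ K) : Set G := {g | (g : G ⧸ K) = q}

theorem mem_cosetSet_mk (K : Subgroup G) (g₀ g : G) :
    g ∈ cosetSet K (g₀ : G ⧸ K) ↔ g₀⁻¹ * g ∈ K := by
  show (g : G ⧸ K) = (g₀ : G ⧸ K) ↔ _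
  rw [eq_comm, QuotientGroup.eq]

theorem cosetSet_mk (K : Subgroup G) (g₀ : G) :
    cosetSet K (g₀ : G ⧸ K) = g₀ • (K : Set G) := by
  ext g
  rw [mem_cosetSet_mk, Set.mem_smul_set_iff_inv_smul_mem]
  rfl

theorem ncard_cosetSet [Finite G] (K : Subgroup G) (q : G ⧸ K) :
    (cosetSet K q).ncard = Nat.card K := by
  induction q using QuotientGroup.induction_on with
  | H g₀ =>
    rw [cosetSet_mk, Set.ncard_smul_set]
    exact Nat.card_coe_set_eq (K : Set G)

theorem smul_cosetSet (K : Subgroup G) (h g₀ : G) :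
    h • cosetSet K (g₀ : G ⧸ K) = cosetSet K ((h * g₀ : G) : G ⧸ K) := by
  rw [cosetSet_mk, cosetSet_mk, mul_smul]

/-- the order of the stabilizer of a subset (under left multiplication) divides its size -/
theorem card_stabilizer_dvd [Finite G] (S : Set G) :
    Nat.card (stabilizer G S) ∣ S.ncard := by
  set H := stabilizer G S with hH
  apply Cfsg.Agent.Lib.Helper6_Derangement.dvd_ncard_of_dvd_orbit (H := H) (Y := G)
  · intro h y hy
    have h1 : (h : G) • S = S := h.2
    rw [← h1]
    exact Set.smul_mem_smul_set hy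
  · intro y _
    have hinj : Function.Injective (fun h : H => h • y) := by
      intro a b hab
      have : (a : G) * y = (b : G) * y := hab
      exact Subtype.ext (mul_right_cancel this)
    have : orbit H y = Set.range (fun h : H => h • y) := rfl
    rw [this, ← Nat.card_coe_set_eq, Nat.card_range_of_injective hinj]

/-- a subset whose stabilizer has the same size is a coset -/
theorem eq_cosetSet_of_card_stabilizer [Finite G] (S : Set G) (s : G) (hs : s ∈ S)
    (hcard : Nat.card (stabilizer G S) = S.ncard) :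
    ∃ K : Subgroup G, Nat.card K = S.ncard ∧ S = cosetSet K (s : G ⧸ K) := by
  set H := stabilizer G S with hH
  -- S = H s
  have hsub : (fun h : H => (h : G) * s) '' Set.univ ⊆ S := by
    rintro _ ⟨h, -, rfl⟩
    have h1 : (h : G) • S = S := h.2
    have : (h : G) • s ∈ (h : G) • S := Set.smul_mem_smul_set hs
    rw [h1] at this
    exact this
  have hinj : Function.Injective (fun h : H => (h : G) * s) := by
    intro a b hab
    exact Subtype.ext (mul_right_cancel hab)
  have hc : ((fun h : H => (h : G) * s) '' Set.univ).ncard = Nat.card H := by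
    rw [Set.ncard_image_of_injective _ hinj, Set.ncard_univ]
  have heq : (fun h : H => (h : G) * s) '' Set.univ = S := by
    apply Set.eq_of_subset_of_ncard_le hsub _ (Set.toFinite S)
    rw [hc, hcard]
  refine ⟨H.map (MulAut.conj s⁻¹).toMonoidHom, ?_, ?_⟩
  · rw [Subgroup.card_map_of_injective (MulAut.conj s⁻¹).injective, hcard]
  · ext g
    rw [mem_cosetSet_mk]
    constructor
    · intro hg
      rw [← heq] at hg
      obtain ⟨h, -, rfl⟩ := hg
      refine ⟨(h : G), h.2, ?_⟩
      show s⁻¹ * (h : G) * s⁻¹⁻¹ = s⁻¹ * ((h : G) * s)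
      group
    · rintro ⟨h, hh, hhe⟩
      have hhe' : s⁻¹ * h * s⁻¹⁻¹ = s⁻¹ * g := hhe
      have : g = h * s := by
        have h2 : s * (s⁻¹ * h * s⁻¹⁻¹) = s * (s⁻¹ * g) := by rw [hhe']
        have h3 : s * (s⁻¹ * g) = g := by group
        rw [← h3, ← h2]; group
      rw [this, ← heq]
      exact ⟨⟨h, hh⟩, trivial, rfl⟩

/-- all cosets of subgroups of order `k`, as an indexed family -/
def cosetMap (k : ℕ) : (Σ K : {K : Subgroup G // Nat.card K = k}, G ⧸ (K : Subgroup G)) → Set G :=
  fun x => cosetSet (x.1 : Subgroup G) x.2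

theorem subgroup_of_cosetSet (K : Subgroup G) (q : G ⧸ K) (x : G) :
    x ∈ K ↔ ∃ a ∈ cosetSet K q, ∃ b ∈ cosetSet K q, x = a⁻¹ * b := by
  induction q using QuotientGroup.induction_on with
  | H g₀ =>
    constructor
    · intro hx
      refine ⟨g₀, ?_, g₀ * x, ?_, by group⟩
      · rw [mem_cosetSet_mk]; simp
      · rw [mem_cosetSet_mk]; simpa using hx
    · rintro ⟨a, ha, b, hb, rfl⟩
      rw [mem_cosetSet_mk] at ha hb
      have : a⁻¹ * b = (g₀⁻¹ * a)⁻¹ * (g₀⁻¹ * b) := by group
      rw [this]
      exact K.mul_mem (K.inv_mem ha) hb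

theorem cosetMap_injective (k : ℕ) : Function.Injective (cosetMap (G := G) k) := by
  rintro ⟨⟨K, hK⟩, q⟩ ⟨⟨K', hK'⟩, q'⟩ h
  have h' : cosetSet K q = cosetSet K' q' := h
  have hKK : K = K' := by
    ext x
    rw [subgroup_of_cosetSet K q x, subgroup_of_cosetSet K' q' x, h']
  subst hKK
  have hq : q = q' := by
    induction q using QuotientGroup.induction_on with
    | H g₀ =>
      have : g₀ ∈ cosetSet K (g₀ : G ⧸ K) := by rw [mem_cosetSet_mk]; simp
      rw [h'] at this
      exact this
  subst hq
  rfl

/-- the Wielandt count: the number of `k`-subsets is `N * m'` modulo `p * m'`. -/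
theorem wielandt_count [Finite G] (p β m' : ℕ) (hp : p.Prime)
    (hn : Nat.card G = p ^ β * m') :
    ∃ t : ℕ, {S : Set G | S.ncard = p ^ β}.ncard =
      Nat.card {H : Subgroup G // Nat.card H = p ^ β} * m' + p * m' * t := by
  classical
  set k := p ^ β with hk
  have hkpos : 0 < k := pow_pos hp.pos β
  have hm'pos : 0 < m' := by
    rcases Nat.eq_zero_or_pos m' with h | h
    · rw [h, mul_zero] at hn
      exact absurd hn (Nat.card_pos (α := G)).ne'
    · exact h
  set X : Set (Set G) := {S : Set G | S.ncard = k} with hX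
  set A : Set (Set G) := Set.range (cosetMap (G := G) k) with hA
  have hAX : A ⊆ X := by
    rintro _ ⟨⟨⟨K, hK⟩, q⟩, rfl⟩
    show (cosetSet K q).ncard = k
    rw [ncard_cosetSet, hK]
  -- count of A
  have hAcard : A.ncard = Nat.card {H : Subgroup G // Nat.card H = k} * m' := by
    have : Fintype {K : Subgroup G // Nat.card K = k} := Fintype.ofFinite _
    rw [hA, ← Nat.card_coe_set_eq, Nat.card_range_of_injective (cosetMap_injective k),
      Nat.card_sigma]
    have : ∀ K : {K : Subgroup G // Nat.card K = k}, Nat.card (G ⧸ (K : Subgroup G)) = m' := by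
      rintro ⟨K, hK⟩
      have h1 := Subgroup.card_mul_index K
      rw [hK, hn] at h1
      exact Nat.eq_of_mul_eq_mul_left hkpos h1
    rw [Finset.sum_congr rfl (fun K _ => this K), Finset.sum_const, Finset.card_univ,
      Nat.card_eq_fintype_card, smul_eq_mul]
  -- B = X \ A
  have hB : p * m' ∣ (X \ A).ncard := by
    apply Cfsg.Agent.Lib.Helper6_Derangement.dvd_ncard_of_dvd_orbit (H := G) (Y := Set G)
    · rintro h S ⟨hSX, hSA⟩
      refine ⟨?_, ?_⟩
      · show (h • S).ncard = k
        rw [Set.ncard_smul_set]; exact hSX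
      · rintro ⟨⟨⟨K, hK⟩, q⟩, hq⟩
        apply hSA
        have hq' : cosetSet K q = h • S := hq
        induction q using QuotientGroup.induction_on with
        | H g₀ =>
          refine ⟨⟨⟨K, hK⟩, ((h⁻¹ * g₀ : G) : G ⧸ K)⟩, ?_⟩
          show cosetSet K ((h⁻¹ * g₀ : G) : G ⧸ K) = S
          rw [← smul_cosetSet, hq', inv_smul_smul]
    · rintro S ⟨hSX, hSA⟩
      have hSX' : S.ncard = k := hSX
      have hdvd : Nat.card (stabilizer G S) ∣ k := by
        rw [← hSX']; exact card_stabilizer_dvd S
      obtain ⟨j, hjβ, hj⟩ := (Nat.dvd_prime_pow hp).mp hdvd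
      have hne : S.Nonempty := by
        rw [← Set.ncard_pos (Set.toFinite S), hSX']; exact hkpos
      obtain ⟨s, hs⟩ := hne
      have hjlt : j < β := by
        rcases Nat.lt_or_ge j β with h | h
        · exact h
        · exfalso
          have hjeq : j = β := le_antisymm hjβ h
          apply hSA
          obtain ⟨K, hK, hSK⟩ := eq_cosetSet_of_card_stabilizer S s hs (by rw [hj, hjeq, hSX'])
          exact ⟨⟨⟨K, by rw [hK, hSX']⟩, (s : G ⧸ K)⟩, hSK.symm⟩
      have h1 : (orbit G S).ncard * Nat.card (stabilizer G S) = Nat.card G := by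
        rw [← index_stabilizer, mul_comm]
        exact Subgroup.card_mul_index _
      rw [hj, hn] at h1
      have h2 : k = p ^ j * p ^ (β - j) := by
        rw [hk, ← pow_add]; congr 1; omega
      rw [h2] at h1
      have h3 : (orbit G S).ncard = p ^ (β - j) * m' := by
        apply Nat.eq_of_mul_eq_mul_left (pow_pos hp.pos j)
        rw [mul_comm, h1]; ring
      rw [h3]
      apply Nat.mul_dvd_mul_right
      exact dvd_pow_self p (by omega)
  obtain ⟨t, ht⟩ := hB
  refine ⟨t, ?_⟩
  have hsplit : X.ncard = A.ncard + (X \ A).ncard := by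
    rw [add_comm]
    exact (Set.ncard_sdiff_add_ncard_of_subset hAX (Set.toFinite X)).symm
  rw [hsplit, hAcard, ht]

theorem card_subsets_congr {G C : Type*} [Finite G] [Finite C] (e : G ≃ C) (k : ℕ) :
    {S : Set G | S.ncard = k}.ncard = {S : Set C | S.ncard = k}.ncard := by
  rw [← Nat.card_coe_set_eq, ← Nat.card_coe_set_eq]
  apply Nat.card_congr
  refine Equiv.subtypeEquiv (Equiv.Set.congr e) (fun S => ?_)
  show S.ncard = k ↔ (e '' S).ncard = k
  rw [Set.ncard_image_of_injective _ e.injective]

/-- Let `p` be a prime and `G` a finite group whose order is divisible by `p ^ β`. Then the number of subgroups of `G` of order `p ^ β` is congruent to `1` modulo `p`. (When `p ^ β` is the full power of `p` dividing the order, these are the Sylow `p`-subgroups and this is the usual Sylow count.) -/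
theorem result {G : Type*} [Group G] [Finite G] (p β : ℕ) (hp : p.Prime) (hdiv : p ^ β ∣ Nat.card G) : Nat.card {H : Subgroup G // Nat.card H = p ^ β} ≡ 1 [MOD p] := by
  obtain ⟨m', hm'⟩ := hdiv
  have hnpos : 0 < Nat.card G := Nat.card_pos
  have hne : NeZero (Nat.card G) := ⟨hnpos.ne'⟩
  have hCcard : Nat.card (Multiplicative (ZMod (Nat.card G))) = p ^ β * m' := by
    rw [← hm']
    simp
  have hfact : Fact p.Prime := ⟨hp⟩
  obtain ⟨t, ht⟩ := wielandt_count (G := G) p β m' hp hm'
  obtain ⟨t', ht'⟩ := wielandt_count (G := Multiplicative (ZMod (Nat.card G))) p β m' hp hCcard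
  have hNC : Nat.card {H : Subgroup (Multiplicative (ZMod (Nat.card G))) // Nat.card H = p ^ β}
      = 1 := by
    rw [Nat.card_eq_one_iff_unique]
    constructor
    · constructor
      rintro ⟨P, hP⟩ ⟨Q, hQ⟩
      apply Subtype.ext
      show P = Q
      exact Cfsg.Agent.Lib.Helper7_Basic.cyclic_subgroup_unique ⊤ inferInstance P Q le_top le_top
        (by rw [hP, hQ])
    · obtain ⟨K, hK⟩ := Sylow.exists_subgroup_card_pow_prime (G := Multiplicative (ZMod (Nat.card G)))
        p (n := β) (by rw [hCcard]; exact Dvd.intro _ rfl)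
      exact ⟨⟨K, hK⟩⟩
  have hcard : Nat.card G = Nat.card (Multiplicative (ZMod (Nat.card G))) := by
    rw [hCcard, hm']
  obtain ⟨e⟩ := Finite.card_eq.mp hcard
  have heq := card_subsets_congr e (p ^ β)
  rw [ht, ht', hNC] at heq
  have hm'pos : 0 < m' := by
    rcases Nat.eq_zero_or_pos m' with h | h
    · rw [h, mul_zero] at hm'
      exact absurd hm' hnpos.ne'
    · exact h
  have h2 : Nat.card {H : Subgroup G // Nat.card H = p ^ β} + p * t = 1 + p * t' := by
    apply Nat.eq_of_mul_eq_mul_right hm'pos
    calc (Nat.card {H : Subgroup G // Nat.card H = p ^ β} + p * t) * m'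
        = Nat.card {H : Subgroup G // Nat.card H = p ^ β} * m' + p * m' * t := by ring
      _ = 1 * m' + p * m' * t' := heq
      _ = (1 + p * t') * m' := by ring
  have h3 : (Nat.card {H : Subgroup G // Nat.card H = p ^ β} + p * t) % p = (1 + p * t') % p := by
    rw [h2]
  rw [Nat.add_mul_mod_self_left, Nat.add_mul_mod_self_left] at h3
  exact h3

end Cfsg.Agent.S3975
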