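import Cfsg.Statements.S0127
import Mathlib
import Cfsg.Agent.Lib.Helper7_PGroupRank

set_option autoImplicit false
open Cfsg

namespace Cfsg.Agent.S0127

/-- `p` odd prime, `r ^ p ≡ 1 [MOD p ^ n]`, `n ≥ 1` ⟹ `p ∣ r - 1` and `p ^ (n - 1) ∣ r - 1`. -/
theorem nt_lemma (p : ℕ) (hp : p.Prime) (hodd : p ≠ 2) (n : ℕ) (hn : 1 ≤ n) (r : ℕ)
    (h : r ^ p ≡ 1 [MOD p ^ n]) : 1 ≤ r ∧ p ∣ r - 1 ∧ p ^ (n - 1) ∣ r - 1 := by
  have hfact : Fact p.Prime := ⟨hp⟩
  have hpodd : Odd p := hp.odd_of_ne_two hodd
  -- mod p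
  have h1 : r ^ p ≡ 1 [MOD p] := by
    have : p ∣ p ^ n := dvd_pow_self p (by omega)
    exact h.of_dvd this
  have hrz : ((r : ZMod p)) = 1 := by
    have h2 : ((r ^ p : ℕ) : ZMod p) = ((1 : ℕ) : ZMod p) := (ZMod.natCast_eq_natCast_iff _ _ _).mpr h1
    push_cast at h2
    rw [ZMod.pow_card] at h2
    exact h2
  have hr1 : 1 ≤ r := by
    by_contra h0
    have : r = 0 := by omega
    rw [this] at hrz
    simp at hrz
  have hp1 : p ∣ r - 1 := by
    rw [← ZMod.natCast_eq_zero_iff, Nat.cast_sub hr1, hrz]; simp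
  refine ⟨hr1, hp1, ?_⟩
  have hnd : ¬ p ∣ r := by
    intro hd
    have : (r : ZMod p) = 0 := (ZMod.natCast_eq_zero_iff _ _).mpr hd
    rw [hrz] at this
    exact one_ne_zero this
  have hlte := Nat.emultiplicity_pow_sub_pow hp hpodd (x := r) (y := 1) hp1 hnd p
  rw [one_pow] at hlte
  have h3 : p ^ n ∣ r ^ p - 1 := by
    have h4 : 1 ≤ r ^ p := Nat.one_le_pow _ _ hr1
    exact (Nat.modEq_iff_dvd' h4).mp h.symm
  rw [pow_dvd_iff_le_emultiplicity, hlte] at h3
  rw [pow_dvd_iff_le_emultiplicity]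
  have h5 : emultiplicity p p = 1 := by
    have := emultiplicity_pow_self hp.ne_zero (Nat.isUnit_iff.not.mpr hp.one_lt.ne') 1
    simpa using this
  rw [h5] at h3
  have h6 : ((n - 1 : ℕ) : ℕ∞) + 1 ≤ emultiplicity p (r - 1) + 1 := by
    have : ((n - 1 : ℕ) : ℕ∞) + 1 = (n : ℕ∞) := by
      have : n - 1 + 1 = n := by omega
      exact_mod_cast this
    rw [this]; exact h3
  exact (ENat.add_le_add_iff_right (by simp)).mp h6

/-- In a `p`-group (`p` odd) with a cyclic subgroup of index `p`, the `p`-th power map is a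
homomorphism. -/
theorem pow_hom {R : Type*} [Group R] [Finite R] {p : ℕ} [hfact : Fact p.Prime] (hp2 : p ≠ 2)
    (hR : IsPGroup p R) (C : Subgroup R) (hC : IsCyclic C) (hCi : C.index = p) :
    ∀ u v : R, (u * v) ^ p = u ^ p * v ^ p := by
  classical
  have hp := hfact.out
  by_cases hab : ∀ u v : R, u * v = v * u
  · intro u v
    exact (show Commute u v from hab u v).mul_pow p
  push Not at hab
  -- C is normal
  obtain ⟨m, hm⟩ := hR.exists_card_eq
  have hm0 : m ≠ 0 := by
    intro h
    rw [h, pow_zero] at hm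
    have h1 := Subgroup.card_mul_index C
    rw [hm, hCi] at h1
    have := Nat.eq_one_of_mul_eq_one_left h1
    exact hp.one_lt.ne' this
  have hCn : C.Normal := by
    apply Subgroup.normal_of_index_eq_minFac_card
    rw [hCi, hm, hp.pow_minFac hm0]
  -- generator
  obtain ⟨g₀, hg₀⟩ := hC.exists_generator
  set c : R := (g₀ : R) with hc
  have hcC : c ∈ C := g₀.2
  have hCz : ∀ y ∈ C, ∃ k : ℕ, c ^ k = y := by
    intro y hy
    have h1 := hg₀ ⟨y, hy⟩
    rw [← mem_powers_iff_mem_zpowers, Submonoid.mem_powers_iff] at h1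
    obtain ⟨k, hk⟩ := h1
    exact ⟨k, by simpa using congrArg (fun z : C => (z : R)) hk⟩
  obtain ⟨n, hn⟩ := (hR.to_subgroup C).exists_card_eq
  have hoc : orderOf c = p ^ n := by
    rw [hc, Subgroup.orderOf_coe, orderOf_eq_card_of_forall_mem_zpowers hg₀, hn]
  have hCab : ∀ a ∈ C, ∀ b ∈ C, a * b = b * a := by
    intro a ha b hb
    obtain ⟨i, rfl⟩ := hCz a ha
    obtain ⟨j, rfl⟩ := hCz b hb
    rw [← pow_add, ← pow_add, add_comm]
  -- x ∉ C
  obtain ⟨x, hx⟩ : ∃ x : R, x ∉ C := by
    by_contra h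
    push Not at h
    have : C = ⊤ := (Subgroup.eq_top_iff' C).mpr h
    rw [this, Subgroup.index_top] at hCi
    exact hp.one_lt.ne' hCi.symm
  have htop : C ⊔ Subgroup.zpowers x = ⊤ := by
    have h1 := Subgroup.relIndex_mul_index (le_sup_left : C ≤ C ⊔ Subgroup.zpowers x)
    rw [hCi] at h1
    have h2 : C.relIndex (C ⊔ Subgroup.zpowers x) ≠ 1 := by
      rw [Ne, Subgroup.relIndex_eq_one]
      intro h
      exact hx (h (Subgroup.mem_sup_right (Subgroup.mem_zpowers x)))
    have h3 : C.relIndex (C ⊔ Subgroup.zpowers x) ∣ p := Dvd.intro _ h1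
    have h4 : C.relIndex (C ⊔ Subgroup.zpowers x) = p := ((Nat.dvd_prime hp).mp h3).resolve_left h2
    rw [h4] at h1
    have h5 : (C ⊔ Subgroup.zpowers x).index = 1 := by
      have : p * (C ⊔ Subgroup.zpowers x).index = p * 1 := by rw [h1, mul_one]
      exact Nat.eq_of_mul_eq_mul_left hp.pos this
    exact Subgroup.index_eq_one.mp h5
  -- an element commuting with c and x is central
  have hcentral : ∀ z : R, z * c = c * z → z * x = x * z → ∀ g : R, g * z = z * g := by
    intro z hzc hzx g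
    have h1 : C ⊔ Subgroup.zpowers x ≤ Subgroup.centralizer ({z} : Set R) := by
      apply sup_le
      · intro y hy
        obtain ⟨k, rfl⟩ := hCz y hy
        rw [Subgroup.mem_centralizer_singleton_iff]
        exact ((show Commute z c from hzc).pow_right k).eq.symm
      · rw [Subgroup.zpowers_le, Subgroup.mem_centralizer_singleton_iff]
        exact hzx.symm
    rw [htop] at h1
    have := h1 (Subgroup.mem_top g)
    rw [Subgroup.mem_centralizer_singleton_iff] at this
    exact this
  -- n ≥ 1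
  have hn1 : 1 ≤ n := by
    by_contra h0
    have hn0 : n = 0 := by omega
    obtain ⟨u, v, huv⟩ := hab
    apply huv
    have hc1 : c = 1 := by
      rw [← orderOf_eq_one_iff, hoc, hn0, pow_zero]
    have hCbot : ∀ y ∈ C, y = 1 := by
      intro y hy
      obtain ⟨k, rfl⟩ := hCz y hy
      rw [hc1, one_pow]
    -- R = zpowers x is abelian
    have hu : u ∈ C ⊔ Subgroup.zpowers x := by rw [htop]; trivial
    have hv : v ∈ C ⊔ Subgroup.zpowers x := by rw [htop]; trivial
    have hCle : C ≤ Subgroup.zpowers x := fun y hy => by rw [hCbot y hy]; exact Subgroup.one_mem _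
    rw [sup_eq_right.mpr hCle] at hu hv
    obtain ⟨i, rfl⟩ := Subgroup.mem_zpowers_iff.mp hu
    obtain ⟨j, rfl⟩ := Subgroup.mem_zpowers_iff.mp hv
    exact zpow_mul_comm x i j
  -- conjugation exponent
  obtain ⟨r, hr⟩ := hCz (x * c * x⁻¹) (hCn.conj_mem c hcC x)
  have hconj : ∀ k : ℕ, x ^ k * c * (x ^ k)⁻¹ = c ^ (r ^ k) := by
    intro k
    induction k with
    | zero => simp
    | succ k ih =>
      have : x ^ (k + 1) * c * (x ^ (k + 1))⁻¹ = x * (x ^ k * c * (x ^ k)⁻¹) * x⁻¹ := by
        rw [pow_succ']; group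
      rw [this, ih, ← conj_pow, ← hr, ← pow_mul, pow_succ']
  have hxp : x ^ p ∈ C := by
    rw [← hCi]; exact Subgroup.pow_index_mem C x
  have h1 : c ^ (r ^ p) = c ^ 1 := by
    rw [← hconj p, pow_one, hCab _ hxp _ hcC]; group
  rw [pow_eq_pow_iff_modEq, hoc] at h1
  obtain ⟨hr1, hpr, hpnr⟩ := nt_lemma p hp hp2 n hn1 r h1
  -- the commutator d
  set d : R := x * c * x⁻¹ * c⁻¹ with hd
  have hdc : d = c ^ (r - 1) := by
    rw [hd, ← hr]
    have : c ^ r = c ^ (r - 1) * c := by rw [← pow_succ]; congr 1; omega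
    rw [this]; group
  have hpn : p ^ n = p * p ^ (n - 1) := by
    rw [← pow_succ']; congr 1; omega
  have hdx : d * x = x * d := by
    have h2 : x * d * x⁻¹ = d := by
      rw [hdc, ← conj_pow, ← hr, ← pow_mul]
      have h3 : r * (r - 1) = (r - 1) + (r - 1) * (r - 1) := by
        have : r = (r - 1) + 1 := by omega
        nth_rewrite 1 [this]; ring
      rw [h3, pow_add]
      have h4 : c ^ ((r - 1) * (r - 1)) = 1 := by
        rw [← orderOf_dvd_iff_pow_eq_one, hoc, hpn]
        exact mul_dvd_mul hpr hpnr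
      rw [h4, mul_one]
    calc d * x = (x * d * x⁻¹) * x := by rw [h2]
      _ = x * d := by group
  have hdcc : d * c = c * d := by
    rw [hdc, ← pow_succ, ← pow_succ']
  have hdcen := hcentral d hdcc hdx
  have hdp : d ^ p = 1 := by
    rw [hdc, ← pow_mul, ← orderOf_dvd_iff_pow_eq_one, hoc, hpn, mul_comm]
    exact mul_dvd_mul_right hpnr p
  -- D = ⟨d⟩ is normal, R/D is abelian
  set D : Subgroup R := Subgroup.zpowers d with hD
  have hDcen : ∀ e ∈ D, ∀ g : R, g * e = e * g := by
    intro e he g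
    obtain ⟨k, rfl⟩ := Subgroup.mem_zpowers_iff.mp he
    exact ((show Commute g d from hdcen g).zpow_right k).eq
  have hDp : ∀ e ∈ D, e ^ p = 1 := by
    intro e he
    obtain ⟨k, rfl⟩ := Subgroup.mem_zpowers_iff.mp he
    rw [← zpow_natCast, ← zpow_mul, mul_comm, zpow_mul, zpow_natCast, hdp, one_zpow]
  have hDn : D.Normal := by
    refine ⟨fun e he g => ?_⟩
    have : g * e * g⁻¹ = e := by rw [hDcen e he g]; group
    rw [this]; exact he
  have hcomm : ∀ u v : R, v * u * v⁻¹ * u⁻¹ ∈ D := by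
    set π := QuotientGroup.mk' D with hπ
    have hπcx : π x * π c = π c * π x := by
      have h2 : π (x * c * x⁻¹ * c⁻¹) = 1 := by
        rw [hπ, QuotientGroup.mk'_apply, QuotientGroup.eq_one_iff]
        exact Subgroup.mem_zpowers d
      rw [map_mul, map_mul, map_mul, map_inv, map_inv] at h2
      calc π x * π c = (π x * π c * (π x)⁻¹ * (π c)⁻¹) * (π c * π x) := by group
        _ = π c * π x := by rw [h2, one_mul]
    have hgen : ∀ q : R ⧸ D, q ∈ (C ⊔ Subgroup.zpowers x).map π := by
      intro q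
      obtain ⟨g, rfl⟩ := QuotientGroup.mk'_surjective D q
      exact Subgroup.mem_map_of_mem π (by rw [htop]; trivial)
    -- an element of the quotient commuting with π c and π x is central
    have hQcentral : ∀ z : R ⧸ D, z * π c = π c * z → z * π x = π x * z →
        ∀ q : R ⧸ D, q * z = z * q := by
      intro z hzc hzx q
      have h2 : (C ⊔ Subgroup.zpowers x).map π ≤ Subgroup.centralizer ({z} : Set (R ⧸ D)) := by
        rw [Subgroup.map_sup]
        apply sup_le
        · rintro _ ⟨y, hy, rfl⟩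
          obtain ⟨k, rfl⟩ := hCz y hy
          rw [Subgroup.mem_centralizer_singleton_iff, map_pow]
          exact ((show Commute z (π c) from hzc).pow_right k).eq.symm
        · rw [MonoidHom.map_zpowers, Subgroup.zpowers_le, Subgroup.mem_centralizer_singleton_iff]
          exact hzx.symm
      have := h2 (hgen q)
      rw [Subgroup.mem_centralizer_singleton_iff] at this
      exact this
    have hcc := hQcentral (π c) rfl hπcx.symm
    have hxc := hQcentral (π x) hπcx rfl
    have hQab : ∀ q₁ q₂ : R ⧸ D, q₁ * q₂ = q₂ * q₁ := by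
      intro q₁ q₂
      exact hQcentral q₂ (hcc q₂) (hxc q₂) q₁
    intro u v
    rw [← QuotientGroup.eq_one_iff]
    show π (v * u * v⁻¹ * u⁻¹) = 1
    rw [map_mul, map_mul, map_mul, map_inv, map_inv, hQab (π v) (π u)]
    group
  intro u v
  set e := v * u * v⁻¹ * u⁻¹ with he
  have heD := hcomm u v
  have h2 : v * u = e * u * v := by rw [he]; group
  have h3 := Cfsg.Agent.Lib.Helper7_PGroupRank.mul_pow_of_comm u v e h2
    (hDcen e heD u).symm (hDcen e heD v).symm p
  rw [h3]
  have h4 : ∑ i ∈ Finset.range p, i = p * ((p - 1) / 2) := by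
    have h5 := Finset.sum_range_id_mul_two p
    obtain ⟨k, hk⟩ := hp.odd_of_ne_two hp2
    have h6 : (p - 1) / 2 = k := by omega
    rw [h6]
    have h7 : p - 1 = 2 * k := by omega
    rw [h7] at h5
    have : (∑ i ∈ Finset.range p, i) * 2 = (p * k) * 2 := by rw [h5]; ring
    exact Nat.eq_of_mul_eq_mul_right (by norm_num) this
  rw [h4, pow_mul, hDp e heD, one_pow, mul_one]

/-- For odd p, in a non-cyclic p-group with a cyclic subgroup of index p, the elements of order dividing p generate an elementary abelian subgroup of order p^2. -/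
theorem result {R : Type*} [Group R] [Finite R] {p : ℕ} [Fact p.Prime] (hp : p ≠ 2) (hR : IsPGroup p R) (hnc : ¬ IsCyclic R) (C : Subgroup R) (hC : IsCyclic C) (hCi : C.index = p) : Cfsg.IsElementaryAbelian p (Subgroup.closure {x : R | x ^ p = 1}) ∧ Nat.card (Subgroup.closure {x : R | x ^ p = 1}) = p ^ 2 := by
  classical
  have hpp := (Fact.out : p.Prime)
  have hhom := pow_hom hp hR C hC hCi
  let φ : R →* R := ⟨⟨fun x => x ^ p, one_pow p⟩, hhom⟩
  have hφ : ∀ x : R, φ x = x ^ p := fun x => rfl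
  have hKmem : ∀ x : R, x ∈ φ.ker ↔ x ^ p = 1 := by
    intro x; rw [MonoidHom.mem_ker, hφ]
  have hK : Subgroup.closure {x : R | x ^ p = 1} = φ.ker := by
    have : {x : R | x ^ p = 1} = (φ.ker : Set R) := by
      ext x
      rw [Set.mem_ofPred_eq, SetLike.mem_coe, hKmem]
    rw [this, Subgroup.closure_eq]
  rw [hK]
  set K := φ.ker with hKdef
  have hKp : IsPGroup p K := hR.to_subgroup K
  -- C is normal
  have hCn : C.Normal := by
    obtain ⟨m, hm⟩ := hR.exists_card_eq
    have hm0 : m ≠ 0 := by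
      intro h
      rw [h, pow_zero] at hm
      have h1 := Subgroup.card_mul_index C
      rw [hm, hCi] at h1
      have := Nat.eq_one_of_mul_eq_one_left h1
      exact hpp.one_lt.ne' this
    apply Subgroup.normal_of_index_eq_minFac_card
    rw [hCi, hm, hpp.pow_minFac hm0]
  -- lower bound
  have hlow : p ^ 2 ≤ Nat.card K := by
    by_contra hlt
    push Not at hlt
    obtain ⟨k, hk⟩ := hKp.exists_card_eq
    have hk1 : k ≤ 1 := by
      rw [hk] at hlt
      have := (Nat.pow_lt_pow_iff_right hpp.one_lt).mp hlt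
      omega
    have hKle : Nat.card K ≤ p := by
      rw [hk]
      calc p ^ k ≤ p ^ 1 := Nat.pow_le_pow_right hpp.pos hk1
        _ = p := pow_one p
    have hR' : ∀ x u : R, x * u = u * x → x ^ p = 1 → u ^ p = 1 → x ≠ 1 →
        u ∈ Subgroup.zpowers x := by
      intro x u _ hx hu hx1
      have hox : orderOf x = p := orderOf_eq_prime hx hx1
      have hle : Subgroup.zpowers x ≤ K := by
        rw [Subgroup.zpowers_le]; exact (hKmem x).mpr hx
      have heq : Subgroup.zpowers x = K :=
        Subgroup.eq_of_le_of_card_ge hle (by rw [Nat.card_zpowers, hox]; exact hKle)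
      rw [heq]; exact (hKmem u).mpr hu
    rcases Cfsg.Agent.Lib.Helper7_PGroupRank.cyclic_or_quaternion_like hR hR' with h | ⟨h, -⟩
    · exact hnc h
    · exact hp h
  -- upper bound
  have hup : Nat.card K ≤ p ^ 2 := by
    have h1 := Subgroup.card_mul_index (C.subgroupOf K)
    have h2 : Nat.card (C.subgroupOf K) = Nat.card (C ⊓ K : Subgroup R) := by
      rw [← Subgroup.inf_subgroupOf_right]
      exact Nat.card_congr (Subgroup.subgroupOfEquivOfLe inf_le_right).toEquiv
    have h3 : C.relIndex K ≤ p := by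
      have := Subgroup.relIndex_dvd_index_of_normal C K
      rw [hCi] at this
      exact Nat.le_of_dvd hpp.pos this
    have h4 : Nat.card (C ⊓ K : Subgroup R) ≤ p := by
      have hcyc : IsCyclic (C ⊓ K : Subgroup R) := by
        have h5 : IsCyclic ((C ⊓ K).subgroupOf C) := inferInstance
        exact isCyclic_of_surjective (Subgroup.subgroupOfEquivOfLe (inf_le_left : C ⊓ K ≤ C)).toMonoidHom
          (Subgroup.subgroupOfEquivOfLe (inf_le_left : C ⊓ K ≤ C)).surjective
      rw [← IsCyclic.exponent_eq_card]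
      apply Nat.le_of_dvd hpp.pos
      apply Monoid.exponent_dvd_of_forall_pow_eq_one
      intro g
      apply Subtype.ext
      have := (hKmem (g : R)).mp (Subgroup.mem_inf.mp g.2).2
      simpa using this
    have h6 : Nat.card K = Nat.card (C ⊓ K : Subgroup R) * C.relIndex K := by
      rw [← h2]; exact h1.symm
    rw [h6, pow_two]
    exact Nat.mul_le_mul h4 h3
  have hcard : Nat.card K = p ^ 2 := le_antisymm hup hlow
  exact ⟨⟨IsPGroup.isMulCommutative_of_card_eq_prime_sq hcard, fun a ha => (hKmem a).mp ha⟩, hcard⟩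

end Cfsg.Agent.S0127
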