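import Cfsg.Statements.S3741
import Mathlib

set_option autoImplicit false
open Cfsg

namespace Cfsg.Agent.S3741

open scoped commutatorElement
open scoped Classical

/-- the conjugation action of a subgroup on the ambient group -/
@[reducible] def conjActOn {G : Type*} [Group G] (B : Subgroup G) : MulAction B G where
  smul b x := (b : G) * x * (b : G)⁻¹
  one_smul x := by show ((1 : B) : G) * x * ((1 : B) : G)⁻¹ = x; simp
  mul_smul b₁ b₂ x := by
    show ((b₁ * b₂ : B) : G) * x * ((b₁ * b₂ : B) : G)⁻¹ =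
      (b₁ : G) * ((b₂ : G) * x * (b₂ : G)⁻¹) * (b₁ : G)⁻¹
    rw [Subgroup.coe_mul]; group

/-- one half of the double count -/
theorem half {G : Type*} [Group G] [Finite G] {p : ℕ} [Fact p.Prime] (hG : IsPGroup p G)
    (A B Z : Subgroup G) (hZ : Nat.card Z ≤ p)
    (h : ∀ a ∈ A, ∀ b ∈ B, b * a * b⁻¹ * a⁻¹ ∈ Z) (a : G) (ha : a ∈ A) :
    p * Nat.card {b : B // (b : G) * a = a * (b : G)} =
      Nat.card B * (if a ∈ Subgroup.centralizer (B : Set G) then p else 1) := by
  have hp : p.Prime := Fact.out
  let act : MulAction B G := conjActOn B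
  have hsmul : ∀ (b : B) (x : G), b • x = (b : G) * x * (b : G)⁻¹ := fun b x => rfl
  have hos := Subgroup.card_mul_index (MulAction.stabilizer B a)
  rw [MulAction.index_stabilizer] at hos
  -- stabilizer
  have hstab : Nat.card (MulAction.stabilizer B a) = Nat.card {b : B // (b : G) * a = a * (b : G)} := by
    apply Nat.card_congr
    refine Equiv.subtypeEquivRight (fun b => ?_)
    rw [MulAction.mem_stabilizer_iff, hsmul]
    constructor
    · intro hb
      have : (b : G) * a = ((b : G) * a * (b : G)⁻¹) * (b : G) := by group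
      rw [this, hb]
    · intro hb
      rw [hb]; group
  rw [hstab] at hos
  -- the orbit is small
  have horb_le : (MulAction.orbit B a).ncard ≤ Nat.card Z := by
    have hsub : MulAction.orbit B a ⊆ (fun z : G => z * a) '' (Z : Set G) := by
      rintro x ⟨b, rfl⟩
      refine ⟨(b : G) * a * (b : G)⁻¹ * a⁻¹, h a ha b b.2, ?_⟩
      show (b : G) * a * (b : G)⁻¹ * a⁻¹ * a = b • a
      rw [hsmul]; group
    calc (MulAction.orbit B a).ncard ≤ ((fun z : G => z * a) '' (Z : Set G)).ncard :=
          Set.ncard_le_ncard hsub (Set.toFinite _)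
      _ ≤ (Z : Set G).ncard := Set.ncard_image_le (Set.toFinite _)
      _ = Nat.card Z := (Nat.card_coe_set_eq _).symm
  obtain ⟨k, hk⟩ : ∃ k, (MulAction.orbit B a).ncard = p ^ k := by
    rw [← MulAction.index_stabilizer]
    exact (hG.to_subgroup B).index _
  by_cases hc : a ∈ Subgroup.centralizer (B : Set G)
  · rw [if_pos hc]
    have hone : (MulAction.orbit B a).ncard = 1 := by
      have : MulAction.orbit B a = {a} := by
        ext x
        constructor
        · rintro ⟨b, rfl⟩
          show b • a = a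
          rw [hsmul]
          rw [Subgroup.mem_centralizer_iff] at hc
          rw [hc b b.2]; group
        · intro hx
          rw [Set.mem_singleton_iff] at hx
          rw [hx]; exact MulAction.mem_orbit_self a
      rw [this, Set.ncard_singleton]
    rw [hone, mul_one] at hos
    rw [hos, mul_comm]
  · rw [if_neg hc, mul_one]
    have hne1 : (MulAction.orbit B a).ncard ≠ 1 := by
      intro h1
      apply hc
      rw [Subgroup.mem_centralizer_iff]
      intro b hb
      have hmem : (⟨b, hb⟩ : B) • a ∈ MulAction.orbit B a := MulAction.mem_orbit a _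
      have hself : a ∈ MulAction.orbit B a := MulAction.mem_orbit_self a
      rw [Set.ncard_eq_one] at h1
      obtain ⟨y, hy⟩ := h1
      rw [hy, Set.mem_singleton_iff] at hmem hself
      have : (⟨b, hb⟩ : B) • a = a := hmem.trans hself.symm
      rw [hsmul] at this
      have e : b * a = (b * a * b⁻¹) * b := by group
      rw [e]
      show ((⟨b, hb⟩ : B) : G) * a * ((⟨b, hb⟩ : B) : G)⁻¹ * b = a * b
      rw [this]
    have hkp : (MulAction.orbit B a).ncard = p := by
      rw [hk] at hne1 horb_le ⊢
      rcases k with _ | _ | k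
      · exact absurd (pow_zero p) hne1
      · exact pow_one p
      · exfalso
        have : p ^ 2 ≤ p ^ (k + 1 + 1) := Nat.pow_le_pow_right hp.pos (by omega)
        have h2 : p < p ^ 2 := by
          calc p = p ^ 1 := (pow_one p).symm
            _ < p ^ 2 := Nat.pow_lt_pow_right hp.one_lt (by omega)
        omega
    rw [hkp] at hos
    rw [← hos, mul_comm]

theorem count {G : Type*} [Group G] [Finite G] {p : ℕ} [Fact p.Prime] (hG : IsPGroup p G)
    (A B Z : Subgroup G) (hZ : Nat.card Z ≤ p)
    (h : ∀ a ∈ A, ∀ b ∈ B, b * a * b⁻¹ * a⁻¹ ∈ Z) :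
    p * Nat.card {x : A × B // (x.2 : G) * (x.1 : G) = (x.1 : G) * (x.2 : G)} =
      Nat.card B * ((p - 1) * Nat.card (A ⊓ Subgroup.centralizer (B : Set G) : Subgroup G)
        + Nat.card A) := by
  have hp : p.Prime := Fact.out
  have : Fintype A := Fintype.ofFinite A
  have e1 : {x : A × B // (x.2 : G) * (x.1 : G) = (x.1 : G) * (x.2 : G)} ≃
      Σ a : A, {b : B // (b : G) * (a : G) = (a : G) * (b : G)} :=
    Equiv.subtypeProdEquivSigmaSubtype (fun (a : A) (b : B) => (b : G) * (a : G) = (a : G) * (b : G))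
  rw [Nat.card_congr e1, Nat.card_sigma, Finset.mul_sum]
  have hsum : ∀ a : A, p * Nat.card {b : B // (b : G) * (a : G) = (a : G) * (b : G)} =
      Nat.card B * (if (a : G) ∈ Subgroup.centralizer (B : Set G) then p else 1) :=
    fun a => half hG A B Z hZ h a a.2
  rw [Finset.sum_congr rfl (fun a _ => hsum a), ← Finset.mul_sum]
  congr 1
  have hite : ∀ a : A, (if (a : G) ∈ Subgroup.centralizer (B : Set G) then p else 1) =
      (p - 1) * (if (a : G) ∈ Subgroup.centralizer (B : Set G) then 1 else 0) + 1 := by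
    intro a
    have := hp.pos
    split_ifs <;> omega
  have hfilter : (Finset.univ.filter (fun a : A => (a : G) ∈ Subgroup.centralizer (B : Set G))).card =
      Nat.card (A ⊓ Subgroup.centralizer (B : Set G) : Subgroup G) := by
    rw [← Fintype.card_subtype, ← Nat.card_eq_fintype_card]
    apply Nat.card_congr
    exact {
      toFun := fun x => ⟨(x.1 : G), Subgroup.mem_inf.mpr ⟨x.1.2, x.2⟩⟩
      invFun := fun y => ⟨⟨(y : G), (Subgroup.mem_inf.mp y.2).1⟩, (Subgroup.mem_inf.mp y.2).2⟩
      left_inv := fun x => rfl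
      right_inv := fun y => rfl }
  rw [Finset.sum_congr rfl (fun a _ => hite a), Finset.sum_add_distrib, ← Finset.mul_sum,
    Finset.sum_boole, Finset.sum_const, smul_eq_mul, mul_one, Finset.card_univ, ← Nat.card_eq_fintype_card]
  simp only [Nat.cast_id]
  rw [hfilter]

/-- Let A and B be subgroups of a finite p-group with [A, B] ≤ A ∩ B and [A, B] of order at most p. Then |A : C_A(B)| = |B : C_B(A)|. -/
theorem result {G : Type*} [Group G] [Finite G] {p : ℕ} [Fact p.Prime] (hG : IsPGroup p G) (A B : Subgroup G) (hAB : ⁅A, B⁆ ≤ A ⊓ B) (hcard : Nat.card ↥⁅A, B⁆ ≤ p) : (A ⊓ Subgroup.centralizer (B : Set G)).relIndex A = (B ⊓ Subgroup.centralizer (A : Set G)).relIndex B := by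
  have hp : p.Prime := Fact.out
  have h1 : ∀ a ∈ A, ∀ b ∈ B, b * a * b⁻¹ * a⁻¹ ∈ ⁅A, B⁆ := by
    intro a ha b hb
    have : b * a * b⁻¹ * a⁻¹ = ⁅a, b⁆⁻¹ := by
      rw [commutatorElement_inv]; rfl
    rw [this]
    exact inv_mem (Subgroup.commutator_mem_commutator ha hb)
  have h2 : ∀ b ∈ B, ∀ a ∈ A, a * b * a⁻¹ * b⁻¹ ∈ ⁅A, B⁆ := by
    intro b hb a ha
    exact Subgroup.commutator_mem_commutator ha hb
  have c1 := count hG A B ⁅A, B⁆ hcard h1
  have c2 := count hG B A ⁅A, B⁆ hcard h2
  have e : {x : A × B // (x.2 : G) * (x.1 : G) = (x.1 : G) * (x.2 : G)} ≃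
      {x : B × A // (x.2 : G) * (x.1 : G) = (x.1 : G) * (x.2 : G)} :=
    { toFun := fun x => ⟨(x.1.2, x.1.1), x.2.symm⟩
      invFun := fun y => ⟨(y.1.2, y.1.1), y.2.symm⟩
      left_inv := fun x => rfl
      right_inv := fun y => rfl }
  rw [Nat.card_congr e, c2] at c1
  set cA := Nat.card (A ⊓ Subgroup.centralizer (B : Set G) : Subgroup G) with hcA
  set cB := Nat.card (B ⊓ Subgroup.centralizer (A : Set G) : Subgroup G) with hcB
  have hq : 0 < p - 1 := by have := hp.two_le; omega
  have key : Nat.card A * cB = Nat.card B * cA := by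
    have : (p - 1) * (Nat.card A * cB) = (p - 1) * (Nat.card B * cA) := by
      nlinarith [c1]
    exact Nat.eq_of_mul_eq_mul_left hq this
  have iA : (A ⊓ Subgroup.centralizer (B : Set G)).relIndex A * cA = Nat.card A := by
    rw [Subgroup.relIndex, hcA, ← Nat.card_congr (Subgroup.subgroupOfEquivOfLe (inf_le_left : A ⊓ Subgroup.centralizer (B : Set G) ≤ A)).toEquiv, mul_comm]
    exact Subgroup.card_mul_index _
  have iB : (B ⊓ Subgroup.centralizer (A : Set G)).relIndex B * cB = Nat.card B := by
    rw [Subgroup.relIndex, hcB, ← Nat.card_congr (Subgroup.subgroupOfEquivOfLe (inf_le_left : B ⊓ Subgroup.centralizer (A : Set G) ≤ B)).toEquiv, mul_comm]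
    exact Subgroup.card_mul_index _
  have hcApos : 0 < cA := Nat.card_pos
  have hcBpos : 0 < cB := Nat.card_pos
  rw [← iA, ← iB] at key
  have : (A ⊓ Subgroup.centralizer (B : Set G)).relIndex A * (cA * cB) =
      (B ⊓ Subgroup.centralizer (A : Set G)).relIndex B * (cA * cB) := by
    nlinarith [key]
  exact Nat.eq_of_mul_eq_mul_right (Nat.mul_pos hcApos hcBpos) this

end Cfsg.Agent.S3741
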