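import Cfsg.Statements.S4093
import Mathlib
import Cfsg.Agent.S3741

set_option autoImplicit false
open Cfsg

namespace Cfsg.Agent.S4093

open scoped Classical

/-- the `N`-conjugacy class of `x` -/
def cls {G : Type*} [Group G] (N : Subgroup G) (x : G) : Set G := {g | ∃ n ∈ N, g = n * x * n⁻¹}

theorem card_cls {G : Type*} [Group G] [Finite G] (N : Subgroup G) (x : G) :
    Nat.card (cls N x) = Nat.card N / Nat.card ↥(N ⊓ Subgroup.centralizer ({x} : Set G)) := by
  let act : MulAction N G := Cfsg.Agent.S3741.conjActOn N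
  have hsmul : ∀ (b : N) (z : G), b • z = (b : G) * z * (b : G)⁻¹ := fun b z => rfl
  have horb : MulAction.orbit N x = cls N x := by
    ext g
    constructor
    · rintro ⟨n, rfl⟩
      exact ⟨n, n.2, hsmul n x⟩
    · rintro ⟨n, hn, rfl⟩
      exact ⟨⟨n, hn⟩, hsmul ⟨n, hn⟩ x⟩
  have hstab : Nat.card (MulAction.stabilizer N x) =
      Nat.card ↥(N ⊓ Subgroup.centralizer ({x} : Set G)) := by
    apply Nat.card_congr
    exact {
      toFun := fun b => ⟨(b : N), by
        rw [Subgroup.mem_inf]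
        refine ⟨(b : N).2, ?_⟩
        rw [Subgroup.mem_centralizer_iff]
        intro z hz
        rw [Set.mem_singleton_iff] at hz
        subst hz
        have hb := b.2
        rw [MulAction.mem_stabilizer_iff, hsmul] at hb
        have : ((b : N) : G) * z = (((b : N) : G) * z * ((b : N) : G)⁻¹) * ((b : N) : G) := by group
        rw [this, hb]⟩
      invFun := fun c => ⟨⟨(c : G), (Subgroup.mem_inf.mp c.2).1⟩, by
        rw [MulAction.mem_stabilizer_iff, hsmul]
        have hc := (Subgroup.mem_inf.mp c.2).2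
        rw [Subgroup.mem_centralizer_iff] at hc
        show (c : G) * x * (c : G)⁻¹ = x
        rw [← hc x rfl]; group⟩
      left_inv := fun b => rfl
      right_inv := fun c => rfl }
  have h1 := Subgroup.card_mul_index (MulAction.stabilizer N x)
  rw [MulAction.index_stabilizer, horb, hstab, ← Nat.card_coe_set_eq] at h1
  rw [← h1]
  exact (Nat.mul_div_cancel_left _ Nat.card_pos).symm

/-- Let G be a finite group with a normal subgroup N complementing a Sylow p-subgroup P (a normal p-complement). Then the number of elements of G of p-power order equals the sum over x ∈ P of the index of C_N(x) in N. -/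
theorem result {G : Type*} [Group G] [Finite G] (p : ℕ) [Fact p.Prime]
    (P : Sylow p G) (N : Subgroup G) [N.Normal] (hNP : N.IsComplement' (P : Subgroup G)) :
    Nat.card {g : G // ∃ k : ℕ, orderOf g = p ^ k} =
      ∑ᶠ x : (P : Subgroup G), Nat.card N / Nat.card ↥(N ⊓ Subgroup.centralizer ({(x : G)} : Set G)) := by
  have : Fintype (P : Subgroup G) := Fintype.ofFinite _
  rw [finsum_eq_sum_of_fintype]
  have hsum : ∑ x : (P : Subgroup G), Nat.card N / Nat.card ↥(N ⊓ Subgroup.centralizer ({(x : G)} : Set G))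
      = ∑ x : (P : Subgroup G), Nat.card (cls N (x : G)) :=
    Finset.sum_congr rfl (fun x _ => (card_cls N (x : G)).symm)
  rw [hsum, ← Nat.card_sigma]
  symm
  have hdisj : N ⊓ (P : Subgroup G) = ⊥ := hNP.disjoint.eq_bot
  -- order of a conjugate
  have hord : ∀ (n x : G), orderOf (n * x * n⁻¹) = orderOf x := by
    intro n x
    have : n * x * n⁻¹ = MulAut.conj n x := by simp
    rw [this, MulEquiv.orderOf_eq]
  have hPord : ∀ x : (P : Subgroup G), ∃ k : ℕ, orderOf (x : G) = p ^ k := by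
    intro x
    obtain ⟨k, hk⟩ := P.isPGroup' x
    have hk' : (x : G) ^ (p ^ k) = 1 := by simpa using congrArg Subtype.val hk
    obtain ⟨j, -, hj⟩ := (Nat.dvd_prime_pow Fact.out).mp (orderOf_dvd_of_pow_eq_one hk')
    exact ⟨j, hj⟩
  let f : (Σ x : (P : Subgroup G), cls N (x : G)) → {g : G // ∃ k : ℕ, orderOf g = p ^ k} :=
    fun s => ⟨(s.2 : G), by
      obtain ⟨n, hn, hg⟩ := s.2.2
      rw [hg, hord]
      exact hPord s.1⟩
  apply Nat.card_congr
  refine Equiv.ofBijective f ⟨?_, ?_⟩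
  · rintro ⟨x, ⟨g, n, hn, hg⟩⟩ ⟨x', ⟨g', n', hn', hg'⟩⟩ hff
    have hgg : g = g' := congrArg Subtype.val hff
    have hxx : x = x' := by
      -- g = m x with m ∈ N
      have hm : n * (x : G) * n⁻¹ * (x : G)⁻¹ ∈ N := by
        have : n * (x : G) * n⁻¹ * (x : G)⁻¹ = n * ((x : G) * n⁻¹ * (x : G)⁻¹) := by group
        rw [this]
        exact N.mul_mem hn (Subgroup.Normal.conj_mem inferInstance _ (N.inv_mem hn) _)
      have hm' : n' * (x' : G) * n'⁻¹ * (x' : G)⁻¹ ∈ N := by
        have : n' * (x' : G) * n'⁻¹ * (x' : G)⁻¹ = n' * ((x' : G) * n'⁻¹ * (x' : G)⁻¹) := by group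
        rw [this]
        exact N.mul_mem hn' (Subgroup.Normal.conj_mem inferInstance _ (N.inv_mem hn') _)
      have e : (x' : G) * (x : G)⁻¹ =
          (n' * (x' : G) * n'⁻¹ * (x' : G)⁻¹)⁻¹ * (n * (x : G) * n⁻¹ * (x : G)⁻¹) := by
        rw [← hg, ← hg', hgg]; group
      have h1 : (x' : G) * (x : G)⁻¹ ∈ N := by
        rw [e]; exact N.mul_mem (N.inv_mem hm') hm
      have h2 : (x' : G) * (x : G)⁻¹ ∈ (P : Subgroup G) :=
        Subgroup.mul_mem _ x'.2 (Subgroup.inv_mem _ x.2)
      have h3 : (x' : G) * (x : G)⁻¹ ∈ N ⊓ (P : Subgroup G) := Subgroup.mem_inf.mpr ⟨h1, h2⟩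
      rw [hdisj, Subgroup.mem_bot] at h3
      apply Subtype.ext
      exact (mul_inv_eq_one.mp h3).symm
    subst hxx
    subst hgg
    rfl
  · rintro ⟨g, k, hk⟩
    have hz : IsPGroup p (Subgroup.zpowers g) := by
      rintro ⟨z, hz⟩
      obtain ⟨i, rfl⟩ := Subgroup.mem_zpowers_iff.mp hz
      refine ⟨k, ?_⟩
      apply Subtype.ext
      show (g ^ i) ^ (p ^ k) = 1
      rw [← zpow_natCast, ← zpow_mul, mul_comm, zpow_mul, zpow_natCast, ← hk, pow_orderOf_eq_one,
        one_zpow]
    obtain ⟨Q, hQ⟩ := hz.exists_le_sylow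
    obtain ⟨c, hc⟩ := MulAction.exists_smul_eq G P Q
    -- c = n q
    obtain ⟨⟨n, q⟩, hnq, -⟩ := hNP.existsUnique c
    have hnq' : (n : G) * (q : G) = c := hnq
    have hqP : (q : G) • P = P := Sylow.smul_eq_iff_mem_normalizer.mpr (Subgroup.le_normalizer q.2)
    have hnQ : (n : G) • P = Q := by
      rw [← hc, ← hnq', mul_smul, hqP]
    have hgQ : g ∈ (Q : Subgroup G) := hQ (Subgroup.mem_zpowers g)
    rw [← hnQ, Sylow.coe_subgroup_smul, Subgroup.mem_pointwise_smul_iff_inv_smul_mem] at hgQ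
    have hgP : (n : G)⁻¹ * g * (n : G) ∈ (P : Subgroup G) := by
      simpa [MulAut.smul_def, mul_assoc] using hgQ
    refine ⟨⟨⟨(n : G)⁻¹ * g * (n : G), hgP⟩, ⟨g, (n : G), n.2, ?_⟩⟩, rfl⟩
    show g = (n : G) * ((n : G)⁻¹ * g * (n : G)) * (n : G)⁻¹
    group

end Cfsg.Agent.S4093
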