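import Cfsg.Statements.S3771
import Mathlib
import Cfsg.Agent.Lib.Helper2_Nilpotent
import Cfsg.Agent.S4093

set_option autoImplicit false
open Cfsg

namespace Cfsg.Agent.S3771

open scoped commutatorElement

/-- a finite nilpotent group has a self-centralizing normal (abelian) subgroup -/
theorem exists_self_centralizing {R : Type*} [Group R] [Finite R] [Group.IsNilpotent R] :
    ∃ C : Subgroup R, C.Normal ∧ Subgroup.centralizer (C : Set R) = C := by
  set 𝒦 : Set (Subgroup R) := {C | C.Normal ∧ C ≤ Subgroup.centralizer (C : Set R)} with h𝒦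
  have hbot : (⊥ : Subgroup R) ∈ 𝒦 := ⟨inferInstance, bot_le⟩
  obtain ⟨C, -, hCmax⟩ := (Set.toFinite 𝒦).exists_le_maximal hbot
  obtain ⟨hCn, hCab⟩ := hCmax.1
  refine ⟨C, hCn, le_antisymm ?_ hCab⟩
  by_contra hcon
  have hDn : (Subgroup.centralizer (C : Set R)).Normal := inferInstance
  obtain ⟨x, hxD, hxC, hx⟩ :=
    Cfsg.Agent.Lib.Helper2_Nilpotent.exists_mem_not_mem_commutator_mem
      (Subgroup.centralizer (C : Set R)) C hcon
  set E := C ⊔ Subgroup.zpowers x with hE
  have hCE : C ≤ E := le_sup_left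
  have hxE : x ∈ E := (le_sup_right : Subgroup.zpowers x ≤ E) (Subgroup.mem_zpowers x)
  have hEn : E.Normal := by
    constructor
    intro e he g
    have hle : E ≤ E.comap (MulAut.conj g).toMonoidHom := by
      rw [hE]
      apply sup_le
      · intro c hc
        rw [Subgroup.mem_comap]
        show g * c * g⁻¹ ∈ _
        exact hCE (hCn.conj_mem c hc g)
      · rw [Subgroup.zpowers_le, Subgroup.mem_comap]
        show g * x * g⁻¹ ∈ _
        have h1 : ⁅x, g⁆ ∈ C := hx g
        have h2 : g * x * g⁻¹ = (⁅x, g⁆)⁻¹ * x := by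
          rw [commutatorElement_def]; group
        rw [h2]
        exact E.mul_mem (E.inv_mem (hCE h1)) hxE
    exact hle he
  have hEab : E ≤ Subgroup.centralizer (E : Set R) := by
    have hcomm := Cfsg.Agent.Lib.Helper2_Nilpotent.sup_commute C (Subgroup.zpowers x)
      (by
        intro a ha b hb
        have := Subgroup.mem_centralizer_iff.mp (hCab hb) a ha
        exact this)
      (by
        intro a ha b hb
        obtain ⟨i, rfl⟩ := Subgroup.mem_zpowers_iff.mp ha
        obtain ⟨j, rfl⟩ := Subgroup.mem_zpowers_iff.mp hb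
        rw [← zpow_add, ← zpow_add, add_comm])
      (by
        intro a ha b hb
        obtain ⟨j, rfl⟩ := Subgroup.mem_zpowers_iff.mp hb
        have h1 : a * x = x * a := Subgroup.mem_centralizer_iff.mp hxD a ha
        have : Commute a x := h1
        exact (this.zpow_right j).eq)
    intro e he
    rw [Subgroup.mem_centralizer_iff]
    intro e' he'
    exact hcomm e' he' e he
  have hE𝒦 : E ∈ 𝒦 := ⟨hEn, hEab⟩
  have := hCmax.2 hE𝒦 hCE
  exact hxC (this hxE)

/-- Let p be a prime and R a finite p-group of p-rank at most 2 (no elementary abelian subgroup of order p³) in which every element has order dividing p. Then R has order at most p³. -/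
theorem result {R : Type*} [Group R] [Finite R] {p : ℕ} [Fact p.Prime] (hR : IsPGroup p R) (hrank : Cfsg.PRankLE p 2 R) (hexp : ∀ x : R, x ^ p = 1) : Nat.card R ≤ p ^ 3 := by
  have hp : p.Prime := Fact.out
  have hnil : Group.IsNilpotent R := hR.isNilpotent
  obtain ⟨C, hCn, hCC⟩ := exists_self_centralizing (R := R)
  have hCab : IsMulCommutative C := by
    refine ⟨⟨fun a b => ?_⟩⟩
    apply Subtype.ext
    have h1 : (a : R) ∈ Subgroup.centralizer (C : Set R) := by rw [hCC]; exact a.2
    exact (Subgroup.mem_centralizer_iff.mp h1 (b : R) b.2).symm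
  have hCle : Nat.card C ≤ p ^ 2 := hrank C hCab (fun a _ => hexp a)
  have hp23 : p ^ 2 ≤ p ^ 3 := Nat.pow_le_pow_right hp.pos (by norm_num)
  by_cases hC0 : C ≤ ⊥
  · -- C trivial : R trivial
    have hCbot : C = ⊥ := le_bot_iff.mp hC0
    have htop : (⊤ : Subgroup R) = ⊥ := by
      rw [← hCbot, ← hCC, hCbot]
      rw [eq_comm, Subgroup.centralizer_eq_top_iff_subset]
      intro x hx
      rw [SetLike.mem_coe, Subgroup.mem_bot] at hx
      rw [hx]; exact Subgroup.one_mem _
    have : Nat.card R = 1 := by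
      rw [← Subgroup.card_top (G := R), htop, Subgroup.card_bot]
    rw [this]; exact Nat.one_le_pow _ _ hp.pos
  -- central element of C
  obtain ⟨z, hzC, hz1, hzc⟩ :=
    Cfsg.Agent.Lib.Helper2_Nilpotent.exists_mem_not_mem_commutator_mem C ⊥ hC0
  have hz1' : z ≠ 1 := fun h => hz1 (by rw [h]; exact Subgroup.one_mem _)
  have hzcomm : ∀ r : R, z * r = r * z := by
    intro r
    have := hzc r
    rw [Subgroup.mem_bot, commutatorElement_eq_one_iff_mul_comm] at this
    exact this
  by_cases hCz : C ≤ Subgroup.zpowers z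
  · -- C central : R = C
    have htop : Subgroup.centralizer (C : Set R) = ⊤ := by
      rw [Subgroup.centralizer_eq_top_iff_subset]
      intro c hc
      obtain ⟨i, rfl⟩ := Subgroup.mem_zpowers_iff.mp (hCz hc)
      rw [SetLike.mem_coe, Subgroup.mem_center_iff]
      intro g
      have : Commute z g := hzcomm g
      exact ((this.zpow_left i).eq).symm
    rw [hCC] at htop
    have : Nat.card R = Nat.card C := by rw [htop, Subgroup.card_top]
    rw [this]; exact hCle.trans hp23
  -- a ∈ C outside ⟨z⟩
  obtain ⟨a, haC, haz⟩ := SetLike.not_le_iff_exists.mp hCz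
  have hoz : orderOf z = p := by
    rcases (Nat.dvd_prime hp).mp (orderOf_dvd_of_pow_eq_one (hexp z)) with h | h
    · exact absurd (orderOf_eq_one_iff.mp h) hz1'
    · exact h
  set E := Subgroup.zpowers z ⊔ Subgroup.zpowers a with hE
  have hEC : E ≤ C := sup_le (Subgroup.zpowers_le.mpr hzC) (Subgroup.zpowers_le.mpr haC)
  have hzE : Subgroup.zpowers z < E := by
    refine lt_of_le_of_ne le_sup_left ?_
    intro h
    apply haz
    rw [h]
    exact (le_sup_right : Subgroup.zpowers a ≤ E) (Subgroup.mem_zpowers a)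
  have hcE : p < Nat.card E := by
    have h1 : Nat.card (Subgroup.zpowers z) = p := by rw [Nat.card_zpowers, hoz]
    have h2 : Nat.card (Subgroup.zpowers z) ≤ Nat.card E :=
      Nat.le_of_dvd Nat.card_pos (Subgroup.card_dvd_of_le hzE.le)
    rcases Nat.lt_or_ge p (Nat.card E) with h | h
    · exact h
    · exfalso
      have : Subgroup.zpowers z = E := Subgroup.eq_of_le_of_card_ge hzE.le (by rw [h1]; exact h)
      exact hzE.ne this
  have hcE2 : Nat.card E = p ^ 2 := by
    obtain ⟨k, hk⟩ := IsPGroup.iff_card.mp (hR.to_subgroup E)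
    have h1 : Nat.card E ≤ p ^ 2 :=
      (Nat.le_of_dvd Nat.card_pos (Subgroup.card_dvd_of_le hEC)).trans hCle
    rw [hk] at hcE h1 ⊢
    have hk1 : 1 < k := by
      by_contra h
      push Not at h
      have : p ^ k ≤ p ^ 1 := Nat.pow_le_pow_right hp.pos h
      rw [pow_one] at this
      omega
    have hk2 : k ≤ 2 := by
      by_contra h
      push Not at h
      have : p ^ 3 ≤ p ^ k := Nat.pow_le_pow_right hp.pos h
      have : p ^ 2 < p ^ 3 := Nat.pow_lt_pow_right hp.one_lt (by norm_num)
      omega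
    have : k = 2 := by omega
    rw [this]
  have hEeq : E = C := by
    apply Subgroup.eq_of_le_of_card_ge hEC
    rw [hcE2]; exact hCle
  -- the centralizer of a
  set Ca := Subgroup.centralizer ({a} : Set R) with hCa
  have hCaC : Ca ≤ C := by
    have h1 : Ca ≤ Subgroup.centralizer (C : Set R) := by
      rw [Subgroup.le_centralizer_iff, ← hEeq, hE]
      apply sup_le
      · rw [Subgroup.zpowers_le, Subgroup.mem_centralizer_iff]
        intro g _
        exact (hzcomm g).symm
      · rw [Subgroup.zpowers_le, Subgroup.mem_centralizer_iff]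
        intro g hg
        exact (Subgroup.mem_centralizer_iff.mp hg a rfl).symm
    rwa [hCC] at h1
  have hcCa : Nat.card Ca ≤ p ^ 2 :=
    (Nat.le_of_dvd Nat.card_pos (Subgroup.card_dvd_of_le hCaC)).trans hCle
  -- the class of a
  have hcls := Cfsg.Agent.S4093.card_cls (⊤ : Subgroup R) a
  rw [top_inf_eq, Subgroup.card_top] at hcls
  have hidx : Nat.card R / Nat.card Ca = Ca.index := by
    rw [← Subgroup.card_mul_index Ca]
    exact Nat.mul_div_cancel_left _ Nat.card_pos
  have ha1 : a ≠ 1 := fun h => haz (by rw [h]; exact Subgroup.one_mem _)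
  have hclsle : Nat.card (Cfsg.Agent.S4093.cls (⊤ : Subgroup R) a) < p ^ 2 := by
    have hsub : Cfsg.Agent.S4093.cls (⊤ : Subgroup R) a ⊆ (C : Set R) \ {1} := by
      rintro g ⟨n, -, rfl⟩
      refine ⟨hCn.conj_mem a haC n, ?_⟩
      rw [Set.mem_singleton_iff]
      intro h
      apply ha1
      have : a = n⁻¹ * (n * a * n⁻¹) * n := by group
      rw [this, h]; group
    have h1 : Nat.card (Cfsg.Agent.S4093.cls (⊤ : Subgroup R) a) ≤
        Nat.card ((C : Set R) \ {1} : Set R) := Nat.card_mono (Set.toFinite _) hsub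
    have h2 : Nat.card ((C : Set R) \ {1} : Set R) = Nat.card C - 1 := by
      rw [Nat.card_coe_set_eq, Set.ncard_sdiff_singleton_of_mem (Subgroup.one_mem C)]
      rw [← Nat.card_coe_set_eq]; rfl
    have h3 : 0 < Nat.card C := Nat.card_pos
    omega
  obtain ⟨m, hm⟩ := hR.index Ca
  rw [hcls, hidx, hm] at hclsle
  have hm1 : m ≤ 1 := by
    by_contra h
    push Not at h
    have : p ^ 2 ≤ p ^ m := Nat.pow_le_pow_right hp.pos h
    omega
  have hidxle : Ca.index ≤ p := by
    rw [hm]
    calc p ^ m ≤ p ^ 1 := Nat.pow_le_pow_right hp.pos hm1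
      _ = p := pow_one p
  calc Nat.card R = Nat.card Ca * Ca.index := (Subgroup.card_mul_index Ca).symm
    _ ≤ p ^ 2 * p := Nat.mul_le_mul hcCa hidxle
    _ = p ^ 3 := by ring

end Cfsg.Agent.S3771
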