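import Cfsg.Statements.S0126
import Mathlib
import Cfsg.Agent.S0127
import Cfsg.Agent.S3771
import Cfsg.Agent.Lib.Helper6_PNormal
import Cfsg.Agent.Lib.Helper7_PGroupRank
import Cfsg.Agent.Lib.Lead_Hall

set_option autoImplicit false
open Cfsg

namespace Cfsg.Agent.S0126

open Cfsg.Agent.Lib.Helper6_PNormal

/-- For odd p, every non-cyclic p-group contains a normal elementary abelian subgroup of order p^2. -/
theorem result {R : Type*} [Group R] [Finite R] {p : ℕ} [Fact p.Prime] (hp : p ≠ 2) (hR : IsPGroup p R) (hnc : ¬ IsCyclic R) : ∃ A : Subgroup R, A.Normal ∧ Cfsg.IsElementaryAbelian p A ∧ Nat.card A = p ^ 2 := by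
  classical
  have hpp := (Fact.out : p.Prime)
  have hnil : Group.IsNilpotent R := hR.isNilpotent
  obtain ⟨A₀, hA₀n, hCA⟩ := Cfsg.Agent.S3771.exists_self_centralizing (R := R)
  have hA₀ab : ∀ a ∈ A₀, ∀ b ∈ A₀, a * b = b * a := by
    intro a ha b hb
    have h1 : a ∈ Subgroup.centralizer (A₀ : Set R) := by rw [hCA]; exact ha
    exact (Subgroup.mem_centralizer_iff.mp h1 b hb).symm
  by_cases hcyc : IsCyclic A₀
  · -- A₀ cyclic
    have hA₀top : A₀ ≠ ⊤ := by
      intro h
      apply hnc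
      have : IsCyclic (⊤ : Subgroup R) := h ▸ hcyc
      exact isCyclic_of_surjective (Subgroup.topEquiv (G := R)).toMonoidHom
        (Subgroup.topEquiv (G := R)).surjective
    have hQp : IsPGroup p (R ⧸ A₀) := hR.to_quotient A₀
    have hQnt : Nontrivial (R ⧸ A₀) := by
      by_contra h
      rw [not_nontrivial_iff_subsingleton] at h
      exact hA₀top (QuotientGroup.subgroup_eq_top_of_subsingleton A₀ h)
    have hcnt : Nontrivial (Subgroup.center (R ⧸ A₀)) := hQp.center_nontrivial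
    have hcp : IsPGroup p (Subgroup.center (R ⧸ A₀)) := hQp.to_subgroup _
    have hpdvd : p ∣ Nat.card (Subgroup.center (R ⧸ A₀)) := by
      obtain ⟨n, hn0, hn⟩ := hcp.nontrivial_iff_card.mp hcnt
      rw [hn]; exact dvd_pow_self p (by omega)
    obtain ⟨z₁, hz₁⟩ := exists_prime_orderOf_dvd_card' p hpdvd
    set zb : R ⧸ A₀ := (z₁ : R ⧸ A₀) with hzb
    have hzbc : zb ∈ Subgroup.center (R ⧸ A₀) := z₁.2
    have hozb : orderOf zb = p := by rw [hzb, Subgroup.orderOf_coe, hz₁]
    set Bb : Subgroup (R ⧸ A₀) := Subgroup.zpowers zb with hBb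
    have hBbcard : Nat.card Bb = p := by rw [hBb, Nat.card_zpowers, hozb]
    have hBbn : Bb.Normal := by
      have hle : Bb ≤ Subgroup.center (R ⧸ A₀) := by
        rw [hBb, Subgroup.zpowers_le]; exact hzbc
      refine ⟨fun n hn g => ?_⟩
      have := Subgroup.mem_center_iff.mp (hle hn) g
      have h1 : g * n * g⁻¹ = n := by rw [this]; group
      rw [h1]; exact hn
    set B : Subgroup R := Bb.comap (QuotientGroup.mk' A₀) with hB
    have hBn : B.Normal := hBbn.comap _
    have hA₀B : A₀ ≤ B := Cfsg.Agent.Lib.Lead_Hall.le_comap_mk A₀ Bb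
    have hBcard : Nat.card B = p * Nat.card A₀ := by
      rw [hB, Cfsg.Agent.Lib.Lead_Hall.card_comap_mk, hBbcard]
    have hCi : (A₀.subgroupOf B).index = p := by
      have h1 := Subgroup.card_mul_index (A₀.subgroupOf B)
      rw [Nat.card_congr (Subgroup.subgroupOfEquivOfLe hA₀B).toEquiv, hBcard, mul_comm] at h1
      exact Nat.eq_of_mul_eq_mul_right Nat.card_pos h1
    have hCcyc : IsCyclic (A₀.subgroupOf B) :=
      isCyclic_of_surjective (Subgroup.subgroupOfEquivOfLe hA₀B).symm.toMonoidHom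
        (Subgroup.subgroupOfEquivOfLe hA₀B).symm.surjective
    have hncB : ¬ IsCyclic B := by
      intro hBc
      have hBle : B ≤ A₀ := by
        rw [← hCA]
        intro b hb
        rw [Subgroup.mem_centralizer_iff]
        intro a ha
        have := (IsCyclic.isMulCommutative (α := B)).is_comm.comm ⟨a, hA₀B ha⟩ ⟨b, hb⟩
        exact congrArg Subtype.val this
      have h1 := Subgroup.card_le_of_le hBle
      rw [hBcard] at h1
      have h2 : 0 < Nat.card A₀ := Nat.card_pos
      have h3 : 2 * Nat.card A₀ ≤ p * Nat.card A₀ := Nat.mul_le_mul_right _ hpp.two_le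
      omega
    obtain ⟨hEea, hEcard⟩ := Cfsg.Agent.S0127.result (R := B) hp (hR.to_subgroup B) hncB
      (A₀.subgroupOf B) hCcyc hCi
    set E' : Subgroup B := Subgroup.closure {x : B | x ^ p = 1} with hE'
    set E : Subgroup R := E'.map B.subtype with hE
    refine ⟨E, ?_, ⟨⟨⟨?_⟩⟩, ?_⟩, ?_⟩
    · -- normal
      have hEcl : E = Subgroup.closure {y : R | y ∈ B ∧ y ^ p = 1} := by
        rw [hE, hE', MonoidHom.map_closure]
        congr 1
        ext y
        constructor
        · rintro ⟨x, hx, rfl⟩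
          refine ⟨x.2, ?_⟩
          have : x ^ p = 1 := hx
          exact congrArg (fun c : B => (c : R)) this
        · rintro ⟨hyB, hyp⟩
          exact ⟨⟨y, hyB⟩, Subtype.ext hyp, rfl⟩
      rw [hEcl]
      apply closure_normal_of_conj_mem
      rintro g s ⟨hsB, hsp⟩
      exact ⟨hBn.conj_mem s hsB g, by rw [conj_pow, hsp]; group⟩
    · rintro ⟨_, a, ha, rfl⟩ ⟨_, b, hb, rfl⟩
      apply Subtype.ext
      show B.subtype a * B.subtype b = B.subtype b * B.subtype a
      rw [← map_mul, ← map_mul]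
      have := hEea.1.is_comm.comm ⟨a, ha⟩ ⟨b, hb⟩
      have h2 : a * b = b * a := congrArg Subtype.val this
      rw [h2]
    · rintro _ ⟨a, ha, rfl⟩
      rw [← map_pow, hEea.2 a ha, map_one]
    · rw [hE, Subgroup.card_map_of_injective B.subtype_injective, hEcard]
  · -- A₀ noncyclic: Ω₁(A₀)
    let Ω : Subgroup R :=
      { carrier := {a | a ∈ A₀ ∧ a ^ p = 1}
        mul_mem' := by
          rintro a b ⟨ha, hap⟩ ⟨hb, hbp⟩
          refine ⟨A₀.mul_mem ha hb, ?_⟩
          rw [(show Commute a b from hA₀ab a ha b hb).mul_pow, hap, hbp, one_mul]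
        one_mem' := ⟨A₀.one_mem, one_pow p⟩
        inv_mem' := by
          rintro a ⟨ha, hap⟩
          exact ⟨A₀.inv_mem ha, by rw [inv_pow, hap, inv_one]⟩ }
    have hΩmem : ∀ a : R, a ∈ Ω ↔ a ∈ A₀ ∧ a ^ p = 1 := fun a => Iff.rfl
    have hΩn : Ω.Normal := by
      refine ⟨fun n hn g => ?_⟩
      rw [hΩmem] at hn ⊢
      exact ⟨hA₀n.conj_mem n hn.1 g, by rw [conj_pow, hn.2]; group⟩
    have hΩp : IsPGroup p Ω := hR.to_subgroup Ω
    have hdvd : p ^ 2 ∣ Nat.card Ω := by
      obtain ⟨k, hk⟩ := hΩp.exists_card_eq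
      rw [hk]
      apply pow_dvd_pow
      by_contra hlt
      have hk1 : k ≤ 1 := by omega
      have hΩle : Nat.card Ω ≤ p := by
        rw [hk]
        calc p ^ k ≤ p ^ 1 := Nat.pow_le_pow_right hpp.pos hk1
          _ = p := pow_one p
      have hR' : ∀ x u : A₀, x * u = u * x → x ^ p = 1 → u ^ p = 1 → x ≠ 1 →
          u ∈ Subgroup.zpowers x := by
        intro x u _ hx hu hx1
        have hx' : (x : R) ^ p = 1 := congrArg (fun c : A₀ => (c : R)) hx
        have hu' : (u : R) ^ p = 1 := congrArg (fun c : A₀ => (c : R)) hu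
        have hx1' : (x : R) ≠ 1 := fun h => hx1 (Subtype.ext h)
        have hox : orderOf (x : R) = p := orderOf_eq_prime hx' hx1'
        have hle : Subgroup.zpowers (x : R) ≤ Ω := by
          rw [Subgroup.zpowers_le]; exact ⟨x.2, hx'⟩
        have heq : Subgroup.zpowers (x : R) = Ω :=
          Subgroup.eq_of_le_of_card_ge hle (by rw [Nat.card_zpowers, hox]; exact hΩle)
        have hu2 : (u : R) ∈ Subgroup.zpowers (x : R) := by rw [heq]; exact ⟨u.2, hu'⟩
        obtain ⟨j, hj⟩ := Subgroup.mem_zpowers_iff.mp hu2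
        rw [Subgroup.mem_zpowers_iff]
        exact ⟨j, Subtype.ext (by simpa using hj)⟩
      rcases Cfsg.Agent.Lib.Helper7_PGroupRank.cyclic_or_quaternion_like (hR.to_subgroup A₀) hR' with h | ⟨h, -⟩
      · exact hcyc h
      · exact hp h
    obtain ⟨K, hKΩ, hKn, hKc⟩ := exists_normal_le_of_pow_dvd hR Ω 2 hdvd
    refine ⟨K, hKn, ⟨⟨⟨?_⟩⟩, ?_⟩, hKc⟩
    · rintro ⟨a, ha⟩ ⟨b, hb⟩
      apply Subtype.ext
      exact hA₀ab a (hKΩ ha).1 b (hKΩ hb).1
    · intro a ha
      exact (hKΩ ha).2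

end Cfsg.Agent.S0126
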