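import Cfsg.Statements.S3745
import Mathlib
import Cfsg.Agent.Lib.Lead_Hall
import Cfsg.Agent.Lib.Helper4_PCore

set_option autoImplicit false
open Cfsg

namespace Cfsg.Agent.S3745

open Cfsg.Agent.Lib.Lead_SZ Cfsg.Agent.Lib.Lead_Coprime
open scoped Pointwise

/-- splitting a positive number into its `π`-part and `π'`-part -/
theorem pi_split (π : Set ℕ) : ∀ N : ℕ, 0 < N → ∃ m n : ℕ, N = m * n ∧ m.Coprime n ∧
    (∀ p : ℕ, p.Prime → p ∣ m → p ∈ π) ∧ (∀ p : ℕ, p.Prime → p ∣ n → p ∉ π) := by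
  intro N
  induction N using Nat.strong_induction_on with
  | _ N ih =>
  intro hN
  by_cases h1 : N = 1
  · refine ⟨1, 1, by rw [h1], Nat.coprime_one_left 1, ?_, ?_⟩
    · intro p hp hd; exact absurd (Nat.dvd_one.mp hd) hp.ne_one
    · intro p hp hd; exact absurd (Nat.dvd_one.mp hd) hp.ne_one
  · have hp : (N.minFac).Prime := Nat.minFac_prime h1
    obtain ⟨k, N', hN', hkN⟩ := Nat.exists_eq_pow_mul_and_not_dvd hN.ne' N.minFac hp.ne_one
    have hk : k ≠ 0 := by
      intro hk0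
      rw [hk0, pow_zero, one_mul] at hkN
      exact hN' (hkN ▸ Nat.minFac_dvd N)
    have hN'pos : 0 < N' := by
      rcases Nat.eq_zero_or_pos N' with h | h
      · rw [h, mul_zero] at hkN; omega
      · exact h
    have hlt : N' < N := by
      have h2 : 2 ≤ N.minFac ^ k := by
        calc 2 ≤ N.minFac := hp.two_le
          _ = N.minFac ^ 1 := (pow_one _).symm
          _ ≤ N.minFac ^ k := Nat.pow_le_pow_right hp.pos (Nat.one_le_iff_ne_zero.mpr hk)
      calc N' < 2 * N' := by omega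
        _ ≤ N.minFac ^ k * N' := Nat.mul_le_mul_right _ h2
        _ = N := hkN.symm
    obtain ⟨m', n', hmn, hcop, hm', hn'⟩ := ih N' hlt hN'pos
    have hpn' : ¬ N.minFac ∣ n' := fun h => hN' (h.trans (hmn ▸ Dvd.intro_left m' rfl))
    have hpm' : ¬ N.minFac ∣ m' := fun h => hN' (h.trans (hmn ▸ Dvd.intro n' rfl))
    by_cases hpπ : N.minFac ∈ π
    · refine ⟨N.minFac ^ k * m', n', hkN.trans (by rw [hmn]; ring), ?_, ?_, hn'⟩
      · exact Nat.Coprime.mul_left
          (Nat.Coprime.pow_left k ((Nat.Prime.coprime_iff_not_dvd hp).mpr hpn')) hcop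
      · intro q hq hd
        rcases (Nat.Prime.dvd_mul hq).mp hd with h | h
        · have := (Nat.prime_dvd_prime_iff_eq hq hp).mp (hq.dvd_of_dvd_pow h)
          rw [this]; exact hpπ
        · exact hm' q hq h
    · refine ⟨m', N.minFac ^ k * n', hkN.trans (by rw [hmn]; ring), ?_, hm', ?_⟩
      · exact Nat.Coprime.mul_right
          (Nat.Coprime.pow_right k ((Nat.Prime.coprime_iff_not_dvd hp).mpr hpm').symm) hcop
      · intro q hq hd
        rcases (Nat.Prime.dvd_mul hq).mp hd with h | h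
        · have := (Nat.prime_dvd_prime_iff_eq hq hp).mp (hq.dvd_of_dvd_pow h)
          rw [this]; exact hpπ
        · exact hn' q hq h

theorem relIndex_mul_card' {X : Type*} [Group X] [Finite X] {H G : Subgroup X} (h : H ≤ G) :
    H.relIndex G * Nat.card H = Nat.card G := by
  have := Subgroup.card_mul_index (H.subgroupOf G)
  rw [card_subgroupOf_of_le h, mul_comm] at this
  exact this

/-- cardinality characterization of Hall `π`-subgroups -/
theorem hall_iff {X : Type*} [Group X] [Finite X] (π : Set ℕ) (H G : Subgroup X) (m n : ℕ)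
    (hG : Nat.card G = m * n) (hcop : m.Coprime n)
    (hm : ∀ p : ℕ, p.Prime → p ∣ m → p ∈ π) (hn : ∀ p : ℕ, p.Prime → p ∣ n → p ∉ π) :
    Cfsg.IsPiHallOf π H G ↔ H ≤ G ∧ Nat.card H = m := by
  constructor
  · rintro ⟨hHG, hπ, hidx⟩
    refine ⟨hHG, ?_⟩
    have h1 : Nat.card H ∣ m * n := hG ▸ Subgroup.card_dvd_of_le hHG
    have h2 : (Nat.card H).Coprime n :=
      Nat.coprime_of_dvd fun k hk hkH hkn => hn k hk hkn (hπ k hk hkH)
    obtain ⟨t, ht⟩ := h2.dvd_of_dvd_mul_right h1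
    have h3 := relIndex_mul_card' hHG
    have hHpos : 0 < Nat.card H := Nat.card_pos
    have h4 : H.relIndex G = t * n := by
      have : H.relIndex G * Nat.card H = (t * n) * Nat.card H := by
        rw [h3, hG, ht]; ring
      exact Nat.eq_of_mul_eq_mul_right hHpos this
    by_cases ht1 : t = 1
    · rw [ht, ht1, mul_one]
    · exfalso
      obtain ⟨q, hq, hqt⟩ := Nat.exists_prime_and_dvd ht1
      have hqm : q ∣ m := hqt.trans (ht ▸ Dvd.intro_left _ rfl)
      exact hidx q hq (hm q hq hqm) (h4 ▸ hqt.trans (Dvd.intro _ rfl))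
  · rintro ⟨hHG, hc⟩
    refine ⟨hHG, fun p hp hd => hm p hp (hc ▸ hd), ?_⟩
    have h3 := relIndex_mul_card' hHG
    have hmpos : 0 < m := by
      rcases Nat.eq_zero_or_pos m with h | h
      · rw [h] at hc; exact absurd hc (Nat.card_pos).ne'
      · exact h
    have h4 : H.relIndex G = n := by
      have : H.relIndex G * m = n * m := by rw [← hc, h3, hG, hc, mul_comm]
      exact Nat.eq_of_mul_eq_mul_right hmpos this
    intro p hp hpπ hd
    exact hn p hp (h4 ▸ hd) hpπ

/-- Glauberman's lemma for a family of subgroups permuted transitively by `K`: existence. -/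
theorem glauberman_exists {G : Type*} [Group G] [Finite G] (A K : Subgroup G)
    (hAK : A ≤ Subgroup.normalizer (K : Set G))
    (hcop : (Nat.card A).Coprime (Nat.card K)) (hsolv : Group.IsSolvable A ∨ Group.IsSolvable K)
    (Pr : Subgroup G → Prop) (P : Subgroup G) (hP : Pr P)
    (hconjA : ∀ a ∈ A, ∀ Q, Pr Q → Pr (MulAut.conj a • Q))
    (htrans : ∀ Q₁ Q₂, Pr Q₁ → Pr Q₂ → ∃ k ∈ K, MulAut.conj k • Q₁ = Q₂) :
    ∃ d ∈ K, A ≤ Subgroup.normalizer ((MulAut.conj d • P : Subgroup G) : Set G) := by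
  set Γ := K ⊔ A with hΓ
  set S := Subgroup.normalizer (P : Set G) ⊓ Γ with hS
  have hfrat : ∀ a ∈ A, ∃ k ∈ K, k⁻¹ * a ∈ S := by
    intro a ha
    obtain ⟨k, hk, hka⟩ := htrans P _ hP (hconjA a ha P hP)
    refine ⟨k, hk, Subgroup.mem_inf.mpr ⟨?_, ?_⟩⟩
    · rw [conj_smul_le_normalizer, ← conj_smul_smul, ← hka, conj_smul_smul, inv_mul_cancel,
        map_one, one_smul]
    · exact Subgroup.mul_mem _ (Subgroup.inv_mem _ (Subgroup.mem_sup_left hk))
        (Subgroup.mem_sup_right ha)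
  have hΓK : Γ ≤ Subgroup.normalizer (K : Set G) := sup_le Subgroup.le_normalizer hAK
  have hSK : S ≤ Subgroup.normalizer (K : Set G) := inf_le_right.trans hΓK
  have hSsupK : S ⊔ K = Γ := by
    apply le_antisymm
    · exact sup_le inf_le_right le_sup_left
    · refine sup_le le_sup_right ?_
      intro a ha
      obtain ⟨k, hk, hka⟩ := hfrat a ha
      have e : a = k * (k⁻¹ * a) := by group
      rw [e]; exact Subgroup.mul_mem _ (Subgroup.mem_sup_right hk) (Subgroup.mem_sup_left hka)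
  have hidx : K.relIndex S = Nat.card A := by
    rw [← relIndex_sup_of_le_normalizer S K hSK, hSsupK, hΓ, sup_comm,
      relIndex_sup_of_le_normalizer A K hAK, ← Subgroup.inf_relIndex_right,
      (Subgroup.disjoint_of_coprime_natCard hcop.symm).eq_bot, Subgroup.relIndex_bot_left]
  have hN : (K.subgroupOf S).Normal := Subgroup.normal_subgroupOf_of_le_normalizer hSK
  have hNcard : Nat.card (K.subgroupOf S) ∣ Nat.card K := by
    rw [← Subgroup.inf_subgroupOf_right, card_subgroupOf_of_le inf_le_right]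
    exact Subgroup.card_dvd_of_le inf_le_left
  have hcopS : (Nat.card (K.subgroupOf S)).Coprime (K.subgroupOf S).index := by
    show (Nat.card (K.subgroupOf S)).Coprime (K.relIndex S)
    rw [hidx]; exact (Nat.Coprime.coprime_dvd_right hNcard hcop).symm
  obtain ⟨H, hH⟩ := Subgroup.exists_right_complement'_of_coprime hcopS
  have hBcard : Nat.card (H.map S.subtype) = Nat.card A := by
    rw [Subgroup.card_map_of_injective S.subtype_injective, ← hH.symm.index_eq_card]
    exact hidx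
  have hBS : H.map S.subtype ≤ S := Subgroup.map_subtype_le _
  obtain ⟨d, hd, hdB⟩ := exists_conj_of_le_sup K A (H.map S.subtype) hAK hcop hsolv
    (hBS.trans inf_le_right) hBcard
  refine ⟨d⁻¹, K.inv_mem hd, ?_⟩
  intro a ha
  rw [conj_smul_le_normalizer]
  have h1 : d * a * d⁻¹ ∈ H.map S.subtype := by
    rw [← hdB, mem_conj_smul]
    have e : d⁻¹ * (d * a * d⁻¹) * d = a := by group
    rw [e]; exact ha
  have h2 := conj_smul_le_normalizer.mp (Subgroup.mem_inf.mp (hBS h1)).1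
  rw [conj_smul_smul]
  have e2 : a * d⁻¹ = d⁻¹ * (d * a * d⁻¹) := by group
  rw [e2, ← conj_smul_smul, h2]

/-- Glauberman's lemma for subgroups: conjugacy under `C_K(A)`. -/
theorem glauberman_conj {G : Type*} [Group G] [Finite G] (A K : Subgroup G)
    (hAK : A ≤ Subgroup.normalizer (K : Set G))
    (hcop : (Nat.card A).Coprime (Nat.card K)) (hsolv : Group.IsSolvable A ∨ Group.IsSolvable K)
    (P₁ P₂ : Subgroup G) (h1 : A ≤ Subgroup.normalizer (P₁ : Set G))
    (h2 : A ≤ Subgroup.normalizer (P₂ : Set G))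
    (k : G) (hk : k ∈ K) (hk12 : MulAut.conj k • P₁ = P₂) :
    ∃ c ∈ K ⊓ Subgroup.centralizer (A : Set G), MulAut.conj c • P₁ = P₂ := by
  set D := Subgroup.normalizer (P₂ : Set G) ⊓ K with hD
  have hAD : A ≤ Subgroup.normalizer (D : Set G) := le_normalizer_normalizer_inf A P₂ K h2 hAK
  have hDK : D ≤ K := inf_le_right
  have hcop' : (Nat.card A).Coprime (Nat.card D) :=
    Nat.Coprime.coprime_dvd_right (Subgroup.card_dvd_of_le hDK) hcop
  have hsolv' : Group.IsSolvable A ∨ Group.IsSolvable D :=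
    hsolv.imp id (Cfsg.Agent.Lib.Lead_SZ.solvable_of_le hDK)
  have hx : ∀ a ∈ A, (k⁻¹)⁻¹ * a * k⁻¹ * a⁻¹ ∈ D := by
    intro a ha
    rw [inv_inv]
    refine Subgroup.mem_inf.mpr ⟨?_, ?_⟩
    · rw [conj_smul_le_normalizer]
      have e : k * a * k⁻¹ * a⁻¹ = k * (a * (k⁻¹ * a⁻¹)) := by group
      rw [e, ← conj_smul_smul, ← conj_smul_smul, ← conj_smul_smul,
        conj_smul_le_normalizer.mp (h2 (A.inv_mem ha)), ← hk12, conj_smul_smul k⁻¹ k,
        inv_mul_cancel, map_one, one_smul, conj_smul_le_normalizer.mp (h1 ha)]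
    · have e : k * a * k⁻¹ * a⁻¹ = k * (a * k⁻¹ * a⁻¹) := by group
      rw [e]
      exact K.mul_mem hk ((Subgroup.mem_normalizer_iff.mp (hAK ha) _).mp (K.inv_mem hk))
  obtain ⟨d, hd, hdc⟩ := lemmaC D A hAD hcop' hsolv' k⁻¹ hx
  refine ⟨(k⁻¹ * d)⁻¹, Subgroup.mem_inf.mpr ⟨?_, Subgroup.inv_mem _ hdc⟩, ?_⟩
  · exact K.inv_mem (K.mul_mem (K.inv_mem hk) (hDK hd))
  · have e : (k⁻¹ * d)⁻¹ = d⁻¹ * k := by group
    rw [e, ← conj_smul_smul, hk12]
    exact conj_smul_le_normalizer.mp (Subgroup.inv_mem _ (Subgroup.mem_inf.mp hd).1)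

theorem conj_smul_le_of_normalizer {X : Type*} [Group X] {a : X} {G Q : Subgroup X}
    (ha : a ∈ Subgroup.normalizer (G : Set X)) (hQ : Q ≤ G) : MulAut.conj a • Q ≤ G := by
  have := conj_smul_mono a hQ
  rwa [conj_smul_le_normalizer.mp ha] at this

/-- transitivity of a solvable group on its Hall subgroups of a given order -/
theorem hall_trans {X : Type*} [Group X] [Finite X] (G : Subgroup X) (hsolv : Group.IsSolvable G)
    (m n : ℕ) (hG : Nat.card G = m * n) (hmn : m.Coprime n) (Q₁ Q₂ : Subgroup X)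
    (h1 : Q₁ ≤ G ∧ Nat.card Q₁ = m) (h2 : Q₂ ≤ G ∧ Nat.card Q₂ = m) :
    ∃ k ∈ G, MulAut.conj k • Q₁ = Q₂ := by
  haveI := hsolv
  obtain ⟨-, hconj, -⟩ := Cfsg.Agent.Lib.Lead_Hall.hall ↥G m n hG hmn
  obtain ⟨g, hg⟩ := hconj (Q₁.subgroupOf G) (Q₂.subgroupOf G)
    (by rw [card_subgroupOf_of_le h1.1]; exact h1.2)
    (by rw [card_subgroupOf_of_le h2.1]; exact h2.2)
  refine ⟨g, g.2, ?_⟩
  have := congrArg (Subgroup.map G.subtype) hg
  rwa [map_conj_smul, Subgroup.map_subgroupOf_eq_of_le h1.1,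
    Subgroup.map_subgroupOf_eq_of_le h2.1] at this

/-- existence of an invariant Hall subgroup -/
theorem hall_exists_inv {X : Type*} [Group X] [Finite X] (A G : Subgroup X)
    (hAG : A ≤ Subgroup.normalizer (G : Set X)) (hcop : (Nat.card A).Coprime (Nat.card G))
    (hsolv : Group.IsSolvable G) (m n : ℕ) (hG : Nat.card G = m * n) (hmn : m.Coprime n) :
    ∃ H : Subgroup X, H ≤ G ∧ Nat.card H = m ∧ A ≤ Subgroup.normalizer (H : Set X) := by
  haveI := hsolv
  obtain ⟨⟨H0, hH0⟩, -, -⟩ := Cfsg.Agent.Lib.Lead_Hall.hall ↥G m n hG hmn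
  have hP : H0.map G.subtype ≤ G ∧ Nat.card (H0.map G.subtype) = m :=
    ⟨Subgroup.map_subtype_le _, by
      rw [Subgroup.card_map_of_injective G.subtype_injective]; exact hH0⟩
  obtain ⟨d, hd, hdA⟩ := glauberman_exists A G hAG hcop (Or.inr hsolv)
    (fun Q => Q ≤ G ∧ Nat.card Q = m) _ hP
    (fun a ha Q hQ => ⟨conj_smul_le_of_normalizer (hAG ha) hQ.1, by rw [card_conj_smul]; exact hQ.2⟩)
    (fun Q₁ Q₂ h1 h2 => hall_trans G hsolv m n hG hmn Q₁ Q₂ h1 h2)
  exact ⟨_, conj_smul_le_of_normalizer (Subgroup.le_normalizer hd) hP.1,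
    by rw [card_conj_smul]; exact hP.2, hdA⟩

/-- conjugacy of invariant Hall subgroups under the centralizer -/
theorem hall_conj_inv {X : Type*} [Group X] [Finite X] (A G : Subgroup X)
    (hAG : A ≤ Subgroup.normalizer (G : Set X)) (hcop : (Nat.card A).Coprime (Nat.card G))
    (hsolv : Group.IsSolvable G) (m n : ℕ) (hG : Nat.card G = m * n) (hmn : m.Coprime n)
    (H₁ H₂ : Subgroup X) (h1 : H₁ ≤ G ∧ Nat.card H₁ = m) (h2 : H₂ ≤ G ∧ Nat.card H₂ = m)
    (hA1 : A ≤ Subgroup.normalizer (H₁ : Set X)) (hA2 : A ≤ Subgroup.normalizer (H₂ : Set X)) :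
    ∃ c ∈ G ⊓ Subgroup.centralizer (A : Set X), MulAut.conj c • H₁ = H₂ := by
  obtain ⟨k, hk, hk12⟩ := hall_trans G hsolv m n hG hmn H₁ H₂ h1 h2
  exact glauberman_conj A G hAG hcop (Or.inr hsolv) H₁ H₂ hA1 hA2 k hk hk12

theorem pCore_char (q : ℕ) (Y : Type*) [Group Y] : (Cfsg.pCore q Y).Characteristic := by
  rw [Subgroup.characteristic_iff_map_le]
  intro φ
  rw [Subgroup.map_le_iff_le_comap]
  unfold Cfsg.pCore
  apply sSup_le
  rintro M ⟨hMn, hMp⟩
  refine (Subgroup.le_comap_map φ.toMonoidHom M).trans (Subgroup.comap_mono (le_sSup ⟨?_, ?_⟩))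
  · exact Subgroup.Normal.map hMn _ φ.surjective
  · exact hMp.map _

theorem le_normalizer_sup {X : Type*} [Group X] {A U M : Subgroup X}
    (hU : A ≤ Subgroup.normalizer (U : Set X)) (hM : A ≤ Subgroup.normalizer (M : Set X)) :
    A ≤ Subgroup.normalizer ((U ⊔ M : Subgroup X) : Set X) := by
  intro a ha
  rw [conj_smul_le_normalizer, Subgroup.smul_sup, conj_smul_le_normalizer.mp (hU ha),
    conj_smul_le_normalizer.mp (hM ha)]

theorem le_normalizer_inf {X : Type*} [Group X] {A U M : Subgroup X}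
    (hU : A ≤ Subgroup.normalizer (U : Set X)) (hM : A ≤ Subgroup.normalizer (M : Set X)) :
    A ≤ Subgroup.normalizer ((U ⊓ M : Subgroup X) : Set X) := by
  intro a ha
  rw [conj_smul_le_normalizer, Subgroup.smul_inf, conj_smul_le_normalizer.mp (hU ha),
    conj_smul_le_normalizer.mp (hM ha)]

/-- coprimality of a `π`-number and a power of a prime outside `π` -/
theorem coprime_of_pi {π : Set ℕ} {a b q : ℕ} (hq : q.Prime) (hqπ : q ∉ π)
    (ha : ∀ p : ℕ, p.Prime → p ∣ a → p ∈ π) (hb : ∀ p : ℕ, p.Prime → p ∣ b → p = q) :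
    a.Coprime b :=
  Nat.coprime_of_dvd fun k hk hka hkb => hqπ (hb k hk hkb ▸ ha k hk hka)

theorem prime_dvd_card_pgroup {X : Type*} [Group X] [Finite X] {q : ℕ} [Fact q.Prime]
    {M : Subgroup X} (hM : IsPGroup q M) (p : ℕ) (hp : p.Prime) (hd : p ∣ Nat.card M) : p = q := by
  obtain ⟨k, hk⟩ := hM.exists_card_eq
  rw [hk] at hd
  exact (Nat.prime_dvd_prime_iff_eq hp Fact.out).mp (hp.dvd_of_dvd_pow hd)

section Quot

variable {X : Type*} [Group X] (M : Subgroup X)

instance Mn_normal : (M.subgroupOf (Subgroup.normalizer (M : Set X))).Normal :=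
  Subgroup.normal_subgroupOf_of_le_normalizer le_rfl

/-- image of a subgroup in `N(M)/M` -/
def im (B : Subgroup X) :
    Subgroup (↥(Subgroup.normalizer (M : Set X)) ⧸ M.subgroupOf (Subgroup.normalizer (M : Set X))) :=
  (B.subgroupOf (Subgroup.normalizer (M : Set X))).map (QuotientGroup.mk' _)

/-- preimage in `X` of a subgroup of `N(M)/M` -/
def pb (H' : Subgroup (↥(Subgroup.normalizer (M : Set X)) ⧸
    M.subgroupOf (Subgroup.normalizer (M : Set X)))) : Subgroup X :=
  (H'.comap (QuotientGroup.mk' _)).map (Subgroup.normalizer (M : Set X)).subtype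

theorem im_mono {B₁ B₂ : Subgroup X} (h : B₁ ≤ B₂) : im M B₁ ≤ im M B₂ :=
  Subgroup.map_mono (Subgroup.comap_mono h)

theorem card_im_dvd [Finite X] {B : Subgroup X} (hB : B ≤ Subgroup.normalizer (M : Set X)) :
    Nat.card (im M B) ∣ Nat.card B := by
  have := Subgroup.card_map_dvd (B.subgroupOf (Subgroup.normalizer (M : Set X)))
    (QuotientGroup.mk' (M.subgroupOf (Subgroup.normalizer (M : Set X))))
  rwa [card_subgroupOf_of_le hB] at this

theorem card_im_mul [Finite X] {B : Subgroup X} (hB : B ≤ Subgroup.normalizer (M : Set X))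
    (hMB : M ≤ B) : Nat.card (im M B) * Nat.card M = Nat.card B := by
  have := card_map_of_le (M.subgroupOf (Subgroup.normalizer (M : Set X)))
    (B.subgroupOf (Subgroup.normalizer (M : Set X))) (Subgroup.comap_mono hMB)
  rwa [card_subgroupOf_of_le hB, card_subgroupOf_of_le Subgroup.le_normalizer] at this

theorem im_le_normalizer {B₁ B₂ : Subgroup X}
    (h : B₁ ≤ Subgroup.normalizer (B₂ : Set X)) :
    im M B₁ ≤ Subgroup.normalizer ((im M B₂ : Subgroup _) : Set _) := by
  rintro y ⟨b, hb, rfl⟩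
  have hb' : (b : X) ∈ B₁ := hb
  refine mem_normalizer_of_conj_mem ?_ ?_
  · rintro z ⟨c, hc, rfl⟩
    have hc' : (c : X) ∈ B₂ := hc
    refine ⟨b * c * b⁻¹, ?_, by simp⟩
    show ((b * c * b⁻¹ : ↥(Subgroup.normalizer (M : Set X))) : X) ∈ B₂
    exact (Subgroup.mem_normalizer_iff.mp (h hb') _).mp hc'
  · rintro z ⟨c, hc, rfl⟩
    have hc' : (c : X) ∈ B₂ := hc
    refine ⟨b⁻¹ * c * b, ?_, by simp⟩
    show ((b⁻¹ * c * b : ↥(Subgroup.normalizer (M : Set X))) : X) ∈ B₂
    have := (Subgroup.mem_normalizer_iff.mp (h (B₁.inv_mem hb')) _).mp hc'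
    simpa using this

theorem im_solvable {B : Subgroup X} (hB : B ≤ Subgroup.normalizer (M : Set X))
    (hs : Group.IsSolvable B) : Group.IsSolvable (im M B) := by
  haveI : Group.IsSolvable ↥(B.subgroupOf (Subgroup.normalizer (M : Set X))) :=
    solvable_of_surjective (f := (Subgroup.subgroupOfEquivOfLe hB).symm.toMonoidHom)
      (Subgroup.subgroupOfEquivOfLe hB).symm.surjective
  exact solvable_of_surjective
    (f := (QuotientGroup.mk' (M.subgroupOf (Subgroup.normalizer (M : Set X)))).subgroupMap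
      (B.subgroupOf (Subgroup.normalizer (M : Set X))))
    (MonoidHom.subgroupMap_surjective _ _)

theorem card_pb [Finite X] (H' : Subgroup (↥(Subgroup.normalizer (M : Set X)) ⧸
    M.subgroupOf (Subgroup.normalizer (M : Set X)))) :
    Nat.card (pb M H') = Nat.card H' * Nat.card M := by
  unfold pb
  rw [Subgroup.card_map_of_injective (Subgroup.subtype_injective _),
    Cfsg.Agent.Lib.Lead_Hall.card_comap_mk, card_subgroupOf_of_le Subgroup.le_normalizer]

theorem le_pb (H' : Subgroup (↥(Subgroup.normalizer (M : Set X)) ⧸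
    M.subgroupOf (Subgroup.normalizer (M : Set X)))) : M ≤ pb M H' := by
  intro x hx
  refine ⟨⟨x, Subgroup.le_normalizer hx⟩, ?_, rfl⟩
  exact Cfsg.Agent.Lib.Lead_Hall.le_comap_mk _ H' (Subgroup.mem_subgroupOf.mpr hx)

theorem pb_le {G : Subgroup X} (hMG : M ≤ G) (H' : Subgroup (↥(Subgroup.normalizer (M : Set X)) ⧸
    M.subgroupOf (Subgroup.normalizer (M : Set X)))) (h : H' ≤ im M G) : pb M H' ≤ G := by
  rintro x ⟨y, hy, rfl⟩
  obtain ⟨g, hg, hgy⟩ := h (Subgroup.mem_comap.mp hy)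
  have hg' : (g : X) ∈ G := hg
  have h1 : g⁻¹ * y ∈ M.subgroupOf (Subgroup.normalizer (M : Set X)) := by
    rw [← QuotientGroup.eq_one_iff, QuotientGroup.mk_mul, QuotientGroup.mk_inv]
    have : (QuotientGroup.mk g : _ ⧸ M.subgroupOf (Subgroup.normalizer (M : Set X))) =
        QuotientGroup.mk y := hgy
    rw [this, inv_mul_cancel]
  have h2 : ((g⁻¹ * y : ↥(Subgroup.normalizer (M : Set X))) : X) ∈ G :=
    hMG (Subgroup.mem_subgroupOf.mp h1)
  have h3 := G.mul_mem hg' h2
  simpa using h3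

theorem le_pb_of_im_le {U : Subgroup X} (hU : U ≤ Subgroup.normalizer (M : Set X))
    (H' : Subgroup (↥(Subgroup.normalizer (M : Set X)) ⧸
    M.subgroupOf (Subgroup.normalizer (M : Set X)))) (h : im M U ≤ H') : U ≤ pb M H' := by
  intro u hu
  refine ⟨⟨u, hU hu⟩, ?_, rfl⟩
  exact h ⟨⟨u, hU hu⟩, Subgroup.mem_subgroupOf.mpr hu, rfl⟩

theorem le_normalizer_pb {A : Subgroup X} (hA : A ≤ Subgroup.normalizer (M : Set X))
    (H' : Subgroup (↥(Subgroup.normalizer (M : Set X)) ⧸
    M.subgroupOf (Subgroup.normalizer (M : Set X))))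
    (h : im M A ≤ Subgroup.normalizer (H' : Set _)) :
    A ≤ Subgroup.normalizer ((pb M H' : Subgroup X) : Set X) := by
  intro a ha
  have ha' : QuotientGroup.mk' (M.subgroupOf (Subgroup.normalizer (M : Set X))) ⟨a, hA ha⟩ ∈
      Subgroup.normalizer (H' : Set _) := h ⟨⟨a, hA ha⟩, Subgroup.mem_subgroupOf.mpr ha, rfl⟩
  refine mem_normalizer_of_conj_mem ?_ ?_
  · rintro x ⟨y, hy, rfl⟩
    have hy' : QuotientGroup.mk' (M.subgroupOf (Subgroup.normalizer (M : Set X))) y ∈ H' := hy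
    refine ⟨⟨a, hA ha⟩ * y * ⟨a, hA ha⟩⁻¹, ?_, rfl⟩
    show QuotientGroup.mk' (M.subgroupOf (Subgroup.normalizer (M : Set X)))
      (⟨a, hA ha⟩ * y * ⟨a, hA ha⟩⁻¹) ∈ H'
    rw [map_mul, map_mul, map_inv]
    exact (Subgroup.mem_normalizer_iff.mp ha' _).mp hy'
  · rintro x ⟨y, hy, rfl⟩
    have hy' : QuotientGroup.mk' (M.subgroupOf (Subgroup.normalizer (M : Set X))) y ∈ H' := hy
    refine ⟨⟨a, hA ha⟩⁻¹ * y * ⟨a, hA ha⟩, ?_, rfl⟩
    show QuotientGroup.mk' (M.subgroupOf (Subgroup.normalizer (M : Set X)))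
      (⟨a, hA ha⟩⁻¹ * y * ⟨a, hA ha⟩) ∈ H'
    rw [map_mul, map_mul, map_inv]
    have := (Subgroup.mem_normalizer_iff.mp (Subgroup.inv_mem _ ha') _).mp hy'
    simpa using this

end Quot

universe u

set_option maxHeartbeats 2000000 in
/-- dominance, by induction on the order of `G` -/
theorem hall_dom (π : Set ℕ) : ∀ (N : ℕ) (X : Type u) [Group X] [Finite X] (A G U : Subgroup X),
    Nat.card G = N → A ≤ Subgroup.normalizer (G : Set X) → (Nat.card A).Coprime (Nat.card G) →
    Group.IsSolvable G → U ≤ G → A ≤ Subgroup.normalizer (U : Set X) →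
    (∀ p : ℕ, p.Prime → p ∣ Nat.card U → p ∈ π) →
    ∃ H : Subgroup X, Cfsg.IsPiHallOf π H G ∧ A ≤ Subgroup.normalizer (H : Set X) ∧ U ≤ H := by
  intro N
  induction N using Nat.strong_induction_on with
  | _ N ih =>
  intro X _ _ A G U hN hAG hcop hsolv hUG hAU hUπ
  by_cases hbot : G = ⊥
  · refine ⟨⊥, ?_, ?_, ?_⟩
    · rw [hbot]
      refine ⟨le_rfl, fun p hp hd => ?_, fun p hp _ hd => ?_⟩
      · rw [Subgroup.card_bot] at hd; exact absurd (Nat.dvd_one.mp hd) hp.ne_one
      · rw [Subgroup.relIndex_self] at hd; exact absurd (Nat.dvd_one.mp hd) hp.ne_one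
    · intro a _
      rw [conj_smul_le_normalizer]; exact Subgroup.smul_bot _
    · rw [hbot] at hUG; exact hUG
  haveI := hsolv
  haveI : Nontrivial ↥G := (Subgroup.nontrivial_iff_ne_bot G).mpr hbot
  obtain ⟨q, hq, P, hPn, hPq, hPne⟩ := exists_normal_pgroup ↥G
  haveI : Fact q.Prime := ⟨hq⟩
  haveI := pCore_char q ↥G
  obtain ⟨M, hMdef⟩ : ∃ M : Subgroup X, M = (Cfsg.pCore q ↥G).map G.subtype := ⟨_, rfl⟩
  have hMG : M ≤ G := by rw [hMdef]; exact Subgroup.map_subtype_le _
  have hMq : IsPGroup q M := by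
    rw [hMdef]; exact (Cfsg.Agent.Lib.Helper4_PCore.pCore_isPGroup).map _
  have hMne : M ≠ ⊥ := by
    rw [hMdef]
    intro h
    apply hPne
    rw [eq_bot_iff]
    intro x hx
    have h1 : G.subtype x ∈ (Cfsg.pCore q ↥G).map G.subtype :=
      Subgroup.mem_map_of_mem _ (Cfsg.Agent.Lib.Helper4_PCore.le_pCore P hPn hPq hx)
    rw [h, Subgroup.mem_bot] at h1
    rw [Subgroup.mem_bot]
    exact Subtype.ext h1
  have hNM : Subgroup.normalizer (G : Set X) ≤ Subgroup.normalizer (M : Set X) := by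
    rw [hMdef]; exact normalizer_le_normalizer_char_map _
  have hGM : G ≤ Subgroup.normalizer (M : Set X) := Subgroup.le_normalizer.trans hNM
  have hAM : A ≤ Subgroup.normalizer (M : Set X) := hAG.trans hNM
  have hUM : U ≤ Subgroup.normalizer (M : Set X) := hUG.trans hGM
  have hMcard : 1 < Nat.card M := by
    rw [Subgroup.one_lt_card_iff_ne_bot]; exact hMne
  have hMprime : ∀ p : ℕ, p.Prime → p ∣ Nat.card M → p = q := prime_dvd_card_pgroup hMq
  -- the quotient
  have hG'card : Nat.card (im M G) * Nat.card M = Nat.card G := card_im_mul M hGM hMG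
  have hG'lt : Nat.card (im M G) < N := by
    rw [← hN, ← hG'card]
    have : 0 < Nat.card (im M G) := Nat.card_pos
    nlinarith
  have hcop' : (Nat.card (im M A)).Coprime (Nat.card (im M G)) :=
    Nat.Coprime.coprime_dvd_left (card_im_dvd M hAM)
      (Nat.Coprime.coprime_dvd_right (card_im_dvd M hGM) hcop)
  obtain ⟨H', hH'hall, hH'A, hH'U⟩ := ih _ hG'lt _ (im M A) (im M G) (im M U) rfl
    (im_le_normalizer M hAG) hcop' (im_solvable M hGM hsolv) (im_mono M hUG)
    (im_le_normalizer M hAU)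
    (fun p hp hd => hUπ p hp (hd.trans (card_im_dvd M hUM)))
  obtain ⟨m', n', hmn', hcopmn, hm', hn'⟩ := pi_split π (Nat.card (im M G)) Nat.card_pos
  have hH'card : Nat.card H' = m' :=
    ((hall_iff π H' (im M G) m' n' hmn' hcopmn hm' hn').mp hH'hall).2
  have hH'le : H' ≤ im M G := hH'hall.1
  -- pull back
  obtain ⟨H₀, hH₀def⟩ : ∃ H₀ : Subgroup X, H₀ = pb M H' := ⟨_, rfl⟩
  have hH₀card : Nat.card H₀ = m' * Nat.card M := by rw [hH₀def, card_pb, hH'card]
  have hMH₀ : M ≤ H₀ := by rw [hH₀def]; exact le_pb M H'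
  have hH₀G : H₀ ≤ G := by rw [hH₀def]; exact pb_le M hMG H' hH'le
  have hUH₀ : U ≤ H₀ := by rw [hH₀def]; exact le_pb_of_im_le M hUM H' hH'U
  have hAH₀ : A ≤ Subgroup.normalizer (H₀ : Set X) := by
    rw [hH₀def]; exact le_normalizer_pb M hAM H' hH'A
  have hGcard : Nat.card G = m' * n' * Nat.card M := by rw [← hG'card, hmn']
  by_cases hqπ : q ∈ π
  · -- `M` is a `π`-group: `H₀` is a Hall `π`-subgroup
    refine ⟨H₀, ?_, hAH₀, hUH₀⟩
    rw [hall_iff π H₀ G (m' * Nat.card M) n' (by rw [hGcard]; ring) ?_ ?_ hn']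
    · exact ⟨hH₀G, hH₀card⟩
    · refine Nat.Coprime.mul_left hcopmn ?_
      exact Nat.coprime_of_dvd fun k hk hkM hkn => hn' k hk hkn (hMprime k hk hkM ▸ hqπ)
    · intro p hp hd
      rcases (Nat.Prime.dvd_mul hp).mp hd with h | h
      · exact hm' p hp h
      · exact hMprime p hp h ▸ hqπ
  · -- `M` is a `π'`-group
    have hcopm'M : m'.Coprime (Nat.card M) := coprime_of_pi hq hqπ hm' hMprime
    have hcopG : m'.Coprime (n' * Nat.card M) := Nat.Coprime.mul_right hcopmn hcopm'M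
    have hnG : ∀ p : ℕ, p.Prime → p ∣ n' * Nat.card M → p ∉ π := by
      intro p hp hd
      rcases (Nat.Prime.dvd_mul hp).mp hd with h | h
      · exact hn' p hp h
      · exact hMprime p hp h ▸ hqπ
    have hGcard' : Nat.card G = m' * (n' * Nat.card M) := by rw [hGcard]; ring
    by_cases hH₀top : H₀ = G
    · -- `G = M ⋊ H`
      have hGm'M : Nat.card G = m' * Nat.card M := by rw [← hH₀top]; exact hH₀card
      obtain ⟨H, hHG, hHcard, hAH⟩ := hall_exists_inv A G hAG hcop hsolv m' (Nat.card M)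
        hGm'M hcopm'M
      have hHM : H ≤ Subgroup.normalizer (M : Set X) := hHG.trans hGM
      have hcopHM : (Nat.card H).Coprime (Nat.card M) := by rw [hHcard]; exact hcopm'M
      have hMHG : M ⊔ H = G := by
        apply eq_of_le_of_card_eq (sup_le hMG hHG)
        rw [card_sup_of_normalizer M H hHM hcopHM, hHcard, hGm'M, mul_comm]
      obtain ⟨K, hKdef⟩ : ∃ K : Subgroup X, K = U ⊔ M := ⟨_, rfl⟩
      have hKG : K ≤ G := by rw [hKdef]; exact sup_le hUG hMG
      have hMK : M ≤ K := by rw [hKdef]; exact le_sup_right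
      have hUK : U ≤ K := by rw [hKdef]; exact le_sup_left
      have hcopUM : (Nat.card U).Coprime (Nat.card M) := coprime_of_pi hq hqπ hUπ hMprime
      have hKcard : Nat.card K = Nat.card U * Nat.card M := by
        rw [hKdef, sup_comm, card_sup_of_normalizer M U hUM hcopUM, mul_comm]
      have hKdec : M ⊔ (K ⊓ H) = K := by
        apply le_antisymm (sup_le hMK inf_le_left)
        intro x hx
        have hxG : x ∈ ((M ⊔ H : Subgroup X) : Set X) := by rw [hMHG]; exact hKG hx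
        rw [Subgroup.coe_mul_of_right_le_normalizer_left M H hHM] at hxG
        obtain ⟨μ, hμ, h, hh, rfl⟩ := Set.mem_mul.mp hxG
        have hhK : h ∈ K := by
          have := K.mul_mem (K.inv_mem (hMK hμ)) hx
          simpa using this
        exact Subgroup.mul_mem _ (Subgroup.mem_sup_left hμ) (Subgroup.mem_sup_right ⟨hhK, hh⟩)
      have hKHcard : Nat.card (K ⊓ H : Subgroup X) = Nat.card U := by
        have hcop2 : (Nat.card (K ⊓ H : Subgroup X)).Coprime (Nat.card M) :=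
          Nat.Coprime.coprime_dvd_left (Subgroup.card_dvd_of_le inf_le_right) hcopHM
        have h1 := card_sup_of_normalizer M (K ⊓ H) (inf_le_right.trans hHM) hcop2
        rw [hKdec, hKcard, mul_comm] at h1
        exact (Nat.eq_of_mul_eq_mul_left (Nat.card_pos : 0 < Nat.card M) h1).symm
      have hAK : A ≤ Subgroup.normalizer (K : Set X) := by
        rw [hKdef]; exact le_normalizer_sup hAU hAM
      obtain ⟨c, hc, hcU⟩ := hall_conj_inv A K hAK
        (Nat.Coprime.coprime_dvd_right (Subgroup.card_dvd_of_le hKG) hcop)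
        (solvable_of_le hKG hsolv) (Nat.card U) (Nat.card M) hKcard hcopUM
        (K ⊓ H) U ⟨inf_le_left, hKHcard⟩ ⟨hUK, rfl⟩ (le_normalizer_inf hAK hAH) hAU
      obtain ⟨hcK, hcA⟩ := Subgroup.mem_inf.mp hc
      refine ⟨MulAut.conj c • H, ?_, ?_, ?_⟩
      · rw [hall_iff π _ G m' (n' * Nat.card M) hGcard' hcopG hm' hnG]
        exact ⟨conj_smul_le_of_normalizer (Subgroup.le_normalizer (hKG hcK)) hHG,
          by rw [card_conj_smul]; exact hHcard⟩
      · intro a ha
        rw [conj_smul_le_normalizer, conj_smul_smul]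
        have hca : a * c = c * a := (Subgroup.mem_centralizer_iff.mp hcA a ha)
        rw [hca, ← conj_smul_smul, conj_smul_le_normalizer.mp (hAH ha)]
      · rw [← hcU]; exact conj_smul_mono c inf_le_right
    · -- `H₀ < G`: induction inside `H₀`
      have hH₀lt : Nat.card H₀ < N := by
        rw [← hN]
        exact card_lt (lt_of_le_of_ne hH₀G hH₀top)
      obtain ⟨K, hKhall, hAK, hUK⟩ := ih _ hH₀lt X A H₀ U rfl hAH₀
        (Nat.Coprime.coprime_dvd_right (Subgroup.card_dvd_of_le hH₀G) hcop)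
        (solvable_of_le hH₀G hsolv) hUH₀ hAU hUπ
      have hK := (hall_iff π K H₀ m' (Nat.card M) hH₀card hcopm'M hm'
        (fun p hp hd => hMprime p hp hd ▸ hqπ)).mp hKhall
      refine ⟨K, ?_, hAK, hUK⟩
      rw [hall_iff π K G m' (n' * Nat.card M) hGcard' hcopG hm' hnG]
      exact ⟨hK.1.trans hH₀G, hK.2⟩


/-- Coprime action on a solvable group and Hall subgroups. Let A and G be subgroups of a finite group with A normalizing G, the orders of A and G coprime, and G solvable, and let π be a set of primes. Then (a) G has an A-invariant Hall π-subgroup; (b) any two A-invariant Hall π-subgroups of G are conjugate by an element of C_G(A); (c) every A-invariant π-subgroup of G lies in an A-invariant Hall π-subgroup of G. -/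
theorem result {X : Type*} [Group X] [Finite X] (A G : Subgroup X) (hAG : A ≤ Subgroup.normalizer (G : Set X)) (hcop : (Nat.card A).Coprime (Nat.card G)) (hsolv : Group.IsSolvable G) (π : Set ℕ) : (∃ H : Subgroup X, Cfsg.IsPiHallOf π H G ∧ A ≤ Subgroup.normalizer (H : Set X)) ∧ (∀ H₁ H₂ : Subgroup X, Cfsg.IsPiHallOf π H₁ G → A ≤ Subgroup.normalizer (H₁ : Set X) → Cfsg.IsPiHallOf π H₂ G → A ≤ Subgroup.normalizer (H₂ : Set X) → ∃ c ∈ G ⊓ Subgroup.centralizer (A : Set X), H₂ = H₁.map (MulAut.conj c).toMonoidHom) ∧ (∀ U : Subgroup X, U ≤ G → A ≤ Subgroup.normalizer (U : Set X) → (∀ p : ℕ, p.Prime → p ∣ Nat.card U → p ∈ π) → ∃ H : Subgroup X, Cfsg.IsPiHallOf π H G ∧ A ≤ Subgroup.normalizer (H : Set X) ∧ U ≤ H) := by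
  obtain ⟨m, n, hmn, hcopmn, hm, hn⟩ := pi_split π (Nat.card G) Nat.card_pos
  refine ⟨?_, ?_, ?_⟩
  · obtain ⟨H, hHG, hHc, hAH⟩ := hall_exists_inv A G hAG hcop hsolv m n hmn hcopmn
    exact ⟨H, (hall_iff π H G m n hmn hcopmn hm hn).mpr ⟨hHG, hHc⟩, hAH⟩
  · intro H₁ H₂ h1 hA1 h2 hA2
    have h1' := (hall_iff π H₁ G m n hmn hcopmn hm hn).mp h1
    have h2' := (hall_iff π H₂ G m n hmn hcopmn hm hn).mp h2
    obtain ⟨c, hc, hc12⟩ := hall_conj_inv A G hAG hcop hsolv m n hmn hcopmn H₁ H₂ h1' h2' hA1 hA2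
    refine ⟨c, hc, ?_⟩
    rw [← hc12]
    rfl
  · intro U hUG hAU hUπ
    exact hall_dom π _ X A G U rfl hAG hcop hsolv hUG hAU hUπ

end Cfsg.Agent.S3745
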