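import Mathlib
import Cfsg.Statements.S0035
import Cfsg.Agent.Lib.Helper7_FrobThm

set_option autoImplicit false
open Cfsg

namespace Cfsg.Agent.S0035

open Pointwise
open Cfsg.Agent.Lib.Helper2_ClassFn
open Cfsg.Agent.Lib.Helper2_CharBasic
open Cfsg.Agent.Lib.Helper2_CharOrtho
open Cfsg.Agent.Lib.Helper2_CharCentral
open Cfsg.Agent.Lib.Helper7_FrobThm

/-- Frobenius' Theorem: if H is a Frobenius complement in a finite group, the identity together with the elements lying in no conjugate of H form a normal subgroup, which is a complement to H. -/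
theorem result {G : Type*} [Group G] [Finite G] (H : Subgroup G) (hH : Cfsg.IsFrobeniusComplement H) :
    ∃ N : Subgroup G, (N : Set G) = Cfsg.frobeniusKernel H ∧ N.Normal ∧ Subgroup.IsComplement' N H := by
  classical
  haveI : Fintype G := Fintype.ofFinite G
  have hTI : ∀ x : G, x ∉ H → ∀ h ∈ H, x⁻¹ * h * x ∈ H → h = 1 := by
    intro x hx h hh hm
    have h1 : h ∈ MulAut.conj x • H := by
      rw [Subgroup.mem_pointwise_smul_iff_inv_smul_mem]
      simpa [MulAut.smul_def, mul_assoc] using hm
    have h2 : h ∈ H ⊓ (MulAut.conj x • H) := Subgroup.mem_inf.mpr ⟨hh, h1⟩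
    rw [hH.2.2 x hx] at h2
    exact Subgroup.mem_bot.mp h2
  -- the family of lifted characters
  let S : Set (G → ℂ) := {χ | ∃ θ : H → ℂ, IsIrrCharacter H θ ∧ χ = star H θ}
  have hS : ∀ χ ∈ S, IsCharacter G χ := by
    rintro χ ⟨θ, hθ, rfl⟩
    exact IsIrrCharacter.isCharacter (star_isIrrCharacter H hTI θ hθ)
  obtain ⟨K, hKn, hKmem⟩ := exists_ker_of_family S hS
  haveI := hKn
  -- K ∩ H = 1
  have hKH : ∀ h : G, h ∈ K → h ∈ H → h = 1 := by
    intro h hK hh
    by_contra hne
    have hval : ∀ θ : H → ℂ, IsIrrCharacter H θ → θ ⟨h, hh⟩ = θ 1 := by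
      intro θ hθ
      have := (hKmem h).mp hK (star H θ) ⟨θ, hθ, rfl⟩
      rw [star_apply_one] at this
      rw [← this]
      exact (star_apply_of_TI H hTI θ
        (IsCharacter.isClassFunction (IsIrrCharacter.isCharacter hθ)) ⟨h, hh⟩).symm
    have e1 := sum_irr_mul_deg (G := H) ⟨h, hh⟩
    have e2 := sum_irr_mul_deg (G := H) 1
    have hne' : (⟨h, hh⟩ : H) ≠ 1 := by
      intro hc
      exact hne (congrArg Subtype.val hc)
    rw [if_neg hne'] at e1
    rw [if_pos rfl] at e2
    have e3 : ∑ χ ∈ irrFinset H, χ ⟨h, hh⟩ * χ 1 = ∑ χ ∈ irrFinset H, χ 1 * χ 1 :=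
      Finset.sum_congr rfl fun χ hχ => by rw [hval χ (mem_irrFinset.mp hχ)]
    rw [e3, e2] at e1
    exact card_ne_zero_complex e1
  -- K = frobenius kernel
  have hset : (K : Set G) = Cfsg.frobeniusKernel H := by
    ext k
    simp only [SetLike.mem_coe, frobeniusKernel, Set.mem_ofPred_eq]
    constructor
    · intro hk
      by_cases hk1 : k = 1
      · exact Or.inl hk1
      · right
        intro g hg
        rw [Subgroup.mem_pointwise_smul_iff_inv_smul_mem] at hg
        have h2 : g⁻¹ * k * g ∈ H := by
          simpa [MulAut.smul_def, mul_assoc] using hg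
        have h3 : g⁻¹ * k * g ∈ K := by
          have := hKn.conj_mem k hk g⁻¹
          simpa using this
        have h4 := hKH _ h3 h2
        apply hk1
        have : k = g * (g⁻¹ * k * g) * g⁻¹ := by group
        rw [this, h4]; group
    · rintro (rfl | hk)
      · exact K.one_mem
      · rw [hKmem]
        rintro χ ⟨θ, hθ, rfl⟩
        rw [star_apply_one]
        apply star_apply_of_not_conj
        intro x hx
        apply hk x
        rw [Subgroup.mem_pointwise_smul_iff_inv_smul_mem]
        simpa [MulAut.smul_def, mul_assoc] using hx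
  refine ⟨K, hset, hKn, ?_⟩
  apply Subgroup.isComplement'_of_card_mul_and_disjoint
  · have h34 := (Cfsg.Agent.S0034.result H hH).1
    have : Nat.card K = Nat.card (Cfsg.frobeniusKernel H) := by
      rw [← hset]; rfl
    rw [this, h34, mul_comm]
    exact H.card_mul_index
  · rw [Subgroup.disjoint_def]
    intro x hx hxH
    exact hKH x hx hxH

end Cfsg.Agent.S0035
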