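import Cfsg.Statements.S0012
import Mathlib

set_option autoImplicit false
open Cfsg

namespace Cfsg.Agent.S0012

/-- In a finite `p`-group a maximal subgroup is normal of index `p`. -/
theorem coatom_facts {G : Type*} [Group G] [Finite G] (p : ℕ) [Fact p.Prime]
    (hG : IsPGroup p G) (M : Subgroup G) (hM : IsCoatom M) :
    commutator G ≤ M ∧ ∀ x : G, x ^ p ∈ M := by
  have hp : p.Prime := Fact.out
  haveI : Group.IsNilpotent G := hG.isNilpotent
  haveI hMn : M.Normal := Subgroup.NormalizerCondition.normal_of_coatom M normalizerCondition_of_isNilpotent hM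
  have hQp : IsPGroup p (G ⧸ M) := hG.to_quotient M
  have hQnt : Nontrivial (G ⧸ M) := by
    rw [← Finite.one_lt_card_iff_nontrivial]
    have h1 : M.index ≠ 1 := fun h => hM.1 (Subgroup.index_eq_one.mp h)
    have h2 : M.index ≠ 0 := Subgroup.index_ne_zero_of_finite
    show 1 < M.index
    omega
  have hpdvd : p ∣ Nat.card (G ⧸ M) := by
    obtain ⟨k, hk⟩ := hQp.exists_card_eq
    rw [hk]
    rcases k with _ | k
    · exfalso
      rw [pow_zero] at hk
      have := Finite.one_lt_card_iff_nontrivial.mpr hQnt
      omega
    · exact dvd_pow_self p (by omega)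
  obtain ⟨y, hy⟩ := exists_prime_orderOf_dvd_card' p hpdvd
  have hsub : ∀ X : Subgroup (G ⧸ M), X = ⊥ ∨ X = ⊤ := by
    intro X
    have h1 : M ≤ X.comap (QuotientGroup.mk' M) := by
      intro x hx
      rw [Subgroup.mem_comap]
      have : QuotientGroup.mk' M x = 1 := (QuotientGroup.eq_one_iff x).mpr hx
      rw [this]; exact X.one_mem
    rcases eq_or_lt_of_le h1 with h2 | h2
    · left
      have := congrArg (Subgroup.map (QuotientGroup.mk' M)) h2
      rw [Subgroup.map_comap_eq_self_of_surjective (QuotientGroup.mk'_surjective M)] at this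
      rw [← this, eq_bot_iff]
      rintro _ ⟨m, hm, rfl⟩
      rw [Subgroup.mem_bot]
      exact (QuotientGroup.eq_one_iff m).mpr hm
    · right
      have := hM.2 _ h2
      have h3 := congrArg (Subgroup.map (QuotientGroup.mk' M)) this
      rw [Subgroup.map_comap_eq_self_of_surjective (QuotientGroup.mk'_surjective M),
        Subgroup.map_top_of_surjective _ (QuotientGroup.mk'_surjective M)] at h3
      exact h3
  have hcard : Nat.card (G ⧸ M) = p := by
    rcases hsub (Subgroup.zpowers y) with h | h
    · exfalso
      rw [Subgroup.zpowers_eq_bot] at h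
      rw [h, orderOf_one] at hy
      exact hp.one_lt.ne hy
    · rw [← hy, ← Nat.card_zpowers, h, Subgroup.card_top]
  haveI : IsCyclic (G ⧸ M) := isCyclic_of_prime_card hcard
  letI : CommGroup (G ⧸ M) := IsCyclic.commGroup
  constructor
  · have := Abelianization.commutator_subset_ker (QuotientGroup.mk' M)
    rwa [QuotientGroup.ker_mk'] at this
  · intro x
    rw [← QuotientGroup.eq_one_iff, QuotientGroup.mk_pow, ← hcard]
    exact pow_card_eq_one'


/-- In a finite p-group every commutator and every p-th power lies in the Frattini subgroup, so the Frattini quotient is elementary abelian. -/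
theorem result {G : Type*} [Group G] [Finite G] (p : ℕ) [Fact p.Prime]
    (hG : IsPGroup p G) : commutator G ≤ frattini G ∧ ∀ x : G, x ^ p ∈ frattini G := by
  constructor
  · show commutator G ≤ ⨅ a ∈ {H : Subgroup G | IsCoatom H}, a
    exact le_iInf₂ (fun M hM => (coatom_facts p hG M hM).1)
  · intro x
    show x ^ p ∈ ⨅ a ∈ {H : Subgroup G | IsCoatom H}, a
    rw [Subgroup.mem_iInf]
    intro M
    rw [Subgroup.mem_iInf]
    intro hM
    exact (coatom_facts p hG M hM).2 x

end Cfsg.Agent.S0012
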