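import Cfsg.Statements.S0248
import Mathlib
import Cfsg.Agent.Lib.Helper9_SLn

set_option autoImplicit false
open Cfsg

namespace Cfsg.Agent.S0248

/-- SL_n(F) is perfect for n at least 3, over any field F. -/
theorem result {F : Type*} [Field F] (n : ℕ) (hn : 3 ≤ n) : commutator (Matrix.SpecialLinearGroup (Fin n) F) = ⊤ := by
  haveI : Nontrivial (Fin n) := Fin.nontrivial_iff_two_le.2 (by omega)
  rw [eq_top_iff]
  intro M _
  apply Cfsg.Agent.Helper9SLn.transvection_induction (fun M => M ∈ commutator _) M
  · intro i j hij a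
    obtain ⟨k, hki, hkj⟩ := Cfsg.Agent.Helper9SLn.exists_third hn i j
    rw [Cfsg.Agent.Helper9SLn.transvection_eq_comm hij (Ne.symm hki) hkj a, commutator_def]
    exact Subgroup.commutator_mem_commutator (Subgroup.mem_top _) (Subgroup.mem_top _)
  · intro A B hA hB
    exact Subgroup.mul_mem _ hA hB

end Cfsg.Agent.S0248
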