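import Cfsg.Statements.S0242
import Mathlib

set_option autoImplicit false
open Pointwise
open Cfsg

namespace Cfsg.Agent.S0242

open Matrix

theorem card_ker_det {F : Type*} [Field F] [Fintype F] (n : ℕ) :
    Nat.card (GeneralLinearGroup.det : GL (Fin n) F →* Fˣ).ker
      = Nat.card (SpecialLinearGroup (Fin n) F) := by
  symm
  have hinj : Function.Injective (SpecialLinearGroup.toGL : SpecialLinearGroup (Fin n) F →* GL (Fin n) F) :=
    SpecialLinearGroup.toGL_injective
  have hrange : (SpecialLinearGroup.toGL : SpecialLinearGroup (Fin n) F →* GL (Fin n) F).range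
      = (GeneralLinearGroup.det : GL (Fin n) F →* Fˣ).ker := by
    ext x
    rw [MonoidHom.mem_range, MonoidHom.mem_ker]
    constructor
    · rintro ⟨s, rfl⟩
      ext
      simp [SpecialLinearGroup.toGL]
    · intro h
      have hdet : (x : Matrix (Fin n) (Fin n) F).det = 1 := by
        have := congrArg Units.val h
        simpa using this
      refine ⟨⟨(x : Matrix (Fin n) (Fin n) F), hdet⟩, ?_⟩
      ext i j
      rfl
  rw [← hrange]
  exact Nat.card_congr (MonoidHom.ofInjective hinj).toEquiv

theorem card_GL_eq {F : Type*} [Field F] [Fintype F] (n : ℕ) (hn : 1 ≤ n) :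
    Nat.card (GL (Fin n) F) = Nat.card (SpecialLinearGroup (Fin n) F) * (Fintype.card F - 1) := by
  have : Nonempty (Fin n) := ⟨⟨0, by omega⟩⟩
  have h1 := Subgroup.card_mul_index (GeneralLinearGroup.det : GL (Fin n) F →* Fˣ).ker
  rw [Subgroup.index_ker, card_ker_det] at h1
  have hsurj : (GeneralLinearGroup.det : GL (Fin n) F →* Fˣ).range = ⊤ :=
    MonoidHom.range_eq_top.mpr GeneralLinearGroup.det_surjective
  rw [hsurj, Subgroup.card_top, Nat.card_units] at h1
  rw [← h1, Nat.card_eq_fintype_card (α := F)]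

/-- Order of the special linear group: (q - 1) |SL_n(q)| = prod_{i<n} (q^n - q^i) = |GL_n(q)|, for n at least 1. -/
theorem result {F : Type*} [Field F] [Fintype F] {q : ℕ} (hF : Fintype.card F = q) (n : ℕ) (hn : 1 ≤ n) : (q - 1) * Nat.card (Matrix.SpecialLinearGroup (Fin n) F) = ∏ i : Fin n, (q ^ n - q ^ (i : ℕ)) := by
  subst hF
  rw [← Matrix.card_GL_field, card_GL_eq n hn, mul_comm]

end Cfsg.Agent.S0242
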