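import Cfsg.Statements.S0243
import Cfsg.Agent.S0242
import Mathlib

set_option autoImplicit false
open Pointwise
open Cfsg

namespace Cfsg.Agent.S0243

open Matrix

theorem card_center {F : Type*} [Field F] [Fintype F] (n : ℕ) (hn : 1 ≤ n) :
    Nat.card (Subgroup.center (SpecialLinearGroup (Fin n) F)) = Nat.gcd n (Fintype.card F - 1) := by
  have e := SpecialLinearGroup.center_equiv_rootsOfUnity' (n := Fin n) (R := F) ⟨0, by omega⟩
  rw [Nat.card_congr e.toEquiv, Fintype.card_fin, rootsOfUnity_eq_ker,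
    IsCyclic.card_powMonoidHom_ker, Nat.card_units, Nat.card_eq_fintype_card, Nat.gcd_comm]

/-- Order of PSL_n(q): gcd(n, q-1) (q-1) |PSL_n(q)| = prod_{i<n} (q^n - q^i). -/
theorem result {F : Type*} [Field F] [Fintype F] {q : ℕ} (hF : Fintype.card F = q) (n : ℕ) (hn : 2 ≤ n) : Nat.gcd n (q - 1) * ((q - 1) * Nat.card (Matrix.ProjectiveSpecialLinearGroup (Fin n) F)) = ∏ i : Fin n, (q ^ n - q ^ (i : ℕ)) := by
  rw [← Cfsg.Agent.S0242.result hF n (by omega)]
  subst hF
  have h := Subgroup.card_eq_card_quotient_mul_card_subgroup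
    (Subgroup.center (SpecialLinearGroup (Fin n) F))
  rw [card_center n (by omega)] at h
  rw [h]
  ring

end Cfsg.Agent.S0243
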