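import Cfsg.Statements.S0494
import Mathlib
import Cfsg.Agent.Lib.Helper9_AltEmbed

set_option autoImplicit false
open Cfsg

namespace Cfsg.Agent.S0494

lemma fact60 : Nat.factorization 60 2 = 2 := by
  have : (60 : ℕ) = 2 ^ 2 * 15 := by norm_num
  rw [this, Nat.factorization_mul (by norm_num) (by norm_num), Finsupp.add_apply,
    Nat.factorization_pow, Finsupp.smul_apply, Nat.Prime.factorization_self Nat.prime_two,
    Nat.factorization_eq_zero_of_not_dvd (by norm_num)]
  rfl

/-- a proper subgroup of index at most five gives the isomorphism -/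
lemma of_small_index {G : Type*} [Group G] [Finite G] [IsSimpleGroup G]
    (h : Nat.card G = 60) (H : Subgroup G) (hH : H ≠ ⊤) (hidx : H.index ≤ 5) :
    Nonempty (G ≃* alternatingGroup (Fin 5)) := by
  classical
  have : Fintype (G ⧸ H) := Fintype.ofFinite _
  let φ : G →* Equiv.Perm (G ⧸ H) := MulAction.toPermHom G (G ⧸ H)
  have hker : φ.ker = ⊥ := by
    rcases (MonoidHom.normal_ker φ).eq_bot_or_eq_top with h1 | h1
    · exact h1
    · exfalso
      apply hH
      rw [eq_top_iff, ← h1]
      have : φ.ker = H.normalCore := (Subgroup.normalCore_eq_ker H).symm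
      rw [this]
      exact Subgroup.normalCore_le H
  have hinj : Function.Injective φ := (MonoidHom.ker_eq_bot_iff φ).1 hker
  have hcardX : Fintype.card (G ⧸ H) = H.index := by
    rw [Subgroup.index_eq_card, Nat.card_eq_fintype_card]
  have hdvd : 60 ∣ (H.index).factorial := by
    have h1 : Nat.card φ.range = 60 := by
      rw [← h]
      exact (Nat.card_congr (MonoidHom.ofInjective hinj).toEquiv).symm
    have h2 := Subgroup.card_subgroup_dvd_card φ.range
    rw [h1, Nat.card_eq_fintype_card (α := Equiv.Perm (G ⧸ H)), Fintype.card_perm, hcardX] at h2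
    exact h2
  have hidx5 : H.index = 5 := by
    have hpos : H.index ≠ 0 := Subgroup.index_ne_zero_of_finite
    interval_cases hh : H.index
    · exact absurd rfl hpos
    · norm_num [Nat.factorial] at hdvd
    · norm_num [Nat.factorial] at hdvd
    · norm_num [Nat.factorial] at hdvd
    · norm_num [Nat.factorial] at hdvd
    · rfl
  exact Cfsg.Agent.Helper9AltEmbed.alt_of_embed φ hinj 5 (hcardX.trans hidx5)
    (by rw [h]; rfl)

/-- A simple group of order 60 is isomorphic to the alternating group of degree 5. -/
theorem result {G : Type*} [Group G] [Finite G] [IsSimpleGroup G]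
    (h : Nat.card G = 60) : Nonempty (G ≃* alternatingGroup (Fin 5)) := by
  classical
  have : Fact (Nat.Prime 2) := ⟨Nat.prime_two⟩
  obtain P : Sylow 2 G := default
  have hP4 : Nat.card P = 4 := by
    rw [Sylow.card_eq_multiplicity, h, fact60]
    norm_num
  have hPidx : (P : Subgroup G).index = 15 := by
    have := Subgroup.card_mul_index (P : Subgroup G)
    rw [hP4, h] at this
    omega
  set N := Subgroup.normalizer ((P : Subgroup G) : Set G) with hN
  have hNdvd : N.index ∣ 15 := by
    have h1 : Nat.card (Sylow 2 G) = N.index := Sylow.card_eq_index_normalizer P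
    rw [← hPidx, ← h1]
    exact Sylow.card_dvd_index P
  have hNle : N.index ≤ 15 := Nat.le_of_dvd (by norm_num) hNdvd
  have hNtop : N ≠ ⊤ := by
    intro htop
    have hnorm : (P : Subgroup G).Normal := Subgroup.normalizer_eq_top_iff.1 htop
    rcases hnorm.eq_bot_or_eq_top with h1 | h1
    · rw [h1, Subgroup.card_bot] at hP4
      norm_num at hP4
    · rw [h1, Subgroup.card_top, h] at hP4
      norm_num at hP4
  by_cases hsmall : N.index ≤ 5
  · exact of_small_index h N hNtop hsmall
  · exfalso
    have hN15 : N.index = 15 := by
      push Not at hsmall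
      interval_cases hh : N.index <;> first | rfl | (exfalso; revert hNdvd; norm_num)
    have hNcard : Nat.card N = 4 := by
      have := Subgroup.card_mul_index N
      rw [hN15, h] at this
      omega
    have hPN : (P : Subgroup G) = N := by
      apply Subgroup.eq_of_le_of_card_ge Subgroup.le_normalizer
      rw [hNcard, hP4]
    have hcomm : IsMulCommutative (P : Subgroup G) :=
      IsPGroup.isMulCommutative_of_card_eq_prime_sq (p := 2) (by rw [hP4]; norm_num)
    have hcent : N ≤ Subgroup.centralizer ((P : Subgroup G) : Set G) := by
      rw [← hPN]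
      intro x hx y hy
      have := hcomm.is_comm.comm ⟨y, hy⟩ ⟨x, hx⟩
      exact congrArg Subtype.val this
    have hcompl := MonoidHom.ker_transferSylow_isComplement' P hcent
    have hcard := hcompl.card_mul_card
    rw [hP4, h] at hcard
    have hK : Nat.card (MonoidHom.transferSylow P hcent).ker = 15 := by omega
    rcases (MonoidHom.normal_ker (MonoidHom.transferSylow P hcent)).eq_bot_or_eq_top with h1 | h1
    · rw [h1, Subgroup.card_bot] at hK
      norm_num at hK
    · rw [h1, Subgroup.card_top, h] at hK
      norm_num at hK

end Cfsg.Agent.S0494
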