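import Cfsg.Statements.S0265
import Cfsg.Agent.S0242
import Mathlib

set_option autoImplicit false
open Pointwise
open Cfsg

namespace Cfsg.Agent.S0265

open Matrix

theorem card_center_GL {F : Type*} [Field F] [Fintype F] (n : ℕ) (hn : 1 ≤ n) :
    Nat.card (Subgroup.center (GL (Fin n) F)) = Fintype.card F - 1 := by
  rw [GeneralLinearGroup.center_eq_range_scalar]
  have hinj : Function.Injective (GeneralLinearGroup.scalar (Fin n) : Fˣ →* GL (Fin n) F) := by
    intro u v huv
    have h1 := congrArg (fun g : GL (Fin n) F => (g : Matrix (Fin n) (Fin n) F) ⟨0, by omega⟩ ⟨0, by omega⟩) huv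
    simp only [GeneralLinearGroup.coe_scalar, Matrix.scalar_apply, Matrix.diagonal_apply_eq] at h1
    exact Units.ext h1
  rw [← Nat.card_congr (MonoidHom.ofInjective hinj).toEquiv, Nat.card_units,
    Nat.card_eq_fintype_card]

/-- |PGL_n(q)| = |SL_n(q)|: GL_n modulo its centre (the q-1 non-zero scalars) has the same order as the kernel of det. -/
theorem result {F : Type*} [Field F] [Fintype F] (n : ℕ) : Nat.card (Matrix.ProjGenLinGroup (Fin n) F) = Nat.card (Matrix.SpecialLinearGroup (Fin n) F) := by
  show Nat.card (GL (Fin n) F ⧸ Subgroup.center (GL (Fin n) F)) = _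
  rcases Nat.eq_zero_or_pos n with rfl | hn
  · have h1 : Subsingleton (GL (Fin 0) F) := by
      constructor
      intro a b
      ext i j
      exact i.elim0
    have h2 : Subsingleton (SpecialLinearGroup (Fin 0) F) := by
      constructor
      intro a b
      ext i j
      exact i.elim0
    rw [Nat.card_of_subsingleton (1 : GL (Fin 0) F ⧸ Subgroup.center (GL (Fin 0) F)),
      Nat.card_of_subsingleton (1 : SpecialLinearGroup (Fin 0) F)]
  · have h := Subgroup.card_eq_card_quotient_mul_card_subgroup (Subgroup.center (GL (Fin n) F))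
    rw [card_center_GL n hn, Cfsg.Agent.S0242.card_GL_eq n hn] at h
    have hq : 0 < Fintype.card F - 1 := by
      have := Fintype.one_lt_card (α := F)
      omega
    exact (Nat.eq_of_mul_eq_mul_right hq h).symm

end Cfsg.Agent.S0265
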