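import Cfsg.Statements.S0228
import Mathlib
import Cfsg.Agent.Lib.Helper9_AltEmbed

set_option autoImplicit false
open Cfsg

namespace Cfsg.Agent.S0228

lemma fact12_3 : Nat.factorization 12 3 = 1 := by
  have : (12 : ℕ) = 3 ^ 1 * 4 := by norm_num
  rw [this, Nat.factorization_mul (by norm_num) (by norm_num), Finsupp.add_apply,
    Nat.factorization_pow, Finsupp.smul_apply, Nat.Prime.factorization_self Nat.prime_three,
    Nat.factorization_eq_zero_of_not_dvd (by norm_num)]
  rfl

lemma fact12_2 : Nat.factorization 12 2 = 2 := by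
  have : (12 : ℕ) = 2 ^ 2 * 3 := by norm_num
  rw [this, Nat.factorization_mul (by norm_num) (by norm_num), Finsupp.add_apply,
    Nat.factorization_pow, Finsupp.smul_apply, Nat.Prime.factorization_self Nat.prime_two,
    Nat.factorization_eq_zero_of_not_dvd (by norm_num)]
  rfl

/-- A group of order 12 in which no involution is central is isomorphic to the alternating group on four letters. -/
theorem result {G : Type*} [Group G] [Finite G] (hG : Nat.card G = 12) (hz : ∀ z : G, orderOf z = 2 → z ∉ Subgroup.center G) : Nonempty (G ≃* alternatingGroup (Fin 4)) := by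
  classical
  have : Fact (Nat.Prime 3) := ⟨Nat.prime_three⟩
  have : Fact (Nat.Prime 2) := ⟨Nat.prime_two⟩
  obtain P : Sylow 3 G := default
  have hP3 : Nat.card P = 3 := by
    rw [Sylow.card_eq_multiplicity, hG, fact12_3]
    norm_num
  have hPidx : (P : Subgroup G).index = 4 := by
    have := Subgroup.card_mul_index (P : Subgroup G)
    rw [hP3, hG] at this
    omega
  set N := Subgroup.normalizer ((P : Subgroup G) : Set G) with hN
  have hn3 : Nat.card (Sylow 3 G) = N.index := Sylow.card_eq_index_normalizer P
  have hNdvd : N.index ∣ 4 := by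
    rw [← hPidx, ← hn3]
    exact Sylow.card_dvd_index P
  have hmod : N.index ≡ 1 [MOD 3] := by
    rw [← hn3]
    exact card_sylow_modEq_one 3 G
  have hNle : N.index ≤ 4 := Nat.le_of_dvd (by norm_num) hNdvd
  have hcases : N.index = 1 ∨ N.index = 4 := by
    unfold Nat.ModEq at hmod
    interval_cases hh : N.index <;> simp_all
  rcases hcases with h1 | h4
  · -- normal Sylow 3-subgroup: find a central involution
    exfalso
    have hNtop : N = ⊤ := Subgroup.index_eq_one.1 h1
    have hnorm : (P : Subgroup G).Normal := Subgroup.normalizer_eq_top_iff.1 hNtop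
    let ψ : G →* MulAut (P : Subgroup G) := MulAut.conjNormal
    have hcyc : IsCyclic (P : Subgroup G) := isCyclic_of_prime_card hP3
    have hAut : Nat.card (MulAut (P : Subgroup G)) = 2 := by
      rw [IsCyclic.card_mulAut, hP3]
      rfl
    have hKidx : ψ.ker.index ∣ 2 := by
      rw [Subgroup.index_ker, ← hAut]
      exact Subgroup.card_subgroup_dvd_card _
    have hKcard : 2 ∣ Nat.card ψ.ker := by
      have h2 := Subgroup.card_mul_index ψ.ker
      rw [hG] at h2
      have h3 : ψ.ker.index ≤ 2 := Nat.le_of_dvd (by norm_num) hKidx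
      have h4 : ψ.ker.index ≠ 0 := Subgroup.index_ne_zero_of_finite
      interval_cases hh : ψ.ker.index
      · exact absurd rfl h4
      · omega
      · omega
    obtain ⟨z, hzord⟩ := exists_prime_orderOf_dvd_card' 2 hKcard
    have hzord' : orderOf (z : G) = 2 := by rw [Subgroup.orderOf_coe]; exact hzord
    have hzP : ∀ x ∈ (P : Subgroup G), (z : G) * x = x * (z : G) := by
      intro x hx
      have h5 : ψ (z : G) = 1 := z.2
      have h6 := congrArg (fun f : MulAut (P : Subgroup G) => ((f ⟨x, hx⟩ : (P : Subgroup G)) : G)) h5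
      simp only [ψ, MulAut.conjNormal_apply, MulAut.one_apply] at h6
      calc (z : G) * x = ((z : G) * x * (z : G)⁻¹) * (z : G) := by group
        _ = x * (z : G) := by rw [h6]
    -- Sylow 2-subgroup containing z
    have hzp : IsPGroup 2 (Subgroup.zpowers (z : G)) := by
      rw [IsPGroup.iff_card]
      exact ⟨1, by rw [Nat.card_zpowers, hzord', pow_one]⟩
    obtain ⟨Q, hQ⟩ := hzp.exists_le_sylow
    have hQ4 : Nat.card Q = 4 := by
      rw [Sylow.card_eq_multiplicity, hG, fact12_2]
      norm_num
    have hQcomm : IsMulCommutative (Q : Subgroup G) :=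
      IsPGroup.isMulCommutative_of_card_eq_prime_sq (p := 2) (by rw [hQ4]; norm_num)
    have hzQ : (z : G) ∈ (Q : Subgroup G) := hQ (Subgroup.mem_zpowers _)
    have hzQc : ∀ x ∈ (Q : Subgroup G), (z : G) * x = x * (z : G) := by
      intro x hx
      have := hQcomm.is_comm.comm ⟨(z : G), hzQ⟩ ⟨x, hx⟩
      exact congrArg Subtype.val this
    set C := Subgroup.centralizer ({(z : G)} : Set G) with hC
    have hPC : (P : Subgroup G) ≤ C := by
      intro x hx
      rw [hC, Subgroup.mem_centralizer_singleton_iff]
      exact (hzP x hx).symm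
    have hQC : (Q : Subgroup G) ≤ C := by
      intro x hx
      rw [hC, Subgroup.mem_centralizer_singleton_iff]
      exact (hzQc x hx).symm
    have h3C : 3 ∣ Nat.card C := by
      rw [← hP3]; exact Subgroup.card_dvd_of_le hPC
    have h4C : 4 ∣ Nat.card C := by
      rw [← hQ4]; exact Subgroup.card_dvd_of_le hQC
    have h12C : 12 ∣ Nat.card C :=
      Nat.Coprime.mul_dvd_of_dvd_of_dvd (by norm_num : Nat.Coprime 3 4) h3C h4C
    have hCtop : C = ⊤ := by
      apply Subgroup.eq_top_of_card_eq
      have := Subgroup.card_subgroup_dvd_card C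
      rw [hG] at this ⊢
      exact Nat.dvd_antisymm this h12C
    apply hz (z : G) hzord'
    rw [Subgroup.mem_center_iff]
    intro g
    have hg : g ∈ C := by rw [hCtop]; trivial
    rw [hC, Subgroup.mem_centralizer_singleton_iff] at hg
    exact hg
  · -- four Sylow 3-subgroups: action on the cosets of the normalizer
    have hNcard : Nat.card N = 3 := by
      have := Subgroup.card_mul_index N
      rw [h4, hG] at this
      omega
    have hPN : (P : Subgroup G) = N := by
      apply Subgroup.eq_of_le_of_card_ge Subgroup.le_normalizer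
      rw [hNcard, hP3]
    have : Fintype (G ⧸ N) := Fintype.ofFinite _
    let φ : G →* Equiv.Perm (G ⧸ N) := MulAction.toPermHom G (G ⧸ N)
    have hkerle : φ.ker ≤ N := by
      have : φ.ker = N.normalCore := (Subgroup.normalCore_eq_ker N).symm
      rw [this]
      exact Subgroup.normalCore_le N
    have hker : φ.ker = ⊥ := by
      have hd : Nat.card φ.ker ∣ 3 := by
        rw [← hNcard]; exact Subgroup.card_dvd_of_le hkerle
      rcases (Nat.dvd_prime Nat.prime_three).1 hd with h | h
      · exact Subgroup.card_eq_one.1 h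
      · exfalso
        have heq : φ.ker = N := Subgroup.eq_of_le_of_card_ge hkerle (by rw [h, hNcard])
        have hNn : N.Normal := heq ▸ MonoidHom.normal_ker φ
        have hPn : (P : Subgroup G).Normal := hPN ▸ hNn
        have : N = ⊤ := by rw [hN]; exact Subgroup.normalizer_eq_top_iff.2 hPn
        rw [this, Subgroup.index_top] at h4
        norm_num at h4
    have hinj : Function.Injective φ := (MonoidHom.ker_eq_bot_iff φ).1 hker
    have hcardX : Fintype.card (G ⧸ N) = 4 := by
      rw [← h4, Subgroup.index_eq_card, Nat.card_eq_fintype_card]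
    exact Cfsg.Agent.Helper9AltEmbed.alt_of_embed φ hinj 4 hcardX (by rw [hG]; rfl)

end Cfsg.Agent.S0228
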