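import Cfsg.Statements.S0245
import Mathlib
import Cfsg.Agent.Lib.Helper9_Frames

set_option autoImplicit false
open Cfsg

namespace Cfsg.Agent.S0245

open Matrix Cfsg.Agent.Lib.Helper1_Symp Cfsg.Agent.Helper9Sp Cfsg.Agent.Helper9Frames

variable {F : Type*} [Field F] {m : ℕ}

theorem entry_eq_form (M : Matrix (Fin m ⊕ Fin m) (Fin m ⊕ Fin m) F) (k l : Fin m ⊕ Fin m) :
    (Mᵀ * Matrix.J (Fin m) F * M) k l =
      sympForm m F (M *ᵥ Pi.single k 1) (M *ᵥ Pi.single l 1) := by
  rw [sympForm_mulVec, single_one_dotProduct, Matrix.mulVec_single_one]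
  rfl

theorem mem_symp_of_basis (M : Matrix (Fin m ⊕ Fin m) (Fin m ⊕ Fin m) F)
    (h : ∀ k l, sympForm m F (M *ᵥ Pi.single k 1) (M *ᵥ Pi.single l 1) =
      sympForm m F (Pi.single k 1) (Pi.single l 1)) :
    M ∈ Matrix.symplecticGroup (Fin m) F := by
  rw [SymplecticGroup.mem_iff']
  ext k l
  rw [entry_eq_form, h]
  have := entry_eq_form (1 : Matrix (Fin m ⊕ Fin m) (Fin m ⊕ Fin m) F) k l
  rw [Matrix.transpose_one, Matrix.one_mul, Matrix.mul_one, Matrix.one_mulVec,
    Matrix.one_mulVec] at this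
  exact this.symm

/-- the frame of columns of a symplectic matrix -/
def toFrame (A : Matrix.symplecticGroup (Fin m) F) : Fr m F m :=
  ⟨fun i => (A.1 *ᵥ Cfsg.Agent.S0765.f' i, A.1 *ᵥ Cfsg.Agent.S0765.e i), by
    intro a b
    have hp := (mem_symplecticGroup_iff_preserves A.1).1 A.2
    simp only
    rw [hp, hp, hp, Cfsg.Agent.S0765.form_f_e, Cfsg.Agent.S0765.form_f_f,
      Cfsg.Agent.S0765.form_e_e]
    exact ⟨rfl, rfl, rfl⟩⟩

theorem toFrame_injective : Function.Injective (toFrame (F := F) (m := m)) := by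
  intro A A' h
  have h1 : ∀ i, (A.1 *ᵥ Cfsg.Agent.S0765.f' i, A.1 *ᵥ Cfsg.Agent.S0765.e i) =
      (A'.1 *ᵥ Cfsg.Agent.S0765.f' i, A'.1 *ᵥ Cfsg.Agent.S0765.e i) := fun i =>
    congrFun (congrArg Subtype.val h) i
  apply Subtype.ext
  ext r k
  rcases k with i | i
  · have := congrFun (congrArg Prod.snd (h1 i)) r
    simp only [Cfsg.Agent.S0765.e, Matrix.mulVec_single_one] at this
    exact this
  · have := congrFun (congrArg Prod.fst (h1 i)) r
    simp only [Cfsg.Agent.S0765.f', Matrix.mulVec_single_one] at this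
    exact this

theorem toFrame_surjective : Function.Surjective (toFrame (F := F) (m := m)) := by
  intro c
  set M : Matrix (Fin m ⊕ Fin m) (Fin m ⊕ Fin m) F :=
    Matrix.of (fun r k => Sum.elim (fun i => (c.1 i).2 r) (fun i => (c.1 i).1 r) k) with hM
  have hcol1 : ∀ i, M *ᵥ Pi.single (Sum.inl i) 1 = (c.1 i).2 := by
    intro i
    rw [Matrix.mulVec_single_one]
    ext r
    rfl
  have hcol2 : ∀ i, M *ᵥ Pi.single (Sum.inr i) 1 = (c.1 i).1 := by
    intro i
    rw [Matrix.mulVec_single_one]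
    ext r
    rfl
  have hMmem : M ∈ Matrix.symplecticGroup (Fin m) F := by
    apply mem_symp_of_basis
    intro k l
    rcases k with i | i <;> rcases l with i' | i'
    · rw [hcol1, hcol1, (c.2 i i').2.2]
      exact (Cfsg.Agent.S0765.form_e_e i i').symm
    · rw [hcol1, hcol2, sympForm_swap, (c.2 i' i).1]
      have := Cfsg.Agent.S0765.form_e_f (F := F) i i'
      unfold Cfsg.Agent.S0765.e Cfsg.Agent.S0765.f' at this
      rw [this]
      by_cases h : i = i'
      · rw [if_pos h, if_pos h.symm]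
      · rw [if_neg h, if_neg (Ne.symm h), neg_zero]
    · rw [hcol2, hcol1, (c.2 i i').1]
      exact (Cfsg.Agent.S0765.form_f_e i i').symm
    · rw [hcol2, hcol2, (c.2 i i').2.1]
      exact (Cfsg.Agent.S0765.form_f_f i i').symm
  refine ⟨⟨M, hMmem⟩, ?_⟩
  apply Subtype.ext
  funext i
  show (M *ᵥ Cfsg.Agent.S0765.f' i, M *ᵥ Cfsg.Agent.S0765.e i) = c.1 i
  unfold Cfsg.Agent.S0765.f' Cfsg.Agent.S0765.e
  rw [hcol1, hcol2]

theorem sum_odd (n : ℕ) : ∑ i ∈ Finset.range n, (2 * i + 1) = n ^ 2 := by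
  induction n with
  | zero => simp
  | succ n ih => rw [Finset.sum_range_succ, ih]; ring

/-- Order of the finite symplectic group: |Sp_{2m}(q)| = q^(m^2) * prod_{i=1}^{m} (q^(2i) - 1). -/
theorem result {F : Type*} [Field F] [Fintype F] {q : ℕ} (hF : Fintype.card F = q) (m : ℕ) : Nat.card (Matrix.symplecticGroup (Fin m) F) = q ^ (m ^ 2) * ∏ i ∈ Finset.range m, (q ^ (2 * (i + 1)) - 1) := by
  classical
  rw [Nat.card_congr (Equiv.ofBijective toFrame ⟨toFrame_injective, toFrame_surjective⟩),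
    card_fr m le_rfl, hF]
  have h1 : ∀ j ∈ Finset.range m,
      (q ^ (2 * (m - j)) - 1) * q ^ (2 * (m - j) - 1) =
        (fun i => (q ^ (2 * (i + 1)) - 1) * q ^ (2 * i + 1)) (m - 1 - j) := by
    intro j hj
    have hj' := Finset.mem_range.1 hj
    simp only
    have e1 : 2 * (m - j) = 2 * (m - 1 - j + 1) := by omega
    have e2 : 2 * (m - j) - 1 = 2 * (m - 1 - j) + 1 := by omega
    rw [e1, ← e2, e1]
  rw [Finset.prod_congr rfl h1,
    Finset.prod_range_reflect (fun i => (q ^ (2 * (i + 1)) - 1) * q ^ (2 * i + 1)) m,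
    Finset.prod_mul_distrib, Finset.prod_pow_eq_pow_sum, sum_odd, mul_comm]

end Cfsg.Agent.S0245
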