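import Cfsg.Statements.S1124
import Mathlib

set_option autoImplicit false
open Cfsg

namespace Cfsg.Agent.S1124

open scoped Pointwise

/-- Let `t` be an element of order 2 of a finite group normalising a subgroup `X` of odd order, `Y = C_X(t)` and `Z` the set of elements of `X` inverted by `t`. Then `(y, z) ↦ y z` is a bijection `Y × Z → X`, so `|X| = |Y| |Z|`, and the subgroup generated by `Z` is normal in `X`. -/
theorem result {M : Type*} [Group M] [Finite M]
    (t : M) (ht : orderOf t = 2) (X : Subgroup M) (hodd : Odd (Nat.card X))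
    (hnorm : ∀ x ∈ X, t * x * t⁻¹ ∈ X) :
    (∀ x ∈ X, ∃! p : M × M, p.1 ∈ X ⊓ Subgroup.centralizer {t} ∧ p.2 ∈ Cfsg.invertedBy X t ∧ x = p.1 * p.2) ∧
      Nat.card X = Nat.card ↥(X ⊓ Subgroup.centralizer {t}) * Nat.card (Cfsg.invertedBy X t) ∧
      ∀ x ∈ X, MulAut.conj x • Subgroup.closure (Cfsg.invertedBy X t) = Subgroup.closure (Cfsg.invertedBy X t) := by
  have ht2 : t * t = 1 := by
    have := pow_orderOf_eq_one t
    rw [ht, pow_two] at this
    exact this
  obtain ⟨m, hm⟩ := hodd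
  have hpowX : ∀ u ∈ X, u ^ (2 * m + 1) = 1 := by
    intro u hu
    have h := pow_card_eq_one' (G := X) (x := ⟨u, hu⟩)
    rw [hm] at h
    have := congrArg Subtype.val h
    simpa using this
  -- the automorphism σ
  have hσσ : ∀ x : M, MulAut.conj t (MulAut.conj t x) = x := by
    intro x
    rw [← MulAut.mul_apply, ← map_mul, ht2, map_one, MulAut.one_apply]
  have hσX : ∀ x ∈ X, MulAut.conj t x ∈ X := fun x hx => by
    rw [MulAut.conj_apply]; exact hnorm x hx
  have hcent : ∀ y : M, y ∈ Subgroup.centralizer ({t} : Set M) ↔ MulAut.conj t y = y := by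
    intro y
    rw [Subgroup.mem_centralizer_singleton_iff, MulAut.conj_apply]
    constructor
    · intro h
      rw [← h, mul_inv_cancel_right]
    · intro h
      rw [mul_inv_eq_iff_eq_mul] at h
      exact h.symm
  have hinv : ∀ z : M, z ∈ Cfsg.invertedBy X t ↔ z ∈ X ∧ MulAut.conj t z = z⁻¹ := by
    intro z
    rw [MulAut.conj_apply]
    rfl
  -- squaring is injective on X
  have hsq_inj : ∀ a ∈ X, ∀ b ∈ X, a ^ 2 = b ^ 2 → a = b := by
    intro a ha b hb hab
    have h1 : a = (a ^ 2) ^ (m + 1) := by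
      rw [← pow_mul, show 2 * (m + 1) = (2 * m + 1) + 1 by ring, pow_succ, hpowX a ha, one_mul]
    have h2 : b = (b ^ 2) ^ (m + 1) := by
      rw [← pow_mul, show 2 * (m + 1) = (2 * m + 1) + 1 by ring, pow_succ, hpowX b hb, one_mul]
    rw [h1, h2, hab]
  -- existence and uniqueness of decomposition
  have hdecomp : ∀ x ∈ X, ∃! p : M × M, p.1 ∈ X ⊓ Subgroup.centralizer {t} ∧
      p.2 ∈ Cfsg.invertedBy X t ∧ x = p.1 * p.2 := by
    intro x hx
    set w : M := (MulAut.conj t x)⁻¹ * x with hw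
    have hwX : w ∈ X := X.mul_mem (X.inv_mem (hσX x hx)) hx
    have hσw : MulAut.conj t w = w⁻¹ := by
      rw [hw, map_mul, map_inv, hσσ, mul_inv_rev, inv_inv]
    set z : M := w ^ (m + 1) with hz
    have hzX : z ∈ X := X.pow_mem hwX _
    have hz2 : z ^ 2 = w := by
      rw [hz, ← pow_mul, show (m + 1) * 2 = (2 * m + 1) + 1 by ring, pow_succ, hpowX w hwX, one_mul]
    have hσz : MulAut.conj t z = z⁻¹ := by
      rw [hz, map_pow, hσw, inv_pow]
    have hy : MulAut.conj t (x * z⁻¹) = x * z⁻¹ := by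
      rw [map_mul, map_inv, hσz, inv_inv]
      have : MulAut.conj t x * w = x := by rw [hw, mul_inv_cancel_left]
      calc MulAut.conj t x * z = MulAut.conj t x * (z ^ 2 * z⁻¹) := by
            rw [pow_two, mul_inv_cancel_right]
        _ = x * z⁻¹ := by rw [hz2, ← mul_assoc, this]
    refine ⟨(x * z⁻¹, z), ⟨?_, ?_, ?_⟩, ?_⟩
    · exact ⟨X.mul_mem hx (X.inv_mem hzX), (hcent _).mpr hy⟩
    · exact (hinv z).mpr ⟨hzX, hσz⟩
    · simp
    · rintro ⟨y', z'⟩ ⟨⟨hy'X, hy'c⟩, hz', hxy'⟩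
      simp only at hy'X hy'c hz' hxy'
      obtain ⟨hz'X, hσz'⟩ := (hinv z').mp hz'
      have hσy' : MulAut.conj t y' = y' := (hcent y').mp hy'c
      -- apply σ to x = y' z'
      have h1 : MulAut.conj t x = y' * z'⁻¹ := by
        rw [hxy', map_mul, hσy', hσz']
      have h2 : w = z' ^ 2 := by
        rw [hw, h1, hxy', mul_inv_rev, inv_inv, mul_assoc, inv_mul_cancel_left, pow_two]
      have h3 : z' = z := hsq_inj z' hz'X z hzX (by rw [hz2, h2])
      have h4 : y' = x * z⁻¹ := by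
        rw [hxy', h3, mul_inv_cancel_right]
      rw [h3, h4]
  refine ⟨hdecomp, ?_, ?_⟩
  · -- cardinality
    have e : (↥(X ⊓ Subgroup.centralizer {t}) × (Cfsg.invertedBy X t)) ≃ X := by
      refine Equiv.ofBijective (fun p => ⟨p.1.1 * p.2.1, X.mul_mem p.1.2.1 ((hinv _).mp p.2.2).1⟩) ⟨?_, ?_⟩
      · rintro ⟨⟨y₁, hy₁⟩, ⟨z₁, hz₁⟩⟩ ⟨⟨y₂, hy₂⟩, ⟨z₂, hz₂⟩⟩ h
        have h' : y₁ * z₁ = y₂ * z₂ := congrArg Subtype.val h
        have hx : y₁ * z₁ ∈ X := X.mul_mem hy₁.1 ((hinv _).mp hz₁).1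
        obtain ⟨p, -, hp⟩ := hdecomp _ hx
        have e1 := hp (y₁, z₁) ⟨hy₁, hz₁, rfl⟩
        have e2 := hp (y₂, z₂) ⟨hy₂, hz₂, h'⟩
        have e3 : (y₁, z₁) = (y₂, z₂) := e1.trans e2.symm
        simp only [Prod.mk.injEq] at e3
        obtain ⟨rfl, rfl⟩ := e3
        rfl
      · rintro ⟨x, hx⟩
        obtain ⟨⟨y, z⟩, ⟨hy, hz, hxyz⟩, -⟩ := hdecomp x hx
        exact ⟨(⟨y, hy⟩, ⟨z, hz⟩), Subtype.ext hxyz.symm⟩
    rw [← Nat.card_congr e, Nat.card_prod]
  · -- normality of the closure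
    have hconjZ : ∀ x ∈ X, ∀ z ∈ Cfsg.invertedBy X t,
        x * z * x⁻¹ ∈ Subgroup.closure (Cfsg.invertedBy X t) := by
      intro x hx z hz
      obtain ⟨⟨y, z₁⟩, ⟨hy, hz₁, hxyz⟩, -⟩ := hdecomp x hx
      simp only at hy hz₁ hxyz
      obtain ⟨hzX, hσz⟩ := (hinv z).mp hz
      obtain ⟨hz₁X, hσz₁⟩ := (hinv z₁).mp hz₁
      have hσy : MulAut.conj t y = y := (hcent y).mp hy.2
      -- z₁ z z₁⁻¹ ∈ closure, and conj by y preserves Z
      have hyZ : ∀ u ∈ Cfsg.invertedBy X t, y * u * y⁻¹ ∈ Cfsg.invertedBy X t := by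
        intro u hu
        obtain ⟨huX, hσu⟩ := (hinv u).mp hu
        refine (hinv _).mpr ⟨X.mul_mem (X.mul_mem hy.1 huX) (X.inv_mem hy.1), ?_⟩
        rw [map_mul, map_mul, map_inv, hσy, hσu]
        group
      have hyC : ∀ u ∈ Subgroup.closure (Cfsg.invertedBy X t),
          y * u * y⁻¹ ∈ Subgroup.closure (Cfsg.invertedBy X t) := by
        intro u hu
        induction hu using Subgroup.closure_induction with
        | mem u hu => exact Subgroup.subset_closure (hyZ u hu)
        | one => simp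
        | mul a b _ _ ha hb =>
          have : y * (a * b) * y⁻¹ = (y * a * y⁻¹) * (y * b * y⁻¹) := by group
          rw [this]; exact Subgroup.mul_mem _ ha hb
        | inv a _ ha =>
          have : y * a⁻¹ * y⁻¹ = (y * a * y⁻¹)⁻¹ := by group
          rw [this]; exact Subgroup.inv_mem _ ha
      have hin : z₁ * z * z₁⁻¹ ∈ Subgroup.closure (Cfsg.invertedBy X t) :=
        Subgroup.mul_mem _ (Subgroup.mul_mem _ (Subgroup.subset_closure hz₁)
          (Subgroup.subset_closure hz)) (Subgroup.inv_mem _ (Subgroup.subset_closure hz₁))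
      have : x * z * x⁻¹ = y * (z₁ * z * z₁⁻¹) * y⁻¹ := by rw [hxyz]; group
      rw [this]
      exact hyC _ hin
    have hconjC : ∀ x ∈ X, ∀ u ∈ Subgroup.closure (Cfsg.invertedBy X t),
        x * u * x⁻¹ ∈ Subgroup.closure (Cfsg.invertedBy X t) := by
      intro x hx u hu
      induction hu using Subgroup.closure_induction with
      | mem u hu => exact hconjZ x hx u hu
      | one => simp
      | mul a b _ _ ha hb =>
        have : x * (a * b) * x⁻¹ = (x * a * x⁻¹) * (x * b * x⁻¹) := by group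
        rw [this]; exact Subgroup.mul_mem _ ha hb
      | inv a _ ha =>
        have : x * a⁻¹ * x⁻¹ = (x * a * x⁻¹)⁻¹ := by group
        rw [this]; exact Subgroup.inv_mem _ ha
    intro x hx
    apply le_antisymm
    · intro u hu
      rw [Subgroup.mem_smul_pointwise_iff_exists] at hu
      obtain ⟨s, hs, rfl⟩ := hu
      rw [MulAut.smul_def, MulAut.conj_apply]
      exact hconjC x hx s hs
    · intro u hu
      rw [Subgroup.mem_smul_pointwise_iff_exists]
      refine ⟨x⁻¹ * u * x, ?_, ?_⟩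
      · have := hconjC x⁻¹ (X.inv_mem hx) u hu
        rwa [inv_inv] at this
      · rw [MulAut.smul_def, MulAut.conj_apply]; group

end Cfsg.Agent.S1124
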