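import Mathlib
import Cfsg.Statements.S4365
import Cfsg.Agent.Lib.Helper7_Norm

set_option autoImplicit false
open Cfsg

namespace Cfsg.Agent.S4365

open Cfsg.Agent.Lib.Helper7_Norm

section
variable {P : Type*} [Group P]

/-- abbreviation: centralizer of an element -/
abbrev Cz (g : P) : Subgroup P := Subgroup.centralizer ({g} : Set P)

theorem mem_Cz {g c : P} : c ∈ Cz g ↔ g * c = c * g := by
  unfold Cz
  rw [Subgroup.mem_centralizer_iff]
  simp

theorem Cz_eq_top {g : P} : Cz g = ⊤ ↔ g ∈ Subgroup.center P := by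
  unfold Cz
  rw [Subgroup.centralizer_eq_top_iff_subset]
  simp

theorem eq_of_le_of_index_eq [Finite P] {H K : Subgroup P} (hle : H ≤ K) (hi : H.index = K.index) :
    H = K := by
  have h1 := H.card_mul_index
  have h2 := K.card_mul_index
  have hK : K.index ≠ 0 := Subgroup.index_ne_zero_of_finite
  have : Nat.card H = Nat.card K := by
    rw [hi] at h1
    exact Nat.eq_of_mul_eq_mul_right (Nat.pos_of_ne_zero hK) (h1.trans h2.symm)
  exact Subgroup.eq_of_le_of_card_ge hle this.ge

end

section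
variable {P : Type*} [Group P] [Finite P] (n : ℕ)
  (h : ∀ x : P, (Cz x).index = 1 ∨ (Cz x).index = n)

include h in
theorem index_eq_of_not_mem {g : P} (hg : g ∉ Subgroup.center P) : (Cz g).index = n := by
  rcases h g with h1 | h1
  · exact absurd (Cz_eq_top.mp (Subgroup.index_eq_one.mp h1)) hg
  · exact h1

include h in
/-- L1 -/
theorem Cz_eq_of_le {g k : P} (hk : k ∉ Subgroup.center P) (hle : Cz g ≤ Cz k) : Cz g = Cz k := by
  have hg : g ∉ Subgroup.center P := by
    intro hg
    have := Cz_eq_top.mpr hg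
    rw [this] at hle
    exact hk (Cz_eq_top.mp (top_le_iff.mp hle))
  exact eq_of_le_of_index_eq hle ((index_eq_of_not_mem n h hg).trans (index_eq_of_not_mem n h hk).symm)

include h in
theorem Cz_pow_eq {v : P} {m : ℕ} (hv : v ^ m ∉ Subgroup.center P) : Cz v = Cz (v ^ m) := by
  apply Cz_eq_of_le n h hv
  intro c hc
  rw [mem_Cz] at hc ⊢
  exact ((Commute.pow_left (show Commute v c from hc) m)).eq

end

section
variable {P : Type*} [Group P] [Finite P] (p : ℕ) [Fact p.Prime] (n : ℕ)
  (h : ∀ x : P, (Cz x).index = 1 ∨ (Cz x).index = n)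
  (w : P) (hw : w ∉ Subgroup.center P) (hwp : w ^ p ∈ Subgroup.center P)
  (hwz : ∀ g : P, w * g * w⁻¹ * g⁻¹ ∈ Subgroup.center P)

omit [Finite P] in
theorem conj_w (g : P) : w * g * w⁻¹ = (w * g * w⁻¹ * g⁻¹) * g := by group

omit [Finite P] in
include hwz in
theorem z_mul (g k : P) : w * (g * k) * w⁻¹ * (g * k)⁻¹ = (w * g * w⁻¹ * g⁻¹) * (w * k * w⁻¹ * k⁻¹) := by
  have hk := Subgroup.mem_center_iff.mp (hwz k)
  have : w * (g * k) * w⁻¹ * (g * k)⁻¹ = (w * g * w⁻¹) * (w * k * w⁻¹ * k⁻¹) * g⁻¹ := by group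
  rw [this, mul_assoc (w * g * w⁻¹), ← hk g⁻¹]
  group

/-- the hom `g ↦ [w,g]` into the center -/
noncomputable def phi : P →* Subgroup.center P where
  toFun g := ⟨w * g * w⁻¹ * g⁻¹, hwz g⟩
  map_one' := by
    apply Subtype.ext
    simp
  map_mul' g k := by
    apply Subtype.ext
    exact z_mul w hwz g k

theorem mem_ker_phi {g : P} : g ∈ (phi w hwz).ker ↔ g ∈ Cz w := by
  rw [MonoidHom.mem_ker, mem_Cz, Subtype.ext_iff]
  change w * g * w⁻¹ * g⁻¹ = 1 ↔ _
  constructor
  · intro h1
    have : w * g = (w * g * w⁻¹ * g⁻¹) * (g * w) := by group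
    rw [this, h1, one_mul]
  · intro h1
    have : w * g * w⁻¹ * g⁻¹ = (w * g) * (g * w)⁻¹ := by group
    rw [this, h1, mul_inv_cancel]

theorem ker_phi : (phi w hwz).ker = Cz w := by
  ext g
  exact mem_ker_phi w hwz

include hwp hwz in
theorem z_pow (g : P) : (w * g * w⁻¹ * g⁻¹) ^ p = 1 := by
  have key : ∀ k : ℕ, w ^ k * g * (w ^ k)⁻¹ = (w * g * w⁻¹ * g⁻¹) ^ k * g := by
    intro k
    induction k with
    | zero => simp
    | succ k ih =>
      have hz := Subgroup.mem_center_iff.mp (Subgroup.pow_mem _ (hwz g) k)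
      have : w ^ (k + 1) * g * (w ^ (k + 1))⁻¹ = w * (w ^ k * g * (w ^ k)⁻¹) * w⁻¹ := by
        rw [pow_succ']; group
      rw [this, ih, pow_succ]
      have h2 : w * ((w * g * w⁻¹ * g⁻¹) ^ k * g) * w⁻¹ = w * (w * g * w⁻¹ * g⁻¹) ^ k * (g * w⁻¹) := by
        group
      have h3 : w * (g * w⁻¹) = (w * g * w⁻¹ * g⁻¹) * g := by group
      rw [h2, hz w, mul_assoc, h3, ← mul_assoc]
  have h1 := key p
  have hc := Subgroup.mem_center_iff.mp hwp
  have h2 : w ^ p * g * (w ^ p)⁻¹ = g := by
    rw [← hc g]; group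
  rw [h2] at h1
  have : (w * g * w⁻¹ * g⁻¹) ^ p * g = 1 * g := by rw [one_mul]; exact h1.symm
  exact mul_right_cancel this

include hwp hwz in
theorem pow_mem_Cz (g : P) : g ^ p ∈ Cz w := by
  rw [← mem_ker_phi w hwz, MonoidHom.mem_ker, map_pow]
  apply Subtype.ext
  rw [Subgroup.coe_pow]
  exact z_pow p w hwp hwz g

include hwz in
theorem comm_mem_Cz (g k : P) : g * k * g⁻¹ * k⁻¹ ∈ Cz w := by
  rw [← mem_ker_phi w hwz, MonoidHom.mem_ker]
  simp only [map_mul, map_inv]
  have hc : (phi w hwz) g * (phi w hwz) k = (phi w hwz) k * (phi w hwz) g := by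
    apply Subtype.ext
    rw [Subgroup.coe_mul, Subgroup.coe_mul]
    exact (Subgroup.mem_center_iff.mp ((phi w hwz) g).2 _).symm
  rw [hc]
  group

include hwz in
theorem Cz_normal : (Cz w).Normal := by
  rw [← ker_phi w hwz]
  infer_instance

include h hw hwp hwz in
/-- every `v` with `v ^ p` non-central has the same centralizer as `w`. -/
theorem Cz_eq_w {v : P} (hv : v ^ p ∉ Subgroup.center P) : Cz v = Cz w := by
  have e1 : Cz v = Cz (v ^ p) := Cz_pow_eq n h hv
  -- w commutes with v^p
  have hzv := hwz v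
  have hzc : Commute (w * v * w⁻¹ * v⁻¹) v := (Subgroup.mem_center_iff.mp hzv v).symm
  have h1 : w * v ^ p * w⁻¹ = v ^ p := by
    have : w * v ^ p * w⁻¹ = (w * v * w⁻¹) ^ p := by
      rw [conj_pow]
    rw [this, conj_w w v, hzc.mul_pow, z_pow p w hwp hwz v, one_mul]
  have hwv : w ∈ Cz v := by
    rw [e1, mem_Cz]
    have : v ^ p * w = (w * v ^ p * w⁻¹)⁻¹⁻¹ * w := by rw [h1]; group
    rw [this]; group
  have hcomm : Commute v w := mem_Cz.mp hwv
  have hvw : (v * w) ^ p = v ^ p * w ^ p := hcomm.mul_pow p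
  have hvwn : (v * w) ^ p ∉ Subgroup.center P := by
    intro hc
    rw [hvw] at hc
    apply hv
    have := Subgroup.mul_mem _ hc (Subgroup.inv_mem _ hwp)
    simpa using this
  have e2 : Cz (v * w) = Cz ((v * w) ^ p) := Cz_pow_eq n h hvwn
  have e3 : Cz ((v * w) ^ p) = Cz (v ^ p) := by
    rw [hvw]
    ext c
    rw [mem_Cz, mem_Cz]
    have hc := Subgroup.mem_center_iff.mp hwp
    constructor
    · intro h3
      have : v ^ p * c * w ^ p = c * v ^ p * w ^ p := by
        calc v ^ p * c * w ^ p = v ^ p * (c * w ^ p) := mul_assoc _ _ _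
          _ = v ^ p * (w ^ p * c) := by rw [hc c]
          _ = v ^ p * w ^ p * c := (mul_assoc _ _ _).symm
          _ = c * (v ^ p * w ^ p) := h3
          _ = c * v ^ p * w ^ p := (mul_assoc _ _ _).symm
      exact mul_right_cancel this
    · intro h3
      calc v ^ p * w ^ p * c = v ^ p * (w ^ p * c) := mul_assoc _ _ _
        _ = v ^ p * (c * w ^ p) := by rw [hc c]
        _ = v ^ p * c * w ^ p := (mul_assoc _ _ _).symm
        _ = c * v ^ p * w ^ p := by rw [h3]
        _ = c * (v ^ p * w ^ p) := mul_assoc _ _ _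
  have hle : Cz v ≤ Cz w := by
    intro c hc
    have hc2 : c ∈ Cz (v * w) := by rw [e2, e3, ← e1]; exact hc
    rw [mem_Cz] at hc hc2 ⊢
    -- v w c = c v w, v c = c v
    have : v * (w * c) = v * (c * w) := by
      calc v * (w * c) = v * w * c := (mul_assoc _ _ _).symm
        _ = c * (v * w) := hc2
        _ = c * v * w := (mul_assoc _ _ _).symm
        _ = v * c * w := by rw [hc]
        _ = v * (c * w) := mul_assoc _ _ _
    exact mul_left_cancel this
  exact Cz_eq_of_le n h hw hle

end

section main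
variable {P : Type*} [Group P] [Finite P] (p : ℕ) [Fact p.Prime]

theorem exists_w (hP : IsPGroup p P) (hna : ∃ x : P, x ∉ Subgroup.center P) :
    ∃ w : P, w ∉ Subgroup.center P ∧ w ^ p ∈ Subgroup.center P ∧
      ∀ g : P, w * g * w⁻¹ * g⁻¹ ∈ Subgroup.center P := by
  obtain ⟨x, hx⟩ := hna
  haveI : Nontrivial (P ⧸ Subgroup.center P) := by
    refine ⟨⟨(QuotientGroup.mk x : P ⧸ Subgroup.center P), 1, ?_⟩⟩
    intro h
    exact hx ((QuotientGroup.eq_one_iff x).mp h)
  have hQ : IsPGroup p (P ⧸ Subgroup.center P) := hP.to_quotient _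
  haveI := hQ.center_nontrivial
  have hZQ : IsPGroup p (Subgroup.center (P ⧸ Subgroup.center P)) := hQ.to_subgroup _
  have hdvd : p ∣ Nat.card (Subgroup.center (P ⧸ Subgroup.center P)) := by
    rcases hZQ.card_eq_or_dvd with h1 | h1
    · exfalso
      have := Finite.one_lt_card (α := Subgroup.center (P ⧸ Subgroup.center P))
      omega
    · exact h1
  obtain ⟨wbar, hwbar⟩ := exists_prime_orderOf_dvd_card' p hdvd
  obtain ⟨w, hw⟩ := QuotientGroup.mk_surjective (wbar : P ⧸ Subgroup.center P)
  have hp : p.Prime := Fact.out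
  refine ⟨w, ?_, ?_, ?_⟩
  · intro hc
    have h1 : (wbar : P ⧸ Subgroup.center P) = 1 := by
      rw [← hw]; exact (QuotientGroup.eq_one_iff w).mpr hc
    have h2 : wbar = 1 := Subtype.ext h1
    rw [h2, orderOf_one] at hwbar
    exact hp.one_lt.ne hwbar
  · have h1 : wbar ^ p = 1 := by rw [← hwbar]; exact pow_orderOf_eq_one wbar
    have h2 : ((wbar ^ p : Subgroup.center (P ⧸ Subgroup.center P)) : P ⧸ Subgroup.center P) = 1 := by
      rw [h1]; rfl
    rw [Subgroup.coe_pow, ← hw, ← QuotientGroup.mk_pow] at h2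
    exact (QuotientGroup.eq_one_iff _).mp h2
  · intro g
    have h1 := Subgroup.mem_center_iff.mp wbar.2 (QuotientGroup.mk g)
    rw [← hw] at h1
    apply (QuotientGroup.eq_one_iff _).mp
    simp only [QuotientGroup.mk_mul, QuotientGroup.mk_inv]
    rw [← h1]
    group

theorem main (hP : IsPGroup p P) (n : ℕ) (h : ∀ x : P, (Cz x).index = 1 ∨ (Cz x).index = n) (x : P) :
    x ^ p ∈ Subgroup.center P := by
  have hp : p.Prime := Fact.out
  by_contra hx
  have hx1 : x ∉ Subgroup.center P := fun hc => hx (Subgroup.pow_mem _ hc p)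
  obtain ⟨w, hw, hwp, hwz⟩ := exists_w p hP ⟨x, hx1⟩
  have hA : Cz x = Cz w := Cz_eq_w p n h w hw hwp hwz hx
  have hn : (Cz w).index = n := index_eq_of_not_mem n h hw
  obtain ⟨k, hk⟩ := IsPGroup.iff_card.mp hP
  have hdv : n ∣ p ^ k := by rw [← hn, ← hk]; exact Subgroup.index_dvd_card _
  obtain ⟨a, ha, rfl⟩ := (Nat.dvd_prime_pow hp).mp hdv
  have ha1 : a ≠ 0 := by
    rintro rfl
    rw [pow_zero] at hn
    exact hw (Cz_eq_top.mp (Subgroup.index_eq_one.mp hn))
  by_cases ha2 : a = 1
  · subst ha2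
    apply hx
    rw [Subgroup.mem_center_iff]
    intro g
    have hmem : x ^ p ∈ Cz g := by
      rcases h g with h1 | h1
      · rw [Subgroup.index_eq_one.mp h1]; trivial
      · rw [pow_one] at h1
        have hk0 : k ≠ 0 := by
          rintro rfl
          rw [pow_zero] at hk
          have := Subgroup.index_dvd_card (Cz g)
          rw [hk, h1] at this
          exact hp.one_lt.ne' (Nat.dvd_one.mp this)
        haveI : (Cz g).Normal := Subgroup.normal_of_index_eq_minFac_card (by
          rw [h1, hk, hp.pow_minFac hk0])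
        have h2 : ((x : P ⧸ Cz g)) ^ p = 1 := by
          have := pow_card_eq_one' (G := P ⧸ Cz g) (x := (x : P ⧸ Cz g))
          rwa [← Subgroup.index_eq_card, h1] at this
        exact (QuotientGroup.eq_one_iff _).mp (by rw [QuotientGroup.mk_pow]; exact h2)
    exact mem_Cz.mp hmem
  · have ha3 : 2 ≤ a := by omega
    haveI hAn : (Cz w).Normal := Cz_normal w hwz
    have hxA : x ∈ Cz w := by rw [← hA, mem_Cz]
    -- A abelian
    have hab : ∀ c d : P, c ∈ Cz w → d ∈ Cz w → c * d = d * c := by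
      intro c d hc hd
      by_cases hcp : c ^ p ∈ Subgroup.center P
      · have hcx : Commute c x := by
          have : c ∈ Cz x := by rw [hA]; exact hc
          exact (mem_Cz.mp this).symm
        have hcxp : (c * x) ^ p ∉ Subgroup.center P := by
          rw [hcx.mul_pow]
          intro hcc
          apply hx
          have := Subgroup.mul_mem _ (Subgroup.inv_mem _ hcp) hcc
          simpa using this
        have e := Cz_eq_w p (p ^ a) h w hw hwp hwz hcxp
        have hd1 : d ∈ Cz (c * x) := by rw [e]; exact hd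
        have hd2 : d ∈ Cz x := by rw [hA]; exact hd
        rw [mem_Cz] at hd1 hd2
        have : c * d * x = d * c * x := by
          calc c * d * x = c * (d * x) := mul_assoc _ _ _
            _ = c * (x * d) := by rw [hd2]
            _ = c * x * d := (mul_assoc _ _ _).symm
            _ = d * (c * x) := hd1
            _ = d * c * x := (mul_assoc _ _ _).symm
        exact mul_right_cancel this
      · have e := Cz_eq_w p (p ^ a) h w hw hwp hwz hcp
        have hd1 : d ∈ Cz c := by rw [e]; exact hd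
        exact mem_Cz.mp hd1
    have hfix : ∀ g u : P, g ∉ Cz w → u ∈ Cz w → g * u = u * g → u ∈ Subgroup.center P := by
      intro g u hg hu hgu
      by_contra huZ
      have hle : Cz w ≤ Cz u := by
        intro c hc
        rw [mem_Cz]
        exact hab u c hu hc
      have e := Cz_eq_of_le (p ^ a) h huZ hle
      apply hg
      rw [e, mem_Cz]
      exact hgu.symm
    have hcardQ : Nat.card (P ⧸ Cz w) = p ^ a := by rw [← Subgroup.index_eq_card]; exact hn
    have hpowQ : ∀ q : P ⧸ Cz w, q ^ p = 1 := by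
      intro q
      obtain ⟨g, rfl⟩ := QuotientGroup.mk_surjective q
      rw [← QuotientGroup.mk_pow]
      exact (QuotientGroup.eq_one_iff _).mpr (pow_mem_Cz p w hwp hwz g)
    haveI : Nontrivial (P ⧸ Cz w) := by
      apply Finite.one_lt_card_iff_nontrivial.mp
      rw [hcardQ]; exact Nat.one_lt_pow ha1 hp.one_lt
    obtain ⟨hbar, hhbar⟩ := exists_ne (1 : P ⧸ Cz w)
    have hord : orderOf hbar = p := by
      have := orderOf_dvd_of_pow_eq_one (hpowQ hbar)
      rcases (Nat.dvd_prime hp).mp this with h1 | h1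
      · exact absurd (orderOf_eq_one_iff.mp h1) hhbar
      · exact h1
    have hex : ∃ gbar : P ⧸ Cz w, gbar ∉ Subgroup.zpowers hbar := by
      by_contra hcon
      push Not at hcon
      have htop : Subgroup.zpowers hbar = ⊤ := by
        rw [eq_top_iff]; intro q _; exact hcon q
      have h1 : Nat.card (Subgroup.zpowers hbar) = p ^ a := by
        rw [htop, Subgroup.card_top, hcardQ]
      rw [Nat.card_zpowers, hord] at h1
      have h2 : p ^ 1 = p ^ a := by rw [pow_one]; exact h1
      have := Nat.pow_right_injective hp.two_le h2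
      omega
    obtain ⟨gbar, hgbar⟩ := hex
    obtain ⟨g, rfl⟩ := QuotientGroup.mk_surjective gbar
    obtain ⟨h', rfl⟩ := QuotientGroup.mk_surjective hbar
    have hh : h' ∉ Cz w := fun hc => hhbar ((QuotientGroup.eq_one_iff _).mpr hc)
    have hgh : ∀ j : ℕ, g * h' ^ j ∉ Cz w := by
      intro j hc
      apply hgbar
      have h1 : ((g * h' ^ j : P) : P ⧸ Cz w) = 1 := (QuotientGroup.eq_one_iff _).mpr hc
      rw [QuotientGroup.mk_mul, QuotientGroup.mk_pow] at h1
      have : (g : P ⧸ Cz w) = ((h' : P ⧸ Cz w) ^ j)⁻¹ := eq_inv_of_mul_eq_one_left h1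
      rw [this]
      exact Subgroup.inv_mem _ (Subgroup.pow_mem _ (Subgroup.mem_zpowers _) j)
    have hconj1 : ∀ c : P, c ∈ Cz w → (MulAut.conjNormal c : MulAut (Cz w)) = 1 := by
      intro c hc
      ext u
      rw [MulAut.conjNormal_apply, MulAut.one_apply]
      rw [hab c u hc u.2]; group
    have hαβ : (MulAut.conjNormal g : MulAut (Cz w)) * MulAut.conjNormal h'
        = MulAut.conjNormal h' * MulAut.conjNormal g := by
      rw [← map_mul, ← map_mul]
      have : g * h' = (g * h' * g⁻¹ * h'⁻¹) * (h' * g) := by group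
      rw [this, map_mul, hconj1 _ (comm_mem_Cz w hwz g h'), one_mul]
    have hαp : (MulAut.conjNormal g : MulAut (Cz w)) ^ p = 1 := by
      rw [← map_pow]; exact hconj1 _ (pow_mem_Cz p w hwp hwz g)
    have hβp : (MulAut.conjNormal h' : MulAut (Cz w)) ^ p = 1 := by
      rw [← map_pow]; exact hconj1 _ (pow_mem_Cz p w hwp hwz h')
    have hfixα : ∀ (k : P) (u : Cz w), k ∉ Cz w → (MulAut.conjNormal k : MulAut (Cz w)) u = u →
        u ∈ (Subgroup.center P).subgroupOf (Cz w) := by
      intro k u hk hu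
      rw [Subgroup.mem_subgroupOf]
      apply hfix k u hk u.2
      have h1 := congrArg Subtype.val hu
      rw [MulAut.conjNormal_apply] at h1
      calc k * (u : P) = k * u * k⁻¹ * k := by group
        _ = u * k := by rw [h1]
    have key := pow_mem_of_fixed' (B := Cz w) (fun a b => Subtype.ext (hab a b a.2 b.2))
      (MulAut.conjNormal g) (MulAut.conjNormal h') hαβ hαp hβp
      ((Subgroup.center P).subgroupOf (Cz w)) ?_ ?_ ⟨x, hxA⟩
    · apply hx
      rw [Subgroup.mem_subgroupOf] at key
      simpa using key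
    · intro j u hu
      have : (MulAut.conjNormal g : MulAut (Cz w)) * MulAut.conjNormal h' ^ j
          = MulAut.conjNormal (g * h' ^ j) := by rw [map_mul, map_pow]
      rw [this] at hu
      exact hfixα _ u (hgh j) hu
    · intro u hu
      exact hfixα _ u hh hu

end main

/-- Let P be a finite p-group whose conjugacy class sizes are exactly 1 and pᵃ for some a ≥ 1. Then every element of P has its p-th power in the center of P (P/Z(P) has exponent p). -/
theorem result {P : Type*} [Group P] [Finite P] (p : ℕ) [Fact p.Prime]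
    (hP : IsPGroup p P) (a : ℕ) (ha : 1 ≤ a)
    (hcs : {k : ℕ | ∃ x : P, (Subgroup.centralizer ({x} : Set P)).index = k} = {1, p ^ a}) (x : P) :
    x ^ p ∈ Subgroup.center P := by
  apply main p hP (p ^ a) _ x
  intro y
  have : (Subgroup.centralizer ({y} : Set P)).index ∈ ({1, p ^ a} : Set ℕ) := by
    rw [← hcs]; exact ⟨y, rfl⟩
  simpa using this

end Cfsg.Agent.S4365
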