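import Mathlib
import Cfsg.Statements.S4341
import Cfsg.Agent.S4244
import Cfsg.Agent.Lib.Helper7_SylowCount

set_option autoImplicit false
open Cfsg

namespace Cfsg.Agent.S4341

open Subgroup
open Cfsg.Agent.Lib.Helper7_SylowCount

/-- A finite `p`-group has exactly one Sylow `p`-subgroup. -/
theorem card_sylow_of_isPGroup {H : Type*} [Group H] [Finite H] (p : ℕ) [Fact p.Prime]
    (hH : IsPGroup p H) : Nat.card (Sylow p H) = 1 := by
  have hp := (Fact.out : p.Prime)
  obtain ⟨P⟩ : Nonempty (Sylow p H) := inferInstance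
  obtain ⟨k, hk⟩ := hH.exists_card_eq
  have h1 : Nat.card (Sylow p H) ∣ p ^ k := by
    rw [← hk]
    exact (Sylow.card_dvd_index P).trans (index_dvd_card _)
  obtain ⟨j, _, hj⟩ := (Nat.dvd_prime_pow hp).mp h1
  have h2 := card_sylow_modEq_one p H
  rw [hj] at h2 ⊢
  rcases Nat.eq_zero_or_pos j with h0 | h0
  · rw [h0, pow_zero]
  · exfalso
    have h3 : p ∣ p ^ j := dvd_pow_self p (by omega)
    have h4 : p ^ j % p = 0 := Nat.mod_eq_zero_of_dvd h3
    have h5 : p ^ j % p = 1 % p := h2
    rw [h4, Nat.mod_eq_of_lt hp.one_lt] at h5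
    omega

/-- the Sylow subgroup of a normal subgroup cut out by a Sylow subgroup of the group -/
theorem not_dvd_relIndex_normal {G : Type*} [Group G] [Finite G] (p : ℕ) [Fact p.Prime]
    (K : Subgroup G) [K.Normal] (P : Sylow p G) : ¬ p ∣ (P : Subgroup G).relIndex K := by
  have e1 : (P : Subgroup G).relIndex K = (P : Subgroup G).relIndex (K ⊔ P) := by
    rw [Cfsg.Agent.S4244.second_iso_abs K (P : Subgroup G), inf_comm, inf_relIndex_right]
  rw [e1]
  intro h
  exact P.not_dvd_index (h.trans (relIndex_dvd_index_of_le le_sup_right))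

/-- Let K be a normal subgroup of a finite group G, p a prime and P a Sylow p-subgroup of G; let N be the normalizer of P ∩ K inside the subgroup PK. Then the number of Sylow p-subgroups of G equals the product of the numbers of Sylow p-subgroups of G/K, of K, and of N/(P ∩ K). (The normality of P ∩ K in N, which always holds, is assumed as a hypothesis so that the quotient can be formed.) -/
theorem result {G : Type*} [Group G] [Finite G]
    (p : ℕ) [Fact p.Prime] (K : Subgroup G) [K.Normal] (P : Sylow p G) (N : Subgroup G)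
    (hN : N = ((P : Subgroup G) ⊔ K) ⊓ Subgroup.normalizer (((P : Subgroup G) ⊓ K : Subgroup G) : Set G))
    [hn : (((P : Subgroup G) ⊓ K).subgroupOf N).Normal] :
    Nat.card (Sylow p G) =
      Nat.card (Sylow p (G ⧸ K)) * Nat.card (Sylow p K) * Nat.card (Sylow p (N ⧸ ((P : Subgroup G) ⊓ K).subgroupOf N)) := by
  -- notation
  have hPL : (P : Subgroup G) ≤ (P : Subgroup G) ⊔ K := le_sup_left
  have hKL : K ≤ (P : Subgroup G) ⊔ K := le_sup_right
  -- P normalizes D = P ⊓ K
  have hNPD : normalizer ((P : Subgroup G) : Set G) ≤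
      normalizer (((P : Subgroup G) ⊓ K : Subgroup G) : Set G) := by
    intro g hg
    rw [mem_normalizer_iff] at hg ⊢
    intro x
    rw [mem_inf, mem_inf, hg x]
    have hK : x ∈ K ↔ g * x * g⁻¹ ∈ K :=
      ⟨fun h => (inferInstance : K.Normal).conj_mem x h g, fun h => by
        have := (inferInstance : K.Normal).conj_mem _ h g⁻¹
        simpa [mul_assoc] using this⟩
    rw [hK]
  have hPD : (P : Subgroup G) ≤ normalizer (((P : Subgroup G) ⊓ K : Subgroup G) : Set G) :=
    le_normalizer.trans hNPD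
  have hPN : (P : Subgroup G) ≤ N := by rw [hN]; exact le_inf hPL hPD
  have hNL : N ≤ (P : Subgroup G) ⊔ K := by rw [hN]; exact inf_le_left
  -- step 1
  have h1 := card_sylow_eq_mul p K P
  -- n_p(L) = N_G(P).relIndex L
  have h3 : Nat.card (Sylow p ↥((P : Subgroup G) ⊔ K)) =
      (normalizer ((P : Subgroup G) : Set G)).relIndex ((P : Subgroup G) ⊔ K) := by
    have e1 : Nat.card (Sylow p ↥((P : Subgroup G) ⊔ K)) = (normalizer
        (((P : Subgroup G).subgroupOf ((P : Subgroup G) ⊔ K) :
          Subgroup ↥((P : Subgroup G) ⊔ K)) : Set ↥((P : Subgroup G) ⊔ K))).index :=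
      Sylow.card_eq_index_normalizer (P.subtype hPL)
    rw [e1, ← subgroupOf_normalizer_eq hPL]
    rfl
  -- n_p(N) = N_G(P).relIndex N
  have h4 : Nat.card (Sylow p ↥N) = (normalizer ((P : Subgroup G) : Set G)).relIndex N := by
    have e1 : Nat.card (Sylow p ↥N) = (normalizer
        (((P : Subgroup G).subgroupOf N : Subgroup ↥N) : Set ↥N)).index :=
      Sylow.card_eq_index_normalizer (P.subtype hPN)
    rw [e1, ← subgroupOf_normalizer_eq hPN]
    rfl
  -- n_p(K) = N_G(D).relIndex K
  have h5 : Nat.card (Sylow p ↥K) =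
      (normalizer (((P : Subgroup G) ⊓ K : Subgroup G) : Set G)).relIndex K := by
    let DK : Sylow p K := IsPGroup.toSylow (P := (P : Subgroup G).subgroupOf K)
      (IsPGroup.comap_subtype P.isPGroup' (K := K)) (not_dvd_relIndex_normal p K P)
    have e1 : Nat.card (Sylow p ↥K) = (normalizer
        (((P : Subgroup G).subgroupOf K : Subgroup ↥K) : Set ↥K)).index :=
      Sylow.card_eq_index_normalizer DK
    have e2 : (P : Subgroup G).subgroupOf K = ((P : Subgroup G) ⊓ K).subgroupOf K := by
      rw [inf_subgroupOf_right]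
    rw [e1, e2, ← subgroupOf_normalizer_eq (inf_le_right : (P : Subgroup G) ⊓ K ≤ K)]
    rfl
  -- N_G(D).relIndex L = N_G(D).relIndex K
  have h6 : N.relIndex ((P : Subgroup G) ⊔ K) =
      (normalizer (((P : Subgroup G) ⊓ K : Subgroup G) : Set G)).relIndex K := by
    have e1 := Cfsg.Agent.S4244.second_iso_abs K N
    have e2 : K ⊔ N = (P : Subgroup G) ⊔ K := by
      apply le_antisymm (sup_le hKL hNL)
      exact sup_le (hPN.trans le_sup_right) le_sup_left
    have e3 : K ⊓ N = normalizer (((P : Subgroup G) ⊓ K : Subgroup G) : Set G) ⊓ K := by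
      rw [hN, ← inf_assoc, inf_eq_left.mpr hKL, inf_comm]
    rw [e2, e3, inf_relIndex_right] at e1
    exact e1
  -- N_G(P).relIndex L = N_G(P).relIndex N * N.relIndex L
  have h7 : (normalizer ((P : Subgroup G) : Set G)).relIndex ((P : Subgroup G) ⊔ K) =
      (normalizer ((P : Subgroup G) : Set G)).relIndex N * N.relIndex ((P : Subgroup G) ⊔ K) := by
    have e1 : normalizer ((P : Subgroup G) : Set G) ⊓ N =
        normalizer ((P : Subgroup G) : Set G) ⊓ ((P : Subgroup G) ⊔ K) := by
      rw [hN, inf_comm ((P : Subgroup G) ⊔ K), ← inf_assoc, inf_eq_left.mpr hNPD]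
    have e2 := relIndex_mul_relIndex (normalizer ((P : Subgroup G) : Set G) ⊓ N) N
      ((P : Subgroup G) ⊔ K) inf_le_right hNL
    rw [inf_relIndex_right] at e2
    rw [e1, inf_relIndex_right] at e2
    exact e2.symm
  -- n_p(N/D) = n_p(N)
  have h8 : Nat.card (Sylow p ↥N) =
      Nat.card (Sylow p (↥N ⧸ ((P : Subgroup G) ⊓ K).subgroupOf N)) := by
    have e1 := card_sylow_eq_mul p (((P : Subgroup G) ⊓ K).subgroupOf N) (P.subtype hPN)
    have e2 : ((P.subtype hPN : Sylow p ↥N) : Subgroup ↥N) ⊔ ((P : Subgroup G) ⊓ K).subgroupOf N ≤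
        ((P.subtype hPN : Sylow p ↥N) : Subgroup ↥N) := by
      apply sup_le le_rfl
      intro x hx
      exact (mem_subgroupOf.mp hx).1
    have e3 : IsPGroup p ↥(((P.subtype hPN : Sylow p ↥N) : Subgroup ↥N) ⊔
        ((P : Subgroup G) ⊓ K).subgroupOf N) := (P.subtype hPN).isPGroup'.to_le e2
    rw [card_sylow_of_isPGroup p e3, mul_one] at e1
    exact e1
  rw [h1, h3, h7, ← h4, h6, ← h5, h8]
  ring

end Cfsg.Agent.S4341
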