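import Mathlib
import Cfsg.Statements.S0116
import Cfsg.Agent.Lib.Helper7_AlperinSys

set_option autoImplicit false

open Cfsg

namespace Cfsg.Agent.S0116

open Subgroup Cfsg.Agent.Lib.Helper7_Tame Cfsg.Agent.Lib.Helper7_AlperinSys
  Cfsg.Agent.Lib.Helper7_Basic
open scoped Pointwise

section
variable {G : Type*} [Group G] [Finite G] {p : ℕ} [Fact p.Prime]

/-- chains of conjugations through normalizers of tame intersections (right action). -/
inductive Chain (P : Sylow p G) : Set G → G → Prop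
  | nil (A : Set G) : Chain P A 1
  | cons (A : Set G) (Q : Sylow p G) (x g : G) (ht : Tame P Q)
      (hx : x ∈ normalizer (((P : Subgroup G) ⊓ (Q : Subgroup G) : Subgroup G) : Set G))
      (hA : A ⊆ (((P : Subgroup G) ⊓ (Q : Subgroup G) : Subgroup G) : Set G))
      (h : Chain P ((fun a => x⁻¹ * a * x) '' A) g) : Chain P A (x * g)

theorem Chain.mono {P : Sylow p G} {A A' : Set G} {g : G} (h : Chain P A' g) (hA : A ⊆ A') :
    Chain P A g := by
  induction h generalizing A with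
  | nil _ => exact Chain.nil A
  | cons A' Q x g ht hx hA' h ih =>
    exact Chain.cons A Q x g ht hx (hA.trans hA') (ih (Set.image_mono hA))

theorem Chain.append {P : Sylow p G} {A A' : Set G} {g₁ g₂ : G} (h₁ : Chain P A g₁)
    (h₂ : Chain P A' g₂) (hAA : (fun a => g₁⁻¹ * a * g₁) '' A ⊆ A') : Chain P A (g₁ * g₂) := by
  induction h₁ with
  | nil A =>
    rw [one_mul]
    refine h₂.mono ?_
    intro a ha
    apply hAA
    exact ⟨a, ha, by simp⟩
  | cons A Q x g ht hx hA h ih =>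
    rw [mul_assoc]
    refine Chain.cons A Q x _ ht hx hA (ih ?_)
    rintro _ ⟨_, ⟨a, ha, rfl⟩, rfl⟩
    apply hAA
    exact ⟨a, ha, by group⟩

theorem Chain.conj_mem {P : Sylow p G} {A : Set G} {g : G} (h : Chain P A g)
    (hA : A ⊆ (P : Set G)) : (fun a => g⁻¹ * a * g) '' A ⊆ (P : Set G) := by
  induction h with
  | nil A =>
    rintro _ ⟨a, ha, rfl⟩
    simpa using hA ha
  | cons A Q x g ht hx hAQ h ih =>
    have h1 : (fun a => x⁻¹ * a * x) '' A ⊆ (P : Set G) := by
      rintro _ ⟨a, ha, rfl⟩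
      have h2 := hAQ ha
      have h3 := (mem_normalizer_iff.mp (inv_mem hx) a).mp h2
      rw [inv_inv] at h3
      exact (Subgroup.mem_inf.mp h3).1
    have h4 := ih h1
    rintro _ ⟨a, ha, rfl⟩
    have h5 := h4 ⟨_, ⟨a, ha, rfl⟩, rfl⟩
    have e : (x * g)⁻¹ * a * (x * g) = g⁻¹ * (x⁻¹ * a * x) * g := by group
    beta_reduce
    rw [e]
    exact h5

theorem Chain.toFin {P : Sylow p G} {A : Set G} {g : G} (h : Chain P A g) :
    ∃ (n : ℕ) (Q : Fin n → Sylow p G) (x : Fin n → G), (List.ofFn x).prod = g ∧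
      (∀ i : Fin n, x i ∈ Subgroup.normalizer ((((P : Subgroup G) ⊓ (Q i : Subgroup G)) :
        Subgroup G) : Set G) ∧ Tame P (Q i)) ∧
      (∀ h : 0 < n, A ⊆ (((P : Subgroup G) ⊓ (Q ⟨0, h⟩ : Subgroup G) : Subgroup G) : Set G)) ∧
      ∀ i : Fin n, ∀ h : i.val + 1 < n,
        (fun a => (((List.ofFn x).take (i.val + 1)).prod)⁻¹ * a *
          ((List.ofFn x).take (i.val + 1)).prod) '' A ⊆
          (((P : Subgroup G) ⊓ (Q ⟨i.val + 1, h⟩ : Subgroup G) : Subgroup G) : Set G) := by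
  induction h with
  | nil A =>
    refine ⟨0, Fin.elim0, Fin.elim0, by simp, fun i => i.elim0, fun h => absurd h (lt_irrefl 0),
      fun i => i.elim0⟩
  | cons A Q₀ x₀ g ht hx hAQ h ih =>
    obtain ⟨n, Q, x, hprod, hall, h0, hstep⟩ := ih
    refine ⟨n + 1, Fin.cons Q₀ Q, Fin.cons x₀ x, ?_, ?_, ?_, ?_⟩
    · rw [List.ofFn_cons, List.prod_cons, hprod]
    · intro i
      refine Fin.cases ?_ (fun j => ?_) i
      · simpa using ⟨hx, ht⟩
      · simpa using hall j
    · intro _
      exact hAQ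
    · intro i hi
      rw [List.ofFn_cons, List.take_succ_cons, List.prod_cons]
      have hi' : i.val < n := by omega
      have hQ : (Fin.cons Q₀ Q : Fin (n + 1) → Sylow p G) ⟨i.val + 1, hi⟩ = Q ⟨i.val, hi'⟩ := by
        have : (⟨i.val + 1, hi⟩ : Fin (n + 1)) = Fin.succ ⟨i.val, hi'⟩ := rfl
        rw [this, Fin.cons_succ]
      rw [hQ]
      rintro _ ⟨a, ha, rfl⟩
      have e : (x₀ * (List.take i.val (List.ofFn x)).prod)⁻¹ * a *
          (x₀ * (List.take i.val (List.ofFn x)).prod) =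
          ((List.take i.val (List.ofFn x)).prod)⁻¹ * (x₀⁻¹ * a * x₀) *
            (List.take i.val (List.ofFn x)).prod := by group
      beta_reduce
      rw [e]
      rcases Nat.eq_zero_or_pos i.val with h00 | hpos
      · have h1 := h0 (by omega)
        have h2 : (⟨i.val, hi'⟩ : Fin n) = ⟨0, by omega⟩ := Fin.ext h00
        rw [h2]
        simp only [h00, List.take_zero, List.prod_nil, inv_one, one_mul, mul_one]
        exact h1 ⟨a, ha, rfl⟩
      · obtain ⟨j, hj⟩ : ∃ j : ℕ, i.val = j + 1 := ⟨i.val - 1, by omega⟩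
        have hjn : j < n := by omega
        have h1 := hstep ⟨j, hjn⟩ (by simp only; omega)
        have h2 : (⟨i.val, hi'⟩ : Fin n) = ⟨j + 1, by omega⟩ := Fin.ext hj
        rw [h2, hj]
        exact h1 ⟨_, ⟨a, ha, rfl⟩, rfl⟩

theorem tame_self (P : Sylow p G) : Tame P P := by
  have h : ¬ p ∣ ((P : Subgroup G) ⊓ normalizer (((P : Subgroup G) ⊓ (P : Subgroup G) :
      Subgroup G) : Set G)).relIndex
      (normalizer (((P : Subgroup G) ⊓ (P : Subgroup G) : Subgroup G) : Set G)) := by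
    rw [inf_idem, inf_relIndex_right]
    intro hd
    exact P.not_dvd_index (hd.trans (relIndex_dvd_index_of_le le_normalizer))
  exact ⟨h, h⟩

theorem sys (P : Sylow p G) : Sys P (fun D c => Chain P (D : Set G) c⁻¹) where
  mono := fun h hle => h.mono (by exact_mod_cast hle)
  comp := by
    intro D D' g₁ g₂ h₁ h₂ hD
    rw [mul_inv_rev]
    refine h₁.append h₂ ?_
    rintro _ ⟨d, hd, rfl⟩
    rw [inv_inv]
    exact hD d hd
  one := fun D => by rw [inv_one]; exact Chain.nil _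
  conj_mem := by
    intro D g hD h d hd
    have := h.conj_mem (by exact_mod_cast hD) ⟨d, hd, rfl⟩
    simpa using this
  tame := by
    intro Q ht x hx
    have := Chain.cons ((((P : Subgroup G) ⊓ (Q : Subgroup G) : Subgroup G)) : Set G) Q x⁻¹ 1 ht
      (inv_mem hx) le_rfl (Chain.nil _)
    rwa [mul_one] at this

end

/-- The Alperin fusion Theorem states that conjugation between subsets of a Sylow p-subgroup P factors through normalizers of tame intersections P ∩ Q_i with other Sylow p-subgroups, carrying the subset along step by step. -/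
theorem result {G : Type*} [Group G] [Finite G] {p : ℕ} [Fact p.Prime] (P : Sylow p G) (A : Set G) (g : G) (hA : A ⊆ (P : Set G)) (hAg : (fun a => g⁻¹ * a * g) '' A ⊆ (P : Set G)) : ∃ (n : ℕ) (Q : Fin n → Sylow p G) (x : Fin n → G), (List.ofFn x).prod = g ∧ (∀ i : Fin n, x i ∈ Subgroup.normalizer ((((P : Subgroup G) ⊓ (Q i : Subgroup G)) : Subgroup G) : Set G) ∧ ¬ p ∣ ((P : Subgroup G) ⊓ Subgroup.normalizer ((((P : Subgroup G) ⊓ (Q i : Subgroup G)) : Subgroup G) : Set G)).relIndex (Subgroup.normalizer ((((P : Subgroup G) ⊓ (Q i : Subgroup G)) : Subgroup G) : Set G)) ∧ ¬ p ∣ ((Q i : Subgroup G) ⊓ Subgroup.normalizer ((((P : Subgroup G) ⊓ (Q i : Subgroup G)) : Subgroup G) : Set G)).relIndex (Subgroup.normalizer ((((P : Subgroup G) ⊓ (Q i : Subgroup G)) : Subgroup G) : Set G))) ∧ (∀ h : 0 < n, A ⊆ (((P : Subgroup G) ⊓ (Q ⟨0, h⟩ : Subgroup G) : Subgroup G) : Set G)) ∧ ∀ i : Fin n, ∀ h : i.val + 1 < n, (fun a => (((List.ofFn x).take (i.val + 1)).prod)⁻¹ * a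 * ((List.ofFn x).take (i.val + 1)).prod) '' A ⊆ (((P : Subgroup G) ⊓ (Q ⟨i.val + 1, h⟩ : Subgroup G) : Subgroup G) : Set G) := by
  suffices hch : Chain P A g by
    obtain ⟨n, Q, x, hprod, hall, h0, hstep⟩ := hch.toFin
    exact ⟨n, Q, x, hprod, fun i => ⟨(hall i).1, (hall i).2.1, (hall i).2.2⟩, h0, hstep⟩
  obtain ⟨c, hc, hcQ⟩ := exists_conj (sys P) (g • P)
  have hAQ : A ⊆ (((P : Subgroup G) ⊓ ((g • P : Sylow p G) : Subgroup G) : Subgroup G) : Set G) := by
    intro a ha
    refine Subgroup.mem_inf.mpr ⟨hA ha, ?_⟩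
    show a ∈ g • P
    rw [mem_smul_sylow]
    exact hAg ⟨a, ha, rfl⟩
  have h1 : Chain P A c⁻¹ := hc.mono hAQ
  have hn : (c * g) • P = P := by rw [mul_smul, hcQ]
  have hnN : c * g ∈ normalizer ((P : Subgroup G) : Set G) :=
    Sylow.smul_eq_iff_mem_normalizer.mp hn
  have h2 : Chain P (P : Set G) (c * g) := by
    have := Chain.cons (P : Set G) P (c * g) 1 (tame_self P) (by rw [inf_idem]; exact hnN)
      (by rw [inf_idem]; exact le_rfl) (Chain.nil _)
    rwa [mul_one] at this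
  have h3 := h1.append h2 (h1.conj_mem hA)
  have e : c⁻¹ * (c * g) = g := by group
  rwa [e] at h3

end Cfsg.Agent.S0116
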