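import Mathlib
import Cfsg.Statements.S3225

set_option autoImplicit false
open Cfsg

namespace Cfsg.Agent.S3225

open MulAction Subgroup

open Classical in
/-- In a commutative group of order 2, a finite product is trivial iff the number of nontrivial
factors is even. -/
theorem prod_eq_one_iff_even {A : Type*} [CommGroup A] (hA : Nat.card A = 2) {ι : Type*}
    (s : Finset ι) (f : ι → A) :
    (∏ i ∈ s, f i = 1 ↔ Even (s.filter (fun i => f i ≠ 1)).card) := by
  obtain ⟨c, hc1, hc⟩ := (Nat.card_eq_two_iff' (1 : A)).1 hA
  have hsq : ∀ a : A, a ≠ 1 → a = c := fun a ha => hc a ha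
  have hcc : c * c = 1 := by
    by_contra h
    have := hsq _ h
    have : c = 1 := by simpa using this
    exact hc1 this
  induction s using Finset.induction_on with
  | empty => simp
  | insert i s hi ih =>
    rw [Finset.prod_insert hi, Finset.filter_insert]
    by_cases h1 : f i = 1
    · simp [h1, ih]
    · rw [if_pos h1, Finset.card_insert_of_notMem (by simp [hi]), Nat.even_add_one,
        hsq _ h1]
      constructor
      · intro h hp
        have hp' := ih.2 hp
        rw [hp', mul_one] at h
        exact hc1 h
      · intro hp
        have hp' : ∏ i ∈ s, f i ≠ 1 := fun h => hp (ih.1 h)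
        rw [hsq _ hp', hcc]

/-- Let G be a finite group of even order with no subgroup of index 2, S a Sylow 2-subgroup of G and M a subgroup of index 2 in S such that, for some n ≥ 1, every element of S outside M has order greater than 2^(n−1). Then every element of S of order 2ⁿ is conjugate in G to an element of M. -/
theorem result {G : Type*} [Group G] [Finite G] (hev : Even (Nat.card G))
    (hG : ∀ H : Subgroup G, H.index ≠ 2) (S : Sylow 2 G) (M : Subgroup G) (hMS : M ≤ (S : Subgroup G)) (hM : M.relIndex (S : Subgroup G) = 2)
    (n : ℕ) (hn : 1 ≤ n) (hord : ∀ y ∈ (S : Subgroup G), y ∉ M → 2 ^ (n - 1) < orderOf y)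
    (x : G) (hx : x ∈ (S : Subgroup G)) (hxn : orderOf x = 2 ^ n) :
    ∃ g : G, g * x * g⁻¹ ∈ M := by
  classical
  by_contra hcon
  push Not at hcon
  have : Fact (Nat.Prime 2) := ⟨Nat.prime_two⟩
  set H : Subgroup G := (S : Subgroup G) with hH
  set M' : Subgroup H := M.subgroupOf H with hM'
  have hidx : M'.index = 2 := hM
  have : M'.Normal := Subgroup.normal_of_index_eq_two hidx
  have hcardA : Nat.card (H ⧸ M') = 2 := by rw [← Subgroup.index_eq_card]; exact hidx
  have : IsCyclic (H ⧸ M') := isCyclic_of_prime_card hcardA
  let _ : CommGroup (H ⧸ M') := IsCyclic.commGroup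
  let ϕ : H →* (H ⧸ M') := QuotientGroup.mk' M'
  have hker : ∀ (y : G) (hy : y ∈ H), ϕ ⟨y, hy⟩ = 1 ↔ y ∈ M := by
    intro y hy
    rw [QuotientGroup.mk'_apply, QuotientGroup.eq_one_iff]
    rfl
  let _ : Fintype (Quotient (orbitRel (zpowers x) (G ⧸ H))) := Fintype.ofFinite _
  have hVx : MonoidHom.transfer ϕ x ≠ 1 := by
    rw [MonoidHom.transfer_eq_prod_quotient_orbitRel_zpowers_quot, Ne,
      prod_eq_one_iff_even hcardA]
    -- the minimal periods are powers of two
    have hper : ∀ q : Quotient (orbitRel (zpowers x) (G ⧸ H)),
        ∃ j, j ≤ n ∧ Function.minimalPeriod (x • ·) q.out = 2 ^ j := by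
      intro q
      have h1 : Function.minimalPeriod (x • ·) q.out ∣ 2 ^ n := by
        rw [← hxn, ← MulAction.pow_smul_eq_iff_minimalPeriod_dvd, pow_orderOf_eq_one, one_smul]
      exact (Nat.dvd_prime_pow Nat.prime_two).1 h1
    have key : ∀ q : Quotient (orbitRel (zpowers x) (G ⧸ H)),
        (ϕ ⟨q.out.out⁻¹ * x ^ Function.minimalPeriod (x • ·) q.out * q.out.out,
            QuotientGroup.out_conj_pow_minimalPeriod_mem H x q.out⟩ ≠ 1) ↔
          Odd (Function.minimalPeriod (x • ·) q.out) := by
      intro q
      obtain ⟨j, hjn, hj⟩ := hper q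
      rw [Ne, hker]
      constructor
      · intro hnot
        by_contra hodd
        have hj1 : 1 ≤ j := by
          rcases Nat.eq_zero_or_pos j with h0 | h0
          · exfalso; apply hodd; rw [hj, h0]; simp
          · exact h0
        apply hnot
        by_contra hnotM
        have h2 := hord _ (QuotientGroup.out_conj_pow_minimalPeriod_mem H x q.out) hnotM
        have h3 : orderOf (q.out.out⁻¹ * x ^ Function.minimalPeriod (x • ·) q.out * q.out.out)
            ≤ 2 ^ (n - 1) := by
          have h4 : (q.out.out⁻¹ * x ^ Function.minimalPeriod (x • ·) q.out * q.out.out)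
              ^ (2 ^ (n - j)) = 1 := by
            have : q.out.out⁻¹ * x ^ Function.minimalPeriod (x • ·) q.out * q.out.out =
                MulAut.conj (q.out.out⁻¹) (x ^ Function.minimalPeriod (x • ·) q.out) := by
              simp [MulAut.conj_apply]
            rw [this, ← map_pow, hj, ← pow_mul, ← pow_add, Nat.add_sub_cancel' hjn, ← hxn,
              pow_orderOf_eq_one, map_one]
          have h5 := orderOf_dvd_of_pow_eq_one h4
          have h6 := Nat.le_of_dvd (by positivity) h5
          exact h6.trans (Nat.pow_le_pow_right (by norm_num) (by omega))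
        omega
      · intro hodd hmem
        have hj0 : j = 0 := by
          by_contra h0
          rw [hj] at hodd
          have : Even (2 ^ j) := (Nat.even_pow' h0).2 (by decide)
          exact (Nat.not_odd_iff_even.2 this) hodd
        rw [hj, hj0, pow_zero, pow_one] at hmem
        have := hcon (q.out.out⁻¹)
        rw [inv_inv] at this
        exact this hmem
    have hodd : Odd (Finset.univ.filter (fun q : Quotient (orbitRel (zpowers x) (G ⧸ H)) =>
          Odd (Function.minimalPeriod (x • ·) q.out))).card := by
      rw [← Finset.odd_sum_iff_odd_card_odd, ← Subgroup.index_eq_sum_minimalPeriod H x]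
      have := S.not_dvd_index
      rw [← Nat.not_even_iff_odd, even_iff_two_dvd]
      exact this
    rw [Nat.not_even_iff_odd]
    convert hodd using 2
    ext q
    simp only [Finset.mem_filter, Finset.mem_univ, true_and]
    exact key q
  -- the kernel of the transfer has index 2
  have hrange : Nat.card (MonoidHom.transfer ϕ).range = 2 := by
    have h1 : Nat.card (MonoidHom.transfer ϕ).range ∣ 2 := by
      rw [← hcardA]; exact Subgroup.card_subgroup_dvd_card _
    have h2 : Nat.card (MonoidHom.transfer ϕ).range ≠ 1 := by
      intro h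
      rw [Subgroup.card_eq_one] at h
      have : MonoidHom.transfer ϕ x ∈ (MonoidHom.transfer ϕ).range := ⟨x, rfl⟩
      rw [h, Subgroup.mem_bot] at this
      exact hVx this
    rcases (Nat.dvd_prime Nat.prime_two).1 h1 with h | h
    · exact absurd h h2
    · exact h
  exact hG (MonoidHom.transfer ϕ).ker (by rw [Subgroup.index_ker]; exact hrange)

end Cfsg.Agent.S3225
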