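import Cfsg.Statements.S0100
import Mathlib
import Cfsg.Agent.Lib.Helper4_MaxNormAb1

set_option autoImplicit false
open Cfsg
open scoped commutatorElement

namespace Cfsg.Agent.S0100

section power
variable {G : Type*} [Group G]

theorem pow_swap (u v c : G) (hc : v * u = c * (u * v)) (hcv : Commute c v) (n : ℕ) :
    v ^ n * u = c ^ n * (u * v ^ n) := by
  induction n with
  | zero => simp
  | succ n ih =>
    calc v ^ (n + 1) * u = v ^ n * (v * u) := by rw [pow_succ, mul_assoc]
      _ = v ^ n * (c * (u * v)) := by rw [hc]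
      _ = (v ^ n * c) * (u * v) := by rw [mul_assoc]
      _ = (c * v ^ n) * (u * v) := by rw [(hcv.pow_right n).eq]
      _ = c * (v ^ n * u) * v := by simp only [mul_assoc]
      _ = c * (c ^ n * (u * v ^ n)) * v := by rw [ih]
      _ = c ^ (n + 1) * (u * v ^ (n + 1)) := by
          rw [pow_succ' c, pow_succ v]; simp only [mul_assoc]

theorem mul_pow_class2 (u v c : G) (hc : v * u = c * (u * v)) (hcu : Commute c u)
    (hcv : Commute c v) (n : ℕ) : (u * v) ^ n = u ^ n * v ^ n * c ^ (n.choose 2) := by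
  induction n with
  | zero => simp
  | succ n ih =>
    have h1 := pow_swap u v c hc hcv n
    have e0 : Commute (c ^ (n.choose 2)) (u * v) := (hcu.mul_right hcv).pow_left _
    have e1 : Commute (c ^ n) (u ^ n) := hcu.pow_pow n n
    have e2 : Commute (c ^ n) (u ^ (n + 1) * v ^ (n + 1)) :=
      (hcu.pow_pow n (n + 1)).mul_right (hcv.pow_pow n (n + 1))
    calc (u * v) ^ (n + 1) = (u * v) ^ n * (u * v) := pow_succ _ _
      _ = u ^ n * v ^ n * c ^ (n.choose 2) * (u * v) := by rw [ih]
      _ = u ^ n * (v ^ n * u) * v * c ^ (n.choose 2) := by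
          rw [mul_assoc (u ^ n * v ^ n), e0.eq]; simp only [mul_assoc]
      _ = u ^ n * (c ^ n * (u * v ^ n)) * v * c ^ (n.choose 2) := by rw [h1]
      _ = (u ^ n * c ^ n) * u * v ^ n * v * c ^ (n.choose 2) := by simp only [mul_assoc]
      _ = (c ^ n * u ^ n) * u * v ^ n * v * c ^ (n.choose 2) := by rw [e1.eq]
      _ = c ^ n * (u ^ (n + 1) * v ^ (n + 1)) * c ^ (n.choose 2) := by
          rw [pow_succ u, pow_succ v]; simp only [mul_assoc]
      _ = (u ^ (n + 1) * v ^ (n + 1)) * c ^ n * c ^ (n.choose 2) := by rw [e2.eq]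
      _ = u ^ (n + 1) * v ^ (n + 1) * c ^ ((n + 1).choose 2) := by
          have hch : (n + 1).choose 2 = n + n.choose 2 := by
            rw [Nat.choose_succ_succ' n 1, Nat.choose_one_right]
          rw [hch, pow_add c]; simp only [mul_assoc]

theorem pow_p_eq_one {p : ℕ} (hp : p.Prime) (hp2 : p ≠ 2) (u v c : G)
    (hc : v * u = c * (u * v)) (hcu : Commute c u) (hcv : Commute c v) (hu : u ^ p = 1)
    (hv : v ^ p = 1) (hcp : c ^ p = 1) : (u * v) ^ p = 1 := by
  rw [mul_pow_class2 u v c hc hcu hcv p, hu, hv, one_mul, one_mul]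
  have : p ∣ p.choose 2 :=
    hp.dvd_choose_self (by norm_num) (lt_of_le_of_ne hp.two_le (Ne.symm hp2))
  obtain ⟨k, hk⟩ := this
  rw [hk, pow_mul, hcp, one_pow]

end power

section alperin
variable {P : Type*} [Group P]

/-- normal, abelian, exponent p -/
def NEA (p : ℕ) (A : Subgroup P) : Prop :=
  A.Normal ∧ (∀ a ∈ A, ∀ b ∈ A, a * b = b * a) ∧ ∀ a ∈ A, a ^ p = 1

theorem sup_comm (A : Subgroup P) (x : P) (hA : ∀ a ∈ A, ∀ b ∈ A, a * b = b * a)
    (hx : ∀ a ∈ A, a * x = x * a) :
    ∀ u ∈ A ⊔ Subgroup.zpowers x, ∀ v ∈ A ⊔ Subgroup.zpowers x, u * v = v * u := by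
  have key : A ⊔ Subgroup.zpowers x ≤
      Subgroup.centralizer ((A ⊔ Subgroup.zpowers x : Subgroup P) : Set P) := by
    apply sup_le
    · intro a ha
      rw [Subgroup.mem_centralizer_iff]
      have : A ⊔ Subgroup.zpowers x ≤ Subgroup.centralizer ({a} : Set P) := by
        apply sup_le
        · intro b hb
          rw [Subgroup.mem_centralizer_iff]
          intro h hh
          rw [Set.mem_singleton_iff] at hh
          subst hh
          exact hA h ha b hb
        · rw [Subgroup.zpowers_le, Subgroup.mem_centralizer_iff]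
          intro h hh
          rw [Set.mem_singleton_iff] at hh
          subst hh
          exact hx h ha
      intro h hh
      have := this hh
      rw [Subgroup.mem_centralizer_iff] at this
      exact (this a rfl).symm
    · rw [Subgroup.zpowers_le, Subgroup.mem_centralizer_iff]
      have : A ⊔ Subgroup.zpowers x ≤ Subgroup.centralizer ({x} : Set P) := by
        apply sup_le
        · intro b hb
          rw [Subgroup.mem_centralizer_iff]
          intro h hh
          rw [Set.mem_singleton_iff] at hh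
          subst hh
          exact (hx b hb).symm
        · rw [Subgroup.zpowers_le, Subgroup.mem_centralizer_iff]
          intro h hh
          rw [Set.mem_singleton_iff] at hh
          subst hh
          rfl
      intro h hh
      have := this hh
      rw [Subgroup.mem_centralizer_iff] at this
      exact (this x rfl).symm
  intro u hu v hv
  have := key hv
  rw [Subgroup.mem_centralizer_iff] at this
  exact this u hu

theorem sup_exp (p : ℕ) (A : Subgroup P) (x : P)
    (hcomm : ∀ u ∈ A ⊔ Subgroup.zpowers x, ∀ v ∈ A ⊔ Subgroup.zpowers x, u * v = v * u)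
    (hA : ∀ a ∈ A, a ^ p = 1) (hx : x ^ p = 1) :
    ∀ f ∈ A ⊔ Subgroup.zpowers x, f ^ p = 1 := by
  let K : Subgroup P :=
    { carrier := {f | f ∈ A ⊔ Subgroup.zpowers x ∧ f ^ p = 1}
      mul_mem' := by
        rintro u v ⟨hu1, hu2⟩ ⟨hv1, hv2⟩
        refine ⟨Subgroup.mul_mem _ hu1 hv1, ?_⟩
        rw [(show Commute u v from hcomm u hu1 v hv1).mul_pow, hu2, hv2, one_mul]
      one_mem' := ⟨Subgroup.one_mem _, one_pow _⟩
      inv_mem' := by
        rintro u ⟨hu1, hu2⟩
        exact ⟨Subgroup.inv_mem _ hu1, by rw [inv_pow, hu2, inv_one]⟩ }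
  have : A ⊔ Subgroup.zpowers x ≤ K := by
    apply sup_le
    · intro a ha
      exact ⟨Subgroup.mem_sup_left ha, hA a ha⟩
    · rw [Subgroup.zpowers_le]
      exact ⟨Subgroup.mem_sup_right (Subgroup.mem_zpowers x), hx⟩
  intro f hf
  exact (this hf).2

theorem alperin [Finite P] {p : ℕ} [hp : Fact p.Prime] (hp2 : p ≠ 2) (hP : IsPGroup p P)
    (A : Subgroup P) (hA : NEA p A)
    (hmax : ∀ A' : Subgroup P, NEA p A' → A ≤ A' → A' = A) :
    ∀ x ∈ Subgroup.centralizer (A : Set P), x ^ p = 1 → x ∈ A := by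
  classical
  obtain ⟨hAn, hAc, hAe⟩ := hA
  haveI := hAn
  by_contra hcon
  push_neg at hcon
  obtain ⟨x₀, hx₀C, hx₀p, hx₀A⟩ := hcon
  haveI : Group.IsNilpotent (P ⧸ A) := (hP.to_quotient A).isNilpotent
  obtain ⟨n, hn⟩ := Group.IsNilpotent.nilpotent (P ⧸ A)
  have hex : ∃ j : ℕ, ∃ x : P,
      (QuotientGroup.mk' A x) ∈ Subgroup.upperCentralSeries (P ⧸ A) j ∧
      x ∈ Subgroup.centralizer (A : Set P) ∧ x ^ p = 1 ∧ x ∉ A :=
    ⟨n, x₀, by rw [hn]; trivial, hx₀C, hx₀p, hx₀A⟩
  have hspec := Nat.find_spec hex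
  have hmin := fun {m : ℕ} (h : m < Nat.find hex) => Nat.find_min hex h
  cases hi : Nat.find hex with
  | zero =>
    rw [hi] at hspec
    obtain ⟨x, hx0, -, -, hxA⟩ := hspec
    rw [Subgroup.upperCentralSeries_zero, Subgroup.mem_bot] at hx0
    exact hxA ((QuotientGroup.eq_one_iff x).mp hx0)
  | succ i =>
    rw [hi] at hspec
    obtain ⟨x, hxZ, hxC, hxp, hxA⟩ := hspec
    have hlow : ∀ y : P, QuotientGroup.mk' A y ∈ Subgroup.upperCentralSeries (P ⧸ A) i →
        y ∈ Subgroup.centralizer (A : Set P) → y ^ p = 1 → y ∈ A := by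
      intro y h1 h2 h3
      by_contra h4
      exact hmin (m := i) (by omega) ⟨y, h1, h2, h3, h4⟩
    have hxF : x ∈ A ⊔ Subgroup.zpowers x := Subgroup.mem_sup_right (Subgroup.mem_zpowers x)
    have hAF : A ≤ A ⊔ Subgroup.zpowers x := le_sup_left
    have hxA' : ∀ a ∈ A, a * x = x * a := fun a ha => Subgroup.mem_centralizer_iff.mp hxC a ha
    have hFc := sup_comm A x hAc hxA'
    have hFe := sup_exp p A x hFc hAe hxp
    -- key (L)
    have hL : ∀ g ∈ Subgroup.normalizer
        ((Subgroup.normalizer ((A ⊔ Subgroup.zpowers x : Subgroup P) : Set P) : Subgroup P) : Set P),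
        g * x * g⁻¹ ∈ A ⊔ Subgroup.zpowers x := by
      intro g hg
      have hxN : x ∈ Subgroup.normalizer ((A ⊔ Subgroup.zpowers x : Subgroup P) : Set P) :=
        Subgroup.le_normalizer hxF
      have hyN : g * x * g⁻¹ ∈
          Subgroup.normalizer ((A ⊔ Subgroup.zpowers x : Subgroup P) : Set P) :=
        (Subgroup.mem_normalizer_iff.mp hg x).mp hxN
      have hx'N : g⁻¹ * x * g ∈
          Subgroup.normalizer ((A ⊔ Subgroup.zpowers x : Subgroup P) : Set P) := by
        have := (Subgroup.mem_normalizer_iff.mp (Subgroup.inv_mem _ hg) x).mp hxN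
        simpa using this
      obtain ⟨y, hy⟩ : ∃ y, y = g * x * g⁻¹ := ⟨_, rfl⟩
      rw [← hy] at hyN ⊢
      obtain ⟨c, hc⟩ : ∃ c, c = y⁻¹ * x * y * x⁻¹ := ⟨_, rfl⟩
      have hcF : c ∈ A ⊔ Subgroup.zpowers x := by
        have h1 : y⁻¹ * x * y ∈ A ⊔ Subgroup.zpowers x := by
          have := (Subgroup.mem_normalizer_iff.mp (Subgroup.inv_mem _ hyN) x).mp hxF
          simpa using this
        rw [hc]
        exact Subgroup.mul_mem _ h1 (Subgroup.inv_mem _ hxF)
      have hcu : Commute c x := hFc c hcF x hxF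
      have hcv : Commute c y⁻¹ := by
        have h1 : g⁻¹ * c * g ∈ A ⊔ Subgroup.zpowers x := by
          have e : g⁻¹ * c * g = x⁻¹ * ((g⁻¹ * x * g) * x * (g⁻¹ * x * g)⁻¹) := by
            rw [hc, hy]; group
          rw [e]
          exact Subgroup.mul_mem _ (Subgroup.inv_mem _ hxF)
            ((Subgroup.mem_normalizer_iff.mp hx'N x).mp hxF)
        have h2 : g⁻¹ * y⁻¹ * g = x⁻¹ := by rw [hy]; group
        have h3 : (g⁻¹ * c * g) * (g⁻¹ * y⁻¹ * g) = (g⁻¹ * y⁻¹ * g) * (g⁻¹ * c * g) :=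
          hFc _ h1 _ (by rw [h2]; exact Subgroup.inv_mem _ hxF)
        show c * y⁻¹ = y⁻¹ * c
        calc c * y⁻¹ = g * ((g⁻¹ * c * g) * (g⁻¹ * y⁻¹ * g)) * g⁻¹ := by group
          _ = g * ((g⁻¹ * y⁻¹ * g) * (g⁻¹ * c * g)) * g⁻¹ := by rw [h3]
          _ = y⁻¹ * c := by group
      have hcrel : y⁻¹ * x = c * (x * y⁻¹) := by rw [hc]; group
      have hyp : y ^ p = 1 := by rw [hy, conj_pow, hxp]; group
      have hd : (x * y⁻¹) ^ p = 1 :=
        pow_p_eq_one hp.out hp2 x y⁻¹ c hcrel hcu hcv hxp (by rw [inv_pow, hyp, inv_one])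
          (hFe c hcF)
      have hyC : y ∈ Subgroup.centralizer (A : Set P) := by
        rw [hy]
        exact (Subgroup.normal_centralizer (H := A)).conj_mem x hxC g
      have hdC : x * y⁻¹ ∈ Subgroup.centralizer (A : Set P) :=
        Subgroup.mul_mem _ hxC (Subgroup.inv_mem _ hyC)
      have hdZ : QuotientGroup.mk' A (x * y⁻¹) ∈ Subgroup.upperCentralSeries (P ⧸ A) i := by
        have := Subgroup.mem_upperCentralSeries_succ_iff.mp hxZ (QuotientGroup.mk' A g)
        have e : x * y⁻¹ = ⁅x, g⁆ := by rw [hy, commutatorElement_def]; group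
        rw [e, map_commutatorElement]
        exact this
      have hdA := hlow _ hdZ hdC hd
      have e : y = (x * y⁻¹)⁻¹ * x := by group
      rw [e]
      exact Subgroup.mul_mem _ (hAF (A.inv_mem hdA)) hxF
    -- F normal
    have hFn : (A ⊔ Subgroup.zpowers x).Normal := by
      rw [← Subgroup.normalizer_eq_top_iff]
      by_contra hne
      haveI : Group.IsNilpotent P := hP.isNilpotent
      have hlt := Group.normalizerCondition_of_isNilpotent (G := P) _ (lt_top_iff_ne_top.mpr hne)
      obtain ⟨g, hg, hgN⟩ := SetLike.exists_of_lt hlt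
      apply hgN
      have hsub : ∀ g ∈ Subgroup.normalizer
          ((Subgroup.normalizer ((A ⊔ Subgroup.zpowers x : Subgroup P) : Set P) : Subgroup P) :
            Set P),
          ∀ f ∈ A ⊔ Subgroup.zpowers x, g * f * g⁻¹ ∈ A ⊔ Subgroup.zpowers x := by
        intro g hg
        have : A ⊔ Subgroup.zpowers x ≤
            (A ⊔ Subgroup.zpowers x).comap (MulAut.conj g).toMonoidHom := by
          apply sup_le
          · intro a ha
            rw [Subgroup.mem_comap]
            simp only [MulEquiv.coe_toMonoidHom, MulAut.conj_apply]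
            exact hAF (hAn.conj_mem a ha g)
          · rw [Subgroup.zpowers_le, Subgroup.mem_comap]
            simp only [MulEquiv.coe_toMonoidHom, MulAut.conj_apply]
            exact hL g hg
        intro f hf
        have := this hf
        rw [Subgroup.mem_comap] at this
        simpa using this
      rw [Subgroup.mem_normalizer_iff]
      intro f
      constructor
      · exact hsub g hg f
      · intro hf
        have := hsub g⁻¹ (Subgroup.inv_mem _ hg) _ hf
        have e : g⁻¹ * (g * f * g⁻¹) * g⁻¹⁻¹ = f := by group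
        rwa [e] at this
    have := hmax _ ⟨hFn, hFc, hFe⟩ hAF
    exact hxA (this ▸ hxF)

end alperin

/-- For odd p, a p-group without normal elementary abelian subgroups of order p^3 has p-rank at most 2. -/
theorem result {P : Type*} [Group P] [Finite P] {p : ℕ} [Fact p.Prime] (hp : p ≠ 2) (hP : IsPGroup p P) (h : ∀ A : Subgroup P, A.Normal → IsMulCommutative A → (∀ a ∈ A, a ^ p = 1) → Nat.card A ≠ p ^ 3) (E : Subgroup P) (hE : IsMulCommutative E) (hEe : ∀ e ∈ E, e ^ p = 1) : Nat.card E ≤ p ^ 2 := by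
  classical
  have hpp : p.Prime := Fact.out
  have hEc : ∀ a ∈ E, ∀ b ∈ E, a * b = b * a := fun a ha b hb =>
    congrArg Subtype.val (hE.is_comm.comm ⟨a, ha⟩ ⟨b, hb⟩)
  -- choose A
  have hbot : NEA p (⊥ : Subgroup P) ∧ Nat.card (⊥ : Subgroup P) ≤ p ^ 2 := by
    refine ⟨⟨inferInstance, ?_, ?_⟩, ?_⟩
    · intro a ha b hb
      rw [Subgroup.mem_bot] at ha hb
      rw [ha, hb]
    · intro a ha
      rw [Subgroup.mem_bot] at ha
      rw [ha, one_pow]
    · rw [Subgroup.card_bot]
      exact Nat.one_le_pow _ _ hpp.pos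
  haveI : Nonempty {A : Subgroup P // NEA p A ∧ Nat.card A ≤ p ^ 2} := ⟨⟨⊥, hbot⟩⟩
  obtain ⟨⟨A, hNEA, hcard⟩, hAmax⟩ :=
    Finite.exists_max (fun A : {A : Subgroup P // NEA p A ∧ Nat.card A ≤ p ^ 2} => Nat.card A.1)
  have hmax : ∀ A' : Subgroup P, NEA p A' → A ≤ A' → A' = A := by
    intro A' hA' hle
    by_contra hne
    haveI := hNEA.1
    haveI := hA'.1
    obtain ⟨N', hN'n, hAN', hN'A', hN'card, -⟩ :=
      Cfsg.Agent.Lib.Helper4_MaxNormAb1.step hP A A' hle (Ne.symm hne)
    have hN'NEA : NEA p N' :=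
      ⟨hN'n, fun a ha b hb => hA'.2.1 a (hN'A' ha) b (hN'A' hb), fun a ha => hA'.2.2 a (hN'A' ha)⟩
    by_cases hc : Nat.card N' ≤ p ^ 2
    · have h1 := hAmax ⟨N', hN'NEA, hc⟩
      simp only at h1
      rw [hN'card] at h1
      have h2 : 0 < Nat.card A := Nat.card_pos
      nlinarith [hpp.two_le]
    · obtain ⟨k, hk⟩ := (hP.to_subgroup A).exists_card_eq
      have hk2 : k ≤ 2 := (Nat.pow_le_pow_iff_right hpp.one_lt).mp (hk ▸ hcard)
      have hk' : k = 2 := by
        by_contra hk'
        have hk1 : k + 1 ≤ 2 := by omega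
        apply hc
        rw [hN'card, hk]
        calc p * p ^ k = p ^ (k + 1) := by ring
          _ ≤ p ^ 2 := Nat.pow_le_pow_right hpp.pos hk1
      apply h N' hN'n ⟨⟨fun a b => Subtype.ext (hN'NEA.2.1 a a.2 b b.2)⟩⟩ hN'NEA.2.2
      rw [hN'card, hk, hk']
      ring
  have hAl := alperin hp hP A hNEA hmax
  by_cases hEC : E ≤ Subgroup.centralizer (A : Set P)
  · have : E ≤ A := fun e he => hAl e (hEC he) (hEe e he)
    exact le_trans (Subgroup.card_le_of_le this) hcard
  · obtain ⟨e₀, he₀, he₀C⟩ := SetLike.not_le_iff_exists.mp hEC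
    rw [Subgroup.mem_centralizer_iff] at he₀C
    push_neg at he₀C
    obtain ⟨a₀, ha₀, hne₀⟩ := he₀C
    haveI := hNEA.1
    have hAbot : (⊥ : Subgroup P) ≠ A := by
      intro hb
      rw [← hb] at ha₀
      rw [SetLike.mem_coe, Subgroup.mem_bot] at ha₀
      apply hne₀
      rw [ha₀, one_mul, mul_one]
    obtain ⟨Z₁, hZn, -, hZA, hZcard, hZcent⟩ :=
      Cfsg.Agent.Lib.Helper4_MaxNormAb1.step hP ⊥ A bot_le hAbot
    have hZ1 : Nat.card Z₁ = p := by rw [hZcard, Subgroup.card_bot, mul_one]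
    have hZc : ∀ z ∈ Z₁, ∀ g : P, g * z = z * g := by
      intro z hz g
      have := hZcent g z hz
      rw [Subgroup.mem_bot, commutatorElement_def] at this
      calc g * z = (g * z * g⁻¹ * z⁻¹) * (z * g) := by group
        _ = z * g := by rw [this, one_mul]
    have ha₀Z : a₀ ∉ Z₁ := fun hz => hne₀ (hZc a₀ hz e₀).symm
    have hZneA : Z₁ ≠ A := fun hz => ha₀Z (hz ▸ ha₀)
    haveI := hZn
    obtain ⟨N', hN'n, hZN', hN'A, hN'card, hN'comm⟩ :=
      Cfsg.Agent.Lib.Helper4_MaxNormAb1.step hP Z₁ A hZA hZneA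
    have hN'eq : N' = A :=
      Subgroup.eq_of_le_of_card_ge hN'A (by
        rw [hN'card, hZ1]
        calc Nat.card A ≤ p ^ 2 := hcard
          _ = p * p := sq p)
    have hAcard : Nat.card A = p * p := by rw [← hN'eq, hN'card, hZ1]
    have hcommA : ∀ g : P, ∀ x ∈ A, ⁅g, x⁆ ∈ Z₁ := by
      intro g x hx
      exact hN'comm g x (hN'eq ▸ hx)
    have hAsup : A = Z₁ ⊔ Subgroup.zpowers a₀ :=
      Cfsg.Agent.Lib.Helper4_MaxNormAb0.eq_sup_zpowers Z₁ A hZA (by rw [hAcard, hZ1]) a₀ ha₀ ha₀Z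
    have hCcrit : ∀ g : P, g * a₀ = a₀ * g → g ∈ Subgroup.centralizer (A : Set P) := by
      intro g hg
      rw [Subgroup.mem_centralizer_iff]
      have : A ≤ Subgroup.centralizer ({g} : Set P) := by
        rw [hAsup]
        apply sup_le
        · intro z hz
          rw [Subgroup.mem_centralizer_iff]
          intro h' hh
          rw [Set.mem_singleton_iff] at hh
          subst hh
          exact hZc z hz h'
        · rw [Subgroup.zpowers_le, Subgroup.mem_centralizer_iff]
          intro h' hh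
          rw [Set.mem_singleton_iff] at hh
          subst hh
          exact hg
      intro a ha
      have := this ha
      rw [Subgroup.mem_centralizer_iff] at this
      exact (this g rfl).symm
    let φ : ↥E →* ↥Z₁ := MonoidHom.mk' (fun e => ⟨⁅(e : P), a₀⁆, hcommA e a₀ ha₀⟩) (by
      intro e e'
      apply Subtype.ext
      have hc' := hZc _ (hcommA e' a₀ ha₀) e
      have hc'' := hZc _ (hcommA e' a₀ ha₀) ⁅(e : P), a₀⁆
      show ⁅((e * e' : ↥E) : P), a₀⁆ = ⁅(e : P), a₀⁆ * ⁅(e' : P), a₀⁆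
      rw [hc'']
      rw [Subgroup.coe_mul]
      calc ⁅(e : P) * (e' : P), a₀⁆ = ((e : P) * ⁅(e' : P), a₀⁆) * a₀ * (e : P)⁻¹ * a₀⁻¹ := by
            simp only [commutatorElement_def]; group
        _ = (⁅(e' : P), a₀⁆ * (e : P)) * a₀ * (e : P)⁻¹ * a₀⁻¹ := by rw [hc']
        _ = ⁅(e' : P), a₀⁆ * ⁅(e : P), a₀⁆ := by
            simp only [commutatorElement_def]; group)
    have hker : ∀ e : ↥E, e ∈ φ.ker → (e : P) ∈ A := by
      intro e he
      rw [MonoidHom.mem_ker] at he
      have h1 : ⁅(e : P), a₀⁆ = 1 := congrArg Subtype.val he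
      have h2 : (e : P) * a₀ = a₀ * e := by
        rw [commutatorElement_def] at h1
        calc (e : P) * a₀ = ((e : P) * a₀ * (e : P)⁻¹ * a₀⁻¹) * (a₀ * e) := by group
          _ = a₀ * e := by rw [h1, one_mul]
      exact hAl _ (hCcrit _ h2) (hEe _ e.2)
    have hcardker : Nat.card φ.ker ≤ p := by
      have hinj : Nat.card φ.ker ≤ Nat.card ↥(A ⊓ E) := by
        apply Nat.card_le_card_of_injective
          (fun e : φ.ker => (⟨(e.1 : P), Subgroup.mem_inf.2 ⟨hker e.1 e.2, e.1.2⟩⟩ : ↥(A ⊓ E)))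
        intro e e' h'
        apply Subtype.ext
        apply Subtype.ext
        have h'' := congrArg Subtype.val h'
        exact h''
      have hlt : A ⊓ E ≠ A := by
        intro h'
        have : A ≤ E := inf_eq_left.mp h'
        exact hne₀ (hEc a₀ (this ha₀) e₀ he₀)
      have hdvd : Nat.card ↥(A ⊓ E) ∣ p ^ 2 := by
        rw [sq, ← hAcard]
        exact Subgroup.card_dvd_of_le inf_le_left
      have hne' : Nat.card ↥(A ⊓ E) ≠ p ^ 2 := by
        intro h'
        apply hlt
        exact Subgroup.eq_of_le_of_card_ge inf_le_left (by rw [h', hAcard, sq])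
      obtain ⟨k, hk2, hk⟩ := (Nat.dvd_prime_pow hpp).mp hdvd
      have hk1 : k ≤ 1 := by
        by_contra hk'
        have : k = 2 := by omega
        exact hne' (by rw [hk, this])
      calc Nat.card φ.ker ≤ Nat.card ↥(A ⊓ E) := hinj
        _ = p ^ k := hk
        _ ≤ p ^ 1 := Nat.pow_le_pow_right hpp.pos hk1
        _ = p := pow_one p
    have hrange : Nat.card φ.range ≤ p := by
      calc Nat.card φ.range ≤ Nat.card ↥Z₁ := Subgroup.card_le_card_group _
        _ = p := hZ1
    have hmul := Subgroup.card_mul_index φ.ker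
    rw [Subgroup.index_ker] at hmul
    calc Nat.card E = Nat.card φ.ker * Nat.card φ.range := hmul.symm
      _ ≤ p * p := Nat.mul_le_mul hcardker hrange
      _ = p ^ 2 := (sq p).symm

end Cfsg.Agent.S0100
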