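import Mathlib
import Cfsg.Statements.S1003
import Cfsg.Agent.Lib.Helper7_SmallSimple
import Cfsg.Agent.Lib.Helper7_SmallSimple2

set_option autoImplicit false
open Cfsg

namespace Cfsg.Agent.S1003

open Subgroup Cfsg.Agent.Lib.Helper7_SmallSimple Cfsg.Agent.Lib.Helper7_SmallSimple2

/-- A Sylow subgroup inside the normalizer of another Sylow subgroup (same prime) equals it. -/
theorem sylow_eq_of_le_normalizer {G : Type*} [Group G] [Finite G] {p : ℕ} [Fact p.Prime]
    (Q R : Sylow p G) (h : (R : Subgroup G) ≤ normalizer ((Q : Subgroup G) : Set G)) : R = Q := by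
  have h1 : (R : Subgroup G) ⊓ normalizer ((Q : Subgroup G) : Set G) =
      (R : Subgroup G) ⊓ (Q : Subgroup G) := R.isPGroup'.inf_normalizer_sylow Q
  have h2 : (R : Subgroup G) ≤ Q := by
    have : (R : Subgroup G) ≤ (R : Subgroup G) ⊓ normalizer ((Q : Subgroup G) : Set G) :=
      le_inf le_rfl h
    rw [h1] at this
    exact this.trans inf_le_right
  exact Sylow.ext (R.is_maximal' Q.isPGroup' h2).symm

/-- faithful action of a simple group on the cosets of a proper subgroup -/
theorem toPermHom_injective {G : Type*} [Group G] [IsSimpleGroup G] (H : Subgroup G)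
    (hH : H ≠ ⊤) : Function.Injective (MulAction.toPermHom G (G ⧸ H)) := by
  have hker : (MulAction.toPermHom G (G ⧸ H)).ker = ⊥ := by
    rcases (MonoidHom.normal_ker (MulAction.toPermHom G (G ⧸ H))).eq_bot_or_eq_top with h | h
    · exact h
    · exfalso
      apply hH
      rw [eq_top_iff, ← h, ← Subgroup.normalCore_eq_ker]
      exact Subgroup.normalCore_le H
  exact (MonoidHom.ker_eq_bot_iff _).mp hker

/-- the case `n_3 = 7` is impossible -/
theorem three_ne_seven {G : Type*} [Group G] [Finite G] [IsSimpleGroup G]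
    (h : Nat.card G = 168) (Q : Sylow 3 G) (hQ : Nat.card (Q : Subgroup G) = 3)
    (hn : Nat.card (Sylow 3 G) = 7) : False := by
  classical
  haveI : Fact (Nat.Prime 2) := ⟨Nat.prime_two⟩
  set N := normalizer ((Q : Subgroup G) : Set G) with hN
  have hNcard : Nat.card N = 24 := by
    have : Nat.card N * Nat.card (Sylow 3 G) = Nat.card G := card_normalizer_mul Q
    rw [hn, h] at this
    omega
  have hNidx : N.index = 7 := by rw [← hn]; exact (card_sylow_eq_index Q).symm
  have hNtop : N ≠ ⊤ := by
    intro h1
    rw [h1, Subgroup.index_top] at hNidx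
    omega
  -- an involution centralizing Q
  haveI : IsCyclic (Q : Subgroup G) := isCyclic_of_card_prime (p := 3) _ hQ
  have hdvd : (centralizer ((Q : Subgroup G) : Set G)).relIndex N ∣ Nat.totient (Nat.card (Q : Subgroup G)) :=
    relIndex_dvd_totient (Q : Subgroup G)
  rw [hQ, Nat.totient_prime Nat.prime_three] at hdvd
  have hCN : centralizer ((Q : Subgroup G) : Set G) ≤ N := centralizer_le_normalizer _
  have hmul := card_mul_relIndex hCN
  rw [hNcard] at hmul
  have h2C : 2 ∣ Nat.card (centralizer ((Q : Subgroup G) : Set G)) := by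
    have : (centralizer ((Q : Subgroup G) : Set G)).relIndex N = 1 ∨
        (centralizer ((Q : Subgroup G) : Set G)).relIndex N = 2 := by
      have := Nat.le_of_dvd (by norm_num) hdvd
      have h0 : (centralizer ((Q : Subgroup G) : Set G)).relIndex N ≠ 0 := by
        intro h0; rw [h0] at hmul; omega
      omega
    rcases this with h1 | h1 <;> rw [h1] at hmul <;> omega
  obtain ⟨z', hz'⟩ := exists_prime_orderOf_dvd_card' (G := ↥(centralizer ((Q : Subgroup G) : Set G))) 2 h2C
  set z : G := (z' : G) with hz
  have hzo : orderOf z = 2 := by rw [hz, Subgroup.orderOf_coe]; exact hz'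
  have hzC : z ∈ centralizer ((Q : Subgroup G) : Set G) := z'.2
  have hzN : z ∈ N := hCN hzC
  -- the action on the cosets of N
  haveI : Fintype (G ⧸ N) := Fintype.ofFinite _
  have hcardX : Fintype.card (G ⧸ N) = 7 := by
    rw [← Nat.card_eq_fintype_card, ← Subgroup.index_eq_card]; exact hNidx
  have hinj := toPermHom_injective N hNtop
  set σ : Equiv.Perm (G ⧸ N) := MulAction.toPerm z with hσ
  have hσo : orderOf σ = 2 := by
    have : σ = MulAction.toPermHom G (G ⧸ N) z := rfl
    rw [this, orderOf_injective _ hinj]; exact hzo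
  have hsign : Equiv.Perm.sign σ = 1 := sign_toPerm_eq_one (by omega) z
  have hsign2 := sign_of_orderOf_two σ hσo
  rw [hsign, hcardX] at hsign2
  -- the fixed points of z form a Q-set
  let S : SubMulAction (↥(Q : Subgroup G)) (G ⧸ N) :=
    { carrier := {a | z • a = a}
      smul_mem' := by
        intro q a ha
        show z • ((q : G) • a) = (q : G) • a
        have hc : z * (q : G) = (q : G) * z := ((mem_centralizer_iff.mp hzC) q q.2).symm
        rw [smul_smul, hc, mul_smul]
        exact congrArg _ ha }
  have hmod := Q.isPGroup'.card_modEq_card_fixedPoints (↥S)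
  have hfix1 : Nat.card (MulAction.fixedPoints (↥(Q : Subgroup G)) (↥S)) = 1 := by
    rw [Nat.card_eq_one_iff_unique]
    have hmem : ((1 : G) : G ⧸ N) ∈ S := by
      show z • ((1 : G) : G ⧸ N) = ((1 : G) : G ⧸ N)
      rw [MulAction.Quotient.smul_mk, QuotientGroup.eq]
      simpa using N.inv_mem hzN
    have key : ∀ a : MulAction.fixedPoints (↥(Q : Subgroup G)) (↥S),
        ((a : ↥S) : G ⧸ N) = ((1 : G) : G ⧸ N) := by
      rintro ⟨⟨a, haS⟩, ha⟩
      induction a using QuotientGroup.induction_on with
      | H g =>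
        show (g : G ⧸ N) = ((1 : G) : G ⧸ N)
        have h1 : ∀ q : G, q ∈ (Q : Subgroup G) → g⁻¹ * q * g ∈ N := by
          intro q hq
          have := ha ⟨q, hq⟩
          have h2 : (q • (g : G ⧸ N)) = (g : G ⧸ N) := congrArg Subtype.val this
          rw [MulAction.Quotient.smul_mk, QuotientGroup.eq] at h2
          have h3 := N.inv_mem h2
          have : ((q • g)⁻¹ * g)⁻¹ = g⁻¹ * q * g := by
            rw [smul_eq_mul]; group
          rwa [this] at h3
        have h2 : ((g⁻¹ • Q : Sylow 3 G) : Subgroup G) ≤ N := by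
          intro y hy
          rw [Sylow.coe_subgroup_smul, Subgroup.mem_pointwise_smul_iff_inv_smul_mem] at hy
          have hy' : g * y * g⁻¹ ∈ (Q : Subgroup G) := by
            simpa [MulAut.smul_def] using hy
          have := h1 _ hy'
          have h4 : g⁻¹ * (g * y * g⁻¹) * g = y := by group
          rwa [h4] at this
        have h3 := sylow_eq_of_le_normalizer Q (g⁻¹ • Q) h2
        have h4 : g⁻¹ ∈ N := Sylow.smul_eq_iff_mem_normalizer.mp h3
        rw [eq_comm, QuotientGroup.eq]
        simpa using N.inv_mem h4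
    refine ⟨⟨fun a b => ?_⟩, ⟨⟨⟨((1 : G) : G ⧸ N), hmem⟩, ?_⟩⟩⟩
    · apply Subtype.ext
      apply Subtype.ext
      rw [key a, key b]
    · intro q
      apply Subtype.ext
      show (q : G) • ((1 : G) : G ⧸ N) = ((1 : G) : G ⧸ N)
      rw [MulAction.Quotient.smul_mk, QuotientGroup.eq]
      have : (q : G) ∈ N := le_normalizer q.2
      simpa using N.inv_mem this
  rw [hfix1] at hmod
  have hSf : Nat.card (↥S) = Fintype.card (Function.fixedPoints σ) := by
    rw [← Nat.card_eq_fintype_card]
    rfl
  rw [hSf] at hmod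
  set f := Fintype.card (Function.fixedPoints σ) with hf
  have hle : f ≤ 7 := by
    rw [← hcardX]; exact Fintype.card_subtype_le _
  have hev : Even ((7 - f) / 2) := by
    by_contra hodd
    rw [Nat.not_even_iff_odd] at hodd
    rw [hodd.neg_one_pow] at hsign2
    exact absurd hsign2 (by decide)
  have hf7 : f = 7 := by
    have : f % 3 = 1 := hmod
    interval_cases f <;> first | omega | (exfalso; revert hev; decide)
  -- z acts trivially
  have hσ1 : σ = 1 := by
    ext a
    have huniv : (Function.fixedPoints σ) = Set.univ := by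
      apply Set.eq_of_subset_of_ncard_le (Set.subset_univ _) _ (Set.toFinite _)
      rw [Set.ncard_univ, Nat.card_eq_fintype_card, hcardX, ← Nat.card_coe_set_eq,
        Nat.card_eq_fintype_card, ← hf, hf7]
    have : a ∈ Function.fixedPoints σ := by rw [huniv]; trivial
    exact this
  rw [hσ1, orderOf_one] at hσo
  omega

/-- the case `n_2 = 7` is impossible when `n_3 = 28` -/
theorem two_ne_seven {G : Type*} [Group G] [Finite G] [IsSimpleGroup G]
    (h : Nat.card G = 168) (T : Sylow 2 G) (hT : Nat.card (T : Subgroup G) = 8)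
    (h3 : Nat.card (Sylow 3 G) = 28)
    (hn : Nat.card (Sylow 2 G) = 7) : False := by
  classical
  haveI : Fact (Nat.Prime 2) := ⟨Nat.prime_two⟩
  haveI : Fact (Nat.Prime 3) := ⟨Nat.prime_three⟩
  set N := normalizer ((T : Subgroup G) : Set G) with hN
  have hNcard : Nat.card N = 24 := by
    have : Nat.card N * Nat.card (Sylow 2 G) = Nat.card G := card_normalizer_mul T
    rw [hn, h] at this
    omega
  obtain ⟨x', hx'⟩ := exists_prime_orderOf_dvd_card' (G := ↥N) 3 (by rw [hNcard]; norm_num)
  set x : G := (x' : G) with hx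
  have hxo : orderOf x = 3 := by rw [hx, Subgroup.orderOf_coe]; exact hx'
  have hxN : x ∈ N := x'.2
  have hmod := card_modEq_card_centralizer (ℓ := 3) (T : Subgroup G) x hxN 1 (by rw [hxo]; norm_num)
  rw [hT] at hmod
  have hdvd : Nat.card ((T : Subgroup G) ⊓ centralizer ({x} : Set G) : Subgroup G) ∣ 8 := by
    rw [← hT]; exact Subgroup.card_dvd_of_le inf_le_left
  have h2 : 2 ∣ Nat.card ((T : Subgroup G) ⊓ centralizer ({x} : Set G) : Subgroup G) := by
    set c := Nat.card ((T : Subgroup G) ⊓ centralizer ({x} : Set G) : Subgroup G) with hc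
    have hle : c ≤ 8 := Nat.le_of_dvd (by norm_num) hdvd
    have hm : 8 % 3 = c % 3 := hmod
    interval_cases c <;> omega
  obtain ⟨z', hz'⟩ := exists_prime_orderOf_dvd_card'
    (G := ↥((T : Subgroup G) ⊓ centralizer ({x} : Set G) : Subgroup G)) 2 h2
  set z : G := (z' : G) with hz
  have hzo : orderOf z = 2 := by rw [hz, Subgroup.orderOf_coe]; exact hz'
  have hzx : z * x = x * z := mem_centralizer_singleton_iff.mp (Subgroup.mem_inf.mp z'.2).2
  -- the Sylow 3-subgroup generated by x
  have hX : IsPGroup 3 (zpowers x) := by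
    apply IsPGroup.of_card (n := 1)
    rw [Nat.card_zpowers, hxo, pow_one]
  obtain ⟨Q, hQ⟩ := hX.exists_le_sylow
  have hQcard : Nat.card (Q : Subgroup G) = 3 := by
    have := card_sylow_eq Q 1 56 (by rw [h]; norm_num) (by norm_num)
    simpa using this
  have hQeq : (zpowers x) = (Q : Subgroup G) :=
    Subgroup.eq_of_le_of_card_ge hQ (by rw [hQcard, Nat.card_zpowers, hxo])
  have hNQ : Nat.card (normalizer ((Q : Subgroup G) : Set G)) = 6 := by
    have := card_normalizer_mul Q
    rw [h3, h] at this
    omega
  have hzC : z ∈ centralizer ((Q : Subgroup G) : Set G) := by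
    rw [← hQeq, mem_centralizer_iff]
    intro y hy
    obtain ⟨k, rfl⟩ := Subgroup.mem_zpowers_iff.mp hy
    exact ((show Commute x z from hzx.symm).zpow_left k).eq
  have hxC : x ∈ centralizer ((Q : Subgroup G) : Set G) := by
    rw [← hQeq, mem_centralizer_iff]
    intro y hy
    obtain ⟨k, rfl⟩ := Subgroup.mem_zpowers_iff.mp hy
    exact ((Commute.refl x).zpow_left k).eq
  have h6 : 6 ∣ Nat.card (centralizer ((Q : Subgroup G) : Set G)) := by
    have a2 : 2 ∣ Nat.card (centralizer ((Q : Subgroup G) : Set G)) := by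
      have := Subgroup.orderOf_dvd_natCard _ hzC
      rwa [hzo] at this
    have a3 : 3 ∣ Nat.card (centralizer ((Q : Subgroup G) : Set G)) := by
      have := Subgroup.orderOf_dvd_natCard _ hxC
      rwa [hxo] at this
    exact Nat.Coprime.mul_dvd_of_dvd_of_dvd (by norm_num) a2 a3
  have hCN : centralizer ((Q : Subgroup G) : Set G) ≤ normalizer ((Q : Subgroup G) : Set G) :=
    centralizer_le_normalizer _
  have hEq : centralizer ((Q : Subgroup G) : Set G) = normalizer ((Q : Subgroup G) : Set G) :=
    Subgroup.eq_of_le_of_card_ge hCN (by rw [hNQ]; exact Nat.le_of_dvd Nat.card_pos h6)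
  exact not_normalizer_le_centralizer Q (by rw [hQcard]; norm_num) (by rw [hQcard, h]; norm_num)
    hEq.ge

/-- A simple group of order 168 has exactly 21 Sylow 2-subgroups, 28 Sylow 3-subgroups and 8 Sylow 7-subgroups. -/
theorem result {G : Type*} [Group G] [Finite G] [IsSimpleGroup G] (h : Nat.card G = 168) : Nat.card (Sylow 2 G) = 21 ∧ Nat.card (Sylow 3 G) = 28 ∧ Nat.card (Sylow 7 G) = 8 := by
  classical
  haveI : Fact (Nat.Prime 2) := ⟨Nat.prime_two⟩
  haveI : Fact (Nat.Prime 3) := ⟨Nat.prime_three⟩
  haveI : Fact (Nat.Prime 7) := ⟨by norm_num⟩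
  obtain ⟨T⟩ : Nonempty (Sylow 2 G) := inferInstance
  obtain ⟨Q⟩ : Nonempty (Sylow 3 G) := inferInstance
  obtain ⟨P⟩ : Nonempty (Sylow 7 G) := inferInstance
  have hT : Nat.card (T : Subgroup G) = 8 := by
    have := card_sylow_eq T 3 21 (by rw [h]; norm_num) (by norm_num)
    simpa using this
  have hQ : Nat.card (Q : Subgroup G) = 3 := by
    have := card_sylow_eq Q 1 56 (by rw [h]; norm_num) (by norm_num)
    simpa using this
  have hP : Nat.card (P : Subgroup G) = 7 := by
    have := card_sylow_eq P 1 24 (by rw [h]; norm_num) (by norm_num)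
    simpa using this
  -- n_7
  have h7 : Nat.card (Sylow 7 G) = 8 := by
    have hne := card_sylow_ne_one P (by rw [hP]; norm_num) (by rw [hP, h]; norm_num)
    have hmod : Nat.card (Sylow 7 G) % 7 = 1 % 7 := card_sylow_modEq_one 7 G
    have hd : Nat.card (Sylow 7 G) ∣ 24 := by
      have h1 := P.card_dvd_index
      have h2 : Nat.card (P : Subgroup G) * (P : Subgroup G).index = Nat.card G :=
        Subgroup.card_mul_index _
      rw [hP, h] at h2
      have : (P : Subgroup G).index = 24 := by omega
      rwa [this] at h1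
    set n := Nat.card (Sylow 7 G) with hn
    have hle : n ≤ 24 := Nat.le_of_dvd (by norm_num) hd
    interval_cases n <;> omega
  -- n_3
  have h3 : Nat.card (Sylow 3 G) = 28 := by
    have hne := card_sylow_ne_one Q (by rw [hQ]; norm_num) (by rw [hQ, h]; norm_num)
    have hmod : Nat.card (Sylow 3 G) % 3 = 1 % 3 := card_sylow_modEq_one 3 G
    have hd : Nat.card (Sylow 3 G) ∣ 56 := by
      have h1 := Q.card_dvd_index
      have h2 : Nat.card (Q : Subgroup G) * (Q : Subgroup G).index = Nat.card G :=
        Subgroup.card_mul_index _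
      rw [hQ, h] at h2
      have : (Q : Subgroup G).index = 56 := by omega
      rwa [this] at h1
    have hne4 : Nat.card (Sylow 3 G) ≠ 4 := by
      intro h4
      have hidx : (normalizer ((Q : Subgroup G) : Set G)).index = 4 := by
        rw [← h4]; exact (card_sylow_eq_index Q).symm
      have htop : normalizer ((Q : Subgroup G) : Set G) ≠ ⊤ := by
        intro h1
        rw [h1, Subgroup.index_top] at hidx
        omega
      have := card_dvd_factorial_index _ htop
      rw [hidx, h] at this
      revert this; decide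
    have hne7 : Nat.card (Sylow 3 G) ≠ 7 := fun h7' => three_ne_seven h Q hQ h7'
    set n := Nat.card (Sylow 3 G) with hn
    have hle : n ≤ 56 := Nat.le_of_dvd (by norm_num) hd
    interval_cases n <;> omega
  -- n_2
  have h2 : Nat.card (Sylow 2 G) = 21 := by
    have hne := card_sylow_ne_one T (by rw [hT]; norm_num) (by rw [hT, h]; norm_num)
    have hd : Nat.card (Sylow 2 G) ∣ 21 := by
      have h1 := T.card_dvd_index
      have h2 : Nat.card (T : Subgroup G) * (T : Subgroup G).index = Nat.card G :=
        Subgroup.card_mul_index _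
      rw [hT, h] at h2
      have : (T : Subgroup G).index = 21 := by omega
      rwa [this] at h1
    have hne3 : Nat.card (Sylow 2 G) ≠ 3 := by
      intro h4
      have hidx : (normalizer ((T : Subgroup G) : Set G)).index = 3 := by
        rw [← h4]; exact (card_sylow_eq_index T).symm
      have htop : normalizer ((T : Subgroup G) : Set G) ≠ ⊤ := by
        intro h1
        rw [h1, Subgroup.index_top] at hidx
        omega
      have := card_dvd_factorial_index _ htop
      rw [hidx, h] at this
      revert this; decide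
    have hne7 : Nat.card (Sylow 2 G) ≠ 7 := fun h7' => two_ne_seven h T hT h3 h7'
    set n := Nat.card (Sylow 2 G) with hn
    have hle : n ≤ 21 := Nat.le_of_dvd (by norm_num) hd
    interval_cases n <;> omega
  exact ⟨h2, h3, h7⟩

end Cfsg.Agent.S1003
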