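import Mathlib
import Cfsg.Statements.S1012
import Cfsg.Agent.Lib.Helper7_SmallSimple
import Cfsg.Agent.Lib.Helper7_SmallSimple2

set_option autoImplicit false
open Cfsg

namespace Cfsg.Agent.S1012

open Subgroup
open Cfsg.Agent.Lib.Helper7_SmallSimple
open Cfsg.Agent.Lib.Helper7_SmallSimple2

/-- A group of order 24 containing no element of order 6 is isomorphic to the symmetric group of degree 4. -/
theorem result {G : Type*} [Group G] [Finite G] (h : Nat.card G = 24) (h6 : ∀ g : G, orderOf g ≠ 6) : Nonempty (G ≃* Equiv.Perm (Fin 4)) := by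
  haveI : Fact (Nat.Prime 3) := ⟨Nat.prime_three⟩
  haveI : Fact (Nat.Prime 2) := ⟨Nat.prime_two⟩
  obtain ⟨P⟩ : Nonempty (Sylow 3 G) := inferInstance
  have hcard : ∀ P : Sylow 3 G, Nat.card (P : Subgroup G) = 3 := by
    intro P
    have := card_sylow_eq P 1 8 (by rw [h]; norm_num) (by norm_num)
    simpa using this
  have hP := hcard P
  -- no involution commutes with an element of order 3
  have hno : ∀ t x : G, orderOf t = 2 → orderOf x = 3 → t * x ≠ x * t := by
    intro t x ht hx hc
    have := Commute.orderOf_mul_eq_mul_orderOf_of_coprime (show Commute t x from hc)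
      (by rw [ht, hx]; norm_num)
    rw [ht, hx] at this
    exact h6 _ this
  obtain ⟨x₀, hx₀⟩ := exists_prime_orderOf_dvd_card' (G := G) 3 (by rw [h]; norm_num)
  have hdvd : Nat.card (Sylow 3 G) ∣ 8 := by
    have h1 := Sylow.card_dvd_index P
    have h2 : Nat.card (P : Subgroup G) * (P : Subgroup G).index = Nat.card G :=
      Subgroup.card_mul_index _
    rw [hP, h] at h2
    have : (P : Subgroup G).index = 8 := by omega
    rwa [this] at h1
  have hmod : Nat.card (Sylow 3 G) ≡ 1 [MOD 3] := card_sylow_modEq_one 3 G
  have hn : Nat.card (Sylow 3 G) = 1 ∨ Nat.card (Sylow 3 G) = 4 := by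
    have hle : Nat.card (Sylow 3 G) ≤ 8 := Nat.le_of_dvd (by norm_num) hdvd
    have hpos : 0 < Nat.card (Sylow 3 G) := Nat.card_pos
    unfold Nat.ModEq at hmod
    interval_cases h : Nat.card (Sylow 3 G) <;> omega
  haveI : IsCyclic (P : Subgroup G) := isCyclic_of_card_prime _ hP
  rcases hn with hn | hn
  · -- normal Sylow 3-subgroup: impossible
    exfalso
    have hidx : (normalizer ((P : Subgroup G) : Set G)).index = 1 := by
      rw [← card_sylow_eq_index P, hn]
    have hNtop : normalizer ((P : Subgroup G) : Set G) = ⊤ := Subgroup.index_eq_one.mp hidx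
    have h1 := relIndex_dvd_totient (P : Subgroup G)
    rw [hP, Nat.totient_prime Nat.prime_three, hNtop, relIndex_top_right] at h1
    have h2 := Subgroup.card_mul_index (centralizer ((P : Subgroup G) : Set G))
    rw [h] at h2
    have h3 : 2 ∣ Nat.card (centralizer ((P : Subgroup G) : Set G)) := by
      have hle : (centralizer ((P : Subgroup G) : Set G)).index ≤ 2 :=
        Nat.le_of_dvd (by norm_num) h1
      have hpos : 0 < (centralizer ((P : Subgroup G) : Set G)).index := by
        apply Nat.pos_of_ne_zero
        intro h0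
        rw [h0] at h2; omega
      interval_cases hi : (centralizer ((P : Subgroup G) : Set G)).index
      · exact ⟨12, by omega⟩
      · exact ⟨6, by omega⟩
    obtain ⟨t, ht⟩ := exists_prime_orderOf_dvd_card'
      (G := ↥(centralizer ((P : Subgroup G) : Set G))) 2 h3
    obtain ⟨x, hx⟩ := exists_prime_orderOf_dvd_card' (G := ↥(P : Subgroup G)) 3 (by rw [hP])
    have hto : orderOf (t : G) = 2 := by rw [Subgroup.orderOf_coe, ht]
    have hxo : orderOf (x : G) = 3 := by rw [Subgroup.orderOf_coe, hx]
    have hc := (Subgroup.mem_centralizer_iff.mp t.2) (x : G) x.2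
    exact hno _ _ hto hxo hc.symm
  · -- four Sylow 3-subgroups: the action is faithful
    have hN : Nat.card (normalizer ((P : Subgroup G) : Set G)) = 6 := by
      have := card_normalizer_mul P
      rw [hn, h] at this
      omega
    have hker : (MulAction.toPermHom G (Sylow 3 G)).ker = ⊥ := by
      set K := (MulAction.toPermHom G (Sylow 3 G)).ker with hK
      have hKmem : ∀ k ∈ K, ∀ Q : Sylow 3 G, k • Q = Q := by
        intro k hk Q
        have : (MulAction.toPermHom G (Sylow 3 G)) k = 1 := hk
        have := congrArg (fun σ : Equiv.Perm (Sylow 3 G) => σ Q) this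
        simpa using this
      have hKN : K ≤ normalizer ((P : Subgroup G) : Set G) := by
        intro k hk
        exact Sylow.smul_eq_iff_mem_normalizer.mp (hKmem k hk P)
      have hKd : Nat.card K ∣ 6 := by rw [← hN]; exact Subgroup.card_dvd_of_le hKN
      -- no element of order 3 in `K`
      have h3 : ¬ 3 ∣ Nat.card K := by
        intro h3
        obtain ⟨x, hx⟩ := exists_prime_orderOf_dvd_card' (G := ↥K) 3 h3
        have hxo : orderOf (x : G) = 3 := by rw [Subgroup.orderOf_coe, hx]
        have hxZ : IsPGroup 3 (zpowers (x : G)) := by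
          apply IsPGroup.of_card (n := 1)
          rw [Nat.card_zpowers, hxo, pow_one]
        have hxQ : ∀ Q : Sylow 3 G, (x : G) ∈ (Q : Subgroup G) := by
          intro Q
          have h1 : (x : G) ∈ zpowers (x : G) ⊓ normalizer ((Q : Subgroup G) : Set G) :=
            Subgroup.mem_inf.mpr ⟨mem_zpowers _, Sylow.smul_eq_iff_mem_normalizer.mp (hKmem x x.2 Q)⟩
          have hi : zpowers (x : G) ⊓ normalizer ((Q : Subgroup G) : Set G) =
              zpowers (x : G) ⊓ (Q : Subgroup G) := hxZ.inf_normalizer_sylow Q
          rw [hi] at h1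
          exact h1.2
        have hQeq : ∀ Q : Sylow 3 G, (Q : Subgroup G) = zpowers (x : G) := by
          intro Q
          symm
          apply Subgroup.eq_of_le_of_card_ge
          · rw [Subgroup.zpowers_le]; exact hxQ Q
          · rw [Nat.card_zpowers, hxo, hcard Q]
        have hsub : Subsingleton (Sylow 3 G) :=
          ⟨fun Q₁ Q₂ => Sylow.ext ((hQeq Q₁).trans (hQeq Q₂).symm)⟩
        have : Nat.card (Sylow 3 G) ≤ 1 := Finite.card_le_one_iff_subsingleton.mpr hsub
        omega
      have hK12 : Nat.card K = 1 ∨ Nat.card K = 2 := by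
        have hle : Nat.card K ≤ 6 := Nat.le_of_dvd (by norm_num) hKd
        have hpos : 0 < Nat.card K := Nat.card_pos
        interval_cases hk : Nat.card K
        · left; rfl
        · right; rfl
        · exact absurd (dvd_refl 3) h3
        · omega
        · omega
        · exact absurd (⟨2, rfl⟩ : 3 ∣ 6) h3
      rcases hK12 with hK1 | hK2
      · exact Subgroup.card_eq_one.mp hK1
      · exfalso
        -- `K = {1, z}` with `z` central
        obtain ⟨z, hz⟩ := exists_prime_orderOf_dvd_card' (G := ↥K) 2 (by rw [hK2])
        have hzo : orderOf (z : G) = 2 := by rw [Subgroup.orderOf_coe, hz]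
        have hz1 : (z : G) ≠ 1 := by
          intro h1
          rw [h1, orderOf_one] at hzo
          omega
        have hKelts : ∀ k ∈ K, k = 1 ∨ k = (z : G) := by
          intro k hk
          have hzK : zpowers (z : G) = K := by
            apply Subgroup.eq_of_le_of_card_ge
            · rw [Subgroup.zpowers_le]; exact z.2
            · rw [Nat.card_zpowers, hzo, hK2]
          rw [← hzK] at hk
          obtain ⟨j, rfl⟩ := Subgroup.mem_zpowers_iff.mp hk
          have hz2 : (z : G) ^ (2 : ℤ) = 1 := by
            have := pow_orderOf_eq_one (z : G)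
            rw [hzo] at this
            exact_mod_cast this
          rcases Int.emod_two_eq_zero_or_one j with h0 | h0
          · left
            have : j = 2 * (j / 2) := by omega
            rw [this, zpow_mul, hz2, one_zpow]
          · right
            have : j = 2 * (j / 2) + 1 := by omega
            rw [this, zpow_add, zpow_mul, hz2, one_zpow, one_mul, zpow_one]
        haveI hKn : K.Normal := MonoidHom.normal_ker _
        have hzc : (z : G) * x₀ = x₀ * (z : G) := by
          have hconj : x₀ * (z : G) * x₀⁻¹ ∈ K := hKn.conj_mem _ z.2 x₀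
          rcases hKelts _ hconj with h1 | h1
          · exfalso
            apply hz1
            have h2 : x₀⁻¹ * (x₀ * (z : G) * x₀⁻¹) * x₀ = x₀⁻¹ * 1 * x₀ := by rw [h1]
            simpa [mul_assoc] using h2
          · calc (z : G) * x₀ = (x₀ * (z : G) * x₀⁻¹) * x₀ := by rw [h1]
              _ = x₀ * (z : G) := by group
        exact hno _ _ hzo hx₀ hzc
    have hinj : Function.Injective (MulAction.toPermHom G (Sylow 3 G)) :=
      (MonoidHom.ker_eq_bot_iff _).mp hker
    have hbij : Function.Bijective (MulAction.toPermHom G (Sylow 3 G)) := by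
      rw [Nat.bijective_iff_injective_and_card]
      refine ⟨hinj, ?_⟩
      rw [Nat.card_perm, hn, h]
      rfl
    have e1 : G ≃* Equiv.Perm (Sylow 3 G) := MulEquiv.ofBijective _ hbij
    have e2 : Sylow 3 G ≃ Fin 4 := Finite.equivFinOfCardEq hn
    exact ⟨e1.trans e2.permCongrHom⟩

end Cfsg.Agent.S1012
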