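import Mathlib
import Cfsg.Statements.S1785
import Cfsg.Agent.S0015

set_option autoImplicit false

open Cfsg

namespace Cfsg.Agent.S1785

variable {X : Type*} [Group X]

abbrev EA (A : Subgroup X) : Prop := Cfsg.IsElementaryAbelian 2 A
abbrev Cz (w : X) : Subgroup X := Subgroup.centralizer ({w} : Set X)

theorem mem_Cz {w g : X} : g ∈ Cz w ↔ g * w = w * g := Subgroup.mem_centralizer_singleton_iff

theorem ea_iff {A : Subgroup X} :
    EA A ↔ (∀ x ∈ A, ∀ y ∈ A, x * y = y * x) ∧ ∀ a ∈ A, a ^ 2 = 1 := by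
  unfold EA Cfsg.IsElementaryAbelian
  rw [← Subgroup.le_centralizer_iff_isMulCommutative]
  constructor
  · rintro ⟨h1, h2⟩
    refine ⟨fun x hx y hy => ?_, h2⟩
    exact Subgroup.mem_centralizer_iff.mp (h1 hy) x hx
  · rintro ⟨h1, h2⟩
    exact ⟨fun y hy => Subgroup.mem_centralizer_iff.mpr (fun x hx => h1 x hx y hy), h2⟩

theorem ea_mono {A B : Subgroup X} (hA : EA A) (h : B ≤ A) : EA B := by
  rw [ea_iff] at hA ⊢
  exact ⟨fun x hx y hy => hA.1 x (h hx) y (h hy), fun a ha => hA.2 a (h ha)⟩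

theorem ea_sup {H Z : Subgroup X} (hH : EA H) (hZ : EA Z)
    (hc : ∀ h ∈ H, ∀ z ∈ Z, h * z = z * h) : EA (H ⊔ Z) := by
  rw [ea_iff] at hH hZ ⊢
  have key : ∀ x ∈ H ⊔ Z, ∃ h ∈ H, ∃ z ∈ Z, x = h * z := by
    intro x hx
    have hr := MonoidHom.noncommCoprod_range H.subtype Z.subtype
      (fun m n => show Commute (H.subtype m) (Z.subtype n) from hc m.1 m.2 n.1 n.2)
    rw [Subgroup.range_subtype, Subgroup.range_subtype] at hr
    rw [← hr] at hx
    obtain ⟨⟨h, z⟩, rfl⟩ := hx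
    exact ⟨h.1, h.2, z.1, z.2, by simp⟩
  constructor
  · intro x hx y hy
    obtain ⟨h1, hh1, z1, hz1, rfl⟩ := key x hx
    obtain ⟨h2, hh2, z2, hz2, rfl⟩ := key y hy
    calc h1 * z1 * (h2 * z2) = h1 * (z1 * h2) * z2 := by group
      _ = h1 * (h2 * z1) * z2 := by rw [hc h2 hh2 z1 hz1]
      _ = (h1 * h2) * (z1 * z2) := by group
      _ = (h2 * h1) * (z2 * z1) := by rw [hH.1 h1 hh1 h2 hh2, hZ.1 z1 hz1 z2 hz2]
      _ = h2 * (h1 * z2) * z1 := by group
      _ = h2 * (z2 * h1) * z1 := by rw [hc h1 hh1 z2 hz2]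
      _ = h2 * z2 * (h1 * z1) := by group
  · intro x hx
    obtain ⟨h1, hh1, z1, hz1, rfl⟩ := key x hx
    calc (h1 * z1) ^ 2 = h1 * (z1 * h1) * z1 := by rw [pow_two]; group
      _ = h1 * (h1 * z1) * z1 := by rw [hc h1 hh1 z1 hz1]
      _ = h1 ^ 2 * z1 ^ 2 := by rw [pow_two, pow_two]; group
      _ = 1 := by rw [hH.2 h1 hh1, hZ.2 z1 hz1, one_mul]

theorem card_sup [Finite X] {H Z : Subgroup X} (hc : ∀ h ∈ H, ∀ z ∈ Z, h * z = z * h)
    (hd : H ⊓ Z = ⊥) : Nat.card ↥(H ⊔ Z) = Nat.card H * Nat.card Z := by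
  have hr := MonoidHom.noncommCoprod_range H.subtype Z.subtype
    (fun m n => show Commute (H.subtype m) (Z.subtype n) from hc m.1 m.2 n.1 n.2)
  rw [Subgroup.range_subtype, Subgroup.range_subtype] at hr
  have hinj : Function.Injective (MonoidHom.noncommCoprod H.subtype Z.subtype
      (fun m n => show Commute (H.subtype m) (Z.subtype n) from hc m.1 m.2 n.1 n.2)) := by
    rw [MonoidHom.noncommCoprod_injective]
    refine ⟨Subgroup.subtype_injective H, Subgroup.subtype_injective Z, ?_⟩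
    rw [Subgroup.range_subtype, Subgroup.range_subtype, disjoint_iff]
    exact hd
  rw [← hr, ← Nat.card_prod]
  exact (Nat.card_congr (Equiv.ofInjective _ hinj)).symm


theorem ea_zpowers {c : X} (hc : c ^ 2 = 1) : EA (Subgroup.zpowers c) := by
  rw [ea_iff]
  constructor
  · intro x hx y hy
    obtain ⟨i, rfl⟩ := Subgroup.mem_zpowers_iff.mp hx
    obtain ⟨j, rfl⟩ := Subgroup.mem_zpowers_iff.mp hy
    rw [← zpow_add, ← zpow_add, add_comm]
  · intro x hx
    obtain ⟨i, rfl⟩ := Subgroup.mem_zpowers_iff.mp hx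
    rw [← zpow_natCast, ← zpow_mul, mul_comm, zpow_mul, zpow_natCast, hc, one_zpow]

theorem card_zpowers_two {c : X} (hc : c ^ 2 = 1) (h1 : c ≠ 1) :
    Nat.card (Subgroup.zpowers c) = 2 := by
  rw [Nat.card_zpowers]
  exact orderOf_eq_prime hc h1

theorem mem_zpowers_two {c x : X} (hc : c ^ 2 = 1) (hx : x ∈ Subgroup.zpowers c) :
    x = 1 ∨ x = c := by
  obtain ⟨i, rfl⟩ := Subgroup.mem_zpowers_iff.mp hx
  rcases Int.emod_two_eq_zero_or_one i with h | h
  · left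
    have : i = 2 * (i / 2) := by omega
    rw [this, zpow_mul, zpow_ofNat, hc, one_zpow]
  · right
    have : i = 2 * (i / 2) + 1 := by omega
    rw [this, zpow_add, zpow_mul, zpow_ofNat, hc, one_zpow, one_mul, zpow_one]

theorem inf_zpowers_eq_bot {H : Subgroup X} {c : X} (hc : c ^ 2 = 1) (hcH : c ∉ H) :
    H ⊓ Subgroup.zpowers c = ⊥ := by
  rw [eq_bot_iff]
  intro x hx
  rcases mem_zpowers_two hc hx.2 with h | h
  · exact Subgroup.mem_bot.mpr h
  · exact absurd (h ▸ hx.1) hcH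

/-- adjoining a commuting involution outside `H` doubles the order -/
theorem adj [Finite X] {H : Subgroup X} (hH : EA H) {c : X} (hc : c ^ 2 = 1) (hcH : c ∉ H)
    (hcomm : H ≤ Cz c) :
    EA (H ⊔ Subgroup.zpowers c) ∧ Nat.card ↥(H ⊔ Subgroup.zpowers c) = 2 * Nat.card H := by
  have h1 : c ≠ 1 := fun h => hcH (h ▸ H.one_mem)
  have hcm : ∀ h ∈ H, ∀ z ∈ Subgroup.zpowers c, h * z = z * h := by
    intro h hh z hz
    rcases mem_zpowers_two hc hz with rfl | rfl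
    · simp
    · exact mem_Cz.mp (hcomm hh)
  refine ⟨ea_sup hH (ea_zpowers hc) hcm, ?_⟩
  rw [card_sup hcm (inf_zpowers_eq_bot hc hcH), card_zpowers_two hc h1, mul_comm]

/-- a proper subgroup of an elementary abelian group can be doubled inside it -/
theorem grow [Finite X] {A W : Subgroup X} (hA : EA A) (hWA : W ≤ A)
    (hlt : Nat.card W < Nat.card A) :
    ∃ b ∈ A, b ∉ W ∧ b ^ 2 = 1 ∧ W ⊔ Subgroup.zpowers b ≤ A ∧
      Nat.card ↥(W ⊔ Subgroup.zpowers b) = 2 * Nat.card W := by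
  have hne : W ≠ A := fun h => by rw [h] at hlt; exact lt_irrefl _ hlt
  obtain ⟨b, hbA, hbW⟩ := SetLike.exists_of_lt (lt_of_le_of_ne hWA hne)
  have hA' := ea_iff.mp hA
  refine ⟨b, hbA, hbW, hA'.2 b hbA, sup_le hWA (Subgroup.zpowers_le.mpr hbA), ?_⟩
  refine (adj (ea_mono hA hWA) (hA'.2 b hbA) hbW ?_).2
  intro w hw
  exact mem_Cz.mpr (hA'.1 w (hWA hw) b hbA)


theorem fix_sq [Finite X] (F : Subgroup X) (hF : EA F) (a : X) (ha : a ^ 2 = 1)
    (hn : ∀ f ∈ F, a * f * a⁻¹ ∈ F) :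
    Nat.card F ≤ Nat.card ↥(F ⊓ Cz a) ^ 2 := by
  have hF' := ea_iff.mp hF
  have hainv : a⁻¹ = a := by
    rw [inv_eq_iff_mul_eq_one, ← pow_two]; exact ha
  let φ : F →* X :=
    { toFun := fun f => f.1 * (a * f.1 * a⁻¹)
      map_one' := by simp
      map_mul' := fun f g => by
        have h := hF'.1 g.1 g.2 (a * f.1 * a⁻¹) (hn f.1 f.2)
        simp only [Subgroup.coe_mul]
        calc f.1 * g.1 * (a * (f.1 * g.1) * a⁻¹)
            = f.1 * (g.1 * (a * f.1 * a⁻¹)) * (a * g.1 * a⁻¹) := by group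
          _ = f.1 * ((a * f.1 * a⁻¹) * g.1) * (a * g.1 * a⁻¹) := by rw [h]
          _ = _ := by group }
  have hφ : ∀ f : F, φ f = f.1 * (a * f.1 * a⁻¹) := fun f => rfl
  have hrange : φ.range ≤ F ⊓ Cz a := by
    rintro _ ⟨f, rfl⟩
    refine ⟨mul_mem f.2 (hn f.1 f.2), mem_Cz.mpr ?_⟩
    rw [hφ]
    have h := hF'.1 f.1 f.2 (a * f.1 * a⁻¹) (hn f.1 f.2)
    calc f.1 * (a * f.1 * a⁻¹) * a = f.1 * a * f.1 := by group
      _ = a ^ 2 * f.1 * a⁻¹ * f.1 := by rw [ha, one_mul, hainv]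
      _ = a * ((a * f.1 * a⁻¹) * f.1) := by rw [pow_two]; group
      _ = a * (f.1 * (a * f.1 * a⁻¹)) := by rw [h]
  have hker : ∀ f : F, f ∈ φ.ker → f.1 ∈ F ⊓ Cz a := by
    intro f hf
    refine ⟨f.2, mem_Cz.mpr ?_⟩
    have h1 : f.1 * (a * f.1 * a⁻¹) = 1 := by
      rw [← hφ]; exact MonoidHom.mem_ker.mp hf
    have h2 : f.1 * f.1 = 1 := by rw [← pow_two]; exact hF'.2 f.1 f.2
    have h3 : a * f.1 * a⁻¹ = f.1 := by
      have := mul_left_cancel (h1.trans h2.symm)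
      exact this
    calc f.1 * a = (a * f.1 * a⁻¹) * a := by rw [h3]
      _ = a * f.1 := by group
  have hc1 : Nat.card φ.ker ≤ Nat.card ↥(F ⊓ Cz a) := by
    refine Nat.card_le_card_of_injective (fun k => ⟨k.1.1, hker k.1 k.2⟩) ?_
    intro k1 k2 h
    have : k1.1.1 = k2.1.1 := by
      have h' := congrArg Subtype.val h
      exact h'
    exact Subtype.ext (Subtype.ext this)
  have hc2 : Nat.card φ.range ≤ Nat.card ↥(F ⊓ Cz a) := Subgroup.card_le_of_le hrange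
  have hc3 : Nat.card F = Nat.card φ.ker * Nat.card φ.range := by
    rw [← Subgroup.index_ker, Subgroup.card_mul_index]
  rw [hc3, pow_two]
  exact Nat.mul_le_mul hc1 hc2


theorem card_pow [Finite X] (hX : IsPGroup 2 X) (H : Subgroup X) : ∃ n, Nat.card H = 2 ^ n := by
  haveI : Fact (Nat.Prime 2) := ⟨Nat.prime_two⟩
  exact (hX.to_subgroup H).exists_card_eq

theorem F1 [Finite X] (hX : IsPGroup 2 X) (E : Subgroup X) [hEn : E.Normal] (hE : EA E)
    (hE32 : 32 ≤ Nat.card ↥E) (a : X) (ha : a ^ 2 = 1) : 8 ≤ Nat.card ↥(E ⊓ Cz a) := by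
  have h := fix_sq E hE a ha (fun f hf => hEn.conj_mem f hf a)
  obtain ⟨n, hn⟩ := card_pow hX (E ⊓ Cz a)
  rw [hn] at h ⊢
  by_contra hlt
  have hn3 : n < 3 := by
    by_contra h3
    exact hlt (by
      calc 8 = 2 ^ 3 := by norm_num
        _ ≤ 2 ^ n := Nat.pow_le_pow_right (by norm_num) (by omega))
  interval_cases n <;> omega

theorem F2 [Finite X] (hX : IsPGroup 2 X) (E : Subgroup X) [hEn : E.Normal] (hE : EA E)
    (hE32 : 32 ≤ Nat.card ↥E) (a b : X) (ha : a ^ 2 = 1) (hb : b ^ 2 = 1) (hab : a * b = b * a) :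
    4 ≤ Nat.card ↥(E ⊓ Cz a ⊓ Cz b) := by
  have h1 := F1 hX E hE hE32 a ha
  have hc : Commute b a := hab.symm
  have h := fix_sq (E ⊓ Cz a) (ea_mono hE inf_le_left) b hb (by
    intro f hf
    refine ⟨hEn.conj_mem f hf.1 b, mem_Cz.mpr ?_⟩
    have hfa : f * a = a * f := mem_Cz.mp hf.2
    calc b * f * b⁻¹ * a = b * f * (b⁻¹ * a) := by group
      _ = b * f * (a * b⁻¹) := by rw [hc.inv_left.eq]
      _ = b * (f * a) * b⁻¹ := by group
      _ = b * (a * f) * b⁻¹ := by rw [hfa]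
      _ = (b * a) * f * b⁻¹ := by group
      _ = (a * b) * f * b⁻¹ := by rw [hab]
      _ = a * (b * f * b⁻¹) := by group)
  obtain ⟨n, hn⟩ := card_pow hX (E ⊓ Cz a ⊓ Cz b)
  rw [hn] at h ⊢
  by_contra hlt
  have hn2 : n < 2 := by
    by_contra h3
    exact hlt (by
      calc 4 = 2 ^ 2 := by norm_num
        _ ≤ 2 ^ n := Nat.pow_le_pow_right (by norm_num) (by omega))
  interval_cases n <;> omega

/-- the relation of the statement -/
def R (C D : Subgroup X) : Prop :=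
  Cfsg.IsElementaryAbelian 2 C ∧ Nat.card ↥C = 8 ∧ Cfsg.IsElementaryAbelian 2 D ∧
    Nat.card ↥D = 8 ∧ ⁅C, D⁆ = ⊥

theorem R_symm {C D : Subgroup X} (h : R C D) : R D C :=
  ⟨h.2.2.1, h.2.2.2.1, h.1, h.2.1, by rw [Subgroup.commutator_comm]; exact h.2.2.2.2⟩

theorem conn_symm {C D : Subgroup X} (h : Relation.ReflTransGen R C D) :
    Relation.ReflTransGen R D C := by
  induction h with
  | refl => exact Relation.ReflTransGen.refl
  | tail _ hbc ih => exact Relation.ReflTransGen.head (R_symm hbc) ih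

theorem step [Finite X] {A U : Subgroup X} (hA : EA A) (hA8 : Nat.card A = 8) (hUA : U ≤ A)
    (hU4 : Nat.card U = 4) {w : X} (hw2 : w ^ 2 = 1) (hwA : A ≤ Cz w) (hwU : w ∉ U) :
    R A (U ⊔ Subgroup.zpowers w) := by
  obtain ⟨h1, h2⟩ := adj (ea_mono hA hUA) hw2 hwU (hUA.trans hwA)
  refine ⟨hA, hA8, h1, by rw [h2, hU4], ?_⟩
  rw [Subgroup.commutator_eq_bot_iff_le_centralizer, Subgroup.le_centralizer_iff]
  have hA' := ea_iff.mp hA
  refine sup_le ?_ (Subgroup.zpowers_le.mpr ?_)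
  · intro u hu
    exact Subgroup.mem_centralizer_iff.mpr (fun x hx => hA'.1 x hx u (hUA hu))
  · exact Subgroup.mem_centralizer_iff.mpr (fun x hx => mem_Cz.mp (hwA hx))


theorem card_eq_of_bounds [Finite X] (hX : IsPGroup 2 X) (H : Subgroup X) (k : ℕ)
    (h1 : 2 ^ k ≤ Nat.card H) (h2 : ¬ 2 ^ (k + 1) ≤ Nat.card H) : Nat.card H = 2 ^ k := by
  obtain ⟨n, hn⟩ := card_pow hX H
  rw [hn] at h1 h2 ⊢
  have hn1 : n < k + 1 := by
    by_contra h3
    exact h2 (Nat.pow_le_pow_right (by norm_num) (by omega))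
  have hn2 : k ≤ n := by
    by_contra h3
    have : 2 ^ n < 2 ^ k := Nat.pow_lt_pow_right (by norm_num) (by omega)
    omega
  have : n = k := by omega
  rw [this]

section main
variable [Finite X] (hX : IsPGroup 2 X) (E : Subgroup X) [hEn : E.Normal] (hE : EA E)
  (hE32 : 32 ≤ Nat.card ↥E)
include hX hE hE32

theorem c4 {A : Subgroup X} (hA : EA A) (hA8 : Nat.card A = 8) (h4 : 4 ≤ Nat.card ↥(A ⊓ E)) :
    ∃ A' : Subgroup X, A' ≤ E ∧ EA A' ∧ Nat.card A' = 8 ∧ Relation.ReflTransGen R A A' := by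
  by_cases h8 : 8 ≤ Nat.card ↥(A ⊓ E)
  · refine ⟨A, ?_, hA, hA8, Relation.ReflTransGen.refl⟩
    have : A ⊓ E = A := Subgroup.eq_of_le_of_card_ge inf_le_left (by rw [hA8]; exact h8)
    rw [← this]; exact inf_le_right
  · have hU4 : Nat.card ↥(A ⊓ E) = 4 := card_eq_of_bounds hX (A ⊓ E) 2 h4 h8
    set U := A ⊓ E with hU
    have hUA : U ≤ A := inf_le_left
    have hUE : U ≤ E := inf_le_right
    obtain ⟨a, haA, haU, ha2, hle, hcard⟩ := grow hA hUA (by rw [hU4, hA8]; norm_num)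
    have hAeq : U ⊔ Subgroup.zpowers a = A :=
      Subgroup.eq_of_le_of_card_ge hle (by rw [hcard, hU4, hA8])
    have hC := F1 hX E hE hE32 a ha2
    have hA' := ea_iff.mp hA
    have hE' := ea_iff.mp hE
    have hUC : U ≤ E ⊓ Cz a := le_inf hUE (fun u hu => mem_Cz.mpr (hA'.1 u (hUA hu) a haA))
    have hne : U ≠ E ⊓ Cz a := fun h => by rw [← h, hU4] at hC; omega
    obtain ⟨w, hwC, hwU⟩ := SetLike.exists_of_lt (lt_of_le_of_ne hUC hne)
    have hw2 : w ^ 2 = 1 := hE'.2 w hwC.1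
    have hAw : A ≤ Cz w := by
      rw [← hAeq]
      refine sup_le (fun u hu => mem_Cz.mpr (hE'.1 u (hUE hu) w hwC.1))
        (Subgroup.zpowers_le.mpr ?_)
      exact mem_Cz.mpr (mem_Cz.mp hwC.2).symm
    have hR := step hA hA8 hUA hU4 hw2 hAw hwU
    exact ⟨U ⊔ Subgroup.zpowers w, sup_le hUE (Subgroup.zpowers_le.mpr hwC.1), hR.2.2.1,
      hR.2.2.2.1, Relation.ReflTransGen.single hR⟩


theorem c2 {A : Subgroup X} (hA : EA A) (hA8 : Nat.card A = 8) (h2 : 2 ≤ Nat.card ↥(A ⊓ E)) :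
    ∃ A' : Subgroup X, A' ≤ E ∧ EA A' ∧ Nat.card A' = 8 ∧ Relation.ReflTransGen R A A' := by
  by_cases h4 : 4 ≤ Nat.card ↥(A ⊓ E)
  · exact c4 hX E hE hE32 hA hA8 h4
  · have hW2 : Nat.card ↥(A ⊓ E) = 2 := by
      simpa using card_eq_of_bounds hX (A ⊓ E) 1 (by simpa using h2) (by simpa using h4)
    set W := A ⊓ E with hW
    have hWA : W ≤ A := inf_le_left
    have hWE : W ≤ E := inf_le_right
    have hA' := ea_iff.mp hA
    have hE' := ea_iff.mp hE
    obtain ⟨a, haA, haW, ha2, hle1, hcard1⟩ := grow hA hWA (by rw [hW2, hA8]; norm_num)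
    obtain ⟨b, hbA, hbU, hb2, hle2, hcard2⟩ :=
      grow hA hle1 (by rw [hcard1, hW2, hA8]; norm_num)
    have hU4 : Nat.card ↥(W ⊔ Subgroup.zpowers a) = 4 := by rw [hcard1, hW2]
    have hAeq : W ⊔ Subgroup.zpowers a ⊔ Subgroup.zpowers b = A :=
      Subgroup.eq_of_le_of_card_ge hle2 (by rw [hcard2, hU4, hA8])
    have hC := F2 hX E hE hE32 a b ha2 hb2 (hA'.1 a haA b hbA)
    have hWC : W ≤ E ⊓ Cz a ⊓ Cz b :=
      le_inf (le_inf hWE (fun u hu => mem_Cz.mpr (hA'.1 u (hWA hu) a haA)))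
        (fun u hu => mem_Cz.mpr (hA'.1 u (hWA hu) b hbA))
    have hne : W ≠ E ⊓ Cz a ⊓ Cz b := fun h => by rw [← h, hW2] at hC; omega
    obtain ⟨w, hwC, hwW⟩ := SetLike.exists_of_lt (lt_of_le_of_ne hWC hne)
    have hwE : w ∈ E := hwC.1.1
    have hw2 : w ^ 2 = 1 := hE'.2 w hwE
    have hwA : w ∉ A := fun h => hwW ⟨h, hwE⟩
    have hAw : A ≤ Cz w := by
      rw [← hAeq]
      refine sup_le (sup_le (fun u hu => mem_Cz.mpr (hE'.1 u (hWE hu) w hwE))
        (Subgroup.zpowers_le.mpr ?_)) (Subgroup.zpowers_le.mpr ?_)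
      · exact mem_Cz.mpr (mem_Cz.mp hwC.1.2).symm
      · exact mem_Cz.mpr (mem_Cz.mp hwC.2).symm
    have hR := step hA hA8 hle1 hU4 hw2 hAw (fun h => hwA (hle1 h))
    have hW' := adj (ea_mono hA hWA) hw2 hwW (hWA.trans hAw)
    have h4' : 4 ≤ Nat.card ↥((W ⊔ Subgroup.zpowers a ⊔ Subgroup.zpowers w) ⊓ E) := by
      have hle : W ⊔ Subgroup.zpowers w ≤ (W ⊔ Subgroup.zpowers a ⊔ Subgroup.zpowers w) ⊓ E :=
        le_inf (sup_le (le_sup_left.trans le_sup_left) le_sup_right)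
          (sup_le hWE (Subgroup.zpowers_le.mpr hwE))
      have := Subgroup.card_le_of_le hle
      rw [hW'.2, hW2] at this
      exact this
    obtain ⟨A'', h1, h2', h3, h4''⟩ := c4 hX E hE hE32 hR.2.2.1 hR.2.2.2.1 h4'
    exact ⟨A'', h1, h2', h3, Relation.ReflTransGen.head hR h4''⟩

theorem c1 {A : Subgroup X} (hA : EA A) (hA8 : Nat.card A = 8) :
    ∃ A' : Subgroup X, A' ≤ E ∧ EA A' ∧ Nat.card A' = 8 ∧ Relation.ReflTransGen R A A' := by
  by_cases h2 : 2 ≤ Nat.card ↥(A ⊓ E)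
  · exact c2 hX E hE hE32 hA hA8 h2
  · have hW1 : Nat.card ↥(A ⊓ E) = 1 := by
      have := Nat.card_pos (α := ↥(A ⊓ E))
      omega
    have hbot : A ⊓ E = ⊥ := Subgroup.card_eq_one.mp hW1
    have hA' := ea_iff.mp hA
    have hE' := ea_iff.mp hE
    haveI : Fact (Nat.Prime 2) := ⟨Nat.prime_two⟩
    haveI : Group.IsNilpotent X := hX.isNilpotent
    have hEne : E ≠ ⊥ := by
      intro h
      rw [h, Subgroup.card_bot] at hE32
      omega
    obtain ⟨z, hzE, hzc, hz1⟩ := Cfsg.Agent.S0015.normal_inf_center_ne_bot E hEne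
    have hz2 : z ^ 2 = 1 := hE'.2 z hzE
    have hzA : z ∉ A := fun h => hz1 (Subgroup.mem_bot.mp (hbot ▸ (⟨h, hzE⟩ : z ∈ A ⊓ E)))
    obtain ⟨a, haA, haW, ha2, hle1, hcard1⟩ :=
      grow hA (bot_le : (⊥ : Subgroup X) ≤ A) (by rw [Subgroup.card_bot, hA8]; norm_num)
    rw [Subgroup.card_bot] at hcard1
    obtain ⟨b, hbA, hbU, hb2, hle2, hcard2⟩ := grow hA hle1 (by rw [hcard1, hA8]; norm_num)
    rw [hcard1] at hcard2
    have hAz : A ≤ Cz z := fun x _ => mem_Cz.mpr (Subgroup.mem_center_iff.mp hzc x)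
    have hR := step hA hA8 hle2 hcard2 hz2 hAz (fun h => hzA (hle2 h))
    have h2' : 2 ≤ Nat.card ↥((⊥ ⊔ Subgroup.zpowers a ⊔ Subgroup.zpowers b ⊔
        Subgroup.zpowers z) ⊓ E) := by
      have hle : Subgroup.zpowers z ≤ (⊥ ⊔ Subgroup.zpowers a ⊔ Subgroup.zpowers b ⊔
          Subgroup.zpowers z) ⊓ E :=
        le_inf le_sup_right (Subgroup.zpowers_le.mpr hzE)
      have := Subgroup.card_le_of_le hle
      rw [card_zpowers_two hz2 hz1] at this
      exact this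
    obtain ⟨A'', h1, h2'', h3, h4''⟩ := c2 hX E hE hE32 hR.2.2.1 hR.2.2.2.1 h2'
    exact ⟨A'', h1, h2'', h3, Relation.ReflTransGen.head hR h4''⟩

end main


/-- Let X be a finite 2-group having a normal elementary abelian subgroup of order at least 32. Then (a) for any two elementary abelian subgroups A, B of X of order 8 there is a chain A = A₁, A₂, …, Aₙ = B of elementary abelian subgroups of order 8 in which consecutive members commute elementwise; and (b) every elementary abelian subgroup of X of order 4 is contained in an elementary abelian subgroup of order 8. -/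
theorem result {X : Type*} [Group X] [Finite X]
    (hX : IsPGroup 2 X) (E : Subgroup X) [E.Normal] (hE : Cfsg.IsElementaryAbelian 2 E) (hE32 : 32 ≤ Nat.card ↥E) :
    (∀ A B : Subgroup X, Cfsg.IsElementaryAbelian 2 A → Nat.card ↥A = 8 → Cfsg.IsElementaryAbelian 2 B → Nat.card ↥B = 8 →
        Relation.ReflTransGen
          (fun C D : Subgroup X => Cfsg.IsElementaryAbelian 2 C ∧ Nat.card ↥C = 8 ∧ Cfsg.IsElementaryAbelian 2 D ∧ Nat.card ↥D = 8 ∧ ⁅C, D⁆ = ⊥)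
          A B) ∧
      (∀ V : Subgroup X, Cfsg.IsElementaryAbelian 2 V → Nat.card ↥V = 4 →
        ∃ A : Subgroup X, V ≤ A ∧ Cfsg.IsElementaryAbelian 2 A ∧ Nat.card ↥A = 8) := by
  classical
  have hE' := ea_iff.mp hE
  refine ⟨?_, ?_⟩
  · intro A B hA hA8 hB hB8
    obtain ⟨A', hA'E, hA'ea, hA'8, hcA⟩ := c1 hX E hE hE32 hA hA8
    obtain ⟨B', hB'E, hB'ea, hB'8, hcB⟩ := c1 hX E hE hE32 hB hB8
    have hR : R A' B' := by
      refine ⟨hA'ea, hA'8, hB'ea, hB'8, ?_⟩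
      rw [Subgroup.commutator_eq_bot_iff_le_centralizer]
      intro x hx
      exact Subgroup.mem_centralizer_iff.mpr (fun y hy => hE'.1 y (hB'E hy) x (hA'E hx))
    exact (hcA.tail hR).trans (conn_symm hcB)
  · intro V hV hV4
    have hV' := ea_iff.mp hV
    obtain ⟨a, haV, haW, ha2, hle1, hcard1⟩ :=
      grow hV (bot_le : (⊥ : Subgroup X) ≤ V) (by rw [Subgroup.card_bot, hV4]; norm_num)
    rw [Subgroup.card_bot] at hcard1
    obtain ⟨b, hbV, hbU, hb2, hle2, hcard2⟩ := grow hV hle1 (by rw [hcard1, hV4]; norm_num)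
    rw [hcard1] at hcard2
    have hVeq : ⊥ ⊔ Subgroup.zpowers a ⊔ Subgroup.zpowers b = V :=
      Subgroup.eq_of_le_of_card_ge hle2 (by rw [hcard2, hV4])
    have hC := F2 hX E hE hE32 a b ha2 hb2 (hV'.1 a haV b hbV)
    have hex : ∃ w ∈ E ⊓ Cz a ⊓ Cz b, w ∉ V := by
      by_contra hcon
      push Not at hcon
      have hCV : E ⊓ Cz a ⊓ Cz b ≤ V := hcon
      have hCeq : E ⊓ Cz a ⊓ Cz b = V :=
        Subgroup.eq_of_le_of_card_ge hCV (by rw [hV4]; exact hC)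
      have hVE : V ≤ E := by rw [← hCeq]; exact inf_le_left.trans inf_le_left
      have hEC : E ≤ E ⊓ Cz a ⊓ Cz b :=
        le_inf (le_inf le_rfl (fun e he => mem_Cz.mpr (hE'.1 e he a (hVE haV))))
          (fun e he => mem_Cz.mpr (hE'.1 e he b (hVE hbV)))
      have := Subgroup.card_le_of_le hEC
      rw [hCeq, hV4] at this
      omega
    obtain ⟨w, hwC, hwV⟩ := hex
    have hw2 : w ^ 2 = 1 := hE'.2 w hwC.1.1
    have hVw : V ≤ Cz w := by
      rw [← hVeq]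
      refine sup_le (sup_le bot_le (Subgroup.zpowers_le.mpr ?_)) (Subgroup.zpowers_le.mpr ?_)
      · exact mem_Cz.mpr (mem_Cz.mp hwC.1.2).symm
      · exact mem_Cz.mpr (mem_Cz.mp hwC.2).symm
    obtain ⟨h1, h2⟩ := adj hV hw2 hwV hVw
    exact ⟨V ⊔ Subgroup.zpowers w, le_sup_left, h1, by rw [h2, hV4]⟩

end Cfsg.Agent.S1785
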