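import Cfsg.Statements.S0630
import Mathlib
import Cfsg.Agent.Lib.Helper5_PPrime
import Cfsg.Agent.Lib.Helper7_PCore
import Cfsg.Agent.Lib.Lead_Coprime
import Cfsg.Agent.Lib.Lead_Hall

set_option autoImplicit false
open Cfsg

namespace Cfsg.Agent.S0630

/-- `O_{p'}(G / O_{p'}(G)) = 1` -/
theorem pPrimeCore_quotient_self {G : Type*} [Group G] [Finite G] (p : ℕ) :
    Cfsg.pPrimeCore p (G ⧸ Cfsg.pPrimeCore p G) = ⊥ := by
  classical
  rw [eq_bot_iff]
  set O := Cfsg.pPrimeCore p G with hO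
  have hOcop : (Nat.card O).Coprime p := Cfsg.Agent.Lib.Helper5_PPrime.pPrimeCore_coprime p G
  show Cfsg.pPrimeCore p (G ⧸ O) ≤ ⊥
  unfold Cfsg.pPrimeCore
  apply sSup_le
  rintro Nb ⟨hNbn, hNbc⟩
  set N : Subgroup G := Nb.comap (QuotientGroup.mk' O) with hN
  have hNn : N.Normal := hNbn.comap _
  have hNcard : Nat.card N = Nat.card Nb * Nat.card O :=
    Cfsg.Agent.Lib.Lead_Hall.card_comap_mk O Nb
  have hNO : N ≤ O := by
    apply Cfsg.Agent.Lib.Helper5_PPrime.le_pPrimeCore (hN := hNn)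
    rw [hNcard]
    exact Nat.Coprime.mul_left hNbc hOcop
  have hmapN : N.map (QuotientGroup.mk' O) = Nb :=
    Subgroup.map_comap_eq_self_of_surjective (QuotientGroup.mk'_surjective O) Nb
  rw [← hmapN]
  rintro _ ⟨x, hx, rfl⟩
  rw [Subgroup.mem_bot]
  have : x ∈ (QuotientGroup.mk' O).ker := by rw [QuotientGroup.ker_mk']; exact hNO hx
  exact this

/-- if `O_{p'}(H) = 1` then `O_{p',p}(H) = O_p(H)` -/
theorem pPrimePCore_eq_pCore {H : Type*} [Group H] [Finite H] {p : ℕ} [Fact p.Prime]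
    (h : Cfsg.pPrimeCore p H = ⊥) : Cfsg.pPrimePCore p H = Cfsg.pCore p H := by
  classical
  unfold Cfsg.pPrimePCore
  set O := Cfsg.pPrimeCore p H with hO
  apply le_antisymm
  · have hn : ((Cfsg.pCore p (H ⧸ O)).comap (QuotientGroup.mk' O)).Normal :=
      (Cfsg.Agent.Lib.Helper7_PCore.pCore_normal p).comap _
    apply Cfsg.Agent.Lib.Helper7_PCore.le_pCore hn
    have hcard := Cfsg.Agent.Lib.Lead_Hall.card_comap_mk O (Cfsg.pCore p (H ⧸ O))
    have hO1 : Nat.card O = 1 := by rw [h, Subgroup.card_bot]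
    rw [hO1, mul_one] at hcard
    obtain ⟨j, hj⟩ := IsPGroup.iff_card.mp
      (Cfsg.Agent.Lib.Helper7_PCore.pCore_isPGroup (G := H ⧸ O) p)
    exact IsPGroup.of_card (n := j) (by rw [hcard, hj])
  · intro x hx
    rw [Subgroup.mem_comap]
    have hn : ((Cfsg.pCore p H).map (QuotientGroup.mk' O)).Normal :=
      Subgroup.Normal.map (Cfsg.Agent.Lib.Helper7_PCore.pCore_normal p) _
        (QuotientGroup.mk'_surjective O)
    have hpg : IsPGroup p ((Cfsg.pCore p H).map (QuotientGroup.mk' O)) :=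
      (Cfsg.Agent.Lib.Helper7_PCore.pCore_isPGroup p).map _
    exact Cfsg.Agent.Lib.Helper7_PCore.le_pCore hn hpg (Subgroup.mem_map_of_mem _ hx)

/-- when `O_{p'}(H) = 1`, `p`-constraint says that `O_p(H)` contains its centralizer -/
theorem constrained_iff_of_pPrimeCore_eq_bot {H : Type*} [Group H] [Finite H] {p : ℕ}
    [Fact p.Prime] (h : Cfsg.pPrimeCore p H = ⊥) :
    Cfsg.IsPConstrained p H ↔
      Subgroup.centralizer (Cfsg.pCore p H : Set H) ≤ Cfsg.pCore p H := by
  classical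
  have hL := pPrimePCore_eq_pCore h
  unfold Cfsg.IsPConstrained
  have hLp : IsPGroup p (Cfsg.pPrimePCore p H) := by
    rw [hL]; exact Cfsg.Agent.Lib.Helper7_PCore.pCore_isPGroup p
  have hsyl : ∀ P : Sylow p ↥(Cfsg.pPrimePCore p H),
      (P : Subgroup ↥(Cfsg.pPrimePCore p H)).map (Cfsg.pPrimePCore p H).subtype =
        Cfsg.pPrimePCore p H := by
    intro P
    have htop : (P : Subgroup ↥(Cfsg.pPrimePCore p H)) = ⊤ := by
      have h1 : IsPGroup p (⊤ : Subgroup ↥(Cfsg.pPrimePCore p H)) := by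
        intro x
        obtain ⟨j, hj⟩ := hLp x.1
        exact ⟨j, Subtype.ext hj⟩
      exact (P.is_maximal' h1 le_top).symm
    rw [htop, ← MonoidHom.range_eq_map, Subgroup.range_subtype]
  constructor
  · intro hcon
    obtain ⟨P⟩ : Nonempty (Sylow p ↥(Cfsg.pPrimePCore p H)) := inferInstance
    have := hcon P
    rw [hsyl P, hL] at this
    exact this
  · intro hcon P
    rw [hsyl P, hL]
    exact hcon

/-- p-constraint passes to and from the quotient by the largest normal subgroup of order prime to p. -/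
theorem result {G : Type*} [Group G] [Finite G] {p : ℕ} [Fact p.Prime] : Cfsg.IsPConstrained p G ↔ Cfsg.IsPConstrained p (G ⧸ Cfsg.pPrimeCore p G) := by
  classical
  have hpp := (Fact.out : p.Prime)
  rw [constrained_iff_of_pPrimeCore_eq_bot (pPrimeCore_quotient_self p)]
  set O : Subgroup G := Cfsg.pPrimeCore p G with hO
  have hOcop : (Nat.card O).Coprime p := Cfsg.Agent.Lib.Helper5_PPrime.pPrimeCore_coprime p G
  set Q : Subgroup (G ⧸ O) := Cfsg.pCore p (G ⧸ O) with hQ
  have hQp : IsPGroup p Q := Cfsg.Agent.Lib.Helper7_PCore.pCore_isPGroup p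
  set L : Subgroup G := Cfsg.pPrimePCore p G with hL
  have hLdef : L = Q.comap (QuotientGroup.mk' O) := rfl
  set π := QuotientGroup.mk' O with hπ
  -- the restriction of the projection to `L → Q`
  let f : L →* Q := MonoidHom.codRestrict (π.comp L.subtype) Q (fun x => x.2)
  have hf : Function.Surjective f := by
    rintro ⟨q, hq⟩
    obtain ⟨x, hx⟩ := QuotientGroup.mk'_surjective O q
    have hxL : x ∈ L := by
      rw [hLdef, Subgroup.mem_comap, hx]; exact hq
    exact ⟨⟨x, hxL⟩, Subtype.ext hx⟩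
  -- the image of a Sylow subgroup of `L` is all of `Q`
  have himage : ∀ P : Sylow p ↥L, ∀ q ∈ Q, ∃ a : L, a ∈ P ∧ π (a : G) = q := by
    intro P q hq
    have htop : ((P.mapSurjective hf : Sylow p Q) : Subgroup Q) = ⊤ := by
      have h1 : IsPGroup p (⊤ : Subgroup Q) := by
        intro x
        obtain ⟨j, hj⟩ := hQp x.1
        exact ⟨j, Subtype.ext hj⟩
      exact ((P.mapSurjective hf).is_maximal' h1 le_top).symm
    have h2 : (⟨q, hq⟩ : Q) ∈ ((P.mapSurjective hf : Sylow p Q) : Subgroup Q) := by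
      rw [htop]; trivial
    rw [Sylow.coe_mapSurjective] at h2
    obtain ⟨a, ha, hfa⟩ := h2
    exact ⟨a, ha, congrArg Subtype.val hfa⟩
  constructor
  · -- from `G` to the quotient
    intro hcon xb hxb
    obtain ⟨P⟩ : Nonempty (Sylow p ↥L) := inferInstance
    set P' : Subgroup G := (P : Subgroup ↥L).map L.subtype with hP'
    have hP'p : IsPGroup p P' := P.isPGroup'.map _
    obtain ⟨x, hx⟩ := QuotientGroup.mk'_surjective O xb
    have hxb' : xb = π x := hx.symm
    have hy : ∀ a ∈ P', x⁻¹ * a * x * a⁻¹ ∈ O := by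
      rintro _ ⟨a, ha, rfl⟩
      rw [← QuotientGroup.ker_mk' O, MonoidHom.mem_ker]
      have haQ : π (a : G) ∈ Q := a.2
      have h1 := Subgroup.mem_centralizer_iff.mp hxb (π (a : G)) haQ
      rw [hxb'] at h1
      show π (x⁻¹ * L.subtype a * x * (L.subtype a)⁻¹) = 1
      rw [map_mul, map_mul, map_mul, map_inv, map_inv]
      show (π x)⁻¹ * π (a : G) * π x * (π (a : G))⁻¹ = 1
      rw [mul_assoc (π x)⁻¹, h1]
      group
    have hOn : Subgroup.normalizer (O : Set G) = ⊤ := Subgroup.normalizer_eq_top _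
    have hcopPO : (Nat.card P').Coprime (Nat.card O) := by
      obtain ⟨j, hj⟩ := IsPGroup.iff_card.mp hP'p
      rw [hj]
      exact Nat.Coprime.pow_left j hOcop.symm
    have hPsolv : Group.IsSolvable P' := by
      have : Group.IsNilpotent P' := hP'p.isNilpotent
      infer_instance
    obtain ⟨d, hd, hxd⟩ := Cfsg.Agent.Lib.Lead_Coprime.lemmaC O P'
      (by rw [hOn]; exact le_top) hcopPO (Or.inl hPsolv) x hy
    have hπd : π d = 1 := by
      have : d ∈ π.ker := by rw [hπ, QuotientGroup.ker_mk']; exact hd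
      exact this
    have hxdL : x * d ∈ L := hcon P hxd
    have h3 : π (x * d) ∈ Q := hxdL
    rw [map_mul, hπd, mul_one] at h3
    rw [hxb']
    exact h3
  · -- from the quotient to `G`
    intro hcon P x hx
    show π x ∈ Q
    apply hcon
    rw [Subgroup.mem_centralizer_iff]
    intro q hq
    obtain ⟨a, ha, haq⟩ := himage P q hq
    have h1 : (a : G) * x = x * (a : G) :=
      Subgroup.mem_centralizer_iff.mp hx (a : G) ⟨a, ha, rfl⟩
    rw [← haq, ← map_mul, ← map_mul, h1]

end Cfsg.Agent.S0630
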