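import Cfsg.Statements.S0634
import Mathlib
import Cfsg.Agent.Lib.Helper6_HallHigman

set_option autoImplicit false
open Cfsg

namespace Cfsg.Agent.S0634

theorem upper_odd {G : Type*} [Group G] (p k : ℕ) :
    (Cfsg.upperPSeries p G (2 * k + 1)).1 =
      (Cfsg.pPrimeCore p (G ⧸ (Cfsg.upperPSeries p G (2 * k)).1)).comap
        (QuotientGroup.mk' (Cfsg.upperPSeries p G (2 * k)).1) := by
  have he : Even (2 * k) := even_two_mul k
  rw [Cfsg.upperPSeries]
  rw [if_pos he]

theorem upper_even {G : Type*} [Group G] (p k : ℕ) :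
    (Cfsg.upperPSeries p G (2 * k + 2)).1 =
      (Cfsg.pCore p (G ⧸ (Cfsg.upperPSeries p G (2 * k + 1)).1)).comap
        (QuotientGroup.mk' (Cfsg.upperPSeries p G (2 * k + 1)).1) := by
  have he : ¬ Even (2 * k + 1) := by
    rw [Nat.not_even_iff_odd]; exact odd_two_mul_add_one k
  rw [Cfsg.upperPSeries]
  rw [if_neg he]

/-- the quotient by the preimage of the `p'`-core of a quotient has trivial `p'`-core -/
theorem pPrimeCore_quotient_eq_bot {G : Type*} [Group G] [Finite G] {p : ℕ} [Fact p.Prime]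
    (V W : Subgroup G) [V.Normal] [W.Normal]
    (hW : W = (Cfsg.pPrimeCore p (G ⧸ V)).comap (QuotientGroup.mk' V)) :
    Cfsg.pPrimeCore p (G ⧸ W) = ⊥ := by
  classical
  rw [eq_bot_iff]
  unfold Cfsg.pPrimeCore
  apply sSup_le
  rintro Nb ⟨hNbn, hNbc⟩
  have hVW : V ≤ W := by
    rw [hW]; exact Cfsg.Agent.Lib.Lead_Hall.le_comap_mk V _
  set N : Subgroup G := Nb.comap (QuotientGroup.mk' W) with hN
  have hNn : N.Normal := hNbn.comap _
  have hWN : W ≤ N := Cfsg.Agent.Lib.Lead_Hall.le_comap_mk W Nb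
  have hNcard : Nat.card N = Nat.card Nb * Nat.card W :=
    Cfsg.Agent.Lib.Lead_Hall.card_comap_mk W Nb
  have hWcard : Nat.card W = Nat.card (Cfsg.pPrimeCore p (G ⧸ V)) * Nat.card V := by
    rw [hW]; exact Cfsg.Agent.Lib.Lead_Hall.card_comap_mk V _
  have hmapcard : Nat.card (N.map (QuotientGroup.mk' V)) * Nat.card V = Nat.card N :=
    Cfsg.Agent.Lib.Lead_SZ.card_map_of_le V N (hVW.trans hWN)
  have hmc : Nat.card (N.map (QuotientGroup.mk' V)) =
      Nat.card Nb * Nat.card (Cfsg.pPrimeCore p (G ⧸ V)) := by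
    have hVpos : 0 < Nat.card V := Nat.card_pos
    apply Nat.eq_of_mul_eq_mul_right hVpos
    rw [hmapcard, hNcard, hWcard, mul_assoc]
  have hmapn : (N.map (QuotientGroup.mk' V)).Normal :=
    Subgroup.Normal.map hNn _ (QuotientGroup.mk'_surjective V)
  have hcop : (Nat.card (N.map (QuotientGroup.mk' V))).Coprime p := by
    rw [hmc]
    exact Nat.Coprime.mul_left hNbc (Cfsg.Agent.Lib.Helper5_PPrime.pPrimeCore_coprime p (G ⧸ V))
  have hle : N.map (QuotientGroup.mk' V) ≤ Cfsg.pPrimeCore p (G ⧸ V) :=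
    Cfsg.Agent.Lib.Helper5_PPrime.le_pPrimeCore (hN := hmapn) _ hcop
  have hNW : N ≤ W := by
    rw [hW]
    intro x hx
    exact hle (Subgroup.mem_map_of_mem _ hx)
  -- hence `Nb` is trivial
  have hmapN : N.map (QuotientGroup.mk' W) = Nb :=
    Subgroup.map_comap_eq_self_of_surjective (QuotientGroup.mk'_surjective W) Nb
  rw [← hmapN]
  rintro _ ⟨x, hx, rfl⟩
  rw [Subgroup.mem_bot]
  have : x ∈ (QuotientGroup.mk' W).ker := by rw [QuotientGroup.ker_mk']; exact hNW hx
  exact this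

/-- In a p-soluble group each p-factor of the upper p-series contains its own centralizer in the corresponding quotient. -/
theorem result {G : Type*} [Group G] [Finite G] {p : ℕ} [Fact p.Prime] (hsol : Cfsg.IsPSolvable p G) (k : ℕ) : Subgroup.centralizer ((((Cfsg.upperPSeries p G (2 * k + 2)).1.map (QuotientGroup.mk' (Cfsg.upperPSeries p G (2 * k + 1)).1)) : Subgroup (G ⧸ (Cfsg.upperPSeries p G (2 * k + 1)).1)) : Set (G ⧸ (Cfsg.upperPSeries p G (2 * k + 1)).1)) ≤ (Cfsg.upperPSeries p G (2 * k + 2)).1.map (QuotientGroup.mk' (Cfsg.upperPSeries p G (2 * k + 1)).1) := by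
  have hp := (Fact.out : p.Prime)
  have hO : Cfsg.pPrimeCore p (G ⧸ (Cfsg.upperPSeries p G (2 * k + 1)).1) = ⊥ :=
    pPrimeCore_quotient_eq_bot (Cfsg.upperPSeries p G (2 * k)).1
      (Cfsg.upperPSeries p G (2 * k + 1)).1 (upper_odd p k)
  have hsolQ : Cfsg.IsPSolvable p (G ⧸ (Cfsg.upperPSeries p G (2 * k + 1)).1) :=
    Cfsg.Agent.Lib.Helper7_PSolvable.quotient hp hsol _
  have hmap : (Cfsg.upperPSeries p G (2 * k + 2)).1.map
      (QuotientGroup.mk' (Cfsg.upperPSeries p G (2 * k + 1)).1) =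
      Cfsg.pCore p (G ⧸ (Cfsg.upperPSeries p G (2 * k + 1)).1) := by
    rw [upper_even p k]
    exact Subgroup.map_comap_eq_self_of_surjective (QuotientGroup.mk'_surjective _) _
  rw [hmap]
  exact Cfsg.Agent.Lib.Helper6_HallHigman.centralizer_pCore_le hsolQ hO

end Cfsg.Agent.S0634
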