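import Cfsg.Statements.S0016
import Mathlib
import Cfsg.Agent.Lib.Helper6_CyclicP
import Cfsg.Agent.Lib.Helper1_Card
import Cfsg.Agent.Lib.Helper7_PGroupRank
import Cfsg.Agent.Lib.Helper7_QuatLift
import Cfsg.Agent.S3771

set_option autoImplicit false
open Cfsg

namespace Cfsg.Agent.S0016

open Cfsg.Agent.Lib.Helper6_CyclicP

/-- Key lemma. `A` a cyclic normal self-centralizing 2-subgroup of `G`, `G` has at most one
involution `z`; `x ∉ A`, `x² ∈ A`. Then `x` inverts `A`. -/
theorem inverts {G : Type*} [Group G] [Finite G] (A : Subgroup G) [hAn : A.Normal]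
    (hAc : IsCyclic A) (hA2 : IsPGroup 2 A)
    (hCA : Subgroup.centralizer (A : Set G) = A)
    (z : G) (hzA : z ∈ A) (hz : ∀ t : G, t ^ 2 = 1 → t = 1 ∨ t = z)
    (x : G) (hxA : x ∉ A) (hx2 : x ^ 2 ∈ A) : ∀ b ∈ A, x * b * x⁻¹ = b⁻¹ := by
  have : Fact (Nat.Prime 2) := ⟨Nat.prime_two⟩
  let instC : CommGroup A := IsCyclic.commGroup
  -- conjugation by x on A
  let φ : A →* A := (MulAut.conjNormal x : MulAut A).toMonoidHom
  have hφ : ∀ b : A, ((φ b : A) : G) = x * b * x⁻¹ := fun b => MulAut.conjNormal_apply x b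
  -- the norm map
  let N : A →* A := MonoidHom.mk' (fun b => b * φ b) (by
    intro a b
    rw [map_mul]
    exact mul_mul_mul_comm a b (φ a) (φ b))
  have hN : ∀ b : A, N b = b * φ b := fun b => rfl
  -- fixed points
  let F : Subgroup A := (Subgroup.centralizer ({x} : Set G)).subgroupOf A
  have hF : ∀ b : A, b ∈ F ↔ φ b = b := by
    intro b
    rw [Subgroup.mem_subgroupOf, Subgroup.mem_centralizer_singleton_iff]
    constructor
    · intro h
      apply Subtype.ext
      rw [hφ, ← h]; group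
    · intro h
      have h1 := congrArg (fun c : A => (c : G)) h
      simp only [hφ] at h1
      calc (b : G) * x = (x * b * x⁻¹) * x := by rw [h1]
        _ = x * b := by group
  let I : Subgroup A := N.ker
  have hI : ∀ b : A, b ∈ I ↔ φ b = b⁻¹ := by
    intro b
    rw [MonoidHom.mem_ker, hN]
    constructor
    · intro h; exact (inv_eq_of_mul_eq_one_right h).symm
    · intro h; rw [h]; exact mul_inv_cancel b
  -- x^2 as an element of A
  let x2 : A := ⟨x ^ 2, hx2⟩
  have hφφ : ∀ b : A, φ (φ b) = b := by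
    intro b
    apply Subtype.ext
    rw [hφ, hφ]
    have h1 : (x2 : G) * b = b * x2 := congrArg (fun c : A => (c : G)) (mul_comm x2 b)
    have h2 : x * (x * (b : G) * x⁻¹) * x⁻¹ = (x ^ 2 * b) * (x ^ 2)⁻¹ := by
      rw [pow_two]; group
    rw [h2]
    have h3 : x ^ 2 * (b : G) = b * x ^ 2 := h1
    rw [h3]; group
  have hrangeF : N.range ≤ F := by
    rintro _ ⟨b, rfl⟩
    rw [hF, hN, map_mul, hφφ, mul_comm]
  have hx2F : x2 ∈ F := by
    rw [hF]
    apply Subtype.ext
    rw [hφ]
    show x * x ^ 2 * x⁻¹ = x ^ 2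
    rw [pow_two]; group
  have hx2N : x2 ∉ N.range := by
    intro h
    have h' : x2⁻¹ ∈ N.range := N.range.inv_mem h
    obtain ⟨b, hb⟩ := h'
    have h1 : (x * (b : G)) ^ 2 = 1 := by
      have h2 := congrArg (fun c : A => (c : G)) hb
      simp only [hN, Subgroup.coe_mul, hφ] at h2
      have h3 : ((x2⁻¹ : A) : G) = (x ^ 2)⁻¹ := rfl
      rw [h3] at h2
      have hcomm : (b : G) * (x * b * x⁻¹) = (x * b * x⁻¹) * b := by
        have := congrArg (fun c : A => (c : G)) (mul_comm b (φ b))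
        simpa [hφ] using this
      have hcomm2 : x ^ 2 * (b : G) = b * x ^ 2 :=
        congrArg (fun c : A => (c : G)) (mul_comm x2 b)
      calc (x * (b : G)) ^ 2 = (x * b * x⁻¹) * (x ^ 2 * b) := by
            rw [pow_two, pow_two]; group
        _ = (x * b * x⁻¹) * (b * x ^ 2) := by rw [hcomm2]
        _ = (b * (x * b * x⁻¹)) * x ^ 2 := by rw [hcomm]; group
        _ = 1 := by rw [h2]; group
    rcases hz _ h1 with h4 | h4
    · apply hxA
      have : x = (b : G)⁻¹ := eq_inv_of_mul_eq_one_left h4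
      rw [this]; exact A.inv_mem b.2
    · apply hxA
      have : x = z * (b : G)⁻¹ := by rw [← h4]; group
      rw [this]; exact A.mul_mem hzA (A.inv_mem b.2)
  -- cardinalities
  have hc1 : Nat.card I * Nat.card N.range = Nat.card A := by
    have h1 := Subgroup.card_mul_index N.ker
    rw [Subgroup.index_ker] at h1
    exact h1
  have hlt : N.range < F := lt_of_le_of_ne hrangeF (fun h => hx2N (h ▸ hx2F))
  have hc2 : 2 * Nat.card N.range ≤ Nat.card F := by
    obtain ⟨k, hk⟩ := Subgroup.card_dvd_of_le hrangeF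
    have h1 : Nat.card N.range < Nat.card F := by
      have h2 : ((N.range : Subgroup A) : Set A) ⊂ (F : Set A) := SetLike.coe_ssubset_coe.mpr hlt
      have h3 := Set.ncard_lt_ncard h2 (Set.toFinite _)
      rw [← Nat.card_coe_set_eq, ← Nat.card_coe_set_eq] at h3
      exact h3
    have hpos : 0 < Nat.card N.range := Nat.card_pos
    rw [hk] at h1 ⊢
    have : 2 ≤ k := by
      by_contra hk2
      have : k = 0 ∨ k = 1 := by omega
      rcases this with rfl | rfl <;> simp at h1
    nlinarith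
  have hc3 : Nat.card (F ⊓ I : Subgroup A) ≤ 2 := by
    have hsub : ((F ⊓ I : Subgroup A) : Set A) ⊆ {1, ⟨z, hzA⟩} := by
      intro b hb
      have hb' : b ∈ F ⊓ I := hb
      have h1 := (hF b).mp (Subgroup.mem_inf.mp hb').1
      have h2 := (hI b).mp (Subgroup.mem_inf.mp hb').2
      have h3 : b = b⁻¹ := h1.symm.trans h2
      have h4 : (b : G) ^ 2 = 1 := by
        have : b * b = 1 := by
          nth_rewrite 2 [h3]; exact mul_inv_cancel b
        rw [pow_two]
        exact congrArg (fun c : A => (c : G)) this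
      rcases hz _ h4 with h5 | h5
      · left; exact Subtype.ext h5
      · right; exact Subtype.ext h5
    have h1 := Set.ncard_le_ncard hsub (Set.toFinite _)
    rw [← Nat.card_coe_set_eq] at h1
    have h2 : ({1, ⟨z, hzA⟩} : Set A).ncard ≤ 2 := by
      refine (Set.ncard_insert_le _ _).trans ?_
      rw [Set.ncard_singleton]
    exact h1.trans h2
  have hc4 : Nat.card (F ⊔ I : Subgroup A) * Nat.card (F ⊓ I : Subgroup A)
      = Nat.card F * Nat.card I :=
    Cfsg.Agent.Lib.Helper1_Card.card_sup_mul_card_inf_of_normal F I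
  have htop : F ⊔ I = ⊤ := by
    apply Subgroup.eq_top_of_le_card
    have hpos : 0 < Nat.card I := Nat.card_pos
    have hpos2 : 0 < Nat.card (F ⊔ I : Subgroup A) := Nat.card_pos
    nlinarith
  have hA2' : IsPGroup 2 A := hA2
  rcases le_total_of_cyclic' hA2' F I with hFI | hIF
  · -- I = ⊤
    have hItop : I = ⊤ := by rw [← htop]; exact (sup_eq_right.mpr hFI).symm
    intro b hb
    have h1 : (⟨b, hb⟩ : A) ∈ I := by rw [hItop]; trivial
    have h2 := (hI _).mp h1
    have h3 := congrArg (fun c : A => (c : G)) h2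
    simpa [hφ] using h3
  · -- F = ⊤ : contradiction
    exfalso
    have hFtop : F = ⊤ := by rw [← htop]; exact (sup_eq_left.mpr hIF).symm
    apply hxA
    rw [← hCA, Subgroup.mem_centralizer_iff]
    intro b hb
    have h1 : (⟨b, hb⟩ : A) ∈ F := by rw [hFtop]; trivial
    rw [Subgroup.mem_subgroupOf, Subgroup.mem_centralizer_singleton_iff] at h1
    exact h1

/-- any two involutions coincide -/
theorem involution_unique {G : Type*} [Group G] [Finite G]
    (huniq : ∀ H K : Subgroup G, Nat.card H = 2 → Nat.card K = 2 → H = K)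
    (s t : G) (hs : s ^ 2 = 1) (hs1 : s ≠ 1) (ht : t ^ 2 = 1) (ht1 : t ≠ 1) : t = s := by
  classical
  have hos : orderOf s = 2 := orderOf_eq_prime hs hs1
  have hot : orderOf t = 2 := orderOf_eq_prime ht ht1
  have h1 : Nat.card (Subgroup.zpowers s) = 2 := by rw [Nat.card_zpowers, hos]
  have h2 : Nat.card (Subgroup.zpowers t) = 2 := by rw [Nat.card_zpowers, hot]
  have h3 := huniq _ _ h1 h2
  have h4 : t ∈ Subgroup.zpowers s := by rw [h3]; exact Subgroup.mem_zpowers t
  rw [← mem_powers_iff_mem_zpowers, mem_powers_iff_mem_range_orderOf, hos] at h4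
  simp only [Finset.mem_image, Finset.mem_range] at h4
  obtain ⟨i, hi, rfl⟩ := h4
  interval_cases i
  · simp at ht1
  · simp

theorem two_group_case {G : Type*} [Group G] [Finite G] (hG : IsPGroup 2 G)
    (huniq : ∀ H K : Subgroup G, Nat.card H = 2 → Nat.card K = 2 → H = K) (hnc : ¬ IsCyclic G) :
    ∃ n : ℕ, Nonempty (G ≃* QuaternionGroup (2 ^ n)) := by
  classical
  have : Fact (Nat.Prime 2) := ⟨Nat.prime_two⟩
  have hnt : Nontrivial G := by
    by_contra h
    rw [not_nontrivial_iff_subsingleton] at h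
    exact hnc inferInstance
  -- the involution
  obtain ⟨e, he⟩ := hG.exists_card_eq
  have he1 : 1 ≤ e := by
    by_contra h
    have : e = 0 := by omega
    rw [this, pow_zero] at he
    have := Finite.one_lt_card (α := G)
    omega
  have h2dvd : 2 ∣ Nat.card G := by rw [he]; exact dvd_pow_self 2 (by omega)
  obtain ⟨z, hzo⟩ := exists_prime_orderOf_dvd_card' 2 h2dvd
  have hz2 : z ^ 2 = 1 := by rw [← hzo]; exact pow_orderOf_eq_one z
  have hz1 : z ≠ 1 := by
    intro h; rw [h, orderOf_one] at hzo; omega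
  have hz : ∀ t : G, t ^ 2 = 1 → t = 1 ∨ t = z := by
    intro t ht
    by_cases ht1 : t = 1
    · exact Or.inl ht1
    · exact Or.inr (involution_unique huniq z t hz2 hz1 ht ht1)
  -- self-centralizing normal subgroup
  have hnil : Group.IsNilpotent G := hG.isNilpotent
  obtain ⟨A, hAn, hCA⟩ := Cfsg.Agent.S3771.exists_self_centralizing (R := G)
  have hAab : ∀ a ∈ A, ∀ b ∈ A, a * b = b * a := by
    intro a ha b hb
    have h1 : a ∈ Subgroup.centralizer (A : Set G) := by rw [hCA]; exact ha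
    exact (Subgroup.mem_centralizer_iff.mp h1 b hb).symm
  have hA2 : IsPGroup 2 A := hG.to_subgroup A
  have hAc : IsCyclic A := by
    have hR : ∀ x u : A, x * u = u * x → x ^ 2 = 1 → u ^ 2 = 1 → x ≠ 1 →
        u ∈ Subgroup.zpowers x := by
      intro x u _ hx hu hx1
      have hx' : (x : G) ^ 2 = 1 := congrArg (fun c : A => (c : G)) hx
      have hu' : (u : G) ^ 2 = 1 := congrArg (fun c : A => (c : G)) hu
      have hxz : (x : G) = z := by
        rcases hz _ hx' with h | h
        · exact absurd (Subtype.ext h) hx1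
        · exact h
      rcases hz _ hu' with h | h
      · have : u = 1 := Subtype.ext h
        rw [this]; exact Subgroup.one_mem _
      · have : u = x := Subtype.ext (h.trans hxz.symm)
        rw [this]; exact Subgroup.mem_zpowers x
    rcases Cfsg.Agent.Lib.Helper7_PGroupRank.cyclic_or_quaternion_like hA2 hR with h | ⟨-, a, b, hab, -⟩
    · exact h
    · exfalso
      apply hab
      have := hAab a a.2 b b.2
      have h1 : a * b = b * a := Subtype.ext this
      rw [h1]; group
  -- A ≠ ⊤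
  have hAtop : A ≠ ⊤ := by
    intro h
    apply hnc
    have : IsCyclic (⊤ : Subgroup G) := h ▸ hAc
    exact isCyclic_of_surjective (Subgroup.topEquiv (G := G)).toMonoidHom
      (Subgroup.topEquiv (G := G)).surjective
  -- z is central
  have hzc : ∀ g : G, g * z * g⁻¹ = z := by
    intro g
    have h1 : (g * z * g⁻¹) ^ 2 = 1 := by rw [conj_pow, hz2]; group
    rcases hz _ h1 with h | h
    · exfalso; apply hz1
      have : z = g⁻¹ * (g * z * g⁻¹) * g := by group
      rw [this, h]; group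
    · exact h
  -- card A = 2^k, k ≥ 2
  obtain ⟨k, hk⟩ := hA2.exists_card_eq
  have hk2 : 2 ≤ k := by
    by_contra hlt
    apply hAtop
    rw [← hCA]
    rw [Subgroup.eq_top_iff']
    intro g
    rw [Subgroup.mem_centralizer_iff]
    intro b hb
    -- b² = 1 since |A| ≤ 2
    have hb2 : b ^ 2 = 1 := by
      have h1 : (⟨b, hb⟩ : A) ^ Nat.card A = 1 := pow_card_eq_one'
      have h2 : (⟨b, hb⟩ : A) ^ 2 = 1 := by
        have hk' : k = 0 ∨ k = 1 := by omega
        rcases hk' with rfl | rfl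
        · rw [hk, pow_zero, pow_one] at h1
          rw [h1, one_pow]
        · rw [hk, pow_one] at h1; exact h1
      exact congrArg (fun c : A => (c : G)) h2
    rcases hz _ hb2 with h | h
    · rw [h]; simp
    · rw [h]
      have := hzc g
      calc z * g = (g * z * g⁻¹)⁻¹⁻¹ * g := by rw [this, inv_inv]
        _ = g * z := by group
  -- z ∈ A
  have hzA : z ∈ A := by
    have h2dvdA : 2 ∣ Nat.card A := by rw [hk]; exact dvd_pow_self 2 (by omega)
    obtain ⟨w, hwo⟩ := exists_prime_orderOf_dvd_card' 2 h2dvdA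
    have hw2 : (w : G) ^ 2 = 1 := by
      have : w ^ 2 = 1 := by rw [← hwo]; exact pow_orderOf_eq_one w
      exact congrArg (fun c : A => (c : G)) this
    rcases hz _ hw2 with h | h
    · exfalso
      have : w = 1 := Subtype.ext h
      rw [this, orderOf_one] at hwo; omega
    · rw [← h]; exact w.2
  -- generator
  obtain ⟨g₀, hg₀⟩ := hAc.exists_generator
  have hog₀ : orderOf g₀ = 2 ^ k := by
    rw [orderOf_eq_card_of_forall_mem_zpowers hg₀, hk]
  set a₀ : G := (g₀ : G) with ha₀
  have ha₀A : a₀ ∈ A := g₀.2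
  have hoa₀ : orderOf a₀ = 2 ^ k := by rw [ha₀, Subgroup.orderOf_coe, hog₀]
  have hAz : ∀ b ∈ A, ∃ i : ℤ, a₀ ^ i = b := by
    intro b hb
    obtain ⟨i, hi⟩ := Subgroup.mem_zpowers_iff.mp (hg₀ ⟨b, hb⟩)
    refine ⟨i, ?_⟩
    have := congrArg (fun c : A => (c : G)) hi
    simpa using this
  -- Step 6: every g ∉ A has g² ∈ A
  have hkey := fun x hxA hx2 => inverts A hAc hA2 hCA z hzA hz x hxA hx2
  have hsq : ∀ g : G, g ∉ A → g ^ 2 ∈ A := by
    intro g hgA
    by_contra hg2
    have hex : ∃ j : ℕ, g ^ (2 ^ j) ∈ A := ⟨e, by rw [← he, pow_card_eq_one']; exact A.one_mem⟩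
    set m := Nat.find hex with hm
    have hmA : g ^ (2 ^ m) ∈ A := Nat.find_spec hex
    have hmin : ∀ j < m, g ^ (2 ^ j) ∉ A := fun j hj => Nat.find_min hex hj
    have hm2 : 2 ≤ m := by
      by_contra hlt
      have hm' : m = 0 ∨ m = 1 := by omega
      rcases hm' with h | h
      · rw [h, pow_zero, pow_one] at hmA; exact hgA hmA
      · rw [h, pow_one] at hmA; exact hg2 hmA
    set y := g ^ (2 ^ (m - 2)) with hy
    set x := y ^ 2 with hx
    have hxg : x = g ^ (2 ^ (m - 1)) := by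
      rw [hx, hy, ← pow_mul, ← pow_succ]
      congr 2; omega
    have hxA : x ∉ A := by rw [hxg]; exact hmin _ (by omega)
    have hx2 : x ^ 2 ∈ A := by
      have : x ^ 2 = g ^ (2 ^ m) := by
        rw [hxg, ← pow_mul, ← pow_succ]
        congr 2; omega
      rw [this]; exact hmA
    have hinv := hkey x hxA hx2
    -- y a₀ y⁻¹ = a₀ ^ s
    have hyA : y * a₀ * y⁻¹ ∈ A := hAn.conj_mem a₀ ha₀A y
    obtain ⟨s, hs⟩ := hAz _ hyA
    have h1 : x * a₀ * x⁻¹ = a₀ ^ (s * s) := by
      have : x * a₀ * x⁻¹ = y * (y * a₀ * y⁻¹) * y⁻¹ := by rw [hx, pow_two]; group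
      rw [this, ← hs, ← conj_zpow, ← hs, ← zpow_mul]
    rw [hinv a₀ ha₀A] at h1
    have h2 : a₀ ^ (s * s + 1) = 1 := by
      rw [zpow_add, ← h1, zpow_one]; group
    have h3 := orderOf_dvd_iff_zpow_eq_one.mpr h2
    rw [hoa₀] at h3
    have h4 : (4 : ℤ) ∣ s * s + 1 := by
      refine dvd_trans ?_ h3
      have : (2 : ℕ) ^ 2 ∣ 2 ^ k := pow_dvd_pow 2 hk2
      exact_mod_cast this
    have h5 : ((s * s + 1 : ℤ) : ZMod 4) = 0 := (ZMod.intCast_zmod_eq_zero_iff_dvd _ 4).mpr h4
    push_cast at h5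
    have h6 : ∀ r : ZMod 4, r * r + 1 ≠ 0 := by decide
    exact h6 _ h5
  -- choose x₀ ∉ A
  obtain ⟨x₀, hx₀⟩ : ∃ x₀ : G, x₀ ∉ A := by
    by_contra h
    push Not at h
    exact hAtop ((Subgroup.eq_top_iff' A).mpr h)
  have hx₀inv := hkey x₀ hx₀ (hsq x₀ hx₀)
  have hx₀sq : x₀ * x₀ = z := by
    have h1 := hx₀inv (x₀ ^ 2) (hsq x₀ hx₀)
    have h2 : x₀ * x₀ ^ 2 * x₀⁻¹ = x₀ ^ 2 := by rw [pow_two]; group
    rw [h2] at h1
    have h3 : (x₀ ^ 2) ^ 2 = 1 := by
      rw [pow_two (x₀ ^ 2)]
      nth_rewrite 2 [h1]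
      exact mul_inv_cancel _
    rcases hz _ h3 with h | h
    · exfalso
      rcases hz _ h with h' | h'
      · apply hx₀; rw [h']; exact A.one_mem
      · apply hx₀; rw [h']; exact hzA
    · rw [← pow_two]; exact h
  -- every g ∉ A lies in x₀ A
  have hcoset : ∀ g : G, g ∉ A → x₀⁻¹ * g ∈ A := by
    intro g hg
    have hginv := hkey g hg (hsq g hg)
    rw [← hCA, Subgroup.mem_centralizer_iff]
    intro b hb
    have h1 : g * b * g⁻¹ = b⁻¹ := hginv b hb
    have h2 : x₀ * b * x₀⁻¹ = b⁻¹ := hx₀inv b hb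
    have h3 : g * b = b⁻¹ * g := by rw [← h1]; group
    have h4 : x₀ * b = b⁻¹ * x₀ := by rw [← h2]; group
    have h5 : x₀⁻¹ * b⁻¹ = b * x₀⁻¹ := by
      have : b⁻¹ = x₀ * b * x₀⁻¹ := h2.symm
      rw [this]; group
    calc b * (x₀⁻¹ * g) = (b * x₀⁻¹) * g := by group
      _ = (x₀⁻¹ * b⁻¹) * g := by rw [h5]
      _ = x₀⁻¹ * (b⁻¹ * g) := by group
      _ = x₀⁻¹ * (g * b) := by rw [h3]
      _ = x₀⁻¹ * g * b := by group
  -- index 2
  have hidx : A.index = 2 := by
    rw [Subgroup.index_eq_two_iff]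
    refine ⟨x₀, fun b => ?_⟩
    by_cases hb : b ∈ A
    · refine Or.inr ⟨hb, fun h => hx₀ ?_⟩
      have : x₀ = b⁻¹ * (b * x₀) := by group
      rw [this]; exact A.mul_mem (A.inv_mem hb) h
    · refine Or.inl ⟨?_, hb⟩
      -- b * x₀ ∈ A: b and x₀⁻¹ both outside A
      have hx₀' : x₀⁻¹ ∉ A := fun h => hx₀ (by simpa using A.inv_mem h)
      have h1 := hcoset b hb
      -- b = x₀ * c, c ∈ A; b * x₀ = x₀ c x₀ = x₀ c x₀⁻¹ x₀² = c⁻¹ z
      have h2 : b * x₀ = (x₀ * (x₀⁻¹ * b) * x₀⁻¹) * (x₀ * x₀) := by group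
      rw [h2, hx₀inv _ h1, hx₀sq]
      exact A.mul_mem (A.inv_mem h1) hzA
  have hcardG : Nat.card G = 2 ^ k * 2 := by
    rw [← Subgroup.card_mul_index A, hk, hidx]
  -- the isomorphism
  set N : ℕ := 2 ^ (k - 1) with hN
  have h2N : 2 * N = 2 ^ k := by
    rw [hN, ← pow_succ']; congr 1; omega
  have hA' : a₀ ^ (2 * N) = 1 := by rw [h2N, ← hoa₀]; exact pow_orderOf_eq_one a₀
  have haN : a₀ ^ N = z := by
    have h1 : (a₀ ^ N) ^ 2 = 1 := by rw [← pow_mul, mul_comm, hA']
    rcases hz _ h1 with h | h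
    · exfalso
      have := orderOf_dvd_of_pow_eq_one h
      rw [hoa₀, ← h2N] at this
      have hNpos : 0 < N := by positivity
      have := Nat.le_of_dvd hNpos this
      omega
    · exact h
  have hX : x₀ * x₀ = a₀ ^ N := by rw [haN]; exact hx₀sq
  have hXA : x₀ * a₀ = a₀⁻¹ * x₀ := by
    rw [← hx₀inv a₀ ha₀A]; group
  let f : QuaternionGroup N →* G := Cfsg.Agent.Lib.Helper7_QuatLift.lift a₀ x₀ hA' hX hXA
  have hN1 : 1 < 2 * N := by
    have : 0 < N := by positivity
    omega
  have hfa : a₀ ∈ f.range := by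
    refine ⟨QuaternionGroup.a 1, ?_⟩
    show a₀ ^ (1 : ZMod (2 * N)).val = a₀
    have : Fact (1 < 2 * N) := ⟨hN1⟩
    rw [ZMod.val_one, pow_one]
  have hfx : x₀ ∈ f.range := by
    refine ⟨QuaternionGroup.xa 0, ?_⟩
    show x₀ * a₀ ^ (0 : ZMod (2 * N)).val = x₀
    rw [ZMod.val_zero, pow_zero, mul_one]
  have hAf : A ≤ f.range := by
    intro b hb
    obtain ⟨i, rfl⟩ := hAz b hb
    exact f.range.zpow_mem hfa i
  have hsurj : Function.Surjective f := by
    rw [← MonoidHom.range_eq_top, Subgroup.eq_top_iff']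
    intro g
    by_cases hg : g ∈ A
    · exact hAf hg
    · have : g = x₀ * (x₀⁻¹ * g) := by group
      rw [this]
      exact f.range.mul_mem hfx (hAf (hcoset g hg))
  have hNne : NeZero N := ⟨by positivity⟩
  have hcardQ : Nat.card (QuaternionGroup N) = 4 * N := by
    rw [Nat.card_eq_fintype_card, QuaternionGroup.card]
  have hbij : Function.Bijective f := by
    apply hsurj.bijective_of_nat_card_le
    rw [hcardQ, hcardG, ← h2N]; omega
  exact ⟨k - 1, ⟨(MulEquiv.ofBijective f hbij).symm⟩⟩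

/-- A finite p-group in which only one subgroup has order p is either cyclic or (with p = 2) isomorphic to a generalized quaternion group. -/
theorem result {G : Type*} [Group G] [Finite G] (p : ℕ) [Fact p.Prime]
    (hG : IsPGroup p G) (huniq : ∀ H K : Subgroup G, Nat.card H = p → Nat.card K = p → H = K) :
    IsCyclic G ∨ (p = 2 ∧ ∃ n : ℕ, Nonempty (G ≃* QuaternionGroup (2 ^ n))) := by
  have hp := (Fact.out : p.Prime)
  by_cases hc : IsCyclic G
  · exact Or.inl hc
  right
  have hR : ∀ x u : G, x * u = u * x → x ^ p = 1 → u ^ p = 1 → x ≠ 1 →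
      u ∈ Subgroup.zpowers x := by
    intro x u _ hx hu hx1
    by_cases hu1 : u = 1
    · rw [hu1]; exact Subgroup.one_mem _
    · have hox : orderOf x = p := orderOf_eq_prime hx hx1
      have hou : orderOf u = p := orderOf_eq_prime hu hu1
      have h1 : Nat.card (Subgroup.zpowers x) = p := by rw [Nat.card_zpowers, hox]
      have h2 : Nat.card (Subgroup.zpowers u) = p := by rw [Nat.card_zpowers, hou]
      rw [huniq _ _ h1 h2]
      exact Subgroup.mem_zpowers u
  rcases Cfsg.Agent.Lib.Helper7_PGroupRank.cyclic_or_quaternion_like hG hR with h | ⟨h2, -⟩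
  · exact absurd h hc
  · subst h2
    exact ⟨rfl, two_group_case hG huniq hc⟩

end Cfsg.Agent.S0016
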