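import Cfsg.Statements.S0029
import Mathlib
import Cfsg.Agent.Lib.Lead_Coprime

set_option autoImplicit false
open Cfsg

namespace Cfsg.Agent.S0029

open Cfsg.Agent.Lib.Lead_SZ Cfsg.Agent.Lib.Lead_Coprime

/-- An action that is trivial on the Frattini quotient and coprime on the Frattini subgroup is trivial: if A normalises K, the orders of A and of the Frattini subgroup of K are coprime, and every commutator of an element of A with an element of K lies in the Frattini subgroup of K, then A centralises K. -/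
theorem result {G : Type*} [Group G] [Finite G] (A K : Subgroup G)
    (hAK : A ≤ Subgroup.normalizer (K : Set G))
    (hcop : (Nat.card A).Coprime (Nat.card (frattini K)))
    (htriv : ∀ a ∈ A, ∀ k ∈ K, a * k * a⁻¹ * k⁻¹ ∈ (frattini K).map K.subtype) :
    A ≤ Subgroup.centralizer (K : Set G) := by
  set Φ := (frattini K).map K.subtype with hΦ
  have hΦK : Φ ≤ K := Subgroup.map_subtype_le _
  have hAΦ : A ≤ Subgroup.normalizer (Φ : Set G) :=
    hAK.trans (normalizer_le_normalizer_char_map (frattini K))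
  have hKΦ : K ≤ Subgroup.normalizer (Φ : Set G) :=
    Subgroup.le_normalizer.trans (normalizer_le_normalizer_char_map (frattini K))
  have hcop' : (Nat.card A).Coprime (Nat.card Φ) := by
    rw [hΦ, Subgroup.card_map_of_injective K.subtype_injective]; exact hcop
  have hsolv' : Group.IsSolvable A ∨ Group.IsSolvable Φ := by
    right
    have h1 : Group.IsNilpotent (frattini K) := frattini_nilpotent
    have h2 : Group.IsSolvable (frattini K) := inferInstance
    exact solvable_map K.subtype (frattini K) h2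
  have hx : ∀ k ∈ K, ∀ a ∈ A, k⁻¹ * a * k * a⁻¹ ∈ Φ := by
    intro k hk a ha
    have h1 := htriv a⁻¹ (A.inv_mem ha) k hk
    rw [inv_inv] at h1
    have h2 := (Subgroup.mem_normalizer_iff.mp (hKΦ (K.inv_mem hk)) _).mp h1
    have h3 := Φ.inv_mem h2
    have h4 := (Subgroup.mem_normalizer_iff.mp (hAΦ ha) _).mp h3
    have e : a * (k⁻¹ * (a⁻¹ * k * a * k⁻¹) * k⁻¹⁻¹)⁻¹ * a⁻¹ = k⁻¹ * a * k * a⁻¹ := by group
    rw [e] at h4; exact h4
  have htop : (K ⊓ Subgroup.centralizer (A : Set G)).subgroupOf K = ⊤ := by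
    apply frattini_nongenerating
    rw [eq_top_iff]
    intro k _
    obtain ⟨d, hd, hdc⟩ := lemmaC Φ A hAΦ hcop' hsolv' (k : G) (hx k k.2)
    obtain ⟨m, hm, rfl⟩ := hd
    have e : k = (k * m) * m⁻¹ := by group
    rw [e]
    refine Subgroup.mul_mem _ (Subgroup.mem_sup_left ?_) (Subgroup.mem_sup_right (Subgroup.inv_mem _ hm))
    rw [Subgroup.mem_subgroupOf]
    exact Subgroup.mem_inf.mpr ⟨(k * m).2, hdc⟩
  intro a ha
  rw [Subgroup.mem_centralizer_iff]
  intro k hk
  have h1 : (⟨k, hk⟩ : K) ∈ (K ⊓ Subgroup.centralizer (A : Set G)).subgroupOf K := by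
    rw [htop]; trivial
  rw [Subgroup.mem_subgroupOf] at h1
  exact (Subgroup.mem_centralizer_iff.mp (Subgroup.mem_inf.mp h1).2 a ha).symm

end Cfsg.Agent.S0029
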