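import Cfsg.Statements.S3910
import Mathlib
import Cfsg.Agent.S3771

set_option autoImplicit false
open Cfsg

namespace Cfsg.Agent.S3910

theorem map_conj_of_normal {P : Type*} [Group P] [Finite P] (A : Subgroup P) (hA : A.Normal)
    (g : P) : A.map (MulAut.conj g).toMonoidHom = A := by
  have hle : A.map (MulAut.conj g).toMonoidHom ≤ A := by
    rintro _ ⟨a, ha, rfl⟩
    exact hA.conj_mem a ha g
  apply Subgroup.eq_of_le_of_card_ge hle
  rw [Subgroup.card_map_of_injective (MulAut.conj g).injective]

theorem orderOf_pow_sub {P : Type*} [Group P] {p : ℕ} (hp : p.Prime) (x : P) (j k : ℕ)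
    (hx : orderOf x = p ^ j) (hkj : k ≤ j) : orderOf (x ^ (p ^ (j - k))) = p ^ k := by
  have hne : p ^ (j - k) ≠ 0 := pow_ne_zero _ hp.ne_zero
  have hd : p ^ (j - k) ∣ orderOf x := by rw [hx]; exact pow_dvd_pow p (Nat.sub_le j k)
  rw [orderOf_pow_of_dvd hne hd, hx, Nat.pow_div (Nat.sub_le j k) hp.pos]
  congr 1
  omega

/-- a finite `p`-group in which abelian subgroups of equal order are conjugate is cyclic -/
theorem pgroup_case {P : Type*} [Group P] [Finite P] {p : ℕ} [Fact p.Prime] (hP : IsPGroup p P)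
    (hB : ∀ A B : Subgroup P, IsMulCommutative A → IsMulCommutative B →
      Nat.card A = Nat.card B → ∃ g : P, B = A.map (MulAut.conj g).toMonoidHom) : IsCyclic P := by
  have hp : p.Prime := Fact.out
  have hnil : Group.IsNilpotent P := hP.isNilpotent
  obtain ⟨A, hAn, hAC⟩ := Cfsg.Agent.S3771.exists_self_centralizing (R := P)
  have hAab : IsMulCommutative A := by
    refine ⟨⟨fun a b => ?_⟩⟩
    apply Subtype.ext
    have h1 : (a : P) ∈ Subgroup.centralizer (A : Set P) := by rw [hAC]; exact a.2
    exact (Subgroup.mem_centralizer_iff.mp h1 (b : P) b.2).symm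
  obtain ⟨k, hk⟩ := IsPGroup.iff_card.mp (hP.to_subgroup A)
  have hzc : ∀ z : P, IsMulCommutative (Subgroup.zpowers z) := fun z => IsCyclic.isMulCommutative
  have hord : ∀ x : P, ∃ j : ℕ, orderOf x = p ^ j := by
    intro x
    obtain ⟨j, hj⟩ := hP x
    obtain ⟨i, -, hi⟩ := (Nat.dvd_prime_pow hp).mp (orderOf_dvd_of_pow_eq_one hj)
    exact ⟨i, hi⟩
  -- every element lies in A
  have hall : ∀ x : P, x ∈ A := by
    intro x
    obtain ⟨j, hj⟩ := hord x
    rcases Nat.lt_or_ge j k with hjk | hkj
    · -- a subgroup of A of order p ^ j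
      have hdvd : p ^ j ∣ Nat.card A := by rw [hk]; exact pow_dvd_pow p hjk.le
      obtain ⟨K, hK⟩ := Sylow.exists_subgroup_card_pow_prime p hdvd
      set D := K.map A.subtype with hD
      have hDA : D ≤ A := Subgroup.map_subtype_le K
      have hDc : Nat.card D = p ^ j := by
        rw [hD, Subgroup.card_map_of_injective A.subtype_injective, hK]
      have hDab : IsMulCommutative D := by
        refine ⟨⟨fun a b => ?_⟩⟩
        apply Subtype.ext
        have := hAab.is_comm.comm ⟨(a : P), hDA a.2⟩ ⟨(b : P), hDA b.2⟩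
        have h := congrArg Subtype.val this
        exact h
      obtain ⟨g, hg⟩ := hB D (Subgroup.zpowers x) hDab (hzc x) (by rw [hDc, Nat.card_zpowers, hj])
      have h1 : x ∈ D.map (MulAut.conj g).toMonoidHom := by
        rw [← hg]; exact Subgroup.mem_zpowers x
      have h2 : D.map (MulAut.conj g).toMonoidHom ≤ A.map (MulAut.conj g).toMonoidHom :=
        Subgroup.map_mono hDA
      rw [map_conj_of_normal A hAn g] at h2
      exact h2 h1
    · set y := x ^ (p ^ (j - k)) with hy
      have hoy : orderOf y = p ^ k := orderOf_pow_sub hp x j k hj hkj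
      obtain ⟨g, hg⟩ := hB A (Subgroup.zpowers y) hAab (hzc y) (by rw [hk, Nat.card_zpowers, hoy])
      rw [map_conj_of_normal A hAn g] at hg
      have hAx : A ≤ Subgroup.zpowers x := by
        rw [← hg, Subgroup.zpowers_le, hy]
        exact Subgroup.pow_mem _ (Subgroup.mem_zpowers x) _
      have : x ∈ Subgroup.centralizer (A : Set P) := by
        rw [Subgroup.mem_centralizer_iff]
        intro a ha
        obtain ⟨i, rfl⟩ := Subgroup.mem_zpowers_iff.mp (hAx ha)
        exact (Commute.zpow_self x i).eq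
      rwa [hAC] at this
  have hcomm : ∀ a b : P, a * b = b * a := by
    intro a b
    have := hAab.is_comm.comm ⟨a, hall a⟩ ⟨b, hall b⟩
    exact congrArg Subtype.val this
  -- element of maximal order
  obtain ⟨y, -, hymax⟩ := Set.exists_max_image (Set.univ : Set P) orderOf Set.finite_univ
    ⟨1, Set.mem_univ _⟩
  obtain ⟨m, hm⟩ := hord y
  refine ⟨⟨y, fun x => ?_⟩⟩
  obtain ⟨j, hj⟩ := hord x
  have hjm : j ≤ m := by
    have := hymax x (Set.mem_univ _)
    rw [hj, hm] at this
    exact (Nat.pow_le_pow_iff_right hp.one_lt).mp this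
  set y' := y ^ (p ^ (m - j)) with hy'
  have hoy' : orderOf y' = p ^ j := orderOf_pow_sub hp y m j hm hjm
  obtain ⟨g, hg⟩ := hB (Subgroup.zpowers y') (Subgroup.zpowers x) (hzc y') (hzc x)
    (by rw [Nat.card_zpowers, Nat.card_zpowers, hoy', hj])
  have h1 : x ∈ (Subgroup.zpowers y').map (MulAut.conj g).toMonoidHom := by
    rw [← hg]; exact Subgroup.mem_zpowers x
  obtain ⟨z, hz, hzx⟩ := h1
  have hzx' : g * z * g⁻¹ = x := hzx
  have : x = z := by
    rw [← hzx', hcomm g z]; group
  rw [this]
  have : Subgroup.zpowers y' ≤ Subgroup.zpowers y := by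
    rw [Subgroup.zpowers_le, hy']
    exact Subgroup.pow_mem _ (Subgroup.mem_zpowers y) _
  exact this hz

/-- in a finite nilpotent group, `P * C_G(P) = G` for each Sylow subgroup `P` -/
theorem sylow_mul_centralizer {G : Type*} [Group G] [Finite G] (hnil : Group.IsNilpotent G)
    {p : ℕ} [Fact p.Prime] (P : Sylow p G) (g : G) :
    ∃ u ∈ (P : Subgroup G), ∃ c ∈ Subgroup.centralizer ((P : Subgroup G) : Set G), g = u * c := by
  have hPn : (P : Subgroup G).Normal := inferInstance
  set H : Subgroup G := (P : Subgroup G) ⊔ Subgroup.centralizer ((P : Subgroup G) : Set G) with hH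
  have hHtop : H = ⊤ := by
    rw [← Subgroup.index_eq_one]
    by_contra hne
    obtain ⟨q, hq, hqd⟩ := Nat.exists_prime_and_dvd hne
    have : Fact q.Prime := ⟨hq⟩
    obtain ⟨Q⟩ : Nonempty (Sylow q G) := inferInstance
    have hQH : (Q : Subgroup G) ≤ H := by
      by_cases hqp : q = p
      · subst hqp
        have hu : Unique (Sylow q G) := Sylow.unique_of_normal P hPn
        have : Q = P := Subsingleton.elim _ _
        rw [this]
        exact le_sup_left
      · have hQn : (Q : Subgroup G).Normal := inferInstance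
        have hdis : Disjoint (Q : Subgroup G) (P : Subgroup G) :=
          IsPGroup.disjoint_of_ne q p hqp _ _ Q.isPGroup' P.isPGroup'
        refine le_trans ?_ le_sup_right
        intro x hx
        rw [Subgroup.mem_centralizer_iff]
        intro y hy
        exact ((Subgroup.commute_of_normal_of_disjoint _ _ hQn hPn hdis x y hx hy).eq).symm
    have h1 : H.index ∣ (Q : Subgroup G).index := Subgroup.index_dvd_of_le hQH
    exact Q.not_dvd_index (dvd_trans hqd h1)
  have hg : g ∈ ((H : Subgroup G) : Set G) := by rw [hHtop]; trivial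
  rw [hH, Subgroup.normal_mul] at hg
  obtain ⟨u, hu, c, hc, rfl⟩ := Set.mem_mul.mp hg
  exact ⟨u, hu, c, hc, rfl⟩

/-- A finite nilpotent group in which any two abelian subgroups of the same order are conjugate is cyclic. -/
theorem result {G : Type*} [Group G] [Finite G] (hB : ∀ A B : Subgroup G, IsMulCommutative ↥A → IsMulCommutative ↥B → Nat.card ↥A = Nat.card ↥B → ∃ g : G, B = A.map (MulAut.conj g).toMonoidHom) (hnil : Group.IsNilpotent G) : IsCyclic G := by
  have hZ : IsZGroup G := by
    refine ⟨fun p hp P => ?_⟩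
    have : Fact p.Prime := ⟨hp⟩
    apply pgroup_case (p := p) P.isPGroup'
    intro A B hA hB' hcard
    set A' := A.map (P : Subgroup G).subtype with hA'
    set B' := B.map (P : Subgroup G).subtype with hB''
    have hA'c : IsMulCommutative A' := by
      refine ⟨⟨fun a b => ?_⟩⟩
      apply Subtype.ext
      obtain ⟨a0, ha0, ha⟩ := a.2
      obtain ⟨b0, hb0, hb⟩ := b.2
      have := hA.is_comm.comm ⟨a0, ha0⟩ ⟨b0, hb0⟩
      have h := congrArg (fun z : A => ((z : P) : G)) this
      show (a : G) * (b : G) = (b : G) * (a : G)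
      rw [← ha, ← hb]
      exact h
    have hB'c : IsMulCommutative B' := by
      refine ⟨⟨fun a b => ?_⟩⟩
      apply Subtype.ext
      obtain ⟨a0, ha0, ha⟩ := a.2
      obtain ⟨b0, hb0, hb⟩ := b.2
      have := hB'.is_comm.comm ⟨a0, ha0⟩ ⟨b0, hb0⟩
      have h := congrArg (fun z : B => ((z : P) : G)) this
      show (a : G) * (b : G) = (b : G) * (a : G)
      rw [← ha, ← hb]
      exact h
    have hc' : Nat.card A' = Nat.card B' := by
      rw [hA', hB'', Subgroup.card_map_of_injective (Subgroup.subtype_injective _),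
        Subgroup.card_map_of_injective (Subgroup.subtype_injective _), hcard]
    obtain ⟨g, hg⟩ := hB A' B' hA'c hB'c hc'
    obtain ⟨u, hu, c, hc, rfl⟩ := sylow_mul_centralizer hnil P g
    refine ⟨⟨u, hu⟩, ?_⟩
    symm
    apply Subgroup.eq_of_le_of_card_ge
    · rintro _ ⟨a, ha, rfl⟩
      have h1 : ((a : P) : G) ∈ A' := ⟨a, ha, rfl⟩
      have h2 : (u * c) * (a : G) * (u * c)⁻¹ ∈ B' := by
        rw [hg]; exact ⟨(a : G), h1, rfl⟩
      obtain ⟨b, hb, hbe⟩ := h2
      have hca : c * (a : G) = (a : G) * c :=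
        ((Subgroup.mem_centralizer_iff.mp hc) (a : G) a.2).symm
      have : b = (MulAut.conj (⟨u, hu⟩ : P)).toMonoidHom a := by
        apply Subtype.ext
        show (b : G) = u * (a : G) * u⁻¹
        have hbe' : (b : G) = (u * c) * (a : G) * (u * c)⁻¹ := hbe
        rw [hbe', mul_inv_rev, mul_assoc u c, hca]
        group
      rw [← this]
      exact hb
    · rw [Subgroup.card_map_of_injective (MulAut.conj _).injective, hcard]
  exact inferInstance

end Cfsg.Agent.S3910
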