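import Cfsg.Statements.S0027
import Mathlib
import Cfsg.Agent.Lib.Lead_Coprime

set_option autoImplicit false
open Cfsg

namespace Cfsg.Agent.S0027

open Cfsg.Agent.Lib.Lead_SZ Cfsg.Agent.Lib.Lead_Coprime commutatorElement

/-- Under coprime action the commutator subgroup with A is stable: taking the commutator with A twice gives the same subgroup as once. -/
theorem result {G : Type*} [Group G] [Finite G] (A K : Subgroup G) (hAK : A ≤ Subgroup.normalizer (K : Set G))
    (hcop : (Nat.card A).Coprime (Nat.card K)) (hsolv : Group.IsSolvable A ∨ Group.IsSolvable K) :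
    ⁅⁅K, A⁆, A⁆ = ⁅K, A⁆ := by
  apply le_antisymm
  · exact commutator_le_of_le_normalizer ⁅K, A⁆ A (le_normalizer_commutator_right K A)
  · rw [Subgroup.commutator_le]
    intro k hk a ha
    obtain ⟨n, hn, c, hc, rfl⟩ := decomp A K hAK hcop hsolv k hk
    have hca : a * c = c * a := Subgroup.mem_centralizer_iff.mp (Subgroup.mem_inf.mp hc).2 a ha
    have e : ⁅n * c, a⁆ = ⁅n, a⁆ := by
      simp only [commutatorElement_def]
      calc n * c * a * (n * c)⁻¹ * a⁻¹ = n * (c * a) * c⁻¹ * n⁻¹ * a⁻¹ := by group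
        _ = n * (a * c) * c⁻¹ * n⁻¹ * a⁻¹ := by rw [hca]
        _ = n * a * n⁻¹ * a⁻¹ := by group
    rw [e]
    exact Subgroup.commutator_mem_commutator hn ha

end Cfsg.Agent.S0027
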