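import Cfsg.Statements.S5080
import Cfsg.Agent.Lib.Helper4_PCore

set_option autoImplicit false
open Cfsg

namespace Cfsg.Agent.S5080

open Cfsg.Agent.Lib.Helper4_PCore

/-- A finite group with a strongly `p`-embedded subgroup has trivial `p`-core. -/
theorem pCore_eq_bot_of_stronglyPEmbedded {X : Type*} [Group X] [Finite X] (p : ℕ) [Fact p.Prime]
    {E : Subgroup X} (hE : Cfsg.IsStronglyPEmbedded p E) : Cfsg.pCore p X = ⊥ := by
  obtain ⟨_, hEtop, T, hT⟩ := hE
  by_contra hne
  apply hEtop
  have hOn : (Cfsg.pCore p X).Normal := pCore_normal p X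
  have hOp : IsPGroup p (Cfsg.pCore p X) := pCore_isPGroup
  have hOT : Cfsg.pCore p X ≤ (T : Subgroup X) := pCore_le_sylow T
  -- the p-core has p-rank at least one
  have hrank : ¬ Cfsg.PRankLE p (1 - 1) (Cfsg.pCore p X) := by
    intro hr
    have hcard : Nat.card (Cfsg.pCore p X) ≠ 1 := by
      intro h1
      apply hne
      exact Subgroup.card_eq_one.mp h1
    have hdvd : p ∣ Nat.card (Cfsg.pCore p X) := by
      rcases hOp.card_eq_or_dvd with h | h
      · exact absurd h hcard
      · exact h
    obtain ⟨x, hx⟩ := exists_prime_orderOf_dvd_card' p hdvd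
    have hxp : x ^ p = 1 := by
      have := pow_orderOf_eq_one x
      rwa [hx] at this
    have h1 := hr (Subgroup.zpowers x) inferInstance (by
      intro a ha
      obtain ⟨k, rfl⟩ := Subgroup.mem_zpowers_iff.mp ha
      rw [← zpow_natCast, ← zpow_mul, mul_comm, zpow_mul, zpow_natCast, hxp, one_zpow])
    rw [Nat.card_zpowers, hx] at h1
    have := (Fact.out : p.Prime).two_le
    simp at h1
    omega
  have hle : Subgroup.normalizer ((Cfsg.pCore p X : Subgroup X) : Set X) ≤
      Cfsg.kGeneratedCore p 1 (T : Subgroup X) := by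
    unfold Cfsg.kGeneratedCore
    exact le_iSup (fun Q : {Q : Subgroup X // Q ≤ (T : Subgroup X) ∧ ¬ Cfsg.PRankLE p (1 - 1) Q} =>
      Subgroup.normalizer ((Q : Subgroup X) : Set X)) ⟨Cfsg.pCore p X, hOT, hrank⟩
  rw [Subgroup.normalizer_eq_top] at hle
  exact eq_top_iff.mpr (hle.trans hT)

/-- In a saturated fusion system over a finite p-group, every essential subgroup is radical (it is centric and fully normalized by definition, so it is centric-radical and fully normalized). -/
theorem result {Ω : Type*} [Group Ω] {S : Subgroup Ω} [Finite S] (p : ℕ) [Fact p.Prime] (hS : IsPGroup p S) (F : Cfsg.FusionSystem S) (hF : F.IsSaturated p) (P : Subgroup Ω) (hP : F.IsEssential p P) : F.IsRadical p P := by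
  obtain ⟨hcent, _, hnorm, E, hE⟩ := hP
  have hPS : P ≤ S := hcent.1
  refine ⟨hPS, ?_⟩
  haveI : Finite P := Finite.of_injective (Subgroup.inclusion hPS) (Subgroup.inclusion_injective hPS)
  haveI : Finite (MulAut P) := inferInstance
  have hPp : IsPGroup p P := hS.to_le hPS
  -- Inn P ≤ Aut_F(P)
  have hInn : Cfsg.Inn P ≤ F.autGroup P := by
    rintro _ ⟨x, rfl⟩
    apply Subgroup.subset_closure
    show P.subtype.comp (MulAut.conj x).toMonoidHom ∈ F.Hom P
    have h1 := F.conj_mem (P := P) (g := (x : Ω)) hPS (hPS x.2)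
    have h2 : P.subtype.comp (MulAut.conj x).toMonoidHom = Cfsg.conjHom P (x : Ω) := by
      ext y
      simp [Cfsg.conjHom, MulAut.conj_apply]
    rw [h2]; exact h1
  have hInnp : IsPGroup p (Cfsg.Inn P) :=
    hPp.of_surjective (MulAut.conj : P →* MulAut P).rangeRestrict (MonoidHom.rangeRestrict_surjective _)
  have hI'p : IsPGroup p ((Cfsg.Inn P).subgroupOf (F.autGroup P)) := hInnp.comap_subtype
  have hcore := pCore_eq_bot_of_stronglyPEmbedded p hE
  apply le_antisymm
  · -- the image of the p-core in the quotient is a normal p-subgroup, hence trivial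
    have hOn : (Cfsg.pCore p (F.autGroup P)).Normal := pCore_normal p _
    have hOp : IsPGroup p (Cfsg.pCore p (F.autGroup P)) := pCore_isPGroup
    have hsurj := QuotientGroup.mk'_surjective ((Cfsg.Inn P).subgroupOf (F.autGroup P))
    have himgn : ((Cfsg.pCore p (F.autGroup P)).map
        (QuotientGroup.mk' ((Cfsg.Inn P).subgroupOf (F.autGroup P)))).Normal := hOn.map _ hsurj
    have himgp : IsPGroup p ((Cfsg.pCore p (F.autGroup P)).map
        (QuotientGroup.mk' ((Cfsg.Inn P).subgroupOf (F.autGroup P)))) := hOp.map _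
    have h1 := le_pCore _ himgn himgp
    rw [hcore, le_bot_iff, Subgroup.map_eq_bot_iff, QuotientGroup.ker_mk'] at h1
    calc (Cfsg.pCore p (F.autGroup P)).map (F.autGroup P).subtype
        ≤ ((Cfsg.Inn P).subgroupOf (F.autGroup P)).map (F.autGroup P).subtype := Subgroup.map_mono h1
      _ = Cfsg.Inn P := Subgroup.map_subgroupOf_eq_of_le hInn
  · have h1 := le_pCore _ hnorm hI'p
    calc Cfsg.Inn P = ((Cfsg.Inn P).subgroupOf (F.autGroup P)).map (F.autGroup P).subtype :=
          (Subgroup.map_subgroupOf_eq_of_le hInn).symm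
      _ ≤ _ := Subgroup.map_mono h1

end Cfsg.Agent.S5080
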