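import Cfsg.Statements.S5086
import Cfsg.Agent.Lib.Helper8_Alperin
import Cfsg.Agent.S5080

set_option autoImplicit false
open Cfsg

namespace Cfsg.Agent.S5086

open Cfsg.FusionSystem Cfsg.Agent.Lib.Helper8_Saturated Cfsg.Agent.Lib.Helper8_Fusion
  Cfsg.Agent.Lib.Helper8_Alperin

/-- In a strongly closed subgroup `Q ≤ P`, every `α ∈ Aut_F(P)` maps `Q` into `Q`. -/
theorem aut_maps_stronglyClosed {Ω : Type*} [Group Ω] {S : Subgroup Ω}
    (F : Cfsg.FusionSystem S) {Q P : Subgroup Ω} (hQ : F.StronglyClosed Q) (hPS : P ≤ S)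
    (hQP : Q ≤ P) {α : MulAut P} (hα : α ∈ F.autGroup P) (x : Q) :
    ((α ⟨x, hQP x.2⟩ : P) : Ω) ∈ Q := by
  have hαIso : α ∈ Iso F P P := (mem_autGroup_iff F hPS α).mp hα
  have h1 := restrict_mem F hQP hαIso
  exact hQ.2 Q le_rfl _ h1 x

/-- In a saturated fusion system over a finite p-group, a subgroup Q is normal in the system if and only if Q is strongly closed in the system and is contained in every centric-radical subgroup. -/
theorem result {Ω : Type*} [Group Ω] {S : Subgroup Ω} [Finite S] (p : ℕ) [Fact p.Prime] (hS : IsPGroup p S) (F : Cfsg.FusionSystem S) (hF : F.IsSaturated p) (Q : Subgroup Ω) : F.IsNormal Q ↔ (F.StronglyClosed Q ∧ ∀ P : Subgroup Ω, F.IsCentric P → F.IsRadical p P → Q ≤ P) := by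
  constructor
  · intro h
    exact ⟨stronglyClosed_of_isNormal F h, fun P hc hr => normal_le_of_centric_radical hS F h hc hr⟩
  · rintro ⟨hsc, hcr⟩
    apply isNormal_of_aut hS F hF
    intro P hP
    rcases hP with rfl | hP
    · exact ⟨hsc.1, fun α hα x => aut_maps_stronglyClosed F hsc le_rfl hsc.1 hα x⟩
    · have hQP : Q ≤ P := hcr P hP.1 (Cfsg.Agent.S5080.result p hS F hF P hP)
      exact ⟨hQP, fun α hα x => aut_maps_stronglyClosed F hsc hP.1.1 hQP hα x⟩

end Cfsg.Agent.S5086
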