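import Cfsg.Statements.S5085

set_option autoImplicit false
open Cfsg

namespace Cfsg.Agent.S5085

/-- In any fusion system, a characteristic subgroup of a subgroup that is normal in the system is itself normal in the system. -/
theorem result {Ω : Type*} [Group Ω] {S : Subgroup Ω} (F : Cfsg.FusionSystem S) (Q U : Subgroup Ω) (hQ : F.IsNormal Q) (hUQ : U ≤ Q) (hU : (U.subgroupOf Q).Characteristic) : F.IsNormal U := by
  obtain ⟨hQS, hext⟩ := hQ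
  refine ⟨hUQ.trans hQS, ?_⟩
  intro P φ hφ
  obtain ⟨ψ, hψ, hψP, hψQ⟩ := hext P φ hφ
  have hPS : P ≤ S := (F.le_of_mem hφ).1
  have hPU_S : P ⊔ U ≤ S := sup_le hPS (hUQ.trans hQS)
  have hle : P ⊔ U ≤ P ⊔ Q := sup_le_sup_left hUQ P
  have hψinj : Function.Injective ψ := F.injective_of_mem hψ
  -- the restriction of ψ to P ⊔ U, as a composite in the system
  have hvals : ∀ x : ↥(P ⊔ U), (conjHom (P ⊔ U) 1) x ∈ P ⊔ Q := by
    intro x
    have : (conjHom (P ⊔ U) 1) x = (x : Ω) := by simp [conjHom]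
    rw [this]
    exact hle x.2
  have hmem := F.comp_mem (F.conj_mem hPU_S S.one_mem) hψ hvals
  set ψ' : ↥(P ⊔ U) →* Ω := ψ.comp ((conjHom (P ⊔ U) 1).codRestrict (P ⊔ Q) hvals) with hψ'
  have hψ'x : ∀ x : ↥(P ⊔ U), ψ' x = ψ ⟨(x : Ω), hle x.2⟩ := by
    intro x
    show ψ ⟨(conjHom (P ⊔ U) 1) x, _⟩ = _
    congr 1
    apply Subtype.ext
    simp [conjHom]
  -- ψ induces an automorphism of Q
  have hψQmem : ∀ x : Q, ψ ⟨(x : Ω), (le_sup_right : Q ≤ P ⊔ Q) x.2⟩ ∈ Q := by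
    intro x
    have h : ψ ⟨(x : Ω), (le_sup_right : Q ≤ P ⊔ Q) x.2⟩ ∈ (Q.subgroupOf (P ⊔ Q)).map ψ :=
      ⟨⟨(x : Ω), (le_sup_right : Q ≤ P ⊔ Q) x.2⟩, by simpa [Subgroup.mem_subgroupOf] using x.2, rfl⟩
    exact hψQ.le h
  let e₀ : Q →* Q :=
    { toFun := fun x => ⟨ψ ⟨(x : Ω), (le_sup_right : Q ≤ P ⊔ Q) x.2⟩, hψQmem x⟩
      map_one' := by
        apply Subtype.ext
        show ψ ⟨((1 : Q) : Ω), _⟩ = 1
        have : (⟨((1 : Q) : Ω), (le_sup_right : Q ≤ P ⊔ Q) (1 : Q).2⟩ : ↥(P ⊔ Q)) = 1 := Subtype.ext rfl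
        rw [this, map_one]
      map_mul' := by
        intro x y
        apply Subtype.ext
        show ψ ⟨((x * y : Q) : Ω), _⟩ = ψ ⟨(x : Ω), _⟩ * ψ ⟨(y : Ω), _⟩
        rw [← map_mul]
        congr 1 }
  have he₀inj : Function.Injective e₀ := by
    intro x y hxy
    have h1 : ψ ⟨(x : Ω), (le_sup_right : Q ≤ P ⊔ Q) x.2⟩ = ψ ⟨(y : Ω), (le_sup_right : Q ≤ P ⊔ Q) y.2⟩ :=
      congrArg Subtype.val hxy
    have h2 := hψinj h1
    apply Subtype.ext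
    have h3 : ((⟨(x : Ω), (le_sup_right : Q ≤ P ⊔ Q) x.2⟩ : ↥(P ⊔ Q)) : Ω) = ((⟨(y : Ω), (le_sup_right : Q ≤ P ⊔ Q) y.2⟩ : ↥(P ⊔ Q)) : Ω) := by rw [h2]
    exact h3
  have he₀surj : Function.Surjective e₀ := by
    intro y
    have hy : (y : Ω) ∈ (Q.subgroupOf (P ⊔ Q)).map ψ := by rw [hψQ]; exact y.2
    obtain ⟨x, hxQ, hxy⟩ := hy
    refine ⟨⟨(x : Ω), by simpa [Subgroup.mem_subgroupOf] using hxQ⟩, ?_⟩
    apply Subtype.ext
    show ψ ⟨(x : Ω), _⟩ = y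
    rw [← hxy]
  let e : Q ≃* Q := MulEquiv.ofBijective e₀ ⟨he₀inj, he₀surj⟩
  have hchar : (U.subgroupOf Q).map e.toMonoidHom = U.subgroupOf Q :=
    (Subgroup.characteristic_iff_map_eq.mp hU) e
  refine ⟨ψ', hmem, ?_, ?_⟩
  · intro x
    rw [hψ'x, ← hψP x]
    rfl
  · ext y
    constructor
    · rintro ⟨x, hxU, rfl⟩
      rw [hψ'x]
      have hxU' : (x : Ω) ∈ U := by simpa [Subgroup.mem_subgroupOf] using hxU
      have : e ⟨(x : Ω), hUQ hxU'⟩ ∈ U.subgroupOf Q := by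
        rw [← hchar]
        exact ⟨⟨(x : Ω), hUQ hxU'⟩, by simpa [Subgroup.mem_subgroupOf] using hxU', rfl⟩
      have h2 : ((e ⟨(x : Ω), hUQ hxU'⟩ : Q) : Ω) ∈ U := by simpa [Subgroup.mem_subgroupOf] using this
      exact h2
    · intro hy
      have hyQ : (⟨y, hUQ hy⟩ : Q) ∈ U.subgroupOf Q := by simpa [Subgroup.mem_subgroupOf] using hy
      rw [← hchar] at hyQ
      obtain ⟨x, hxU, hxy⟩ := hyQ
      have hxU' : (x : Ω) ∈ U := by simpa [Subgroup.mem_subgroupOf] using hxU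
      refine ⟨⟨(x : Ω), (le_sup_right : U ≤ P ⊔ U) hxU'⟩, by simpa [Subgroup.mem_subgroupOf] using hxU', ?_⟩
      rw [hψ'x]
      have := congrArg Subtype.val hxy
      exact this

end Cfsg.Agent.S5085
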