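import Cfsg.Statements.S5088
import Cfsg.Agent.Lib.Helper8_Chain
import Cfsg.Agent.S5085

set_option autoImplicit false
open Cfsg

namespace Cfsg.Agent.S5088

/-- In a saturated fusion system over a finite p-group, a subgroup Q is normal in the system if and only if there is a chain of subgroups 1 = Q₀ ≤ Q₁ ≤ ⋯ ≤ Qₙ = Q such that each Qᵢ with i ≥ 1 is strongly closed in the system and [Q, Qᵢ] ≤ Qᵢ₋₁. -/
theorem result {Ω : Type*} [Group Ω] {S : Subgroup Ω} [Finite S] (p : ℕ) [Fact p.Prime] (hS : IsPGroup p S) (F : Cfsg.FusionSystem S) (hF : F.IsSaturated p) (Q : Subgroup Ω) : F.IsNormal Q ↔ ∃ (n : ℕ) (Qs : Fin (n + 1) → Subgroup Ω), Qs 0 = ⊥ ∧ Qs (Fin.last n) = Q ∧ Monotone Qs ∧ ∀ i : Fin n, F.StronglyClosed (Qs i.succ) ∧ ⁅Q, Qs i.succ⁆ ≤ Qs (Fin.castSucc i) := by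
  open scoped commutatorElement in
  open Cfsg.Agent.Lib.Helper8_Fusion Cfsg.Agent.Lib.Helper8_Saturated Cfsg.Agent.Lib.Helper8_Alperin Cfsg.Agent.Lib.Helper8_Chain in
  constructor
  · intro hQ
    have hQS : Q ≤ S := hQ.1
    have hQfin : Finite Q := finite_of_le hQS
    have hnil : Group.IsNilpotent Q := (hS.to_le hQS).isNilpotent
    refine ⟨Group.nilpotencyClass Q,
      fun i => (Subgroup.upperCentralSeries Q i).map Q.subtype, ?_, ?_, ?_, ?_⟩
    · show (Subgroup.upperCentralSeries Q ((0 : Fin (Group.nilpotencyClass Q + 1)) : ℕ)).map Q.subtype = ⊥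
      rw [Fin.val_zero, Subgroup.upperCentralSeries_zero, Subgroup.map_bot]
    · show (Subgroup.upperCentralSeries Q ((Fin.last (Group.nilpotencyClass Q)) : ℕ)).map Q.subtype = Q
      rw [Fin.val_last, Subgroup.upperCentralSeries_nilpotencyClass, ← MonoidHom.range_eq_map,
        Subgroup.range_subtype]
    · intro i j hij
      exact Subgroup.map_mono (Subgroup.upperCentralSeries_mono Q hij)
    · intro i
      have hle : (Subgroup.upperCentralSeries Q (i.succ : ℕ)).map Q.subtype ≤ Q := by
        rintro _ ⟨x, -, rfl⟩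
        exact x.2
      have hchar : (((Subgroup.upperCentralSeries Q (i.succ : ℕ)).map Q.subtype).subgroupOf Q).Characteristic := by
        have : ((Subgroup.upperCentralSeries Q (i.succ : ℕ)).map Q.subtype).subgroupOf Q =
            Subgroup.upperCentralSeries Q (i.succ : ℕ) :=
          Subgroup.comap_map_eq_self_of_injective Q.subtype_injective _
        rw [this]
        infer_instance
      refine ⟨stronglyClosed_of_isNormal F (Cfsg.Agent.S5085.result F Q _ hQ hle hchar), ?_⟩
      rw [Subgroup.commutator_le]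
      rintro g₁ hg₁ _ ⟨x, hx, rfl⟩
      have hx' : x ∈ Subgroup.upperCentralSeries Q ((i : ℕ) + 1) := by
        simpa using hx
      rw [Subgroup.mem_upperCentralSeries_succ_iff] at hx'
      have h1 := hx' ⟨g₁, hg₁⟩
      have h2 := Subgroup.inv_mem _ h1
      refine ⟨⁅x, ⟨g₁, hg₁⟩⁆⁻¹, by simpa using h2, ?_⟩
      rw [commutatorElement_inv]
      rfl
  · rintro ⟨n, Qs, h0, hlast, hmono, hstep⟩
    have hbotsc : F.StronglyClosed (⊥ : Subgroup Ω) := by
      refine ⟨bot_le, fun R hR φ hφ x => ?_⟩
      have hx : x = 1 := Subtype.ext ((Subgroup.mem_bot).mp (hR x.2))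
      rw [hx, map_one]
      exact Subgroup.one_mem _
    have hQsc : F.StronglyClosed Q := by
      cases n with
      | zero =>
        have : Q = ⊥ := by rw [← hlast, ← h0]; rfl
        rw [this]; exact hbotsc
      | succ k =>
        have := (hstep (Fin.last k)).1
        rw [Fin.succ_last, hlast] at this
        exact this
    refine (Cfsg.Agent.S5086.result p hS F hF Q).mpr ⟨hQsc, fun P hPc hPr => ?_⟩
    have hPS : P ≤ S := hPc.1
    refine le_of_chain hS F hQsc.1 (fun s hs r hr => conj_mem_of_stronglyClosed F hQsc hs hr)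
      hPc hPr n Qs hlast ?_ ?_ ?_
    · intro j
      refine Fin.cases ?_ (fun i => ?_) j
      · intro β hβ x hx
        rw [h0, Subgroup.mem_bot] at hx
        have hx1 : x = 1 := Subtype.ext hx
        rw [hx1, map_one, h0]
        exact Subgroup.one_mem _
      · intro β hβ x hx
        exact aut_mem_of_stronglyClosed F (hstep i).1 hPS hβ hx
    · intro i x hx r hr
      have h1 : ⁅x⁻¹, r⁆ ∈ ⁅Qs i.succ, Q⁆ :=
        Subgroup.commutator_mem_commutator (Subgroup.inv_mem _ hx) hr
      rw [Subgroup.commutator_comm] at h1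
      have h2 := (hstep i).2 h1
      have h3 : ⁅x⁻¹, r⁆ = x⁻¹ * (r * x * r⁻¹) := by
        rw [commutatorElement_def]; group
      rw [← h3]; exact h2
    · intro β hβ m hm hβm _ _ x hx
      rw [h0, Subgroup.mem_bot] at hx
      have hx1 : x = 1 := Subtype.ext hx
      rw [hx1, map_one]

end Cfsg.Agent.S5088
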