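import Cfsg.Statements.S5089
import Cfsg.Agent.Lib.Helper8_Chain
import Cfsg.Agent.S5085
import Cfsg.Agent.S5088
import Cfsg.Agent.S5145

set_option autoImplicit false
open Cfsg

namespace Cfsg.Agent.S5089

/-- A saturated fusion system over a finite p-group has a nontrivial subgroup that is normal in the system (O_p(F) ≠ 1) if and only if some nontrivial abelian subgroup is strongly closed in the system. -/
theorem result {Ω : Type*} [Group Ω] {S : Subgroup Ω} [Finite S] (p : ℕ) [Fact p.Prime] (hS : IsPGroup p S) (F : Cfsg.FusionSystem S) (hF : F.IsSaturated p) : F.core ≠ ⊥ ↔ ∃ Q : Subgroup Ω, Q ≠ ⊥ ∧ IsMulCommutative Q ∧ F.StronglyClosed Q := by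
  open Cfsg.Agent.Lib.Helper8_Fusion Cfsg.Agent.Lib.Helper8_Saturated Cfsg.Agent.Lib.Helper8_Alperin Cfsg.Agent.Lib.Helper8_Chain in
  constructor
  · intro hcore
    have hC : F.IsNormal F.core := Cfsg.Agent.S5145.result F
    have hCS : F.core ≤ S := hC.1
    have hCfin : Finite F.core := finite_of_le hCS
    have hCp : IsPGroup p F.core := hS.to_le hCS
    have hCnt : Nontrivial F.core := (Subgroup.nontrivial_iff_ne_bot _).mpr hcore
    have hZnt := hCp.center_nontrivial
    refine ⟨(Subgroup.center F.core).map F.core.subtype, ?_, ?_, ?_⟩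
    · intro h
      rw [Subgroup.map_eq_bot_iff_of_injective _ F.core.subtype_injective] at h
      exact (Subgroup.nontrivial_iff_ne_bot _).mp hZnt h
    · refine ⟨⟨fun x y => ?_⟩⟩
      obtain ⟨_, a, ha, rfl⟩ := x
      obtain ⟨_, b, hb, rfl⟩ := y
      apply Subtype.ext
      have := (Subgroup.mem_center_iff.mp ha) b
      exact (congrArg Subtype.val this).symm
    · have hle : (Subgroup.center F.core).map F.core.subtype ≤ F.core := by
        rintro _ ⟨x, -, rfl⟩
        exact x.2
      have hchar : (((Subgroup.center F.core).map F.core.subtype).subgroupOf F.core).Characteristic := by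
        have : ((Subgroup.center F.core).map F.core.subtype).subgroupOf F.core =
            Subgroup.center F.core :=
          Subgroup.comap_map_eq_self_of_injective F.core.subtype_injective _
        rw [this]
        infer_instance
      exact stronglyClosed_of_isNormal F (Cfsg.Agent.S5085.result F F.core _ hC hle hchar)
  · rintro ⟨Q, hQne, hQab, hQsc⟩
    have hQn : F.IsNormal Q := by
      refine (Cfsg.Agent.S5088.result p hS F hF Q).mpr ⟨1, ![⊥, Q], rfl, rfl, ?_, ?_⟩
      · intro i j hij
        fin_cases i <;> fin_cases j <;> simp_all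
      · intro i
        fin_cases i
        refine ⟨hQsc, ?_⟩
        show ⁅Q, Q⁆ ≤ ⊥
        rw [Subgroup.commutator_le]
        intro g₁ hg₁ g₂ hg₂
        rw [Subgroup.mem_bot, commutatorElement_eq_one_iff_mul_comm]
        exact congrArg Subtype.val (hQab.is_comm.comm ⟨g₁, hg₁⟩ ⟨g₂, hg₂⟩)
    intro hcore
    apply hQne
    rw [eq_bot_iff, ← hcore]
    exact le_sSup hQn

end Cfsg.Agent.S5089
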