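import Cfsg.Statements.S5025
import Cfsg.Agent.Lib.Helper8_RankOne

set_option autoImplicit false
open Cfsg

namespace Cfsg.Agent.S5025

open Cfsg.Agent.Lib.Helper8_RankOne

/-- Let S be a set of abstract root subgroups of G, A ∈ S and B a rank one partner of A in S. If z ≠ 1 centralizes ⟨A, B⟩, then no product z a with a a non-identity element of A is a non-identity element of a member of S. -/
theorem result {G : Type*} [Group G] {S : Set (Subgroup G)} (hS : Cfsg.IsRootSubgroupSet S)
    {A B : Subgroup G} (hA : A ∈ S) (hB : B ∈ Cfsg.rankOnePartners S A) {z : G}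
    (hz : z ∈ Subgroup.centralizer ((A ⊔ B : Subgroup G) : Set G)) (hz1 : z ≠ 1) :
    ∀ a ∈ A, a ≠ 1 → z * a ∉ Cfsg.rootElements S := by
  obtain ⟨hBS, hAB⟩ := hB
  have hAcomm := hS.commutative A hA
  have hBcomm := hS.commutative B hBS
  rw [Subgroup.mem_centralizer_iff] at hz
  have hzA : ∀ a ∈ A, a * z = z * a := fun a ha => hz a (Subgroup.mem_sup_left ha)
  have hzB : ∀ b ∈ B, b * z = z * b := fun b hb => hz b (Subgroup.mem_sup_right hb)
  intro a ha ha1
  rintro ⟨he1, E, hES, heE⟩
  rcases hS.pair E hES B hBS with h0 | h1 | h2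
  · -- E centralizes B
    apply ha1
    apply eq_one_of_centralizes hAB ha
    intro b hb
    have h3 := (Subgroup.commutator_eq_bot_iff_le_centralizer.mp h0) heE
    rw [Subgroup.mem_centralizer_iff] at h3
    have h4 := h3 b hb
    have h5 := hzB b hb
    calc a * b = z⁻¹ * ((z * a) * b) := by group
      _ = z⁻¹ * (b * (z * a)) := by rw [h4]
      _ = z⁻¹ * ((b * z) * a) := by group
      _ = z⁻¹ * ((z * b) * a) := by rw [h5]
      _ = b * a := by group
  · -- (E, B) rank one
    obtain ⟨b, hb, _, e⟩ := h1.cond_left (z * a) heE he1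
    obtain ⟨b', hb', _, e'⟩ := hAB.cond_left a ha ha1
    have hzn : Cfsg.conjBy B z⁻¹ = B := by
      apply conjBy_of_mem_normalizer
      apply Subgroup.inv_mem
      apply Subgroup.centralizer_le_normalizer
      rw [Subgroup.mem_centralizer_iff]
      intro b hb; exact hzB b hb
    have e2 : Cfsg.conjBy B (z * a)⁻¹ = Cfsg.conjBy B a⁻¹ := by
      rw [mul_inv_rev, ← conjBy_conjBy, hzn]
    rw [e2] at e
    have hE : E = Cfsg.conjBy A (b * b'⁻¹) := by
      rw [← conjBy_conjBy, e', ← e, conjBy_conjBy_inv]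
    by_cases hd : b * b'⁻¹ = 1
    · rw [hd, conjBy_one] at hE
      rw [hE] at heE
      -- z ∈ A
      have hzA' : z ∈ A := by
        have := A.mul_mem heE (A.inv_mem ha)
        rwa [mul_inv_cancel_right] at this
      apply hz1
      apply eq_one_of_centralizes hAB hzA'
      intro b hb; exact (hzB b hb).symm
    · have hw : ∀ a' ∈ A, (z * a) * a' = a' * (z * a) := by
        intro a' ha'
        have h3 := hzA a' ha'
        have h4 : a * a' = a' * a := comm_of_isMulCommutative hAcomm ha ha'
        calc z * a * a' = z * (a * a') := by group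
          _ = z * (a' * a) := by rw [h4]
          _ = (z * a') * a := by group
          _ = (a' * z) * a := by rw [h3]
          _ = a' * (z * a) := by group
      have hwB : z * a ∈ B := mem_right_of_mem_conj hAB hw (B.mul_mem hb (B.inv_mem hb')) hd
        (by rw [← hE]; exact heE)
      apply ha1
      apply eq_one_of_centralizes hAB ha
      intro b₁ hb₁
      have h4 : (z * a) * b₁ = b₁ * (z * a) := comm_of_isMulCommutative hBcomm hwB hb₁
      have h5 := hzB b₁ hb₁
      calc a * b₁ = z⁻¹ * ((z * a) * b₁) := by group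
        _ = z⁻¹ * (b₁ * (z * a)) := by rw [h4]
        _ = z⁻¹ * ((b₁ * z) * a) := by group
        _ = z⁻¹ * ((z * b₁) * a) := by rw [h5]
        _ = b₁ * a := by group
  · -- commutator case
    apply ha1
    apply eq_one_of_conj_commutes hAB hBcomm ha
    intro c hc c' hc'
    obtain ⟨_, hcen, _, _⟩ := h2
    have hmem : (z * a) * c * (z * a)⁻¹ * c⁻¹ ∈ ⁅E, B⁆ := by
      have := Subgroup.commutator_mem_commutator heE hc
      rwa [commutatorElement_def] at this
    have h5 : a * c * a⁻¹ * z = z * (a * c * a⁻¹) :=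
      hz _ (Subgroup.mul_mem _ (Subgroup.mul_mem _ (Subgroup.mem_sup_left ha) (Subgroup.mem_sup_right hc))
        (Subgroup.inv_mem _ (Subgroup.mem_sup_left ha)))
    have h6 : (z * a) * c * (z * a)⁻¹ * c⁻¹ = a * c * a⁻¹ * c⁻¹ := by
      calc (z * a) * c * (z * a)⁻¹ * c⁻¹ = (z * (a * c * a⁻¹)) * z⁻¹ * c⁻¹ := by group
        _ = (a * c * a⁻¹ * z) * z⁻¹ * c⁻¹ := by rw [h5]
        _ = a * c * a⁻¹ * c⁻¹ := by group
    rw [h6] at hmem
    have h3 := hcen _ hmem c' (Subgroup.mem_sup_right hc')
    have h4 : c * c' = c' * c := comm_of_isMulCommutative hBcomm hc hc'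
    calc a * c * a⁻¹ * c' = (a * c * a⁻¹ * c⁻¹) * (c * c') := by group
      _ = (a * c * a⁻¹ * c⁻¹) * (c' * c) := by rw [h4]
      _ = ((a * c * a⁻¹ * c⁻¹) * c') * c := by group
      _ = (c' * (a * c * a⁻¹ * c⁻¹)) * c := by rw [h3]
      _ = c' * (a * c * a⁻¹) := by group

end Cfsg.Agent.S5025
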