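import Cfsg.Statements.S5028
import Cfsg.Agent.Lib.Helper8_RankOne

set_option autoImplicit false
open Cfsg

namespace Cfsg.Agent.S5028

open Cfsg.Agent.Lib.Helper8_RankOne

/-- If `A ∈ S` has a rank one partner `C ∈ S` then any non-identity element of `A` lying in a member `B` of `S`
forces `A = B`. -/
theorem eq_of_mem_inf {G : Type*} [Group G] {S : Set (Subgroup G)} (hS : Cfsg.IsRootSubgroupSet S)
    {A C : Subgroup G} (hAS : A ∈ S) (hCS : C ∈ S) (hAC : Cfsg.IsRankOnePair A C)
    {B : Subgroup G} (hBS : B ∈ S) {x : G} (hxA : x ∈ A) (hxB : x ∈ B) (hx1 : x ≠ 1) : A = B := by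
  have hAcomm := hS.commutative A hAS
  have hCcomm := hS.commutative C hCS
  rcases hS.pair B hBS C hCS with h0 | h1 | h2
  · exfalso
    apply hx1
    apply eq_one_of_centralizes hAC hxA
    intro c hc
    have := (Subgroup.commutator_eq_bot_iff_le_centralizer.mp h0) hxB
    rw [Subgroup.mem_centralizer_iff] at this
    exact (this c hc).symm
  · obtain ⟨c, hc, _, e⟩ := h1.cond_left x hxB hx1
    obtain ⟨c', hc', _, e'⟩ := hAC.cond_left x hxA hx1
    have hB : B = Cfsg.conjBy A (c * c'⁻¹) := by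
      rw [← conjBy_conjBy, e', ← e, conjBy_conjBy_inv]
    by_cases hd : c * c'⁻¹ = 1
    · rw [hd, conjBy_one] at hB
      exact hB.symm
    · exfalso
      apply hx1
      have hxd : x ∈ Cfsg.conjBy A (c * c'⁻¹) := by rw [← hB]; exact hxB
      have hxC : x ∈ C := mem_right_of_mem_conj hAC
        (fun a ha => comm_of_isMulCommutative hAcomm hxA ha) (C.mul_mem hc (C.inv_mem hc')) hd hxd
      exact inf_eq_one hAC hxA hxC
  · exfalso
    apply hx1
    apply eq_one_of_conj_commutes hAC hCcomm hxA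
    intro c hc c' hc'
    obtain ⟨_, hcen, _, _⟩ := h2
    have hmem : x * c * x⁻¹ * c⁻¹ ∈ ⁅B, C⁆ := by
      have := Subgroup.commutator_mem_commutator hxB hc
      rwa [commutatorElement_def] at this
    have h3 := hcen _ hmem c' (Subgroup.mem_sup_right hc')
    have h4 : c * c' = c' * c := comm_of_isMulCommutative hCcomm hc hc'
    calc x * c * x⁻¹ * c' = (x * c * x⁻¹ * c⁻¹) * (c * c') := by group
      _ = (x * c * x⁻¹ * c⁻¹) * (c' * c) := by rw [h4]
      _ = ((x * c * x⁻¹ * c⁻¹) * c') * c := by group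
      _ = (c' * (x * c * x⁻¹ * c⁻¹)) * c := by rw [h3]
      _ = c' * (x * c * x⁻¹) := by group

/-- Let S be a set of abstract root subgroups of G and A a member of S having a rank one partner in S. Then A meets every other member of S trivially. -/
theorem result {G : Type*} [Group G] {S : Set (Subgroup G)} (hS : Cfsg.IsRootSubgroupSet S)
    {A : Subgroup G} (hA : ¬ Cfsg.IsIsolatedIn (Cfsg.FAdj S) S A) (hAS : A ∈ S) : ∀ B ∈ S, A ⊓ B = ⊥ ∨ A = B := by
  -- a rank one partner
  have hpart : ∃ C ∈ S, Cfsg.IsRankOnePair A C := by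
    by_contra hno
    apply hA
    refine ⟨hAS, ?_⟩
    intro B
    constructor
    · rintro ⟨_, hB, hAB⟩
      exact hno ⟨B, hB, hAB⟩
    · rintro ⟨hB, _, hBA⟩
      exact hno ⟨B, hB, Cfsg.RankOnePair_symm hBA⟩
  obtain ⟨C, hCS, hAC⟩ := hpart
  intro B hBS
  by_cases hbot : A ⊓ B = ⊥
  · left; exact hbot
  · right
    obtain ⟨x, hx1⟩ := (Subgroup.ne_bot_iff_exists_ne_one).mp hbot
    have hx := x.2
    exact eq_of_mem_inf hS hAS hCS hAC hBS hx.1 hx.2 (fun e => hx1 (Subtype.ext e))

end Cfsg.Agent.S5028
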