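import Cfsg.Statements.S0094
import Mathlib
import Cfsg.Agent.Lib.Lead_Class2
import Cfsg.Agent.S0012

set_option autoImplicit false
open Cfsg

namespace Cfsg.Agent.S0094

open scoped commutatorElement

/-- In a special p-group every central element has order dividing p. -/
theorem result {P : Type*} [Group P] [Finite P] {p : ℕ} [Fact p.Prime] (h : Cfsg.IsSpecial p P) (z : P) (hz : z ∈ Subgroup.center P) : z ^ p = 1 := by
  obtain ⟨hP, hΦ, hD⟩ := h
  have hc : ∀ x y : P, ⁅x, y⁆ ∈ Subgroup.center P := by
    intro x y
    rw [← hD]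
    exact Subgroup.commutator_mem_commutator (Subgroup.mem_top x) (Subgroup.mem_top y)
  -- the subgroup of central elements of exponent p
  let K : Subgroup P :=
    { carrier := {z | z ∈ Subgroup.center P ∧ z ^ p = 1}
      one_mem' := ⟨Subgroup.one_mem _, one_pow _⟩
      mul_mem' := by
        rintro a b ⟨ha, ha'⟩ ⟨hb, hb'⟩
        refine ⟨Subgroup.mul_mem _ ha hb, ?_⟩
        have hcomm : Commute a b := (Subgroup.mem_center_iff.mp ha b).symm
        rw [hcomm.mul_pow, ha', hb', one_mul]
      inv_mem' := by
        rintro a ⟨ha, ha'⟩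
        exact ⟨Subgroup.inv_mem _ ha, by rw [inv_pow, ha', inv_one]⟩ }
  have hle : commutator P ≤ K := by
    rw [commutator_def, Subgroup.commutator_le]
    intro x _ y _
    refine ⟨hc x y, ?_⟩
    rw [← Cfsg.Agent.Lib.Lead_Class2.comm_pow_left hc]
    have hxp : x ^ p ∈ Subgroup.center P := by
      rw [← hΦ]
      exact (Cfsg.Agent.S0012.result p hP).2 x
    have := Subgroup.mem_center_iff.mp hxp y
    simp only [commutatorElement_def]
    rw [← this]; group
  have hzK : z ∈ K := hle (hD ▸ hz)
  exact hzK.2

end Cfsg.Agent.S0094
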