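import Cfsg.Statements.S0096
import Mathlib
import Cfsg.Agent.Lib.Lead_Class2

set_option autoImplicit false
open Cfsg

namespace Cfsg.Agent.S0096

open scoped commutatorElement

/-- For odd p, in a p-group of class at most two the elements of order dividing p generate a subgroup of exponent dividing p. -/
theorem result {P : Type*} [Group P] [Finite P] {p : ℕ} [Fact p.Prime] (hp : p ≠ 2) (hP : IsPGroup p P) (h2 : ⁅commutator P, (⊤ : Subgroup P)⁆ = ⊥) (g : P) (hg : g ∈ Subgroup.closure {x : P | x ^ p = 1}) : g ^ p = 1 := by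
  have hpp : p.Prime := Fact.out
  have hc : ∀ x y : P, ⁅x, y⁆ ∈ Subgroup.center P := by
    intro x y
    rw [Subgroup.mem_center_iff]
    intro g
    have h1 : ⁅⁅x, y⁆, g⁆ ∈ ⁅commutator P, (⊤ : Subgroup P)⁆ :=
      Subgroup.commutator_mem_commutator
        (Subgroup.commutator_mem_commutator (Subgroup.mem_top x) (Subgroup.mem_top y))
        (Subgroup.mem_top g)
    rw [h2, Subgroup.mem_bot, commutatorElement_eq_one_iff_mul_comm] at h1
    exact h1.symm
  have hodd : p * (p - 1) / 2 = p * ((p - 1) / 2) := by
    rcases hpp.eq_two_or_odd' with h | h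
    · exact absurd h hp
    · obtain ⟨k, hk⟩ := h
      have : p - 1 = 2 * k := by omega
      rw [this, Nat.mul_div_cancel_left _ (by norm_num : 0 < 2), ← mul_assoc, mul_comm p 2,
        mul_assoc, Nat.mul_div_cancel_left _ (by norm_num : 0 < 2)]
  induction hg using Subgroup.closure_induction with
  | mem x hx => exact hx
  | one => exact one_pow _
  | mul x y _ _ hx hy =>
    rw [Cfsg.Agent.Lib.Lead_Class2.mul_pow_class_two hc, hx, hy, hodd, pow_mul,
      ← Cfsg.Agent.Lib.Lead_Class2.comm_pow_left hc, hy]
    simp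
  | inv x _ hx => rw [inv_pow, hx, inv_one]

end Cfsg.Agent.S0096
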