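import Cfsg.Statements.S0097
import Mathlib
import Cfsg.Agent.Lib.Lead_Class2
import Cfsg.Agent.S0012
import Cfsg.Agent.S0094
import Cfsg.Agent.S0096

set_option autoImplicit false
open Cfsg

namespace Cfsg.Agent.S0097

open scoped commutatorElement

/-- For odd p and E extraspecial, the subgroup generated by the elements of order dividing p has exponent dividing p and index at most p. -/
theorem result {E : Type*} [Group E] [Finite E] {p : ℕ} [Fact p.Prime] (hp : p ≠ 2) (h : Cfsg.IsExtraspecial p E) : (Subgroup.closure {x : E | x ^ p = 1}).index ≤ p ∧ ∀ g ∈ Subgroup.closure {x : E | x ^ p = 1}, g ^ p = 1 := by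
  classical
  have hpp : p.Prime := Fact.out
  obtain ⟨⟨hP, hΦ, hD⟩, hZ⟩ := h
  have hc : ∀ x y : E, ⁅x, y⁆ ∈ Subgroup.center E := by
    intro x y
    rw [← hD]
    exact Subgroup.commutator_mem_commutator (Subgroup.mem_top x) (Subgroup.mem_top y)
  have h2 : ⁅commutator E, (⊤ : Subgroup E)⁆ = ⊥ := by
    rw [eq_bot_iff, Subgroup.commutator_le]
    intro a ha b _
    rw [hD] at ha
    rw [Subgroup.mem_bot, commutatorElement_eq_one_iff_mul_comm]
    exact (Subgroup.mem_center_iff.mp ha b).symm
  have hexp : ∀ g ∈ Subgroup.closure {x : E | x ^ p = 1}, g ^ p = 1 :=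
    fun g hg => Cfsg.Agent.S0096.result hp hP h2 g hg
  refine ⟨?_, hexp⟩
  have hodd : p * (p - 1) / 2 = p * ((p - 1) / 2) := by
    rcases hpp.eq_two_or_odd' with h | h
    · exact absurd h hp
    · obtain ⟨k, hk⟩ := h
      have : p - 1 = 2 * k := by omega
      rw [this, Nat.mul_div_cancel_left _ (by norm_num : 0 < 2), ← mul_assoc, mul_comm p 2,
        mul_assoc, Nat.mul_div_cancel_left _ (by norm_num : 0 < 2)]
  have hcp : ∀ x y : E, ⁅x, y⁆ ^ p = 1 := by
    intro x y
    exact Cfsg.Agent.S0094.result ⟨hP, hΦ, hD⟩ _ (hc x y)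
  -- the p-th power map is a homomorphism
  let φ : E →* E :=
    { toFun := fun x => x ^ p
      map_one' := one_pow p
      map_mul' := by
        intro x y
        show (x * y) ^ p = x ^ p * y ^ p
        rw [Cfsg.Agent.Lib.Lead_Class2.mul_pow_class_two hc, hodd, pow_mul, hcp, one_pow, mul_one] }
  have hker : φ.ker ≤ Subgroup.closure {x : E | x ^ p = 1} := by
    intro x hx
    apply Subgroup.subset_closure
    exact MonoidHom.mem_ker.mp hx
  have hrange : φ.range ≤ Subgroup.center E := by
    rintro _ ⟨x, rfl⟩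
    show x ^ p ∈ Subgroup.center E
    rw [← hΦ]
    exact (Cfsg.Agent.S0012.result p hP).2 x
  have h1 : φ.ker.index = Nat.card φ.range := Subgroup.index_ker φ
  have h3 : Nat.card φ.range ≤ Nat.card (Subgroup.center E) := Subgroup.card_le_of_le hrange
  have h4 : (Subgroup.closure {x : E | x ^ p = 1}).index ∣ φ.ker.index := Subgroup.index_dvd_of_le hker
  have h5 : φ.ker.index ≠ 0 := Subgroup.index_ne_zero_of_finite
  have h6 := Nat.le_of_dvd (Nat.pos_of_ne_zero h5) h4
  omega

end Cfsg.Agent.S0097
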