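import Cfsg.Statements.S5122
import Cfsg.Agent.Lib.Helper8_GroupFusion

set_option autoImplicit false
open Cfsg

namespace Cfsg.Agent.S5122

open Cfsg.Agent.Lib.Helper8_GroupFusion Cfsg.FusionSystem

/-- `Aut_S(Q)` is Sylow in `Aut_G(Q)` when `N_S(Q)` is Sylow in `N_G(Q)`. -/
theorem aut_sylow {G : Type*} [Group G] [Finite G] (p : ℕ) [Fact p.Prime] (S : Subgroup G)
    (Q : Subgroup G)
    (hN : ∃ R : Sylow p ↥(Subgroup.normalizer (Q : Set G)), (R : Subgroup ↥(Subgroup.normalizer (Q : Set G))) = (normalizerIn S Q).subgroupOf (Subgroup.normalizer (Q : Set G))) :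
    ∃ R : Sylow p ↥(Cfsg.autInducedBy ⊤ Q), (R : Subgroup ↥(Cfsg.autInducedBy ⊤ Q)) = (Cfsg.autInducedBy S Q).subgroupOf (Cfsg.autInducedBy ⊤ Q) := by
  obtain ⟨R, hR⟩ := hN
  have htop : Cfsg.autInducedBy ⊤ Q = Q.normalizerMonoidHom.range := by
    rw [autInducedBy_eq, Subgroup.top_subgroupOf, MonoidHom.range_eq_map]
  rw [htop, autInducedBy_eq S Q]
  refine ⟨R.mapSurjective Q.normalizerMonoidHom.rangeRestrict_surjective, ?_⟩
  rw [Sylow.coe_mapSurjective, hR]
  ext α
  rw [Subgroup.mem_subgroupOf]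
  constructor
  · rintro ⟨n, hn, rfl⟩
    have hnS : (n : G) ∈ S := (Subgroup.mem_subgroupOf.mp hn).1
    exact ⟨n, by simpa [Subgroup.mem_subgroupOf] using hnS, rfl⟩
  · rintro ⟨n, hn, hnα⟩
    have hnS : (n : G) ∈ S := by simpa [Subgroup.mem_subgroupOf] using hn
    refine ⟨n, ?_, ?_⟩
    · show (n : G) ∈ normalizerIn S Q
      exact ⟨hnS, n.2⟩
    · apply Subtype.ext
      exact hnα

/-- `C_S(Q)` is Sylow in `C_G(Q)` when `N_S(Q)` is Sylow in `N_G(Q)`. -/
theorem cent_sylow {G : Type*} [Group G] [Finite G] (p : ℕ) [Fact p.Prime] (S : Subgroup G)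
    (Q : Subgroup G)
    (hN : ∃ R : Sylow p ↥(Subgroup.normalizer (Q : Set G)), (R : Subgroup ↥(Subgroup.normalizer (Q : Set G))) = (normalizerIn S Q).subgroupOf (Subgroup.normalizer (Q : Set G))) :
    ∃ R : Sylow p ↥(Subgroup.centralizer (Q : Set G)), (R : Subgroup ↥(Subgroup.centralizer (Q : Set G))) = (centralizerIn S Q).subgroupOf (Subgroup.centralizer (Q : Set G)) := by
  have hnorm : ∀ n ∈ Subgroup.normalizer (Q : Set G), cj n (Subgroup.centralizer (Q : Set G)) = Subgroup.centralizer (Q : Set G) := by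
    intro n hn
    have hQ : cj n Q = Q := by
      ext y
      rw [mem_cj]
      have := (Subgroup.mem_normalizer_iff.mp ((Subgroup.normalizer (Q : Set G)).inv_mem hn) y)
      rw [inv_inv] at this
      exact this.symm
    rw [← cj_centralizer, hQ]
  have h := sylow_inf_normal_in (p := p) (Subgroup.normalizer (Q : Set G)) (Subgroup.centralizer (Q : Set G))
    (normalizerIn S Q) (Subgroup.centralizer_le_normalizer _) inf_le_right hnorm hN
  have heq : normalizerIn S Q ⊓ Subgroup.centralizer (Q : Set G) = centralizerIn S Q := by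
    show (S ⊓ Subgroup.normalizer (Q : Set G)) ⊓ Subgroup.centralizer (Q : Set G) = S ⊓ Subgroup.centralizer (Q : Set G)
    rw [inf_assoc, inf_eq_right.mpr (Subgroup.centralizer_le_normalizer _)]
  rw [heq] at h
  exact h

/-- Let G be a finite group with Sylow p-subgroup S. Every subgroup P of S has a G-conjugate Q ≤ S such that N_S(Q) is a Sylow p-subgroup of N_G(Q); and for any Q ≤ S with that property, C_S(Q) is a Sylow p-subgroup of C_G(Q) and the automorphisms of Q induced by N_S(Q) form a Sylow p-subgroup of those induced by N_G(Q). -/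
theorem result {G : Type*} [Group G] [Finite G] (p : ℕ) [Fact p.Prime] (S : Sylow p G) : (∀ P : Subgroup G, P ≤ S → ∃ g : G, P.map (MulAut.conj g).toMonoidHom ≤ S ∧ (∃ R : Sylow p ↥(Subgroup.normalizer ((P.map (MulAut.conj g).toMonoidHom : Subgroup G) : Set G)), (R : Subgroup ↥(Subgroup.normalizer ((P.map (MulAut.conj g).toMonoidHom : Subgroup G) : Set G))) = (Cfsg.FusionSystem.normalizerIn (S : Subgroup G) (P.map (MulAut.conj g).toMonoidHom)).subgroupOf (Subgroup.normalizer ((P.map (MulAut.conj g).toMonoidHom : Subgroup G) : Set G)))) ∧ ∀ Q : Subgroup G, Q ≤ S → (∃ R : Sylow p ↥(Subgroup.normalizer (Q : Set G)), (R : Subgroup ↥(Subgroup.normalizer (Q : Set G))) = (Cfsg.FusionSystem.normalizerIn (S : Subgroup G) Q).subgroupOf (Subgroup.normalizer (Q : Set G))) → (∃ R : Sylow p ↥(Subgroup.centralizer (Q : Set G)), (R : Subgroup ↥(Subgroup.centralizer (Q : Set G))) = (Cfsg.FusionSystem.centralizerIn (S : Subgroup G) Q).subgroupOf (Subgroup.centralizer (Q : Set G)))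 ∧ (∃ R : Sylow p ↥(Cfsg.autInducedBy ⊤ Q), (R : Subgroup ↥(Cfsg.autInducedBy ⊤ Q)) = (Cfsg.autInducedBy (S : Subgroup G) Q).subgroupOf (Cfsg.autInducedBy ⊤ Q)) := by
  constructor
  · intro P hP
    obtain ⟨g, hg, R, hR⟩ := exists_conj_normalizer_sylow S P hP
    exact ⟨g, hg, R, hR⟩
  · intro Q hQ hN
    constructor
    · exact cent_sylow p (S : Subgroup G) Q hN
    · exact aut_sylow p (S : Subgroup G) Q hN

end Cfsg.Agent.S5122
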