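import Cfsg.Statements.S5123
import Cfsg.Agent.Lib.Helper8_GroupFusion

set_option autoImplicit false
open Cfsg

namespace Cfsg.Agent.S5123

open Cfsg.Agent.Lib.Helper8_GroupFusion Cfsg.FusionSystem

/-- The core of the extension argument, in `cj` notation. -/
theorem extension_core {G : Type*} [Group G] [Finite G] (p : ℕ) [Fact p.Prime] (S : Sylow p G)
    (Q : Subgroup G) (A : Subgroup G) (hAp : IsPGroup p A)
    (hAM : A ≤ normalizerIn (S : Subgroup G) Q ⊔ Subgroup.centralizer (Q : Set G))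
    (hN : ∃ R : Sylow p ↥(Subgroup.normalizer (Q : Set G)), (R : Subgroup ↥(Subgroup.normalizer (Q : Set G))) = (normalizerIn (S : Subgroup G) Q).subgroupOf (Subgroup.normalizer (Q : Set G))) :
    ∃ h ∈ Subgroup.centralizer (Q : Set G), cj h A ≤ S := by
  set T := normalizerIn (S : Subgroup G) Q with hTdef
  set C := Subgroup.centralizer (Q : Set G) with hCdef
  have hTN : T ≤ Subgroup.normalizer (Q : Set G) := inf_le_right
  have hMN : T ⊔ C ≤ Subgroup.normalizer (Q : Set G) :=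
    sup_le hTN (Subgroup.centralizer_le_normalizer _)
  have hTM : ∃ R : Sylow p ↥(T ⊔ C), (R : Subgroup ↥(T ⊔ C)) = T.subgroupOf (T ⊔ C) :=
    sylow_of_le _ _ _ le_sup_left hMN hN
  obtain ⟨m, hmM, hm⟩ := exists_cj_le_of_sylow (T ⊔ C) T A hAM hAp hTM
  have hTnorm : T ≤ Subgroup.normalizer ((C : Subgroup G) : Set G) :=
    hTN.trans (normalizer_le_normalizer_centralizer Q)
  have hmem : m ∈ ((T ⊔ C : Subgroup G) : Set G) := hmM
  rw [Subgroup.coe_mul_of_left_le_normalizer_right T C hTnorm] at hmem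
  obtain ⟨s, hs, c, hc, rfl⟩ := hmem
  refine ⟨c, hc, ?_⟩
  rintro _ ⟨y, hy, rfl⟩
  have h1 : (s * c) * y * (s * c)⁻¹ ∈ T := hm (cj_mem (s * c) A hy)
  have h2 : s⁻¹ * ((s * c) * y * (s * c)⁻¹) * s ∈ T :=
    T.mul_mem (T.mul_mem (T.inv_mem hs) h1) hs
  have h3 : s⁻¹ * ((s * c) * y * (s * c)⁻¹) * s = c * y * c⁻¹ := by group
  rw [h3] at h2
  have : (MulAut.conj c).toMonoidHom y = c * y * c⁻¹ := by simp [MulAut.conj_apply]
  rw [this]
  exact h2.1

/-- Let G be a finite group with Sylow p-subgroup S, P, Q ≤ S and g ∈ G with gPg⁻¹ = Q, and suppose N_S(Q) is a Sylow p-subgroup of N_G(Q). Let N be the set of x ∈ N_S(P) with gxg⁻¹ ∈ N_S(Q)C_G(Q). Then some h ∈ C_G(Q) satisfies (hg)N(hg)⁻¹ ≤ S. -/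
theorem result {G : Type*} [Group G] [Finite G] (p : ℕ) [Fact p.Prime] (S : Sylow p G) (P Q : Subgroup G) (hP : P ≤ S) (hQ : Q ≤ S) (g : G) (hg : P.map (MulAut.conj g).toMonoidHom = Q) (hN : (∃ R : Sylow p ↥(Subgroup.normalizer (Q : Set G)), (R : Subgroup ↥(Subgroup.normalizer (Q : Set G))) = (Cfsg.FusionSystem.normalizerIn (S : Subgroup G) Q).subgroupOf (Subgroup.normalizer (Q : Set G)))) : ∃ h ∈ Subgroup.centralizer (Q : Set G), ((Cfsg.FusionSystem.normalizerIn (S : Subgroup G) P) ⊓ (Cfsg.FusionSystem.normalizerIn (S : Subgroup G) Q ⊔ Subgroup.centralizer (Q : Set G)).comap (MulAut.conj g).toMonoidHom).map (MulAut.conj (h * g)).toMonoidHom ≤ S := by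
  set Nφ := (normalizerIn (S : Subgroup G) P) ⊓ (normalizerIn (S : Subgroup G) Q ⊔ Subgroup.centralizer (Q : Set G)).comap (MulAut.conj g).toMonoidHom with hNφ
  have hNφS : Nφ ≤ S := inf_le_left.trans inf_le_left
  have hAp : IsPGroup p (cj g Nφ) := (S.2.to_le hNφS).map _
  have hAM : cj g Nφ ≤ normalizerIn (S : Subgroup G) Q ⊔ Subgroup.centralizer (Q : Set G) := by
    rintro _ ⟨x, hx, rfl⟩
    exact hx.2
  obtain ⟨h, hh, hle⟩ := extension_core p S Q (cj g Nφ) hAp hAM hN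
  refine ⟨h, hh, ?_⟩
  have : cj (h * g) Nφ = cj h (cj g Nφ) := (cj_cj h g Nφ).symm
  show cj (h * g) Nφ ≤ S
  rw [this]
  exact hle

end Cfsg.Agent.S5123
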