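import Cfsg.Statements.S5076
import Cfsg.Agent.Lib.Helper8_GroupFusion
import Cfsg.Agent.S5122
import Cfsg.Agent.S5123

set_option autoImplicit false
open Cfsg

namespace Cfsg.Agent.S5076

open Cfsg.Agent.Lib.Helper8_GroupFusion Cfsg.FusionSystem

/-- In the fusion system of a group, `Aut_F(Q)` is `Aut_G(Q)` for `Q ≤ S`. -/
theorem autGroup_eq {G : Type*} [Group G] (S Q : Subgroup G) (hQ : Q ≤ S) :
    (groupFusionSystem S).autGroup Q = autInducedBy ⊤ Q := by
  unfold FusionSystem.autGroup autInducedBy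
  congr 1
  ext α
  constructor
  · rintro ⟨-, -, g, hg⟩
    exact ⟨g, Subgroup.mem_top g, fun x => hg x⟩
  · rintro ⟨g, -, hg⟩
    exact ⟨hQ, fun x => hQ (α x).2, g, fun x => hg x⟩

/-- Receptivity of a subgroup whose `S`-normalizer is Sylow in its normalizer. -/
theorem receptive_of_sylow {G : Type*} [Group G] [Finite G] (p : ℕ) [Fact p.Prime] (S : Sylow p G)
    (Q : Subgroup G) (hQ : Q ≤ S)
    (hN : ∃ R : Sylow p ↥(Subgroup.normalizer (Q : Set G)), (R : Subgroup ↥(Subgroup.normalizer (Q : Set G))) = (normalizerIn (S : Subgroup G) Q).subgroupOf (Subgroup.normalizer (Q : Set G))) :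
    (groupFusionSystem (S : Subgroup G)).IsReceptive Q := by
  refine ⟨hQ, ?_⟩
  rintro P φ ⟨hPS, hφS, k, hk⟩ hφr
  have hQeq : cj k P = Q := by
    rw [← hφr]
    ext y
    constructor
    · rintro ⟨x, hx, rfl⟩
      exact ⟨⟨x, hx⟩, by rw [hk]; simp [MulAut.conj_apply]⟩
    · rintro ⟨x, rfl⟩
      rw [hk]; exact cj_mem k P x.2
  set E := extender (S : Subgroup G) P φ with hE
  have hES : E ≤ S := by
    rw [hE, extender, Subgroup.closure_le]
    rintro x ⟨hxS, -⟩
    exact hxS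
  -- the conjugate of E lies in N_S(Q) C_G(Q)
  have hEM : cj k E ≤ normalizerIn (S : Subgroup G) Q ⊔ Subgroup.centralizer (Q : Set G) := by
    have h1 : E ≤ (normalizerIn (S : Subgroup G) Q ⊔ Subgroup.centralizer (Q : Set G)).comap (MulAut.conj k).toMonoidHom := by
      rw [hE, extender, Subgroup.closure_le]
      rintro x ⟨hxS, hxN, h, hhS, hh⟩
      show (MulAut.conj k).toMonoidHom x ∈ normalizerIn (S : Subgroup G) Q ⊔ Subgroup.centralizer (Q : Set G)
      have hkx : (MulAut.conj k).toMonoidHom x = k * x * k⁻¹ := by simp [MulAut.conj_apply]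
      rw [hkx]
      -- k x k⁻¹ normalizes Q
      have hkxN : k * x * k⁻¹ ∈ Subgroup.normalizer (Q : Set G) := by
        rw [← hQeq, cj_normalizer]
        exact cj_mem k _ hxN
      -- z = h⁻¹ (k x k⁻¹) centralizes Q
      have hz : h⁻¹ * (k * x * k⁻¹) ∈ Subgroup.centralizer (Q : Set G) := by
        rw [Subgroup.mem_centralizer_iff]
        intro q hq
        rw [SetLike.mem_coe, ← hQeq, mem_cj] at hq
        have hxy : x * (k⁻¹ * q * k) * x⁻¹ ∈ P := (Subgroup.mem_normalizer_iff.mp hxN _).mp hq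
        have h2 := hh ⟨k⁻¹ * q * k, hq⟩ hxy
        rw [hk, hk] at h2
        have h3 : k * (x * (k⁻¹ * q * k) * x⁻¹) * k⁻¹ = h * (k * (k⁻¹ * q * k) * k⁻¹) * h⁻¹ := h2
        have h4 : k * (k⁻¹ * q * k) * k⁻¹ = q := by group
        rw [h4] at h3
        -- h3 : k x k⁻¹ q k x⁻¹ k⁻¹ = h q h⁻¹
        have h5 : h⁻¹ * (k * x * k⁻¹) * q = q * (h⁻¹ * (k * x * k⁻¹)) := by
          have : h⁻¹ * (k * x * k⁻¹) * q = h⁻¹ * (k * (x * (k⁻¹ * q * k) * x⁻¹) * k⁻¹) * (k * x * k⁻¹) := by group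
          rw [this, h3]; group
        exact h5.symm
      have hhN : h ∈ Subgroup.normalizer (Q : Set G) := by
        have : h = (k * x * k⁻¹) * (h⁻¹ * (k * x * k⁻¹))⁻¹ := by group
        rw [this]
        exact Subgroup.mul_mem _ hkxN (Subgroup.inv_mem _ (Subgroup.centralizer_le_normalizer _ hz))
      have : k * x * k⁻¹ = h * (h⁻¹ * (k * x * k⁻¹)) := by group
      rw [this]
      exact Subgroup.mul_mem_sup ⟨hhS, hhN⟩ hz
    rintro _ ⟨x, hx, rfl⟩
    exact h1 hx
  have hAp : IsPGroup p (cj k E) := (S.2.to_le hES).map _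
  obtain ⟨c, hc, hle⟩ := Cfsg.Agent.S5123.extension_core p S Q (cj k E) hAp hEM hN
  refine ⟨conjHom E (c * k), ⟨hES, ?_, c * k, fun x => rfl⟩, ?_⟩
  · intro x
    have h1 : c * (k * (x : G) * k⁻¹) * c⁻¹ ∈ cj c (cj k E) := cj_mem c _ (cj_mem k E x.2)
    have h2 : conjHom E (c * k) x = c * (k * (x : G) * k⁻¹) * c⁻¹ := by
      simp [conjHom, MulAut.conj_apply, mul_assoc]
    rw [h2]
    exact hle h1
  · intro x hxP hxE
    rw [hk]
    show c * k * x * (c * k)⁻¹ = k * x * k⁻¹
    have hq : k * x * k⁻¹ ∈ Q := by rw [← hQeq]; exact cj_mem k P hxP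
    have hcomm := (Subgroup.mem_centralizer_iff.mp hc) _ hq
    have : c * k * x * (c * k)⁻¹ = c * (k * x * k⁻¹) * c⁻¹ := by group
    rw [this, ← hcomm]; group

/-- The fusion system of a finite group on a Sylow p-subgroup is saturated: every subgroup of the Sylow subgroup is conjugate in the system to one that is fully automized and receptive. -/
theorem result {G : Type*} [Group G] [Finite G] (p : ℕ) [Fact p.Prime] (S : Sylow p G) : (Cfsg.groupFusionSystem (S : Subgroup G)).IsSaturated p := by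
  intro P hP
  obtain ⟨g, hgS, hN⟩ := exists_conj_normalizer_sylow S P hP
  refine ⟨cj g P, (groupFusion_isConj_iff _ _ _).mpr ⟨hP, hgS, g, rfl⟩, ⟨hgS, ?_⟩,
    receptive_of_sylow p S _ hgS hN⟩
  rw [autGroup_eq _ _ hgS]
  exact Cfsg.Agent.S5122.aut_sylow p (S : Subgroup G) _ hN

end Cfsg.Agent.S5076
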