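import Cfsg.Statements.S5024
import Cfsg.Agent.Lib.Helper8_RankOne

set_option autoImplicit false
open Cfsg

namespace Cfsg.Agent.S5024

open Cfsg.Agent.Lib.Helper8_RankOne

/-- A member of `S` with a rank one partner, both inside the rank one group `⟨C, D⟩`, is a conjugate of `C`. -/
theorem mem_unipotent_of_le {G : Type*} [Group G] {S : Set (Subgroup G)} (hS : Cfsg.IsRootSubgroupSet S)
    {A B C D : Subgroup G} (hA : A ∈ S) (hB : B ∈ S) (hAB : Cfsg.IsRankOnePair A B) (hC : C ∈ S)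
    (hCD : Cfsg.IsRankOnePair C D) (hAle : A ≤ C ⊔ D) (hBle : B ≤ C ⊔ D) :
    A ∈ Cfsg.unipotentSubgroups C D := by
  by_contra hAΩ
  have hnorm : ∀ E ∈ Cfsg.unipotentSubgroups C D, ∀ a ∈ A, Cfsg.conjBy E a = E := by
    intro E hE a ha
    have hES : E ∈ S := by
      obtain ⟨x, _, rfl⟩ := hE
      exact hS.conj_mem C hC x
    have hEle : E ≤ C ⊔ D := by
      obtain ⟨x, hx, rfl⟩ := hE
      exact conjBy_le_of_mem le_sup_left hx
    have hEcomm := hS.commutative E hES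
    rcases hS.pair A hA E hES with h0 | h1 | h2
    · apply conjBy_of_mem_normalizer
      apply Subgroup.centralizer_le_normalizer
      exact (Subgroup.commutator_eq_bot_iff_le_centralizer.mp h0) ha
    · exfalso
      apply hAΩ
      obtain ⟨a₀, ha₀, ha₀1⟩ := exists_left_ne_one h1
      obtain ⟨e, he, _, ee⟩ := h1.cond_left a₀ ha₀ ha₀1
      have h3 : Cfsg.conjBy E a₀⁻¹ ∈ Cfsg.unipotentSubgroups C D :=
        conjBy_mem_unipotent hE (Subgroup.inv_mem _ (hAle ha₀))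
      have h4 : A = Cfsg.conjBy (Cfsg.conjBy E a₀⁻¹) e := by
        rw [← ee, conjBy_conjBy_inv]
      rw [h4]
      exact conjBy_mem_unipotent h3 (hEle he)
    · by_contra hne
      have h3 : Cfsg.conjBy E a ∈ Cfsg.unipotentSubgroups C D := conjBy_mem_unipotent hE (hAle ha)
      have h4 := rankOnePair_of_mem_unipotent hCD hE h3 (fun e => hne e.symm)
      apply not_centralizes h4
      intro e he e' he'
      rw [mem_conjBy] at he'
      obtain ⟨_, hcen, _, _⟩ := h2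
      have hmem : a * (a⁻¹ * e' * a) * a⁻¹ * (a⁻¹ * e' * a)⁻¹ ∈ ⁅A, E⁆ := by
        have := Subgroup.commutator_mem_commutator ha he'
        rwa [commutatorElement_def] at this
      have h5 := hcen _ hmem e (Subgroup.mem_sup_right he)
      have h6 : (a⁻¹ * e' * a) * e = e * (a⁻¹ * e' * a) := comm_of_isMulCommutative hEcomm he' he
      have e1 : e' = (a * (a⁻¹ * e' * a) * a⁻¹ * (a⁻¹ * e' * a)⁻¹) * (a⁻¹ * e' * a) := by group
      calc e * e' = e * ((a * (a⁻¹ * e' * a) * a⁻¹ * (a⁻¹ * e' * a)⁻¹) * (a⁻¹ * e' * a)) := by rw [← e1]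
        _ = (e * (a * (a⁻¹ * e' * a) * a⁻¹ * (a⁻¹ * e' * a)⁻¹)) * (a⁻¹ * e' * a) := by group
        _ = ((a * (a⁻¹ * e' * a) * a⁻¹ * (a⁻¹ * e' * a)⁻¹) * e) * (a⁻¹ * e' * a) := by rw [h5]
        _ = (a * (a⁻¹ * e' * a) * a⁻¹ * (a⁻¹ * e' * a)⁻¹) * (e * (a⁻¹ * e' * a)) := by group
        _ = (a * (a⁻¹ * e' * a) * a⁻¹ * (a⁻¹ * e' * a)⁻¹) * ((a⁻¹ * e' * a) * e) := by rw [h6]
        _ = ((a * (a⁻¹ * e' * a) * a⁻¹ * (a⁻¹ * e' * a)⁻¹) * (a⁻¹ * e' * a)) * e := by group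
        _ = e' * e := by rw [← e1]
  apply not_centralizes hAB
  intro a ha b hb
  exact commutes_of_normalizes_all hCD (fun E hE => hnorm E hE a ha) b (hBle hb)

/-- Let S be a set of abstract root subgroups of G, A and C members of S, B a rank one partner of A in S and D a rank one partner of C in S. If the rank one group ⟨A, B⟩ is contained in ⟨C, D⟩ then the two coincide, and C and D are conjugates of A inside ⟨A, B⟩. -/
theorem result {G : Type*} [Group G] {S : Set (Subgroup G)} (hS : Cfsg.IsRootSubgroupSet S)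
    {A B C D : Subgroup G} (hA : A ∈ S) (hC : C ∈ S) (hB : B ∈ Cfsg.rankOnePartners S A) (hD : D ∈ Cfsg.rankOnePartners S C)
    (hle : A ⊔ B ≤ C ⊔ D) : A ⊔ B = C ⊔ D ∧ C ∈ Cfsg.unipotentSubgroups A B ∧ D ∈ Cfsg.unipotentSubgroups A B := by
  obtain ⟨hBS, hAB⟩ := hB
  obtain ⟨hDS, hCD⟩ := hD
  have hAle : A ≤ C ⊔ D := le_sup_left.trans hle
  have hBle : B ≤ C ⊔ D := le_sup_right.trans hle
  have hAΩ := mem_unipotent_of_le hS hA hBS hAB hC hCD hAle hBle
  have hBΩ := mem_unipotent_of_le hS hBS hA (Cfsg.RankOnePair_symm hAB) hC hCD hBle hAle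
  obtain ⟨y, hy, e1, e2⟩ := move_to_base hCD hAΩ hBΩ hAB.ne
  have hsup : Cfsg.conjBy (A ⊔ B) y = C ⊔ D := by rw [conjBy_sup, e1, e2]
  have heq : A ⊔ B = C ⊔ D := by
    have := congrArg (fun X => Cfsg.conjBy X y⁻¹) hsup
    simp only [conjBy_inv_conjBy, conjBy_of_mem (Subgroup.inv_mem _ hy)] at this
    exact this
  have hy' : y ∈ A ⊔ B := by rw [heq]; exact hy
  refine ⟨heq, ⟨y, hy', e1.symm⟩, ?_⟩
  rw [← e2]
  exact conjBy_mem_unipotent (right_mem_unipotent hAB) hy'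

end Cfsg.Agent.S5024
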