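import Cfsg.Statements.S1949
import Cfsg.Agent.Lib.Helper8_Critical

set_option autoImplicit false
open Cfsg

namespace Cfsg.Agent.S1949

/-- Let P be a finite p-group and G a group of automorphisms of P containing the inner automorphisms. Then there is a G-invariant subgroup D of P, contained in the subgroup generated by the elements x⁻¹α(x) with x in P and α in O^p(G), of exponent dividing p when p is odd and dividing 4 when p = 2, with [D, P] ≤ Z(D), such that every automorphism in G of order prime to p that fixes D elementwise is the identity; moreover every maximal abelian subgroup A of D is normal in P and every automorphism in G fixing A elementwise has p-power order. -/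
theorem result {P : Type*} [Group P] [Finite P] {p : ℕ} [Fact p.Prime] (hP : IsPGroup p P)
    (G : Subgroup (MulAut P)) (hG : Cfsg.Inn P ≤ G) :
    ∃ D : Subgroup P,
      (∀ α ∈ G, D.map α.toMonoidHom = D) ∧
      D ≤ Subgroup.closure {y : P | ∃ α ∈ Cfsg.pResidual p ↥G, ∃ x : P, y = x⁻¹ * (α : MulAut P) x} ∧
      (∀ d ∈ D, d ^ p = 1 ∨ (p = 2 ∧ d ^ 4 = 1)) ∧
      ⁅D, (⊤ : Subgroup P)⁆ ≤ D ⊓ Subgroup.centralizer (D : Set P) ∧
      (∀ α ∈ G, (orderOf α).Coprime p → (∀ d ∈ D, α d = d) → α = 1) ∧
      ∀ A : Subgroup P, A ≤ D → IsMulCommutative ↥A →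
        (∀ B : Subgroup P, A ≤ B → B ≤ D → IsMulCommutative ↥B → B = A) →
        A.Normal ∧ ∀ α ∈ G, (∀ a ∈ A, α a = a) → ∃ k : ℕ, orderOf α = p ^ k := by
  open Cfsg.Agent.Lib.Helper8_Critical in
  have hp := (Fact.out : p.Prime)
  obtain ⟨D, hDinv, hDY, hDexp, hDc, hDfix⟩ := exists_small hP G hG (Ysub p G) (inv_Ysub p G)
  have hDtriv : ∀ α ∈ G, (orderOf α).Coprime p → (∀ d ∈ D, α d = d) → α = 1 := by
    intro α hα hcop hfix
    exact eq_one_of_fix_Ysub hP G α hα hcop (hDfix α hα hcop hfix)
  refine ⟨D, fun α hα => hDinv.map_eq α hα, hDY, hDexp, ?_, hDtriv, ?_⟩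
  · rw [Subgroup.commutator_le]
    intro d hd g _
    rw [commutatorElement_def]
    exact hDc d hd g
  · intro A hAD hAc hAmax
    have hCA := centralizer_le_of_maximal_abelian D A hAD hAc hAmax
    have hZA : D ⊓ Subgroup.centralizer (D : Set P) ≤ A := by
      intro z hz
      rw [Subgroup.mem_inf] at hz
      apply hCA
      rw [Subgroup.mem_inf]
      exact ⟨hz.1, Subgroup.centralizer_le hAD hz.2⟩
    constructor
    · constructor
      intro a ha g
      have h1 := hZA (hDc a⁻¹ (hAD (A.inv_mem ha)) g)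
      have h2 : g * a * g⁻¹ = a * (a⁻¹ * g * a⁻¹⁻¹ * g⁻¹) := by group
      rw [h2]
      exact A.mul_mem ha h1
    · intro α hα hfixA
      haveI : Finite (MulAut P) := inferInstance
      obtain ⟨k, m, hm, hkm⟩ := Nat.exists_eq_pow_mul_and_not_dvd (orderOf_pos α).ne' p hp.ne_one
      have hcop : Nat.Coprime m p := by
        rw [Nat.coprime_comm]
        exact (Nat.Prime.coprime_iff_not_dvd hp).mpr hm
      obtain ⟨β, hβ⟩ : ∃ β, β = α ^ (p ^ k) := ⟨_, rfl⟩
      have hβG : β ∈ G := by rw [hβ]; exact G.pow_mem hα _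
      have hβm : β ^ m = 1 := by
        rw [hβ, ← pow_mul, ← hkm]
        exact pow_orderOf_eq_one α
      have hβord : (orderOf β).Coprime p :=
        Nat.Coprime.coprime_dvd_left (orderOf_dvd_of_pow_eq_one hβm) hcop
      have hαpow : ∀ (j : ℕ), ∀ a ∈ A, (α ^ j) a = a := by
        intro j
        induction j with
        | zero => intro a _; simp
        | succ j ih =>
          intro a ha
          rw [pow_succ, MulAut.mul_apply, hfixA a ha, ih a ha]
      have hβA : ∀ a ∈ A, β a = a := by
        intro a ha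
        rw [hβ]
        exact hαpow _ a ha
      have hβD := fix_of_fix_selfCentralizing hP β m hcop hβm D (hDinv β hβG) _ A rfl hAD hCA hβA
      have hβ1 := hDtriv β hβG hβord hβD
      rw [hβ] at hβ1
      have hdvd : orderOf α ∣ p ^ k := orderOf_dvd_of_pow_eq_one hβ1
      obtain ⟨j, -, hj⟩ := (Nat.dvd_prime_pow hp).mp hdvd
      exact ⟨j, hj⟩

end Cfsg.Agent.S1949
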