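import Cfsg.Statements.S5087
import Cfsg.Agent.Lib.Helper8_Alperin
import Cfsg.Agent.S5080
import Cfsg.Agent.S5086

set_option autoImplicit false
open Cfsg

namespace Cfsg.Agent.S5087

open Cfsg.FusionSystem Cfsg.Agent.Lib.Helper8_Saturated Cfsg.Agent.Lib.Helper8_Fusion
  Cfsg.Agent.Lib.Helper8_Alperin

/-- In a saturated fusion system over a finite p-group S, a subgroup Q is normal in the system if and only if every subgroup P that equals S or is essential contains Q and every element of Aut_F(P) maps Q onto itself. -/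
theorem result {Ω : Type*} [Group Ω] {S : Subgroup Ω} [Finite S] (p : ℕ) [Fact p.Prime] (hS : IsPGroup p S) (F : Cfsg.FusionSystem S) (hF : F.IsSaturated p) (Q : Subgroup Ω) : F.IsNormal Q ↔ ∀ P : Subgroup Ω, (P = S ∨ F.IsEssential p P) → (Q ≤ P ∧ ∀ α ∈ F.autGroup P, (Q.subgroupOf P).map α.toMonoidHom = Q.subgroupOf P) := by
  constructor
  · intro h P hP
    have hsc := stronglyClosed_of_isNormal F h
    have hPS : P ≤ S := by
      rcases hP with rfl | hP
      · exact le_rfl
      · exact hP.1.1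
    have hQP : Q ≤ P := by
      rcases hP with rfl | hP
      · exact h.1
      · exact normal_le_of_centric_radical hS F h hP.1 (Cfsg.Agent.S5080.result p hS F hF P hP)
    refine ⟨hQP, ?_⟩
    intro α hα
    apply le_antisymm
    · rintro _ ⟨x, hx, rfl⟩
      rw [Subgroup.mem_subgroupOf]
      have hxQ : (x : Ω) ∈ Q := by simpa [Subgroup.mem_subgroupOf] using hx
      exact Cfsg.Agent.S5086.aut_maps_stronglyClosed F hsc hPS hQP hα ⟨x, hxQ⟩
    · intro y hy
      have hyQ : (y : Ω) ∈ Q := by simpa [Subgroup.mem_subgroupOf] using hy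
      have h1 := Cfsg.Agent.S5086.aut_maps_stronglyClosed F hsc hPS hQP
        ((F.autGroup P).inv_mem hα) ⟨y, hyQ⟩
      refine ⟨α⁻¹ y, by simpa [Subgroup.mem_subgroupOf] using h1, ?_⟩
      simp
  · intro h
    apply isNormal_of_aut hS F hF
    intro P hP
    obtain ⟨hQP, hα⟩ := h P hP
    refine ⟨hQP, ?_⟩
    intro α hαF x
    have h1 : α ⟨x, hQP x.2⟩ ∈ (Q.subgroupOf P).map α.toMonoidHom :=
      ⟨⟨x, hQP x.2⟩, by simp [Subgroup.mem_subgroupOf], rfl⟩
    rw [hα α hαF] at h1
    simpa [Subgroup.mem_subgroupOf] using h1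

end Cfsg.Agent.S5087
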