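import Cfsg.Statements.S5344
import Cfsg.Agent.Lib.Helper8_S4Pres

set_option autoImplicit false
open Cfsg

namespace Cfsg.Agent.S5344

/-- In a set of 3-transpositions, let a, b, c be members with a and c different and commuting, while neither a nor c commutes with b (a 3-string). Then there is an injective homomorphism from the symmetric group of degree 4 into the ambient group sending the transpositions (0 1), (1 2), (2 3) to a, b, c; so a, b, c generate a copy of the symmetric group of degree 4 in which they are transpositions. -/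
theorem result {G : Type*} [Group G] {D : Set G} (hD : Cfsg.IsThreeTranspositionSet D) {a b c : G} (ha : a ∈ D) (hb : b ∈ D) (hc : c ∈ D) (hac : a ≠ c) (hac' : Commute a c) (hab : ¬ Commute a b) (hbc : ¬ Commute b c) : ∃ φ : Equiv.Perm (Fin 4) →* G, Function.Injective φ ∧ φ (Equiv.swap 0 1) = a ∧ φ (Equiv.swap 1 2) = b ∧ φ (Equiv.swap 2 3) = c := by
  open Cfsg.Agent.Helper8S4Pres in
  have hsq : ∀ d ∈ D, d * d = 1 := by
    intro d hd
    have := hD.1 d hd
    rw [← pow_two, ← this]
    exact pow_orderOf_eq_one d
  have hinv : ∀ d ∈ D, d⁻¹ = d := fun d hd => inv_eq_of_mul_eq_one_left (hsq d hd)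
  have hbraid : ∀ d ∈ D, ∀ e ∈ D, ¬ Commute d e → e * d * e = d * e * d := by
    intro d hd e he hne
    rcases hD.2 d hd e he with h | h
    · exfalso
      apply hne
      rw [pow_two] at h
      have h1 : d * e = (d * e)⁻¹ := eq_inv_of_mul_eq_one_left h
      rw [mul_inv_rev, hinv d hd, hinv e he] at h1
      exact h1
    · rw [pow_succ, pow_two] at h
      have h1 : e * d * e = (d * e * d)⁻¹ := by
        apply eq_inv_of_mul_eq_one_right
        rw [← h]
        group
      rw [h1, mul_inv_rev, mul_inv_rev, hinv d hd, hinv e he, mul_assoc]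
  obtain ⟨φ, h1, h2, h3, hinj⟩ := exists_hom a b c (hsq a ha) (hsq b hb) (hsq c hc)
    hac'.eq.symm (hbraid a ha b hb hab) (hbraid b hb c hc hbc)
  exact ⟨φ, hinj hac, h1, h2, h3⟩

end Cfsg.Agent.S5344
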