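import Cfsg.Statements.S5631
import Cfsg.Agent.Lib.Helper9_SLgen
import Mathlib

set_option autoImplicit false
open Cfsg

namespace Cfsg.Agent.S5631

open Cfsg.Agent.Helper9 Matrix

variable {n : ℕ} {F : Type*} [Field F]

theorem inv_mulVec_mulVec (m : Matrix.GeneralLinearGroup (Fin n) F) (v : Fin n → F) :
    ((m⁻¹ : Matrix.GeneralLinearGroup (Fin n) F) : Matrix (Fin n) (Fin n) F) *ᵥ
      ((m : Matrix (Fin n) (Fin n) F) *ᵥ v) = v := by
  rw [← gl_mul_mulVec, inv_mul_cancel]
  simp

theorem mulVec_inv_mulVec (m : Matrix.GeneralLinearGroup (Fin n) F) (v : Fin n → F) :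
    (m : Matrix (Fin n) (Fin n) F) *ᵥ
      (((m⁻¹ : Matrix.GeneralLinearGroup (Fin n) F) : Matrix (Fin n) (Fin n) F) *ᵥ v) = v := by
  rw [← gl_mul_mulVec, mul_inv_cancel]
  simp

/-- conjugating a transvection -/
theorem conj_glTransv (m : Matrix.GeneralLinearGroup (Fin n) F) (f : Module.Dual F (Fin n → F))
    (y : Fin n → F) (h : f ((m : Matrix (Fin n) (Fin n) F) *ᵥ y) = 0) :
    glTransv f ((m : Matrix (Fin n) (Fin n) F) *ᵥ y) h =
      m * glTransv (f.comp (Matrix.mulVecLin (m : Matrix (Fin n) (Fin n) F))) y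
        (by simpa using h) * m⁻¹ := by
  apply gl_ext_mulVec
  intro v
  rw [gl_mul_mulVec, gl_mul_mulVec, glTransv_mulVec, glTransv_mulVec, Matrix.mulVec_add,
    Matrix.mulVec_smul, mulVec_inv_mulVec]
  simp only [LinearMap.comp_apply, Matrix.mulVecLin_apply, mulVec_inv_mulVec]

theorem glTransv_smul (f : Module.Dual F (Fin n → F)) (y : Fin n → F) (c : F)
    (h : f (c • y) = 0) :
    glTransv f (c • y) h = glTransv (c • f) y (by simpa using h) := by
  apply gl_ext_mulVec
  intro v
  rw [glTransv_mulVec, glTransv_mulVec]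
  simp only [LinearMap.smul_apply, smul_eq_mul]
  rw [smul_smul, mul_comm]

theorem glTransv_zero (f : Module.Dual F (Fin n → F)) (h : f 0 = 0) :
    glTransv f (0 : Fin n → F) h = 1 := by
  apply gl_ext_mulVec
  intro v
  rw [glTransv_mulVec]
  simp

/-- main lemma: an overgroup of the stabiliser in `SL` of `W` that moves `W` contains all
transvections -/
theorem all_transv_mem (W : Submodule F (Fin n → F))
    (M : Subgroup (Matrix.GeneralLinearGroup (Fin n) F))
    (hPM : Cfsg.Geo.subspaceStabilizer W ⊓ Cfsg.Geo.specialLinear (Fin n) F ≤ M)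
    (g : Matrix.GeneralLinearGroup (Fin n) F) (hgM : g ∈ M)
    (hgW : g ∉ Cfsg.Geo.subspaceStabilizer W) :
    ∀ (f : Module.Dual F (Fin n → F)) (y : Fin n → F) (h : f y = 0), glTransv f y h ∈ M := by
  classical
  -- the set X
  have hX1 : ∀ y ∈ W, ∀ (f : Module.Dual F (Fin n → F)) (h : f y = 0), glTransv f y h ∈ M := by
    intro y hy f h
    exact hPM ⟨glTransv_stab_of_mem f y h W hy, glTransv_mem_SL f y h⟩
  have hX2 : ∀ (m : Matrix.GeneralLinearGroup (Fin n) F), m ∈ M → ∀ y : Fin n → F,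
      (∀ (f : Module.Dual F (Fin n → F)) (h : f y = 0), glTransv f y h ∈ M) →
      ∀ (f : Module.Dual F (Fin n → F)) (h : f ((m : Matrix (Fin n) (Fin n) F) *ᵥ y) = 0),
        glTransv f ((m : Matrix (Fin n) (Fin n) F) *ᵥ y) h ∈ M := by
    intro m hm y hy f h
    rw [conj_glTransv]
    exact M.mul_mem (M.mul_mem hm (hy _ _)) (M.inv_mem hm)
  have hX3 : ∀ (c : F) (y : Fin n → F),
      (∀ (f : Module.Dual F (Fin n → F)) (h : f y = 0), glTransv f y h ∈ M) →
      ∀ (f : Module.Dual F (Fin n → F)) (h : f (c • y) = 0), glTransv f (c • y) h ∈ M := by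
    intro c y hy f h
    rw [glTransv_smul]
    exact hy _ _
  -- an element of X outside W
  obtain ⟨u, huW, huX⟩ : ∃ u : Fin n → F, u ∉ W ∧
      ∀ (f : Module.Dual F (Fin n → F)) (h : f u = 0), glTransv f u h ∈ M := by
    rw [mem_stab_iff] at hgW
    push Not at hgW
    obtain ⟨v, hv⟩ := hgW
    rcases hv with ⟨hv1, hv2⟩ | ⟨hv1, hv2⟩
    · exact ⟨_, hv2, hX2 g hgM v (hX1 v hv1)⟩
    · refine ⟨v, hv1, ?_⟩
      have := hX2 g⁻¹ (M.inv_mem hgM) _ (hX1 _ hv2)
      rw [inv_mulVec_mulVec] at this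
      exact this
  -- every vector is in X
  intro f y h
  by_cases hyW : y ∈ W
  · exact hX1 y hyW f h
  by_cases hyA : y ∈ W ⊔ Submodule.span F {u}
  · -- case A
    obtain ⟨w, hw, z, hz, hwz⟩ := Submodule.mem_sup.1 hyA
    obtain ⟨c, rfl⟩ := Submodule.mem_span_singleton.1 hz
    have hcX := hX3 c u huX
    by_cases hw0 : w = 0
    · subst hw0
      rw [zero_add] at hwz
      subst hwz
      exact hcX f h
    have hcu : c • u ∉ Submodule.span F {w} := by
      intro hcon
      have h1 : c • u ∈ W := (Submodule.span_singleton_le_iff_mem w W).2 hw hcon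
      apply hyW
      rw [← hwz]
      exact W.add_mem hw h1
    obtain ⟨φ0, hφ1, hφ2⟩ := exists_functional _ _ hcu
    have hφw : φ0 w = 0 := hφ2 w (Submodule.mem_span_singleton_self w)
    set φ : Module.Dual F (Fin n → F) := (φ0 (c • u))⁻¹ • φ0 with hφ
    have hφw' : φ w = 0 := by
      rw [hφ, LinearMap.smul_apply, hφw, smul_zero]
    have hφu : φ (c • u) = 1 := by
      rw [hφ, LinearMap.smul_apply, smul_eq_mul, inv_mul_cancel₀ hφ1]
    have hτ : glTransv φ w hφw' ∈ M := hX1 w hw φ hφw'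
    have key : ((glTransv φ w hφw' : Matrix.GeneralLinearGroup (Fin n) F) :
        Matrix (Fin n) (Fin n) F) *ᵥ (c • u) = y := by
      rw [glTransv_mulVec, hφu, one_smul, add_comm, hwz]
    have := hX2 _ hτ _ hcX
    simp only [key] at this
    exact this f h
  · -- case B
    have huB : u ∉ W ⊔ Submodule.span F {y - u} := by
      intro hcon
      obtain ⟨w, hw, z, hz, hwz⟩ := Submodule.mem_sup.1 hcon
      obtain ⟨c, rfl⟩ := Submodule.mem_span_singleton.1 hz
      by_cases hc : c = 0
      · rw [hc, zero_smul, add_zero] at hwz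
        rw [← hwz] at huW
        exact huW hw
      · apply hyA
        have : y = (-c⁻¹) • w + (c⁻¹ * (1 + c)) • u := by
          have h1 : c • y = (1 + c) • u - w := by
            have hw' : w = u - c • (y - u) := eq_sub_of_add_eq hwz
            rw [hw']
            module
          have h2 : y = c⁻¹ • (c • y) := by rw [smul_smul, inv_mul_cancel₀ hc, one_smul]
          rw [h2, h1, smul_sub, smul_smul, neg_smul]
          abel
        rw [this]
        exact Submodule.add_mem _ (Submodule.mem_sup_left (W.smul_mem _ hw))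
          (Submodule.mem_sup_right (Submodule.smul_mem _ _ (Submodule.mem_span_singleton_self u)))
    obtain ⟨φ0, hφ1, hφ2⟩ := exists_functional _ _ huB
    set φ : Module.Dual F (Fin n → F) := (φ0 u)⁻¹ • φ0 with hφ
    have hφW : ∀ w ∈ W, φ w = 0 := by
      intro w hw
      rw [hφ, LinearMap.smul_apply, hφ2 w (Submodule.mem_sup_left hw), smul_zero]
    have hφd : φ (y - u) = 0 := by
      rw [hφ, LinearMap.smul_apply,
        hφ2 _ (Submodule.mem_sup_right (Submodule.mem_span_singleton_self _)), smul_zero]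
    have hφu : φ u = 1 := by
      rw [hφ, LinearMap.smul_apply, smul_eq_mul, inv_mul_cancel₀ hφ1]
    have hτ : glTransv φ (y - u) hφd ∈ M :=
      hPM ⟨glTransv_stab_of_ker φ _ hφd W hφW, glTransv_mem_SL φ _ hφd⟩
    have key : ((glTransv φ (y - u) hφd : Matrix.GeneralLinearGroup (Fin n) F) :
        Matrix (Fin n) (Fin n) F) *ᵥ u = y := by
      rw [glTransv_mulVec, hφu, one_smul]
      abel
    have := hX2 _ hτ _ huX
    simp only [key] at this
    exact this f h

theorem result {F : Type*} [Field F] [Fintype F] (n : ℕ) (hn : 13 ≤ n) (W : Submodule F (Fin n → F)) (hW0 : W ≠ ⊥) (hW1 : W ≠ ⊤) : Cfsg.Geo.IsMaximalIn (Cfsg.Geo.specialLinear (Fin n) F) (Cfsg.Geo.subspaceStabilizer W ⊓ Cfsg.Geo.specialLinear (Fin n) F) := by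
  classical
  constructor
  · refine lt_of_le_of_ne inf_le_right ?_
    intro hcon
    obtain ⟨g, hg1, hg2⟩ := exists_SL_not_stab W hW0 hW1
    rw [← hcon] at hg1
    exact hg2 hg1.1
  · intro M hHM hMK
    by_cases hMH : M = Cfsg.Geo.subspaceStabilizer W ⊓ Cfsg.Geo.specialLinear (Fin n) F
    · left; exact hMH
    right
    have hlt : Cfsg.Geo.subspaceStabilizer W ⊓ Cfsg.Geo.specialLinear (Fin n) F < M :=
      lt_of_le_of_ne hHM (Ne.symm hMH)
    obtain ⟨g, hgM, hgH⟩ := SetLike.exists_of_lt hlt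
    have hgW : g ∉ Cfsg.Geo.subspaceStabilizer W := fun h => hgH ⟨h, hMK hgM⟩
    have hall := all_transv_mem W M hHM g hgM hgW
    apply le_antisymm hMK
    refine le_trans specialLinear_le_closure_transvSet ?_
    rw [Subgroup.closure_le]
    rintro x ⟨f, y, h, rfl⟩
    exact hall f y h

end Cfsg.Agent.S5631
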