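import Cfsg.Statements.S0772
import Mathlib
import Cfsg.Agent.S5631

set_option autoImplicit false
open Cfsg

namespace Cfsg.Agent.S0772

/-- Maximal parabolics are maximal: over a finite field, for 0 < k < n the stabiliser in GL_n of the span of the first k coordinate vectors is a maximal proper subgroup. -/
theorem result {F : Type*} [Field F] [Finite F] (n k : ℕ) (hk0 : 0 < k) (hkn : k < n) : IsCoatom (Cfsg.stabilizing (Cfsg.glToMat (Fin n) F) {v : Fin n → F | ∀ i : Fin n, k ≤ (i : ℕ) → v i = 0}) := by
  classical
  open Cfsg.Agent.Helper9 in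
  let W : Submodule F (Fin n → F) :=
    { carrier := {v : Fin n → F | ∀ i : Fin n, k ≤ (i : ℕ) → v i = 0}
      add_mem' := by
        intro a b ha hb i hi
        simp only [Pi.add_apply, ha i hi, hb i hi, add_zero]
      zero_mem' := by
        intro i _
        rfl
      smul_mem' := by
        intro c a ha i hi
        simp only [Pi.smul_apply, ha i hi, smul_zero] }
  have hP : Cfsg.stabilizing (Cfsg.glToMat (Fin n) F) {v : Fin n → F | ∀ i : Fin n, k ≤ (i : ℕ) → v i = 0} =
      Cfsg.Geo.subspaceStabilizer W := rfl
  rw [hP]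
  have hmemW : ∀ v : Fin n → F, v ∈ W ↔ ∀ i : Fin n, k ≤ (i : ℕ) → v i = 0 := fun v => Iff.rfl
  have hW0 : W ≠ ⊥ := by
    intro h
    have hmem : (Pi.single (⟨0, by omega⟩ : Fin n) 1 : Fin n → F) ∈ W := by
      rw [hmemW]
      intro i hi
      rw [Pi.single_apply, if_neg]
      intro hh
      rw [hh] at hi
      simp at hi
      omega
    rw [h, Submodule.mem_bot] at hmem
    have := congrFun hmem ⟨0, by omega⟩
    simp at this
  have hW1 : W ≠ ⊤ := by
    intro h
    have hmem : (Pi.single (⟨k, hkn⟩ : Fin n) 1 : Fin n → F) ∈ W := by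
      rw [h]; exact Submodule.mem_top
    rw [hmemW] at hmem
    have := hmem ⟨k, hkn⟩ (le_refl _)
    simp at this
  constructor
  · intro htop
    obtain ⟨g, hg1, hg2⟩ := Cfsg.Agent.Helper9.exists_SL_not_stab W hW0 hW1
    apply hg2
    rw [htop]
    exact Subgroup.mem_top g
  · intro M hlt
    obtain ⟨g, hgM, hgP⟩ := SetLike.exists_of_lt hlt
    have hall := Cfsg.Agent.S5631.all_transv_mem W M (inf_le_left.trans hlt.le) g hgM hgP
    have hSL : Cfsg.Geo.specialLinear (Fin n) F ≤ M := by
      refine le_trans Cfsg.Agent.Helper9.specialLinear_le_closure_transvSet ?_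
      rw [Subgroup.closure_le]
      rintro x ⟨f, y, h, rfl⟩
      exact hall f y h
    rw [eq_top_iff]
    intro x _
    set i0 : Fin n := ⟨0, by omega⟩ with hi0
    set D : Fin n → Fˣ := Function.update 1 i0 (Matrix.GeneralLinearGroup.det x) with hD
    set d : GL (Fin n) F := Cfsg.Agent.Helper9.diagGL D with hd
    have hdP : d ∈ Cfsg.Geo.subspaceStabilizer W := by
      rw [Cfsg.Agent.Helper9.mem_stab_iff]
      intro v
      rw [hmemW, hmemW]
      constructor
      · intro hv i hi
        rw [hd, Cfsg.Agent.Helper9.diagGL_mulVec, hv i hi, mul_zero]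
      · intro hv i hi
        have := hv i hi
        rw [hd, Cfsg.Agent.Helper9.diagGL_mulVec] at this
        rcases mul_eq_zero.1 this with h | h
        · exact absurd h (D i).ne_zero
        · exact h
    have hdet : Matrix.GeneralLinearGroup.det d = Matrix.GeneralLinearGroup.det x := by
      apply Units.ext
      rw [Matrix.GeneralLinearGroup.val_det_apply]
      show (Matrix.diagonal (fun i => (D i : F))).det = _
      rw [Matrix.det_diagonal, hD]
      have : ∀ i, ((Function.update (1 : Fin n → Fˣ) i0 (Matrix.GeneralLinearGroup.det x) i : Fˣ) : F) =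
          Function.update (fun _ => (1 : F)) i0 ((Matrix.GeneralLinearGroup.det x : Fˣ) : F) i := by
        intro i
        by_cases h : i = i0
        · subst h; simp
        · simp [Function.update_of_ne h]
      simp only [this]
      rw [Finset.prod_update_of_mem (Finset.mem_univ _)]
      simp
    have hxd : x * d⁻¹ ∈ Cfsg.Geo.specialLinear (Fin n) F := by
      unfold Cfsg.Geo.specialLinear
      rw [MonoidHom.mem_ker, map_mul, map_inv, hdet, mul_inv_cancel]
    have : x = (x * d⁻¹) * d := by group
    rw [this]
    exact M.mul_mem (hSL hxd) (hlt.le hdP)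

end Cfsg.Agent.S0772
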