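import Cfsg.Statements.S0670
import Mathlib

set_option autoImplicit false
open Cfsg

namespace Cfsg.Agent.S0670

theorem finite_closure {V : Type*} [AddCommGroup V] (p : ℕ) [Fact p.Prime] [Module (ZMod p) V]
    (S : Set V) (hS : S.Finite) : Finite (AddSubgroup.closure S) := by
  let B : Submodule (ZMod p) V := Submodule.span (ZMod p) S
  have h1 : Module.Finite (ZMod p) B :=
    Module.Finite.span_of_finite (ZMod p) hS
  have hfin2 : Finite B := Module.finite_of_finite (ZMod p)
  have hle : ((AddSubgroup.closure S : AddSubgroup V) : Set V) ⊆ (B : Set V) := by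
    intro v hv
    have : AddSubgroup.closure S ≤ B.toAddSubgroup := by
      rw [AddSubgroup.closure_le]
      exact Submodule.subset_span
    exact this hv
  exact (Set.Finite.subset (Set.toFinite _) hle).to_subtype

section fixed

variable {K : Type*} [Field K] {p : ℕ} [Fact p.Prime] [CharP K p]
variable {V : Type*} [AddCommGroup V] [Module K V]
variable {P : Type*} [Group P] [Finite P]

theorem exists_fixed (hP : IsPGroup p P) (ρ : Representation K P V) (w : V) (hw : w ≠ 0) :
    ∃ v : V, v ≠ 0 ∧ (∀ g, ρ g v = v) ∧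
      v ∈ AddSubgroup.closure (Set.range fun g : P => ρ g w) := by
  classical
  have hpV : ∀ v : V, p • v = 0 := by
    intro v
    rw [← Nat.cast_smul_eq_nsmul K, CharP.cast_eq_zero, zero_smul]
  set S : Set V := Set.range fun g : P => ρ g w with hS
  set A : AddSubgroup V := AddSubgroup.closure S with hA
  have hinv : ∀ g : P, ∀ v ∈ A, ρ g v ∈ A := by
    intro g v hv
    induction hv using AddSubgroup.closure_induction with
    | mem x hx =>
      obtain ⟨h, rfl⟩ := hx
      apply AddSubgroup.subset_closure
      exact ⟨g * h, by simp [map_mul]⟩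
    | zero => rw [map_zero]; exact A.zero_mem
    | add x y _ _ hx hy => rw [map_add]; exact A.add_mem hx hy
    | neg x _ hx => rw [map_neg]; exact A.neg_mem hx
  have hfin : Finite A :=
    @finite_closure V _ p _ (AddCommGroup.zmodModule hpV) S (Set.finite_range _)
  letI : MulAction P A :=
    { smul := fun g a => ⟨ρ g a.1, hinv g a.1 a.2⟩
      one_smul := fun a => Subtype.ext (by show ρ 1 a.1 = a.1; simp)
      mul_smul := fun g h a => Subtype.ext (by show ρ (g * h) a.1 = ρ g (ρ h a.1); simp [map_mul]) }
  have hwA : w ∈ A := AddSubgroup.subset_closure ⟨1, by simp⟩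
  have hdvd : p ∣ Nat.card A := by
    have h1 : addOrderOf (⟨w, hwA⟩ : A) = p := by
      apply addOrderOf_eq_prime
      · apply Subtype.ext
        simpa using hpV w
      · intro h; apply hw; exact congrArg Subtype.val h
    rw [← h1]; exact addOrderOf_dvd_natCard _
  have h0 : (0 : A) ∈ MulAction.fixedPoints P A := by
    intro g; apply Subtype.ext; show ρ g 0 = 0; simp
  obtain ⟨b, hb, hb0⟩ := hP.exists_fixed_point_of_prime_dvd_card_of_fixed_point A hdvd h0
  refine ⟨b.1, ?_, ?_, b.2⟩
  · intro h; apply hb0; exact (Subtype.ext h).symm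
  · intro g; exact congrArg Subtype.val (hb g)

end fixed

theorem sylow_trans {G : Type*} [Group G] [Finite G] {p f : ℕ} [Fact p.Prime] {Ω : Type*}
    [Fintype Ω] [MulAction G Ω] [MulAction.IsPretransitive G Ω]
    (hcard : Fintype.card Ω = p ^ f) (P : Sylow p G) (x y : Ω) :
    ∃ g : P, (g : G) • x = y := by
  classical
  have hp := (Fact.out : p.Prime)
  -- orbit-stabilizer for G
  have hG : Nat.card (MulAction.orbit G x) * Nat.card (MulAction.stabilizer G x) = Nat.card G := by
    rw [Subgroup.card_eq_card_quotient_mul_card_subgroup (MulAction.stabilizer G x),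
      ← Nat.card_congr (MulAction.orbitEquivQuotientStabilizer G x)]
  have hGo : Nat.card (MulAction.orbit G x) = p ^ f := by
    rw [MulAction.orbit_eq_univ, Nat.card_congr (Equiv.Set.univ Ω), Nat.card_eq_fintype_card, hcard]
  rw [hGo] at hG
  -- orbit-stabilizer for P
  have hPo : Nat.card (MulAction.orbit P x) * Nat.card (MulAction.stabilizer P x) = Nat.card P := by
    rw [Subgroup.card_eq_card_quotient_mul_card_subgroup (MulAction.stabilizer P x),
      ← Nat.card_congr (MulAction.orbitEquivQuotientStabilizer P x)]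
  -- the stabilizer in P embeds in the stabilizer in G
  have hdvd : Nat.card (MulAction.stabilizer P x) ∣ Nat.card (MulAction.stabilizer G x) := by
    let φ : MulAction.stabilizer P x →* MulAction.stabilizer G x :=
      { toFun := fun g => ⟨g.1.1, g.2⟩
        map_one' := rfl
        map_mul' := fun _ _ => rfl }
    apply Subgroup.card_dvd_of_injective φ
    intro a b hab
    apply Subtype.ext; apply Subtype.ext
    have h := congrArg (fun z : MulAction.stabilizer G x => (z : G)) hab
    exact h
  have hPp : IsPGroup p (MulAction.stabilizer P x) := P.isPGroup'.to_subgroup _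
  obtain ⟨n, hn⟩ := hPp.exists_card_eq
  have hPc := P.card_eq_multiplicity
  set a := (Nat.card G).factorization p with ha
  have hG0 : Nat.card G ≠ 0 := Nat.card_pos.ne'
  have h1 : p ^ (f + n) ∣ Nat.card G := by
    rw [← hG, pow_add]
    exact Nat.mul_dvd_mul_left _ (hn ▸ hdvd)
  have h2 : f + n ≤ a := (hp.pow_dvd_iff_le_factorization hG0).mp h1
  rw [hn] at hPo
  have hPc' : Nat.card (P : Subgroup G) = p ^ a := hPc
  have hPc'' : Nat.card P = p ^ a := hPc'
  rw [hPc''] at hPo
  have h3 : Nat.card (MulAction.orbit P x) = p ^ (a - n) := by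
    have : p ^ a = p ^ (a - n) * p ^ n := by rw [← pow_add]; congr 1; omega
    rw [this] at hPo
    exact Nat.eq_of_mul_eq_mul_right (pow_pos hp.pos n) hPo
  have h4 : p ^ f ≤ p ^ (a - n) := Nat.pow_le_pow_right hp.pos (by omega)
  have h5 : MulAction.orbit P x = Set.univ := by
    rw [Set.eq_univ_iff_ncard, ← Nat.card_coe_set_eq]
    apply le_antisymm
    · rw [Nat.card_coe_set_eq]; exact Set.ncard_le_card _
    · rw [h3, Nat.card_eq_fintype_card, hcard]; exact h4
  have h6 : y ∈ MulAction.orbit P x := h5 ▸ Set.mem_univ y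
  obtain ⟨g, hg⟩ := h6
  exact ⟨g, hg⟩

theorem result {G : Type*} [Group G] [Finite G] {K : Type*} [Field K] {p f : ℕ} [Fact p.Prime] [CharP K p] {Ω : Type*} [Fintype Ω] [MulAction G Ω] [MulAction.IsPretransitive G Ω] (hf : 1 ≤ f) (hcard : Fintype.card Ω = p ^ f) (W : Subrepresentation (Cfsg.permRep K G Ω)) (hW : W.toSubmodule ≠ ⊥) : (Cfsg.permConstants K G Ω).toSubmodule ≤ W.toSubmodule := by
  classical
  have hp := (Fact.out : p.Prime)
  obtain ⟨w, hwW, hw0⟩ := Submodule.exists_mem_ne_zero_of_ne_bot hW
  obtain ⟨P⟩ : Nonempty (Sylow p G) := inferInstance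
  let ρ : Representation K P (Ω → K) := (Cfsg.permRep K G Ω).comp (P : Subgroup G).subtype
  obtain ⟨v, hv0, hvfix, hvmem⟩ := exists_fixed (p := p) P.isPGroup' ρ w hw0
  have hvW : v ∈ W.toSubmodule := by
    have : AddSubgroup.closure (Set.range fun g : P => ρ g w) ≤ W.toSubmodule.toAddSubgroup := by
      rw [AddSubgroup.closure_le]
      rintro _ ⟨g, rfl⟩
      exact W.apply_mem_toSubmodule g.1 hwW
    exact this hvmem
  -- v is constant
  have hconst : ∀ x y : Ω, v x = v y := by
    intro x y
    obtain ⟨g, hg⟩ := sylow_trans hcard P x y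
    have h1 := congrFun (hvfix g) y
    have h2 : (ρ g v) y = v ((g : G)⁻¹ • y) := rfl
    rw [h2, ← hg, inv_smul_smul] at h1
    rw [← hg]; exact h1
  have hne : Nonempty Ω := by
    rw [← Fintype.card_pos_iff, hcard]; exact pow_pos hp.pos f
  obtain ⟨x0⟩ := hne
  have hc : v x0 ≠ 0 := by
    intro h
    apply hv0
    funext y
    rw [hconst y x0, h]; rfl
  have hv1 : (fun _ : Ω => (1 : K)) = (v x0)⁻¹ • v := by
    funext y
    simp only [Pi.smul_apply, smul_eq_mul]
    rw [hconst y x0, inv_mul_cancel₀ hc]
  show Submodule.span K {fun _ => 1} ≤ W.toSubmodule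
  rw [Submodule.span_le, Set.singleton_subset_iff, hv1]
  exact W.toSubmodule.smul_mem _ hvW

end Cfsg.Agent.S0670
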