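import Cfsg.Statements.S0671
import Cfsg.Agent.S0670
import Mathlib

set_option autoImplicit false
open Cfsg

namespace Cfsg.Agent.S0671

section
variable {G : Type*} [Group G] {K : Type*} [Field K] {Ω : Type*} [Fintype Ω] [MulAction G Ω]

theorem rho_apply (g : G) (f : Ω → K) (x : Ω) : Cfsg.permRep K G Ω g f x = f (g⁻¹ • x) := rfl

theorem rho_single [DecidableEq Ω] (g : G) (x : Ω) :
    Cfsg.permRep K G Ω g (Pi.single x 1) = Pi.single (g • x) 1 := by
  funext z
  rw [rho_apply, Pi.single_apply, Pi.single_apply]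
  simp only [inv_smul_eq_iff]

/-- the orthogonal of a subrepresentation for the standard pairing -/
noncomputable def perp (U : Subrepresentation (Cfsg.permRep K G Ω)) :
    Subrepresentation (Cfsg.permRep K G Ω) where
  toSubmodule :=
    { carrier := {w | ∀ u ∈ U.toSubmodule, ∑ x, w x * u x = 0}
      add_mem' := by
        intro w1 w2 h1 h2 u hu
        simp only [Pi.add_apply, add_mul, Finset.sum_add_distrib]
        rw [h1 u hu, h2 u hu, add_zero]
      zero_mem' := by intro u hu; simp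
      smul_mem' := by
        intro c w hw u hu
        simp only [Pi.smul_apply, smul_eq_mul, mul_assoc, ← Finset.mul_sum]
        rw [hw u hu, mul_zero] }
  apply_mem_toSubmodule g w hw := by
    intro u hu
    have h1 := hw _ (U.apply_mem_toSubmodule g⁻¹ hu)
    rw [← h1]
    exact Fintype.sum_equiv (MulAction.toPerm g⁻¹) _ _ (fun x => by
      show w (g⁻¹ • x) * u x = w (g⁻¹ • x) * u ((g⁻¹)⁻¹ • (g⁻¹ • x))
      rw [inv_inv, smul_inv_smul])

theorem mem_perp (U : Subrepresentation (Cfsg.permRep K G Ω)) (w : Ω → K) :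
    w ∈ (perp U).toSubmodule ↔ ∀ u ∈ U.toSubmodule, ∑ x, w x * u x = 0 := Iff.rfl

theorem mem_sumZero (f : Ω → K) :
    f ∈ (Cfsg.permSumZero K G Ω).toSubmodule ↔ ∑ x, f x = 0 := Iff.rfl

theorem le_sumZero_of_ne_top [Finite G] {p f : ℕ} [Fact p.Prime] [CharP K p]
    [MulAction.IsPretransitive G Ω] (hf : 1 ≤ f) (hcard : Fintype.card Ω = p ^ f)
    (U : Subrepresentation (Cfsg.permRep K G Ω)) (hU : U.toSubmodule ≠ ⊤) :
    U.toSubmodule ≤ (Cfsg.permSumZero K G Ω).toSubmodule := by
  classical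
  obtain ⟨ℓ, hℓ0, hℓ⟩ := U.toSubmodule.exists_le_ker_of_lt_top (lt_top_iff_ne_top.mpr hU)
  let w : Ω → K := fun x => ℓ (Pi.single x 1)
  have hℓw : ∀ u : Ω → K, ℓ u = ∑ x, w x * u x := by
    intro u
    rw [LinearMap.pi_apply_eq_sum_univ ℓ u]
    apply Finset.sum_congr rfl
    intro x _
    rw [smul_eq_mul, mul_comm]
    congr 2
    funext j
    simp [Pi.single_apply, eq_comm]
  have hw : w ∈ (perp U).toSubmodule := by
    intro u hu
    rw [← hℓw]; exact hℓ hu
  have hw0 : w ≠ 0 := by
    intro h; apply hℓ0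
    apply LinearMap.ext
    intro u
    rw [hℓw, h]; simp
  have hne : (perp U).toSubmodule ≠ ⊥ := by
    intro h; rw [h] at hw; exact hw0 ((Submodule.mem_bot K).mp hw)
  have h1 := Cfsg.Agent.S0670.result hf hcard (perp U) hne
  have h2 : (fun _ : Ω => (1 : K)) ∈ (perp U).toSubmodule :=
    h1 (Submodule.mem_span_singleton_self _)
  intro u hu
  have h3 := (mem_perp U _).mp h2 u hu
  simp only [one_mul] at h3
  exact h3

/-- structure of equivariant endomorphisms -/
theorem equivariant_form [Finite G] {p f : ℕ} [Fact p.Prime] [CharP K p]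
    [MulAction.IsPretransitive G Ω] (hf : 1 ≤ f) (hcard : Fintype.card Ω = p ^ f)
    (h : ∀ W W' : Subrepresentation (Cfsg.permRep K G Ω),
      (Cfsg.permConstants K G Ω).toSubmodule ≤ W.toSubmodule →
      W.toSubmodule < W'.toSubmodule →
      W'.toSubmodule ≤ (Cfsg.permSumZero K G Ω).toSubmodule →
      ∃ g : G, ∃ v ∈ W'.toSubmodule, Cfsg.permRep K G Ω g v - v ∉ W.toSubmodule)
    (φ : (Ω → K) →ₗ[K] (Ω → K))
    (hφ : ∀ g : G, ∀ v, φ (Cfsg.permRep K G Ω g v) = Cfsg.permRep K G Ω g (φ v)) :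
    ∃ c d : K, ∀ v : Ω → K, φ v = c • v + (d * ∑ x, v x) • (fun _ => (1 : K)) := by
  classical
  have hp := (Fact.out : p.Prime)
  have hne : Nonempty Ω := by
    rw [← Fintype.card_pos_iff, hcard]; exact pow_pos hp.pos f
  obtain ⟨a0⟩ := hne
  -- Step A
  have hsum_inv : ∀ g : G, ∀ v : Ω → K, ∑ x, (Cfsg.permRep K G Ω g v) x = ∑ x, v x := by
    intro g v
    exact Fintype.sum_equiv (MulAction.toPerm g⁻¹) _ _ (fun x => rfl)
  set c : K := ∑ x, φ (Pi.single a0 1) x with hc
  have hcx : ∀ y : Ω, ∑ x, φ (Pi.single y 1) x = c := by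
    intro y
    obtain ⟨g, rfl⟩ := MulAction.exists_smul_eq G a0 y
    rw [← rho_single, hφ, hsum_inv]
  have hdecomp : ∀ v : Ω → K, v = ∑ y, v y • (Pi.single y (1 : K) : Ω → K) := by
    intro v
    funext z
    rw [Finset.sum_apply]
    simp [Pi.single_apply]
  have hsumφ : ∀ v : Ω → K, ∑ x, φ v x = c * ∑ x, v x := by
    intro v
    conv_lhs => rw [hdecomp v]
    rw [map_sum]
    simp only [map_smul, Finset.sum_apply, Pi.smul_apply, smul_eq_mul]
    rw [Finset.sum_comm]
    simp only [← Finset.mul_sum, hcx]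
    rw [Finset.mul_sum]
    apply Finset.sum_congr rfl
    intro x _; ring
  -- Step B
  set ψ : (Ω → K) →ₗ[K] (Ω → K) := φ - c • LinearMap.id with hψ
  have hψapp : ∀ v, ψ v = φ v - c • v := fun v => rfl
  have hψeq : ∀ g : G, ∀ v, ψ (Cfsg.permRep K G Ω g v) = Cfsg.permRep K G Ω g (ψ v) := by
    intro g v
    rw [hψapp, hψapp, hφ, map_sub, map_smul]
  have hψS : ∀ v, ψ v ∈ (Cfsg.permSumZero K G Ω).toSubmodule := by
    intro v
    rw [mem_sumZero, hψapp]
    simp only [Pi.sub_apply, Pi.smul_apply, smul_eq_mul, Finset.sum_sub_distrib, ← Finset.mul_sum]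
    rw [hsumφ, sub_self]
  -- Step C
  let W : Subrepresentation (Cfsg.permRep K G Ω) :=
    { toSubmodule := (Cfsg.permSumZero K G Ω).toSubmodule.map ψ
      apply_mem_toSubmodule := by
        rintro g _ ⟨s, hs, rfl⟩
        exact ⟨_, (Cfsg.permSumZero K G Ω).apply_mem_toSubmodule g hs, hψeq g s⟩ }
  let W' : Subrepresentation (Cfsg.permRep K G Ω) :=
    { toSubmodule := LinearMap.range ψ
      apply_mem_toSubmodule := by
        rintro g _ ⟨s, rfl⟩
        exact ⟨_, hψeq g s⟩ }
  let Kψ : Subrepresentation (Cfsg.permRep K G Ω) :=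
    { toSubmodule := LinearMap.ker ψ
      apply_mem_toSubmodule := by
        intro g v hv
        rw [LinearMap.mem_ker] at hv ⊢
        rw [hψeq, hv, map_zero] }
  have hWW' : W.toSubmodule ≤ W'.toSubmodule := by
    rintro _ ⟨s, _, rfl⟩; exact ⟨s, rfl⟩
  have hW'S : W'.toSubmodule ≤ (Cfsg.permSumZero K G Ω).toSubmodule := by
    rintro _ ⟨s, rfl⟩; exact hψS s
  have htriv : ∀ g : G, ∀ v ∈ W'.toSubmodule, Cfsg.permRep K G Ω g v - v ∈ W.toSubmodule := by
    rintro g _ ⟨s, rfl⟩
    refine ⟨Cfsg.permRep K G Ω g s - s, ?_, ?_⟩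
    · show ∑ x, (Cfsg.permRep K G Ω g s - s) x = 0
      simp only [Pi.sub_apply, Finset.sum_sub_distrib]
      rw [hsum_inv, sub_self]
    · rw [map_sub, hψeq]
  have he0 : (Pi.single a0 1 : Ω → K) ∉ (Cfsg.permSumZero K G Ω).toSubmodule := by
    rw [mem_sumZero]
    simp
  -- Step D
  have hWbot : W.toSubmodule = ⊥ := by
    by_contra hne
    have hC := Cfsg.Agent.S0670.result hf hcard W hne
    have hnlt : ¬ W.toSubmodule < W'.toSubmodule := by
      intro hlt
      obtain ⟨g, v, hv, hnot⟩ := h W W' hC hlt hW'S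
      exact hnot (htriv g v hv)
    have heq : W.toSubmodule = W'.toSubmodule := by
      by_contra hne'
      exact hnlt (lt_of_le_of_ne hWW' hne')
    have hker : Kψ.toSubmodule = ⊤ := by
      by_contra hkt
      have hle := le_sumZero_of_ne_top hf hcard Kψ hkt
      have h1 : ψ (Pi.single a0 1) ∈ W.toSubmodule := by
        rw [heq]; exact ⟨_, rfl⟩
      obtain ⟨s, hs, hse⟩ := h1
      have h2 : (Pi.single a0 1 : Ω → K) - s ∈ Kψ.toSubmodule := by
        show _ ∈ LinearMap.ker ψ
        rw [LinearMap.mem_ker, map_sub, hse, sub_self]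
      have h3 := hle h2
      have h4 := (Cfsg.permSumZero K G Ω).toSubmodule.add_mem h3 hs
      rw [sub_add_cancel] at h4
      exact he0 h4
    apply hne
    rw [Submodule.eq_bot_iff]
    rintro _ ⟨s, _, rfl⟩
    have : s ∈ Kψ.toSubmodule := by rw [hker]; trivial
    exact LinearMap.mem_ker.mp this
  have hψS0 : ∀ s ∈ (Cfsg.permSumZero K G Ω).toSubmodule, ψ s = 0 := by
    intro s hs
    have : ψ s ∈ W.toSubmodule := ⟨s, hs, rfl⟩
    rw [hWbot] at this
    exact (Submodule.mem_bot K).mp this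
  -- Step E
  set u : Ω → K := ψ (Pi.single a0 1) with hu
  have hux : ∀ y : Ω, ψ (Pi.single y 1) = u := by
    intro y
    have h1 : (Pi.single y 1 : Ω → K) - Pi.single a0 1 ∈ (Cfsg.permSumZero K G Ω).toSubmodule := by
      rw [mem_sumZero]
      simp
    have h2 := hψS0 _ h1
    rw [map_sub, sub_eq_zero] at h2
    exact h2
  have hufix : ∀ g : G, Cfsg.permRep K G Ω g u = u := by
    intro g
    rw [hu, ← hψeq, rho_single, hux]
  have huconst : ∀ x : Ω, u x = u a0 := by
    intro x
    obtain ⟨g, rfl⟩ := MulAction.exists_smul_eq G a0 x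
    have := congrFun (hufix g⁻¹) a0
    rw [rho_apply, inv_inv] at this
    exact this
  refine ⟨c, u a0, ?_⟩
  intro v
  have h1 : ψ v = (∑ x, v x) • u := by
    conv_lhs => rw [hdecomp v]
    rw [map_sum]
    simp only [map_smul, hux]
    rw [Finset.sum_smul]
  have h2 : φ v = ψ v + c • v := by rw [hψapp]; abel
  rw [h2, h1, add_comm]
  congr 1
  funext x
  simp only [Pi.smul_apply, smul_eq_mul, mul_one]
  rw [huconst x, mul_comm]

open Classical in
/-- the orbital operator -/
noncomputable def orb (a b : Ω) : (Ω → K) →ₗ[K] (Ω → K) where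
  toFun v := fun x => ∑ y, if (∃ g : G, g • a = x ∧ g • b = y) then v y else 0
  map_add' := by
    intro v w
    funext x
    simp only [Pi.add_apply]
    rw [← Finset.sum_add_distrib]
    apply Finset.sum_congr rfl
    intro y _
    split_ifs <;> simp
  map_smul' := by
    intro c v
    funext x
    simp only [Pi.smul_apply, smul_eq_mul, RingHom.id_apply]
    rw [Finset.mul_sum]
    apply Finset.sum_congr rfl
    intro y _
    split_ifs <;> simp

open Classical in
theorem orb_apply (a b : Ω) (v : Ω → K) (x : Ω) :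
    orb (G := G) a b v x = ∑ y, if (∃ g : G, g • a = x ∧ g • b = y) then v y else 0 := rfl

theorem orb_equiv (a b : Ω) (g : G) (v : Ω → K) :
    orb (G := G) a b (Cfsg.permRep K G Ω g v) = Cfsg.permRep K G Ω g (orb (G := G) a b v) := by
  classical
  funext x
  rw [rho_apply, orb_apply, orb_apply]
  apply Fintype.sum_equiv (MulAction.toPerm g⁻¹)
  intro y
  have hiff : (∃ k : G, k • a = x ∧ k • b = y) ↔
      (∃ k : G, k • a = g⁻¹ • x ∧ k • b = (MulAction.toPerm g⁻¹) y) := by
    constructor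
    · rintro ⟨k, h1, h2⟩
      refine ⟨g⁻¹ * k, ?_, ?_⟩
      · rw [mul_smul, h1]
      · rw [mul_smul, h2]; rfl
    · rintro ⟨k, h1, h2⟩
      refine ⟨g * k, ?_, ?_⟩
      · rw [mul_smul, h1, smul_inv_smul]
      · rw [mul_smul, h2]; exact smul_inv_smul g y
  by_cases hc : ∃ k : G, k • a = x ∧ k • b = y
  · rw [if_pos hc, if_pos (hiff.mp hc)]; rfl
  · rw [if_neg hc, if_neg (fun h' => hc (hiff.mpr h'))]

end

theorem result {G : Type*} [Group G] [Finite G] {K : Type*} [Field K] {p f : ℕ} [Fact p.Prime] [CharP K p] {Ω : Type*} [Fintype Ω] [MulAction G Ω] [MulAction.IsPretransitive G Ω] (hf : 1 ≤ f) (hcard : Fintype.card Ω = p ^ f) (h : ∀ W W' : Subrepresentation (Cfsg.permRep K G Ω), (Cfsg.permConstants K G Ω).toSubmodule ≤ W.toSubmodule → W.toSubmodule < W'.toSubmodule → W'.toSubmodule ≤ (Cfsg.permSumZero K G Ω).toSubmodule → ∃ g : G, ∃ v ∈ W'.toSubmodule, Cfsg.permRep K G Ω g v - v ∉ W.toSubmodule) : MulAction.IsMultiplyPretransitive G Ω 2 := by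
  classical
  -- stabilizers are transitive on the remaining points
  have key : ∀ a b b' : Ω, b ≠ a → b' ≠ a → ∃ g : G, g • a = a ∧ g • b = b' := by
    intro a b b' hb hb'
    obtain ⟨c, d, hcd⟩ := equivariant_form hf hcard h (orb (G := G) (K := K) a b)
      (fun g v => orb_equiv a b g v)
    have hval : ∀ y : Ω, y ≠ a →
        (if (∃ g : G, g • a = a ∧ g • b = y) then (1 : K) else 0) = d := by
      intro y hy
      have h1 := congrFun (hcd (Pi.single y 1)) a
      rw [orb_apply] at h1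
      simp only [Pi.add_apply, Pi.smul_apply, smul_eq_mul, mul_one, Pi.single_apply] at h1
      rw [if_neg (Ne.symm hy), mul_zero, zero_add] at h1
      have hR : (∑ x : Ω, if x = y then (1 : K) else 0) = 1 := by simp
      have hL : (∑ x : Ω, if (∃ g : G, g • a = a ∧ g • b = x) then
          (if x = y then (1 : K) else 0) else 0) =
          if (∃ g : G, g • a = a ∧ g • b = y) then (1 : K) else 0 := by
        rw [Finset.sum_eq_single y]
        · simp
        · intro x _ hx
          simp [hx]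
        · simp
      rw [hR, mul_one, hL] at h1
      exact h1
    have hd : d = 1 := by
      rw [← hval b hb, if_pos ⟨1, one_smul _ _, one_smul _ _⟩]
    have h2 := hval b' hb'
    rw [hd] at h2
    by_contra hcon
    rw [if_neg hcon] at h2
    exact zero_ne_one h2
  rw [MulAction.is_two_pretransitive_iff]
  intro a b c d hab hcd
  obtain ⟨g1, hg1⟩ := MulAction.exists_smul_eq G a c
  have hne : g1 • b ≠ c := by
    rw [← hg1]
    intro h'
    exact hab (MulAction.injective g1 h').symm
  obtain ⟨g2, hg2, hg2'⟩ := key c (g1 • b) d hne (Ne.symm hcd)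
  refine ⟨g2 * g1, ?_, ?_⟩
  · rw [mul_smul, hg1, hg2]
  · rw [mul_smul, hg2']

end Cfsg.Agent.S0671
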