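import Cfsg.Statements.S0672
import Mathlib

set_option autoImplicit false
open Cfsg

namespace Cfsg.Agent.S0672

open MulAction

section defs
variable (G : Type*) [Group G] {Ω : Type*} [DecidableEq Ω] [MulAction G Ω]

/-- orbit relation on (point, pair) -/
def Rel (a₁ : Ω) (s₁ : Set.powersetCard Ω 2) (a : Ω) (s : Set.powersetCard Ω 2) : Prop :=
  ∃ g : G, g • a₁ = a ∧ g • s₁ = s

variable {G}

theorem Rel_smul (a₁ : Ω) (s₁ : Set.powersetCard Ω 2) (a : Ω) (s : Set.powersetCard Ω 2) (g : G) :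
    Rel G a₁ s₁ (g • a) (g • s) ↔ Rel G a₁ s₁ a s := by
  constructor
  · rintro ⟨k, hk1, hk2⟩
    refine ⟨g⁻¹ * k, ?_, ?_⟩
    · rw [mul_smul, hk1, inv_smul_smul]
    · rw [mul_smul, hk2, inv_smul_smul]
  · rintro ⟨k, hk1, hk2⟩
    exact ⟨g * k, by rw [mul_smul, hk1], by rw [mul_smul, hk2]⟩

theorem mem_smul_iff (g : G) (a : Ω) (s : Set.powersetCard Ω 2) : g • a ∈ g • s ↔ a ∈ s := by
  rw [← Set.powersetCard.mem_coe_iff, ← Set.powersetCard.mem_coe_iff, Set.powersetCard.coe_smul,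
    Finset.smul_mem_smul_finset_iff]

variable (G)

open Classical in
/-- the kernel of the intertwiner -/
noncomputable def kap (K : Type*) [Field K] (a₁ : Ω) (s₁ : Set.powersetCard Ω 2) (α β : K)
    (a : Ω) (s : Set.powersetCard Ω 2) : K :=
  if a ∈ s then 0 else if Rel G a₁ s₁ a s then α else β

variable {G}

theorem kap_smul {K : Type*} [Field K] (a₁ : Ω) (s₁ : Set.powersetCard Ω 2) (α β : K) (g : G)
    (a : Ω) (s : Set.powersetCard Ω 2) :
    kap G K a₁ s₁ α β (g • a) (g • s) = kap G K a₁ s₁ α β a s := by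
  unfold kap
  by_cases h : a ∈ s
  · rw [if_pos h, if_pos ((mem_smul_iff g a s).mpr h)]
  · rw [if_neg h, if_neg (fun h' => h ((mem_smul_iff g a s).mp h'))]
    by_cases hr : Rel G a₁ s₁ a s
    · rw [if_pos hr, if_pos ((Rel_smul a₁ s₁ a s g).mpr hr)]
    · rw [if_neg hr, if_neg (fun h' => hr ((Rel_smul a₁ s₁ a s g).mp h'))]

theorem kap_lin {K : Type*} [Field K] (a₁ : Ω) (s₁ : Set.powersetCard Ω 2) (α β : K)
    (a : Ω) (s : Set.powersetCard Ω 2) :
    kap G K a₁ s₁ α β a s = α * kap G K a₁ s₁ 1 0 a s + β * kap G K a₁ s₁ 0 1 a s := by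
  unfold kap
  split_ifs <;> simp

variable (G)

/-- the intertwiner on the whole permutation module -/
noncomputable def Fmap [Fintype Ω] (K : Type*) [Field K] (a₁ : Ω) (s₁ : Set.powersetCard Ω 2)
    (α β : K) : (Ω → K) →ₗ[K] (Set.powersetCard Ω 2 → K) where
  toFun φ := fun s => ∑ a, kap G K a₁ s₁ α β a s * φ a
  map_add' φ ψ := by
    funext s
    simp only [Pi.add_apply, mul_add, Finset.sum_add_distrib]
  map_smul' c φ := by
    funext s
    simp only [Pi.smul_apply, smul_eq_mul, RingHom.id_apply, Finset.mul_sum]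
    refine Finset.sum_congr rfl (fun a _ => ?_)
    ring

variable {G}

theorem Fmap_apply [Fintype Ω] {K : Type*} [Field K] (a₁ : Ω) (s₁ : Set.powersetCard Ω 2)
    (α β : K) (φ : Ω → K) (s : Set.powersetCard Ω 2) :
    Fmap G K a₁ s₁ α β φ s = ∑ a, kap G K a₁ s₁ α β a s * φ a := rfl

theorem Fmap_equiv [Fintype Ω] {K : Type*} [Field K] (a₁ : Ω) (s₁ : Set.powersetCard Ω 2)
    (α β : K) (g : G) (φ : Ω → K) :
    Fmap G K a₁ s₁ α β (Cfsg.permRep K G Ω g φ) =
      Cfsg.permRep K G (Set.powersetCard Ω 2) g (Fmap G K a₁ s₁ α β φ) := by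
  funext s
  show ∑ a, kap G K a₁ s₁ α β a s * φ (g⁻¹ • a) = ∑ a, kap G K a₁ s₁ α β a (g⁻¹ • s) * φ a
  symm
  refine Fintype.sum_equiv (MulAction.toPerm g) _ _ (fun b => ?_)
  show kap G K a₁ s₁ α β b (g⁻¹ • s) * φ b = kap G K a₁ s₁ α β (g • b) s * φ (g⁻¹ • g • b)
  rw [inv_smul_smul, ← kap_smul a₁ s₁ α β g b (g⁻¹ • s), smul_inv_smul]

theorem sum_kap_smul [Fintype Ω] {K : Type*} [Field K] (a₁ : Ω) (s₁ : Set.powersetCard Ω 2)
    (α β : K) (g : G) (s : Set.powersetCard Ω 2) :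
    ∑ a, kap G K a₁ s₁ α β a (g • s) = ∑ a, kap G K a₁ s₁ α β a s := by
  symm
  refine Fintype.sum_equiv (MulAction.toPerm g) _ _ (fun b => ?_)
  show kap G K a₁ s₁ α β b s = kap G K a₁ s₁ α β (g • b) (g • s)
  rw [kap_smul]

end defs

theorem trans_pairs {G : Type*} [Group G] {K : Type*} [Field K] {Ω : Type*}
    [Fintype Ω] [DecidableEq Ω] [MulAction G Ω]
    (h2 : MulAction.IsMultiplyPretransitive G Ω 2)
    (h : ∀ f : Representation.IntertwiningMap (Cfsg.permSumZero K G Ω).toRepresentation (Cfsg.permRep K G (Set.powersetCard Ω 2)), (∀ v : (Cfsg.permSumZero K G Ω).toSubmodule, (v : Ω → K) ∈ (Cfsg.permConstants K G Ω).toSubmodule → f v = 0) → f = 0)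
    (a₁ : Ω) (s₁ : Set.powersetCard Ω 2) (a₂ : Ω) (s₂ : Set.powersetCard Ω 2)
    (h₁ : a₁ ∉ s₁) (h₂ : a₂ ∉ s₂) : Rel G a₁ s₁ a₂ s₂ := by
  classical
  by_contra hnot
  have : IsPretransitive G (Set.powersetCard Ω 2) :=
    Set.powersetCard.isPretransitive_of_isMultiplyPretransitive G h2
  obtain ⟨N₁, hN₁⟩ : ∃ N : K, N = ∑ a, kap G K a₁ s₁ 1 0 a s₁ := ⟨_, rfl⟩
  obtain ⟨N₂, hN₂⟩ : ∃ N : K, N = ∑ a, kap G K a₁ s₁ 0 1 a s₁ := ⟨_, rfl⟩
  obtain ⟨α, β, hαβ, hne⟩ : ∃ α β : K, α * N₁ + β * N₂ = 0 ∧ (α ≠ 0 ∨ β ≠ 0) := by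
    by_cases h0 : N₁ = 0 ∧ N₂ = 0
    · exact ⟨1, 0, by rw [h0.1, h0.2]; ring, Or.inl one_ne_zero⟩
    · refine ⟨N₂, -N₁, by ring, ?_⟩
      by_contra hc
      push Not at hc
      exact h0 ⟨neg_eq_zero.mp hc.2, hc.1⟩
  have hsum : ∀ s, ∑ a, kap G K a₁ s₁ α β a s = 0 := by
    intro s
    obtain ⟨g, rfl⟩ := exists_smul_eq G s₁ s
    rw [sum_kap_smul]
    calc ∑ a, kap G K a₁ s₁ α β a s₁
        = ∑ a, (α * kap G K a₁ s₁ 1 0 a s₁ + β * kap G K a₁ s₁ 0 1 a s₁) :=
          Finset.sum_congr rfl (fun a _ => kap_lin a₁ s₁ α β a s₁)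
      _ = α * N₁ + β * N₂ := by
          rw [Finset.sum_add_distrib, ← Finset.mul_sum, ← Finset.mul_sum, ← hN₁, ← hN₂]
      _ = 0 := hαβ
  let f : Representation.IntertwiningMap (Cfsg.permSumZero K G Ω).toRepresentation
      (Cfsg.permRep K G (Set.powersetCard Ω 2)) :=
    ⟨Fmap G K a₁ s₁ α β ∘ₗ (Cfsg.permSumZero K G Ω).toSubmodule.subtype, fun g => by
      apply LinearMap.ext
      intro v
      exact Fmap_equiv a₁ s₁ α β g (v : Ω → K)⟩
  have hfapp : ∀ v : (Cfsg.permSumZero K G Ω).toSubmodule, f v = Fmap G K a₁ s₁ α β (v : Ω → K) :=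
    fun v => rfl
  have hvanish : ∀ v : (Cfsg.permSumZero K G Ω).toSubmodule,
      (v : Ω → K) ∈ (Cfsg.permConstants K G Ω).toSubmodule → f v = 0 := by
    intro v hv
    have hv' : (v : Ω → K) ∈ Submodule.span K {fun _ : Ω => (1 : K)} := hv
    obtain ⟨c, hc⟩ := Submodule.mem_span_singleton.mp hv'
    rw [hfapp, ← hc, map_smul]
    have h1 : Fmap G K a₁ s₁ α β (fun _ => (1 : K)) = 0 := by
      funext s
      rw [Fmap_apply]
      simp only [mul_one]
      exact hsum s
    rw [h1, smul_zero]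
  have hf0 := h f hvanish
  have hF : ∀ b s, Fmap G K a₁ s₁ α β (Pi.single b (1 : K)) s = kap G K a₁ s₁ α β b s := by
    intro b s
    rw [Fmap_apply, Finset.sum_eq_single b]
    · rw [Pi.single_eq_same, mul_one]
    · intro x _ hx; rw [Pi.single_eq_of_ne hx, mul_zero]
    · intro hb; exact absurd (Finset.mem_univ b) hb
  have hker : ∀ a a' : Ω, ∀ s, kap G K a₁ s₁ α β a s = kap G K a₁ s₁ α β a' s := by
    intro a a' s
    have hmem : (Pi.single a (1 : K) - Pi.single a' (1 : K) : Ω → K) ∈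
        (Cfsg.permSumZero K G Ω).toSubmodule := by
      show ∑ x, (Pi.single a (1 : K) - Pi.single a' (1 : K) : Ω → K) x = 0
      simp only [Pi.sub_apply, Finset.sum_sub_distrib, Finset.sum_pi_single', Finset.mem_univ,
        if_true, sub_self]
    have h1 : f ⟨_, hmem⟩ = 0 := by rw [hf0]; rfl
    rw [hfapp] at h1
    have h3 := congrFun h1 s
    rw [map_sub, Pi.sub_apply, hF, hF] at h3
    exact sub_eq_zero.mp h3
  have hzero : ∀ a s, kap G K a₁ s₁ α β a s = 0 := by
    intro a s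
    obtain ⟨a', ha'⟩ := Finset.card_pos.mp
      (by rw [Set.powersetCard.card_eq]; norm_num : 0 < (s : Finset Ω).card)
    have ha'' : a' ∈ s := Set.powersetCard.mem_coe_iff.mp ha'
    rw [hker a a' s]
    unfold kap
    rw [if_pos ha'']
  have hα : α = 0 := by
    have h3 := hzero a₁ s₁
    unfold kap at h3
    rwa [if_neg h₁, if_pos ⟨1, one_smul _ _, one_smul _ _⟩] at h3
  have hβ : β = 0 := by
    have h3 := hzero a₂ s₂
    unfold kap at h3
    rwa [if_neg h₂, if_neg hnot] at h3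
  rcases hne with h | h
  · exact h hα
  · exact h hβ

/-- the pair `{b, c}` -/
def mkPair {Ω : Type*} [DecidableEq Ω] (b c : Ω) (hbc : b ≠ c) : Set.powersetCard Ω 2 :=
  ⟨{b, c}, Set.powersetCard.mem_iff.mpr (Finset.card_pair hbc)⟩

theorem mem_mkPair {Ω : Type*} [DecidableEq Ω] (b c : Ω) (hbc : b ≠ c) (x : Ω) :
    x ∈ mkPair b c hbc ↔ x = b ∨ x = c := by
  show x ∈ ({b, c} : Finset Ω) ↔ _
  rw [Finset.mem_insert, Finset.mem_singleton]

theorem exists_swap {G : Type*} [Group G] [Finite G] {Ω : Type*} [DecidableEq Ω] [MulAction G Ω]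
    [FaithfulSMul G Ω]
    (T : ∀ (a₁ : Ω) (s₁ : Set.powersetCard Ω 2) (a₂ : Ω) (s₂ : Set.powersetCard Ω 2),
      a₁ ∉ s₁ → a₂ ∉ s₂ → Rel G a₁ s₁ a₂ s₂)
    (heven : ∀ a : Ω, Even (Nat.card (MulAction.stabilizer G a)))
    (a b c : Ω) (hab : a ≠ b) (hac : a ≠ c) (hbc : b ≠ c) :
    ∃ w : G, w • a = a ∧ w • b = c ∧ w • c = b := by
  have h2dvd : 2 ∣ Nat.card (stabilizer G a) := (heven a).two_dvd
  obtain ⟨t, ht⟩ := exists_prime_orderOf_dvd_card' 2 h2dvd
  have ht1 : (t : G) ≠ 1 := by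
    intro h1
    have h3 : t = 1 := Subtype.ext h1
    rw [h3, orderOf_one] at ht
    norm_num at ht
  have htt : (t : G) * (t : G) = 1 := by
    have h3 : t ^ 2 = 1 := by rw [← ht]; exact pow_orderOf_eq_one t
    have h4 := congrArg Subtype.val h3
    rw [pow_two] at h4
    exact h4
  have hta : (t : G) • a = a := t.2
  obtain ⟨x, hx⟩ : ∃ x : Ω, (t : G) • x ≠ x := by
    by_contra hall
    push Not at hall
    exact ht1 (FaithfulSMul.eq_of_smul_eq_smul (α := Ω) (fun x => by rw [hall x, one_smul]))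
  obtain ⟨y, hy⟩ : ∃ y : Ω, y = (t : G) • x := ⟨_, rfl⟩
  have hty : (t : G) • y = x := by rw [hy, ← mul_smul, htt, one_smul]
  have hxa : x ≠ a := by rintro rfl; exact hx hta
  have hya : y ≠ a := by
    intro h
    apply hx
    have h3 : x = a := by rw [← hty, h, hta]
    rw [h3]; exact hta
  have hxy : x ≠ y := fun h => hx (by rw [← hy]; exact h.symm)
  have ha0 : a ∉ mkPair x y hxy := by
    rw [mem_mkPair]
    rintro (h | h)
    · exact hxa h.symm
    · exact hya h.symm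
  have has : a ∉ mkPair b c hbc := by
    rw [mem_mkPair]
    rintro (h | h)
    · exact hab h
    · exact hac h
  obtain ⟨k, hka, hks⟩ := T a (mkPair x y hxy) a (mkPair b c hbc) ha0 has
  have hkx : k • x ∈ mkPair b c hbc := by
    rw [← hks]; exact (mem_smul_iff k x _).mpr ((mem_mkPair x y hxy x).mpr (Or.inl rfl))
  have hky : k • y ∈ mkPair b c hbc := by
    rw [← hks]; exact (mem_smul_iff k y _).mpr ((mem_mkPair x y hxy y).mpr (Or.inr rfl))
  rw [mem_mkPair] at hkx hky
  have hkxy : k • x ≠ k • y := fun h => hxy (MulAction.injective k h)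
  have hkinv : k⁻¹ • a = a := by rw [inv_smul_eq_iff, hka]
  have hkt : ∀ z : Ω, (k * (t : G) * k⁻¹) • (k • z) = k • ((t : G) • z) := by
    intro z
    rw [mul_smul, mul_smul, inv_smul_smul]
  refine ⟨k * (t : G) * k⁻¹, ?_, ?_, ?_⟩
  · rw [mul_smul, mul_smul, hkinv, hta, hka]
  · rcases hkx with h1 | h1
    · have h2 : k • y = c := by
        rcases hky with h | h
        · exact absurd (h1.trans h.symm) hkxy
        · exact h
      rw [← h1, hkt, ← hy, h2]
    · have h2 : k • y = b := by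
        rcases hky with h | h
        · exact h
        · exact absurd (h1.trans h.symm) hkxy
      rw [← h2, hkt, hty, h1]
  · rcases hkx with h1 | h1
    · have h2 : k • y = c := by
        rcases hky with h | h
        · exact absurd (h1.trans h.symm) hkxy
        · exact h
      rw [← h2, hkt, hty, h1]
    · have h2 : k • y = b := by
        rcases hky with h | h
        · exact h
        · exact absurd (h1.trans h.symm) hkxy
      rw [← h1, hkt, ← hy, h2]

theorem three_trans_of_pairs {G : Type*} [Group G] [Finite G] {Ω : Type*} [DecidableEq Ω]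
    [MulAction G Ω] [FaithfulSMul G Ω]
    (T : ∀ (a₁ : Ω) (s₁ : Set.powersetCard Ω 2) (a₂ : Ω) (s₂ : Set.powersetCard Ω 2),
      a₁ ∉ s₁ → a₂ ∉ s₂ → Rel G a₁ s₁ a₂ s₂)
    (heven : ∀ a : Ω, Even (Nat.card (MulAction.stabilizer G a))) :
    MulAction.IsMultiplyPretransitive G Ω 3 := by
  rw [MulAction.isMultiplyPretransitive_iff]
  intro x y
  have hx01 : x 0 ≠ x 1 := fun h => by simpa using x.injective h
  have hx02 : x 0 ≠ x 2 := fun h => by simpa using x.injective h
  have hx12 : x 1 ≠ x 2 := fun h => by simpa using x.injective h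
  have hy01 : y 0 ≠ y 1 := fun h => by simpa using y.injective h
  have hy02 : y 0 ≠ y 2 := fun h => by simpa using y.injective h
  have hy12 : y 1 ≠ y 2 := fun h => by simpa using y.injective h
  have hxs : x 0 ∉ mkPair (x 1) (x 2) hx12 := by
    rw [mem_mkPair]
    rintro (h | h)
    · exact hx01 h
    · exact hx02 h
  have hys : y 0 ∉ mkPair (y 1) (y 2) hy12 := by
    rw [mem_mkPair]
    rintro (h | h)
    · exact hy01 h
    · exact hy02 h
  obtain ⟨g, hga, hgs⟩ := T (x 0) (mkPair (x 1) (x 2) hx12) (y 0) (mkPair (y 1) (y 2) hy12) hxs hys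
  have hg1 : g • x 1 ∈ mkPair (y 1) (y 2) hy12 := by
    rw [← hgs]; exact (mem_smul_iff g _ _).mpr ((mem_mkPair _ _ hx12 _).mpr (Or.inl rfl))
  have hg2 : g • x 2 ∈ mkPair (y 1) (y 2) hy12 := by
    rw [← hgs]; exact (mem_smul_iff g _ _).mpr ((mem_mkPair _ _ hx12 _).mpr (Or.inr rfl))
  rw [mem_mkPair] at hg1 hg2
  have hg12 : g • x 1 ≠ g • x 2 := fun h => hx12 (MulAction.injective g h)
  rcases hg1 with h1 | h1
  · have h2' : g • x 2 = y 2 := by
      rcases hg2 with h | h
      · exact absurd (h1.trans h.symm) hg12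
      · exact h
    refine ⟨g, ?_⟩
    ext i
    fin_cases i
    · exact hga
    · exact h1
    · exact h2'
  · have h2' : g • x 2 = y 1 := by
      rcases hg2 with h | h
      · exact h
      · exact absurd (h1.trans h.symm) hg12
    obtain ⟨w, hw0, hw1, hw2⟩ := exists_swap T heven (y 0) (y 1) (y 2) hy01 hy02 hy12
    refine ⟨w * g, ?_⟩
    ext i
    fin_cases i
    · show (w * g) • x 0 = y 0
      rw [mul_smul, hga, hw0]
    · show (w * g) • x 1 = y 1
      rw [mul_smul, h1, hw2]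
    · show (w * g) • x 2 = y 2
      rw [mul_smul, h2', hw1]

/-- Let a finite group act faithfully and doubly transitively with point stabilisers of even order, and let `K` have characteristic `p` dividing the degree. If the heart of the permutation module admits no non-zero equivariant map to the permutation module on unordered pairs (phrased: every intertwining map from the sum-zero functions vanishing on the constants is zero), the action is triply transitive. -/
theorem result {G : Type*} [Group G] [Finite G] {K : Type*} [Field K] {p : ℕ} [Fact p.Prime] [CharP K p] {Ω : Type*} [Fintype Ω] [DecidableEq Ω] [MulAction G Ω] [FaithfulSMul G Ω] (h2 : MulAction.IsMultiplyPretransitive G Ω 2) (hp : p ∣ Fintype.card Ω) (heven : ∀ a : Ω, Even (Nat.card (MulAction.stabilizer G a))) (h : ∀ f : Representation.IntertwiningMap (Cfsg.permSumZero K G Ω).toRepresentation (Cfsg.permRep K G (Set.powersetCard Ω 2)), (∀ v : (Cfsg.permSumZero K G Ω).toSubmodule, (v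 : Ω → K) ∈ (Cfsg.permConstants K G Ω).toSubmodule → f v = 0) → f = 0) : MulAction.IsMultiplyPretransitive G Ω 3 := by
  exact three_trans_of_pairs (fun a₁ s₁ a₂ s₂ h₁ h₂ => trans_pairs h2 h a₁ s₁ a₂ s₂ h₁ h₂) heven

end Cfsg.Agent.S0672
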