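-- Statement S0760: the Witt index is well defined.
import Cfsg.Statements.S0760
import Mathlib

set_option autoImplicit false
open Cfsg

namespace Cfsg.Agent.S0760

variable {F V : Type*} [Field F] [AddCommGroup V] [Module F V]

lemma polar_apply (Q : QuadraticForm F V) (x y : V) :
    QuadraticMap.polarBilin Q x y = Q (x + y) - Q x - Q y := by
  simp [QuadraticMap.polarBilin_apply_apply, QuadraticMap.polar]

lemma polar_zero_of_singular (Q : QuadraticForm F V) (W : Submodule F V)
    (h : ∀ w ∈ W, Q w = 0) (x y : V) (hx : x ∈ W) (hy : y ∈ W) :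
    QuadraticMap.polarBilin Q x y = 0 := by
  rw [polar_apply, h _ (W.add_mem hx hy), h x hx, h y hy]; simp

lemma le_of_max [FiniteDimensional F V] (Q : QuadraticForm F V)
    (hQ : (QuadraticMap.polarBilin Q).Nondegenerate) (W₁ W₂ : Submodule F V)
    (h₁ : ∀ w ∈ W₁, Q w = 0) (h₂ : ∀ w ∈ W₂, Q w = 0)
    (hmax₁ : ∀ W : Submodule F V, W₁ ≤ W → (∀ w ∈ W, Q w = 0) → W = W₁) :
    Module.finrank F W₂ ≤ Module.finrank F W₁ := by
  set B : LinearMap.BilinForm F V := QuadraticMap.polarBilin Q with hB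
  -- W₂ ⊓ W₁^⊥ ≤ W₁
  have hle : W₂ ⊓ LinearMap.BilinForm.orthogonal B W₁ ≤ W₁ := by
    have hU : ∀ w ∈ W₁ ⊔ (W₂ ⊓ LinearMap.BilinForm.orthogonal B W₁), Q w = 0 := by
      intro w hw
      obtain ⟨a, ha, b, hb, rfl⟩ := Submodule.mem_sup.1 hw
      have hb2 : b ∈ W₂ := hb.1
      have hb1 : B a b = 0 := (LinearMap.BilinForm.mem_orthogonal_iff.1 hb.2) a ha
      have := polar_apply Q a b
      rw [← hB, hb1, h₁ a ha, h₂ b hb2] at this
      simp only [sub_zero] at this
      exact this.symm
    have := hmax₁ (W₁ ⊔ (W₂ ⊓ LinearMap.BilinForm.orthogonal B W₁)) le_sup_left hU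
    calc W₂ ⊓ LinearMap.BilinForm.orthogonal B W₁
        ≤ W₁ ⊔ (W₂ ⊓ LinearMap.BilinForm.orthogonal B W₁) := le_sup_right
      _ = W₁ := this
  set D := W₁ ⊓ W₂ with hD
  have hinf : W₂ ⊓ LinearMap.BilinForm.orthogonal B W₁ ≤ D := le_inf hle inf_le_left
  have hsup : W₂ ⊔ LinearMap.BilinForm.orthogonal B W₁ ≤ LinearMap.BilinForm.orthogonal B D := by
    apply sup_le
    · intro w hw
      rw [LinearMap.BilinForm.mem_orthogonal_iff]
      intro d hd
      exact polar_zero_of_singular Q W₂ h₂ d w hd.2 hw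
    · intro w hw
      rw [LinearMap.BilinForm.mem_orthogonal_iff] at hw ⊢
      intro d hd
      exact hw d hd.1
  have e1 := Submodule.finrank_sup_add_finrank_inf_eq W₂ (LinearMap.BilinForm.orthogonal B W₁)
  have e2 := LinearMap.BilinForm.finrank_orthogonal hQ W₁
  have e3 := LinearMap.BilinForm.finrank_orthogonal hQ D
  have e4 := Submodule.finrank_mono hinf
  have e5 := Submodule.finrank_mono hsup
  have e6 : Module.finrank F W₁ ≤ Module.finrank F V := Submodule.finrank_le W₁
  have e7 : Module.finrank F D ≤ Module.finrank F V := Submodule.finrank_le D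
  omega

/-- Witt index is well defined: if Q is a quadratic form on a finite-dimensional space V over a finite field with non-degenerate polar form, and W₁, W₂ are subspaces on which Q vanishes that are maximal with this property, then W₁ and W₂ have the same dimension, and twice this dimension is at most dim V. -/
theorem result {F V : Type*} [Field F] [Finite F] [AddCommGroup V] [Module F V] [FiniteDimensional F V] (Q : QuadraticForm F V) (hQ : (QuadraticMap.polarBilin Q).Nondegenerate) (W₁ W₂ : Submodule F V) (h₁ : ∀ w ∈ W₁, Q w = 0) (h₂ : ∀ w ∈ W₂, Q w = 0) (hmax₁ : ∀ W : Submodule F V, W₁ ≤ W → (∀ w ∈ W, Q w = 0) → W = W₁) (hmax₂ : ∀ W : Submodule F V, W₂ ≤ W → (∀ w ∈ W, Q w = 0) → W = W₂) : Module.finrank F W₁ = Module.finrank F W₂ ∧ 2 * Module.finrank F W₁ ≤ Module.finrank F V := by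
  refine ⟨le_antisymm (le_of_max Q hQ W₂ W₁ h₂ h₁ hmax₂) (le_of_max Q hQ W₁ W₂ h₁ h₂ hmax₁), ?_⟩
  have hsub : W₁ ≤ LinearMap.BilinForm.orthogonal (QuadraticMap.polarBilin Q) W₁ := by
    intro w hw
    rw [LinearMap.BilinForm.mem_orthogonal_iff]
    intro d hd
    exact polar_zero_of_singular Q W₁ h₁ d w hd hw
  have e1 := Submodule.finrank_mono hsub
  have e2 := LinearMap.BilinForm.finrank_orthogonal hQ W₁
  have e3 : Module.finrank F W₁ ≤ Module.finrank F V := Submodule.finrank_le W₁
  omega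

end Cfsg.Agent.S0760
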