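import Cfsg.Statements.S0765
import Mathlib
import Cfsg.Agent.Lib.Helper1_Symp2
set_option autoImplicit false
open Cfsg
namespace Cfsg.Agent.S0765

open Cfsg.Agent.Lib.Helper1_Symp Cfsg.Agent.Lib.Helper1_Symp2 Matrix

variable {F : Type*} [Field F] {m : ℕ}

/-- standard basis vectors -/
def e (i : Fin m) : Fin m ⊕ Fin m → F := Pi.single (Sum.inl i) 1
def f' (i : Fin m) : Fin m ⊕ Fin m → F := Pi.single (Sum.inr i) 1

theorem form_f_e (i j : Fin m) : sympForm m F (f' i) (e j) = if i = j then 1 else 0 := by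
  simp [sympForm_eq, e, f', Pi.single_apply, eq_comm]

theorem form_e_f (i j : Fin m) : sympForm m F (e i) (f' j) = if i = j then -1 else 0 := by
  rw [sympForm_swap, form_f_e]
  by_cases h : i = j
  · simp [h]
  · simp [h, Ne.symm h]

theorem form_e_e (i j : Fin m) : sympForm m F (e i) (e j) = 0 := by
  simp [sympForm_eq, e, Pi.single_apply]

theorem form_f_f (i j : Fin m) : sympForm m F (f' i) (f' j) = 0 := by
  simp [sympForm_eq, f', Pi.single_apply]

theorem inv_mulVec (B : Matrix.symplecticGroup (Fin m) F) {x y : Fin m ⊕ Fin m → F}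
    (h : B.1 *ᵥ x = y) : (B⁻¹).1 *ᵥ y = x := by
  rw [← h, Matrix.mulVec_mulVec]
  have : (B⁻¹).1 * B.1 = ((B⁻¹ * B : Matrix.symplecticGroup (Fin m) F) : Matrix _ _ F) := rfl
  rw [this, inv_mul_cancel]
  exact Matrix.one_mulVec x

theorem main (j : ℕ) : j ≤ m → ∀ A : Matrix.symplecticGroup (Fin m) F,
    (∀ i : Fin m, i.val < m - j → A.1 *ᵥ (e i) = e i ∧ A.1 *ᵥ (f' i) = f' i) →
    A ∈ Subgroup.closure (TS m F) := by
  induction j with
  | zero =>
    intro _ A hA
    have : A = 1 := by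
      apply Subtype.ext
      apply Matrix.ext_of_mulVec_single
      intro s
      show A.1 *ᵥ Pi.single s 1 = (1 : Matrix _ _ F) *ᵥ Pi.single s 1
      rw [Matrix.one_mulVec]
      rcases s with i | i
      · exact (hA i (by simpa using i.2)).1
      · exact (hA i (by simpa using i.2)).2
    rw [this]
    exact Subgroup.one_mem _
  | succ j ih =>
    intro hj A hA
    have hk : m - (j + 1) < m := by omega
    set k := m - (j + 1) with hkdef
    let kk : Fin m := ⟨k, hk⟩
    let X : Set (Fin m ⊕ Fin m → F) := {x | ∃ i : Fin m, i.val < k ∧ (x = e i ∨ x = f' i)}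
    have hAX : ∀ x ∈ X, A.1 *ᵥ x = x := by
      rintro x ⟨i, hi, rfl | rfl⟩
      · exact (hA i hi).1
      · exact (hA i hi).2
    have hu : (f' kk : Fin m ⊕ Fin m → F) ∈ Orth X := by
      rintro x ⟨i, hi, rfl | rfl⟩
      · rw [form_e_f]
        have : i ≠ kk := by
          intro h; rw [h] at hi; exact lt_irrefl _ hi
        simp [this]
      · exact form_f_f _ _
    have hv : (e kk : Fin m ⊕ Fin m → F) ∈ Orth X := by
      rintro x ⟨i, hi, rfl | rfl⟩
      · exact form_e_e _ _
      · rw [form_f_e]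
        have : i ≠ kk := by
          intro h; rw [h] at hi; exact lt_irrefl _ hi
        simp [this]
    have hpres := (mem_symplecticGroup_iff_preserves A.1).mp A.2
    have hOrthA : ∀ w ∈ Orth X, A.1 *ᵥ w ∈ Orth X := by
      intro w hw x hx
      have := hpres x w
      rw [hAX x hx] at this
      rw [this]
      exact hw x hx
    have h1 : sympForm m F (f' kk) (e kk) = 1 := by rw [form_f_e]; simp
    have h1' : sympForm m F (A.1 *ᵥ f' kk) (A.1 *ᵥ e kk) = 1 := by rw [hpres, h1]
    obtain ⟨B, hB, hBu, hBv, hBX⟩ := exists_closure_map_pair X (f' kk) (e kk) (A.1 *ᵥ f' kk)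
      (A.1 *ᵥ e kk) hu hv (hOrthA _ hu) (hOrthA _ hv) h1 h1'
    have hC : B⁻¹ * A ∈ Subgroup.closure (TS m F) := by
      apply ih (by omega)
      intro i hi
      have hmul : ∀ x, (B⁻¹ * A).1 *ᵥ x = (B⁻¹).1 *ᵥ (A.1 *ᵥ x) := by
        intro x
        show ((B⁻¹).1 * A.1) *ᵥ x = _
        rw [Matrix.mulVec_mulVec]
      rw [hmul, hmul]
      by_cases hik : i.val < k
      · have he : (e i : Fin m ⊕ Fin m → F) ∈ X := ⟨i, hik, Or.inl rfl⟩
        have hf : (f' i : Fin m ⊕ Fin m → F) ∈ X := ⟨i, hik, Or.inr rfl⟩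
        rw [hAX _ he, hAX _ hf]
        exact ⟨inv_mulVec B (hBX _ he), inv_mulVec B (hBX _ hf)⟩
      · have : i = kk := by
          apply Fin.ext
          show i.val = k
          omega
        rw [this]
        exact ⟨inv_mulVec B hBv, inv_mulVec B hBu⟩
    have : A = B * (B⁻¹ * A) := by group
    rw [this]
    exact Subgroup.mul_mem _ hB hC

theorem result {F : Type*} [Field F] (m : ℕ) : Subgroup.closure {A : Matrix.symplecticGroup (Fin m) F | ∃ (w : Fin m ⊕ Fin m → F) (c : F), (A : Matrix (Fin m ⊕ Fin m) (Fin m ⊕ Fin m) F) = Cfsg.sympTransvection m w c} = ⊤ := by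
  rw [eq_top_iff]
  intro A _
  apply main m le_rfl A
  intro i hi
  simp at hi

end Cfsg.Agent.S0765
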