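import Cfsg.Statements.S0650
import Mathlib
import Cfsg.Agent.Lib.Lead_Coprime

set_option autoImplicit false
open Cfsg

namespace Cfsg.Agent.S0650

open Cfsg.Agent.Lib.Lead_Coprime

section pairing

variable {S : Type*} [Group S]

/-- the pairing `c a c⁻¹ a⁻¹` -/
def pr (c a : S) : S := c * a * c⁻¹ * a⁻¹

/-- Two abelian subgroups normalizing each other. -/
structure Pair (A A₁ : Subgroup S) : Prop where
  cA : ∀ a ∈ A, ∀ a' ∈ A, a * a' = a' * a
  cA₁ : ∀ c ∈ A₁, ∀ c' ∈ A₁, c * c' = c' * c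
  n1 : ∀ a ∈ A, ∀ c ∈ A₁, c * a * c⁻¹ ∈ A
  n2 : ∀ a ∈ A, ∀ c ∈ A₁, a * c * a⁻¹ ∈ A₁

variable {A A₁ : Subgroup S} (h : Pair A A₁)
include h

theorem pr_mem {c a : S} (hc : c ∈ A₁) (ha : a ∈ A) : pr c a ∈ A ⊓ A₁ := by
  refine ⟨?_, ?_⟩
  · exact A.mul_mem (h.n1 a ha c hc) (A.inv_mem ha)
  · have : pr c a = c * (a * c⁻¹ * a⁻¹) := by unfold pr; group
    rw [this]
    exact A₁.mul_mem hc (h.n2 a ha _ (A₁.inv_mem hc))

theorem dA {d a : S} (hd : d ∈ A ⊓ A₁) (ha : a ∈ A) : d * a = a * d := h.cA d hd.1 a ha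

theorem dA₁ {d c : S} (hd : d ∈ A ⊓ A₁) (hc : c ∈ A₁) : d * c = c * d := h.cA₁ d hd.2 c hc

omit h in
theorem swap (c a : S) : c * a = pr c a * a * c := by unfold pr; group

theorem pr_mul_left {c c' a : S} (hc : c ∈ A₁) (hc' : c' ∈ A₁) (ha : a ∈ A) :
    pr (c * c') a = pr c a * pr c' a := by
  have h1 := dA₁ h (pr_mem h hc' ha) hc
  have e : pr (c * c') a = c * pr c' a * a * c⁻¹ * a⁻¹ := by unfold pr; group
  have h2 := h.cA _ (pr_mem h hc' ha).1 _ (pr_mem h hc ha).1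
  rw [e, ← h1, ← h2]
  unfold pr; group

theorem pr_mul_right {c a a' : S} (hc : c ∈ A₁) (ha : a ∈ A) (ha' : a' ∈ A) :
    pr c (a * a') = pr c a * pr c a' := by
  have h1 := dA h (pr_mem h hc ha') (A.inv_mem ha)
  have e : pr c (a * a') = c * a * c⁻¹ * (pr c a' * a⁻¹) := by unfold pr; group
  rw [e, h1]
  unfold pr; group

omit h in
theorem pr_one_left (a : S) : pr 1 a = 1 := by unfold pr; group

omit h in
theorem pr_one_right (c : S) : pr c 1 = 1 := by unfold pr; group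

theorem pr_inv_left {c a : S} (hc : c ∈ A₁) (ha : a ∈ A) : pr c⁻¹ a = (pr c a)⁻¹ := by
  have := pr_mul_left h hc (A₁.inv_mem hc) ha
  rw [mul_inv_cancel, pr_one_left] at this
  exact (inv_eq_of_mul_eq_one_right this.symm).symm

theorem pr_inv_right {c a : S} (hc : c ∈ A₁) (ha : a ∈ A) : pr c a⁻¹ = (pr c a)⁻¹ := by
  have := pr_mul_right h hc ha (A.inv_mem ha)
  rw [mul_inv_cancel, pr_one_right] at this
  exact (inv_eq_of_mul_eq_one_right this.symm).symm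

/-- normal form multiplication -/
theorem nf_mul {d d' a a' c c' : S} (hd' : d' ∈ A ⊓ A₁) (ha : a ∈ A)
    (ha' : a' ∈ A) (hc : c ∈ A₁) :
    (d * a * c) * (d' * a' * c') = (d * d' * pr c a') * (a * a') * (c * c') := by
  have h1 : c * d' = d' * c := (dA₁ h hd' hc).symm
  have h2 : a * d' = d' * a := (dA h hd' ha).symm
  have h3 : c * a' = pr c a' * a' * c := swap c a'
  have h4 : a * pr c a' = pr c a' * a := (dA h (pr_mem h hc ha') ha).symm
  calc (d * a * c) * (d' * a' * c') = d * a * (c * d') * a' * c' := by group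
    _ = d * a * (d' * c) * a' * c' := by rw [h1]
    _ = d * (a * d') * (c * a') * c' := by group
    _ = d * (d' * a) * (pr c a' * a' * c) * c' := by rw [h2, h3]
    _ = d * d' * (a * pr c a') * a' * c * c' := by group
    _ = d * d' * (pr c a' * a) * a' * c * c' := by rw [h4]
    _ = _ := by group

end pairing

section main

theorem conj_inv_mem_of_finite {G : Type*} [Group G] [Finite G] (D : Subgroup G) (x : G)
    (h : ∀ d ∈ D, x * d * x⁻¹ ∈ D) : ∀ d ∈ D, x⁻¹ * d * x ∈ D := by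
  have hle : D.map (MulAut.conj x).toMonoidHom ≤ D := by
    rintro _ ⟨d, hd, rfl⟩; exact h d hd
  have hcard : Nat.card (D.map (MulAut.conj x).toMonoidHom) = Nat.card D :=
    Subgroup.card_map_of_injective (MulAut.conj x).injective
  have heq := Cfsg.Agent.Lib.Lead_SZ.eq_of_le_of_card_eq hle hcard
  intro d hd
  rw [← heq] at hd
  obtain ⟨d', hd', rfl⟩ := hd
  have : x⁻¹ * ((MulAut.conj x).toMonoidHom d') * x = d' := by
    show x⁻¹ * (x * d' * x⁻¹) * x = d'; group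
  rw [this]; exact hd'

/-- power of a product in the class two situation -/
theorem pow_nf {S : Type*} [Group S] {A A₁ : Subgroup S} (h : Pair A A₁) {a c : S} (ha : a ∈ A)
    (hc : c ∈ A₁) (n : ℕ) :
    (a * c) ^ n = (pr c a) ^ (∑ i ∈ Finset.range n, i) * a ^ n * c ^ n := by
  have hpow : ∀ n : ℕ, pr (c ^ n) a = (pr c a) ^ n := by
    intro n
    induction n with
    | zero => simp [pr_one_left]
    | succ n ih =>
      rw [pow_succ, pr_mul_left h (A₁.pow_mem hc n) hc ha, ih, pow_succ]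
  induction n with
  | zero => simp
  | succ n ih =>
    rw [pow_succ, ih, Finset.sum_range_succ]
    have := nf_mul h (d := (pr c a) ^ (∑ i ∈ Finset.range n, i)) (d' := 1) (a := a ^ n)
      (a' := a) (c := c ^ n) (c' := c) (Subgroup.one_mem _) (A.pow_mem ha n) ha (A₁.pow_mem hc n)
    rw [hpow n] at this
    calc pr c a ^ (∑ i ∈ Finset.range n, i) * a ^ n * c ^ n * (a * c)
        = pr c a ^ (∑ i ∈ Finset.range n, i) * a ^ n * c ^ n * (1 * a * c) := by rw [one_mul]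
      _ = _ := this
      _ = _ := by rw [mul_one, pow_add, pow_succ, pow_succ]

variable {S : Type*} [Group S] [Finite S]

set_option maxHeartbeats 1600000 in
theorem main {p : ℕ} [Fact p.Prime] (hS : IsPGroup p S)
    (B : Subgroup S) [B.Normal] (hB2 : p = 2 → IsMulCommutative B) (A : Subgroup S)
    (hA : IsMulCommutative A) (hBA : ⁅B, B⁆ ≤ A)
    (hnot : ¬ B ≤ Subgroup.normalizer (A : Set S))
    (x : S) (hx : x ∈ B)
    (hxN : x ∈ Subgroup.normalizer ((Subgroup.normalizer (A : Set S)) : Set S))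
    (hxA : x ∉ Subgroup.normalizer (A : Set S))
    (A₁ : Subgroup S) (hA₁ : A₁ = A.map (MulAut.conj x).toMonoidHom)
    (b : S) (hbx : b = x⁻¹)
    (C : Subgroup S) (hC : C = Subgroup.closure {g : S | ∃ a ∈ A, g = a * x * a⁻¹ * b})
    (T : Subgroup S) (hT : T = (A ⊓ A₁) ⊔ C) :
    Nat.card T = Nat.card A ∧ IsMulCommutative T ∧ ⁅B, B⁆ ≤ T ∧ A ⊓ B < T ⊓ B ∧ T ⊓ B < B ∧
    A ≤ Subgroup.normalizer (T : Set S) ∧ T ≤ Subgroup.normalizer (A : Set S) ∧
    b ∈ Subgroup.normalizer (T : Set S) ∧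
    Subgroup.normalizer (A : Set S) < Subgroup.normalizer (T : Set S) ∧
    (p ≠ 2 → Monoid.exponent T ∣ Monoid.exponent A) := by
  classical
  subst hbx
  have mem_A₁ : ∀ u, u ∈ A₁ ↔ ∃ a ∈ A, x * a * x⁻¹ = u := by
    intro u; rw [hA₁, Subgroup.mem_map]; rfl
  have σ_mem : ∀ a ∈ A, x * a * x⁻¹ ∈ A₁ := fun a ha => (mem_A₁ _).2 ⟨a, ha, rfl⟩
  have commA : ∀ a ∈ A, ∀ a' ∈ A, a * a' = a' * a :=
    fun a ha a' ha' => Subgroup.mul_comm_of_mem_isMulCommutative A ha ha'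
  have commA₁ : ∀ c ∈ A₁, ∀ c' ∈ A₁, c * c' = c' * c := by
    intro c hc c' hc'
    obtain ⟨a, ha, rfl⟩ := (mem_A₁ c).1 hc
    obtain ⟨a', ha', rfl⟩ := (mem_A₁ c').1 hc'
    have := commA a ha a' ha'
    calc x * a * x⁻¹ * (x * a' * x⁻¹) = x * (a * a') * x⁻¹ := by group
      _ = x * (a' * a) * x⁻¹ := by rw [this]
      _ = _ := by group
  have hxinvN : x⁻¹ ∈ Subgroup.normalizer ((Subgroup.normalizer (A : Set S)) : Set S) :=
    Subgroup.inv_mem _ hxN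
  have hAN : A ≤ Subgroup.normalizer (A : Set S) := Subgroup.le_normalizer
  have conjN : ∀ n ∈ Subgroup.normalizer (A : Set S),
      x * n * x⁻¹ ∈ Subgroup.normalizer (A : Set S) :=
    fun n hn => (Subgroup.mem_normalizer_iff.1 hxN n).1 hn
  have conjN' : ∀ n ∈ Subgroup.normalizer (A : Set S),
      x⁻¹ * n * x ∈ Subgroup.normalizer (A : Set S) := by
    intro n hn
    have := (Subgroup.mem_normalizer_iff.1 hxinvN n).1 hn
    rwa [inv_inv] at this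
  have hA₁N : A₁ ≤ Subgroup.normalizer (A : Set S) := by
    intro c hc
    obtain ⟨a, ha, rfl⟩ := (mem_A₁ c).1 hc
    exact conjN a (hAN ha)
  have nA : ∀ n ∈ Subgroup.normalizer (A : Set S), ∀ a ∈ A, n * a * n⁻¹ ∈ A :=
    fun n hn a ha => (Subgroup.mem_normalizer_iff.1 hn a).1 ha
  have nA₁ : ∀ n ∈ Subgroup.normalizer (A : Set S), ∀ c ∈ A₁, n * c * n⁻¹ ∈ A₁ := by
    intro n hn c hc
    obtain ⟨a, ha, rfl⟩ := (mem_A₁ c).1 hc
    have h1 := nA _ (conjN' n hn) a ha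
    have e : n * (x * a * x⁻¹) * n⁻¹ = x * (x⁻¹ * n * x * a * (x⁻¹ * n * x)⁻¹) * x⁻¹ := by group
    rw [e]; exact σ_mem _ h1
  have hP : Pair A A₁ := ⟨commA, commA₁, fun a ha c hc => nA c (hA₁N hc) a ha,
    fun a ha c hc => nA₁ a (hAN ha) c hc⟩
  -- K ≤ D
  have hKD : ⁅B, B⁆ ≤ A ⊓ A₁ := by
    intro k hk
    refine ⟨hBA hk, ?_⟩
    have hn : (⁅B, B⁆ : Subgroup S).Normal := inferInstance
    have h1 : x⁻¹ * k * x ∈ ⁅B, B⁆ := by
      have := hn.conj_mem k hk x⁻¹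
      rwa [inv_inv] at this
    have e : k = x * (x⁻¹ * k * x) * x⁻¹ := by group
    rw [e]; exact σ_mem _ (hBA h1)
  -- generators
  have g_eq : ∀ a : S, a * x * a⁻¹ * x⁻¹ = a * (x * a * x⁻¹)⁻¹ := fun a => by group
  have g_B : ∀ a : S, a * x * a⁻¹ * x⁻¹ ∈ B := fun a =>
    B.mul_mem (‹B.Normal›.conj_mem x hx a) (B.inv_mem hx)
  have g_C : ∀ a ∈ A, a * x * a⁻¹ * x⁻¹ ∈ C := fun a ha => by
    rw [hC]; exact Subgroup.subset_closure ⟨a, ha, rfl⟩
  have m_B : ∀ a : S, x * a * x⁻¹ * a⁻¹ ∈ B := fun a => by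
    have : x * a * x⁻¹ * a⁻¹ = (a * x * a⁻¹ * x⁻¹)⁻¹ := by group
    rw [this]; exact B.inv_mem (g_B a)
  have k_mem : ∀ a : S,
      x * (x * a * x⁻¹ * a⁻¹) * x⁻¹ * (x * a * x⁻¹ * a⁻¹)⁻¹ ∈ ⁅B, B⁆ := fun a => by
    have := Subgroup.commutator_mem_commutator hx (m_B a)
    rwa [commutatorElement_def] at this
  -- x normalizes D
  have σσ : ∀ a : S, x * (x * a * x⁻¹) * x⁻¹ =
      (x * (x * a * x⁻¹ * a⁻¹) * x⁻¹ * (x * a * x⁻¹ * a⁻¹)⁻¹) * (x * a * x⁻¹ * a⁻¹) *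
        (x * a * x⁻¹) := fun a => by group
  have xD : ∀ d ∈ A ⊓ A₁, x * d * x⁻¹ ∈ A ⊓ A₁ := by
    intro d hd
    refine ⟨?_, σ_mem d hd.1⟩
    obtain ⟨a₀, ha₀, rfl⟩ := (mem_A₁ d).1 hd.2
    rw [σσ a₀]
    exact A.mul_mem (A.mul_mem (hBA (k_mem a₀)) (A.mul_mem hd.1 (A.inv_mem ha₀))) hd.1
  have xinvD : ∀ d ∈ A ⊓ A₁, x⁻¹ * d * x ∈ A ⊓ A₁ := conj_inv_mem_of_finite _ x xD
  -- multiplication formula
  have gmul : ∀ d d' a a' : S, d' ∈ A ⊓ A₁ → a ∈ A → a' ∈ A →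
      (d * (a * x * a⁻¹ * x⁻¹)) * (d' * (a' * x * a'⁻¹ * x⁻¹)) =
        (d * d' * pr (x * a * x⁻¹)⁻¹ a') * ((a * a') * x * (a * a')⁻¹ * x⁻¹) := by
    intro d d' a a' hd' ha ha'
    rw [g_eq a, g_eq a', g_eq (a * a')]
    have := nf_mul hP (d := d) (c' := (x * a' * x⁻¹)⁻¹) hd' ha ha' (A₁.inv_mem (σ_mem a ha))
    have e3 : (x * a * x⁻¹)⁻¹ * (x * a' * x⁻¹)⁻¹ = (x * (a * a') * x⁻¹)⁻¹ := by
      rw [commA a ha a' ha']; group
    calc d * (a * (x * a * x⁻¹)⁻¹) * (d' * (a' * (x * a' * x⁻¹)⁻¹))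
        = d * a * (x * a * x⁻¹)⁻¹ * (d' * a' * (x * a' * x⁻¹)⁻¹) := by group
      _ = _ := this
      _ = _ := by rw [e3]; group
  -- symmetry
  have hsym : ∀ a ∈ A, ∀ a' ∈ A, pr (x * a * x⁻¹)⁻¹ a' = pr (x * a' * x⁻¹)⁻¹ a := by
    intro a ha a' ha'
    by_cases hp2 : p = 2
    · haveI := hB2 hp2
      have h1 := Subgroup.mul_comm_of_mem_isMulCommutative B (g_B a) (g_B a')
      have h2 := gmul 1 1 a a' (Subgroup.one_mem _) ha ha'
      have h3 := gmul 1 1 a' a (Subgroup.one_mem _) ha' ha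
      rw [one_mul, one_mul, one_mul, one_mul] at h2 h3
      rw [h2, h3, commA a' ha' a ha] at h1
      exact mul_right_cancel h1
    · set c := x * a * x⁻¹ with hc_def
      set c' := x * a' * x⁻¹ with hc'_def
      have hc : c ∈ A₁ := σ_mem a ha
      have hc' : c' ∈ A₁ := σ_mem a' ha'
      obtain ⟨k, hk, e1⟩ : ∃ k ∈ A ⊓ A₁, x * c * x⁻¹ = k * (c * a⁻¹ * c) :=
        ⟨_, hKD (k_mem a), by rw [hc_def]; group⟩
      obtain ⟨k', hk', e1'⟩ : ∃ k' ∈ A ⊓ A₁, x * c' * x⁻¹ = k' * (c' * a'⁻¹ * c') :=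
        ⟨_, hKD (k_mem a'), by rw [hc'_def]; group⟩
      have e2 : (x * c * x⁻¹) * (x * c' * x⁻¹) = (x * c' * x⁻¹) * (x * c * x⁻¹) := by
        have := commA₁ c hc c' hc'
        calc (x * c * x⁻¹) * (x * c' * x⁻¹) = x * (c * c') * x⁻¹ := by group
          _ = x * (c' * c) * x⁻¹ := by rw [this]
          _ = _ := by group
      have f1 : k * (c * a⁻¹ * c) = (k * pr c a⁻¹) * a⁻¹ * (c * c) := by
        rw [swap c a⁻¹]; group
      have f1' : k' * (c' * a'⁻¹ * c') = (k' * pr c' a'⁻¹) * a'⁻¹ * (c' * c') := by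
        rw [swap c' a'⁻¹]; group
      have hai : a⁻¹ ∈ A := A.inv_mem ha
      have hai' : a'⁻¹ ∈ A := A.inv_mem ha'
      have hd1 : k * pr c a⁻¹ ∈ A ⊓ A₁ := Subgroup.mul_mem _ hk (pr_mem hP hc hai)
      have hd2 : k' * pr c' a'⁻¹ ∈ A ⊓ A₁ := Subgroup.mul_mem _ hk' (pr_mem hP hc' hai')
      rw [e1, e1', f1, f1'] at e2
      rw [nf_mul hP hd2 hai hai' (A₁.mul_mem hc hc), nf_mul hP hd1 hai' hai (A₁.mul_mem hc' hc'),
        commA _ hai' _ hai, commA₁ _ (A₁.mul_mem hc' hc') _ (A₁.mul_mem hc hc),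
        commA _ hd2.1 _ hd1.1] at e2
      have e4 := mul_left_cancel (mul_right_cancel (mul_right_cancel e2))
      rw [pr_mul_left hP hc hc hai', pr_mul_left hP hc' hc' hai, pr_inv_right hP hc ha',
        pr_inv_right hP hc' ha] at e4
      -- e4 : (pr c a')⁻¹ * (pr c a')⁻¹ = (pr c' a)⁻¹ * (pr c' a)⁻¹
      have hy : pr c a' ∈ A ⊓ A₁ := pr_mem hP hc ha'
      have hz : pr c' a ∈ A ⊓ A₁ := pr_mem hP hc' ha
      have hyz : pr c a' * pr c' a = pr c' a * pr c a' := commA _ hy.1 _ hz.1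
      have hw2 : (pr c a' * (pr c' a)⁻¹) ^ 2 = 1 := by
        have e5 : pr c a' * pr c a' = pr c' a * pr c' a := by
          have := congrArg (fun t => t⁻¹) e4
          simpa [mul_inv_rev] using this
        have hyz' : (pr c' a)⁻¹ * pr c a' = pr c a' * (pr c' a)⁻¹ := by
          calc (pr c' a)⁻¹ * pr c a' = (pr c' a)⁻¹ * (pr c a' * pr c' a) * (pr c' a)⁻¹ := by group
            _ = (pr c' a)⁻¹ * (pr c' a * pr c a') * (pr c' a)⁻¹ := by rw [hyz]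
            _ = _ := by group
        calc (pr c a' * (pr c' a)⁻¹) ^ 2
            = pr c a' * ((pr c' a)⁻¹ * pr c a') * (pr c' a)⁻¹ := by rw [pow_two]; group
          _ = pr c a' * (pr c a' * (pr c' a)⁻¹) * (pr c' a)⁻¹ := by rw [hyz']
          _ = (pr c a' * pr c a') * (pr c' a)⁻¹ * (pr c' a)⁻¹ := by group
          _ = 1 := by rw [e5]; group
      obtain ⟨j, hj⟩ := hS (pr c a' * (pr c' a)⁻¹)
      have hcop : Nat.Coprime 2 (p ^ j) :=
        Nat.Coprime.pow_right j ((Nat.coprime_primes Nat.prime_two Fact.out).2 (Ne.symm hp2))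
      have h1 : orderOf (pr c a' * (pr c' a)⁻¹) ∣ 2 := orderOf_dvd_of_pow_eq_one hw2
      have h2 : orderOf (pr c a' * (pr c' a)⁻¹) ∣ p ^ j := orderOf_dvd_of_pow_eq_one hj
      have h3 : orderOf (pr c a' * (pr c' a)⁻¹) ∣ 1 := by
        have := Nat.dvd_gcd h1 h2
        rwa [hcop.gcd_eq_one] at this
      have hw : pr c a' * (pr c' a)⁻¹ = 1 := orderOf_eq_one_iff.1 (Nat.dvd_one.1 h3)
      have hfin : pr c a' = pr c' a := mul_inv_eq_one.1 hw
      rw [pr_inv_left hP hc ha', pr_inv_left hP hc' ha, hfin]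
  -- structure of T
  have hDT : A ⊓ A₁ ≤ T := by rw [hT]; exact le_sup_left
  have hCT : C ≤ T := by rw [hT]; exact le_sup_right
  have hTW : ∀ u ∈ T, ∃ d ∈ A ⊓ A₁, ∃ a ∈ A, u = d * (a * x * a⁻¹ * x⁻¹) := by
    let W : Subgroup S :=
      { carrier := {u | ∃ d ∈ A ⊓ A₁, ∃ a ∈ A, u = d * (a * x * a⁻¹ * x⁻¹)}
        one_mem' := ⟨1, Subgroup.one_mem _, 1, A.one_mem, by group⟩
        mul_mem' := by
          rintro _ _ ⟨d, hd, a, ha, rfl⟩ ⟨d', hd', a', ha', rfl⟩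
          exact ⟨d * d' * pr (x * a * x⁻¹)⁻¹ a',
            Subgroup.mul_mem _ (Subgroup.mul_mem _ hd hd')
              (pr_mem hP (A₁.inv_mem (σ_mem a ha)) ha'),
            a * a', A.mul_mem ha ha', gmul d d' a a' hd' ha ha'⟩
        inv_mem' := by
          rintro _ ⟨d, hd, a, ha, rfl⟩
          have hd'' : d⁻¹ * (pr (x * a * x⁻¹)⁻¹ a⁻¹)⁻¹ ∈ A ⊓ A₁ :=
            Subgroup.mul_mem _ (Subgroup.inv_mem _ hd)
              (Subgroup.inv_mem _ (pr_mem hP (A₁.inv_mem (σ_mem a ha)) (A.inv_mem ha)))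
          refine ⟨d⁻¹ * (pr (x * a * x⁻¹)⁻¹ a⁻¹)⁻¹, hd'', a⁻¹, A.inv_mem ha, ?_⟩
          apply inv_eq_of_mul_eq_one_right
          rw [gmul d _ a a⁻¹ hd'' ha (A.inv_mem ha)]
          group }
    have hle : T ≤ W := by
      rw [hT]
      refine sup_le (fun d hd => ⟨d, hd, 1, A.one_mem, by group⟩) ?_
      rw [hC, Subgroup.closure_le]
      rintro _ ⟨a, ha, rfl⟩
      exact ⟨1, Subgroup.one_mem _, a, ha, by group⟩
    exact fun u hu => hle hu
  have hTcomm : ∀ u ∈ T, ∀ v ∈ T, u * v = v * u := by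
    intro u hu v hv
    obtain ⟨d, hd, a, ha, rfl⟩ := hTW u hu
    obtain ⟨d', hd', a', ha', rfl⟩ := hTW v hv
    rw [gmul d d' a a' hd' ha ha', gmul d' d a' a hd ha' ha, hsym a ha a' ha',
      commA a ha a' ha', commA d hd.1 d' hd'.1]
  have hTN : T ≤ Subgroup.normalizer (A : Set S) := by
    rw [hT]
    refine sup_le (inf_le_left.trans hAN) ?_
    rw [hC, Subgroup.closure_le]
    rintro _ ⟨a, ha, rfl⟩
    rw [g_eq a]
    exact Subgroup.mul_mem _ (hAN ha) (Subgroup.inv_mem _ (hA₁N (σ_mem a ha)))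
  have gA : ∀ a ∈ A, a * x * a⁻¹ * x⁻¹ ∈ A → x * a * x⁻¹ ∈ A := by
    intro a ha h1
    have := A.mul_mem (A.inv_mem h1) ha
    have e : (a * x * a⁻¹ * x⁻¹)⁻¹ * a = x * a * x⁻¹ := by group
    rwa [e] at this
  have hTA : A ⊓ T = A ⊓ A₁ := by
    apply le_antisymm
    · rintro u ⟨huA, huT⟩
      obtain ⟨d, hd, a, ha, rfl⟩ := hTW u huT
      have h1 : a * x * a⁻¹ * x⁻¹ ∈ A := by
        have := A.mul_mem (A.inv_mem hd.1) huA
        rwa [inv_mul_cancel_left] at this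
      have h2 : x * a * x⁻¹ ∈ A := gA a ha h1
      have h3 : x * a * x⁻¹ ∈ A ⊓ A₁ := ⟨h2, σ_mem a ha⟩
      have h4 : a ∈ A ⊓ A₁ := by
        have := xinvD _ h3
        have e : x⁻¹ * (x * a * x⁻¹) * x = a := by group
        rwa [e] at this
      refine ⟨huA, ?_⟩
      rw [g_eq a]
      exact A₁.mul_mem hd.2 (A₁.mul_mem h4.2 (A₁.inv_mem (σ_mem a ha)))
    · exact le_inf inf_le_left hDT
  have hsup : T ⊔ A = A₁ ⊔ A := by
    apply le_antisymm
    · refine sup_le ?_ le_sup_right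
      rw [hT]
      refine sup_le (inf_le_left.trans le_sup_right) ?_
      rw [hC, Subgroup.closure_le]
      rintro _ ⟨a, ha, rfl⟩
      rw [g_eq a]
      exact Subgroup.mul_mem _ (Subgroup.mem_sup_right ha)
        (Subgroup.inv_mem _ (Subgroup.mem_sup_left (σ_mem a ha)))
    · refine sup_le ?_ le_sup_right
      intro c hc
      obtain ⟨a, ha, rfl⟩ := (mem_A₁ c).1 hc
      have e : x * a * x⁻¹ = (a * x * a⁻¹ * x⁻¹)⁻¹ * a := by group
      rw [e]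
      exact Subgroup.mul_mem _ (Subgroup.inv_mem _ (Subgroup.mem_sup_left (hCT (g_C a ha))))
        (Subgroup.mem_sup_right ha)
  have hcard : Nat.card T = Nat.card A := by
    have r1 := relIndex_sup_of_le_normalizer T A hTN
    have r2 := relIndex_sup_of_le_normalizer A₁ A hA₁N
    rw [hsup, r2] at r1
    have r3 : (A ⊓ A₁).relIndex T = (A ⊓ A₁).relIndex A₁ := by
      rw [Subgroup.inf_relIndex_right, ← hTA, Subgroup.inf_relIndex_right]; exact r1.symm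
    have c1 : Nat.card (A ⊓ A₁ : Subgroup S) * (A ⊓ A₁).relIndex T = Nat.card T := by
      have := Subgroup.relIndex_mul_relIndex ⊥ (A ⊓ A₁) T bot_le hDT
      rwa [Subgroup.relIndex_bot_left, Subgroup.relIndex_bot_left] at this
    have c2 : Nat.card (A ⊓ A₁ : Subgroup S) * (A ⊓ A₁).relIndex A₁ = Nat.card A₁ := by
      have := Subgroup.relIndex_mul_relIndex ⊥ (A ⊓ A₁) A₁ bot_le inf_le_right
      rwa [Subgroup.relIndex_bot_left, Subgroup.relIndex_bot_left] at this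
    have c3 : Nat.card A₁ = Nat.card A := by
      rw [hA₁]; exact Subgroup.card_map_of_injective (MulAut.conj x).injective
    rw [← c1, r3, c2, c3]
  have hABD : A ⊓ B ≤ A ⊓ A₁ := by
    rintro u ⟨huA, huB⟩
    refine ⟨huA, ?_⟩
    have h1 : x⁻¹ * u * x * u⁻¹ ∈ ⁅B, B⁆ := by
      have := Subgroup.commutator_mem_commutator (B.inv_mem hx) huB
      rwa [commutatorElement_def, inv_inv] at this
    have h2 : x⁻¹ * u * x ∈ A := by
      have := A.mul_mem (hBA h1) huA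
      have e : x⁻¹ * u * x * u⁻¹ * u = x⁻¹ * u * x := by group
      rwa [e] at this
    have e : u = x * (x⁻¹ * u * x) * x⁻¹ := by group
    rw [e]; exact σ_mem _ h2
  have h4 : A ⊓ B < T ⊓ B := by
    refine lt_of_le_not_ge (le_inf (hABD.trans hDT) inf_le_right) ?_
    · intro hge
      apply hxA
      have k1 : ∀ a ∈ A, x * a * x⁻¹ ∈ A := by
        intro a ha
        have : a * x * a⁻¹ * x⁻¹ ∈ A ⊓ B := hge ⟨hCT (g_C a ha), g_B a⟩
        exact gA a ha this.1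
      exact mem_normalizer_of_conj_mem k1 (conj_inv_mem_of_finite A x k1)
  have h5 : T ⊓ B < B :=
    lt_of_le_not_ge inf_le_right (fun h => hnot (fun u hu => hTN (h hu).1))
  have h6 : A ≤ Subgroup.normalizer (T : Set S) := by
    have key : ∀ a'' ∈ A, ∀ u ∈ T, a'' * u * a''⁻¹ ∈ T := by
      intro a'' ha'' u hu
      obtain ⟨d, hd, a, ha, rfl⟩ := hTW u hu
      have hc : (x * a * x⁻¹)⁻¹ ∈ A₁ := A₁.inv_mem (σ_mem a ha)
      have hPm : (pr (x * a * x⁻¹)⁻¹ a'')⁻¹ ∈ A ⊓ A₁ := Subgroup.inv_mem _ (pr_mem hP hc ha'')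
      have e : a'' * (d * (a * x * a⁻¹ * x⁻¹)) * a''⁻¹ =
          (d * (pr (x * a * x⁻¹)⁻¹ a'')⁻¹) * (a * x * a⁻¹ * x⁻¹) := by
        rw [g_eq a]
        have h1 : a'' * d = d * a'' := (dA hP hd ha'').symm
        have h2 : a'' * a = a * a'' := commA a'' ha'' a ha
        have h3 : a * (pr (x * a * x⁻¹)⁻¹ a'')⁻¹ = (pr (x * a * x⁻¹)⁻¹ a'')⁻¹ * a :=
          (dA hP hPm ha).symm
        calc a'' * (d * (a * (x * a * x⁻¹)⁻¹)) * a''⁻¹
            = (a'' * d) * a * (x * a * x⁻¹)⁻¹ * a''⁻¹ := by group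
          _ = d * (a'' * a) * (x * a * x⁻¹)⁻¹ * a''⁻¹ := by rw [h1]; group
          _ = d * (a * a'') * (x * a * x⁻¹)⁻¹ * a''⁻¹ := by rw [h2]
          _ = d * (a * (pr (x * a * x⁻¹)⁻¹ a'')⁻¹) * (x * a * x⁻¹)⁻¹ := by unfold pr; group
          _ = d * ((pr (x * a * x⁻¹)⁻¹ a'')⁻¹ * a) * (x * a * x⁻¹)⁻¹ := by rw [h3]
          _ = _ := by group
      rw [e]
      exact T.mul_mem (hDT (Subgroup.mul_mem _ hd hPm)) (hCT (g_C a ha))
    intro a' ha'
    exact mem_normalizer_of_conj_mem (key a' ha') (fun u hu => by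
      have := key a'⁻¹ (A.inv_mem ha') u hu
      rwa [inv_inv] at this)
  have hxT : x ∈ Subgroup.normalizer (T : Set S) := by
    have key : ∀ u ∈ T, x * u * x⁻¹ ∈ T := by
      intro u hu
      obtain ⟨d, hd, a, ha, rfl⟩ := hTW u hu
      have e : x * (d * (a * x * a⁻¹ * x⁻¹)) * x⁻¹ = (x * d * x⁻¹) * ((a * x * a⁻¹ * x⁻¹) *
          (x * (x * a * x⁻¹ * a⁻¹) * x⁻¹ * (x * a * x⁻¹ * a⁻¹)⁻¹)⁻¹) := by group
      rw [e]
      exact T.mul_mem (hDT (xD d hd))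
        (T.mul_mem (hCT (g_C a ha)) (T.inv_mem (hDT (hKD (k_mem a)))))
    exact mem_normalizer_of_conj_mem key (conj_inv_mem_of_finite T x key)
  have hNT : Subgroup.normalizer (A : Set S) ≤ Subgroup.normalizer (T : Set S) := by
    have key : ∀ n ∈ Subgroup.normalizer (A : Set S), ∀ u ∈ T, n * u * n⁻¹ ∈ T := by
      intro n hn u hu
      obtain ⟨d, hd, a, ha, rfl⟩ := hTW u hu
      have hd' : n * d * n⁻¹ ∈ A ⊓ A₁ := ⟨nA n hn d hd.1, nA₁ n hn d hd.2⟩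
      obtain ⟨a', ha'_def⟩ : ∃ a', a' = n * a * n⁻¹ := ⟨_, rfl⟩
      obtain ⟨a'', ha''_def⟩ : ∃ a'', a'' = (x⁻¹ * n * x) * a * (x⁻¹ * n * x)⁻¹ := ⟨_, rfl⟩
      have ha' : a' ∈ A := by rw [ha'_def]; exact nA n hn a ha
      have ha'' : a'' ∈ A := by rw [ha''_def]; exact nA _ (conjN' n hn) a ha
      have e : n * (d * (a * x * a⁻¹ * x⁻¹)) * n⁻¹ =
          (n * d * n⁻¹) * ((a' * a''⁻¹) * (a'' * x * a''⁻¹ * x⁻¹)) := by
        rw [ha'_def, ha''_def]; group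
      have hB' : a' * a''⁻¹ ∈ B := by
        have e2 : a' * a''⁻¹ = (a' * (x⁻¹ * (n * x * n⁻¹)) * a'⁻¹) * ((n * x * n⁻¹)⁻¹ * x) := by
          rw [ha'_def, ha''_def]; group
        rw [e2]
        have hX : n * x * n⁻¹ ∈ B := ‹B.Normal›.conj_mem x hx n
        exact B.mul_mem (‹B.Normal›.conj_mem _ (B.mul_mem (B.inv_mem hx) hX) a')
          (B.mul_mem (B.inv_mem hX) hx)
      rw [e]
      exact T.mul_mem (hDT hd') (T.mul_mem
        (hDT (hABD ⟨A.mul_mem ha' (A.inv_mem ha''), hB'⟩)) (hCT (g_C a'' ha'')))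
    intro n hn
    exact mem_normalizer_of_conj_mem (key n hn) (fun u hu => by
      have := key n⁻¹ (Subgroup.inv_mem _ hn) u hu
      rwa [inv_inv] at this)
  have h10 : p ≠ 2 → Monoid.exponent T ∣ Monoid.exponent A := by
    intro hp2
    have hpowA : ∀ a ∈ A, a ^ Monoid.exponent A = 1 := by
      intro a ha
      have := Monoid.pow_exponent_eq_one (⟨a, ha⟩ : A)
      have h2 := congrArg (fun t : A => (t : S)) this
      simpa using h2
    have hpowA₁ : ∀ c ∈ A₁, c ^ Monoid.exponent A = 1 := by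
      intro c hc
      obtain ⟨a, ha, rfl⟩ := (mem_A₁ c).1 hc
      rw [conj_pow, hpowA a ha]; group
    have hodd : Nat.Coprime (Monoid.exponent A) 2 := by
      obtain ⟨k, hk⟩ := (IsPGroup.iff_card.1 (hS.to_subgroup A))
      have h1 : Monoid.exponent A ∣ p ^ k := hk ▸ Group.exponent_dvd_nat_card
      exact Nat.Coprime.coprime_dvd_left h1
        (Nat.Coprime.pow_left k ((Nat.coprime_primes Fact.out Nat.prime_two).2 hp2))
    apply Monoid.exponent_dvd_of_forall_pow_eq_one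
    intro u
    apply Subtype.ext
    rw [Subgroup.coe_pow, Subgroup.coe_one]
    obtain ⟨d, hd, a, ha, hu⟩ := hTW u u.2
    rw [hu, g_eq a]
    have hc : (x * a * x⁻¹)⁻¹ ∈ A₁ := A₁.inv_mem (σ_mem a ha)
    have hcomm : Commute d (a * (x * a * x⁻¹)⁻¹) := by
      show d * (a * (x * a * x⁻¹)⁻¹) = a * (x * a * x⁻¹)⁻¹ * d
      calc d * (a * (x * a * x⁻¹)⁻¹) = (d * a) * (x * a * x⁻¹)⁻¹ := (mul_assoc _ _ _).symm
        _ = (a * d) * (x * a * x⁻¹)⁻¹ := by rw [dA hP hd ha]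
        _ = a * (d * (x * a * x⁻¹)⁻¹) := mul_assoc _ _ _
        _ = a * ((x * a * x⁻¹)⁻¹ * d) := by rw [dA₁ hP hd hc]
        _ = _ := (mul_assoc _ _ _).symm
    rw [hcomm.mul_pow, hpowA d hd.1, one_mul, pow_nf hP ha hc, hpowA a ha, hpowA₁ _ hc,
      mul_one, mul_one]
    have hdvd : Monoid.exponent A ∣ ∑ i ∈ Finset.range (Monoid.exponent A), i := by
      have h1 : Monoid.exponent A ∣ (∑ i ∈ Finset.range (Monoid.exponent A), i) * 2 := by
        rw [Finset.sum_range_id_mul_two]; exact dvd_mul_right _ _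
      exact hodd.dvd_of_dvd_mul_right h1
    obtain ⟨t, ht⟩ := hdvd
    rw [ht, pow_mul, hpowA _ (pr_mem hP hc ha).1, one_pow]
  exact ⟨hcard, ⟨⟨fun u v => Subtype.ext (hTcomm u u.2 v v.2)⟩⟩, hKD.trans hDT, h4, h5, h6, hTN,
    Subgroup.inv_mem _ hxT, lt_of_le_not_ge hNT (fun h => hxA (h hxT)), h10⟩

end main


/-- The Glauberman replacement Theorem: from an abelian A ⊇ [B, B] not normalized by the normal subgroup B and a suitable b ∈ B one gets the abelian subgroup A* = (A ∩ b⁻¹Ab)[A, b] of the same order, containing [B, B], meeting B strictly more than A does but not containing B, mutually normalizing with A, with strictly larger normalizer containing b, and (p odd) of no larger exponent. -/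
theorem result {S : Type*} [Group S] [Finite S] {p : ℕ} [Fact p.Prime] (hS : IsPGroup p S) (B : Subgroup S) [B.Normal] (hB2 : p = 2 → IsMulCommutative B) (A : Subgroup S) (hA : IsMulCommutative A) (hBA : ⁅B, B⁆ ≤ A) (hnot : ¬ B ≤ Subgroup.normalizer (A : Set S)) (b : S) (hb : b ∈ B) (hbN : b ∈ Subgroup.normalizer ((Subgroup.normalizer (A : Set S)) : Set S)) (hbA : b ∉ Subgroup.normalizer (A : Set S)) : Nat.card ↥((A ⊓ A.map (MulAut.conj (b⁻¹)).toMonoidHom) ⊔ Subgroup.closure {g : S | ∃ a ∈ A, g = a * b⁻¹ * a⁻¹ * b}) = Nat.card A ∧ IsMulCommutative ↥((A ⊓ A.map (MulAut.conj (b⁻¹)).toMonoidHom) ⊔ Subgroup.closure {g : S | ∃ a ∈ A, g = a * b⁻¹ * a⁻¹ * b}) ∧ ⁅B, B⁆ ≤ ((A ⊓ A.map (MulAut.conj (b⁻¹)).toMonoidHom) ⊔ Subgroup.closure {g : S | ∃ a ∈ A, g = a * b⁻¹ * a⁻¹ * b}) ∧ A ⊓ B < ((A ⊓ A.map (MulAut.conj (b⁻¹)).toMonoidHom) ⊔ Subgroup.closure {g : S | ∃ a ∈ A, g = a * b⁻¹ * a⁻¹ * b}) ⊓ B ∧ ((A ⊓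 A.map (MulAut.conj (b⁻¹)).toMonoidHom) ⊔ Subgroup.closure {g : S | ∃ a ∈ A, g = a * b⁻¹ * a⁻¹ * b}) ⊓ B < B ∧ A ≤ Subgroup.normalizer (((A ⊓ A.map (MulAut.conj (b⁻¹)).toMonoidHom) ⊔ Subgroup.closure {g : S | ∃ a ∈ A, g = a * b⁻¹ * a⁻¹ * b} : Subgroup S) : Set S) ∧ ((A ⊓ A.map (MulAut.conj (b⁻¹)).toMonoidHom) ⊔ Subgroup.closure {g : S | ∃ a ∈ A, g = a * b⁻¹ * a⁻¹ * b}) ≤ Subgroup.normalizer (A : Set S) ∧ b ∈ Subgroup.normalizer (((A ⊓ A.map (MulAut.conj (b⁻¹)).toMonoidHom) ⊔ Subgroup.closure {g : S | ∃ a ∈ A, g = a * b⁻¹ * a⁻¹ * b} : Subgroup S) : Set S) ∧ Subgroup.normalizer (A : Set S) < Subgroup.normalizer (((A ⊓ A.map (MulAut.conj (b⁻¹)).toMonoidHom) ⊔ Subgroup.closure {g : S | ∃ a ∈ A, g = a * b⁻¹ * a⁻¹ * b} : Subgroup S) : Set S) ∧ (p ≠ 2 → Monoid.exponent ↥((A ⊓ A.map (MulAut.conj (b⁻¹)).toMonoidHom) ⊔ Subgroup.closure {g : S | ∃ a ∈ A, g = a * b⁻¹ * a⁻¹ * b}) ∣ Monoid.exponent A) := by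
  exact main hS B hB2 A hA hBA hnot b⁻¹ (B.inv_mem hb) (Subgroup.inv_mem _ hbN)
    (fun h => hbA (by have := Subgroup.inv_mem _ h; rwa [inv_inv] at this)) _ rfl b
    (inv_inv b).symm _ rfl _ rfl

end Cfsg.Agent.S0650
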