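import Mathlib
import Cfsg.Statements.S0072
import Cfsg.Agent.Lib.Helper7_NPC

set_option autoImplicit false

open Cfsg

namespace Cfsg.Agent.S0072

open Cfsg.Agent.Lib.Helper7_NPC

/-- If the normalizers of the non-trivial `p`-subgroups have normal `p`-complements then
Frobenius' hypothesis holds. -/
theorem frobHyp_of_normalizers {G : Type*} [Group G] [Finite G] (p : ℕ) [Fact p.Prime]
    (h : ∀ Q : Subgroup G, IsPGroup p Q → Q ≠ ⊥ → NPC p (Subgroup.normalizer (Q : Set G))) :
    FrobHyp p G := by
  intro Q hQ g hg hcop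
  by_cases hQ1 : Q = ⊥
  · rw [hQ1, Subgroup.mem_centralizer_iff]
    intro x hx
    have : x = 1 := hx
    rw [this, one_mul, mul_one]
  have hF := frobHyp_of_npc (h Q hQ hQ1)
  haveI : (Q.subgroupOf (Subgroup.normalizer (Q : Set G))).Normal := Subgroup.normal_in_normalizer
  have h1 := hF (Q.subgroupOf (Subgroup.normalizer (Q : Set G))) hQ.comap_subtype ⟨g, hg⟩
    (by
      have := Subgroup.normalizer_eq_top (H := Q.subgroupOf (Subgroup.normalizer (Q : Set G)))
      exact this ▸ Subgroup.mem_top _)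
    (by rw [← Subgroup.orderOf_coe]; exact hcop)
  rw [Subgroup.mem_centralizer_iff] at h1 ⊢
  intro x hx
  have := h1 ⟨x, Subgroup.le_normalizer hx⟩ (Subgroup.mem_subgroupOf.mpr hx)
  exact congrArg Subtype.val this

theorem result {G : Type*} [Group G] [Finite G] (p : ℕ) [Fact p.Prime] : Cfsg.HasNormalPComplement p G ↔ ∀ Q : Subgroup G, IsPGroup p Q → Q ≠ ⊥ → Cfsg.HasNormalPComplement p (Subgroup.normalizer (Q : Set G)) := by
  have hp := (Fact.out : p.Prime)
  constructor
  · intro h Q _ _
    rw [hasNormalPComplement_iff_npc] at h ⊢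
    exact h.subgroup hp _
  · intro h
    rw [hasNormalPComplement_iff_npc]
    apply npc_of_frobHyp
    apply frobHyp_of_normalizers
    intro Q hQ hQ1
    exact hasNormalPComplement_iff_npc.mp (h Q hQ hQ1)

end Cfsg.Agent.S0072
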