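import Cfsg.Statements.S0046
import Mathlib
import Cfsg.Agent.Lib.Lead_Schmidt

set_option autoImplicit false
open Cfsg

namespace Cfsg.Agent.S0046

open Cfsg.Agent.Lib.Lead_Schmidt in
theorem aux.{u} : ∀ (n : ℕ) (G : Type u) [Group G] [Finite G], Nat.card G = n →
    (∀ M : Subgroup G, IsCoatom M → Group.IsNilpotent M) → Group.IsSolvable G := by
  intro n
  induction n using Nat.strong_induction_on with
  | _ n ih =>
    intro G _ _ hn h
    by_cases hc : ∀ a b : G, a * b = b * a
    · exact isSolvable_of_comm hc
    by_cases hs : ∀ N : Subgroup G, N.Normal → N = ⊥ ∨ N = ⊤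
    · exact (false_of_simple hs hc h).elim
    push_neg at hs
    obtain ⟨N, hN, hNbot, hNtop⟩ := hs
    obtain ⟨M, hM, hNM⟩ := (eq_top_or_exists_le_coatom N).resolve_left hNtop
    haveI : Group.IsNilpotent N := isNilpotent_of_le hNM (h M hM)
    haveI : Group.IsSolvable N := inferInstance
    have hcard : Nat.card (G ⧸ N) < n := by
      rw [← hn, ← Subgroup.index_eq_card, ← N.card_mul_index]
      have h1 : 1 < Nat.card N := N.one_lt_card_iff_ne_bot.mpr hNbot
      have h2 : 0 < N.index := Nat.pos_of_ne_zero Subgroup.index_ne_zero_of_finite
      nlinarith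
    haveI : Group.IsSolvable (G ⧸ N) := by
      refine ih _ hcard (G ⧸ N) rfl ?_
      intro Q hQ
      have hsurj := QuotientGroup.mk'_surjective N
      obtain ⟨K, hK⟩ : ∃ K : Subgroup G, K = Q.comap (QuotientGroup.mk' N) := ⟨_, rfl⟩
      have hmap : K.map (QuotientGroup.mk' N) = Q := by
        rw [hK]; exact Subgroup.map_comap_eq_self_of_surjective hsurj Q
      have hNK : N ≤ K := by
        rw [hK]
        intro x hx
        rw [Subgroup.mem_comap]
        have : (QuotientGroup.mk' N) x = 1 := (QuotientGroup.eq_one_iff x).mpr hx
        rw [this]; exact Q.one_mem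
      have hKco : IsCoatom K := by
        refine ⟨?_, ?_⟩
        · intro e
          rw [e] at hmap
          apply hQ.1
          rw [← hmap]
          exact (Subgroup.map_top_of_surjective _ hsurj)
        · intro L hL
          have hQL : Q ≤ L.map (QuotientGroup.mk' N) := by
            rw [← hmap]; exact Subgroup.map_mono hL.le
          have hLtop : L.map (QuotientGroup.mk' N) = ⊤ := by
            rcases eq_or_lt_of_le hQL with e | e
            · exfalso
              have : L ≤ K := by
                rw [hK, e]
                exact Subgroup.le_comap_map _ _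
              exact absurd (le_antisymm this hL.le) hL.ne'
            · exact hQ.2 _ e
          have h2 := Subgroup.comap_map_eq (QuotientGroup.mk' N) L
          rw [hLtop, Subgroup.comap_top, QuotientGroup.ker_mk'] at h2
          rw [h2]
          exact (sup_eq_left.mpr (hNK.trans hL.le)).symm
      haveI := h K hKco
      have := nilpotent_of_surjective ((QuotientGroup.mk' N).subgroupMap K)
        ((QuotientGroup.mk' N).subgroupMap_surjective K)
      rw [hmap] at this
      exact this
    refine solvable_of_ker_le_range N.subtype (QuotientGroup.mk' N) ?_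
    rw [QuotientGroup.ker_mk', Subgroup.range_subtype]


/-- Schmidt's Theorem on minimal non-nilpotent groups: a finite group in which every maximal subgroup is nilpotent is solvable. -/
theorem result {G : Type*} [Group G] [Finite G]
    (h : ∀ M : Subgroup G, IsCoatom M → Group.IsNilpotent M) : Group.IsSolvable G := by
  exact aux _ G rfl h

end Cfsg.Agent.S0046
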