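import Cfsg.Statements.S0538
import Mathlib
import Cfsg.Agent.Lib.Helper6_Wielandt
import Cfsg.Agent.Lib.Helper4_SubnormalClosure

set_option autoImplicit false
open Cfsg

namespace Cfsg.Agent.S0538

open Cfsg.Agent.Lib.Helper6_Wielandt

universe u

theorem mem_normalizer_sup {G : Type*} [Group G] (A B : Subgroup G) (x : G)
    (hA : x ∈ Subgroup.normalizer (A : Set G)) (hB : x ∈ Subgroup.normalizer (B : Set G)) :
    x ∈ Subgroup.normalizer ((A ⊔ B : Subgroup G) : Set G) := by
  rw [Subgroup.mem_normalizer_iff_map_conj_eq] at hA hB ⊢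
  rw [Subgroup.map_sup, hA, hB]

theorem main (n : ℕ) : ∀ (G : Type u) [Group G] [Finite G], Nat.card G = n →
    ∀ A B : Subgroup G, A.IsSubnormal → B.IsSubnormal → (A ⊔ B).IsSubnormal := by
  induction n using Nat.strong_induction_on with
  | _ n ih =>
  intro G _ _ hn A B hA hB
  rcases subsingleton_or_nontrivial G with hs | hnt
  · have : A ⊔ B = ⊤ := Subsingleton.elim _ _
    rw [this]
    exact Subgroup.IsSubnormal.top
  · obtain ⟨M, hM, -⟩ := exists_isMinNormal_le (⊤ : Subgroup G) inferInstance top_ne_bot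
    haveI := hM.1
    have hsurj := QuotientGroup.mk'_surjective M
    have hlt : Nat.card (G ⧸ M) < n := by
      rw [← hn]
      have h1 := Subgroup.card_eq_card_quotient_mul_card_subgroup M
      have h2 : 0 < Nat.card (G ⧸ M) := Nat.card_pos
      have h3 : 1 < Nat.card M := (Subgroup.one_lt_card_iff_ne_bot M).mpr hM.2.1
      nlinarith
    have h1 := ih _ hlt (G ⧸ M) rfl _ _ (hA.map hsurj) (hB.map hsurj)
    have h2 := h1.comap (QuotientGroup.mk' M)
    rw [← Subgroup.map_sup, Subgroup.comap_map_eq, QuotientGroup.ker_mk'] at h2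
    apply Cfsg.Agent.Lib.Helper4_SubnormalClosure.isSubnormal_of_normal_in _ _ h2 le_sup_left
    apply sup_le Subgroup.le_normalizer
    intro x hx
    exact mem_normalizer_sup A B x (hM.le_normalizer hA hx) (hM.le_normalizer hB hx)

theorem result {G : Type*} [Group G] [Finite G] (A B : Subgroup G) (hA : A.IsSubnormal) (hB : B.IsSubnormal) : (A ⊔ B).IsSubnormal :=
  main _ G rfl A B hA hB

end Cfsg.Agent.S0538
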