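import Cfsg.Statements.S0539
import Mathlib
import Cfsg.Agent.S0538
import Cfsg.Agent.Lib.Lead_SZ

set_option autoImplicit false
open Cfsg

namespace Cfsg.Agent.S0539

open Cfsg.Agent.Lib.Lead_SZ
open scoped Pointwise

variable {G : Type*} [Group G]

theorem sSup_isSubnormal [Finite G] (T : Set (Subgroup G)) (hT : ∀ U ∈ T, U.IsSubnormal) :
    (sSup T).IsSubnormal := by
  have hfin : T.Finite := Set.toFinite T
  induction T, hfin using Set.Finite.induction_on with
  | empty =>
    rw [sSup_empty]
    exact Subgroup.IsSubnormal.bot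
  | @insert a s _ _ ih =>
    rw [sSup_insert]
    exact Cfsg.Agent.S0538.result a (sSup s) (hT a (Set.mem_insert a s))
      (ih (fun U hU => hT U (Set.mem_insert_of_mem a hU)))

/-- The step in a subnormal series where normalization of `H` first fails. -/
theorem zipper_step (K : Subgroup G) (hK : K.IsSubnormal) :
    ∀ H : Subgroup G, H ≤ K → K ≤ Subgroup.normalizer (H : Set G) → ¬ H.Normal →
      ∃ (K' : Subgroup G) (x : G), H ≤ K' ∧ K' ≤ Subgroup.normalizer (H : Set G) ∧
        x ∉ Subgroup.normalizer (H : Set G) ∧ x ∈ Subgroup.normalizer (K' : Set G) := by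
  induction hK with
  | top =>
    intro H _ hN hnot
    exfalso
    apply hnot
    rw [← Subgroup.normalizer_eq_top_iff]
    exact top_le_iff.mp hN
  | step K L hKL hL hKn ih =>
    intro H hHK hKN hnot
    by_cases hLN : L ≤ Subgroup.normalizer (H : Set G)
    · exact ih H (le_trans hHK hKL) hLN hnot
    · obtain ⟨x, hxL, hxN⟩ := SetLike.not_le_iff_exists.mp hLN
      refine ⟨K, x, hHK, hKN, hxN, ?_⟩
      rw [Subgroup.normal_subgroupOf_iff_le_normalizer hKL] at hKn
      exact hKn hxL

theorem mem_normalizer_of_smul_le [Finite G] (H : Subgroup G) (x : G)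
    (h : MulAut.conj x • H ≤ H) : x ∈ Subgroup.normalizer (H : Set G) := by
  rw [conj_smul_le_normalizer]
  exact Subgroup.eq_of_le_of_card_ge h (by rw [card_conj_smul])

theorem result {G : Type*} [Group G] [Finite G] (S S₀ : Set (Subgroup G)) (hS : ∀ U ∈ S, U.IsSubnormal) (hconj : ∀ U ∈ S, ∀ g : G, MulAut.conj g • U ∈ S) (h₀ : S₀ ⊂ S) : ∃ X ∈ S, X ∉ S₀ ∧ X ≤ Subgroup.normalizer ((sSup S₀ : Subgroup G) : Set G) := by
  set H := sSup S₀ with hH
  have hHsub : H.IsSubnormal := sSup_isSubnormal S₀ (fun U hU => hS U (h₀.subset hU))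
  by_cases hHn : H.Normal
  · obtain ⟨X, hXS, hXS₀⟩ := Set.exists_of_ssubset h₀
    refine ⟨X, hXS, hXS₀, ?_⟩
    rw [Subgroup.normalizer_eq_top_iff.mpr hHn]
    exact le_top
  · -- find the step
    have key : ∃ (K' : Subgroup G) (x : G), H ≤ K' ∧ K' ≤ Subgroup.normalizer (H : Set G) ∧
        x ∉ Subgroup.normalizer (H : Set G) ∧ x ∈ Subgroup.normalizer (K' : Set G) := by
      rcases Subgroup.IsSubnormal.iff_eq_top_or_exists.mp hHsub with htop | ⟨K, hHK, hK, hN⟩
      · exfalso
        apply hHn
        rw [htop]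
        infer_instance
      · rw [Subgroup.normal_subgroupOf_iff_le_normalizer hHK.le] at hN
        exact zipper_step K hK H hHK.le hN hHn
    obtain ⟨K', x, hHK', hK'N, hxN, hxK'⟩ := key
    -- some member of S₀ is conjugated outside S₀ by x
    have hex : ∃ Y ∈ S₀, MulAut.conj x • Y ∉ S₀ := by
      by_contra hall
      push Not at hall
      apply hxN
      apply mem_normalizer_of_smul_le
      rw [Subgroup.pointwise_smul_subset_iff]
      apply sSup_le
      intro Y hY
      rw [← Subgroup.pointwise_smul_subset_iff]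
      exact le_sSup (hall Y hY)
    obtain ⟨Y, hY, hYx⟩ := hex
    refine ⟨MulAut.conj x • Y, hconj Y (h₀.subset hY) x, hYx, ?_⟩
    have h1 : MulAut.conj x • Y ≤ MulAut.conj x • K' :=
      conj_smul_mono x (le_trans (le_sSup hY) hHK')
    rw [conj_smul_le_normalizer.mp hxK'] at h1
    exact le_trans h1 hK'N

end Cfsg.Agent.S0539
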