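import Cfsg.Statements.S3735
import Mathlib
import Cfsg.Agent.S0539
import Cfsg.Agent.Lib.Lead_Coprime

set_option autoImplicit false
open Cfsg

namespace Cfsg.Agent.S3735

open Cfsg.Agent.Lib.Lead_SZ Cfsg.Agent.Lib.Lead_Coprime

open scoped Pointwise

theorem inv_conj {G : Type*} [Group G] (H A : Subgroup G) (hAn : H ≤ Subgroup.normalizer (A : Set G))
    (h : G) (hh : h ∈ H) (W : Subgroup G) (hW : A ≤ Subgroup.normalizer (W : Set G)) :
    A ≤ Subgroup.normalizer ((MulAut.conj h • W : Subgroup G) : Set G) := by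
  intro a ha
  rw [conj_smul_le_normalizer, conj_smul_smul]
  have h1 : h⁻¹ * a * h ∈ A := by
    have := (Subgroup.mem_normalizer_iff.mp (Subgroup.inv_mem _ (hAn hh)) a).mp ha
    simpa using this
  have h2 := conj_smul_le_normalizer.mp (hW h1)
  have e : a * h = h * (h⁻¹ * a * h) := by group
  rw [e, ← conj_smul_smul, h2]

theorem inv_inf {G : Type*} [Group G] (A X Y : Subgroup G)
    (hX : A ≤ Subgroup.normalizer (X : Set G)) (hY : A ≤ Subgroup.normalizer (Y : Set G)) :
    A ≤ Subgroup.normalizer ((X ⊓ Y : Subgroup G) : Set G) := by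
  intro a ha
  rw [conj_smul_le_normalizer, Subgroup.smul_inf, conj_smul_le_normalizer.mp (hX ha),
    conj_smul_le_normalizer.mp (hY ha)]

theorem inv_sup {G : Type*} [Group G] (A X Y : Subgroup G)
    (hX : A ≤ Subgroup.normalizer (X : Set G)) (hY : A ≤ Subgroup.normalizer (Y : Set G)) :
    A ≤ Subgroup.normalizer ((X ⊔ Y : Subgroup G) : Set G) := by
  intro a ha
  rw [conj_smul_le_normalizer, Subgroup.smul_sup, conj_smul_le_normalizer.mp (hX ha),
    conj_smul_le_normalizer.mp (hY ha)]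


/-- Clifford's Theorem for actions on finite abelian groups, first part. Let H and V be subgroups of a finite group with V abelian and H normalizing V, and let A be a normal subgroup of H. If every H-invariant subgroup of V has an H-invariant complement in V, then every A-invariant subgroup of V has an A-invariant complement in V. -/
theorem result {G : Type*} [Group G] [Finite G] (H A V : Subgroup G) (hVab : IsMulCommutative V) (hHV : H ≤ Subgroup.normalizer (V : Set G)) (hAH : A ≤ H) (hAn : H ≤ Subgroup.normalizer (A : Set G)) (hss : ∀ U : Subgroup G, U ≤ V → H ≤ Subgroup.normalizer (U : Set G) → ∃ W : Subgroup G, W ≤ V ∧ H ≤ Subgroup.normalizer (W : Set G) ∧ U ⊓ W = ⊥ ∧ U ⊔ W = V) (U : Subgroup G) (hUV : U ≤ V) (hAU : A ≤ Subgroup.normalizer (U : Set G)) : ∃ W : Subgroup G, W ≤ V ∧ A ≤ Subgroup.normalizer (W : Set G) ∧ U ⊓ W = ⊥ ∧ U ⊔ W = V := by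
  classical
  have hcomm : ∀ a ∈ V, ∀ b ∈ V, a * b = b * a := by
    intro a ha b hb
    have := mul_comm' (⟨a, ha⟩ : V) ⟨b, hb⟩
    exact congrArg Subtype.val this
  have hAV : A ≤ Subgroup.normalizer (V : Set G) := hAH.trans hHV
  set Sm : Set (Subgroup G) := {W | W ≤ V ∧ W ≠ ⊥ ∧ A ≤ Subgroup.normalizer (W : Set G) ∧
    ∀ W' : Subgroup G, W' ≤ W → A ≤ Subgroup.normalizer (W' : Set G) → W' = ⊥ ∨ W' = W} with hSm
  set S := sSup Sm with hSdef
  have hSV : S ≤ V := sSup_le (fun W hW => hW.1)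
  have hconjmem : ∀ h ∈ H, ∀ W ∈ Sm, MulAut.conj h • W ∈ Sm := by
    intro h hh W hW
    obtain ⟨hWV, hWne, hWA, hWmin⟩ := hW
    refine ⟨?_, ?_, inv_conj H A hAn h hh W hWA, ?_⟩
    · calc MulAut.conj h • W ≤ MulAut.conj h • V := conj_smul_mono h hWV
        _ = V := conj_smul_le_normalizer.mp (hHV hh)
    · intro hbot
      apply hWne
      have h1 : Nat.card (MulAut.conj h • W : Subgroup G) = 1 := by rw [hbot]; exact Subgroup.card_bot
      rw [card_conj_smul] at h1
      exact Subgroup.card_eq_one.mp h1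
    · intro W' hW'le hW'A
      have h1 : MulAut.conj h⁻¹ • W' ≤ W := by
        calc MulAut.conj h⁻¹ • W' ≤ MulAut.conj h⁻¹ • MulAut.conj h • W := conj_smul_mono h⁻¹ hW'le
          _ = W := by rw [conj_smul_smul, inv_mul_cancel, map_one, one_smul]
      have h2 := inv_conj H A hAn h⁻¹ (H.inv_mem hh) W' hW'A
      have e : W' = MulAut.conj h • MulAut.conj h⁻¹ • W' := by
        rw [conj_smul_smul, mul_inv_cancel, map_one, one_smul]
      rcases hWmin _ h1 h2 with h3 | h3
      · left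
        rw [e, h3]
        simp
      · right
        rw [e, h3]
  have hHS : H ≤ Subgroup.normalizer (S : Set G) := by
    intro h hh
    apply Cfsg.Agent.S0539.mem_normalizer_of_smul_le
    rw [Subgroup.pointwise_smul_subset_iff]
    apply sSup_le
    intro W hW
    rw [Subgroup.subset_pointwise_smul_iff, inv_inv]
    exact le_sSup (hconjmem h hh W hW)
  obtain ⟨T, hTV, hHT, hST, hSTV⟩ := hss S hSV hHS
  have hT : T = ⊥ := by
    by_contra hTne
    have hAT : A ≤ Subgroup.normalizer (T : Set G) := hAH.trans hHT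
    set C : Set (Subgroup G) := {W | W ≤ T ∧ W ≠ ⊥ ∧ A ≤ Subgroup.normalizer (W : Set G)} with hC
    have hTC : T ∈ C := ⟨le_rfl, hTne, hAT⟩
    obtain ⟨W, -, hWmin⟩ := (Set.toFinite C).exists_le_minimal hTC
    obtain ⟨hWT, hWne, hWA⟩ := hWmin.prop
    have hWSm : W ∈ Sm := by
      refine ⟨hWT.trans hTV, hWne, hWA, ?_⟩
      intro W' hW'le hW'A
      by_cases hb : W' = ⊥
      · exact Or.inl hb
      · right
        exact le_antisymm hW'le (hWmin.le_of_le ⟨hW'le.trans hWT, hb, hW'A⟩ hW'le)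
    have h1 : W ≤ S ⊓ T := le_inf (le_sSup hWSm) hWT
    rw [hST] at h1
    exact hWne (le_bot_iff.mp h1)
  have hSeqV : S = V := by
    rw [hT, sup_bot_eq] at hSTV
    exact hSTV
  set Wc : Set (Subgroup G) := {W | W ≤ V ∧ A ≤ Subgroup.normalizer (W : Set G) ∧ U ⊓ W = ⊥} with hWc
  have hbotWc : (⊥ : Subgroup G) ∈ Wc := by
    refine ⟨bot_le, ?_, inf_bot_eq _⟩
    rw [Subgroup.normalizer_eq_top_iff.mpr inferInstance]
    exact le_top
  obtain ⟨W, -, hWmax⟩ := (Set.toFinite Wc).exists_le_maximal hbotWc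
  obtain ⟨hWV, hWA, hUW⟩ := hWmax.prop
  refine ⟨W, hWV, hWA, hUW, ?_⟩
  by_contra hne
  have hle : U ⊔ W ≤ V := sup_le hUV hWV
  have hex : ∃ X ∈ Sm, ¬ X ≤ U ⊔ W := by
    by_contra hcon
    push_neg at hcon
    apply hne
    apply le_antisymm hle
    rw [← hSeqV]
    exact sSup_le hcon
  obtain ⟨X, ⟨hXV, hXne, hXA, hXmin⟩, hXn⟩ := hex
  have hUWA : A ≤ Subgroup.normalizer ((U ⊔ W : Subgroup G) : Set G) := inv_sup A U W hAU hWA
  have hXint : X ⊓ (U ⊔ W) = ⊥ := by
    rcases hXmin (X ⊓ (U ⊔ W)) inf_le_left (inv_inf A X (U ⊔ W) hXA hUWA) with h1 | h1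
    · exact h1
    · exact absurd (inf_eq_left.mp h1) hXn
  have hWX : W ≤ Subgroup.normalizer (X : Set G) := by
    intro w hw
    refine mem_normalizer_of_conj_mem ?_ ?_
    · intro x hx
      have := hcomm w (hWV hw) x (hXV hx)
      rw [this, mul_assoc, mul_inv_cancel, mul_one]
      exact hx
    · intro x hx
      have := hcomm x (hXV hx) w (hWV hw)
      rw [mul_assoc, this, ← mul_assoc, inv_mul_cancel, one_mul]
      exact hx
  have hnew : W ⊔ X ∈ Wc := by
    refine ⟨sup_le hWV hXV, inv_sup A W X hWA hXA, ?_⟩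
    rw [eq_bot_iff]
    intro u hu
    obtain ⟨huU, huWX⟩ := Subgroup.mem_inf.mp hu
    have h1 : u ∈ ((W ⊔ X : Subgroup G) : Set G) := huWX
    rw [Subgroup.coe_mul_of_left_le_normalizer_right W X hWX] at h1
    obtain ⟨w, hw, x, hx, hwx⟩ := Set.mem_mul.mp h1
    have hx2 : x ∈ U ⊔ W := by
      have e : x = w⁻¹ * u := by rw [← hwx]; group
      rw [e]
      exact (U ⊔ W).mul_mem ((U ⊔ W).inv_mem (Subgroup.mem_sup_right hw)) (Subgroup.mem_sup_left huU)
    have hx1 : x ∈ X ⊓ (U ⊔ W) := Subgroup.mem_inf.mpr ⟨hx, hx2⟩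
    rw [hXint, Subgroup.mem_bot] at hx1
    rw [hx1, mul_one] at hwx
    have hu2 : u ∈ U ⊓ W := Subgroup.mem_inf.mpr ⟨huU, hwx ▸ hw⟩
    rw [hUW] at hu2
    exact hu2
  have h3 : W ⊔ X ≤ W := hWmax.le_of_ge hnew le_sup_left
  exact hXn ((le_sup_right.trans h3).trans le_sup_right)

end Cfsg.Agent.S3735
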