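import Cfsg.Statements.S1324
import Mathlib
import Cfsg.Agent.Lib.Lead_CoprimeGen

set_option autoImplicit false
open Cfsg

namespace Cfsg.Agent.S1324

open Cfsg.Agent.Lib.Lead_SZ Cfsg.Agent.Lib.Lead_Coprime Cfsg.Agent.Lib.Lead_CoprimeGen

/-- Let A be a noncyclic elementary abelian p-subgroup of a finite group H normalizing a subgroup X of order prime to p. Then X is generated by the subgroups X ∩ C_H(B), B ranging over the subgroups of A of index at most p. -/
theorem result {H : Type*} [Group H] [Finite H] (p : ℕ) [Fact p.Prime] (A X : Subgroup H) (hA : Cfsg.IsElementaryAbelian p A) (hA2 : p ^ 2 ≤ Nat.card ↥A) (hX : ¬ p ∣ Nat.card ↥X) (hAX : A ≤ Subgroup.normalizer (X : Set H)) : X = ⨆ B : {B : Subgroup H // B ≤ A ∧ B.relIndex A ≤ p}, X ⊓ Subgroup.centralizer ((B : Subgroup H) : Set H) := by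
  classical
  have hp : p.Prime := Fact.out
  obtain ⟨hAab, hAp⟩ := hA
  have hAc : ∀ a ∈ A, ∀ b ∈ A, a * b = b * a := by
    intro a ha b hb
    exact congrArg Subtype.val (mul_comm' (⟨a, ha⟩ : A) ⟨b, hb⟩)
  have hApg : IsPGroup p A := by
    intro a
    refine ⟨1, ?_⟩
    rw [pow_one]
    exact Subtype.ext (hAp a a.2)
  obtain ⟨n, hn⟩ := IsPGroup.iff_card.mp hApg
  have hcop : (Nat.card A).Coprime (Nat.card X) := by
    rw [hn]
    exact Nat.Coprime.pow_left n ((Nat.Prime.coprime_iff_not_dvd hp).mpr hX)
  have hmain := main A hAc _ X rfl hAX hcop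
  apply le_antisymm
  · refine hmain.trans ?_
    apply iSup₂_le
    intro B hB
    obtain ⟨hBA, a, ha, hBa⟩ := hB
    have hrel : B.relIndex A ≤ p := by
      have h1 : B.relIndex A = B.relIndex (Subgroup.zpowers a) := by
        have hle : Subgroup.zpowers a ≤ Subgroup.normalizer (B : Set H) := by
          rw [Subgroup.zpowers_le]
          refine mem_normalizer_of_conj_mem ?_ ?_
          · intro b hb
            have := hAc a ha b (hBA hb)
            rw [this, mul_assoc, mul_inv_cancel, mul_one]
            exact hb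
          · intro b hb
            have := hAc b (hBA hb) a ha
            rw [mul_assoc, this, ← mul_assoc, inv_mul_cancel, one_mul]
            exact hb
        have := relIndex_sup_of_le_normalizer (Subgroup.zpowers a) B hle
        rw [sup_comm, hBa] at this
        exact this
      rw [h1]
      have h2 : B.relIndex (Subgroup.zpowers a) ∣ Nat.card (Subgroup.zpowers a) :=
        Subgroup.relIndex_dvd_card _ _
      rw [Nat.card_zpowers] at h2
      have h3 : orderOf a ∣ p := orderOf_dvd_of_pow_eq_one (hAp a ha)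
      exact Nat.le_of_dvd hp.pos (h2.trans h3)
    exact le_iSup (fun B : {B : Subgroup H // B ≤ A ∧ B.relIndex A ≤ p} =>
      X ⊓ Subgroup.centralizer ((B : Subgroup H) : Set H)) ⟨B, hBA, hrel⟩
  · apply iSup_le
    intro B
    exact inf_le_left

end Cfsg.Agent.S1324
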