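import Cfsg.Statements.S0031

set_option autoImplicit false
open Pointwise
open Cfsg

namespace Cfsg.Agent.S0031

theorem inj {G : Type*} [Group G] (φ : G ≃* G)
    (hφ : MonoidHom.FixedPointFree (φ : G →* G)) (a b : G)
    (h : (φ a)⁻¹ * a = (φ b)⁻¹ * b) : a = b := by
  have h1 : φ (b * a⁻¹) = b * a⁻¹ := by
    rw [map_mul, map_inv]
    have : φ b * ((φ a)⁻¹ * a) = φ b * ((φ b)⁻¹ * b) := by rw [h]
    rw [← mul_assoc, mul_inv_cancel_left] at this
    exact eq_mul_inv_of_mul_eq this
  have h2 := hφ (b * a⁻¹) h1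
  have : b = a := by
    have := congrArg (· * a) h2
    simpa using this
  exact this.symm

/-- A fixed-point-free automorphism of a finite group maps some Sylow p-subgroup to itself. -/
theorem result {G : Type*} [Group G] [Finite G] (φ : G ≃* G)
    (hφ : MonoidHom.FixedPointFree (φ : G →* G)) (p : ℕ) [Fact p.Prime] :
    ∃ P : Sylow p G, (P : Subgroup G).map (φ : G →* G) = P := by
  obtain ⟨P⟩ : Nonempty (Sylow p G) := inferInstance
  let ψ : MulAut G := φ
  obtain ⟨g, hg⟩ := MulAction.exists_smul_eq G P (ψ • P)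
  have hsurj : Function.Surjective (fun x : G => (φ x)⁻¹ * x) :=
    Finite.surjective_of_injective (fun a b h => inj φ hφ a b h)
  obtain ⟨x, hx⟩ := hsurj g
  simp only at hx
  refine ⟨x • P, ?_⟩
  have hg' : MulAut.conj g • (P : Subgroup G) = ψ • (P : Subgroup G) := by
    have := congrArg (fun Q : Sylow p G => (Q : Subgroup G)) hg
    exact this
  show Subgroup.map (φ : G →* G) (MulAut.conj x • (P : Subgroup G)) = MulAut.conj x • (P : Subgroup G)
  have e1 : Subgroup.map (φ : G →* G) (MulAut.conj x • (P : Subgroup G))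
      = MulAut.conj (φ x) • (ψ • (P : Subgroup G)) := by
    ext y
    simp only [Subgroup.mem_map, Subgroup.mem_pointwise_smul_iff_inv_smul_mem, MulAut.smul_def,
      MonoidHom.coe_coe]
    constructor
    · rintro ⟨z, hz, rfl⟩
      simp only [MulAut.conj_inv_apply] at hz ⊢
      have : ψ⁻¹ ((φ x)⁻¹ * φ z * φ x) = x⁻¹ * z * x := by
        show φ.symm ((φ x)⁻¹ * φ z * φ x) = x⁻¹ * z * x
        simp
      rw [this]; exact hz
    · intro hy
      simp only [MulAut.conj_inv_apply] at hy ⊢
      refine ⟨φ.symm y, ?_, by simp⟩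
      have : ψ⁻¹ ((φ x)⁻¹ * y * φ x) = x⁻¹ * φ.symm y * x := by
        show φ.symm ((φ x)⁻¹ * y * φ x) = x⁻¹ * φ.symm y * x
        simp
      rw [this] at hy; exact hy
  rw [e1, ← hg', ← mul_smul, ← map_mul, ← hx]
  simp

end Cfsg.Agent.S0031
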