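import Cfsg.Statements.S1263
import Cfsg.Agent.Lib.Helper3_Components
import Cfsg.Agent.Lib.Helper3_SupNormalizer

set_option autoImplicit false
open Cfsg

namespace Cfsg.Agent.S1263

universe u

open Cfsg.Agent.Lib.Helper3_Components

/-- the centre of a component, as a subgroup of `G` -/
def zc {G : Type u} [Group G] (L : Subgroup G) : Subgroup G :=
  (Subgroup.center ↥L).map L.subtype

theorem mem_zc {G : Type u} [Group G] (L : Subgroup G) (z : G) :
    z ∈ zc L ↔ z ∈ L ∧ ∀ y ∈ L, y * z = z * y := by
  unfold zc
  constructor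
  · rintro ⟨w, hw, rfl⟩
    refine ⟨w.2, ?_⟩
    intro y hy
    have := Subgroup.mem_center_iff.mp hw ⟨y, hy⟩
    exact congrArg Subtype.val this
  · rintro ⟨hz, hc⟩
    refine ⟨⟨z, hz⟩, ?_, rfl⟩
    rw [SetLike.mem_coe, Subgroup.mem_center_iff]
    intro y
    exact Subtype.ext (hc y y.2)

/-- the centre of a component centralizes the layer -/
theorem zc_le_centralizer_layer {G : Type u} [Group G] [Finite G] (L : Subgroup G)
    (hL : Cfsg.IsComponent L) : zc L ≤ Subgroup.centralizer (Cfsg.layer G : Set G) := by
  intro z hz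
  rw [mem_zc] at hz
  have hle : Cfsg.layer G ≤ Subgroup.centralizer ({z} : Set G) := by
    apply sSup_le
    intro K hK
    intro k hk
    rw [Subgroup.mem_centralizer_singleton_iff]
    by_cases hKL : K = L
    · subst hKL
      exact hz.2 k hk
    · exact commute_of_commutator_eq_bot (components_commute K L hK hL hKL) hk hz.1
  rw [Subgroup.mem_centralizer_iff]
  intro e he
  have := hle he
  rw [Subgroup.mem_centralizer_singleton_iff] at this
  exact this

theorem key {G : Type u} [Group G] [Finite G] (T : Finset (Subgroup G)) :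
    (∀ L ∈ T, Cfsg.IsComponent L) → ∀ z : G, z ∈ (⨆ L ∈ T, L) →
      z ∈ Subgroup.centralizer (Cfsg.layer G : Set G) → z ∈ ⨆ L ∈ T, zc L := by
  classical
  induction T using Finset.induction_on with
  | empty =>
    intro _ z hz _
    simp only [Finset.notMem_empty, iSup_false, iSup_bot, Subgroup.mem_bot] at hz ⊢
    exact hz
  | insert L0 T hL0 ih =>
    intro hT z hz hzc
    rw [Finset.iSup_insert] at hz ⊢
    have hL0c : Cfsg.IsComponent L0 := hT L0 (Finset.mem_insert_self _ _)
    have hT' : ∀ L ∈ T, Cfsg.IsComponent L := fun L hL => hT L (Finset.mem_insert_of_mem hL)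
    have hKc : (⨆ L ∈ T, L) ≤ Subgroup.centralizer (L0 : Set G) := by
      apply iSup₂_le
      intro L hL
      have hne : L ≠ L0 := by
        rintro rfl; exact hL0 hL
      have h1 := components_commute L L0 (hT' L hL) hL0c hne
      rw [Subgroup.commutator_eq_bot_iff_le_centralizer] at h1
      exact h1
    have hn : (⨆ L ∈ T, L) ≤ Subgroup.normalizer (L0 : Set G) :=
      hKc.trans (Subgroup.centralizer_le_normalizer _)
    obtain ⟨l, hl, c, hc, rfl⟩ :=
      Cfsg.Agent.Lib.Helper3_SupNormalizer.exists_mul_of_mem_sup L0 _ hn hz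
    have hL0E : L0 ≤ Cfsg.layer G := le_sSup hL0c
    have hlz : l ∈ zc L0 := by
      rw [mem_zc]
      refine ⟨hl, ?_⟩
      intro y hy
      have h1 : y * (l * c) = (l * c) * y :=
        (Subgroup.mem_centralizer_iff.mp hzc y (hL0E hy))
      have h2 : y * c = c * y := (Subgroup.mem_centralizer_iff.mp (hKc hc) y hy)
      have h3 : y * l * c = l * y * c := by
        calc y * l * c = y * (l * c) := by group
          _ = (l * c) * y := h1
          _ = l * (c * y) := by group
          _ = l * (y * c) := by rw [h2]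
          _ = l * y * c := by group
      exact mul_right_cancel h3
    have hlc : l ∈ Subgroup.centralizer (Cfsg.layer G : Set G) := zc_le_centralizer_layer L0 hL0c hlz
    have hcc : c ∈ Subgroup.centralizer (Cfsg.layer G : Set G) := by
      have : c = l⁻¹ * (l * c) := by group
      rw [this]
      exact Subgroup.mul_mem _ (Subgroup.inv_mem _ hlc) hzc
    exact Subgroup.mul_mem_sup hlz (ih hT' c hc hcc)

/-- For a finite group G, Z(E(G)) is the subgroup generated by the centres Z(L) of the components L of G (all viewed as subgroups of G). -/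
theorem result {G : Type*} [Group G] [Finite G] : (Subgroup.center ↥(Cfsg.layer G)).map (Cfsg.layer G).subtype = ⨆ L : {K : Subgroup G // Cfsg.IsComponent K}, (Subgroup.center ↥(L : Subgroup G)).map (L : Subgroup G).subtype := by
  classical
  apply le_antisymm
  · rintro _ ⟨w, hw, rfl⟩
    have hfin : {K : Subgroup G | Cfsg.IsComponent K}.Finite := Set.toFinite _
    have hE : Cfsg.layer G = ⨆ L ∈ hfin.toFinset, L := by
      unfold Cfsg.layer
      rw [sSup_eq_iSup]
      simp only [Set.Finite.mem_toFinset]
    have h1 : (w : G) ∈ ⨆ L ∈ hfin.toFinset, L := by rw [← hE]; exact w.2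
    have h2 : (w : G) ∈ Subgroup.centralizer (Cfsg.layer G : Set G) := by
      rw [Subgroup.mem_centralizer_iff]
      intro e he
      have := Subgroup.mem_center_iff.mp hw ⟨e, he⟩
      exact congrArg Subtype.val this
    have h3 := key hfin.toFinset (fun L hL => (Set.Finite.mem_toFinset hfin).mp hL) (w : G) h1 h2
    have hle : (⨆ L ∈ hfin.toFinset, zc L) ≤ ⨆ L : {K : Subgroup G // Cfsg.IsComponent K},
        (Subgroup.center ↥(L : Subgroup G)).map (L : Subgroup G).subtype := by
      apply iSup₂_le
      intro L hL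
      exact le_iSup (fun L : {K : Subgroup G // Cfsg.IsComponent K} =>
        (Subgroup.center ↥(L : Subgroup G)).map (L : Subgroup G).subtype)
        ⟨L, (Set.Finite.mem_toFinset hfin).mp hL⟩
    exact hle h3
  · apply iSup_le
    rintro ⟨L, hL⟩
    intro z hz
    have hz' : z ∈ zc L := hz
    have h1 := zc_le_centralizer_layer L hL hz'
    rw [mem_zc] at hz'
    have hzE : z ∈ Cfsg.layer G := (le_sSup hL : L ≤ Cfsg.layer G) hz'.1
    refine ⟨⟨z, hzE⟩, ?_, rfl⟩
    rw [SetLike.mem_coe, Subgroup.mem_center_iff]
    intro e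
    apply Subtype.ext
    exact Subgroup.mem_centralizer_iff.mp h1 e e.2

end Cfsg.Agent.S1263
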