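import Cfsg.Statements.S0667
import Mathlib
import Cfsg.Agent.Lib.Lead_PStable
import Cfsg.Agent.Lib.Lead_ZJmap
import Cfsg.Agent.S0630
import Cfsg.Agent.S0653

set_option autoImplicit false
open Cfsg

namespace Cfsg.Agent.S0667

open Cfsg.Agent.Lib.Lead_PStable Cfsg.Agent.Lib.Lead_ZJmap Cfsg.Agent.Lib.Helper4_PCore


/-- Glauberman's Theorem in the p-constrained, p-stable vocabulary: for odd p such a group is the product of its largest normal subgroup of order prime to p with the normalizer of Z(J(P)), and Z(J(P)) is normal when that p'-subgroup is trivial. -/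
theorem result {G : Type*} [Group G] [Finite G] {p : ℕ} [Fact p.Prime] (hp : p ≠ 2) (hc : Cfsg.IsPConstrained p G) (hs : Cfsg.IsPStable p G) (P : Sylow p G) : Cfsg.pPrimeCore p G ⊔ Subgroup.normalizer (Cfsg.centerThompsonAOf ((P : Subgroup G)) : Set G) = ⊤ ∧ (Cfsg.pPrimeCore p G = ⊥ → (Cfsg.centerThompsonAOf ((P : Subgroup G))).Normal) := by
  classical
  have hpp : p.Prime := Fact.out
  have hsh := stabHyp_of_pStable hs
  constructor
  · -- the quotient by `O_{p'}(G)`
    have hOcop : (Nat.card (Cfsg.pPrimeCore p G)).Coprime p :=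
      Cfsg.Agent.Lib.Helper5_PPrime.pPrimeCore_coprime p G
    have hcb : Cfsg.IsPConstrained p (G ⧸ Cfsg.pPrimeCore p G) := Cfsg.Agent.S0630.result.1 hc
    have h0b := Cfsg.Agent.S0630.pPrimeCore_quotient_self (G := G) p
    have hcb' := (Cfsg.Agent.S0630.constrained_iff_of_pPrimeCore_eq_bot h0b).1 hcb
    have hstb : ∀ (Vb : Subgroup (G ⧸ Cfsg.pPrimeCore p G)) [Vb.Normal], IsPGroup p Vb →
        Cfsg.IsPStableOn p Vb :=
      fun Vb _ hVb => stableOn_quotient (Cfsg.pPrimeCore p G) hOcop hsh P Vb hVb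
    have hZb := Cfsg.Agent.S0653.result hp hcb' hstb
      (P.mapSurjective (QuotientGroup.mk'_surjective (Cfsg.pPrimeCore p G)))
    rw [Sylow.coe_mapSurjective] at hZb
    have hPO : (P : Subgroup G) ⊓ Cfsg.pPrimeCore p G = ⊥ :=
      Cfsg.Agent.Lib.Helper5_PPrime.inf_eq_bot_of_pGroup_of_coprime P.isPGroup' hOcop
    have hinj : Set.InjOn (QuotientGroup.mk' (Cfsg.pPrimeCore p G)) ((P : Subgroup G) : Set G) := by
      intro x hx y hy hxy
      have h1 : x⁻¹ * y ∈ Cfsg.pPrimeCore p G := QuotientGroup.eq.1 hxy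
      have h2 : x⁻¹ * y ∈ (P : Subgroup G) ⊓ Cfsg.pPrimeCore p G :=
        ⟨Subgroup.mul_mem _ (Subgroup.inv_mem _ hx) hy, h1⟩
      rw [hPO, Subgroup.mem_bot] at h2
      exact inv_mul_eq_one.1 h2
    rw [centerThompsonA_map _ _ hinj] at hZb
    obtain ⟨Z, hZdef⟩ : ∃ Z : Subgroup G, Z = Cfsg.centerThompsonAOf (P : Subgroup G) := ⟨_, rfl⟩
    rw [← hZdef] at hZb ⊢
    have hZP : Z ≤ (P : Subgroup G) := by
      rw [hZdef]; exact inf_le_left.trans (Subgroup.map_subtype_le _)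
    have hZp : IsPGroup p Z := P.isPGroup'.to_le hZP
    have hZbn : (Z.map (QuotientGroup.mk' (Cfsg.pPrimeCore p G))).Normal := inferInstance
    haveI hLn : ((Z.map (QuotientGroup.mk' (Cfsg.pPrimeCore p G))).comap
        (QuotientGroup.mk' (Cfsg.pPrimeCore p G))).Normal := hZbn.comap _
    have hZL : Z ≤ (Z.map (QuotientGroup.mk' (Cfsg.pPrimeCore p G))).comap
        (QuotientGroup.mk' (Cfsg.pPrimeCore p G)) := Subgroup.le_comap_map _ _
    have hZO : Z ⊓ Cfsg.pPrimeCore p G = ⊥ :=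
      Cfsg.Agent.Lib.Helper5_PPrime.inf_eq_bot_of_pGroup_of_coprime hZp hOcop
    have hcardL := Cfsg.Agent.Lib.Lead_Hall.card_comap_mk (Cfsg.pPrimeCore p G)
      (Z.map (QuotientGroup.mk' (Cfsg.pPrimeCore p G)))
    rw [Cfsg.Agent.Lib.Lead_SZ.card_map_of_inf_bot _ Z hZO] at hcardL
    have hidx : Nat.card Z * Z.relIndex ((Z.map (QuotientGroup.mk' (Cfsg.pPrimeCore p G))).comap
        (QuotientGroup.mk' (Cfsg.pPrimeCore p G))) =
        Nat.card ((Z.map (QuotientGroup.mk' (Cfsg.pPrimeCore p G))).comap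
        (QuotientGroup.mk' (Cfsg.pPrimeCore p G))) := by
      have := Subgroup.relIndex_mul_relIndex ⊥ Z _ bot_le hZL
      rwa [Subgroup.relIndex_bot_left, Subgroup.relIndex_bot_left] at this
    have hrel : Z.relIndex ((Z.map (QuotientGroup.mk' (Cfsg.pPrimeCore p G))).comap
        (QuotientGroup.mk' (Cfsg.pPrimeCore p G))) = Nat.card (Cfsg.pPrimeCore p G) := by
      rw [hcardL] at hidx
      exact Nat.eq_of_mul_eq_mul_left Nat.card_pos hidx
    have hnd' : ¬ p ∣ Nat.card (Cfsg.pPrimeCore p G) :=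
      (Nat.Prime.coprime_iff_not_dvd hpp).1 hOcop.symm
    have hnd : ¬ p ∣ (Z.subgroupOf ((Z.map (QuotientGroup.mk' (Cfsg.pPrimeCore p G))).comap
        (QuotientGroup.mk' (Cfsg.pPrimeCore p G)))).index := by
      show ¬ p ∣ Z.relIndex _
      rw [hrel]
      exact hnd'
    obtain ⟨Q, hQ⟩ : ∃ Q : Sylow p ↥((Z.map (QuotientGroup.mk' (Cfsg.pPrimeCore p G))).comap
        (QuotientGroup.mk' (Cfsg.pPrimeCore p G))),
        (Q : Subgroup ↥((Z.map (QuotientGroup.mk' (Cfsg.pPrimeCore p G))).comap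
        (QuotientGroup.mk' (Cfsg.pPrimeCore p G)))) =
        Z.subgroupOf ((Z.map (QuotientGroup.mk' (Cfsg.pPrimeCore p G))).comap
        (QuotientGroup.mk' (Cfsg.pPrimeCore p G))) :=
      ⟨IsPGroup.toSylow (IsPGroup.comap_subtype hZp) hnd, IsPGroup.toSylow_coe _ _⟩
    have hfr := Sylow.normalizer_sup_eq_top Q
    rw [hQ, Subgroup.map_subgroupOf_eq_of_le hZL] at hfr
    rw [eq_top_iff, ← hfr]
    refine sup_le le_sup_right ?_
    intro l hl
    obtain ⟨z, hz, hzl⟩ := (hl : QuotientGroup.mk' (Cfsg.pPrimeCore p G) l ∈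
      Z.map (QuotientGroup.mk' (Cfsg.pPrimeCore p G)))
    have ho : z⁻¹ * l ∈ Cfsg.pPrimeCore p G := QuotientGroup.eq.1 hzl
    have e : l = z * (z⁻¹ * l) := by group
    rw [e]
    exact Subgroup.mul_mem _ (Subgroup.mem_sup_right (Subgroup.le_normalizer hz))
      (Subgroup.mem_sup_left ho)
  · intro h0
    have hc' := (Cfsg.Agent.S0630.constrained_iff_of_pPrimeCore_eq_bot h0).1 hc
    have hst' : ∀ (V : Subgroup G) [V.Normal], IsPGroup p V → Cfsg.IsPStableOn p V :=
      fun V _ hV => stableOn_of_stabHyp (Cfsg.pPrimeCore p G) hsh V hV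
    haveI := Cfsg.Agent.S0653.result hp hc' hst' P
    infer_instance

end Cfsg.Agent.S0667
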