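import Cfsg.Statements.S3062
import Mathlib
import Cfsg.Agent.Lib.Lead_Replacement
import Cfsg.Agent.Lib.Helper4_MaxNormAb3
import Cfsg.Prelude.Def_PLocal

set_option autoImplicit false
open Cfsg

namespace Cfsg.Agent.S3062

open scoped commutatorElement

theorem lemK {S : Type*} [Group S] {A : Subgroup S} (hA : A ∈ Cfsg.dStarFamily S) (x : S)
    (h : ∀ a ∈ A, ∀ u, (u ∈ A ∨ u = x) →
      (a * x * a⁻¹ * x⁻¹) * u = u * (a * x * a⁻¹ * x⁻¹)) :
    ∀ a ∈ A, a * x = x * a := by
  obtain ⟨hAc, hA2⟩ := hA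
  apply hA2 x
  have e : A ⊔ Subgroup.zpowers x = Subgroup.closure ((A : Set S) ∪ {x}) := by
    rw [Subgroup.closure_union, Subgroup.closure_eq, Subgroup.zpowers_eq_closure]
  rw [e]
  apply Cfsg.Agent.Lib.Lead_Replacement.class_two_of_gens
  intro t ht t' ht' u hu
  have hu' : u ∈ A ∨ u = x := by
    rcases hu with hu | hu
    · exact Or.inl hu
    · exact Or.inr hu
  rcases ht with ht | ht <;> rcases ht' with ht' | ht'
  · have h3 : t * t' = t' * t := Subgroup.mul_comm_of_mem_isMulCommutative A ht ht'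
    have e1 : t * t' * t⁻¹ * t'⁻¹ = 1 := by rw [h3]; group
    rw [e1]; simp
  · rw [Set.mem_singleton_iff] at ht'
    rw [ht']
    exact h t ht u hu'
  · rw [Set.mem_singleton_iff] at ht
    rw [ht]
    have h1 := h t' ht' u hu'
    have e1 : x * t' * x⁻¹ * t'⁻¹ = (t' * x * t'⁻¹ * x⁻¹)⁻¹ := by group
    rw [e1]
    calc (t' * x * t'⁻¹ * x⁻¹)⁻¹ * u
        = (t' * x * t'⁻¹ * x⁻¹)⁻¹ * (u * (t' * x * t'⁻¹ * x⁻¹)) * (t' * x * t'⁻¹ * x⁻¹)⁻¹ := by
          group
      _ = (t' * x * t'⁻¹ * x⁻¹)⁻¹ * ((t' * x * t'⁻¹ * x⁻¹) * u) * (t' * x * t'⁻¹ * x⁻¹)⁻¹ := by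
          rw [h1]
      _ = _ := by group
  · rw [Set.mem_singleton_iff] at ht ht'
    rw [ht, ht']
    simp

theorem lemL {S : Type*} [Group S] [Finite S] {p : ℕ} [Fact p.Prime] (hS : IsPGroup p S)
    (M₀ M : Subgroup S) [M₀.Normal] [M.Normal] (hlt : M₀ < M) :
    ∃ m ∈ M, m ∉ M₀ ∧ ∀ s : S, s * m * s⁻¹ * m⁻¹ ∈ M₀ := by
  obtain ⟨N', hN'n, h1, h2, h3, h4⟩ :=
    Cfsg.Agent.Lib.Helper4_MaxNormAb1.step hS M₀ M hlt.le (ne_of_lt hlt)
  have hp : p.Prime := Fact.out
  have hlt' : M₀ < N' := by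
    refine lt_of_le_of_ne h1 ?_
    intro h
    rw [← h] at h3
    have hpos : 0 < Nat.card M₀ := Nat.card_pos
    have : 1 * Nat.card M₀ < p * Nat.card M₀ := Nat.mul_lt_mul_of_pos_right hp.one_lt hpos
    omega
  obtain ⟨m, hm, hm2⟩ := SetLike.exists_of_lt hlt'
  refine ⟨m, h2 hm, hm2, ?_⟩
  intro s
  have := h4 s m hm
  rwa [commutatorElement_def] at this

theorem conj_family {S : Type*} [Group S] (g : S) (A : Subgroup S) (hA : A ∈ Cfsg.dStarFamily S) :
    A.map (MulAut.conj g).toMonoidHom ∈ Cfsg.dStarFamily S := by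
  obtain ⟨hAc, hA2⟩ := hA
  refine ⟨Subgroup.map_isMulCommutative _ _, ?_⟩
  intro x hx
  have hinj : Function.Injective (MulAut.conj g).toMonoidHom := (MulAut.conj g).injective
  have e : (A ⊔ Subgroup.zpowers (g⁻¹ * x * g)).map (MulAut.conj g).toMonoidHom =
      A.map (MulAut.conj g).toMonoidHom ⊔ Subgroup.zpowers x := by
    rw [Subgroup.map_sup, MonoidHom.map_zpowers]
    congr 2
    simp [MulAut.conj_apply]
    group
  have h3 : ⁅⁅A ⊔ Subgroup.zpowers (g⁻¹ * x * g), A ⊔ Subgroup.zpowers (g⁻¹ * x * g)⁆,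
      A ⊔ Subgroup.zpowers (g⁻¹ * x * g)⁆ = ⊥ := by
    rw [← Subgroup.map_eq_bot_iff_of_injective _ hinj, Subgroup.map_commutator,
      Subgroup.map_commutator, e]
    exact hx
  have h4 := hA2 _ h3
  rintro _ ⟨a, ha, rfl⟩
  have h5 := h4 a ha
  simp only [MulEquiv.coe_toMonoidHom, MulAut.conj_apply]
  calc g * a * g⁻¹ * x = g * (a * (g⁻¹ * x * g)) * g⁻¹ := by group
    _ = g * ((g⁻¹ * x * g) * a) * g⁻¹ := by rw [h5]
    _ = _ := by group

theorem dStar_normal (S : Type*) [Group S] : (Cfsg.dStar S).Normal := by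
  constructor
  intro y hy g
  have hle : Cfsg.dStar S ≤ (Cfsg.dStar S).comap (MulAut.conj g).toMonoidHom := by
    unfold Cfsg.dStar
    apply sSup_le
    intro U hU
    rw [← Subgroup.map_le_iff_le_comap]
    exact le_sSup (conj_family g U hU)
  exact hle hy

/-- a normal abelian subgroup centralizes `D*` in a `p`-group -/
theorem normal_abelian_centralizes {S : Type*} [Group S] [Finite S] {p : ℕ} [Fact p.Prime]
    (hS : IsPGroup p S) (M : Subgroup S) [M.Normal] (hMc : IsMulCommutative M) :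
    M ≤ Subgroup.centralizer (Cfsg.dStar S : Set S) := by
  haveI := dStar_normal S
  by_contra hnot
  have hlt : M ⊓ Subgroup.centralizer (Cfsg.dStar S : Set S) < M :=
    lt_of_le_of_ne inf_le_left (fun h => hnot (inf_eq_left.1 h))
  obtain ⟨m, hmM, hm0, hm⟩ := lemL hS _ M hlt
  apply hm0
  refine Subgroup.mem_inf.2 ⟨hmM, ?_⟩
  have hle : Cfsg.dStar S ≤ Subgroup.centralizer ({m} : Set S) := by
    unfold Cfsg.dStar
    apply sSup_le
    intro A hA a ha
    have hAD : A ≤ Cfsg.dStar S := le_sSup hA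
    have h1 := lemK hA m (by
      intro a ha u hu
      have hc := hm a
      rcases hu with hu | hu
      · exact ((Subgroup.mem_centralizer_iff.1 hc.2) u (hAD hu)).symm
      · rw [hu]
        exact Subgroup.mul_comm_of_mem_isMulCommutative M hc.1 hmM) a ha
    rw [Subgroup.mem_centralizer_iff]
    intro h hh
    rw [Set.mem_singleton_iff] at hh
    rw [hh]
    exact h1.symm
  rw [Subgroup.mem_centralizer_iff]
  intro d hd
  have h2 := hle hd
  rw [Subgroup.mem_centralizer_iff] at h2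
  exact (h2 m rfl).symm


/-- Let S be a finite p-group, J(S) the subgroup generated by the abelian subgroups of S of largest order and Z(J(S)) its centre. Then Z(S) ≤ D*(S) ≤ Z(J(S)), and every maximal normal abelian subgroup of S contains D*(S). -/
theorem result {S : Type*} [Group S] [Finite S] {p : ℕ} [Fact p.Prime]
    (hS : IsPGroup p S) :
    Subgroup.center S ≤ Cfsg.dStar S ∧
    Cfsg.dStar S ≤ Cfsg.thompsonSubgroupA S ⊓ Subgroup.centralizer (Cfsg.thompsonSubgroupA S : Set S) ∧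
    ∀ A : Subgroup S, A.Normal → IsMulCommutative A →
      (∀ B : Subgroup S, B.Normal → IsMulCommutative B → A ≤ B → B = A) → Cfsg.dStar S ≤ A := by
  classical
  haveI hDn := dStar_normal S
  have hpart3 : ∀ A : Subgroup S, A.Normal → IsMulCommutative A →
      (∀ B : Subgroup S, B.Normal → IsMulCommutative B → A ≤ B → B = A) → Cfsg.dStar S ≤ A := by
    intro A hAn hAc hmax
    haveI := hAn
    have h1 := normal_abelian_centralizes hS A hAc
    have h2 := Cfsg.Agent.Lib.Helper4_MaxNormAb3.self_cent hS A hAc hmax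
    rw [Subgroup.le_centralizer_iff] at h1
    rwa [h2] at h1
  -- `D*` is abelian
  have hDc : IsMulCommutative (Cfsg.dStar S) := by
    have hfin : {U : Subgroup S | U.Normal ∧ IsMulCommutative U}.Finite := Set.toFinite _
    have hne : ({U : Subgroup S | U.Normal ∧ IsMulCommutative U}).Nonempty :=
      ⟨⊥, inferInstance, inferInstance⟩
    obtain ⟨M, ⟨hMn, hMc⟩, hMmax⟩ := Set.exists_max_image _
      (fun U : Subgroup S => Nat.card U) hfin hne
    have h3 := hpart3 M hMn hMc (by
      intro B hBn hBc hle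
      exact (Cfsg.Agent.Lib.Lead_SZ.eq_of_le_of_card_eq hle
        (le_antisymm (Subgroup.card_le_of_le hle) (hMmax B ⟨hBn, hBc⟩))).symm)
    refine ⟨⟨fun a b => ?_⟩⟩
    have := Subgroup.mul_comm_of_mem_isMulCommutative M (h3 a.2) (h3 b.2)
    exact Subtype.ext this
  -- `D*` is contained in every abelian subgroup of maximal order
  have hmaxab : ∀ U ∈ Cfsg.maxAbelianSubgroups S, Cfsg.dStar S ≤ U := by
    intro U hU
    by_contra hnot
    obtain ⟨A₁, hA₁, hA₁2, hA₁3⟩ :=
      Cfsg.Agent.Lib.Lead_Replacement.replacement_family_abelian hS ⊤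
        (Cfsg.maxAbelianSubgroups S) (fun A hA => ⟨hA.1, le_top⟩)
        (fun A hA A' _ hA'c hcard => ⟨hA'c, fun B hB => hcard ▸ hA.2 B hB⟩)
        (Cfsg.dStar S) hDc ⟨U, hU, hnot⟩
    have hA₁c := hA₁.1
    -- `A₁` centralizes `D*`
    have hcent : ∀ x ∈ A₁, ∀ d ∈ Cfsg.dStar S, d * x = x * d := by
      intro x hx
      have hle : Cfsg.dStar S ≤ Subgroup.centralizer ({x} : Set S) := by
        unfold Cfsg.dStar
        apply sSup_le
        intro A hA a ha
        have hAD : A ≤ Cfsg.dStar S := le_sSup hA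
        have h1 := lemK hA x (by
          intro a ha u hu
          have hcA : a * x * a⁻¹ * x⁻¹ ∈ A₁ := by
            have h5 := (Subgroup.mem_normalizer_iff.1 (hA₁3 (hAD ha)) x).1 hx
            exact A₁.mul_mem h5 (A₁.inv_mem hx)
          have hcD : a * x * a⁻¹ * x⁻¹ ∈ Cfsg.dStar S := by
            have h5 := hDn.conj_mem _ (Subgroup.inv_mem _ (hAD ha)) x
            have e : a * x * a⁻¹ * x⁻¹ = a * (x * a⁻¹ * x⁻¹) := by group
            rw [e]
            exact Subgroup.mul_mem _ (hAD ha) h5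
          rcases hu with hu | hu
          · exact Subgroup.mul_comm_of_mem_isMulCommutative _ hcD (hAD hu)
          · rw [hu]
            exact Subgroup.mul_comm_of_mem_isMulCommutative A₁ hcA hx) a ha
        rw [Subgroup.mem_centralizer_iff]
        intro h hh
        rw [Set.mem_singleton_iff] at hh
        rw [hh]
        exact h1.symm
      intro d hd
      have h2 := hle hd
      rw [Subgroup.mem_centralizer_iff] at h2
      exact (h2 x rfl).symm
    have hKc : IsMulCommutative (A₁ ⊔ Cfsg.dStar S : Subgroup S) := by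
      have e : A₁ ⊔ Cfsg.dStar S = Subgroup.closure ((A₁ : Set S) ∪ (Cfsg.dStar S : Set S)) := by
        rw [Subgroup.closure_union, Subgroup.closure_eq, Subgroup.closure_eq]
      rw [e]
      apply Subgroup.isMulCommutative_closure
      intro a ha b hb
      rcases ha with ha | ha <;> rcases hb with hb | hb
      · exact Subgroup.mul_comm_of_mem_isMulCommutative A₁ ha hb
      · exact (hcent a ha b hb).symm
      · exact hcent b hb a ha
      · exact Subgroup.mul_comm_of_mem_isMulCommutative _ ha hb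
    have h6 := hA₁.2 _ hKc
    have h7 : A₁ = A₁ ⊔ Cfsg.dStar S :=
      Cfsg.Agent.Lib.Lead_SZ.eq_of_le_of_card_eq le_sup_left
        (le_antisymm (Subgroup.card_le_of_le le_sup_left) h6)
    apply hA₁2
    rw [h7]
    exact le_sup_right
  refine ⟨?_, ?_, hpart3⟩
  · -- the centre is a member of the family
    apply le_sSup
    refine ⟨inferInstance, ?_⟩
    intro x _ a ha
    rw [Subgroup.mem_center_iff] at ha
    exact (ha x).symm
  · -- `D* ≤ J(S) ⊓ C(J(S))`
    have hfin : {U : Subgroup S | IsMulCommutative U}.Finite := Set.toFinite _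
    have hne : ({U : Subgroup S | IsMulCommutative U}).Nonempty := ⟨⊥, show IsMulCommutative (⊥ : Subgroup S) from inferInstance⟩
    obtain ⟨U₀, hU₀c, hU₀max⟩ := Set.exists_max_image _
      (fun U : Subgroup S => Nat.card U) hfin hne
    have hU₀ : U₀ ∈ Cfsg.maxAbelianSubgroups S := ⟨hU₀c, fun B hB => hU₀max B hB⟩
    refine le_inf ((hmaxab U₀ hU₀).trans (le_sSup hU₀)) ?_
    rw [Subgroup.le_centralizer_iff]
    unfold Cfsg.thompsonSubgroupA
    apply sSup_le
    intro U hU u hu
    rw [Subgroup.mem_centralizer_iff]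
    intro d hd
    haveI := hU.1
    exact Subgroup.mul_comm_of_mem_isMulCommutative U (hmaxab U hU hd) hu

end Cfsg.Agent.S3062
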