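import Cfsg.Statements.S0658
import Mathlib
import Cfsg.Agent.S0667
import Cfsg.Agent.S3062
import Cfsg.Agent.Lib.Lead_ZJmap
import Cfsg.Agent.Lib.Lead_Replacement
import Cfsg.Agent.Lib.Lead_SZ
import Cfsg.Agent.Lib.Lead_Coprime

set_option autoImplicit false
open Cfsg

namespace Cfsg.Agent.S0658

open Cfsg.Agent.Lib.Lead_ZJmap Cfsg.Agent.Lib.Lead_Coprime Cfsg.Agent.Lib.Lead_Replacement
  Cfsg.Agent.Lib.Lead_SZ

section

variable {G : Type*} [Group G] [Finite G] {p : ℕ} [Fact p.Prime]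

theorem map_conj_of_mem_normalizer (R : Subgroup G) (n : G)
    (hn : n ∈ Subgroup.normalizer (R : Set G)) : R.map (MulAut.conj n).toMonoidHom = R := by
  apply le_antisymm
  · rintro _ ⟨r, hr, rfl⟩
    exact (Subgroup.mem_normalizer_iff.1 hn r).1 hr
  · intro r hr
    have hn' := Subgroup.inv_mem _ hn
    have h1 := (Subgroup.mem_normalizer_iff.1 hn' r).1 hr
    rw [inv_inv] at h1
    exact ⟨n⁻¹ * r * n, h1, by show n * (n⁻¹ * r * n) * n⁻¹ = r; group⟩

theorem normalizer_le_normalizer_ZJ (R : Subgroup G) :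
    Subgroup.normalizer (R : Set G) ≤
      Subgroup.normalizer (Cfsg.centerThompsonAOf R : Set G) := by
  have key : ∀ n ∈ Subgroup.normalizer (R : Set G), ∀ z ∈ Cfsg.centerThompsonAOf R,
      n * z * n⁻¹ ∈ Cfsg.centerThompsonAOf R := by
    intro n hn z hz
    have h1 := centerThompsonA_map (MulAut.conj n).toMonoidHom R
      ((MulAut.conj n).injective.injOn)
    rw [map_conj_of_mem_normalizer R n hn] at h1
    rw [h1]
    exact ⟨z, hz, rfl⟩
  intro n hn
  exact mem_normalizer_of_conj_mem (key n hn) (fun z hz => by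
    have := key n⁻¹ (Subgroup.inv_mem _ hn) z hz
    rwa [inv_inv] at this)

theorem ZJ_ne_bot (R : Subgroup G) (hRp : IsPGroup p R) (hR1 : R ≠ ⊥) :
    Cfsg.centerThompsonAOf R ≠ ⊥ := by
  haveI : Nontrivial R := by
    rw [Subgroup.nontrivial_iff_ne_bot]; exact hR1
  obtain ⟨-, hDJ, -⟩ := Cfsg.Agent.S3062.result hRp
  obtain ⟨hcD, -, -⟩ := Cfsg.Agent.S3062.result hRp
  have hcn : Nontrivial (Subgroup.center R) := IsPGroup.center_nontrivial hRp
  obtain ⟨z, hz⟩ := exists_ne (1 : Subgroup.center R)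
  have hzJ := hDJ (hcD z.2)
  intro hbot
  have hmem : ((z : R) : G) ∈ Cfsg.centerThompsonAOf R := by
    refine Subgroup.mem_inf.2 ⟨⟨(z : R), hzJ.1, rfl⟩, ?_⟩
    rw [Subgroup.mem_centralizer_iff]
    rintro _ ⟨j, hj, rfl⟩
    have := Subgroup.mem_centralizer_iff.1 hzJ.2 j hj
    exact congrArg (fun w : R => (w : G)) this
  rw [hbot, Subgroup.mem_bot] at hmem
  apply hz
  apply Subtype.ext
  apply Subtype.ext
  exact hmem

theorem exists_conj_le_sylow (P : Sylow p G) (M : Subgroup G) (hPM : (P : Subgroup G) ≤ M)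
    (R₁ : Subgroup G) (hR₁M : R₁ ≤ M) (hR₁p : IsPGroup p R₁) :
    ∃ m ∈ M, ∀ r ∈ R₁, m * r * m⁻¹ ∈ (P : Subgroup G) := by
  obtain ⟨Q', hQ'⟩ := (IsPGroup.comap_subtype hR₁p (K := M)).exists_le_sylow
  obtain ⟨m, hm⟩ := MulAction.exists_smul_eq ↥M Q' (P.subtype hPM)
  refine ⟨m, m.2, ?_⟩
  intro r hr
  have h1 : (⟨r, hR₁M hr⟩ : ↥M) ∈ (Q' : Subgroup ↥M) := hQ' (Subgroup.mem_subgroupOf.2 hr)
  have h2 : m * ⟨r, hR₁M hr⟩ * m⁻¹ ∈ ((m • Q' : Sylow p ↥M) : Subgroup ↥M) := by
    rw [Sylow.coe_subgroup_smul, mem_conj_smul]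
    have e : m⁻¹ * (m * ⟨r, hR₁M hr⟩ * m⁻¹) * m = ⟨r, hR₁M hr⟩ := by group
    rw [e]; exact h1
  rw [hm, Sylow.coe_subtype] at h2
  exact Subgroup.mem_subgroupOf.1 h2

theorem normalizes_ZJ (hp : p ≠ 2)
    (hloc : ∀ Q : Subgroup G, IsPGroup p Q → Q ≠ ⊥ →
      Cfsg.pPrimeCore p ↥(Subgroup.normalizer (Q : Set G)) = ⊥ ∧
      Cfsg.IsPConstrained p ↥(Subgroup.normalizer (Q : Set G)) ∧
      Cfsg.IsPStable p ↥(Subgroup.normalizer (Q : Set G)))
    (Q : Subgroup G) (hQp : IsPGroup p Q) (hQ1 : Q ≠ ⊥) (R : Subgroup G)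
    (hRN : R ≤ Subgroup.normalizer (Q : Set G)) (hRp : IsPGroup p R)
    (hRs : ¬ p ∣ R.relIndex (Subgroup.normalizer (Q : Set G))) :
    Subgroup.normalizer (Q : Set G) ≤
      Subgroup.normalizer (Cfsg.centerThompsonAOf R : Set G) := by
  obtain ⟨h0, hc, hs⟩ := hloc Q hQp hQ1
  obtain ⟨R', hR'⟩ : ∃ R' : Sylow p ↥(Subgroup.normalizer (Q : Set G)),
      (R' : Subgroup ↥(Subgroup.normalizer (Q : Set G))) =
        R.subgroupOf (Subgroup.normalizer (Q : Set G)) :=
    ⟨IsPGroup.toSylow (IsPGroup.comap_subtype hRp) hRs, IsPGroup.toSylow_coe _ _⟩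
  have hn := (Cfsg.Agent.S0667.result hp hc hs R').2 h0
  rw [hR'] at hn
  have e : Cfsg.centerThompsonAOf R =
      (Cfsg.centerThompsonAOf (R.subgroupOf (Subgroup.normalizer (Q : Set G)))).map
        (Subgroup.normalizer (Q : Set G)).subtype := by
    have := centerThompsonA_map (Subgroup.normalizer (Q : Set G)).subtype
      (R.subgroupOf (Subgroup.normalizer (Q : Set G)))
      ((Subgroup.subtype_injective _).injOn)
    rw [Subgroup.map_subgroupOf_eq_of_le hRN] at this
    exact this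
  intro n hn'
  rw [e]
  apply mem_normalizer_of_conj_mem
  · rintro _ ⟨z, hz, rfl⟩
    exact ⟨⟨n, hn'⟩ * z * ⟨n, hn'⟩⁻¹, hn.conj_mem z hz _, rfl⟩
  · rintro _ ⟨z, hz, rfl⟩
    have := hn.conj_mem z hz ⟨n, hn'⟩⁻¹
    rw [inv_inv] at this
    exact ⟨⟨n, hn'⟩⁻¹ * z * ⟨n, hn'⟩, this, rfl⟩

end

section

variable {G : Type*} [Group G] [Finite G] {p : ℕ} [Fact p.Prime]

theorem ZJ_le (R : Subgroup G) : Cfsg.centerThompsonAOf R ≤ R := by
  intro z hz
  obtain ⟨j, -, rfl⟩ := (Subgroup.mem_inf.1 hz).1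
  exact j.2

theorem conj_mem_normalizer_map (Q : Subgroup G) (m x : G)
    (hx : x ∈ Subgroup.normalizer (Q : Set G)) :
    m * x * m⁻¹ ∈ Subgroup.normalizer ((Q.map (MulAut.conj m).toMonoidHom : Subgroup G) : Set G) := by
  have hx' := Subgroup.inv_mem _ hx
  apply mem_normalizer_of_conj_mem
  · rintro _ ⟨q, hq, rfl⟩
    refine ⟨x * q * x⁻¹, (Subgroup.mem_normalizer_iff.1 hx q).1 hq, ?_⟩
    show m * (x * q * x⁻¹) * m⁻¹ = m * x * m⁻¹ * (m * q * m⁻¹) * (m * x * m⁻¹)⁻¹
    group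
  · rintro _ ⟨q, hq, rfl⟩
    have h1 := (Subgroup.mem_normalizer_iff.1 hx' q).1 hq
    rw [inv_inv] at h1
    refine ⟨x⁻¹ * q * x, h1, ?_⟩
    show m * (x⁻¹ * q * x) * m⁻¹ = (m * x * m⁻¹)⁻¹ * (m * q * m⁻¹) * (m * x * m⁻¹)
    group

theorem main_ind (hp : p ≠ 2)
    (hloc : ∀ Q : Subgroup G, IsPGroup p Q → Q ≠ ⊥ →
      Cfsg.pPrimeCore p ↥(Subgroup.normalizer (Q : Set G)) = ⊥ ∧
      Cfsg.IsPConstrained p ↥(Subgroup.normalizer (Q : Set G)) ∧
      Cfsg.IsPStable p ↥(Subgroup.normalizer (Q : Set G)))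
    (P : Sylow p G) : ∀ n : ℕ, ∀ Q : Subgroup G, Q ≤ (P : Subgroup G) → Q ≠ ⊥ →
      Nat.card (P : Subgroup G) -
        Nat.card ((P : Subgroup G) ⊓ Subgroup.normalizer (Q : Set G) : Subgroup G) = n →
      Subgroup.normalizer (Q : Set G) ≤
        Subgroup.normalizer (Cfsg.centerThompsonAOf (P : Subgroup G) : Set G) := by
  intro n
  induction n using Nat.strong_induction_on with
  | _ n ih =>
  intro Q hQP hQ1 hn
  have hQp : IsPGroup p Q := P.isPGroup'.to_le hQP
  have hPM : (P : Subgroup G) ≤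
      Subgroup.normalizer (Cfsg.centerThompsonAOf (P : Subgroup G) : Set G) :=
    Subgroup.le_normalizer.trans (normalizer_le_normalizer_ZJ (P : Subgroup G))
  set R : Subgroup G := (P : Subgroup G) ⊓ Subgroup.normalizer (Q : Set G) with hRdef
  have hRP : R ≤ (P : Subgroup G) := inf_le_left
  have hRN : R ≤ Subgroup.normalizer (Q : Set G) := inf_le_right
  have hQR : Q ≤ R := le_inf hQP Subgroup.le_normalizer
  have hRp : IsPGroup p R := P.isPGroup'.to_le hRP
  have hR1 : R ≠ ⊥ := fun h => hQ1 (le_bot_iff.1 (h ▸ hQR))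
  -- the general step: any Q'' ≤ P with bigger normalizer-in-P
  have step : ∀ Q'' : Subgroup G, Q'' ≤ (P : Subgroup G) → Q'' ≠ ⊥ →
      Nat.card R < Nat.card ((P : Subgroup G) ⊓ Subgroup.normalizer (Q'' : Set G) : Subgroup G) →
      Subgroup.normalizer (Q'' : Set G) ≤
        Subgroup.normalizer (Cfsg.centerThompsonAOf (P : Subgroup G) : Set G) := by
    intro Q'' h1 h2 h3
    have h4 : Nat.card ((P : Subgroup G) ⊓ Subgroup.normalizer (Q'' : Set G) : Subgroup G) ≤
        Nat.card (P : Subgroup G) := Subgroup.card_le_of_le inf_le_left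
    refine ih _ ?_ Q'' h1 h2 rfl
    omega
  by_cases hRP' : R = (P : Subgroup G)
  · have hPN : (P : Subgroup G) ≤ Subgroup.normalizer (Q : Set G) := hRP' ▸ hRN
    have hs : ¬ p ∣ (P : Subgroup G).relIndex (Subgroup.normalizer (Q : Set G)) := by
      intro hdvd
      apply P.not_dvd_index
      have := Subgroup.relIndex_mul_index hPN
      rw [← this]
      exact Dvd.dvd.mul_right hdvd _
    exact normalizes_ZJ hp hloc Q hQp hQ1 (P : Subgroup G) hPN P.isPGroup' hs
  · have hRltP : R < (P : Subgroup G) := lt_of_le_of_ne hRP hRP'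
    obtain ⟨y, hyP, hyR, hyN⟩ := exists_mem_normalizer_not_mem P.isPGroup' hRltP
    have hlt1 : R < (P : Subgroup G) ⊓ Subgroup.normalizer (R : Set G) := by
      refine lt_of_le_of_ne (le_inf hRP Subgroup.le_normalizer) ?_
      intro h
      apply hyR
      rw [h]
      exact Subgroup.mem_inf.2 ⟨hyP, hyN⟩
    have hNR : Subgroup.normalizer (R : Set G) ≤
        Subgroup.normalizer (Cfsg.centerThompsonAOf (P : Subgroup G) : Set G) :=
      step R hRP hR1 (card_lt hlt1)
    by_cases hdvd : p ∣ R.relIndex (Subgroup.normalizer (Q : Set G))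
    · -- enlarge R inside N(Q)
      obtain ⟨Qs, hQs⟩ := (IsPGroup.comap_subtype hRp
        (K := Subgroup.normalizer (Q : Set G))).exists_le_sylow
      set Rs : Subgroup G := (Qs : Subgroup ↥(Subgroup.normalizer (Q : Set G))).map
        (Subgroup.normalizer (Q : Set G)).subtype with hRsdef
      have hRsN : Rs ≤ Subgroup.normalizer (Q : Set G) := by
        rintro _ ⟨x, -, rfl⟩
        exact x.2
      have hRRs : R ≤ Rs := by
        intro r hr
        exact ⟨⟨r, hRN hr⟩, hQs (Subgroup.mem_subgroupOf.2 hr), rfl⟩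
      have hRsp : IsPGroup p Rs := Qs.isPGroup'.map _
      have hne : R ≠ Rs := by
        intro h
        apply Qs.not_dvd_index
        have e : (Qs : Subgroup ↥(Subgroup.normalizer (Q : Set G))) =
            R.subgroupOf (Subgroup.normalizer (Q : Set G)) := by
          apply le_antisymm
          · intro x hx
            rw [Subgroup.mem_subgroupOf, h]
            exact ⟨x, hx, rfl⟩
          · exact hQs
        rw [e]
        exact hdvd
      have hRltRs : R < Rs := lt_of_le_of_ne hRRs hne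
      obtain ⟨y', hy'Rs, hy'R, hy'N⟩ := exists_mem_normalizer_not_mem hRsp hRltRs
      set R₁ : Subgroup G := R ⊔ Subgroup.zpowers y' with hR₁def
      have hR₁Rs : R₁ ≤ Rs := sup_le hRRs (by
        rw [Subgroup.zpowers_le]; exact hy'Rs)
      have hR₁p : IsPGroup p R₁ := hRsp.to_le hR₁Rs
      have hR₁N : R₁ ≤ Subgroup.normalizer (Q : Set G) := hR₁Rs.trans hRsN
      have hR₁NR : R₁ ≤ Subgroup.normalizer (R : Set G) := sup_le Subgroup.le_normalizer (by
        rw [Subgroup.zpowers_le]; exact hy'N)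
      have hRltR₁ : R < R₁ := by
        refine lt_of_le_of_ne le_sup_left ?_
        intro h
        apply hy'R
        rw [h]
        exact le_sup_right (a := R) (Subgroup.mem_zpowers y')
      obtain ⟨m, hmM, hm⟩ := exists_conj_le_sylow P _ hPM R₁ (hR₁NR.trans hNR) hR₁p
      set Q' : Subgroup G := Q.map (MulAut.conj m).toMonoidHom with hQ'def
      have hQ'P : Q' ≤ (P : Subgroup G) := by
        rintro _ ⟨q, hq, rfl⟩
        exact hm q (hRltR₁.le (hQR hq))
      have hQ'1 : Q' ≠ ⊥ := by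
        intro h
        apply hQ1
        rw [eq_bot_iff]
        intro q hq
        have h1 : (MulAut.conj m).toMonoidHom q ∈ Q' := ⟨q, hq, rfl⟩
        rw [h, Subgroup.mem_bot] at h1
        have h2 : (MulAut.conj m) q = (MulAut.conj m) 1 := by
          rw [map_one]; exact h1
        exact Subgroup.mem_bot.2 ((MulAut.conj m).injective h2)
      have hle : R₁.map (MulAut.conj m).toMonoidHom ≤
          (P : Subgroup G) ⊓ Subgroup.normalizer (Q' : Set G) := by
        rintro _ ⟨r, hr, rfl⟩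
        exact Subgroup.mem_inf.2 ⟨hm r hr, conj_mem_normalizer_map Q m r (hR₁N hr)⟩
      have hcard : Nat.card (R₁.map (MulAut.conj m).toMonoidHom) = Nat.card R₁ :=
        Subgroup.card_map_of_injective (MulAut.conj m).injective
      have hNQ' := step Q' hQ'P hQ'1 (by
        calc Nat.card R < Nat.card R₁ := card_lt hRltR₁
          _ = Nat.card (R₁.map (MulAut.conj m).toMonoidHom) := hcard.symm
          _ ≤ _ := Subgroup.card_le_of_le hle)
      intro x hx
      have h1 := hNQ' (conj_mem_normalizer_map Q m x hx)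
      have h2 := Subgroup.mul_mem _ (Subgroup.mul_mem _ (Subgroup.inv_mem _ hmM) h1) hmM
      have e : m⁻¹ * (m * x * m⁻¹) * m = x := by group
      rw [e] at h2
      exact h2
    · have h1 := normalizes_ZJ hp hloc Q hQp hQ1 R hRN hRp hdvd
      refine h1.trans ?_
      have hZR := ZJ_le R
      have hZ1 := ZJ_ne_bot R hRp hR1
      apply step _ (hZR.trans hRP) hZ1
      calc Nat.card R < Nat.card ((P : Subgroup G) ⊓ Subgroup.normalizer (R : Set G) : Subgroup G) :=
            card_lt hlt1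
        _ ≤ _ := Subgroup.card_le_of_le (inf_le_inf_left _ (normalizer_le_normalizer_ZJ R))

end


/-- In a group of characteristic p type all of whose p-locals are p-stable (p odd), the normalizer of Z(J(P)) contains the normalizer of every nontrivial subgroup of the Sylow p-subgroup P. -/
theorem result {G : Type*} [Group G] [Finite G] {p : ℕ} [Fact p.Prime] (hp : p ≠ 2) (hloc : ∀ Q : Subgroup G, IsPGroup p Q → Q ≠ ⊥ → Cfsg.pPrimeCore p ↥(Subgroup.normalizer (Q : Set G)) = ⊥ ∧ Cfsg.IsPConstrained p ↥(Subgroup.normalizer (Q : Set G)) ∧ Cfsg.IsPStable p ↥(Subgroup.normalizer (Q : Set G))) (P : Sylow p G) (Q : Subgroup G) (hQP : Q ≤ (P : Subgroup G)) (hQ1 : Q ≠ ⊥) : Subgroup.normalizer (Q : Set G) ≤ Subgroup.normalizer (Cfsg.centerThompsonAOf ((P : Subgroup G)) : Set G) := by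
  exact main_ind hp hloc P _ Q hQP hQ1 rfl

end Cfsg.Agent.S0658
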