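import Cfsg.Statements.S0659
import Mathlib
import Cfsg.Agent.Lib.Lead_GT6
import Cfsg.Agent.S0658
import Cfsg.Agent.S0653
import Cfsg.Agent.Lib.Lead_ZJmap

set_option autoImplicit false
open Cfsg

namespace Cfsg.Agent.S0659

open Cfsg.Agent.Lib.Helper7_NPC Cfsg.Agent.Lib.Lead_GT2 Cfsg.Agent.Lib.Lead_GT6

universe u

/-- The functor `Z(J(·))` (abelian version). -/
noncomputable def zjFun (p : ℕ) [Fact p.Prime] (hp : p ≠ 2) : WFun.{u} p where
  W := fun X _ R => Cfsg.centerThompsonAOf R
  le := fun X _ R => by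
    unfold Cfsg.centerThompsonAOf Cfsg.thompsonSubgroupAOf
    exact inf_le_left.trans (Subgroup.map_subtype_le _)
  ne_bot := fun X _ _ R hRp hR => Cfsg.Agent.S0658.ZJ_ne_bot R hRp hR
  map := fun X Y _ _ _ _ f R _ hinj => Cfsg.Agent.Lib.Lead_ZJmap.centerThompsonA_map f R hinj
  normal := fun X _ _ hc hst S => by
    haveI := Cfsg.Agent.S0653.result hp hc hst S
    infer_instance


/-- Glauberman's normal p-complement Theorem with the abelian-version Thompson subgroup: for odd p, G has a normal p-complement whenever the normalizer of Z(J(P)) does. -/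
theorem result {G : Type*} [Group G] [Finite G] {p : ℕ} [Fact p.Prime] (hp : p ≠ 2) (P : Sylow p G) (hN : Cfsg.HasNormalPComplement p ↥(Subgroup.normalizer (Cfsg.centerThompsonAOf ((P : Subgroup G)) : Set G))) : Cfsg.HasNormalPComplement p G := by
  rw [hasNormalPComplement_iff_npc] at hN ⊢
  exact main (zjFun p hp) hp G (hyp_of_single (zjFun p hp) P hN)

end Cfsg.Agent.S0659
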