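import Cfsg.Statements.S1465
import Mathlib
import Cfsg.Agent.Lib.Lead_OddStab4

set_option autoImplicit false
open Cfsg

namespace Cfsg.Agent.S1465

/-- Let p be an odd prime, G a solvable group of odd order, P a normal p-subgroup of G, and X the subgroup generated by a family of abelian p-subgroups of G each normalized by P. Then the image of X in G/C_G(P) lies in O_p(G/C_G(P)); and if O_{p'}(G) = 1 and O_p(G) ∩ C_G(P) ≤ P then X ≤ O_p(G). -/
theorem result {G : Type*} [Group G] [Finite G] [Group.IsSolvable G] (hodd : Odd (Nat.card G)) (p : ℕ) [Fact p.Prime] (hp : p ≠ 2) (P : Subgroup G) [P.Normal] (hP : IsPGroup p P)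
    (S : Set (Subgroup G)) (hS : ∀ B ∈ S, IsMulCommutative B ∧ IsPGroup p B ∧ P ≤ Subgroup.normalizer (B : Set G)) :
    (sSup S).map (QuotientGroup.mk' (Subgroup.centralizer (P : Set G))) ≤ Cfsg.pCore p (G ⧸ Subgroup.centralizer (P : Set G)) ∧
      (Cfsg.pPrimeCore p G = ⊥ → Cfsg.pCore p G ⊓ Subgroup.centralizer (P : Set G) ≤ P → sSup S ≤ Cfsg.pCore p G) := by
  haveI hCn : (Subgroup.centralizer (P : Set G)).Normal := Subgroup.normal_centralizer
  have part1 : (sSup S).map (QuotientGroup.mk' (Subgroup.centralizer (P : Set G))) ≤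
      Cfsg.pCore p (G ⧸ Subgroup.centralizer (P : Set G)) := by
    rw [Subgroup.map_le_iff_le_comap]
    apply sSup_le
    intro B hB
    obtain ⟨hBc, hBp, hPB⟩ := hS B hB
    intro b hb
    rw [Subgroup.mem_comap]
    have hz : Subgroup.zpowers b ≤ B := Subgroup.zpowers_le.2 hb
    have h1 : ⁅P, B⁆ ≤ B := by
      rw [Subgroup.commutator_le]
      intro x hx y hy
      rw [commutatorElement_def]
      have hxN := hPB hx
      rw [Subgroup.mem_normalizer_iff] at hxN
      exact B.mul_mem ((hxN y).1 hy) (B.inv_mem hy)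
    have h2 : ⁅B, B⁆ = ⊥ := by
      rw [Subgroup.commutator_eq_bot_iff_le_centralizer]
      intro x hx
      rw [Subgroup.mem_centralizer_iff]
      intro y hy
      exact Subgroup.mul_comm_of_mem_isMulCommutative B hy hx
    have hq : ⁅⁅P, Subgroup.zpowers b⁆, Subgroup.zpowers b⁆ = ⊥ := by
      rw [eq_bot_iff, ← h2]
      exact Subgroup.commutator_mono ((Subgroup.commutator_mono le_rfl hz).trans h1) hz
    exact Cfsg.Agent.Lib.Lead_OddStab2.oddStable hodd p P hP b hq
  refine ⟨part1, ?_⟩
  intro hO hle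
  have hCp : IsPGroup p ↥(Subgroup.centralizer (P : Set G)) := by
    apply Cfsg.Agent.Lib.Lead_OddStab4.isPGroup_of_centralizes hO
    intro z hz c hc
    have hzP : z ∈ P := hle hz
    exact (Subgroup.mem_centralizer_iff.1 hc z hzP).symm
  have hD : IsPGroup p ((Cfsg.pCore p (G ⧸ Subgroup.centralizer (P : Set G))).comap
      (QuotientGroup.mk' (Subgroup.centralizer (P : Set G)))) :=
    Cfsg.Agent.Lib.Lead_ZJ.comap_pCore_isPGroup _ hCp
  have hDn : ((Cfsg.pCore p (G ⧸ Subgroup.centralizer (P : Set G))).comap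
      (QuotientGroup.mk' (Subgroup.centralizer (P : Set G)))).Normal :=
    (Cfsg.Agent.Lib.Helper4_PCore.pCore_normal p _).comap _
  rw [Subgroup.map_le_iff_le_comap] at part1
  exact part1.trans (Cfsg.Agent.Lib.Helper4_PCore.le_pCore _ hDn hD)

end Cfsg.Agent.S1465
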