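import Mathlib
import Cfsg.Statements.S1467

set_option autoImplicit false
open Cfsg

namespace Cfsg.Agent.S1467

theorem puigStep_anti {G : Type*} [Group G] {X Y : Subgroup G} (h : X ≤ Y) :
    Cfsg.puigStep Y ≤ Cfsg.puigStep X := by
  unfold Cfsg.puigStep
  apply sSup_le_sSup
  intro A hA
  exact ⟨hA.1, h.trans hA.2⟩

theorem puigStep_bot {G : Type*} [Group G] : Cfsg.puigStep (⊥ : Subgroup G) = ⊤ := by
  rw [eq_top_iff]
  intro g _
  have : Subgroup.zpowers g ≤ Cfsg.puigStep (⊥ : Subgroup G) := by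
    unfold Cfsg.puigStep
    apply le_sSup
    refine ⟨?_, bot_le⟩
    infer_instance
  exact this (Subgroup.mem_zpowers g)

theorem even_mono {G : Type*} [Group G] (n : ℕ) :
    Cfsg.puigSeq G (2 * n) ≤ Cfsg.puigSeq G (2 * n + 2) := by
  induction n with
  | zero => simp [Cfsg.puigSeq]
  | succ n ih =>
    have h1 : Cfsg.puigSeq G (2 * n + 3) ≤ Cfsg.puigSeq G (2 * n + 1) := puigStep_anti ih
    have h2 : Cfsg.puigSeq G (2 * n + 2) ≤ Cfsg.puigSeq G (2 * n + 4) := puigStep_anti h1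
    exact h2

theorem odd_anti {G : Type*} [Group G] (n : ℕ) :
    Cfsg.puigSeq G (2 * n + 3) ≤ Cfsg.puigSeq G (2 * n + 1) := puigStep_anti (even_mono n)

theorem even_monotone {G : Type*} [Group G] : Monotone (fun n => Cfsg.puigSeq G (2 * n)) :=
  monotone_nat_of_le_succ (fun n => even_mono n)

theorem odd_antitone {G : Type*} [Group G] : Antitone (fun n => Cfsg.puigSeq G (2 * n + 1)) :=
  antitone_nat_of_succ_le (fun n => odd_anti n)

theorem even_le_succ {G : Type*} [Group G] (n : ℕ) :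
    Cfsg.puigSeq G (2 * n) ≤ Cfsg.puigSeq G (2 * n + 1) := by
  induction n with
  | zero => simp [Cfsg.puigSeq]
  | succ n ih =>
    have h1 : Cfsg.puigSeq G (2 * n + 2) ≤ Cfsg.puigSeq G (2 * n + 1) := puigStep_anti ih
    have h2 : Cfsg.puigSeq G (2 * n + 2) ≤ Cfsg.puigSeq G (2 * n + 3) := puigStep_anti h1
    exact h2

theorem even_le_odd {G : Type*} [Group G] (n m : ℕ) :
    Cfsg.puigSeq G (2 * n) ≤ Cfsg.puigSeq G (2 * m + 1) := by
  have h1 : Cfsg.puigSeq G (2 * n) ≤ Cfsg.puigSeq G (2 * (max n m)) :=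
    even_monotone (le_max_left n m)
  have h2 : Cfsg.puigSeq G (2 * (max n m)) ≤ Cfsg.puigSeq G (2 * (max n m) + 1) := even_le_succ _
  have h3 : Cfsg.puigSeq G (2 * (max n m) + 1) ≤ Cfsg.puigSeq G (2 * m + 1) :=
    odd_antitone (le_max_right n m)
  exact h1.trans (h2.trans h3)

theorem result {G : Type*} [Group G] [Finite G] :
    Cfsg.puigSeq G 0 = ⊥ ∧ Cfsg.puigSeq G 1 = ⊤ ∧
      (∀ n m : ℕ, Cfsg.puigSeq G (2 * n) ≤ Cfsg.puigSeq G (2 * n + 2) ∧ Cfsg.puigSeq G (2 * n) ≤ Cfsg.puigSeq G (2 * m + 1) ∧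
        Cfsg.puigSeq G (2 * m + 3) ≤ Cfsg.puigSeq G (2 * m + 1)) ∧
      (∃ k : ℕ, ∀ n : ℕ, k ≤ n → Cfsg.puigSeq G (2 * n) = Cfsg.puigLower G ∧ Cfsg.puigSeq G (2 * n + 1) = Cfsg.puigSubgroup G) ∧
      Cfsg.puigLower G ≤ Cfsg.puigSubgroup G ∧
      Cfsg.puigStep (Cfsg.puigLower G) = Cfsg.puigSubgroup G ∧ Cfsg.puigStep (Cfsg.puigSubgroup G) = Cfsg.puigLower G := by
  obtain ⟨k1, hk1⟩ := WellFoundedGT.monotone_chain_condition
    (⟨fun n => Cfsg.puigSeq G (2 * n), even_monotone⟩ : ℕ →o Subgroup G)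
  obtain ⟨k2, hk2⟩ := WellFoundedLT.antitone_chain_condition (odd_antitone (G := G))
  simp only [OrderHom.coe_mk] at hk1
  -- values of sup and inf
  have hL : Cfsg.puigLower G = Cfsg.puigSeq G (2 * k1) := by
    unfold Cfsg.puigLower
    apply le_antisymm
    · apply iSup_le
      intro n
      rcases le_total n k1 with h | h
      · exact even_monotone h
      · exact (hk1 n h).symm.le
    · exact le_iSup (fun n => Cfsg.puigSeq G (2 * n)) k1
  have hU : Cfsg.puigSubgroup G = Cfsg.puigSeq G (2 * k2 + 1) := by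
    unfold Cfsg.puigSubgroup
    apply le_antisymm
    · exact iInf_le (fun n => Cfsg.puigSeq G (2 * n + 1)) k2
    · apply le_iInf
      intro n
      rcases le_total n k2 with h | h
      · exact odd_antitone h
      · exact (hk2 n h).le
  have hE : ∀ n, max k1 k2 ≤ n → Cfsg.puigSeq G (2 * n) = Cfsg.puigLower G := by
    intro n hn
    rw [hL]
    exact (hk1 n ((le_max_left _ _).trans hn)).symm
  have hO : ∀ n, max k1 k2 ≤ n → Cfsg.puigSeq G (2 * n + 1) = Cfsg.puigSubgroup G := by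
    intro n hn
    rw [hU]
    exact (hk2 n ((le_max_right _ _).trans hn)).symm
  refine ⟨rfl, ?_, ?_, ⟨max k1 k2, fun n hn => ⟨hE n hn, hO n hn⟩⟩, ?_, ?_, ?_⟩
  · show Cfsg.puigStep (⊥ : Subgroup G) = ⊤
    exact puigStep_bot
  · intro n m
    exact ⟨even_mono n, even_le_odd n m, odd_anti m⟩
  · rw [hL, hU]
    exact even_le_odd _ _
  · rw [← hE (max k1 k2) le_rfl, ← hO (max k1 k2) le_rfl]
    rfl
  · rw [← hO (max k1 k2) le_rfl, ← hE (max k1 k2 + 1) (Nat.le_succ _)]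
    rfl

end Cfsg.Agent.S1467
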