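import Cfsg.Statements.S0654
import Mathlib
import Cfsg.Agent.Lib.Lead_ZJ

set_option autoImplicit false
open Cfsg

namespace Cfsg.Agent.S0654

open Cfsg.Agent.Lib.Lead_ZJ


/-- The ZJ-Theorem for the elementary-abelian Thompson subgroup: for an odd prime p, a finite group G with C_G(O_p(G)) ≤ O_p(G) acting p-stably on its normal p-subgroups, and a Sylow p-subgroup S of G, the subgroup generated by the elements of order dividing p in Z(J_e(S)) is characteristic in G. -/
theorem result {G : Type*} [Group G] [Finite G] {p : ℕ} [Fact p.Prime] (hp : p ≠ 2) (hc : Subgroup.centralizer (Cfsg.pCore p G : Set G) ≤ Cfsg.pCore p G) (hst : ∀ (P : Subgroup G) [P.Normal], IsPGroup p P → Cfsg.IsPStableOn p P) (S : Sylow p G) : ((Cfsg.omegaCenterThompson p ↥(S : Subgroup G)).map (S : Subgroup G).subtype).Characteristic := by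
  have hn : ((Cfsg.omegaCenterThompson p ↥(S : Subgroup G)).map (S : Subgroup G).subtype).Normal := by
    rw [omegaCenterThompson_eq]
    exact zj_normal hp hc hst S (FE_datum p _ _ le_rfl (fun _ _ _ h => h))
  refine char_of_functorial
    (fun P : Subgroup G => (Cfsg.omegaCenterThompson p ↥P).map P.subtype) ?_ S hn
  intro ϕ P
  simp only [omegaCenterThompson_eq]
  exact Zd_map_eq (FE p) _ (FE_map p) (fun ϕ z hz => by
    show (ϕ z) ^ p = 1
    rw [← map_pow, hz, map_one]) ϕ P

end Cfsg.Agent.S0654
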