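import Cfsg.Statements.S0024
import Mathlib
import Cfsg.Agent.Lib.Lead_Coprime

set_option autoImplicit false
open Pointwise
open Cfsg

namespace Cfsg.Agent.S0024

open Cfsg.Agent.Lib.Lead_SZ Cfsg.Agent.Lib.Lead_Coprime

/-- Under coprime action (A normalising K, coprime orders, A or K solvable), any two A-invariant Sylow p-subgroups of K are conjugate by an element of the centraliser of A in K. -/
theorem result {G : Type*} [Group G] [Finite G] (A K : Subgroup G) (hAK : A ≤ Subgroup.normalizer (K : Set G))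
    (hcop : (Nat.card A).Coprime (Nat.card K)) (hsolv : Group.IsSolvable A ∨ Group.IsSolvable K)
    (p : ℕ) [Fact p.Prime] (P Q : Sylow p K)
    (hP : A ≤ Subgroup.normalizer ((P : Subgroup K).map K.subtype : Set G))
    (hQ : A ≤ Subgroup.normalizer ((Q : Subgroup K).map K.subtype : Set G)) :
    ∃ c : K, (c : G) ∈ Subgroup.centralizer (A : Set G) ∧ MulAut.conj c • P = Q := by
  obtain ⟨k, hk⟩ := MulAction.exists_smul_eq K P Q
  have hk' : MulAut.conj k • (P : Subgroup K) = (Q : Subgroup K) := by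
    have := congrArg (fun S : Sylow p K => (S : Subgroup K)) hk
    exact this
  set P' := (P : Subgroup K).map K.subtype with hP'
  set Q' := (Q : Subgroup K).map K.subtype with hQ'
  have hQP : Q' = MulAut.conj (k : G) • P' := by
    rw [hQ', ← hk', map_conj_smul]; rfl
  set D := Subgroup.normalizer (P' : Set G) ⊓ K with hD
  have hDK : D ≤ K := inf_le_right
  have hDA : A ≤ Subgroup.normalizer (D : Set G) := by
    intro a ha
    refine mem_normalizer_of_conj_mem ?_ ?_
    · intro n hn
      obtain ⟨h1, h2⟩ := Subgroup.mem_inf.mp hn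
      refine Subgroup.mem_inf.mpr ⟨?_, ?_⟩
      · exact Subgroup.mul_mem _ (Subgroup.mul_mem _ (hP ha) h1) (Subgroup.inv_mem _ (hP ha))
      · exact (Subgroup.mem_normalizer_iff.mp (hAK ha) n).mp h2
    · intro n hn
      obtain ⟨h1, h2⟩ := Subgroup.mem_inf.mp hn
      refine Subgroup.mem_inf.mpr ⟨?_, ?_⟩
      · exact Subgroup.mul_mem _ (Subgroup.mul_mem _ (Subgroup.inv_mem _ (hP ha)) h1) (hP ha)
      · have := (Subgroup.mem_normalizer_iff.mp (hAK (A.inv_mem ha)) n).mp h2
        rwa [inv_inv] at this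
  have hcop' : (Nat.card A).Coprime (Nat.card D) :=
    Nat.Coprime.coprime_dvd_right (Subgroup.card_dvd_of_le hDK) hcop
  have hsolv' : Group.IsSolvable A ∨ Group.IsSolvable D := hsolv.imp id (solvable_of_le hDK)
  have hx : ∀ a ∈ A, (k : G)⁻¹ * a * k * a⁻¹ ∈ D := by
    intro a ha
    refine Subgroup.mem_inf.mpr ⟨?_, ?_⟩
    · refine Subgroup.mul_mem _ ?_ (Subgroup.inv_mem _ (hP ha))
      rw [conj_smul_le_normalizer]
      have h1 : MulAut.conj a • Q' = Q' := conj_smul_le_normalizer.mp (hQ ha)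
      have e : (k : G)⁻¹ * a * k = (k : G)⁻¹ * (a * k) := by group
      rw [e, ← conj_smul_smul, ← conj_smul_smul, ← hQP, h1, hQP, conj_smul_smul,
        inv_mul_cancel, map_one, one_smul]
    · have h1 := (Subgroup.mem_normalizer_iff.mp (hAK ha) k).mp k.2
      have e : (k : G)⁻¹ * a * k * a⁻¹ = (k : G)⁻¹ * (a * k * a⁻¹) := by group
      rw [e]
      exact K.mul_mem (K.inv_mem k.2) h1
  obtain ⟨d, hd, hdc⟩ := lemmaC D A hDA hcop' hsolv' (k : G) hx
  obtain ⟨hd1, hd2⟩ := Subgroup.mem_inf.mp hd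
  refine ⟨k * ⟨d, hd2⟩, hdc, ?_⟩
  apply Sylow.ext
  rw [Sylow.pointwise_smul_def, ← hk', ← conj_smul_smul]
  congr 1
  apply Subgroup.map_injective K.subtype_injective
  rw [map_conj_smul]
  exact conj_smul_le_normalizer.mp hd1

end Cfsg.Agent.S0024
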