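import Cfsg.Statements.S0025
import Mathlib
import Cfsg.Agent.Lib.Lead_Coprime

set_option autoImplicit false
open Cfsg

namespace Cfsg.Agent.S0025

open Cfsg.Agent.Lib.Lead_SZ Cfsg.Agent.Lib.Lead_Coprime

/-- Under coprime action (A normalising K, coprime orders, A or K solvable), an A-invariant p-subgroup of K is contained in an A-invariant Sylow p-subgroup of K. -/
theorem result {G : Type*} [Group G] [Finite G] (A K : Subgroup G) (hAK : A ≤ Subgroup.normalizer (K : Set G))
    (hcop : (Nat.card A).Coprime (Nat.card K)) (hsolv : Group.IsSolvable A ∨ Group.IsSolvable K)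
    (p : ℕ) [Fact p.Prime] (U : Subgroup G) (hUK : U ≤ K) (hU : IsPGroup p U) (hUA : A ≤ Subgroup.normalizer (U : Set G)) :
    ∃ P : Sylow p K, U ≤ (P : Subgroup K).map K.subtype ∧ A ≤ Subgroup.normalizer ((P : Subgroup K).map K.subtype : Set G) := by
  have hne : Nonempty {V : Subgroup G // U ≤ V ∧ V ≤ K ∧ IsPGroup p V ∧
      A ≤ Subgroup.normalizer (V : Set G)} := ⟨⟨U, le_rfl, hUK, hU, hUA⟩⟩
  obtain ⟨⟨V, hUV, hVK, hVp, hVA⟩, hmax⟩ := Finite.exists_max
    (fun V : {V : Subgroup G // U ≤ V ∧ V ≤ K ∧ IsPGroup p V ∧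
      A ≤ Subgroup.normalizer (V : Set G)} => Nat.card V.1)
  set M := Subgroup.normalizer (V : Set G) ⊓ K with hM
  have hMK : M ≤ K := inf_le_right
  have hMA : A ≤ Subgroup.normalizer (M : Set G) := le_normalizer_normalizer_inf A V K hVA hAK
  have hcopM : (Nat.card A).Coprime (Nat.card M) :=
    Nat.Coprime.coprime_dvd_right (Subgroup.card_dvd_of_le hMK) hcop
  have hsolvM : Group.IsSolvable A ∨ Group.IsSolvable M := hsolv.imp id (solvable_of_le hMK)
  obtain ⟨R, hR⟩ := exists_invariant_sylow A M hMA hcopM hsolvM p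
  have hVM : V ≤ M := le_inf Subgroup.le_normalizer hVK
  have hVR : V ≤ (R : Subgroup M).map M.subtype := by
    have hn : (V.subgroupOf M).Normal :=
      Subgroup.normal_subgroupOf_of_le_normalizer (inf_le_left : M ≤ _)
    have h1 : V.subgroupOf M ≤ R := IsPGroup.le_sylow_of_normal (N := V.subgroupOf M)
      (hVp.comap_of_injective M.subtype M.subtype_injective) R
    intro v hv
    exact ⟨⟨v, hVM hv⟩, h1 (Subgroup.mem_subgroupOf.mpr hv), rfl⟩
  have hR'eq : (R : Subgroup M).map M.subtype = V := by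
    have hle := hmax ⟨(R : Subgroup M).map M.subtype, hUV.trans hVR,
      (Subgroup.map_subtype_le _).trans hMK, R.isPGroup'.map _, hR⟩
    exact (eq_of_le_of_card_eq hVR (le_antisymm (Subgroup.card_le_of_le hVR) hle)).symm
  obtain ⟨P, hP⟩ := sylow_of_self_normalizing p hVK hVp (by
    intro W hVW hWM hWp
    have h1 : (R : Subgroup M) ≤ W.subgroupOf M := by
      intro m hm
      rw [Subgroup.mem_subgroupOf]
      apply hVW
      rw [← hR'eq]
      exact ⟨m, hm, rfl⟩
    have h2 : W.subgroupOf M = R :=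
      R.is_maximal' (hWp.comap_of_injective M.subtype M.subtype_injective) h1
    have hWM' : W ≤ M := hWM
    rw [← Subgroup.map_subgroupOf_eq_of_le hWM', h2, hR'eq])
  exact ⟨P, by rw [hP]; exact hUV, by rw [hP]; exact hVA⟩

end Cfsg.Agent.S0025
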