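import Cfsg.Statements.S1280
import Cfsg.Agent.Lib.Helper3_FixedSet
import Cfsg.Agent.Lib.Helper3_SupNormalizer

set_option autoImplicit false
open Cfsg

namespace Cfsg.Agent.S1280

/-- Let θ be a solvable A-signalizer functor (A a noncyclic elementary abelian p-subgroup of the finite group G), and X, Y members of its family with Y ≤ N_G(X). Then X ⊔ Y (= XY) is again in the family. -/
theorem result {G : Type*} [Group G] [Finite G] (p : ℕ) [Fact p.Prime] (A : Subgroup G) (hA : Cfsg.IsElementaryAbelian p A) (hA2 : p ^ 2 ≤ Nat.card ↥A) (θ : G → Subgroup G) (hθ : Cfsg.IsSolvableSignalizerFunctor p A θ) (X Y : Subgroup G) (hX : X ∈ Cfsg.signalizerFamily p A θ) (hY : Y ∈ Cfsg.signalizerFamily p A θ) (hn : Y ≤ Subgroup.normalizer (X : Set G)) : X ⊔ Y ∈ Cfsg.signalizerFamily p A θ := by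
  classical
  obtain ⟨⟨h1, h2, h3, h4⟩, _⟩ := hθ
  obtain ⟨hXs, hXp, hXA, hXθ⟩ := hX
  obtain ⟨hYs, hYp, hYA, hYθ⟩ := hY
  refine ⟨?_, ?_, ?_, ?_⟩
  · exact Cfsg.Agent.Lib.Helper3_SupNormalizer.isSolvable_sup_of_le_normalizer X Y hn
  · intro hdiv
    have := hdiv.trans (Cfsg.Agent.Lib.Helper3_SupNormalizer.card_sup_dvd_of_le_normalizer X Y hn)
    rcases (Nat.Prime.dvd_mul (Fact.out : p.Prime)).1 this with h | h
    · exact hXp h
    · exact hYp h
  · intro b hb u hu
    have hle : X ⊔ Y ≤ (X ⊔ Y).comap (MulAut.conj b).toMonoidHom := by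
      apply sup_le
      · intro x hx
        show b * x * b⁻¹ ∈ X ⊔ Y
        exact Subgroup.mem_sup_left (hXA b hb x hx)
      · intro y hy
        show b * y * b⁻¹ ∈ X ⊔ Y
        exact Subgroup.mem_sup_right (hYA b hb y hy)
    exact hle hu
  · intro a ha ha1
    rintro g ⟨hg, hga⟩
    replace hga : g ∈ Subgroup.centralizer {a} := hga
    rw [Subgroup.mem_centralizer_singleton_iff] at hga
    -- hga : g * a = a * g
    obtain ⟨x0, hx0, y0, hy0, rfl⟩ :=
      Cfsg.Agent.Lib.Helper3_SupNormalizer.exists_mul_of_mem_sup X Y hn hg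
    have hconj : a * (x0 * y0) * a⁻¹ = x0 * y0 := by
      rw [← hga]; group
    have hkey : a * y0 * a⁻¹ * y0⁻¹ ∈ X ⊓ Y := by
      refine ⟨?_, Y.mul_mem (hYA a ha y0 hy0) (Y.inv_mem hy0)⟩
      have e : a * y0 * a⁻¹ * y0⁻¹ = (a * x0 * a⁻¹)⁻¹ * x0 := by
        have e2 : a * y0 * a⁻¹ = (a * x0 * a⁻¹)⁻¹ * (a * (x0 * y0) * a⁻¹) := by group
        rw [e2, hconj]; group
      rw [e]
      exact X.mul_mem (X.inv_mem (hXA a ha x0 hx0)) hx0
    let S : Set G := (fun n => n * y0) '' ((X ⊓ Y : Subgroup G) : Set G)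
    have hSfin : S.Finite := Set.toFinite S
    have hS : ∀ s ∈ S, a * s * a⁻¹ ∈ S := by
      rintro s ⟨n, hn', rfl⟩
      refine ⟨(a * n * a⁻¹) * (a * y0 * a⁻¹ * y0⁻¹), ?_, ?_⟩
      · exact (X ⊓ Y).mul_mem ⟨hXA a ha n hn'.1, hYA a ha n hn'.2⟩ hkey
      · show (a * n * a⁻¹) * (a * y0 * a⁻¹ * y0⁻¹) * y0 = a * (n * y0) * a⁻¹
        group
    have hcard : ¬ p ∣ Nat.card ↥S := by
      have e1 : Nat.card ↥S = Nat.card ↥(X ⊓ Y : Subgroup G) := by
        apply Nat.card_image_of_injective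
        intro u v huv
        exact mul_right_cancel huv
      rw [e1]
      intro hdiv
      exact hXp (hdiv.trans (Subgroup.card_dvd_of_le inf_le_left))
    have hap : IsPGroup p (Subgroup.zpowers a) :=
      Cfsg.Agent.Lib.Helper3_FixedSet.isPGroup_zpowers_of_pow_eq_one p a (hA.2 a ha)
    obtain ⟨s, ⟨n, hn', rfl⟩, hcomm⟩ :=
      Cfsg.Agent.Lib.Helper3_FixedSet.exists_comm_of_conj_invariant p a hap S hSfin hS hcard
    have hs1 : n * y0 ∈ θ a := by
      apply hYθ a ha ha1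
      have hcen : n * y0 ∈ Subgroup.centralizer {a} := by
        rw [Subgroup.mem_centralizer_singleton_iff]
        exact hcomm.symm
      exact ⟨Y.mul_mem hn'.2 hy0, hcen⟩
    have hs2 : x0 * n⁻¹ ∈ θ a := by
      apply hXθ a ha ha1
      have hcen : x0 * n⁻¹ ∈ Subgroup.centralizer {a} := by
        rw [Subgroup.mem_centralizer_singleton_iff]
        have e : x0 * n⁻¹ = (x0 * y0) * (n * y0)⁻¹ := by group
        rw [e]
        have c1 : Commute (x0 * y0) a := hga
        have c2 : Commute (n * y0) a := hcomm.symm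
        exact (c1.mul_left c2.inv_left).eq
      exact ⟨X.mul_mem hx0 (X.inv_mem hn'.1), hcen⟩
    have e : x0 * y0 = (x0 * n⁻¹) * (n * y0) := by group
    rw [e]
    exact (θ a).mul_mem hs2 hs1

end Cfsg.Agent.S1280
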