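import Cfsg.Statements.S1282
import Mathlib
import Cfsg.Agent.S1324
import Cfsg.Agent.S3735
import Cfsg.Agent.Lib.Lead_Schmidt
import Cfsg.Agent.Lib.Lead_Coprime

set_option autoImplicit false
open Cfsg

namespace Cfsg.Agent.S1282

open Cfsg.Agent.Lib.Lead_SZ Cfsg.Agent.Lib.Lead_Coprime Cfsg.Agent.Lib.Lead_Schmidt

open scoped Pointwise

theorem exists_hyperplane_centralizer {G : Type*} [Group G] [Finite G] (p : ℕ) [Fact p.Prime]
    (A : Subgroup G) (hA : Cfsg.IsElementaryAbelian p A) (hA2 : p ^ 2 ≤ Nat.card ↥A)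
    (q : ℕ) [Fact q.Prime] (hqp : q ≠ p) (Q D : Subgroup G) (hQ : IsPGroup q ↥Q)
    (hAQ : A ≤ Subgroup.normalizer (Q : Set G)) (hAD : A ≤ Subgroup.normalizer (D : Set G))
    (hDQ : D < Q) :
    ∃ B : Subgroup G, B ≤ A ∧ B.relIndex A ≤ p ∧
      ¬ (Subgroup.normalizer (D : Set G) ⊓ Q ⊓ Subgroup.centralizer (B : Set G) ≤ D) := by
  have hp : p.Prime := Fact.out
  have hq : q.Prime := Fact.out
  set N := Subgroup.normalizer (D : Set G) ⊓ Q with hN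
  have hAN : A ≤ Subgroup.normalizer (N : Set G) := le_normalizer_normalizer_inf A D Q hAD hAQ
  have hQnil : Group.IsNilpotent Q := hQ.isNilpotent
  obtain ⟨x, hxQ, hxN, hxD⟩ := exists_mem_normalizer_not_mem hQnil hDQ
  have hxN' : x ∈ N := Subgroup.mem_inf.mpr ⟨hxN, hxQ⟩
  have hNp : ¬ p ∣ Nat.card N := by
    obtain ⟨k, hk⟩ := IsPGroup.iff_card.mp hQ
    intro hdvd
    have h1 : p ∣ q ^ k := hk ▸ hdvd.trans (Subgroup.card_dvd_of_le inf_le_right)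
    exact hqp ((Nat.prime_dvd_prime_iff_eq hp hq).mp (hp.dvd_of_dvd_pow h1)).symm
  have hgen := Cfsg.Agent.S1324.result p A N hA hA2 hNp hAN
  by_contra hcon
  push_neg at hcon
  apply hxD
  have h1 : N ≤ D := by
    rw [hgen]
    apply iSup_le
    rintro ⟨B, hBA, hBrel⟩
    exact hcon B hBA hBrel
  exact h1 hxN'


/-- Let A be an elementary abelian p-subgroup of rank at least 3 of the finite group G, q ≠ p a prime, and Q₁, Q₂ q-subgroups normalized by A with D = Q₁ ∩ Q₂ different from both. Then there is a non-identity a ∈ A such that, for i = 1 and i = 2, N_{Q_i}(D) ∩ C_G(a) is not contained in D. -/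
theorem result {G : Type*} [Group G] [Finite G] (p : ℕ) [Fact p.Prime] (A : Subgroup G) (hA : Cfsg.IsElementaryAbelian p A) (hA3 : p ^ 3 ≤ Nat.card ↥A) (q : ℕ) [Fact q.Prime] (hqp : q ≠ p) (Q₁ Q₂ : Subgroup G) (h₁ : IsPGroup q ↥Q₁) (h₂ : IsPGroup q ↥Q₂) (hA₁ : A ≤ Subgroup.normalizer (Q₁ : Set G)) (hA₂ : A ≤ Subgroup.normalizer (Q₂ : Set G)) (hD₁ : Q₁ ⊓ Q₂ ≠ Q₁) (hD₂ : Q₁ ⊓ Q₂ ≠ Q₂) : ∃ a ∈ A, a ≠ 1 ∧ ¬ (Subgroup.normalizer ((Q₁ ⊓ Q₂ : Subgroup G) : Set G) ⊓ Q₁ ⊓ Subgroup.centralizer {a} ≤ Q₁ ⊓ Q₂) ∧ ¬ (Subgroup.normalizer ((Q₁ ⊓ Q₂ : Subgroup G) : Set G) ⊓ Q₂ ⊓ Subgroup.centralizer {a} ≤ Q₁ ⊓ Q₂) := by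
  classical
  have hp : p.Prime := Fact.out
  have hA2 : p ^ 2 ≤ Nat.card ↥A := le_trans (Nat.pow_le_pow_right hp.pos (by norm_num)) hA3
  set D := Q₁ ⊓ Q₂ with hD
  have hAD : A ≤ Subgroup.normalizer (D : Set G) := Cfsg.Agent.S3735.inv_inf A Q₁ Q₂ hA₁ hA₂
  have hDQ₁ : D < Q₁ := lt_of_le_of_ne inf_le_left hD₁
  have hDQ₂ : D < Q₂ := lt_of_le_of_ne inf_le_right hD₂
  obtain ⟨B₁, hB₁A, hB₁r, hB₁⟩ := exists_hyperplane_centralizer p A hA hA2 q hqp Q₁ D h₁ hA₁ hAD hDQ₁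
  obtain ⟨B₂, hB₂A, hB₂r, hB₂⟩ := exists_hyperplane_centralizer p A hA hA2 q hqp Q₂ D h₂ hA₂ hAD hDQ₂
  have hne : B₁ ⊓ B₂ ≠ ⊥ := by
    intro hbot
    have h1 : (B₁ ⊓ B₂).relIndex A ≤ p * p :=
      le_trans (Subgroup.relIndex_inf_le) (Nat.mul_le_mul hB₁r hB₂r)
    rw [hbot, Subgroup.relIndex_bot_left] at h1
    have h2 : p * p < p ^ 3 := by
      have e : p ^ 3 = p * p * p := by ring
      rw [e]
      nlinarith [hp.two_le, Nat.mul_pos hp.pos hp.pos]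
    omega
  obtain ⟨a, ha1⟩ := (Subgroup.ne_bot_iff_exists_ne_one).mp hne
  have haB₁ : (a : G) ∈ B₁ := (Subgroup.mem_inf.mp a.2).1
  have haB₂ : (a : G) ∈ B₂ := (Subgroup.mem_inf.mp a.2).2
  refine ⟨a, hB₁A haB₁, fun h => ha1 (Subtype.ext h), ?_, ?_⟩
  · intro hle
    apply hB₁
    refine le_trans (inf_le_inf_left _ (Subgroup.centralizer_le ?_)) hle
    intro y hy
    rw [Set.mem_singleton_iff] at hy
    rw [hy]
    exact haB₁
  · intro hle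
    apply hB₂
    refine le_trans (inf_le_inf_left _ (Subgroup.centralizer_le ?_)) hle
    intro y hy
    rw [Set.mem_singleton_iff] at hy
    rw [hy]
    exact haB₂

end Cfsg.Agent.S1282
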