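import Cfsg.Statements.S0001
import Cfsg.Agent.Lib.Lead_SZ

set_option autoImplicit false
open Pointwise
open Cfsg

namespace Cfsg.Agent.S0001

open Cfsg.Agent.Lib.Lead_SZ

/-- Conjugacy half of the Schur–Zassenhaus Theorem, under a solvability assumption on the normal Hall subgroup or on its quotient. -/
theorem result {G : Type*} [Group G] [Finite G] (N : Subgroup G) [N.Normal]
    (hN : (Nat.card N).Coprime N.index) (hsolv : Group.IsSolvable N ∨ Group.IsSolvable (G ⧸ N))
    (H K : Subgroup G) (hH : Subgroup.IsComplement' N H) (hK : Subgroup.IsComplement' N K) :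
    ∃ g : G, MulAut.conj g • H = K := by
  apply sz_conj_complement N hN H K _ hH hK
  rcases hsolv with h | h
  · exact Or.inl h
  · right
    -- H ≃* G ⧸ N
    have hinj : Function.Injective ((QuotientGroup.mk' N).comp H.subtype) := by
      rw [injective_iff_map_eq_one]
      intro x hx
      have h1 : (x : G) ∈ N := by
        have : (QuotientGroup.mk' N) (x : G) = 1 := hx
        exact (QuotientGroup.eq_one_iff _).mp this
      have h2 : (x : G) ∈ N ⊓ H := ⟨h1, x.2⟩
      rw [hH.disjoint.eq_bot, Subgroup.mem_bot] at h2
      exact Subtype.ext h2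
    exact solvable_of_solvable_injective hinj

end Cfsg.Agent.S0001
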