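import Cfsg.Statements.S0006
import Cfsg.Agent.Lib.Helper2_ClassFn
import Cfsg.Agent.Lib.Helper2_CharBasic
import Cfsg.Agent.Lib.Helper2_CharOrtho
import Cfsg.Agent.Lib.Helper2_Clifford
import Cfsg.Agent.Lib.Helper2_CharMore
import Cfsg.Agent.Lib.Helper2_CharNorm
import Cfsg.Agent.Lib.Helper2_CharValues
import Cfsg.Agent.Lib.Helper2_CharComplete
import Cfsg.Agent.Lib.Helper2_CharInd
import Cfsg.Agent.Lib.Helper2_CharTable
import Cfsg.Agent.Lib.Helper2_CharFrob
import Cfsg.Agent.Lib.Helper2_CharDeg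
import Cfsg.Agent.Lib.Helper2_CharSum
import Cfsg.Agent.Lib.Helper2_CharExtra
import Cfsg.Agent.Lib.Helper2_CharCentral
import Cfsg.Agent.Lib.Helper2_PermChar
import Cfsg.Agent.Lib.Helper2_FrobSchur
import Cfsg.Agent.Lib.Helper2_CliffordCorr
import Cfsg.Agent.Lib.Helper2_CharKernel
import Cfsg.Agent.Lib.Helper2_CyclicTI
import Cfsg.Agent.Lib.Helper2_CharGalois
import Cfsg.Agent.Lib.Helper2_CharInt
import Cfsg.Agent.Lib.Helper2_CharBurnside
import Cfsg.Agent.Lib.Helper2_CharCenter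
import Cfsg.Agent.Lib.Helper2_Ito
import Cfsg.Agent.Lib.Helper2_HallConverse

set_option autoImplicit false
open Cfsg

namespace Cfsg.Agent.S0006

open Cfsg.Agent.Lib.Helper2_ClassFn Cfsg.Agent.Lib.Helper2_CharBasic Cfsg.Agent.Lib.Helper2_CharOrtho Cfsg.Agent.Lib.Helper2_Clifford Cfsg.Agent.Lib.Helper2_CharMore Cfsg.Agent.Lib.Helper2_CharNorm Cfsg.Agent.Lib.Helper2_CharValues Cfsg.Agent.Lib.Helper2_CharComplete Cfsg.Agent.Lib.Helper2_CharInd Cfsg.Agent.Lib.Helper2_CharTable Cfsg.Agent.Lib.Helper2_CharFrob Cfsg.Agent.Lib.Helper2_CharDeg Cfsg.Agent.Lib.Helper2_CharSum Cfsg.Agent.Lib.Helper2_CharExtra Cfsg.Agent.Lib.Helper2_CharCentral Cfsg.Agent.Lib.Helper2_PermChar Cfsg.Agent.Lib.Helper2_FrobSchur Cfsg.Agent.Lib.Helper2_CliffordCorr Cfsg.Agent.Lib.Helper2_CharKernel Cfsg.Agent.Lib.Helper2_CyclicTI Cfsg.Agent.Lib.Helper2_CharGalois Cfsg.Agent.Lib.Helper2_CharInt Cfsg.Agent.Lib.Helper2_CharBurnside Cfsg.Agent.Lib.Helper2_CharCenter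 Cfsg.Agent.Lib.Helper2_Ito
open scoped Pointwise
open Cfsg.Agent.Lib.Helper2_HallConverse


/-- Converse of Hall's Theorem: if for every prime p a finite group has a subgroup of index equal to the p-part of the group order (a Hall p-complement), then the group is solvable. -/
theorem result {G : Type*} [Group G] [Finite G]
    (h : ∀ p : ℕ, p.Prime → ∃ H : Subgroup G, H.index = p ^ (Nat.card G).factorization p) :
    Group.IsSolvable G := by
  apply solvable_of_hasCompl (Nat.card G) G rfl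
  intro p hp
  obtain ⟨H, hH⟩ := h p hp
  exact ⟨H, isPCompl_of_index p hp H hH⟩

end Cfsg.Agent.S0006
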