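import Cfsg.Statements.S0007
import Mathlib.Tactic

set_option autoImplicit false
open Pointwise
open Cfsg

namespace Cfsg.Agent.S0007

/-- Subgroups of coprime index: the intersection has index equal to the product of the indices, and every element is a product of an element of the first subgroup and an element of the second. -/
theorem result {G : Type*} [Group G] [Finite G] (H K : Subgroup G)
    (h : H.index.Coprime K.index) :
    (H ⊓ K).index = H.index * K.index ∧ ∀ g : G, ∃ x ∈ H, ∃ y ∈ K, g = x * y := by
  have h1 : (H ⊓ K).index = H.index * K.index := by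
    apply Nat.le_antisymm (Subgroup.index_inf_le)
    apply Nat.le_of_dvd (Nat.pos_of_ne_zero Subgroup.index_ne_zero_of_finite)
    exact Nat.Coprime.mul_dvd_of_dvd_of_dvd h (Subgroup.index_dvd_of_le inf_le_left)
      (Subgroup.index_dvd_of_le inf_le_right)
  refine ⟨h1, ?_⟩
  have h2 : H.relIndex K = H.index := by
    have := Subgroup.relIndex_mul_index (inf_le_right : H ⊓ K ≤ K)
    rw [Subgroup.inf_relIndex_right, h1] at this
    exact Nat.eq_of_mul_eq_mul_right (Nat.pos_of_ne_zero Subgroup.index_ne_zero_of_finite) this
  let f : K ⧸ H.subgroupOf K → G ⧸ H :=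
    Quotient.map' (fun k : K => (k : G)) (by
      intro a b hab
      rw [QuotientGroup.leftRel_apply] at hab ⊢
      exact hab)
  have hf : Function.Injective f := by
    intro a b
    induction a using Quotient.inductionOn' with | _ a => ?_
    induction b using Quotient.inductionOn' with | _ b => ?_
    intro hab
    simp only [f, Quotient.map'_mk''] at hab
    rw [Quotient.eq''] at hab ⊢
    rw [QuotientGroup.leftRel_apply] at hab ⊢
    exact hab
  have hbij : Function.Bijective f := by
    apply hf.bijective_of_nat_card_le
    show H.index ≤ H.relIndex K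
    rw [h2]
  intro g
  obtain ⟨q, hq⟩ := hbij.2 (QuotientGroup.mk g⁻¹)
  induction q using Quotient.inductionOn' with | _ k => ?_
  simp only [f, Quotient.map'_mk''] at hq
  have hq' : ((k : G) : G ⧸ H) = ((g⁻¹ : G) : G ⧸ H) := hq
  rw [QuotientGroup.eq] at hq'
  refine ⟨((k : G)⁻¹ * g⁻¹)⁻¹, H.inv_mem hq', (k : G)⁻¹, K.inv_mem k.2, ?_⟩
  group

end Cfsg.Agent.S0007
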