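import Cfsg.Statements.S0011
import Mathlib

set_option autoImplicit false
open Cfsg

namespace Cfsg.Agent.S0011

/-- If the Frattini quotient of a finite group is nilpotent then the group is nilpotent. -/
theorem result {G : Type*} [Group G] [Finite G]
    (h : Group.IsNilpotent (G ⧸ frattini G)) : Group.IsNilpotent G := by
  haveI := h
  apply (Group.isNilpotent_of_finite_tfae.out 0 3).mpr
  intro p hp P
  have hsurj := QuotientGroup.mk'_surjective (frattini G)
  have hQn : ((P.mapSurjective hsurj : Sylow p (G ⧸ frattini G)) : Subgroup (G ⧸ frattini G)).Normal :=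
    Sylow.normal_of_normalizerCondition normalizerCondition_of_isNilpotent _
  have hNn : (((P : Subgroup G).map (QuotientGroup.mk' (frattini G))).comap
      (QuotientGroup.mk' (frattini G))).Normal := by
    rw [← Sylow.coe_mapSurjective hsurj]
    exact hQn.comap _
  rw [Subgroup.comap_map_eq, QuotientGroup.ker_mk'] at hNn
  haveI := hNn
  have h1 := Sylow.normalizer_sup_eq_top' P (le_sup_left : (P : Subgroup G) ≤ (P : Subgroup G) ⊔ frattini G)
  have h2 : Subgroup.normalizer ((P : Subgroup G) : Set G) ⊔ frattini G = ⊤ := by
    rw [eq_top_iff, ← h1]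
    refine sup_le le_sup_left (sup_le ?_ le_sup_right)
    exact le_sup_of_le_left Subgroup.le_normalizer
  have h3 := frattini_nongenerating h2
  exact Subgroup.normalizer_eq_top_iff.mp h3

end Cfsg.Agent.S0011
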