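import Cfsg.Statements.S0013
import Mathlib
import Cfsg.Agent.Lib.Lead_SZ

set_option autoImplicit false
open Cfsg

namespace Cfsg.Agent.S0013

open commutatorElement

/-- In a finite p-group the Frattini subgroup is the smallest normal subgroup with elementary abelian quotient: it lies below any normal subgroup containing all commutators and all p-th powers. -/
theorem result {G : Type*} [Group G] [Finite G] (p : ℕ) [Fact p.Prime]
    (hG : IsPGroup p G) (N : Subgroup G) [N.Normal] (hcomm : commutator G ≤ N) (hpow : ∀ x : G, x ^ p ∈ N) :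
    frattini G ≤ N := by
  classical
  have hp : p.Prime := Fact.out
  intro x hxΦ
  by_contra hxN
  -- choose M maximal with N ≤ M, x ∉ M
  have hne : Nonempty {M : Subgroup G // N ≤ M ∧ x ∉ M} := ⟨⟨N, le_rfl, hxN⟩⟩
  obtain ⟨⟨M, hNM, hxM⟩, hmax⟩ := Finite.exists_max
    (fun M : {M : Subgroup G // N ≤ M ∧ x ∉ M} => Nat.card M.1)
  have hmax' : ∀ L : Subgroup G, M < L → x ∈ L := by
    intro L hML
    by_contra hxL
    have h1 := hmax ⟨L, hNM.trans hML.le, hxL⟩
    have h2 := Cfsg.Agent.Lib.Lead_SZ.card_lt hML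
    simp only at h1
    omega
  have hMn : M.Normal := by
    constructor
    intro m hm g
    have h1 : ⁅g, m⁆ ∈ M := hNM (hcomm (Subgroup.commutator_mem_commutator
      (Subgroup.mem_top g) (Subgroup.mem_top m)))
    have e : g * m * g⁻¹ = ⁅g, m⁆ * m := by simp only [commutatorElement_def]; group
    rw [e]; exact M.mul_mem h1 hm
  have hco : IsCoatom M := by
    refine ⟨fun h => hxM (h ▸ Subgroup.mem_top x), ?_⟩
    intro L hML
    rw [eq_top_iff]
    intro g _
    by_cases hgM : g ∈ M
    · exact hML.le hgM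
    · have hlt : M < M ⊔ Subgroup.zpowers g := by
        refine lt_of_le_of_ne le_sup_left ?_
        intro heq
        apply hgM
        rw [heq]
        exact Subgroup.mem_sup_right (Subgroup.mem_zpowers g)
      have hx1 := hmax' _ hlt
      rw [sup_comm, ← SetLike.mem_coe, Subgroup.mul_normal (Subgroup.zpowers g) M] at hx1
      obtain ⟨y, hy, m, hm, hym⟩ := hx1
      obtain ⟨k, rfl⟩ := Subgroup.mem_zpowers_iff.mp hy
      have hxL : x ∈ L := hmax' L hML
      have hgkL : g ^ k ∈ L := by
        have e : g ^ k = x * m⁻¹ := by rw [← hym]; group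
        rw [e]; exact L.mul_mem hxL (L.inv_mem (hML.le hm))
      have hgp : g ^ (p : ℤ) ∈ L := by
        rw [zpow_natCast]; exact hML.le (hNM (hpow g))
      have hpk : ¬ (p : ℤ) ∣ k := by
        rintro ⟨l, rfl⟩
        apply hxM
        rw [← hym]
        refine M.mul_mem ?_ hm
        rw [zpow_mul, zpow_natCast]
        exact M.zpow_mem (hNM (hpow g)) l
      have hcop : IsCoprime (p : ℤ) k :=
        ((Nat.prime_iff_prime_int.mp hp).irreducible.coprime_iff_not_dvd).mpr hpk
      obtain ⟨a, b, hab⟩ := hcop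
      have e : g = (g ^ (p : ℤ)) ^ a * (g ^ k) ^ b := by
        rw [← zpow_mul, ← zpow_mul, ← zpow_add, mul_comm (p : ℤ) a, mul_comm k b, hab, zpow_one]
      rw [e]
      exact L.mul_mem (L.zpow_mem hgp a) (L.zpow_mem hgkL b)
  exact hxM (frattini_le_coatom hco hxΦ)

end Cfsg.Agent.S0013
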