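import Cfsg.Statements.S0018
import Mathlib
import Cfsg.Agent.S0017
import Cfsg.Agent.Lib.Lead_Hall
import Cfsg.Agent.Lib.Helper5_PPrime
import Cfsg.Agent.Lib.Helper4_PCore

set_option autoImplicit false
open Cfsg

namespace Cfsg.Agent.S0018

/-- A finite solvable group whose Sylow p-subgroups are abelian has p-length one: a Sylow p-subgroup together with the largest normal subgroup of order prime to p generates a normal subgroup. -/
theorem result {G : Type*} [Group G] [Finite G] [Group.IsSolvable G]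
    (p : ℕ) [Fact p.Prime] (P : Sylow p G) (hP : IsMulCommutative P) :
    ((P : Subgroup G) ⊔ Cfsg.pPrimeCore p G).Normal := by
  classical
  have hp : p.Prime := Fact.out
  haveI hKn : (Cfsg.pPrimeCore p G).Normal := Cfsg.Agent.Lib.Helper5_PPrime.pPrimeCore_normal p G
  have hKc : (Nat.card (Cfsg.pPrimeCore p G)).Coprime p :=
    Cfsg.Agent.Lib.Helper5_PPrime.pPrimeCore_coprime p G
  -- O_{p'} of the quotient is trivial
  have h1 : Cfsg.pPrimeCore p (G ⧸ Cfsg.pPrimeCore p G) = ⊥ := by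
    rw [eq_bot_iff]
    apply sSup_le
    rintro N ⟨hNn, hNc⟩
    haveI := hNn
    have hMn : (N.comap (QuotientGroup.mk' (Cfsg.pPrimeCore p G))).Normal := inferInstance
    have hMc : (Nat.card (N.comap (QuotientGroup.mk' (Cfsg.pPrimeCore p G)))).Coprime p := by
      rw [Cfsg.Agent.Lib.Lead_Hall.card_comap_mk]
      exact Nat.Coprime.mul_left hNc hKc
    have hle : N.comap (QuotientGroup.mk' (Cfsg.pPrimeCore p G)) ≤ Cfsg.pPrimeCore p G :=
      Cfsg.Agent.Lib.Helper5_PPrime.le_pPrimeCore _ hMc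
    intro x hx
    obtain ⟨g, rfl⟩ := QuotientGroup.mk_surjective x
    rw [Subgroup.mem_bot]
    exact (QuotientGroup.eq_one_iff g).mpr (hle hx)
  have h2 := Cfsg.Agent.S0017.result (G := G ⧸ Cfsg.pPrimeCore p G) p h1
  -- the image of P
  have hsurj := QuotientGroup.mk'_surjective (Cfsg.pPrimeCore p G)
  have h3 : Cfsg.pCore p (G ⧸ Cfsg.pPrimeCore p G) ≤
      (P : Subgroup G).map (QuotientGroup.mk' (Cfsg.pPrimeCore p G)) := by
    have := Cfsg.Agent.Lib.Helper4_PCore.pCore_le_sylow (P.mapSurjective hsurj)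
    rwa [Sylow.coe_mapSurjective] at this
  have h4 : (P : Subgroup G).map (QuotientGroup.mk' (Cfsg.pPrimeCore p G)) ≤
      Subgroup.centralizer (Cfsg.pCore p (G ⧸ Cfsg.pPrimeCore p G) : Set _) := by
    rintro _ ⟨x, hx, rfl⟩
    rw [Subgroup.mem_centralizer_iff]
    intro y hy
    obtain ⟨z, hz, rfl⟩ := h3 hy
    have hc : z * x = x * z := by
      have := mul_comm' (⟨z, hz⟩ : (P : Subgroup G)) ⟨x, hx⟩
      exact congrArg Subtype.val this
    rw [← map_mul, ← map_mul, hc]
  have h5 : (P : Subgroup G).map (QuotientGroup.mk' (Cfsg.pPrimeCore p G)) =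
      Cfsg.pCore p (G ⧸ Cfsg.pPrimeCore p G) := le_antisymm (h4.trans h2) h3
  have h6 : ((P : Subgroup G).map (QuotientGroup.mk' (Cfsg.pPrimeCore p G))).Normal := by
    rw [h5]; exact Cfsg.Agent.Lib.Helper4_PCore.pCore_normal p _
  have h7 : (P : Subgroup G) ⊔ Cfsg.pPrimeCore p G =
      ((P : Subgroup G).map (QuotientGroup.mk' (Cfsg.pPrimeCore p G))).comap
        (QuotientGroup.mk' (Cfsg.pPrimeCore p G)) := by
    rw [Subgroup.comap_map_eq, QuotientGroup.ker_mk']
  rw [h7]
  exact h6.comap _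

end Cfsg.Agent.S0018
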