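import Cfsg.Statements.S0019
import Cfsg.Agent.Lib.Helper2_ClassFn
import Cfsg.Agent.Lib.Helper2_CharBasic
import Cfsg.Agent.Lib.Helper2_CharOrtho
import Cfsg.Agent.Lib.Helper2_Clifford
import Cfsg.Agent.Lib.Helper2_CharMore
import Cfsg.Agent.Lib.Helper2_CharNorm
import Cfsg.Agent.Lib.Helper2_CharValues
import Cfsg.Agent.Lib.Helper2_CharComplete
import Cfsg.Agent.Lib.Helper2_CharInd
import Cfsg.Agent.Lib.Helper2_CharTable
import Cfsg.Agent.Lib.Helper2_CharFrob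
import Cfsg.Agent.Lib.Helper2_CharDeg
import Cfsg.Agent.Lib.Helper2_CharSum
import Cfsg.Agent.Lib.Helper2_CharExtra
import Cfsg.Agent.Lib.Helper2_CharCentral
import Cfsg.Agent.Lib.Helper2_PermChar
import Cfsg.Agent.Lib.Helper2_FrobSchur
import Cfsg.Agent.Lib.Helper2_CliffordCorr
import Cfsg.Agent.Lib.Helper2_CharKernel
import Cfsg.Agent.Lib.Helper2_CyclicTI
import Cfsg.Agent.Lib.Helper2_CharGalois
import Cfsg.Agent.Lib.Helper2_CharInt
import Cfsg.Agent.Lib.Helper2_CharBurnside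
import Cfsg.Agent.Lib.Helper2_CharCenter
import Cfsg.Agent.Lib.Helper2_Ito
import Cfsg.Agent.Lib.Helper2_HallConverse

set_option autoImplicit false
open Cfsg

namespace Cfsg.Agent.S0019

open Cfsg.Agent.Lib.Helper2_ClassFn Cfsg.Agent.Lib.Helper2_CharBasic Cfsg.Agent.Lib.Helper2_CharOrtho Cfsg.Agent.Lib.Helper2_Clifford Cfsg.Agent.Lib.Helper2_CharMore Cfsg.Agent.Lib.Helper2_CharNorm Cfsg.Agent.Lib.Helper2_CharValues Cfsg.Agent.Lib.Helper2_CharComplete Cfsg.Agent.Lib.Helper2_CharInd Cfsg.Agent.Lib.Helper2_CharTable Cfsg.Agent.Lib.Helper2_CharFrob Cfsg.Agent.Lib.Helper2_CharDeg Cfsg.Agent.Lib.Helper2_CharSum Cfsg.Agent.Lib.Helper2_CharExtra Cfsg.Agent.Lib.Helper2_CharCentral Cfsg.Agent.Lib.Helper2_PermChar Cfsg.Agent.Lib.Helper2_FrobSchur Cfsg.Agent.Lib.Helper2_CliffordCorr Cfsg.Agent.Lib.Helper2_CharKernel Cfsg.Agent.Lib.Helper2_CyclicTI Cfsg.Agent.Lib.Helper2_CharGalois Cfsg.Agent.Lib.Helper2_CharInt Cfsg.Agent.Lib.Helper2_CharBurnside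 Cfsg.Agent.Lib.Helper2_CharCenter Cfsg.Agent.Lib.Helper2_Ito
open scoped Pointwise
open Cfsg.Agent.Lib.Helper2_HallConverse Cfsg.Agent.Lib.Helper1_MinNormal

/-- A `q`-subgroup normalized by `H₁` lies in `H₂` when `G = H₁ H₂` and `q ∤ [G : H₂]`. -/
theorem le_of_factor_of_not_dvd {G : Type*} [Group G] [Finite G] (H₁ H₂ N : Subgroup G)
    (q d : ℕ) (hq : q.Prime) (hN : Nat.card N = q ^ d)
    (hnorm : ∀ h ∈ H₁, ∀ n ∈ N, h * n * h⁻¹ ∈ N)
    (h12 : ∀ g : G, ∃ x ∈ H₁, ∃ y ∈ H₂, g = x * y) (hnd : ¬ q ∣ H₂.index) : N ≤ H₂ := by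
  haveI : Fact q.Prime := ⟨hq⟩
  have hpg : IsPGroup q N := IsPGroup.of_card hN
  have hnd' : ¬ q ∣ Nat.card (G ⧸ H₂) := by
    rw [← Subgroup.index_eq_card]; exact hnd
  obtain ⟨a, ha⟩ := hpg.nonempty_fixed_point_of_prime_not_dvd_card (G ⧸ H₂) hnd'
  induction a using QuotientGroup.induction_on with
  | H g =>
  obtain ⟨x, hx, y, hy, rfl⟩ := h12 g
  -- every `n ∈ N` satisfies `(x y)⁻¹ n (x y) ∈ H₂`
  have hfix : ∀ n ∈ N, (x * y)⁻¹ * n * (x * y) ∈ H₂ := by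
    intro n hn
    have h1 := ha ⟨n, hn⟩
    have h2 : ((n * (x * y) : G) : G ⧸ H₂) = ((x * y : G) : G ⧸ H₂) := h1
    rw [QuotientGroup.eq] at h2
    have h3 : (n * (x * y))⁻¹ * (x * y) = ((x * y)⁻¹ * n * (x * y))⁻¹ := by group
    rw [h3] at h2
    exact (H₂.inv_mem_iff).mp h2
  intro n hn
  -- write `n = x⁻¹ n' x` with `n' = x n x⁻¹ ∈ N`
  have hn' : x * n * x⁻¹ ∈ N := hnorm x hx n hn
  have h4 := hfix _ hn'
  have h5 : (x * y)⁻¹ * (x * n * x⁻¹) * (x * y) = y⁻¹ * n * y := by group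
  rw [h5] at h4
  have h6 : n = y * (y⁻¹ * n * y) * y⁻¹ := by group
  rw [h6]
  exact H₂.mul_mem (H₂.mul_mem hy h4) (H₂.inv_mem hy)

theorem factor_solvable_aux.{u} : ∀ n : ℕ, ∀ (G : Type u) [Group G] [Finite G]
    (H₁ H₂ H₃ : Subgroup G), Nat.card G = n →
    Group.IsSolvable H₁ → Group.IsSolvable H₂ → Group.IsSolvable H₃ →
    (∀ g : G, ∃ x ∈ H₁, ∃ y ∈ H₂, g = x * y) → (∀ g : G, ∃ x ∈ H₁, ∃ y ∈ H₃, g = x * y) →
    H₂.index.Coprime H₃.index → Group.IsSolvable G := by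
  intro n
  induction n using Nat.strong_induction_on with
  | _ n ih =>
  intro G _ _ H₁ H₂ H₃ hcard h₁ h₂ h₃ h12 h13 hcop
  by_cases hbot : H₁ = ⊥
  · -- `G = H₂`
    have htop : H₂ = ⊤ := by
      rw [eq_top_iff]
      intro g _
      obtain ⟨x, hx, y, hy, rfl⟩ := h12 g
      rw [hbot, Subgroup.mem_bot] at hx
      rw [hx, one_mul]; exact hy
    rw [htop] at h₂
    exact Group.isSolvable_of_surjective (f := (⊤ : Subgroup G).subtype)
      (fun g => ⟨⟨g, trivial⟩, rfl⟩)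
  haveI : Nontrivial H₁ := (Subgroup.nontrivial_iff_ne_bot H₁).mpr hbot
  obtain ⟨N, hNn, hNbot, hNmin⟩ := exists_minimal_normal (G := H₁)
  haveI := hNn
  haveI := h₁
  obtain ⟨q, d, hq, hd, hNcard⟩ := exists_card_eq_prime_pow N hNbot hNmin
  set NG : Subgroup G := N.map H₁.subtype with hNG
  have hNGcard : Nat.card NG = q ^ d := by
    rw [hNG, Subgroup.card_map_of_injective (Subgroup.subtype_injective H₁), hNcard]
  have hnorm : ∀ h ∈ H₁, ∀ n ∈ NG, h * n * h⁻¹ ∈ NG := by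
    rintro h hh _ ⟨x, hx, rfl⟩
    exact ⟨⟨h, hh⟩ * x * ⟨h, hh⟩⁻¹, hNn.conj_mem x hx ⟨h, hh⟩, by simp⟩
  have hNGbot : NG ≠ ⊥ := by
    intro h
    apply hNbot
    rw [hNG, Subgroup.map_eq_bot_iff_of_injective _ (Subgroup.subtype_injective H₁)] at h
    exact h
  -- a solvable nontrivial normal subgroup
  have hM : ∃ M : Subgroup G, M.Normal ∧ M ≠ ⊥ ∧ Group.IsSolvable M := by
    have hsplit : ¬ q ∣ H₂.index ∨ ¬ q ∣ H₃.index := by
      by_contra hcon
      push Not at hcon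
      have := Nat.eq_one_of_dvd_coprimes hcop hcon.1 hcon.2
      exact hq.one_lt.ne' this
    have hinv : ∀ (K : Subgroup G), (∀ g : G, ∃ x ∈ H₁, ∃ y ∈ K, g = x * y) →
        ∀ g : G, ∃ k ∈ K, ∃ h ∈ H₁, g = k * h := by
      intro K hK g
      obtain ⟨x, hx, y, hy, hg⟩ := hK g⁻¹
      refine ⟨y⁻¹, K.inv_mem hy, x⁻¹, H₁.inv_mem hx, ?_⟩
      rw [← mul_inv_rev, ← hg, inv_inv]
    rcases hsplit with hnd | hnd
    · have hle := le_of_factor_of_not_dvd H₁ H₂ NG q d hq hNGcard hnorm h12 hnd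
      refine ⟨Subgroup.normalClosure (NG : Set G), Subgroup.normalClosure_normal, ?_, ?_⟩
      · intro h
        apply hNGbot
        have h2 : NG ≤ Subgroup.normalClosure (NG : Set G) := Subgroup.le_normalClosure
        rw [h, le_bot_iff] at h2
        exact h2
      · exact solvable_of_le (normalClosure_le_of_factor NG H₂ H₁ hle hnorm (hinv H₂ h12)) h₂
    · have hle := le_of_factor_of_not_dvd H₁ H₃ NG q d hq hNGcard hnorm h13 hnd
      refine ⟨Subgroup.normalClosure (NG : Set G), Subgroup.normalClosure_normal, ?_, ?_⟩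
      · intro h
        apply hNGbot
        have h2 : NG ≤ Subgroup.normalClosure (NG : Set G) := Subgroup.le_normalClosure
        rw [h, le_bot_iff] at h2
        exact h2
      · exact solvable_of_le (normalClosure_le_of_factor NG H₃ H₁ hle hnorm (hinv H₃ h13)) h₃
  obtain ⟨M, hMn, hMbot, hMsolv⟩ := hM
  haveI := hMn
  apply solvable_of_normal M hMsolv
  have hlt := card_quotient_lt M hMbot
  have hmapsolv : ∀ K : Subgroup G, Group.IsSolvable K →
      Group.IsSolvable (K.map (QuotientGroup.mk' M)) := by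
    intro K hK
    haveI := hK
    exact Group.isSolvable_of_surjective
      (f := ((QuotientGroup.mk' M).subgroupMap K)) ((QuotientGroup.mk' M).subgroupMap_surjective K)
  have hfacmap : ∀ K : Subgroup G, (∀ g : G, ∃ x ∈ H₁, ∃ y ∈ K, g = x * y) →
      ∀ g : G ⧸ M, ∃ x ∈ H₁.map (QuotientGroup.mk' M), ∃ y ∈ K.map (QuotientGroup.mk' M),
        g = x * y := by
    intro K hK g
    induction g using QuotientGroup.induction_on with
    | H g =>
    obtain ⟨x, hx, y, hy, rfl⟩ := hK g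
    exact ⟨_, Subgroup.mem_map_of_mem _ hx, _, Subgroup.mem_map_of_mem _ hy, rfl⟩
  refine ih _ (hcard ▸ hlt) (G ⧸ M) (H₁.map (QuotientGroup.mk' M)) (H₂.map (QuotientGroup.mk' M))
    (H₃.map (QuotientGroup.mk' M)) rfl (hmapsolv _ h₁) (hmapsolv _ h₂) (hmapsolv _ h₃)
    (hfacmap H₂ h12) (hfacmap H₃ h13) ?_
  exact Nat.Coprime.coprime_dvd_left (Subgroup.index_map_dvd H₂ (QuotientGroup.mk'_surjective M))
    (Nat.Coprime.coprime_dvd_right (Subgroup.index_map_dvd H₃ (QuotientGroup.mk'_surjective M))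
      hcop)


/-- A finite group that factorises as H₁H₂ and as H₁H₃ with all three subgroups solvable and the indices of H₂ and H₃ coprime is solvable. -/
theorem result {G : Type*} [Group G] [Finite G] (H₁ H₂ H₃ : Subgroup G)
    (h₁ : Group.IsSolvable H₁) (h₂ : Group.IsSolvable H₂) (h₃ : Group.IsSolvable H₃)
    (h12 : ∀ g : G, ∃ x ∈ H₁, ∃ y ∈ H₂, g = x * y) (h13 : ∀ g : G, ∃ x ∈ H₁, ∃ y ∈ H₃, g = x * y)
    (hcop : H₂.index.Coprime H₃.index) : Group.IsSolvable G := by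
  exact factor_solvable_aux (Nat.card G) G H₁ H₂ H₃ rfl h₁ h₂ h₃ h12 h13 hcop

end Cfsg.Agent.S0019
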