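import Cfsg.Statements.S0020
import Mathlib
import Cfsg.Agent.Lib.Lead_Hall

set_option autoImplicit false
open Pointwise
open Cfsg

namespace Cfsg.Agent.S0020


theorem index_inf_of_coprime {G : Type*} [Group G] [Finite G] (H K : Subgroup G)
    (h : H.index.Coprime K.index) : (H ⊓ K).index = H.index * K.index := by
  have h1 : H.index ∣ (H ⊓ K).index := Subgroup.index_dvd_of_le inf_le_left
  have h2 : K.index ∣ (H ⊓ K).index := Subgroup.index_dvd_of_le inf_le_right
  have h3 := h.mul_dvd_of_dvd_of_dvd h1 h2
  have h4 := Subgroup.index_inf_le (H := H) (K := K)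
  have h5 : (H ⊓ K).index ≠ 0 := Subgroup.index_ne_zero_of_finite
  exact le_antisymm h4 (Nat.le_of_dvd (Nat.pos_of_ne_zero h5) h3)

theorem mul_subset_of_complement {G : Type*} [Group G] {A B D : Subgroup G} (hA : A ≤ D) (hB : B ≤ D)
    (hc : Subgroup.IsComplement' (B.subgroupOf D) (A.subgroupOf D)) :
    (A : Set G) * (B : Set G) ⊆ (B : Set G) * (A : Set G) := by
  rintro x ⟨s, hs, t, ht, rfl⟩
  have hx : s * t ∈ D := D.mul_mem (hA hs) (hB ht)
  obtain ⟨b, hb, a, ha, e⟩ := Cfsg.Agent.Lib.Lead_SZ.exists_mul_of_complement hc ⟨s * t, hx⟩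
  refine ⟨b, Subgroup.mem_subgroupOf.mp hb, a, Subgroup.mem_subgroupOf.mp ha, ?_⟩
  have := congrArg Subtype.val e
  rw [Subgroup.coe_mul] at this
  exact this.symm

theorem erase_prod (a : ℕ → ℕ) (T : Finset ℕ) (t : ℕ) (h : t ∉ T → a t = 0) :
    t ^ a t * ∏ r ∈ T.erase t, r ^ a r = ∏ r ∈ T, r ^ a r := by
  by_cases ht : t ∈ T
  · exact Finset.mul_prod_erase T (fun r => r ^ a r) ht
  · rw [Finset.erase_eq_of_notMem ht, h ht, pow_zero, one_mul]


/-- A finite solvable group admits a Sylow system: Sylow subgroups, one for each prime, that pairwise permute as sets. -/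
theorem result {G : Type*} [Group G] [Finite G] [Group.IsSolvable G] :
    ∃ S : (p : Nat.Primes) → Sylow (p : ℕ) G,
      ∀ p q : Nat.Primes, (S p : Set G) * (S q : Set G) = (S q : Set G) * (S p : Set G) := by
  classical
  have hn0 : Nat.card G ≠ 0 := Nat.card_pos.ne'
  -- p-complements
  have hK : ∀ p : ℕ, p.Prime → ∃ K : Subgroup G, K.index = p ^ (Nat.card G).factorization p := by
    intro p hp
    have hmul : Nat.card G = (Nat.card G / p ^ (Nat.card G).factorization p) * p ^ (Nat.card G).factorization p := by
      rw [mul_comm]; exact (Nat.ordProj_mul_ordCompl_eq_self (Nat.card G) p).symm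
    have hcop : (Nat.card G / p ^ (Nat.card G).factorization p).Coprime (p ^ (Nat.card G).factorization p) :=
      (Nat.Coprime.pow_left _ (Nat.coprime_ordCompl hp hn0)).symm
    obtain ⟨⟨K, hKc⟩, -, -⟩ := Cfsg.Agent.Lib.Lead_Hall.hall G _ _ hmul hcop
    refine ⟨K, ?_⟩
    have h1 := Subgroup.card_mul_index K
    rw [hKc] at h1
    have hpos : 0 < Nat.card G / p ^ (Nat.card G).factorization p := Nat.ordCompl_pos p hn0
    exact Nat.eq_of_mul_eq_mul_left hpos (h1.trans hmul)
  choose! K hK using hK
  -- intersections
  have hD : ∀ T : Finset ℕ, (∀ r ∈ T, r.Prime) →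
      (T.inf K).index = ∏ r ∈ T, r ^ (Nat.card G).factorization r := by
    intro T
    induction T using Finset.induction_on with
    | empty => intro _; simp
    | insert r T hr ih =>
      intro hT
      have hTr : ∀ s ∈ T, s.Prime := fun s hs => hT s (Finset.mem_insert_of_mem hs)
      have hrp : r.Prime := hT r (Finset.mem_insert_self r T)
      rw [Finset.inf_insert, Finset.prod_insert hr, index_inf_of_coprime, hK r hrp, ih hTr]
      rw [hK r hrp, ih hTr]
      apply Nat.Coprime.prod_right
      intro s hs
      have hsr : r ≠ s := fun h => hr (h ▸ hs)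
      exact Nat.Coprime.pow _ _ ((Nat.coprime_primes hrp (hTr s hs)).mpr hsr)
  have hπp : ∀ r ∈ (Nat.card G).primeFactors, r.Prime := fun r hr => Nat.prime_of_mem_primeFactors hr
  have hprod : ∏ r ∈ (Nat.card G).primeFactors, r ^ (Nat.card G).factorization r = Nat.card G := by
    have := Nat.factorization_prod_pow_eq_self hn0
    rwa [Finsupp.prod, Nat.support_factorization] at this
  have hzero : ∀ p : ℕ, p ∉ (Nat.card G).primeFactors → (Nat.card G).factorization p = 0 := by
    intro p hp
    rw [← Nat.support_factorization] at hp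
    exact Finsupp.notMem_support_iff.mp hp
  have hS : ∀ p : ℕ, p.Prime → Nat.card (((Nat.card G).primeFactors.erase p).inf K : Subgroup G) =
      p ^ (Nat.card G).factorization p := by
    intro p hp
    have h1 := hD ((Nat.card G).primeFactors.erase p) (fun r hr => hπp r (Finset.mem_of_mem_erase hr))
    have h2 := erase_prod (fun r => (Nat.card G).factorization r) (Nat.card G).primeFactors p (hzero p)
    rw [hprod] at h2
    have h3 := Subgroup.card_mul_index (((Nat.card G).primeFactors.erase p).inf K)
    rw [h1] at h3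
    have hpos : 0 < ∏ r ∈ (Nat.card G).primeFactors.erase p, r ^ (Nat.card G).factorization r := by
      apply Finset.prod_pos
      intro r hr
      exact pow_pos (hπp r (Finset.mem_of_mem_erase hr)).pos _
    exact Nat.eq_of_mul_eq_mul_right hpos (h3.trans h2.symm)
  -- the key: for distinct primes the two products agree
  have hkey : ∀ p q : ℕ, p.Prime → q.Prime → p ≠ q →
      ((((Nat.card G).primeFactors.erase p).inf K : Subgroup G) : Set G) * ((((Nat.card G).primeFactors.erase q).inf K : Subgroup G) : Set G)
      ⊆ ((((Nat.card G).primeFactors.erase q).inf K : Subgroup G) : Set G) * ((((Nat.card G).primeFactors.erase p).inf K : Subgroup G) : Set G) := by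
    intro p q hp hq hpq
    have hSpD : ((Nat.card G).primeFactors.erase p).inf K ≤ (((Nat.card G).primeFactors.erase p).erase q).inf K :=
      Finset.inf_mono (Finset.erase_subset q _)
    have hSqD : ((Nat.card G).primeFactors.erase q).inf K ≤ (((Nat.card G).primeFactors.erase p).erase q).inf K := by
      apply Finset.inf_mono
      intro r hr
      rw [Finset.mem_erase, Finset.mem_erase] at hr
      rw [Finset.mem_erase]
      exact ⟨hr.1, hr.2.2⟩
    have hcardD : Nat.card ((((Nat.card G).primeFactors.erase p).erase q).inf K : Subgroup G) =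
        q ^ (Nat.card G).factorization q * p ^ (Nat.card G).factorization p := by
      have h1 := hD (((Nat.card G).primeFactors.erase p).erase q)
        (fun r hr => hπp r (Finset.mem_of_mem_erase (Finset.mem_of_mem_erase hr)))
      have h2 := erase_prod (fun r => (Nat.card G).factorization r) (Nat.card G).primeFactors p (hzero p)
      have h2' := erase_prod (fun r => (Nat.card G).factorization r) ((Nat.card G).primeFactors.erase p) q
        (by
          intro hq'
          apply hzero q
          intro hq''
          exact hq' (Finset.mem_erase.mpr ⟨hpq.symm, hq''⟩))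
      rw [hprod, ← h2'] at h2
      have h3 := Subgroup.card_mul_index ((((Nat.card G).primeFactors.erase p).erase q).inf K)
      rw [h1] at h3
      have hpos : 0 < ∏ r ∈ ((Nat.card G).primeFactors.erase p).erase q, r ^ (Nat.card G).factorization r := by
        apply Finset.prod_pos
        intro r hr
        exact pow_pos (hπp r (Finset.mem_of_mem_erase (Finset.mem_of_mem_erase hr))).pos _
      refine Nat.eq_of_mul_eq_mul_right hpos (h3.trans (h2.symm.trans ?_))
      ring
    have hcop : Nat.Coprime (q ^ (Nat.card G).factorization q) (p ^ (Nat.card G).factorization p) :=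
      Nat.Coprime.pow _ _ ((Nat.coprime_primes hq hp).mpr hpq.symm)
    refine mul_subset_of_complement hSpD hSqD ?_
    apply Subgroup.isComplement'_of_coprime
    · rw [Cfsg.Agent.Lib.Lead_SZ.card_subgroupOf_of_le hSqD, Cfsg.Agent.Lib.Lead_SZ.card_subgroupOf_of_le hSpD,
        hS p hp, hS q hq, hcardD]
    · rw [Cfsg.Agent.Lib.Lead_SZ.card_subgroupOf_of_le hSqD, Cfsg.Agent.Lib.Lead_SZ.card_subgroupOf_of_le hSpD,
        hS p hp, hS q hq]
      exact hcop
  refine ⟨fun p => haveI : Fact (p : ℕ).Prime := ⟨p.2⟩
    Sylow.ofCard (((Nat.card G).primeFactors.erase (p : ℕ)).inf K) (hS p p.2), ?_⟩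
  intro p q
  by_cases hpq : p = q
  · rw [hpq]
  · have hpq' : (p : ℕ) ≠ (q : ℕ) := fun h => hpq (Subtype.ext h)
    exact Set.Subset.antisymm (hkey p q p.2 q.2 hpq') (hkey q p q.2 p.2 hpq'.symm)

end Cfsg.Agent.S0020
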