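import Cfsg.Statements.S0021
import Cfsg.Agent.Lib.Helper2_ClassFn
import Cfsg.Agent.Lib.Helper2_CharBasic
import Cfsg.Agent.Lib.Helper2_CharOrtho
import Cfsg.Agent.Lib.Helper2_Clifford
import Cfsg.Agent.Lib.Helper2_CharMore
import Cfsg.Agent.Lib.Helper2_CharNorm
import Cfsg.Agent.Lib.Helper2_CharValues
import Cfsg.Agent.Lib.Helper2_CharComplete
import Cfsg.Agent.Lib.Helper2_CharInd
import Cfsg.Agent.Lib.Helper2_CharTable
import Cfsg.Agent.Lib.Helper2_CharFrob
import Cfsg.Agent.Lib.Helper2_CharDeg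
import Cfsg.Agent.Lib.Helper2_CharSum
import Cfsg.Agent.Lib.Helper2_CharExtra
import Cfsg.Agent.Lib.Helper2_CharCentral
import Cfsg.Agent.Lib.Helper2_PermChar
import Cfsg.Agent.Lib.Helper2_FrobSchur
import Cfsg.Agent.Lib.Helper2_CliffordCorr
import Cfsg.Agent.Lib.Helper2_CharKernel
import Cfsg.Agent.Lib.Helper2_CyclicTI
import Cfsg.Agent.Lib.Helper2_CharGalois
import Cfsg.Agent.Lib.Helper2_CharInt
import Cfsg.Agent.Lib.Helper2_CharBurnside
import Cfsg.Agent.Lib.Helper2_CharCenter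
import Cfsg.Agent.Lib.Helper2_Ito
import Cfsg.Agent.Lib.Helper2_HallConverse

set_option autoImplicit false
open Pointwise
open Cfsg

namespace Cfsg.Agent.S0021

open Cfsg.Agent.Lib.Helper2_ClassFn Cfsg.Agent.Lib.Helper2_CharBasic Cfsg.Agent.Lib.Helper2_CharOrtho Cfsg.Agent.Lib.Helper2_Clifford Cfsg.Agent.Lib.Helper2_CharMore Cfsg.Agent.Lib.Helper2_CharNorm Cfsg.Agent.Lib.Helper2_CharValues Cfsg.Agent.Lib.Helper2_CharComplete Cfsg.Agent.Lib.Helper2_CharInd Cfsg.Agent.Lib.Helper2_CharTable Cfsg.Agent.Lib.Helper2_CharFrob Cfsg.Agent.Lib.Helper2_CharDeg Cfsg.Agent.Lib.Helper2_CharSum Cfsg.Agent.Lib.Helper2_CharExtra Cfsg.Agent.Lib.Helper2_CharCentral Cfsg.Agent.Lib.Helper2_PermChar Cfsg.Agent.Lib.Helper2_FrobSchur Cfsg.Agent.Lib.Helper2_CliffordCorr Cfsg.Agent.Lib.Helper2_CharKernel Cfsg.Agent.Lib.Helper2_CyclicTI Cfsg.Agent.Lib.Helper2_CharGalois Cfsg.Agent.Lib.Helper2_CharInt Cfsg.Agent.Lib.Helper2_CharBurnside Cfsg.Agent.Lib.Helper2_CharCenter Cfsg.Agent.Lib.Helper2_Ito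
open scoped Pointwise
open Cfsg.Agent.Lib.Helper2_HallConverse Cfsg.Agent.Lib.Helper1_Card

/-- Permuting subgroups: the join is the product set. -/
theorem sup_eq_mul_of_permute {G : Type*} [Group G] (X Y : Subgroup G)
    (h : (X : Set G) * (Y : Set G) = (Y : Set G) * (X : Set G)) :
    ((X ⊔ Y : Subgroup G) : Set G) = (X : Set G) * (Y : Set G) := by
  let T : Subgroup G :=
    { carrier := (X : Set G) * (Y : Set G)
      one_mem' := ⟨1, X.one_mem, 1, Y.one_mem, by simp⟩
      mul_mem' := by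
        rintro _ _ ⟨x, hx, y, hy, rfl⟩ ⟨x', hx', y', hy', rfl⟩
        have h1 : y * x' ∈ (Y : Set G) * (X : Set G) := ⟨y, hy, x', hx', rfl⟩
        rw [← h] at h1
        obtain ⟨x'', hx'', y'', hy'', h2⟩ := h1
        refine ⟨x * x'', X.mul_mem hx hx'', y'' * y', Y.mul_mem hy'' hy', ?_⟩
        simp only at h2 ⊢
        calc x * x'' * (y'' * y') = x * (x'' * y'') * y' := by group
          _ = x * (y * x') * y' := by rw [h2]
          _ = x * y * (x' * y') := by group
      inv_mem' := by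
        rintro _ ⟨x, hx, y, hy, rfl⟩
        have h1 : y⁻¹ * x⁻¹ ∈ (Y : Set G) * (X : Set G) :=
          ⟨y⁻¹, Y.inv_mem hy, x⁻¹, X.inv_mem hx, rfl⟩
        rw [← h] at h1
        simp only at h1 ⊢
        rw [mul_inv_rev]
        exact h1 }
  apply le_antisymm
  · have hX : X ≤ T := fun x hx => ⟨x, hx, 1, Y.one_mem, by simp⟩
    have hY : Y ≤ T := fun y hy => ⟨1, X.one_mem, y, hy, by simp⟩
    exact (sup_le hX hY : X ⊔ Y ≤ T)
  · rintro _ ⟨x, hx, y, hy, rfl⟩
    exact (X ⊔ Y).mul_mem ((le_sup_left : X ≤ X ⊔ Y) hx) ((le_sup_right : Y ≤ X ⊔ Y) hy)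

theorem sup_family_aux {G : Type*} [Group G] [Finite G] {ι : Type*} [DecidableEq ι]
    (A : ι → Subgroup G)
    (hA : ∀ i j, (A i : Set G) * (A j : Set G) = (A j : Set G) * (A i : Set G))
    (r : ℕ) (hr : r.Prime) (s : Finset ι) (hs : ∀ i ∈ s, ¬ r ∣ Nat.card (A i)) :
    ¬ r ∣ Nat.card (s.sup A : Subgroup G) ∧
      ∀ j, ((s.sup A : Subgroup G) : Set G) * (A j : Set G)
        = (A j : Set G) * ((s.sup A : Subgroup G) : Set G) := by
  induction s using Finset.induction_on with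
  | empty =>
    refine ⟨?_, fun j => ?_⟩
    · rw [Finset.sup_empty, Subgroup.card_bot]
      exact hr.one_lt.ne' ∘ Nat.dvd_one.mp
    · rw [Finset.sup_empty]
      ext x
      simp [Set.mem_mul]
  | insert a s ha ih =>
    obtain ⟨ih1, ih2⟩ := ih (fun i hi => hs i (Finset.mem_insert_of_mem hi))
    rw [Finset.sup_insert]
    have hperm : (A a : Set G) * ((s.sup A : Subgroup G) : Set G)
        = ((s.sup A : Subgroup G) : Set G) * (A a : Set G) := (ih2 a).symm
    have hset := sup_eq_mul_of_permute (A a) (s.sup A) hperm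
    refine ⟨?_, fun j => ?_⟩
    · have h1 := card_mul_card_inf (A a) (s.sup A)
      rw [← hset] at h1
      intro hdvd
      have h2 : r ∣ Nat.card (A a) * Nat.card (s.sup A : Subgroup G) := by
        rw [← h1]
        exact Dvd.dvd.mul_right hdvd _
      rcases (Nat.Prime.dvd_mul hr).mp h2 with h | h
      · exact hs a (Finset.mem_insert_self a s) h
      · exact ih1 h
    · rw [hset, mul_assoc, ih2 j, ← mul_assoc, hA a j, mul_assoc]


/-- A finite group with a family of pairwise permuting Sylow subgroups, one for each prime, is solvable (this direction rests on Burnside's two-prime Theorem). -/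
theorem result {G : Type*} [Group G] [Finite G]
    (S : (p : Nat.Primes) → Sylow (p : ℕ) G)
    (hS : ∀ p q : Nat.Primes, (S p : Set G) * (S q : Set G) = (S q : Set G) * (S p : Set G)) :
    Group.IsSolvable G := by
  classical
  apply solvable_of_hasCompl (Nat.card G) G rfl
  intro r hr
  set A : ℕ → Subgroup G := fun p => if h : p.Prime then (S ⟨p, h⟩ : Subgroup G) else ⊥ with hA
  have hAperm : ∀ i j, (A i : Set G) * (A j : Set G) = (A j : Set G) * (A i : Set G) := by
    intro i j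
    simp only [hA]
    by_cases hi : i.Prime
    · by_cases hj : j.Prime
      · rw [dif_pos hi, dif_pos hj]
        exact hS ⟨i, hi⟩ ⟨j, hj⟩
      · rw [dif_neg hj]
        ext x
        simp [Set.mem_mul]
    · rw [dif_neg hi]
      ext x
      simp [Set.mem_mul]
  set s : Finset ℕ := (Nat.card G).primeFactors.erase r with hs
  have hsr : ∀ i ∈ s, ¬ r ∣ Nat.card (A i) := by
    intro i hi
    have hip : i.Prime := Nat.prime_of_mem_primeFactors (Finset.mem_of_mem_erase hi)
    have hir : i ≠ r := Finset.ne_of_mem_erase hi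
    simp only [hA]
    rw [dif_pos hip]
    haveI : Fact i.Prime := ⟨hip⟩
    rw [Sylow.card_eq_multiplicity]
    intro hdvd
    have := (Nat.prime_dvd_prime_iff_eq hr hip).mp (hr.dvd_of_dvd_pow hdvd)
    exact hir this.symm
  obtain ⟨h1, -⟩ := sup_family_aux A hAperm r hr s hsr
  refine ⟨s.sup A, ?_, h1⟩
  refine ⟨_, Nat.eq_prime_pow_of_unique_prime_dvd Subgroup.index_ne_zero_of_finite ?_⟩
  intro d hd hdvd
  by_contra hdr
  have hdG : d ∣ Nat.card G := hdvd.trans (Subgroup.index_dvd_card _)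
  have hds : d ∈ s := by
    rw [hs, Finset.mem_erase, Nat.mem_primeFactors]
    exact ⟨hdr, hd, hdG, Nat.card_pos.ne'⟩
  have hle : A d ≤ s.sup A := Finset.le_sup hds
  have h2 := Subgroup.index_dvd_of_le hle
  simp only [hA] at h2
  rw [dif_pos hd] at h2
  haveI : Fact d.Prime := ⟨hd⟩
  exact Sylow.not_dvd_index (S ⟨d, hd⟩) (hdvd.trans h2)

end Cfsg.Agent.S0021
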