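import Cfsg.Statements.S0028
import Mathlib
import Cfsg.Agent.Lib.Lead_Coprime
import Cfsg.Agent.S0027

set_option autoImplicit false
open Cfsg

namespace Cfsg.Agent.S0028

open Cfsg.Agent.Lib.Lead_SZ Cfsg.Agent.Lib.Lead_Coprime

theorem main {G : Type*} [Group G] [Finite G] (p : ℕ) [Fact p.Prime]
    (P Q : Subgroup G) (hP : IsPGroup p P) (hQ : (Nat.card Q).Coprime p)
    (hPQ : P ≤ Subgroup.centralizer (Q : Set G)) :
    ∀ (n : ℕ) (U : Subgroup G), Nat.card U = n → IsPGroup p U →
      P ≤ Subgroup.normalizer (U : Set G) → Q ≤ Subgroup.normalizer (U : Set G) →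
      U ⊓ Subgroup.centralizer (P : Set G) ≤ Subgroup.centralizer (Q : Set G) →
      Q ≤ Subgroup.centralizer (U : Set G) := by
  intro n
  induction n using Nat.strong_induction_on with
  | _ n ih =>
    intro U hn hU hPU hQU hC
    by_cases hne : U = ⊥
    · subst hne
      intro q _
      rw [Subgroup.mem_centralizer_iff]
      intro u hu
      have : u = 1 := by simpa using hu
      rw [this]; simp
    · have hlt := commutator_lt_of_pgroup p U P hU hP hPU hne
      have hU₁U : ⁅U, P⁆ ≤ U := hlt.le
      have hcard : Nat.card (⁅U, P⁆ : Subgroup G) < n := hn ▸ card_lt hlt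
      have hQP : Q ≤ Subgroup.normalizer (P : Set G) := by
        have : Q ≤ Subgroup.centralizer (P : Set G) := Subgroup.le_centralizer_iff.mp hPQ
        exact this.trans (Subgroup.centralizer_le_normalizer _)
      have h1 : Q ≤ Subgroup.centralizer ((⁅U, P⁆ : Subgroup G) : Set G) :=
        ih _ hcard ⁅U, P⁆ rfl (hU.to_le hU₁U) (le_normalizer_commutator_right U P)
          (le_normalizer_commutator Q U P hQU hQP)
          ((inf_le_inf_right _ hU₁U).trans hC)
      have h2 : ⁅⁅U, P⁆, Q⁆ = ⊥ :=
        Subgroup.commutator_eq_bot_iff_le_centralizer.mpr (Subgroup.le_centralizer_iff.mp h1)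
      have h3 : ⁅⁅P, Q⁆, U⁆ = ⊥ := by
        rw [Subgroup.commutator_eq_bot_iff_le_centralizer.mpr hPQ, Subgroup.commutator_bot_left]
      have h4 : ⁅⁅Q, U⁆, P⁆ = ⊥ := Subgroup.commutator_commutator_eq_bot_of_rotate h2 h3
      have h5 : ⁅U, Q⁆ ≤ Subgroup.centralizer (P : Set G) := by
        rw [Subgroup.commutator_comm]
        exact Subgroup.commutator_eq_bot_iff_le_centralizer.mp h4
      have h6 : ⁅U, Q⁆ ≤ Subgroup.centralizer (Q : Set G) :=
        (le_inf (commutator_le_of_le_normalizer U Q hQU) h5).trans hC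
      have h7 : ⁅⁅U, Q⁆, Q⁆ = ⊥ := Subgroup.commutator_eq_bot_iff_le_centralizer.mpr h6
      have hcop : (Nat.card Q).Coprime (Nat.card U) := by
        obtain ⟨k, hk⟩ := hU.exists_card_eq
        rw [hk]; exact Nat.Coprime.pow_right k hQ
      have hsolv : Group.IsSolvable Q ∨ Group.IsSolvable U := by
        right
        have hnil : Group.IsNilpotent U := hU.isNilpotent
        infer_instance
      have h8 : ⁅U, Q⁆ = ⊥ := by
        rw [← Cfsg.Agent.S0027.result Q U hQU hcop hsolv]; exact h7
      exact Subgroup.le_centralizer_iff.mp (Subgroup.commutator_eq_bot_iff_le_centralizer.mp h8)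


/-- Thompson's P × Q Lemma: let a p-subgroup P and a subgroup Q of order prime to p centralise each other and normalise a p-subgroup U; if every element of U fixed by P is fixed by Q, then Q centralises U. -/
theorem result {G : Type*} [Group G] [Finite G] (p : ℕ) [Fact p.Prime]
    (P Q U : Subgroup G) (hP : IsPGroup p P) (hQ : (Nat.card Q).Coprime p) (hU : IsPGroup p U)
    (hPQ : P ≤ Subgroup.centralizer (Q : Set G))
    (hPU : P ≤ Subgroup.normalizer (U : Set G)) (hQU : Q ≤ Subgroup.normalizer (U : Set G))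
    (hC : U ⊓ Subgroup.centralizer (P : Set G) ≤ Subgroup.centralizer (Q : Set G)) :
    Q ≤ Subgroup.centralizer (U : Set G) := by
  exact main p P Q hP hQ hPQ _ U rfl hU hPU hQU hC

end Cfsg.Agent.S0028
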