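import Cfsg.Statements.S0030
import Mathlib
import Cfsg.Agent.Lib.Lead_Coprime

set_option autoImplicit false
open Cfsg

namespace Cfsg.Agent.S0030

open Cfsg.Agent.Lib.Lead_SZ Cfsg.Agent.Lib.Lead_Coprime

/-- Under coprime action fixed points of a product of two invariant subgroups factor: if K = X Y with X and Y normalised by A then every A-fixed element of K is a product of an A-fixed element of X and an A-fixed element of Y. -/
theorem result {G : Type*} [Group G] [Finite G] (A K : Subgroup G) (hAK : A ≤ Subgroup.normalizer (K : Set G))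
    (hcop : (Nat.card A).Coprime (Nat.card K)) (hsolv : Group.IsSolvable A ∨ Group.IsSolvable K)
    (X Y : Subgroup G) (hX : X ≤ K) (hY : Y ≤ K) (hXA : A ≤ Subgroup.normalizer (X : Set G)) (hYA : A ≤ Subgroup.normalizer (Y : Set G))
    (hXY : ∀ k ∈ K, ∃ x ∈ X, ∃ y ∈ Y, k = x * y) (k : G) (hk : k ∈ K ⊓ Subgroup.centralizer (A : Set G)) :
    ∃ x ∈ X ⊓ Subgroup.centralizer (A : Set G), ∃ y ∈ Y ⊓ Subgroup.centralizer (A : Set G), k = x * y := by
  obtain ⟨hkK, hkC⟩ := Subgroup.mem_inf.mp hk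
  obtain ⟨x, hx, y, hy, rfl⟩ := hXY k hkK
  have hDA : A ≤ Subgroup.normalizer ((X ⊓ Y : Subgroup G) : Set G) := by
    intro a ha
    rw [Subgroup.mem_normalizer_iff]
    intro g
    have h1 := Subgroup.mem_normalizer_iff.mp (hXA ha) g
    have h2 := Subgroup.mem_normalizer_iff.mp (hYA ha) g
    simp only [Subgroup.mem_inf]
    rw [h1, h2]
  have hcop' : (Nat.card A).Coprime (Nat.card (X ⊓ Y : Subgroup G)) :=
    Nat.Coprime.coprime_dvd_right (Subgroup.card_dvd_of_le (inf_le_left.trans hX)) hcop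
  have hsolv' : Group.IsSolvable A ∨ Group.IsSolvable (X ⊓ Y : Subgroup G) :=
    hsolv.imp id (solvable_of_le (inf_le_left.trans hX))
  have hxa : ∀ a ∈ A, x⁻¹ * a * x * a⁻¹ ∈ X ⊓ Y := by
    intro a ha
    have hc : a * (x * y) = (x * y) * a := (Subgroup.mem_centralizer_iff.mp hkC a ha)
    refine Subgroup.mem_inf.mpr ⟨?_, ?_⟩
    · have h1 := (Subgroup.mem_normalizer_iff.mp (hXA ha) x).mp hx
      have h2 := X.mul_mem (X.inv_mem hx) h1
      have e0 : x⁻¹ * a * x * a⁻¹ = x⁻¹ * (a * x * a⁻¹) := by group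
      rw [e0]; exact h2
    · have e : x⁻¹ * a * x * a⁻¹ = y * (a * y⁻¹ * a⁻¹) := by
        have h3 : x⁻¹ * a * x = y * a * y⁻¹ := by
          calc x⁻¹ * a * x = x⁻¹ * (a * (x * y)) * y⁻¹ := by group
            _ = x⁻¹ * ((x * y) * a) * y⁻¹ := by rw [hc]
            _ = y * a * y⁻¹ := by group
        rw [h3]; group
      rw [e]
      exact Y.mul_mem hy ((Subgroup.mem_normalizer_iff.mp (hYA ha) _).mp (Y.inv_mem hy))
  obtain ⟨d, hd, hdc⟩ := lemmaC (X ⊓ Y) A hDA hcop' hsolv' x hxa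
  obtain ⟨hdX, hdY⟩ := Subgroup.mem_inf.mp hd
  refine ⟨x * d, Subgroup.mem_inf.mpr ⟨X.mul_mem hx hdX, hdc⟩, d⁻¹ * y, Subgroup.mem_inf.mpr ⟨Y.mul_mem (Y.inv_mem hdY) hy, ?_⟩, by group⟩
  have e2 : d⁻¹ * y = (x * d)⁻¹ * (x * y) := by group
  rw [e2]
  exact Subgroup.mul_mem _ (Subgroup.inv_mem _ hdc) hkC

end Cfsg.Agent.S0030
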