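import Cfsg.Statements.S0033
import Mathlib
import Cfsg.Agent.Lib.Lead_FPF3

set_option autoImplicit false
open Cfsg

namespace Cfsg.Agent.S0033

open Cfsg.Agent.Lib.Lead_FPF Cfsg.Agent.Lib.Lead_FPF3

theorem mulAut_pow_apply {G : Type*} [Group G] (φ : G ≃* G) (n : ℕ) (g : G) :
    ((φ ^ n : MulAut G) : G ≃* G) g = (⇑φ)^[n] g := by
  induction n with
  | zero => rfl
  | succ n ih =>
    rw [pow_succ', Function.iterate_succ_apply']
    show φ ((φ ^ n : MulAut G) g) = φ ((⇑φ)^[n] g)
    rw [ih]


/-- Thompson's Theorem on fixed-point-free automorphisms: a finite group with an automorphism of prime order fixing only the identity is nilpotent. -/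
theorem result {G : Type*} [Group G] [Finite G] (φ : G ≃* G)
    (hφ : MonoidHom.FixedPointFree (φ : G →* G)) (p : ℕ) (hp : p.Prime) (hord : orderOf φ = p) :
    Group.IsNilpotent G := by
  have h : Setup φ p := by
    refine ⟨fun g hg => hφ g hg, fun g => ?_⟩
    have h1 : (φ ^ p : MulAut G) = 1 := by
      have := pow_orderOf_eq_one (φ : MulAut G)
      rwa [hord] at this
    rw [← mulAut_pow_apply, h1]
    rfl
  exact thompson_aux p hp _ G rfl φ h

end Cfsg.Agent.S0033
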