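import Mathlib
import Cfsg.Statements.S0038
import Cfsg.Agent.Lib.Helper7_Fpf
import Cfsg.Agent.Lib.Helper6_ConjAct

set_option autoImplicit false
open Pointwise
open Cfsg

namespace Cfsg.Agent.S0038

open Cfsg.Agent.Lib.Helper7_FrobGroup Cfsg.Agent.Lib.Helper7_FrobGroup2 Cfsg.Agent.Lib.Helper7_Fpf

/-- A Frobenius complement acts fixed-point-freely on its kernel (conjugation action). -/
theorem fpf_conj {G : Type*} [Group G] [Finite G] (H : Subgroup G) (hH : IsFrobeniusComplement H) :
    letI : MulDistribMulAction H (kernel H hH) :=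
      Cfsg.Agent.Lib.Helper6_ConjAct.conjNormalizer H (kernel H hH)
        (by rw [Subgroup.normalizer_eq_top]; exact le_top)
    Fpf H (kernel H hH) := by
  intro a ha x hx
  have h1 : (a : G) * (x : G) * (a : G)⁻¹ = (x : G) := congrArg Subtype.val hx
  exact Subtype.ext (fpf H hH a.2 (fun h => ha (Subtype.ext h)) x.2 h1)

/-- A Frobenius complement contained in another one is equal to it. -/
theorem eq_of_le {G : Type*} [Group G] [Finite G] (H H₀ : Subgroup G)
    (hH : IsFrobeniusComplement H) (hH₀ : IsFrobeniusComplement H₀) (hle : H₀ ≤ H) : H₀ = H := by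
  by_contra hne
  have hnle : ¬ H ≤ H₀ := fun h => hne (le_antisymm hle h)
  have hE : IsFrobeniusComplement (H₀.subgroupOf H) := by
    apply inf_isFrobeniusComplement hH₀ H _ hnle
    rw [inf_eq_right.mpr hle]
    exact hH₀.1
  letI : MulDistribMulAction H (kernel H hH) :=
    Cfsg.Agent.Lib.Helper6_ConjAct.conjNormalizer H (kernel H hH)
      (by rw [Subgroup.normalizer_eq_top]; exact le_top)
  have hf : Fpf H (kernel H hH) := fpf_conj H hH
  have key := eq_one_of_fpf_of_frobenius (H₀.subgroupOf H) hE hf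
  have hK : kernel H hH = ⊥ := by
    rw [eq_bot_iff]
    intro z hz
    exact Subgroup.mem_bot.mpr (congrArg Subtype.val (key ⟨z, hz⟩))
  have h1 := card_kernel H hH
  rw [hK, Subgroup.card_bot] at h1
  exact hH.2.1 (Subgroup.index_eq_one.mp h1.symm)

/-- All Frobenius complements of a finite group are conjugate to one another. -/
theorem result {G : Type*} [Group G] [Finite G] (H H₀ : Subgroup G)
    (hH : Cfsg.IsFrobeniusComplement H) (hH₀ : Cfsg.IsFrobeniusComplement H₀) :
    ∃ g : G, MulAut.conj g • H₀ = H := by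
  rcases le_total (Nat.card H₀) (Nat.card H) with hle | hle
  · obtain ⟨x, hx⟩ := exists_conj_le_of_card_le H H₀ hH hH₀ hle
    have h1 := eq_of_le (MulAut.conj x • H) H₀ (conj_isFrobeniusComplement hH x) hH₀ hx
    refine ⟨x⁻¹, ?_⟩
    rw [h1, conj_smul_smul]
    simp
  · obtain ⟨x, hx⟩ := exists_conj_le_of_card_le H₀ H hH₀ hH hle
    have h1 := eq_of_le (MulAut.conj x • H₀) H (conj_isFrobeniusComplement hH₀ x) hH hx
    exact ⟨x, h1.symm⟩

end Cfsg.Agent.S0038
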