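import Cfsg.Statements.S0039
import Mathlib
import Cfsg.Agent.Lib.Lead_SZ

set_option autoImplicit false
open Cfsg

namespace Cfsg.Agent.S0039

open Cfsg.Agent.Lib.Lead_SZ Pointwise

/-- In a finite group that is a semidirect product of a normal subgroup K by a nontrivial subgroup H, H is a Frobenius complement exactly when each nonidentity element of H acts without nonidentity fixed points on K by conjugation. -/
theorem result {G : Type*} [Group G] [Finite G] (K H : Subgroup G) [K.Normal]
    (hc : Subgroup.IsComplement' K H) (hK : K ≠ ⊥) (hH : H ≠ ⊥) :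
    Cfsg.IsFrobeniusComplement H ↔ ∀ h ∈ H, h ≠ 1 → K ⊓ Subgroup.centralizer {h} = ⊥ := by
  have hKH : K ⊓ H = ⊥ := hc.disjoint.eq_bot
  constructor
  · rintro ⟨-, -, hF⟩ h hh hh1
    rw [eq_bot_iff]
    intro x hx
    obtain ⟨hxK, hxC⟩ := Subgroup.mem_inf.mp hx
    rw [Subgroup.mem_bot]
    by_contra hx1
    have hxH : x ∉ H := by
      intro hxH
      have : x ∈ K ⊓ H := Subgroup.mem_inf.mpr ⟨hxK, hxH⟩
      rw [hKH, Subgroup.mem_bot] at this
      exact hx1 this
    have h1 := hF x hxH
    have hcomm : h * x = x * h := Subgroup.mem_centralizer_iff.mp hxC h rfl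
    have h2 : h ∈ H ⊓ MulAut.conj x • H := by
      refine Subgroup.mem_inf.mpr ⟨hh, ?_⟩
      rw [mem_conj_smul]
      have e : x⁻¹ * h * x = h := by
        calc x⁻¹ * h * x = x⁻¹ * (h * x) := by group
          _ = x⁻¹ * (x * h) := by rw [hcomm]
          _ = h := by group
      rw [e]; exact hh
    rw [h1, Subgroup.mem_bot] at h2
    exact hh1 h2
  · intro hfpf
    refine ⟨hH, ?_, ?_⟩
    · intro htop
      apply hK
      rw [← hKH, htop, inf_top_eq]
    · intro g hg
      rw [eq_bot_iff]
      intro x hx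
      obtain ⟨hxH, hxg⟩ := Subgroup.mem_inf.mp hx
      rw [mem_conj_smul] at hxg
      rw [Subgroup.mem_bot]
      by_contra hx1
      obtain ⟨k, hk, h, hh, rfl⟩ := exists_mul_of_complement hc g
      have hy' : k⁻¹ * x * k ∈ H := by
        have := H.mul_mem (H.mul_mem hh hxg) (H.inv_mem hh)
        have e : h * ((k * h)⁻¹ * x * (k * h)) * h⁻¹ = k⁻¹ * x * k := by group
        rw [e] at this; exact this
      have h1 : k⁻¹ * x * k * x⁻¹ ∈ K ⊓ H := by
        refine Subgroup.mem_inf.mpr ⟨?_, H.mul_mem hy' (H.inv_mem hxH)⟩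
        have h2 := ‹K.Normal›.conj_mem k hk x
        have e : k⁻¹ * x * k * x⁻¹ = k⁻¹ * (x * k * x⁻¹) := by group
        rw [e]; exact K.mul_mem (K.inv_mem hk) h2
      rw [hKH, Subgroup.mem_bot] at h1
      have hcomm : x * k = k * x := by
        have := congrArg (fun z => k * z * x) h1
        simp only [mul_one] at this
        rw [← this]; group
      have hkC : k ∈ K ⊓ Subgroup.centralizer {x} := by
        refine Subgroup.mem_inf.mpr ⟨hk, ?_⟩
        rw [Subgroup.mem_centralizer_iff]
        intro y hy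
        rw [Set.mem_singleton_iff] at hy
        rw [hy]; exact hcomm
      rw [hfpf x hxH hx1, Subgroup.mem_bot] at hkC
      apply hg
      rw [hkC, one_mul]; exact hh

end Cfsg.Agent.S0039
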