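import Mathlib
import Cfsg.Statements.S0040
import Cfsg.Agent.Lib.Helper7_Fpf3

set_option autoImplicit false

open Cfsg

namespace Cfsg.Agent.S0040

open Cfsg.Agent.Lib.Helper7_Fpf Cfsg.Agent.Lib.Helper7_Fpf3

theorem result {G : Type*} [Group G] [Finite G] (K H : Subgroup G) [K.Normal]
    (hc : Subgroup.IsComplement' K H) (hK : K ≠ ⊥) (hfpf : ∀ h ∈ H, h ≠ 1 → K ⊓ Subgroup.centralizer {h} = ⊥)
    (p : ℕ) [Fact p.Prime] (P : Sylow p H) :
    IsCyclic P ∨ ∃ n : ℕ, Nonempty (P ≃* QuaternionGroup (2 ^ n)) := by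
  have hHK : H ≤ Subgroup.normalizer (K : Set G) := by
    rw [Subgroup.normalizer_eq_top]; exact le_top
  letI : MulDistribMulAction H K := Cfsg.Agent.Lib.Helper6_ConjAct.conjNormalizer H K hHK
  have hf : Fpf H K := fpf_of_internal H K hHK hfpf
  haveI : Nontrivial K := (Subgroup.nontrivial_iff_ne_bot K).mpr hK
  exact pgroup_cyclic_or_quaternion hf p (P : Subgroup H) P.isPGroup'

end Cfsg.Agent.S0040
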