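import Mathlib
import Cfsg.Statements.S0041
import Cfsg.Agent.Lib.Helper7_Fpf3

set_option autoImplicit false

open Cfsg

namespace Cfsg.Agent.S0041

open Cfsg.Agent.Lib.Helper7_Fpf Cfsg.Agent.Lib.Helper7_Fpf3

theorem result {G : Type*} [Group G] [Finite G] (A V : Subgroup G) [IsMulCommutative V]
    (hV : V ≠ ⊥) (hAV : A ≤ Subgroup.normalizer (V : Set G)) (hfpf : ∀ a ∈ A, a ≠ 1 → V ⊓ Subgroup.centralizer {a} = ⊥)
    (hA : IsMulCommutative A ∨ ∃ p q : ℕ, p.Prime ∧ q.Prime ∧ Nat.card A = p * q) : IsCyclic A := by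
  letI : MulDistribMulAction A V := Cfsg.Agent.Lib.Helper6_ConjAct.conjNormalizer A V hAV
  have hf : Fpf A V := fpf_of_internal A V hAV hfpf
  haveI : Nontrivial V := (Subgroup.nontrivial_iff_ne_bot V).mpr hV
  have e : (⊤ : Subgroup A) ≃* A := Subgroup.topEquiv
  rcases hA with hA | ⟨p, q, hp, hq, hcard⟩
  · haveI : IsMulCommutative (⊤ : Subgroup A) :=
      ⟨⟨fun a b => Subtype.ext (hA.is_comm.comm (a : A) (b : A))⟩⟩
    haveI := cyclic_of_abelian hf (⊤ : Subgroup A)
    exact isCyclic_of_surjective e e.surjective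
  · haveI := cyclic_of_card_pq hf (⊤ : Subgroup A) hp hq (by rw [Subgroup.card_top]; exact hcard)
    exact isCyclic_of_surjective e e.surjective

end Cfsg.Agent.S0041
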