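import Cfsg.Statements.S0042
import Mathlib
import Cfsg.Agent.Lib.Lead_FPF3
import Cfsg.Agent.S0035

set_option autoImplicit false
open Cfsg

namespace Cfsg.Agent.S0042

open Cfsg.Agent.Lib.Lead_FPF Cfsg.Agent.Lib.Lead_FPF3
open scoped Pointwise


/-- In a finite Frobenius group, the Frobenius kernel is (the carrier of) a normal subgroup which is nilpotent. -/
theorem result {G : Type*} [Group G] [Finite G] (H : Subgroup G) (hH : Cfsg.IsFrobeniusComplement H) :
    ∃ N : Subgroup G, (N : Set G) = Cfsg.frobeniusKernel H ∧ N.Normal ∧ Group.IsNilpotent N := by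
  obtain ⟨N, hNset, hNn, hNc⟩ := Cfsg.Agent.S0035.result H hH
  refine ⟨N, hNset, hNn, ?_⟩
  obtain ⟨hHbot, hHtop, hfrob⟩ := hH
  haveI := hNn
  -- an element of prime order in `H`
  have hH1 : Nat.card H ≠ 1 := fun h1 => hHbot (Subgroup.card_eq_one.1 h1)
  obtain ⟨r, hr, hrd⟩ := Nat.exists_prime_and_dvd hH1
  haveI : Fact r.Prime := ⟨hr⟩
  obtain ⟨h, hh⟩ := exists_prime_orderOf_dvd_card' (G := ↥H) r hrd
  have hh1 : (h : G) ≠ 1 := by
    intro h0
    have : h = 1 := Subtype.ext h0
    rw [this, orderOf_one] at hh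
    exact hr.one_lt.ne hh
  have hhr : (h : G) ^ r = 1 := by
    have := pow_orderOf_eq_one h
    rw [hh] at this
    simpa using congrArg (fun z : ↥H => (z : G)) this
  set ψ : ↥N ≃* ↥N := (MulAut.conjNormal (h : G) : MulAut ↥N) with hψ
  have hψa : ∀ n : ↥N, ((ψ n : ↥N) : G) = (h : G) * n * (h : G)⁻¹ :=
    fun n => MulAut.conjNormal_apply _ _
  have hdisj : N ⊓ H = ⊥ := hNc.disjoint.eq_bot
  have hS : Setup ψ r := by
    refine ⟨?_, ?_⟩
    · intro n hn
      by_contra hn1
      have hnG : (n : G) ≠ 1 := fun h0 => hn1 (Subtype.ext h0)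
      have h1 : (h : G) * n * (h : G)⁻¹ = n := by
        rw [← hψa, hn]
      have hnH : (n : G)⁻¹ ∉ H := by
        intro h2
        have h3 : (n : G) ∈ N ⊓ H := ⟨n.2, by simpa using H.inv_mem h2⟩
        rw [hdisj, Subgroup.mem_bot] at h3
        exact hnG h3
      have h4 := hfrob (n : G)⁻¹ hnH
      have h5 : (h : G) ∈ H ⊓ (MulAut.conj (n : G)⁻¹ • H) := by
        refine Subgroup.mem_inf.2 ⟨h.2, ?_⟩
        rw [Cfsg.Agent.Lib.Lead_SZ.mem_conj_smul, inv_inv]
        have e : (n : G) * (h : G) * (n : G)⁻¹ = (h : G) := by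
          calc (n : G) * (h : G) * (n : G)⁻¹
              = ((h : G) * n * (h : G)⁻¹) * (h : G) * (n : G)⁻¹ := by rw [h1]
            _ = (h : G) := by group
        rw [e]; exact h.2
      rw [h4, Subgroup.mem_bot] at h5
      exact hh1 h5
    · intro n
      have key : ∀ k : ℕ, ∀ m : ↥N, (((⇑ψ)^[k] m : ↥N) : G) = (h : G) ^ k * m * ((h : G) ^ k)⁻¹ := by
        intro k
        induction k with
        | zero => intro m; simp
        | succ k ih =>
          intro m
          rw [Function.iterate_succ_apply', hψa, ih, pow_succ']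
          group
      apply Subtype.ext
      rw [key, hhr]
      simp
  exact thompson_aux r hr _ ↥N rfl ψ hS

end Cfsg.Agent.S0042
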