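import Cfsg.Statements.S0043
import Mathlib

set_option autoImplicit false
open Cfsg

namespace Cfsg.Agent.S0043

/-- A minimal normal subgroup of a finite solvable group is abelian, and for some prime p all of its elements have order dividing p. -/
theorem result {G : Type*} [Group G] [Finite G] [Group.IsSolvable G]
    (N : Subgroup G) [N.Normal] (hN : N ≠ ⊥) (hmin : ∀ M : Subgroup G, M.Normal → M ≤ N → M = ⊥ ∨ M = N) :
    IsMulCommutative N ∧ ∃ p : ℕ, p.Prime ∧ ∀ x ∈ N, x ^ p = 1 := by
  classical
  -- Step 1: N is abelian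
  haveI : Nontrivial N := (Subgroup.nontrivial_iff_ne_bot N).mpr hN
  have hcomm : ⁅N, N⁆ = ⊥ := by
    have hnorm : (⁅N, N⁆ : Subgroup G).Normal := inferInstance
    rcases hmin ⁅N, N⁆ hnorm (Subgroup.commutator_le_self N) with h | h
    · exact h
    · exfalso
      have h1 := Group.IsSolvable.commutator_lt_top_of_nontrivial (G := N)
      have h2 : (commutator N).map N.subtype = N := by
        rw [Subgroup.map_subtype_commutator]; exact h
      have h3 : commutator N = ⊤ := by
        apply Subgroup.map_injective N.subtype_injective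
        rw [h2, ← MonoidHom.range_eq_map, Subgroup.range_subtype]
      exact absurd h3 h1.ne
  have hab : ∀ x ∈ N, ∀ y ∈ N, x * y = y * x := by
    intro x hx y hy
    have := Subgroup.commutator_eq_bot_iff_le_centralizer.mp hcomm hx
    exact (Subgroup.mem_centralizer_iff.mp this y hy).symm
  refine ⟨⟨⟨fun a b => Subtype.ext (hab a a.2 b b.2)⟩⟩, ?_⟩
  -- Step 2: exponent p
  have hcard : Nat.card N ≠ 1 := fun h => hN (Subgroup.card_eq_one.mp h)
  obtain ⟨p, hp, hpdvd⟩ := Nat.exists_prime_and_dvd hcard
  haveI := Fact.mk hp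
  obtain ⟨w, hw⟩ := exists_prime_orderOf_dvd_card' p hpdvd
  refine ⟨p, hp, ?_⟩
  let M : Subgroup G :=
    { carrier := {x | x ∈ N ∧ x ^ p = 1}
      mul_mem' := by
        rintro a b ⟨ha, ha'⟩ ⟨hb, hb'⟩
        refine ⟨N.mul_mem ha hb, ?_⟩
        rw [(Commute.mul_pow (hab a ha b hb) p), ha', hb', one_mul]
      one_mem' := ⟨N.one_mem, one_pow p⟩
      inv_mem' := by
        rintro a ⟨ha, ha'⟩
        exact ⟨N.inv_mem ha, by rw [inv_pow, ha', inv_one]⟩ }
  have hMn : M.Normal := by
    constructor
    rintro n ⟨hn, hn'⟩ g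
    refine ⟨‹N.Normal›.conj_mem n hn g, ?_⟩
    rw [conj_pow, hn', mul_one, mul_inv_cancel]
  have hMN : M ≤ N := fun x hx => hx.1
  rcases hmin M hMn hMN with h | h
  · exfalso
    have hwM : (w : G) ∈ M := ⟨w.2, by
      have := pow_orderOf_eq_one w
      rw [hw] at this
      have := congrArg Subtype.val this
      simpa using this⟩
    rw [h, Subgroup.mem_bot] at hwM
    have : w = 1 := Subtype.ext hwM
    rw [this, orderOf_one] at hw
    exact hp.one_lt.ne hw
  · intro x hx
    have : x ∈ M := by rw [h]; exact hx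
    exact this.2

end Cfsg.Agent.S0043
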