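import Cfsg.Statements.S0047
import Mathlib
import Cfsg.Agent.Lib.Lead_Coprime

set_option autoImplicit false
open Cfsg

namespace Cfsg.Agent.S0047

open scoped commutatorElement


theorem comm_mul_left_of_commute {G : Type*} [Group G] (x y z : G) (h : Commute y z) :
    ⁅x * y, z⁆ = ⁅x, z⁆ := by
  have h1 : ⁅x * y, z⁆ = x * ⁅y, z⁆ * x⁻¹ * ⁅x, z⁆ := by
    simp only [commutatorElement_def]; group
  rw [h1, commutatorElement_eq_one_iff_commute.mpr h]; group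

theorem comm_mul_right_of_commute {G : Type*} [Group G] (x y z : G) (h : Commute x z) :
    ⁅x, y * z⁆ = ⁅x, y⁆ := by
  have h1 : ⁅x, y * z⁆ = ⁅x, y⁆ * (y * ⁅x, z⁆ * y⁻¹) := by
    simp only [commutatorElement_def]; group
  rw [h1, commutatorElement_eq_one_iff_commute.mpr h]; group

theorem conj_comm {G : Type*} [Group G] (g x y : G) :
    g * ⁅x, y⁆ * g⁻¹ = ⁅g * x * g⁻¹, g * y * g⁻¹⁆ := by
  simp only [commutatorElement_def]; group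

/-- the key identity of Itô's theorem -/
theorem ito_key {G : Type*} [Group G] (A B : Subgroup G)
    (hA : ∀ x ∈ A, ∀ y ∈ A, Commute x y) (hB : ∀ x ∈ B, ∀ y ∈ B, Commute x y)
    (hAB : ∀ g : G, ∃ a ∈ A, ∃ b ∈ B, g = a * b)
    (a a₁ : G) (ha : a ∈ A) (ha₁ : a₁ ∈ A) (b b₁ : G) (hb : b ∈ B) (hb₁ : b₁ ∈ B) :
    (a₁ * b₁) * ⁅a, b⁆ * (a₁ * b₁)⁻¹ = (b₁ * a₁) * ⁅a, b⁆ * (b₁ * a₁)⁻¹ := by
  -- b₁ a b₁⁻¹ = a₃ b₃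
  obtain ⟨a₃, ha₃, b₃, hb₃, e1⟩ := hAB (b₁ * a * b₁⁻¹)
  -- a₁ b a₁⁻¹ = b₂ a₂ : via inverses
  obtain ⟨a₂', ha₂', b₂', hb₂', e2'⟩ := hAB (a₁ * b * a₁⁻¹)⁻¹
  have e2 : a₁ * b * a₁⁻¹ = b₂'⁻¹ * a₂'⁻¹ := by
    rw [← mul_inv_rev, ← e2', inv_inv]
  have hb₂ : b₂'⁻¹ ∈ B := B.inv_mem hb₂'
  have ha₂ : a₂'⁻¹ ∈ A := A.inv_mem ha₂'
  have hbb : b₁ * b * b₁⁻¹ = b := by
    rw [(hB b₁ hb₁ b hb).eq, mul_inv_cancel_right]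
  have haa : a₁ * a * a₁⁻¹ = a := by
    rw [(hA a₁ ha₁ a ha).eq, mul_inv_cancel_right]
  have haa3 : a₁ * a₃ * a₁⁻¹ = a₃ := by
    rw [(hA a₁ ha₁ a₃ ha₃).eq, mul_inv_cancel_right]
  have hbb2 : b₁ * b₂'⁻¹ * b₁⁻¹ = b₂'⁻¹ := by
    rw [(hB b₁ hb₁ _ hb₂).eq, mul_inv_cancel_right]
  have L : (a₁ * b₁) * ⁅a, b⁆ * (a₁ * b₁)⁻¹ = ⁅a₃, b₂'⁻¹⁆ := by
    have s1 : (a₁ * b₁) * ⁅a, b⁆ * (a₁ * b₁)⁻¹ = a₁ * (b₁ * ⁅a, b⁆ * b₁⁻¹) * a₁⁻¹ := by group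
    rw [s1, conj_comm b₁, hbb, e1, comm_mul_left_of_commute _ _ _ (hB b₃ hb₃ b hb),
      conj_comm a₁, haa3, e2, comm_mul_right_of_commute _ _ _ (hA a₃ ha₃ _ ha₂)]
  have R : (b₁ * a₁) * ⁅a, b⁆ * (b₁ * a₁)⁻¹ = ⁅a₃, b₂'⁻¹⁆ := by
    have s1 : (b₁ * a₁) * ⁅a, b⁆ * (b₁ * a₁)⁻¹ = b₁ * (a₁ * ⁅a, b⁆ * a₁⁻¹) * b₁⁻¹ := by group
    rw [s1, conj_comm a₁, haa, e2, comm_mul_right_of_commute _ _ _ (hA a ha _ ha₂),
      conj_comm b₁, hbb2, e1, comm_mul_left_of_commute _ _ _ (hB b₃ hb₃ _ hb₂)]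
  rw [L, R]

theorem ito_comm {G : Type*} [Group G] (A B : Subgroup G)
    (hA : ∀ x ∈ A, ∀ y ∈ A, Commute x y) (hB : ∀ x ∈ B, ∀ y ∈ B, Commute x y)
    (hAB : ∀ g : G, ∃ a ∈ A, ∃ b ∈ B, g = a * b)
    (a a₁ : G) (ha : a ∈ A) (ha₁ : a₁ ∈ A) (b b₁ : G) (hb : b ∈ B) (hb₁ : b₁ ∈ B) :
    Commute ⁅a₁, b₁⁆ ⁅a, b⁆ := by
  have h := ito_key A B hA hB hAB a a₁⁻¹ ha (A.inv_mem ha₁) b b₁⁻¹ hb (B.inv_mem hb₁)
  -- (b₁⁻¹a₁⁻¹)⁻¹ (a₁⁻¹ b₁⁻¹) = a₁ b₁ a₁⁻¹ b₁⁻¹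
  have e : ⁅a₁, b₁⁆ = (b₁⁻¹ * a₁⁻¹)⁻¹ * (a₁⁻¹ * b₁⁻¹) := by
    simp only [commutatorElement_def]; group
  show ⁅a₁, b₁⁆ * ⁅a, b⁆ = ⁅a, b⁆ * ⁅a₁, b₁⁆
  rw [e]
  have h' : (b₁⁻¹ * a₁⁻¹)⁻¹ * ((a₁⁻¹ * b₁⁻¹) * ⁅a, b⁆ * (a₁⁻¹ * b₁⁻¹)⁻¹) * (a₁⁻¹ * b₁⁻¹) =
      (b₁⁻¹ * a₁⁻¹)⁻¹ * ((b₁⁻¹ * a₁⁻¹) * ⁅a, b⁆ * (b₁⁻¹ * a₁⁻¹)⁻¹) * (a₁⁻¹ * b₁⁻¹) := by rw [h]
  have l : (b₁⁻¹ * a₁⁻¹)⁻¹ * ((a₁⁻¹ * b₁⁻¹) * ⁅a, b⁆ * (a₁⁻¹ * b₁⁻¹)⁻¹) * (a₁⁻¹ * b₁⁻¹) =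
      (b₁⁻¹ * a₁⁻¹)⁻¹ * (a₁⁻¹ * b₁⁻¹) * ⁅a, b⁆ := by group
  have r : (b₁⁻¹ * a₁⁻¹)⁻¹ * ((b₁⁻¹ * a₁⁻¹) * ⁅a, b⁆ * (b₁⁻¹ * a₁⁻¹)⁻¹) * (a₁⁻¹ * b₁⁻¹) =
      ⁅a, b⁆ * ((b₁⁻¹ * a₁⁻¹)⁻¹ * (a₁⁻¹ * b₁⁻¹)) := by group
  rw [← l, h', r]


/-- A finite group which is the product AB of two abelian subgroups A and B is solvable. -/
theorem result {G : Type*} [Group G] [Finite G] (A B : Subgroup G)
    [IsMulCommutative A] [IsMulCommutative B] (hAB : ∀ g : G, ∃ a ∈ A, ∃ b ∈ B, g = a * b) :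
    Group.IsSolvable G := by
  have hA : ∀ x ∈ A, ∀ y ∈ A, Commute x y := by
    intro x hx y hy
    have := mul_comm' (⟨x, hx⟩ : A) ⟨y, hy⟩
    exact congrArg Subtype.val this
  have hB : ∀ x ∈ B, ∀ y ∈ B, Commute x y := by
    intro x hx y hy
    have := mul_comm' (⟨x, hx⟩ : B) ⟨y, hy⟩
    exact congrArg Subtype.val this
  -- N = ⁅A, B⁆ is abelian
  have hgen : ∀ x ∈ {g | ∃ g₁ ∈ A, ∃ g₂ ∈ B, ⁅g₁, g₂⁆ = g}, ∀ y ∈ {g | ∃ g₁ ∈ A, ∃ g₂ ∈ B, ⁅g₁, g₂⁆ = g},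
      Commute x y := by
    rintro _ ⟨a₁, ha₁, b₁, hb₁, rfl⟩ _ ⟨a, ha, b, hb, rfl⟩
    exact ito_comm A B hA hB hAB a a₁ ha ha₁ b b₁ hb hb₁
  have hNab : ∀ x ∈ (⁅A, B⁆ : Subgroup G), ∀ y ∈ (⁅A, B⁆ : Subgroup G), Commute x y := by
    intro x hx y hy
    rw [Subgroup.commutator_def] at hx hy
    induction hx using Subgroup.closure_induction with
    | mem x hx =>
      induction hy using Subgroup.closure_induction with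
      | mem y hy => exact hgen x hx y hy
      | one => exact Commute.one_right _
      | mul y z _ _ h1 h2 => exact h1.mul_right h2
      | inv y _ h1 => exact h1.inv_right
    | one => exact Commute.one_left _
    | mul x z _ _ h1 h2 => exact h1.mul_left h2
    | inv x _ h1 => exact h1.inv_left
  -- N is normal
  have hsup : A ⊔ B = ⊤ := by
    rw [eq_top_iff]
    intro g _
    obtain ⟨a, ha, b, hb, rfl⟩ := hAB g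
    exact Subgroup.mul_mem _ (Subgroup.mem_sup_left ha) (Subgroup.mem_sup_right hb)
  have hN : (⁅A, B⁆ : Subgroup G).Normal := by
    rw [← Subgroup.normalizer_eq_top_iff, eq_top_iff, ← hsup]
    exact sup_le (Cfsg.Agent.Lib.Lead_Coprime.le_normalizer_commutator_left A B)
      (Cfsg.Agent.Lib.Lead_Coprime.le_normalizer_commutator_right A B)
  haveI : Group.IsSolvable (⁅A, B⁆ : Subgroup G) :=
    isSolvable_of_comm (fun x y => Subtype.ext (hNab x x.2 y y.2).eq)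
  -- the quotient is abelian
  have hq : ∀ x y : G ⧸ (⁅A, B⁆ : Subgroup G), x * y = y * x := by
    intro x y
    obtain ⟨g, rfl⟩ := QuotientGroup.mk_surjective x
    obtain ⟨h, rfl⟩ := QuotientGroup.mk_surjective y
    obtain ⟨a, ha, b, hb, rfl⟩ := hAB g
    obtain ⟨a', ha', b', hb', rfl⟩ := hAB h
    have hab : ∀ u ∈ A, ∀ v ∈ B, Commute (QuotientGroup.mk u : G ⧸ (⁅A, B⁆ : Subgroup G)) (QuotientGroup.mk v) := by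
      intro u hu v hv
      rw [← commutatorElement_eq_one_iff_commute]
      have : ⁅u, v⁆ ∈ (⁅A, B⁆ : Subgroup G) := Subgroup.commutator_mem_commutator hu hv
      have h1 := (QuotientGroup.eq_one_iff (N := (⁅A, B⁆ : Subgroup G)) ⁅u, v⁆).mpr this
      rw [← h1]
      simp only [commutatorElement_def, QuotientGroup.mk_mul, QuotientGroup.mk_inv]
    have haa : Commute (QuotientGroup.mk a : G ⧸ (⁅A, B⁆ : Subgroup G)) (QuotientGroup.mk a') := by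
      show (QuotientGroup.mk a : G ⧸ (⁅A, B⁆ : Subgroup G)) * QuotientGroup.mk a' = QuotientGroup.mk a' * QuotientGroup.mk a
      rw [← QuotientGroup.mk_mul, ← QuotientGroup.mk_mul, (hA a ha a' ha').eq]
    have hbb : Commute (QuotientGroup.mk b : G ⧸ (⁅A, B⁆ : Subgroup G)) (QuotientGroup.mk b') := by
      show (QuotientGroup.mk b : G ⧸ (⁅A, B⁆ : Subgroup G)) * QuotientGroup.mk b' = QuotientGroup.mk b' * QuotientGroup.mk b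
      rw [← QuotientGroup.mk_mul, ← QuotientGroup.mk_mul, (hB b hb b' hb').eq]
    have : Commute (QuotientGroup.mk (a * b) : G ⧸ (⁅A, B⁆ : Subgroup G)) (QuotientGroup.mk (a' * b')) := by
      rw [QuotientGroup.mk_mul, QuotientGroup.mk_mul]
      exact Commute.mul_left (Commute.mul_right haa (hab a ha b' hb'))
        (Commute.mul_right (hab a' ha' b hb).symm hbb)
    exact this.eq
  haveI : Group.IsSolvable (G ⧸ (⁅A, B⁆ : Subgroup G)) := isSolvable_of_comm hq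
  refine solvable_of_ker_le_range (⁅A, B⁆ : Subgroup G).subtype (QuotientGroup.mk' (⁅A, B⁆ : Subgroup G)) ?_
  rw [QuotientGroup.ker_mk', Subgroup.range_subtype]

end Cfsg.Agent.S0047
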