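import Cfsg.Statements.S0048
import Mathlib
import Cfsg.Agent.Lib.Lead_Coprime

set_option autoImplicit false
open Cfsg

namespace Cfsg.Agent.S0048

open Cfsg.Agent.Lib.Lead_SZ Cfsg.Agent.Lib.Lead_Coprime

universe u

theorem main : ∀ (n : ℕ) (G : Type u) [Group G] [Finite G] [Group.IsSolvable G],
    Nat.card G = n → ∀ M : Subgroup G, IsCoatom M → IsPrimePow M.index := by
  intro n
  induction n using Nat.strong_induction_on with
  | _ n ih =>
    intro G _ _ _ hn M hM
    haveI : Nontrivial G := by
      by_contra h
      rw [not_nontrivial_iff_subsingleton] at h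
      exact hM.1 (Subsingleton.elim _ _)
    obtain ⟨p, hp, N, hNn, hNp, hNne⟩ := exists_normal_pgroup G
    haveI := hNn
    by_cases hNM : N ≤ M
    · -- pass to quotient
      have hlt : Nat.card (G ⧸ N) < n := by
        rw [← hn, Subgroup.card_eq_card_quotient_mul_card_subgroup N]
        have h1 : 1 < Nat.card N := by
          rcases Nat.lt_or_ge 1 (Nat.card N) with h | h
          · exact h
          · exfalso
            have hpos : 0 < Nat.card N := Nat.card_pos
            have : Nat.card N = 1 := by omega
            exact hNne (Subgroup.card_eq_one.mp this)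
        have h2 : 0 < Nat.card (G ⧸ N) := Nat.card_pos
        nlinarith
      have hsurj := QuotientGroup.mk'_surjective N
      have hker : (QuotientGroup.mk' N).ker ≤ M := by rw [QuotientGroup.ker_mk']; exact hNM
      have hcm : (M.map (QuotientGroup.mk' N)).comap (QuotientGroup.mk' N) = M := by
        rw [Subgroup.comap_map_eq, QuotientGroup.ker_mk', sup_eq_left.mpr hNM]
      have hco : IsCoatom (M.map (QuotientGroup.mk' N)) := by
        constructor
        · intro htop
          apply hM.1
          rw [← hcm, htop, Subgroup.comap_top]
        · intro X hX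
          have h1 : M ≤ X.comap (QuotientGroup.mk' N) := by
            rw [← hcm]; exact Subgroup.comap_mono hX.le
          have h2 : M ≠ X.comap (QuotientGroup.mk' N) := by
            intro heq
            have : M.map (QuotientGroup.mk' N) = X := by
              rw [heq, Subgroup.map_comap_eq_self_of_surjective hsurj]
            exact hX.ne this
          have h3 := hM.2 _ (lt_of_le_of_ne h1 h2)
          rw [← Subgroup.map_comap_eq_self_of_surjective hsurj X, h3, Subgroup.map_top_of_surjective _ hsurj]
      have := ih _ hlt (G ⧸ N) rfl _ hco
      rwa [Subgroup.index_map_eq _ hsurj hker] at this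
    · -- M ⊔ N = ⊤
      have hsup : M ⊔ N = ⊤ := by
        apply hM.2
        refine lt_of_le_of_ne le_sup_left ?_
        intro heq
        apply hNM
        rw [heq]; exact le_sup_right
      have h1 := relIndex_sup_of_le_normalizer M N (by
        rw [Subgroup.normalizer_eq_top_iff.mpr hNn]; exact le_top)
      rw [hsup, Subgroup.relIndex_top_right] at h1
      -- N.index = N.relIndex M ; |G| = |N| * N.index, |M| = |N ⊓ M| * N.relIndex M
      have h2 := Subgroup.card_mul_index N
      have h3 := Subgroup.card_mul_index M
      have h4 : Nat.card (N.subgroupOf M) * N.relIndex M = Nat.card M := Subgroup.card_mul_index _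
      have h5 : Nat.card (N.subgroupOf M) = Nat.card (N ⊓ M : Subgroup G) := by
        rw [← Subgroup.inf_subgroupOf_right, card_subgroupOf_of_le inf_le_right]
      have h6 : Nat.card (N ⊓ M : Subgroup G) * M.index = Nat.card N := by
        have hpos : 0 < N.relIndex M := by
          rw [← h1]; exact Nat.pos_of_ne_zero Subgroup.index_ne_zero_of_finite
        apply Nat.eq_of_mul_eq_mul_right hpos
        calc Nat.card (N ⊓ M : Subgroup G) * M.index * N.relIndex M
            = (Nat.card (N.subgroupOf M) * N.relIndex M) * M.index := by rw [h5]; ring
          _ = Nat.card M * M.index := by rw [h4]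
          _ = Nat.card G := h3
          _ = Nat.card N * N.index := h2.symm
          _ = Nat.card N * N.relIndex M := by rw [h1]
      haveI := Fact.mk hp
      obtain ⟨k, hk⟩ := hNp.exists_card_eq
      have hdvd : M.index ∣ p ^ k := by rw [← hk, ← h6]; exact Dvd.intro_left _ rfl
      obtain ⟨j, _, hj⟩ := (Nat.dvd_prime_pow hp).mp hdvd
      rw [isPrimePow_nat_iff]
      refine ⟨p, j, hp, ?_, hj.symm⟩
      rcases Nat.eq_zero_or_pos j with h0 | h0
      · exfalso
        rw [h0, pow_zero] at hj
        exact hM.1 (Subgroup.index_eq_one.mp hj)
      · exact h0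


/-- In a finite solvable group every maximal subgroup has index a prime power. -/
theorem result {G : Type*} [Group G] [Finite G] [Group.IsSolvable G]
    (M : Subgroup G) (hM : IsCoatom M) : IsPrimePow M.index := by
  exact main _ G rfl M hM

end Cfsg.Agent.S0048
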