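import Cfsg.Statements.S0049
import Mathlib

set_option autoImplicit false
open Cfsg

namespace Cfsg.Agent.S0049

/-- A prime divisor of the order of a finite group also divides the index of the Frattini subgroup. -/
theorem result {G : Type*} [Group G] [Finite G] (p : ℕ) (hp : p.Prime) (hdvd : p ∣ Nat.card G) :
    p ∣ (frattini G).index := by
  by_contra hnd
  haveI := Fact.mk hp
  obtain ⟨P⟩ : Nonempty (Sylow p (frattini G)) := inferInstance
  have h1 := Sylow.normalizer_sup_eq_top P
  have h2 := frattini_nongenerating h1
  have hPn : ((P : Subgroup (frattini G)).map (frattini G).subtype).Normal :=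
    Subgroup.normalizer_eq_top_iff.mp h2
  have hPp : IsPGroup p ((P : Subgroup (frattini G)).map (frattini G).subtype) :=
    P.isPGroup'.map _
  have hidx : ¬ p ∣ ((P : Subgroup (frattini G)).map (frattini G).subtype).index := by
    rw [Subgroup.index_map_subtype]
    intro h
    rcases (Nat.Prime.dvd_mul hp).mp h with h | h
    · exact P.not_dvd_index h
    · exact hnd h
  have hcop : (Nat.card ((P : Subgroup (frattini G)).map (frattini G).subtype)).Coprime
      ((P : Subgroup (frattini G)).map (frattini G).subtype).index := by
    obtain ⟨k, hk⟩ := hPp.exists_card_eq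
    rw [hk]
    exact Nat.Coprime.pow_left k ((Nat.Prime.coprime_iff_not_dvd hp).mpr hidx)
  obtain ⟨H, hH⟩ := Subgroup.exists_right_complement'_of_coprime hcop
  have h3 : H ⊔ frattini G = ⊤ := by
    rw [eq_top_iff, ← hH.sup_eq_top]
    exact sup_le (le_sup_of_le_right (Subgroup.map_subtype_le _)) le_sup_left
  have h4 : H = ⊤ := frattini_nongenerating h3
  have h5 := hH.card_mul_card
  rw [h4, Subgroup.card_top] at h5
  have hpos : 0 < Nat.card G := Nat.card_pos
  have h6 : Nat.card ((P : Subgroup (frattini G)).map (frattini G).subtype) = 1 := by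
    have : Nat.card ((P : Subgroup (frattini G)).map (frattini G).subtype) * Nat.card G
        = 1 * Nat.card G := by rw [h5, one_mul]
    exact Nat.eq_of_mul_eq_mul_right hpos this
  have h7 := Subgroup.card_mul_index ((P : Subgroup (frattini G)).map (frattini G).subtype)
  rw [h6, one_mul] at h7
  rw [h7] at hidx
  exact hidx hdvd

end Cfsg.Agent.S0049
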