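import Cfsg.Statements.S0050
import Mathlib
import Cfsg.Agent.Lib.Lead_Hall

set_option autoImplicit false
open Cfsg

namespace Cfsg.Agent.S0050

open Cfsg.Agent.Lib.Lead_Hall Cfsg.Agent.Lib.Lead_SZ Pointwise

/-- Frattini argument for Hall subgroups: if L is a solvable normal subgroup and H a subgroup of L of order coprime to its index in L, then L together with the normaliser of H generates the whole group. -/
theorem result {G : Type*} [Group G] [Finite G] (L : Subgroup G) [L.Normal] (hL : Group.IsSolvable L)
    (H : Subgroup G) (hHL : H ≤ L) (hHall : (Nat.card H).Coprime (H.relIndex L)) :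
    L ⊔ Subgroup.normalizer (H : Set G) = ⊤ := by
  haveI := hL
  rw [eq_top_iff]
  intro g _
  have hgL : MulAut.conj g • H ≤ L := by
    intro x hx
    rw [mem_conj_smul] at hx
    have h1 := ‹L.Normal›.conj_mem _ (hHL hx) g
    have e : g * (g⁻¹ * x * g) * g⁻¹ = x := by group
    rw [e] at h1; exact h1
  have hcL : Nat.card L = Nat.card H * H.relIndex L := by
    have := Subgroup.card_mul_index (H.subgroupOf L)
    rw [card_subgroupOf_of_le hHL] at this
    exact this.symm
  obtain ⟨l, hl⟩ := (hall ↥L (Nat.card H) (H.relIndex L) hcL hHall).2.1 (H.subgroupOf L)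
    ((MulAut.conj g • H).subgroupOf L) (card_subgroupOf_of_le hHL)
    (by rw [card_subgroupOf_of_le hgL, card_conj_smul])
  have h2 := conj_of_subgroupOf L l H (MulAut.conj g • H) hHL hgL hl
  have h3 : (l : G)⁻¹ * g ∈ Subgroup.normalizer (H : Set G) := by
    rw [conj_smul_le_normalizer, ← conj_smul_smul, ← h2, conj_smul_smul, inv_mul_cancel,
      map_one, one_smul]
  have e : g = (l : G) * ((l : G)⁻¹ * g) := by group
  rw [e]
  exact Subgroup.mul_mem _ (Subgroup.mem_sup_left l.2) (Subgroup.mem_sup_right h3)

end Cfsg.Agent.S0050
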