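import Cfsg.Statements.S0052
import Mathlib
import Cfsg.Agent.Lib.Lead_Gaschutz

set_option autoImplicit false
open Pointwise
open Cfsg

namespace Cfsg.Agent.S0052

open Cfsg.Agent.Lib.Lead_Gaschutz

/-- Gaschütz's Theorem, conjugacy: for an abelian normal subgroup K ≤ U with the order of K coprime to the index of U, two complements of K in G having the same intersection with U are conjugate. -/
theorem result {G : Type*} [Group G] [Finite G] (K U : Subgroup G) [K.Normal] [IsMulCommutative K]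
    (hKU : K ≤ U) (hcop : (Nat.card K).Coprime U.index)
    (H₀ H₁ : Subgroup G) (h₀ : Subgroup.IsComplement' K H₀) (h₁ : Subgroup.IsComplement' K H₁) (hU : H₀ ⊓ U = H₁ ⊓ U) :
    ∃ g : G, MulAut.conj g • H₀ = H₁ := by
  classical
  letI : Fintype (G ⧸ U) := Fintype.ofFinite _
  obtain ⟨A, hA⟩ : ∃ A : Subgroup G, A = H₀ ⊓ U := ⟨_, rfl⟩
  have hAK : A ⊓ K = ⊥ := by
    rw [eq_bot_iff, hA]
    intro x hx
    obtain ⟨hx1, hx2⟩ := Subgroup.mem_inf.mp hx
    have : x ∈ K ⊓ H₀ := Subgroup.mem_inf.mpr ⟨hx2, (Subgroup.mem_inf.mp hx1).1⟩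
    rw [h₀.disjoint.eq_bot] at this
    exact this
  have hKA : K ⊔ A = U := by
    apply le_antisymm
    · rw [hA]; exact sup_le hKU inf_le_right
    · intro u hu
      obtain ⟨k, hk, h, hh, rfl⟩ := Cfsg.Agent.Lib.Lead_SZ.exists_mul_of_complement h₀ u
      refine Subgroup.mul_mem_sup hk ?_
      rw [hA]
      refine Subgroup.mem_inf.mpr ⟨hh, ?_⟩
      have : h = k⁻¹ * (k * h) := by group
      rw [this]
      exact U.mul_mem (U.inv_mem (hKU hk)) hu
  obtain ⟨s₀, hs₀, hs₀H⟩ := exists_sec_in (U := U) hKU H₀ h₀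
  obtain ⟨s₁, hs₁, hs₁H⟩ := exists_sec_in (U := U) hKU H₁ h₁
  have hst₀ := stab_eq hKU hcop hAK hKA s₀ hs₀ H₀ h₀ hA.symm hs₀H
  have hst₁ := stab_eq hKU hcop hAK hKA s₁ hs₁ H₁ h₁ (by rw [← hU]; exact hA.symm) hs₁H
  obtain ⟨k, hk⟩ := exists_pow_index hcop (dd K A s₀ s₁)
  have hs₀' := act_isSec hs₀ (k : G)
  -- the translated section is equivalent to s₁
  have h1 : dd K A (act U (k : G) s₀) s₁ = 1 := by
    rw [dd_trans hAK hKA hs₀' hs₀ hs₁, dd_symm hAK hKA hs₀ hs₀', dd_act_mem hAK hKU, hk,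
      inv_mul_cancel]
  have h1' : dd K A s₁ (act U (k : G) s₀) = 1 := by
    rw [dd_symm hAK hKA hs₀' hs₁, h1, inv_one]
  refine ⟨(k : G), ?_⟩
  symm
  apply Cfsg.Agent.Lib.Lead_SZ.eq_of_le_of_card_eq
  · intro g hg
    rw [Cfsg.Agent.Lib.Lead_SZ.mem_conj_smul, ← hst₀, mem_stab]
    have hg1 : dd K A s₁ (act U g s₁) = 1 := by
      rw [← mem_stab hAK hKA s₁ hs₁, hst₁]; exact hg
    have h2 : dd K A (act U (k : G) s₀) (act U g (act U (k : G) s₀)) = 1 := by
      rw [dd_trans hAK hKA hs₀' hs₁ (act_isSec hs₀' g), h1, one_mul,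
        dd_trans hAK hKA hs₁ (act_isSec hs₁ g) (act_isSec hs₀' g), hg1, one_mul,
        dd_act hAK hKA hs₁ hs₀' g, h1', map_one]
    have h3 := dd_act hAK hKA hs₀' (act_isSec hs₀' g) (k : G)⁻¹
    rw [h2, map_one, ← act_mul, inv_mul_cancel, act_one, ← act_mul, ← act_mul] at h3
    rw [← h3]
  · rw [Cfsg.Agent.Lib.Lead_SZ.card_conj_smul]
    have e0 := h₀.card_mul
    have e1 := h₁.card_mul
    have hK0 : 0 < Nat.card K := Nat.card_pos
    exact Nat.eq_of_mul_eq_mul_left hK0 (e1.trans e0.symm)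

end Cfsg.Agent.S0052
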