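import Cfsg.Statements.S0053
import Mathlib
import Cfsg.Agent.Lib.Lead_Coprime

set_option autoImplicit false
open Cfsg

namespace Cfsg.Agent.S0053

/-- An abelian minimal normal subgroup N of a finite group is complemented exactly when N is not inside the Frattini subgroup. -/
theorem result {G : Type*} [Group G] [Finite G]
    (N : Subgroup G) [N.Normal] [IsMulCommutative N] (hN : N ≠ ⊥)
    (hmin : ∀ M : Subgroup G, M.Normal → M ≤ N → M = ⊥ ∨ M = N) :
    (∃ H : Subgroup G, Subgroup.IsComplement' N H) ↔ ¬ N ≤ frattini G := by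
  classical
  constructor
  · rintro ⟨H, hH⟩ hle
    have h1 : H ⊔ frattini G = ⊤ := by
      rw [eq_top_iff, ← hH.sup_eq_top]
      exact sup_le (le_sup_of_le_right hle) le_sup_left
    have h2 : H = ⊤ := frattini_nongenerating h1
    have h3 : N ⊓ H = ⊥ := hH.disjoint.eq_bot
    rw [h2, inf_top_eq] at h3
    exact hN h3
  · intro hle
    -- some maximal subgroup does not contain N
    have hex : ∃ M : Subgroup G, IsCoatom M ∧ ¬ N ≤ M := by
      by_contra hcon
      push Not at hcon
      apply hle
      show N ≤ ⨅ a ∈ {H : Subgroup G | IsCoatom H}, a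
      exact le_iInf₂ (fun M hM => hcon M hM)
    obtain ⟨M, hM, hNM⟩ := hex
    have hsup : N ⊔ M = ⊤ := by
      apply hM.2
      refine lt_of_le_of_ne le_sup_right ?_
      intro heq
      apply hNM
      rw [heq]; exact le_sup_left
    have hinfn : (N ⊓ M).Normal := by
      rw [← Subgroup.normalizer_eq_top_iff, eq_top_iff, ← hsup]
      refine sup_le ?_ ?_
      · -- N normalizes N ⊓ M since N is abelian
        intro n hn
        refine Cfsg.Agent.Lib.Lead_Coprime.mem_normalizer_of_conj_mem ?_ ?_
        · intro x hx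
          have hxN := (Subgroup.mem_inf.mp hx).1
          have hc : n * x = x * n := congrArg Subtype.val (mul_comm' (⟨n, hn⟩ : N) ⟨x, hxN⟩)
          rw [hc, mul_inv_cancel_right]; exact hx
        · intro x hx
          have hxN := (Subgroup.mem_inf.mp hx).1
          have hc : x * n = n * x := congrArg Subtype.val (mul_comm' (⟨x, hxN⟩ : N) ⟨n, hn⟩)
          rw [mul_assoc, hc, inv_mul_cancel_left]; exact hx
      · intro m hm
        refine Cfsg.Agent.Lib.Lead_Coprime.mem_normalizer_of_conj_mem ?_ ?_
        · intro x hx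
          obtain ⟨hxN, hxM⟩ := Subgroup.mem_inf.mp hx
          exact Subgroup.mem_inf.mpr ⟨‹N.Normal›.conj_mem x hxN m,
            M.mul_mem (M.mul_mem hm hxM) (M.inv_mem hm)⟩
        · intro x hx
          obtain ⟨hxN, hxM⟩ := Subgroup.mem_inf.mp hx
          refine Subgroup.mem_inf.mpr ⟨?_, M.mul_mem (M.mul_mem (M.inv_mem hm) hxM) hm⟩
          have := ‹N.Normal›.conj_mem x hxN m⁻¹
          rwa [inv_inv] at this
    rcases hmin (N ⊓ M) hinfn inf_le_left with h | h
    · refine ⟨M, ?_⟩
      apply Subgroup.isComplement'_of_disjoint_and_mul_eq_univ (disjoint_iff.mpr h)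
      rw [← Subgroup.normal_mul, hsup, Subgroup.coe_top]
    · exfalso
      apply hNM
      rw [← h]; exact inf_le_right

end Cfsg.Agent.S0053
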