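import Cfsg.Statements.S0054
import Mathlib

set_option autoImplicit false
open Cfsg

namespace Cfsg.Agent.S0054

/-- A regular normal subgroup of a finite 2-transitive group is elementary abelian: it is commutative and all its elements have order dividing one prime. -/
theorem result {G : Type*} [Group G] [Finite G]
    {X : Type*} [Nonempty X] [MulAction G X] (h2 : MulAction.IsMultiplyPretransitive G X 2)
    (N : Subgroup G) [N.Normal] (htrans : MulAction.IsPretransitive N X) (hreg : ∀ x : X, MulAction.stabilizer N x = ⊥) :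
    IsMulCommutative N ∧ ∃ p : ℕ, p.Prime ∧ ∀ n ∈ N, n ^ p = 1 := by
  classical
  obtain ⟨x₀⟩ := ‹Nonempty X›
  have h2' : ∀ {a b c d : X} (_ : a ≠ b) (_ : c ≠ d), ∃ g : G, g • a = c ∧ g • b = d :=
    MulAction.is_two_pretransitive_iff.mp h2
  -- nontrivial elements of N move x₀
  have hmove : ∀ n ∈ N, n ≠ 1 → n • x₀ ≠ x₀ := by
    intro n hn hn1 hfix
    have : (⟨n, hn⟩ : N) ∈ MulAction.stabilizer N x₀ := by
      rw [MulAction.mem_stabilizer_iff]; exact hfix
    rw [hreg x₀, Subgroup.mem_bot] at this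
    exact hn1 (congrArg Subtype.val this)
  -- conjugacy of nontrivial elements of N
  have hconj : ∀ n₀ ∈ N, n₀ ≠ 1 → ∀ n ∈ N, n ≠ 1 → ∃ g : G, n = g * n₀ * g⁻¹ := by
    intro n₀ hn₀ hn₀1 n hn hn1
    obtain ⟨g, hg1, hg2⟩ := h2' (hmove n₀ hn₀ hn₀1).symm (hmove n hn hn1).symm
    refine ⟨g, ?_⟩
    have hc : g * n₀ * g⁻¹ ∈ N := ‹N.Normal›.conj_mem n₀ hn₀ g
    have hginv : g⁻¹ • x₀ = x₀ := by
      rw [inv_smul_eq_iff, hg1]
    have h3 : (g * n₀ * g⁻¹) • x₀ = n • x₀ := by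
      rw [mul_smul, mul_smul, hginv, hg2]
    have h4 : (⟨n⁻¹ * (g * n₀ * g⁻¹), N.mul_mem (N.inv_mem hn) hc⟩ : N) ∈ MulAction.stabilizer N x₀ := by
      rw [MulAction.mem_stabilizer_iff]
      show (n⁻¹ * (g * n₀ * g⁻¹)) • x₀ = x₀
      rw [mul_smul, h3, inv_smul_smul]
    rw [hreg x₀, Subgroup.mem_bot] at h4
    have h5 := congrArg Subtype.val h4
    simp only [Subgroup.coe_one] at h5
    exact (inv_mul_eq_one.mp h5)
  by_cases htriv : ∀ n ∈ N, n = 1
  · refine ⟨⟨⟨fun a b => ?_⟩⟩, 2, Nat.prime_two, fun n hn => by rw [htriv n hn, one_pow]⟩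
    apply Subtype.ext
    rw [Subgroup.coe_mul, Subgroup.coe_mul, htriv a a.2, htriv b b.2]
  · push_neg at htriv
    obtain ⟨n₁, hn₁, hn₁1⟩ := htriv
    haveI : Nontrivial N := ⟨⟨⟨n₁, hn₁⟩, 1, fun h => hn₁1 (congrArg Subtype.val h)⟩⟩
    -- a prime dividing |N|
    have hcard : Nat.card N ≠ 1 := by
      have := Finite.one_lt_card_iff_nontrivial.mpr ‹Nontrivial N›
      omega
    obtain ⟨p, hp, hpdvd⟩ := Nat.exists_prime_and_dvd hcard
    haveI : Fact p.Prime := ⟨hp⟩
    obtain ⟨n₀, hn₀⟩ := exists_prime_orderOf_dvd_card' p hpdvd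
    have hn₀1 : (n₀ : G) ≠ 1 := by
      intro h
      have : n₀ = 1 := Subtype.ext h
      rw [this, orderOf_one] at hn₀
      exact hp.one_lt.ne hn₀
    have hn₀p : (n₀ : G) ^ p = 1 := by
      have := pow_orderOf_eq_one n₀
      rw [hn₀] at this
      have h := congrArg Subtype.val this
      rwa [Subgroup.coe_pow, Subgroup.coe_one] at h
    have hexp : ∀ n ∈ N, n ^ p = 1 := by
      intro n hn
      by_cases hn1 : n = 1
      · rw [hn1, one_pow]
      · obtain ⟨g, rfl⟩ := hconj n₀ n₀.2 hn₀1 n hn hn1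
        rw [conj_pow, hn₀p]; group
    have hPN : IsPGroup p N := by
      intro n
      refine ⟨1, ?_⟩
      apply Subtype.ext
      rw [Subgroup.coe_pow, pow_one, hexp n n.2, Subgroup.coe_one]
    haveI := hPN.center_nontrivial
    obtain ⟨z, hz1⟩ := exists_ne (1 : Subgroup.center N)
    have hzc : ∀ m : N, m * (z : N) = (z : N) * m := fun m => Subgroup.mem_center_iff.mp z.2 m
    have hz1' : ((z : N) : G) ≠ 1 := by
      intro h
      apply hz1
      apply Subtype.ext
      apply Subtype.ext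
      rw [h]; rfl
    refine ⟨⟨⟨fun a b => ?_⟩⟩, p, hp, hexp⟩
    by_cases ha1 : (a : G) = 1
    · have : a = 1 := Subtype.ext ha1
      rw [this, one_mul, mul_one]
    · obtain ⟨g, hg⟩ := hconj (z : N) (z : N).2 hz1' a a.2 ha1
      apply Subtype.ext
      rw [Subgroup.coe_mul, Subgroup.coe_mul, hg]
      have hb' : g⁻¹ * (b : G) * g ∈ N := by
        have := ‹N.Normal›.conj_mem (b : G) b.2 g⁻¹
        rwa [inv_inv] at this
      have h6 := congrArg Subtype.val (hzc ⟨g⁻¹ * (b : G) * g, hb'⟩)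
      rw [Subgroup.coe_mul, Subgroup.coe_mul] at h6
      simp only at h6
      calc g * ((z : N) : G) * g⁻¹ * (b : G) = g * (((z : N) : G) * (g⁻¹ * (b : G) * g)) * g⁻¹ := by group
        _ = g * ((g⁻¹ * (b : G) * g) * ((z : N) : G)) * g⁻¹ := by rw [h6]
        _ = (b : G) * (g * ((z : N) : G) * g⁻¹) := by group

end Cfsg.Agent.S0054
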