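import Mathlib
import Cfsg.Statements.S0057
import Cfsg.Agent.Lib.Lead_Coprime
import Cfsg.Agent.Lib.Helper1_Index
import Cfsg.Agent.S0027

set_option autoImplicit false
open Cfsg

namespace Cfsg.Agent.S0057

open Cfsg.Agent.Lib Cfsg.Agent.Lib.Lead_Coprime Cfsg.Agent.Lib.Lead_SZ
open scoped commutatorElement

section
variable {G : Type*} [Group G] [Finite G]

omit [Finite G] in
theorem card_eq_card_mul_relIndex {D N : Subgroup G} (h : D ≤ N) :
    Nat.card N = Nat.card D * D.relIndex N := by
  have := Subgroup.relIndex_mul_relIndex ⊥ D N bot_le h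
  rw [Subgroup.relIndex_bot_left, Subgroup.relIndex_bot_left] at this
  exact this.symm

/-- the `p`-group case. -/
theorem pgroup_case (A R : Subgroup G) (hAR : A ≤ Subgroup.normalizer (R : Set G))
    (hcop : (Nat.card A).Coprime (Nat.card R)) (p : ℕ) [hp : Fact p.Prime] (hR : IsPGroup p R)
    (hRA : ⁅R, A⁆ = R) (hidx : (R ⊓ Subgroup.centralizer (A : Set G)).relIndex R = p) :
    Nat.card R = p := by
  set D := R ⊓ Subgroup.centralizer (A : Set G) with hD
  have hDR : D ≤ R := inf_le_left
  have hcard := card_eq_card_mul_relIndex hDR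
  rw [hidx] at hcard
  obtain ⟨k, hk⟩ := IsPGroup.iff_card.mp hR
  have hk0 : k ≠ 0 := by
    rintro rfl
    rw [pow_zero] at hk
    rw [hk] at hcard
    have := hp.out.two_le
    have h1 : p ∣ 1 := ⟨Nat.card D, by rw [hcard]; ring⟩
    exact hp.out.one_lt.ne' (Nat.dvd_one.mp h1)
  -- D normal in R
  have hDn : (D.subgroupOf R).Normal := by
    apply Subgroup.normal_of_index_eq_minFac_card
    show D.relIndex R = _
    rw [hidx, hk, Nat.Prime.pow_minFac hp.out hk0]
  have hDRcomm : ⁅D, R⁆ ≤ D := by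
    rw [Subgroup.commutator_le]
    intro d hd r hr
    have h1 := hDn.conj_mem ⟨d⁻¹, hDR (D.inv_mem hd)⟩
      (by rw [Subgroup.mem_subgroupOf]; exact D.inv_mem hd) ⟨r, hr⟩
    rw [Subgroup.mem_subgroupOf] at h1
    have h2 : r * d⁻¹ * r⁻¹ ∈ D := h1
    have e : ⁅d, r⁆ = d * (r * d⁻¹ * r⁻¹) := by simp only [commutatorElement_def]; group
    rw [e]; exact D.mul_mem hd h2
  have hDA : ⁅D, A⁆ = ⊥ := by
    rw [Subgroup.commutator_eq_bot_iff_le_centralizer]
    exact inf_le_right
  have h1 : ⁅⁅A, D⁆, R⁆ = ⊥ := by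
    rw [Subgroup.commutator_comm A D, hDA, Subgroup.commutator_bot_left]
  have h2 : ⁅⁅D, R⁆, A⁆ = ⊥ := by
    rw [eq_bot_iff, ← hDA]
    exact Subgroup.commutator_mono hDRcomm le_rfl
  have h3 : ⁅⁅R, A⁆, D⁆ = ⊥ := Subgroup.commutator_commutator_eq_bot_of_rotate h1 h2
  rw [hRA] at h3
  have hDcent : D ≤ Subgroup.centralizer (R : Set G) := by
    rw [← Subgroup.commutator_eq_bot_iff_le_centralizer, Subgroup.commutator_comm]
    exact h3
  -- R abelian
  haveI hcomm : IsMulCommutative R := by
    haveI : Fact p.Prime := hp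
    haveI : IsCyclic (R ⧸ D.subgroupOf R) := by
      apply isCyclic_of_prime_card (p := p)
      rw [← Subgroup.index_eq_card]
      exact hidx
    apply MonoidHom.isMulCommutative_of_isCyclic_of_ker_le_center
      (QuotientGroup.mk' (D.subgroupOf R))
    rw [QuotientGroup.ker_mk']
    intro d hd
    rw [Subgroup.mem_subgroupOf] at hd
    rw [Subgroup.mem_center_iff]
    intro r
    apply Subtype.ext
    exact Subgroup.mem_centralizer_iff.mp (hDcent hd) r.1 r.2
  have h4 := abelian_inf_eq_bot A R hAR hcop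
  rw [hRA, ← hD, inf_eq_left.mpr hDR] at h4
  rw [hcard, h4, Subgroup.card_bot, one_mul]

/-- the core case `[N, A] = N`. -/
theorem core (A N : Subgroup G) (hAN : A ≤ Subgroup.normalizer (N : Set G))
    (hcop : (Nat.card A).Coprime (Nat.card N)) (hsolv : Group.IsSolvable A ∨ Group.IsSolvable N)
    (hNA : ⁅N, A⁆ = N) (p : ℕ) [hp : Fact p.Prime]
    (hidx : (N ⊓ Subgroup.centralizer (A : Set G)).relIndex N = p) : Nat.card N = p := by
  set D := N ⊓ Subgroup.centralizer (A : Set G) with hD
  have hDN : D ≤ N := inf_le_left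
  have hcardN := card_eq_card_mul_relIndex hDN
  rw [hidx] at hcardN
  -- invariant Sylow
  obtain ⟨P, hAP⟩ := exists_invariant_sylow A N hAN hcop hsolv p
  set P' := (P : Subgroup N).map N.subtype with hP'
  have hP'N : P' ≤ N := Subgroup.map_subtype_le _
  have hP'card : Nat.card P' = p ^ (Nat.card N).factorization p := by
    rw [hP', Subgroup.card_map_of_injective N.subtype_injective]
    exact P.card_eq_multiplicity
  have hP'pg : IsPGroup p P' := IsPGroup.of_card hP'card
  have hcopP : (Nat.card A).Coprime (Nat.card P') :=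
    Nat.Coprime.coprime_dvd_right (Subgroup.card_dvd_of_le hP'N) hcop
  have hsolvP : Group.IsSolvable A ∨ Group.IsSolvable P' := by
    right
    haveI := hP'pg.isNilpotent
    infer_instance
  have hp1 := hp.out
  -- Step 1: index of fixed points in P'
  set DP := P' ⊓ Subgroup.centralizer (A : Set G) with hDP
  have hDPeq : DP = D ⊓ P' := by
    rw [hDP, hD, inf_comm N, inf_assoc, inf_comm (Subgroup.centralizer (A : Set G)),
      inf_eq_right.mpr hP'N]
  have hDPidx : DP.relIndex P' = p := by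
    rw [hDPeq, Subgroup.inf_relIndex_right]
    have h1 : D.relIndex P' ≤ p := by
      rw [← hidx]
      exact Subgroup.relIndex_le_of_le_right hP'N (by rw [hidx]; exact hp1.ne_zero)
    have h2 : D.relIndex P' ∣ p ^ (Nat.card N).factorization p := by
      rw [← hP'card]; exact Subgroup.relIndex_dvd_card D P'
    obtain ⟨j, -, hj⟩ := (Nat.dvd_prime_pow hp1).mp h2
    rcases Nat.eq_zero_or_pos j with hj0 | hjpos
    · exfalso
      rw [hj0, pow_zero, Subgroup.relIndex_eq_one] at hj
      have h3 : Nat.card P' ∣ Nat.card D := Subgroup.card_dvd_of_le hj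
      have h4 : p ^ ((Nat.card N).factorization p + 1) ∣ Nat.card N := by
        rw [pow_succ, ← hP'card]
        calc Nat.card P' * p ∣ Nat.card D * p := Nat.mul_dvd_mul h3 dvd_rfl
          _ = Nat.card N := hcardN.symm
      exact Nat.pow_succ_factorization_not_dvd Nat.card_pos.ne' hp1 h4
    · rw [hj] at h1 ⊢
      have h3 : p ^ j ≤ p ^ 1 := by rw [pow_one]; exact h1
      have h4 := (Nat.pow_le_pow_iff_right hp1.one_lt).mp h3
      have h5 : j = 1 := by omega
      rw [h5, pow_one]
  -- Step 2: R = [P', A]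
  set R := (⁅P', A⁆ : Subgroup G) with hR
  have hAR : A ≤ Subgroup.normalizer (R : Set G) := le_normalizer_commutator_right P' A
  have hRA : ⁅R, A⁆ = R := Cfsg.Agent.S0027.result A P' hAP hcopP hsolvP
  have hRP : R ≤ P' := commutator_le_of_le_normalizer P' A hAP
  have hRN : R ≤ N := hRP.trans hP'N
  have hRpg : IsPGroup p R := hP'pg.to_le hRP
  have hcopR : (Nat.card A).Coprime (Nat.card R) :=
    Nat.Coprime.coprime_dvd_right (Subgroup.card_dvd_of_le hRP) hcopP
  have hRsup : R ⊔ DP = P' := by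
    apply le_antisymm (sup_le hRP inf_le_left)
    intro k hk
    obtain ⟨n, hn, c, hc, rfl⟩ := decomp A P' hAP hcopP hsolvP k hk
    exact Subgroup.mul_mem _ (Subgroup.mem_sup_left hn) (Subgroup.mem_sup_right hc)
  have hRidx : (R ⊓ Subgroup.centralizer (A : Set G)).relIndex R = p := by
    have hn : (R.subgroupOf P').Normal :=
      Subgroup.normal_subgroupOf_of_le_normalizer (le_normalizer_commutator_left P' A)
    have h1 := Helper1_Index.second_iso_rel R DP P' hRP inf_le_left hn
    rw [hRsup, hDPidx] at h1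
    have h2 : R ⊓ DP = R ⊓ Subgroup.centralizer (A : Set G) := by
      rw [hDP, ← inf_assoc, inf_eq_left.mpr hRP]
    rw [h2] at h1
    exact h1.symm
  have hRcard : Nat.card R = p := pgroup_case A R hAR hcopR p hRpg hRA hRidx
  -- Step 3: N = R D
  have hRD : R ⊓ D = ⊥ := by
    have h1 : R ⊓ D = R ⊓ Subgroup.centralizer (A : Set G) := by
      rw [hD, ← inf_assoc, inf_eq_left.mpr hRN]
    rw [h1]
    have h2 := card_eq_card_mul_relIndex
      (inf_le_left : R ⊓ Subgroup.centralizer (A : Set G) ≤ R)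
    rw [hRidx, hRcard] at h2
    have h3 : Nat.card (R ⊓ Subgroup.centralizer (A : Set G) : Subgroup G) = 1 := by
      have hppos := hp1.pos
      nlinarith
    exact Subgroup.card_eq_one.mp h3
  have hcompl : (R.subgroupOf N).IsComplement' (D.subgroupOf N) := by
    apply Subgroup.isComplement'_of_card_mul_and_disjoint
    · rw [card_subgroupOf_of_le hRN, card_subgroupOf_of_le hDN, hRcard, hcardN, mul_comm]
    · rw [disjoint_iff, eq_bot_iff]
      intro x hx
      rw [Subgroup.mem_inf, Subgroup.mem_subgroupOf, Subgroup.mem_subgroupOf] at hx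
      have h1 : (x : G) ∈ R ⊓ D := Subgroup.mem_inf.mpr hx
      rw [hRD, Subgroup.mem_bot] at h1
      rw [Subgroup.mem_bot]
      exact Subtype.ext h1
  have hdecomp : ∀ n ∈ N, ∃ r ∈ R, ∃ c ∈ D, n = r * c := by
    intro n hn
    obtain ⟨⟨⟨r, hr⟩, ⟨c, hc⟩⟩, hrc, -⟩ := hcompl.existsUnique ⟨n, hn⟩
    refine ⟨r.1, hr, c.1, hc, ?_⟩
    have := congrArg Subtype.val hrc
    exact this.symm
  -- Step 5
  have hNR : N ≤ R := by
    rw [← hNA, Subgroup.commutator_le]
    intro n hn a ha
    obtain ⟨r, hr, c, hc, rfl⟩ := hdecomp n hn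
    have hca : a * c = c * a := Subgroup.mem_centralizer_iff.mp (Subgroup.mem_inf.mp hc).2 a ha
    have e : ⁅r * c, a⁆ = ⁅r, a⁆ := by
      simp only [commutatorElement_def]
      calc r * c * a * (r * c)⁻¹ * a⁻¹ = r * (c * a) * c⁻¹ * r⁻¹ * a⁻¹ := by group
        _ = r * (a * c) * c⁻¹ * r⁻¹ * a⁻¹ := by rw [hca]
        _ = r * a * r⁻¹ * a⁻¹ := by group
    rw [e, ← hRA]
    exact Subgroup.commutator_mem_commutator hr ha
  rw [le_antisymm hNR hRN, hRcard]

end

/-- Under coprime action, if the centraliser of A in K has prime index p in K then the commutator subgroup [K, A] has order exactly p. -/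
theorem result {G : Type*} [Group G] [Finite G] (A K : Subgroup G) (hAK : A ≤ Subgroup.normalizer (K : Set G))
    (hcop : (Nat.card A).Coprime (Nat.card K)) (hsolv : Group.IsSolvable A ∨ Group.IsSolvable K)
    (p : ℕ) (hp : p.Prime) (hidx : (K ⊓ Subgroup.centralizer (A : Set G)).relIndex K = p) :
    Nat.card (⁅K, A⁆ : Subgroup G) = p := by
  haveI : Fact p.Prime := ⟨hp⟩
  set N := (⁅K, A⁆ : Subgroup G) with hN
  have hNK : N ≤ K := commutator_le_of_le_normalizer K A hAK
  have hAN : A ≤ Subgroup.normalizer (N : Set G) := le_normalizer_commutator_right K A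
  have hcopN : (Nat.card A).Coprime (Nat.card N) :=
    Nat.Coprime.coprime_dvd_right (Subgroup.card_dvd_of_le hNK) hcop
  have hsolvN : Group.IsSolvable A ∨ Group.IsSolvable N := hsolv.imp id (solvable_of_le hNK)
  have hNA : ⁅N, A⁆ = N := Cfsg.Agent.S0027.result A K hAK hcop hsolv
  set Ck := K ⊓ Subgroup.centralizer (A : Set G) with hCk
  have hsup : N ⊔ Ck = K := by
    apply le_antisymm (sup_le hNK inf_le_left)
    intro k hk
    obtain ⟨n, hn, c, hc, rfl⟩ := decomp A K hAK hcop hsolv k hk
    exact Subgroup.mul_mem _ (Subgroup.mem_sup_left hn) (Subgroup.mem_sup_right hc)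
  have hn : (N.subgroupOf K).Normal :=
    Subgroup.normal_subgroupOf_of_le_normalizer (le_normalizer_commutator_left K A)
  have h1 := Helper1_Index.second_iso_rel N Ck K hNK inf_le_left hn
  rw [hsup, hidx] at h1
  have h2 : N ⊓ Ck = N ⊓ Subgroup.centralizer (A : Set G) := by
    rw [hCk, ← inf_assoc, inf_eq_left.mpr hNK]
  rw [h2] at h1
  exact core A N hAN hcopN hsolvN hNA p h1.symm

end Cfsg.Agent.S0057
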