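import Mathlib
import Cfsg.Statements.S0058
import Cfsg.Agent.Lib.Helper5_CoprimeGen

set_option autoImplicit false
open Cfsg

namespace Cfsg.Agent.S0058

open Cfsg.Agent.Lib.Helper5_CoprimeGen Subgroup

/-- Generation by centralisers: when a noncyclic abelian group A normalises K with coprime orders, K is generated by the fixed-point subgroups of the nonidentity elements of A. -/
theorem result {G : Type*} [Group G] [Finite G] (A K : Subgroup G)
    [IsMulCommutative A] (hA : ¬ IsCyclic A) (hAK : A ≤ Subgroup.normalizer (K : Set G)) (hcop : (Nat.card A).Coprime (Nat.card K)) :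
    (⨆ a ∈ {a : G | a ∈ A ∧ a ≠ 1}, K ⊓ Subgroup.centralizer {a}) = K := by
  apply le_antisymm
  · exact iSup₂_le fun a _ => inf_le_left
  · obtain ⟨q, hq, x, u, hxA, huA, hxu, hx, hu, hx1, hux⟩ := exists_rank_two A hA
    have hqp := hq.out
    have hu1 : u ≠ 1 := by
      intro h; apply hux; rw [h]; exact Subgroup.one_mem _
    have hqA : q ∣ Nat.card A := by
      have hordx : orderOf x = q := by
        have := orderOf_dvd_of_pow_eq_one hx
        rcases (Nat.dvd_prime hqp).mp this with h1 | h1
        · exact absurd (orderOf_eq_one_iff.mp h1) hx1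
        · exact h1
      rw [← hordx]
      exact Subgroup.orderOf_dvd_natCard A hxA
    have hqK : ¬ q ∣ Nat.card K := by
      intro h
      have := Nat.dvd_gcd hqA h
      rw [hcop] at this
      exact hqp.one_lt.ne' (Nat.dvd_one.mp this)
    have hsolv : IsSolvable A := by
      apply isSolvable_of_comm
      intro a b
      exact IsMulCommutative.is_comm.comm a b
    apply gen_of_rank_two A K hAK hcop (Or.inl hsolv) q hqK x u hxA huA hxu hx hu
    · intro j
      exact le_iSup₂ (f := fun a (_ : a ∈ {a : G | a ∈ A ∧ a ≠ 1}) => K ⊓ Subgroup.centralizer {a})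
        (x * u ^ j) ⟨A.mul_mem hxA (A.pow_mem huA j), mul_pow_ne_one q x u hx hu hx1 hux j⟩
    · intro i hi0 hiq
      exact le_iSup₂ (f := fun a (_ : a ∈ {a : G | a ∈ A ∧ a ≠ 1}) => K ⊓ Subgroup.centralizer {a})
        (u ^ i) ⟨A.pow_mem huA i, pow_ne_one_of_lt q u hu hu1 i hi0 hiq⟩

end Cfsg.Agent.S0058
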