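import Cfsg.Statements.S0059
import Mathlib
import Cfsg.Agent.Lib.Lead_Coprime

set_option autoImplicit false
open Cfsg

namespace Cfsg.Agent.S0059

open Cfsg.Agent.Lib.Lead_SZ Cfsg.Agent.Lib.Lead_Coprime

/-- Let a finite group act on a set on which a normal subgroup K of coprime order and index is transitive, with K or the quotient solvable. Then any complement H of K has a fixed point, and any two H-fixed points are interchanged by an element of K centralising H. -/
theorem result {G : Type*} [Group G] [Finite G] {X : Type*} [Nonempty X] [MulAction G X]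
    (K H : Subgroup G) [K.Normal] (hc : Subgroup.IsComplement' K H) (hcop : (Nat.card K).Coprime K.index)
    (hsolv : Group.IsSolvable K ∨ Group.IsSolvable (G ⧸ K)) (htrans : MulAction.IsPretransitive K X) :
    (∃ x : X, ∀ h ∈ H, h • x = x) ∧
    ∀ x y : X, (∀ h ∈ H, h • x = x) → (∀ h ∈ H, h • y = y) → ∃ k ∈ K ⊓ Subgroup.centralizer (H : Set G), k • x = y := by
  have hidx : K.index = Nat.card H := hc.symm.index_eq_card
  have hcop' : (Nat.card H).Coprime (Nat.card K) := by rw [← hidx]; exact hcop.symm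
  have hHK : H ≤ Subgroup.normalizer (K : Set G) := by
    rw [Subgroup.normalizer_eq_top_iff.mpr inferInstance]; exact le_top
  have hsolv' : Group.IsSolvable H ∨ Group.IsSolvable K := by
    rcases hsolv with h | h
    · exact Or.inr h
    · left
      have hinj : Function.Injective ((QuotientGroup.mk' K).comp H.subtype) := by
        rw [injective_iff_map_eq_one]
        intro x hx
        have h1 : (x : G) ∈ K := by
          have : (QuotientGroup.mk' K) (x : G) = 1 := hx
          exact (QuotientGroup.eq_one_iff _).mp this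
        have h2 : (x : G) ∈ K ⊓ H := Subgroup.mem_inf.mpr ⟨h1, x.2⟩
        rw [hc.disjoint.eq_bot, Subgroup.mem_bot] at h2
        exact Subtype.ext h2
      exact solvable_of_solvable_injective hinj
  constructor
  · obtain ⟨x₀⟩ := ‹Nonempty X›
    have hfrat : ∀ a ∈ H, ∃ k ∈ K, k⁻¹ * a ∈ MulAction.stabilizer G x₀ := by
      intro a _
      obtain ⟨k, hk⟩ := MulAction.exists_smul_eq K x₀ (a • x₀)
      refine ⟨k, k.2, ?_⟩
      rw [MulAction.mem_stabilizer_iff, mul_smul, inv_smul_eq_iff]
      exact hk.symm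
    obtain ⟨d, hd, hdS⟩ := lemmaF H K hHK hcop' hsolv' (MulAction.stabilizer G x₀) hfrat
    refine ⟨d⁻¹ • x₀, ?_⟩
    intro h hh
    have h1 := hdS h hh
    rw [MulAction.mem_stabilizer_iff, mul_smul, mul_smul] at h1
    rw [eq_inv_smul_iff]
    exact h1
  · intro x y hx hy
    obtain ⟨k, hk⟩ := MulAction.exists_smul_eq K x y
    have hk' : (k : G) • x = y := hk
    set D := MulAction.stabilizer G x ⊓ K with hD
    have hDK : D ≤ K := inf_le_right
    have hHS : H ≤ MulAction.stabilizer G x := fun h hh => hx h hh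
    have hDH : H ≤ Subgroup.normalizer (D : Set G) := by
      intro a ha
      refine mem_normalizer_of_conj_mem ?_ ?_
      · intro n hn
        obtain ⟨h1, h2⟩ := Subgroup.mem_inf.mp hn
        refine Subgroup.mem_inf.mpr ⟨?_, ?_⟩
        · exact Subgroup.mul_mem _ (Subgroup.mul_mem _ (hHS ha) h1) (Subgroup.inv_mem _ (hHS ha))
        · exact ‹K.Normal›.conj_mem n h2 a
      · intro n hn
        obtain ⟨h1, h2⟩ := Subgroup.mem_inf.mp hn
        refine Subgroup.mem_inf.mpr ⟨?_, ?_⟩
        · exact Subgroup.mul_mem _ (Subgroup.mul_mem _ (Subgroup.inv_mem _ (hHS ha)) h1) (hHS ha)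
        · have := ‹K.Normal›.conj_mem n h2 a⁻¹
          rwa [inv_inv] at this
    have hcopD : (Nat.card H).Coprime (Nat.card D) :=
      Nat.Coprime.coprime_dvd_right (Subgroup.card_dvd_of_le hDK) hcop'
    have hsolvD : Group.IsSolvable H ∨ Group.IsSolvable D := hsolv'.imp id (solvable_of_le hDK)
    have hxa : ∀ a ∈ H, (k : G)⁻¹ * a * k * a⁻¹ ∈ D := by
      intro a ha
      refine Subgroup.mem_inf.mpr ⟨?_, ?_⟩
      · refine Subgroup.mul_mem _ ?_ (Subgroup.inv_mem _ (hHS ha))
        rw [MulAction.mem_stabilizer_iff, mul_smul, mul_smul, hk', hy a ha, ← hk', inv_smul_smul]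
      · have h1 := ‹K.Normal›.conj_mem (k : G) k.2 a
        have e : (k : G)⁻¹ * a * k * a⁻¹ = (k : G)⁻¹ * (a * k * a⁻¹) := by group
        rw [e]
        exact K.mul_mem (K.inv_mem k.2) h1
    obtain ⟨d, hd, hdc⟩ := lemmaC D H hDH hcopD hsolvD (k : G) hxa
    obtain ⟨hd1, hd2⟩ := Subgroup.mem_inf.mp hd
    refine ⟨k * d, Subgroup.mem_inf.mpr ⟨K.mul_mem k.2 hd2, hdc⟩, ?_⟩
    rw [mul_smul, MulAction.mem_stabilizer_iff.mp hd1]
    exact hk'

end Cfsg.Agent.S0059
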