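import Cfsg.Statements.S0060
import Mathlib
import Cfsg.Agent.Lib.Lead_SZ
import Cfsg.Agent.Lib.Lead_Coprime
import Cfsg.Agent.Lib.Helper4_PCore

set_option autoImplicit false
open Pointwise
open Cfsg

namespace Cfsg.Agent.S0060

open scoped Pointwise

/-- Brodkey's Theorem: in a finite group with abelian Sylow p-subgroups and no nontrivial normal p-subgroup, some conjugate of a Sylow p-subgroup meets it trivially. -/
theorem result {G : Type*} [Group G] [Finite G] (p : ℕ) [Fact p.Prime]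
    (S : Sylow p G) (hS : IsMulCommutative S) (hOp : Cfsg.pCore p G = ⊥) :
    ∃ g : G, (S : Subgroup G) ⊓ MulAut.conj g • (S : Subgroup G) = ⊥ := by
  classical
  have hpp : p.Prime := Fact.out
  haveI := hS
  -- all Sylow subgroups are abelian
  have hab : ∀ P : Sylow p G, ∀ x ∈ (P : Subgroup G), ∀ y ∈ (P : Subgroup G), x * y = y * x := by
    intro P x hx y hy
    obtain ⟨a, ha⟩ := MulAction.exists_smul_eq G S P
    have hPcoe : (P : Subgroup G) = MulAut.conj a • (S : Subgroup G) := by rw [← ha]; rfl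
    rw [hPcoe, Cfsg.Agent.Lib.Lead_SZ.mem_conj_smul] at hx hy
    have h := congrArg Subtype.val (mul_comm' (⟨_, hx⟩ : (S : Subgroup G)) ⟨_, hy⟩)
    rw [Subgroup.coe_mul, Subgroup.coe_mul] at h
    simp only at h
    calc x * y = a * ((a⁻¹ * x * a) * (a⁻¹ * y * a)) * a⁻¹ := by group
      _ = a * ((a⁻¹ * y * a) * (a⁻¹ * x * a)) * a⁻¹ := by rw [h]
      _ = y * x := by group
  -- a pair of Sylow subgroups with intersection of minimal order
  obtain ⟨⟨P₀, Q₀⟩, hmin⟩ := Finite.exists_min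
    (fun PQ : Sylow p G × Sylow p G => Nat.card ((PQ.1 : Subgroup G) ⊓ (PQ.2 : Subgroup G) : Subgroup G))
  simp only at hmin
  have hD : ∀ R : Sylow p G, (P₀ : Subgroup G) ⊓ (Q₀ : Subgroup G) ≤ (R : Subgroup G) := by
    intro R
    by_contra hDR
    have hPN : (P₀ : Subgroup G) ≤ Subgroup.normalizer (((P₀ : Subgroup G) ⊓ (Q₀ : Subgroup G) : Subgroup G) : Set G) := by
      intro x hx
      refine Cfsg.Agent.Lib.Lead_Coprime.mem_normalizer_of_conj_mem ?_ ?_
      · intro d hd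
        rw [hab P₀ x hx d hd.1, mul_inv_cancel_right]; exact hd
      · intro d hd
        rw [mul_assoc, hab P₀ d hd.1 x hx, ← mul_assoc, inv_mul_cancel, one_mul]; exact hd
    have hQN : (Q₀ : Subgroup G) ≤ Subgroup.normalizer (((P₀ : Subgroup G) ⊓ (Q₀ : Subgroup G) : Subgroup G) : Set G) := by
      intro x hx
      refine Cfsg.Agent.Lib.Lead_Coprime.mem_normalizer_of_conj_mem ?_ ?_
      · intro d hd
        rw [hab Q₀ x hx d hd.2, mul_inv_cancel_right]; exact hd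
      · intro d hd
        rw [mul_assoc, hab Q₀ d hd.2 x hx, ← mul_assoc, inv_mul_cancel, one_mul]; exact hd
    obtain ⟨N, hN⟩ : ∃ N : Subgroup G, N = Subgroup.normalizer (((P₀ : Subgroup G) ⊓ (Q₀ : Subgroup G) : Subgroup G) : Set G) := ⟨_, rfl⟩
    rw [← hN] at hPN hQN
    have hRp : IsPGroup p (((R : Subgroup G) ⊓ N).subgroupOf N) :=
      (R.isPGroup'.to_le inf_le_left).comap_of_injective N.subtype (Subgroup.subtype_injective _)
    obtain ⟨R₁, hR₁⟩ := IsPGroup.exists_le_sylow hRp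
    obtain ⟨n, hn⟩ := MulAction.exists_smul_eq N R₁ (P₀.subtype hPN)
    have hnmem : ∀ y ∈ (R : Subgroup G) ⊓ N, (n : G) * y * (n : G)⁻¹ ∈ (P₀ : Subgroup G) := by
      intro y hy
      have h1 : (⟨y, hy.2⟩ : N) ∈ (R₁ : Subgroup N) := hR₁ (Subgroup.mem_subgroupOf.mpr hy)
      have h2 : n * ⟨y, hy.2⟩ * n⁻¹ ∈ ((P₀.subtype hPN : Sylow p N) : Subgroup N) := by
        have : ((P₀.subtype hPN : Sylow p N) : Subgroup N) = MulAut.conj n • (R₁ : Subgroup N) := by
          rw [← hn]; rfl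
        rw [this, Cfsg.Agent.Lib.Lead_SZ.mem_conj_smul]
        have e : n⁻¹ * (n * ⟨y, hy.2⟩ * n⁻¹) * n = ⟨y, hy.2⟩ := by group
        rw [e]; exact h1
      rw [Sylow.coe_subtype, Subgroup.mem_subgroupOf] at h2
      simpa using h2
    have hnN : (n : G) ∈ Subgroup.normalizer (((P₀ : Subgroup G) ⊓ (Q₀ : Subgroup G) : Subgroup G) : Set G) := by
      rw [← hN]; exact n.2
    -- R' = n • R
    have hR'coe : (((n : G) • R : Sylow p G) : Subgroup G) = MulAut.conj (n : G) • (R : Subgroup G) := rfl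
    have hDR' : ¬ (P₀ : Subgroup G) ⊓ (Q₀ : Subgroup G) ≤ (((n : G) • R : Sylow p G) : Subgroup G) := by
      intro hle
      apply hDR
      intro d hd
      have hd' : (n : G) * d * (n : G)⁻¹ ∈ (P₀ : Subgroup G) ⊓ (Q₀ : Subgroup G) :=
        (Subgroup.mem_normalizer_iff.mp hnN d).mp hd
      have := hle hd'
      rw [hR'coe, Cfsg.Agent.Lib.Lead_SZ.mem_conj_smul] at this
      have e : (n : G)⁻¹ * ((n : G) * d * (n : G)⁻¹) * (n : G) = d := by group
      rwa [e] at this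
    have hQR' : (Q₀ : Subgroup G) ⊓ (((n : G) • R : Sylow p G) : Subgroup G) ≤
        ((P₀ : Subgroup G) ⊓ (Q₀ : Subgroup G)) ⊓ (((n : G) • R : Sylow p G) : Subgroup G) := by
      intro y hy
      obtain ⟨hyQ, hyR'⟩ := Subgroup.mem_inf.mp hy
      refine Subgroup.mem_inf.mpr ⟨Subgroup.mem_inf.mpr ⟨?_, hyQ⟩, hyR'⟩
      rw [hR'coe, Cfsg.Agent.Lib.Lead_SZ.mem_conj_smul] at hyR'
      have hyN : (n : G)⁻¹ * y * (n : G) ∈ N :=
        N.mul_mem (N.mul_mem (N.inv_mem n.2) (hQN hyQ)) n.2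
      have := hnmem _ (Subgroup.mem_inf.mpr ⟨hyR', hyN⟩)
      have e : (n : G) * ((n : G)⁻¹ * y * (n : G)) * (n : G)⁻¹ = y := by group
      rwa [e] at this
    have hlt : ((P₀ : Subgroup G) ⊓ (Q₀ : Subgroup G)) ⊓ (((n : G) • R : Sylow p G) : Subgroup G) <
        (P₀ : Subgroup G) ⊓ (Q₀ : Subgroup G) := by
      refine lt_of_le_of_ne inf_le_left ?_
      intro h
      exact hDR' (h ▸ inf_le_right)
    have h1 := Cfsg.Agent.Lib.Lead_SZ.card_lt hlt
    have h2 := Subgroup.card_le_of_le hQR'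
    have h3 := hmin (Q₀, (n : G) • R)
    simp only at h3
    omega
  -- the intersection of all Sylow subgroups is a normal p-subgroup
  have hKn : (⨅ R : Sylow p G, (R : Subgroup G)).Normal := by
    constructor
    intro x hx g
    rw [Subgroup.mem_iInf] at hx ⊢
    intro R
    have := hx (g⁻¹ • R)
    have hcoe : ((g⁻¹ • R : Sylow p G) : Subgroup G) = MulAut.conj g⁻¹ • (R : Subgroup G) := rfl
    rw [hcoe, Cfsg.Agent.Lib.Lead_SZ.mem_conj_smul, inv_inv] at this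
    exact this
  have hKp : IsPGroup p (⨅ R : Sylow p G, (R : Subgroup G) : Subgroup G) :=
    P₀.isPGroup'.to_le (iInf_le _ P₀)
  have hK : (⨅ R : Sylow p G, (R : Subgroup G)) = ⊥ := by
    rw [eq_bot_iff, ← hOp]
    exact Cfsg.Agent.Lib.Helper4_PCore.le_pCore _ hKn hKp
  have hDbot : (P₀ : Subgroup G) ⊓ (Q₀ : Subgroup G) = ⊥ := by
    rw [eq_bot_iff, ← hK]
    exact le_iInf hD
  -- transfer to S
  obtain ⟨a, ha⟩ := MulAction.exists_smul_eq G S P₀
  obtain ⟨b, hb⟩ := MulAction.exists_smul_eq G S Q₀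
  have hP₀coe : (P₀ : Subgroup G) = MulAut.conj a • (S : Subgroup G) := by rw [← ha]; rfl
  have hQ₀coe : (Q₀ : Subgroup G) = MulAut.conj b • (S : Subgroup G) := by rw [← hb]; rfl
  refine ⟨a⁻¹ * b, ?_⟩
  rw [eq_bot_iff]
  intro x hx
  obtain ⟨hx1, hx2⟩ := Subgroup.mem_inf.mp hx
  rw [Cfsg.Agent.Lib.Lead_SZ.mem_conj_smul] at hx2
  have h1 : a * x * a⁻¹ ∈ (P₀ : Subgroup G) ⊓ (Q₀ : Subgroup G) := by
    refine Subgroup.mem_inf.mpr ⟨?_, ?_⟩
    · rw [hP₀coe, Cfsg.Agent.Lib.Lead_SZ.mem_conj_smul]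
      have e : a⁻¹ * (a * x * a⁻¹) * a = x := by group
      rw [e]; exact hx1
    · rw [hQ₀coe, Cfsg.Agent.Lib.Lead_SZ.mem_conj_smul]
      have e : b⁻¹ * (a * x * a⁻¹) * b = (a⁻¹ * b)⁻¹ * x * (a⁻¹ * b) := by group
      rw [e]; exact hx2
  rw [hDbot, Subgroup.mem_bot] at h1
  rw [Subgroup.mem_bot]
  have : x = a⁻¹ * (a * x * a⁻¹) * a := by group
  rw [this, h1]; group

end Cfsg.Agent.S0060
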