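import Cfsg.Statements.S0063
import Mathlib

set_option autoImplicit false
open Cfsg

namespace Cfsg.Agent.S0063

universe u

theorem main (p : ℕ) [Fact p.Prime] : ∀ (m : ℕ) (G : Type u) [Group G] [Finite G],
    Nat.card G = p ^ m → 1 < m → Group.nilpotencyClass G ≤ m - 1 := by
  intro m
  induction m using Nat.strong_induction_on with
  | _ m ih =>
    intro G _ _ hG hm
    have hp : p.Prime := Fact.out
    have hPG : IsPGroup p G := IsPGroup.of_card hG
    haveI : Group.IsNilpotent G := hPG.isNilpotent
    haveI : Nontrivial G := by
      rw [← Finite.one_lt_card_iff_nontrivial, hG]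
      exact Nat.one_lt_pow (by omega) hp.one_lt
    haveI hZnt : Nontrivial (Subgroup.center G) := hPG.center_nontrivial
    obtain ⟨j, hj⟩ := (hPG.to_subgroup (Subgroup.center G)).exists_card_eq
    have hjpos : 0 < j := by
      rcases Nat.eq_zero_or_pos j with h | h
      · exfalso
        rw [h, pow_zero] at hj
        have : Subsingleton (Subgroup.center G) := (Nat.card_eq_one_iff_unique.mp hj).1
        exact not_subsingleton _ this
      · exact h
    have hjm : j ≤ m := by
      have h1 : Nat.card (Subgroup.center G) ∣ Nat.card G := Subgroup.card_subgroup_dvd_card _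
      rw [hj, hG] at h1
      exact (Nat.pow_dvd_pow_iff_le_right hp.one_lt).mp h1
    have hQ : Nat.card (G ⧸ Subgroup.center G) = p ^ (m - j) := by
      have h1 := Subgroup.card_eq_card_quotient_mul_card_subgroup (Subgroup.center G)
      rw [hG, hj] at h1
      have h2 : p ^ m = p ^ (m - j) * p ^ j := by rw [← pow_add]; congr 1; omega
      rw [h2] at h1
      exact (Nat.eq_of_mul_eq_mul_right (pow_pos hp.pos j) h1).symm
    have hcls := Group.nilpotencyClass_eq_quotient_center_plus_one (G := G)
    by_cases hmj : 1 < m - j
    · have := ih (m - j) (by omega) (G ⧸ Subgroup.center G) hQ hmj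
      omega
    · -- G / Z cyclic, so G commutative
      haveI : IsCyclic (G ⧸ Subgroup.center G) := by
        have h01 : m - j = 0 ∨ m - j = 1 := by omega
        rcases h01 with h0 | h1
        · rw [h0, pow_zero] at hQ
          haveI : Subsingleton (G ⧸ Subgroup.center G) := (Nat.card_eq_one_iff_unique.mp hQ).1
          infer_instance
        · rw [h1, pow_one] at hQ
          exact isCyclic_of_prime_card hQ
      have hcomm : ∀ a b : G, a * b = b * a :=
        commutative_of_cyclic_center_quotient (QuotientGroup.mk' (Subgroup.center G))
          (by rw [QuotientGroup.ker_mk'])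
      have hcen : Subgroup.center G = ⊤ := by
        rw [eq_top_iff]
        intro x _
        rw [Subgroup.mem_center_iff]
        intro g
        exact hcomm g x
      have h1 : Group.nilpotencyClass G ≤ 1 := by
        rw [← Subgroup.upperCentralSeries_eq_top_iff_nilpotencyClass_le,
          Subgroup.upperCentralSeries_one, hcen]
      omega


/-- A finite group of prime-power order p ^ m with m > 1 is nilpotent of class at most m - 1. -/
theorem result {G : Type*} [Group G] [Finite G] (p m : ℕ) [Fact p.Prime]
    (hG : Nat.card G = p ^ m) (hm : 1 < m) : Group.nilpotencyClass G ≤ m - 1 := by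
  exact main p m G hG hm

end Cfsg.Agent.S0063
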