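import Cfsg.Statements.S0064

set_option autoImplicit false
open Pointwise
open Cfsg

namespace Cfsg.Agent.S0064

theorem card_lt {G : Type*} [Group G] [Finite G] {H K : Subgroup G} (h : H < K) :
    Nat.card H < Nat.card K := by
  have h1 : (H : Set G) ⊂ (K : Set G) := SetLike.coe_ssubset_coe.mpr h
  have h2 := Set.ncard_lt_ncard h1 (Set.toFinite _)
  rw [← Nat.card_coe_set_eq, ← Nat.card_coe_set_eq] at h2
  exact h2

theorem aux {G : Type*} [Group G] [Finite G] (hnc : NormalizerCondition G) :
    ∀ (n : ℕ) (H : Subgroup G), Nat.card G - Nat.card H = n → H.IsSubnormal := by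
  intro n
  induction n using Nat.strong_induction_on with
  | _ n ih =>
    intro H hH
    by_cases htop : H = ⊤
    · subst htop; exact Subgroup.IsSubnormal.top
    · have hlt : H < Subgroup.normalizer (H : Set G) := hnc H (lt_top_iff_ne_top.mpr htop)
      have hcard : Nat.card H < Nat.card (Subgroup.normalizer (H : Set G)) :=
        card_lt hlt
      have hle : Nat.card (Subgroup.normalizer (H : Set G)) ≤ Nat.card G :=
        Subgroup.card_le_card_group _
      have hsub : (Subgroup.normalizer (H : Set G)).IsSubnormal :=
        ih (Nat.card G - Nat.card (Subgroup.normalizer (H : Set G))) (by omega) _ rfl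
      exact Subgroup.IsSubnormal.step H _ hlt.le hsub Subgroup.normal_in_normalizer

/-- A finite group is nilpotent exactly when each of its subgroups is subnormal. -/
theorem result {G : Type*} [Group G] [Finite G] :
    Group.IsNilpotent G ↔ ∀ H : Subgroup G, H.IsSubnormal := by
  constructor
  · intro h H
    have hnc : NormalizerCondition G := (Group.isNilpotent_of_finite_tfae.out 0 1 rfl rfl).mp h
    exact aux hnc _ H rfl
  · intro h
    apply (Group.isNilpotent_of_finite_tfae.out 0 2 rfl rfl).mpr
    intro M hM
    rcases (h M).lt_normal with htop | ⟨K, hK, hMK, hKtop⟩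
    · exact absurd htop hM.1
    · rcases eq_or_lt_of_le hMK with heq | hlt
      · rw [heq]; exact hK
      · exact absurd (hM.2 K hlt) hKtop.ne

end Cfsg.Agent.S0064
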