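import Cfsg.Statements.S0065

set_option autoImplicit false
open Pointwise
open Cfsg

namespace Cfsg.Agent.S0065

/-- A nontrivial normal subgroup of a nilpotent group intersects the centre nontrivially. -/
theorem result {G : Type*} [Group G] [Finite G] [Group.IsNilpotent G]
    (N : Subgroup G) [N.Normal] (hN : N ≠ ⊥) : N ⊓ Subgroup.center G ≠ ⊥ := by
  classical
  obtain ⟨m, hm⟩ := (Group.isNilpotent_iff (G := G)).mp inferInstance
  have hex : ∃ n, N ⊓ Subgroup.upperCentralSeries G n ≠ ⊥ := ⟨m, by rw [hm, inf_top_eq]; exact hN⟩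
  have hmin : ∀ {m : ℕ}, m < Nat.find hex → ¬ (N ⊓ Subgroup.upperCentralSeries G m ≠ ⊥) := fun {m} h => Nat.find_min hex h
  have hspec := Nat.find_spec hex
  set n := Nat.find hex with hn
  cases hk : n with
  | zero =>
    rw [hk] at hspec
    simp at hspec
  | succ k =>
    have hk' : N ⊓ Subgroup.upperCentralSeries G k = ⊥ := by
      by_contra hcon
      exact hmin (m := k) (by omega) hcon
    rw [hk] at hspec
    obtain ⟨x, hx1⟩ := (Subgroup.ne_bot_iff_exists_ne_one).mp hspec
    intro hbot
    have hxc : (x : G) ∈ N ⊓ Subgroup.center G := by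
      refine Subgroup.mem_inf.mpr ⟨x.2.1, ?_⟩
      rw [Subgroup.mem_center_iff]
      intro g
      have h1 := (Subgroup.mem_upperCentralSeries_succ_iff (G := G) (n := k) (x := (x : G))).mp x.2.2 g
      have h2 : (x : G) * g * (x : G)⁻¹ * g⁻¹ ∈ N := by
        have : g * (x : G)⁻¹ * g⁻¹ ∈ N := ‹N.Normal›.conj_mem _ (N.inv_mem x.2.1) g
        have := N.mul_mem x.2.1 this
        simpa [mul_assoc] using this
      have h3 : (x : G) * g * (x : G)⁻¹ * g⁻¹ ∈ N ⊓ Subgroup.upperCentralSeries G k := ⟨h2, h1⟩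
      rw [hk', Subgroup.mem_bot] at h3
      have := congrArg (· * g * (x : G)) h3
      simp only [one_mul] at this
      rw [← this]; group
    rw [hbot, Subgroup.mem_bot] at hxc
    exact hx1 (Subtype.ext hxc)

end Cfsg.Agent.S0065
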