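import Cfsg.Statements.S0066
import Mathlib
import Cfsg.Agent.Lib.Lead_SZ
import Cfsg.Agent.Lib.Lead_Zipper

set_option autoImplicit false
open Pointwise
open Cfsg

namespace Cfsg.Agent.S0066

open Cfsg.Agent.Lib.Lead_SZ Cfsg.Agent.Lib.Lead_Zipper

open scoped Pointwise

universe u

theorem wielandt (n : ℕ) : ∀ (G : Type u) [Group G] [Finite G], Nat.card G = n →
    ∀ A : Subgroup G, (∀ g : G, (A.subgroupOf (A ⊔ MulAut.conj g • A)).IsSubnormal) →
    A.IsSubnormal := by
  induction n using Nat.strong_induction_on with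
  | _ n ih =>
  intro G _ _ hn A h
  by_contra hns
  have hyp : ∀ H : Subgroup G, A ≤ H → H ≠ ⊤ → (A.subgroupOf H).IsSubnormal := by
    intro H hAH hH
    have hcard : Nat.card H < n := by
      have := card_lt (lt_top_iff_ne_top.mpr hH)
      rwa [Subgroup.card_top, hn] at this
    apply ih _ hcard H rfl
    intro g
    set A' := A.subgroupOf H with hA'
    set J' := A' ⊔ MulAut.conj g • A' with hJ'
    set J := A ⊔ MulAut.conj (g : G) • A with hJ
    have hmapJ : J'.map H.subtype = J := by
      rw [hJ', Subgroup.map_sup, map_conj_smul, hA', Subgroup.map_subgroupOf_eq_of_le hAH]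
      rfl
    have hJ'J : ∀ z : J', ((z : H) : G) ∈ J := by
      intro z
      have h1 : ((z : H) : G) ∈ J'.map H.subtype := ⟨z, z.2, rfl⟩
      rw [hmapJ] at h1
      exact h1
    let f : J' →* J := MonoidHom.codRestrict (H.subtype.comp J'.subtype) J hJ'J
    have hsn := (h (g : G)).comap f
    have heq : A'.subgroupOf J' = (A.subgroupOf J).comap f := by
      ext z
      exact Iff.rfl
    rw [heq]
    exact hsn
  have hAtop : A ≠ ⊤ := fun h' => hns (h' ▸ Subgroup.IsSubnormal.top)
  obtain ⟨M, hM, hAM⟩ := (eq_top_or_exists_le_coatom A).resolve_left hAtop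
  have hconj : ∀ g : G, MulAut.conj g • A ≤ M := by
    intro g
    have hJ : A ⊔ MulAut.conj g • A ≠ ⊤ := by
      intro htop
      apply hns
      have := h g
      rw [htop] at this
      exact Subgroup.IsSubnormal.trans le_top this Subgroup.IsSubnormal.top
    obtain ⟨Mg, hMg, hJMg⟩ := (eq_top_or_exists_le_coatom _).resolve_left hJ
    have := zipper _ A rfl hyp hns Mg M hMg hM (le_sup_left.trans hJMg) hAM
    rw [← this]
    exact le_sup_right.trans hJMg
  have hNM : Subgroup.normalClosure (A : Set G) ≤ M := by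
    rw [Subgroup.normalClosure]
    apply (Subgroup.closure_le _).mpr
    intro y hy
    obtain ⟨a, ha, hay⟩ := Group.mem_conjugatesOfSet_iff.mp hy
    obtain ⟨c, hc⟩ := isConj_iff.mp hay
    apply hconj c
    rw [mem_conj_smul, ← hc]
    simpa [mul_assoc] using ha
  have hNtop : Subgroup.normalClosure (A : Set G) ≠ ⊤ := fun h' =>
    hM.1 (top_le_iff.mp (h' ▸ hNM))
  have hAN : A ≤ Subgroup.normalClosure (A : Set G) := Subgroup.le_normalClosure
  have h1 := hyp _ hAN hNtop
  exact hns (Subgroup.IsSubnormal.trans hAN h1 (Subgroup.normalClosure_normal.isSubnormal))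


/-- Wielandt's subnormality criterion: a subgroup that is subnormal in its join with each of its conjugates is subnormal in the whole finite group. -/
theorem result {G : Type*} [Group G] [Finite G] (A : Subgroup G)
    (h : ∀ g : G, (A.subgroupOf (A ⊔ MulAut.conj g • A)).IsSubnormal) : A.IsSubnormal := by
  exact wielandt _ G rfl A h

end Cfsg.Agent.S0066
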