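import Cfsg.Statements.S0199
import Mathlib

set_option autoImplicit false
open Cfsg

namespace Cfsg.Agent.S0199

variable {G : Type*} [Group G]

/-- conjugate of a subgroup -/
abbrev cj (g : G) (Y : Subgroup G) : Subgroup G := Y.map (MulAut.conj g).toMonoidHom

theorem mem_cj {g x : G} {Y : Subgroup G} : x ∈ cj g Y ↔ g⁻¹ * x * g ∈ Y := by
  constructor
  · rintro ⟨y, hy, rfl⟩
    show g⁻¹ * (g * y * g⁻¹) * g ∈ Y
    have : g⁻¹ * (g * y * g⁻¹) * g = y := by group
    rwa [this]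
  · intro h
    refine ⟨g⁻¹ * x * g, h, ?_⟩
    show g * (g⁻¹ * x * g) * g⁻¹ = x
    group

theorem cj_cj (a b : G) (Y : Subgroup G) : cj a (cj b Y) = cj (a * b) Y := by
  ext x
  simp only [mem_cj]
  have : b⁻¹ * (a⁻¹ * x * a) * b = (a * b)⁻¹ * x * (a * b) := by group
  rw [this]

theorem cj_mono {g : G} {A B : Subgroup G} (h : A ≤ B) : cj g A ≤ cj g B := Subgroup.map_mono h

theorem cj_injective (g : G) : Function.Injective (cj g : Subgroup G → Subgroup G) :=
  Subgroup.map_injective (MulAut.conj g).injective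

theorem cj_sup (g : G) (A B : Subgroup G) : cj g (A ⊔ B) = cj g A ⊔ cj g B :=
  Subgroup.map_sup A B _

theorem isPGroup_cj {p : ℕ} {Y : Subgroup G} (g : G) (h : IsPGroup p Y) : IsPGroup p (cj g Y) :=
  h.map _

theorem cj_le_of_mem {S Y : Subgroup G} {u : G} (hu : u ∈ S) (hY : Y ≤ S) : cj u Y ≤ S := by
  intro x hx
  rw [mem_cj] at hx
  have h1 := hY hx
  have : x = u * (u⁻¹ * x * u) * u⁻¹ := by group
  rw [this]
  exact S.mul_mem (S.mul_mem hu h1) (S.inv_mem hu)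

theorem cj_eq_of_mem_normalizer {E : Subgroup G} {u : G}
    (hu : u ∈ Subgroup.normalizer (E : Set G)) : cj u E = E := by
  ext x
  rw [mem_cj]
  rw [Subgroup.mem_normalizer_iff] at hu
  rw [hu (u⁻¹ * x * u)]
  have : u * (u⁻¹ * x * u) * u⁻¹ = x := by group
  rw [this]

/-- Normalizers grow in `p`-groups. -/
theorem card_lt_card_inf_normalizer [Finite G] {p : ℕ} [Fact p.Prime] (S A : Subgroup G)
    (hS : IsPGroup p ↥S) (hAS : A ≤ S) (hne : A ≠ S) :
    Nat.card A < Nat.card ↥(S ⊓ Subgroup.normalizer ((A : Subgroup G) : Set G)) := by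
  have : Group.IsNilpotent ↥S := hS.isNilpotent
  have hnc : NormalizerCondition ↥S := Group.normalizerCondition_of_isNilpotent
  have hlt : A.subgroupOf S < ⊤ := by
    rw [lt_top_iff_ne_top, Ne, Subgroup.subgroupOf_eq_top]
    intro h
    exact hne (le_antisymm hAS h)
  have h1 := hnc _ hlt
  rw [← Subgroup.subgroupOf_normalizer_eq hAS] at h1
  obtain ⟨_, s, hs1, hs2⟩ := SetLike.lt_iff_le_and_exists.mp h1
  rw [Subgroup.mem_subgroupOf] at hs1 hs2
  have hle : A ≤ S ⊓ Subgroup.normalizer ((A : Subgroup G) : Set G) :=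
    le_inf hAS Subgroup.le_normalizer
  by_contra hcon
  push Not at hcon
  have heq := Subgroup.eq_of_le_of_card_ge hle hcon
  apply hs2
  rw [heq]
  exact ⟨s.2, hs1⟩

/-- In a `p`-group `P`, let `𝒴` be a `P`-invariant family of subgroups of `P` and `D` a subgroup
generated by the members of `𝒴` it contains. If some member of `𝒴` is not in `D`, then some member
of `𝒴` not in `D` normalizes `D`. -/
theorem exists_normalizing [Finite G] {p : ℕ} [Fact p.Prime] (P : Subgroup G) (hP : IsPGroup p P)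
    (𝒴 : Set (Subgroup G)) (h𝒴P : ∀ Y ∈ 𝒴, Y ≤ P) (hconj : ∀ Y ∈ 𝒴, ∀ u ∈ P, cj u Y ∈ 𝒴)
    (D : Subgroup G) (hD : D = sSup {Y | Y ∈ 𝒴 ∧ Y ≤ D})
    (hne : ∃ Y ∈ 𝒴, ¬ Y ≤ D) :
    ∃ Y ∈ 𝒴, ¬ Y ≤ D ∧ Y ≤ Subgroup.normalizer (D : Set G) := by
  have hDP : D ≤ P := by
    rw [hD]; exact sSup_le (fun Y hY => h𝒴P Y hY.1)
  let good : Set (Subgroup G) := {E | D ≤ E ∧ E ≤ P ∧ ∀ Y ∈ 𝒴, Y ≤ E → Y ≤ D}
  have hDgood : D ∈ good := ⟨le_rfl, hDP, fun Y _ h => h⟩
  obtain ⟨E, hEgood, hEmax⟩ := Set.exists_max_image good (fun E => Nat.card E)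
    (Set.toFinite good) ⟨D, hDgood⟩
  obtain ⟨hDE, hEP, hE𝒴⟩ := hEgood
  have hEneP : E ≠ P := by
    rintro rfl
    obtain ⟨Y, hY, hYD⟩ := hne
    exact hYD (hE𝒴 Y hY (h𝒴P Y hY))
  have hlt : Nat.card E < Nat.card ↥(P ⊓ Subgroup.normalizer (E : Set G)) :=
    card_lt_card_inf_normalizer P E hP hEP hEneP
  have hNnotgood : (P ⊓ Subgroup.normalizer (E : Set G)) ∉ good :=
    fun hg => absurd (hEmax _ hg) (not_le.mpr hlt)
  have hex : ∃ Y ∈ 𝒴, Y ≤ P ⊓ Subgroup.normalizer (E : Set G) ∧ ¬ Y ≤ D := by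
    by_contra hcon
    push Not at hcon
    exact hNnotgood ⟨le_trans hDE (le_inf hEP Subgroup.le_normalizer), inf_le_left,
      fun Y hY hYN => hcon Y hY hYN⟩
  obtain ⟨Y, hY, hYN, hYD⟩ := hex
  refine ⟨Y, hY, hYD, ?_⟩
  have key : ∀ u ∈ P, u ∈ Subgroup.normalizer (E : Set G) → ∀ x ∈ D, u * x * u⁻¹ ∈ D := by
    intro u huP huE
    have hgen : ∀ Y' ∈ 𝒴, Y' ≤ D → cj u Y' ≤ D := by
      intro Y' hY' hY'D
      apply hE𝒴 _ (hconj Y' hY' u huP)
      have h1 : cj u Y' ≤ cj u E := cj_mono (le_trans hY'D hDE)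
      rwa [cj_eq_of_mem_normalizer huE] at h1
    have hle : D ≤ cj u⁻¹ D := by
      conv_lhs => rw [hD]
      apply sSup_le
      rintro Y' ⟨hY', hY'D⟩ x hx
      rw [mem_cj, inv_inv]
      apply hgen Y' hY' hY'D
      exact ⟨x, hx, rfl⟩
    intro x hx
    have := hle hx
    rwa [mem_cj, inv_inv] at this
  intro y hy
  have hyN := hYN hy
  have hy'N := (P ⊓ Subgroup.normalizer (E : Set G)).inv_mem hyN
  rw [Subgroup.mem_normalizer_iff]
  intro x
  constructor
  · intro hx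
    exact key y hyN.1 hyN.2 x hx
  · intro hx
    have := key y⁻¹ hy'N.1 hy'N.2 _ hx
    have h2 : y⁻¹ * (y * x * y⁻¹) * y⁻¹⁻¹ = x := by group
    rwa [h2] at this

/-- Baer–Suzuki Theorem: a p-subgroup X of a finite group such that X and any of its conjugates generate a p-group is contained in a normal p-subgroup. -/
theorem result {G : Type*} [Group G] [Finite G] {p : ℕ} [Fact p.Prime] (X : Subgroup G) (hX : IsPGroup p X) (h : ∀ g : G, IsPGroup p ↥(X ⊔ X.map (MulAut.conj g).toMonoidHom)) : ∃ N : Subgroup G, N.Normal ∧ IsPGroup p N ∧ X ≤ N := by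
  classical
  set 𝒦 : Set (Subgroup G) := Set.range (fun g => cj g X) with h𝒦
  let KP : Subgroup G → Set (Subgroup G) := fun S => {Y | Y ∈ 𝒦 ∧ Y ≤ S}
  have hsyl : ∀ (g : G) (P : Sylow p G), ((g • P : Sylow p G) : Subgroup G) = cj g (P : Subgroup G) := by
    intro g P
    rfl
  by_cases hall : ∀ P Q : Sylow p G, KP P = KP Q
  · obtain ⟨P₀, hP₀⟩ := hX.exists_le_sylow
    refine ⟨(P₀ : Subgroup G).normalCore, inferInstance, ?_, ?_⟩
    · exact P₀.isPGroup'.to_le (Subgroup.normalCore_le _)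
    · intro x hx
      show ∀ b : G, b * x * b⁻¹ ∈ (P₀ : Subgroup G)
      intro b
      have h1 : cj b X ∈ KP ((b • P₀ : Sylow p G) : Subgroup G) := by
        refine ⟨⟨b, rfl⟩, ?_⟩
        rw [hsyl]
        exact cj_mono hP₀
      rw [hall (b • P₀) P₀] at h1
      exact h1.2 ⟨x, hx, rfl⟩
  · exfalso
    push Not at hall
    obtain ⟨P', Q', hP'Q'⟩ := hall
    let pairs : Set (Sylow p G × Sylow p G) := {x | KP x.1 ≠ KP x.2}
    obtain ⟨⟨P, Q⟩, hPQ, hmax⟩ := Set.exists_max_image pairs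
      (fun x => (KP x.1 ∩ KP x.2).ncard) (Set.toFinite pairs) ⟨(P', Q'), hP'Q'⟩
    have hPQ' : KP P ≠ KP Q := hPQ
    -- all KP have the same size
    have hcard : ∀ P Q : Sylow p G, (KP P).ncard = (KP Q).ncard := by
      intro P Q
      obtain ⟨g, hg⟩ := MulAction.exists_smul_eq G P Q
      have : KP Q = (cj g) '' (KP P) := by
        ext Y
        constructor
        · rintro ⟨⟨a, rfl⟩, hYQ⟩
          refine ⟨cj (g⁻¹ * a) X, ⟨⟨g⁻¹ * a, rfl⟩, ?_⟩, ?_⟩
          · rw [← hg, hsyl] at hYQ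
            have h1 := cj_mono (g := g⁻¹) hYQ
            rw [cj_cj, cj_cj, inv_mul_cancel] at h1
            intro x hx
            have := h1 hx
            rwa [mem_cj, inv_one, one_mul, mul_one] at this
          · show cj g (cj (g⁻¹ * a) X) = cj a X
            rw [cj_cj]
            congr 1
            group
        · rintro ⟨Y', ⟨⟨a, rfl⟩, hY'P⟩, rfl⟩
          refine ⟨⟨g * a, ?_⟩, ?_⟩
          · show cj (g * a) X = cj g (cj a X)
            rw [cj_cj]
          · rw [← hg, hsyl]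
            exact cj_mono hY'P
      rw [this, Set.ncard_image_of_injective _ (cj_injective g)]
    have hnotsub : ∀ P Q : Sylow p G, KP P ≠ KP Q → ¬ KP P ⊆ KP Q := by
      intro P Q hne hsub
      exact hne (Set.eq_of_subset_of_ncard_le hsub (hcard P Q).ge (Set.toFinite _))
    set D : Subgroup G := sSup (KP P ∩ KP Q) with hDdef
    have hDQ : D ≤ Q := sSup_le (fun Y hY => hY.2.2)
    have hDP : D ≤ P := sSup_le (fun Y hY => hY.1.2)
    have hDpg : IsPGroup p D := P.isPGroup'.to_le hDP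
    -- the key step for a pair
    have step : ∀ P Q : Sylow p G, D = sSup (KP P ∩ KP Q) → D ≤ Q → KP P ≠ KP Q →
        ∃ Y ∈ KP P, ¬ Y ≤ D ∧ Y ≤ Subgroup.normalizer (D : Set G) := by
      intro P Q hDdef hDQ hne
      apply exists_normalizing (P : Subgroup G) P.isPGroup' (KP P) (fun Y hY => hY.2)
      · rintro Y ⟨⟨a, rfl⟩, hYP⟩ u hu
        refine ⟨⟨u * a, ?_⟩, cj_le_of_mem hu hYP⟩
        show cj (u * a) X = cj u (cj a X)
        rw [cj_cj]
      · have : {Y | Y ∈ KP P ∧ Y ≤ D} = KP P ∩ KP Q := by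
          ext Y
          constructor
          · rintro ⟨hYP, hYD⟩
            exact ⟨hYP, hYP.1, le_trans hYD hDQ⟩
          · rintro hY
            refine ⟨hY.1, ?_⟩
            rw [hDdef]
            exact le_sSup hY
        rw [this]
        exact hDdef
      · have := hnotsub P Q hne
        rw [Set.not_subset] at this
        obtain ⟨Y, hYP, hYQ⟩ := this
        refine ⟨Y, hYP, fun hYD => hYQ ⟨hYP.1, le_trans hYD hDQ⟩⟩
    obtain ⟨Y₁, hY₁P, hY₁D, hY₁N⟩ := step P Q hDdef hDQ hPQ'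
    obtain ⟨Y₂, hY₂Q, hY₂D, hY₂N⟩ := step Q P (by rw [hDdef, Set.inter_comm]) hDP hPQ'.symm
    -- Y₁ ⊔ Y₂ is a p-group
    have hY12 : IsPGroup p ↥(Y₁ ⊔ Y₂) := by
      obtain ⟨⟨a, rfl⟩, -⟩ := hY₁P
      obtain ⟨⟨b, rfl⟩, -⟩ := hY₂Q
      have h1 := isPGroup_cj a (h (a⁻¹ * b))
      rw [cj_sup] at h1
      have h2 : cj a (X.map (MulAut.conj (a⁻¹ * b)).toMonoidHom) = cj b X := by
        show cj a (cj (a⁻¹ * b) X) = cj b X
        rw [cj_cj]; congr 1; group
      rw [h2] at h1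
      exact h1
    have hT : IsPGroup p ↥((Y₁ ⊔ Y₂) ⊔ D) :=
      IsPGroup.to_sup_of_normal_right' hY12 hDpg (sup_le hY₁N hY₂N)
    obtain ⟨R, hR⟩ := hT.exists_le_sylow
    have hDR : D ≤ R := le_trans le_sup_right hR
    have hY₁R : Y₁ ≤ R := le_trans (le_trans le_sup_left le_sup_left) hR
    have hY₂R : Y₂ ≤ R := le_trans (le_trans le_sup_right le_sup_left) hR
    -- KP P = KP R
    have hPR : KP P = KP R := by
      by_contra hne
      have h1 := hmax (P, R) hne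
      have hss : KP P ∩ KP Q ⊂ KP P ∩ KP R := by
        rw [Set.ssubset_iff_of_subset]
        · refine ⟨Y₁, ⟨hY₁P, hY₁P.1, hY₁R⟩, fun hY => hY₁D (le_sSup hY)⟩
        · intro Y hY
          exact ⟨hY.1, hY.1.1, le_trans (le_sSup hY) hDR⟩
      have := Set.ncard_lt_ncard hss (Set.toFinite _)
      exact absurd h1 (not_le.mpr this)
    have hQR : KP Q = KP R := by
      by_contra hne
      have h1 := hmax (Q, R) hne
      have hss : KP P ∩ KP Q ⊂ KP Q ∩ KP R := by
        rw [Set.ssubset_iff_of_subset]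
        · refine ⟨Y₂, ⟨hY₂Q, hY₂Q.1, hY₂R⟩, fun hY => hY₂D (le_sSup hY)⟩
        · intro Y hY
          exact ⟨hY.2, hY.1.1, le_trans (le_sSup hY) hDR⟩
      have := Set.ncard_lt_ncard hss (Set.toFinite _)
      exact absurd h1 (not_le.mpr this)
    exact hPQ' (hPR.trans hQR.symm)

end Cfsg.Agent.S0199
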