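import Cfsg.Statements.S0067
import Mathlib
import Cfsg.Agent.Lib.Lead_Subnormal
import Cfsg.Agent.S0199

set_option autoImplicit false
open Pointwise
open Cfsg

namespace Cfsg.Agent.S0067

open Cfsg.Agent.Lib.Lead_Subnormal Cfsg.Agent.Lib.Lead_Fitting

/-- If the join of a subgroup A with each of its conjugates is nilpotent, then A is subnormal in the finite group and contained in the Fitting subgroup. -/
theorem result {G : Type*} [Group G] [Finite G] (A : Subgroup G)
    (h : ∀ g : G, Group.IsNilpotent (A ⊔ MulAut.conj g • A : Subgroup G)) : A.IsSubnormal ∧ A ≤ Cfsg.fittingSubgroup G := by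
  classical
  have hAnil : Group.IsNilpotent A := by
    have h1 := h 1
    have : A ⊔ MulAut.conj (1 : G) • A = A := by rw [map_one, one_smul, sup_idem]
    rw [this] at h1
    exact h1
  -- Sylow subgroups of A lie in the p-cores
  let S : ∀ p : Nat.Primes, Subgroup A := fun p =>
    haveI : Fact (p : ℕ).Prime := ⟨p.2⟩
    ((Classical.arbitrary (Sylow (p : ℕ) A)) : Subgroup A)
  have hS : ∀ p : Nat.Primes, (S p).map A.subtype ≤ Cfsg.pCore (p : ℕ) G := by
    intro p
    haveI : Fact (p : ℕ).Prime := ⟨p.2⟩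
    have hXp : IsPGroup (p : ℕ) ((S p).map A.subtype) :=
      (Classical.arbitrary (Sylow (p : ℕ) A)).isPGroup'.map _
    have hXA : (S p).map A.subtype ≤ A := by
      rintro _ ⟨y, -, rfl⟩; exact y.2
    obtain ⟨N, hN, hNp, hXN⟩ := Cfsg.Agent.S0199.result ((S p).map A.subtype) hXp (by
      intro g
      refine isPGroup_sup_of_nilpotent (h g) (hXA.trans le_sup_left) ?_ hXp (hXp.map _)
      refine le_trans ?_ (le_sup_right (a := A) (b := MulAut.conj g • A))
      rw [Subgroup.pointwise_smul_def]
      exact Subgroup.map_mono hXA)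
    exact hXN.trans (Cfsg.Agent.Lib.Helper4_PCore.le_pCore N hN hNp)
  have htop : (⨆ p : Nat.Primes, S p) = ⊤ := by
    rw [← Subgroup.index_eq_one]
    rw [Nat.eq_one_iff_not_exists_prime_dvd]
    intro p hp hdvd
    haveI : Fact p.Prime := ⟨hp⟩
    have h1 : S ⟨p, hp⟩ ≤ ⨆ q : Nat.Primes, S q := le_iSup S ⟨p, hp⟩
    have h2 := Subgroup.index_dvd_of_le h1
    exact (Classical.arbitrary (Sylow p A)).not_dvd_index (hdvd.trans h2)
  have hAF : A ≤ Cfsg.fittingSubgroup G := by
    rw [fitting_eq]
    have hA' : A = (⨆ p : Nat.Primes, S p).map A.subtype := by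
      rw [htop, ← MonoidHom.range_eq_map, Subgroup.range_subtype]
    rw [hA', Subgroup.map_iSup]
    apply iSup_le
    intro p
    exact (hS p).trans (le_iSup (fun q : Nat.Primes => Cfsg.pCore (q : ℕ) G) p)
  refine ⟨?_, hAF⟩
  have hFn : (Cfsg.fittingSubgroup G).Normal := by rw [fitting_eq]; exact F0_normal G
  haveI : Group.IsNilpotent (Cfsg.fittingSubgroup G) := by rw [fitting_eq]; exact F0_nilpotent G
  exact Subgroup.IsSubnormal.trans hAF (isSubnormal_of_nilpotent _ _ rfl) hFn.isSubnormal

end Cfsg.Agent.S0067
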