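import Cfsg.Statements.S0068
import Mathlib

set_option autoImplicit false
open Cfsg

namespace Cfsg.Agent.S0068

theorem inverts {G : Type*} [Group G] [Finite G] (K H : Subgroup G) [hKn : K.Normal]
    (hfpf : ∀ h ∈ H, h ≠ 1 → K ⊓ Subgroup.centralizer {h} = ⊥)
    (s : G) (hs : s ∈ H) (hs2 : orderOf s = 2) : ∀ k ∈ K, s * k * s⁻¹ = k⁻¹ := by
  have hs1 : s ≠ 1 := by
    intro h; rw [h, orderOf_one] at hs2; omega
  have hss : s * s = 1 := by
    have := pow_orderOf_eq_one s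
    rwa [hs2, pow_two] at this
  have hsi : s⁻¹ = s := inv_eq_of_mul_eq_one_right hss
  have hbot := hfpf s hs hs1
  let f : K → K := fun k => ⟨(k : G)⁻¹ * (s * k * s⁻¹), K.mul_mem (K.inv_mem k.2) (hKn.conj_mem k k.2 s)⟩
  have hinj : Function.Injective f := by
    intro a b hab
    have h1 : (a : G)⁻¹ * (s * a * s⁻¹) = (b : G)⁻¹ * (s * b * s⁻¹) := congrArg Subtype.val hab
    have h2 : s * ((b : G) * (a : G)⁻¹) = ((b : G) * (a : G)⁻¹) * s := by
      have e1 : (b : G) * (a : G)⁻¹ = (s * b * s⁻¹) * (s * a * s⁻¹)⁻¹ := by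
        have : (b : G) * ((a : G)⁻¹ * (s * a * s⁻¹)) = s * b * s⁻¹ := by
          rw [h1]; group
        calc (b : G) * (a : G)⁻¹ = ((b : G) * ((a : G)⁻¹ * (s * a * s⁻¹))) * (s * a * s⁻¹)⁻¹ := by group
          _ = (s * b * s⁻¹) * (s * a * s⁻¹)⁻¹ := by rw [this]
      have e2 : (s * (b : G) * s⁻¹) * (s * a * s⁻¹)⁻¹ = s * ((b : G) * (a : G)⁻¹) * s⁻¹ := by group
      have e3 : (b : G) * (a : G)⁻¹ = s * ((b : G) * (a : G)⁻¹) * s⁻¹ := e1.trans e2
      calc s * ((b : G) * (a : G)⁻¹) = (s * ((b : G) * (a : G)⁻¹) * s⁻¹) * s := by group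
        _ = ((b : G) * (a : G)⁻¹) * s := by rw [← e3]
    have h3 : (b : G) * (a : G)⁻¹ ∈ K ⊓ Subgroup.centralizer {s} := by
      refine Subgroup.mem_inf.mpr ⟨K.mul_mem b.2 (K.inv_mem a.2), ?_⟩
      rw [Subgroup.mem_centralizer_iff]
      intro y hy
      rw [Set.mem_singleton_iff] at hy
      rw [hy]; exact h2
    rw [hbot, Subgroup.mem_bot] at h3
    apply Subtype.ext
    have := mul_inv_eq_one.mp h3
    exact this.symm
  have hsurj : Function.Surjective f := Finite.injective_iff_surjective.mp hinj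
  intro k hk
  obtain ⟨a, ha⟩ := hsurj ⟨k, hk⟩
  have hk' : k = (a : G)⁻¹ * (s * a * s⁻¹) := (congrArg Subtype.val ha).symm
  rw [hk']
  have e : s * ((a : G)⁻¹ * (s * a * s⁻¹)) * s⁻¹ = (s * (a : G)⁻¹ * s⁻¹) * ((s * s) * a * (s * s)⁻¹) := by
    group
  rw [e, hss]
  group


/-- Frobenius complements of even order: if H complements a nontrivial normal subgroup K, each nonidentity element of H has trivial centraliser in K, and H has even order, then H contains a unique involution s, K is abelian, and s inverts every element of K. -/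
theorem result {G : Type*} [Group G] [Finite G] (K H : Subgroup G) [K.Normal]
    (hc : Subgroup.IsComplement' K H) (hK : K ≠ ⊥) (hfpf : ∀ h ∈ H, h ≠ 1 → K ⊓ Subgroup.centralizer {h} = ⊥)
    (heven : 2 ∣ Nat.card H) :
    (∃ s ∈ H, orderOf s = 2 ∧ (∀ t ∈ H, orderOf t = 2 → t = s) ∧ ∀ k ∈ K, s * k * s⁻¹ = k⁻¹) ∧ IsMulCommutative K := by
  haveI : Fact (Nat.Prime 2) := ⟨Nat.prime_two⟩
  obtain ⟨s', hs'⟩ := exists_prime_orderOf_dvd_card' 2 heven
  have hs2 : orderOf (s' : G) = 2 := by rw [Subgroup.orderOf_coe]; exact hs'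
  have hinv := inverts K H hfpf (s' : G) s'.2 hs2
  have hss : (s' : G) * (s' : G) = 1 := by
    have := pow_orderOf_eq_one (s' : G)
    rwa [hs2, pow_two] at this
  have hcomm : ∀ x ∈ K, ∀ y ∈ K, x * y = y * x := by
    intro x hx y hy
    have h1 := hinv (x * y) (K.mul_mem hx hy)
    have h2 : (s' : G) * (x * y) * (s' : G)⁻¹ = ((s' : G) * x * (s' : G)⁻¹) * ((s' : G) * y * (s' : G)⁻¹) := by
      group
    rw [h2, hinv x hx, hinv y hy, mul_inv_rev] at h1
    have h3 := congrArg (fun z => z⁻¹) h1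
    simp only [mul_inv_rev, inv_inv] at h3
    exact h3.symm
  refine ⟨⟨(s' : G), s'.2, hs2, ?_, hinv⟩, ⟨⟨fun a b => Subtype.ext (hcomm a a.2 b b.2)⟩⟩⟩
  intro t ht ht2
  have hinvt := inverts K H hfpf t ht ht2
  have htt : t * t = 1 := by
    have := pow_orderOf_eq_one t
    rwa [ht2, pow_two] at this
  by_contra hne
  have hst : (s' : G) * t ≠ 1 := by
    intro h
    apply hne
    have h1 : t = (s' : G)⁻¹ := (inv_eq_of_mul_eq_one_right h).symm
    rw [h1]
    exact inv_eq_of_mul_eq_one_right hss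
  have hbot := hfpf ((s' : G) * t) (H.mul_mem s'.2 ht) hst
  have hKle : K ≤ K ⊓ Subgroup.centralizer {(s' : G) * t} := by
    intro k hk
    refine Subgroup.mem_inf.mpr ⟨hk, ?_⟩
    rw [Subgroup.mem_centralizer_iff]
    intro y hy
    rw [Set.mem_singleton_iff] at hy
    rw [hy]
    have h1 : t * k * t⁻¹ = k⁻¹ := hinvt k hk
    have h2 : (s' : G) * k⁻¹ * (s' : G)⁻¹ = k := by
      rw [hinv k⁻¹ (K.inv_mem hk), inv_inv]
    have h3 : (s' : G) * t * k * ((s' : G) * t)⁻¹ = k := by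
      calc (s' : G) * t * k * ((s' : G) * t)⁻¹ = (s' : G) * (t * k * t⁻¹) * (s' : G)⁻¹ := by group
        _ = k := by rw [h1, h2]
    calc (s' : G) * t * k = ((s' : G) * t * k * ((s' : G) * t)⁻¹) * ((s' : G) * t) := by group
      _ = k * ((s' : G) * t) := by rw [h3]
  rw [hbot, le_bot_iff] at hKle
  exact hK hKle

end Cfsg.Agent.S0068
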