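import Mathlib
import Cfsg.Statements.S0069
import Cfsg.Agent.Lib.Helper7_Fpf3

set_option autoImplicit false

open Cfsg

namespace Cfsg.Agent.S0069

open Cfsg.Agent.Lib.Helper7_Fpf Cfsg.Agent.Lib.Helper7_Fpf3

theorem result {G : Type*} [Group G] [Finite G] (K H : Subgroup G) [K.Normal]
    (hc : Subgroup.IsComplement' K H) (hK : K ≠ ⊥) (hH : H ≠ ⊥) (hfpf : ∀ h ∈ H, h ≠ 1 → K ⊓ Subgroup.centralizer {h} = ⊥) :
    Subgroup.center H ≠ ⊥ := by
  have hHK : H ≤ Subgroup.normalizer (K : Set G) := by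
    rw [Subgroup.normalizer_eq_top]; exact le_top
  letI : MulDistribMulAction H K := Cfsg.Agent.Lib.Helper6_ConjAct.conjNormalizer H K hHK
  have hf : Fpf H K := fpf_of_internal H K hHK hfpf
  haveI : Nontrivial K := (Subgroup.nontrivial_iff_ne_bot K).mpr hK
  haveI : Nontrivial H := (Subgroup.nontrivial_iff_ne_bot H).mpr hH
  exact center_ne_bot hf

end Cfsg.Agent.S0069
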