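import Cfsg.Statements.S0070
import Mathlib
import Cfsg.Agent.Lib.Lead_Fitting
import Cfsg.Agent.Lib.Lead_Hall

set_option autoImplicit false
open Cfsg

namespace Cfsg.Agent.S0070


theorem relIndex_map_subtype {G : Type*} [Group G] (L : Subgroup G) (P : Subgroup L) :
    (P.map L.subtype).relIndex L = P.index := by
  unfold Subgroup.relIndex
  congr 1
  ext x
  rw [Subgroup.mem_subgroupOf]
  constructor
  · rintro ⟨y, hy, hyx⟩
    have : y = x := Subtype.ext hyx
    rw [← this]; exact hy
  · intro hx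
    exact ⟨x, hx, rfl⟩

theorem key {G : Type*} [Group G] [Finite G] (p : ℕ) [hp : Fact p.Prime] (L : Subgroup G) [L.Normal]
    (hΦL : frattini G ≤ L) (k : ℕ) (hidx : (frattini G).relIndex L = p ^ k) :
    L ≤ Cfsg.pCore p G ⊔ frattini G := by
  classical
  have hpp : p.Prime := hp.out
  obtain ⟨P'⟩ : Nonempty (Sylow p L) := inferInstance
  have hfrat := Sylow.normalizer_sup_eq_top P'
  have hLle : L ≤ (P' : Subgroup L).map L.subtype ⊔ frattini G := by
    rw [← Subgroup.relIndex_eq_one]
    have h1 : ((P' : Subgroup L).map L.subtype ⊔ frattini G).relIndex L ∣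
        ((P' : Subgroup L).map L.subtype).relIndex L :=
      Subgroup.relIndex_dvd_of_le_left _ le_sup_left
    have h2 : ((P' : Subgroup L).map L.subtype ⊔ frattini G).relIndex L ∣ (frattini G).relIndex L :=
      Subgroup.relIndex_dvd_of_le_left _ le_sup_right
    rw [relIndex_map_subtype] at h1
    rw [hidx] at h2
    have hcop : Nat.Coprime (p ^ k) (P' : Subgroup L).index :=
      Nat.Coprime.pow_left _ ((Nat.Prime.coprime_iff_not_dvd hpp).mpr P'.not_dvd_index)
    exact Nat.eq_one_of_dvd_coprimes hcop h2 h1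
  have hPn : ((P' : Subgroup L).map L.subtype).Normal := by
    rw [← Subgroup.normalizer_eq_top_iff]
    apply frattini_nongenerating
    rw [eq_top_iff, ← hfrat]
    apply sup_le le_sup_left
    exact hLle.trans (sup_le (Subgroup.le_normalizer.trans le_sup_left) le_sup_right)
  have hPp : IsPGroup p ((P' : Subgroup L).map L.subtype) := P'.isPGroup'.map _
  have hPcore := Cfsg.Agent.Lib.Helper4_PCore.le_pCore _ hPn hPp
  exact hLle.trans (sup_le_sup_right hPcore _)


/-- The Fitting subgroup commutes with passing to the Frattini quotient: the Fitting subgroup of G modulo its Frattini subgroup is the image of the Fitting subgroup of G. -/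
theorem result {G : Type*} [Group G] [Finite G] :
    Cfsg.fittingSubgroup (G ⧸ frattini G) = (Cfsg.fittingSubgroup G).map (QuotientGroup.mk' (frattini G)) := by
  classical
  rw [Cfsg.Agent.Lib.Lead_Fitting.fitting_eq, Cfsg.Agent.Lib.Lead_Fitting.fitting_eq]
  apply le_antisymm
  · -- each p-core of the quotient lies in the image of the p-core
    unfold Cfsg.Agent.Lib.Lead_Fitting.F0
    rw [Subgroup.map_iSup]
    apply iSup_le
    intro p
    refine le_trans ?_ (le_iSup (fun q : Nat.Primes => (Cfsg.pCore (q : ℕ) G).map (QuotientGroup.mk' (frattini G))) p)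
    haveI : Fact (p : ℕ).Prime := ⟨p.2⟩
    haveI hOn : (Cfsg.pCore (p : ℕ) (G ⧸ frattini G)).Normal := Cfsg.Agent.Lib.Helper4_PCore.pCore_normal _ _
    haveI hLn : ((Cfsg.pCore (p : ℕ) (G ⧸ frattini G)).comap (QuotientGroup.mk' (frattini G))).Normal :=
      hOn.comap _
    have hΦL : frattini G ≤ (Cfsg.pCore (p : ℕ) (G ⧸ frattini G)).comap (QuotientGroup.mk' (frattini G)) :=
      Cfsg.Agent.Lib.Lead_Hall.le_comap_mk _ _
    have h4 : ∃ k, (frattini G).relIndex
        ((Cfsg.pCore (p : ℕ) (G ⧸ frattini G)).comap (QuotientGroup.mk' (frattini G))) = (p : ℕ) ^ k := by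
      obtain ⟨k, hk⟩ := (Cfsg.Agent.Lib.Helper4_PCore.pCore_isPGroup (G := G ⧸ frattini G) (p := (p : ℕ))).exists_card_eq
      refine ⟨k, ?_⟩
      have h5 := Cfsg.Agent.Lib.Lead_Hall.card_comap_mk (frattini G) (Cfsg.pCore (p : ℕ) (G ⧸ frattini G))
      have h6 := Subgroup.card_mul_index ((frattini G).subgroupOf
        ((Cfsg.pCore (p : ℕ) (G ⧸ frattini G)).comap (QuotientGroup.mk' (frattini G))))
      rw [Cfsg.Agent.Lib.Lead_SZ.card_subgroupOf_of_le hΦL, h5, hk, mul_comm] at h6
      exact Nat.eq_of_mul_eq_mul_right Nat.card_pos h6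
    obtain ⟨k, hk⟩ := h4
    have hLle := key (p : ℕ) _ hΦL k hk
    have e : Cfsg.pCore (p : ℕ) (G ⧸ frattini G) =
        ((Cfsg.pCore (p : ℕ) (G ⧸ frattini G)).comap (QuotientGroup.mk' (frattini G))).map (QuotientGroup.mk' (frattini G)) :=
      (Subgroup.map_comap_eq_self_of_surjective (QuotientGroup.mk'_surjective _) _).symm
    rw [e]
    refine le_trans (Subgroup.map_mono hLle) ?_
    rw [Subgroup.map_sup]
    apply sup_le le_rfl
    intro x hx
    obtain ⟨y, hy, rfl⟩ := hx
    have : QuotientGroup.mk' (frattini G) y = 1 := (QuotientGroup.eq_one_iff y).mpr hy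
    rw [this]; exact Subgroup.one_mem _
  · -- the image of F(G) is normal nilpotent
    rw [← Cfsg.Agent.Lib.Lead_Fitting.fitting_eq, ← Cfsg.Agent.Lib.Lead_Fitting.fitting_eq]
    apply le_sSup
    refine ⟨?_, ?_⟩
    · haveI : (Cfsg.fittingSubgroup G).Normal := by
        rw [Cfsg.Agent.Lib.Lead_Fitting.fitting_eq]; exact Cfsg.Agent.Lib.Lead_Fitting.F0_normal G
      exact Subgroup.Normal.map inferInstance _ (QuotientGroup.mk'_surjective _)
    · haveI : Group.IsNilpotent (Cfsg.fittingSubgroup G) := by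
        rw [Cfsg.Agent.Lib.Lead_Fitting.fitting_eq]; exact Cfsg.Agent.Lib.Lead_Fitting.F0_nilpotent G
      exact nilpotent_of_surjective ((QuotientGroup.mk' (frattini G)).subgroupMap (Cfsg.fittingSubgroup G))
        (MonoidHom.subgroupMap_surjective _ _)

end Cfsg.Agent.S0070
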