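import Cfsg.Statements.S0073
import Mathlib
import Mathlib

set_option autoImplicit false
open Cfsg

namespace Cfsg.Agent.S0073

/-- For a finite non-abelian simple group, either the cube of the least prime divisor of the order divides the order, or 12 does. -/
theorem result {G : Type*} [Group G] [Finite G] [IsSimpleGroup G] (hG : ∃ x y : G, x * y ≠ y * x) : (Nat.card G).minFac ^ 3 ∣ Nat.card G ∨ 12 ∣ Nat.card G := by
  classical
  by_contra hcon
  push_neg at hcon
  obtain ⟨hc3, hc12⟩ := hcon
  obtain ⟨p, hpdef⟩ : ∃ p, p = (Nat.card G).minFac := ⟨_, rfl⟩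
  rw [← hpdef] at hc3
  have hcard1 : Nat.card G ≠ 1 := by
    intro h1
    obtain ⟨x, y, hxy⟩ := hG
    haveI : Subsingleton G := (Nat.card_eq_one_iff_unique.mp h1).1
    exact hxy (Subsingleton.elim _ _)
  have hcard0 : Nat.card G ≠ 0 := Nat.card_pos.ne'
  have hpp : p.Prime := hpdef ▸ Nat.minFac_prime hcard1
  haveI : Fact p.Prime := ⟨hpp⟩
  have hpG : p ∣ Nat.card G := hpdef ▸ Nat.minFac_dvd _
  have hmin : ∀ q : ℕ, q.Prime → q ∣ Nat.card G → p ≤ q := by
    intro q hq hqd; rw [hpdef]; exact Nat.minFac_le_of_dvd hq.two_le hqd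
  obtain ⟨P⟩ : Nonempty (Sylow p G) := inferInstance
  have hPdvd : Nat.card P ∣ Nat.card G := Subgroup.card_subgroup_dvd_card _
  -- |P| = p or p^2
  have hPcard : Nat.card P = p ∨ Nat.card P = p ^ 2 := by
    have h1 := P.card_eq_multiplicity
    have h2 : 0 < (Nat.card G).factorization p := hpp.factorization_pos_of_dvd hcard0 hpG
    have h3 : (Nat.card G).factorization p < 3 := by
      by_contra h
      push_neg at h
      apply hc3
      exact (pow_dvd_pow p h).trans (Nat.ordProj_dvd _ _)
    obtain ⟨k, hk⟩ : ∃ k, k = (Nat.card G).factorization p := ⟨_, rfl⟩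
    rw [← hk] at h1 h2 h3
    interval_cases k
    · left; rw [h1, pow_one]
    · right; exact h1
  have hPcomm : ∀ a b : P, a * b = b * a := by
    rcases hPcard with h | h
    · haveI := isCyclic_of_prime_card h
      intro a b
      letI := IsCyclic.commGroup (α := P)
      exact mul_comm a b
    · exact IsPGroup.commutative_of_card_eq_prime_sq h
  have hPC : (P : Subgroup G) ≤ Subgroup.centralizer (P : Set G) := by
    intro y hy
    rw [Subgroup.mem_centralizer_iff]
    intro z hz
    exact congrArg Subtype.val (hPcomm ⟨z, hz⟩ ⟨y, hy⟩)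
  have hNC : ¬ (Subgroup.normalizer (P : Set G) ≤ Subgroup.centralizer (P : Set G)) := by
    intro hNC
    have hcompl := MonoidHom.ker_transferSylow_isComplement' P hNC
    rcases (MonoidHom.normal_ker (MonoidHom.transferSylow P hNC)).eq_bot_or_eq_top with hK | hK
    · rw [hK] at hcompl
      have hPtop : (P : Subgroup G) = ⊤ := Subgroup.isComplement'_bot_left.mp hcompl
      obtain ⟨x, y, hxy⟩ := hG
      have hx : x ∈ (P : Subgroup G) := by rw [hPtop]; trivial
      have hy : y ∈ (P : Subgroup G) := by rw [hPtop]; trivial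
      exact hxy (congrArg Subtype.val (hPcomm ⟨x, hx⟩ ⟨y, hy⟩))
    · rw [hK] at hcompl
      have hPbot : (P : Subgroup G) = ⊥ := Subgroup.isComplement'_top_left.mp hcompl
      have : Nat.card (P : Subgroup G) = 1 := by rw [hPbot]; exact Subgroup.card_bot
      have hp2 := hpp.two_le
      rcases hPcard with h | h
      · omega
      · rw [this] at h; nlinarith
  -- choose x ∈ N(P) ∖ C(P) of minimal order
  have hex : ∃ n, ∃ x : G, x ∈ Subgroup.normalizer (P : Set G) ∧
      x ∉ Subgroup.centralizer (P : Set G) ∧ orderOf x = n := by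
    obtain ⟨g, hg1, hg2⟩ := SetLike.not_le_iff_exists.mp hNC
    exact ⟨_, g, hg1, hg2, rfl⟩
  obtain ⟨x, hxN, hxC, hxn⟩ := Nat.find_spec hex
  have hxmin : ∀ y : G, y ∈ Subgroup.normalizer (P : Set G) → orderOf y < orderOf x →
      y ∈ Subgroup.centralizer (P : Set G) := by
    intro y hyN hlt
    by_contra hyC
    rw [hxn] at hlt
    exact Nat.find_min hex hlt ⟨y, hyN, hyC, rfl⟩
  have hx0 : orderOf x ≠ 0 := (orderOf_pos x).ne'
  -- a prime q ≠ p dividing the order of x
  have hq : ∃ q : ℕ, q.Prime ∧ q ∣ orderOf x ∧ q ≠ p := by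
    by_contra hno
    push_neg at hno
    have hpow := Nat.eq_prime_pow_of_unique_prime_dvd hx0 (fun {d} hd hdd => hno d hd hdd)
    have hxp : IsPGroup p (Subgroup.zpowers x) := IsPGroup.of_card ((Nat.card_zpowers x).trans hpow)
    have hle : Subgroup.zpowers x ≤ Subgroup.normalizer ((P : Subgroup G) : Set G) := by
      rw [Subgroup.zpowers_le]; exact hxN
    have hsup := IsPGroup.to_sup_of_normal_right' hxp P.isPGroup' hle
    have heq := P.is_maximal' hsup le_sup_right
    have hxP : x ∈ (P : Subgroup G) := by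
      rw [← heq]; exact Subgroup.mem_sup_left (Subgroup.mem_zpowers x)
    exact hxC (hPC hxP)
  obtain ⟨q, hqp, hqx, hqne⟩ := hq
  haveI : Fact q.Prime := ⟨hqp⟩
  have hqG : q ∣ Nat.card G := hqx.trans (orderOf_dvd_natCard x)
  have hpq : p ≤ q := hmin q hqp hqG
  have hxq : x ^ q ∈ Subgroup.centralizer (P : Set G) := by
    apply hxmin _ (Subgroup.pow_mem _ hxN q)
    rw [orderOf_pow_of_dvd hqp.ne_zero hqx]
    exact Nat.div_lt_self (orderOf_pos x) hqp.one_lt
  -- the conjugation map on P
  have hmem : ∀ y : P, x * (y : G) * x⁻¹ ∈ (P : Subgroup G) := by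
    intro y
    exact (Subgroup.mem_normalizer_iff.mp hxN (y : G)).mp y.2
  let f : Function.End P := fun y => ⟨x * (y : G) * x⁻¹, hmem y⟩
  have hfpow : ∀ (n : ℕ) (y : P), (((f ^ n) y : P) : G) = x ^ n * (y : G) * (x ^ n)⁻¹ := by
    intro n
    induction n with
    | zero =>
      intro y
      rw [pow_zero, pow_zero, inv_one, mul_one, one_mul]; rfl
    | succ n ih =>
      intro y
      have e : (f ^ (n + 1)) y = (f ^ n) (f y) := by rw [pow_succ]; rfl
      rw [e, ih]
      show x ^ n * (x * (y : G) * x⁻¹) * (x ^ n)⁻¹ = _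
      rw [pow_succ]; group
  have hfq : f ^ q ^ 1 = 1 := by
    rw [pow_one]
    funext y
    apply Subtype.ext
    rw [hfpow]
    have := Subgroup.mem_centralizer_iff.mp hxq (y : G) y.2
    show x ^ q * (y : G) * (x ^ q)⁻¹ = (y : G)
    rw [← this, mul_inv_cancel_right]
  letI : Fintype P := Fintype.ofFinite _
  letI : Fintype (Function.fixedPoints f) := Fintype.ofFinite _
  have hmod := Equiv.Perm.card_fixedPoints_modEq (f := f) (p := q) (n := 1) hfq
  -- fixed points form a proper subgroup
  obtain ⟨D, hD⟩ : ∃ D : Subgroup P, D = (Subgroup.centralizer {x}).subgroupOf (P : Subgroup G) :=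
    ⟨_, rfl⟩
  have hfix : Function.fixedPoints f = (D : Set P) := by
    ext y
    rw [Function.mem_fixedPoints, Function.IsFixedPt, hD, SetLike.mem_coe, Subgroup.mem_subgroupOf,
      Subgroup.mem_centralizer_iff]
    constructor
    · intro h z hz
      rw [Set.mem_singleton_iff] at hz
      subst hz
      have := congrArg Subtype.val h
      have h2 : z * (y : G) * z⁻¹ = (y : G) := this
      calc z * (y : G) = (z * (y : G) * z⁻¹) * z := by group
        _ = (y : G) * z := by rw [h2]
    · intro h
      apply Subtype.ext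
      show x * (y : G) * x⁻¹ = (y : G)
      rw [h x rfl, mul_inv_cancel_right]
  have hcardfix : Nat.card (Function.fixedPoints f) = Nat.card D := by
    rw [hfix]; rfl
  rw [Fintype.card_eq_nat_card, Fintype.card_eq_nat_card, hcardfix] at hmod
  have hDtop : D ≠ ⊤ := by
    intro hDt
    apply hxC
    rw [Subgroup.mem_centralizer_iff]
    intro y hy
    have : (⟨y, hy⟩ : P) ∈ D := by rw [hDt]; trivial
    rw [hD, Subgroup.mem_subgroupOf, Subgroup.mem_centralizer_iff] at this
    exact (this x rfl).symm
  have hDdvd : Nat.card D ∣ Nat.card P := Subgroup.card_subgroup_dvd_card D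
  have hDne : Nat.card D ≠ Nat.card P := fun h => hDtop ((Subgroup.card_eq_iff_eq_top D).mp h)
  have hDle : Nat.card D ≤ Nat.card P := Nat.le_of_dvd Nat.card_pos hDdvd
  have hqdvd : q ∣ Nat.card P - Nat.card D := (Nat.modEq_iff_dvd' hDle).mp hmod.symm
  have hp2 := hpp.two_le
  obtain ⟨r, hr⟩ : ∃ r, p = r + 1 := ⟨p - 1, by omega⟩
  have hr1 : 1 ≤ r := by omega
  have hqr : ¬ q ∣ r := by
    intro h
    have := Nat.le_of_dvd (by omega) h
    omega
  have hqp' : ¬ q ∣ p := by
    intro h
    exact hqne ((Nat.prime_dvd_prime_iff_eq hqp hpp).mp h)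
  rcases hPcard with hP1 | hP2
  · -- |P| = p
    rw [hP1] at hDdvd hDne hqdvd
    rcases (Nat.dvd_prime hpp).mp hDdvd with h1 | h1
    · rw [h1] at hqdvd
      apply hqr
      have : p - 1 = r := by omega
      rwa [this] at hqdvd
    · exact hDne h1
  · rw [hP2] at hDdvd hDne hqdvd
    obtain ⟨m, hm, hDm⟩ := (Nat.dvd_prime_pow hpp).mp hDdvd
    interval_cases m
    · -- |D| = 1
      rw [hDm, pow_zero] at hqdvd
      have e : p ^ 2 - 1 = r * (r + 2) := by
        have : p ^ 2 = r * (r + 2) + 1 := by rw [hr]; ring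
        omega
      rw [e] at hqdvd
      rcases (Nat.Prime.dvd_mul hqp).mp hqdvd with h | h
      · exact hqr h
      · have hle := Nat.le_of_dvd (by omega) h
        have hq3 : q = p + 1 := by omega
        -- p and p+1 both prime: p = 2
        have hp2' : p = 2 := by
          rcases hpp.eq_two_or_odd' with h2 | hodd
          · exact h2
          · exfalso
            have heven : 2 ∣ q := by
              rw [hq3]
              obtain ⟨k, hk⟩ := hodd
              exact ⟨k + 1, by omega⟩
            have := (Nat.prime_dvd_prime_iff_eq Nat.prime_two hqp).mp heven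
            omega
        apply hc12
        have h4 : 4 ∣ Nat.card G := by
          have := hPdvd
          rw [hP2, hp2'] at this
          exact this
        have h3 : 3 ∣ Nat.card G := by
          have : q = 3 := by omega
          rw [← this]; exact hqG
        exact Nat.Coprime.mul_dvd_of_dvd_of_dvd (by norm_num : Nat.Coprime 4 3) h4 h3
    · -- |D| = p
      rw [hDm, pow_one] at hqdvd
      have e : p ^ 2 - p = p * r := by
        have : p ^ 2 = p * r + p := by rw [hr]; ring
        omega
      rw [e] at hqdvd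
      rcases (Nat.Prime.dvd_mul hqp).mp hqdvd with h | h
      · exact hqp' h
      · exact hqr h
    · exact hDne hDm

end Cfsg.Agent.S0073
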