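import Cfsg.Statements.S0075
import Mathlib
import Cfsg.Agent.Lib.Lead_Coprime

set_option autoImplicit false
open Cfsg

namespace Cfsg.Agent.S0075

open scoped commutatorElement

/-- For an abelian Sylow p-subgroup T, its intersection with the subgroup generated by the elements of order prime to p is the commutator of T with its normalizer. -/
theorem result {G : Type*} [Group G] [Finite G] {p : ℕ} [Fact p.Prime] (T : Sylow p G) (hT : IsMulCommutative T) : (T : Subgroup G) ⊓ Cfsg.pResidual p G = ⁅(T : Subgroup G), Subgroup.normalizer (T : Set G)⁆ := by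
  classical
  haveI := hT
  have hpp : p.Prime := Fact.out
  -- R = O^p(G) is normal
  have hRn : (Cfsg.pResidual p G).Normal := by
    constructor
    intro n hn g
    unfold Cfsg.pResidual at hn ⊢
    refine Cfsg.Agent.Lib.Lead_Coprime.conj_mem_closure_of_forall ?_ n hn
    intro y hy
    apply Subgroup.subset_closure
    show Nat.Coprime (orderOf (g * y * g⁻¹)) p
    have : orderOf (g * y * g⁻¹) = orderOf y := by
      have := orderOf_injective (MulAut.conj g).toMonoidHom (MulAut.conj g).injective y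
      simpa using this
    rw [this]; exact hy
  haveI := hRn
  -- G / R is a p-group
  have hQ : IsPGroup p (G ⧸ Cfsg.pResidual p G) := by
    intro y
    obtain ⟨g, rfl⟩ := QuotientGroup.mk_surjective y
    obtain ⟨k, m, hm, hkm⟩ := Nat.exists_eq_pow_mul_and_not_dvd (orderOf_pos g).ne' p hpp.ne_one
    refine ⟨k, ?_⟩
    rw [← QuotientGroup.mk_pow, QuotientGroup.eq_one_iff]
    apply Subgroup.subset_closure
    show Nat.Coprime (orderOf (g ^ p ^ k)) p
    have : orderOf (g ^ p ^ k) = m := by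
      rw [orderOf_pow' g (pow_pos hpp.pos k).ne', hkm, Nat.gcd_eq_right (Dvd.intro _ rfl)]
      exact Nat.mul_div_cancel_left m (pow_pos hpp.pos k)
    rw [this]
    exact ((Nat.Prime.coprime_iff_not_dvd hpp).mpr hm).symm
  -- R ⊔ T = ⊤
  have hsup : Cfsg.pResidual p G ⊔ (T : Subgroup G) = ⊤ := by
    rw [← Subgroup.index_eq_one]
    obtain ⟨n, hn⟩ := hQ.exists_card_eq
    have h1 : (Cfsg.pResidual p G ⊔ (T : Subgroup G)).index ∣ p ^ n := by
      rw [← hn]
      exact Subgroup.index_dvd_of_le le_sup_left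
    have h2 : (Cfsg.pResidual p G ⊔ (T : Subgroup G)).index ∣ (T : Subgroup G).index :=
      Subgroup.index_dvd_of_le le_sup_right
    have h3 : Nat.Coprime (p ^ n) (T : Subgroup G).index :=
      Nat.Coprime.pow_left _ ((Nat.Prime.coprime_iff_not_dvd hpp).mpr T.not_dvd_index)
    exact Nat.eq_one_of_dvd_coprimes h3 h1 h2
  -- G' ≤ R
  have hGR : commutator G ≤ Cfsg.pResidual p G := by
    rw [commutator_def, Subgroup.commutator_le]
    intro g₁ _ g₂ _
    have hg : ∀ g : G, ∃ x ∈ (T : Subgroup G), (QuotientGroup.mk g : G ⧸ Cfsg.pResidual p G) = QuotientGroup.mk x := by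
      intro g
      have hg : g ∈ ((Cfsg.pResidual p G ⊔ (T : Subgroup G) : Subgroup G) : Set G) := by
        rw [hsup]; exact Set.mem_univ g
      rw [Subgroup.normal_mul] at hg
      obtain ⟨n, hn, x, hx, rfl⟩ := Set.mem_mul.mp hg
      refine ⟨x, hx, ?_⟩
      rw [QuotientGroup.mk_mul, (QuotientGroup.eq_one_iff n).mpr hn, one_mul]
    obtain ⟨x, hx, e1⟩ := hg g₁
    obtain ⟨y, hy, e2⟩ := hg g₂
    rw [← QuotientGroup.eq_one_iff]
    have hxy : (QuotientGroup.mk ⁅x, y⁆ : G ⧸ Cfsg.pResidual p G) = 1 := by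
      have hc : x * y = y * x := by
        have := mul_comm' (⟨x, hx⟩ : (T : Subgroup G)) ⟨y, hy⟩
        exact congrArg Subtype.val this
      rw [commutatorElement_eq_one_iff_mul_comm.mpr hc]; rfl
    simp only [commutatorElement_def, QuotientGroup.mk_mul, QuotientGroup.mk_inv] at hxy ⊢
    rw [e1, e2]; exact hxy
  -- T ∩ R ≤ G'
  have hTRG : (T : Subgroup G) ⊓ Cfsg.pResidual p G ≤ commutator G := by
    obtain ⟨k, m, hm, hkm⟩ := Nat.exists_eq_pow_mul_and_not_dvd
      (Nat.card_pos (α := Abelianization G)).ne' p hpp.ne_one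
    have hRM : Cfsg.pResidual p G ≤
        ((powMonoidHom m : Abelianization G →* Abelianization G).comp Abelianization.of).ker := by
      unfold Cfsg.pResidual
      rw [Subgroup.closure_le]
      intro g hg
      rw [SetLike.mem_coe, MonoidHom.mem_ker, MonoidHom.comp_apply]
      show (Abelianization.of g) ^ m = 1
      have h1 : orderOf (Abelianization.of g) ∣ orderOf g := orderOf_map_dvd _ g
      have h2 : orderOf (Abelianization.of g) ∣ p ^ k * m := by
        rw [← hkm]; exact orderOf_dvd_natCard _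
      have h3 : Nat.Coprime (orderOf (Abelianization.of g)) (p ^ k) :=
        Nat.Coprime.pow_right _ (Nat.Coprime.coprime_dvd_left h1 hg)
      exact orderOf_dvd_iff_pow_eq_one.mp (h3.dvd_of_dvd_mul_left h2)
    rintro x ⟨hxT, hxR⟩
    rw [← Abelianization.ker_of, MonoidHom.mem_ker]
    have h1 : (Abelianization.of x) ^ m = 1 := by
      have := MonoidHom.mem_ker.mp (hRM hxR)
      simpa using this
    obtain ⟨j, hj⟩ := T.isPGroup' ⟨x, hxT⟩
    have h2 : (Abelianization.of x) ^ (p ^ j) = 1 := by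
      have := congrArg Subtype.val hj
      rw [Subgroup.coe_pow, Subgroup.coe_one] at this
      rw [← map_pow, this, map_one]
    have hc : Nat.Coprime (p ^ j) m := Nat.Coprime.pow_left _ ((Nat.Prime.coprime_iff_not_dvd hpp).mpr hm)
    have : orderOf (Abelianization.of x) ∣ 1 := by
      rw [← Nat.Coprime.gcd_eq_one hc]
      exact Nat.dvd_gcd (orderOf_dvd_of_pow_eq_one h2) (orderOf_dvd_of_pow_eq_one h1)
    exact orderOf_eq_one_iff.mp (Nat.dvd_one.mp this)
  -- focal subgroup ≤ [T, N(T)]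
  have hfoc : commutator G ⊓ (T : Subgroup G) ≤ ⁅(T : Subgroup G), Subgroup.normalizer (T : Set G)⁆ := by
    rw [Subgroup.commutator_inf_eq_focalSubgroup T]
    rw [Subgroup.focalSubgroup_def, Subgroup.closure_le]
    rintro g ⟨hgP, x, hx, u, rfl⟩
    have hxi : x⁻¹ ∈ T := Subgroup.inv_mem _ hx
    have hconj : (u⁻¹)⁻¹ * x⁻¹ * u⁻¹ ∈ T := by
      have e : (u⁻¹)⁻¹ * x⁻¹ * u⁻¹ = x⁻¹ * ⁅x, u⁆ := by
        simp only [commutatorElement_def]; group
      rw [e]; exact Subgroup.mul_mem _ hxi hgP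
    obtain ⟨n, hn, hnx⟩ := T.conj_eq_normalizer_conj_of_mem x⁻¹ u⁻¹ hxi hconj
    have e2 : ⁅x, u⁆ = ⁅x, n⁻¹⁆ := by
      simp only [commutatorElement_def]
      calc x * u * x⁻¹ * u⁻¹ = x * ((u⁻¹)⁻¹ * x⁻¹ * u⁻¹) := by group
        _ = x * (n⁻¹ * x⁻¹ * n) := by rw [hnx]
        _ = x * n⁻¹ * x⁻¹ * (n⁻¹)⁻¹ := by group
    rw [SetLike.mem_coe, e2]
    exact Subgroup.commutator_mem_commutator hx (Subgroup.inv_mem _ hn)
  apply le_antisymm
  · intro x hx
    exact hfoc (Subgroup.mem_inf.mpr ⟨hTRG hx, hx.1⟩)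
  · apply le_inf
    · exact Cfsg.Agent.Lib.Lead_Coprime.commutator_le_of_le_normalizer (T : Subgroup G) (Subgroup.normalizer (T : Set G)) le_rfl
    · refine le_trans ?_ hGR
      rw [commutator_def]
      exact Subgroup.commutator_mono le_top le_top

end Cfsg.Agent.S0075
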