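import Cfsg.Statements.S0076
import Mathlib
import Cfsg.Agent.Lib.Lead_SZ

set_option autoImplicit false
open Cfsg

namespace Cfsg.Agent.S0076

/-- Two P-invariant subsets of a Sylow p-subgroup P that are conjugate in G are conjugate under the normalizer of P. -/
theorem result {G : Type*} [Group G] [Finite G] {p : ℕ} [Fact p.Prime] (P : Sylow p G) (X Y : Set G) (hXP : X ⊆ P) (hYP : Y ⊆ P) (hX : ∀ x ∈ P, (fun y => x * y * x⁻¹) '' X = X) (hY : ∀ x ∈ P, (fun y => x * y * x⁻¹) '' Y = Y) (g : G) (hg : (fun y => g * y * g⁻¹) '' X = Y) : ∃ n ∈ Subgroup.normalizer (P : Set G), (fun y => n * y * n⁻¹) '' X = Y := by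
  have key : ∀ (S : Set G) (x : G), (fun y => x * y * x⁻¹) '' S = S →
      x ∈ Subgroup.normalizer S := by
    intro S x hS
    rw [Subgroup.mem_set_normalizer_iff]
    intro n
    constructor
    · intro hn
      rw [← hS]; exact ⟨n, hn, rfl⟩
    · intro hn
      rw [← hS] at hn
      obtain ⟨m, hm, hmn⟩ := hn
      have : m = n := by
        have := congrArg (fun z => x⁻¹ * z * x) hmn
        simpa [mul_assoc] using this
      rw [← this]; exact hm
  have key2 : ∀ (S : Set G) (x : G), x ∈ Subgroup.normalizer S →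
      (fun y => x * y * x⁻¹) '' S = S := by
    intro S x hx
    rw [Subgroup.mem_set_normalizer_iff] at hx
    ext z
    constructor
    · rintro ⟨w, hw, rfl⟩
      exact (hx w).mp hw
    · intro hz
      refine ⟨x⁻¹ * z * x, (hx _).mpr ?_, by group⟩
      have e : x * (x⁻¹ * z * x) * x⁻¹ = z := by group
      rw [e]; exact hz
  have h1 : (P : Subgroup G) ≤ Subgroup.normalizer Y := fun x hx => key Y x (hY x hx)
  have h2 : ((g • P : Sylow p G) : Subgroup G) ≤ Subgroup.normalizer Y := by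
    intro x hx
    rw [Sylow.smul_def, Sylow.pointwise_smul_def, Cfsg.Agent.Lib.Lead_SZ.mem_conj_smul] at hx
    apply key
    have hX' := hX _ hx
    rw [← hg]
    ext z
    constructor
    · rintro ⟨_, ⟨w, hw, rfl⟩, rfl⟩
      refine ⟨(g⁻¹ * x * g) * w * (g⁻¹ * x * g)⁻¹, ?_, by group⟩
      rw [← hX']; exact ⟨w, hw, rfl⟩
    · rintro ⟨w, hw, rfl⟩
      rw [← hX'] at hw
      obtain ⟨v, hv, rfl⟩ := hw
      exact ⟨g * v * g⁻¹, ⟨v, hv, rfl⟩, by group⟩
  have hex : ∃ c ∈ Subgroup.normalizer Y, c * g ∈ Subgroup.normalizer (P : Set G) := by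
    obtain ⟨h, hh⟩ := MulAction.exists_smul_eq (Subgroup.normalizer Y) ((g • P).subtype h2)
      (P.subtype h1)
    simp_rw [Sylow.smul_subtype, Subgroup.smul_def, smul_smul] at hh
    exact ⟨h, h.2, Sylow.smul_eq_iff_mem_normalizer.mp (Sylow.subtype_injective hh)⟩
  obtain ⟨c, hcM, hn⟩ := hex
  refine ⟨c * g, hn, ?_⟩
  have h3 := key2 Y c hcM
  rw [← hg] at h3 ⊢
  rw [← h3]
  ext z
  constructor
  · rintro ⟨w, hw, rfl⟩
    exact ⟨g * w * g⁻¹, ⟨w, hw, rfl⟩, by group⟩
  · rintro ⟨_, ⟨w, hw, rfl⟩, rfl⟩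
    exact ⟨w, hw, by group⟩

end Cfsg.Agent.S0076
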