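import Cfsg.Statements.S0077
import Mathlib
import Cfsg.Agent.Lib.Lead_Coprime
import Cfsg.Agent.Lib.Lead_SZ

set_option autoImplicit false
open Cfsg

namespace Cfsg.Agent.S0077

open scoped commutatorElement Pointwise

/-- If a subgroup Z of the centre of a Sylow p-subgroup P is weakly closed in P, then P meets the derived subgroup of G exactly where it meets the derived subgroup of the normalizer of Z. -/
theorem result {G : Type*} [Group G] [Finite G] {p : ℕ} [Fact p.Prime] (P : Sylow p G) (Z : Subgroup G) (hZ : Z ≤ Subgroup.centralizer (P : Set G)) (hW : Cfsg.IsWeaklyClosed Z P) : commutator G ⊓ (P : Subgroup G) = ⁅Subgroup.normalizer (Z : Set G), Subgroup.normalizer (Z : Set G)⁆ ⊓ (P : Subgroup G) := by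
  classical
  obtain ⟨hZP, hW2⟩ := hW
  have hPNZ : (P : Subgroup G) ≤ Subgroup.normalizer (Z : Set G) := by
    intro x hx
    refine Cfsg.Agent.Lib.Lead_Coprime.mem_normalizer_of_conj_mem ?_ ?_
    · intro z hz
      have := Subgroup.mem_centralizer_iff.mp (hZ hz) x hx
      -- x * z = z * x
      rw [this, mul_inv_cancel_right]; exact hz
    · intro z hz
      have := Subgroup.mem_centralizer_iff.mp (hZ hz) x⁻¹ (Subgroup.inv_mem _ hx)
      have e : x⁻¹ * z * x = x⁻¹ * z * x⁻¹⁻¹ := by rw [inv_inv]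
      rw [e, this, mul_inv_cancel_right]; exact hz
  have hZp : IsPGroup p Z := P.isPGroup'.to_le hZP
  -- key fusion statement
  have key : ∀ w ∈ (P : Subgroup G), ∀ u : G, u * w * u⁻¹ ∈ (P : Subgroup G) →
      ∃ n ∈ Subgroup.normalizer (Z : Set G), n * w * n⁻¹ = u * w * u⁻¹ := by
    intro w hw u hy
    -- Z and u Z u⁻¹ lie in C = C(y)
    obtain ⟨C, hC⟩ : ∃ C : Subgroup G, C = Subgroup.centralizer ({u * w * u⁻¹} : Set G) := ⟨_, rfl⟩
    have hCmem : ∀ c ∈ C, (u * w * u⁻¹) * c = c * (u * w * u⁻¹) := by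
      intro c hc
      rw [hC] at hc
      exact Subgroup.mem_centralizer_iff.mp hc _ rfl
    have hZC : Z ≤ C := by
      rw [hC]
      intro z hz
      rw [Subgroup.mem_centralizer_iff]
      intro y hy'
      rw [Set.mem_singleton_iff] at hy'
      rw [hy']
      exact Subgroup.mem_centralizer_iff.mp (hZ hz) _ hy
    have hZuC : MulAut.conj u • Z ≤ C := by
      rw [hC]
      intro z hz
      rw [Cfsg.Agent.Lib.Lead_SZ.mem_conj_smul] at hz
      rw [Subgroup.mem_centralizer_iff]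
      intro y hy'
      rw [Set.mem_singleton_iff] at hy'
      rw [hy']
      have h1 := Subgroup.mem_centralizer_iff.mp (hZ hz) w hw
      -- w * (u⁻¹ z u) = (u⁻¹ z u) * w
      calc u * w * u⁻¹ * z = u * (w * (u⁻¹ * z * u)) * u⁻¹ := by group
        _ = u * ((u⁻¹ * z * u) * w) * u⁻¹ := by rw [h1]
        _ = z * (u * w * u⁻¹) := by group
    have hZup : IsPGroup p (MulAut.conj u • Z : Subgroup G) := by
      have : (MulAut.conj u • Z : Subgroup G) = Z.map (MulAut.conj u).toMonoidHom := rfl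
      rw [this]
      exact hZp.map _
    obtain ⟨R₁, hR₁⟩ := IsPGroup.exists_le_sylow
      (hZp.comap_of_injective C.subtype (Subgroup.subtype_injective _))
    obtain ⟨R₂, hR₂⟩ := IsPGroup.exists_le_sylow
      (hZup.comap_of_injective C.subtype (Subgroup.subtype_injective _))
    obtain ⟨c, hc⟩ := MulAction.exists_smul_eq C R₂ R₁
    -- a Sylow subgroup of G above the image of R₁
    obtain ⟨S, hS⟩ := IsPGroup.exists_le_sylow
      (R₁.isPGroup'.map C.subtype)
    obtain ⟨h, hh⟩ := MulAction.exists_smul_eq G P S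
    have hScoe : (S : Subgroup G) = MulAut.conj h • (P : Subgroup G) := by rw [← hh]; rfl
    have hmemS : ∀ x, x ∈ (S : Subgroup G) ↔ h⁻¹ * x * h ∈ (P : Subgroup G) := by
      intro x
      rw [hScoe, Cfsg.Agent.Lib.Lead_SZ.mem_conj_smul]
    -- Z ≤ S
    have hZS : ∀ z ∈ Z, z ∈ (S : Subgroup G) := by
      intro z hz
      apply hS
      refine ⟨⟨z, hZC hz⟩, ?_, rfl⟩
      exact hR₁ (by exact hz)
    -- (c u) Z (c u)⁻¹ ≤ S
    have hZcS : ∀ z ∈ Z, (c : G) * u * z * ((c : G) * u)⁻¹ ∈ (S : Subgroup G) := by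
      intro z hz
      apply hS
      have hz' : u * z * u⁻¹ ∈ MulAut.conj u • Z := by
        rw [Cfsg.Agent.Lib.Lead_SZ.mem_conj_smul]
        have e : u⁻¹ * (u * z * u⁻¹) * u = z := by group
        rw [e]; exact hz
      have h2 : (⟨u * z * u⁻¹, hZuC hz'⟩ : C) ∈ (R₂ : Subgroup C) :=
        hR₂ (by exact hz')
      have h3 : c * ⟨u * z * u⁻¹, hZuC hz'⟩ * c⁻¹ ∈ (R₁ : Subgroup C) := by
        have : (R₁ : Subgroup C) = MulAut.conj c • (R₂ : Subgroup C) := by rw [← hc]; rfl
        rw [this, Cfsg.Agent.Lib.Lead_SZ.mem_conj_smul]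
        have e : c⁻¹ * (c * ⟨u * z * u⁻¹, hZuC hz'⟩ * c⁻¹) * c = ⟨u * z * u⁻¹, hZuC hz'⟩ := by group
        rw [e]; exact h2
      refine ⟨_, h3, ?_⟩
      simp only [Subgroup.coe_subtype, Subgroup.coe_mul, Subgroup.coe_inv]
      group
    have h1 : h⁻¹ ∈ Subgroup.normalizer (Z : Set G) := by
      apply Subgroup.mem_normalizer_iff_map_conj_eq.mpr
      apply hW2
      rintro _ ⟨z, hz, rfl⟩
      have := (hmemS z).mp (hZS z hz)
      simpa using this
    have h2 : h⁻¹ * ((c : G) * u) ∈ Subgroup.normalizer (Z : Set G) := by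
      apply Subgroup.mem_normalizer_iff_map_conj_eq.mpr
      apply hW2
      rintro _ ⟨z, hz, rfl⟩
      have := (hmemS _).mp (hZcS z hz)
      have e : (MulAut.conj (h⁻¹ * ((c : G) * u))).toMonoidHom z =
          h⁻¹ * ((c : G) * u * z * ((c : G) * u)⁻¹) * h := by
        simp only [MulEquiv.coe_toMonoidHom, MulAut.conj_apply]
        group
      rw [e]; exact this
    have h3 : (c : G) * u ∈ Subgroup.normalizer (Z : Set G) := by
      have e : (c : G) * u = (h⁻¹)⁻¹ * (h⁻¹ * ((c : G) * u)) := by group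
      rw [e]
      exact Subgroup.mul_mem _ (Subgroup.inv_mem _ h1) h2
    refine ⟨(c : G) * u, h3, ?_⟩
    have hcc := (hCmem c c.2).symm
    -- (u w u⁻¹) * c = c * (u w u⁻¹)
    calc (c : G) * u * w * ((c : G) * u)⁻¹ = ((c : G) * (u * w * u⁻¹)) * (c : G)⁻¹ := by group
      _ = ((u * w * u⁻¹) * (c : G)) * (c : G)⁻¹ := by rw [hcc]
      _ = u * w * u⁻¹ := by group
  apply le_antisymm
  · rw [Subgroup.commutator_inf_eq_focalSubgroup P]
    refine le_inf ?_ (Subgroup.focalSubgroup_le _)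
    rw [Subgroup.focalSubgroup_def, Subgroup.closure_le]
    rintro g ⟨hgP, x, hx, u, rfl⟩
    have hxi : x⁻¹ ∈ (P : Subgroup G) := Subgroup.inv_mem _ hx
    have hconj : u * x⁻¹ * u⁻¹ ∈ (P : Subgroup G) := by
      have e : u * x⁻¹ * u⁻¹ = x⁻¹ * ⁅x, u⁆ := by
        simp only [commutatorElement_def]; group
      rw [e]; exact Subgroup.mul_mem _ hxi hgP
    obtain ⟨n, hn, hnx⟩ := key x⁻¹ hxi u hconj
    have e2 : ⁅x, u⁆ = ⁅x, n⁆ := by
      simp only [commutatorElement_def]
      calc x * u * x⁻¹ * u⁻¹ = x * (u * x⁻¹ * u⁻¹) := by group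
        _ = x * (n * x⁻¹ * n⁻¹) := by rw [hnx]
        _ = x * n * x⁻¹ * n⁻¹ := by group
    rw [SetLike.mem_coe, e2]
    exact Subgroup.commutator_mem_commutator (hPNZ hx) hn
  · refine inf_le_inf_right _ ?_
    rw [commutator_def]
    exact Subgroup.commutator_mono le_top le_top

end Cfsg.Agent.S0077
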