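import Mathlib
import Cfsg.Statements.S0078
import Cfsg.Agent.Lib.Helper7_Tate2
import Cfsg.Agent.S0077
import Cfsg.Agent.Lib.Helper5_Sylow

set_option autoImplicit false

open Cfsg

namespace Cfsg.Agent.S0078

open Subgroup Cfsg.Agent.Lib.Helper7_Tate2 Cfsg.Agent.Lib.Helper7_Basic
open scoped Pointwise

/-- In a p-normal group, a Sylow p-subgroup P meets O^p(G) exactly where it meets O^p(V), for any subgroup V containing the normalizer of the centre of P. -/
theorem result {G : Type*} [Group G] [Finite G] {p : ℕ} [Fact p.Prime] (P : Sylow p G) (hn : ∀ Q : Sylow p G, (P : Subgroup G) ⊓ Subgroup.centralizer (P : Set G) ≤ (Q : Subgroup G) → (Q : Subgroup G) ⊓ Subgroup.centralizer (Q : Set G) = (P : Subgroup G) ⊓ Subgroup.centralizer (P : Set G)) (V : Subgroup G) (hV : Subgroup.normalizer (((P : Subgroup G) ⊓ Subgroup.centralizer (P : Set G) : Subgroup G) : Set G) ≤ V) : (P : Subgroup G) ⊓ Cfsg.pResidual p G = (P : Subgroup G) ⊓ (Cfsg.pResidual p V).map V.subtype := by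
  have hZ : (P : Subgroup G) ⊓ centralizer (P : Set G) ≤ centralizer (P : Set G) := inf_le_right
  have hcomm : ∀ z ∈ (P : Subgroup G) ⊓ centralizer (P : Set G), ∀ y ∈ (P : Subgroup G),
      y * z * y⁻¹ = z := by
    intro z hz y hy
    have := (mem_centralizer_iff.mp (Subgroup.mem_inf.mp hz).2) y hy
    rw [this]; group
  have hPN : (P : Subgroup G) ≤
      normalizer (((P : Subgroup G) ⊓ centralizer (P : Set G) : Subgroup G) : Set G) := by
    intro y hy
    rw [mem_normalizer_iff]
    intro h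
    constructor
    · intro hh
      rw [hcomm h hh y hy]; exact hh
    · intro hh
      have h1 := hcomm _ hh y⁻¹ (inv_mem hy)
      have e : y⁻¹ * (y * h * y⁻¹) * y⁻¹⁻¹ = h := by group
      rw [e] at h1
      rw [h1]; exact hh
  have hPV : (P : Subgroup G) ≤ V := hPN.trans hV
  have hW : Cfsg.IsWeaklyClosed ((P : Subgroup G) ⊓ centralizer (P : Set G)) (P : Subgroup G) := by
    refine ⟨inf_le_left, fun g hg => ?_⟩
    have hZQ : (P : Subgroup G) ⊓ centralizer (P : Set G) ≤ ((g⁻¹ • P : Sylow p G) : Subgroup G) := by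
      intro z hz
      show z ∈ g⁻¹ • P
      rw [mem_smul_sylow, inv_inv]
      exact hg ⟨z, hz, rfl⟩
    have hQ := hn (g⁻¹ • P) hZQ
    apply Subgroup.eq_of_le_of_card_ge
    · rintro _ ⟨z, hz, rfl⟩
      refine Subgroup.mem_inf.mpr ⟨hg ⟨z, hz, rfl⟩, ?_⟩
      rw [mem_centralizer_iff]
      intro y hy
      have hyQ : g⁻¹ * y * g ∈ ((g⁻¹ • P : Sylow p G) : Subgroup G) := by
        show g⁻¹ * y * g ∈ g⁻¹ • P
        rw [mem_smul_sylow, inv_inv]
        have : g * (g⁻¹ * y * g) * g⁻¹ = y := by group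
        rw [this]; exact hy
      have hzc : z ∈ centralizer ((g⁻¹ • P : Sylow p G) : Set G) :=
        (Subgroup.mem_inf.mp (hQ.ge hz)).2
      have h1 := (mem_centralizer_iff.mp hzc) _ hyQ
      simp only [MulEquiv.coe_toMonoidHom, MulAut.conj_apply]
      have e1 : y * (g * z * g⁻¹) = g * ((g⁻¹ * y * g) * z) * g⁻¹ := by group
      have e2 : g * z * g⁻¹ * y = g * (z * (g⁻¹ * y * g)) * g⁻¹ := by group
      rw [e1, e2, h1]
    · rw [Cfsg.Agent.Lib.Helper5_Sylow.card_map_conj]
  have h77 := Cfsg.Agent.S0077.result P _ hZ hW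
  have hfoc : commutator G ⊓ (P : Subgroup G) ≤ ⁅V, V⁆ := by
    rw [h77]
    exact inf_le_left.trans (commutator_mono hV hV)
  exact le_antisymm (le_inf inf_le_left (tate_general P V hPV hfoc))
    (inf_le_inf_left _ (map_pResidual_le_pResidual V))

end Cfsg.Agent.S0078
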