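import Mathlib
import Cfsg.Statements.S0079
import Cfsg.Agent.Lib.Helper7_NPC
import Cfsg.Agent.Lib.Helper7_NPC2
import Cfsg.Agent.S3910

set_option autoImplicit false

open Cfsg

namespace Cfsg.Agent.S0079

open Cfsg.Agent.Lib.Helper7_NPC Cfsg.Agent.Lib.Helper7_NPC2 Subgroup

variable {G : Type*} [Group G] [Finite G]

/-- For a nilpotent Hall subgroup `H` controlling its own fusion, `G` has a normal `p`-complement
for every prime `p` dividing `|H|`, of index the `p`-part of `|H|`. -/
theorem npc_of_hall (H : Subgroup G) (hH : Group.IsNilpotent H)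
    (hHall : Nat.Coprime (Nat.card H) H.index)
    (hctl : ∀ x ∈ H, ∀ y ∈ H, (∃ g : G, g * x * g⁻¹ = y) → ∃ h ∈ H, h * x * h⁻¹ = y)
    (p : ℕ) (hp : p ∈ (Nat.card H).primeFactors) :
    ∃ N : Subgroup G, N.Normal ∧ (Nat.card N).Coprime p ∧
      N.index = p ^ (Nat.card H).factorization p := by
  have hpp : p.Prime := Nat.prime_of_mem_primeFactors hp
  have hpd : p ∣ Nat.card H := Nat.dvd_of_mem_primeFactors hp
  haveI : Fact p.Prime := ⟨hpp⟩
  have hcardG : Nat.card H * H.index = Nat.card G := H.card_mul_index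
  have hH0 : Nat.card H ≠ 0 := Nat.card_pos.ne'
  have hi0 : H.index ≠ 0 := index_ne_zero_of_finite
  have hpi : ¬ p ∣ H.index := by
    intro h
    exact hpp.one_lt.ne' (Nat.eq_one_of_dvd_coprimes hHall hpd h)
  have hfac : (Nat.card G).factorization p = (Nat.card H).factorization p := by
    rw [← hcardG, Nat.factorization_mul hH0 hi0]
    simp [Nat.factorization_eq_zero_of_not_dvd hpi]
  -- the Sylow subgroup
  let PH : Sylow p H := default
  set P₀ : Subgroup G := (PH : Subgroup H).map H.subtype with hP₀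
  have hP₀card : Nat.card P₀ = p ^ (Nat.card G).factorization p := by
    rw [hP₀, card_map_of_injective (subtype_injective H), Sylow.card_eq_multiplicity, hfac]
  let P : Sylow p G := Sylow.ofCard P₀ hP₀card
  have hPcoe : (P : Subgroup G) = P₀ := Sylow.coe_ofCard P₀ hP₀card
  have hmemP : ∀ z : G, z ∈ P ↔ z ∈ P₀ := by
    intro z
    have : z ∈ P ↔ z ∈ (P : Subgroup G) := Iff.rfl
    rw [this, hPcoe]
  have hP₀H : P₀ ≤ H := by
    rintro _ ⟨z, -, rfl⟩
    exact z.2
  have hnpc : NPC p G := by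
    apply npc_of_control P
    intro x hx g hgx
    rw [hmemP] at hx hgx
    obtain ⟨h, hhH, hh⟩ := hctl x (hP₀H hx) (g * x * g⁻¹) (hP₀H hgx) ⟨g, rfl⟩
    obtain ⟨u, hu, c, hc, huc⟩ := Cfsg.Agent.S3910.sylow_mul_centralizer hH PH ⟨h, hhH⟩
    obtain ⟨x', hx', rfl⟩ := hx
    have hcx : x' * c = c * x' := mem_centralizer_iff.mp hc x' hx'
    refine ⟨(u : G), (hmemP _).mpr ⟨u, hu, rfl⟩, ?_⟩
    rw [← hh]
    have h1 : h = (u : G) * (c : G) := by
      have := congrArg (fun z : H => (z : G)) huc
      simpa using this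
    have h2 : (c : G) * (x' : G) * (c : G)⁻¹ = (x' : G) := by
      have := congrArg (fun z : H => (z : G)) hcx
      simp only [coe_mul] at this
      rw [← this]; group
    calc h * H.subtype x' * h⁻¹ = (u : G) * ((c : G) * (x' : G) * (c : G)⁻¹) * (u : G)⁻¹ := by
          rw [h1]; simp only [coe_subtype]; group
      _ = (u : G) * H.subtype x' * (u : G)⁻¹ := by rw [h2]; rfl
  obtain ⟨N, hNn, hNc, k, hk⟩ := hnpc
  refine ⟨N, hNn, hNc, ?_⟩
  have hc := NPC.isComplement' hNc hk P
  have := hc.symm.index_eq_card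
  rw [this, hPcoe, hP₀card, hfac]

theorem result {G : Type*} [Group G] [Finite G] (H : Subgroup G) (hH : Group.IsNilpotent H) (hHall : Nat.Coprime (Nat.card H) H.index) : (∃ N : Subgroup G, N.Normal ∧ N.IsComplement' H) ↔ ∀ x ∈ H, ∀ y ∈ H, (∃ g : G, g * x * g⁻¹ = y) → ∃ h ∈ H, h * x * h⁻¹ = y := by
  constructor
  · rintro ⟨N, hNn, hc⟩ x hx y hy ⟨g, hg⟩
    obtain ⟨⟨n, h⟩, hnh, -⟩ := hc.existsUnique g
    simp only at hnh
    refine ⟨h, h.2, ?_⟩
    set x' := (h : G) * x * (h : G)⁻¹ with hx'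
    have hx'H : x' ∈ H := mul_mem (mul_mem h.2 hx) (inv_mem h.2)
    have hy' : y = (n : G) * x' * (n : G)⁻¹ := by rw [← hg, ← hnh, hx']; group
    have h1 : (n : G) * x' * (n : G)⁻¹ * x'⁻¹ ∈ N := by
      have : x' * (n : G)⁻¹ * x'⁻¹ ∈ N := hNn.conj_mem _ (inv_mem n.2) x'
      have e : (n : G) * x' * (n : G)⁻¹ * x'⁻¹ = (n : G) * (x' * (n : G)⁻¹ * x'⁻¹) := by group
      rw [e]; exact mul_mem n.2 this
    have h2 : (n : G) * x' * (n : G)⁻¹ * x'⁻¹ ∈ H := by
      rw [← hy']; exact mul_mem hy (inv_mem hx'H)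
    have h3 : (n : G) * x' * (n : G)⁻¹ * x'⁻¹ = 1 := disjoint_def.mp hc.disjoint h1 h2
    rw [hy']
    exact (mul_inv_eq_one.mp h3).symm
  · intro hctl
    have key := npc_of_hall H hH hHall hctl
    choose! Np hNp using key
    set N : Subgroup G := ⨅ q : (Nat.card H).primeFactors, Np q with hN
    have hNn : N.Normal := normal_iInf_normal (fun q => (hNp q q.2).1)
    have hH0 : Nat.card H ≠ 0 := Nat.card_pos.ne'
    -- the index of `N` is at most `|H|`
    have hidx : N.index ≤ Nat.card H := by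
      have h1 := index_iInf_le (fun q : (Nat.card H).primeFactors => Np q)
      have h2 : ∏ q : (Nat.card H).primeFactors, (Np q).index = Nat.card H := by
        conv_rhs => rw [Nat.prod_primeFactors_coe_pow_factorization hH0]
        exact Finset.prod_congr rfl (fun q _ => (hNp q q.2).2.2)
      rw [h2] at h1
      exact h1
    -- `N` meets `H` trivially
    have hdisj : Disjoint N H := by
      rw [disjoint_def]
      intro x hxN hxH
      by_contra hx1
      have ho : orderOf x ≠ 1 := fun h => hx1 (orderOf_eq_one_iff.mp h)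
      set q := (orderOf x).minFac with hq
      have hqp : q.Prime := Nat.minFac_prime ho
      have hqd : q ∣ orderOf x := Nat.minFac_dvd _
      have hxH' : orderOf x ∣ Nat.card H := by
        have := orderOf_dvd_natCard (⟨x, hxH⟩ : H)
        rwa [orderOf_mk] at this
      have hqm : q ∈ (Nat.card H).primeFactors :=
        Nat.mem_primeFactors.mpr ⟨hqp, hqd.trans hxH', hH0⟩
      have hxNq : x ∈ Np q := by
        have := (mem_iInf.mp hxN) ⟨q, hqm⟩
        exact this
      have h1 : orderOf x ∣ Nat.card (Np q) := by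
        have := orderOf_dvd_natCard (⟨x, hxNq⟩ : Np q)
        rwa [orderOf_mk] at this
      have h2 : (Nat.card (Np q)).Coprime q := (hNp q hqm).2.1
      exact hqp.one_lt.ne' (Nat.eq_one_of_dvd_coprimes h2 (hqd.trans h1) (dvd_refl q))
    have hinf : N ⊓ H = ⊥ := hdisj.eq_bot
    -- cardinalities
    have hle : Nat.card N * Nat.card H ≤ Nat.card G := by
      haveI := hNn
      have h1 := relIndex_mul_relIndex (⊥ : Subgroup G) N (N ⊔ H) bot_le le_sup_left
      rw [relIndex_bot_left, relIndex_bot_left, relIndex_sup_left,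
        ← inf_relIndex_right, hinf, relIndex_bot_left] at h1
      rw [h1]
      exact card_le_card_group _
    have hge : Nat.card G ≤ Nat.card N * Nat.card H := by
      rw [← N.card_mul_index]
      exact Nat.mul_le_mul_left _ hidx
    exact ⟨N, hNn, isComplement'_of_card_mul_and_disjoint (le_antisymm hle hge) hdisj⟩

end Cfsg.Agent.S0079
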