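import Cfsg.Statements.S0080
import Mathlib
import Mathlib

set_option autoImplicit false
open Cfsg

namespace Cfsg.Agent.S0080

open scoped IsMulCommutative

/-- When the index of H is prime to the order of H/H', the focal subgroup of H is G' ∩ H, and H/(G' ∩ H) has a normal complement. -/
theorem result {G : Type*} [Group G] [Finite G] (H : Subgroup G) (h : Nat.Coprime H.index (⁅H, H⁆.relIndex H)) : Subgroup.focalSubgroup H = commutator G ⊓ H ∧ ∃ N : Subgroup G, N.Normal ∧ N ⊓ H = commutator G ⊓ H ∧ N ⊔ H = ⊤ := by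
  classical
  haveI : H.FiniteIndex := ⟨Subgroup.index_ne_zero_of_finite⟩
  -- the order of H/H* is coprime to the index
  have hcomm : (commutator H).index = ⁅H, H⁆.relIndex H := by
    rw [Subgroup.relIndex, ← Subgroup.map_subtype_commutator]
    congr 1
    exact (Subgroup.comap_map_eq_self_of_injective H.subtype_injective _).symm
  have hdvd : Nat.card (H ⧸ H.focalSubgroupOf) ∣ ⁅H, H⁆.relIndex H := by
    rw [← hcomm, ← Subgroup.index_eq_card]
    exact Subgroup.index_dvd_of_le H.commutator_le_focalSubgroupOf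
  have hcop : (Nat.card (H ⧸ H.focalSubgroupOf)).Coprime H.index :=
    (Nat.Coprime.coprime_dvd_right hdvd h).symm
  have hbij : Function.Bijective fun y : H ⧸ H.focalSubgroupOf => y ^ H.index :=
    (powCoprime hcop).bijective
  have hsurjH : ∀ y : H ⧸ H.focalSubgroupOf, ∃ x : H, H.transferFocal x = y := by
    intro y
    obtain ⟨z, rfl⟩ := hbij.2 y
    obtain ⟨x, rfl⟩ := QuotientGroup.mk'_surjective _ z
    exact ⟨x, H.transferFocal_eq_pow x⟩
  have hker : H.transferFocal.ker ⊓ H = H.focalSubgroup := by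
    ext g
    constructor
    · intro hg
      obtain ⟨hg1, hg2⟩ := Subgroup.mem_inf.mp hg
      have h1 := H.transferFocal_eq_pow ⟨g, hg2⟩
      rw [MonoidHom.mem_ker] at hg1
      have h2 : ((⟨g, hg2⟩ : H) : H ⧸ H.focalSubgroupOf) ^ H.index = (1 : H ⧸ H.focalSubgroupOf) ^ H.index := by
        rw [one_pow, ← h1]; exact hg1
      have h3 := hbij.1 h2
      have h4 : (⟨g, hg2⟩ : H) ∈ H.focalSubgroupOf := (QuotientGroup.eq_one_iff _).mp h3
      exact Subgroup.mem_subgroupOf.mp h4
    · intro hg
      have hgH := H.focalSubgroup_le hg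
      refine Subgroup.mem_inf.mpr ⟨?_, hgH⟩
      rw [MonoidHom.mem_ker]
      have h1 := H.transferFocal_eq_pow ⟨g, hgH⟩
      have h4 : (⟨g, hgH⟩ : H) ∈ H.focalSubgroupOf := Subgroup.mem_subgroupOf.mpr hg
      have h3 : ((⟨g, hgH⟩ : H) : H ⧸ H.focalSubgroupOf) = 1 := (QuotientGroup.eq_one_iff _).mpr h4
      rw [h3, one_pow] at h1
      exact h1
  have hfocal : Subgroup.focalSubgroup H = commutator G ⊓ H := by
    apply le_antisymm
    · exact le_inf H.focalSubgroup_le_commutator H.focalSubgroup_le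
    · apply le_trans ?_ hker.le
      exact inf_le_inf_right _ (Abelianization.commutator_subset_ker H.transferFocal)
  refine ⟨hfocal, H.transferFocal.ker, inferInstance, ?_, ?_⟩
  · rw [hker, hfocal]
  · rw [eq_top_iff]
    intro g _
    obtain ⟨x, hx⟩ := hsurjH (H.transferFocal g)
    have h1 : g * (x : G)⁻¹ ∈ H.transferFocal.ker := by
      rw [MonoidHom.mem_ker, map_mul, map_inv, hx, mul_inv_cancel]
    have h2 : g = (g * (x : G)⁻¹) * x := by group
    rw [h2]
    exact Subgroup.mul_mem_sup h1 x.2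

end Cfsg.Agent.S0080
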