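import Mathlib
import Cfsg.Statements.S0081
import Cfsg.Agent.Lib.Helper7_Tate
import Cfsg.Agent.Lib.Helper7_NPC

set_option autoImplicit false

open Cfsg

namespace Cfsg.Agent.S0081

open Subgroup Cfsg.Agent.Lib.Helper7_Tate Cfsg.Agent.Lib.Helper7_NPC
  Cfsg.Agent.Lib.Helper3_PResidual Cfsg.Agent.Lib.Helper7_Basic

/-- the subgroup generated by the `p'`-elements of `N`. -/
theorem tate_core {G : Type*} [Group G] [Finite G] {p : ℕ} [Fact p.Prime] (P : Sylow p G)
    (N : Subgroup G) [N.Normal]
    (h : N ⊓ (P : Subgroup G) ≤ (frattini P).map (P : Subgroup G).subtype) : NPC p N := by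
  set K : Subgroup G := closure {g : G | g ∈ N ∧ (orderOf g).Coprime p} with hK
  have hKN : K ≤ N := by
    rw [hK, closure_le]
    rintro g ⟨hg, _⟩
    exact hg
  haveI hKn : K.Normal := by
    apply closure_normal_of_conj_invariant
    rintro n ⟨hn, hcop⟩ g
    refine ⟨(inferInstance : N.Normal).conj_mem n hn g, ?_⟩
    rw [orderOf_conj']
    exact hcop
  have hgen : K ≤ closure {g : G | g ∈ K ∧ (orderOf g).Coprime p} := by
    conv_lhs => rw [hK]
    apply Subgroup.closure_mono
    rintro g ⟨hg, hcop⟩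
    exact ⟨Subgroup.subset_closure ⟨hg, hcop⟩, hcop⟩
  have hfr : K.subgroupOf (P : Subgroup G) ≤ frattini (P : Subgroup G) := by
    intro y hy
    have h1 : (y : G) ∈ N ⊓ (P : Subgroup G) :=
      Subgroup.mem_inf.mpr ⟨hKN (mem_subgroupOf.mp hy), y.2⟩
    obtain ⟨y', hy', hyy⟩ := h h1
    have : y' = y := Subtype.ext hyy
    rw [← this]; exact hy'
  have hcop := card_coprime P K hgen hfr
  refine ⟨K.subgroupOf N, inferInstance, ?_, ?_⟩
  · rw [Nat.card_congr (subgroupOfEquivOfLe hKN).toEquiv]
    exact hcop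
  · have hQ : IsPGroup p (N ⧸ K.subgroupOf N) := by
      apply isPGroup_quotient_of_coprime_mem
      intro g hg
      rw [mem_subgroupOf]
      apply Subgroup.subset_closure
      refine ⟨g.2, ?_⟩
      rw [Subgroup.orderOf_coe]
      exact hg
    obtain ⟨k, hk⟩ := IsPGroup.iff_card.mp hQ
    exact ⟨k, by rw [Subgroup.index, hk]⟩

/-- If a normal subgroup meets a Sylow p-subgroup P inside the Frattini subgroup of P, then it has a normal p-complement. -/
theorem result {G : Type*} [Group G] [Finite G] {p : ℕ} [Fact p.Prime] (P : Sylow p G) (N : Subgroup G) [N.Normal] (h : N ⊓ (P : Subgroup G) ≤ (frattini P).map (P : Subgroup G).subtype) : Cfsg.HasNormalPComplement p N := by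
  exact hasNormalPComplement_iff_npc.mpr (tate_core P N h)

end Cfsg.Agent.S0081
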