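import Cfsg.Statements.S0082
import Mathlib
import Cfsg.Agent.Lib.Lead_PResidual
import Cfsg.Agent.Lib.Lead_SZ

set_option autoImplicit false
open Cfsg

namespace Cfsg.Agent.S0082

open scoped commutatorElement

/-- With a cyclic Sylow p-subgroup, either there is a normal p-complement or the elements of order prime to p generate the whole group. -/
theorem result {G : Type*} [Group G] [Finite G] {p : ℕ} [Fact p.Prime] (P : Sylow p G) (hP : IsCyclic P) : Cfsg.HasNormalPComplement p G ∨ Cfsg.pResidual p G = ⊤ := by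
  classical
  have hpp : p.Prime := Fact.out
  haveI hPcomm : IsMulCommutative (P : Subgroup G) := by
    haveI := hP
    exact ⟨⟨fun a b => IsCyclic.commGroup.mul_comm a b⟩⟩
  have hPC : (P : Subgroup G) ≤ Subgroup.centralizer (P : Set G) := by
    intro x hx
    rw [Subgroup.mem_centralizer_iff]
    intro y hy
    have := mul_comm' (⟨y, hy⟩ : (P : Subgroup G)) ⟨x, hx⟩
    exact congrArg Subtype.val this
  -- a complement A of P in its normalizer
  have hPN : (P : Subgroup G) ≤ Subgroup.normalizer ((P : Subgroup G) : Set G) := Subgroup.le_normalizer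
  haveI hP'n : ((P : Subgroup G).subgroupOf (Subgroup.normalizer ((P : Subgroup G) : Set G))).Normal :=
    Subgroup.normal_in_normalizer
  have hidx : ¬ p ∣ (P : Subgroup G).relIndex (Subgroup.normalizer ((P : Subgroup G) : Set G)) := by
    intro hdvd
    exact P.not_dvd_index (hdvd.trans (Subgroup.relIndex_dvd_index_of_le hPN))
  obtain ⟨k, hk⟩ := P.isPGroup'.exists_card_eq
  have hcop : Nat.Coprime (Nat.card ((P : Subgroup G).subgroupOf (Subgroup.normalizer ((P : Subgroup G) : Set G))))
      ((P : Subgroup G).subgroupOf (Subgroup.normalizer ((P : Subgroup G) : Set G))).index := by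
    rw [Cfsg.Agent.Lib.Lead_SZ.card_subgroupOf_of_le hPN, hk]
    exact Nat.Coprime.pow_left _ ((Nat.Prime.coprime_iff_not_dvd hpp).mpr hidx)
  obtain ⟨H', hH'⟩ := Subgroup.exists_right_complement'_of_coprime hcop
  have hAN : H'.map (Subgroup.normalizer ((P : Subgroup G) : Set G)).subtype ≤
      Subgroup.normalizer ((P : Subgroup G) : Set G) := Subgroup.map_subtype_le _
  have hAcard : Nat.Coprime (Nat.card (H'.map (Subgroup.normalizer ((P : Subgroup G) : Set G)).subtype))
      (Nat.card (P : Subgroup G)) := by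
    rw [Subgroup.card_map_of_injective (Subgroup.subtype_injective _), ← hH'.symm.index_eq_card, hk]
    exact (Nat.Coprime.pow_left _ ((Nat.Prime.coprime_iff_not_dvd hpp).mpr hidx)).symm
  have hdecompN : ∀ n ∈ Subgroup.normalizer ((P : Subgroup G) : Set G), ∃ x ∈ (P : Subgroup G),
      ∃ a ∈ H'.map (Subgroup.normalizer ((P : Subgroup G) : Set G)).subtype, n = x * a := by
    intro n hn
    obtain ⟨x, hx, a, ha, e⟩ := Cfsg.Agent.Lib.Lead_SZ.exists_mul_of_complement hH' ⟨n, hn⟩
    refine ⟨x, Subgroup.mem_subgroupOf.mp hx, a, ⟨a, ha, rfl⟩, ?_⟩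
    have := congrArg Subtype.val e
    rwa [Subgroup.coe_mul] at this
  have hsolv : Group.IsSolvable (P : Subgroup G) := by
    haveI := P.isPGroup'.isNilpotent
    infer_instance
  have hdec := Cfsg.Agent.Lib.Lead_Coprime.decomp
    (H'.map (Subgroup.normalizer ((P : Subgroup G) : Set G)).subtype) (P : Subgroup G) hAN hAcard (Or.inr hsolv)
  have hbot := Cfsg.Agent.Lib.Lead_Coprime.abelian_inf_eq_bot
    (H'.map (Subgroup.normalizer ((P : Subgroup G) : Set G)).subtype) (P : Subgroup G) hAN hAcard
  have hcomP : ⁅(P : Subgroup G), H'.map (Subgroup.normalizer ((P : Subgroup G) : Set G)).subtype⁆ ≤ (P : Subgroup G) :=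
    Cfsg.Agent.Lib.Lead_Coprime.commutator_le_of_le_normalizer _ _ hAN
  rcases Cfsg.Agent.Lib.Lead_PResidual.eq_bot_or_eq_bot_of_cyclic (p := p) (P : Subgroup G) hP P.isPGroup'
    ((P : Subgroup G) ⊓ Subgroup.centralizer (H'.map (Subgroup.normalizer ((P : Subgroup G) : Set G)).subtype : Set G))
    ⁅(P : Subgroup G), H'.map (Subgroup.normalizer ((P : Subgroup G) : Set G)).subtype⁆
    inf_le_left hcomP hbot with h | h
  · -- C_P(A) = 1 : P = [P, A] ≤ O^p(G)
    right
    apply Cfsg.Agent.Lib.Lead_PResidual.eq_top_of_sylow_le P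
    intro x hx
    obtain ⟨n, hn, c, hc, rfl⟩ := hdec x hx
    rw [h, Subgroup.mem_bot] at hc
    rw [hc, mul_one]
    have hle : ⁅(P : Subgroup G), H'.map (Subgroup.normalizer ((P : Subgroup G) : Set G)).subtype⁆ ≤ Cfsg.pResidual p G := by
      rw [Subgroup.commutator_le]
      intro y _ a ha
      have hoa : Nat.Coprime (orderOf a) p := by
        have h1 : orderOf a ∣ Nat.card (H'.map (Subgroup.normalizer ((P : Subgroup G) : Set G)).subtype) :=
          Subgroup.orderOf_dvd_natCard _ ha
        rw [Subgroup.card_map_of_injective (Subgroup.subtype_injective _), ← hH'.symm.index_eq_card] at h1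
        exact ((Nat.Prime.coprime_iff_not_dvd hpp).mpr (fun h => hidx (h.trans h1))).symm
      have e : ⁅y, a⁆ = (y * a * y⁻¹) * a⁻¹ := by simp only [commutatorElement_def]
      rw [e]
      refine Subgroup.mul_mem _ ?_ (Subgroup.inv_mem _ (Cfsg.Agent.Lib.Lead_PResidual.mem_pResidual_of_coprime hoa))
      apply Cfsg.Agent.Lib.Lead_PResidual.mem_pResidual_of_coprime
      have : orderOf (y * a * y⁻¹) = orderOf a := by
        have := orderOf_injective (MulAut.conj y).toMonoidHom (MulAut.conj y).injective a
        simpa using this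
      rw [this]; exact hoa
    exact hle hn
  · -- [P, A] = 1 : Burnside
    left
    have hPA : (P : Subgroup G) ≤ Subgroup.centralizer (H'.map (Subgroup.normalizer ((P : Subgroup G) : Set G)).subtype : Set G) :=
      Subgroup.commutator_eq_bot_iff_le_centralizer.mp h
    have hAP : H'.map (Subgroup.normalizer ((P : Subgroup G) : Set G)).subtype ≤ Subgroup.centralizer ((P : Subgroup G) : Set G) := by
      intro a ha
      rw [Subgroup.mem_centralizer_iff]
      intro x hx
      exact (Subgroup.mem_centralizer_iff.mp (hPA hx) a ha).symm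
    have hNC : Subgroup.normalizer ((P : Subgroup G) : Set G) ≤ Subgroup.centralizer (P : Set G) := by
      intro n hn
      obtain ⟨x, hx, a, ha, rfl⟩ := hdecompN n hn
      exact Subgroup.mul_mem _ (hPC hx) (hAP ha)
    exact ⟨P, (MonoidHom.transferSylow P hNC).ker, inferInstance,
      MonoidHom.ker_transferSylow_isComplement' P hNC⟩

end Cfsg.Agent.S0082
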