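import Cfsg.Statements.S0083
import Mathlib
import Cfsg.Agent.Lib.Lead_SZ

set_option autoImplicit false
open Cfsg

namespace Cfsg.Agent.S0083

/-- For an abelian Sylow p-subgroup P, a normal p-complement exists exactly when the normalizer of P is an internal direct product of P with some subgroup. -/
theorem result {G : Type*} [Group G] [Finite G] {p : ℕ} [Fact p.Prime] (P : Sylow p G) (hP : IsMulCommutative P) : Cfsg.HasNormalPComplement p G ↔ ∃ Q : Subgroup G, Q ≤ Subgroup.centralizer (P : Set G) ∧ Q ⊓ (P : Subgroup G) = ⊥ ∧ Q ⊔ (P : Subgroup G) = Subgroup.normalizer (P : Set G) := by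
  classical
  haveI := hP
  have hpp : p.Prime := Fact.out
  have hPC : (P : Subgroup G) ≤ Subgroup.centralizer (P : Set G) := by
    intro x hx
    rw [Subgroup.mem_centralizer_iff]
    intro y hy
    have := mul_comm' (⟨y, hy⟩ : (P : Subgroup G)) ⟨x, hx⟩
    exact congrArg Subtype.val this
  constructor
  · rintro ⟨P₀, N, hNn, hNP₀⟩
    haveI := hNn
    -- N is also a complement of P
    have hcardP : Nat.card (P : Subgroup G) = Nat.card (P₀ : Subgroup G) := by
      rw [Sylow.card_eq_multiplicity, Sylow.card_eq_multiplicity]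
    have hmul : Nat.card N * Nat.card (P : Subgroup G) = Nat.card G := by
      rw [hcardP]; exact hNP₀.card_mul
    have hNidx : Nat.card N = (P : Subgroup G).index := by
      have h1 := Subgroup.card_mul_index (P : Subgroup G)
      have hpos : 0 < Nat.card (P : Subgroup G) := Nat.card_pos
      rw [← hmul, mul_comm] at h1
      exact (Nat.eq_of_mul_eq_mul_right hpos h1).symm
    have hcop : Nat.Coprime (Nat.card N) (Nat.card (P : Subgroup G)) := by
      rw [hNidx, Sylow.card_eq_multiplicity]
      exact (Nat.Coprime.pow_left _ ((Nat.Prime.coprime_iff_not_dvd hpp).mpr P.not_dvd_index)).symm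
    have hNP : Subgroup.IsComplement' N (P : Subgroup G) := Subgroup.isComplement'_of_coprime hmul hcop
    have hdisj : N ⊓ (P : Subgroup G) = ⊥ := hNP.disjoint.eq_bot
    refine ⟨N ⊓ Subgroup.normalizer (P : Set G), ?_, ?_, ?_⟩
    · rintro q ⟨hqN, hqn⟩
      rw [Subgroup.mem_centralizer_iff]
      intro x hx
      have h1 : q * x * q⁻¹ * x⁻¹ ∈ N := by
        have : x * q⁻¹ * x⁻¹ ∈ N := hNn.conj_mem _ (N.inv_mem hqN) x
        have e : q * x * q⁻¹ * x⁻¹ = q * (x * q⁻¹ * x⁻¹) := by group
        rw [e]; exact N.mul_mem hqN this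
      have h2 : q * x * q⁻¹ * x⁻¹ ∈ (P : Subgroup G) := by
        have := (Subgroup.mem_normalizer_iff.mp hqn x).mp hx
        exact Subgroup.mul_mem _ this (Subgroup.inv_mem _ hx)
      have h3 : q * x * q⁻¹ * x⁻¹ ∈ N ⊓ (P : Subgroup G) := Subgroup.mem_inf.mpr ⟨h1, h2⟩
      rw [hdisj, Subgroup.mem_bot] at h3
      have : q * x = x * q := by
        have e : q * x = (q * x * q⁻¹ * x⁻¹) * (x * q) := by group
        rw [e, h3, one_mul]
      exact this.symm
    · rw [eq_bot_iff, ← hdisj]
      exact inf_le_inf_right _ inf_le_left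
    · apply le_antisymm (sup_le inf_le_right Subgroup.le_normalizer)
      intro n hn
      obtain ⟨k, hk, x, hx, rfl⟩ := Cfsg.Agent.Lib.Lead_SZ.exists_mul_of_complement hNP n
      have hkn : k ∈ Subgroup.normalizer ((P : Subgroup G) : Set G) := by
        have e : k = (k * x) * x⁻¹ := by group
        rw [e]
        exact Subgroup.mul_mem _ hn (Subgroup.inv_mem _ (Subgroup.le_normalizer hx))
      exact Subgroup.mul_mem _ (Subgroup.mem_sup_left (Subgroup.mem_inf.mpr ⟨hk, hkn⟩))
        (Subgroup.mem_sup_right hx)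
  · rintro ⟨Q, hQC, -, hQP⟩
    have hNC : Subgroup.normalizer ((P : Subgroup G) : Set G) ≤ Subgroup.centralizer (P : Set G) := by
      intro n hn
      have : n ∈ Q ⊔ (P : Subgroup G) := by rw [hQP]; exact hn
      exact (sup_le hQC hPC) this
    exact ⟨P, (MonoidHom.transferSylow P hNC).ker, inferInstance,
      MonoidHom.ker_transferSylow_isComplement' P hNC⟩

end Cfsg.Agent.S0083
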