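import Cfsg.Statements.S0084
import Mathlib
import Cfsg.Agent.Lib.Lead_NC

set_option autoImplicit false
open Cfsg

namespace Cfsg.Agent.S0084

/-- A group whose Sylow 2-subgroups are Klein four-groups and whose order is prime to 3 has a normal 2-complement. -/
theorem result {G : Type*} [Group G] [Finite G] (T : Sylow 2 G) (hT : IsKleinFour T) (h3 : ¬ 3 ∣ Nat.card G) : Cfsg.HasNormalPComplement 2 G := by
  classical
  haveI : Fact (Nat.Prime 2) := ⟨Nat.prime_two⟩
  haveI := hT
  haveI hTc : IsMulCommutative (T : Subgroup G) := IsKleinFour.isMulCommutative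
  have hPC : (T : Subgroup G) ≤ Subgroup.centralizer ((T : Subgroup G) : Set G) := by
    intro x hx
    rw [Subgroup.mem_centralizer_iff]
    intro y hy
    have := mul_comm' (⟨y, hy⟩ : (T : Subgroup G)) ⟨x, hx⟩
    exact congrArg Subtype.val this
  have hcard : Nat.card (T : Subgroup G) = 4 := IsKleinFour.card_four
  have h1 := Cfsg.Agent.Lib.Lead_NC.relIndex_dvd_factorial (T : Subgroup G)
  rw [hcard] at h1
  have h2 := Cfsg.Agent.Lib.Lead_NC.relIndex_not_dvd T hPC
  have h3 : ¬ 3 ∣ (Subgroup.centralizer ((T : Subgroup G) : Set G)).relIndex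
      (Subgroup.normalizer ((T : Subgroup G) : Set G)) := by
    intro h
    exact h3 ((h.trans (Subgroup.relIndex_dvd_card _ _)).trans (Subgroup.card_subgroup_dvd_card _))
  have h4 : (Subgroup.centralizer ((T : Subgroup G) : Set G)).relIndex
      (Subgroup.normalizer ((T : Subgroup G) : Set G)) = 1 := by
    have hc2 : Nat.Coprime ((Subgroup.centralizer ((T : Subgroup G) : Set G)).relIndex
      (Subgroup.normalizer ((T : Subgroup G) : Set G))) 2 :=
      ((Nat.Prime.coprime_iff_not_dvd Nat.prime_two).mpr h2).symm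
    have hc3 : Nat.Coprime ((Subgroup.centralizer ((T : Subgroup G) : Set G)).relIndex
      (Subgroup.normalizer ((T : Subgroup G) : Set G))) 3 :=
      ((Nat.Prime.coprime_iff_not_dvd Nat.prime_three).mpr h3).symm
    have hc24 : Nat.Coprime ((Subgroup.centralizer ((T : Subgroup G) : Set G)).relIndex
      (Subgroup.normalizer ((T : Subgroup G) : Set G))) (Nat.factorial 4) := by
      have e : Nat.factorial 4 = 2 ^ 3 * 3 := by decide
      rw [e]
      exact Nat.Coprime.mul_right (Nat.Coprime.pow_right _ hc2) hc3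
    exact Nat.Coprime.eq_one_of_dvd hc24 h1
  have hNC : Subgroup.normalizer ((T : Subgroup G) : Set G) ≤ Subgroup.centralizer (T : Set G) :=
    Subgroup.relIndex_eq_one.mp h4
  exact ⟨T, (MonoidHom.transferSylow T hNC).ker, inferInstance,
    MonoidHom.ker_transferSylow_isComplement' T hNC⟩

end Cfsg.Agent.S0084
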