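import Cfsg.Statements.S0085
import Mathlib
import Cfsg.Agent.Lib.Lead_NC

set_option autoImplicit false
open Cfsg

namespace Cfsg.Agent.S0085


/-- A group of order 8 has no automorphism of order 5. -/
theorem five_not_dvd_card_mulAut (H : Type*) [Group H] (h8 : Nat.card H = 8) :
    ¬ 5 ∣ Nat.card (MulAut H) := by
  classical
  haveI : Finite H := Nat.finite_of_card_ne_zero (by rw [h8]; norm_num)
  haveI : Fact (Nat.Prime 5) := ⟨by norm_num⟩
  intro hdvd
  obtain ⟨σ, hσ⟩ := exists_prime_orderOf_dvd_card' 5 hdvd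
  have hK : IsPGroup 5 (Subgroup.zpowers σ) := by
    apply IsPGroup.of_card (n := 1)
    rw [Nat.card_zpowers, hσ, pow_one]
  have hmod := hK.card_modEq_card_fixedPoints H
  -- the fixed points of σ form a subgroup
  let F : Subgroup H :=
    { carrier := {h | σ h = h}
      one_mem' := map_one σ
      mul_mem' := by
        intro a b ha hb
        show σ (a * b) = a * b
        rw [map_mul, ha, hb]
      inv_mem' := by
        intro a ha
        show σ a⁻¹ = a⁻¹
        rw [map_inv, ha] }
  have hfix : MulAction.fixedPoints (Subgroup.zpowers σ) H = (F : Set H) := by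
    ext h
    constructor
    · intro hh
      exact hh ⟨σ, Subgroup.mem_zpowers σ⟩
    · intro hh k
      have hle : Subgroup.zpowers σ ≤ MulAction.stabilizer (MulAut H) h := by
        rw [Subgroup.zpowers_le]
        exact hh
      exact hle k.2
  have hcardF : Nat.card (MulAction.fixedPoints (Subgroup.zpowers σ) H) = Nat.card F := by
    rw [hfix]; rfl
  rw [hcardF, h8] at hmod
  have hFdvd : Nat.card F ∣ 8 := by
    rw [← h8]; exact Subgroup.card_subgroup_dvd_card F
  have hF8 : Nat.card F = 8 := by
    have hle : Nat.card F ≤ 8 := Nat.le_of_dvd (by norm_num) hFdvd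
    have hm : 8 % 5 = Nat.card F % 5 := hmod
    interval_cases (Nat.card F) <;> simp_all
  have hFtop : F = ⊤ := by
    apply Subgroup.eq_top_of_card_eq
    rw [hF8, h8]
  have hσ1 : σ = 1 := by
    ext h
    have : h ∈ F := by rw [hFtop]; exact Subgroup.mem_top h
    exact this
  rw [hσ1, orderOf_one] at hσ
  norm_num at hσ


/-- A group whose Sylow 2-subgroups are elementary abelian of order 8 and whose order is prime to 3 and to 7 has a normal 2-complement. -/
theorem result {G : Type*} [Group G] [Finite G] (T : Sylow 2 G) (h8 : Nat.card T = 8) (he : ∀ x : T, x * x = 1) (h3 : ¬ 3 ∣ Nat.card G) (h7 : ¬ 7 ∣ Nat.card G) : Cfsg.HasNormalPComplement 2 G := by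
  classical
  haveI : Fact (Nat.Prime 2) := ⟨Nat.prime_two⟩
  have hcomm : ∀ x y : (T : Subgroup G), x * y = y * x := by
    intro x y
    have h1 := he (x * y)
    have hx := he x
    have hy := he y
    calc x * y = x * y * ((y * x) * (y * x)) := by rw [he (y * x), mul_one]
      _ = x * (y * y) * x * (y * x) := by group
      _ = y * x := by rw [hy, mul_one, hx, one_mul]
  have hPC : (T : Subgroup G) ≤ Subgroup.centralizer ((T : Subgroup G) : Set G) := by
    intro x hx
    rw [Subgroup.mem_centralizer_iff]
    intro y hy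
    have := hcomm ⟨y, hy⟩ ⟨x, hx⟩
    exact congrArg Subtype.val this
  have hcard : Nat.card (T : Subgroup G) = 8 := h8
  have h1 := Cfsg.Agent.Lib.Lead_NC.relIndex_dvd_factorial (T : Subgroup G)
  rw [hcard] at h1
  have h2 := Cfsg.Agent.Lib.Lead_NC.relIndex_not_dvd T hPC
  have hG : ∀ q : ℕ, ¬ q ∣ Nat.card G → ¬ q ∣ (Subgroup.centralizer ((T : Subgroup G) : Set G)).relIndex
      (Subgroup.normalizer ((T : Subgroup G) : Set G)) := by
    intro q hq h
    exact hq ((h.trans (Subgroup.relIndex_dvd_card _ _)).trans (Subgroup.card_subgroup_dvd_card _))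
  have h5 : ¬ 5 ∣ (Subgroup.centralizer ((T : Subgroup G) : Set G)).relIndex
      (Subgroup.normalizer ((T : Subgroup G) : Set G)) := by
    intro h
    exact five_not_dvd_card_mulAut (T : Subgroup G) hcard
      (h.trans (Cfsg.Agent.Lib.Lead_NC.relIndex_dvd_card_mulAut (T : Subgroup G)))
  have h4 : (Subgroup.centralizer ((T : Subgroup G) : Set G)).relIndex
      (Subgroup.normalizer ((T : Subgroup G) : Set G)) = 1 := by
    have hc2 := ((Nat.Prime.coprime_iff_not_dvd Nat.prime_two).mpr h2).symm
    have hc3 := ((Nat.Prime.coprime_iff_not_dvd Nat.prime_three).mpr (hG 3 h3)).symm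
    have hc5 := ((Nat.Prime.coprime_iff_not_dvd Nat.prime_five).mpr h5).symm
    have hc7 := ((Nat.Prime.coprime_iff_not_dvd (by norm_num : Nat.Prime 7)).mpr (hG 7 h7)).symm
    have hc : Nat.Coprime ((Subgroup.centralizer ((T : Subgroup G) : Set G)).relIndex
      (Subgroup.normalizer ((T : Subgroup G) : Set G))) (Nat.factorial 8) := by
      have e : Nat.factorial 8 = 2 ^ 7 * 3 ^ 2 * 5 * 7 := by decide
      rw [e]
      exact Nat.Coprime.mul_right (Nat.Coprime.mul_right (Nat.Coprime.mul_right
        (Nat.Coprime.pow_right _ hc2) (Nat.Coprime.pow_right _ hc3)) hc5) hc7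
    exact Nat.Coprime.eq_one_of_dvd hc h1
  have hNC : Subgroup.normalizer ((T : Subgroup G) : Set G) ≤ Subgroup.centralizer (T : Set G) :=
    Subgroup.relIndex_eq_one.mp h4
  exact ⟨T, (MonoidHom.transferSylow T hNC).ker, inferInstance,
    MonoidHom.ker_transferSylow_isComplement' T hNC⟩

end Cfsg.Agent.S0085
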