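import Cfsg.Statements.S0086
import Mathlib

set_option autoImplicit false
open Cfsg

namespace Cfsg.Agent.S0086

/-- A normal complement to a Sylow p-subgroup is exactly the set of elements of order prime to p. -/
theorem result {G : Type*} [Group G] [Finite G] {p : ℕ} [Fact p.Prime] (P : Sylow p G) (N : Subgroup G) [N.Normal] (hN : N.IsComplement' (P : Subgroup G)) (x : G) : x ∈ N ↔ Nat.Coprime (orderOf x) p := by
  have hp : p.Prime := Fact.out
  have hidxN : N.index = Nat.card P := hN.symm.index_eq_card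
  have hidxP : (P : Subgroup G).index = Nat.card N := hN.index_eq_card
  constructor
  · intro hx
    have h1 : orderOf x ∣ Nat.card N := by
      have := orderOf_dvd_natCard (⟨x, hx⟩ : N)
      rwa [Subgroup.orderOf_mk] at this
    have h2 : ¬ p ∣ Nat.card N := by rw [← hidxP]; exact P.not_dvd_index
    have h3 : ¬ p ∣ orderOf x := fun h => h2 (h.trans h1)
    exact ((Nat.Prime.coprime_iff_not_dvd hp).mpr h3).symm
  · intro hx
    obtain ⟨k, hk⟩ := P.isPGroup'.exists_card_eq
    have hcardQ : Nat.card (G ⧸ N) = p ^ k := by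
      rw [← hk, ← hidxN]; rfl
    have h1 : (QuotientGroup.mk' N x) ^ (orderOf x) = 1 := by
      rw [← map_pow, pow_orderOf_eq_one, map_one]
    have h2 : (QuotientGroup.mk' N x) ^ (p ^ k) = 1 := by
      rw [← hcardQ]; exact pow_card_eq_one'
    have h3 : orderOf (QuotientGroup.mk' N x) ∣ 1 := by
      have hc : Nat.Coprime (orderOf x) (p ^ k) := Nat.Coprime.pow_right k hx
      rw [← Nat.Coprime.gcd_eq_one hc]
      exact Nat.dvd_gcd (orderOf_dvd_of_pow_eq_one h1) (orderOf_dvd_of_pow_eq_one h2)
    have h4 : QuotientGroup.mk' N x = 1 := orderOf_eq_one_iff.mp (Nat.dvd_one.mp h3)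
    exact (QuotientGroup.eq_one_iff x).mp h4

end Cfsg.Agent.S0086
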