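import Cfsg.Statements.S0087
import Mathlib
import Cfsg.Agent.Lib.Lead_SZ
import Cfsg.Agent.Lib.Lead_Coprime

set_option autoImplicit false
open Cfsg

namespace Cfsg.Agent.S0087

open scoped Pointwise


universe u

open scoped IsMulCommutative in
/-- transfer into an abelian Hall subgroup that controls its own fusion -/
theorem complement_of_fusion {G : Type u} [Group G] [Finite G] (H : Subgroup G) [IsMulCommutative H]
    (hHall : Nat.Coprime (Nat.card H) H.index)
    (hfus : ∀ h ∈ H, ∀ g : G, g⁻¹ * h * g ∈ H → g⁻¹ * h * g = h) :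
    ∃ N : Subgroup G, N.Normal ∧ N.IsComplement' H := by
  classical
  have key : ∀ h ∈ H, ∀ (k : ℕ) (g₀ : G), g₀⁻¹ * h ^ k * g₀ ∈ H → g₀⁻¹ * h ^ k * g₀ = h ^ k :=
    fun h hh k g₀ hk => hfus (h ^ k) (H.pow_mem hh k) g₀ hk
  have hV : ∀ h : H, MonoidHom.transfer (MonoidHom.id H) (h : G) = h ^ H.index := by
    intro h
    have h1 := MonoidHom.transfer_eq_pow (MonoidHom.id H) (h : G) (key h h.2)
    rw [h1]
    apply Subtype.ext
    simp
  -- surjectivity
  have hsurj : Function.Surjective (MonoidHom.transfer (MonoidHom.id H)) := by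
    intro h
    have hbij := (powCoprime hHall).surjective h
    obtain ⟨h', hh'⟩ := hbij
    refine ⟨(h' : G), ?_⟩
    rw [hV h']
    exact hh'
  have hrange : (MonoidHom.transfer (MonoidHom.id H)).range = ⊤ :=
    MonoidHom.range_eq_top.mpr hsurj
  have hidx : (MonoidHom.transfer (MonoidHom.id H)).ker.index = Nat.card H := by
    rw [Subgroup.index_ker, hrange, Subgroup.card_top]
  have hmul : Nat.card (MonoidHom.transfer (MonoidHom.id H)).ker * Nat.card H = Nat.card G := by
    rw [← hidx]; exact Subgroup.card_mul_index _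
  have hker : Nat.card (MonoidHom.transfer (MonoidHom.id H)).ker = H.index := by
    have h1 := Subgroup.card_mul_index H
    rw [← hmul, mul_comm] at h1
    exact (Nat.eq_of_mul_eq_mul_right Nat.card_pos h1).symm
  refine ⟨(MonoidHom.transfer (MonoidHom.id H)).ker, inferInstance, ?_⟩
  apply Subgroup.isComplement'_of_coprime hmul
  rw [hker]; exact hHall.symm

theorem aux : ∀ (n : ℕ) (G : Type u) [Group G] [Finite G], Nat.card G = n →
    ∀ H : Subgroup G, Nat.Coprime (Nat.card H) H.index →
    Subgroup.normalizer (H : Set G) ≤ Subgroup.centralizer (H : Set G) →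
    ∃ N : Subgroup G, N.Normal ∧ N.IsComplement' H := by
  intro n
  induction n using Nat.strong_induction_on with
  | _ n ih =>
    intro G _ _ hn H hHall hNC
    classical
    have hHC : H ≤ Subgroup.centralizer (H : Set G) := Subgroup.le_normalizer.trans hNC
    have hcomm : ∀ x ∈ H, ∀ y ∈ H, x * y = y * x := by
      intro x hx y hy
      exact (Subgroup.mem_centralizer_iff.mp (hHC hy) x hx)
    haveI : IsMulCommutative H := ⟨⟨fun a b => Subtype.ext (hcomm a a.2 b b.2)⟩⟩
    apply complement_of_fusion H hHall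
    intro h hh g hy
    -- y = g⁻¹ h g, C = C_G(y)
    by_cases htop : Subgroup.centralizer ({g⁻¹ * h * g} : Set G) = ⊤
    · have hc : g ∈ Subgroup.centralizer ({g⁻¹ * h * g} : Set G) := by rw [htop]; exact Subgroup.mem_top g
      have := Subgroup.mem_centralizer_iff.mp hc (g⁻¹ * h * g) rfl
      -- (g⁻¹ h g) g = g (g⁻¹ h g)
      have e : h * g = g * (g⁻¹ * h * g) := by group
      have e2 : g⁻¹ * h * g * g = g * (g⁻¹ * h * g) := this
      have : g⁻¹ * h * g * g = h * g := by rw [e2, ← e]
      exact mul_right_cancel this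
    · -- induction inside C
      have hlt : Nat.card (Subgroup.centralizer ({g⁻¹ * h * g} : Set G)) < n := by
        rw [← hn]
        have : Subgroup.centralizer ({g⁻¹ * h * g} : Set G) < ⊤ := lt_top_iff_ne_top.mpr htop
        have h1 := Cfsg.Agent.Lib.Lead_SZ.card_lt this
        rwa [Subgroup.card_top] at h1
      have hHleC : H ≤ Subgroup.centralizer ({g⁻¹ * h * g} : Set G) := by
        intro x hx
        rw [Subgroup.mem_centralizer_iff]
        intro y hy'
        rw [Set.mem_singleton_iff] at hy'
        rw [hy']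
        exact hcomm _ hy x hx
      have hH'leC : MulAut.conj g⁻¹ • H ≤ Subgroup.centralizer ({g⁻¹ * h * g} : Set G) := by
        intro x hx
        rw [Cfsg.Agent.Lib.Lead_SZ.mem_conj_smul, inv_inv] at hx
        rw [Subgroup.mem_centralizer_iff]
        intro y hy'
        rw [Set.mem_singleton_iff] at hy'
        rw [hy']
        have h1 := hcomm h hh _ hx
        -- h (g x g⁻¹) = (g x g⁻¹) h
        calc g⁻¹ * h * g * x = g⁻¹ * (h * (g * x * g⁻¹)) * g := by group
          _ = g⁻¹ * ((g * x * g⁻¹) * h) * g := by rw [h1]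
          _ = x * (g⁻¹ * h * g) := by group
      have hHall' : Nat.Coprime (Nat.card (H.subgroupOf (Subgroup.centralizer ({g⁻¹ * h * g} : Set G))))
          (H.subgroupOf (Subgroup.centralizer ({g⁻¹ * h * g} : Set G))).index := by
        rw [Cfsg.Agent.Lib.Lead_SZ.card_subgroupOf_of_le hHleC]
        exact Nat.Coprime.coprime_dvd_right (Subgroup.relIndex_dvd_index_of_le hHleC) hHall
      have hNC' : Subgroup.normalizer ((H.subgroupOf (Subgroup.centralizer ({g⁻¹ * h * g} : Set G))) : Set (Subgroup.centralizer ({g⁻¹ * h * g} : Set G))) ≤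
          Subgroup.centralizer ((H.subgroupOf (Subgroup.centralizer ({g⁻¹ * h * g} : Set G))) : Set (Subgroup.centralizer ({g⁻¹ * h * g} : Set G))) := by
        intro c hc
        have hcN : (c : G) ∈ Subgroup.normalizer (H : Set G) := by
          refine Cfsg.Agent.Lib.Lead_Coprime.mem_normalizer_of_conj_mem ?_ ?_
          · intro x hx
            have h1 := (Subgroup.mem_normalizer_iff.mp hc ⟨x, hHleC hx⟩).mp (Subgroup.mem_subgroupOf.mpr hx)
            exact Subgroup.mem_subgroupOf.mp h1
          · intro x hx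
            have h1 := (Subgroup.mem_normalizer_iff.mp (Subgroup.inv_mem _ hc) ⟨x, hHleC hx⟩).mp (Subgroup.mem_subgroupOf.mpr hx)
            have h2 := Subgroup.mem_subgroupOf.mp h1
            simpa using h2
        have hcC := hNC hcN
        rw [Subgroup.mem_centralizer_iff]
        intro x hx
        apply Subtype.ext
        rw [Subgroup.coe_mul, Subgroup.coe_mul]
        exact Subgroup.mem_centralizer_iff.mp hcC x (Subgroup.mem_subgroupOf.mp hx)
      obtain ⟨K, hKn, hKH⟩ := ih _ hlt (Subgroup.centralizer ({g⁻¹ * h * g} : Set G)) rfl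
        (H.subgroupOf (Subgroup.centralizer ({g⁻¹ * h * g} : Set G))) hHall' hNC'
      haveI := hKn
      have hKidx : K.index = Nat.card H := by
        rw [hKH.symm.index_eq_card, Cfsg.Agent.Lib.Lead_SZ.card_subgroupOf_of_le hHleC]
      have hcardH' : Nat.card ((MulAut.conj g⁻¹ • H).subgroupOf (Subgroup.centralizer ({g⁻¹ * h * g} : Set G))) = Nat.card H := by
        rw [Cfsg.Agent.Lib.Lead_SZ.card_subgroupOf_of_le hH'leC, Cfsg.Agent.Lib.Lead_SZ.card_conj_smul]
      have hKcard : Nat.card K = (H.subgroupOf (Subgroup.centralizer ({g⁻¹ * h * g} : Set G))).index :=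
        hKH.index_eq_card.symm
      have hcopK : Nat.Coprime (Nat.card K) (Nat.card H) := by
        rw [hKcard]
        have := hHall'
        rw [Cfsg.Agent.Lib.Lead_SZ.card_subgroupOf_of_le hHleC] at this
        exact this.symm
      have hKH' : Subgroup.IsComplement' K
          ((MulAut.conj g⁻¹ • H).subgroupOf (Subgroup.centralizer ({g⁻¹ * h * g} : Set G))) := by
        apply Subgroup.isComplement'_of_coprime
        · rw [hcardH']
          have := hKH.card_mul_card
          rwa [Cfsg.Agent.Lib.Lead_SZ.card_subgroupOf_of_le hHleC] at this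
        · rw [hcardH']; exact hcopK
      have hsolvH : Group.IsSolvable (H.subgroupOf (Subgroup.centralizer ({g⁻¹ * h * g} : Set G))) := by
        apply isSolvable_of_comm
        intro a b
        apply Subtype.ext
        rw [Subgroup.coe_mul, Subgroup.coe_mul]
        apply Subtype.ext
        rw [Subgroup.coe_mul, Subgroup.coe_mul]
        exact hcomm _ (Subgroup.mem_subgroupOf.mp a.2) _ (Subgroup.mem_subgroupOf.mp b.2)
      obtain ⟨c, hc⟩ := Cfsg.Agent.Lib.Lead_SZ.sz_conj_complement K
        (by rw [hKidx]; exact hcopK) _ _ (Or.inr hsolvH) hKH hKH'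
      have hc' := Cfsg.Agent.Lib.Lead_SZ.conj_of_subgroupOf _ c H (MulAut.conj g⁻¹ • H) hHleC hH'leC hc
      -- g * c normalizes H
      have hgc : g * (c : G) ∈ Subgroup.normalizer (H : Set G) := by
        rw [Cfsg.Agent.Lib.Lead_SZ.conj_smul_le_normalizer, ← Cfsg.Agent.Lib.Lead_SZ.conj_smul_smul, hc',
          Cfsg.Agent.Lib.Lead_SZ.conj_smul_smul, mul_inv_cancel, map_one, one_smul]
      have hgcC := hNC hgc
      have h1 := Subgroup.mem_centralizer_iff.mp hgcC h hh
      -- h * (g c) = (g c) * h
      have h2 := Subgroup.mem_centralizer_iff.mp c.2 (g⁻¹ * h * g) rfl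
      -- (g⁻¹ h g) c = c (g⁻¹ h g)
      have e1 : g⁻¹ * h * g = (c : G)⁻¹ * (g⁻¹ * h * g * (c : G)) := by
        rw [h2]; group
      rw [e1]
      have e2 : (c : G)⁻¹ * (g⁻¹ * h * g * (c : G)) = (g * (c : G))⁻¹ * (h * (g * (c : G))) := by group
      rw [e2, h1]; group


/-- A Hall subgroup that is central in its normalizer has a normal complement. -/
theorem result {G : Type*} [Group G] [Finite G] (H : Subgroup G) (hHall : Nat.Coprime (Nat.card H) H.index) (h : Subgroup.normalizer (H : Set G) ≤ Subgroup.centralizer (H : Set G)) : ∃ N : Subgroup G, N.Normal ∧ N.IsComplement' H := by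
  exact aux _ G rfl H hHall h

end Cfsg.Agent.S0087
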