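import Cfsg.Statements.S0089
import Mathlib
import Cfsg.Agent.S0088

set_option autoImplicit false
open Cfsg

namespace Cfsg.Agent.S0089

/-- When all Sylow subgroups are abelian, the derived subgroup meets the centre trivially. -/
theorem result {G : Type*} [Group G] [Finite G] (h : ∀ p : ℕ, p.Prime → ∀ P : Sylow p G, IsMulCommutative P) : commutator G ⊓ Subgroup.center G = ⊥ := by
  rw [eq_bot_iff]
  intro z hz
  obtain ⟨hzG, hzc⟩ := Subgroup.mem_inf.mp hz
  rw [Subgroup.mem_bot]
  by_contra hne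
  have ho : orderOf z ≠ 1 := fun h1 => hne (orderOf_eq_one_iff.mp h1)
  obtain ⟨p, hp, hpdvd⟩ := Nat.exists_prime_and_dvd ho
  haveI := Fact.mk hp
  obtain ⟨P⟩ : Nonempty (Sylow p G) := inferInstance
  haveI : IsMulCommutative (P : Subgroup G) := h p hp P
  have h1 := Cfsg.Agent.S0088.pow_index_eq_one (P : Subgroup G) z hzc hzG
  have h2 : p ∣ (P : Subgroup G).index := hpdvd.trans (orderOf_dvd_of_pow_eq_one h1)
  exact P.not_dvd_index h2

end Cfsg.Agent.S0089
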