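import Cfsg.Statements.S0090
import Mathlib
import Cfsg.Agent.S0088
import Cfsg.Agent.Lib.Lead_Coprime

set_option autoImplicit false
open Cfsg

namespace Cfsg.Agent.S0090

open Cfsg.Agent.Lib.Lead_SZ Cfsg.Agent.Lib.Lead_Coprime commutatorElement

/-- An abelian normal Hall subgroup A splits as the internal direct product of G' ∩ A and Z(G) ∩ A, and [A, G] = G' ∩ A. -/
theorem result {G : Type*} [Group G] [Finite G] (A : Subgroup G) [A.Normal] (hc : IsMulCommutative A) (hHall : Nat.Coprime (Nat.card A) A.index) : ⁅A, (⊤ : Subgroup G)⁆ = commutator G ⊓ A ∧ (commutator G ⊓ A) ⊓ (Subgroup.center G ⊓ A) = ⊥ ∧ (commutator G ⊓ A) ⊔ (Subgroup.center G ⊓ A) = A := by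
  haveI := hc
  obtain ⟨H, hH⟩ := Subgroup.exists_right_complement'_of_coprime hHall
  have hidx : A.index = Nat.card H := hH.symm.index_eq_card
  have hcop : (Nat.card H).Coprime (Nat.card A) := by rw [← hidx]; exact hHall.symm
  have hHA : H ≤ Subgroup.normalizer (A : Set G) := by
    rw [Subgroup.normalizer_eq_top_iff.mpr inferInstance]; exact le_top
  have hsolvA : Group.IsSolvable A := isSolvable_of_comm (fun a b => mul_comm' a b)
  have hbot : A ⊓ commutator G ⊓ Subgroup.center G = ⊥ :=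
    Cfsg.Agent.S0088.result A hc hHall
  have hle1 : ⁅A, (⊤ : Subgroup G)⁆ ≤ commutator G ⊓ A := by
    refine le_inf (Subgroup.commutator_mono le_top le_rfl) ?_
    rw [Subgroup.commutator_le]
    intro a ha g _
    have h1 : g * a⁻¹ * g⁻¹ ∈ A := ‹A.Normal›.conj_mem _ (A.inv_mem ha) g
    have e : ⁅a, g⁆ = a * (g * a⁻¹ * g⁻¹) := by simp only [commutatorElement_def]; group
    rw [e]; exact A.mul_mem ha h1
  have hAH : ⁅A, H⁆ ≤ ⁅A, (⊤ : Subgroup G)⁆ := Subgroup.commutator_mono le_rfl le_top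
  have hcent : A ⊓ Subgroup.centralizer (H : Set G) ≤ Subgroup.center G ⊓ A := by
    intro x hx
    obtain ⟨hxA, hxC⟩ := Subgroup.mem_inf.mp hx
    refine Subgroup.mem_inf.mpr ⟨?_, hxA⟩
    rw [Subgroup.mem_center_iff]
    intro g
    obtain ⟨a, ha, h, hh, rfl⟩ := exists_mul_of_complement hH g
    have h1 : a * x = x * a := by
      have := mul_comm' (⟨a, ha⟩ : A) ⟨x, hxA⟩
      exact congrArg Subtype.val this
    have h2 : h * x = x * h := Subgroup.mem_centralizer_iff.mp hxC h hh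
    calc a * h * x = a * (h * x) := by group
      _ = a * (x * h) := by rw [h2]
      _ = (a * x) * h := by group
      _ = (x * a) * h := by rw [h1]
      _ = x * (a * h) := by group
  have hdec : ∀ k ∈ A, ∃ n ∈ (⁅A, H⁆ : Subgroup G), ∃ c ∈ A ⊓ Subgroup.centralizer (H : Set G),
      k = n * c := fun k hk => decomp H A hHA hcop (Or.inr hsolvA) k hk
  have hle2 : commutator G ⊓ A ≤ ⁅A, (⊤ : Subgroup G)⁆ := by
    intro x hx
    obtain ⟨hxG, hxA⟩ := Subgroup.mem_inf.mp hx
    obtain ⟨n, hn, c, hc', hxnc⟩ := hdec x hxA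
    have hnG : n ∈ commutator G ⊓ A := hle1 (hAH hn)
    have hcz := hcent hc'
    have hc1 : c ∈ A ⊓ commutator G ⊓ Subgroup.center G := by
      have e : c = n⁻¹ * x := by rw [hxnc]; group
      refine Subgroup.mem_inf.mpr ⟨Subgroup.mem_inf.mpr ⟨(Subgroup.mem_inf.mp hcz).2, ?_⟩,
        (Subgroup.mem_inf.mp hcz).1⟩
      rw [e]
      exact Subgroup.mul_mem _ (Subgroup.inv_mem _ (Subgroup.mem_inf.mp hnG).1) hxG
    rw [hbot, Subgroup.mem_bot] at hc1
    rw [hxnc, hc1, mul_one]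
    exact hAH hn
  refine ⟨le_antisymm hle1 hle2, ?_, ?_⟩
  · rw [eq_bot_iff, ← hbot]
    intro x hx
    obtain ⟨h1, h2⟩ := Subgroup.mem_inf.mp hx
    exact Subgroup.mem_inf.mpr ⟨Subgroup.mem_inf.mpr ⟨(Subgroup.mem_inf.mp h1).2,
      (Subgroup.mem_inf.mp h1).1⟩, (Subgroup.mem_inf.mp h2).1⟩
  · apply le_antisymm
    · exact sup_le inf_le_right inf_le_right
    · intro x hxA
      obtain ⟨n, hn, c, hc', rfl⟩ := hdec x hxA
      exact Subgroup.mul_mem _ (Subgroup.mem_sup_left (hle1 (hAH hn)))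
        (Subgroup.mem_sup_right (hcent hc'))

end Cfsg.Agent.S0090
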