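import Cfsg.Statements.S0091
import Mathlib
import Cfsg.Agent.Lib.Lead_Coprime

set_option autoImplicit false
open Cfsg

namespace Cfsg.Agent.S0091

open Cfsg.Agent.Lib.Lead_Coprime commutatorElement

/-- If a nontrivial Sylow p-subgroup controls its own fusion then it is not contained in the derived subgroup. -/
theorem result {G : Type*} [Group G] [Finite G] {p : ℕ} [Fact p.Prime] (P : Sylow p G) (hp : p ∣ Nat.card G) (h : ∀ x ∈ P, ∀ y ∈ P, (∃ g : G, g * x * g⁻¹ = y) → ∃ z ∈ P, z * x * z⁻¹ = y) : ¬ (P : Subgroup G) ≤ commutator G := by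
  intro hle
  have hfoc := Subgroup.commutator_inf_eq_focalSubgroup P
  have h1 : (P : Subgroup G).focalSubgroup = (P : Subgroup G) := by
    rw [← hfoc]; exact inf_eq_right.mpr hle
  have h2 : (P : Subgroup G).focalSubgroup ≤ ⁅(P : Subgroup G), (P : Subgroup G)⁆ := by
    rw [Subgroup.focalSubgroup_def, Subgroup.closure_le]
    rintro g ⟨hgP, x, hx, u, rfl⟩
    have hxi : x⁻¹ ∈ (P : Subgroup G) := Subgroup.inv_mem _ hx
    have hconj : u * x⁻¹ * u⁻¹ ∈ (P : Subgroup G) := by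
      have e : u * x⁻¹ * u⁻¹ = x⁻¹ * ⁅x, u⁆ := by simp only [commutatorElement_def]; group
      rw [e]; exact Subgroup.mul_mem _ hxi hgP
    obtain ⟨z, hz, hzx⟩ := h x⁻¹ hxi (u * x⁻¹ * u⁻¹) hconj ⟨u, rfl⟩
    have e2 : ⁅x, u⁆ = ⁅x, z⁆ := by
      simp only [commutatorElement_def]
      calc x * u * x⁻¹ * u⁻¹ = x * (u * x⁻¹ * u⁻¹) := by group
        _ = x * (z * x⁻¹ * z⁻¹) := by rw [hzx]
        _ = x * z * x⁻¹ * z⁻¹ := by group
    rw [SetLike.mem_coe, e2]
    exact Subgroup.commutator_mem_commutator hx hz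
  have h3 : (P : Subgroup G) ≤ ⁅(P : Subgroup G), (P : Subgroup G)⁆ := by
    calc (P : Subgroup G) = (P : Subgroup G).focalSubgroup := h1.symm
      _ ≤ _ := h2
  have hne : (P : Subgroup G) ≠ ⊥ := P.ne_bot_of_dvd_card hp
  have hlt := commutator_lt_of_pgroup p (P : Subgroup G) (P : Subgroup G) P.isPGroup' P.isPGroup'
    Subgroup.le_normalizer hne
  exact absurd (lt_of_lt_of_le hlt h3) (lt_irrefl _)

end Cfsg.Agent.S0091
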