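import Mathlib
import Cfsg.Statements.S0092
import Cfsg.Agent.Lib.Helper7_Tate

set_option autoImplicit false

open Cfsg

namespace Cfsg.Agent.S0092

open Subgroup Cfsg.Agent.Lib.Helper7_Tate Cfsg.Agent.Lib.Helper3_PResidual

/-- If the Sylow p-subgroups of O^p(G) are abelian then G splits over O^p(G). -/
theorem result {G : Type*} [Group G] [Finite G] {p : ℕ} [Fact p.Prime] (h : ∀ Q : Sylow p (Cfsg.pResidual p G), IsMulCommutative Q) : ∃ K : Subgroup G, K.IsComplement' (Cfsg.pResidual p G) := by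
  haveI hKn : (pResidual p G).Normal := pResidual_normal p G
  obtain ⟨P⟩ : Nonempty (Sylow p G) := inferInstance
  have hgen : pResidual p G ≤ closure {g : G | g ∈ pResidual p G ∧ (orderOf g).Coprime p} := by
    conv_lhs => rw [pResidual]
    apply Subgroup.closure_mono
    intro g hg
    exact ⟨Subgroup.subset_closure hg, hg⟩
  -- P ∩ O^p(G) is abelian
  have hab : ⁅(pResidual p G).subgroupOf (P : Subgroup G),
      (pResidual p G).subgroupOf (P : Subgroup G)⁆ ≤ ⊥ := by
    -- a Sylow p-subgroup of O^p(G) containing (P ∩ O^p(G))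
    have hRp : IsPGroup p ((P : Subgroup G).subgroupOf (pResidual p G)) :=
      P.isPGroup'.comap_subtype
    obtain ⟨Q, hQ⟩ := hRp.exists_le_sylow
    have hQc := h Q
    rw [Subgroup.commutator_le]
    intro x hx y hy
    rw [mem_bot]
    have hx' : (⟨(x : G), mem_subgroupOf.mp hx⟩ : pResidual p G) ∈ Q :=
      hQ (mem_subgroupOf.mpr x.2)
    have hy' : (⟨(y : G), mem_subgroupOf.mp hy⟩ : pResidual p G) ∈ Q :=
      hQ (mem_subgroupOf.mpr y.2)
    have hc : (⟨_, hx'⟩ : Q) * ⟨_, hy'⟩ = ⟨_, hy'⟩ * ⟨_, hx'⟩ := hQc.is_comm.comm _ _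
    have hc' : (x : G) * (y : G) = (y : G) * (x : G) := congrArg (fun z : Q => ((z : pResidual p G) : G)) hc
    rw [commutatorElement_def]
    apply Subtype.ext
    show (x : G) * (y : G) * (x : G)⁻¹ * (y : G)⁻¹ = 1
    rw [hc']; group
  obtain ⟨S, -, hS2, hS3⟩ := exists_supplement P (pResidual p G) hgen ⊥ bot_le hab
  refine ⟨S.map (P : Subgroup G).subtype, ?_⟩
  apply isComplement'_of_disjoint_and_mul_eq_univ
  · rw [disjoint_iff, eq_bot_iff]
    rintro x ⟨⟨s, hs, rfl⟩, hxK⟩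
    have : s ∈ S ⊓ (pResidual p G).subgroupOf (P : Subgroup G) :=
      Subgroup.mem_inf.mpr ⟨hs, mem_subgroupOf.mpr hxK⟩
    have h1 := hS3 this
    rw [mem_bot] at h1
    rw [h1]; exact one_mem _
  · rw [Set.eq_univ_iff_forall]
    intro g
    obtain ⟨r, hr, m, hm, rfl⟩ := exists_mul_pResidual p (P : Subgroup G) P.not_dvd_index g
    have h1 : (⟨r, hr⟩ : (P : Subgroup G)) ∈
        ((S ⊔ (pResidual p G).subgroupOf (P : Subgroup G) : Subgroup _) : Set _) := by
      rw [hS2]; trivial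
    rw [mul_normal] at h1
    obtain ⟨s, hs, k, hk, hsk⟩ := h1
    refine ⟨(s : G), ⟨s, hs, rfl⟩, (k : G) * m, mul_mem (mem_subgroupOf.mp hk) hm, ?_⟩
    have : (s : G) * (k : G) = r := congrArg Subtype.val hsk
    show (s : G) * ((k : G) * m) = r * m
    rw [← mul_assoc, this]

end Cfsg.Agent.S0092
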