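import Cfsg.Statements.S0093
import Mathlib
import Cfsg.Agent.Lib.Helper4_Frattini
import Cfsg.Agent.Lib.Helper4_Kieler0

set_option autoImplicit false
open Cfsg

namespace Cfsg.Agent.S0093

open scoped commutatorElement

/-- Every finite p-group has a critical subgroup: a characteristic subgroup H whose Frattini subgroup and whose commutator with the whole group lie in the centre of H, and whose centralizer is contained in H. -/
theorem result {P : Type*} [Group P] [Finite P] {p : ℕ} [Fact p.Prime] (hP : IsPGroup p P) : ∃ H : Subgroup P, H.Characteristic ∧ (frattini H).map H.subtype ≤ Subgroup.centralizer (H : Set P) ∧ ⁅H, (⊤ : Subgroup P)⁆ ≤ H ⊓ Subgroup.centralizer (H : Set P) ∧ Subgroup.centralizer (H : Set P) ≤ H := by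
  classical
  have hpp := (Fact.out : p.Prime)
  -- a maximal characteristic abelian subgroup
  let S : Set (Subgroup P) := {Z | Z.Characteristic ∧ ∀ a ∈ Z, ∀ b ∈ Z, a * b = b * a}
  have hSne : S.Nonempty := ⟨⊥, Subgroup.botCharacteristic, by
    intro a ha b hb
    rw [Subgroup.mem_bot] at ha hb
    rw [ha, hb]⟩
  obtain ⟨Z, hZmax⟩ := (Set.toFinite S).exists_maximal hSne
  have hZchar : Z.Characteristic := hZmax.1.1
  have hZab : ∀ a ∈ Z, ∀ b ∈ Z, a * b = b * a := hZmax.1.2
  have hZn : Z.Normal := inferInstance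
  have hZφ : ∀ (φ : P ≃* P) (z : P), z ∈ Z → φ z ∈ Z := by
    intro φ z hz
    have h1 := hZchar.fixed φ
    rw [← h1] at hz
    exact hz
  set C : Subgroup P := Subgroup.centralizer (Z : Set P) with hC
  have hCchar : C.Characteristic := inferInstance
  have hZC : Z ≤ C := by
    intro z hz
    rw [hC, Subgroup.mem_centralizer_iff]
    intro w hw
    exact hZab w hw z hz
  set π := QuotientGroup.mk' Z with hπ
  have hπ1 : ∀ x : P, π x = 1 ↔ x ∈ Z := fun x => QuotientGroup.eq_one_iff x
  -- the critical subgroup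
  let H : Subgroup P :=
    { carrier := {h | h ∈ C ∧ (∀ g : P, h * g * h⁻¹ * g⁻¹ ∈ Z) ∧ h ^ p ∈ Z}
      one_mem' := by
        refine ⟨C.one_mem, ?_, ?_⟩
        · intro g
          have : (1 : P) * g * 1⁻¹ * g⁻¹ = 1 := by group
          rw [this]; exact Z.one_mem
        · rw [one_pow]; exact Z.one_mem
      mul_mem' := by
        rintro a b ⟨haC, has, hap⟩ ⟨hbC, hbs, hbp⟩
        refine ⟨C.mul_mem haC hbC, ?_, ?_⟩
        · intro g
          have h1 : a * b * g * (a * b)⁻¹ * g⁻¹
              = a * (b * g * b⁻¹ * g⁻¹) * a⁻¹ * (a * g * a⁻¹ * g⁻¹) := by group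
          rw [h1]
          exact Z.mul_mem (hZn.conj_mem _ (hbs g) a) (has g)
        · rw [← hπ1, map_pow, map_mul]
          have hcomm : Commute (π a) (π b) := by
            have h2 := (hπ1 _).mpr (has b)
            rw [map_mul, map_mul, map_mul, map_inv, map_inv] at h2
            show π a * π b = π b * π a
            calc π a * π b = (π a * π b * (π a)⁻¹ * (π b)⁻¹) * (π b * π a) := by group
              _ = π b * π a := by rw [h2, one_mul]
          rw [hcomm.mul_pow, ← map_pow, ← map_pow, (hπ1 _).mpr hap, (hπ1 _).mpr hbp, one_mul]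
      inv_mem' := by
        rintro a ⟨haC, has, hap⟩
        refine ⟨C.inv_mem haC, ?_, ?_⟩
        · intro g
          have h1 : a⁻¹ * g * a⁻¹⁻¹ * g⁻¹ = a⁻¹ * (a * g * a⁻¹ * g⁻¹)⁻¹ * a⁻¹⁻¹ := by group
          rw [h1]
          exact hZn.conj_mem _ (Z.inv_mem (has g)) a⁻¹
        · rw [inv_pow]; exact Z.inv_mem hap }
  have hHmem : ∀ h : P, h ∈ H ↔ h ∈ C ∧ (∀ g : P, h * g * h⁻¹ * g⁻¹ ∈ Z) ∧ h ^ p ∈ Z :=
    fun h => Iff.rfl
  have hHchar : H.Characteristic := by
    rw [Subgroup.characteristic_iff_le_comap]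
    intro φ h hh
    rw [Subgroup.mem_comap]
    obtain ⟨hhC, hhs, hhp⟩ := (hHmem h).mp hh
    show φ h ∈ H
    rw [hHmem]
    refine ⟨?_, ?_, ?_⟩
    · have h1 := hCchar.fixed φ
      rw [← h1] at hhC
      exact hhC
    · intro g
      have h1 := hZφ φ _ (hhs (φ.symm g))
      rw [map_mul, map_mul, map_mul, map_inv, map_inv, φ.apply_symm_apply] at h1
      exact h1
    · rw [← map_pow]; exact hZφ φ _ hhp
  have hZH : Z ≤ H := by
    intro z hz
    rw [hHmem]
    refine ⟨hZC hz, ?_, Z.pow_mem hz p⟩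
    intro g
    have h1 : z * g * z⁻¹ * g⁻¹ = z * (g * z⁻¹ * g⁻¹) := by group
    rw [h1]
    exact Z.mul_mem hz (hZn.conj_mem _ (Z.inv_mem hz) g)
  have hHC : H ≤ C := fun h hh => ((hHmem h).mp hh).1
  -- Z(H) = Z
  have hcentH : H ⊓ Subgroup.centralizer (H : Set P) = Z := by
    have hZW : Z ≤ H ⊓ Subgroup.centralizer (H : Set P) := by
      refine le_inf hZH ?_
      intro z hz
      rw [Subgroup.mem_centralizer_iff]
      intro h hh
      have h1 := hHC hh
      rw [hC, Subgroup.mem_centralizer_iff] at h1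
      exact (h1 z hz).symm
    have hW : (H ⊓ Subgroup.centralizer (H : Set P)) ∈ S := by
      refine ⟨inferInstance, ?_⟩
      intro a ha b hb
      have h1 := (Subgroup.mem_inf.mp ha).2
      rw [Subgroup.mem_centralizer_iff] at h1
      exact (h1 b (Subgroup.mem_inf.mp hb).1).symm
    exact le_antisymm (hZmax.2 hW hZW) hZW
  refine ⟨H, hHchar, ?_, ?_, ?_⟩
  · -- Frattini
    have h1 : frattini H ≤ Z.subgroupOf H := by
      apply Cfsg.Agent.Lib.Helper4_Frattini.frattini_le_of_elementary_quotient (p := p)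
      · intro a b
        rw [Subgroup.mem_subgroupOf]
        have := ((hHmem a).mp a.2).2.1 (b : P)
        exact this
      · intro a
        rw [Subgroup.mem_subgroupOf]
        exact ((hHmem a).mp a.2).2.2
    rintro _ ⟨x, hx, rfl⟩
    have h2 : (x : P) ∈ Z := h1 hx
    rw [← hcentH] at h2
    exact (Subgroup.mem_inf.mp h2).2
  · rw [hcentH, Subgroup.commutator_le]
    intro h hh g _
    rw [commutatorElement_def]
    exact ((hHmem h).mp hh).2.1 g
  · -- C_P(H) ≤ H
    by_contra hcon
    set Qc : Subgroup P := Subgroup.centralizer (H : Set P) with hQc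
    have hQcn : Qc.Normal := inferInstance
    have hπs : Function.Surjective π := QuotientGroup.mk'_surjective Z
    have hQbn : (Qc.map π).Normal := Subgroup.Normal.map hQcn π hπs
    have hQb0 : Qc.map π ≠ ⊥ := by
      intro h
      apply hcon
      intro x hx
      apply hZH
      rw [← hπ1]
      have : π x ∈ Qc.map π := Subgroup.mem_map_of_mem π hx
      rw [h, Subgroup.mem_bot] at this
      exact this
    have hQp : IsPGroup p (P ⧸ Z) := hP.to_quotient Z
    have hnil : Group.IsNilpotent (P ⧸ Z) := hQp.isNilpotent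
    obtain ⟨y₀, hy₀Q, hy₀c, hy₀1⟩ :=
      Cfsg.Agent.Lib.Helper4_Kieler0.normal_inf_center_ne_bot' (Qc.map π) hQb0
    have hM2 : p ∣ Nat.card (Qc.map π ⊓ Subgroup.center (P ⧸ Z) : Subgroup (P ⧸ Z)) := by
      obtain ⟨k, hk⟩ := (hQp.to_subgroup (Qc.map π ⊓ Subgroup.center (P ⧸ Z))).exists_card_eq
      have hk0 : k ≠ 0 := by
        intro h
        rw [h, pow_zero] at hk
        have h1 := Subgroup.card_eq_one.mp hk
        have h2 : y₀ ∈ Qc.map π ⊓ Subgroup.center (P ⧸ Z) := ⟨hy₀Q, hy₀c⟩
        rw [h1] at h2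
        exact hy₀1 (Subgroup.mem_bot.mp h2)
      rw [hk]; exact dvd_pow_self p hk0
    obtain ⟨⟨y, hyM⟩, hy⟩ := exists_prime_orderOf_dvd_card' p hM2
    have hyp : orderOf y = p := by rw [← hy]; exact (Subgroup.orderOf_mk y hyM).symm
    obtain ⟨x, hxQ, rfl⟩ := hyM.1
    have hyc := Subgroup.mem_center_iff.mp hyM.2
    have hxH : x ∈ H := by
      rw [hHmem]
      refine ⟨?_, ?_, ?_⟩
      · exact Subgroup.centralizer_le hZH hxQ
      · intro g
        rw [← hπ1, map_mul, map_mul, map_mul, map_inv, map_inv, ← hyc (π g)]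
        group
      · rw [← hπ1, map_pow, ← hyp]
        exact pow_orderOf_eq_one _
    have hxZ : x ∈ Z := by
      rw [← hcentH]
      exact ⟨hxH, hxQ⟩
    have h1 : π x = 1 := (hπ1 x).mpr hxZ
    rw [h1, orderOf_one] at hyp
    exact hpp.one_lt.ne hyp

end Cfsg.Agent.S0093
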