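import Cfsg.Statements.S0095
import Mathlib

set_option autoImplicit false
open Cfsg

namespace Cfsg.Agent.S0095

open scoped commutatorElement

universe u

section hom
variable {Q : Type u} [Group Q] (hcl : commutator Q ≤ Subgroup.center Q)
include hcl

lemma comm_mem_center (x g : Q) : ⁅x, g⁆ ∈ Subgroup.center Q := by
  apply hcl
  rw [commutator_def]
  exact Subgroup.commutator_mem_commutator (Subgroup.mem_top _) (Subgroup.mem_top _)

/-- `g ↦ [x, g]` as a homomorphism into the centre -/
def commHom (x : Q) : Q →* Subgroup.center Q where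
  toFun g := ⟨⁅x, g⁆, comm_mem_center hcl x g⟩
  map_one' := by
    apply Subtype.ext
    simp
  map_mul' g h := by
    apply Subtype.ext
    show ⁅x, g * h⁆ = ⁅x, g⁆ * ⁅x, h⁆
    have hc := comm_mem_center hcl x h
    rw [Subgroup.mem_center_iff] at hc
    have h1 : ⁅x, g * h⁆ = ⁅x, g⁆ * (g * ⁅x, h⁆ * g⁻¹) := by
      simp only [commutatorElement_def]; group
    rw [h1, hc g, mul_inv_cancel_right]

lemma commHom_apply (x g : Q) : ((commHom hcl x g : Subgroup.center Q) : Q) = ⁅x, g⁆ := rfl

end hom

/-- the key property: `p`-group of class at most two with centre of order `p` -/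
structure Good (p : ℕ) (Q : Type u) [Group Q] : Prop where
  pgroup : IsPGroup p Q
  center : Nat.card (Subgroup.center Q) = p
  cl : commutator Q ≤ Subgroup.center Q

theorem good_card (p : ℕ) [Fact p.Prime] : ∀ (k : ℕ) (Q : Type u) [Group Q] [Finite Q],
    Nat.card Q = k → Good p Q → ∃ n : ℕ, Nat.card Q = p ^ (2 * n + 1) := by
  intro k
  induction k using Nat.strong_induction_on with
  | _ k ih =>
  intro Q _ _ hk hgood
  have hp : p.Prime := Fact.out
  by_cases hab : ∀ x y : Q, ⁅x, y⁆ = 1
  · -- abelian
    refine ⟨0, ?_⟩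
    have hc : Subgroup.center Q = ⊤ := by
      rw [eq_top_iff]
      intro x _
      rw [Subgroup.mem_center_iff]
      intro g
      have := hab g x
      rw [commutatorElement_eq_one_iff_mul_comm] at this
      exact this
    have := hgood.center
    rw [hc, Subgroup.card_top] at this
    rw [this]; simp
  · push Not at hab
    obtain ⟨x, y, hxy⟩ := hab
    have hcl := hgood.cl
    set Z := Subgroup.center Q with hZ
    let z : Z := commHom hcl x y
    have hz1 : z ≠ 1 := by
      intro h
      apply hxy
      exact congrArg Subtype.val h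
    have hzgen : Subgroup.zpowers z = ⊤ := zpowers_eq_top_of_prime_card hgood.center hz1
    let φ : Q →* Z × Z := (commHom hcl x).prod (commHom hcl y)
    have hφx : φ x = (1, z⁻¹) := by
      apply Prod.ext
      · apply Subtype.ext
        show ⁅x, x⁆ = 1
        simp
      · apply Subtype.ext
        show ⁅y, x⁆ = (⁅x, y⁆)⁻¹
        rw [commutatorElement_inv]
    have hφy : φ y = (z, 1) := by
      apply Prod.ext
      · rfl
      · apply Subtype.ext
        show ⁅y, y⁆ = 1
        simp
    have hpre : ∀ a b : Z, ∃ i j : ℤ, φ (y ^ i * x ^ j) = (a, b) := by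
      intro a b
      have ha : a ∈ Subgroup.zpowers z := by rw [hzgen]; trivial
      have hb : b ∈ Subgroup.zpowers z := by rw [hzgen]; trivial
      obtain ⟨i, rfl⟩ := ha
      obtain ⟨j, rfl⟩ := hb
      refine ⟨i, -j, ?_⟩
      rw [map_mul, map_zpow, map_zpow, hφx, hφy]
      apply Prod.ext
      · simp
      · simp
    have hsurj : Function.Surjective φ := by
      rintro ⟨a, b⟩
      obtain ⟨i, j, h⟩ := hpre a b
      exact ⟨_, h⟩
    set C := φ.ker with hC
    have hCidx : C.index = p ^ 2 := by
      rw [hC, Subgroup.index_ker, MonoidHom.range_eq_top.2 hsurj, Subgroup.card_top,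
        Nat.card_prod, hgood.center, pow_two]
    have hCcard : Nat.card C * p ^ 2 = Nat.card Q := by
      rw [← hCidx]; exact Subgroup.card_mul_index C
    have hmemC : ∀ c : Q, c ∈ C ↔ ⁅x, c⁆ = 1 ∧ ⁅y, c⁆ = 1 := by
      intro c
      rw [hC, MonoidHom.mem_ker]
      constructor
      · intro h
        have h1 := congrArg (fun t : Z × Z => (t.1 : Q)) h
        have h2 := congrArg (fun t : Z × Z => (t.2 : Q)) h
        exact ⟨h1, h2⟩
      · rintro ⟨h1, h2⟩
        apply Prod.ext
        · exact Subtype.ext h1
        · exact Subtype.ext h2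
    have hZC : Z ≤ C := by
      intro c hc
      rw [hmemC]
      rw [hZ, Subgroup.mem_center_iff] at hc
      constructor
      · rw [commutatorElement_eq_one_iff_mul_comm]; exact (hc x)
      · rw [commutatorElement_eq_one_iff_mul_comm]; exact (hc y)
    -- decomposition of an arbitrary element
    have hdecomp : ∀ g : Q, ∃ t : Q, (∀ c : Q, x * c = c * x → y * c = c * y → t * c = c * t) ∧
        t⁻¹ * g ∈ C := by
      intro g
      obtain ⟨i, j, h⟩ := hpre (φ g).1 (φ g).2
      refine ⟨y ^ i * x ^ j, ?_, ?_⟩
      · intro c hxc hyc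
        have h1 : Commute x c := hxc
        have h2 : Commute y c := hyc
        exact ((h2.zpow_left i).mul_left (h1.zpow_left j)).eq
      · rw [hC, MonoidHom.mem_ker, map_mul, map_inv, h]
        exact inv_mul_cancel _
    -- the centre of C
    have hcenterC : Subgroup.center C = Z.subgroupOf C := by
      ext c
      rw [Subgroup.mem_subgroupOf, hZ, Subgroup.mem_center_iff, Subgroup.mem_center_iff]
      constructor
      · intro hc g
        obtain ⟨h1, h2⟩ := (hmemC c).1 c.2
        rw [commutatorElement_eq_one_iff_mul_comm] at h1 h2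
        obtain ⟨t, ht, htC⟩ := hdecomp g
        have h3 : t * (c : Q) = (c : Q) * t := ht c h1 h2
        have h4 := congrArg Subtype.val (hc ⟨t⁻¹ * g, htC⟩)
        simp only [Subgroup.coe_mul] at h4
        have h5 : g = t * (t⁻¹ * g) := by group
        rw [h5, mul_assoc, h4, ← mul_assoc, h3, mul_assoc]
      · intro hc g
        apply Subtype.ext
        exact hc g
    have hgoodC : Good p C := by
      refine ⟨hgood.pgroup.to_subgroup C, ?_, ?_⟩
      · rw [hcenterC, Nat.card_congr (Subgroup.subgroupOfEquivOfLe hZC).toEquiv]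
        exact hgood.center
      · rw [commutator_def, Subgroup.commutator_le]
        intro a _ b _
        rw [hcenterC, Subgroup.mem_subgroupOf]
        show ⁅(a : Q), (b : Q)⁆ ∈ Z
        exact comm_mem_center hcl _ _
    have hp2 : 1 < p ^ 2 := Nat.one_lt_pow (by norm_num) hp.one_lt
    have hlt : Nat.card C < k := by
      rw [← hk, ← hCcard]
      have hpos : 0 < Nat.card C := Nat.card_pos
      nlinarith
    obtain ⟨n, hn⟩ := ih (Nat.card C) hlt C rfl hgoodC
    refine ⟨n + 1, ?_⟩
    rw [← hCcard, hn, ← pow_add]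
    congr 1

/-- The order of an extraspecial p-group is an odd power p^(2n+1) of p with n ≥ 1. -/
theorem result {P : Type*} [Group P] [Finite P] {p : ℕ} [Fact p.Prime] (h : Cfsg.IsExtraspecial p P) : ∃ n : ℕ, 1 ≤ n ∧ Nat.card P = p ^ (2 * n + 1) := by
  obtain ⟨⟨hpg, -, hcomm⟩, hcard⟩ := h
  have hp : p.Prime := Fact.out
  have hgood : Good p P := ⟨hpg, hcard, hcomm.le⟩
  obtain ⟨n, hn⟩ := good_card p (Nat.card P) P rfl hgood
  refine ⟨n, ?_, hn⟩
  by_contra h0
  have hn0 : n = 0 := by omega
  rw [hn0] at hn
  simp only [mul_zero, zero_add, pow_one] at hn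
  -- then P is its own centre, hence abelian, hence has trivial commutator
  have hc : Subgroup.center P = ⊤ := Subgroup.eq_top_of_card_eq _ (by rw [hcard, hn])
  have hcomm1 : commutator P = ⊥ := by
    rw [commutator_def, Subgroup.commutator_eq_bot_iff_le_centralizer, Subgroup.coe_top,
      Subgroup.centralizer_univ, hc]
  rw [hcomm, hc] at hcomm1
  have : Nat.card (⊤ : Subgroup P) = 1 := by rw [hcomm1, Subgroup.card_bot]
  rw [Subgroup.card_top, hn] at this
  exact hp.one_lt.ne' this

end Cfsg.Agent.S0095
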