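import Cfsg.Statements.S0099
import Mathlib
import Cfsg.Agent.Lib.Helper3_Extra2

set_option autoImplicit false
open Cfsg

namespace Cfsg.Agent.S0099

/-- Among three extraspecial 2-groups of equal order, some two are isomorphic. -/
theorem result {E₁ : Type*} {E₂ : Type*} {E₃ : Type*} [Group E₁] [Group E₂] [Group E₃] [Finite E₁] [Finite E₂] [Finite E₃] (h₁ : Cfsg.IsExtraspecial 2 E₁) (h₂ : Cfsg.IsExtraspecial 2 E₂) (h₃ : Cfsg.IsExtraspecial 2 E₃) (h12 : Nat.card E₁ = Nat.card E₂) (h23 : Nat.card E₂ = Nat.card E₃) : Nonempty (E₁ ≃* E₂) ∨ Nonempty (E₂ ≃* E₃) ∨ Nonempty (E₁ ≃* E₃) := by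
  have q1 := Cfsg.Agent.Lib.Helper3_Extra2.sq_count h₁
  have q2 := Cfsg.Agent.Lib.Helper3_Extra2.sq_count h₂
  have q3 := Cfsg.Agent.Lib.Helper3_Extra2.sq_count h₃
  set s1 : ℤ := (Nat.card {x : E₁ // x ^ 2 = 1} : ℤ) with hs1
  set s2 : ℤ := (Nat.card {x : E₂ // x ^ 2 = 1} : ℤ) with hs2
  set s3 : ℤ := (Nat.card {x : E₃ // x ^ 2 = 1} : ℤ) with hs3
  have c12 : (Nat.card E₁ : ℤ) = (Nat.card E₂ : ℤ) := by exact_mod_cast h12
  have c23 : (Nat.card E₂ : ℤ) = (Nat.card E₃ : ℤ) := by exact_mod_cast h23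
  have e12 : (2 * s1 - (Nat.card E₁ : ℤ)) ^ 2 = (2 * s2 - (Nat.card E₁ : ℤ)) ^ 2 := by
    rw [q1, c12, q2]
  have e23 : (2 * s2 - (Nat.card E₁ : ℤ)) ^ 2 = (2 * s3 - (Nat.card E₁ : ℤ)) ^ 2 := by
    rw [c12, q2, c23, q3]
  have key : s1 = s2 ∨ s2 = s3 ∨ s1 = s3 := by
    rcases sq_eq_sq_iff_eq_or_eq_neg.mp e12 with h | h
    · left; linarith
    · rcases sq_eq_sq_iff_eq_or_eq_neg.mp e23 with h' | h'
      · right; left; linarith
      · right; right; linarith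
  rcases key with h | h | h
  · left
    exact Cfsg.Agent.Lib.Helper3_Extra2.iso_of_card h₁ h₂ h12 (Int.ofNat_inj.mp h)
  · right; left
    exact Cfsg.Agent.Lib.Helper3_Extra2.iso_of_card h₂ h₃ h23 (Int.ofNat_inj.mp h)
  · right; right
    exact Cfsg.Agent.Lib.Helper3_Extra2.iso_of_card h₁ h₃ (h12.trans h23) (Int.ofNat_inj.mp h)

end Cfsg.Agent.S0099
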