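import Cfsg.Statements.S0101
import Mathlib
import Cfsg.Agent.S0012

set_option autoImplicit false
open Cfsg

namespace Cfsg.Agent.S0101

/-- In a perfect central extension, the kernel meets each Sylow p-subgroup P inside the Frattini subgroup of P. -/
theorem result {H : Type*} {G : Type*} [Group H] [Group G] [Finite H] (σ : H →* G) (hσ : Function.Surjective σ) (hc : σ.ker ≤ Subgroup.center H) (hH : commutator H = ⊤) {p : ℕ} [Fact p.Prime] (P : Sylow p H) : σ.ker ⊓ (P : Subgroup H) ≤ (frattini P).map (P : Subgroup H).subtype := by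
  classical
  have hpp : p.Prime := Fact.out
  intro z hz
  obtain ⟨hzk, hzP⟩ := Subgroup.mem_inf.mp hz
  have hzc : z ∈ Subgroup.center H := hc hzk
  have key : ∀ (k : ℕ) (g₀ : H), g₀⁻¹ * z ^ k * g₀ ∈ (P : Subgroup H) → g₀⁻¹ * z ^ k * g₀ = z ^ k := by
    intro k g₀ _
    have hc' : z ^ k ∈ Subgroup.center H := Subgroup.pow_mem _ hzc k
    have := Subgroup.mem_center_iff.mp hc' g₀
    rw [mul_assoc, ← this, ← mul_assoc, inv_mul_cancel, one_mul]
  have h1 := MonoidHom.transfer_eq_pow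
    (Abelianization.of : (P : Subgroup H) →* Abelianization (P : Subgroup H)) z key
  have h2 : MonoidHom.transfer
      (Abelianization.of : (P : Subgroup H) →* Abelianization (P : Subgroup H)) z = 1 :=
    Abelianization.commutator_subset_ker _ (by rw [hH]; exact Subgroup.mem_top z)
  rw [h2] at h1
  have hmem : z ^ (P : Subgroup H).index ∈ (P : Subgroup H) := Subgroup.pow_mem _ hzP _
  have h3 : (⟨z ^ (P : Subgroup H).index, hmem⟩ : (P : Subgroup H)) ∈ commutator (P : Subgroup H) := by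
    rw [← Abelianization.ker_of, MonoidHom.mem_ker]; exact h1.symm
  have h4 : (⟨z ^ (P : Subgroup H).index, hmem⟩ : (P : Subgroup H)) ∈ frattini (P : Subgroup H) :=
    (Cfsg.Agent.S0012.result (G := (P : Subgroup H)) p P.isPGroup').1 h3
  have h5 : (⟨z ^ (P : Subgroup H).index, hmem⟩ : (P : Subgroup H)) =
      (⟨z, hzP⟩ : (P : Subgroup H)) ^ (P : Subgroup H).index := by
    apply Subtype.ext
    rw [Subgroup.coe_pow]
  rw [h5] at h4
  refine ⟨⟨z, hzP⟩, ?_, rfl⟩
  -- the order of z is coprime to the index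
  have hcop : Nat.Coprime (P : Subgroup H).index (orderOf (⟨z, hzP⟩ : (P : Subgroup H))) := by
    obtain ⟨j, hj⟩ := IsPGroup.exists_orderOf_eq_pow P.isPGroup' (⟨z, hzP⟩ : (P : Subgroup H))
    rw [hj]
    exact (Nat.Coprime.pow_left _ ((Nat.Prime.coprime_iff_not_dvd hpp).mpr P.not_dvd_index)).symm
  by_cases ho : orderOf (⟨z, hzP⟩ : (P : Subgroup H)) = 1
  · rw [orderOf_eq_one_iff] at ho
    rw [ho]; exact Subgroup.one_mem _
  · have ho' : 1 < orderOf (⟨z, hzP⟩ : (P : Subgroup H)) := by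
      have := orderOf_pos (⟨z, hzP⟩ : (P : Subgroup H))
      omega
    obtain ⟨m, -, hm⟩ := Nat.exists_mul_mod_eq_one_of_coprime hcop ho'
    have h6 : ((⟨z, hzP⟩ : (P : Subgroup H)) ^ (P : Subgroup H).index) ^ m = ⟨z, hzP⟩ := by
      rw [← pow_mul, ← pow_mod_orderOf, hm, pow_one]
    rw [← h6]
    exact Subgroup.pow_mem _ h4 m

end Cfsg.Agent.S0101
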