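import Cfsg.Statements.S0102
import Mathlib
import Cfsg.Agent.S0088
import Cfsg.Agent.Lib.Helper4_PCore

set_option autoImplicit false
open Cfsg

namespace Cfsg.Agent.S0102

/-- A finite perfect group with cyclic Sylow p-subgroups has no perfect central extension whose kernel has order divisible by p. -/
theorem result {G : Type*} {H : Type*} [Group G] [Group H] [Finite G] [Finite H] (hG : commutator G = ⊤) {p : ℕ} [Fact p.Prime] (hcyc : ∀ P : Sylow p G, IsCyclic P) (σ : H →* G) (hσ : Function.Surjective σ) (hz : σ.ker ≤ Subgroup.center H) (hH : commutator H = ⊤) : ¬ p ∣ Nat.card σ.ker := by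
  classical
  have hpp : p.Prime := Fact.out
  intro hdvd
  obtain ⟨Q⟩ : Nonempty (Sylow p H) := inferInstance
  haveI hcycQ : IsCyclic ((Q : Subgroup H).map σ) := hcyc (Q.mapSurjective hσ)
  have hker : (σ.subgroupMap (Q : Subgroup H)).ker ≤ Subgroup.center (Q : Subgroup H) := by
    intro x hx
    rw [MonoidHom.mem_ker] at hx
    have h1 : σ (x : H) = 1 := by
      have := congrArg Subtype.val hx
      simpa using this
    have h2 : (x : H) ∈ Subgroup.center H := hz (MonoidHom.mem_ker.mpr h1)
    rw [Subgroup.mem_center_iff]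
    intro y
    apply Subtype.ext
    rw [Subgroup.coe_mul, Subgroup.coe_mul]
    exact Subgroup.mem_center_iff.mp h2 y
  have hcomm := commutative_of_cyclic_center_quotient (σ.subgroupMap (Q : Subgroup H)) hker
  haveI hQc : IsMulCommutative (Q : Subgroup H) := ⟨⟨hcomm⟩⟩
  have hHall : Nat.Coprime (Nat.card (Q : Subgroup H)) (Q : Subgroup H).index := by
    obtain ⟨k, hk⟩ := Q.isPGroup'.exists_card_eq
    rw [hk]
    exact Nat.Coprime.pow_left _ ((Nat.Prime.coprime_iff_not_dvd hpp).mpr Q.not_dvd_index)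
  have h88 := Cfsg.Agent.S0088.result (Q : Subgroup H) hQc hHall
  obtain ⟨z, hzo⟩ := exists_prime_orderOf_dvd_card' p hdvd
  have hzc : (z : H) ∈ Subgroup.center H := hz z.2
  have hzo' : orderOf (z : H) = p := by rw [Subgroup.orderOf_coe]; exact hzo
  have hnorm : (Subgroup.zpowers (z : H)).Normal := by
    constructor
    intro n hn g
    have hnc : n ∈ Subgroup.center H := by
      rw [Subgroup.mem_zpowers_iff] at hn
      obtain ⟨k, rfl⟩ := hn
      exact Subgroup.zpow_mem _ hzc k
    have := Subgroup.mem_center_iff.mp hnc g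
    rw [this, mul_inv_cancel_right]
    exact hn
  have hpz : IsPGroup p (Subgroup.zpowers (z : H)) := by
    apply IsPGroup.of_card (n := 1)
    rw [Nat.card_zpowers, hzo', pow_one]
  have hle := Cfsg.Agent.Lib.Helper4_PCore.normal_pGroup_le_sylow _ hnorm hpz Q
  have hzQ : (z : H) ∈ (Q : Subgroup H) := hle (Subgroup.mem_zpowers _)
  have hmem : (z : H) ∈ (Q : Subgroup H) ⊓ commutator H ⊓ Subgroup.center H := by
    refine Subgroup.mem_inf.mpr ⟨Subgroup.mem_inf.mpr ⟨hzQ, ?_⟩, hzc⟩
    rw [hH]; exact Subgroup.mem_top _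
  rw [h88, Subgroup.mem_bot] at hmem
  rw [hmem, orderOf_one] at hzo'
  exact hpp.one_lt.ne hzo'

end Cfsg.Agent.S0102
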