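import Cfsg.Statements.S0103

set_option autoImplicit false
open Pointwise
open Cfsg

namespace Cfsg.Agent.S0103

/-- If a Sylow p-subgroup P intersects every distinct conjugate trivially, then its normalizer controls fusion in P. -/
theorem result {G : Type*} [Group G] [Finite G] {p : ℕ} [Fact p.Prime] (P : Sylow p G) (hTI : ∀ g : G, (P : Subgroup G).map (MulAut.conj g).toMonoidHom ≠ (P : Subgroup G) → (P : Subgroup G) ⊓ (P : Subgroup G).map (MulAut.conj g).toMonoidHom = ⊥) (x y : G) (hx : x ∈ P) (hy : y ∈ P) (hc : ∃ g : G, g * x * g⁻¹ = y) : ∃ n ∈ Subgroup.normalizer (P : Set G), n * x * n⁻¹ = y := by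
  obtain ⟨g, hg⟩ := hc
  by_cases h : (P : Subgroup G).map (MulAut.conj g).toMonoidHom = (P : Subgroup G)
  · refine ⟨g, ?_, hg⟩
    have key : ∀ z, z ∈ (P : Subgroup G) ↔ g * z * g⁻¹ ∈ (P : Subgroup G) := by
      intro z
      constructor
      · intro hz
        have : g * z * g⁻¹ ∈ (P : Subgroup G).map (MulAut.conj g).toMonoidHom :=
          ⟨z, hz, by simp [MulAut.conj_apply]⟩
        rwa [h] at this
      · intro hz
        rw [← h] at hz
        obtain ⟨w, hw, hwz⟩ := hz
        simp only [MulEquiv.toMonoidHom_eq_coe, MonoidHom.coe_coe, MulAut.conj_apply] at hwz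
        have : w = z := by
          have := congrArg (fun t => g⁻¹ * t * g) hwz
          simpa [mul_assoc] using this
        rwa [← this]
    rw [Subgroup.mem_set_normalizer_iff]
    intro z
    exact key z
  · have h2 := hTI g h
    have hy2 : y ∈ (P : Subgroup G).map (MulAut.conj g).toMonoidHom :=
      ⟨x, hx, by simpa [MulAut.conj_apply] using hg⟩
    have : y ∈ (P : Subgroup G) ⊓ (P : Subgroup G).map (MulAut.conj g).toMonoidHom := ⟨hy, hy2⟩
    rw [h2, Subgroup.mem_bot] at this
    subst this
    have hx1 : x = 1 := by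
      have := congrArg (fun t => g⁻¹ * t * g) hg
      simpa [mul_assoc] using this
    subst hx1
    exact ⟨1, Subgroup.one_mem _, by simp⟩

end Cfsg.Agent.S0103
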