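import Cfsg.Statements.S0104
import Mathlib
import Cfsg.Agent.Lib.Lead_SZ

set_option autoImplicit false
open Cfsg

namespace Cfsg.Agent.S0104

open scoped Pointwise

/-- A subgroup Z of a Sylow p-subgroup P that is normalized by N_G(P) is weakly closed in P exactly when it is normal in every Sylow p-subgroup containing it. -/
theorem result {G : Type*} [Group G] [Finite G] {p : ℕ} [Fact p.Prime] (P : Sylow p G) (Z : Subgroup G) (hZP : Z ≤ (P : Subgroup G)) (hZN : Subgroup.normalizer (P : Set G) ≤ Subgroup.normalizer (Z : Set G)) : Cfsg.IsWeaklyClosed Z P ↔ ∀ R : Sylow p G, Z ≤ (R : Subgroup G) → (R : Subgroup G) ≤ Subgroup.normalizer (Z : Set G) := by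
  classical
  have hPN : (P : Subgroup G) ≤ Subgroup.normalizer (Z : Set G) := Subgroup.le_normalizer.trans hZN
  constructor
  · rintro ⟨-, hW⟩ R hZR
    obtain ⟨g, hg⟩ := MulAction.exists_smul_eq G P R
    have hRcoe : (R : Subgroup G) = MulAut.conj g • (P : Subgroup G) := by
      rw [← hg]; rfl
    have hmem : ∀ x, x ∈ (R : Subgroup G) ↔ g⁻¹ * x * g ∈ (P : Subgroup G) := by
      intro x
      rw [hRcoe, Cfsg.Agent.Lib.Lead_SZ.mem_conj_smul]
    have h1 : Z.map (MulAut.conj g⁻¹).toMonoidHom ≤ (P : Subgroup G) := by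
      rintro _ ⟨z, hz, rfl⟩
      have := (hmem z).mp (hZR hz)
      simpa using this
    have h2 := hW g⁻¹ h1
    have h3 : g⁻¹ ∈ Subgroup.normalizer (Z : Set G) :=
      Subgroup.mem_normalizer_iff_map_conj_eq.mpr h2
    have h4 : g ∈ Subgroup.normalizer (Z : Set G) := by
      have := Subgroup.inv_mem _ h3
      rwa [inv_inv] at this
    intro r hr
    have h5 : g⁻¹ * r * g ∈ Subgroup.normalizer (Z : Set G) := hPN ((hmem r).mp hr)
    have e : r = g * (g⁻¹ * r * g) * g⁻¹ := by group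
    rw [e]
    exact Subgroup.mul_mem _ (Subgroup.mul_mem _ h4 h5) h3
  · intro hall
    refine ⟨hZP, ?_⟩
    intro g hg
    have hZR : Z ≤ ((g⁻¹ • P : Sylow p G) : Subgroup G) := by
      intro z hz
      have : ((g⁻¹ • P : Sylow p G) : Subgroup G) = MulAut.conj g⁻¹ • (P : Subgroup G) := rfl
      rw [this, Cfsg.Agent.Lib.Lead_SZ.mem_conj_smul, inv_inv]
      exact hg ⟨z, hz, rfl⟩
    have hRN := hall (g⁻¹ • P) hZR
    obtain ⟨h, hh⟩ := MulAction.exists_smul_eq (Subgroup.normalizer (Z : Set G))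
      ((g⁻¹ • P : Sylow p G).subtype hRN) (P.subtype hPN)
    simp_rw [Sylow.smul_subtype, Subgroup.smul_def, smul_smul] at hh
    have h1 : (h : G) * g⁻¹ ∈ Subgroup.normalizer ((P : Subgroup G) : Set G) :=
      Sylow.smul_eq_iff_mem_normalizer.mp (Sylow.subtype_injective hh)
    have h2 : (h : G) * g⁻¹ ∈ Subgroup.normalizer (Z : Set G) := hZN h1
    have h3 : g⁻¹ ∈ Subgroup.normalizer (Z : Set G) := by
      have e : g⁻¹ = (h : G)⁻¹ * ((h : G) * g⁻¹) := by group
      rw [e]
      exact Subgroup.mul_mem _ (Subgroup.inv_mem _ h.2) h2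
    have h4 : g ∈ Subgroup.normalizer (Z : Set G) := by
      have := Subgroup.inv_mem _ h3
      rwa [inv_inv] at this
    exact Subgroup.mem_normalizer_iff_map_conj_eq.mp h4

end Cfsg.Agent.S0104
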