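import Cfsg.Statements.S0105
import Mathlib
import Cfsg.Agent.S0090
import Cfsg.Agent.S0074

set_option autoImplicit false
open Cfsg

namespace Cfsg.Agent.S0105

/-- With an abelian Sylow p-subgroup P, some quotient of G is isomorphic to the part of P central in N_G(P). -/
theorem result {G : Type*} [Group G] [Finite G] {p : ℕ} [Fact p.Prime] (P : Sylow p G) (hP : IsMulCommutative P) : ∃ (N : Subgroup G) (hN : N.Normal), Nonempty (G ⧸ N ≃* ((P : Subgroup G) ⊓ Subgroup.centralizer (Subgroup.normalizer (P : Set G) : Set G) : Subgroup G)) := by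
  classical
  have hpp : p.Prime := Fact.out
  set P' : Subgroup G := (P : Subgroup G) with hP'
  set N₀ : Subgroup G := Subgroup.normalizer (P' : Set G) with hN₀
  have hPN : P' ≤ N₀ := Subgroup.le_normalizer
  set A : Subgroup ↥N₀ := P'.subgroupOf N₀ with hA
  have hAn : A.Normal := Subgroup.normal_in_normalizer
  have hAc : IsMulCommutative ↥A := by
    have : IsMulCommutative ↥P' := hP
    exact inferInstance
  have hcardA : Nat.card ↥A = Nat.card ↥P' :=
    Nat.card_congr (Subgroup.subgroupOfEquivOfLe hPN).toEquiv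
  have hHall : Nat.Coprime (Nat.card ↥A) A.index := by
    rw [hcardA]
    obtain ⟨n, hn⟩ := IsPGroup.iff_card.1 P.2
    have h1 : Nat.card ↥P' = p ^ n := hn
    rw [h1]
    apply Nat.Coprime.pow_left
    rw [Nat.Prime.coprime_iff_not_dvd hpp]
    intro hd
    apply P.not_dvd_index
    have h2 : P'.relIndex N₀ * N₀.index = P'.index := Subgroup.relIndex_mul_index hPN
    have h3 : A.index = P'.relIndex N₀ := rfl
    rw [h3] at hd
    exact dvd_trans hd (Dvd.intro _ h2)
  obtain ⟨-, h2, h3⟩ := Cfsg.Agent.S0090.result A hAc hHall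
  set Z : Subgroup G := P' ⊓ Subgroup.centralizer (N₀ : Set G) with hZ
  have hZP : Z ≤ P' := inf_le_left
  -- the homomorphism Z → P / P*
  let ψ : ↥Z →* ↥P' ⧸ P.focalSubgroupOf :=
    (QuotientGroup.mk' P.focalSubgroupOf).comp (Subgroup.inclusion hZP)
  have hfoc : P'.focalSubgroup = ⁅N₀, N₀⁆ ⊓ P' := by
    rw [← Subgroup.commutator_inf_eq_focalSubgroup P, Cfsg.Agent.S0074.result P hP]
    rfl
  have hcenter : ∀ z : G, ∀ hz : z ∈ N₀, z ∈ Subgroup.centralizer (N₀ : Set G) ↔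
      (⟨z, hz⟩ : ↥N₀) ∈ Subgroup.center ↥N₀ := by
    intro z hz
    rw [Subgroup.mem_center_iff, Subgroup.mem_centralizer_iff]
    constructor
    · intro h n
      apply Subtype.ext
      exact h n.1 n.2
    · intro h n hn
      exact congrArg Subtype.val (h ⟨n, hn⟩)
  have hcomm : ∀ z : G, ∀ hz : z ∈ N₀, z ∈ ⁅N₀, N₀⁆ ↔ (⟨z, hz⟩ : ↥N₀) ∈ commutator ↥N₀ := by
    intro z hz
    rw [← Subgroup.map_subtype_commutator]
    constructor
    · rintro ⟨w, hw, hwz⟩
      have : w = ⟨z, hz⟩ := Subtype.ext hwz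
      rwa [← this]
    · intro h
      exact ⟨⟨z, hz⟩, h, rfl⟩
  have hinj : Function.Injective ψ := by
    rw [injective_iff_map_eq_one]
    intro z hz
    have h1 : (Subgroup.inclusion hZP z) ∈ P.focalSubgroupOf := by
      rw [← QuotientGroup.eq_one_iff]; exact hz
    rw [Subgroup.focalSubgroupOf_def, Subgroup.mem_subgroupOf] at h1
    have h4 : (z : G) ∈ ⁅N₀, N₀⁆ ⊓ P' := by rw [← hfoc]; exact h1
    have hzN : (z : G) ∈ N₀ := hPN (hZP z.2)
    have h5 : (⟨(z : G), hzN⟩ : ↥N₀) ∈ (commutator ↥N₀ ⊓ A) ⊓ (Subgroup.center ↥N₀ ⊓ A) := by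
      refine ⟨⟨(hcomm _ hzN).1 h4.1, ?_⟩, ⟨(hcenter _ hzN).1 z.2.2, ?_⟩⟩
      · exact Subgroup.mem_subgroupOf.2 (hZP z.2)
      · exact Subgroup.mem_subgroupOf.2 (hZP z.2)
    rw [h2, Subgroup.mem_bot] at h5
    apply Subtype.ext
    exact congrArg (fun w : ↥N₀ => (w : G)) h5
  have hsurj : Function.Surjective ψ := by
    intro y
    obtain ⟨x, rfl⟩ := QuotientGroup.mk'_surjective _ y
    have hxN : (x : G) ∈ N₀ := hPN x.2
    have hxA : (⟨(x : G), hxN⟩ : ↥N₀) ∈ (commutator ↥N₀ ⊓ A) ⊔ (Subgroup.center ↥N₀ ⊓ A) := by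
      rw [h3]; exact Subgroup.mem_subgroupOf.2 x.2
    have : (commutator ↥N₀ ⊓ A).Normal := inferInstance
    obtain ⟨d, hd, z, hz, hdz⟩ := Subgroup.mem_sup_of_normal_left.1 hxA
    have hzZ : (z : G) ∈ Z := by
      refine ⟨Subgroup.mem_subgroupOf.1 hz.2, ?_⟩
      exact (hcenter _ z.2).2 hz.1
    refine ⟨⟨(z : G), hzZ⟩, ?_⟩
    show (QuotientGroup.mk' P.focalSubgroupOf) (Subgroup.inclusion hZP ⟨(z : G), hzZ⟩) = _
    rw [QuotientGroup.mk'_apply, QuotientGroup.mk'_apply, QuotientGroup.eq]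
    rw [Subgroup.focalSubgroupOf_def, Subgroup.mem_subgroupOf]
    show ((z : G))⁻¹ * (x : G) ∈ P'.focalSubgroup
    have hx : (x : G) = (d : G) * (z : G) := by
      have := congrArg (fun w : ↥N₀ => (w : G)) hdz
      exact this.symm
    have hdP : (d : G) ∈ P' := Subgroup.mem_subgroupOf.1 hd.2
    have hzP : (z : G) ∈ P' := Subgroup.mem_subgroupOf.1 hz.2
    have hcommdz : (d : G) * (z : G) = (z : G) * (d : G) := by
      have := hP.is_comm.comm (⟨(d : G), hdP⟩ : ↥P') ⟨(z : G), hzP⟩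
      exact congrArg Subtype.val this
    rw [hx, hcommdz, inv_mul_cancel_left, hfoc]
    exact ⟨(hcomm _ d.2).2 hd.1, hdP⟩
  refine ⟨P.transferFocal.ker, inferInstance, ⟨?_⟩⟩
  exact (Subgroup.transferFocal.quotientKerMulEquivQuotientFocalSubroupOf P).trans
    (MulEquiv.ofBijective ψ ⟨hinj, hsurj⟩).symm

end Cfsg.Agent.S0105
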