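import Cfsg.Statements.S0218
import Mathlib

set_option autoImplicit false
open Pointwise
open Cfsg

namespace Cfsg.Agent.S0218

open QuaternionGroup

theorem orderOf_a_self (m : ℕ) [NeZero m] : orderOf (a (m : ZMod (2 * m)) : QuaternionGroup m) = 2 := by
  apply orderOf_eq_prime
  · rw [sq, a_mul_a, ← Nat.cast_add, ← two_mul, ZMod.natCast_self, a_zero]
  · intro h
    rw [one_def] at h
    have h1 : (m : ZMod (2 * m)) = 0 := by
      injection h
    rw [ZMod.natCast_eq_zero_iff] at h1
    have hm : 0 < m := Nat.pos_of_ne_zero (NeZero.ne m)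
    have := Nat.le_of_dvd hm h1
    omega

theorem eq_of_orderOf_two (m : ℕ) [NeZero m] (x : QuaternionGroup m) (hx : orderOf x = 2) :
    x = a (m : ZMod (2 * m)) := by
  have hm : 0 < m := Nat.pos_of_ne_zero (NeZero.ne m)
  cases x with
  | xa i => rw [orderOf_xa] at hx; omega
  | a i =>
    have h2 : (a i : QuaternionGroup m) ^ 2 = 1 := by rw [← hx]; exact pow_orderOf_eq_one _
    rw [sq, a_mul_a, one_def] at h2
    have h3 : i + i = 0 := by injection h2
    have h4 : i ≠ 0 := by
      intro h0
      rw [h0, a_zero, orderOf_one] at hx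
      omega
    have h5 : (i.val + i.val) % (2 * m) = 0 := by
      rw [← ZMod.val_add, h3, ZMod.val_zero]
    have h6 : i.val < 2 * m := ZMod.val_lt i
    have h7 : i.val ≠ 0 := fun h => h4 ((ZMod.val_eq_zero i).mp h)
    have h8 : i.val = m := by
      have : 2 * m ∣ i.val + i.val := Nat.dvd_of_mod_eq_zero h5
      obtain ⟨c, hc⟩ := this
      have hc1 : c = 1 := by
        rcases c with _ | _ | c
        · omega
        · rfl
        · nlinarith
      rw [hc1] at hc
      omega
    congr 1
    have h9 : ((i.val : ℕ) : ZMod (2 * m)) = i := ZMod.natCast_zmod_val i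
    rw [← h9]
    exact congrArg (Nat.cast) h8

/-- The generalized quaternion group of order 2^(n+3) contains exactly one element of order 2. -/
theorem result (n : ℕ) : Nat.card {x : QuaternionGroup (2 ^ (n + 1)) // orderOf x = 2} = 1 := by
  have : NeZero (2 ^ (n + 1)) := ⟨by positivity⟩
  rw [Nat.card_eq_one_iff_unique]
  constructor
  · constructor
    rintro ⟨x, hx⟩ ⟨y, hy⟩
    apply Subtype.ext
    simp only
    rw [eq_of_orderOf_two _ x hx, eq_of_orderOf_two _ y hy]
  · exact ⟨⟨_, orderOf_a_self (2 ^ (n + 1))⟩⟩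

end Cfsg.Agent.S0218
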