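import Cfsg.Statements.S0106
import Mathlib
import Cfsg.Agent.S0071
import Cfsg.Agent.S0016
import Cfsg.Agent.S0218
import Cfsg.Agent.Lib.Helper6_SL23
import Cfsg.Agent.Lib.Helper6_QuatAut
import Cfsg.Agent.Lib.Helper6_MaxClass

set_option autoImplicit false
open Cfsg

namespace Cfsg.Agent.S0106

open Cfsg.Agent.Lib.Helper6_QuatAut Cfsg.Agent.Lib.Helper6_SL23

/-- A finite group with generalized quaternion Sylow 2-subgroups either has a normal 2-complement or has a section isomorphic to SL(2,3). -/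
theorem result {G : Type*} [Group G] [Finite G] (T : Sylow 2 G) (n : ℕ) (hn : 1 ≤ n) (hT : Nonempty ((T : Subgroup G) ≃* QuaternionGroup (2 ^ n))) : Cfsg.HasNormalPComplement 2 G ∨ ∃ (H K : Subgroup G) (hK : (K.subgroupOf H).Normal), Nonempty ((H ⧸ K.subgroupOf H) ≃* Matrix.SpecialLinearGroup (Fin 2) (ZMod 3)) := by
  classical
  have : Fact (Nat.Prime 2) := ⟨Nat.prime_two⟩
  by_cases hNPC : Cfsg.HasNormalPComplement 2 G
  · exact Or.inl hNPC
  right
  obtain ⟨e⟩ := hT
  have hN : NeZero (2 ^ n) := ⟨by positivity⟩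
  have h1 : ¬ ∃ N : Subgroup G, N.Normal ∧ N.IsComplement' (T : Subgroup G) :=
    fun ⟨N, hNn, hc⟩ => hNPC ⟨T, N, hNn, hc⟩
  rw [Cfsg.Agent.S0071.result T] at h1
  push Not at h1
  obtain ⟨Q, hQT, g, hgN, hgcop, hgC⟩ := h1
  have hodd : Odd (orderOf g) := Nat.Coprime.odd_of_right hgcop
  set γ := conjAut Q g hgN with hγ
  have hγm : γ ^ orderOf g = 1 := conjAut_pow_orderOf Q g hgN
  have hγ1 : γ ≠ 1 := by
    intro h
    apply hgC
    rw [Subgroup.mem_centralizer_iff]
    intro q hq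
    have h2 : ((γ ⟨q, hq⟩ : Q) : G) = q := by rw [h]; rfl
    rw [hγ, conjAut_apply] at h2
    calc q * g = (g * q * g⁻¹) * g := by rw [h2]
      _ = g * q := by group
  have hQ2 : IsPGroup 2 Q := T.2.to_le hQT
  by_cases hQc : IsCyclic Q
  · exact absurd (odd_aut_cyclic_trivial hQ2 γ _ hodd hγm) hγ1
  -- unique involution
  have huniq : ∀ H K : Subgroup Q, Nat.card H = 2 → Nat.card K = 2 → H = K := by
    have key : ∀ x : Q, x ≠ 1 → x ^ 2 = 1 →
        e ⟨(x : G), hQT x.2⟩ = QuaternionGroup.a ((2 ^ n : ℕ) : ZMod (2 * 2 ^ n)) := by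
      intro x hx1 hx2
      apply Cfsg.Agent.S0218.eq_of_orderOf_two
      rw [MulEquiv.orderOf_eq, Subgroup.orderOf_mk, Subgroup.orderOf_coe]
      exact orderOf_eq_prime hx2 hx1
    intro H K hH hK
    obtain ⟨x, hxH, hx1, hx2, hxall⟩ := Cfsg.Agent.Lib.Helper6_MaxClass.exists_of_card_two H hH
    obtain ⟨y, hyK, hy1, hy2, hyall⟩ := Cfsg.Agent.Lib.Helper6_MaxClass.exists_of_card_two K hK
    have hxy : x = y := by
      have h3 := (key x hx1 hx2).trans (key y hy1 hy2).symm
      have h4 := e.injective h3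
      apply Subtype.ext
      exact congrArg (fun t : (T : Subgroup G) => (t : G)) h4
    ext w
    constructor
    · intro hw
      rcases hxall w hw with h | h
      · rw [h]; exact K.one_mem
      · rw [h, hxy]; exact hyK
    · intro hw
      rcases hyall w hw with h | h
      · rw [h]; exact H.one_mem
      · rw [h, ← hxy]; exact hxH
  obtain ⟨k, ⟨e'⟩⟩ := Cfsg.Agent.S0016.two_group_case hQ2 huniq hQc
  set β : MulAut (QuaternionGroup (2 ^ k)) := MulAut.congr e' γ with hβdef
  have hβm : β ^ orderOf g = 1 := by rw [hβdef, ← map_pow, hγm, map_one]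
  have hβ1 : β ≠ 1 := by
    intro h
    apply hγ1
    exact (MulAut.congr e').injective (by rw [← hβdef, h, map_one])
  have hβapply : ∀ y, β y = e' (γ (e'.symm y)) := fun y => rfl
  rcases Nat.lt_or_ge k 2 with hk | hk
  swap
  · exact absurd (quat_aut_trivial k hk β _ hodd hβm) hβ1
  have hk01 : k = 0 ∨ k = 1 := by omega
  rcases hk01 with rfl | rfl
  · exfalso
    apply hQc
    have : IsCyclic (QuaternionGroup (2 ^ 0)) := QuaternionGroup.quaternionGroup_one_isCyclic
    exact isCyclic_of_surjective e'.symm e'.symm.surjective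
  -- the Q₈ case
  obtain ⟨i, j, hβi, hβj, hi4, hi2, hjj, hji, hjne, h3i, h3j⟩ :=
    q8_aut β (orderOf g) hodd hβm hβ1
  -- the embedding of Q₈ into G
  set ι : QuaternionGroup 2 →* G := (Q.subtype).comp (e'.symm : QuaternionGroup (2 ^ 1) →* Q) with hι
  have hιinj : Function.Injective ι := by
    intro x y hxy
    have h2 : ((e'.symm x : Q) : G) = ((e'.symm y : Q) : G) := hxy
    exact e'.symm.injective (Subtype.ext h2)
  have hιβ : ∀ y : QuaternionGroup 2, ι (β y) = g * ι y * g⁻¹ := by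
    intro y
    show ((e'.symm (β y) : Q) : G) = g * ((e'.symm y : Q) : G) * g⁻¹
    rw [hβapply, e'.symm_apply_apply, hγ, conjAut_apply]
  have hg3 : ∀ y : QuaternionGroup 2, ι (β (β (β y))) = g ^ 3 * ι y * (g ^ 3)⁻¹ := by
    intro y
    rw [hιβ, hιβ, hιβ, pow_succ, pow_two]
    group
  have hcomm_i : ι i * g ^ 3 = g ^ 3 * ι i := by
    have h2 := hg3 i
    rw [h3i] at h2
    calc ι i * g ^ 3 = (g ^ 3 * ι i * (g ^ 3)⁻¹) * g ^ 3 := by rw [← h2]
      _ = g ^ 3 * ι i := by group
  have hcomm_j : ι j * g ^ 3 = g ^ 3 * ι j := by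
    have h2 := hg3 j
    rw [h3j] at h2
    calc ι j * g ^ 3 = (g ^ 3 * ι j * (g ^ 3)⁻¹) * g ^ 3 := by rw [← h2]
      _ = g ^ 3 * ι j := by group
  have hcomm_g : g * g ^ 3 = g ^ 3 * g := by rw [← pow_succ, ← pow_succ']
  set H : Subgroup G := Subgroup.closure {ι i, ι j, g} with hH
  set K : Subgroup G := Subgroup.zpowers (g ^ 3) with hK
  have hiH : ι i ∈ H := Subgroup.subset_closure (by simp)
  have hjH : ι j ∈ H := Subgroup.subset_closure (by simp)
  have hgH : g ∈ H := Subgroup.subset_closure (by simp)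
  have hHcent : H ≤ Subgroup.centralizer {g ^ 3} := by
    rw [hH, Subgroup.closure_le]
    intro x hx
    rw [SetLike.mem_coe, Subgroup.mem_centralizer_singleton_iff]
    rcases hx with rfl | rfl | rfl
    · exact hcomm_i
    · exact hcomm_j
    · exact hcomm_g
  have hHK : ∀ h ∈ H, ∀ k ∈ K, h * k * h⁻¹ = k := by
    intro h hh k hk
    obtain ⟨t, rfl⟩ := Subgroup.mem_zpowers_iff.mp hk
    have h2 : h * g ^ 3 = g ^ 3 * h := Subgroup.mem_centralizer_singleton_iff.mp (hHcent hh)
    have h3 : h * g ^ 3 * h⁻¹ = g ^ 3 := by rw [h2]; group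
    rw [← MulAut.conj_apply, map_zpow, MulAut.conj_apply, h3]
  have hKn : (K.subgroupOf H).Normal := by
    constructor
    intro k hk h
    rw [Subgroup.mem_subgroupOf] at hk ⊢
    have h2 : ((h * k * h⁻¹ : H) : G) = (h : G) * (k : G) * (h : G)⁻¹ := rfl
    rw [h2, hHK h h.2 k hk]
    exact hk
  refine ⟨H, K, hKn, ?_⟩
  set π := QuotientGroup.mk' (K.subgroupOf H) with hπ
  set xi : H := ⟨ι i, hiH⟩ with hxi
  set xj : H := ⟨ι j, hjH⟩ with hxj
  set xg : H := ⟨g, hgH⟩ with hxg
  have r1 : xi ^ 4 = 1 := by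
    apply Subtype.ext
    show (ι i) ^ 4 = 1
    rw [← map_pow, hi4, map_one]
  have r2 : xj * xj = xi ^ 2 := by
    apply Subtype.ext
    show ι j * ι j = (ι i) ^ 2
    rw [← map_mul, ← map_pow, hjj]
  have r3 : xj * xi = xi⁻¹ * xj := by
    apply Subtype.ext
    show ι j * ι i = (ι i)⁻¹ * ι j
    rw [← map_mul, ← map_inv, ← map_mul, hji]
  have r4 : π xg ^ 3 = 1 := by
    rw [← map_pow, hπ, QuotientGroup.mk'_apply, QuotientGroup.eq_one_iff, Subgroup.mem_subgroupOf]
    show g ^ 3 ∈ K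
    exact Subgroup.mem_zpowers _
  have r5 : xg * xi * xg⁻¹ = xj := by
    apply Subtype.ext
    show g * ι i * g⁻¹ = ι j
    rw [← hιβ, hβi]
  have r6 : xg * xj * xg⁻¹ = xi * xj := by
    apply Subtype.ext
    show g * ι j * g⁻¹ = ι i * ι j
    rw [← hιβ, hβj, map_mul]
  have r7 : π xi ^ 2 ≠ 1 := by
    intro h
    rw [← map_pow, hπ, QuotientGroup.mk'_apply, QuotientGroup.eq_one_iff,
      Subgroup.mem_subgroupOf] at h
    have h2 : (ι i) ^ 2 ∈ K := h
    have h3 : orderOf ((ι i) ^ 2) = 2 := by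
      apply orderOf_eq_prime
      · rw [← pow_mul]; rw [← map_pow, hi4, map_one]
      · intro h4
        apply hi2
        apply hιinj
        rw [map_pow, h4, map_one]
    have h4 : orderOf ((ι i) ^ 2) ∣ orderOf (g ^ 3) := orderOf_dvd_of_mem_zpowers h2
    have h5 : orderOf (g ^ 3) ∣ orderOf g := orderOf_pow_dvd 3
    rw [h3] at h4
    have h6 : 2 ∣ orderOf g := h4.trans h5
    obtain ⟨c, hc⟩ := hodd
    omega
  have r8 : π xg ≠ 1 := by
    intro h
    rw [hπ, QuotientGroup.mk'_apply, QuotientGroup.eq_one_iff, Subgroup.mem_subgroupOf] at h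
    have h2 : g ∈ K := h
    have h3 := hHK (ι i) hiH g h2
    apply hjne
    apply hιinj
    rw [← hβi, hιβ]
    have h4 : ι i * g = g * ι i := by
      calc ι i * g = (ι i * g * (ι i)⁻¹) * ι i := by group
        _ = g * ι i := by rw [h3]
    calc g * ι i * g⁻¹ = (ι i * g) * g⁻¹ := by rw [h4]
      _ = ι i := by group
  have r9 : Subgroup.closure {π xi, π xj, π xg} = ⊤ := by
    have h2 : Subgroup.closure (((↑) : H → G) ⁻¹' {ι i, ι j, g}) = ⊤ :=
      Subgroup.closure_closure_coe_preimage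
    have h3 : (⊤ : Subgroup (H ⧸ K.subgroupOf H)) = (⊤ : Subgroup H).map π :=
      (Subgroup.map_top_of_surjective π (QuotientGroup.mk'_surjective _)).symm
    rw [eq_top_iff, h3, ← h2, MonoidHom.map_closure, Subgroup.closure_le]
    rintro _ ⟨x, hx, rfl⟩
    apply Subgroup.subset_closure
    have hx' : (x : G) = ι i ∨ (x : G) = ι j ∨ (x : G) = g := hx
    rcases hx' with h | h | h
    · left
      exact congrArg π (Subtype.ext h)
    · right; left
      exact congrArg π (Subtype.ext h)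
    · right; right
      exact congrArg π (Subtype.ext h)
  apply SL23_equiv_of_closure (π xi) (π xj) (π xg)
  · rw [← map_pow, r1, map_one]
  · rw [← map_mul, r2, map_pow]
  · rw [← map_mul, r3, map_mul, map_inv]
  · exact r4
  · rw [← map_inv, ← map_mul, ← map_mul, r5]
  · rw [← map_inv, ← map_mul, ← map_mul, r6, map_mul]
  · exact r7
  · exact r8
  · exact r9

end Cfsg.Agent.S0106
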