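import Cfsg.Statements.S0111
import Mathlib

set_option autoImplicit false
open Cfsg

namespace Cfsg.Agent.S0111

/-- The Thompson transfer lemma states that an involution of a Sylow 2-subgroup P lying outside a subgroup Q of index 2 in P either lies outside some normal subgroup of index 2 in G or is conjugate to an element of Q. -/
theorem result {G : Type*} [Group G] [Finite G] (P : Sylow 2 G) (Q : Subgroup G) (hQP : Q ≤ (P : Subgroup G)) (hQi : Q.relIndex (P : Subgroup G) = 2) (u : G) (hu : orderOf u = 2) (huP : u ∈ (P : Subgroup G)) (huQ : u ∉ Q) : (∃ M : Subgroup G, M.Normal ∧ M.index = 2 ∧ u ∉ M) ∨ ∃ g : G, g * u * g⁻¹ ∈ Q := by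
  classical
  haveI : Fact (Nat.Prime 2) := ⟨Nat.prime_two⟩
  by_contra hcon
  push_neg at hcon
  obtain ⟨hM, hconj⟩ := hcon
  have hu2 : u ^ 2 = 1 := by rw [← hu]; exact pow_orderOf_eq_one u
  have hidx : (Q.subgroupOf (P : Subgroup G)).index = 2 := hQi
  haveI hQn : (Q.subgroupOf (P : Subgroup G)).Normal := Subgroup.normal_of_index_eq_two hidx
  have hcard : Nat.card ((P : Subgroup G) ⧸ Q.subgroupOf (P : Subgroup G)) = 2 := hidx
  haveI : IsCyclic ((P : Subgroup G) ⧸ Q.subgroupOf (P : Subgroup G)) := isCyclic_of_prime_card hcard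
  letI : CommGroup ((P : Subgroup G) ⧸ Q.subgroupOf (P : Subgroup G)) := IsCyclic.commGroup
  have ht1 : (QuotientGroup.mk' (Q.subgroupOf (P : Subgroup G))) ⟨u, huP⟩ ≠ 1 := by
    intro h
    rw [QuotientGroup.mk'_apply, QuotientGroup.eq_one_iff] at h
    exact huQ (Subgroup.mem_subgroupOf.mp h)
  have huniq : ∀ y : (P : Subgroup G) ⧸ Q.subgroupOf (P : Subgroup G), y ≠ 1 →
      y = (QuotientGroup.mk' (Q.subgroupOf (P : Subgroup G))) ⟨u, huP⟩ := by
    obtain ⟨y₀, hy₀, huq⟩ := (Nat.card_eq_two_iff' (1 : (P : Subgroup G) ⧸ Q.subgroupOf (P : Subgroup G))).mp hcard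
    intro y hy
    rw [huq y hy, huq _ ht1]
  have ht2 : ((QuotientGroup.mk' (Q.subgroupOf (P : Subgroup G))) ⟨u, huP⟩) ^ 2 = 1 := by
    have := pow_card_eq_one' (G := (P : Subgroup G) ⧸ Q.subgroupOf (P : Subgroup G))
      (x := (QuotientGroup.mk' (Q.subgroupOf (P : Subgroup G))) ⟨u, huP⟩)
    rwa [hcard] at this
  -- the terms of the transfer
  have hterm : ∀ (k : ℕ) (x : G) (hmem : x⁻¹ * u ^ k * x ∈ (P : Subgroup G)), k = 1 ∨ k = 2 →
      (QuotientGroup.mk' (Q.subgroupOf (P : Subgroup G))) ⟨x⁻¹ * u ^ k * x, hmem⟩ =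
        ((QuotientGroup.mk' (Q.subgroupOf (P : Subgroup G))) ⟨u, huP⟩) ^ k := by
    intro k x hmem hk
    rcases hk with rfl | rfl
    · conv_rhs => rw [pow_one]
      apply huniq
      intro h
      rw [QuotientGroup.mk'_apply, QuotientGroup.eq_one_iff, Subgroup.mem_subgroupOf] at h
      have := hconj x⁻¹
      rw [inv_inv] at this
      apply this
      simpa using h
    · rw [ht2]
      have : (⟨x⁻¹ * u ^ 2 * x, hmem⟩ : (P : Subgroup G)) = 1 := by
        apply Subtype.ext
        simp [hu2]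
      rw [this, map_one]
  letI : Fintype (Quotient (MulAction.orbitRel (Subgroup.zpowers u) (G ⧸ (P : Subgroup G)))) :=
    Fintype.ofFinite _
  have hV := MonoidHom.transfer_eq_prod_quotient_orbitRel_zpowers_quot
    (QuotientGroup.mk' (Q.subgroupOf (P : Subgroup G))) u
  have hk : ∀ q : Quotient (MulAction.orbitRel (Subgroup.zpowers u) (G ⧸ (P : Subgroup G))),
      Function.minimalPeriod (u • ·) q.out = 1 ∨ Function.minimalPeriod (u • ·) q.out = 2 := by
    intro q
    have hdvd : Function.minimalPeriod (u • ·) q.out ∣ 2 := by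
      apply Function.IsPeriodicPt.minimalPeriod_dvd
      show (u • ·)^[2] q.out = q.out
      simp only [Function.iterate_succ, Function.iterate_zero, Function.comp_apply, id_eq]
      rw [← mul_smul, ← pow_two, hu2, one_smul]
    exact (Nat.dvd_prime Nat.prime_two).mp hdvd
  have hV2 : MonoidHom.transfer (QuotientGroup.mk' (Q.subgroupOf (P : Subgroup G))) u =
      ((QuotientGroup.mk' (Q.subgroupOf (P : Subgroup G))) ⟨u, huP⟩) ^ (P : Subgroup G).index := by
    rw [hV, Subgroup.index_eq_sum_minimalPeriod (P : Subgroup G) u, ← Finset.prod_pow_eq_pow_sum]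
    apply Finset.prod_congr rfl
    intro q _
    exact hterm _ _ _ (hk q)
  have hodd : ¬ 2 ∣ (P : Subgroup G).index := P.not_dvd_index
  have hV3 : MonoidHom.transfer (QuotientGroup.mk' (Q.subgroupOf (P : Subgroup G))) u =
      (QuotientGroup.mk' (Q.subgroupOf (P : Subgroup G))) ⟨u, huP⟩ := by
    rw [hV2]
    obtain ⟨m, hm⟩ : ∃ m, (P : Subgroup G).index = 2 * m + 1 := by
      refine ⟨(P : Subgroup G).index / 2, ?_⟩
      omega
    rw [hm, pow_succ, pow_mul, ht2, one_pow, one_mul]
  -- the kernel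
  have hkn : (MonoidHom.transfer (QuotientGroup.mk' (Q.subgroupOf (P : Subgroup G)))).ker.Normal := inferInstance
  have hki : (MonoidHom.transfer (QuotientGroup.mk' (Q.subgroupOf (P : Subgroup G)))).ker.index = 2 := by
    rw [Subgroup.index_ker]
    have h1 : Nat.card (MonoidHom.transfer (QuotientGroup.mk' (Q.subgroupOf (P : Subgroup G)))).range ∣ 2 := by
      have := Subgroup.card_subgroup_dvd_card (MonoidHom.transfer (QuotientGroup.mk' (Q.subgroupOf (P : Subgroup G)))).range
      rwa [hcard] at this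
    rcases (Nat.dvd_prime Nat.prime_two).mp h1 with h | h
    · exfalso
      rw [Subgroup.card_eq_one] at h
      have : MonoidHom.transfer (QuotientGroup.mk' (Q.subgroupOf (P : Subgroup G))) u ∈
          (MonoidHom.transfer (QuotientGroup.mk' (Q.subgroupOf (P : Subgroup G)))).range := ⟨u, rfl⟩
      rw [h, Subgroup.mem_bot, hV3] at this
      exact ht1 this
    · exact h
  have := hM _ hkn hki
  rw [MonoidHom.mem_ker, hV3] at this
  exact ht1 this

end Cfsg.Agent.S0111
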