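import Cfsg.Statements.S0107
import Mathlib
import Cfsg.Agent.S0111
import Cfsg.Agent.Lib.Helper7_Basic

set_option autoImplicit false
open Cfsg

namespace Cfsg.Agent.S0107

open scoped Pointwise

/-- if `O^2(G) = G` there is no normal subgroup of index 2 -/
theorem no_index_two {G : Type*} [Group G] [Finite G] (hO : Cfsg.pResidual 2 G = ⊤)
    (M : Subgroup G) (hM : M.Normal) (hi : M.index = 2) : False := by
  have hle : Cfsg.pResidual 2 G ≤ M := by
    unfold Cfsg.pResidual
    rw [Subgroup.closure_le]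
    intro g hg
    have hg' : Nat.Coprime (orderOf g) 2 := hg
    have h1 : ((g : G ⧸ M)) ^ 2 = 1 := by
      rw [← QuotientGroup.mk_pow, QuotientGroup.eq_one_iff, ← hi]
      exact Subgroup.pow_index_mem M g
    have h2 : ((g : G ⧸ M)) ^ orderOf g = 1 := by
      rw [← QuotientGroup.mk_pow, pow_orderOf_eq_one]; rfl
    have h3 : orderOf (g : G ⧸ M) ∣ Nat.gcd (orderOf g) 2 :=
      Nat.dvd_gcd (orderOf_dvd_of_pow_eq_one h2) (orderOf_dvd_of_pow_eq_one h1)
    rw [hg'.gcd_eq_one, Nat.dvd_one, orderOf_eq_one_iff, QuotientGroup.eq_one_iff] at h3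
    exact h3
  rw [hO, top_le_iff] at hle
  rw [hle, Subgroup.index_top] at hi
  omega

/-- A finite group with no nontrivial 2-group quotient and dihedral Sylow 2-subgroups of order at least 8 has a single class of involutions. -/
theorem result {G : Type*} [Group G] [Finite G] (T : Sylow 2 G) (n : ℕ) (hn : 2 ≤ n) (hT : Nonempty ((T : Subgroup G) ≃* DihedralGroup (2 ^ n))) (hO : Cfsg.pResidual 2 G = ⊤) (x y : G) (hx : orderOf x = 2) (hy : orderOf y = 2) : ∃ g : G, g * x * g⁻¹ = y := by
  classical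
  have : Fact (Nat.Prime 2) := ⟨Nat.prime_two⟩
  obtain ⟨e⟩ := hT
  -- the rotation subgroup
  set ρ : ↥(T : Subgroup G) := e.symm (DihedralGroup.r 1) with hρ
  have hoρ : orderOf ρ = 2 ^ n := by
    rw [hρ, MulEquiv.orderOf_eq, DihedralGroup.orderOf_r_one]
  set Q' : Subgroup ↥(T : Subgroup G) := Subgroup.zpowers ρ with hQ'
  have hQ'card : Nat.card Q' = 2 ^ n := by rw [hQ', Nat.card_zpowers, hoρ]
  have hTcard : Nat.card ↥(T : Subgroup G) = 2 * 2 ^ n := by
    rw [Nat.card_congr e.toEquiv, DihedralGroup.nat_card]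
  set Q : Subgroup G := Q'.map (T : Subgroup G).subtype with hQ
  have hQT : Q ≤ (T : Subgroup G) := Subgroup.map_subtype_le _
  have hQcard : Nat.card Q = 2 ^ n := by
    rw [hQ, Subgroup.card_map_of_injective (Subgroup.subtype_injective _), hQ'card]
  have hQi : Q.relIndex (T : Subgroup G) = 2 := by
    have h1 := Subgroup.card_mul_index (Q.subgroupOf (T : Subgroup G))
    rw [Nat.card_congr (Subgroup.subgroupOfEquivOfLe hQT).toEquiv, hQcard, hTcard] at h1
    have hpos : 0 < 2 ^ n := by positivity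
    have h2 : 2 ^ n * Q.relIndex (T : Subgroup G) = 2 ^ n * 2 := by rw [mul_comm (2 ^ n) 2]; exact h1
    exact Nat.eq_of_mul_eq_mul_left hpos h2
  have hQc : IsCyclic Q := by
    rw [hQ, hQ', MonoidHom.map_zpowers]
    infer_instance
  -- the unique involution of Q
  have hQuniq : ∀ a ∈ Q, ∀ b ∈ Q, orderOf a = 2 → orderOf b = 2 → a = b := by
    intro a ha b hb hoa hob
    have h1 : Subgroup.zpowers a = Subgroup.zpowers b :=
      Cfsg.Agent.Lib.Helper7_Basic.cyclic_subgroup_unique Q hQc _ _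
        (by rw [Subgroup.zpowers_le]; exact ha) (by rw [Subgroup.zpowers_le]; exact hb)
        (by rw [Nat.card_zpowers, Nat.card_zpowers, hoa, hob])
    have h2 : b ∈ Subgroup.zpowers a := by rw [h1]; exact Subgroup.mem_zpowers b
    rw [← mem_powers_iff_mem_zpowers, mem_powers_iff_mem_range_orderOf, hoa] at h2
    simp only [Finset.mem_image, Finset.mem_range] at h2
    obtain ⟨i, hi, rfl⟩ := h2
    interval_cases i
    · rw [pow_zero, orderOf_one] at hob; omega
    · rw [pow_one]
  -- an involution z in Q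
  have h2dvd : 2 ∣ Nat.card Q := by rw [hQcard]; exact dvd_pow_self 2 (by omega)
  obtain ⟨z', hz'⟩ := exists_prime_orderOf_dvd_card' 2 h2dvd
  set z : G := (z' : G) with hz
  have hzQ : z ∈ Q := z'.2
  have hoz : orderOf z = 2 := by rw [hz, Subgroup.orderOf_coe, hz']
  -- every involution is conjugate to z
  have key : ∀ t : G, orderOf t = 2 → ∃ g : G, g * t * g⁻¹ = z := by
    intro t ht
    -- conjugate t into T
    have htp : IsPGroup 2 (Subgroup.zpowers t) := by
      apply IsPGroup.of_card (n := 1)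
      rw [Nat.card_zpowers, ht, pow_one]
    obtain ⟨S, hS⟩ := htp.exists_le_sylow
    obtain ⟨g, hg⟩ := MulAction.exists_smul_eq G S T
    have htT : g * t * g⁻¹ ∈ (T : Subgroup G) := by
      rw [← hg]
      show g * t * g⁻¹ ∈ ((g • S : Sylow 2 G) : Subgroup G)
      rw [Sylow.smul_def, Sylow.pointwise_smul_def, Subgroup.mem_pointwise_smul_iff_inv_smul_mem,
        MulAut.smul_def, MulAut.conj_inv_apply]
      have : g⁻¹ * (g * t * g⁻¹) * g = t := by group
      rw [this]
      exact hS (Subgroup.mem_zpowers t)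
    set t' := g * t * g⁻¹ with ht'
    have hot' : orderOf t' = 2 := by
      rw [ht']
      have : g * t * g⁻¹ = MulAut.conj g t := rfl
      rw [this, MulEquiv.orderOf_eq, ht]
    by_cases htQ : t' ∈ Q
    · exact ⟨g, hQuniq _ htQ _ hzQ hot' hoz⟩
    · rcases Cfsg.Agent.S0111.result T Q hQT hQi t' hot' htT htQ with ⟨M, hMn, hMi, -⟩ | ⟨h, hh⟩
      · exact absurd (no_index_two hO M hMn hMi) id
      · have hoh : orderOf (h * t' * h⁻¹) = 2 := by
          have : h * t' * h⁻¹ = MulAut.conj h t' := rfl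
          rw [this, MulEquiv.orderOf_eq, hot']
        refine ⟨h * g, ?_⟩
        have := hQuniq _ hh _ hzQ hoh hoz
        rw [← this, ht']; group
  obtain ⟨g₁, hg₁⟩ := key x hx
  obtain ⟨g₂, hg₂⟩ := key y hy
  refine ⟨g₂⁻¹ * g₁, ?_⟩
  have : y = g₂⁻¹ * z * g₂ := by rw [← hg₂]; group
  rw [this, ← hg₁]; group

end Cfsg.Agent.S0107
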