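import Cfsg.Statements.S0108
import Mathlib
import Cfsg.Agent.Lib.Lead_ThompNPC

set_option autoImplicit false
open Cfsg

namespace Cfsg.Agent.S0108

/-- The Thompson normal p-complement Theorem, in the form stating that for odd p, G has a normal p-complement exactly when the normalizer of the Thompson subgroup J(P) and the centralizer of the centre of P both have one. -/
theorem result {G : Type*} [Group G] [Finite G] {p : ℕ} [Fact p.Prime] (hp : p ≠ 2) (P : Sylow p G) : Cfsg.HasNormalPComplement p G ↔ (Cfsg.HasNormalPComplement p (Subgroup.normalizer (Cfsg.thompsonSubgroupOf p (P : Subgroup G) : Set G)) ∧ Cfsg.HasNormalPComplement p (Subgroup.centralizer (((P : Subgroup G) ⊓ Subgroup.centralizer (P : Set G)) : Set G))) := by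
  constructor
  · intro h
    rw [Cfsg.Agent.Lib.Helper7_NPC.hasNormalPComplement_iff_npc] at h
    refine ⟨?_, ?_⟩
    · rw [Cfsg.Agent.Lib.Helper7_NPC.hasNormalPComplement_iff_npc]
      exact Cfsg.Agent.Lib.Lead_GT1.npc_of_injective (Subgroup.subtype _)
        (Subgroup.subtype_injective _) h
    · rw [Cfsg.Agent.Lib.Helper7_NPC.hasNormalPComplement_iff_npc]
      exact Cfsg.Agent.Lib.Lead_GT1.npc_of_injective (Subgroup.subtype _)
        (Subgroup.subtype_injective _) h
  · rintro ⟨h1, h2⟩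
    rw [Cfsg.Agent.Lib.Helper7_NPC.hasNormalPComplement_iff_npc] at h1 h2 ⊢
    have h1' : Cfsg.Agent.Lib.Helper7_NPC.NPC p ↥(Subgroup.normalizer
        (((Cfsg.Agent.Lib.Lead_ThompNPC.funJ.{u_1} p).W G (P : Subgroup G) : Subgroup G) : Set G)) := by
      rw [Cfsg.Agent.Lib.Lead_ThompNPC.funJ_W]; exact h1
    have h2' : Cfsg.Agent.Lib.Helper7_NPC.NPC p ↥(Subgroup.centralizer
        (((Cfsg.Agent.Lib.Lead_ThompNPC.funZ.{u_1} p).W G (P : Subgroup G) : Subgroup G) : Set G)) := by
      rw [Cfsg.Agent.Lib.Lead_ThompNPC.funZ_W]; exact h2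
    exact Cfsg.Agent.Lib.Lead_GTc.main_c
      (Cfsg.Agent.Lib.Lead_GTc2.hclass2 (Cfsg.Agent.Lib.Lead_ThompNPC.funJ.{u_1} p)
        (Cfsg.Agent.Lib.Lead_ThompNPC.funZ.{u_1} p))
      (fun X _ _ hE hH => Cfsg.Agent.Lib.Lead_ThompNPC.endgame hp hE hH) G
      (Cfsg.Agent.Lib.Lead_GTc2.hyp2_of_single _ _ P h1' h2')

end Cfsg.Agent.S0108
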