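import Cfsg.Statements.S0109
import Mathlib
import Cfsg.Agent.Lib.Lead_StabG
import Cfsg.Agent.Lib.Lead_ZJ
import Cfsg.Agent.Lib.Helper5_PPrime
import Cfsg.Agent.Lib.Helper5_Residual
import Cfsg.Agent.Lib.Lead_OddStab4

set_option autoImplicit false
open Cfsg

namespace Cfsg.Agent.S0109

open Cfsg.Agent.Lib.Helper4_PCore

/-- The Thompson factorization Theorem for solvable groups states that, with p odd (and abelian Sylow 2-subgroups when p = 3) and no nontrivial normal subgroup of order prime to p, every element of G is a product of an element normalizing J(P) and an element centralizing the elements of order dividing p in the centre of P. -/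
theorem result {G : Type*} [Group G] [Finite G] {p : ℕ} [Fact p.Prime] (hp : p ≠ 2) (hs : Group.IsSolvable G) (h3 : p = 3 → ∀ T : Sylow 2 G, IsMulCommutative T) (hF : ∀ N : Subgroup G, N.Normal → Nat.Coprime (Nat.card N) p → N = ⊥) (P : Sylow p G) (g : G) : ∃ a ∈ Subgroup.normalizer (Cfsg.thompsonSubgroupOf p (P : Subgroup G) : Set G), ∃ c ∈ Subgroup.centralizer {x : G | x ∈ (P : Subgroup G) ∧ (∀ y ∈ (P : Subgroup G), x * y = y * x) ∧ x ^ p = 1}, g = a * c := by
  classical
  haveI := hs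
  have hpp : p.Prime := Fact.out
  -- `O_{p'}(G) = 1`
  have hO : Cfsg.pPrimeCore p G = ⊥ :=
    hF _ (Cfsg.Agent.Lib.Helper5_PPrime.pPrimeCore_normal p G)
      (Cfsg.Agent.Lib.Helper5_PPrime.pPrimeCore_coprime p G)
  have h2' : 5 ≤ p ∨ ∀ T : Sylow 2 G, IsMulCommutative T := by
    by_cases hp3 : p = 3
    · exact Or.inr (h3 hp3)
    · left
      have h2le := hpp.two_le
      by_contra hlt
      have hp4 : p = 4 := by omega
      rw [hp4] at hpp
      exact absurd hpp (by norm_num)
  set T := Cfsg.pCore p G with hT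
  haveI hTn : T.Normal := pCore_normal p G
  have hTP : T ≤ (P : Subgroup G) := pCore_le_sylow P
  have hTp : IsPGroup p T := pCore_isPGroup
  -- `C_G(T) ≤ T`
  have hCT : Subgroup.centralizer (T : Set G) ≤ T := by
    haveI : (Subgroup.centralizer (T : Set G)).Normal := Subgroup.normal_centralizer
    have hpg : IsPGroup p (Subgroup.centralizer (T : Set G)) := by
      apply Cfsg.Agent.Lib.Lead_OddStab4.isPGroup_of_centralizes hO
      intro z hz c hc
      exact ((Subgroup.mem_centralizer_iff.1 hc) z hz.1).symm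
    exact le_pCore _ inferInstance hpg
  -- the set `Z₁`
  obtain ⟨Z₁, hZ₁⟩ : ∃ Z₁ : Set G, Z₁ = {x : G | x ∈ (P : Subgroup G) ∧
      (∀ y ∈ (P : Subgroup G), x * y = y * x) ∧ x ^ p = 1} := ⟨_, rfl⟩
  rw [← hZ₁]
  have hZ₁mem : ∀ x ∈ Z₁, x ∈ (P : Subgroup G) ∧ (∀ y ∈ (P : Subgroup G), x * y = y * x) ∧
      x ^ p = 1 := by
    intro x hx; rw [hZ₁] at hx; exact hx
  have hZ₁T : ∀ x ∈ Z₁, x ∈ T := by
    intro x hx
    apply hCT
    rw [Subgroup.mem_centralizer_iff]
    intro t ht
    exact ((hZ₁mem x hx).2.1 t (hTP ht)).symm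
  -- `V`
  set ZT := T ⊓ Subgroup.centralizer (T : Set G) with hZT
  haveI hZTn : ZT.Normal := by
    haveI : (Subgroup.centralizer (T : Set G)).Normal := Subgroup.normal_centralizer
    exact Subgroup.normal_inf_normal _ _
  set V := Subgroup.normalClosure Z₁ with hV
  haveI hVn : V.Normal := Subgroup.normalClosure_normal
  have hZ₁V : Z₁ ⊆ V := Subgroup.subset_normalClosure
  have hVZT : V ≤ ZT := by
    apply Subgroup.normalClosure_le_normal
    intro x hx
    refine Subgroup.mem_inf.2 ⟨hZ₁T x hx, ?_⟩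
    rw [Subgroup.mem_centralizer_iff]
    intro t ht
    exact ((hZ₁mem x hx).2.1 t (hTP ht)).symm
  have hVT : V ≤ T := hVZT.trans inf_le_left
  have hVP : V ≤ (P : Subgroup G) := hVT.trans hTP
  have hVp : IsPGroup p V := hTp.to_le hVT
  have hVc : ∀ a ∈ V, ∀ b ∈ V, a * b = b * a := by
    intro a ha b hb
    exact (Subgroup.mem_centralizer_iff.1 (hVZT hb).2) a (hVT ha)
  have hVexp : ∀ v ∈ V, v ^ p = 1 := by
    intro v hv
    have hv' : v ∈ Subgroup.closure (Group.conjugatesOfSet Z₁) := hv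
    induction hv' using Subgroup.closure_induction with
    | mem x hx =>
      obtain ⟨a', ha', hconj⟩ := Group.mem_conjugatesOfSet_iff.1 hx
      obtain ⟨c, hc⟩ := isConj_iff.1 hconj
      rw [← hc, conj_pow, (hZ₁mem a' ha').2.2]; group
    | one => exact one_pow p
    | mul x y hx hy ihx ihy =>
      have hxV : x ∈ V := hx
      have hyV : y ∈ V := hy
      rw [(show Commute x y from hVc x hxV y hyV).mul_pow, ihx hxV, ihy hyV, one_mul]
    | inv x hx ih =>
      rw [inv_pow, ih hx, inv_one]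
  -- `C = C_G(V)` and `O_p(G/C) = 1`
  set C := Subgroup.centralizer (V : Set G) with hC
  haveI hCn : C.Normal := Subgroup.normal_centralizer
  set π := QuotientGroup.mk' C with hπ
  have hπs : Function.Surjective π := QuotientGroup.mk'_surjective C
  have hOp : Cfsg.pCore p (G ⧸ C) = ⊥ := by
    rw [eq_bot_iff]
    intro q hq
    obtain ⟨d, rfl⟩ := hπs q
    rw [Subgroup.mem_bot]
    apply (QuotientGroup.eq_one_iff d).2
    -- every element of `D` centralizes `Z₁`
    have hD1 : ∀ d' : G, π d' ∈ Cfsg.pCore p (G ⧸ C) → ∀ x ∈ Z₁, x * d' = d' * x := by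
      intro d' hd' x hx
      have hOP : Cfsg.pCore p (G ⧸ C) ≤ (P : Subgroup G).map π := by
        rw [← Sylow.coe_mapSurjective hπs P]
        exact pCore_le_sylow _
      obtain ⟨s, hsP, hsd⟩ := hOP hd'
      have hcC : s⁻¹ * d' ∈ C := QuotientGroup.eq.1 hsd
      have h1 : x * s = s * x := (hZ₁mem x hx).2.1 s hsP
      have h2 : x * (s⁻¹ * d') = (s⁻¹ * d') * x :=
        (Subgroup.mem_centralizer_iff.1 hcC) x (hZ₁V hx)
      calc x * d' = x * s * (s⁻¹ * d') := by group
        _ = s * x * (s⁻¹ * d') := by rw [h1]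
        _ = s * (x * (s⁻¹ * d')) := by group
        _ = s * ((s⁻¹ * d') * x) := by rw [h2]
        _ = d' * x := by group
    show d ∈ Subgroup.centralizer (V : Set G)
    rw [Subgroup.mem_centralizer_iff]
    intro v hv
    have hv' : v ∈ Subgroup.closure (Group.conjugatesOfSet Z₁) := hv
    have hle : Subgroup.closure (Group.conjugatesOfSet Z₁) ≤
        Subgroup.centralizer ({d} : Set G) := by
      rw [Subgroup.closure_le]
      intro y hy
      obtain ⟨a', ha', hconj⟩ := Group.mem_conjugatesOfSet_iff.1 hy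
      obtain ⟨c, hc⟩ := isConj_iff.1 hconj
      rw [SetLike.mem_coe, Subgroup.mem_centralizer_iff]
      intro z hz
      rw [Set.mem_singleton_iff] at hz
      subst hz
      have hcd : π (c⁻¹ * z * c) ∈ Cfsg.pCore p (G ⧸ C) := by
        have := (pCore_normal p (G ⧸ C)).conj_mem _ hq (π c)⁻¹
        simpa only [map_mul, map_inv, inv_inv] using this
      have h1 := hD1 _ hcd a' ha'
      rw [← hc]
      calc z * (c * a' * c⁻¹) = c * ((c⁻¹ * z * c) * a') * c⁻¹ := by group
        _ = c * (a' * (c⁻¹ * z * c)) * c⁻¹ := by rw [h1]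
        _ = c * a' * c⁻¹ * z := by group
    have := hle hv'
    rw [Subgroup.mem_centralizer_iff] at this
    exact (this d rfl).symm
  -- stability
  have hst : Cfsg.IsPStableOn p V := Cfsg.Agent.Lib.Lead_StabG.stableG p hp h2' V hVp
  -- the datum
  have hD := Cfsg.Agent.Lib.Lead_ZJ.FE_datum p (P : Subgroup G) (P : Subgroup G) le_rfl
    (fun u _ g h => h)
  -- every member of `F` contains `V`
  have hcentr : ∀ A ∈ Cfsg.Agent.Lib.Lead_ZJ.FE p (P : Subgroup G),
      (∀ b ∈ V, ∀ a ∈ A, b * a * b⁻¹ ∈ A) → V ≤ A := by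
    intro A hA hnorm
    have hAc : ∀ a ∈ A, ∀ b ∈ A, a * b = b * a := hD.comm A hA
    have hAC : ∀ a ∈ A, a ∈ C := by
      intro a ha
      have hquad : ⁅⁅V, Subgroup.zpowers a⁆, Subgroup.zpowers a⁆ = ⊥ := by
        have hzA : Subgroup.zpowers a ≤ A := Subgroup.zpowers_le.2 ha
        have h1 : ⁅V, Subgroup.zpowers a⁆ ≤ A := by
          rw [Subgroup.commutator_le]
          intro v hv z hz
          rw [commutatorElement_def]
          exact A.mul_mem (hnorm v hv z (hzA hz)) (A.inv_mem (hzA hz))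
        rw [eq_bot_iff]
        calc ⁅⁅V, Subgroup.zpowers a⁆, Subgroup.zpowers a⁆ ≤ ⁅A, A⁆ :=
              Subgroup.commutator_mono h1 hzA
          _ ≤ ⊥ := by
            rw [Subgroup.commutator_le]
            intro u hu w hw
            rw [commutatorElement_def, Subgroup.mem_bot, hAc u hu w hw]; group
      have hmem := hst a hquad
      rw [hOp, Subgroup.mem_bot] at hmem
      exact (QuotientGroup.eq_one_iff a).1 hmem
    intro v hv
    apply hD.maxl A hA v (hVP hv) (hVexp v hv)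
    intro u hu
    exact (Subgroup.mem_centralizer_iff.1 (hAC u hu)) v hv
  have hVU : ∀ U ∈ Cfsg.Agent.Lib.Lead_ZJ.FE p (P : Subgroup G), V ≤ U := by
    intro U hU
    by_contra hnU
    have hBU : ⁅V, V⁆ ≤ U := by
      have : ⁅V, V⁆ = ⊥ := by
        rw [eq_bot_iff, Subgroup.commutator_le]
        intro a ha b hb
        rw [commutatorElement_def, Subgroup.mem_bot, hVc a ha b hb]; group
      rw [this]; exact bot_le
    obtain ⟨A, hA, hnA, hnorm⟩ :=
      Cfsg.Agent.Lib.Lead_ZJ.replacement_in_sylow hp P hD V hVP U hU hBU hnU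
    exact hnA (hcentr A hA hnorm)
  have hUC : ∀ U ∈ Cfsg.Agent.Lib.Lead_ZJ.FE p (P : Subgroup G), U ≤ C := by
    intro U hU u hu
    rw [hC, Subgroup.mem_centralizer_iff]
    intro v hv
    exact hD.comm U hU v (hVU U hU hv) u hu
  -- `J`
  have hJ : Cfsg.thompsonSubgroupOf p (P : Subgroup G) =
      sSup (Cfsg.Agent.Lib.Lead_ZJ.FE p (P : Subgroup G)) :=
    Cfsg.Agent.Lib.Lead_ZJ.thompsonE_eq p (P : Subgroup G)
  -- Frattini
  set Q := (P : Subgroup G) ⊓ C with hQ
  have hFEeq : Cfsg.Agent.Lib.Lead_ZJ.FE p Q = Cfsg.Agent.Lib.Lead_ZJ.FE p (P : Subgroup G) := by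
    obtain ⟨U₀, hU₀⟩ := hD.ne
    have hU₀Q : U₀ ≤ Q := le_inf hU₀.1 (hUC U₀ hU₀)
    ext U
    constructor
    · rintro ⟨hUQ, hUe, hUmax⟩
      refine ⟨hUQ.trans inf_le_left, hUe, ?_⟩
      intro V' hV' hV'e
      exact (hU₀.2.2 V' hV' hV'e).trans (hUmax U₀ hU₀Q hU₀.2.1)
    · intro hU
      refine ⟨le_inf hU.1 (hUC U hU), hU.2.1, ?_⟩
      intro V' hV' hV'e
      exact hU.2.2 V' (hV'.trans inf_le_left) hV'e
  have hNJ : Subgroup.normalizer (Q : Set G) ≤
      Subgroup.normalizer (Cfsg.thompsonSubgroupOf p (P : Subgroup G) : Set G) := by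
    intro n hn
    have key : ∀ m ∈ Subgroup.normalizer (Q : Set G),
        ∀ y ∈ sSup (Cfsg.Agent.Lib.Lead_ZJ.FE p (P : Subgroup G)),
        m * y * m⁻¹ ∈ sSup (Cfsg.Agent.Lib.Lead_ZJ.FE p (P : Subgroup G)) := by
      intro m hm
      apply Cfsg.Agent.Lib.Lead_ZJ.conj_sSup
      intro U hU
      have hQm : Q.map (MulAut.conj m).toMonoidHom = Q :=
        Cfsg.Agent.Lib.Lead_OddQuad2.map_conj_eq m Q
          (fun g hg => (Subgroup.mem_normalizer_iff.mp hm g).mp hg)
          (fun g hg => by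
            have := (Subgroup.mem_normalizer_iff.mp (Subgroup.inv_mem _ hm) g).mp hg
            rwa [inv_inv] at this)
      have h1 := Cfsg.Agent.Lib.Lead_ZJ.FE_map p (MulAut.conj m) Q U (by rw [hFEeq]; exact hU)
      rw [hQm, hFEeq] at h1
      exact h1
    rw [hJ, Subgroup.mem_normalizer_iff]
    intro y
    constructor
    · intro hy; exact key n hn y hy
    · intro hy
      have := key n⁻¹ (Subgroup.inv_mem _ hn) _ hy
      have e : n⁻¹ * (n * y * n⁻¹) * n⁻¹⁻¹ = y := by group
      rwa [e] at this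
  have hfr := Sylow.normalizer_sup_eq_top (Cfsg.Agent.Lib.Helper5_Residual.sylowInfNormal P C)
  rw [Cfsg.Agent.Lib.Helper5_Residual.map_sylowInfNormal] at hfr
  have hg : g ∈ ((Subgroup.normalizer (Q : Set G) ⊔ C : Subgroup G) : Set G) := by
    rw [hfr]; trivial
  rw [Subgroup.mul_normal] at hg
  obtain ⟨a, ha, c, hc, rfl⟩ := hg
  refine ⟨a, hNJ ha, c, ?_, rfl⟩
  rw [Subgroup.mem_centralizer_iff]
  intro x hx
  exact (Subgroup.mem_centralizer_iff.1 hc) x (hZ₁V hx)

end Cfsg.Agent.S0109
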