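import Cfsg.Statements.S0115
import Mathlib
import Cfsg.Agent.Lib.Helper6_MaxClass2

set_option autoImplicit false
open Cfsg

namespace Cfsg.Agent.S0115

open Cfsg.Agent.Lib.Helper6_MaxClass Cfsg.Agent.Lib.Helper6_MaxClass2
open scoped commutatorElement

universe u

/-- Taussky: a 2-group of order `2^n ≥ 8` whose commutator subgroup has index 4 is of maximal
class. -/
theorem taussky : ∀ (n : ℕ) (X : Type u) [Group X] [Finite X], 3 ≤ n →
    Nat.card X = 2 ^ n → (commutator X).index = 4 → Group.nilpotencyClass X = n - 1 := by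
  intro n
  induction n with
  | zero => intro X _ _ hn; omega
  | succ n ih =>
    intro X _ _ hn hX hidx
    have hXp : IsPGroup 2 X := IsPGroup.of_card hX
    have hnil : Group.IsNilpotent X := hXp.isNilpotent
    have hnt : Nontrivial X := by
      rw [← Finite.one_lt_card_iff_nontrivial, hX]
      exact Nat.one_lt_pow (by omega) (by norm_num)
    have hpow : 2 ^ (n + 1) = 2 ^ (n - 1) * 4 := by
      have h1 : n + 1 = (n - 1) + 2 := by omega
      rw [h1, pow_add]; norm_num
    have hcardD : Nat.card (commutator X) = 2 ^ (n - 1) := by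
      have h1 := Subgroup.card_mul_index (commutator X)
      rw [hidx, hX, hpow] at h1
      omega
    have hD0 : commutator X ≠ ⊥ := by
      intro h
      rw [h, Subgroup.card_bot] at hcardD
      have : 2 ^ 1 ≤ 2 ^ (n - 1) := Nat.pow_le_pow_right (by norm_num) (by omega)
      omega
    have hna : ¬ IsMulCommutative X := fun h => hD0 ((commutator_eq_bot_iff X).mpr h)
    by_cases hn3 : n + 1 = 3
    · have h1 := class_le 2 (n + 1) X hX (by omega)
      have h2 : ¬ Group.nilpotencyClass X ≤ 1 := fun h =>
        hna (Group.IsNilpotent.nilpotencyClass_le_one_iff.mp h)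
      omega
    · obtain ⟨a, haD, hac, ha1⟩ :=
        Cfsg.Agent.Lib.Helper4_Kieler0.normal_inf_center_ne_bot' (commutator X) hD0
      have hK2 : 2 ∣ Nat.card (commutator X ⊓ Subgroup.center X : Subgroup X) := by
        obtain ⟨k, hk⟩ := (hXp.to_subgroup (commutator X ⊓ Subgroup.center X)).exists_card_eq
        have hk0 : k ≠ 0 := by
          intro h
          rw [h, pow_zero] at hk
          have h1 := Subgroup.card_eq_one.mp hk
          have haK : a ∈ commutator X ⊓ Subgroup.center X := ⟨haD, hac⟩
          rw [h1] at haK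
          exact ha1 (Subgroup.mem_bot.mp haK)
        rw [hk]; exact dvd_pow_self 2 hk0
      obtain ⟨⟨y, hyK⟩, hy⟩ := exists_prime_orderOf_dvd_card' 2 hK2
      have hy2 : orderOf y = 2 := by rw [← hy]; exact (Subgroup.orderOf_mk y hyK).symm
      obtain ⟨N, hNdef⟩ : ∃ N : Subgroup X, N = Subgroup.zpowers y := ⟨_, rfl⟩
      have hNcard : Nat.card N = 2 := by rw [hNdef, Nat.card_zpowers, hy2]
      have hNle : N ≤ commutator X := by rw [hNdef, Subgroup.zpowers_le]; exact hyK.1
      have hNZ : N ≤ Subgroup.center X := by rw [hNdef, Subgroup.zpowers_le]; exact hyK.2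
      have hNn : N.Normal := by
        constructor
        intro b hb g
        have h1 := Subgroup.mem_center_iff.mp (hNZ hb) g
        rw [h1, mul_assoc, mul_inv_cancel, mul_one]
        exact hb
      have hπs : Function.Surjective (QuotientGroup.mk' N) := QuotientGroup.mk'_surjective N
      have hQcard : Nat.card (X ⧸ N) = 2 ^ n := by
        have h1 := Subgroup.card_eq_card_quotient_mul_card_subgroup N
        rw [hX, hNcard, pow_succ] at h1
        omega
      have hQidx : (commutator (X ⧸ N)).index = 4 := by
        have h1 : (commutator X).map (QuotientGroup.mk' N) = commutator (X ⧸ N) := by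
          rw [commutator_def, Subgroup.map_commutator,
            Subgroup.map_top_of_surjective _ hπs, ← commutator_def]
        rw [← h1, Subgroup.index_map_eq _ hπs (by rw [QuotientGroup.ker_mk']; exact hNle), hidx]
      have hQclass := ih (X ⧸ N) (by omega) hQcard hQidx
      obtain ⟨Cb, hCbcyc, hCbidx⟩ :=
        exists_cyclic_index_two n (X ⧸ N) (by omega) hQcard hQclass
      have hHidx : (Cb.comap (QuotientGroup.mk' N)).index = 2 := by
        rw [Subgroup.index_comap_of_surjective Cb hπs, hCbidx]
      have hHab : ∀ a ∈ Cb.comap (QuotientGroup.mk' N), ∀ b ∈ Cb.comap (QuotientGroup.mk' N),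
          a * b = b * a := by
        obtain ⟨g, hgen⟩ := hCbcyc.exists_generator
        obtain ⟨h, hh⟩ := hπs (g : X ⧸ N)
        have hHel : ∀ y ∈ Cb.comap (QuotientGroup.mk' N), ∃ k : ℤ, ∃ w ∈ N, y = h ^ k * w := by
          intro y hy
          have hy' : (QuotientGroup.mk' N) y ∈ Cb := hy
          obtain ⟨k, hk⟩ := Subgroup.mem_zpowers_iff.mp (hgen ⟨_, hy'⟩)
          have h1 : (QuotientGroup.mk' N) (h ^ k) = (QuotientGroup.mk' N) y := by
            rw [map_zpow, hh]
            have := congrArg Subtype.val hk
            rw [Subgroup.coe_zpow] at this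
            exact this
          have h2 : (h ^ k)⁻¹ * y ∈ N := by
            rw [← QuotientGroup.eq]; exact h1
          exact ⟨k, _, h2, by group⟩
        intro a ha b hb
        obtain ⟨i, w₁, hw₁, rfl⟩ := hHel a ha
        obtain ⟨j, w₂, hw₂, rfl⟩ := hHel b hb
        have e1 := Subgroup.mem_center_iff.mp (hNZ hw₁)
        have e2 := Subgroup.mem_center_iff.mp (hNZ hw₂)
        have e3 : h ^ i * h ^ j = h ^ j * h ^ i := by rw [← zpow_add, ← zpow_add, add_comm]
        calc h ^ i * w₁ * (h ^ j * w₂) = h ^ i * (w₁ * h ^ j) * w₂ := by group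
          _ = h ^ i * (h ^ j * w₁) * w₂ := by rw [← e1 (h ^ j)]
          _ = (h ^ i * h ^ j) * (w₁ * w₂) := by group
          _ = (h ^ j * h ^ i) * (w₂ * w₁) := by rw [e3, e1 w₂]
          _ = h ^ j * (h ^ i * w₂) * w₁ := by group
          _ = h ^ j * (w₂ * h ^ i) * w₁ := by rw [e2 (h ^ i)]
          _ = h ^ j * w₂ * (h ^ i * w₁) := by group
      have hcard := card_of_abelian_index_two _ hHidx hHab hna
      have hZcard : Nat.card (Subgroup.center X) = 2 := by
        rw [hX, hcardD, hpow] at hcard
        have h1 : 0 < 2 ^ (n - 1) := pow_pos (by norm_num) _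
        have h2 : 2 ^ (n - 1) * 4 = 2 ^ (n - 1) * (2 * Nat.card (Subgroup.center X)) := by
          rw [hcard]; ring
        have h3 := Nat.eq_of_mul_eq_mul_left h1 h2
        omega
      have hNeq : N = Subgroup.center X :=
        Subgroup.eq_of_le_of_card_ge hNZ (by rw [hZcard, hNcard])
      have hclass : Group.nilpotencyClass X
          = Group.nilpotencyClass (X ⧸ Subgroup.center X) + 1 :=
        Group.nilpotencyClass_eq_quotient_center_plus_one
      subst hNeq
      rw [hclass, hQclass]
      omega

/-- A 2-group of order 2^n, n ≥ 3, is of maximal class exactly when its commutator quotient is a Klein four-group. -/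
theorem result {X : Type*} [Group X] [Finite X] (n : ℕ) (hn : 3 ≤ n) (hX : Nat.card X = 2 ^ n) : Group.nilpotencyClass X = n - 1 ↔ IsKleinFour (X ⧸ commutator X) := by
  constructor
  · intro hc
    obtain ⟨c, x, hord, hx, hCidx, hZC, hxx, hd, hsq⟩ := maxclass_structure n hn hX hc
    obtain ⟨hZcard, -, -⟩ := center_of_maxclass 2 n hn hX hc
    have hXp : IsPGroup 2 X := IsPGroup.of_card hX
    have hnil : Group.IsNilpotent X := hXp.isNilpotent
    have hna : ¬ IsMulCommutative X := by
      intro h
      have := Group.IsNilpotent.nilpotencyClass_le_one_iff.mpr h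
      omega
    have hab : ∀ a ∈ Subgroup.zpowers c, ∀ b ∈ Subgroup.zpowers c, a * b = b * a := by
      intro a ha b hb
      obtain ⟨i, rfl⟩ := Subgroup.mem_zpowers_iff.mp ha
      obtain ⟨j, rfl⟩ := Subgroup.mem_zpowers_iff.mp hb
      rw [← zpow_add, ← zpow_add, add_comm]
    have hcard := card_of_abelian_index_two _ hCidx hab hna
    rw [hZcard, hX] at hcard
    have hQcard : Nat.card (X ⧸ commutator X) = 4 := by
      have h1 := Subgroup.card_eq_card_quotient_mul_card_subgroup (commutator X)
      rw [hX, hcard] at h1
      have h2 : 0 < Nat.card (commutator X) := Nat.card_pos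
      have h3 : 4 * Nat.card (commutator X)
          = Nat.card (X ⧸ commutator X) * Nat.card (commutator X) := by
        rw [← h1]; ring
      exact (Nat.eq_of_mul_eq_mul_right h2 h3).symm
    have hD0 : commutator X ≠ ⊥ := fun h => hna ((commutator_eq_bot_iff X).mp h)
    obtain ⟨z, hzZ, hz1, hz2, hzall⟩ := exists_of_card_two _ hZcard
    have hZD : Subgroup.center X ≤ commutator X := by
      obtain ⟨a, haD, hac, ha1⟩ :=
        Cfsg.Agent.Lib.Helper4_Kieler0.normal_inf_center_ne_bot' (commutator X) hD0
      have haz : a = z := by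
        rcases hzall a hac with h | h
        · exact absurd h ha1
        · exact h
      intro w hw
      rcases hzall w hw with h | h
      · rw [h]; exact Subgroup.one_mem _
      · rw [h, ← haz]; exact haD
    have hc2 : c * c ∈ commutator X := by
      have h1 : ⁅x, c⁻¹⁆ ∈ commutator X := by
        rw [commutator_def]
        exact Subgroup.commutator_mem_commutator (Subgroup.mem_top x) (Subgroup.mem_top _)
      have h2 : c * c = (c * (x * c * x⁻¹)) * ⁅x, c⁻¹⁆ := by
        rw [commutatorElement_def]; group
      rw [h2]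
      exact Subgroup.mul_mem _ (hZD hd) h1
    have hsqall : ∀ g : X, g * g ∈ commutator X := by
      intro g
      by_cases hg : g ∈ Subgroup.zpowers c
      · obtain ⟨k, rfl⟩ := Subgroup.mem_zpowers_iff.mp hg
        have h1 : c ^ k * c ^ k = (c * c) ^ k := by
          rw [← zpow_add, ← pow_two, ← zpow_natCast, ← zpow_mul]
          congr 1; ring
        rw [h1]
        exact Subgroup.zpow_mem _ hc2 k
      · exact hZD (hsq g hg)
    refine ⟨hQcard, ?_⟩
    have h1 : Monoid.exponent (X ⧸ commutator X) ∣ 2 := by
      apply Monoid.exponent_dvd_of_forall_pow_eq_one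
      intro q
      obtain ⟨g, rfl⟩ := QuotientGroup.mk_surjective q
      rw [pow_two, ← QuotientGroup.mk_mul]
      exact (QuotientGroup.eq_one_iff _).mpr (hsqall g)
    rcases (Nat.dvd_prime Nat.prime_two).mp h1 with h | h
    · exfalso
      have h2 : Subsingleton (X ⧸ commutator X) := Monoid.exp_eq_one_iff.mp h
      have h3 : Nat.card (X ⧸ commutator X) = 1 := Nat.card_eq_one_iff_unique.mpr
        ⟨h2, ⟨1⟩⟩
      omega
    · exact h
  · intro hK
    apply taussky n X hn hX
    rw [Subgroup.index_eq_card]
    exact hK.card_four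

end Cfsg.Agent.S0115
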