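import Cfsg.Statements.S0119
import Mathlib
import Cfsg.Agent.S0093
import Cfsg.Agent.Lib.Helper6_CoprimeAvg
import Cfsg.Agent.Lib.Helper7_PFrattini
import Cfsg.Agent.Lib.Helper4_Frattini

set_option autoImplicit false
open Cfsg

namespace Cfsg.Agent.S0119

open scoped commutatorElement

/-- If a p'-group A of automorphisms of a p-group G satisfies G = [G, A] and acts trivially on every characteristic abelian subgroup, then G is special with centre equal to the fixed points of A. -/
theorem result {G : Type*} [Group G] [Finite G] {p : ℕ} [Fact p.Prime] (hG : IsPGroup p G) (A : Subgroup (MulAut G)) (hA : Nat.Coprime (Nat.card A) p) (hGA : Subgroup.closure {x : G | ∃ g : G, ∃ a ∈ A, x = g⁻¹ * a g} = ⊤) (hchar : ∀ H : Subgroup G, H.Characteristic → IsMulCommutative H → ∀ a ∈ A, ∀ h ∈ H, a h = h) : Cfsg.IsSpecial p G ∧ (∀ g : G, (g ∈ Subgroup.center G ↔ ∀ a ∈ A, a g = g)) := by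
  classical
  have hpp := (Fact.out : p.Prime)
  set Z := Subgroup.center G with hZ
  -- (i) every characteristic abelian subgroup is central
  have hcentral : ∀ B : Subgroup G, B.Characteristic → IsMulCommutative B → B ≤ Z := by
    intro B hBc hBa b hb
    have hBn : B.Normal := inferInstance
    have h1 : Subgroup.closure {x : G | ∃ g : G, ∃ a ∈ A, x = g⁻¹ * a g}
        ≤ Subgroup.centralizer {b} := by
      rw [Subgroup.closure_le]
      rintro _ ⟨x, a, ha, rfl⟩
      rw [SetLike.mem_coe, Subgroup.mem_centralizer_singleton_iff]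
      have h2 : x * b * x⁻¹ ∈ B := hBn.conj_mem b hb x
      have h3 := hchar B hBc hBa a ha _ h2
      rw [map_mul, map_mul, map_inv, hchar B hBc hBa a ha b hb] at h3
      -- h3 : a x * b * (a x)⁻¹ = x * b * x⁻¹
      calc x⁻¹ * a x * b = x⁻¹ * (a x * b * (a x)⁻¹) * a x := by group
        _ = x⁻¹ * (x * b * x⁻¹) * a x := by rw [h3]
        _ = b * (x⁻¹ * a x) := by group
    rw [hGA] at h1
    rw [hZ, Subgroup.mem_center_iff]
    intro g
    have h4 := h1 (Subgroup.mem_top g)
    rw [Subgroup.mem_centralizer_singleton_iff] at h4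
    exact h4
  -- the critical subgroup
  obtain ⟨H, hHchar, hHfr, hHcomm, hHcent⟩ := Cfsg.Agent.S0093.result hG
  have hZH : H ⊓ Subgroup.centralizer (H : Set G) ≤ Z := by
    apply hcentral
    · infer_instance
    · refine ⟨⟨fun a b => ?_⟩⟩
      apply Subtype.ext
      have h1 := (Subgroup.mem_inf.mp a.2).2
      rw [Subgroup.mem_centralizer_iff] at h1
      exact (h1 b (Subgroup.mem_inf.mp b.2).1).symm
  have hcentH : Subgroup.centralizer (H : Set G) = Z := by
    apply le_antisymm
    · intro x hx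
      exact hZH ⟨hHcent hx, hx⟩
    · exact Subgroup.center_le_centralizer _
  have hZc : ∀ z ∈ Z, ∀ g : G, g * z = z * g := fun z hz g => Subgroup.mem_center_iff.mp hz g
  -- conjugation on H is multiplication by a central element
  have hconj : ∀ x : G, ∀ h ∈ H, ∃ c ∈ Z, x * h * x⁻¹ = h * c := by
    intro x h hh
    refine ⟨h⁻¹ * (x * h * x⁻¹), ?_, by group⟩
    have h1 : ⁅h⁻¹, x⁆ ∈ ⁅H, (⊤ : Subgroup G)⁆ :=
      Subgroup.commutator_mem_commutator (H.inv_mem hh) (Subgroup.mem_top x)
    have h2 := hZH (hHcomm h1)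
    rw [commutatorElement_def, inv_inv] at h2
    have h3 : h⁻¹ * (x * h * x⁻¹) = h⁻¹ * x * h * x⁻¹ := by group
    rw [h3]; exact h2
  -- commutators are central
  have hcomm : ∀ x y : G, ⁅x, y⁆ ∈ Z := by
    have key : ∀ x y : G, x⁻¹ * y⁻¹ * x * y ∈ Z := by
      intro x y
      rw [← hcentH, Subgroup.mem_centralizer_iff]
      intro h hh
      obtain ⟨c1, hc1, e1⟩ := hconj x h hh
      obtain ⟨c2, hc2, e2⟩ := hconj y h hh
      have E1 : x * y * h * y⁻¹ * x⁻¹ = h * c1 * c2 := by
        calc x * y * h * y⁻¹ * x⁻¹ = x * (y * h * y⁻¹) * x⁻¹ := by group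
          _ = x * (h * c2) * x⁻¹ := by rw [e2]
          _ = x * h * (c2 * x⁻¹) := by group
          _ = x * h * (x⁻¹ * c2) := by rw [← hZc c2 hc2 x⁻¹]
          _ = (x * h * x⁻¹) * c2 := by group
          _ = h * c1 * c2 := by rw [e1]
      have E2 : y * x * h * x⁻¹ * y⁻¹ = h * c1 * c2 := by
        calc y * x * h * x⁻¹ * y⁻¹ = y * (x * h * x⁻¹) * y⁻¹ := by group
          _ = y * (h * c1) * y⁻¹ := by rw [e1]
          _ = y * h * (c1 * y⁻¹) := by group
          _ = y * h * (y⁻¹ * c1) := by rw [← hZc c1 hc1 y⁻¹]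
          _ = (y * h * y⁻¹) * c1 := by group
          _ = h * c2 * c1 := by rw [e2]
          _ = h * (c2 * c1) := by group
          _ = h * (c1 * c2) := by rw [hZc c1 hc1 c2]
          _ = h * c1 * c2 := by group
      have E : x * y * h * y⁻¹ * x⁻¹ = y * x * h * x⁻¹ * y⁻¹ := E1.trans E2.symm
      calc h * (x⁻¹ * y⁻¹ * x * y) = x⁻¹ * y⁻¹ * (y * x * h * x⁻¹ * y⁻¹) * x * y := by group
        _ = x⁻¹ * y⁻¹ * (x * y * h * y⁻¹ * x⁻¹) * x * y := by rw [E]
        _ = x⁻¹ * y⁻¹ * x * y * h := by group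
    intro x y
    have h1 := key x⁻¹ y⁻¹
    rw [inv_inv, inv_inv] at h1
    rw [commutatorElement_def]
    exact h1
  -- p-th powers are central
  have hHp : IsPGroup p H := hG.to_subgroup H
  have hpow : ∀ x : G, x ^ p ∈ Z := by
    intro x
    rw [← hcentH, Subgroup.mem_centralizer_iff]
    intro h hh
    obtain ⟨c, hc, e⟩ := hconj x h hh
    have hck : ∀ k : ℕ, x ^ k * h * (x ^ k)⁻¹ = h * c ^ k := by
      intro k
      induction k with
      | zero => simp
      | succ k ih =>
        calc x ^ (k + 1) * h * (x ^ (k + 1))⁻¹ = x * (x ^ k * h * (x ^ k)⁻¹) * x⁻¹ := by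
              rw [pow_succ']; group
          _ = x * (h * c ^ k) * x⁻¹ := by rw [ih]
          _ = x * h * (c ^ k * x⁻¹) := by group
          _ = x * h * (x⁻¹ * c ^ k) := by rw [← hZc (c ^ k) (Z.pow_mem hc k) x⁻¹]
          _ = (x * h * x⁻¹) * c ^ k := by group
          _ = h * c ^ (k + 1) := by rw [e, pow_succ']; group
    -- c ^ p = 1
    have hhp : h ^ p ∈ Z := by
      have h1 : (⟨h, hh⟩ : H) ^ p ∈ frattini H :=
        Cfsg.Agent.Lib.Helper7_PFrattini.pow_mem_frattini hHp _
      have h2 : ((⟨h, hh⟩ : H) ^ p : H).1 ∈ (frattini H).map H.subtype :=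
        ⟨_, h1, rfl⟩
      have h3 := hHfr h2
      rw [hcentH] at h3
      exact h3
    have hcp : c ^ p = 1 := by
      have h1 : x * h ^ p * x⁻¹ = (h * c) ^ p := by
        rw [← e, ← MulAut.conj_apply, map_pow, MulAut.conj_apply]
      have h2 : (h * c) ^ p = h ^ p * c ^ p := (show Commute h c from hZc c hc h).mul_pow p
      have h3 : x * h ^ p * x⁻¹ = h ^ p := by
        rw [hZc _ hhp x]; group
      rw [h3, h2] at h1
      exact (mul_eq_left.mp h1.symm)
    have h4 := hck p
    rw [hcp, mul_one] at h4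
    calc h * x ^ p = (x ^ p * h * (x ^ p)⁻¹) * x ^ p := by rw [h4]
      _ = x ^ p * h := by group
  have hZn : Z.Normal := inferInstance
  have hcommZ : commutator G ≤ Z := by
    rw [commutator_def, Subgroup.commutator_le]
    intro x _ y _
    exact hcomm x y
  have hfrZ : frattini G ≤ Z :=
    Cfsg.Agent.Lib.Helper4_Frattini.frattini_le_of_elementary_quotient (p := p) Z hcomm hpow
  -- fixed points
  have hAfin : Finite A := inferInstance
  have hZfix : ∀ z ∈ Z, ∀ a ∈ A, a z = z := by
    intro z hz a ha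
    exact hchar Z inferInstance inferInstance a ha z hz
  have hZle : Z ≤ commutator G := by
    intro z hz
    have h1 := Cfsg.Agent.Lib.Helper6_CoprimeAvg.fixed_trivial (p := p)
      (Q := Abelianization G) (fun a b => mul_comm a b) Abelianization.of A hA
      (hG.to_quotient (commutator G)) hGA z (by
        intro a ha
        rw [hZfix z hz a ha])
    have h2 : z ∈ (Abelianization.of : G →* Abelianization G).ker := h1
    rw [Abelianization.ker_of] at h2
    exact h2
  have hfix : ∀ g : G, (∀ a ∈ A, a g = g) → g ∈ Z := by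
    intro g hg
    have hcq : ∀ a b : G ⧸ Z, a * b = b * a := by
      intro a b
      obtain ⟨a, rfl⟩ := QuotientGroup.mk_surjective a
      obtain ⟨b, rfl⟩ := QuotientGroup.mk_surjective b
      rw [← QuotientGroup.mk_mul, ← QuotientGroup.mk_mul, QuotientGroup.eq]
      have h1 := hcomm b⁻¹ a⁻¹
      rw [commutatorElement_def, inv_inv, inv_inv] at h1
      have h2 : (a * b)⁻¹ * (b * a) = b⁻¹ * a⁻¹ * b * a := by group
      rw [h2]; exact h1
    have h1 := Cfsg.Agent.Lib.Helper6_CoprimeAvg.fixed_trivial (p := p)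
      (Q := G ⧸ Z) hcq (QuotientGroup.mk' Z) A hA
      (hG.to_quotient _) hGA g (by
        intro a ha
        rw [hg a ha])
    exact (QuotientGroup.eq_one_iff g).mp h1
  have hcommeq : commutator G = Z := le_antisymm hcommZ hZle
  have hfreq : frattini G = Z := by
    apply le_antisymm hfrZ
    rw [← hcommeq, commutator_def, Subgroup.commutator_le]
    intro x _ y _
    rw [commutatorElement_def]
    exact Cfsg.Agent.Lib.Helper7_PFrattini.comm_mem_frattini hG x y
  exact ⟨⟨hG, hfreq, hcommeq⟩, fun g => ⟨fun hg a ha => hZfix g hg a ha, hfix g⟩⟩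

end Cfsg.Agent.S0119
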