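import Cfsg.Statements.S0121
import Mathlib

set_option autoImplicit false
open Cfsg

namespace Cfsg.Agent.S0121

open scoped commutatorElement

/-- A p'-automorphism of a p-group acting trivially on a critical subgroup is trivial. -/
theorem result {G : Type*} [Group G] [Finite G] {p : ℕ} [Fact p.Prime] (hG : IsPGroup p G) (H : Subgroup G) (hH : H.Characteristic) (h1 : (frattini H).map H.subtype ≤ Subgroup.centralizer (H : Set G)) (h2 : ⁅H, (⊤ : Subgroup G)⁆ ≤ H ⊓ Subgroup.centralizer (H : Set G)) (h3 : Subgroup.centralizer (H : Set G) ≤ H) (a : MulAut G) (ha : Nat.Coprime (orderOf a) p) (h : ∀ x ∈ H, a x = x) : a = 1 := by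
  classical
  have hpp : p.Prime := Fact.out
  ext g
  show a g = g
  -- c = a g * g⁻¹ centralizes H
  have hcH : a g * g⁻¹ ∈ Subgroup.centralizer (H : Set G) := by
    rw [Subgroup.mem_centralizer_iff]
    intro x hx
    have hconj : g⁻¹ * x * g ∈ H := by
      -- use normality of H (characteristic)
      haveI : H.Normal := Subgroup.normal_of_characteristic H
      have := (inferInstance : H.Normal).conj_mem x hx g⁻¹
      simpa using this
    have h4 : a (g⁻¹ * x * g) = g⁻¹ * x * g := h _ hconj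
    rw [map_mul, map_mul, map_inv, h x hx] at h4
    -- (a g)⁻¹ x (a g) = g⁻¹ x g
    calc x * (a g * g⁻¹) = a g * ((a g)⁻¹ * x * a g) * g⁻¹ := by group
      _ = a g * (g⁻¹ * x * g) * g⁻¹ := by rw [h4]
      _ = a g * g⁻¹ * x := by group
  have hcmem : a g * g⁻¹ ∈ H := h3 hcH
  have hfix : a (a g * g⁻¹) = a g * g⁻¹ := h _ hcmem
  -- iterate
  have hiter : ∀ k : ℕ, (a ^ k) g = (a g * g⁻¹) ^ k * g := by
    intro k
    induction k with
    | zero => simp
    | succ k ih =>
      rw [pow_succ', MulAut.mul_apply, ih, map_mul, map_pow, hfix, pow_succ]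
      group
  have h5 := hiter (orderOf a)
  rw [pow_orderOf_eq_one, MulAut.one_apply] at h5
  have h6 : (a g * g⁻¹) ^ orderOf a = 1 := by
    have : (a g * g⁻¹) ^ orderOf a * g = 1 * g := by rw [one_mul]; exact h5.symm
    exact mul_right_cancel this
  obtain ⟨j, hj⟩ := hG (a g * g⁻¹)
  have hcop : Nat.Coprime (p ^ j) (orderOf a) := Nat.Coprime.pow_left _ ha.symm
  have h7 : orderOf (a g * g⁻¹) ∣ 1 := by
    rw [← Nat.Coprime.gcd_eq_one hcop]
    exact Nat.dvd_gcd (orderOf_dvd_of_pow_eq_one hj) (orderOf_dvd_of_pow_eq_one h6)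
  have h8 : a g * g⁻¹ = 1 := orderOf_eq_one_iff.mp (Nat.dvd_one.mp h7)
  exact mul_inv_eq_one.mp h8

end Cfsg.Agent.S0121
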