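import Cfsg.Statements.S0125
import Mathlib
import Cfsg.Agent.Lib.Lead_Coprime
import Cfsg.Agent.Lib.Lead_SZ

set_option autoImplicit false
open Cfsg

namespace Cfsg.Agent.S0125


theorem card_sup_mul_card_inf {G : Type*} [Group G] [Finite G] (H N : Subgroup G)
    (hLE : H ≤ Subgroup.normalizer (N : Set G)) :
    Nat.card (H ⊔ N : Subgroup G) * Nat.card (H ⊓ N : Subgroup G) = Nat.card H * Nat.card N := by
  have h1 := Cfsg.Agent.Lib.Lead_Coprime.relIndex_sup_of_le_normalizer H N hLE
  have h2 : Nat.card N * N.relIndex (H ⊔ N) = Nat.card (H ⊔ N : Subgroup G) := by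
    have := Subgroup.card_mul_index (N.subgroupOf (H ⊔ N))
    rwa [Cfsg.Agent.Lib.Lead_SZ.card_subgroupOf_of_le (le_sup_right : N ≤ H ⊔ N)] at this
  have h3 : Nat.card (H ⊓ N : Subgroup G) * N.relIndex H = Nat.card H := by
    have := Subgroup.card_mul_index ((H ⊓ N).subgroupOf H)
    rw [Cfsg.Agent.Lib.Lead_SZ.card_subgroupOf_of_le (inf_le_left : H ⊓ N ≤ H)] at this
    rw [← Subgroup.inf_relIndex_left]
    exact this
  rw [← h2, h1, ← h3]; ring


/-- The centralizer of a self-centralizing normal subgroup A of a Sylow p-subgroup is the direct product of A with a normal p'-subgroup. -/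
theorem result {G : Type*} [Group G] [Finite G] {p : ℕ} [Fact p.Prime] (R : Sylow p G) (A : Subgroup G) (hAR : A ≤ (R : Subgroup G)) (hAn : (R : Subgroup G) ≤ Subgroup.normalizer (A : Set G)) (hC : (R : Subgroup G) ⊓ Subgroup.centralizer (A : Set G) = A) : ∃ H : Subgroup G, H ≤ Subgroup.centralizer (A : Set G) ∧ Nat.Coprime (Nat.card H) p ∧ Subgroup.centralizer (A : Set G) ≤ Subgroup.normalizer (H : Set G) ∧ H ⊓ A = ⊥ ∧ H ⊔ A = Subgroup.centralizer (A : Set G) := by
  classical
  have hpp : p.Prime := Fact.out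
  have hAC : A ≤ Subgroup.centralizer (A : Set G) := by
    intro a ha
    have : a ∈ (R : Subgroup G) ⊓ Subgroup.centralizer (A : Set G) := by rw [hC]; exact ha
    exact this.2
  have hRC : (R : Subgroup G) ≤ Subgroup.normalizer (Subgroup.centralizer (A : Set G) : Set G) := by
    have key : ∀ r ∈ Subgroup.normalizer (A : Set G), ∀ c ∈ Subgroup.centralizer (A : Set G),
        r * c * r⁻¹ ∈ Subgroup.centralizer (A : Set G) := by
      intro r hr c hc
      rw [Subgroup.mem_centralizer_iff]
      intro a ha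
      have ha' : r⁻¹ * a * r ∈ A := by
        have := (Subgroup.mem_normalizer_iff.mp (Subgroup.inv_mem _ hr) a).mp ha
        rwa [inv_inv] at this
      have h1 := Subgroup.mem_centralizer_iff.mp hc _ ha'
      calc a * (r * c * r⁻¹) = r * ((r⁻¹ * a * r) * c) * r⁻¹ := by group
        _ = r * (c * (r⁻¹ * a * r)) * r⁻¹ := by rw [h1]
        _ = r * c * r⁻¹ * a := by group
    intro r hr
    refine Cfsg.Agent.Lib.Lead_Coprime.mem_normalizer_of_conj_mem (fun c hc => key r (hAn hr) c hc) ?_
    intro c hc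
    have := key r⁻¹ (Subgroup.inv_mem _ (hAn hr)) c hc
    rwa [inv_inv] at this
  -- index computation
  have hidx : ¬ p ∣ A.relIndex (Subgroup.centralizer (A : Set G)) := by
    have h1 := card_sup_mul_card_inf (R : Subgroup G) (Subgroup.centralizer (A : Set G)) hRC
    rw [hC] at h1
    have h2 : Nat.card A * A.relIndex (Subgroup.centralizer (A : Set G)) =
        Nat.card (Subgroup.centralizer (A : Set G)) := by
      have := Subgroup.card_mul_index (A.subgroupOf (Subgroup.centralizer (A : Set G)))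
      rwa [Cfsg.Agent.Lib.Lead_SZ.card_subgroupOf_of_le hAC] at this
    have h3 : Nat.card (R : Subgroup G) * (R : Subgroup G).relIndex ((R : Subgroup G) ⊔ Subgroup.centralizer (A : Set G)) =
        Nat.card ((R : Subgroup G) ⊔ Subgroup.centralizer (A : Set G) : Subgroup G) := by
      have := Subgroup.card_mul_index ((R : Subgroup G).subgroupOf ((R : Subgroup G) ⊔ Subgroup.centralizer (A : Set G)))
      rwa [Cfsg.Agent.Lib.Lead_SZ.card_subgroupOf_of_le le_sup_left] at this
    have h4 : A.relIndex (Subgroup.centralizer (A : Set G)) =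
        (R : Subgroup G).relIndex ((R : Subgroup G) ⊔ Subgroup.centralizer (A : Set G)) := by
      have hRpos : 0 < Nat.card (R : Subgroup G) := Nat.card_pos
      have hApos : 0 < Nat.card A := Nat.card_pos
      rw [← h3, ← h2] at h1
      have : (Nat.card (R : Subgroup G) * Nat.card A) * (R : Subgroup G).relIndex ((R : Subgroup G) ⊔ Subgroup.centralizer (A : Set G))
          = (Nat.card (R : Subgroup G) * Nat.card A) * A.relIndex (Subgroup.centralizer (A : Set G)) := by
        rw [← mul_assoc] at h1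
        rw [← h1]; ring
      exact (Nat.eq_of_mul_eq_mul_left (Nat.mul_pos hRpos hApos) this).symm
    rw [h4]
    intro hdvd
    exact R.not_dvd_index (hdvd.trans (Subgroup.relIndex_dvd_index_of_le le_sup_left))
  -- normality of A in its centralizer
  haveI hA'n : (A.subgroupOf (Subgroup.centralizer (A : Set G))).Normal := by
    constructor
    intro n hn g
    rw [Subgroup.mem_subgroupOf] at hn ⊢
    have h1 := Subgroup.mem_centralizer_iff.mp g.2 _ hn
    have : ((g * n * g⁻¹ : Subgroup.centralizer (A : Set G)) : G) = (n : G) := by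
      rw [Subgroup.coe_mul, Subgroup.coe_mul, Subgroup.coe_inv, ← h1, mul_inv_cancel_right]
    rw [this]; exact hn
  have hAp : IsPGroup p A := R.isPGroup'.to_le hAR
  obtain ⟨k, hk⟩ := hAp.exists_card_eq
  have hcop : Nat.Coprime (Nat.card (A.subgroupOf (Subgroup.centralizer (A : Set G))))
      (A.subgroupOf (Subgroup.centralizer (A : Set G))).index := by
    rw [Cfsg.Agent.Lib.Lead_SZ.card_subgroupOf_of_le hAC, hk]
    exact Nat.Coprime.pow_left _ ((Nat.Prime.coprime_iff_not_dvd hpp).mpr hidx)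
  obtain ⟨H', hH'⟩ := Subgroup.exists_right_complement'_of_coprime hcop
  have hdecomp : ∀ c ∈ Subgroup.centralizer (A : Set G), ∃ a ∈ A, ∃ h ∈ H'.map (Subgroup.centralizer (A : Set G)).subtype, c = a * h := by
    intro c hc
    obtain ⟨n, hn, k', hk', e⟩ := Cfsg.Agent.Lib.Lead_SZ.exists_mul_of_complement hH' ⟨c, hc⟩
    refine ⟨n, Subgroup.mem_subgroupOf.mp hn, k', ⟨k', hk', rfl⟩, ?_⟩
    have := congrArg Subtype.val e
    rwa [Subgroup.coe_mul] at this
  have hHC : H'.map (Subgroup.centralizer (A : Set G)).subtype ≤ Subgroup.centralizer (A : Set G) :=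
    Subgroup.map_subtype_le _
  refine ⟨H'.map (Subgroup.centralizer (A : Set G)).subtype, hHC, ?_, ?_, ?_, ?_⟩
  · rw [Subgroup.card_map_of_injective (Subgroup.subtype_injective _), ← hH'.symm.index_eq_card]
    exact (Nat.Prime.coprime_iff_not_dvd hpp).mpr hidx |>.symm
  · intro c hc
    obtain ⟨a, ha, h, hh, rfl⟩ := hdecomp c hc
    have hconj : ∀ x ∈ H'.map (Subgroup.centralizer (A : Set G)).subtype, ∀ a ∈ A, a * x * a⁻¹ = x := by
      intro x hx a ha
      have := Subgroup.mem_centralizer_iff.mp (hHC hx) a ha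
      rw [this, mul_inv_cancel_right]
    refine Cfsg.Agent.Lib.Lead_Coprime.mem_normalizer_of_conj_mem ?_ ?_
    · intro x hx
      have e : a * h * x * (a * h)⁻¹ = a * (h * x * h⁻¹) * a⁻¹ := by group
      have hx' : h * x * h⁻¹ ∈ H'.map (Subgroup.centralizer (A : Set G)).subtype :=
        Subgroup.mul_mem _ (Subgroup.mul_mem _ hh hx) (Subgroup.inv_mem _ hh)
      rw [e, hconj _ hx' a ha]; exact hx'
    · intro x hx
      have e : (a * h)⁻¹ * x * (a * h) = h⁻¹ * (a⁻¹ * x * a⁻¹⁻¹) * h := by group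
      rw [e, hconj x hx a⁻¹ (A.inv_mem ha)]
      exact Subgroup.mul_mem _ (Subgroup.mul_mem _ (Subgroup.inv_mem _ hh) hx) hh
  · rw [eq_bot_iff]
    rintro x ⟨⟨h', hh', rfl⟩, hxA⟩
    have : h' ∈ A.subgroupOf (Subgroup.centralizer (A : Set G)) ⊓ H' :=
      Subgroup.mem_inf.mpr ⟨Subgroup.mem_subgroupOf.mpr hxA, hh'⟩
    rw [hH'.disjoint.eq_bot, Subgroup.mem_bot] at this
    rw [Subgroup.mem_bot, this]; rfl
  · apply le_antisymm (sup_le hHC hAC)
    intro c hc
    obtain ⟨a, ha, h, hh, rfl⟩ := hdecomp c hc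
    exact Subgroup.mul_mem _ (Subgroup.mem_sup_right ha) (Subgroup.mem_sup_left hh)

end Cfsg.Agent.S0125
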