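import Cfsg.Statements.S0130
import Mathlib
import Cfsg.Agent.Lib.Helper7_OmegaAut
import Cfsg.Agent.Lib.Helper6_PNormal

set_option autoImplicit false
open Cfsg

namespace Cfsg.Agent.S0130

open scoped commutatorElement
open Cfsg.Agent.Lib.Helper7_OmegaAut

/-- If A is maximal among the normal abelian subgroups of exponent dividing p^n of a p-group (p^n ≠ 2), then A contains every element of order dividing p^n in its centralizer. -/
theorem result {G : Type*} [Group G] [Finite G] {p : ℕ} [Fact p.Prime] (hG : IsPGroup p G) (n : ℕ) (hn : p ^ n ≠ 2) (A : Subgroup G) [A.Normal] (hA : IsMulCommutative A) (hAe : ∀ a ∈ A, a ^ p ^ n = 1) (hmax : ∀ B : Subgroup G, B.Normal → IsMulCommutative B → (∀ b ∈ B, b ^ p ^ n = 1) → A ≤ B → B = A) (x : G) (hx : x ∈ Subgroup.centralizer (A : Set G)) (hxn : x ^ p ^ n = 1) : x ∈ A := by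
  classical
  have hpp := (Fact.out : p.Prime)
  have hAn : A.Normal := inferInstance
  set m := p ^ n with hm
  have hm0 : 0 < m := pow_pos hpp.pos n
  -- parity of m
  have hmpar : Odd m ∨ 4 ∣ m := by
    by_cases hp2 : p = 2
    · rcases Nat.lt_or_ge n 2 with h | h
      · have : n = 0 ∨ n = 1 := by omega
        rcases this with h0 | h1
        · left; rw [hm, h0, pow_zero]; exact odd_one
        · exfalso; apply hn; rw [hm, h1, hp2, pow_one]
      · right
        rw [hm, hp2]
        exact pow_dvd_pow 2 h
    · left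
      exact (hpp.odd_of_ne_two hp2).pow
  set C := Subgroup.centralizer (A : Set G) with hC
  have hCn : C.Normal := inferInstance
  have hAab : ∀ a ∈ A, ∀ b ∈ A, a * b = b * a := by
    intro a ha b hb
    exact congrArg Subtype.val (hA.is_comm.comm ⟨a, ha⟩ ⟨b, hb⟩)
  have hCA : ∀ y ∈ C, ∀ a ∈ A, a * y = y * a := fun y hy a ha =>
    (Subgroup.mem_centralizer_iff.mp hy) a ha
  set π := QuotientGroup.mk' A with hπ
  set L : ℕ → Subgroup G := fun i => (Subgroup.upperCentralSeries (G ⧸ A) i).comap π with hL
  have hL0 : ∀ g, g ∈ L 0 ↔ g ∈ A := by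
    intro g
    show π g ∈ Subgroup.upperCentralSeries (G ⧸ A) 0 ↔ _
    rw [Subgroup.upperCentralSeries_zero, Subgroup.mem_bot]
    exact QuotientGroup.eq_one_iff g
  have hLn : ∀ i, (L i).Normal := fun i => Subgroup.Normal.comap inferInstance π
  have hLsucc : ∀ i g, g ∈ L (i + 1) → ∀ z : G, g * z * g⁻¹ * z⁻¹ ∈ L i := by
    intro i g hg z
    have h1 : π g ∈ Subgroup.upperCentralSeries (G ⧸ A) (i + 1) := hg
    rw [Subgroup.mem_upperCentralSeries_succ_iff] at h1
    have h2 := h1 (π z)
    rw [commutatorElement_def] at h2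
    have h3 : π (g * z * g⁻¹ * z⁻¹) ∈ Subgroup.upperCentralSeries (G ⧸ A) i := by
      rw [map_mul, map_mul, map_mul, map_inv, map_inv]
      exact h2
    exact h3
  -- the core computation
  have core : ∀ j : ℕ, (∀ y ∈ C, y ^ m = 1 → y ∈ L j → y ∈ A) →
      ∀ y b : G, y ∈ C → y ^ m = 1 → b ∈ C → b ∈ L j → (y * b) ^ m = 1 →
        b * y * b⁻¹ * y⁻¹ ∈ A → b ∈ A := by
    intro j hS y b hyC hym hbC hbL hyb hc
    set c := b * y * b⁻¹ * y⁻¹ with hcdef
    have hca : Commute c y := hCA y hyC c hc
    have hcb : Commute c b := hCA b hbC c hc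
    have hpow := mul_pow_class2 y b c hcdef hca hcb m
    rw [hyb, hym, one_mul] at hpow
    have hcm : c ^ m = 1 := hAe c hc
    have hfin : c ^ (m * (m - 1) / 2) = 1 → b ∈ A := by
      intro h
      rw [h, mul_one] at hpow
      exact hS b hbC hpow.symm hbL
    apply hfin
    rcases hmpar with ⟨k, hk⟩ | ⟨k, hk⟩
    · have he : m * (m - 1) / 2 = m * k := by
        apply Nat.div_eq_of_eq_mul_left (by norm_num)
        rw [hk]
        simp only [Nat.add_sub_cancel]
        ring
      rw [he, pow_mul, hcm, one_pow]
    · obtain ⟨k', rfl⟩ : ∃ k', k = k' + 1 := ⟨k - 1, by omega⟩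
      have he : m * (m - 1) / 2 = (2 * (k' + 1)) * (m - 1) := by
        apply Nat.div_eq_of_eq_mul_left (by norm_num)
        rw [hk]
        ring
      -- b² ∈ A
      have hb2m : (b ^ 2) ^ m = 1 := by
        have h1 : b ^ m = (c ^ (m * (m - 1) / 2))⁻¹ := eq_inv_of_mul_eq_one_left hpow.symm
        rw [← pow_mul, mul_comm, pow_mul, h1, inv_pow, ← pow_mul, he]
        have h2 : 2 * (k' + 1) * (m - 1) * 2 = m * (m - 1) := by rw [hk]; ring
        rw [h2, pow_mul, hcm, one_pow, inv_one]
      have hb2A : b ^ 2 ∈ A := hS (b ^ 2) (C.pow_mem hbC 2) hb2m ((L j).pow_mem hbL 2)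
      have hc2k : c ^ (2 * (k' + 1)) = 1 := by
        rw [pow_comm_class2 y b c hcdef hca hcb (2 * (k' + 1))]
        have h1 : b ^ (2 * (k' + 1)) ∈ A := by rw [pow_mul]; exact A.pow_mem hb2A _
        have h2 := hCA y hyC _ h1
        rw [h2]; group
      rw [he, pow_mul, hc2k, one_pow]
  -- conjugates
  have hconjm : ∀ y g : G, y ^ m = 1 → (g * y * g⁻¹) ^ m = 1 := by
    intro y g hy
    rw [← MulAut.conj_apply, ← map_pow, hy, map_one]
  -- the induction
  have main : ∀ i : ℕ, (∀ y ∈ C, y ^ m = 1 → y ∈ L i → y ∈ A) ∧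
      (∀ y ∈ C, y ^ m = 1 → ∀ g ∈ L i, y⁻¹ * g * y * g⁻¹ ∈ A) := by
    intro i
    induction i with
    | zero =>
      constructor
      · intro y _ _ hyL
        exact (hL0 y).mp hyL
      · intro y hyC _ g hg
        have hgA := (hL0 g).mp hg
        have h1 := hCA y hyC g hgA
        have h2 : y⁻¹ * g * y * g⁻¹ = 1 := by rw [mul_assoc y⁻¹, h1]; group
        rw [h2]; exact A.one_mem
    | succ i ih =>
      obtain ⟨hS, hT⟩ := ih
      -- common step
      have step : ∀ y ∈ C, y ^ m = 1 → ∀ g : G, y⁻¹ * g * y * g⁻¹ ∈ L i →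
          y⁻¹ * g * y * g⁻¹ ∈ A := by
        intro y hyC hym g hbL
        set b := y⁻¹ * g * y * g⁻¹ with hb
        have hbC : b ∈ C := by
          have h1 : b = y⁻¹ * (g * y * g⁻¹) := by rw [hb]; group
          rw [h1]
          exact C.mul_mem (C.inv_mem hyC) (hCn.conj_mem y hyC g)
        have hyb : (y * b) ^ m = 1 := by
          have h1 : y * b = g * y * g⁻¹ := by rw [hb]; group
          rw [h1]; exact hconjm y g hym
        have hc : b * y * b⁻¹ * y⁻¹ ∈ A := by
          have h1 := hT y hyC hym b hbL
          have h2 : b * y * b⁻¹ * y⁻¹ = y * (y⁻¹ * b * y * b⁻¹) * y⁻¹ := by group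
          rw [h2]
          exact hAn.conj_mem _ h1 y
        exact core i hS y b hyC hym hbC hbL hyb hc
      constructor
      · intro y hyC hym hyL
        -- all b_g ∈ A
        have hall : ∀ g : G, y⁻¹ * g * y * g⁻¹ ∈ A := by
          intro g
          apply step y hyC hym g
          have h1 := hLsucc i y⁻¹ ((L (i + 1)).inv_mem hyL) g
          rw [inv_inv] at h1
          exact h1
        -- B = ⟨A, y⟩
        set S : Set G := {s | s ∈ A ∨ ∃ a ∈ A, s = y * a} with hSdef
        have hSconj : ∀ g s : G, s ∈ S → g * s * g⁻¹ ∈ S := by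
          rintro g s (hs | ⟨a, ha, rfl⟩)
          · exact Or.inl (hAn.conj_mem s hs g)
          · refine Or.inr ⟨(y⁻¹ * g * y * g⁻¹) * (g * a * g⁻¹),
              A.mul_mem (hall g) (hAn.conj_mem a ha g), ?_⟩
            group
        have hBn : (Subgroup.closure S).Normal :=
          Cfsg.Agent.Lib.Helper6_PNormal.closure_normal_of_conj_mem S hSconj
        have hScomm : ∀ s ∈ S, ∀ t ∈ S, s * t = t * s := by
          rintro s (hs | ⟨a, ha, rfl⟩) t (ht | ⟨a', ha', rfl⟩)
          · exact hAab s hs t ht
          · have h1 := hCA y hyC s hs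
            calc s * (y * a') = (s * y) * a' := by group
              _ = (y * s) * a' := by rw [h1]
              _ = y * (s * a') := by group
              _ = y * (a' * s) := by rw [hAab s hs a' ha']
              _ = y * a' * s := by group
          · have h1 := hCA y hyC t ht
            calc y * a * t = y * (a * t) := by group
              _ = y * (t * a) := by rw [hAab a ha t ht]
              _ = (y * t) * a := by group
              _ = (t * y) * a := by rw [h1]
              _ = t * (y * a) := by group
          · have h1 := hCA y hyC a ha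
            have h2 := hCA y hyC a' ha'
            calc y * a * (y * a') = y * (a * y) * a' := by group
              _ = y * (y * a) * a' := by rw [h1]
              _ = y * y * (a * a') := by group
              _ = y * y * (a' * a) := by rw [hAab a ha a' ha']
              _ = y * (y * a') * a := by group
              _ = y * (a' * y) * a := by rw [h2]
              _ = y * a' * (y * a) := by group
        have hBc : IsMulCommutative (Subgroup.closure S) :=
          Subgroup.isMulCommutative_closure hScomm
        have hBcomm : ∀ s ∈ Subgroup.closure S, ∀ t ∈ Subgroup.closure S, s * t = t * s := by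
          intro s hs t ht
          exact congrArg Subtype.val (hBc.is_comm.comm ⟨s, hs⟩ ⟨t, ht⟩)
        have hBe : ∀ b ∈ Subgroup.closure S, b ^ p ^ n = 1 := by
          intro b hb
          induction hb using Subgroup.closure_induction with
          | mem s hs =>
            rcases hs with hs | ⟨a, ha, rfl⟩
            · exact hAe s hs
            · rw [(show Commute y a from (hCA y hyC a ha).symm).mul_pow, hAe a ha, mul_one]
              exact hym
          | one => exact one_pow _
          | mul s t hs ht ihs iht =>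
            rw [(show Commute s t from hBcomm s hs t ht).mul_pow, ihs, iht, one_mul]
          | inv s _ ihs => rw [inv_pow, ihs, inv_one]
        have hAB : A ≤ Subgroup.closure S := by
          intro a ha
          exact Subgroup.subset_closure (Or.inl ha)
        have hBA := hmax _ hBn hBc hBe hAB
        rw [← hBA]
        exact Subgroup.subset_closure (Or.inr ⟨1, A.one_mem, by rw [mul_one]⟩)
      · intro y hyC hym g hg
        apply step y hyC hym g
        have h1 := hLsucc i g hg y
        have h2 : y⁻¹ * g * y * g⁻¹ = y⁻¹ * (g * y * g⁻¹ * y⁻¹) * y := by group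
        rw [h2]
        have h3 := (hLn i).conj_mem _ h1 y⁻¹
        rw [inv_inv] at h3
        exact h3
  have hQp : IsPGroup p (G ⧸ A) := hG.to_quotient A
  have hnil : Group.IsNilpotent (G ⧸ A) := hQp.isNilpotent
  obtain ⟨N, hN⟩ := Group.IsNilpotent.nilpotent (G ⧸ A)
  apply (main N).1 x hx hxn
  show π x ∈ Subgroup.upperCentralSeries (G ⧸ A) N
  rw [hN]; exact Subgroup.mem_top _

end Cfsg.Agent.S0130
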