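import Cfsg.Statements.S0131
import Mathlib

set_option autoImplicit false
open Cfsg

namespace Cfsg.Agent.S0131

open scoped commutatorElement

/-- P/P' has a normal complement in G exactly when the focal subgroup G' ∩ P is as small as possible, namely P'. -/
theorem result {G : Type*} [Group G] [Finite G] {p : ℕ} [Fact p.Prime] (P : Sylow p G) : (∃ N : Subgroup G, N.Normal ∧ N ⊓ (P : Subgroup G) = ⁅(P : Subgroup G), (P : Subgroup G)⁆ ∧ N ⊔ (P : Subgroup G) = ⊤) ↔ commutator G ⊓ (P : Subgroup G) = ⁅(P : Subgroup G), (P : Subgroup G)⁆ := by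
  have hpp : p.Prime := Fact.out
  have hP'P : ⁅(P : Subgroup G), (P : Subgroup G)⁆ ≤ (P : Subgroup G) := by
    rw [Subgroup.commutator_le]
    intro a ha b hb
    exact Subgroup.mul_mem _ (Subgroup.mul_mem _ (Subgroup.mul_mem _ ha hb) (Subgroup.inv_mem _ ha))
      (Subgroup.inv_mem _ hb)
  have hP'G : ⁅(P : Subgroup G), (P : Subgroup G)⁆ ≤ commutator G := by
    rw [commutator_def]
    exact Subgroup.commutator_mono le_top le_top
  constructor
  · rintro ⟨N, hNn, hNP, hsup⟩
    haveI := hNn
    have hGN : commutator G ≤ N := by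
      rw [commutator_def, Subgroup.commutator_le]
      intro g₁ _ g₂ _
      have hg : ∀ g : G, ∃ x ∈ (P : Subgroup G), (QuotientGroup.mk g : G ⧸ N) = QuotientGroup.mk x := by
        intro g
        have hg : g ∈ ((N ⊔ (P : Subgroup G) : Subgroup G) : Set G) := by
          rw [hsup]; exact Set.mem_univ g
        rw [Subgroup.normal_mul] at hg
        obtain ⟨n, hn, x, hx, rfl⟩ := Set.mem_mul.mp hg
        refine ⟨x, hx, ?_⟩
        rw [QuotientGroup.mk_mul, (QuotientGroup.eq_one_iff n).mpr hn, one_mul]
      obtain ⟨x, hx, e1⟩ := hg g₁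
      obtain ⟨y, hy, e2⟩ := hg g₂
      rw [← QuotientGroup.eq_one_iff]
      have hxy : (QuotientGroup.mk ⁅x, y⁆ : G ⧸ N) = 1 := by
        rw [QuotientGroup.eq_one_iff]
        have : ⁅x, y⁆ ∈ ⁅(P : Subgroup G), (P : Subgroup G)⁆ :=
          Subgroup.commutator_mem_commutator hx hy
        rw [← hNP] at this
        exact this.1
      simp only [commutatorElement_def, QuotientGroup.mk_mul, QuotientGroup.mk_inv] at hxy ⊢
      rw [e1, e2]; exact hxy
    apply le_antisymm
    · rw [← hNP]
      exact inf_le_inf_right _ hGN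
    · exact le_inf hP'G hP'P
  · intro hfoc
    obtain ⟨k, m, hm, hkm⟩ := Nat.exists_eq_pow_mul_and_not_dvd
      (Nat.card_pos (α := Abelianization G)).ne' p hpp.ne_one
    have hcop : Nat.Coprime (p ^ k) m := Nat.Coprime.pow_left _ ((Nat.Prime.coprime_iff_not_dvd hpp).mpr hm)
    refine ⟨((powMonoidHom m : Abelianization G →* Abelianization G).comp Abelianization.of).ker,
      inferInstance, ?_, ?_⟩
    · apply le_antisymm
      · rw [← hfoc]
        rintro x ⟨hxN, hxP⟩
        refine Subgroup.mem_inf.mpr ⟨?_, hxP⟩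
        rw [← Abelianization.ker_of, MonoidHom.mem_ker]
        have h1 : (Abelianization.of x) ^ m = 1 := by
          have := MonoidHom.mem_ker.mp hxN
          simpa using this
        obtain ⟨j, hj⟩ := P.isPGroup' ⟨x, hxP⟩
        have h2 : (Abelianization.of x) ^ (p ^ j) = 1 := by
          have := congrArg Subtype.val hj
          rw [Subgroup.coe_pow, Subgroup.coe_one] at this
          rw [← map_pow, this, map_one]
        have hc : Nat.Coprime (p ^ j) m := Nat.Coprime.pow_left _ ((Nat.Prime.coprime_iff_not_dvd hpp).mpr hm)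
        have : orderOf (Abelianization.of x) ∣ 1 := by
          rw [← Nat.Coprime.gcd_eq_one hc]
          exact Nat.dvd_gcd (orderOf_dvd_of_pow_eq_one h2) (orderOf_dvd_of_pow_eq_one h1)
        exact orderOf_eq_one_iff.mp (Nat.dvd_one.mp this)
      · refine le_inf ?_ hP'P
        refine hP'G.trans ?_
        rw [← Abelianization.ker_of]
        intro x hx
        rw [MonoidHom.mem_ker] at hx ⊢
        rw [MonoidHom.comp_apply, hx, map_one]
    · -- index argument
      rw [← Subgroup.index_eq_one]
      have hQ : IsPGroup p (G ⧸ ((powMonoidHom m : Abelianization G →* Abelianization G).comp Abelianization.of).ker) := by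
        intro y
        obtain ⟨g, rfl⟩ := QuotientGroup.mk_surjective y
        refine ⟨k, ?_⟩
        rw [← QuotientGroup.mk_pow, QuotientGroup.eq_one_iff, MonoidHom.mem_ker, MonoidHom.comp_apply,
          map_pow]
        show ((Abelianization.of g) ^ p ^ k) ^ m = 1
        rw [← pow_mul, ← hkm]
        exact pow_card_eq_one'
      obtain ⟨n, hn⟩ := hQ.exists_card_eq
      have h1 : (((powMonoidHom m : Abelianization G →* Abelianization G).comp Abelianization.of).ker ⊔ (P : Subgroup G)).index ∣ p ^ n := by
        rw [← hn]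
        exact Subgroup.index_dvd_of_le le_sup_left
      have h2 : (((powMonoidHom m : Abelianization G →* Abelianization G).comp Abelianization.of).ker ⊔ (P : Subgroup G)).index ∣ (P : Subgroup G).index :=
        Subgroup.index_dvd_of_le le_sup_right
      have h3 : Nat.Coprime (p ^ n) (P : Subgroup G).index :=
        Nat.Coprime.pow_left _ ((Nat.Prime.coprime_iff_not_dvd hpp).mpr P.not_dvd_index)
      exact Nat.eq_one_of_dvd_coprimes h3 h1 h2

end Cfsg.Agent.S0131
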