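import Mathlib
import Cfsg.Statements.S0132
import Cfsg.Agent.Lib.Helper7_NPC

set_option autoImplicit false

open Cfsg

namespace Cfsg.Agent.S0132

open Cfsg.Agent.Lib.Helper7_NPC Subgroup

variable {G : Type*} [Group G] [Finite G] {p : ℕ} [Fact p.Prime]

/-- If a subgroup `L` containing `Q` and `g` has a normal `p`-complement, `Q` is a `p`-group
normalized by the `p'`-element `g`, then `g` centralizes `Q`. -/
theorem centralizes_of_npc (L : Subgroup G) (hL : NPC p L) (Q : Subgroup G) (hQL : Q ≤ L)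
    (hQ : IsPGroup p Q) (g : G) (hgL : g ∈ L) (hg : g ∈ normalizer (Q : Set G))
    (hcop : (orderOf g).Coprime p) : g ∈ centralizer (Q : Set G) := by
  have hF := frobHyp_of_npc hL
  have h1 := hF (Q.subgroupOf L) hQ.comap_subtype ⟨g, hgL⟩
    (by
      rw [Subgroup.mem_normalizer_iff]
      intro x
      rw [Subgroup.mem_subgroupOf, Subgroup.mem_subgroupOf]
      exact Subgroup.mem_normalizer_iff.mp hg (x : G))
    (by rw [← Subgroup.orderOf_coe]; exact hcop)
  rw [Subgroup.mem_centralizer_iff] at h1 ⊢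
  intro x hx
  have := h1 ⟨x, hQL hx⟩ (Subgroup.mem_subgroupOf.mpr hx)
  exact congrArg Subtype.val this

/-- The structure of a minimal non-`p`-nilpotent group: `G = Q⟨g⟩` with `Q` a normal
`p`-subgroup and `g` a `p'`-element not centralizing `Q`. -/
theorem exists_structure (h1 : ¬ NPC p G) (h2 : ∀ H : Subgroup G, H ≠ ⊤ → NPC p H) :
    ∃ (Q : Subgroup G) (g : G), IsPGroup p Q ∧ Q.Normal ∧ (orderOf g).Coprime p ∧
      g ∉ centralizer (Q : Set G) ∧ Q ⊔ zpowers g = ⊤ := by
  have hex : ∃ (Q : Subgroup G) (g : G), IsPGroup p Q ∧ g ∈ normalizer (Q : Set G) ∧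
      (orderOf g).Coprime p ∧ g ∉ centralizer (Q : Set G) := by
    by_contra hcon
    push Not at hcon
    exact h1 (npc_of_frobHyp (fun Q hQ g hg hcop => hcon Q g hQ hg hcop))
  obtain ⟨Q, g, hQ, hg, hcop, hgC⟩ := hex
  have htop : Q ⊔ zpowers g = ⊤ := by
    by_contra hL
    exact hgC (centralizes_of_npc _ (h2 _ hL) Q le_sup_left hQ g
      (le_sup_right (a := Q) (Subgroup.mem_zpowers g)) hg hcop)
  have hN : normalizer (Q : Set G) = ⊤ := by
    rw [eq_top_iff, ← htop]
    exact sup_le Subgroup.le_normalizer (Subgroup.zpowers_le.mpr hg)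
  exact ⟨Q, g, hQ, Subgroup.normalizer_eq_top_iff.mp hN, hcop, hgC, htop⟩

omit [Finite G] in
/-- the quotient by `Q` is generated by the image of `g` -/
theorem quotient_zpowers (Q : Subgroup G) [Q.Normal] (g : G) (htop : Q ⊔ zpowers g = ⊤) :
    zpowers (QuotientGroup.mk' Q g) = ⊤ := by
  have h1 : (⊤ : Subgroup G).map (QuotientGroup.mk' Q) = ⊤ :=
    Subgroup.map_top_of_surjective _ (QuotientGroup.mk'_surjective Q)
  rw [← htop, Subgroup.map_sup, QuotientGroup.map_mk'_self, bot_sup_eq, MonoidHom.map_zpowers] at h1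
  exact h1

theorem index_dvd (Q : Subgroup G) [Q.Normal] (g : G) (htop : Q ⊔ zpowers g = ⊤) :
    Q.index ∣ orderOf g := by
  have h1 := quotient_zpowers Q g htop
  have h2 : Q.index = orderOf (QuotientGroup.mk' Q g) := by
    rw [Subgroup.index_eq_card, ← Nat.card_zpowers, h1, Subgroup.card_top]
  rw [h2]
  exact orderOf_map_dvd _ g

theorem commutator_mem (Q : Subgroup G) [Q.Normal] (g : G) (htop : Q ⊔ zpowers g = ⊤) (a b : G) :
    a * b * a⁻¹ * b⁻¹ ∈ Q := by
  have h1 := quotient_zpowers Q g htop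
  have ha : QuotientGroup.mk' Q a ∈ zpowers (QuotientGroup.mk' Q g) := by
    rw [h1]; exact Subgroup.mem_top _
  have hb : QuotientGroup.mk' Q b ∈ zpowers (QuotientGroup.mk' Q g) := by
    rw [h1]; exact Subgroup.mem_top _
  obtain ⟨i, hi⟩ := Subgroup.mem_zpowers_iff.mp ha
  obtain ⟨j, hj⟩ := Subgroup.mem_zpowers_iff.mp hb
  rw [← QuotientGroup.eq_one_iff, ← QuotientGroup.mk'_apply, map_mul, map_mul, map_mul, map_inv,
    map_inv, ← hi, ← hj]
  rw [mul_inv_eq_one, mul_inv_eq_iff_eq_mul, ← zpow_add, ← zpow_add, add_comm]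

theorem result {G : Type*} [Group G] [Finite G] {p : ℕ} [Fact p.Prime] (h1 : ¬ Cfsg.HasNormalPComplement p G) (h2 : ∀ H : Subgroup G, H ≠ ⊤ → Cfsg.HasNormalPComplement p H) : (∀ H : Subgroup G, H ≠ ⊤ → Group.IsNilpotent H) ∧ ¬ Group.IsNilpotent G ∧ ∀ P : Sylow p G, (P : Subgroup G).Normal := by
  have hp := (Fact.out : p.Prime)
  rw [hasNormalPComplement_iff_npc] at h1
  have h2' : ∀ H : Subgroup G, H ≠ ⊤ → NPC p H :=
    fun H hH => hasNormalPComplement_iff_npc.mp (h2 H hH)
  obtain ⟨Q, g, hQ, hQn, hcop, hgC, htop⟩ := exists_structure h1 h2'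
  haveI := hQn
  have hidx : ¬ p ∣ Q.index := by
    intro h
    have := h.trans (index_dvd Q g htop)
    exact hp.one_lt.ne' (Nat.eq_one_of_dvd_coprimes hcop this (dvd_refl p))
  refine ⟨?_, ?_, ?_⟩
  · -- proper subgroups are nilpotent
    intro H hH
    obtain ⟨M, hMn, hMc, k, hk⟩ := h2' H hH
    have hcenter : M ≤ center H := by
      intro m hm
      rw [Subgroup.mem_center_iff]
      intro h
      have hc1 : h * m * h⁻¹ * m⁻¹ ∈ M := mul_mem (hMn.conj_mem m hm h) (inv_mem hm)
      have hc2 : ((h * m * h⁻¹ * m⁻¹ : H) : G) ∈ Q := by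
        have := commutator_mem Q g htop (h : G) (m : G)
        simpa using this
      have hdisj : Disjoint M (Q.subgroupOf H) := by
        apply Subgroup.disjoint_of_coprime_natCard
        obtain ⟨a, ha⟩ := IsPGroup.iff_card.mp (hQ.comap_subtype (K := H))
        have ha' : Nat.card (Q.subgroupOf H) = p ^ a := ha
        rw [ha']
        exact Nat.Coprime.pow_right a hMc
      have h3 : h * m * h⁻¹ * m⁻¹ = 1 :=
        Subgroup.disjoint_def.mp hdisj hc1 (Subgroup.mem_subgroupOf.mpr hc2)
      have h4 : h * m * h⁻¹ = m := by rwa [mul_inv_eq_one] at h3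
      exact eq_mul_of_mul_inv_eq h4
    haveI : Group.IsNilpotent (H ⧸ M) := by
      have : IsPGroup p (H ⧸ M) := by
        apply IsPGroup.of_card (n := k)
        rw [← Subgroup.index_eq_card, hk]
      exact this.isNilpotent
    apply Subgroup.isNilpotent_of_ker_le_center (QuotientGroup.mk' M)
    rw [QuotientGroup.ker_mk']
    exact hcenter
  · -- `G` is not nilpotent
    intro hnil
    apply hgC
    haveI hCn : (centralizer (Q : Set G)).Normal := Subgroup.normal_centralizer
    have hnc : NormalizerCondition G := Group.normalizerCondition_of_isNilpotent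
    have hCidx : ∀ {r : ℕ}, r.Prime → r ∣ (centralizer (Q : Set G)).index → r = p := by
      intro r hr hrd
      by_contra hrp
      haveI : Fact r.Prime := ⟨hr⟩
      let S : Sylow r G := default
      haveI hSn : (S : Subgroup G).Normal := Sylow.normal_of_normalizerCondition hnc S
      have hdisj : Disjoint (S : Subgroup G) Q := by
        apply Subgroup.disjoint_of_coprime_natCard
        obtain ⟨a, ha⟩ := IsPGroup.iff_card.mp hQ
        obtain ⟨b, hb⟩ := IsPGroup.iff_card.mp S.isPGroup'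
        rw [ha, hb]
        exact Nat.Coprime.pow _ _ ((Nat.coprime_primes hr hp).mpr hrp)
      have hSC : (S : Subgroup G) ≤ centralizer (Q : Set G) := by
        intro s hs
        rw [Subgroup.mem_centralizer_iff]
        intro x hx
        have hc1 : s * x * s⁻¹ * x⁻¹ ∈ Q := mul_mem (hQn.conj_mem x hx s) (inv_mem hx)
        have hc2 : s * x * s⁻¹ * x⁻¹ ∈ (S : Subgroup G) := by
          have : x * s⁻¹ * x⁻¹ ∈ (S : Subgroup G) := hSn.conj_mem _ (inv_mem hs) x
          have e : s * x * s⁻¹ * x⁻¹ = s * (x * s⁻¹ * x⁻¹) := by group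
          rw [e]; exact mul_mem hs this
        have h3 : s * x * s⁻¹ * x⁻¹ = 1 := Subgroup.disjoint_def.mp hdisj hc2 hc1
        have h4 : s * x * s⁻¹ = x := by rwa [mul_inv_eq_one] at h3
        exact (eq_mul_of_mul_inv_eq h4).symm
      have h5 : (centralizer (Q : Set G)).index ∣ (S : Subgroup G).index :=
        Subgroup.index_dvd_of_le hSC
      exact S.not_dvd_index (hrd.trans h5)
    have hpow := Nat.eq_prime_pow_of_unique_prime_dvd
      (Subgroup.index_ne_zero_of_finite (H := centralizer (Q : Set G))) hCidx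
    exact mem_of_index_pow _ hpow g hcop
  · -- the Sylow `p`-subgroup is normal
    intro P
    let Q' : Sylow p G := hQ.toSylow hidx
    haveI : (Q' : Subgroup G).Normal := by
      rw [IsPGroup.toSylow_coe]; exact hQn
    obtain ⟨t, ht⟩ := MulAction.exists_smul_eq G Q' P
    rw [Sylow.smul_eq_of_normal] at ht
    rw [← ht]
    infer_instance

end Cfsg.Agent.S0132
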