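import Cfsg.Statements.S0134
import Mathlib
import Cfsg.Agent.Lib.Helper2_ClassFn
import Cfsg.Agent.Lib.Helper2_CharBasic
import Cfsg.Agent.Lib.Helper2_CharOrtho
import Cfsg.Agent.Lib.Helper2_CharMore
import Cfsg.Agent.Lib.Helper2_Clifford
import Cfsg.Agent.Lib.Helper2_CharValues
import Cfsg.Agent.Lib.Helper2_CharComplete
import Cfsg.Agent.Lib.Helper2_CharInd
import Cfsg.Agent.Lib.Helper2_CharTable
import Cfsg.Agent.Lib.Helper2_CharSum
import Cfsg.Agent.Lib.Helper2_CharDeg
import Cfsg.Agent.Lib.Helper2_CharFrob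

set_option autoImplicit false
open Cfsg

open Cfsg.Agent.Lib.Helper2_ClassFn Cfsg.Agent.Lib.Helper2_CharBasic Cfsg.Agent.Lib.Helper2_CharOrtho
open Cfsg.Agent.Lib.Helper2_CharMore Cfsg.Agent.Lib.Helper2_Clifford Cfsg.Agent.Lib.Helper2_CharValues
open Cfsg.Agent.Lib.Helper2_CharComplete Cfsg.Agent.Lib.Helper2_CharInd Cfsg.Agent.Lib.Helper2_CharTable
open Cfsg.Agent.Lib.Helper2_CharSum Cfsg.Agent.Lib.Helper2_CharDeg Cfsg.Agent.Lib.Helper2_CharFrob

namespace Cfsg.Agent.S0134

/-- The sum of the squares of the degrees of the irreducible complex characters of a finite group is the order of the group. -/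
theorem result {G : Type*} [Group G] [Finite G] : ∑ᶠ χ : Cfsg.IrrCharacter G, (χ : G → ℂ) 1 ^ 2 = (Nat.card G : ℂ) := by
  classical
  have := Fintype.ofFinite G
  rw [finsum_irr_eq_sum (fun χ => χ 1 ^ 2)]
  have h := second_orthogonality' (1 : G) (1 : G)
  rw [if_pos (IsConj.refl 1)] at h
  have hc : Subgroup.centralizer ({1} : Set G) = ⊤ := by
    ext x; simp [Subgroup.mem_centralizer_iff]
  rw [hc, Subgroup.card_top] at h
  rw [← h]
  refine Finset.sum_congr rfl fun χ hχ => ?_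
  obtain ⟨n, hn⟩ := IsCharacter.apply_one (IsIrrCharacter.isCharacter (mem_irrFinset.mp hχ))
  rw [hn]; simp [sq]

end Cfsg.Agent.S0134
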