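import Cfsg.Statements.S0135
import Cfsg.Agent.Lib.Helper2_ClassFn
import Cfsg.Agent.Lib.Helper2_CharBasic
import Cfsg.Agent.Lib.Helper2_CharOrtho
import Cfsg.Agent.Lib.Helper2_Clifford
import Cfsg.Agent.Lib.Helper2_CharMore
import Cfsg.Agent.Lib.Helper2_CharNorm
import Cfsg.Agent.Lib.Helper2_CharValues
import Cfsg.Agent.Lib.Helper2_CharComplete
import Cfsg.Agent.Lib.Helper2_CharInd
import Cfsg.Agent.Lib.Helper2_CharTable
import Cfsg.Agent.Lib.Helper2_CharFrob
import Cfsg.Agent.Lib.Helper2_CharDeg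
import Cfsg.Agent.Lib.Helper2_CharSum
import Cfsg.Agent.Lib.Helper2_CharExtra
import Cfsg.Agent.Lib.Helper2_CharCentral
import Cfsg.Agent.Lib.Helper2_PermChar
import Cfsg.Agent.Lib.Helper2_FrobSchur
import Cfsg.Agent.Lib.Helper2_CliffordCorr
import Cfsg.Agent.Lib.Helper2_CharKernel
import Cfsg.Agent.Lib.Helper2_CyclicTI
import Cfsg.Agent.Lib.Helper2_CharGalois
import Cfsg.Agent.Lib.Helper2_CharInt

set_option autoImplicit false
open Cfsg

namespace Cfsg.Agent.S0135

open Cfsg.Agent.Lib.Helper2_ClassFn Cfsg.Agent.Lib.Helper2_CharBasic Cfsg.Agent.Lib.Helper2_CharOrtho Cfsg.Agent.Lib.Helper2_Clifford Cfsg.Agent.Lib.Helper2_CharMore Cfsg.Agent.Lib.Helper2_CharNorm Cfsg.Agent.Lib.Helper2_CharValues Cfsg.Agent.Lib.Helper2_CharComplete Cfsg.Agent.Lib.Helper2_CharInd Cfsg.Agent.Lib.Helper2_CharTable Cfsg.Agent.Lib.Helper2_CharFrob Cfsg.Agent.Lib.Helper2_CharDeg Cfsg.Agent.Lib.Helper2_CharSum Cfsg.Agent.Lib.Helper2_CharExtra Cfsg.Agent.Lib.Helper2_CharCentral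 Cfsg.Agent.Lib.Helper2_PermChar Cfsg.Agent.Lib.Helper2_FrobSchur Cfsg.Agent.Lib.Helper2_CliffordCorr Cfsg.Agent.Lib.Helper2_CharKernel Cfsg.Agent.Lib.Helper2_CyclicTI Cfsg.Agent.Lib.Helper2_CharGalois Cfsg.Agent.Lib.Helper2_CharInt
open scoped Pointwise


/-- The degree of an irreducible complex representation of a finite group divides the group order. -/
theorem result {G : Type*} [Group G] [Finite G] {V : Type*} [AddCommGroup V] [Module ℂ V] [FiniteDimensional ℂ V] (ρ : Representation ℂ G V) [ρ.IsIrreducible] : Module.finrank ℂ V ∣ Nat.card G := by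
  classical
  haveI := Fintype.ofFinite G
  have hχ : IsIrrCharacter G ρ.character := isIrrCharacter_of_rep ρ inferInstance
  exact degree_dvd_card hχ (Module.finrank ℂ V) (Representation.char_one ρ)

end Cfsg.Agent.S0135
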