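import Cfsg.Statements.S0136
import Mathlib
import Cfsg.Agent.Lib.Helper2_ClassFn
import Cfsg.Agent.Lib.Helper2_CharBasic
import Cfsg.Agent.Lib.Helper2_CharOrtho
import Cfsg.Agent.Lib.Helper2_CharMore
import Cfsg.Agent.Lib.Helper2_Clifford
import Cfsg.Agent.Lib.Helper2_CharValues
import Cfsg.Agent.Lib.Helper2_CharComplete
import Cfsg.Agent.Lib.Helper2_CharInd
import Cfsg.Agent.Lib.Helper2_CharTable
import Cfsg.Agent.Lib.Helper2_CharSum
import Cfsg.Agent.Lib.Helper2_CharDeg
import Cfsg.Agent.Lib.Helper2_CharFrob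

set_option autoImplicit false
open Cfsg

open Cfsg.Agent.Lib.Helper2_ClassFn Cfsg.Agent.Lib.Helper2_CharBasic Cfsg.Agent.Lib.Helper2_CharOrtho
open Cfsg.Agent.Lib.Helper2_CharMore Cfsg.Agent.Lib.Helper2_Clifford Cfsg.Agent.Lib.Helper2_CharValues
open Cfsg.Agent.Lib.Helper2_CharComplete Cfsg.Agent.Lib.Helper2_CharInd Cfsg.Agent.Lib.Helper2_CharTable
open Cfsg.Agent.Lib.Helper2_CharSum Cfsg.Agent.Lib.Helper2_CharDeg Cfsg.Agent.Lib.Helper2_CharFrob

namespace Cfsg.Agent.S0136

/-- Two elements of a finite group are conjugate if and only if no irreducible complex character separates them. -/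
theorem result {G : Type*} [Group G] [Finite G] (g h : G) : IsConj g h ↔ ∀ χ : Cfsg.IrrCharacter G, (χ : G → ℂ) g = (χ : G → ℂ) h := by
  classical
  have := Fintype.ofFinite G
  constructor
  · intro hc χ
    obtain ⟨c, rfl⟩ := isConj_iff.mp hc
    exact (IsCharacter.isClassFunction (IsIrrCharacter.isCharacter χ.2) g c).symm
  · intro hall
    by_contra hc
    have h1 := second_orthogonality' g h
    rw [if_neg hc] at h1
    have h2 := second_orthogonality' h h
    rw [if_pos (IsConj.refl h)] at h2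
    have h3 : ∑ χ ∈ irrFinset G, χ g * (starRingEnd ℂ) (χ h)
        = ∑ χ ∈ irrFinset G, χ h * (starRingEnd ℂ) (χ h) := by
      refine Finset.sum_congr rfl fun χ hχ => ?_
      have := hall ⟨χ, mem_irrFinset.mp hχ⟩
      simp only at this
      rw [this]
    rw [h3, h2] at h1
    have : 0 < Nat.card (Subgroup.centralizer ({h} : Set G)) := Nat.card_pos
    have h4 : Nat.card (Subgroup.centralizer ({h} : Set G)) = 0 := by exact_mod_cast h1
    omega

end Cfsg.Agent.S0136
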