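import Cfsg.Statements.S0137
import Mathlib
import Cfsg.Agent.Lib.Lead_Char

set_option autoImplicit false
open Cfsg

namespace Cfsg.Agent.S0137

open Cfsg.Agent.Lib.Lead_Char

/-- A character value of a finite group has absolute value at most the degree of the representation. -/
theorem result {G : Type*} [Group G] [Finite G] {V : Type*} [AddCommGroup V] [Module ℂ V] [FiniteDimensional ℂ V] (ρ : Representation ℂ G V) (g : G) : ‖ρ.character g‖ ≤ (Module.finrank ℂ V : ℝ) := by
  rw [character_eq_sum_roots, ← card_roots_charpoly ρ g]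
  refine (norm_multiset_sum_le _).trans ?_
  have h1 : ∀ μ ∈ (LinearMap.charpoly (ρ g)).roots, ‖μ‖ = 1 := by
    intro μ hμ
    exact Complex.norm_eq_one_of_pow_eq_one (pow_orderOf_eq_one_of_root ρ g μ hμ)
      (orderOf_pos g).ne'
  rw [Multiset.map_congr rfl h1, Multiset.map_const', Multiset.sum_replicate, nsmul_eq_mul, mul_one]

end Cfsg.Agent.S0137
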