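import Cfsg.Statements.S0138
import Mathlib
import Cfsg.Agent.Lib.Lead_Char

set_option autoImplicit false
open Cfsg

namespace Cfsg.Agent.S0138

open Cfsg.Agent.Lib.Lead_Char

/-- A character value has absolute value equal to the degree exactly when the group element acts by a scalar. -/
theorem result {G : Type*} [Group G] [Finite G] {V : Type*} [AddCommGroup V] [Module ℂ V] [FiniteDimensional ℂ V] (ρ : Representation ℂ G V) (g : G) : ‖ρ.character g‖ = (Module.finrank ℂ V : ℝ) ↔ ∃ ω : ℂ, ρ g = ω • (LinearMap.id : V →ₗ[ℂ] V) := by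
  have hn : 0 < orderOf g := orderOf_pos g
  constructor
  · intro h
    by_cases hd : Module.finrank ℂ V = 0
    · haveI : Subsingleton V := Module.finrank_zero_iff.mp hd
      refine ⟨0, ?_⟩
      ext v
      exact Subsingleton.elim _ _
    · set s := (LinearMap.charpoly (ρ g)).roots with hs
      have hcard : Multiset.card s = Module.finrank ℂ V := card_roots_charpoly ρ g
      have hS : s.sum = ρ.character g := (character_eq_sum_roots ρ g).symm
      have hdpos : (0 : ℝ) < Module.finrank ℂ V := by
        exact_mod_cast Nat.pos_of_ne_zero hd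
      have hdne : (Module.finrank ℂ V : ℂ) ≠ 0 := by exact_mod_cast hd
      set ω : ℂ := ρ.character g / (Module.finrank ℂ V : ℂ) with hω
      have hωnorm : ‖ω‖ = 1 := by
        rw [hω, norm_div, h, Complex.norm_natCast]
        exact div_self hdpos.ne'
      have hωω : (starRingEnd ℂ) ω * ω = 1 := by
        rw [mul_comm, Complex.mul_conj, Complex.normSq_eq_norm_sq, hωnorm]; simp
      have hSω : ρ.character g = ω * (Module.finrank ℂ V : ℂ) := by
        rw [hω]; field_simp
      have hnorm : ∀ μ ∈ s, ‖μ‖ = 1 := by
        intro μ hμ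
        exact Complex.norm_eq_one_of_pow_eq_one (pow_orderOf_eq_one_of_root ρ g μ hμ) hn.ne'
      have hall := all_eq_one_of_sum_eq_card (s.map (fun μ => (starRingEnd ℂ) ω * μ))
        (by
          intro x hx
          obtain ⟨μ, hμ, rfl⟩ := Multiset.mem_map.mp hx
          rw [norm_mul, hnorm μ hμ, RCLike.norm_conj, hωnorm, mul_one])
        (by
          rw [Multiset.sum_map_mul_left, Multiset.map_id', hS, hSω, Multiset.card_map, hcard,
            ← mul_assoc, hωω, one_mul])
      have hroots : ∀ μ ∈ s, μ = ω := by
        intro μ hμ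
        have h1 := hall _ (Multiset.mem_map_of_mem _ hμ)
        have h2 : ω * ((starRingEnd ℂ) ω * μ) = ω := by rw [h1, mul_one]
        rw [← mul_assoc, mul_comm ω, hωω, one_mul] at h2
        exact h2
      refine ⟨ω, ?_⟩
      have hfn : (ρ g) ^ orderOf g = 1 := by rw [← map_pow, pow_orderOf_eq_one, map_one]
      exact eq_smul_one_of_roots_eq (ρ g) (orderOf g) hn hfn ω hroots
  · rintro ⟨ω, hω⟩
    have hchar : ρ.character g = ω * (Module.finrank ℂ V : ℂ) := by
      unfold Representation.character
      rw [hω, map_smul, LinearMap.trace_id, smul_eq_mul]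
    rw [hchar, norm_mul, Complex.norm_natCast]
    by_cases hd : Module.finrank ℂ V = 0
    · rw [hd]; simp
    · have hpos : 0 < Module.finrank ℂ V := Nat.pos_of_ne_zero hd
      haveI : Nontrivial V := Module.finrank_pos_iff.mp hpos
      obtain ⟨v, hv⟩ := exists_ne (0 : V)
      have h1 : ∀ k : ℕ, ((ρ g) ^ k) v = ω ^ k • v := by
        intro k
        induction k with
        | zero => simp
        | succ k ih =>
          have hv1 : ∀ w : V, (ρ g) w = ω • w := by
            intro w; rw [hω]; simp
          rw [pow_succ, Module.End.mul_apply, hv1, map_smul, ih, smul_smul, pow_succ, mul_comm]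
      have hfn : (ρ g) ^ orderOf g = 1 := by rw [← map_pow, pow_orderOf_eq_one, map_one]
      have h2 := h1 (orderOf g)
      rw [hfn, Module.End.one_apply] at h2
      have h3 : (ω ^ orderOf g - 1) • v = 0 := by rw [sub_smul, one_smul, ← h2, sub_self]
      have h4 : ω ^ orderOf g = 1 := by
        rcases smul_eq_zero.mp h3 with h | h
        · exact sub_eq_zero.mp h
        · exact absurd h hv
      rw [Complex.norm_eq_one_of_pow_eq_one h4 hn.ne', one_mul]

end Cfsg.Agent.S0138
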