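import Cfsg.Statements.S0139
import Mathlib
import Cfsg.Agent.Lib.Lead_Char

set_option autoImplicit false
open Cfsg

namespace Cfsg.Agent.S0139

open Cfsg.Agent.Lib.Lead_Char

/-- The kernel of a complex representation of a finite group is the set of elements where the character equals the degree. -/
theorem result {G : Type*} [Group G] [Finite G] {V : Type*} [AddCommGroup V] [Module ℂ V] [FiniteDimensional ℂ V] (ρ : Representation ℂ G V) (g : G) : ρ.character g = (Module.finrank ℂ V : ℂ) ↔ ρ g = LinearMap.id := by
  constructor
  · intro h
    apply eq_one_of_roots_eq_one ρ g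
    set s := (LinearMap.charpoly (ρ g)).roots with hs
    have hcard : Multiset.card s = Module.finrank ℂ V := card_roots_charpoly ρ g
    have hsum : s.sum = (Multiset.card s : ℂ) := by
      rw [← character_eq_sum_roots, h, hcard]
    have hnorm : ∀ μ ∈ s, ‖μ‖ = 1 := by
      intro μ hμ
      exact Complex.norm_eq_one_of_pow_eq_one (pow_orderOf_eq_one_of_root ρ g μ hμ)
        (orderOf_pos g).ne'
    have hre : (s.map Complex.re).sum = (Multiset.card s : ℝ) := by
      have := congrArg Complex.re hsum
      rw [Complex.natCast_re] at this
      rw [← this]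
      exact (map_multiset_sum Complex.reAddGroupHom s).symm
    have hzero : (s.map (fun μ => 1 - μ.re)).sum = 0 := by
      rw [Multiset.sum_map_sub, Multiset.map_const', Multiset.sum_replicate, hre]
      simp
    have hnn : ∀ x ∈ s.map (fun μ => 1 - μ.re), 0 ≤ x := by
      intro x hx
      obtain ⟨μ, hμ, rfl⟩ := Multiset.mem_map.mp hx
      have := Complex.re_le_norm μ
      rw [hnorm μ hμ] at this
      linarith
    intro μ hμ
    have h1 : 1 - μ.re ≤ 0 := by
      rw [← hzero]
      exact Multiset.single_le_sum hnn _ (Multiset.mem_map_of_mem _ hμ)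
    have h2 : μ.re ≤ 1 := by
      have := Complex.re_le_norm μ
      rwa [hnorm μ hμ] at this
    have hre1 : μ.re = 1 := le_antisymm h2 (by linarith)
    have h3 : ‖μ‖ ^ 2 = μ.re * μ.re + μ.im * μ.im := by
      rw [Complex.sq_norm, Complex.normSq_apply]
    rw [hnorm μ hμ, hre1] at h3
    have him : μ.im = 0 := by nlinarith
    exact Complex.ext (by simpa using hre1) (by simpa using him)
  · intro h
    unfold Representation.character
    rw [h]
    exact LinearMap.trace_id ℂ V

end Cfsg.Agent.S0139
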