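import Cfsg.Statements.S0141
import Cfsg.Agent.Lib.Helper2_ClassFn
import Cfsg.Agent.Lib.Helper2_CharBasic
import Cfsg.Agent.Lib.Helper2_CharOrtho
import Cfsg.Agent.Lib.Helper2_Clifford
import Cfsg.Agent.Lib.Helper2_CharMore
import Cfsg.Agent.Lib.Helper2_CharNorm
import Cfsg.Agent.Lib.Helper2_CharValues
import Cfsg.Agent.Lib.Helper2_CharComplete
import Cfsg.Agent.Lib.Helper2_CharInd
import Cfsg.Agent.Lib.Helper2_CharTable
import Cfsg.Agent.Lib.Helper2_CharFrob
import Cfsg.Agent.Lib.Helper2_CharDeg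
import Cfsg.Agent.Lib.Helper2_CharSum
import Cfsg.Agent.Lib.Helper2_CharExtra
import Cfsg.Agent.Lib.Helper2_CharCentral
import Cfsg.Agent.Lib.Helper2_PermChar
import Cfsg.Agent.Lib.Helper2_FrobSchur
import Cfsg.Agent.Lib.Helper2_CliffordCorr
import Cfsg.Agent.Lib.Helper2_CharKernel
import Cfsg.Agent.Lib.Helper2_CyclicTI
import Cfsg.Agent.Lib.Helper2_CharGalois
import Cfsg.Agent.Lib.Helper2_CharInt

set_option autoImplicit false
open Cfsg

namespace Cfsg.Agent.S0141

open Cfsg.Agent.Lib.Helper2_ClassFn Cfsg.Agent.Lib.Helper2_CharBasic Cfsg.Agent.Lib.Helper2_CharOrtho Cfsg.Agent.Lib.Helper2_Clifford Cfsg.Agent.Lib.Helper2_CharMore Cfsg.Agent.Lib.Helper2_CharNorm Cfsg.Agent.Lib.Helper2_CharValues Cfsg.Agent.Lib.Helper2_CharComplete Cfsg.Agent.Lib.Helper2_CharInd Cfsg.Agent.Lib.Helper2_CharTable Cfsg.Agent.Lib.Helper2_CharFrob Cfsg.Agent.Lib.Helper2_CharDeg Cfsg.Agent.Lib.Helper2_CharSum Cfsg.Agent.Lib.Helper2_CharExtra Cfsg.Agent.Lib.Helper2_CharCentral Cfsg.Agent.Lib.Helper2_PermChar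 Cfsg.Agent.Lib.Helper2_FrobSchur Cfsg.Agent.Lib.Helper2_CliffordCorr Cfsg.Agent.Lib.Helper2_CharKernel Cfsg.Agent.Lib.Helper2_CyclicTI Cfsg.Agent.Lib.Helper2_CharGalois Cfsg.Agent.Lib.Helper2_CharInt
open scoped Pointwise


/-- For an irreducible complex representation of a finite group and an element g, the size of the class of g times the character value at g, divided by the degree, is an algebraic integer. -/
theorem result {G : Type*} [Group G] [Finite G] {V : Type*} [AddCommGroup V] [Module ℂ V] [FiniteDimensional ℂ V] (ρ : Representation ℂ G V) [ρ.IsIrreducible] (g : G) : IsIntegral ℤ (((Subgroup.centralizer ({g} : Set G)).index : ℂ) * ρ.character g / (Module.finrank ℂ V : ℂ)) := by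
  classical
  haveI := Fintype.ofFinite G
  have hχ : IsIrrCharacter G ρ.character := isIrrCharacter_of_rep ρ inferInstance
  have h := isIntegral_omega hχ g
  rw [index_centralizer_eq_card_class g]
  have h1 : ρ.character 1 = (Module.finrank ℂ V : ℂ) := Representation.char_one ρ
  rw [← h1]
  exact h

end Cfsg.Agent.S0141
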