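import Cfsg.Statements.S0146
import Mathlib
import Cfsg.Agent.Lib.Lead_IndChar

set_option autoImplicit false
open Cfsg

namespace Cfsg.Agent.S0146

open Cfsg.Agent.Lib.Lead_IndChar ComplexConjugate

/-- Frobenius reciprocity for the induction map on functions: pairing the induced function with a class function of the big group equals pairing the original function with the restriction. -/
theorem result {G : Type*} [Group G] [Fintype G] (H : Subgroup G) [Fintype H] (θ : H → ℂ) (χ : G → ℂ) (hχ : Cfsg.IsClassFunction G χ) : Cfsg.classInner (Cfsg.indFun H θ) χ = Cfsg.classInner θ (fun h : H => χ h) := by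
  unfold Cfsg.classInner Cfsg.indFun
  have hG : (Nat.card G : ℂ) ≠ 0 := by
    have : 0 < Nat.card G := Nat.card_pos
    exact_mod_cast this.ne'
  have key : ∀ x : G, ∑ g : G, Cfsg.extendByZero H θ (x⁻¹ * g * x) * conj (χ g)
      = ∑ h : H, θ h * conj (χ h) := by
    intro x
    have h1 : ∀ g : G, Cfsg.extendByZero H θ (x⁻¹ * g * x) * conj (χ g)
        = Cfsg.extendByZero H θ (x⁻¹ * g * x) * conj (χ (x⁻¹ * g * x)) := by
      intro g
      have := hχ g x⁻¹
      rw [inv_inv] at this
      rw [this]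
    rw [Finset.sum_congr rfl (fun g _ => h1 g)]
    rw [sum_conj x (fun y => Cfsg.extendByZero H θ y * conj (χ y))]
    exact sum_extendByZero_mul H θ (fun y => conj (χ y))
  have h2 : ∑ g : G, ((Nat.card H : ℂ)⁻¹ * ∑ x : G, Cfsg.extendByZero H θ (x⁻¹ * g * x)) * conj (χ g)
      = (Nat.card H : ℂ)⁻¹ * ((Nat.card G : ℂ) * ∑ h : H, θ h * conj (χ h)) := by
    calc ∑ g : G, ((Nat.card H : ℂ)⁻¹ * ∑ x : G, Cfsg.extendByZero H θ (x⁻¹ * g * x)) * conj (χ g)
        = (Nat.card H : ℂ)⁻¹ * ∑ g : G, ∑ x : G, Cfsg.extendByZero H θ (x⁻¹ * g * x) * conj (χ g) := by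
          rw [Finset.mul_sum]
          refine Finset.sum_congr rfl (fun g _ => ?_)
          rw [mul_assoc, Finset.sum_mul]
      _ = (Nat.card H : ℂ)⁻¹ * ∑ x : G, ∑ g : G, Cfsg.extendByZero H θ (x⁻¹ * g * x) * conj (χ g) := by
          rw [Finset.sum_comm]
      _ = (Nat.card H : ℂ)⁻¹ * ∑ x : G, ∑ h : H, θ h * conj (χ h) := by
          rw [Finset.sum_congr rfl (fun x _ => key x)]
      _ = (Nat.card H : ℂ)⁻¹ * ((Nat.card G : ℂ) * ∑ h : H, θ h * conj (χ h)) := by
          rw [Finset.sum_const, Finset.card_univ, nsmul_eq_mul, ← Nat.card_eq_fintype_card (α := G)]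
  rw [h2]
  field_simp

end Cfsg.Agent.S0146
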