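import Cfsg.Statements.S0147
import Mathlib
import Cfsg.Agent.Lib.Lead_IndChar

set_option autoImplicit false
open Cfsg

namespace Cfsg.Agent.S0147

open Cfsg.Agent.Lib.Lead_IndChar ComplexConjugate

/-- Transitivity of induction: inducing from H to K and then from K to G is the same as inducing from H to G. -/
theorem result {G : Type*} [Group G] [Fintype G] (H K : Subgroup G) [Fintype K] (hHK : H ≤ K) (θ : H → ℂ) : Cfsg.indFun K (Cfsg.indFun (H.subgroupOf K) (fun x => θ ⟨(x : K), Subgroup.mem_subgroupOf.mp x.2⟩)) = Cfsg.indFun H θ := by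
  classical
  set θ' : H.subgroupOf K → ℂ := fun x => θ ⟨(x : K), Subgroup.mem_subgroupOf.mp x.2⟩ with hθ'
  have hcard : (Nat.card (H.subgroupOf K) : ℂ) = (Nat.card H : ℂ) := by
    rw [Nat.card_congr (Subgroup.subgroupOfEquivOfLe hHK).toEquiv]
  have hext : ∀ w : K, Cfsg.extendByZero (H.subgroupOf K) θ' w = Cfsg.extendByZero H θ (w : G) := by
    intro w
    by_cases hw : (w : G) ∈ H
    · rw [extendByZero_apply_mk H θ hw,
        extendByZero_apply_mk (H.subgroupOf K) θ' (Subgroup.mem_subgroupOf.mpr hw)]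
    · rw [extendByZero_apply_not_mem H θ hw,
        extendByZero_apply_not_mem (H.subgroupOf K) θ' (fun h => hw (Subgroup.mem_subgroupOf.mp h))]
  have hA : ∀ z : G, Cfsg.extendByZero K (Cfsg.indFun (H.subgroupOf K) θ') z
      = (Nat.card H : ℂ)⁻¹ * ∑ y : K, Cfsg.extendByZero H θ ((y : G)⁻¹ * z * y) := by
    intro z
    by_cases hz : z ∈ K
    · rw [extendByZero_apply_mk K _ hz]
      unfold Cfsg.indFun
      rw [hcard]
      congr 1
      refine Finset.sum_congr rfl (fun y _ => ?_)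
      rw [hext]
      rfl
    · rw [extendByZero_apply_not_mem K _ hz]
      symm
      rw [mul_eq_zero]; right
      refine Finset.sum_eq_zero (fun y _ => ?_)
      apply extendByZero_apply_not_mem
      intro h
      apply hz
      have h1 : (y : G)⁻¹ * z * y ∈ K := hHK h
      have h2 := K.mul_mem (K.mul_mem y.2 h1) (K.inv_mem y.2)
      have e : (y : G) * ((y : G)⁻¹ * z * y) * (y : G)⁻¹ = z := by group
      rw [e] at h2; exact h2
  funext g
  have hK : (Nat.card K : ℂ) ≠ 0 := by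
    have : 0 < Nat.card K := Nat.card_pos
    exact_mod_cast this.ne'
  show (Nat.card K : ℂ)⁻¹ * ∑ x : G, Cfsg.extendByZero K (Cfsg.indFun (H.subgroupOf K) θ') (x⁻¹ * g * x)
    = (Nat.card H : ℂ)⁻¹ * ∑ x : G, Cfsg.extendByZero H θ (x⁻¹ * g * x)
  have h1 : ∑ x : G, Cfsg.extendByZero K (Cfsg.indFun (H.subgroupOf K) θ') (x⁻¹ * g * x)
      = (Nat.card H : ℂ)⁻¹ * ((Nat.card K : ℂ) * ∑ x : G, Cfsg.extendByZero H θ (x⁻¹ * g * x)) := by
    calc ∑ x : G, Cfsg.extendByZero K (Cfsg.indFun (H.subgroupOf K) θ') (x⁻¹ * g * x)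
        = ∑ x : G, (Nat.card H : ℂ)⁻¹ * ∑ y : K, Cfsg.extendByZero H θ ((y : G)⁻¹ * (x⁻¹ * g * x) * y) :=
          Finset.sum_congr rfl (fun x _ => hA _)
      _ = (Nat.card H : ℂ)⁻¹ * ∑ x : G, ∑ y : K, Cfsg.extendByZero H θ ((y : G)⁻¹ * (x⁻¹ * g * x) * y) := by
          rw [Finset.mul_sum]
      _ = (Nat.card H : ℂ)⁻¹ * ∑ y : K, ∑ x : G, Cfsg.extendByZero H θ ((y : G)⁻¹ * (x⁻¹ * g * x) * y) := by
          rw [Finset.sum_comm]
      _ = (Nat.card H : ℂ)⁻¹ * ∑ y : K, ∑ x : G, Cfsg.extendByZero H θ (x⁻¹ * g * x) := by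
          congr 1
          refine Finset.sum_congr rfl (fun y _ => ?_)
          refine Fintype.sum_equiv (Equiv.mulRight (y : G)) _ _ ?_
          intro x
          congr 1
          simp only [Equiv.coe_mulRight]
          group
      _ = (Nat.card H : ℂ)⁻¹ * ((Nat.card K : ℂ) * ∑ x : G, Cfsg.extendByZero H θ (x⁻¹ * g * x)) := by
          rw [Finset.sum_const, Finset.card_univ, nsmul_eq_mul, ← Nat.card_eq_fintype_card (α := K)]
  rw [h1]
  field_simp

end Cfsg.Agent.S0147
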