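import Cfsg.Statements.S0149
import Mathlib
import Cfsg.Agent.Lib.Lead_IndChar

set_option autoImplicit false
open Cfsg

namespace Cfsg.Agent.S0149

open Cfsg.Agent.Lib.Lead_IndChar ComplexConjugate

/-- Let T be a subset of G meeting each of its conjugates by elements outside its normalizer N only in the identity, and let ψ be a class function of N vanishing on N away from T. Then the function induced from ψ agrees with ψ at every non-identity element of T. -/
theorem result {G : Type*} [Group G] [Fintype G] (T : Set G) (hTI : ∀ g : G, g ∉ Subgroup.normalizer T → ∀ t ∈ T, g * t * g⁻¹ ∈ T → t = 1) (hTN : T ⊆ Subgroup.normalizer T) (ψ : Subgroup.normalizer T → ℂ) (hψ : Cfsg.IsClassFunction (Subgroup.normalizer T) ψ) (hψT : ∀ x : Subgroup.normalizer T, (x : G) ∉ T → ψ x = 0) (t : Subgroup.normalizer T) (htT : (t : G) ∈ T) (ht1 : t ≠ 1) : Cfsg.indFun (Subgroup.normalizer T) ψ t = ψ t := by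
  classical
  letI : Fintype (Subgroup.normalizer T) := Fintype.ofFinite _
  show (Nat.card (Subgroup.normalizer T) : ℂ)⁻¹ * ∑ x : G, Cfsg.extendByZero (Subgroup.normalizer T) ψ (x⁻¹ * (t : G) * x) = ψ t
  have hNne : (Nat.card (Subgroup.normalizer T) : ℂ) ≠ 0 := by
    have : 0 < Nat.card (Subgroup.normalizer T) := Nat.card_pos
    exact_mod_cast this.ne'
  have ht1' : (t : G) ≠ 1 := fun h => ht1 (Subtype.ext h)
  have h1 : ∀ x : G, Cfsg.extendByZero (Subgroup.normalizer T) ψ (x⁻¹ * (t : G) * x)
      = Cfsg.extendByZero (Subgroup.normalizer T) (fun _ => ψ t) x := by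
    intro x
    by_cases hx : x ∈ (Subgroup.normalizer T)
    · rw [extendByZero_apply_mk (Subgroup.normalizer T) _ hx]
      have hmem : x⁻¹ * (t : G) * x ∈ (Subgroup.normalizer T) := (Subgroup.normalizer T).mul_mem ((Subgroup.normalizer T).mul_mem ((Subgroup.normalizer T).inv_mem hx) t.2) hx
      rw [extendByZero_apply_mk (Subgroup.normalizer T) _ hmem]
      have := hψ t (⟨x, hx⟩ : (Subgroup.normalizer T))⁻¹
      rw [inv_inv] at this
      rw [← this]
      congr 1
    · rw [extendByZero_apply_not_mem (Subgroup.normalizer T) _ hx]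
      by_cases hmem : x⁻¹ * (t : G) * x ∈ (Subgroup.normalizer T)
      · rw [extendByZero_apply_mk (Subgroup.normalizer T) _ hmem]
        by_contra hne
        have hT : x⁻¹ * (t : G) * x ∈ T := by
          by_contra hnT
          exact hne (hψT ⟨_, hmem⟩ hnT)
        have hxi : x⁻¹ ∉ (Subgroup.normalizer T) := fun h => hx (by simpa using (Subgroup.normalizer T).inv_mem h)
        have := hTI x⁻¹ hxi (t : G) htT (by rw [inv_inv]; exact hT)
        exact ht1' this
      · rw [extendByZero_apply_not_mem (Subgroup.normalizer T) _ hmem]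
  rw [Finset.sum_congr rfl (fun x _ => h1 x), sum_extendByZero (Subgroup.normalizer T) (fun _ => ψ t),
    Finset.sum_const, Finset.card_univ, nsmul_eq_mul, ← Nat.card_eq_fintype_card (α := (Subgroup.normalizer T))]
  field_simp

end Cfsg.Agent.S0149
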