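import Cfsg.Statements.S0156
import Mathlib
import Cfsg.Agent.Lib.Helper2_ClassFn
import Cfsg.Agent.Lib.Helper2_CharBasic
import Cfsg.Agent.Lib.Helper2_CharOrtho
import Cfsg.Agent.Lib.Helper2_CharMore
import Cfsg.Agent.Lib.Helper2_Clifford
import Cfsg.Agent.Lib.Helper2_CharValues
import Cfsg.Agent.Lib.Helper2_CharComplete
import Cfsg.Agent.Lib.Helper2_CharInd
import Cfsg.Agent.Lib.Helper2_CharTable
import Cfsg.Agent.Lib.Helper2_CharSum
import Cfsg.Agent.Lib.Helper2_CharDeg
import Cfsg.Agent.Lib.Helper2_CharFrob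
import Cfsg.Agent.S0155

set_option autoImplicit false
open Cfsg

open Cfsg.Agent.Lib.Helper2_ClassFn Cfsg.Agent.Lib.Helper2_CharBasic Cfsg.Agent.Lib.Helper2_CharOrtho
open Cfsg.Agent.Lib.Helper2_CharMore Cfsg.Agent.Lib.Helper2_Clifford Cfsg.Agent.Lib.Helper2_CharValues
open Cfsg.Agent.Lib.Helper2_CharComplete Cfsg.Agent.Lib.Helper2_CharInd Cfsg.Agent.Lib.Helper2_CharTable
open Cfsg.Agent.Lib.Helper2_CharSum Cfsg.Agent.Lib.Helper2_CharDeg Cfsg.Agent.Lib.Helper2_CharFrob

namespace Cfsg.Agent.S0156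

/-- The character of the left regular representation is the sum over the irreducible characters χ of χ 1 • χ. -/
theorem result {G : Type*} [Group G] [Fintype G] : (Representation.leftRegular ℂ G).character = ∑ᶠ χ : Cfsg.IrrCharacter G, (χ : G → ℂ) 1 • (χ : G → ℂ) := by
  classical
  rw [finsum_irr_eq_sum (fun χ => χ 1 • χ)]
  ext g
  rw [Cfsg.Agent.S0155.result g]
  simp only [Finset.sum_apply, Pi.smul_apply, smul_eq_mul]
  have h := second_orthogonality' g (1 : G)
  have h2 : ∑ χ ∈ irrFinset G, χ 1 * χ g = ∑ χ ∈ irrFinset G, χ g * (starRingEnd ℂ) (χ 1) := by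
    refine Finset.sum_congr rfl fun χ hχ => ?_
    obtain ⟨n, hn⟩ := IsCharacter.apply_one (IsIrrCharacter.isCharacter (mem_irrFinset.mp hχ))
    rw [hn]; simp [mul_comm]
  rw [h2, h]
  by_cases hg : g = 1
  · subst hg
    rw [if_pos rfl, if_pos (IsConj.refl 1)]
    have hc : Subgroup.centralizer ({1} : Set G) = ⊤ := by
      ext x; simp [Subgroup.mem_centralizer_iff]
    rw [hc, Subgroup.card_top]
  · rw [if_neg hg, if_neg]
    intro hc
    apply hg
    obtain ⟨c, hc⟩ := isConj_iff.mp hc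
    have : g = c⁻¹ * 1 * c := by rw [← hc]; group
    simpa using this

end Cfsg.Agent.S0156
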