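import Cfsg.Statements.S0157
import Cfsg.Agent.Lib.Helper2_ClassFn
import Cfsg.Agent.Lib.Helper2_CharBasic
import Cfsg.Agent.Lib.Helper2_CharOrtho
import Cfsg.Agent.Lib.Helper2_Clifford
import Cfsg.Agent.Lib.Helper2_CharMore
import Cfsg.Agent.Lib.Helper2_CharNorm
import Cfsg.Agent.Lib.Helper2_CharValues
import Cfsg.Agent.Lib.Helper2_CharComplete
import Cfsg.Agent.Lib.Helper2_CharInd
import Cfsg.Agent.Lib.Helper2_CharTable
import Cfsg.Agent.Lib.Helper2_CharFrob
import Cfsg.Agent.Lib.Helper2_CharDeg
import Cfsg.Agent.Lib.Helper2_CharSum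
import Cfsg.Agent.Lib.Helper2_CharExtra
import Cfsg.Agent.Lib.Helper2_CharCentral
import Cfsg.Agent.Lib.Helper2_PermChar

set_option autoImplicit false
open Cfsg

namespace Cfsg.Agent.S0157

open Cfsg.Agent.Lib.Helper2_ClassFn Cfsg.Agent.Lib.Helper2_CharBasic Cfsg.Agent.Lib.Helper2_CharOrtho Cfsg.Agent.Lib.Helper2_Clifford Cfsg.Agent.Lib.Helper2_CharMore Cfsg.Agent.Lib.Helper2_CharNorm Cfsg.Agent.Lib.Helper2_CharValues Cfsg.Agent.Lib.Helper2_CharComplete Cfsg.Agent.Lib.Helper2_CharInd Cfsg.Agent.Lib.Helper2_CharTable Cfsg.Agent.Lib.Helper2_CharFrob Cfsg.Agent.Lib.Helper2_CharDeg Cfsg.Agent.Lib.Helper2_CharSum Cfsg.Agent.Lib.Helper2_CharExtra Cfsg.Agent.Lib.Helper2_CharCentral Cfsg.Agent.Lib.Helper2_PermChar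
open scoped Pointwise
open scoped ComplexConjugate

/-- fixed embeddings of `Fin 2` are embeddings into the fixed points -/
theorem permChar_embedding {G : Type*} [Group G] {X : Type*} [MulAction G X] [Finite X] (g : G) :
    permChar G (Fin 2 ↪ X) g = permChar G X g * permChar G X g - permChar G X g := by
  classical
  have := Fintype.ofFinite X
  simp only [permChar_apply]
  have e : MulAction.fixedBy (Fin 2 ↪ X) g ≃ (Fin 2 ↪ MulAction.fixedBy X g) :=
    { toFun := fun f => Function.Embedding.codRestrict (MulAction.fixedBy X g) f.1 (by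
        intro i
        have := f.2
        rw [MulAction.mem_fixedBy] at this ⊢
        have h2 := congrArg (fun e : Fin 2 ↪ X => e i) this
        simpa using h2)
      invFun := fun f => ⟨f.trans (Function.Embedding.subtype _), by
        rw [MulAction.mem_fixedBy]
        ext i
        simp only [Function.Embedding.smul_apply, Function.Embedding.trans_apply,
          Function.Embedding.subtype_apply]
        exact (f i).2⟩
      left_inv := fun f => by
        apply Subtype.ext
        ext i
        rfl
      right_inv := fun f => by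
        ext i
        rfl }
  rw [Nat.card_congr e, Nat.card_eq_fintype_card, Fintype.card_embedding_eq, Fintype.card_fin,
    Nat.card_eq_fintype_card]
  set n := Fintype.card (MulAction.fixedBy X g)
  rw [show n.descFactorial 2 = n * (n - 1) by
    simp [Nat.descFactorial, mul_comm]]
  rcases Nat.eq_zero_or_pos n with h | h
  · simp [h]
  · have : ((n - 1 : ℕ) : ℂ) = (n : ℂ) - 1 := by
      rw [Nat.cast_sub h]; simp
    rw [Nat.cast_mul, this]
    ring


/-- For a transitive action of a finite group on a finite set with at least two points: the action is 2-transitive if and only if the function sending g to (number of fixed points of g) − 1 is an irreducible character. -/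
theorem result {G : Type*} [Group G] [Finite G] (X : Type*) [MulAction G X] [Finite X] [MulAction.IsPretransitive G X] (hX : 2 ≤ Nat.card X) : Cfsg.IsIrrCharacter G (fun g => (Nat.card (MulAction.fixedBy X g) : ℂ) - 1) ↔ MulAction.IsMultiplyPretransitive G X 2 := by
  classical
  have := Fintype.ofFinite G
  have := Fintype.ofFinite X
  have hG := card_ne_zero_complex (G := G)
  have hXne : Nonempty X := by
    have : 0 < Nat.card X := by omega
    exact (Nat.card_pos_iff.mp this).1
  have hfun : (fun g : G => (Nat.card (MulAction.fixedBy X g) : ℂ) - 1)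
      = permChar G X - (fun _ => 1) := rfl
  rw [hfun]
  have horbX : Nat.card (MulAction.orbitRel.Quotient G X) = 1 := by
    have hs : Subsingleton (MulAction.orbitRel.Quotient G X) :=
      (MulAction.pretransitive_iff_subsingleton_quotient G X).mp inferInstance
    have hn : Nonempty (MulAction.orbitRel.Quotient G X) := ⟨Quotient.mk'' hXne.some⟩
    have := (Nat.card_eq_one_iff_unique).mpr ⟨hs, hn⟩
    exact this
  have hnorm : classInner (permChar G X - (fun _ => 1)) (permChar G X - (fun _ => 1))
      = (Nat.card (MulAction.orbitRel.Quotient G (Fin 2 ↪ X)) : ℂ) := by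
    rw [classInner_def]
    have h1 : ∀ g : G, (permChar G X - (fun _ : G => (1 : ℂ))) g *
        conj ((permChar G X - (fun _ : G => (1 : ℂ))) g)
        = permChar G (Fin 2 ↪ X) g - permChar G X g + 1 := by
      intro g
      rw [permChar_embedding]
      simp only [Pi.sub_apply, map_sub, permChar_conj, map_one]
      ring
    simp_rw [h1]
    rw [Finset.sum_add_distrib, Finset.sum_sub_distrib, sum_permChar, sum_permChar, horbX]
    simp only [Finset.sum_const, Finset.card_univ, nsmul_eq_mul, mul_one, Nat.cast_one, one_mul]
    rw [← Nat.card_eq_fintype_card]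
    field_simp
    ring
  have hYne : Nonempty (Fin 2 ↪ X) := by
    apply Function.Embedding.nonempty_of_card_le
    rw [Fintype.card_fin, ← Nat.card_eq_fintype_card]
    exact hX
  have hiff : Nat.card (MulAction.orbitRel.Quotient G (Fin 2 ↪ X)) = 1
      ↔ MulAction.IsPretransitive G (Fin 2 ↪ X) := by
    rw [MulAction.pretransitive_iff_subsingleton_quotient G (Fin 2 ↪ X), Nat.card_eq_one_iff_unique]
    constructor
    · intro h; exact h.1
    · intro h; exact ⟨h, ⟨Quotient.mk'' hYne.some⟩⟩
  constructor
  · intro hirr
    have h1 := classInner_irr_self hirr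
    rw [hnorm] at h1
    apply hiff.mp
    exact_mod_cast h1
  · intro h2
    have h1 := hiff.mpr h2
    apply IsGeneralizedCharacter.isIrr_of_norm_one
    · exact IsGeneralizedCharacter.sub (IsCharacter.isGeneralizedCharacter isCharacter_permChar)
        (IsCharacter.isGeneralizedCharacter isCharacter_one)
    · rw [hnorm, h1]; simp
    · simp only [Pi.sub_apply, permChar_apply]
      have : MulAction.fixedBy X (1 : G) = Set.univ := by
        ext x; simp
      rw [this, Nat.card_congr (Equiv.Set.univ X)]
      have : (2 : ℝ) ≤ (Nat.card X : ℝ) := by exact_mod_cast hX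
      simp only [Complex.sub_re, Complex.natCast_re, Complex.one_re]
      linarith

end Cfsg.Agent.S0157
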