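import Cfsg.Statements.S0159
import Cfsg.Agent.Lib.Helper2_ClassFn
import Cfsg.Agent.Lib.Helper2_CharBasic
import Cfsg.Agent.Lib.Helper2_CharOrtho
import Cfsg.Agent.Lib.Helper2_Clifford
import Cfsg.Agent.Lib.Helper2_CharMore
import Cfsg.Agent.Lib.Helper2_CharNorm
import Cfsg.Agent.Lib.Helper2_CharValues
import Cfsg.Agent.Lib.Helper2_CharComplete
import Cfsg.Agent.Lib.Helper2_CharInd
import Cfsg.Agent.Lib.Helper2_CharTable
import Cfsg.Agent.Lib.Helper2_CharFrob
import Cfsg.Agent.Lib.Helper2_CharDeg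
import Cfsg.Agent.Lib.Helper2_CharSum
import Cfsg.Agent.Lib.Helper2_CharExtra

set_option autoImplicit false
open Cfsg

namespace Cfsg.Agent.S0159

open Cfsg.Agent.Lib.Helper2_ClassFn Cfsg.Agent.Lib.Helper2_CharBasic Cfsg.Agent.Lib.Helper2_CharOrtho Cfsg.Agent.Lib.Helper2_Clifford Cfsg.Agent.Lib.Helper2_CharMore Cfsg.Agent.Lib.Helper2_CharNorm Cfsg.Agent.Lib.Helper2_CharValues Cfsg.Agent.Lib.Helper2_CharComplete Cfsg.Agent.Lib.Helper2_CharInd Cfsg.Agent.Lib.Helper2_CharTable Cfsg.Agent.Lib.Helper2_CharFrob Cfsg.Agent.Lib.Helper2_CharDeg Cfsg.Agent.Lib.Helper2_CharSum Cfsg.Agent.Lib.Helper2_CharExtra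
open scoped Pointwise


/-- The number of solutions of s * s = 1 in a finite group equals the sum, over the irreducible characters χ, of (the average over s of χ (s * s)) times χ 1. -/
theorem result {G : Type*} [Group G] [Fintype G] : (Nat.card {s : G // s * s = 1} : ℂ) = ∑ᶠ χ : Cfsg.IrrCharacter G, ((Nat.card G : ℂ)⁻¹ * ∑ s : G, (χ : G → ℂ) (s * s)) * (χ : G → ℂ) 1 := by
  classical
  rw [finsum_irr_eq_sum (fun χ : G → ℂ => ((Nat.card G : ℂ)⁻¹ * ∑ s : G, χ (s * s)) * χ 1)]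
  have hcol : ∀ g : G, ∑ χ ∈ irrFinset G, χ g * χ 1 = if g = 1 then (Nat.card G : ℂ) else 0 := by
    intro g
    have h := second_orthogonality' g (1 : G)
    have hconj : ∀ χ ∈ irrFinset G, χ g * (starRingEnd ℂ) (χ 1) = χ g * χ 1 := by
      intro χ hχ
      obtain ⟨n, -, hn⟩ := IsIrrCharacter.apply_one (mem_irrFinset.mp hχ)
      rw [hn, Complex.conj_natCast]
    rw [Finset.sum_congr rfl hconj] at h
    rw [h]
    by_cases hg : g = 1
    · subst hg
      rw [if_pos (IsConj.refl 1), if_pos rfl]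
      congr 1
      have : Subgroup.centralizer ({(1 : G)} : Set G) = ⊤ := by
        ext x
        simp [Subgroup.mem_centralizer_singleton_iff]
      rw [this]
      exact Subgroup.card_top
    · rw [if_neg hg, if_neg]
      intro hc
      exact hg (isConj_one_left.mp hc)
  have hswap : ∑ χ ∈ irrFinset G, ((Nat.card G : ℂ)⁻¹ * ∑ s : G, χ (s * s)) * χ 1
      = (Nat.card G : ℂ)⁻¹ * ∑ s : G, ∑ χ ∈ irrFinset G, χ (s * s) * χ 1 := by
    rw [Finset.sum_comm, Finset.mul_sum]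
    refine Finset.sum_congr rfl fun χ _ => ?_
    rw [mul_assoc, Finset.sum_mul]
  rw [hswap]
  simp_rw [hcol]
  rw [← Finset.sum_filter, Finset.sum_const, nsmul_eq_mul, ← mul_assoc, mul_comm (Nat.card G : ℂ)⁻¹,
    mul_assoc, inv_mul_cancel₀ card_ne_zero_complex, mul_one]
  congr 1
  rw [Nat.card_eq_fintype_card, Fintype.card_subtype]

end Cfsg.Agent.S0159
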