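import Cfsg.Statements.S0161
import Mathlib
import Cfsg.Agent.Lib.Helper2_ClassFn
import Cfsg.Agent.Lib.Helper2_CharBasic
import Cfsg.Agent.Lib.Helper2_CharOrtho
import Cfsg.Agent.Lib.Helper2_CharMore
import Cfsg.Agent.Lib.Helper2_Clifford
import Cfsg.Agent.Lib.Helper2_CharValues
import Cfsg.Agent.Lib.Helper2_CharComplete
import Cfsg.Agent.Lib.Helper2_CharInd
import Cfsg.Agent.Lib.Helper2_CharTable
import Cfsg.Agent.Lib.Helper2_CharSum
import Cfsg.Agent.Lib.Helper2_CharDeg
import Cfsg.Agent.Lib.Helper2_CharFrob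
import Cfsg.Agent.S0160

set_option autoImplicit false
open Cfsg

open Cfsg.Agent.Lib.Helper2_ClassFn Cfsg.Agent.Lib.Helper2_CharBasic Cfsg.Agent.Lib.Helper2_CharOrtho
open Cfsg.Agent.Lib.Helper2_CharMore Cfsg.Agent.Lib.Helper2_Clifford Cfsg.Agent.Lib.Helper2_CharValues
open Cfsg.Agent.Lib.Helper2_CharComplete Cfsg.Agent.Lib.Helper2_CharInd Cfsg.Agent.Lib.Helper2_CharTable
open Cfsg.Agent.Lib.Helper2_CharSum Cfsg.Agent.Lib.Helper2_CharDeg Cfsg.Agent.Lib.Helper2_CharFrob

namespace Cfsg.Agent.S0161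

/-- in a group of odd order, only the identity is conjugate to its inverse -/
theorem eq_one_of_isConj_inv {G : Type*} [Group G] [Finite G] (hodd : Odd (Nat.card G)) (g : G)
    (h : IsConj g g⁻¹) : g = 1 := by
  obtain ⟨x, hx⟩ := isConj_iff.mp h
  -- x² centralizes g
  have h2 : x ^ 2 * g = g * x ^ 2 := by
    have e1 : x * g = g⁻¹ * x := by rw [← hx]; group
    have e2 : x * g⁻¹ = g * x := by
      have : x * g⁻¹ * x⁻¹ = g := by
        have := congrArg (fun y => y⁻¹) hx
        simp only [mul_inv_rev, inv_inv] at this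
        rw [← mul_assoc] at this
        exact this
      calc x * g⁻¹ = (x * g⁻¹ * x⁻¹) * x := by group
        _ = g * x := by rw [this]
    calc x ^ 2 * g = x * (x * g) := by rw [sq, mul_assoc]
      _ = x * (g⁻¹ * x) := by rw [e1]
      _ = (x * g⁻¹) * x := by rw [mul_assoc]
      _ = g * x * x := by rw [e2]
      _ = g * x ^ 2 := by rw [sq, mul_assoc]
  -- x is a power of x²
  have hox : Odd (orderOf x) := by
    have := orderOf_dvd_natCard x
    exact Odd.of_dvd_nat hodd this
  obtain ⟨k, hk⟩ := hox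
  have hx' : x = (x ^ 2) ^ (k + 1) := by
    rw [← pow_mul]
    have : 2 * (k + 1) = orderOf x + 1 := by omega
    rw [this, pow_succ, pow_orderOf_eq_one, one_mul]
  have hcomm : x * g = g * x := by
    have : Commute (x ^ 2) g := h2
    have := this.pow_left (k + 1)
    rw [← hx'] at this
    exact this
  have hgg : g = g⁻¹ := by
    calc g = g * x * x⁻¹ := by group
      _ = x * g * x⁻¹ := by rw [hcomm]
      _ = g⁻¹ := hx
  have hg2 : g ^ 2 = 1 := by
    rw [sq]
    calc g * g = g⁻¹ * g := by nth_rewrite 1 [hgg]; rfl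
      _ = 1 := by group
  have hog : orderOf g ∣ 2 := orderOf_dvd_of_pow_eq_one hg2
  have hog' : Odd (orderOf g) := Odd.of_dvd_nat hodd (orderOf_dvd_natCard g)
  have : orderOf g = 1 := by
    rcases (Nat.dvd_prime Nat.prime_two).mp hog with h | h
    · exact h
    · rw [h] at hog'; exact absurd hog' (by decide)
  exact orderOf_eq_one_iff.mp this


/-- In a finite group of odd order, a real-valued irreducible complex character is the trivial character. -/
theorem result {G : Type*} [Group G] [Finite G] (hodd : Odd (Nat.card G)) (χ : Cfsg.IrrCharacter G) (hreal : ∀ g : G, ((χ : G → ℂ) g).im = 0) : (χ : G → ℂ) = fun _ => 1 := by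
  classical
  have := Fintype.ofFinite G
  have h := Cfsg.Agent.S0160.result (G := G)
  have hsub : Subsingleton {C : ConjClasses G // ∀ g : G, ConjClasses.mk g = C → IsConj g g⁻¹} := by
    constructor
    rintro ⟨C, hC⟩ ⟨C', hC'⟩
    obtain ⟨g, rfl⟩ := ConjClasses.mk_surjective C
    obtain ⟨g', rfl⟩ := ConjClasses.mk_surjective C'
    have h1 := eq_one_of_isConj_inv hodd g (hC g rfl)
    have h2 := eq_one_of_isConj_inv hodd g' (hC' g' rfl)
    subst h1 h2
    rfl
  have hfin : Finite {χ : Cfsg.IrrCharacter G // ∀ g : G, ((χ : G → ℂ) g).im = 0} :=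
    Subtype.finite
  have hle : Nat.card {χ : Cfsg.IrrCharacter G // ∀ g : G, ((χ : G → ℂ) g).im = 0} ≤ 1 := by
    rw [h]
    exact Finite.card_le_one_iff_subsingleton.mpr hsub
  have hsub2 := Finite.card_le_one_iff_subsingleton.mp hle
  have e := hsub2.elim ⟨χ, hreal⟩ ⟨⟨fun _ => 1, isIrrCharacter_one⟩, fun g => by simp⟩
  have := congrArg (fun x : {χ : Cfsg.IrrCharacter G // ∀ g : G, ((χ : G → ℂ) g).im = 0} =>
    ((x.1 : Cfsg.IrrCharacter G) : G → ℂ)) e
  exact this

end Cfsg.Agent.S0161
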