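import Cfsg.Statements.S0162
import Cfsg.Agent.Lib.Helper2_ClassFn
import Cfsg.Agent.Lib.Helper2_CharBasic
import Cfsg.Agent.Lib.Helper2_CharOrtho
import Cfsg.Agent.Lib.Helper2_Clifford
import Cfsg.Agent.Lib.Helper2_CharMore
import Cfsg.Agent.Lib.Helper2_CharNorm
import Cfsg.Agent.Lib.Helper2_CharValues
import Cfsg.Agent.Lib.Helper2_CharComplete
import Cfsg.Agent.Lib.Helper2_CharInd
import Cfsg.Agent.Lib.Helper2_CharTable
import Cfsg.Agent.Lib.Helper2_CharFrob
import Cfsg.Agent.Lib.Helper2_CharDeg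
import Cfsg.Agent.Lib.Helper2_CharSum
import Cfsg.Agent.Lib.Helper2_CharExtra
import Cfsg.Agent.Lib.Helper2_CharCentral
import Cfsg.Agent.Lib.Helper2_PermChar
import Cfsg.Agent.Lib.Helper2_FrobSchur
import Cfsg.Agent.Lib.Helper2_CliffordCorr
import Cfsg.Agent.Lib.Helper2_CharKernel
import Cfsg.Agent.Lib.Helper2_CyclicTI
import Cfsg.Agent.Lib.Helper2_CharGalois
import Cfsg.Agent.Lib.Helper2_CharInt
import Cfsg.Agent.Lib.Helper2_CharBurnside
import Cfsg.Agent.S0133
import Cfsg.Agent.S0161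

set_option autoImplicit false
open Cfsg

namespace Cfsg.Agent.S0162

open Cfsg.Agent.Lib.Helper2_ClassFn Cfsg.Agent.Lib.Helper2_CharBasic Cfsg.Agent.Lib.Helper2_CharOrtho Cfsg.Agent.Lib.Helper2_Clifford Cfsg.Agent.Lib.Helper2_CharMore Cfsg.Agent.Lib.Helper2_CharNorm Cfsg.Agent.Lib.Helper2_CharValues Cfsg.Agent.Lib.Helper2_CharComplete Cfsg.Agent.Lib.Helper2_CharInd Cfsg.Agent.Lib.Helper2_CharTable Cfsg.Agent.Lib.Helper2_CharFrob Cfsg.Agent.Lib.Helper2_CharDeg Cfsg.Agent.Lib.Helper2_CharSum Cfsg.Agent.Lib.Helper2_CharExtra Cfsg.Agent.Lib.Helper2_CharCentral Cfsg.Agent.Lib.Helper2_PermChar Cfsg.Agent.Lib.Helper2_FrobSchur Cfsg.Agent.Lib.Helper2_CliffordCorr Cfsg.Agent.Lib.Helper2_CharKernel Cfsg.Agent.Lib.Helper2_CyclicTI Cfsg.Agent.Lib.Helper2_CharGalois Cfsg.Agent.Lib.Helper2_CharInt Cfsg.Agent.Lib.Helper2_CharBurnside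
open scoped Pointwise
noncomputable def deg {G : Type*} [Group G] (χ : G → ℂ) : ℕ := Nat.floor (χ 1).re

theorem deg_eq {G : Type*} [Group G] [Finite G] {χ : G → ℂ} (hχ : IsIrrCharacter G χ) :
    (deg χ : ℂ) = χ 1 := by
  obtain ⟨n, -, hn⟩ := IsIrrCharacter.apply_one hχ
  unfold deg
  rw [hn, Complex.natCast_re, Nat.floor_natCast]

theorem deg_conj {G : Type*} [Group G] [Finite G] {χ : G → ℂ} (hχ : IsIrrCharacter G χ) :
    deg (fun x => (starRingEnd ℂ) (χ x)) = deg χ := by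
  obtain ⟨n, -, hn⟩ := IsIrrCharacter.apply_one hχ
  unfold deg
  simp only
  rw [hn, Complex.conj_natCast]

theorem odd_sq (n : ℕ) (hn : Odd n) : n ^ 2 = 8 * ((n ^ 2 - 1) / 8) + 1 := by
  obtain ⟨m, rfl⟩ := hn
  have h1 : (2 * m + 1) ^ 2 - 1 = 4 * (m * (m + 1)) := by
    have : (2 * m + 1) ^ 2 = 4 * (m * (m + 1)) + 1 := by ring
    omega
  have h2 : 2 ∣ m * (m + 1) := (Nat.even_mul_succ_self m).two_dvd
  obtain ⟨t, ht⟩ := h2
  have h3 : (2 * m + 1) ^ 2 = 8 * t + 1 := by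
    have : (2 * m + 1) ^ 2 = 4 * (m * (m + 1)) + 1 := by ring
    rw [this, ht]; ring
  rw [h3]
  omega


/-- If a finite group has odd order, its order is congruent to its number of conjugacy classes modulo 16. -/
theorem result {G : Type*} [Group G] [Finite G] (hodd : Odd (Nat.card G)) : Nat.card G ≡ Nat.card (ConjClasses G) [MOD 16] := by
  classical
  haveI := Fintype.ofFinite G
  have hk : (irrFinset G).card = Nat.card (ConjClasses G) := by
    rw [← card_irr]; exact Cfsg.Agent.S0133.result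
  -- sum of squares of degrees
  have hsumC : ∑ χ ∈ irrFinset G, ((deg χ : ℂ)) ^ 2 = (Nat.card G : ℂ) := by
    have h := sum_irr_mul_deg (1 : G)
    rw [if_pos rfl] at h
    rw [← h]
    refine Finset.sum_congr rfl fun χ hχ => ?_
    rw [deg_eq (mem_irrFinset.mp hχ)]; ring
  have hsum : ∑ χ ∈ irrFinset G, (deg χ) ^ 2 = Nat.card G := by
    have : ((∑ χ ∈ irrFinset G, (deg χ) ^ 2 : ℕ) : ℂ) = (Nat.card G : ℂ) := by
      rw [← hsumC]; push_cast; rfl
    exact_mod_cast this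
  -- degrees are odd
  have hdegodd : ∀ χ ∈ irrFinset G, Odd (deg χ) := by
    intro χ hχ
    have hχ' := mem_irrFinset.mp hχ
    have hdvd : deg χ ∣ Nat.card G := degree_dvd_card hχ' (deg χ) (deg_eq hχ').symm
    exact Odd.of_dvd_nat hodd hdvd
  set g : (G → ℂ) → ℕ := fun χ => ((deg χ) ^ 2 - 1) / 8 with hg
  have hdeg : ∀ χ ∈ irrFinset G, (deg χ) ^ 2 = 8 * g χ + 1 := by
    intro χ hχ
    exact odd_sq _ (hdegodd χ hχ)
  have hsum2 : Nat.card G = 8 * ∑ χ ∈ irrFinset G, g χ + Nat.card (ConjClasses G) := by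
    rw [← hsum, Finset.sum_congr rfl hdeg, Finset.sum_add_distrib, ← Finset.mul_sum,
      Finset.sum_const, smul_eq_mul, mul_one, hk]
  -- the sum of the `g χ` is even
  have heven : (((∑ χ ∈ irrFinset G, g χ : ℕ)) : ZMod 2) = 0 := by
    rw [Nat.cast_sum]
    apply Finset.sum_involution (fun χ _ => fun x => (starRingEnd ℂ) (χ x))
    · intro χ hχ
      have : g (fun x => (starRingEnd ℂ) (χ x)) = g χ := by
        simp only [hg]
        rw [deg_conj (mem_irrFinset.mp hχ)]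
      rw [this]
      exact CharTwo.add_self_eq_zero _
    · intro χ hχ hne hreal
      apply hne
      have hχ' := mem_irrFinset.mp hχ
      have him : ∀ x : G, (χ x).im = 0 := by
        intro x
        have := congrFun hreal x
        exact Complex.conj_eq_iff_im.mp this
      have h1 := Cfsg.Agent.S0161.result hodd ⟨χ, hχ'⟩ him
      simp only at h1
      have hd1 : deg χ = 1 := by
        have h3 : (deg χ : ℂ) = 1 := by
          rw [deg_eq hχ', h1]
        exact_mod_cast h3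
      simp only [hg]
      rw [hd1]
      simp
    · intro χ hχ
      exact mem_irrFinset.mpr (IsIrrCharacter.conj (mem_irrFinset.mp hχ))
    · intro χ hχ
      ext x
      simp
  have h2 : 2 ∣ ∑ χ ∈ irrFinset G, g χ := by
    exact (ZMod.natCast_eq_zero_iff _ 2).mp heven
  obtain ⟨t, ht⟩ := h2
  rw [ht] at hsum2
  rw [hsum2]
  unfold Nat.ModEq
  omega

end Cfsg.Agent.S0162
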