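import Cfsg.Statements.S0163
import Cfsg.Agent.Lib.Helper2_ClassFn
import Cfsg.Agent.Lib.Helper2_CharBasic
import Cfsg.Agent.Lib.Helper2_CharOrtho
import Cfsg.Agent.Lib.Helper2_Clifford
import Cfsg.Agent.Lib.Helper2_CharMore
import Cfsg.Agent.Lib.Helper2_CharNorm
import Cfsg.Agent.Lib.Helper2_CharValues
import Cfsg.Agent.Lib.Helper2_CharComplete
import Cfsg.Agent.Lib.Helper2_CharInd
import Cfsg.Agent.Lib.Helper2_CharTable
import Cfsg.Agent.Lib.Helper2_CharFrob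
import Cfsg.Agent.Lib.Helper2_CharDeg
import Cfsg.Agent.Lib.Helper2_CharSum
import Cfsg.Agent.Lib.Helper2_CharExtra
import Cfsg.Agent.Lib.Helper2_CharCentral
import Cfsg.Agent.Lib.Helper2_PermChar
import Cfsg.Agent.Lib.Helper2_FrobSchur
import Cfsg.Agent.Lib.Helper2_CliffordCorr
import Cfsg.Agent.Lib.Helper2_CharKernel
import Cfsg.Agent.Lib.Helper2_CyclicTI
import Cfsg.Agent.Lib.Helper2_CharGalois
import Cfsg.Agent.Lib.Helper2_CharInt
import Cfsg.Agent.Lib.Helper2_CharBurnside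
import Cfsg.Agent.Lib.Helper2_CharCenter
import Cfsg.Agent.Lib.Helper2_Ito
import Cfsg.Agent.Lib.Helper2_Gallagher
import Cfsg.Agent.Lib.Helper2_Artin
import Cfsg.Agent.Lib.Helper2_MGroup
import Cfsg.Agent.Lib.Helper2_RepEquiv
import Cfsg.Agent.Lib.Helper2_CyclicExt
import Cfsg.Agent.Lib.Helper2_Extraspecial
import Cfsg.Agent.Lib.Helper2_ProjLift
import Cfsg.Agent.Lib.Helper2_CentralExt
import Cfsg.Agent.Lib.Helper2_SylowExt
import Cfsg.Agent.Lib.Helper2_DetChar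
import Cfsg.Agent.Lib.Helper2_LinExt
import Cfsg.Agent.Lib.Helper2_DetExt
import Cfsg.Agent.Lib.Helper2_GallagherExt
import Cfsg.Agent.Lib.Helper2_PermInd
import Cfsg.Agent.Lib.Helper2_QuasiElem
import Cfsg.Agent.Lib.Helper2_BrauerInd
import Cfsg.Agent.Lib.Helper2_BrauerThm

set_option autoImplicit false
open Cfsg

namespace Cfsg.Agent.S0163

open Cfsg.Agent.Lib.Helper2_ClassFn Cfsg.Agent.Lib.Helper2_CharBasic Cfsg.Agent.Lib.Helper2_CharOrtho Cfsg.Agent.Lib.Helper2_Clifford Cfsg.Agent.Lib.Helper2_CharMore Cfsg.Agent.Lib.Helper2_CharNorm Cfsg.Agent.Lib.Helper2_CharValues Cfsg.Agent.Lib.Helper2_CharComplete Cfsg.Agent.Lib.Helper2_CharInd Cfsg.Agent.Lib.Helper2_CharTable Cfsg.Agent.Lib.Helper2_CharFrob Cfsg.Agent.Lib.Helper2_CharDeg Cfsg.Agent.Lib.Helper2_CharSum Cfsg.Agent.Lib.Helper2_CharExtra Cfsg.Agent.Lib.Helper2_CharCentral Cfsg.Agent.Lib.Helper2_PermChar Cfsg.Agent.Lib.Helper2_FrobSchur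 Cfsg.Agent.Lib.Helper2_CliffordCorr Cfsg.Agent.Lib.Helper2_CharKernel Cfsg.Agent.Lib.Helper2_CyclicTI Cfsg.Agent.Lib.Helper2_CharGalois Cfsg.Agent.Lib.Helper2_CharInt Cfsg.Agent.Lib.Helper2_CharBurnside Cfsg.Agent.Lib.Helper2_CharCenter Cfsg.Agent.Lib.Helper2_Ito Cfsg.Agent.Lib.Helper2_Gallagher Cfsg.Agent.Lib.Helper2_Artin Cfsg.Agent.Lib.Helper2_MGroup Cfsg.Agent.Lib.Helper2_RepEquiv Cfsg.Agent.Lib.Helper2_CyclicExt Cfsg.Agent.Lib.Helper2_Extraspecial Cfsg.Agent.Lib.Helper2_ProjLift Cfsg.Agent.Lib.Helper2_CentralExt Cfsg.Agent.Lib.Helper2_SylowExt Cfsg.Agent.Lib.Helper2_DetChar Cfsg.Agent.Lib.Helper2_LinExt Cfsg.Agent.Lib.Helper2_DetExt Cfsg.Agent.Lib.Helper2_GallagherExt Cfsg.Agent.Lib.Helper2_PermInd Cfsg.Agent.Lib.Helper2_QuasiElem Cfsg.Agent.Lib.Helper2_BrauerInd Cfsg.Agent.Lib.Helper2_BrauerThm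
open scoped Pointwise


/-- Brauer's induction Theorem: every character of a finite group is a ℤ-linear combination of functions induced from linear characters (homomorphisms to ℂˣ) of elementary subgroups. -/
theorem result {G : Type*} [Group G] [Fintype G] (χ : G → ℂ) (hχ : Cfsg.IsCharacter G χ) : ∃ l : List ((E : Subgroup G) × ((E →* ℂˣ) × ℤ)), (∀ t ∈ l, ∃ p : ℕ, p.Prime ∧ Cfsg.IsElementary p t.1) ∧ χ = (l.map fun t => (t.2.2 : ℂ) • Cfsg.indFun t.1 (fun e => (t.2.1 e : ℂ))).sum := by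
  obtain ⟨l, hl, heq⟩ := brauer_induction χ hχ
  exact ⟨l, hl, heq⟩

end Cfsg.Agent.S0163
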