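import Cfsg.Statements.S0164
import Cfsg.Agent.Lib.Helper2_ClassFn
import Cfsg.Agent.Lib.Helper2_CharBasic
import Cfsg.Agent.Lib.Helper2_CharOrtho
import Cfsg.Agent.Lib.Helper2_Clifford
import Cfsg.Agent.Lib.Helper2_CharMore
import Cfsg.Agent.Lib.Helper2_CharNorm
import Cfsg.Agent.Lib.Helper2_CharValues
import Cfsg.Agent.Lib.Helper2_CharComplete
import Cfsg.Agent.Lib.Helper2_CharInd
import Cfsg.Agent.Lib.Helper2_CharTable
import Cfsg.Agent.Lib.Helper2_CharFrob
import Cfsg.Agent.Lib.Helper2_CharDeg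
import Cfsg.Agent.Lib.Helper2_CharSum
import Cfsg.Agent.Lib.Helper2_CharExtra
import Cfsg.Agent.Lib.Helper2_CharCentral
import Cfsg.Agent.Lib.Helper2_PermChar
import Cfsg.Agent.Lib.Helper2_FrobSchur
import Cfsg.Agent.Lib.Helper2_CliffordCorr
import Cfsg.Agent.Lib.Helper2_CharKernel
import Cfsg.Agent.Lib.Helper2_CyclicTI
import Cfsg.Agent.Lib.Helper2_CharGalois
import Cfsg.Agent.Lib.Helper2_CharInt
import Cfsg.Agent.Lib.Helper2_CharBurnside
import Cfsg.Agent.Lib.Helper2_CharCenter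
import Cfsg.Agent.Lib.Helper2_Ito
import Cfsg.Agent.Lib.Helper2_Gallagher
import Cfsg.Agent.Lib.Helper2_Artin
import Cfsg.Agent.Lib.Helper2_MGroup
import Cfsg.Agent.Lib.Helper2_RepEquiv
import Cfsg.Agent.Lib.Helper2_CyclicExt
import Cfsg.Agent.Lib.Helper2_Extraspecial
import Cfsg.Agent.Lib.Helper2_ProjLift
import Cfsg.Agent.Lib.Helper2_CentralExt
import Cfsg.Agent.Lib.Helper2_SylowExt
import Cfsg.Agent.Lib.Helper2_DetChar
import Cfsg.Agent.Lib.Helper2_LinExt
import Cfsg.Agent.Lib.Helper2_DetExt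
import Cfsg.Agent.Lib.Helper2_GallagherExt
import Cfsg.Agent.Lib.Helper2_PermInd
import Cfsg.Agent.Lib.Helper2_QuasiElem
import Cfsg.Agent.Lib.Helper2_BrauerInd
import Cfsg.Agent.Lib.Helper2_BrauerThm

set_option autoImplicit false
open Cfsg

namespace Cfsg.Agent.S0164

open Cfsg.Agent.Lib.Helper2_ClassFn Cfsg.Agent.Lib.Helper2_CharBasic Cfsg.Agent.Lib.Helper2_CharOrtho Cfsg.Agent.Lib.Helper2_Clifford Cfsg.Agent.Lib.Helper2_CharMore Cfsg.Agent.Lib.Helper2_CharNorm Cfsg.Agent.Lib.Helper2_CharValues Cfsg.Agent.Lib.Helper2_CharComplete Cfsg.Agent.Lib.Helper2_CharInd Cfsg.Agent.Lib.Helper2_CharTable Cfsg.Agent.Lib.Helper2_CharFrob Cfsg.Agent.Lib.Helper2_CharDeg Cfsg.Agent.Lib.Helper2_CharSum Cfsg.Agent.Lib.Helper2_CharExtra Cfsg.Agent.Lib.Helper2_CharCentral Cfsg.Agent.Lib.Helper2_PermChar Cfsg.Agent.Lib.Helper2_FrobSchur Cfsg.Agent.Lib.Helper2_CliffordCorr Cfsg.Agent.Lib.Helper2_CharKernel Cfsg.Agent.Lib.Helper2_CyclicTI Cfsg.Agent.Lib.Helper2_CharGalois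 Cfsg.Agent.Lib.Helper2_CharInt Cfsg.Agent.Lib.Helper2_CharBurnside Cfsg.Agent.Lib.Helper2_CharCenter Cfsg.Agent.Lib.Helper2_Ito Cfsg.Agent.Lib.Helper2_Gallagher Cfsg.Agent.Lib.Helper2_Artin Cfsg.Agent.Lib.Helper2_MGroup Cfsg.Agent.Lib.Helper2_RepEquiv Cfsg.Agent.Lib.Helper2_CyclicExt Cfsg.Agent.Lib.Helper2_Extraspecial Cfsg.Agent.Lib.Helper2_ProjLift Cfsg.Agent.Lib.Helper2_CentralExt Cfsg.Agent.Lib.Helper2_SylowExt Cfsg.Agent.Lib.Helper2_DetChar Cfsg.Agent.Lib.Helper2_LinExt Cfsg.Agent.Lib.Helper2_DetExt Cfsg.Agent.Lib.Helper2_GallagherExt Cfsg.Agent.Lib.Helper2_PermInd Cfsg.Agent.Lib.Helper2_QuasiElem Cfsg.Agent.Lib.Helper2_BrauerInd Cfsg.Agent.Lib.Helper2_BrauerThm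
open scoped Pointwise


/-- Brauer's characterisation of characters: a class function on a finite group whose restriction to every elementary subgroup is a generalized character is a generalized character. -/
theorem result {G : Type*} [Group G] [Finite G] (θ : G → ℂ) (hθ : Cfsg.IsClassFunction G θ) (hE : ∀ (E : Subgroup G) (p : ℕ), p.Prime → Cfsg.IsElementary p E → Cfsg.IsGeneralizedCharacter E (fun e : E => θ e)) : Cfsg.IsGeneralizedCharacter G θ := by
  classical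
  haveI := Fintype.ofFinite G
  obtain ⟨l, hl, heq⟩ := linSpan_one (G := G)
  have h1 : θ = (fun _ : G => (1:ℂ)) * θ := by ext g; simp
  rw [h1, heq]
  clear heq h1
  induction l with
  | nil => simpa using IsGeneralizedCharacter.zero
  | cons t l ih =>
    rw [List.map_cons, List.sum_cons, add_mul]
    apply IsGeneralizedCharacter.add
    · rw [smul_mul_assoc, ← indFun_mul_res' t.1 _ hθ, Int.cast_smul_eq_zsmul]
      apply IsGeneralizedCharacter.zsmul
      apply IsGeneralizedCharacter.indFun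
      obtain ⟨p, hp, hEt⟩ := hl t List.mem_cons_self
      exact IsGeneralizedCharacter.mul
        (IsIrrCharacter.isGeneralizedCharacter (isIrrCharacter_of_hom t.2.1))
        (hE t.1 p hp hEt)
    · exact ih (fun s hs => hl s (List.mem_cons_of_mem t hs))

end Cfsg.Agent.S0164
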