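import Cfsg.Statements.S0167
import Cfsg.Agent.Lib.Helper2_ClassFn
import Cfsg.Agent.Lib.Helper2_CharBasic
import Cfsg.Agent.Lib.Helper2_CharOrtho
import Cfsg.Agent.Lib.Helper2_Clifford
import Cfsg.Agent.Lib.Helper2_CharMore
import Cfsg.Agent.Lib.Helper2_CharNorm
import Cfsg.Agent.Lib.Helper2_CharValues
import Cfsg.Agent.Lib.Helper2_CharComplete
import Cfsg.Agent.Lib.Helper2_CharInd
import Cfsg.Agent.Lib.Helper2_CharTable
import Cfsg.Agent.Lib.Helper2_CharFrob
import Cfsg.Agent.Lib.Helper2_CharDeg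
import Cfsg.Agent.Lib.Helper2_CharSum
import Cfsg.Agent.Lib.Helper2_CharExtra
import Cfsg.Agent.Lib.Helper2_CharCentral

set_option autoImplicit false
open Cfsg

namespace Cfsg.Agent.S0167

open Cfsg.Agent.Lib.Helper2_ClassFn Cfsg.Agent.Lib.Helper2_CharBasic Cfsg.Agent.Lib.Helper2_CharOrtho Cfsg.Agent.Lib.Helper2_Clifford Cfsg.Agent.Lib.Helper2_CharMore Cfsg.Agent.Lib.Helper2_CharNorm Cfsg.Agent.Lib.Helper2_CharValues Cfsg.Agent.Lib.Helper2_CharComplete Cfsg.Agent.Lib.Helper2_CharInd Cfsg.Agent.Lib.Helper2_CharTable Cfsg.Agent.Lib.Helper2_CharFrob Cfsg.Agent.Lib.Helper2_CharDeg Cfsg.Agent.Lib.Helper2_CharSum Cfsg.Agent.Lib.Helper2_CharExtra Cfsg.Agent.Lib.Helper2_CharCentral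
open scoped Pointwise


/-- An element g of a finite group is a commutator if and only if the sum over the irreducible characters χ of χ g / χ 1 is nonzero. -/
theorem result {G : Type*} [Group G] [Finite G] (g : G) : (∃ a b : G, g = a * b * a⁻¹ * b⁻¹) ↔ ∑ᶠ χ : Cfsg.IrrCharacter G, (χ : G → ℂ) g / (χ : G → ℂ) 1 ≠ 0 := by
  classical
  have := Fintype.ofFinite G
  rw [finsum_irr_eq_sum (fun χ : G → ℂ => χ g / χ 1)]
  set S := Finset.univ.filter (fun p : G × G => p.1 * p.2 * p.1⁻¹ * p.2⁻¹ = g) with hS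
  have hG : (Nat.card G : ℂ) ≠ 0 := card_ne_zero_complex
  have hcount : (S.card : ℂ)
      = (Nat.card G : ℂ) * (starRingEnd ℂ) (∑ χ ∈ irrFinset G, χ g / χ 1) := by
    have h1 : (S.card : ℂ)
        = ∑ p : G × G, if p.1 * p.2 * p.1⁻¹ * p.2⁻¹ = g then (1 : ℂ) else 0 := by
      rw [hS, Finset.card_filter]
      push_cast
      rfl
    have h2 : ∀ p : G × G, (if p.1 * p.2 * p.1⁻¹ * p.2⁻¹ = g then (1 : ℂ) else 0)
        = (Nat.card G : ℂ)⁻¹ *
          ∑ χ ∈ irrFinset G, χ (p.1 * p.2 * p.1⁻¹ * (p.2⁻¹ * g⁻¹)) * χ 1 := by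
      intro p
      rw [sum_irr_mul_deg]
      by_cases h : p.1 * p.2 * p.1⁻¹ * p.2⁻¹ = g
      · rw [if_pos h, if_pos, inv_mul_cancel₀ hG]
        rw [← mul_assoc, h, mul_inv_cancel]
      · rw [if_neg h, if_neg, mul_zero]
        intro h'
        apply h
        rw [← mul_assoc] at h'
        exact mul_inv_eq_one.mp h'
    rw [h1]
    simp_rw [h2]
    rw [← Finset.mul_sum, Finset.sum_comm, map_sum, Finset.mul_sum, Finset.mul_sum]
    refine Finset.sum_congr rfl fun χ hχ => ?_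
    have hirr := mem_irrFinset.mp hχ
    have hc := IsIrrCharacter.isCharacter hirr
    have h10 : χ 1 ≠ 0 := IsIrrCharacter.apply_one_ne_zero hirr
    rw [Fintype.sum_prod_type_right]
    have h3 : ∀ b : G, ∑ a : G, χ (a * b * a⁻¹ * (b⁻¹ * g⁻¹)) * χ 1
        = (Nat.card G : ℂ) * (χ b⁻¹⁻¹ * χ (b⁻¹ * g⁻¹)) := by
      intro b
      rw [← Finset.sum_mul, sum_conj_mul hirr, inv_inv]
      field_simp
    simp_rw [h3]
    rw [← Finset.mul_sum]
    have h4 : ∑ b : G, χ b⁻¹⁻¹ * χ (b⁻¹ * g⁻¹) = ∑ b : G, χ b⁻¹ * χ (b * g⁻¹) :=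
      Fintype.sum_equiv (Equiv.inv G) _ _ (fun _ => rfl)
    rw [h4, sum_inv_mul hirr, IsCharacter.apply_inv hc, map_div₀]
    obtain ⟨n, -, hn⟩ := IsIrrCharacter.apply_one hirr
    rw [hn, Complex.conj_natCast]
    field_simp
  constructor
  · rintro ⟨a, b, hab⟩
    have hmem : (a, b) ∈ S := by
      rw [hS, Finset.mem_filter]
      exact ⟨Finset.mem_univ _, hab.symm⟩
    have hpos : 0 < S.card := Finset.card_pos.mpr ⟨_, hmem⟩
    intro h0
    rw [h0, map_zero, mul_zero] at hcount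
    have : S.card = 0 := by exact_mod_cast hcount
    omega
  · intro hne
    have hS0 : S.card ≠ 0 := by
      intro h0
      rw [h0] at hcount
      simp only [Nat.cast_zero] at hcount
      rcases mul_eq_zero.mp hcount.symm with h | h
      · exact hG h
      · apply hne
        have := congrArg (starRingEnd ℂ) h
        simpa using this
    obtain ⟨⟨a, b⟩, hab⟩ := Finset.card_pos.mp (Nat.pos_of_ne_zero hS0)
    exact ⟨a, b, (Finset.mem_filter.mp hab).2.symm⟩

end Cfsg.Agent.S0167
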