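import Cfsg.Statements.S0168
import Cfsg.Agent.Lib.Helper2_ClassFn
import Cfsg.Agent.Lib.Helper2_CharBasic
import Cfsg.Agent.Lib.Helper2_CharOrtho
import Cfsg.Agent.Lib.Helper2_Clifford
import Cfsg.Agent.Lib.Helper2_CharMore
import Cfsg.Agent.Lib.Helper2_CharNorm
import Cfsg.Agent.Lib.Helper2_CharValues
import Cfsg.Agent.Lib.Helper2_CharComplete
import Cfsg.Agent.Lib.Helper2_CharInd
import Cfsg.Agent.Lib.Helper2_CharTable
import Cfsg.Agent.Lib.Helper2_CharFrob
import Cfsg.Agent.Lib.Helper2_CharDeg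
import Cfsg.Agent.Lib.Helper2_CharSum
import Cfsg.Agent.Lib.Helper2_CharExtra
import Cfsg.Agent.Lib.Helper2_CharCentral
import Cfsg.Agent.Lib.Helper2_PermChar
import Cfsg.Agent.Lib.Helper2_FrobSchur
import Cfsg.Agent.Lib.Helper2_CliffordCorr
import Cfsg.Agent.Lib.Helper2_CharKernel
import Cfsg.Agent.Lib.Helper2_CyclicTI
import Cfsg.Agent.Lib.Helper2_CharGalois
import Cfsg.Agent.Lib.Helper2_CharInt
import Cfsg.Agent.Lib.Helper2_CharBurnside

set_option autoImplicit false
open Cfsg

namespace Cfsg.Agent.S0168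

open Cfsg.Agent.Lib.Helper2_ClassFn Cfsg.Agent.Lib.Helper2_CharBasic Cfsg.Agent.Lib.Helper2_CharOrtho Cfsg.Agent.Lib.Helper2_Clifford Cfsg.Agent.Lib.Helper2_CharMore Cfsg.Agent.Lib.Helper2_CharNorm Cfsg.Agent.Lib.Helper2_CharValues Cfsg.Agent.Lib.Helper2_CharComplete Cfsg.Agent.Lib.Helper2_CharInd Cfsg.Agent.Lib.Helper2_CharTable Cfsg.Agent.Lib.Helper2_CharFrob Cfsg.Agent.Lib.Helper2_CharDeg Cfsg.Agent.Lib.Helper2_CharSum Cfsg.Agent.Lib.Helper2_CharExtra Cfsg.Agent.Lib.Helper2_CharCentral Cfsg.Agent.Lib.Helper2_PermChar Cfsg.Agent.Lib.Helper2_FrobSchur Cfsg.Agent.Lib.Helper2_CliffordCorr Cfsg.Agent.Lib.Helper2_CharKernel Cfsg.Agent.Lib.Helper2_CyclicTI Cfsg.Agent.Lib.Helper2_CharGalois Cfsg.Agent.Lib.Helper2_CharInt Cfsg.Agent.Lib.Helper2_CharBurnside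
open scoped Pointwise


/-- The Burnside–Brauer Theorem. Let χ be the character of a faithful complex representation of a finite group, taking m distinct values. Then every irreducible character has nonzero inner product with χ ^ i for some i < m. -/
theorem result {G : Type*} [Group G] [Fintype G] {V : Type*} [AddCommGroup V] [Module ℂ V] [FiniteDimensional ℂ V] (ρ : Representation ℂ G V) (hfaithful : Function.Injective ρ) (ψ : G → ℂ) (hψ : Cfsg.IsIrrCharacter G ψ) : ∃ i : ℕ, i < Nat.card (Set.range ρ.character) ∧ Cfsg.classInner (fun g => ρ.character g ^ i) ψ ≠ 0 := by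
  classical
  set χ := ρ.character with hχdef
  set vals : Finset ℂ := Finset.univ.image χ with hvals
  have hm : Nat.card (Set.range χ) = vals.card := by
    rw [Nat.card_eq_fintype_card, ← Set.toFinset_card]
    congr 1
    ext x
    simp [vals]
  have h1mem : χ 1 ∈ vals := Finset.mem_image_of_mem χ (Finset.mem_univ 1)
  have hcardpos : 0 < vals.card := Finset.card_pos.mpr ⟨_, h1mem⟩
  set Q : Polynomial ℂ := ∏ a ∈ vals.erase (χ 1), (Polynomial.X - Polynomial.C a) with hQ
  have hdeg : Q.natDegree = vals.card - 1 := by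
    rw [hQ, Polynomial.natDegree_prod_of_monic _ _ (fun a _ => Polynomial.monic_X_sub_C a)]
    simp only [Polynomial.natDegree_X_sub_C, Finset.sum_const, smul_eq_mul, mul_one]
    exact Finset.card_erase_of_mem h1mem
  by_contra hcon
  push Not at hcon
  have hG : (Nat.card G : ℂ) ≠ 0 := card_ne_zero_complex
  have h1 : ∑ g : G, Q.eval (χ g) * (starRingEnd ℂ) (ψ g) = 0 := by
    simp_rw [Polynomial.eval_eq_sum_range, Finset.sum_mul]
    rw [Finset.sum_comm]
    apply Finset.sum_eq_zero
    intro i hi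
    have hi' : i < Nat.card (Set.range χ) := by
      rw [hm]
      have := Finset.mem_range.mp hi
      omega
    have h3 := hcon i hi'
    rw [classInner_def] at h3
    have h4 : ∑ g : G, χ g ^ i * (starRingEnd ℂ) (ψ g) = 0 := by
      rcases mul_eq_zero.mp h3 with h | h
      · exact absurd (inv_eq_zero.mp h) hG
      · exact h
    simp_rw [mul_assoc]
    rw [← Finset.mul_sum, h4, mul_zero]
  have h2 : ∑ g : G, Q.eval (χ g) * (starRingEnd ℂ) (ψ g)
      = Q.eval (χ 1) * (starRingEnd ℂ) (ψ 1) := by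
    rw [Finset.sum_eq_single (1 : G)]
    · intro g _ hg
      have hne : χ g ≠ χ 1 := by
        intro heq
        apply hg
        have := rep_eq_one_of_char_eq ρ g heq
        apply hfaithful
        rw [this, map_one]
      have hmem : χ g ∈ vals.erase (χ 1) :=
        Finset.mem_erase.mpr ⟨hne, Finset.mem_image_of_mem χ (Finset.mem_univ g)⟩
      have : Q.eval (χ g) = 0 := by
        rw [hQ, Polynomial.eval_prod]
        apply Finset.prod_eq_zero hmem
        simp
      rw [this, zero_mul]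
    · intro h
      exact absurd (Finset.mem_univ _) h
  rw [h2] at h1
  rcases mul_eq_zero.mp h1 with h | h
  · rw [hQ, Polynomial.eval_prod, Finset.prod_eq_zero_iff] at h
    obtain ⟨a, ha, ha0⟩ := h
    simp only [Polynomial.eval_sub, Polynomial.eval_X, Polynomial.eval_C] at ha0
    exact (Finset.ne_of_mem_erase ha) (sub_eq_zero.mp ha0).symm
  · have := IsIrrCharacter.apply_one_ne_zero hψ
    apply this
    simpa using h

end Cfsg.Agent.S0168
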