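import Cfsg.Statements.S0198
import Cfsg.Agent.Lib.Helper2_ClassFn
import Cfsg.Agent.Lib.Helper2_CharBasic
import Cfsg.Agent.Lib.Helper2_CharOrtho
import Cfsg.Agent.Lib.Helper2_Clifford
import Cfsg.Agent.Lib.Helper2_CharMore
import Cfsg.Agent.Lib.Helper2_CharNorm
import Cfsg.Agent.Lib.Helper2_CharValues
import Cfsg.Agent.Lib.Helper2_CharComplete
import Cfsg.Agent.Lib.Helper2_CharInd
import Cfsg.Agent.Lib.Helper2_CharTable
import Cfsg.Agent.Lib.Helper2_CharFrob
import Cfsg.Agent.Lib.Helper2_CharDeg
import Cfsg.Agent.Lib.Helper2_CharSum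
import Cfsg.Agent.Lib.Helper2_CharExtra
import Cfsg.Agent.Lib.Helper2_CharCentral
import Cfsg.Agent.Lib.Helper2_PermChar
import Cfsg.Agent.Lib.Helper2_FrobSchur
import Cfsg.Agent.Lib.Helper2_CliffordCorr
import Cfsg.Agent.Lib.Helper2_CharKernel
import Cfsg.Agent.Lib.Helper2_CyclicTI
import Cfsg.Agent.Lib.Helper2_CharGalois

set_option autoImplicit false
open Cfsg

namespace Cfsg.Agent.S0198

open Cfsg.Agent.Lib.Helper2_ClassFn Cfsg.Agent.Lib.Helper2_CharBasic Cfsg.Agent.Lib.Helper2_CharOrtho Cfsg.Agent.Lib.Helper2_Clifford Cfsg.Agent.Lib.Helper2_CharMore Cfsg.Agent.Lib.Helper2_CharNorm Cfsg.Agent.Lib.Helper2_CharValues Cfsg.Agent.Lib.Helper2_CharComplete Cfsg.Agent.Lib.Helper2_CharInd Cfsg.Agent.Lib.Helper2_CharTable Cfsg.Agent.Lib.Helper2_CharFrob Cfsg.Agent.Lib.Helper2_CharDeg Cfsg.Agent.Lib.Helper2_CharSum Cfsg.Agent.Lib.Helper2_CharExtra Cfsg.Agent.Lib.Helper2_CharCentral Cfsg.Agent.Lib.Helper2_PermChar Cfsg.Agent.Lib.Helper2_FrobSchur Cfsg.Agent.Lib.Helper2_CliffordCorr Cfsg.Agent.Lib.Helper2_CharKernel Cfsg.Agent.Lib.Helper2_CyclicTI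 Cfsg.Agent.Lib.Helper2_CharGalois
open scoped Pointwise


/-- The isometry lemma behind exceptional characters. Let τ be a family of generalized characters of a finite group G indexed by Fin n, with τ i₀ = 0, every τ i vanishing at the identity, and inner products ⟨τ i, τ j⟩ = 2 if i = j and 1 otherwise for i, j ≠ i₀. Then there are a sign ε and pairwise distinct irreducible characters μ i with τ i = ε (μ i − μ i₀) for all i. -/
theorem result {G : Type*} [Group G] [Fintype G] (n : ℕ) (i₀ : Fin n) (τ : Fin n → (G → ℂ)) (h0 : τ i₀ = 0) (hgen : ∀ i, Cfsg.IsGeneralizedCharacter G (τ i)) (hone : ∀ i, τ i 1 = 0) (hgram : ∀ i j, i ≠ i₀ → j ≠ i₀ → Cfsg.classInner (τ i) (τ j) = if i = j then 2 else 1) : ∃ ε : ℂ, (ε = 1 ∨ ε = -1) ∧ ∃ μ : Fin n → (G → ℂ), (∀ i, Cfsg.IsIrrCharacter G (μ i)) ∧ Function.Injective μ ∧ ∀ i, τ i = ε • (μ i - μ i₀) := by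
  classical
  -- decompose each τ i
  have hdec : ∀ i : Fin n, i ≠ i₀ → ∃ a b : G → ℂ, IsIrrCharacter G a ∧ IsIrrCharacter G b ∧
      a ≠ b ∧ τ i = a - b := by
    intro i hi
    have h2 := hgram i i hi hi
    rw [if_pos rfl] at h2
    obtain ⟨a, b, ha, hb, hab, he, -⟩ := eq_sub_of_norm_two (hgen i) h2 (hone i)
    exact ⟨a, b, ha, hb, hab, he⟩
  choose! A B hA hB hAB hτ using hdec
  -- the dichotomy for pairs
  have hD : ∀ i j : Fin n, i ≠ i₀ → j ≠ i₀ → i ≠ j →
      (A i = A j ∧ B i ≠ B j) ∨ (B i = B j ∧ A i ≠ A j) := by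
    intro i j hi hj hij
    have h1 := hgram i j hi hj
    rw [if_neg hij, hτ i hi, hτ j hj, classInner_sub_left, classInner_sub_right,
      classInner_sub_right, classInner_irr (hA i hi) (hA j hj), classInner_irr (hA i hi) (hB j hj),
      classInner_irr (hB i hi) (hA j hj), classInner_irr (hB i hi) (hB j hj)] at h1
    have habi := hAB i hi
    have habj := hAB j hj
    by_cases p : A i = A j <;> by_cases q : A i = B j <;> by_cases r : B i = A j <;>
      by_cases s : B i = B j
    all_goals (first | rw [if_pos p] at h1 | rw [if_neg p] at h1)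
    all_goals (first | rw [if_pos q] at h1 | rw [if_neg q] at h1)
    all_goals (first | rw [if_pos r] at h1 | rw [if_neg r] at h1)
    all_goals (first | rw [if_pos s] at h1 | rw [if_neg s] at h1)
    all_goals first
      | (exfalso; norm_num at h1; done)
      | (exfalso; exact habj (p.symm.trans q); done)
      | (exfalso; exact habi (p.trans r.symm); done)
      | (exfalso; exact habi (q.trans s.symm); done)
      | (exfalso; exact habj (r.symm.trans s); done)
      | (left; exact ⟨p, s⟩; done)
      | (right; exact ⟨s, p⟩; done)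
  by_cases hI : ∃ i₁ : Fin n, i₁ ≠ i₀
  · obtain ⟨i₁, hi₁⟩ := hI
    by_cases hcaseA : ∀ j : Fin n, j ≠ i₀ → j ≠ i₁ → A j = A i₁
    · -- all share the positive part: ε = -1
      refine ⟨-1, Or.inr rfl, fun i => if i = i₀ then A i₁ else B i, ?_, ?_, ?_⟩
      · intro i
        by_cases hi : i = i₀
        · simp only [hi, if_true]; exact hA i₁ hi₁
        · simp only [hi, if_false]; exact hB i hi
      · have hAall : ∀ j : Fin n, j ≠ i₀ → A j = A i₁ := by
          intro j hj
          by_cases hj1 : j = i₁
          · rw [hj1]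
          · exact hcaseA j hj hj1
        intro i j hij
        by_contra hne
        by_cases hi : i = i₀ <;> by_cases hj : j = i₀
        · exact hne (hi.trans hj.symm)
        · simp only [hi, hj, if_true, if_false] at hij
          exact hAB j hj (by rw [hAall j hj, hij])
        · simp only [hi, hj, if_true, if_false] at hij
          exact hAB i hi (by rw [hAall i hi, ← hij])
        · simp only [hi, hj, if_false] at hij
          rcases hD i j hi hj hne with ⟨-, h⟩ | ⟨-, h⟩
          · exact h hij
          · exact h (by rw [hAall i hi, hAall j hj])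
      · intro i
        by_cases hi : i = i₀
        · simp only [hi, if_true, sub_self, smul_zero]; exact h0
        · simp only [hi, if_true, if_false]
          have hAi : A i = A i₁ := by
            by_cases hj1 : i = i₁
            · rw [hj1]
            · exact hcaseA i hi hj1
          rw [hτ i hi, hAi]
          ext g
          simp
    · -- some j does not share the positive part: all share the negative part, ε = 1
      push Not at hcaseA
      obtain ⟨j, hj, hj1, hAj⟩ := hcaseA
      have hBj : B j = B i₁ := by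
        rcases hD j i₁ hj hi₁ hj1 with ⟨h, -⟩ | ⟨h, -⟩
        · exact absurd h hAj
        · exact h
      have hBall : ∀ k : Fin n, k ≠ i₀ → B k = B i₁ := by
        intro k hk
        by_cases hk1 : k = i₁
        · rw [hk1]
        by_cases hkj : k = j
        · rw [hkj]; exact hBj
        rcases hD k i₁ hk hi₁ hk1 with ⟨hAk, hBk⟩ | ⟨h, -⟩
        · exfalso
          rcases hD j k hj hk (Ne.symm hkj) with ⟨h, -⟩ | ⟨h, -⟩
          · exact hAj (h.trans hAk)
          · exact hBk (h.symm.trans hBj)
        · exact h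
      refine ⟨1, Or.inl rfl, fun i => if i = i₀ then B i₁ else A i, ?_, ?_, ?_⟩
      · intro i
        by_cases hi : i = i₀
        · simp only [hi, if_true]; exact hB i₁ hi₁
        · simp only [hi, if_false]; exact hA i hi
      · intro i k hik
        by_contra hne
        by_cases hi : i = i₀ <;> by_cases hk : k = i₀
        · exact hne (hi.trans hk.symm)
        · simp only [hi, hk, if_true, if_false] at hik
          exact hAB k hk (by rw [hBall k hk, hik])
        · simp only [hi, hk, if_true, if_false] at hik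
          exact hAB i hi (by rw [hBall i hi, ← hik])
        · simp only [hi, hk, if_false] at hik
          rcases hD i k hi hk hne with ⟨-, h⟩ | ⟨-, h⟩
          · exact h (by rw [hBall i hi, hBall k hk])
          · exact h hik
      · intro i
        by_cases hi : i = i₀
        · simp only [hi, if_true, sub_self, smul_zero]; exact h0
        · simp only [hi, if_true, if_false]
          rw [hτ i hi, hBall i hi, one_smul]
  · -- only i₀
    push Not at hI
    refine ⟨1, Or.inl rfl, fun _ => (fun _ => 1), fun _ => isIrrCharacter_one, ?_, ?_⟩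
    · intro i j _
      rw [hI i, hI j]
    · intro i
      rw [hI i, h0]
      simp

end Cfsg.Agent.S0198
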