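import Cfsg.Statements.S0170
import Cfsg.Agent.Lib.Helper2_ClassFn
import Cfsg.Agent.Lib.Helper2_CharBasic
import Cfsg.Agent.Lib.Helper2_CharOrtho
import Cfsg.Agent.Lib.Helper2_Clifford
import Cfsg.Agent.Lib.Helper2_CharMore
import Cfsg.Agent.Lib.Helper2_CharNorm
import Cfsg.Agent.Lib.Helper2_CharValues
import Cfsg.Agent.Lib.Helper2_CharComplete
import Cfsg.Agent.Lib.Helper2_CharInd
import Cfsg.Agent.Lib.Helper2_CharTable
import Cfsg.Agent.Lib.Helper2_CharFrob
import Cfsg.Agent.Lib.Helper2_CharDeg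
import Cfsg.Agent.Lib.Helper2_CharSum
import Cfsg.Agent.Lib.Helper2_CharExtra
import Cfsg.Agent.Lib.Helper2_CharCentral
import Cfsg.Agent.Lib.Helper2_PermChar
import Cfsg.Agent.Lib.Helper2_FrobSchur
import Cfsg.Agent.Lib.Helper2_CliffordCorr
import Cfsg.Agent.Lib.Helper2_CharKernel
import Cfsg.Agent.Lib.Helper2_CyclicTI
import Cfsg.Agent.Lib.Helper2_CharGalois
import Cfsg.Agent.S0150
import Cfsg.Agent.S0198

set_option autoImplicit false
open Cfsg

namespace Cfsg.Agent.S0170

open Cfsg.Agent.Lib.Helper2_ClassFn Cfsg.Agent.Lib.Helper2_CharBasic Cfsg.Agent.Lib.Helper2_CharOrtho Cfsg.Agent.Lib.Helper2_Clifford Cfsg.Agent.Lib.Helper2_CharMore Cfsg.Agent.Lib.Helper2_CharNorm Cfsg.Agent.Lib.Helper2_CharValues Cfsg.Agent.Lib.Helper2_CharComplete Cfsg.Agent.Lib.Helper2_CharInd Cfsg.Agent.Lib.Helper2_CharTable Cfsg.Agent.Lib.Helper2_CharFrob Cfsg.Agent.Lib.Helper2_CharDeg Cfsg.Agent.Lib.Helper2_CharSum Cfsg.Agent.Lib.Helper2_CharExtra Cfsg.Agent.Lib.Helper2_CharCentral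 Cfsg.Agent.Lib.Helper2_PermChar Cfsg.Agent.Lib.Helper2_FrobSchur Cfsg.Agent.Lib.Helper2_CliffordCorr Cfsg.Agent.Lib.Helper2_CharKernel Cfsg.Agent.Lib.Helper2_CyclicTI Cfsg.Agent.Lib.Helper2_CharGalois
open scoped Pointwise


/-- Exceptional characters. Let S be a subset of a finite group contained in its normalizer N and meeting its conjugates by elements outside N only in the identity. Given n ≥ 2 distinct irreducible characters of N of equal degree that vanish on N away from S, there exist a sign ε and n distinct irreducible characters θ_i of G such that inducing χ_i − χ_j to G gives ε (θ_i − θ_j) for all i, j. -/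
theorem result {G : Type*} [Group G] [Fintype G] (S : Set G) (hSN : S ⊆ Subgroup.normalizer S) (hTI : ∀ g : G, g ∉ Subgroup.normalizer S → ∀ s ∈ S, g * s * g⁻¹ ∈ S → s = 1) (n : ℕ) (hn : 2 ≤ n) (χ : Fin n → (Subgroup.normalizer S → ℂ)) (hirr : ∀ i, Cfsg.IsIrrCharacter (Subgroup.normalizer S) (χ i)) (hinj : Function.Injective χ) (hvan : ∀ i, ∀ x : Subgroup.normalizer S, (x : G) ∉ S → χ i x = 0) (hdeg : ∀ i j, χ i 1 = χ j 1) : ∃ ε : ℂ, (ε = 1 ∨ ε = -1) ∧ ∃ θ : Fin n → (G → ℂ), (∀ i, Cfsg.IsIrrCharacter G (θ i)) ∧ Function.Injective θ ∧ ∀ i j, Cfsg.indFun (Subgroup.normalizer S) (χ i) - Cfsg.indFun (Subgroup.normalizer S) (χ j) = ε • (θ i - θ j) := by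
  classical
  have : Fintype (Subgroup.normalizer S) := Fintype.ofFinite _
  have hn0 : 0 < n := by omega
  let i₀ : Fin n := ⟨0, hn0⟩
  set τ : Fin n → (G → ℂ) := fun i =>
    indFun (Subgroup.normalizer S) (χ i) - indFun (Subgroup.normalizer S) (χ i₀) with hτ
  have hcf : ∀ i, IsClassFunction (Subgroup.normalizer S) (χ i) := fun i =>
    IsCharacter.isClassFunction (IsIrrCharacter.isCharacter (hirr i))
  have hτ' : ∀ i, τ i = indFun (Subgroup.normalizer S) (χ i - χ i₀) := by
    intro i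
    rw [hτ, indFun_sub]
  have h0 : τ i₀ = 0 := by simp [hτ]
  have hgen : ∀ i, IsGeneralizedCharacter G (τ i) := by
    intro i
    exact IsGeneralizedCharacter.sub
      (IsCharacter.isGeneralizedCharacter (IsCharacter.indFun (IsIrrCharacter.isCharacter (hirr i))))
      (IsCharacter.isGeneralizedCharacter (IsCharacter.indFun (IsIrrCharacter.isCharacter (hirr i₀))))
  have hone : ∀ i, τ i 1 = 0 := by
    intro i
    simp only [hτ, Pi.sub_apply, indFun_one, hdeg i i₀, sub_self]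
  have hgram : ∀ i j, i ≠ i₀ → j ≠ i₀ → classInner (τ i) (τ j) = if i = j then 2 else 1 := by
    intro i j hi hj
    rw [hτ' i, hτ' j]
    rw [Cfsg.Agent.S0150.result S hTI hSN (χ i - χ i₀) (χ j - χ i₀)
      (IsClassFunction.sub (hcf i) (hcf i₀)) (IsClassFunction.sub (hcf j) (hcf i₀))
      (fun x hx => by simp [hvan i x hx, hvan i₀ x hx])
      (fun x hx => by simp [hvan j x hx, hvan i₀ x hx])
      (by simp [hdeg i i₀])]
    rw [classInner_sub_left, classInner_sub_right, classInner_sub_right,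
      classInner_irr (hirr i) (hirr j), classInner_irr (hirr i) (hirr i₀),
      classInner_irr (hirr i₀) (hirr j), classInner_irr (hirr i₀) (hirr i₀)]
    rw [if_neg (fun h => hi (hinj h)), if_neg (fun h => hj (hinj h).symm), if_pos rfl]
    by_cases hij : i = j
    · rw [if_pos hij, if_pos (by rw [hij])]; norm_num
    · rw [if_neg hij, if_neg (fun h => hij (hinj h))]; norm_num
  obtain ⟨ε, hε, μ, hμirr, hμinj, hμ⟩ := Cfsg.Agent.S0198.result n i₀ τ h0 hgen hone hgram
  refine ⟨ε, hε, μ, hμirr, hμinj, ?_⟩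
  intro i j
  have h1 : indFun (Subgroup.normalizer S) (χ i) - indFun (Subgroup.normalizer S) (χ j)
      = τ i - τ j := by
    simp only [hτ]
    ring
  rw [h1, hμ i, hμ j, ← smul_sub]
  congr 1
  ring

end Cfsg.Agent.S0170
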