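import Cfsg.Statements.S0171
import Cfsg.Agent.Lib.Helper2_ClassFn
import Cfsg.Agent.Lib.Helper2_CharBasic
import Cfsg.Agent.Lib.Helper2_CharOrtho
import Cfsg.Agent.Lib.Helper2_Clifford
import Cfsg.Agent.Lib.Helper2_CharMore
import Cfsg.Agent.Lib.Helper2_CharNorm
import Cfsg.Agent.Lib.Helper2_CharValues
import Cfsg.Agent.Lib.Helper2_CharComplete
import Cfsg.Agent.Lib.Helper2_CharInd
import Cfsg.Agent.Lib.Helper2_CharTable
import Cfsg.Agent.Lib.Helper2_CharFrob
import Cfsg.Agent.Lib.Helper2_CharDeg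
import Cfsg.Agent.Lib.Helper2_CharSum

set_option autoImplicit false
open Cfsg

namespace Cfsg.Agent.S0171

open Cfsg.Agent.Lib.Helper2_ClassFn Cfsg.Agent.Lib.Helper2_CharBasic Cfsg.Agent.Lib.Helper2_CharOrtho Cfsg.Agent.Lib.Helper2_Clifford Cfsg.Agent.Lib.Helper2_CharMore Cfsg.Agent.Lib.Helper2_CharNorm Cfsg.Agent.Lib.Helper2_CharValues Cfsg.Agent.Lib.Helper2_CharComplete Cfsg.Agent.Lib.Helper2_CharInd Cfsg.Agent.Lib.Helper2_CharTable Cfsg.Agent.Lib.Helper2_CharFrob Cfsg.Agent.Lib.Helper2_CharDeg Cfsg.Agent.Lib.Helper2_CharSum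
open scoped Pointwise

/-- In a Frobenius semidirect product, centralizers of nonidentity kernel elements lie in the
kernel. -/
theorem centralizer_le_of_fpf {G : Type*} [Group G] [Finite G] (K H : Subgroup G) [hK : K.Normal]
    (hKH' : K ⊔ H = ⊤)
    (hfpf : ∀ h ∈ H, h ≠ 1 → ∀ k ∈ K, h * k = k * h → k = 1) (k : G) (hk : k ∈ K) (hk1 : k ≠ 1) :
    Subgroup.centralizer ({k} : Set G) ≤ K := by
  intro x hx
  rw [Subgroup.mem_centralizer_singleton_iff] at hx
  have hxm : x ∈ K ⊔ H := by rw [hKH']; trivial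
  have hset : ((K ⊔ H : Subgroup G) : Set G) = (K : Set G) * (H : Set G) := Subgroup.normal_mul K H
  have hxm' : x ∈ (K : Set G) * (H : Set G) := by rw [← hset]; exact hxm
  obtain ⟨k', hk', h, hh, hxe⟩ := hxm'
  have hxe' : k' * h = x := hxe
  subst hxe'
  have hk'K : k' ∈ K := hk'
  have hhH : h ∈ H := hh
  by_cases h1 : h = 1
  · subst h1; simpa using hk'K
  exfalso
  -- the map y ↦ y⁻¹ * (h y h⁻¹) on K is injective, hence surjective
  let φ : K → K := fun y => ⟨(y : G)⁻¹ * (h * y * h⁻¹),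
    K.mul_mem (K.inv_mem y.2) (hK.conj_mem y y.2 h)⟩
  have hinj : Function.Injective φ := by
    intro y z hyz
    have e : (y : G)⁻¹ * (h * y * h⁻¹) = (z : G)⁻¹ * (h * z * h⁻¹) := congrArg Subtype.val hyz
    have hfix : h * ((z : G) * (y : G)⁻¹) = ((z : G) * (y : G)⁻¹) * h := by
      have e2 : (z : G) * (y : G)⁻¹ = h * ((z : G) * (y : G)⁻¹) * h⁻¹ := by
        have : (z : G) * ((y : G)⁻¹ * (h * y * h⁻¹)) * (h * (y : G)⁻¹ * h⁻¹)
            = (z : G) * ((z : G)⁻¹ * (h * z * h⁻¹)) * (h * (y : G)⁻¹ * h⁻¹) := by rw [e]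
        calc (z : G) * (y : G)⁻¹
            = (z : G) * ((y : G)⁻¹ * (h * y * h⁻¹)) * (h * (y : G)⁻¹ * h⁻¹) := by group
          _ = (z : G) * ((z : G)⁻¹ * (h * z * h⁻¹)) * (h * (y : G)⁻¹ * h⁻¹) := this
          _ = h * ((z : G) * (y : G)⁻¹) * h⁻¹ := by group
      calc h * ((z : G) * (y : G)⁻¹) = (h * ((z : G) * (y : G)⁻¹) * h⁻¹) * h := by group
        _ = ((z : G) * (y : G)⁻¹) * h := by rw [← e2]
    have := hfpf h hhH h1 _ (K.mul_mem z.2 (K.inv_mem y.2)) hfix
    have hzy : (z : G) = y := by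
      have := mul_inv_eq_one.mp this
      exact this
    exact Subtype.ext hzy.symm
  have hsurj : Function.Surjective φ := Finite.surjective_of_injective hinj
  obtain ⟨y, hy⟩ := hsurj ⟨k', hk'K⟩
  have hy' : (y : G)⁻¹ * (h * y * h⁻¹) = k' := congrArg Subtype.val hy
  have hxconj : k' * h = (y : G)⁻¹ * h * y := by rw [← hy']; group
  -- h commutes with y k y⁻¹
  have hcomm : h * ((y : G) * k * (y : G)⁻¹) = ((y : G) * k * (y : G)⁻¹) * h := by
    rw [hxconj] at hx
    calc h * ((y : G) * k * (y : G)⁻¹)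
        = (y : G) * (((y : G)⁻¹ * h * y) * k) * (y : G)⁻¹ := by group
      _ = (y : G) * (k * ((y : G)⁻¹ * h * y)) * (y : G)⁻¹ := by rw [hx]
      _ = ((y : G) * k * (y : G)⁻¹) * h := by group
  have := hfpf h hhH h1 _ (hK.conj_mem k hk y) hcomm
  apply hk1
  have e3 : k = (y : G)⁻¹ * ((y : G) * k * (y : G)⁻¹) * y := by group
  rw [e3, this]; group



/-- Let G = K H with K normal, K ⊓ H trivial, and no non-identity element of H commuting with a non-identity element of K (a Frobenius group with kernel K and complement H). Then every non-principal irreducible character of K induces to an irreducible character of G. -/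
theorem result {G : Type*} [Group G] [Fintype G] (K H : Subgroup G) [K.Normal] (hKH : K ⊓ H = ⊥) (hKH' : K ⊔ H = ⊤) (hfpf : ∀ h ∈ H, h ≠ 1 → ∀ k ∈ K, h * k = k * h → k = 1) (τ : K → ℂ) (hτ : Cfsg.IsIrrCharacter K τ) (hτ1 : τ ≠ fun _ => 1) : Cfsg.IsIrrCharacter G (Cfsg.indFun K τ) := by
  exact frobenius_indFun_irr K (centralizer_le_of_fpf K H hKH' hfpf) τ hτ hτ1

end Cfsg.Agent.S0171
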