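import Mathlib
import Cfsg.Statements.S0172
import Cfsg.Agent.Lib.Helper7_FrobBasic
import Cfsg.Agent.Lib.Helper7_FrobGroup
import Cfsg.Agent.Lib.Helper7_FrobInternal

set_option autoImplicit false
open Cfsg

namespace Cfsg.Agent.S0172

open Cfsg.Agent.Lib

/-- conjugacy classes are invariant under isomorphism -/
theorem card_conjClasses_congr {G H : Type*} [Group G] [Group H] (e : G ≃* H) :
    Nat.card (ConjClasses G) = Nat.card (ConjClasses H) := by
  apply Nat.card_congr
  refine
    { toFun := ConjClasses.map (e : G →* H)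
      invFun := ConjClasses.map (e.symm : H →* G)
      left_inv := ?_
      right_inv := ?_ }
  · intro x
    obtain ⟨g, rfl⟩ := ConjClasses.mk_surjective x
    show ConjClasses.mk (e.symm (e g)) = ConjClasses.mk g
    simp
  · intro x
    obtain ⟨g, rfl⟩ := ConjClasses.mk_surjective x
    show ConjClasses.mk (e (e.symm g)) = ConjClasses.mk g
    simp

/-- the trivial group has one conjugacy class -/
theorem card_conjClasses_of_subsingleton {G : Type*} [Group G] [Subsingleton G] :
    Nat.card (ConjClasses G) = 1 := by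
  rw [Nat.card_eq_one_iff_unique]
  refine ⟨⟨fun x y => ?_⟩, ⟨ConjClasses.mk 1⟩⟩
  obtain ⟨a, rfl⟩ := ConjClasses.mk_surjective x
  obtain ⟨b, rfl⟩ := ConjClasses.mk_surjective y
  rw [Subsingleton.elim a b]

section pairs

variable {G : Type*} [Group G] [Fintype G] [DecidableEq G]

/-- commuting pairs inside a subgroup, as a finset of `G × G` -/
def pairs (X : Subgroup G) [DecidablePred (· ∈ X)] : Finset (G × G) :=
  Finset.univ.filter (fun p : G × G => p.1 ∈ X ∧ p.2 ∈ X ∧ p.1 * p.2 = p.2 * p.1)

theorem mem_pairs (X : Subgroup G) [DecidablePred (· ∈ X)] (p : G × G) :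
    p ∈ pairs X ↔ p.1 ∈ X ∧ p.2 ∈ X ∧ p.1 * p.2 = p.2 * p.1 := by
  simp [pairs]

theorem card_pairs (X : Subgroup G) [DecidablePred (· ∈ X)] :
    (pairs X).card = Nat.card (ConjClasses X) * Nat.card X := by
  rw [← card_comm_eq_card_conjClasses_mul_card]
  symm
  rw [← Fintype.card_coe, ← Nat.card_eq_fintype_card]
  apply Nat.card_congr
  exact
    { toFun := fun p => ⟨(p.1.1.1, p.1.2.1), by
        rw [mem_pairs]
        refine ⟨p.1.1.2, p.1.2.2, ?_⟩
        have h := p.2.eq
        exact congrArg Subtype.val h⟩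
      invFun := fun q => ⟨(⟨q.1.1, ((mem_pairs X q.1).mp q.2).1⟩,
          ⟨q.1.2, ((mem_pairs X q.1).mp q.2).2.1⟩), by
        show Commute _ _
        apply Subtype.ext
        exact ((mem_pairs X q.1).mp q.2).2.2⟩
      left_inv := fun p => rfl
      right_inv := fun q => rfl }

theorem card_pairs_one (X : Subgroup G) [DecidablePred (· ∈ X)] :
    ((pairs X).filter (fun p => p.1 = 1)).card = Nat.card X := by
  have h1 : (pairs X).filter (fun p => p.1 = 1) =
      (Finset.univ.filter (fun b : G => b ∈ X)).image (fun b => ((1 : G), b)) := by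
    ext ⟨a, b⟩
    simp only [Finset.mem_filter, mem_pairs, Finset.mem_image, Finset.mem_univ, true_and,
      Prod.mk.injEq]
    constructor
    · rintro ⟨⟨_, hb, _⟩, ha⟩
      exact ⟨b, hb, ha.symm, rfl⟩
    · rintro ⟨c, hc, rfl, rfl⟩
      exact ⟨⟨X.one_mem, hc, by simp⟩, rfl⟩
  rw [h1, Finset.card_image_of_injective _ (fun b c h => (Prod.mk.inj h).2),
    Nat.card_eq_fintype_card, Fintype.card_subtype]

theorem card_pairs_ne_one (X : Subgroup G) [DecidablePred (· ∈ X)] :
    Nat.card (ConjClasses X) * Nat.card X =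
      Nat.card X + ((pairs X).filter (fun p => ¬ p.1 = 1)).card := by
  rw [← card_pairs, ← card_pairs_one X]
  exact (Finset.card_filter_add_card_filter_not (s := pairs X) (fun p => p.1 = 1)).symm

end pairs

/-- Class number of a Frobenius group: if G = K H with K normal, K ⊓ H trivial and no non-identity element of H commuting with a non-identity element of K, then |H| * k(G) + 1 = |H| * k(H) + k(K), where k denotes the number of conjugacy classes. -/
theorem result {G : Type*} [Group G] [Finite G] (K H : Subgroup G) [K.Normal] (hKH : K ⊓ H = ⊥) (hKH' : K ⊔ H = ⊤) (hfpf : ∀ h ∈ H, h ≠ 1 → ∀ k ∈ K, h * k = k * h → k = 1) : Nat.card H * Nat.card (ConjClasses G) + 1 = Nat.card H * Nat.card (ConjClasses H) + Nat.card (ConjClasses K) := by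
  classical
  haveI := Fintype.ofFinite G
  by_cases hK1 : K = ⊥
  · -- `H = ⊤`
    have hH : H = ⊤ := by rw [hK1, bot_sup_eq] at hKH'; exact hKH'
    haveI : Subsingleton K := by rw [hK1]; infer_instance
    rw [card_conjClasses_of_subsingleton (G := K)]
    have e : H ≃* G := (MulEquiv.subgroupCongr hH).trans Subgroup.topEquiv
    rw [card_conjClasses_congr e]
  by_cases hH1 : H = ⊥
  · have hK : K = ⊤ := by rw [hH1, sup_bot_eq] at hKH'; exact hKH'
    haveI : Subsingleton H := by rw [hH1]; infer_instance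
    rw [card_conjClasses_of_subsingleton (G := H)]
    have e : K ≃* G := (MulEquiv.subgroupCongr hK).trans Subgroup.topEquiv
    rw [card_conjClasses_congr e, Nat.card_unique]
    ring
  obtain ⟨hF, hker⟩ := Helper7_FrobInternal.frobenius_of_fpf K H hKH' hKH hK1 hH1 hfpf
  have hkerK : Helper7_FrobGroup.kernel H hF = K := by
    apply SetLike.coe_injective
    rw [Helper7_FrobGroup.kernel_coe, hker]
  -- commuting pairs of `G`
  set PG : Finset (G × G) := Finset.univ.filter (fun p : G × G => p.1 * p.2 = p.2 * p.1) with hPG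
  have hPGcard : PG.card = Nat.card (ConjClasses G) * Nat.card G := by
    rw [← card_comm_eq_card_conjClasses_mul_card, Nat.card_eq_fintype_card, Fintype.card_subtype]
    rfl
  have hsplit1 := Finset.card_filter_add_card_filter_not (s := PG) (fun p : G × G => p.1 ∈ K)
  have hsplit2 := Finset.card_filter_add_card_filter_not
    (s := PG.filter (fun p : G × G => p.1 ∈ K)) (fun p : G × G => p.1 = 1)
  -- first piece: `p.1 = 1`
  have hA : ((PG.filter (fun p : G × G => p.1 ∈ K)).filter (fun p => p.1 = 1)).card =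
      Nat.card G := by
    have h1 : (PG.filter (fun p : G × G => p.1 ∈ K)).filter (fun p => p.1 = 1) =
        (Finset.univ : Finset G).image (fun b => ((1 : G), b)) := by
      ext ⟨a, b⟩
      simp only [hPG, Finset.mem_filter, Finset.mem_image, Finset.mem_univ, true_and,
        Prod.mk.injEq]
      constructor
      · rintro ⟨_, ha⟩
        exact ⟨b, ha.symm, rfl⟩
      · rintro ⟨c, rfl, rfl⟩
        exact ⟨⟨by simp, K.one_mem⟩, rfl⟩
    rw [h1, Finset.card_image_of_injective _ (fun b c h => (Prod.mk.inj h).2),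
      Finset.card_univ, Nat.card_eq_fintype_card]
  -- second piece: `p.1 ∈ K`, `p.1 ≠ 1`
  have hB : (PG.filter (fun p : G × G => p.1 ∈ K)).filter (fun p => ¬ p.1 = 1) =
      (pairs K).filter (fun p => ¬ p.1 = 1) := by
    ext ⟨a, b⟩
    simp only [hPG, Finset.mem_filter, mem_pairs, Finset.mem_univ, true_and]
    constructor
    · rintro ⟨⟨hc, ha⟩, ha1⟩
      refine ⟨⟨ha, ?_, hc⟩, ha1⟩
      have h1 := Helper7_FrobBasic.commute_mem_kernel H hF a b (by rw [hker]; exact ha) ha1 hc.symm
      rw [hker] at h1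
      exact h1
    · rintro ⟨⟨ha, _, hc⟩, ha1⟩
      exact ⟨⟨hc, ha⟩, ha1⟩
  -- third piece: `p.1 ∉ K`
  have hC : (PG.filter (fun p : G × G => ¬ p.1 ∈ K)).card =
      Nat.card K * ((pairs H).filter (fun p => ¬ p.1 = 1)).card := by
    have hKf : Nat.card K = (Finset.univ.filter (fun u : G => u ∈ K)).card := by
      rw [Nat.card_eq_fintype_card, Fintype.card_subtype]
    rw [hKf, ← Finset.card_product]
    symm
    apply Finset.card_bij (fun (q : G × (G × G)) _ =>
      (q.1 * q.2.1 * q.1⁻¹, q.1 * q.2.2 * q.1⁻¹))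
    · rintro ⟨u, y, z⟩ hq
      simp only [Finset.mem_product, Finset.mem_filter, Finset.mem_univ, true_and,
        mem_pairs] at hq
      obtain ⟨hu, ⟨hy, hz, hc⟩, hy1⟩ := hq
      simp only [hPG, Finset.mem_filter, Finset.mem_univ, true_and]
      refine ⟨?_, ?_⟩
      · have e1 : u * y * u⁻¹ * (u * z * u⁻¹) = u * (y * z) * u⁻¹ := by group
        have e2 : u * z * u⁻¹ * (u * y * u⁻¹) = u * (z * y) * u⁻¹ := by group
        rw [e1, e2, hc]
      · have h1 := Helper7_FrobGroup.conj_not_mem_kernel H hF (k := u) hy hy1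
        rw [hkerK] at h1
        exact h1
    · rintro ⟨u, y, z⟩ hq ⟨u', y', z'⟩ hq' heq
      simp only [Finset.mem_product, Finset.mem_filter, Finset.mem_univ, true_and,
        mem_pairs] at hq hq'
      obtain ⟨hu, ⟨hy, hz, hc⟩, hy1⟩ := hq
      obtain ⟨hu', ⟨hy', hz', hc'⟩, hy1'⟩ := hq'
      have heq1 := (Prod.mk.inj heq).1
      have heq2 := (Prod.mk.inj heq).2
      simp only at heq1 heq2
      obtain ⟨huu, hyy⟩ := Helper7_FrobGroup.conj_inj H hF (by rw [hkerK]; exact hu)
        (by rw [hkerK]; exact hu') hy hy' hy1 heq1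
      subst huu
      subst hyy
      have hzz : z = z' := by
        have h1 : z = u⁻¹ * (u * z * u⁻¹) * u := by group
        rw [h1, heq2]; group
      rw [hzz]
    · rintro ⟨a, b⟩ hab
      simp only [hPG, Finset.mem_filter, Finset.mem_univ, true_and] at hab
      obtain ⟨hc, haK⟩ := hab
      have haK' : a ∉ Helper7_FrobGroup.kernel H hF := by rw [hkerK]; exact haK
      obtain ⟨u, hu, y, hy, hy1, hay⟩ :=
        Helper7_FrobGroup.exists_conj_of_not_mem_kernel H hF haK'
      rw [hkerK] at hu
      have hz : u⁻¹ * b * u ∈ H := by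
        apply Helper7_FrobGroup.mem_of_commute hF hy hy1
        have h1 : y = u⁻¹ * a * u := by rw [hay]; group
        rw [h1]
        have e1 : u⁻¹ * b * u * (u⁻¹ * a * u) = u⁻¹ * (b * a) * u := by group
        have e2 : u⁻¹ * a * u * (u⁻¹ * b * u) = u⁻¹ * (a * b) * u := by group
        rw [e1, e2, hc]
      refine ⟨(u, y, u⁻¹ * b * u), ?_, ?_⟩
      · simp only [Finset.mem_product, Finset.mem_filter, Finset.mem_univ, true_and, mem_pairs]
        refine ⟨hu, ⟨hy, hz, ?_⟩, hy1⟩
        have h1 : y = u⁻¹ * a * u := by rw [hay]; group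
        rw [h1]
        have e1 : u⁻¹ * b * u * (u⁻¹ * a * u) = u⁻¹ * (b * a) * u := by group
        have e2 : u⁻¹ * a * u * (u⁻¹ * b * u) = u⁻¹ * (a * b) * u := by group
        rw [e1, e2, hc]
      · simp only
        rw [hay]
        congr 1
        group
  -- arithmetic
  have hcardG : Nat.card K * Nat.card H = Nat.card G := by
    have h1 := Helper7_FrobGroup.card_kernel_mul_card H hF
    rw [hkerK] at h1
    exact h1
  have hKeq := card_pairs_ne_one K
  have hHeq := card_pairs_ne_one H
  rw [hB, hA] at hsplit2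
  rw [← hsplit2, hC, hPGcard] at hsplit1
  have hmpos : 0 < Nat.card K := Nat.card_pos
  apply Nat.eq_of_mul_eq_mul_left hmpos
  set m := Nat.card K
  set h := Nat.card H
  set kG := Nat.card (ConjClasses G)
  set kK := Nat.card (ConjClasses K)
  set kH := Nat.card (ConjClasses H)
  set a := ((pairs K).filter (fun p => ¬ p.1 = 1)).card
  set b := ((pairs H).filter (fun p => ¬ p.1 = 1)).card
  rw [← hcardG] at hsplit1
  have e1 : m * (h * kG + 1) = kG * (m * h) + m := by ring
  have e2 : m * (h * kH + kK) = m * (kH * h) + kK * m := by ring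
  rw [e1, e2, hKeq, hHeq, ← hsplit1]
  ring

end Cfsg.Agent.S0172
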