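import Cfsg.Statements.S0175
import Cfsg.Agent.Lib.Helper2_ClassFn
import Cfsg.Agent.Lib.Helper2_CharBasic
import Cfsg.Agent.Lib.Helper2_CharOrtho
import Cfsg.Agent.Lib.Helper2_Clifford
import Cfsg.Agent.Lib.Helper2_CharMore
import Cfsg.Agent.Lib.Helper2_CharNorm
import Cfsg.Agent.Lib.Helper2_CharValues
import Cfsg.Agent.Lib.Helper2_CharComplete
import Cfsg.Agent.Lib.Helper2_CharInd
import Cfsg.Agent.Lib.Helper2_CharTable
import Cfsg.Agent.Lib.Helper2_CharFrob
import Cfsg.Agent.Lib.Helper2_CharDeg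
import Cfsg.Agent.Lib.Helper2_CharSum
import Cfsg.Agent.Lib.Helper2_CharExtra
import Cfsg.Agent.Lib.Helper2_CharCentral
import Cfsg.Agent.Lib.Helper2_PermChar
import Cfsg.Agent.Lib.Helper2_FrobSchur
import Cfsg.Agent.Lib.Helper2_CliffordCorr
import Cfsg.Agent.Lib.Helper2_CharKernel
import Cfsg.Agent.Lib.Helper2_CyclicTI
import Cfsg.Agent.Lib.Helper2_CharGalois
import Cfsg.Agent.Lib.Helper2_CharInt
import Cfsg.Agent.Lib.Helper2_CharBurnside
import Cfsg.Agent.Lib.Helper2_CharCenter
import Cfsg.Agent.Lib.Helper2_Ito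
import Cfsg.Agent.Lib.Helper2_Gallagher
import Cfsg.Agent.Lib.Helper2_Artin
import Cfsg.Agent.Lib.Helper2_MGroup
import Cfsg.Agent.S0154

set_option autoImplicit false
open Cfsg

namespace Cfsg.Agent.S0175

open Cfsg.Agent.Lib.Helper2_ClassFn Cfsg.Agent.Lib.Helper2_CharBasic Cfsg.Agent.Lib.Helper2_CharOrtho Cfsg.Agent.Lib.Helper2_Clifford Cfsg.Agent.Lib.Helper2_CharMore Cfsg.Agent.Lib.Helper2_CharNorm Cfsg.Agent.Lib.Helper2_CharValues Cfsg.Agent.Lib.Helper2_CharComplete Cfsg.Agent.Lib.Helper2_CharInd Cfsg.Agent.Lib.Helper2_CharTable Cfsg.Agent.Lib.Helper2_CharFrob Cfsg.Agent.Lib.Helper2_CharDeg Cfsg.Agent.Lib.Helper2_CharSum Cfsg.Agent.Lib.Helper2_CharExtra Cfsg.Agent.Lib.Helper2_CharCentral Cfsg.Agent.Lib.Helper2_PermChar Cfsg.Agent.Lib.Helper2_FrobSchur Cfsg.Agent.Lib.Helper2_CliffordCorr Cfsg.Agent.Lib.Helper2_CharKernel Cfsg.Agent.Lib.Helper2_CyclicTI Cfsg.Agent.Lib.Helper2_CharGalois Cfsg.Agent.Lib.Helper2_CharInt Cfsg.Agent.Lib.Helper2_CharBurnside Cfsg.Agent.Lib.Helper2_CharCenter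 Cfsg.Agent.Lib.Helper2_Ito Cfsg.Agent.Lib.Helper2_Gallagher Cfsg.Agent.Lib.Helper2_Artin Cfsg.Agent.Lib.Helper2_MGroup
open scoped Pointwise
open scoped ComplexConjugate
open commutatorElement

/-- An element lying in the kernel of every irreducible character is trivial. -/
theorem eq_one_of_forall_irr {G : Type*} [Group G] [Fintype G] (g : G)
    (h : ∀ χ : G → ℂ, IsIrrCharacter G χ → χ g = χ 1) : g = 1 := by
  classical
  have h1 := second_orthogonality g (1 : G)
  have h2 := second_orthogonality (1 : G) (1 : G)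
  have h3 : ∑ χ ∈ irrFinset G, χ g * conj (χ 1) = ∑ χ ∈ irrFinset G, χ 1 * conj (χ 1) :=
    Finset.sum_congr rfl fun χ hχ => by rw [h χ (mem_irrFinset.mp hχ)]
  rw [h3, h2, if_pos (IsConj.refl 1)] at h1
  by_contra hne
  have hnc : ¬ IsConj g 1 := by
    intro hc
    exact hne (isConj_one_left.mp hc)
  rw [if_neg hnc] at h1
  have hcard : ((Finset.univ.filter (fun x : G => IsConj x 1)).card : ℂ) ≠ 0 := by
    have : 0 < (Finset.univ.filter (fun x : G => IsConj x 1)).card :=
      Finset.card_pos.mpr ⟨1, Finset.mem_filter.mpr ⟨Finset.mem_univ _, IsConj.refl 1⟩⟩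
    exact_mod_cast this.ne'
  have hG := card_ne_zero_complex (G := G)
  exact (div_ne_zero hG hcard) h1

/-- If the permutation character on the cosets of `H` takes its degree at `g`, then `g ∈ H`. -/
theorem mem_of_indFun_one_eq {G : Type*} [Group G] [Fintype G] (H : Subgroup G) (g : G)
    (h : indFun H (fun _ => (1 : ℂ)) g = indFun H (fun _ => (1 : ℂ)) 1) : g ∈ H := by
  classical
  rw [indFun_apply, indFun_apply] at h
  have hH : (Nat.card H : ℂ)⁻¹ ≠ 0 := inv_ne_zero (card_subgroup_ne_zero H)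
  have h' := mul_left_cancel₀ hH h
  have e1 : ∀ y : G, extendByZero H (fun _ => (1 : ℂ)) y = if y ∈ H then 1 else 0 := by
    intro y
    by_cases hy : y ∈ H
    · rw [extendByZero_of_mem _ _ hy, if_pos hy]
    · rw [extendByZero_of_not_mem _ _ hy, if_neg hy]
  simp only [e1] at h'
  rw [Finset.sum_boole, Finset.sum_boole] at h'
  have h2 : (Finset.univ.filter (fun x : G => x⁻¹ * g * x ∈ H)).card
      = (Finset.univ.filter (fun x : G => x⁻¹ * 1 * x ∈ H)).card := by exact_mod_cast h'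
  have h3 : Finset.univ.filter (fun x : G => x⁻¹ * 1 * x ∈ H) = Finset.univ := by
    ext x
    simp [H.one_mem]
  rw [h3] at h2
  have h4 := (Finset.card_eq_iff_eq_univ _).mp h2
  have h5 : (1 : G) ∈ Finset.univ.filter (fun x : G => x⁻¹ * g * x ∈ H) := by
    rw [h4]; exact Finset.mem_univ _
  simpa using (Finset.mem_filter.mp h5).2

/-- A normal subgroup inside the kernel of a linear character of `H` lies in the kernel of the
induced function. -/
theorem indFun_eq_of_normal_le_ker {G : Type*} [Group G] [Fintype G] (H : Subgroup G)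
    (lam : H →* ℂˣ) (N : Subgroup G) [hN : N.Normal]
    (hle : ∀ n ∈ N, ∃ hn : n ∈ H, lam ⟨n, hn⟩ = 1) (n : G) (hn : n ∈ N) :
    indFun H (fun h => (lam h : ℂ)) n = indFun H (fun h => (lam h : ℂ)) 1 := by
  rw [indFun_apply, indFun_apply]
  congr 1
  refine Finset.sum_congr rfl fun x _ => ?_
  have hx : x⁻¹ * n * x ∈ N := by
    have := hN.conj_mem n hn x⁻¹
    simpa using this
  obtain ⟨hxH, hx1⟩ := hle _ hx
  rw [extendByZero_of_mem _ _ hxH, hx1]
  have h1 : x⁻¹ * 1 * x = 1 := by group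
  rw [h1, extendByZero_of_mem _ _ H.one_mem]
  have : (⟨1, H.one_mem⟩ : H) = 1 := rfl
  rw [this, map_one]

/-- Constituents of the permutation character on the cosets of a proper subgroup have smaller
degree than the index, and elements in all their kernels lie in the subgroup. -/
theorem mem_of_forall_small {G : Type*} [Group G] [Fintype G] (H : Subgroup G) (hd : 1 < H.index)
    (g : G) (hg : ∀ ψ : G → ℂ, IsIrrCharacter G ψ → ∀ m : ℕ, ψ 1 = m → m < H.index → ψ g = ψ 1) :
    g ∈ H := by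
  classical
  haveI : Fintype H := Fintype.ofFinite _
  apply mem_of_indFun_one_eq
  set θ : G → ℂ := indFun H (fun _ => (1 : ℂ)) with hθ
  have hθc : IsCharacter G θ := IsCharacter.indFun (isCharacter_one (G := H))
  have hexp := expansion_of_mem_span (IsCharacter.mem_span hθc)
  have h1 : ∀ ψ : G → ℂ, ∃ n : ℕ, ψ ∈ irrFinset G → classInner θ ψ = n := by
    intro ψ
    by_cases hψ : ψ ∈ irrFinset G
    · obtain ⟨n, hn⟩ := IsCharacter.classInner_nat hθc
        (IsIrrCharacter.isCharacter (mem_irrFinset.mp hψ))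
      exact ⟨n, fun _ => hn⟩
    · exact ⟨0, fun h => absurd h hψ⟩
  choose nn hnn using h1
  have h2 : ∀ ψ : G → ℂ, ∃ m : ℕ, ψ ∈ irrFinset G → (0 < m ∧ ψ 1 = m) := by
    intro ψ
    by_cases hψ : ψ ∈ irrFinset G
    · obtain ⟨m, hm0, hm⟩ := IsIrrCharacter.apply_one (mem_irrFinset.mp hψ)
      exact ⟨m, fun _ => ⟨hm0, hm⟩⟩
    · exact ⟨0, fun h => absurd h hψ⟩
  choose dd hdd using h2
  have hθ1 : θ 1 = (H.index : ℂ) := by
    rw [hθ, indFun_one, mul_one]
  have hsum : H.index = ∑ ψ ∈ irrFinset G, nn ψ * dd ψ := by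
    have := congrFun hexp 1
    rw [hθ1] at this
    simp only [Finset.sum_apply, Pi.smul_apply, smul_eq_mul] at this
    have h3 : ∑ ψ ∈ irrFinset G, classInner θ ψ * ψ 1
        = ∑ ψ ∈ irrFinset G, ((nn ψ * dd ψ : ℕ) : ℂ) :=
      Finset.sum_congr rfl fun ψ hψ => by
        rw [hnn ψ hψ, (hdd ψ hψ).2]; push_cast; ring
    rw [h3] at this
    exact_mod_cast this
  -- the trivial character
  set τ : G → ℂ := fun _ => 1 with hτ
  have hτirr : τ ∈ irrFinset G := mem_irrFinset.mpr isIrrCharacter_one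
  have hnτ : nn τ = 1 := by
    have h3 := hnn τ hτirr
    rw [hθ, frobenius_reciprocity H _ τ (IsCharacter.isClassFunction isCharacter_one)] at h3
    have h4 : classInner (fun _ : H => (1 : ℂ)) (fun h : H => τ h) = 1 :=
      classInner_irr_self (isIrrCharacter_one (G := H))
    rw [h4] at h3
    exact_mod_cast h3.symm
  have hdτ : dd τ = 1 := by
    have h3 : (1 : ℂ) = dd τ := (hdd τ hτirr).2
    exact_mod_cast h3.symm
  -- degree bound
  have hbound : ∀ ψ ∈ irrFinset G, nn ψ ≠ 0 → dd ψ < H.index := by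
    intro ψ hψ hn0
    by_cases hψτ : ψ = τ
    · rw [hψτ, hdτ]; exact hd
    · have hsub : ({τ, ψ} : Finset (G → ℂ)) ⊆ irrFinset G := by
        intro x hx
        rcases Finset.mem_insert.mp hx with rfl | hx
        · exact hτirr
        · rw [Finset.mem_singleton.mp hx]; exact hψ
      have h3 : ∑ x ∈ ({τ, ψ} : Finset (G → ℂ)), nn x * dd x ≤ ∑ x ∈ irrFinset G, nn x * dd x :=
        Finset.sum_le_sum_of_subset hsub
      rw [Finset.sum_pair (Ne.symm hψτ), hnτ, hdτ, ← hsum] at h3
      have h4 : dd ψ ≤ nn ψ * dd ψ := Nat.le_mul_of_pos_left _ (Nat.pos_of_ne_zero hn0)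
      omega
  -- evaluate
  rw [hexp]
  simp only [Finset.sum_apply, Pi.smul_apply, smul_eq_mul]
  refine Finset.sum_congr rfl fun ψ hψ => ?_
  by_cases hn0 : nn ψ = 0
  · rw [hnn ψ hψ, hn0]; simp
  · rw [hg ψ (mem_irrFinset.mp hψ) (dd ψ) (hdd ψ hψ).2 (hbound ψ hψ hn0)]


/-- Taketa's Theorem on M-groups: if every irreducible complex character of a finite group is induced from a linear character (a homomorphism to ℂˣ) of some subgroup, the group is solvable. -/
theorem result {G : Type*} [Group G] [Fintype G] (hM : ∀ χ : G → ℂ, Cfsg.IsIrrCharacter G χ → ∃ (H : Subgroup G) (lam : H →* ℂˣ), χ = Cfsg.indFun H (fun h => (lam h : ℂ))) : Group.IsSolvable G := by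
  classical
  -- main claim
  have key : ∀ d : ℕ, ∀ χ : G → ℂ, IsIrrCharacter G χ → χ 1 = d →
      ∀ g ∈ derivedSeries G d, χ g = χ 1 := by
    intro d
    induction d using Nat.strong_induction_on with
    | _ d ih =>
    intro χ hχ hd g hg
    obtain ⟨H, lam, hlam⟩ := hM χ hχ
    have hidx : H.index = d := by
      have h1 := indFun_one H (fun h => (lam h : ℂ))
      rw [← hlam, hd, map_one, Units.val_one, mul_one] at h1
      exact_mod_cast h1.symm
    obtain ⟨m0, hm0, hm0'⟩ := IsIrrCharacter.apply_one hχ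
    have hdpos : 0 < d := by
      have : (d : ℂ) = m0 := by rw [← hd, hm0']
      have : d = m0 := by exact_mod_cast this
      omega
    by_cases hd1 : d = 1
    · -- linear
      subst hd1
      have h1 : χ 1 = 1 := by rw [hd]; simp
      obtain ⟨ω, hω⟩ := Cfsg.Agent.S0154.exists_hom_of_degree_one χ hχ h1
      rw [derivedSeries_one] at hg
      have := Abelianization.commutator_subset_ker ω hg
      rw [MonoidHom.mem_ker] at this
      rw [hω]
      simp only [this, map_one]
    · have hd2 : 1 < d := by omega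
      obtain ⟨e, rfl⟩ : ∃ e, d = e + 1 := ⟨d - 1, by omega⟩
      -- `derivedSeries G e ≤ H`
      have hle : derivedSeries G e ≤ H := by
        intro x hx
        apply mem_of_forall_small H (by rw [hidx]; exact hd2) x
        intro ψ hψ m hm hmlt
        rw [hidx] at hmlt
        apply ih m hmlt ψ hψ hm
        exact derivedSeries_antitone G (Nat.le_of_lt_succ hmlt) hx
      haveI := derivedSeries_normal (G := G) (e + 1)
      rw [hlam]
      apply indFun_eq_of_normal_le_ker H lam (derivedSeries G (e + 1)) _ g hg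
      -- the kernel of lam, as a subgroup of G
      have hK : derivedSeries G (e + 1) ≤ (lam.ker).map H.subtype := by
        rw [derivedSeries_succ, Subgroup.commutator_le]
        intro a ha b hb
        refine ⟨⁅(⟨a, hle ha⟩ : H), ⟨b, hle hb⟩⁆, ?_, rfl⟩
        rw [SetLike.mem_coe, MonoidHom.mem_ker, map_commutatorElement]
        exact commutatorElement_eq_one_iff_commute.mpr (Commute.all _ _)
      intro n hn
      obtain ⟨y, hy, rfl⟩ := hK hn
      exact ⟨y.2, MonoidHom.mem_ker.mp hy⟩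
  -- conclude
  rw [Group.isSolvable_def]
  obtain ⟨D, hD⟩ : ∃ D : ℕ, ∀ χ : G → ℂ, IsIrrCharacter G χ → ∀ m : ℕ, χ 1 = m → m ≤ D := by
    refine ⟨Nat.card G, ?_⟩
    intro χ hχ m hm
    have h1 := sq_mul_card_le hχ ⊥ (fun d hd => by rw [Subgroup.mem_bot.mp hd])
    rw [hm, Subgroup.card_bot] at h1
    simp only [Complex.norm_natCast, Nat.cast_one, mul_one] at h1
    have h2 : m ^ 2 ≤ Nat.card G := by exact_mod_cast h1
    nlinarith [Nat.le_self_pow (two_ne_zero) m]
  refine ⟨D, ?_⟩
  rw [eq_bot_iff]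
  intro g hg
  rw [Subgroup.mem_bot]
  apply eq_one_of_forall_irr
  intro χ hχ
  obtain ⟨m, -, hm⟩ := IsIrrCharacter.apply_one hχ
  exact key m χ hχ hm g (derivedSeries_antitone G (hD χ hχ m hm) hg)

end Cfsg.Agent.S0175
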