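import Mathlib
import Cfsg.Statements.S0178
import Cfsg.Agent.Lib.Helper2_ClassFn
import Cfsg.Agent.Lib.Helper2_CharBasic
import Cfsg.Agent.Lib.Helper2_CharOrtho
import Cfsg.Agent.Lib.Helper2_CharInd
import Cfsg.Agent.Lib.Helper2_CharDeg

set_option autoImplicit false
open Cfsg
open Cfsg.Agent.Lib.Helper2_ClassFn
open Cfsg.Agent.Lib.Helper2_CharBasic
open Cfsg.Agent.Lib.Helper2_CharOrtho
open Cfsg.Agent.Lib.Helper2_CharInd
open Cfsg.Agent.Lib.Helper2_CharDeg

namespace Cfsg.Agent.S0178

/-- The degree of an irreducible complex representation of a finite group is at most the index of any abelian subgroup. -/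
theorem result {G : Type*} [Group G] [Finite G] {V : Type*} [AddCommGroup V] [Module ℂ V] [FiniteDimensional ℂ V] (ρ : Representation ℂ G V) [ρ.IsIrreducible] (A : Subgroup G) (hA : ∀ a ∈ A, ∀ b ∈ A, a * b = b * a) : Module.finrank ℂ V ≤ A.index := by
  classical
  have := Fintype.ofFinite G
  have hirr : ρ.IsIrreducible := inferInstance
  have hχ : IsIrrCharacter G ρ.character := isIrrCharacter_of_rep ρ hirr
  have hres : IsCharacter A (fun a : A => ρ.character a) :=
    IsCharacter.restrict (IsIrrCharacter.isCharacter hχ) A
  have hne : (fun a : A => ρ.character a) ≠ 0 := by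
    intro h
    have := congrFun h 1
    simp only [Subgroup.coe_one, Pi.zero_apply] at this
    exact IsIrrCharacter.apply_one_ne_zero hχ this
  obtain ⟨lam, hlam, n, hn, hin⟩ := IsCharacter.exists_constituent hres hne
  have hlam1 : lam 1 = 1 :=
    IsIrrCharacter.apply_one_of_comm (fun a b => Subtype.ext (hA a a.2 b b.2)) hlam
  have hind : IsCharacter G (indFun A lam) := IsCharacter.indFun (IsIrrCharacter.isCharacter hlam)
  have hne0 : classInner (indFun A lam) ρ.character ≠ 0 := by
    rw [frobenius_reciprocity A lam _ (IsCharacter.isClassFunction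
      (IsIrrCharacter.isCharacter hχ)), ← classInner_conj_symm, hin]
    simp
    omega
  have hle := IsCharacter.apply_one_le_of_constituent hind hχ hne0
  rw [indFun_one, hlam1, mul_one, Representation.char_one] at hle
  simp only [Complex.natCast_re] at hle
  exact_mod_cast hle

end Cfsg.Agent.S0178
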