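import Cfsg.Statements.S0180
import Cfsg.Agent.Lib.Helper2_ClassFn
import Cfsg.Agent.Lib.Helper2_CharBasic
import Cfsg.Agent.Lib.Helper2_CharOrtho
import Cfsg.Agent.Lib.Helper2_Clifford
import Cfsg.Agent.Lib.Helper2_CharMore
import Cfsg.Agent.Lib.Helper2_CharNorm
import Cfsg.Agent.Lib.Helper2_CharValues
import Cfsg.Agent.Lib.Helper2_CharComplete
import Cfsg.Agent.Lib.Helper2_CharInd
import Cfsg.Agent.Lib.Helper2_CharTable
import Cfsg.Agent.Lib.Helper2_CharFrob
import Cfsg.Agent.Lib.Helper2_CharDeg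
import Cfsg.Agent.Lib.Helper2_CharSum
import Cfsg.Agent.Lib.Helper2_CharExtra
import Cfsg.Agent.Lib.Helper2_CharCentral
import Cfsg.Agent.Lib.Helper2_PermChar
import Cfsg.Agent.Lib.Helper2_FrobSchur
import Cfsg.Agent.Lib.Helper2_CliffordCorr
import Cfsg.Agent.Lib.Helper2_CharKernel
import Cfsg.Agent.Lib.Helper2_CyclicTI
import Cfsg.Agent.Lib.Helper2_CharGalois
import Cfsg.Agent.S0136

set_option autoImplicit false
open Cfsg

namespace Cfsg.Agent.S0180

open Cfsg.Agent.Lib.Helper2_ClassFn Cfsg.Agent.Lib.Helper2_CharBasic Cfsg.Agent.Lib.Helper2_CharOrtho Cfsg.Agent.Lib.Helper2_Clifford Cfsg.Agent.Lib.Helper2_CharMore Cfsg.Agent.Lib.Helper2_CharNorm Cfsg.Agent.Lib.Helper2_CharValues Cfsg.Agent.Lib.Helper2_CharComplete Cfsg.Agent.Lib.Helper2_CharInd Cfsg.Agent.Lib.Helper2_CharTable Cfsg.Agent.Lib.Helper2_CharFrob Cfsg.Agent.Lib.Helper2_CharDeg Cfsg.Agent.Lib.Helper2_CharSum Cfsg.Agent.Lib.Helper2_CharExtra Cfsg.Agent.Lib.Helper2_CharCentral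 Cfsg.Agent.Lib.Helper2_PermChar Cfsg.Agent.Lib.Helper2_FrobSchur Cfsg.Agent.Lib.Helper2_CliffordCorr Cfsg.Agent.Lib.Helper2_CharKernel Cfsg.Agent.Lib.Helper2_CyclicTI Cfsg.Agent.Lib.Helper2_CharGalois
open scoped Pointwise


/-- Every irreducible complex character of a finite group takes only rational values if and only if g is conjugate to g ^ m for every element g and every m coprime to the group order. -/
theorem result {G : Type*} [Group G] [Finite G] : (∀ χ : Cfsg.IrrCharacter G, ∀ g : G, ∃ q : ℚ, (χ : G → ℂ) g = (q : ℂ)) ↔ ∀ m : ℕ, m.Coprime (Nat.card G) → ∀ g : G, IsConj g (g ^ m) := by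
  classical
  have := Fintype.ofFinite G
  set N := Nat.card G with hNdef
  have hN : 0 < N := Nat.card_pos
  have : NeZero N := ⟨hN.ne'⟩
  set ζ := Complex.exp (2 * Real.pi * Complex.I / N) with hζ
  have hprim : IsPrimitiveRoot ζ N := Complex.isPrimitiveRoot_exp N hN.ne'
  have hζR : ζ ∈ primitiveRoots N ℂ := (mem_primitiveRoots hN).mpr hprim
  have hgN : ∀ g : G, g ^ N = 1 := fun g => pow_card_eq_one'
  constructor
  · intro hrat m hm g
    rw [Cfsg.Agent.S0136.result]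
    intro χ
    obtain ⟨l, hl⟩ := char_pow_list (IsIrrCharacter.isCharacter χ.2) g N hN (hgN g)
    obtain ⟨q, hq⟩ := hrat χ g
    have h1 := hl 1
    rw [pow_one, pow_one] at h1
    have hmR : ζ ^ m ∈ primitiveRoots N ℂ :=
      (mem_primitiveRoots hN).mpr (hprim.pow_of_coprime m hm)
    have h2 := powSum_eq_rat_of_exists N hN l q ⟨ζ, hζR, by rw [← h1, hq]⟩ (ζ ^ m) hmR
    rw [hl m, h2, hq]
  · intro hconj χ g
    obtain ⟨l, hl⟩ := char_pow_list (IsIrrCharacter.isCharacter χ.2) g N hN (hgN g)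
    have hcf := IsCharacter.isClassFunction (IsIrrCharacter.isCharacter χ.2)
    apply powSum_rat_of_const N hN l
    intro μ hμ
    have hμprim : IsPrimitiveRoot μ N := (mem_primitiveRoots hN).mp hμ
    obtain ⟨k, -, hk⟩ := hprim.eq_pow_of_pow_eq_one hμprim.pow_eq_one
    have hcop : k.Coprime N := by
      rw [← hk] at hμprim
      exact (hprim.pow_iff_coprime hN k).mp hμprim
    rw [← hk, ← hl k]
    obtain ⟨c, hc⟩ := isConj_iff.mp (hconj k hcop g)
    rw [← hc]
    exact hcf g c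

end Cfsg.Agent.S0180
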