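import Cfsg.Statements.S0181
import Cfsg.Agent.Lib.Helper2_ClassFn
import Cfsg.Agent.Lib.Helper2_CharBasic
import Cfsg.Agent.Lib.Helper2_CharOrtho
import Cfsg.Agent.Lib.Helper2_Clifford
import Cfsg.Agent.Lib.Helper2_CharMore
import Cfsg.Agent.Lib.Helper2_CharNorm
import Cfsg.Agent.Lib.Helper2_CharValues
import Cfsg.Agent.Lib.Helper2_CharComplete
import Cfsg.Agent.Lib.Helper2_CharInd
import Cfsg.Agent.Lib.Helper2_CharTable
import Cfsg.Agent.Lib.Helper2_CharFrob
import Cfsg.Agent.Lib.Helper2_CharDeg
import Cfsg.Agent.Lib.Helper2_CharSum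

set_option autoImplicit false
open Cfsg

namespace Cfsg.Agent.S0181

open Cfsg.Agent.Lib.Helper2_ClassFn Cfsg.Agent.Lib.Helper2_CharBasic Cfsg.Agent.Lib.Helper2_CharOrtho Cfsg.Agent.Lib.Helper2_Clifford Cfsg.Agent.Lib.Helper2_CharMore Cfsg.Agent.Lib.Helper2_CharNorm Cfsg.Agent.Lib.Helper2_CharValues Cfsg.Agent.Lib.Helper2_CharComplete Cfsg.Agent.Lib.Helper2_CharInd Cfsg.Agent.Lib.Helper2_CharTable Cfsg.Agent.Lib.Helper2_CharFrob Cfsg.Agent.Lib.Helper2_CharDeg Cfsg.Agent.Lib.Helper2_CharSum
open scoped Pointwise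


/-- Let H be a normal subgroup of a finite group G and ρ an irreducible complex representation whose kernel does not contain H. If g commutes with no non-identity element of H, then the character of ρ vanishes at g. -/
theorem result {G : Type*} [Group G] [Finite G] {V : Type*} [AddCommGroup V] [Module ℂ V] [FiniteDimensional ℂ V] (ρ : Representation ℂ G V) [ρ.IsIrreducible] (H : Subgroup G) [H.Normal] (hker : ∃ h ∈ H, ρ h ≠ LinearMap.id) (g : G) (hg : ∀ h ∈ H, h * g = g * h → h = 1) : ρ.character g = 0 := by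
  classical
  have : Fintype H := Fintype.ofFinite H
  obtain ⟨h0, hh0, hρh0⟩ := hker
  -- the averaging operator
  set e : Module.End ℂ V := ∑ h : H, ρ (h : G) with he
  -- ρ(y) e = e for y ∈ H
  have hHe : ∀ y : H, ρ (y : G) * e = e := by
    intro y
    rw [he, Finset.mul_sum]
    have : ∀ h : H, ρ (y : G) * ρ (h : G) = ρ ((y * h : H) : G) := by
      intro h
      rw [Subgroup.coe_mul, map_mul]
    simp_rw [this]
    exact Fintype.sum_bijective (fun h : H => y * h) (Group.mulLeft_bijective y) _ _ (fun _ => rfl)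
  -- e commutes with ρ
  have hcomm : ∀ x : G, e * ρ x = ρ x * e := by
    intro x
    rw [he, Finset.sum_mul, Finset.mul_sum]
    let σ : H → H := fun h => ⟨x⁻¹ * h * x, by
      have := ‹H.Normal›.conj_mem h h.2 x⁻¹
      simpa using this⟩
    have hσ : Function.Bijective σ := by
      refine ⟨fun a b hab => ?_, fun b => ⟨⟨x * b * x⁻¹, ‹H.Normal›.conj_mem b b.2 x⟩, ?_⟩⟩
      · have := congrArg Subtype.val hab
        simp only [σ] at this
        apply Subtype.ext
        have h2 : x * (x⁻¹ * (a : G) * x) * x⁻¹ = x * (x⁻¹ * (b : G) * x) * x⁻¹ := by rw [this]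
        simpa [mul_assoc] using h2
      · apply Subtype.ext
        simp only [σ]
        group
    refine Fintype.sum_bijective σ hσ _ _ (fun h => ?_)
    have : ρ x * ρ ((σ h : H) : G) = ρ (x * (x⁻¹ * h * x)) := by
      rw [map_mul ρ x]
    rw [this]
    have : ρ (h : G) * ρ x = ρ ((h : G) * x) := by rw [map_mul]
    rw [this]
    congr 1
    group
  obtain ⟨c, hc⟩ := schur_scalar ρ inferInstance e hcomm
  have hc0 : c = 0 := by
    by_contra hne
    apply hρh0
    have := hHe ⟨h0, hh0⟩
    rw [hc] at this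
    have h4 : c • (ρ h0) = c • (LinearMap.id : V →ₗ[ℂ] V) := by
      rw [← this]
      ext v
      simp
    exact smul_right_injective _ hne h4
  have he0 : e = 0 := by rw [hc, hc0, zero_smul]
  -- every h g is conjugate to g
  have hconj : ∀ h : H, ∃ y : G, (h : G) * g = y⁻¹ * g * y := by
    let φ : H → H := fun y => ⟨(y : G)⁻¹ * (g * y * g⁻¹),
      H.mul_mem (H.inv_mem y.2) (‹H.Normal›.conj_mem y y.2 g)⟩
    have hinj : Function.Injective φ := by
      intro y z hyz
      have e1 : (y : G)⁻¹ * (g * y * g⁻¹) = (z : G)⁻¹ * (g * z * g⁻¹) := congrArg Subtype.val hyz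
      have hfix : ((z : G) * (y : G)⁻¹) * g = g * ((z : G) * (y : G)⁻¹) := by
        calc ((z : G) * (y : G)⁻¹) * g
            = (z : G) * ((y : G)⁻¹ * (g * y * g⁻¹)) * (g * (y : G)⁻¹) := by group
          _ = (z : G) * ((z : G)⁻¹ * (g * z * g⁻¹)) * (g * (y : G)⁻¹) := by rw [e1]
          _ = g * ((z : G) * (y : G)⁻¹) := by group
      have := hg _ (H.mul_mem z.2 (H.inv_mem y.2)) hfix
      have hzy : (z : G) = y := mul_inv_eq_one.mp this
      exact Subtype.ext hzy.symm
    have hsurj : Function.Surjective φ := Finite.surjective_of_injective hinj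
    intro h
    obtain ⟨y, hy⟩ := hsurj h
    refine ⟨y, ?_⟩
    have hy' : (y : G)⁻¹ * (g * y * g⁻¹) = h := congrArg Subtype.val hy
    rw [← hy']; group
  have hchar : ∀ h : H, ρ.character ((h : G) * g) = ρ.character g := by
    intro h
    obtain ⟨y, hy⟩ := hconj h
    rw [hy]
    have := Representation.char_conj ρ g y⁻¹
    simpa using this
  have htr : LinearMap.trace ℂ V (e * ρ g) = (Fintype.card H : ℂ) * ρ.character g := by
    rw [he, Finset.sum_mul, map_sum]
    have : ∀ h : H, LinearMap.trace ℂ V (ρ (h : G) * ρ g) = ρ.character g := by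
      intro h
      rw [← hchar h]
      simp only [Representation.character, map_mul]
    simp_rw [this]
    simp
  rw [he0] at htr
  simp only [zero_mul, map_zero] at htr
  have hcard : (Fintype.card H : ℂ) ≠ 0 := by
    exact_mod_cast Fintype.card_ne_zero
  rcases mul_eq_zero.mp htr.symm with h | h
  · exact absurd h hcard
  · exact h

end Cfsg.Agent.S0181
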