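import Cfsg.Statements.S0184
import Cfsg.Agent.Lib.Helper2_ClassFn
import Cfsg.Agent.Lib.Helper2_CharBasic
import Cfsg.Agent.Lib.Helper2_CharOrtho
import Cfsg.Agent.Lib.Helper2_Clifford
import Cfsg.Agent.Lib.Helper2_CharMore
import Cfsg.Agent.Lib.Helper2_CharNorm
import Cfsg.Agent.Lib.Helper2_CharValues
import Cfsg.Agent.Lib.Helper2_CharComplete
import Cfsg.Agent.Lib.Helper2_CharInd
import Cfsg.Agent.Lib.Helper2_CharTable
import Cfsg.Agent.Lib.Helper2_CharFrob
import Cfsg.Agent.Lib.Helper2_CharDeg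
import Cfsg.Agent.Lib.Helper2_CharSum
import Cfsg.Agent.Lib.Helper2_CharExtra
import Cfsg.Agent.Lib.Helper2_CharCentral
import Cfsg.Agent.Lib.Helper2_PermChar
import Cfsg.Agent.Lib.Helper2_FrobSchur
import Cfsg.Agent.Lib.Helper2_CliffordCorr
import Cfsg.Agent.Lib.Helper2_CharKernel
import Cfsg.Agent.Lib.Helper2_CyclicTI
import Cfsg.Agent.Lib.Helper2_CharGalois
import Cfsg.Agent.Lib.Helper2_CharInt
import Cfsg.Agent.Lib.Helper2_CharBurnside
import Cfsg.Agent.Lib.Helper2_CharCenter
import Cfsg.Agent.Lib.Helper2_Ito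
import Cfsg.Agent.S0015

set_option autoImplicit false
open Cfsg

namespace Cfsg.Agent.S0184

open Cfsg.Agent.Lib.Helper2_ClassFn Cfsg.Agent.Lib.Helper2_CharBasic Cfsg.Agent.Lib.Helper2_CharOrtho Cfsg.Agent.Lib.Helper2_Clifford Cfsg.Agent.Lib.Helper2_CharMore Cfsg.Agent.Lib.Helper2_CharNorm Cfsg.Agent.Lib.Helper2_CharValues Cfsg.Agent.Lib.Helper2_CharComplete Cfsg.Agent.Lib.Helper2_CharInd Cfsg.Agent.Lib.Helper2_CharTable Cfsg.Agent.Lib.Helper2_CharFrob Cfsg.Agent.Lib.Helper2_CharDeg Cfsg.Agent.Lib.Helper2_CharSum Cfsg.Agent.Lib.Helper2_CharExtra Cfsg.Agent.Lib.Helper2_CharCentral Cfsg.Agent.Lib.Helper2_PermChar Cfsg.Agent.Lib.Helper2_FrobSchur Cfsg.Agent.Lib.Helper2_CliffordCorr Cfsg.Agent.Lib.Helper2_CharKernel Cfsg.Agent.Lib.Helper2_CyclicTI Cfsg.Agent.Lib.Helper2_CharGalois Cfsg.Agent.Lib.Helper2_CharInt Cfsg.Agent.Lib.Helper2_CharBurnside Cfsg.Agent.Lib.Helper2_CharCenter Cfsg.Agent.Lib.Helper2_Ito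
open scoped Pointwise


/-- A finite p-group admits a faithful irreducible complex representation if and only if its centre is cyclic. -/
theorem result {G : Type*} [Group G] [Finite G] (p : ℕ) [Fact p.Prime] (hG : IsPGroup p G) : (∃ (n : ℕ) (ρ : Representation ℂ G (Fin n → ℂ)), ρ.IsIrreducible ∧ Function.Injective ρ) ↔ IsCyclic (Subgroup.center G) := by
  classical
  haveI := Fintype.ofFinite G
  -- the central character of an irreducible character, as a homomorphism
  have hcent : ∀ {χ : G → ℂ}, IsIrrCharacter G χ →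
      ∃ f : Subgroup.center G →* ℂ, ∀ z : Subgroup.center G, f z = χ z / χ 1 := by
    intro χ hχ
    have h10 : χ 1 ≠ 0 := IsIrrCharacter.apply_one_ne_zero hχ
    refine ⟨{ toFun := fun z => χ z / χ 1
              map_one' := by
                show χ ((1 : Subgroup.center G) : G) / χ 1 = 1
                rw [Subgroup.coe_one, div_self h10]
              map_mul' := by
                intro z w
                have := apply_central_mul hχ (z : G)
                  (fun g => (Subgroup.mem_center_iff.mp z.2 g).symm) (w : G)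
                show χ ((z * w : Subgroup.center G) : G) / χ 1 = χ z / χ 1 * (χ w / χ 1)
                rw [Subgroup.coe_mul, this]
                field_simp }, fun z => rfl⟩
  constructor
  · rintro ⟨n, ρ, hirr, hinj⟩
    have hχ : IsIrrCharacter G ρ.character := ⟨n, ρ, hirr, rfl⟩
    have h10 : ρ.character 1 ≠ 0 := IsIrrCharacter.apply_one_ne_zero hχ
    obtain ⟨f, hf⟩ := hcent hχ
    apply isCyclic_of_subgroup_isDomain f
    intro z w hzw
    have h1 : f (z * w⁻¹) = 1 := by
      rw [map_mul, hzw, ← map_mul, mul_inv_cancel, map_one]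
    have h2 : ρ.character ((z * w⁻¹ : Subgroup.center G) : G) = ρ.character 1 := by
      rw [hf, div_eq_one_iff_eq h10] at h1
      exact h1
    have h3 := rep_eq_one_of_char_eq ρ _ h2
    have h4 : ((z * w⁻¹ : Subgroup.center G) : G) = 1 := hinj (by rw [h3, map_one])
    have h5 : z * w⁻¹ = 1 := Subtype.ext h4
    exact mul_inv_eq_one.mp h5
  · intro hcyc
    set Z := Subgroup.center G with hZ
    haveI : Fintype Z := Fintype.ofFinite _
    -- faithful linear character of `Z`
    obtain ⟨g, hg⟩ := hcyc.exists_generator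
    have hm : 0 < orderOf g := orderOf_pos g
    have hprim := Complex.isPrimitiveRoot_exp (orderOf g) hm.ne'
    set u : ℂˣ := (hprim.isUnit hm.ne').unit with hu
    have huprim : IsPrimitiveRoot u (orderOf g) := by
      rw [← IsPrimitiveRoot.coe_units_iff]
      exact hprim
    have hord : orderOf u = orderOf g := huprim.eq_orderOf.symm
    set lam : Z →* ℂˣ := monoidHomOfForallMemZpowers hg (g' := u) (by rw [hord]) with hlam
    have hlamg : lam g = u := monoidHomOfForallMemZpowers_apply_gen hg _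
    have hlaminj : ∀ x : Z, lam x = 1 → x = 1 := by
      intro x hx
      obtain ⟨k, rfl⟩ := Subgroup.mem_zpowers_iff.mp (hg x)
      rw [map_zpow, hlamg] at hx
      have h1 : (orderOf u : ℤ) ∣ k := orderOf_dvd_iff_zpow_eq_one.mpr hx
      rw [hord] at h1
      exact orderOf_dvd_iff_zpow_eq_one.mp h1
    have hlamirr : IsIrrCharacter Z (fun z => ((lam z : ℂˣ) : ℂ)) := isIrrCharacter_of_hom lam
    -- a constituent of the induced character
    have hind : IsCharacter G (indFun Z (fun z => ((lam z : ℂˣ) : ℂ))) :=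
      IsCharacter.indFun (IsIrrCharacter.isCharacter hlamirr)
    have hne : indFun Z (fun z => ((lam z : ℂˣ) : ℂ)) ≠ 0 := by
      intro h0
      have h1 := congrFun h0 1
      rw [indFun_one] at h1
      simp only [Pi.zero_apply, map_one, Units.val_one, mul_one] at h1
      have : (Z.index : ℂ) ≠ 0 := by
        exact_mod_cast (Subgroup.index_ne_zero_of_finite (H := Z))
      exact this h1
    obtain ⟨χ, hχ, k, hk0, hk⟩ := IsCharacter.exists_constituent hind hne
    have hχc := IsIrrCharacter.isCharacter hχ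
    have hχcf := IsCharacter.isClassFunction hχc
    have h10 : χ 1 ≠ 0 := IsIrrCharacter.apply_one_ne_zero hχ
    rw [frobenius_reciprocity Z _ χ hχcf] at hk
    obtain ⟨f, hf⟩ := hcent hχ
    set mu : Z →* ℂˣ := f.toHomUnits with hmu
    have hmuv : ∀ z : Z, ((mu z : ℂˣ) : ℂ) = χ z / χ 1 := by
      intro z
      rw [← hf]
      rfl
    have hmuirr : IsIrrCharacter Z (fun z => ((mu z : ℂˣ) : ℂ)) := isIrrCharacter_of_hom mu
    have hres : (fun z : Z => χ z) = χ 1 • (fun z => ((mu z : ℂˣ) : ℂ)) := by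
      ext z
      simp only [Pi.smul_apply, smul_eq_mul]
      rw [hmuv]
      field_simp
    rw [hres, classInner_smul_right] at hk
    have hlm : (fun z => ((lam z : ℂˣ) : ℂ)) = (fun z => ((mu z : ℂˣ) : ℂ)) := by
      by_contra hne'
      rw [classInner_irr_of_ne hlamirr hmuirr hne', mul_zero] at hk
      have : (k : ℂ) ≠ 0 := by exact_mod_cast hk0.ne'
      exact this hk.symm
    -- the kernel of χ is trivial
    obtain ⟨K, hKn, hK⟩ := exists_ker hχc
    haveI := hKn
    haveI : Group.IsNilpotent G := hG.isNilpotent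
    have hKbot : K = ⊥ := by
      by_contra hKne
      obtain ⟨a, haK, haZ, ha1⟩ := Cfsg.Agent.S0015.normal_inf_center_ne_bot K hKne
      apply ha1
      have h1 : χ a = χ 1 := (hK a).mp haK
      have h2 : ((lam ⟨a, haZ⟩ : ℂˣ) : ℂ) = 1 := by
        have := congrFun hlm ⟨a, haZ⟩
        rw [this, hmuv]
        show χ a / χ 1 = 1
        rw [h1, div_self h10]
      have h3 : lam ⟨a, haZ⟩ = 1 := Units.ext h2
      have h4 := hlaminj _ h3
      exact congrArg Subtype.val h4
    obtain ⟨n, ρ, hirr, hρ⟩ := hχ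
    refine ⟨n, ρ, hirr, ?_⟩
    intro x y hxy
    have h1 : ρ (x * y⁻¹) = 1 := by
      rw [map_mul, hxy, ← map_mul, mul_inv_cancel, map_one]
    have h2 : χ (x * y⁻¹) = χ 1 := by
      rw [← hρ]
      show LinearMap.trace ℂ _ (ρ (x * y⁻¹)) = LinearMap.trace ℂ _ (ρ 1)
      rw [h1, map_one ρ]
    have h3 : x * y⁻¹ ∈ K := (hK _).mpr h2
    rw [hKbot, Subgroup.mem_bot] at h3
    exact mul_inv_eq_one.mp h3

end Cfsg.Agent.S0184
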