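import Cfsg.Statements.S0185
import Cfsg.Agent.Lib.Helper2_ClassFn
import Cfsg.Agent.Lib.Helper2_CharBasic
import Cfsg.Agent.Lib.Helper2_CharOrtho
import Cfsg.Agent.Lib.Helper2_Clifford
import Cfsg.Agent.Lib.Helper2_CharMore
import Cfsg.Agent.Lib.Helper2_CharNorm
import Cfsg.Agent.Lib.Helper2_CharValues
import Cfsg.Agent.Lib.Helper2_CharComplete
import Cfsg.Agent.Lib.Helper2_CharInd
import Cfsg.Agent.Lib.Helper2_CharTable
import Cfsg.Agent.Lib.Helper2_CharFrob
import Cfsg.Agent.Lib.Helper2_CharDeg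
import Cfsg.Agent.Lib.Helper2_CharSum
import Cfsg.Agent.Lib.Helper2_CharExtra
import Cfsg.Agent.Lib.Helper2_CharCentral
import Cfsg.Agent.Lib.Helper2_PermChar
import Cfsg.Agent.Lib.Helper2_FrobSchur
import Cfsg.Agent.Lib.Helper2_CliffordCorr
import Cfsg.Agent.Lib.Helper2_CharKernel
import Cfsg.Agent.Lib.Helper2_CyclicTI
import Cfsg.Agent.Lib.Helper2_CharGalois
import Cfsg.Agent.Lib.Helper2_CharInt
import Cfsg.Agent.Lib.Helper2_CharBurnside
import Cfsg.Agent.S0154

set_option autoImplicit false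
open Cfsg

namespace Cfsg.Agent.S0185

open Cfsg.Agent.Lib.Helper2_ClassFn Cfsg.Agent.Lib.Helper2_CharBasic Cfsg.Agent.Lib.Helper2_CharOrtho Cfsg.Agent.Lib.Helper2_Clifford Cfsg.Agent.Lib.Helper2_CharMore Cfsg.Agent.Lib.Helper2_CharNorm Cfsg.Agent.Lib.Helper2_CharValues Cfsg.Agent.Lib.Helper2_CharComplete Cfsg.Agent.Lib.Helper2_CharInd Cfsg.Agent.Lib.Helper2_CharTable Cfsg.Agent.Lib.Helper2_CharFrob Cfsg.Agent.Lib.Helper2_CharDeg Cfsg.Agent.Lib.Helper2_CharSum Cfsg.Agent.Lib.Helper2_CharExtra Cfsg.Agent.Lib.Helper2_CharCentral Cfsg.Agent.Lib.Helper2_PermChar Cfsg.Agent.Lib.Helper2_FrobSchur Cfsg.Agent.Lib.Helper2_CliffordCorr Cfsg.Agent.Lib.Helper2_CharKernel Cfsg.Agent.Lib.Helper2_CyclicTI Cfsg.Agent.Lib.Helper2_CharGalois Cfsg.Agent.Lib.Helper2_CharInt Cfsg.Agent.Lib.Helper2_CharBurnside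
open scoped Pointwise


/-- If a finite group has a faithful complex representation of degree less than the smallest prime dividing its order, the group is abelian. -/
theorem result {G : Type*} [Group G] [Finite G] {V : Type*} [AddCommGroup V] [Module ℂ V] [FiniteDimensional ℂ V] (ρ : Representation ℂ G V) (hfaithful : Function.Injective ρ) (hdeg : ∀ p : ℕ, p.Prime → p ∣ Nat.card G → Module.finrank ℂ V < p) (a b : G) : a * b = b * a := by
  classical
  haveI := Fintype.ofFinite G
  have hχc : IsCharacter G ρ.character := isCharacter_of_rep ρ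
  obtain ⟨m, hm, hsum⟩ := IsCharacter.exists_irr_decomp hχc
  have heval : ∀ c : G, ρ.character c = (m.map (fun ψ => ψ c)).sum := by
    intro c
    rw [hsum]
    exact map_multiset_sum (Pi.evalAddMonoidHom (fun _ : G => ℂ) c) m
  -- all constituents are linear
  have hlin : ∀ ψ ∈ m, ψ 1 = 1 := by
    intro ψ hψm
    have hψ := hm ψ hψm
    obtain ⟨n, hn0, hn⟩ := IsIrrCharacter.apply_one hψ
    have hdvd : n ∣ Nat.card G := degree_dvd_card hψ n hn
    -- n ≤ finrank
    have hle : n ≤ Module.finrank ℂ V := by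
      have h1 := heval 1
      rw [Representation.char_one] at h1
      have hnat : ∀ φ ∈ m, ∃ k : ℕ, φ 1 = k := by
        intro φ hφ
        obtain ⟨k, -, hk⟩ := IsIrrCharacter.apply_one (hm φ hφ)
        exact ⟨k, hk⟩
      -- use real parts
      have h2 : (n : ℝ) ≤ ((m.map (fun ψ : G → ℂ => ψ (1 : G))).sum).re := by
        have h3 : ((m.map (fun ψ : G → ℂ => ψ (1 : G))).sum).re
            = (m.map (fun ψ : G → ℂ => (ψ (1 : G)).re)).sum := by
          have := map_multiset_sum Complex.reAddGroupHom (m.map (fun ψ : G → ℂ => ψ (1 : G)))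
          rw [Multiset.map_map] at this
          exact this
        rw [h3]
        have h4 : (ψ 1).re ≤ (m.map (fun ψ : G → ℂ => (ψ (1 : G)).re)).sum := by
          apply Multiset.single_le_sum
          · intro x hx
            obtain ⟨φ, hφ, rfl⟩ := Multiset.mem_map.mp hx
            obtain ⟨k, hk⟩ := hnat φ hφ
            rw [hk]; simp
          · exact Multiset.mem_map.mpr ⟨ψ, hψm, rfl⟩
        rw [hn] at h4
        simpa using h4
      rw [← h1] at h2
      simp only [Complex.natCast_re] at h2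
      exact_mod_cast h2
    by_contra hne
    have hn1 : n ≠ 1 := by
      intro h; apply hne; rw [hn, h]; simp
    have hp := Nat.minFac_prime hn1
    have h5 := hdeg n.minFac hp ((Nat.minFac_dvd n).trans hdvd)
    have h6 := Nat.minFac_le hn0
    omega
  -- the commutator is in the kernel
  set c : G := a * b * a⁻¹ * b⁻¹ with hc
  have hψc : ∀ ψ ∈ m, ψ c = ψ 1 := by
    intro ψ hψm
    obtain ⟨ω, hω⟩ := Cfsg.Agent.S0154.exists_hom_of_degree_one ψ (hm ψ hψm) (hlin ψ hψm)
    rw [hω]
    simp only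
    have : ω c = 1 := by
      rw [hc, map_mul, map_mul, map_mul, map_inv, map_inv, mul_comm (ω a) (ω b)]
      group
    rw [this, map_one]
  have hcc : ρ.character c = ρ.character 1 := by
    rw [heval c, heval 1]
    congr 1
    exact Multiset.map_congr rfl hψc
  have hρc : ρ c = 1 := rep_eq_one_of_char_eq ρ c hcc
  have hc1 : c = 1 := by
    apply hfaithful
    rw [hρc, map_one]
  have : a * b * a⁻¹ * b⁻¹ = 1 := hc1
  calc a * b = a * b * a⁻¹ * b⁻¹ * (b * a) := by group
    _ = b * a := by rw [this, one_mul]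

end Cfsg.Agent.S0185
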