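import Mathlib
import Cfsg.Statements.S0186
import Cfsg.Agent.S0162
import Cfsg.Agent.S0154
import Cfsg.Agent.S0133

set_option autoImplicit false
open Cfsg

namespace Cfsg.Agent.S0186

open Cfsg.Agent.Lib.Helper2_ClassFn Cfsg.Agent.Lib.Helper2_CharBasic Cfsg.Agent.Lib.Helper2_CharOrtho Cfsg.Agent.Lib.Helper2_CharSum Cfsg.Agent.Lib.Helper2_CharDeg Cfsg.Agent.Lib.Helper2_CharInt Cfsg.Agent.Lib.Helper2_CharBurnside Cfsg.Agent.Lib.Helper2_CharCentral
open Cfsg.Agent.S0162 (deg deg_eq)

/-- evaluation of a multiset sum of functions -/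
theorem multiset_sum_apply {α : Type*} (m : Multiset (α → ℂ)) (x : α) :
    m.sum x = (m.map (fun f => f x)).sum := by
  induction m using Multiset.induction_on with
  | empty => simp
  | cons a s ih => simp [ih]

/-- the degree of a constituent is at most the degree of the sum -/
theorem degree_le_sum {H : Type*} [Group H] (m : Multiset (H → ℂ))
    (hm : ∀ θ ∈ m, IsIrrCharacter H θ) :
    ∃ N : ℕ, m.sum 1 = N ∧ ∀ θ ∈ m, ∀ n : ℕ, θ 1 = n → n ≤ N := by
  induction m using Multiset.induction_on with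
  | empty => exact ⟨0, by simp, by simp⟩
  | cons a s ih =>
    obtain ⟨N, hN, hle⟩ := ih (fun θ hθ => hm θ (Multiset.mem_cons_of_mem hθ))
    obtain ⟨na, _, hna⟩ := IsIrrCharacter.apply_one (hm a (Multiset.mem_cons_self a s))
    refine ⟨na + N, by simp [hN, hna], ?_⟩
    intro θ hθ n hn
    rcases Multiset.mem_cons.mp hθ with rfl | h
    · have h1 : (n : ℂ) = na := by rw [← hn, hna]
      have h2 : n = na := by exact_mod_cast h1
      omega
    · have := hle θ h n hn
      omega

/-- a simple group with a nontrivial irreducible character of degree `< p` has abelian Sylow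
`p`-subgroups -/
theorem comm_of_small_degree {G : Type*} [Group G] [Finite G] [IsSimpleGroup G] (p : ℕ)
    [Fact p.Prime] (P : Sylow p G) {χ : G → ℂ} (hχ : IsIrrCharacter G χ)
    (hne : χ ≠ fun _ => 1) (d : ℕ) (hd : χ 1 = d) (hdp : d < p)
    (a b : G) (ha : a ∈ P) (hb : b ∈ P) : a * b = b * a := by
  classical
  haveI := Fintype.ofFinite G
  have hpp : p.Prime := Fact.out
  have hχc := IsIrrCharacter.isCharacter hχ
  obtain ⟨K, hKn, hK⟩ := exists_ker hχc
  rcases hKn.eq_bot_or_eq_top with hKb | hKt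
  · have hψ : IsCharacter (P : Subgroup G) (fun h : (P : Subgroup G) => χ h) :=
      IsCharacter.restrict hχc (P : Subgroup G)
    obtain ⟨m, hm, hsum⟩ := IsCharacter.exists_irr_decomp hψ
    obtain ⟨N, hN, hle⟩ := degree_le_sum m hm
    have hNd : N = d := by
      have h1 : (N : ℂ) = d := by
        rw [← hN, ← hsum, ← hd]
        simp
      exact_mod_cast h1
    have hdeg1 : ∀ θ ∈ m, θ 1 = 1 := by
      intro θ hθ
      obtain ⟨n, hn0, hn⟩ := IsIrrCharacter.apply_one (hm θ hθ)
      have hdvd : n ∣ Nat.card (P : Subgroup G) := degree_dvd_card (hm θ hθ) n hn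
      have hle' : n ≤ d := hNd ▸ hle θ hθ n hn
      obtain ⟨k, hk⟩ := IsPGroup.iff_card.mp P.isPGroup'
      rw [hk] at hdvd
      obtain ⟨j, hj, rfl⟩ := (Nat.dvd_prime_pow hpp).mp hdvd
      have hj0 : j = 0 := by
        by_contra hj0
        have h1 : p ^ 1 ≤ p ^ j := Nat.pow_le_pow_right hpp.pos (Nat.one_le_iff_ne_zero.mpr hj0)
        rw [pow_one] at h1
        omega
      rw [hn, hj0, pow_zero, Nat.cast_one]
    -- the commutator lies in the kernel
    set x : (P : Subgroup G) := ⟨a, ha⟩ with hx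
    set y : (P : Subgroup G) := ⟨b, hb⟩ with hy
    have hval : ∀ θ ∈ m, θ (x * y * x⁻¹ * y⁻¹) = θ 1 := by
      intro θ hθ
      obtain ⟨ω, hω⟩ := Cfsg.Agent.S0154.exists_hom_of_degree_one θ (hm θ hθ) (hdeg1 θ hθ)
      rw [hω]
      simp only
      rw [map_mul, map_mul, map_mul, map_inv, map_inv, mul_comm (ω x) (ω y),
        mul_inv_cancel_right, mul_inv_cancel, map_one]
    have hψc : χ ((x * y * x⁻¹ * y⁻¹ : (P : Subgroup G)) : G) = χ 1 := by
      have h1 := congrFun hsum (x * y * x⁻¹ * y⁻¹)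
      have h2 := congrFun hsum 1
      rw [multiset_sum_apply] at h1 h2
      rw [h1]
      have h3 : ((1 : (P : Subgroup G)) : G) = 1 := rfl
      rw [← h3, h2]
      congr 1
      exact Multiset.map_congr rfl hval
    have hmem : ((x * y * x⁻¹ * y⁻¹ : (P : Subgroup G)) : G) ∈ K := (hK _).mpr hψc
    rw [hKb, Subgroup.mem_bot] at hmem
    have h1 : a * b * a⁻¹ * b⁻¹ = 1 := hmem
    have h2 : a * b * a⁻¹ = b := mul_inv_eq_one.mp h1
    exact mul_inv_eq_iff_eq_mul.mp h2
  · exfalso
    have hconst : ∀ z : G, χ z = d := by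
      intro z
      rw [← hd]
      exact (hK z).mp (hKt ▸ Subgroup.mem_top z)
    have h1 := classInner_irr_self hχ
    rw [classInner_def] at h1
    simp only [hconst, map_natCast, Finset.sum_const, Finset.card_univ, nsmul_eq_mul] at h1
    rw [Nat.card_eq_fintype_card] at h1
    have hG : (Fintype.card G : ℂ) ≠ 0 := by
      exact_mod_cast Fintype.card_ne_zero
    have h2 : (d : ℂ) ^ 2 = 1 := by
      field_simp at h1
      exact h1
    have h3 : d ^ 2 = 1 := by exact_mod_cast h2
    have h4 : d = 1 := (Nat.pow_eq_one.mp h3).resolve_right (by norm_num)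
    apply hne
    ext z
    rw [hconst z, h4, Nat.cast_one]

/-- Let G be a finite simple group of order n and p a prime dividing n. If G has more than n / p^2 conjugacy classes, then every Sylow p-subgroup of G is abelian. -/
theorem result {G : Type*} [Group G] [Finite G] [IsSimpleGroup G] (p : ℕ) [Fact p.Prime] (hp : p ∣ Nat.card G) (hmany : Nat.card G < p ^ 2 * Nat.card (ConjClasses G)) (P : Sylow p G) (a b : G) (ha : a ∈ P) (hb : b ∈ P) : a * b = b * a := by
  classical
  haveI := Fintype.ofFinite G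
  by_contra hab
  have hpp : p.Prime := Fact.out
  obtain ⟨m, hm⟩ := IsPGroup.iff_card.mp P.isPGroup'
  have hm3 : 3 ≤ m := by
    by_contra hlt
    push Not at hlt
    have hcomm : ∀ x y : (P : Subgroup G), x * y = y * x := by
      interval_cases m
      · haveI : Subsingleton (P : Subgroup G) :=
          (Nat.card_eq_one_iff_unique.mp (by simpa using hm)).1
        intro x y
        rw [Subsingleton.elim x y]
      · haveI : IsCyclic (P : Subgroup G) := isCyclic_of_prime_card (p := p) (by simpa using hm)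
        intro x y
        exact IsCyclic.commGroup.mul_comm x y
      · exact (IsPGroup.isMulCommutative_of_card_eq_prime_sq hm).is_comm.comm
    have h1 := hcomm ⟨a, ha⟩ ⟨b, hb⟩
    exact hab (congrArg Subtype.val h1)
  have hp2 : p ^ 2 ∣ Nat.card G := by
    have h1 : p ^ 2 ∣ p ^ m := pow_dvd_pow p (by omega)
    rw [← hm] at h1
    exact h1.trans (Subgroup.card_subgroup_dvd_card _)
  have hk : (irrFinset G).card = Nat.card (ConjClasses G) := by
    rw [← card_irr]; exact Cfsg.Agent.S0133.result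
  have hsumC : ∑ χ ∈ irrFinset G, ((deg χ : ℂ)) ^ 2 = (Nat.card G : ℂ) := by
    have h := sum_irr_mul_deg (1 : G)
    rw [if_pos rfl] at h
    rw [← h]
    refine Finset.sum_congr rfl fun χ hχ => ?_
    rw [deg_eq (mem_irrFinset.mp hχ)]; ring
  have hsum : ∑ χ ∈ irrFinset G, (deg χ) ^ 2 = Nat.card G := by
    have : ((∑ χ ∈ irrFinset G, (deg χ) ^ 2 : ℕ) : ℂ) = (Nat.card G : ℂ) := by
      rw [← hsumC]; push_cast; rfl
    exact_mod_cast this
  have hbig : ∀ χ ∈ irrFinset G, χ ≠ (fun _ => 1) → p ≤ deg χ := by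
    intro χ hχ hne
    by_contra hlt
    push Not at hlt
    exact hab (comm_of_small_degree p P (mem_irrFinset.mp hχ) hne (deg χ)
      (deg_eq (mem_irrFinset.mp hχ)).symm hlt a b ha hb)
  have htriv : (fun _ : G => (1 : ℂ)) ∈ irrFinset G := mem_irrFinset.mpr isIrrCharacter_one
  have hsum2 : 1 + ((irrFinset G).card - 1) * p ^ 2 ≤ Nat.card G := by
    rw [← hsum, ← Finset.add_sum_erase _ _ htriv]
    have h1 : deg (fun _ : G => (1 : ℂ)) = 1 := by
      have h2 : (deg (fun _ : G => (1 : ℂ)) : ℂ) = 1 := deg_eq isIrrCharacter_one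
      exact_mod_cast h2
    have h2 : ∑ χ ∈ (irrFinset G).erase (fun _ => 1), p ^ 2 ≤
        ∑ χ ∈ (irrFinset G).erase (fun _ => 1), deg χ ^ 2 :=
      Finset.sum_le_sum (fun χ hχ => Nat.pow_le_pow_left
        (hbig χ (Finset.mem_of_mem_erase hχ) (Finset.ne_of_mem_erase hχ)) 2)
    rw [Finset.sum_const, Finset.card_erase_of_mem htriv, smul_eq_mul] at h2
    rw [h1]
    omega
  obtain ⟨t, ht⟩ := hp2
  rw [← hk, ht] at hmany
  have h1 : t < (irrFinset G).card := Nat.lt_of_mul_lt_mul_left hmany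
  have h2 : t ≤ (irrFinset G).card - 1 := by omega
  have h3 : t * p ^ 2 ≤ ((irrFinset G).card - 1) * p ^ 2 := Nat.mul_le_mul_right _ h2
  rw [ht] at hsum2
  have h4 : p ^ 2 * t = t * p ^ 2 := mul_comm _ _
  omega

end Cfsg.Agent.S0186
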