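import Cfsg.Statements.S0187
import Mathlib
import Cfsg.Agent.Lib.Helper2_ClassFn
import Cfsg.Agent.Lib.Helper2_CharBasic
import Cfsg.Agent.Lib.Helper2_CharOrtho
import Cfsg.Agent.Lib.Helper2_CharMore
import Cfsg.Agent.Lib.Helper2_Clifford
import Cfsg.Agent.Lib.Helper2_CharValues
import Cfsg.Agent.Lib.Helper2_CharComplete
import Cfsg.Agent.Lib.Helper2_CharInd
import Cfsg.Agent.Lib.Helper2_CharTable
import Cfsg.Agent.Lib.Helper2_CharSum
import Cfsg.Agent.Lib.Helper2_CharDeg
import Cfsg.Agent.Lib.Helper2_CharFrob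
import Cfsg.Agent.S0133
import Cfsg.Agent.S0134

set_option autoImplicit false
open Cfsg

open Cfsg.Agent.Lib.Helper2_ClassFn Cfsg.Agent.Lib.Helper2_CharBasic Cfsg.Agent.Lib.Helper2_CharOrtho
open Cfsg.Agent.Lib.Helper2_CharMore Cfsg.Agent.Lib.Helper2_Clifford Cfsg.Agent.Lib.Helper2_CharValues
open Cfsg.Agent.Lib.Helper2_CharComplete Cfsg.Agent.Lib.Helper2_CharInd Cfsg.Agent.Lib.Helper2_CharTable
open Cfsg.Agent.Lib.Helper2_CharSum Cfsg.Agent.Lib.Helper2_CharDeg Cfsg.Agent.Lib.Helper2_CharFrob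

namespace Cfsg.Agent.S0187

/-- A finite group is commutative if and only if every irreducible complex character has degree 1. -/
theorem result {G : Type*} [Group G] [Finite G] : (∀ a b : G, a * b = b * a) ↔ ∀ χ : Cfsg.IrrCharacter G, (χ : G → ℂ) 1 = 1 := by
  classical
  have := Fintype.ofFinite G
  constructor
  · intro hcomm χ
    exact IsIrrCharacter.apply_one_of_comm hcomm χ.2
  · intro hdeg
    have h1 := Cfsg.Agent.S0134.result (G := G)
    have h2 := Cfsg.Agent.S0133.result (G := G)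
    have h3 : ∑ᶠ χ : Cfsg.IrrCharacter G, (χ : G → ℂ) 1 ^ 2 = (Nat.card (Cfsg.IrrCharacter G) : ℂ) := by
      rw [finsum_irr_eq_sum (fun χ => χ 1 ^ 2), card_irr]
      rw [Finset.sum_congr rfl (g := fun _ => (1 : ℂ))]
      · simp
      · intro ψ hψ
        have := hdeg ⟨ψ, mem_irrFinset.mp hψ⟩
        simp only at this
        rw [this]; norm_num
    rw [h3, h2] at h1
    have hcard : Nat.card (ConjClasses G) = Nat.card G := by exact_mod_cast h1
    have hbij : Function.Bijective (ConjClasses.mk : G → ConjClasses G) :=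
      ConjClasses.mk_surjective.bijective_of_nat_card_le hcard.ge
    intro a b
    have hc : ConjClasses.mk (a * b * a⁻¹) = ConjClasses.mk b :=
      ConjClasses.mk_eq_mk_iff_isConj.mpr (isConj_iff.mpr ⟨a, rfl⟩).symm
    have := hbij.1 hc
    calc a * b = (a * b * a⁻¹) * a := by group
      _ = b * a := by rw [this]

end Cfsg.Agent.S0187
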