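import Cfsg.Statements.S0188
import Cfsg.Agent.Lib.Helper2_ClassFn
import Cfsg.Agent.Lib.Helper2_CharBasic
import Cfsg.Agent.Lib.Helper2_CharOrtho
import Cfsg.Agent.Lib.Helper2_Clifford
import Cfsg.Agent.Lib.Helper2_CharMore
import Cfsg.Agent.Lib.Helper2_CharNorm
import Cfsg.Agent.Lib.Helper2_CharValues
import Cfsg.Agent.Lib.Helper2_CharComplete
import Cfsg.Agent.Lib.Helper2_CharInd
import Cfsg.Agent.Lib.Helper2_CharTable
import Cfsg.Agent.Lib.Helper2_CharFrob
import Cfsg.Agent.Lib.Helper2_CharDeg
import Cfsg.Agent.Lib.Helper2_CharSum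
import Cfsg.Agent.Lib.Helper2_CharExtra

set_option autoImplicit false
open Cfsg

namespace Cfsg.Agent.S0188

open Cfsg.Agent.Lib.Helper2_ClassFn Cfsg.Agent.Lib.Helper2_CharBasic Cfsg.Agent.Lib.Helper2_CharOrtho Cfsg.Agent.Lib.Helper2_Clifford Cfsg.Agent.Lib.Helper2_CharMore Cfsg.Agent.Lib.Helper2_CharNorm Cfsg.Agent.Lib.Helper2_CharValues Cfsg.Agent.Lib.Helper2_CharComplete Cfsg.Agent.Lib.Helper2_CharInd Cfsg.Agent.Lib.Helper2_CharTable Cfsg.Agent.Lib.Helper2_CharFrob Cfsg.Agent.Lib.Helper2_CharDeg Cfsg.Agent.Lib.Helper2_CharSum Cfsg.Agent.Lib.Helper2_CharExtra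
open scoped Pointwise
open scoped ComplexConjugate

/-- inner product of product functions on a direct product -/
theorem classInner_prod {G : Type*} [Group G] [Fintype G] {H : Type*} [Group H] [Fintype H]
    (φ φ' : G → ℂ) (ψ ψ' : H → ℂ) :
    classInner (fun x : G × H => φ x.1 * ψ x.2) (fun x : G × H => φ' x.1 * ψ' x.2)
      = classInner φ φ' * classInner ψ ψ' := by
  rw [classInner_def, classInner_def, classInner_def, Nat.card_prod, Fintype.sum_prod_type]
  simp only [map_mul]
  have : ∀ g : G, ∑ h : H, φ g * ψ h * (conj (φ' g) * conj (ψ' h))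
      = (φ g * conj (φ' g)) * ∑ h : H, ψ h * conj (ψ' h) := by
    intro g
    rw [Finset.mul_sum]
    refine Finset.sum_congr rfl fun h _ => ?_
    ring
  simp_rw [this]
  rw [← Finset.sum_mul]
  push_cast
  rw [mul_inv]
  ring

theorem isIrr_prod {G : Type*} [Group G] [Finite G] {H : Type*} [Group H] [Finite H]
    {φ : G → ℂ} {ψ : H → ℂ} (hφ : IsIrrCharacter G φ) (hψ : IsIrrCharacter H ψ) :
    IsIrrCharacter (G × H) (fun x => φ x.1 * ψ x.2) := by
  classical
  have := Fintype.ofFinite G
  have := Fintype.ofFinite H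
  have h1 : IsCharacter (G × H) (fun x => φ x.1) :=
    IsCharacter.comp_hom (IsIrrCharacter.isCharacter hφ) (MonoidHom.fst G H)
  have h2 : IsCharacter (G × H) (fun x => ψ x.2) :=
    IsCharacter.comp_hom (IsIrrCharacter.isCharacter hψ) (MonoidHom.snd G H)
  have h3 : IsCharacter (G × H) (fun x => φ x.1 * ψ x.2) := IsCharacter.mul h1 h2
  apply IsCharacter.isIrr_of_norm_one h3
  rw [classInner_prod, classInner_irr_self hφ, classInner_irr_self hψ, one_mul]


/-- The irreducible complex characters of G × H are precisely the functions (g, h) ↦ φ g * ψ h with φ, ψ irreducible characters of G and H. -/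
theorem result {G : Type*} [Group G] [Finite G] {H : Type*} [Group H] [Finite H] (θ : G × H → ℂ) : Cfsg.IsIrrCharacter (G × H) θ ↔ ∃ (φ : G → ℂ) (ψ : H → ℂ), Cfsg.IsIrrCharacter G φ ∧ Cfsg.IsIrrCharacter H ψ ∧ θ = fun x => φ x.1 * ψ x.2 := by
  classical
  have := Fintype.ofFinite G
  have := Fintype.ofFinite H
  constructor
  · intro hθ
    by_contra hcon
    push Not at hcon
    have hθcf : IsClassFunction (G × H) θ :=
      IsCharacter.isClassFunction (IsIrrCharacter.isCharacter hθ)
    have horth : ∀ φ ψ, IsIrrCharacter G φ → IsIrrCharacter H ψ →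
        ∑ h : H, (∑ g : G, θ (g, h) * conj (φ g)) * conj (ψ h) = 0 := by
      intro φ ψ hφ hψ
      have h0 := classInner_irr_of_ne hθ (isIrr_prod hφ hψ) (hcon φ ψ hφ hψ)
      rw [classInner_def, Fintype.sum_prod_type, Finset.sum_comm] at h0
      have hc : (Nat.card (G × H) : ℂ)⁻¹ ≠ 0 := inv_ne_zero card_ne_zero_complex
      have h1 := (mul_eq_zero.mp h0).resolve_left hc
      rw [← h1]
      refine Finset.sum_congr rfl fun h _ => ?_
      rw [Finset.sum_mul]
      refine Finset.sum_congr rfl fun g _ => ?_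
      simp only [map_mul]
      ring
    -- F_φ = 0
    have hF : ∀ φ, IsIrrCharacter G φ → ∀ h : H, ∑ g : G, θ (g, h) * conj (φ g) = 0 := by
      intro φ hφ
      have hcf : IsClassFunction H (fun h => ∑ g : G, θ (g, h) * conj (φ g)) := by
        intro h x
        refine Finset.sum_congr rfl fun g _ => ?_
        congr 1
        have := hθcf (g, h) (1, x)
        simpa using this
      have hz := eq_zero_of_classInner_eq_zero _ hcf (fun ψ hψ => by
        rw [classInner_def, horth φ ψ hφ hψ, mul_zero])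
      intro h
      exact congrFun hz h
    have hT : ∀ h : H, (fun g : G => θ (g, h)) = 0 := by
      intro h
      have hcf : IsClassFunction G (fun g => θ (g, h)) := by
        intro g x
        have := hθcf (g, h) (x, 1)
        simpa using this
      exact eq_zero_of_classInner_eq_zero _ hcf (fun φ hφ => by
        rw [classInner_def, hF φ hφ h, mul_zero])
    apply IsIrrCharacter.ne_zero hθ
    ext ⟨g, h⟩
    exact congrFun (hT h) g
  · rintro ⟨φ, ψ, hφ, hψ, rfl⟩
    exact isIrr_prod hφ hψ

end Cfsg.Agent.S0188
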