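import Mathlib
import Cfsg.Statements.S0189
import Cfsg.Agent.Lib.Helper2_ClassFn
import Cfsg.Agent.Lib.Helper2_CharOrtho
import Cfsg.Agent.Lib.Helper2_CharInd

set_option autoImplicit false
open Cfsg
open Cfsg.Agent.Lib.Helper2_ClassFn
open Cfsg.Agent.Lib.Helper2_CharOrtho
open Cfsg.Agent.Lib.Helper2_CharInd

namespace Cfsg.Agent.S0189

/-- If a complex character of a finite group vanishes at every non-identity element of a Sylow p-subgroup P, then |P| divides its degree. -/
theorem result {G : Type*} [Group G] [Finite G] (p : ℕ) [Fact p.Prime] (P : Sylow p G) (χ : G → ℂ) (hχ : Cfsg.IsCharacter G χ) (hvan : ∀ g : G, g ∈ P → g ≠ 1 → χ g = 0) : ∃ k : ℕ, χ 1 = (Nat.card P : ℂ) * k := by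
  classical
  have := Fintype.ofFinite G
  have hres : IsCharacter (P : Subgroup G) (fun h : (P : Subgroup G) => χ h) :=
    IsCharacter.restrict hχ (P : Subgroup G)
  obtain ⟨k, hk⟩ := IsCharacter.classInner_nat hres
    (isCharacter_one (G := ((P : Subgroup G) : Type _)))
  refine ⟨k, ?_⟩
  rw [classInner_def] at hk
  rw [Finset.sum_eq_single (1 : (P : Subgroup G))] at hk
  · simp only [map_one, mul_one, Subgroup.coe_one] at hk
    have hP : (Nat.card (P : Subgroup G) : ℂ) ≠ 0 := card_subgroup_ne_zero _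
    have : χ 1 = (Nat.card (P : Subgroup G) : ℂ) * k := by
      rw [← hk]; field_simp
    exact this
  · intro g _ hg
    rw [hvan g g.2 (fun h => hg (Subtype.ext h)), zero_mul]
  · intro h; exact absurd (Finset.mem_univ _) h

end Cfsg.Agent.S0189
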