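import Cfsg.Statements.S0190
import Mathlib
import Cfsg.Agent.Lib.Lead_IndChar

set_option autoImplicit false
open Cfsg

namespace Cfsg.Agent.S0190

open Cfsg.Agent.Lib.Lead_IndChar ComplexConjugate

/-- For a transitive action of a finite group on X, the permutation character g ↦ (number of fixed points of g) is the function induced from the principal character of the stabilizer of any point. -/
theorem result {G : Type*} [Group G] [Fintype G] (X : Type*) [MulAction G X] [Finite X] [MulAction.IsPretransitive G X] (x : X) : (fun g : G => (Nat.card (MulAction.fixedBy X g) : ℂ)) = Cfsg.indFun (MulAction.stabilizer G x) (fun _ => 1) := by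
  classical
  letI : Fintype X := Fintype.ofFinite X
  funext g
  set S := MulAction.stabilizer G x with hS
  show (Nat.card (MulAction.fixedBy X g) : ℂ)
    = (Nat.card S : ℂ)⁻¹ * ∑ y : G, Cfsg.extendByZero S (fun _ => 1) (y⁻¹ * g * y)
  have hSne : (Nat.card S : ℂ) ≠ 0 := by
    have : 0 < Nat.card S := Nat.card_pos
    exact_mod_cast this.ne'
  have hmem : ∀ y : G, y⁻¹ * g * y ∈ S ↔ y • x ∈ MulAction.fixedBy X g := by
    intro y
    rw [hS, MulAction.mem_stabilizer_iff, MulAction.mem_fixedBy, mul_smul, mul_smul,
      inv_smul_eq_iff]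
  have h1 : ∀ y : G, Cfsg.extendByZero S (fun _ => (1 : ℂ)) (y⁻¹ * g * y)
      = if y • x ∈ MulAction.fixedBy X g then 1 else 0 := by
    intro y
    by_cases h : y⁻¹ * g * y ∈ S
    · rw [extendByZero_apply_mk S _ h, if_pos ((hmem y).mp h)]
    · rw [extendByZero_apply_not_mem S _ h, if_neg (fun h' => h ((hmem y).mpr h'))]
  rw [Finset.sum_congr rfl (fun y _ => h1 y), Finset.sum_boole]
  have hfib : ∀ b : X, (Finset.univ.filter (fun y : G => y • x = b)).card = Nat.card S := by
    intro b
    obtain ⟨y₀, hy₀⟩ := MulAction.exists_smul_eq G x b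
    rw [Nat.card_eq_fintype_card, ← Fintype.card_subtype]
    refine Fintype.card_congr ?_
    refine ⟨fun y => ⟨y₀⁻¹ * y.1, ?_⟩, fun s => ⟨y₀ * s.1, ?_⟩, ?_, ?_⟩
    · rw [hS, MulAction.mem_stabilizer_iff, mul_smul, y.2, ← hy₀, inv_smul_smul]
    · rw [mul_smul, MulAction.mem_stabilizer_iff.mp s.2, hy₀]
    · intro y; ext; simp
    · intro s; ext; simp
  have h2 : (Finset.univ.filter (fun y : G => y • x ∈ MulAction.fixedBy X g)).card
      = Nat.card (MulAction.fixedBy X g) * Nat.card S := by
    rw [Finset.card_eq_sum_card_fiberwise (f := fun y : G => y • x)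
      (t := Finset.univ.filter (fun z : X => z ∈ MulAction.fixedBy X g))]
    · have h3 : ∀ b ∈ Finset.univ.filter (fun z : X => z ∈ MulAction.fixedBy X g),
          (Finset.filter (fun a : G => a • x = b)
            (Finset.univ.filter (fun y : G => y • x ∈ MulAction.fixedBy X g))).card = Nat.card S := by
        intro b hb
        rw [← hfib b]
        congr 1
        ext y
        simp only [Finset.mem_filter, Finset.mem_univ, true_and]
        constructor
        · exact fun h => h.2
        · intro h
          refine ⟨?_, h⟩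
          rw [h]
          exact (Finset.mem_filter.mp hb).2
      rw [Finset.sum_congr rfl h3, Finset.sum_const, smul_eq_mul, Nat.card_eq_fintype_card (α := MulAction.fixedBy X g),
        Fintype.card_subtype]
    · intro y hy
      have hy' := (Finset.mem_filter.mp (Finset.mem_coe.mp hy)).2
      exact Finset.mem_coe.mpr (Finset.mem_filter.mpr ⟨Finset.mem_univ _, hy'⟩)
  rw [h2]
  push_cast
  field_simp

end Cfsg.Agent.S0190
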