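import Mathlib
import Cfsg.Statements.S0192
import Cfsg.Agent.Lib.Helper2_ClassFn
import Cfsg.Agent.Lib.Helper2_CharBasic
import Cfsg.Agent.Lib.Helper2_CharOrtho

set_option autoImplicit false
open Cfsg
open Cfsg.Agent.Lib.Helper2_ClassFn
open Cfsg.Agent.Lib.Helper2_CharBasic
open Cfsg.Agent.Lib.Helper2_CharOrtho

namespace Cfsg.Agent.S0192

/-- fixed vectors of a subgroup -/
noncomputable def fixedOf {G : Type*} [Group G] {V : Type*} [AddCommGroup V] [Module ℂ V]
    (ρ : Representation ℂ G V) (H : Subgroup G) : Submodule ℂ V :=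
  Representation.invariants (MonoidHom.comp ρ H.subtype : Representation ℂ H V)

theorem mem_fixedOf {G : Type*} [Group G] {V : Type*} [AddCommGroup V] [Module ℂ V]
    (ρ : Representation ℂ G V) (H : Subgroup G) (v : V) :
    v ∈ fixedOf ρ H ↔ ∀ h ∈ H, ρ h v = v := by
  unfold fixedOf
  rw [Representation.mem_invariants]
  constructor
  · intro h g hg; exact h ⟨g, hg⟩
  · intro h g; exact h g g.2

theorem classInner_one_eq_finrank {G : Type*} [Group G] {V : Type*} [AddCommGroup V]
    [Module ℂ V] [FiniteDimensional ℂ V] (ρ : Representation ℂ G V) (H : Subgroup G) [Fintype H] :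
    Cfsg.classInner (fun x : H => ρ.character x) (fun _ => 1)
      = (Module.finrank ℂ (fixedOf ρ H) : ℂ) := by
  have hinv : Invertible (Nat.card H : ℂ) := invertibleOfNonzero (by
    have : 0 < Nat.card H := Nat.card_pos
    exact_mod_cast this.ne')
  have := Representation.card_inv_mul_sum_char_eq_finrank
    (MonoidHom.comp ρ H.subtype : Representation ℂ H V)
  unfold fixedOf
  rw [← this, classInner_def]
  congr 1
  refine Finset.sum_congr rfl fun x _ => ?_
  simp [Representation.character]

/-- Brauer's generation criterion. Let G be a finite simple group, H₁ and H₂ subgroups, and χ a non-principal irreducible character. If the multiplicity of the principal character in χ restricted to H₁ ⊓ H₂ is less than the sum of the corresponding multiplicities for H₁ and H₂, then H₁ and H₂ do not generate G. -/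
theorem result {G : Type*} [Group G] [Fintype G] [IsSimpleGroup G] (H₁ H₂ : Subgroup G) [Fintype H₁] [Fintype H₂] [Fintype ↥(H₁ ⊓ H₂)] (χ : G → ℂ) (hχ : Cfsg.IsIrrCharacter G χ) (hχ1 : χ ≠ fun _ => 1) (hlt : (Cfsg.classInner (fun x : ↥(H₁ ⊓ H₂) => χ x) (fun _ => 1)).re < (Cfsg.classInner (fun x : H₁ => χ x) (fun _ => 1)).re + (Cfsg.classInner (fun x : H₂ => χ x) (fun _ => 1)).re) : H₁ ⊔ H₂ ≠ ⊤ := by
  intro htop
  obtain ⟨n, ρ, hirr, rfl⟩ := hχ
  rw [classInner_one_eq_finrank ρ (H₁ ⊓ H₂), classInner_one_eq_finrank ρ H₁,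
    classInner_one_eq_finrank ρ H₂] at hlt
  simp only [Complex.natCast_re] at hlt
  have hlt' : Module.finrank ℂ (fixedOf ρ (H₁ ⊓ H₂))
      < Module.finrank ℂ (fixedOf ρ H₁) + Module.finrank ℂ (fixedOf ρ H₂) := by
    exact_mod_cast hlt
  have hle1 : fixedOf ρ H₁ ≤ fixedOf ρ (H₁ ⊓ H₂) := by
    intro v hv
    rw [mem_fixedOf] at hv ⊢
    intro h hh
    exact hv h (Subgroup.mem_inf.mp hh).1
  have hle2 : fixedOf ρ H₂ ≤ fixedOf ρ (H₁ ⊓ H₂) := by
    intro v hv
    rw [mem_fixedOf] at hv ⊢
    intro h hh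
    exact hv h (Subgroup.mem_inf.mp hh).2
  have hsup : Module.finrank ℂ ↥(fixedOf ρ H₁ ⊔ fixedOf ρ H₂)
      ≤ Module.finrank ℂ (fixedOf ρ (H₁ ⊓ H₂)) :=
    Submodule.finrank_mono (sup_le hle1 hle2)
  have hdim := Submodule.finrank_sup_add_finrank_inf_eq (fixedOf ρ H₁) (fixedOf ρ H₂)
  have hpos : 0 < Module.finrank ℂ ↥(fixedOf ρ H₁ ⊓ fixedOf ρ H₂) := by omega
  obtain ⟨⟨v, hv⟩, hv0⟩ := Module.finrank_pos_iff_exists_ne_zero.mp hpos
  have hv0' : v ≠ 0 := fun h => hv0 (Subtype.ext h)
  obtain ⟨hv1, hv2⟩ := Submodule.mem_inf.mp hv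
  rw [mem_fixedOf] at hv1 hv2
  -- v is fixed by all of G
  have hfix : ∀ g : G, ρ g v = v := by
    intro g
    have hg : g ∈ H₁ ⊔ H₂ := by rw [htop]; trivial
    rw [Subgroup.sup_eq_closure] at hg
    induction hg using Subgroup.closure_induction with
    | mem x hx =>
      rcases hx with hx | hx
      · exact hv1 x hx
      · exact hv2 x hx
    | one => simp
    | mul x y _ _ hx hy => rw [map_mul, Module.End.mul_apply, hy, hx]
    | inv x _ hx =>
      have := congrArg (ρ x⁻¹) hx
      rw [← Module.End.mul_apply, ← map_mul, inv_mul_cancel, map_one, Module.End.one_apply] at this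
      exact this.symm
  -- the span of v is a subrepresentation, hence everything
  let U : Subrepresentation ρ :=
    { toSubmodule := Submodule.span ℂ {v}
      apply_mem_toSubmodule := by
        intro g w hw
        obtain ⟨c, rfl⟩ := Submodule.mem_span_singleton.mp hw
        rw [map_smul, hfix g]
        exact Submodule.smul_mem _ c (Submodule.mem_span_singleton_self v) }
  have hU : U = ⊤ := by
    rcases hirr.eq_bot_or_eq_top U with h | h
    · exfalso
      apply hv0'
      have hmem : v ∈ U.toSubmodule := Submodule.mem_span_singleton_self v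
      rw [h] at hmem
      exact (Submodule.mem_bot ℂ).mp hmem
    · exact h
  have hall : ∀ w : Fin n → ℂ, ∃ c : ℂ, c • v = w := by
    intro w
    have hw : w ∈ U.toSubmodule := by rw [hU]; trivial
    exact Submodule.mem_span_singleton.mp hw
  have hρ : ∀ g : G, ρ g = 1 := by
    intro g
    apply LinearMap.ext
    intro w
    obtain ⟨c, rfl⟩ := hall w
    rw [map_smul, hfix g]; rfl
  have hdim1 : Module.finrank ℂ (Fin n → ℂ) = 1 := by
    have h1 : (Submodule.span ℂ {v} : Submodule ℂ (Fin n → ℂ)) = ⊤ := by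
      have := congrArg Subrepresentation.toSubmodule hU
      exact this
    rw [← finrank_top ℂ (Fin n → ℂ), ← h1, finrank_span_singleton hv0']
  apply hχ1
  ext g
  unfold Representation.character
  rw [hρ g, LinearMap.trace_one, hdim1]
  simp

end Cfsg.Agent.S0192
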