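import Cfsg.Statements.S0194
import Cfsg.Agent.Lib.Helper2_ClassFn
import Cfsg.Agent.Lib.Helper2_CharBasic
import Cfsg.Agent.Lib.Helper2_CharOrtho
import Cfsg.Agent.Lib.Helper2_Clifford
import Cfsg.Agent.Lib.Helper2_CharMore
import Cfsg.Agent.Lib.Helper2_CharNorm
import Cfsg.Agent.Lib.Helper2_CharValues
import Cfsg.Agent.Lib.Helper2_CharComplete
import Cfsg.Agent.Lib.Helper2_CharInd
import Cfsg.Agent.Lib.Helper2_CharTable
import Cfsg.Agent.Lib.Helper2_CharFrob
import Cfsg.Agent.Lib.Helper2_CharDeg
import Cfsg.Agent.Lib.Helper2_CharSum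
import Cfsg.Agent.S0161

set_option autoImplicit false
open scoped ComplexConjugate
open Cfsg

namespace Cfsg.Agent.S0194

open Cfsg.Agent.Lib.Helper2_ClassFn Cfsg.Agent.Lib.Helper2_CharBasic Cfsg.Agent.Lib.Helper2_CharOrtho Cfsg.Agent.Lib.Helper2_Clifford Cfsg.Agent.Lib.Helper2_CharMore Cfsg.Agent.Lib.Helper2_CharNorm Cfsg.Agent.Lib.Helper2_CharValues Cfsg.Agent.Lib.Helper2_CharComplete Cfsg.Agent.Lib.Helper2_CharInd Cfsg.Agent.Lib.Helper2_CharTable Cfsg.Agent.Lib.Helper2_CharFrob Cfsg.Agent.Lib.Helper2_CharDeg Cfsg.Agent.Lib.Helper2_CharSum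
open scoped Pointwise
open ComplexConjugate

theorem indFun_conj {G : Type*} [Group G] [Fintype G] (H : Subgroup G) (θ : H → ℂ) :
    (fun g => conj (indFun H θ g)) = indFun H (fun h => conj (θ h)) := by
  ext g
  rw [indFun_apply, indFun_apply, map_mul, map_sum]
  congr 1
  · rw [map_inv₀, Complex.conj_natCast]
  · refine Finset.sum_congr rfl fun x _ => ?_
    by_cases hy : x⁻¹ * g * x ∈ H
    · rw [extendByZero_of_mem H _ hy, extendByZero_of_mem H _ hy]
    · rw [extendByZero_of_not_mem H _ hy, extendByZero_of_not_mem H _ hy, map_zero]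

theorem restrict_indFun_normal {G : Type*} [Group G] [Fintype G] (H : Subgroup G) [hN : H.Normal]
    (θ : H → ℂ) :
    (fun h : H => indFun H θ h) = (Nat.card H : ℂ)⁻¹ • ∑ x : G, conjFn H θ x⁻¹ := by
  ext h
  rw [indFun_apply_of_normal, Pi.smul_apply, Finset.sum_apply, smul_eq_mul]
  congr 1
  refine Finset.sum_congr rfl fun x _ => ?_
  rw [conjFn_apply]
  congr 1
  apply Subtype.ext
  simp

theorem conjFn_pow_of_stab {G : Type*} [Group G] (H : Subgroup G) [hN : H.Normal]
    (θ : H → ℂ) (x : G) (hx : conjFn H θ x = θ) (n : ℕ) : conjFn H θ (x ^ n) = θ := by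
  induction n with
  | zero => rw [pow_zero, conjFn_one]
  | succ k ih => rw [pow_succ, conjFn_mul, ih, hx]

theorem conjFn_conj {G : Type*} [Group G] (H : Subgroup G) [hN : H.Normal]
    (θ : H → ℂ) (x : G) :
    conjFn H (fun h => conj (θ h)) x = fun h => conj (conjFn H θ x h) := rfl


/-- Let G have odd order, H be a normal subgroup and θ a non-principal irreducible character of H. Then the function induced from θ is orthogonal to its complex conjugate. -/
theorem result {G : Type*} [Group G] [Fintype G] (hodd : Odd (Nat.card G)) (H : Subgroup G) [H.Normal] (θ : H → ℂ) (hθ : Cfsg.IsIrrCharacter H θ) (hθ1 : θ ≠ fun _ => 1) : Cfsg.classInner (fun g => conj (Cfsg.indFun H θ g)) (Cfsg.indFun H θ) = 0 := by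
  classical
  have hcardG : Nat.card G = Fintype.card G := Nat.card_eq_fintype_card
  rw [indFun_conj, frobenius_reciprocity H _ _ (indFun_isClassFunction H θ), restrict_indFun_normal,
    classInner_smul_right, classInner_sum_right]
  have hoddH : Odd (Nat.card H) := by
    have hdvd : Nat.card H ∣ Nat.card G := Subgroup.card_subgroup_dvd_card H
    exact Odd.of_dvd_nat hodd hdvd
  have key : ∀ x : G, classInner (fun h => conj (θ h)) (conjFn H θ x⁻¹) = 0 := by
    intro x
    apply classInner_irr_of_ne (IsIrrCharacter.conj hθ) (IsIrrCharacter.conjFn hθ x⁻¹)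
    intro heq
    set g := x⁻¹ with hgdef
    -- g² stabilizes θ
    have h2 : conjFn H θ (g * g) = θ := by
      rw [conjFn_mul, ← heq, conjFn_conj, ← heq]
      ext h
      simp
    -- g is a power of g²
    have hordodd : Odd (orderOf g) := Odd.of_dvd_nat hodd (orderOf_dvd_natCard g)
    obtain ⟨m, hm⟩ := hordodd
    have hgpow : (g * g) ^ (m + 1) = g := by
      rw [← pow_two, ← pow_mul]
      have : 2 * (m + 1) = orderOf g + 1 := by omega
      rw [this, pow_succ, pow_orderOf_eq_one, one_mul]
    have hstab : conjFn H θ g = θ := by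
      have := conjFn_pow_of_stab H θ (g * g) h2 (m + 1)
      rwa [hgpow] at this
    rw [hstab] at heq
    -- θ real
    have hreal : ∀ h : H, (θ h).im = 0 := by
      intro h
      have := congrFun heq h
      exact Complex.conj_eq_iff_im.mp this
    exact hθ1 (Cfsg.Agent.S0161.result hoddH ⟨θ, hθ⟩ hreal)
  simp_rw [key]
  simp

end Cfsg.Agent.S0194
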