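import Cfsg.Statements.S0196
import Mathlib

set_option autoImplicit false
open Cfsg

namespace Cfsg.Agent.S0196

/-- The conjugation action of `N_G(A)` on the nonidentity elements of `A`. -/
def act {G : Type*} [Group G] (A : Subgroup G) :
    MulAction (Subgroup.normalizer (A : Set G)) {x : G // x ∈ A ∧ x ≠ 1} where
  smul n x := ⟨n * x * (n : G)⁻¹, (Subgroup.mem_normalizer_iff.mp n.2 x).mp x.2.1, by
    intro h
    apply x.2.2
    have := congrArg (fun z => (n : G)⁻¹ * z * n) h
    simpa [mul_assoc] using this⟩
  one_smul x := by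
    apply Subtype.ext
    show ((1 : Subgroup.normalizer (A : Set G)) : G) * x * ((1 : Subgroup.normalizer (A : Set G)) : G)⁻¹ = x
    simp
  mul_smul m n x := by
    apply Subtype.ext
    show ((m * n : Subgroup.normalizer (A : Set G)) : G) * x * ((m * n : Subgroup.normalizer (A : Set G)) : G)⁻¹
      = (m : G) * ((n : G) * x * (n : G)⁻¹) * (m : G)⁻¹
    simp [mul_assoc]


/-- Let A be a subgroup of a finite group G that equals the centralizer of each of its non-identity elements, and let N be its normalizer. Then the index of A in N divides |A| − 1 (N/A permutes the non-identity elements of A in orbits of full length). -/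
theorem result {G : Type*} [Group G] [Finite G] (A : Subgroup G) (hA : ∀ x ∈ A, x ≠ 1 → Subgroup.centralizer ({x} : Set G) = A) : (A.subgroupOf (Subgroup.normalizer (A : Set G))).index ∣ Nat.card A - 1 := by
  classical
  letI := act A
  have hsmul : ∀ (n : Subgroup.normalizer (A : Set G)) (x : {x : G // x ∈ A ∧ x ≠ 1}),
      ((n • x : {x : G // x ∈ A ∧ x ≠ 1}) : G) = n * x * (n : G)⁻¹ := fun n x => rfl
  have hstab : ∀ x : {x : G // x ∈ A ∧ x ≠ 1},
      MulAction.stabilizer (Subgroup.normalizer (A : Set G)) x
        = A.subgroupOf (Subgroup.normalizer (A : Set G)) := by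
    intro x
    ext n
    have hAx : Subgroup.centralizer ({(x : G)} : Set G) = A := hA x x.2.1 x.2.2
    rw [MulAction.mem_stabilizer_iff, Subgroup.mem_subgroupOf]
    constructor
    · intro h
      apply hAx.le
      rw [Subgroup.mem_centralizer_iff]
      intro y hy
      rw [Set.mem_singleton_iff] at hy
      subst hy
      have h1 := congrArg Subtype.val h
      rw [hsmul] at h1
      have h2 := congrArg (fun z => z * (n : G)) h1
      simp only [inv_mul_cancel_right] at h2
      exact h2.symm
    · intro h
      have h := Subgroup.mem_centralizer_iff.mp (hAx.ge h)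
      apply Subtype.ext
      rw [hsmul]
      have h1 := h x rfl
      rw [← h1]; group
  have horb : ∀ x : {x : G // x ∈ A ∧ x ≠ 1},
      Nat.card (MulAction.orbit (Subgroup.normalizer (A : Set G)) x)
        = (A.subgroupOf (Subgroup.normalizer (A : Set G))).index := by
    intro x
    rw [← hstab x, MulAction.index_stabilizer, Nat.card_coe_set_eq]
  have hcard : Nat.card {x : G // x ∈ A ∧ x ≠ 1} = Nat.card A - 1 := by
    have e : {x : G // x ∈ A ∧ x ≠ 1} ≃ {a : A // a ≠ 1} :=
      { toFun := fun x => ⟨⟨x.1, x.2.1⟩, fun h => x.2.2 (congrArg Subtype.val h)⟩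
        invFun := fun a => ⟨a.1.1, a.1.2, fun h => a.2 (Subtype.ext h)⟩
        left_inv := fun x => rfl
        right_inv := fun a => rfl }
    rw [Nat.card_congr e]
    letI : Fintype A := Fintype.ofFinite A
    rw [Nat.card_eq_fintype_card, Nat.card_eq_fintype_card]
    exact Set.card_ne_eq (1 : A)
  letI : Fintype (MulAction.orbitRel.Quotient (Subgroup.normalizer (A : Set G))
    {x : G // x ∈ A ∧ x ≠ 1}) := Fintype.ofFinite _
  rw [← hcard, Nat.card_congr (MulAction.selfEquivSigmaOrbits (Subgroup.normalizer (A : Set G))
    {x : G // x ∈ A ∧ x ≠ 1}), Nat.card_sigma]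
  simp only [horb]
  rw [Finset.sum_const, smul_eq_mul]
  exact Dvd.intro_left _ rfl

end Cfsg.Agent.S0196
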