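import Cfsg.Statements.S0200
import Mathlib
import Cfsg.Agent.S0199
import Cfsg.Agent.Lib.Lead_Dihedral

set_option autoImplicit false
open Cfsg

namespace Cfsg.Agent.S0200

open Cfsg.Agent.Lib.Lead_Dihedral

/-- An involution lying in no normal 2-subgroup of a finite group inverts a nontrivial element of odd order (a consequence of the Baer–Suzuki Theorem). -/
theorem result {G : Type*} [Group G] [Finite G] (t : G) (ht : orderOf t = 2) (hO : ∀ N : Subgroup G, N.Normal → IsPGroup 2 N → t ∉ N) : ∃ h : G, h ≠ 1 ∧ Odd (orderOf h) ∧ t * h * t⁻¹ = h⁻¹ := by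
  classical
  haveI : Fact (Nat.Prime 2) := ⟨Nat.prime_two⟩
  have htt : t * t = 1 := mul_self_of_orderOf_two t ht
  have hti : t⁻¹ = t := inv_eq_self_of_orderOf_two t ht
  have hX : IsPGroup 2 (Subgroup.zpowers t) := by
    apply IsPGroup.of_card (n := 1)
    rw [Nat.card_zpowers, ht, pow_one]
  -- some conjugate generates a non-2-group with t
  have hex : ∃ g : G, ∀ a : ℕ, orderOf (t * (g * t * g⁻¹)) ≠ 2 ^ a := by
    by_contra hcon
    push_neg at hcon
    have hall : ∀ g : G, IsPGroup 2 ↥(Subgroup.zpowers t ⊔ (Subgroup.zpowers t).map (MulAut.conj g).toMonoidHom) := by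
      intro g
      obtain ⟨a, ha⟩ := hcon g
      have hss : (g * t * g⁻¹) * (g * t * g⁻¹) = 1 := by
        have : (g * t * g⁻¹) * (g * t * g⁻¹) = g * (t * t) * g⁻¹ := by group
        rw [this, htt]; group
      have hsup : Subgroup.zpowers t ⊔ (Subgroup.zpowers t).map (MulAut.conj g).toMonoidHom =
          Subgroup.closure ({t, g * t * g⁻¹} : Set G) := by
        rw [MonoidHom.map_zpowers, Subgroup.zpowers_eq_closure, Subgroup.zpowers_eq_closure,
          ← Subgroup.closure_union]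
        rfl
      intro d
      have hd : (d : G) ∈ Subgroup.closure ({t, g * t * g⁻¹} : Set G) := by
        rw [← hsup]; exact d.2
      obtain ⟨i, hi | hi⟩ := mem_closure_pair t (g * t * g⁻¹) htt hss (d : G) hd
      · refine ⟨a, ?_⟩
        apply Subtype.ext
        rw [Subgroup.coe_pow, Subgroup.coe_one, hi, ← zpow_natCast, ← zpow_mul, mul_comm, zpow_mul,
          zpow_natCast, ← ha, pow_orderOf_eq_one, one_zpow]
      · refine ⟨1, ?_⟩
        apply Subtype.ext
        rw [Subgroup.coe_pow, Subgroup.coe_one, hi, pow_one, pow_two]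
        calc (t * (g * t * g⁻¹)) ^ i * t * ((t * (g * t * g⁻¹)) ^ i * t)
            = (t * (g * t * g⁻¹)) ^ i * (t * (t * (g * t * g⁻¹)) ^ i) * t := by group
          _ = (t * (g * t * g⁻¹)) ^ i * ((t * (g * t * g⁻¹)) ^ (-i) * t) * t := by
              rw [x_mul_zpow t (g * t * g⁻¹) htt hss i]
          _ = 1 := by
              rw [← mul_assoc, ← zpow_add, add_neg_cancel, zpow_zero, one_mul, htt]
    obtain ⟨N, hNn, hNp, hXN⟩ := Cfsg.Agent.S0199.result (Subgroup.zpowers t) hX hall
    exact hO N hNn hNp (hXN (Subgroup.mem_zpowers t))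
  obtain ⟨g, hg⟩ := hex
  have hss : (g * t * g⁻¹) * (g * t * g⁻¹) = 1 := by
    have : (g * t * g⁻¹) * (g * t * g⁻¹) = g * (t * t) * g⁻¹ := by group
    rw [this, htt]; group
  obtain ⟨a, r, hr, hm⟩ := Nat.exists_eq_pow_mul_and_not_dvd
    (orderOf_pos (t * (g * t * g⁻¹))).ne' 2 (by norm_num)
  have hr1 : r ≠ 1 := by
    intro h
    rw [h, mul_one] at hm
    exact hg a hm
  have hord : orderOf ((t * (g * t * g⁻¹)) ^ 2 ^ a) = r := by
    rw [orderOf_pow' _ (pow_pos (by norm_num : 0 < 2) a).ne', hm, Nat.gcd_eq_right (Dvd.intro _ rfl)]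
    exact Nat.mul_div_cancel_left r (pow_pos (by norm_num : 0 < 2) a)
  refine ⟨(t * (g * t * g⁻¹)) ^ 2 ^ a, ?_, ?_, ?_⟩
  · intro h
    rw [h, orderOf_one] at hord
    exact hr1 hord.symm
  · rw [hord]
    exact Nat.odd_iff.mpr (by omega)
  · rw [hti]
    have := x_conj_zpow t (g * t * g⁻¹) htt hss ((2 ^ a : ℕ) : ℤ)
    rw [zpow_natCast, zpow_neg, zpow_natCast] at this
    exact this

end Cfsg.Agent.S0200
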