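import Cfsg.Statements.S0203
import Mathlib
import Cfsg.Agent.Lib.Helper9_Klein

set_option autoImplicit false
open Cfsg

namespace Cfsg.Agent.S0203

open Cfsg.Agent.Helper9Klein

/-- If a Sylow 2-subgroup P of a finite group G is a Klein four-group, then G has three classes of involutions if and only if P has a normal complement in G. -/
theorem result {G : Type*} [Group G] [Finite G] (P : Sylow 2 G) (hP : IsKleinFour (P : Subgroup G)) : Nat.card {C : ConjClasses G // ∃ t : G, orderOf t = 2 ∧ ConjClasses.mk t = C} = 3 ↔ ∃ N : Subgroup G, N.Normal ∧ Subgroup.IsComplement' N (P : Subgroup G) := by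
  have : Fact (Nat.Prime 2) := ⟨Nat.prime_two⟩
  constructor
  · intro h3
    have hinj : ∀ x ∈ (P : Subgroup G), ∀ y ∈ (P : Subgroup G),
        x ≠ 1 → y ≠ 1 → IsConj x y → x = y := by
      rcases card_invClass P hP with h | h
      · rw [h.1] at h3
        norm_num at h3
      · exact h.2
    have hNC : Subgroup.normalizer ((P : Subgroup G) : Set G)
        ≤ Subgroup.centralizer ((P : Subgroup G) : Set G) := by
      intro n hn
      rw [Subgroup.mem_centralizer_iff]
      intro x hx
      by_cases hx1 : x = 1
      · rw [hx1, mul_one, one_mul]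
      · have hxn : n * x * n⁻¹ ∈ (P : Subgroup G) := (Subgroup.mem_normalizer_iff.1 hn x).1 hx
        have hne : n * x * n⁻¹ ≠ 1 := by
          intro h
          apply hx1
          have h2 : x = n⁻¹ * (n * x * n⁻¹) * n := by group
          rw [h2, h]; group
        have hc : IsConj x (n * x * n⁻¹) := isConj_iff.2 ⟨n, rfl⟩
        have := hinj x hx _ hxn hx1 hne hc
        calc x * n = (n * x * n⁻¹) * n := by rw [← this]
          _ = n * x := by group
    exact ⟨_, MonoidHom.normal_ker _, MonoidHom.ker_transferSylow_isComplement' P hNC⟩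
  · rintro ⟨N, hN, hcompl⟩
    rcases card_invClass P hP with h | h
    · exfalso
      -- two distinct non-identity elements of P
      have hcard := card_nonid P hP
      have hnt : Nontrivial {x : (P : Subgroup G) // x ≠ 1} := by
        have h1 : 1 < Nat.card {x : (P : Subgroup G) // x ≠ 1} := by rw [hcard]; norm_num
        have : Finite {x : (P : Subgroup G) // x ≠ 1} := Nat.finite_of_card_ne_zero (by omega)
        exact Finite.one_lt_card_iff_nontrivial.1 h1
      obtain ⟨u, v, huv⟩ := exists_pair_ne {x : (P : Subgroup G) // x ≠ 1}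
      have hu1 : (u.1 : G) ≠ 1 := fun h => u.2 (Subtype.ext h)
      have hv1 : (v.1 : G) ≠ 1 := fun h => v.2 (Subtype.ext h)
      have hc := h.2 _ u.1.2 _ v.1.2 hu1 hv1
      obtain ⟨g, hg⟩ := isConj_iff.1 hc
      -- write g = n * p
      have hsurj := hcompl.2
      obtain ⟨⟨n, p⟩, hnp⟩ := hsurj g
      simp only at hnp
      have hpx : (p : G) * (u.1 : G) * (p : G)⁻¹ = (u.1 : G) := by
        have := comm_of_mem P hP p.2 u.1.2
        rw [this]; group
      have hvu : (v.1 : G) * (u.1 : G)⁻¹ ∈ N := by
        rw [← hg, ← hnp]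
        have h1 : (n : G) * (p : G) * (u.1 : G) * ((n : G) * (p : G))⁻¹
            = (n : G) * ((p : G) * (u.1 : G) * (p : G)⁻¹) * (n : G)⁻¹ := by group
        rw [h1, hpx]
        have h2 : (n : G) * (u.1 : G) * (n : G)⁻¹ * (u.1 : G)⁻¹
            = (n : G) * ((u.1 : G) * (n : G)⁻¹ * (u.1 : G)⁻¹) := by group
        rw [h2]
        exact N.mul_mem n.2 (hN.conj_mem _ (N.inv_mem n.2) _)
      have hvuP : (v.1 : G) * (u.1 : G)⁻¹ ∈ (P : Subgroup G) :=
        (P : Subgroup G).mul_mem v.1.2 ((P : Subgroup G).inv_mem u.1.2)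
      have hdisj := hcompl.disjoint
      have h1 : (v.1 : G) * (u.1 : G)⁻¹ = 1 := by
        have := Subgroup.disjoint_def.1 hdisj hvu hvuP
        exact this
      apply huv
      apply Subtype.ext
      apply Subtype.ext
      exact (mul_inv_eq_one.1 h1).symm
    · exact h.1

end Cfsg.Agent.S0203
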