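import Cfsg.Statements.S0206
import Cfsg.Agent.Lib.Lead_Dihedral

set_option autoImplicit false
open Pointwise
open Cfsg

namespace Cfsg.Agent.S0206

open Cfsg.Agent.Lib.Lead_Dihedral

section
variable {G : Type*} [Group G] (u : G)

/-- powers of `u` indexed by `ZMod (orderOf u)` -/
noncomputable def pw (i : ZMod (orderOf u)) : G := u ^ i.val

theorem pw_add [NeZero (orderOf u)] (i j : ZMod (orderOf u)) : pw u (i + j) = pw u i * pw u j := by
  unfold pw
  rw [ZMod.val_add, pow_mod_orderOf, pow_add]

theorem pw_zero [NeZero (orderOf u)] : pw u 0 = 1 := by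
  unfold pw
  rw [ZMod.val_zero, pow_zero]

theorem pw_neg [NeZero (orderOf u)] (i : ZMod (orderOf u)) : pw u (-i) = (pw u i)⁻¹ := by
  have := pw_add u (-i) i
  rw [neg_add_cancel, pw_zero] at this
  exact eq_inv_of_mul_eq_one_left this.symm

theorem pw_sub [NeZero (orderOf u)] (i j : ZMod (orderOf u)) : pw u (j - i) = pw u j * (pw u i)⁻¹ := by
  rw [sub_eq_add_neg, pw_add, pw_neg]

theorem pw_comm (i j : ZMod (orderOf u)) : pw u i * pw u j = pw u j * pw u i := by
  unfold pw
  rw [← pow_add, ← pow_add, add_comm]

theorem pw_eq_one [NeZero (orderOf u)] (i : ZMod (orderOf u)) (h : pw u i = 1) : i = 0 := by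
  unfold pw at h
  have h1 := orderOf_dvd_of_pow_eq_one h
  have h2 : i.val < orderOf u := ZMod.val_lt i
  have h3 : i.val = 0 := Nat.eq_zero_of_dvd_of_lt h1 h2
  exact (ZMod.val_eq_zero i).mp h3

theorem pw_intCast [NeZero (orderOf u)] (k : ℤ) : pw u (k : ZMod (orderOf u)) = u ^ k := by
  unfold pw
  rw [← zpow_natCast, ZMod.val_intCast, zpow_mod_orderOf]

end

section
variable {G : Type*} [Group G]

theorem pw_mul_x (x y : G) (hxx : x * x = 1) (hyy : y * y = 1) (i : ZMod (orderOf (x * y))) : pw (x * y) i * x = x * (pw (x * y) i)⁻¹ := by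
  unfold pw
  have := x_mul_zpow x y hxx hyy (-(i.val : ℤ))
  rw [neg_neg, zpow_neg, zpow_natCast] at this
  exact this.symm

theorem x_pw_x (x y : G) (hxx : x * x = 1) (hyy : y * y = 1) (i : ZMod (orderOf (x * y))) : x * pw (x * y) i * x = (pw (x * y) i)⁻¹ := by
  rw [mul_assoc, pw_mul_x x y hxx hyy, ← mul_assoc, hxx, one_mul]

/-- the homomorphism from the dihedral group -/
noncomputable def dmap (x y : G) (hxx : x * x = 1) (hyy : y * y = 1) [NeZero (orderOf (x * y))] : DihedralGroup (orderOf (x * y)) →* G where
  toFun d := match d with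
    | DihedralGroup.r i => pw (x * y) i
    | DihedralGroup.sr i => x * pw (x * y) i
  map_one' := by
    rw [DihedralGroup.one_def]
    exact pw_zero (x * y)
  map_mul' := by
    intro a b
    cases a with
    | r i =>
      cases b with
      | r j => simp only [DihedralGroup.r_mul_r]; exact pw_add _ i j
      | sr j =>
        simp only [DihedralGroup.r_mul_sr]
        have hc : Commute (pw (x * y) i) (pw (x * y) j) := pw_comm (x * y) i j
        rw [pw_sub]
        calc x * (pw (x * y) j * (pw (x * y) i)⁻¹) = x * ((pw (x * y) i)⁻¹ * pw (x * y) j) := by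
              rw [hc.inv_left.eq]
          _ = (x * (pw (x * y) i)⁻¹) * pw (x * y) j := by rw [mul_assoc]
          _ = (pw (x * y) i * x) * pw (x * y) j := by rw [pw_mul_x x y hxx hyy]
          _ = pw (x * y) i * (x * pw (x * y) j) := by rw [mul_assoc]
    | sr i =>
      cases b with
      | r j => simp only [DihedralGroup.sr_mul_r]; rw [pw_add, mul_assoc]
      | sr j =>
        simp only [DihedralGroup.sr_mul_sr]
        have hc : Commute (pw (x * y) i) (pw (x * y) j) := pw_comm (x * y) i j
        rw [pw_sub, ← mul_assoc, x_pw_x x y hxx hyy, hc.inv_left.eq]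

end

/-- Two distinct involutions x, y of a finite group generate a subgroup isomorphic to the dihedral group of order 2·|xy|. -/
theorem result {G : Type*} [Group G] [Finite G] (x y : G) (hx : orderOf x = 2) (hy : orderOf y = 2) (hxy : x ≠ y) : Nonempty (↥(Subgroup.closure ({x, y} : Set G)) ≃* DihedralGroup (orderOf (x * y))) := by
  have hxx := mul_self_of_orderOf_two x hx
  have hyy := mul_self_of_orderOf_two y hy
  have : NeZero (orderOf (x * y)) := ⟨(orderOf_pos (x * y)).ne'⟩
  have hx1 : x ≠ 1 := by intro h; rw [h, orderOf_one] at hx; omega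
  have hy1 : y ≠ 1 := by intro h; rw [h, orderOf_one] at hy; omega
  have hxi : x⁻¹ = x := inv_eq_of_mul_eq_one_left hxx
  set f := dmap x y hxx hyy with hf
  have hinj : Function.Injective f := by
    rw [injective_iff_map_eq_one]
    intro a ha
    cases a with
    | r i =>
      have : pw (x * y) i = 1 := ha
      rw [pw_eq_one _ i this, DihedralGroup.r_zero]
    | sr i =>
      exfalso
      have h0 : x * pw (x * y) i = 1 := ha
      -- x = (pw i)⁻¹ = u^(-a)
      have h1 : pw (x * y) i = x := by
        have := eq_inv_of_mul_eq_one_right h0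
        rw [hxi] at this; exact this
      -- x commutes with u
      have hcomm : x * (x * y) = (x * y) * x := by
        have hc : Commute ((x * y) ^ i.val) (x * y) := (Commute.refl _).pow_left _
        have h1' : (x * y) ^ i.val = x := h1
        rw [h1'] at hc
        exact hc.eq
      -- then y x = x y
      have hyx : y = x * y * x := by
        rw [← hcomm, ← mul_assoc, hxx, one_mul]
      -- u * u = 1
      have huu : (x * y) * (x * y) = 1 := by
        calc (x * y) * (x * y) = (x * y * x) * y := by simp [mul_assoc]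
          _ = y * y := by rw [← hyx]
          _ = 1 := hyy
      -- pw i = 1 or u
      unfold pw at h1
      rcases Nat.even_or_odd' i.val with ⟨q, hq | hq⟩
      · rw [hq, pow_mul, sq, huu, one_pow] at h1
        exact hx1 h1.symm
      · rw [hq, pow_succ, pow_mul, sq, huu, one_pow, one_mul] at h1
        apply hy1
        have := congrArg (x * ·) h1
        simp only [← mul_assoc, hxx, one_mul] at this
        exact this
  have hrange : f.range = Subgroup.closure ({x, y} : Set G) := by
    apply le_antisymm
    · rintro _ ⟨d, rfl⟩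
      have hxm : x ∈ Subgroup.closure ({x, y} : Set G) := Subgroup.subset_closure (by simp)
      have hym : y ∈ Subgroup.closure ({x, y} : Set G) := Subgroup.subset_closure (by simp)
      cases d with
      | r i => exact Subgroup.pow_mem _ (Subgroup.mul_mem _ hxm hym) _
      | sr i => exact Subgroup.mul_mem _ hxm (Subgroup.pow_mem _ (Subgroup.mul_mem _ hxm hym) _)
    · intro d hd
      obtain ⟨i, hi | hi⟩ := mem_closure_pair x y hxx hyy d hd
      · refine ⟨DihedralGroup.r (i : ZMod (orderOf (x * y))), ?_⟩
        rw [hi]; exact pw_intCast (x * y) i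
      · refine ⟨DihedralGroup.sr ((-i : ℤ) : ZMod (orderOf (x * y))), ?_⟩
        rw [hi]
        show x * pw (x * y) ((-i : ℤ) : ZMod (orderOf (x * y))) = _
        rw [pw_intCast, x_mul_zpow x y hxx hyy, neg_neg]
  exact ⟨((MonoidHom.ofInjective hinj).trans (MulEquiv.subgroupCongr hrange)).symm⟩

end Cfsg.Agent.S0206
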