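import Cfsg.Statements.S0207
import Cfsg.Agent.Lib.Lead_Dihedral

set_option autoImplicit false
open Pointwise
open Cfsg

namespace Cfsg.Agent.S0207

open Cfsg.Agent.Lib.Lead_Dihedral

/-- If x, y are distinct involutions, every element of the subgroup they generate that lies outside the cyclic subgroup generated by xy is an involution. -/
theorem result {G : Type*} [Group G] [Finite G] (x y : G) (hx : orderOf x = 2) (hy : orderOf y = 2) (hxy : x ≠ y) (d : G) (hd : d ∈ Subgroup.closure ({x, y} : Set G)) (hd' : d ∉ Subgroup.zpowers (x * y)) : orderOf d = 2 := by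
  have hxx := mul_self_of_orderOf_two x hx
  have hyy := mul_self_of_orderOf_two y hy
  obtain ⟨i, hi | hi⟩ := mem_closure_pair x y hxx hyy d hd
  · exact absurd (hi ▸ Subgroup.zpow_mem_zpowers (x * y) i) hd'
  · apply orderOf_eq_prime
    · rw [sq, hi, mul_assoc, ← mul_assoc x, x_mul_zpow x y hxx hyy i, mul_assoc, hxx, mul_one,
        ← zpow_add, add_neg_cancel, zpow_zero]
    · intro h1
      exact hd' (h1 ▸ Subgroup.one_mem _)

end Cfsg.Agent.S0207
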