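import Cfsg.Statements.S0208
import Mathlib.Tactic

set_option autoImplicit false
open Pointwise
open Cfsg

namespace Cfsg.Agent.S0208

theorem inv_of_order_two {G : Type*} [Group G] (x : G) (hx : orderOf x = 2) : x⁻¹ = x := by
  have h : x ^ 2 = 1 := by rw [← hx]; exact pow_orderOf_eq_one x
  rw [inv_eq_iff_mul_eq_one, ← sq]; exact h

theorem conj_pow {G : Type*} [Group G] (x y : G) (hx : x⁻¹ = x) (hy : y⁻¹ = y) (k : ℕ) :
    x * (x * y) ^ k * x = ((x * y) ^ k)⁻¹ := by
  induction k with
  | zero => simp; rw [← sq]; rw [inv_eq_iff_mul_eq_one] at hx; rw [sq]; exact hx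
  | succ k ih =>
    have hxx : x * x = 1 := by rw [inv_eq_iff_mul_eq_one] at hx; exact hx
    have : x * (x * y) ^ (k + 1) * x = (x * (x * y) ^ k * x) * (x * (x * y) * x) := by
      rw [pow_succ]
      calc x * ((x * y) ^ k * (x * y)) * x = x * (x * y) ^ k * 1 * (x * y) * x := by group
        _ = x * (x * y) ^ k * (x * x) * (x * y) * x := by rw [hxx]
        _ = _ := by group
    rw [this, ih]
    have h2 : x * (x * y) * x = (x * y)⁻¹ := by
      rw [mul_inv_rev, hx, hy]
      calc x * (x * y) * x = (x * x) * y * x := by group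
        _ = y * x := by rw [hxx, one_mul]
    rw [h2, pow_succ', ← mul_inv_rev]

/-- If x, y are involutions and xy has odd order, then some element of the subgroup generated by x and y conjugates x to y. -/
theorem result {G : Type*} [Group G] [Finite G] (x y : G) (hx : orderOf x = 2) (hy : orderOf y = 2) (hodd : Odd (orderOf (x * y))) : ∃ d ∈ Subgroup.closure ({x, y} : Set G), d * x * d⁻¹ = y := by
  have hx' := inv_of_order_two x hx
  have hy' := inv_of_order_two y hy
  obtain ⟨k, hk⟩ := hodd
  have hxx : x * x = 1 := by rw [inv_eq_iff_mul_eq_one] at hx'; exact hx'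
  refine ⟨(x * y) ^ k, ?_, ?_⟩
  · apply Subgroup.pow_mem
    apply Subgroup.mul_mem
    · exact Subgroup.subset_closure (by simp)
    · exact Subgroup.subset_closure (by simp)
  · rw [← conj_pow x y hx' hy' k]
    have h1 : (x * y) ^ (2 * k + 1) = 1 := by rw [← hk]; exact pow_orderOf_eq_one _
    have h2 : (x * y) ^ k * (x * y) ^ k = (x * y)⁻¹ := by
      rw [← pow_add, eq_inv_iff_mul_eq_one, ← pow_succ]
      rw [← h1]; congr 1; omega
    calc (x * y) ^ k * x * (x * (x * y) ^ k * x) = (x * y) ^ k * (x * x) * (x * y) ^ k * x := by group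
      _ = ((x * y) ^ k * (x * y) ^ k) * x := by rw [hxx]; group
      _ = (x * y)⁻¹ * x := by rw [h2]
      _ = y := by rw [mul_inv_rev, hy']; group

end Cfsg.Agent.S0208
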