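import Cfsg.Statements.S0209
import Mathlib.Tactic

set_option autoImplicit false
open Pointwise
open Cfsg

namespace Cfsg.Agent.S0209

theorem inv_of_order_two {G : Type*} [Group G] (x : G) (hx : orderOf x = 2) : x⁻¹ = x := by
  have h : x ^ 2 = 1 := by rw [← hx]; exact pow_orderOf_eq_one x
  rw [inv_eq_iff_mul_eq_one, ← sq]; exact h

theorem conj_pow {G : Type*} [Group G] (x y : G) (hx : x⁻¹ = x) (hy : y⁻¹ = y) (k : ℕ) :
    x * (x * y) ^ k * x = ((x * y) ^ k)⁻¹ := by
  induction k with
  | zero => simp; rw [← sq]; rw [inv_eq_iff_mul_eq_one] at hx; rw [sq]; exact hx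
  | succ k ih =>
    have hxx : x * x = 1 := by rw [inv_eq_iff_mul_eq_one] at hx; exact hx
    have : x * (x * y) ^ (k + 1) * x = (x * (x * y) ^ k * x) * (x * (x * y) * x) := by
      rw [pow_succ]
      calc x * ((x * y) ^ k * (x * y)) * x = x * (x * y) ^ k * 1 * (x * y) * x := by group
        _ = x * (x * y) ^ k * (x * x) * (x * y) * x := by rw [hxx]
        _ = _ := by group
    rw [this, ih]
    have h2 : x * (x * y) * x = (x * y)⁻¹ := by
      rw [mul_inv_rev, hx, hy]
      calc x * (x * y) * x = (x * x) * y * x := by group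
        _ = y * x := by rw [hxx, one_mul]
    rw [h2, pow_succ', ← mul_inv_rev]

/-- If x, y are involutions whose product has even order n, the element (xy)^(n/2) is an involution that commutes with x and with y. -/
theorem result {G : Type*} [Group G] [Finite G] (x y : G) (hx : orderOf x = 2) (hy : orderOf y = 2) (heven : Even (orderOf (x * y))) : orderOf ((x * y) ^ (orderOf (x * y) / 2)) = 2 ∧ Commute ((x * y) ^ (orderOf (x * y) / 2)) x ∧ Commute ((x * y) ^ (orderOf (x * y) / 2)) y := by
  have hx' := inv_of_order_two x hx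
  have hy' := inv_of_order_two y hy
  set n := orderOf (x * y) with hn
  obtain ⟨k, hk⟩ := heven
  have hnpos : 0 < n := orderOf_pos (x * y)
  have hk2 : n / 2 = k := by omega
  rw [hk2]
  have hkpos : 0 < k := by omega
  have hz : orderOf ((x * y) ^ k) = 2 := by
    rw [orderOf_pow' (x * y) (by omega : k ≠ 0), ← hn]
    have : Nat.gcd n k = k := by
      rw [hk, ← two_mul]; exact Nat.gcd_mul_left_left _ _
    rw [this, hk, ← two_mul]; exact Nat.mul_div_cancel _ hkpos
  have hzinv := inv_of_order_two _ hz
  have hcx : Commute ((x * y) ^ k) x := by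
    have h1 := conj_pow x y hx' hy' k
    rw [hzinv] at h1
    show (x * y) ^ k * x = x * (x * y) ^ k
    have hxx : x * x = 1 := by rw [inv_eq_iff_mul_eq_one] at hx'; exact hx'
    calc (x * y) ^ k * x = (x * (x * y) ^ k * x) * x := by rw [h1]
      _ = x * (x * y) ^ k * (x * x) := by group
      _ = x * (x * y) ^ k := by rw [hxx, mul_one]
  refine ⟨hz, hcx, ?_⟩
  have hcxy : Commute ((x * y) ^ k) (x * y) := (Commute.refl (x * y)).pow_left k
  have hy2 : y = x⁻¹ * (x * y) := by group
  have := (hcx.inv_right).mul_right hcxy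
  rw [← hy2] at this
  exact this

end Cfsg.Agent.S0209
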