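import Cfsg.Statements.S0210
import Cfsg.Agent.Lib.Lead_Dihedral

set_option autoImplicit false
open Pointwise
open Cfsg

namespace Cfsg.Agent.S0210

open Cfsg.Agent.Lib.Lead_Dihedral

/-- If x, y are involutions whose product has even order, no element of the subgroup generated by x and y conjugates x to y. -/
theorem result {G : Type*} [Group G] [Finite G] (x y : G) (hx : orderOf x = 2) (hy : orderOf y = 2) (heven : Even (orderOf (x * y))) (d : G) (hd : d ∈ Subgroup.closure ({x, y} : Set G)) : d * x * d⁻¹ ≠ y := by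
  have hxx := mul_self_of_orderOf_two x hx
  have hyy := mul_self_of_orderOf_two y hy
  obtain ⟨i, hi⟩ := conj_x_of_mem x y hxx hyy d hd
  intro h
  rw [hi] at h
  have hy2 : y = (x * y) ^ (-1 : ℤ) * x := by
    have := x_mul_zpow x y hxx hyy 1
    rw [zpow_one] at this
    rw [← this]; exact y_eq x y hxx
  have h' : (x * y) ^ (2 * i) * x = (x * y) ^ (-1 : ℤ) * x := h.trans hy2
  have h2 : (x * y) ^ (2 * i) = (x * y) ^ (-1 : ℤ) := mul_right_cancel h'
  have h3 : (x * y) ^ (2 * i + 1) = 1 := by
    rw [zpow_add, h2, zpow_neg, zpow_one, inv_mul_cancel]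
  have h4 := (orderOf_dvd_iff_zpow_eq_one).mpr h3
  obtain ⟨k, hk⟩ := heven
  rw [hk] at h4
  have : (2 : ℤ) ∣ 2 * i + 1 := by
    refine dvd_trans ?_ h4
    exact ⟨k, by push_cast; ring⟩
  omega

end Cfsg.Agent.S0210
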