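import Cfsg.Statements.S0211
import Cfsg.Agent.Lib.Lead_Dihedral

set_option autoImplicit false
open Pointwise
open Cfsg

namespace Cfsg.Agent.S0211

open Cfsg.Agent.Lib.Lead_Dihedral

/-- Let x, y be involutions with xy of even order n and z = (xy)^(n/2). Then xz is conjugate to x by an element of the subgroup generated by x, y if and only if 4 divides n. -/
theorem result {G : Type*} [Group G] [Finite G] (x y : G) (hx : orderOf x = 2) (hy : orderOf y = 2) (heven : Even (orderOf (x * y))) : (∃ d ∈ Subgroup.closure ({x, y} : Set G), d * x * d⁻¹ = x * (x * y) ^ (orderOf (x * y) / 2)) ↔ 4 ∣ orderOf (x * y) := by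
  have hxx := mul_self_of_orderOf_two x hx
  have hyy := mul_self_of_orderOf_two y hy
  obtain ⟨k, hk⟩ := heven
  have hk2 : orderOf (x * y) / 2 = k := by omega
  rw [hk2]
  have hz : x * (x * y) ^ k = (x * y) ^ (-(k : ℤ)) * x := by
    rw [← zpow_natCast]; exact x_mul_zpow x y hxx hyy k
  constructor
  · rintro ⟨d, hd, hdx⟩
    obtain ⟨i, hi⟩ := conj_x_of_mem x y hxx hyy d hd
    have h' : (x * y) ^ (2 * i) * x = (x * y) ^ (-(k : ℤ)) * x := hi.symm.trans (hdx.trans hz)
    have h2 : (x * y) ^ (2 * i) = (x * y) ^ (-(k : ℤ)) := mul_right_cancel h'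
    have h3 : (x * y) ^ (2 * i + k) = 1 := by
      rw [zpow_add, h2, zpow_neg, inv_mul_cancel]
    have h4 := (orderOf_dvd_iff_zpow_eq_one).mpr h3
    rw [hk] at h4
    have h5 : (2 : ℤ) ∣ 2 * i + k := by
      refine dvd_trans ?_ h4
      exact ⟨k, by push_cast; ring⟩
    have h6 : 2 ∣ k := by omega
    obtain ⟨m, hm⟩ := h6
    rw [hk, hm]; exact ⟨m, by ring⟩
  · rintro ⟨m, hm⟩
    have hkm : k = 2 * m := by omega
    refine ⟨(x * y) ^ (m : ℤ), ?_, ?_⟩
    · apply Subgroup.zpow_mem
      apply Subgroup.mul_mem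
      · exact Subgroup.subset_closure (by simp)
      · exact Subgroup.subset_closure (by simp)
    · rw [hz, ← zpow_neg, mul_assoc, x_mul_zpow x y hxx hyy (-(m : ℤ)), neg_neg, ← mul_assoc,
        ← zpow_add]
      congr 1
      -- u^(m+m) = u^(-k)
      have h1 : (x * y) ^ (((m : ℤ) + m) + k) = 1 := by
        have : ((m : ℤ) + m) + k = ((orderOf (x * y) : ℕ) : ℤ) := by
          rw [hm, hkm]; push_cast; ring
        rw [this, zpow_natCast, pow_orderOf_eq_one]
      rw [zpow_add] at h1
      rw [zpow_neg]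
      exact eq_inv_of_mul_eq_one_left h1

end Cfsg.Agent.S0211
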