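import Cfsg.Statements.S0237
import Mathlib.Tactic

set_option autoImplicit false
open Pointwise
open Cfsg

namespace Cfsg.Agent.S0237

/-- If x is real (conjugate to x⁻¹) in a finite group G, the number of g with g x g⁻¹ = x⁻¹ equals |C_G(x)|. -/
theorem result {G : Type*} [Group G] [Finite G] (x : G) (hreal : IsConj x x⁻¹) : Nat.card {g : G // g * x * g⁻¹ = x⁻¹} = Nat.card (Subgroup.centralizer ({x} : Set G)) := by
  obtain ⟨g₀, hg₀⟩ := isConj_iff.mp hreal
  apply Nat.card_congr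
  refine Equiv.subtypeEquiv (Equiv.mulLeft g₀⁻¹) ?_
  intro g
  simp only [Equiv.coe_mulLeft]
  show _ ↔ g₀⁻¹ * g ∈ Subgroup.centralizer ({x} : Set G)
  rw [Subgroup.mem_centralizer_iff]
  simp only [Set.mem_singleton_iff, forall_eq]
  have hx : x = g₀⁻¹ * x⁻¹ * g₀ := by
    rw [← hg₀]; group
  constructor
  · intro h
    have : x * (g₀⁻¹ * g) = g₀⁻¹ * (g₀ * x * g₀⁻¹) * g := by group
    rw [this, hg₀, ← h]; group
  · intro h
    have h2 : g * x * g⁻¹ = g₀ * ((g₀⁻¹ * g) * x) * g⁻¹ := by group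
    rw [h2, ← h]
    calc g₀ * (x * (g₀⁻¹ * g)) * g⁻¹ = g₀ * x * g₀⁻¹ := by group
      _ = x⁻¹ := hg₀

end Cfsg.Agent.S0237
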