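import Cfsg.Statements.S0236
import Cfsg.Agent.Lib.Lead_Dihedral

set_option autoImplicit false
open Pointwise
open Cfsg

namespace Cfsg.Agent.S0236

open Cfsg.Agent.Lib.Lead_Dihedral

theorem card_ne {α : Type*} [Finite α] (P : α → Prop) (x : α) (hx : P x) :
    Nat.card {t : α // P t ∧ t ≠ x} + 1 = Nat.card {t : α // P t} := by
  classical
  have := Fintype.ofFinite α
  rw [Nat.card_eq_fintype_card, Nat.card_eq_fintype_card, Fintype.card_subtype, Fintype.card_subtype]
  have : (Finset.univ.filter (fun t : α => P t ∧ t ≠ x)) = (Finset.univ.filter P).erase x := by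
    ext t; simp [and_comm]
  rw [this]
  exact Finset.card_erase_add_one (by simp [hx])

/-- If x is an involution, the number of ordered pairs (u, v) of involutions with uv = x, plus one, equals the number of involutions in the centralizer of x. -/
theorem result {G : Type*} [Group G] [Finite G] (x : G) (hx : orderOf x = 2) : Nat.card {p : G × G // orderOf p.1 = 2 ∧ orderOf p.2 = 2 ∧ p.1 * p.2 = x} + 1 = Nat.card {t : G // orderOf t = 2 ∧ Commute t x} := by
  have hxx := mul_self_of_orderOf_two x hx
  have hxi := inv_eq_self_of_orderOf_two x hx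
  rw [← card_ne (fun t : G => orderOf t = 2 ∧ Commute t x) x ⟨hx, Commute.refl x⟩]
  congr 1
  apply Nat.card_congr
  refine
    { toFun := fun p => ⟨p.1.1, ⟨p.2.1, ?_⟩, ?_⟩
      invFun := fun t => ⟨(t.1, t.1 * x), t.2.1.1, ?_, ?_⟩
      left_inv := ?_
      right_inv := ?_ }
  · obtain ⟨⟨u, v⟩, hu, hv, huv⟩ := p
    simp only at hu hv huv ⊢
    have hui := inv_eq_self_of_orderOf_two u hu
    have hvi := inv_eq_self_of_orderOf_two v hv
    have huu := mul_self_of_orderOf_two u hu
    have h1 : (u * v)⁻¹ = u * v := by rw [huv]; exact hxi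
    rw [mul_inv_rev, hui, hvi] at h1
    show u * x = x * u
    rw [← huv, ← mul_assoc, huu, one_mul, ← h1, mul_assoc, huu, mul_one]
  · obtain ⟨⟨u, v⟩, hu, hv, huv⟩ := p
    simp only at hu hv huv ⊢
    intro h
    rw [h] at huv
    have : v = 1 := by
      have := congrArg (x⁻¹ * ·) huv
      simpa using this
    rw [this, orderOf_one] at hv
    omega
  · obtain ⟨t, ⟨ht, htx⟩, hne⟩ := t
    simp only
    have hti := inv_eq_self_of_orderOf_two t ht
    have htt := mul_self_of_orderOf_two t ht
    apply orderOf_eq_prime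
    · rw [sq]
      calc t * x * (t * x) = t * (x * t) * x := by simp [mul_assoc]
        _ = t * (t * x) * x := by rw [htx.eq]
        _ = (t * t) * (x * x) := by simp [mul_assoc]
        _ = 1 := by rw [htt, hxx, one_mul]
    · intro h
      apply hne
      have := eq_inv_of_mul_eq_one_left h
      rw [hxi] at this; exact this
  · obtain ⟨t, ⟨ht, htx⟩, hne⟩ := t
    simp only
    have htt := mul_self_of_orderOf_two t ht
    rw [← mul_assoc, htt, one_mul]
  · rintro ⟨⟨u, v⟩, hu, hv, huv⟩
    simp only at hu hv huv ⊢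
    have huu := mul_self_of_orderOf_two u hu
    apply Subtype.ext
    simp only
    rw [← huv, ← mul_assoc, huu, one_mul]
  · rintro ⟨t, ⟨ht, htx⟩, hne⟩
    rfl

end Cfsg.Agent.S0236
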