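import Cfsg.Statements.S0238
import Cfsg.Agent.Lib.Lead_Dihedral
import Cfsg.Agent.S0236
import Cfsg.Agent.S0237

set_option autoImplicit false
open Pointwise
open Cfsg

namespace Cfsg.Agent.S0238

open Cfsg.Agent.Lib.Lead_Dihedral

theorem inverts {G : Type*} [Group G] (x u v : G) (hu : orderOf u = 2) (hv : orderOf v = 2)
    (huv : u * v = x) : u * x * u⁻¹ = x⁻¹ := by
  have hui := inv_eq_self_of_orderOf_two u hu
  have hvi := inv_eq_self_of_orderOf_two v hv
  have huu := mul_self_of_orderOf_two u hu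
  rw [← huv, mul_inv_rev, hui, hvi, ← mul_assoc, huu, one_mul]

theorem card_le_inv {G : Type*} [Group G] [Finite G] (x : G) :
    Nat.card {p : G × G // orderOf p.1 = 2 ∧ orderOf p.2 = 2 ∧ p.1 * p.2 = x} ≤
      Nat.card {g : G // g * x * g⁻¹ = x⁻¹} := by
  apply Nat.card_le_card_of_injective
    (fun p : {p : G × G // orderOf p.1 = 2 ∧ orderOf p.2 = 2 ∧ p.1 * p.2 = x} =>
      (⟨p.1.1, inverts x p.1.1 p.1.2 p.2.1 p.2.2.1 p.2.2.2⟩ : {g : G // g * x * g⁻¹ = x⁻¹}))
  rintro ⟨⟨u, v⟩, hu, hv, huv⟩ ⟨⟨u', v'⟩, hu', hv', huv'⟩ h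
  simp only [Subtype.mk.injEq] at h
  subst h
  apply Subtype.ext
  simp only [Prod.mk.injEq, true_and]
  simp only at huv huv'
  exact mul_left_cancel (huv.trans huv'.symm)

theorem not_real_empty {G : Type*} [Group G] [Finite G] (x : G) (h : ¬ IsConj x x⁻¹) :
    Nat.card {p : G × G // orderOf p.1 = 2 ∧ orderOf p.2 = 2 ∧ p.1 * p.2 = x} = 0 := by
  have : IsEmpty {p : G × G // orderOf p.1 = 2 ∧ orderOf p.2 = 2 ∧ p.1 * p.2 = x} := by
    constructor
    rintro ⟨⟨u, v⟩, hu, hv, huv⟩
    exact h (isConj_iff.mpr ⟨u, inverts x u v hu hv huv⟩)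
  exact Nat.card_of_isEmpty

/-- For every x in a finite group G, the number c of ordered pairs (u, v) of involutions with uv = x is at most |C_G(x)|; c = 0 when x is not conjugate to x⁻¹; and c + 2 ≤ |C_G(x)| when x is an involution. -/
theorem result {G : Type*} [Group G] [Finite G] (x : G) : Nat.card {p : G × G // orderOf p.1 = 2 ∧ orderOf p.2 = 2 ∧ p.1 * p.2 = x} ≤ Nat.card (Subgroup.centralizer ({x} : Set G)) ∧ (¬ IsConj x x⁻¹ → Nat.card {p : G × G // orderOf p.1 = 2 ∧ orderOf p.2 = 2 ∧ p.1 * p.2 = x} = 0) ∧ (orderOf x = 2 → Nat.card {p : G × G // orderOf p.1 = 2 ∧ orderOf p.2 = 2 ∧ p.1 * p.2 = x} + 2 ≤ Nat.card (Subgroup.centralizer ({x} : Set G))) := by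
  refine ⟨?_, not_real_empty x, ?_⟩
  · by_cases h : IsConj x x⁻¹
    · rw [← Cfsg.Agent.S0237.result x h]
      exact card_le_inv x
    · rw [not_real_empty x h]; exact Nat.zero_le _
  · intro hx
    have h1 := Cfsg.Agent.S0236.result x hx
    have h2 := Cfsg.Agent.S0236.card_ne (fun _ : Subgroup.centralizer ({x} : Set G) => True) 1 trivial
    have h3 : Nat.card {t : Subgroup.centralizer ({x} : Set G) // True} =
        Nat.card (Subgroup.centralizer ({x} : Set G)) :=
      Nat.card_congr (Equiv.subtypeUnivEquiv (fun _ => trivial))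
    have h4 : Nat.card {t : G // orderOf t = 2 ∧ Commute t x} ≤
        Nat.card {t : Subgroup.centralizer ({x} : Set G) // True ∧ t ≠ 1} := by
      apply Nat.card_le_card_of_injective
        (fun t : {t : G // orderOf t = 2 ∧ Commute t x} =>
          (⟨⟨t.1, by
              rw [Subgroup.mem_centralizer_iff]
              intro h hh
              rw [Set.mem_singleton_iff] at hh
              rw [hh]; exact (t.2.2.eq).symm⟩, trivial, by
              intro h
              have := congrArg Subtype.val h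
              simp only [Subgroup.coe_one] at this
              have h2 := t.2.1
              rw [this, orderOf_one] at h2
              omega⟩ : {t : Subgroup.centralizer ({x} : Set G) // True ∧ t ≠ 1}))
      intro a b hab
      simp only [Subtype.mk.injEq] at hab
      exact Subtype.ext hab
    omega

end Cfsg.Agent.S0238
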