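import Cfsg.Statements.S0233
import Mathlib
import Cfsg.Agent.S0237
import Cfsg.Agent.S0238

set_option autoImplicit false
open Cfsg

namespace Cfsg.Agent.S0233


/-- the extended centralizer -/
def Cstar {G : Type*} [Group G] (x : G) : Subgroup G where
  carrier := {g | g * x * g⁻¹ = x ∨ g * x * g⁻¹ = x⁻¹}
  one_mem' := Or.inl (by simp)
  mul_mem' := by
    intro a b ha hb
    have e : a * b * x * (a * b)⁻¹ = a * (b * x * b⁻¹) * a⁻¹ := by group
    show a * b * x * (a * b)⁻¹ = x ∨ a * b * x * (a * b)⁻¹ = x⁻¹
    rw [e]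
    rcases hb with hb | hb
    · rw [hb]; exact ha
    · rw [hb]
      have e2 : a * x⁻¹ * a⁻¹ = (a * x * a⁻¹)⁻¹ := by group
      rw [e2]
      rcases ha with ha | ha
      · right; rw [ha]
      · left; rw [ha, inv_inv]
  inv_mem' := by
    intro a ha
    show a⁻¹ * x * a⁻¹⁻¹ = x ∨ a⁻¹ * x * a⁻¹⁻¹ = x⁻¹
    rcases ha with ha | ha
    · left
      conv_lhs => rw [← ha]
      group
    · right
      rw [inv_inv]
      have h2 : a * x⁻¹ * a⁻¹ = x := by
        have e : a * x⁻¹ * a⁻¹ = (a * x * a⁻¹)⁻¹ := by group
        rw [e, ha, inv_inv]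
      calc a⁻¹ * x * a = a⁻¹ * (a * x⁻¹ * a⁻¹) * a := by rw [h2]
        _ = x⁻¹ := by group

theorem card_Cstar {G : Type*} [Group G] [Finite G] (x : G) (hreal : IsConj x x⁻¹) (hx : x ≠ x⁻¹) :
    Nat.card (Cstar x) = 2 * Nat.card (Subgroup.centralizer ({x} : Set G)) := by
  classical
  haveI := Fintype.ofFinite G
  have h1 : Nat.card (Cstar x) = (Finset.univ.filter (fun g : G => g * x * g⁻¹ = x ∨ g * x * g⁻¹ = x⁻¹)).card := by
    rw [← Fintype.card_subtype, ← Nat.card_eq_fintype_card]
    exact Nat.card_congr (Equiv.subtypeEquivRight (fun g => Iff.rfl))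
  have h2 : Nat.card (Subgroup.centralizer ({x} : Set G)) = (Finset.univ.filter (fun g : G => g * x * g⁻¹ = x)).card := by
    rw [Nat.card_eq_fintype_card, ← Fintype.card_subtype]
    apply Fintype.card_congr
    refine Equiv.subtypeEquivRight ?_
    intro g
    rw [Subgroup.mem_centralizer_iff]
    constructor
    · intro h
      have := h x rfl
      rw [← this, mul_inv_cancel_right]
    · intro h y hy
      rw [Set.mem_singleton_iff] at hy
      rw [hy]
      conv_lhs => rw [← h]
      group
  have h3 : Nat.card (Subgroup.centralizer ({x} : Set G)) = (Finset.univ.filter (fun g : G => g * x * g⁻¹ = x⁻¹)).card := by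
    rw [← Cfsg.Agent.S0237.result x hreal, Nat.card_eq_fintype_card, Fintype.card_subtype]
  rw [h1, Finset.filter_or, Finset.card_union_of_disjoint, ← h2, ← h3, two_mul]
  rw [Finset.disjoint_filter]
  intro g _ hg1 hg2
  exact hx (hg1.symm.trans hg2)


/-- Let G be a finite group of even order with exactly n involutions whose centre has odd order, and put a = |G|/n. Then G has a proper subgroup H with |G : H| = 2 or |G : H| < a(a+1)/2; over ℕ the latter reads 2·|G:H|·n² < |G|·(|G| + n). -/
theorem result {G : Type*} [Group G] [Finite G] (heven : Even (Nat.card G)) (hZ : Odd (Nat.card (Subgroup.center G))) : ∃ H : Subgroup G, H ≠ ⊤ ∧ (H.index = 2 ∨ 2 * H.index * (Nat.card {t : G // orderOf t = 2}) ^ 2 < Nat.card G * (Nat.card G + Nat.card {t : G // orderOf t = 2})) := by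
  classical
  haveI := Fintype.ofFinite G
  by_contra hcon
  push_neg at hcon
  -- hcon : ∀ H ≠ ⊤, H.index ≠ 2 ∧ |G| (|G| + n) ≤ 2 H.index n²
  have hgpos : 0 < Nat.card G := Nat.card_pos
  -- n ≥ 1
  have hnpos : 0 < Nat.card {t : G // orderOf t = 2} := by
    have h2 : 2 ∣ Nat.card G := even_iff_two_dvd.mp heven
    haveI : Fact (Nat.Prime 2) := ⟨Nat.prime_two⟩
    obtain ⟨t, ht⟩ := exists_prime_orderOf_dvd_card' 2 h2
    exact Nat.card_pos_iff.mpr ⟨⟨⟨t, ht⟩⟩, inferInstance⟩
  -- general bound for proper subgroups
  have hprop : ∀ H : Subgroup G, H ≠ ⊤ → Nat.card H * (Nat.card G + Nat.card {t : G // orderOf t = 2}) ≤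
      2 * (Nat.card {t : G // orderOf t = 2}) ^ 2 := by
    intro H hH
    have h1 := (hcon H hH).2
    have h2 := Subgroup.card_mul_index H
    have h3 : Nat.card G * (Nat.card H * (Nat.card G + Nat.card {t : G // orderOf t = 2})) ≤
        Nat.card G * (2 * (Nat.card {t : G // orderOf t = 2}) ^ 2) := by
      calc Nat.card G * (Nat.card H * (Nat.card G + Nat.card {t : G // orderOf t = 2}))
          = Nat.card H * (Nat.card G * (Nat.card G + Nat.card {t : G // orderOf t = 2})) := by ring
        _ ≤ Nat.card H * (2 * H.index * (Nat.card {t : G // orderOf t = 2}) ^ 2) := Nat.mul_le_mul_left _ h1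
        _ = (Nat.card H * H.index) * (2 * (Nat.card {t : G // orderOf t = 2}) ^ 2) := by ring
        _ = Nat.card G * (2 * (Nat.card {t : G // orderOf t = 2}) ^ 2) := by rw [h2]
    exact Nat.le_of_mul_le_mul_left h3 hgpos
  -- centralizers of involutions are proper
  have hinvprop : ∀ x : G, orderOf x = 2 → Subgroup.centralizer ({x} : Set G) ≠ ⊤ := by
    intro x hx htop
    have hxc : x ∈ Subgroup.center G := by
      rw [Subgroup.mem_center_iff]
      intro g
      have : g ∈ Subgroup.centralizer ({x} : Set G) := by rw [htop]; exact Subgroup.mem_top g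
      exact (Subgroup.mem_centralizer_iff.mp this x rfl).symm
    have h2 : 2 ∣ Nat.card (Subgroup.center G) := by
      have := Subgroup.orderOf_dvd_natCard (Subgroup.center G) hxc
      rwa [hx] at this
    exact (Nat.not_even_iff_odd.mpr hZ) (even_iff_two_dvd.mpr h2)
  -- the count of pairs with product 1
  have hc1 : Nat.card {p : G × G // orderOf p.1 = 2 ∧ orderOf p.2 = 2 ∧ p.1 * p.2 = (1 : G)} ≤
      Nat.card {t : G // orderOf t = 2} := by
    apply Nat.card_le_card_of_injective
      (fun p : {p : G × G // orderOf p.1 = 2 ∧ orderOf p.2 = 2 ∧ p.1 * p.2 = (1 : G)} =>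
        (⟨p.1.1, p.2.1⟩ : {t : G // orderOf t = 2}))
    rintro ⟨⟨u, v⟩, hu, hv, huv⟩ ⟨⟨u', v'⟩, hu', hv', huv'⟩ h
    simp only [Subtype.mk.injEq] at h
    subst h
    apply Subtype.ext
    simp only [Prod.mk.injEq, true_and]
    simp only at huv huv'
    exact mul_left_cancel (huv.trans huv'.symm)
  -- per-element bound
  have hper : ∀ x : G,
      Nat.card {p : G × G // orderOf p.1 = 2 ∧ orderOf p.2 = 2 ∧ p.1 * p.2 = x} *
        (Nat.card G + Nat.card {t : G // orderOf t = 2})
      + (if orderOf x = 2 then 2 * (Nat.card G + Nat.card {t : G // orderOf t = 2}) else 0)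
      + (if x = 1 then (Nat.card {t : G // orderOf t = 2}) ^ 2 else 0) ≤
      (Nat.card {t : G // orderOf t = 2}) ^ 2
      + (if x = 1 then Nat.card {t : G // orderOf t = 2} * (Nat.card G + Nat.card {t : G // orderOf t = 2}) else 0)
      + (if orderOf x = 2 then (Nat.card {t : G // orderOf t = 2}) ^ 2 else 0) := by
    intro x
    obtain ⟨hle, hnr, hinv⟩ := Cfsg.Agent.S0238.result x
    by_cases hx1 : x = 1
    · subst hx1
      have ho : ¬ orderOf (1 : G) = 2 := by rw [orderOf_one]; norm_num
      rw [if_neg ho, if_pos rfl, if_pos rfl, if_neg ho]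
      have := Nat.mul_le_mul_right (Nat.card G + Nat.card {t : G // orderOf t = 2}) hc1
      omega
    · rw [if_neg hx1, if_neg hx1]
      by_cases hx2 : orderOf x = 2
      · rw [if_pos hx2, if_pos hx2]
        have h1 := hinv hx2
        have h2 := hprop _ (hinvprop x hx2)
        have h3 := Nat.mul_le_mul_right (Nat.card G + Nat.card {t : G // orderOf t = 2}) h1
        have h4 : (Nat.card {p : G × G // orderOf p.1 = 2 ∧ orderOf p.2 = 2 ∧ p.1 * p.2 = x} + 2) *
            (Nat.card G + Nat.card {t : G // orderOf t = 2}) =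
            Nat.card {p : G × G // orderOf p.1 = 2 ∧ orderOf p.2 = 2 ∧ p.1 * p.2 = x} *
            (Nat.card G + Nat.card {t : G // orderOf t = 2}) + 2 * (Nat.card G + Nat.card {t : G // orderOf t = 2}) := by ring
        have h5 : 2 * (Nat.card {t : G // orderOf t = 2}) ^ 2 =
            (Nat.card {t : G // orderOf t = 2}) ^ 2 + (Nat.card {t : G // orderOf t = 2}) ^ 2 := by ring
        omega
      · rw [if_neg hx2, if_neg hx2]
        simp only [add_zero]
        by_cases hreal : IsConj x x⁻¹
        · have hxx : x ≠ x⁻¹ := by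
            intro h
            have h2 : x ^ 2 = 1 := by
              rw [pow_two]
              calc x * x = x * x⁻¹ := by rw [← h]
                _ = 1 := mul_inv_cancel x
            have h3 : orderOf x ∣ 2 := orderOf_dvd_of_pow_eq_one h2
            rcases (Nat.dvd_prime Nat.prime_two).mp h3 with h4 | h4
            · exact hx1 (orderOf_eq_one_iff.mp h4)
            · exact hx2 h4
          have hcs := card_Cstar x hreal hxx
          by_cases htop : Cstar x = ⊤
          · exfalso
            rw [htop, Subgroup.card_top] at hcs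
            have hidx : (Subgroup.centralizer ({x} : Set G)).index = 2 := by
              have h1 := Subgroup.card_mul_index (Subgroup.centralizer ({x} : Set G))
              rw [hcs] at h1
              have hpos : 0 < Nat.card (Subgroup.centralizer ({x} : Set G)) := Nat.card_pos
              have : Nat.card (Subgroup.centralizer ({x} : Set G)) * (Subgroup.centralizer ({x} : Set G)).index =
                  Nat.card (Subgroup.centralizer ({x} : Set G)) * 2 := by rw [h1]; ring
              exact Nat.eq_of_mul_eq_mul_left hpos this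
            have hne : Subgroup.centralizer ({x} : Set G) ≠ ⊤ := by
              intro h
              rw [h, Subgroup.index_top] at hidx
              norm_num at hidx
            exact (hcon _ hne).1 hidx
          · have h2 := hprop _ htop
            rw [hcs] at h2
            have h3 := Nat.mul_le_mul_right (Nat.card G + Nat.card {t : G // orderOf t = 2}) hle
            have h4 : 2 * Nat.card (Subgroup.centralizer ({x} : Set G)) * (Nat.card G + Nat.card {t : G // orderOf t = 2}) =
                2 * (Nat.card (Subgroup.centralizer ({x} : Set G)) * (Nat.card G + Nat.card {t : G // orderOf t = 2})) := by ring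
            omega
        · rw [hnr hreal, zero_mul]
          exact Nat.zero_le _
  -- the sum of the counts
  have hsum : ∑ x : G, Nat.card {p : G × G // orderOf p.1 = 2 ∧ orderOf p.2 = 2 ∧ p.1 * p.2 = x} =
      (Nat.card {t : G // orderOf t = 2}) ^ 2 := by
    rw [pow_two, ← Nat.card_prod, ← Nat.card_sigma]
    apply Nat.card_congr
    refine
      { toFun := fun s => (⟨s.2.1.1, s.2.2.1⟩, ⟨s.2.1.2, s.2.2.2.1⟩)
        invFun := fun q => ⟨q.1.1 * q.2.1, ⟨(q.1.1, q.2.1), q.1.2, q.2.2, rfl⟩⟩
        left_inv := ?_
        right_inv := ?_ }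
    · rintro ⟨x, ⟨⟨u, v⟩, hu, hv, huv⟩⟩
      simp only at huv
      subst huv
      rfl
    · rintro ⟨⟨u, hu⟩, ⟨v, hv⟩⟩
      rfl
  have hcardinv : (Finset.univ.filter (fun x : G => orderOf x = 2)).card = Nat.card {t : G // orderOf t = 2} := by
    rw [Nat.card_eq_fintype_card, Fintype.card_subtype]
  have htotal := Finset.sum_le_sum (fun x (_ : x ∈ (Finset.univ : Finset G)) => hper x)
  simp only [Finset.sum_add_distrib] at htotal
  rw [← Finset.sum_mul, hsum] at htotal
  simp only [Finset.sum_ite_eq', Finset.mem_univ, if_true, Finset.sum_const, Finset.card_univ,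
    smul_eq_mul] at htotal
  rw [← Finset.sum_filter, ← Finset.sum_filter] at htotal
  simp only [Finset.sum_const, smul_eq_mul, hcardinv] at htotal
  rw [← Nat.card_eq_fintype_card] at htotal
  -- arithmetic contradiction
  nlinarith [htotal, hnpos, hgpos, Nat.mul_pos hnpos hgpos]

end Cfsg.Agent.S0233
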