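import Cfsg.Statements.S0212
import Mathlib
import Cfsg.Agent.S0233
import Cfsg.Agent.Lib.Lead_Class

set_option autoImplicit false
open Cfsg

namespace Cfsg.Agent.S0212

/-- a simple group embeds in the symmetric group on the cosets of a proper subgroup -/
lemma card_le_factorial_index {G : Type*} [Group G] [Finite G] [IsSimpleGroup G] (H : Subgroup G)
    (hH : H ≠ ⊤) : Nat.card G ≤ Nat.factorial H.index := by
  have hker : (MulAction.toPermHom G (G ⧸ H)).ker = ⊥ := by
    have hn : ((MulAction.toPermHom G (G ⧸ H)).ker).Normal := inferInstance
    rcases hn.eq_bot_or_eq_top with h | h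
    · exact h
    · exfalso
      apply hH
      rw [← Subgroup.normalCore_eq_ker] at h
      exact top_le_iff.1 (h ▸ Subgroup.normalCore_le H)
  have hinj : Function.Injective (MulAction.toPermHom G (G ⧸ H)) :=
    (MonoidHom.ker_eq_bot_iff _).1 hker
  have := Nat.card_le_card_of_injective _ hinj
  rw [Nat.card_perm, ← Subgroup.index_eq_card] at this
  exact this

/-- The Brauer–Fowler bound: if G is a finite simple group and t an involution of G whose centralizer has order n, then |G| ≤ (2n^2)!. -/
theorem result {G : Type*} [Group G] [Finite G] [IsSimpleGroup G] (t : G) (ht : orderOf t = 2) : Nat.card G ≤ Nat.factorial (2 * (Nat.card (Subgroup.centralizer ({t} : Set G))) ^ 2) := by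
  classical
  set n := Nat.card (Subgroup.centralizer ({t} : Set G)) with hn
  have hn1 : 1 ≤ n := Nat.card_pos
  have heven : Even (Nat.card G) := by
    rw [even_iff_two_dvd, ← ht]
    exact orderOf_dvd_natCard t
  rcases (inferInstance : (Subgroup.center G).Normal).eq_bot_or_eq_top with hZ | hZ
  · have hZ' : Odd (Nat.card (Subgroup.center G)) := by
      rw [hZ, Subgroup.card_bot]
      exact odd_one
    obtain ⟨H, hH, h⟩ := Cfsg.Agent.S0233.result heven hZ'
    have hle := card_le_factorial_index H hH
    refine hle.trans (Nat.factorial_le ?_)
    rcases h with h | h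
    · rw [h]
      nlinarith
    · set m := Nat.card {t : G // orderOf t = 2} with hm
      set g := Nat.card G with hg
      set k := H.index with hk
      have hc := Cfsg.Agent.Lib.Lead_Class.card_class_mul_card_centralizer t
      have hcm : Nat.card {x : G // IsConj t x} ≤ m := by
        apply Nat.card_le_card_of_injective
          (fun x : {x : G // IsConj t x} => (⟨x.1, by
            obtain ⟨c, hc⟩ := isConj_iff.1 x.2
            rw [← hc, ← ht]
            exact orderOf_injective (MulAut.conj c).toMonoidHom (MulAut.conj c).injective t⟩ : {t : G // orderOf t = 2}))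
        intro x y hxy
        apply Subtype.ext
        exact congrArg (fun z : {t : G // orderOf t = 2} => z.1) hxy
      have h1 : g ≤ m * n := by
        rw [hg, ← hc]
        exact Nat.mul_le_mul_right _ hcm
      have h2 : g * (g + m) ≤ (m * n) * (m * n + m) := Nat.mul_le_mul h1 (by omega)
      have h3 : m ^ 2 * (2 * k) < m ^ 2 * (n * (n + 1)) := by
        calc m ^ 2 * (2 * k) = 2 * k * m ^ 2 := by ring
          _ < g * (g + m) := h
          _ ≤ (m * n) * (m * n + m) := h2
          _ = m ^ 2 * (n * (n + 1)) := by ring
      have h4 : 2 * k < n * (n + 1) := Nat.lt_of_mul_lt_mul_left h3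
      nlinarith
  · have hcent : Subgroup.centralizer ({t} : Set G) = ⊤ := by
      rw [eq_top_iff, ← hZ]
      exact Subgroup.center_le_centralizer _
    have hnG : n = Nat.card G := by
      rw [hn, hcent, Subgroup.card_top]
    rw [← hnG]
    refine le_trans ?_ (Nat.self_le_factorial _)
    nlinarith

end Cfsg.Agent.S0212
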