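import Cfsg.Statements.S0213
import Mathlib
import Cfsg.Agent.Lib.Lead_Class

set_option autoImplicit false
open Cfsg

namespace Cfsg.Agent.S0213

variable {G : Type*} [Group G]

lemma conj_mem_zpowers (g c w : G) (h : c ∈ Subgroup.zpowers w) :
    g * c * g⁻¹ ∈ Subgroup.zpowers (g * w * g⁻¹) := by
  obtain ⟨k, rfl⟩ := Subgroup.mem_zpowers_iff.1 h
  exact Subgroup.mem_zpowers_iff.2 ⟨k, conj_zpow⟩

lemma isConj_conj (x u g : G) (h : IsConj x u) : IsConj x (g * u * g⁻¹) :=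
  h.trans (isConj_iff.2 ⟨g, rfl⟩)

lemma orderOf_conj' (g u : G) : orderOf (g * u * g⁻¹) = orderOf u :=
  orderOf_injective (MulAut.conj g).toMonoidHom (MulAut.conj g).injective u

lemma orderOf_of_isConj {x u : G} (h : IsConj x u) : orderOf u = orderOf x := by
  obtain ⟨c, rfl⟩ := isConj_iff.1 h
  exact orderOf_conj' c x

/-- at most one involution in a cyclic subgroup -/
lemma unique_inv [Finite G] (w z z' : G) (hz : z ∈ Subgroup.zpowers w) (hz' : z' ∈ Subgroup.zpowers w)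
    (h2 : orderOf z = 2) (h2' : orderOf z' = 2) : z = z' := by
  classical
  have : Fintype (Subgroup.zpowers w) := Fintype.ofFinite _
  have hd : 2 ∣ Fintype.card (Subgroup.zpowers w) := by
    rw [← Nat.card_eq_fintype_card, ← h2, ← Subgroup.orderOf_mk z hz]
    exact orderOf_dvd_natCard _
  have h := IsCyclic.card_orderOf_eq_totient (α := Subgroup.zpowers w) hd
  rw [Nat.totient_two] at h
  have hle := Finset.card_le_one.1 (le_of_eq h)
  have := hle ⟨z, hz⟩ (by simp [Subgroup.orderOf_mk, h2]) ⟨z', hz'⟩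
    (by simp [Subgroup.orderOf_mk, h2'])
  exact congrArg Subtype.val this

/-- two involutions whose product has odd order are conjugate -/
lemma conj_of_odd (u v : G) (hu : u * u = 1) (hv : v * v = 1) (k : ℕ)
    (hk : (u * v) ^ (2 * k + 1) = 1) : IsConj u v := by
  rw [isConj_iff]
  refine ⟨(u * v) ^ k, ?_⟩
  have huinv : u⁻¹ = u := inv_eq_of_mul_eq_one_right hu
  have hvinv : v⁻¹ = v := inv_eq_of_mul_eq_one_right hv
  have h1 : u * (u * v) * u⁻¹ = (u * v)⁻¹ := by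
    calc u * (u * v) * u⁻¹ = (u * u) * v * u⁻¹ := by group
      _ = v * u := by rw [hu, one_mul, huinv]
      _ = (u * v)⁻¹ := by rw [mul_inv_rev, hvinv, huinv]
  have h2 : u * (u * v) ^ k * u⁻¹ = ((u * v) ^ k)⁻¹ := by
    rw [← conj_pow, h1, inv_pow]
  have h3 : (u * v) ^ k * u = u * ((u * v) ^ k)⁻¹ := by
    have : u * (u * v) ^ k = ((u * v) ^ k)⁻¹ * u := by
      rw [← h2]; group
    calc (u * v) ^ k * u = u * (u * (u * v) ^ k) * u := by
          rw [← mul_assoc u u, hu, one_mul]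
      _ = u * (((u * v) ^ k)⁻¹ * u) * u := by rw [this]
      _ = u * ((u * v) ^ k)⁻¹ * (u * u) := by group
      _ = u * ((u * v) ^ k)⁻¹ := by rw [hu, mul_one]
  have h4 : ((u * v) ^ k)⁻¹ * ((u * v) ^ k)⁻¹ = u * v := by
    have : (u * v) ^ k * (u * v) ^ k * (u * v) = 1 := by
      rw [← pow_add, ← pow_succ, ← two_mul]; exact hk
    have h5 : (u * v) = ((u * v) ^ k * (u * v) ^ k)⁻¹ := by
      rw [eq_comm, inv_eq_iff_eq_inv]
      exact (eq_inv_of_mul_eq_one_left this)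
    rw [← mul_inv_rev, ← h5]
  calc (u * v) ^ k * u * ((u * v) ^ k)⁻¹ = u * ((u * v) ^ k)⁻¹ * ((u * v) ^ k)⁻¹ := by rw [h3]
    _ = u * (((u * v) ^ k)⁻¹ * ((u * v) ^ k)⁻¹) := by group
    _ = u * (u * v) := by rw [h4]
    _ = v := by rw [← mul_assoc, hu, one_mul]

/-- existence of an involution in the cyclic group generated by the product of two
non-conjugate involutions -/
lemma exists_inv [Finite G] (u v : G) (hu : orderOf u = 2) (hv : orderOf v = 2)
    (hnc : ¬ IsConj u v) : ∃ z ∈ Subgroup.zpowers (u * v), orderOf z = 2 := by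
  have hu' : u * u = 1 := by rw [← pow_two, ← hu, pow_orderOf_eq_one]
  have hv' : v * v = 1 := by rw [← pow_two, ← hv, pow_orderOf_eq_one]
  set n := orderOf (u * v) with hn
  have hnpos : 0 < n := orderOf_pos _
  rcases Nat.even_or_odd' n with ⟨k, hk | hk⟩
  · refine ⟨(u * v) ^ k, Subgroup.npow_mem_zpowers _ _, ?_⟩
    have hkpos : 0 < k := by omega
    rw [orderOf_pow' _ hkpos.ne', ← hn, hk, Nat.gcd_eq_right (Dvd.intro_left 2 rfl)]
    exact Nat.mul_div_cancel _ hkpos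
  · exfalso
    apply hnc
    apply conj_of_odd u v hu' hv' k
    rw [← hk, hn]
    exact pow_orderOf_eq_one _

lemma fiber_count [Finite G] (x y₁ y₂ : G) :
    Nat.card {t : G × G × G // IsConj y₁ t.1 ∧ IsConj y₂ t.2.1 ∧ IsConj x t.2.2 ∧
      t.2.2 ∈ Subgroup.zpowers (t.1 * t.2.1)} =
    Nat.card {z : G // IsConj x z} *
      Nat.card {p : G × G // IsConj y₁ p.1 ∧ IsConj y₂ p.2 ∧ x ∈ Subgroup.zpowers (p.1 * p.2)} := by
  classical
  rw [← Nat.card_prod]
  have hc : ∀ z : {z : G // IsConj x z}, ∃ g : G, g * x * g⁻¹ = z.1 := fun z => isConj_iff.1 z.2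
  choose c hc using hc
  apply Nat.card_congr
  refine ⟨fun t => (⟨t.1.2.2, t.2.2.2.1⟩,
      ⟨((c ⟨t.1.2.2, t.2.2.2.1⟩)⁻¹ * t.1.1 * (c ⟨t.1.2.2, t.2.2.2.1⟩),
        (c ⟨t.1.2.2, t.2.2.2.1⟩)⁻¹ * t.1.2.1 * (c ⟨t.1.2.2, t.2.2.2.1⟩)), ?_⟩),
    fun p => ⟨(c p.1 * p.2.1.1 * (c p.1)⁻¹, c p.1 * p.2.1.2 * (c p.1)⁻¹, p.1.1), ?_⟩, ?_, ?_⟩
  · obtain ⟨⟨u, v, z⟩, hu, hv, hz, hm⟩ := t
    simp only
    set g := c ⟨z, hz⟩ with hg
    have hgz : g * x * g⁻¹ = z := hc ⟨z, hz⟩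
    refine ⟨?_, ?_, ?_⟩
    · have := isConj_conj y₁ u g⁻¹ hu
      rwa [inv_inv] at this
    · have := isConj_conj y₂ v g⁻¹ hv
      rwa [inv_inv] at this
    · have h1 := conj_mem_zpowers g⁻¹ z (u * v) hm
      rw [inv_inv] at h1
      have h2 : g⁻¹ * z * g = x := by rw [← hgz]; group
      have h3 : g⁻¹ * (u * v) * g = g⁻¹ * u * g * (g⁻¹ * v * g) := by group
      rw [h2, h3] at h1
      exact h1
  · obtain ⟨⟨z, hz⟩, ⟨⟨u, v⟩, hu, hv, hm⟩⟩ := p
    simp only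
    set g := c ⟨z, hz⟩ with hg
    have hgz : g * x * g⁻¹ = z := hc ⟨z, hz⟩
    refine ⟨isConj_conj y₁ u g hu, isConj_conj y₂ v g hv, hz, ?_⟩
    have h1 := conj_mem_zpowers g x (u * v) hm
    have h3 : g * (u * v) * g⁻¹ = g * u * g⁻¹ * (g * v * g⁻¹) := by group
    rw [hgz, h3] at h1
    exact h1
  · rintro ⟨⟨u, v, z⟩, hu, hv, hz, hm⟩
    apply Subtype.ext
    simp only
    refine Prod.ext ?_ (Prod.ext ?_ rfl)
    · simp only; group
    · simp only; group
  · rintro ⟨⟨z, hz⟩, ⟨⟨u, v⟩, hu, hv, hm⟩⟩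
    refine Prod.ext rfl ?_
    apply Subtype.ext
    simp only
    refine Prod.ext ?_ ?_
    · simp only; group
    · simp only; group

/-- Thompson Order Formula, two-class case: if every involution of the finite group G is conjugate to exactly one of the non-conjugate involutions x₁, x₂, and nᵢ is the number of pairs (u, v) with u conjugate to x₁, v conjugate to x₂ and xᵢ in the cyclic group generated by uv, then |G| = |C(x₂)| n₁ + |C(x₁)| n₂. -/
theorem result {G : Type*} [Group G] [Finite G] (x₁ x₂ : G) (h₁ : orderOf x₁ = 2) (h₂ : orderOf x₂ = 2) (hnc : ¬ IsConj x₁ x₂) (hall : ∀ t : G, orderOf t = 2 → IsConj x₁ t ∨ IsConj x₂ t) : Nat.card G = Nat.card (Subgroup.centralizer ({x₂} : Set G)) * Nat.card {p : G × G // IsConj x₁ p.1 ∧ IsConj x₂ p.2 ∧ x₁ ∈ Subgroup.zpowers (p.1 * p.2)} + Nat.card (Subgroup.centralizer ({x₁} : Set G)) * Nat.card {p : G × G // IsConj x₁ p.1 ∧ IsConj x₂ p.2 ∧ x₂ ∈ Subgroup.zpowers (p.1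 * p.2)} := by
  classical
  set n₁ := Nat.card {p : G × G // IsConj x₁ p.1 ∧ IsConj x₂ p.2 ∧ x₁ ∈ Subgroup.zpowers (p.1 * p.2)} with hn₁
  set n₂ := Nat.card {p : G × G // IsConj x₁ p.1 ∧ IsConj x₂ p.2 ∧ x₂ ∈ Subgroup.zpowers (p.1 * p.2)} with hn₂
  set a := Nat.card {x : G // IsConj x₁ x} with ha
  set b := Nat.card {x : G // IsConj x₂ x} with hb
  set c₁ := Nat.card (Subgroup.centralizer ({x₁} : Set G)) with hc₁
  set c₂ := Nat.card (Subgroup.centralizer ({x₂} : Set G)) with hc₂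
  have hac : a * c₁ = Nat.card G := Cfsg.Agent.Lib.Lead_Class.card_class_mul_card_centralizer x₁
  have hbc : b * c₂ = Nat.card G := Cfsg.Agent.Lib.Lead_Class.card_class_mul_card_centralizer x₂
  -- the key identity
  have key : a * b = a * n₁ + b * n₂ := by
    -- T₁, T₂
    have e1 := fiber_count x₁ x₁ x₂
    have e2 := fiber_count x₂ x₁ x₂
    rw [← ha, ← hn₁] at e1
    rw [← hb, ← hn₂] at e2
    rw [← e1, ← e2, ← Nat.card_sum, ha, hb, ← Nat.card_prod]
    apply Nat.card_congr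
    -- A × B ≃ T ≃ T₁ ⊕ T₂
    have hdisj : Disjoint
        (fun t : G × G × G => IsConj x₁ t.1 ∧ IsConj x₂ t.2.1 ∧ IsConj x₁ t.2.2 ∧
          t.2.2 ∈ Subgroup.zpowers (t.1 * t.2.1))
        (fun t : G × G × G => IsConj x₁ t.1 ∧ IsConj x₂ t.2.1 ∧ IsConj x₂ t.2.2 ∧
          t.2.2 ∈ Subgroup.zpowers (t.1 * t.2.1)) := by
      rw [Pi.disjoint_iff]
      intro t
      rw [disjoint_iff_inf_le]
      rintro ⟨⟨_, _, h1, _⟩, ⟨_, _, h2, _⟩⟩
      exact hnc (h1.trans h2.symm)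
    refine Equiv.trans ?_ (subtypeOrEquiv _ _ hdisj)
    symm
    refine Equiv.ofBijective (fun t => (⟨t.1.1, ?_⟩, ⟨t.1.2.1, ?_⟩)) ⟨?_, ?_⟩
    · rcases t.2 with h | h
      · exact h.1
      · exact h.1
    · rcases t.2 with h | h
      · exact h.2.1
      · exact h.2.1
    · rintro ⟨⟨u, v, z⟩, ht⟩ ⟨⟨u', v', z'⟩, ht'⟩ hEq
      have hu : u = u' := congrArg (fun p : {x : G // IsConj x₁ x} × {x : G // IsConj x₂ x} => p.1.1) hEq
      have hv : v = v' := congrArg (fun p : {x : G // IsConj x₁ x} × {x : G // IsConj x₂ x} => p.2.1) hEq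
      subst hu hv
      apply Subtype.ext
      refine Prod.ext rfl (Prod.ext rfl ?_)
      have hz : z ∈ Subgroup.zpowers (u * v) ∧ orderOf z = 2 := by
        rcases ht with h | h
        · exact ⟨h.2.2.2, (orderOf_of_isConj h.2.2.1).trans h₁⟩
        · exact ⟨h.2.2.2, (orderOf_of_isConj h.2.2.1).trans h₂⟩
      have hz' : z' ∈ Subgroup.zpowers (u * v) ∧ orderOf z' = 2 := by
        rcases ht' with h | h
        · exact ⟨h.2.2.2, (orderOf_of_isConj h.2.2.1).trans h₁⟩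
        · exact ⟨h.2.2.2, (orderOf_of_isConj h.2.2.1).trans h₂⟩
      exact unique_inv (u * v) z z' hz.1 hz'.1 hz.2 hz'.2
    · rintro ⟨⟨u, hu⟩, ⟨v, hv⟩⟩
      have hou : orderOf u = 2 := (orderOf_of_isConj hu).trans h₁
      have hov : orderOf v = 2 := (orderOf_of_isConj hv).trans h₂
      have hncuv : ¬ IsConj u v := fun h => hnc ((hu.trans h).trans hv.symm)
      obtain ⟨z, hz, hz2⟩ := exists_inv u v hou hov hncuv
      rcases hall z hz2 with h | h
      · exact ⟨⟨(u, v, z), Or.inl ⟨hu, hv, h, hz⟩⟩, rfl⟩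
      · exact ⟨⟨(u, v, z), Or.inr ⟨hu, hv, h, hz⟩⟩, rfl⟩
  -- arithmetic
  have hGpos : 0 < Nat.card G := Nat.card_pos
  have h3 : Nat.card G * Nat.card G = Nat.card G * (c₂ * n₁ + c₁ * n₂) := by
    calc Nat.card G * Nat.card G = (a * c₁) * (b * c₂) := by rw [hac, hbc]
      _ = (a * b) * (c₁ * c₂) := by ring
      _ = (a * n₁ + b * n₂) * (c₁ * c₂) := by rw [key]
      _ = (a * c₁) * (c₂ * n₁) + (b * c₂) * (c₁ * n₂) := by ring
      _ = Nat.card G * (c₂ * n₁ + c₁ * n₂) := by rw [hac, hbc]; ring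
  exact Nat.eq_of_mul_eq_mul_left hGpos h3

end Cfsg.Agent.S0213
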