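import Cfsg.Statements.S0223
import Mathlib

set_option autoImplicit false
open Pointwise
open Cfsg

namespace Cfsg.Agent.S0223

theorem mem_map_conj {G : Type*} [Group G] (H : Subgroup G) (g y : G) :
    y ∈ H.map (MulAut.conj g).toMonoidHom ↔ g⁻¹ * y * g ∈ H := by
  constructor
  · rintro ⟨h, hh, rfl⟩
    simp only [MulEquiv.toMonoidHom_eq_coe, MonoidHom.coe_coe, MulAut.conj_apply]
    have : g⁻¹ * (g * h * g⁻¹) * g = h := by simp [mul_assoc]
    rw [this]; exact hh
  · intro h
    refine ⟨g⁻¹ * y * g, h, ?_⟩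
    simp [MulAut.conj_apply, mul_assoc]

/-- a subgroup of odd order contains no involution -/
theorem no_invol_of_odd {G : Type*} [Group G] [Finite G] (K : Subgroup G) (hK : Odd (Nat.card K))
    (s : G) (hs : s ∈ K) (hs2 : orderOf s = 2) : False := by
  have h1 : orderOf (⟨s, hs⟩ : K) ∣ Nat.card K := orderOf_dvd_natCard _
  rw [Subgroup.orderOf_mk, hs2] at h1
  exact (Nat.not_even_iff_odd.mpr hK) (even_iff_two_dvd.mpr h1)

/-- a subgroup of even order contains an involution -/
theorem exists_invol_of_even {G : Type*} [Group G] [Finite G] (K : Subgroup G)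
    (hK : ¬ Odd (Nat.card K)) : ∃ s ∈ K, orderOf s = 2 := by
  rw [Nat.not_odd_iff_even, even_iff_two_dvd] at hK
  obtain ⟨r, hr⟩ := exists_prime_orderOf_dvd_card' 2 hK
  rw [← Subgroup.orderOf_coe] at hr
  exact ⟨r, r.2, hr⟩

theorem orderOf_conj' {G : Type*} [Group G] (g u : G) : orderOf (g * u * g⁻¹) = orderOf u := by
  have := orderOf_injective (MulAut.conj g).toMonoidHom (MulAut.conj g).injective u
  simpa [MulAut.conj_apply] using this

/-- Let H be a proper subgroup of even order of the finite group G. Then H is strongly embedded if and only if (i) C_G(t) ≤ H for every involution t of H and (ii) H controls fusion of its involutions: involutions of H conjugate in G are conjugate in H. -/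
theorem result {G : Type*} [Group G] [Finite G] (H : Subgroup G) (hH : H ≠ ⊤) (heven : Even (Nat.card H)) : Cfsg.IsStronglyEmbedded H ↔ ((∀ t ∈ H, orderOf t = 2 → Subgroup.centralizer ({t} : Set G) ≤ H) ∧ (∀ t ∈ H, ∀ s ∈ H, orderOf t = 2 → orderOf s = 2 → IsConj t s → ∃ h ∈ H, h * t * h⁻¹ = s)) := by
  constructor
  · rintro ⟨-, -, hSE⟩
    constructor
    · intro t htH ht c hc
      by_contra hcH
      have hodd := hSE c hcH
      apply no_invol_of_odd _ hodd t _ ht
      refine Subgroup.mem_inf.mpr ⟨htH, ?_⟩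
      rw [mem_map_conj]
      have : t * c = c * t := by
        have := (Subgroup.mem_centralizer_iff.mp hc) t (by simp)
        exact this
      have : c⁻¹ * t * c = t := by rw [mul_assoc, this]; simp
      rw [this]; exact htH
    · intro t htH s hsH ht hs hconj
      obtain ⟨g, hg⟩ := isConj_iff.mp hconj
      by_cases hgH : g ∈ H
      · exact ⟨g, hgH, hg⟩
      · exfalso
        have hodd := hSE g hgH
        apply no_invol_of_odd _ hodd s _ hs
        refine Subgroup.mem_inf.mpr ⟨hsH, ?_⟩
        rw [mem_map_conj, ← hg]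
        have : g⁻¹ * (g * t * g⁻¹) * g = t := by simp [mul_assoc]
        rw [this]; exact htH
  · rintro ⟨h1, h2⟩
    refine ⟨hH, heven, ?_⟩
    intro g hgH
    by_contra hnodd
    obtain ⟨s, hsK, hs⟩ := exists_invol_of_even _ hnodd
    obtain ⟨hsH, hsg⟩ := Subgroup.mem_inf.mp hsK
    rw [mem_map_conj] at hsg
    set t := g⁻¹ * s * g with ht
    have hto : orderOf t = 2 := by
      have := orderOf_conj' g⁻¹ s
      rw [inv_inv] at this
      rw [ht, this, hs]
    have hconj : IsConj t s := isConj_iff.mpr ⟨g, by rw [ht]; simp [mul_assoc]⟩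
    obtain ⟨h, hhH, hh⟩ := h2 t hsg s hsH hto hs hconj
    have hgt : g * t * g⁻¹ = s := by rw [ht]; simp [mul_assoc]
    have hc : h⁻¹ * g ∈ Subgroup.centralizer ({t} : Set G) := by
      rw [Subgroup.mem_centralizer_iff]
      intro y hy
      rw [Set.mem_singleton_iff] at hy
      rw [hy]
      have e : h * t * h⁻¹ = g * t * g⁻¹ := hh.trans hgt.symm
      have : t * (h⁻¹ * g) = h⁻¹ * (h * t * h⁻¹) * g := by simp [mul_assoc]
      rw [this, e]; simp [mul_assoc]
    have := h1 t hsg hto hc
    apply hgH
    have h3 := H.mul_mem hhH this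
    simpa using h3

end Cfsg.Agent.S0223
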