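import Cfsg.Statements.S1755
import Cfsg.Agent.S1265
import Cfsg.Agent.S1853

set_option autoImplicit false
open Cfsg

namespace Cfsg.Agent.S1755

/-- a nontrivial finite `2`-group contains an involution -/
theorem exists_involution {A : Type*} [Group A] [Finite A] (hA : IsPGroup 2 A) (hne : Nontrivial A) :
    ∃ u : A, orderOf u = 2 := by
  haveI : Fact (Nat.Prime 2) := ⟨Nat.prime_two⟩
  obtain ⟨k, hk⟩ := hA.exists_card_eq
  have hk0 : k ≠ 0 := by
    rintro rfl
    rw [pow_zero] at hk
    have := (Nat.card_eq_one_iff_unique.mp hk).1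
    exact not_subsingleton A this
  have hdvd : 2 ∣ Nat.card A := by
    rw [hk]; exact dvd_pow_self 2 hk0
  exact exists_prime_orderOf_dvd_card' 2 hdvd

theorem ne_one_of_orderOf_two {A : Type*} [Group A] {u : A} (h : orderOf u = 2) : u ≠ 1 := by
  rintro rfl
  rw [orderOf_one] at h
  omega

theorem sq_of_orderOf_two {A : Type*} [Group A] {u : A} (h : orderOf u = 2) : u ^ 2 = 1 := by
  rw [← h]; exact pow_orderOf_eq_one u

theorem core {G : Type*} [Group G] [Finite G] (C : Subgroup G) (Q : Subgroup ↥C) [hQn : Q.Normal]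
    (hcent : Subgroup.centralizer (Q : Set ↥C) ≤ Q) (z : G) (hz : orderOf z = 2)
    (hC : C = Subgroup.centralizer ({z} : Set G)) (hQ : Cfsg.IsOfSymplecticType ↥Q)
    (B : Subgroup ↥Q) (hBc : B.Characteristic) (hBa : IsMulCommutative ↥B) (g : G) :
    ((B.map Q.subtype).map C.subtype).map (MulAut.conj g).toMonoidHom =
        (B.map Q.subtype).map C.subtype ∨
      ((B.map Q.subtype).map C.subtype).map (MulAut.conj g).toMonoidHom ⊓
        (B.map Q.subtype).map C.subtype = ⊥ := by
  classical
  set Bt : Subgroup G := (B.map Q.subtype).map C.subtype with hBt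
  have hmemBt : ∀ x : G, x ∈ Bt ↔ ∃ b : ↥Q, b ∈ B ∧ ((b : ↥C) : G) = x := by
    intro x
    constructor
    · rintro ⟨c, ⟨b, hb, rfl⟩, rfl⟩
      exact ⟨b, hb, rfl⟩
    · rintro ⟨b, hb, rfl⟩
      exact ⟨(b : ↥C), ⟨b, hb, rfl⟩, rfl⟩
  have hBcyc : IsCyclic ↥B := hQ.2 B hBc hBa
  have hZcyc : IsCyclic ↥(Subgroup.center ↥Q) := hQ.2 _ inferInstance inferInstance
  -- z as an element of C and of Q
  have hzC : z ∈ C := by
    rw [hC, Subgroup.mem_centralizer_singleton_iff]
  set zC : ↥C := ⟨z, hzC⟩ with hzCdef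
  have hzCcent : zC ∈ Subgroup.center ↥C := by
    rw [Subgroup.mem_center_iff]
    intro c
    have hc2 : (c : G) ∈ Subgroup.centralizer ({z} : Set G) := hC ▸ c.2
    have := Subgroup.mem_centralizer_singleton_iff.mp hc2
    exact Subtype.ext this
  have hzQ : zC ∈ Q := by
    apply hcent
    rw [Subgroup.mem_centralizer_iff]
    intro q _
    exact (Subgroup.mem_center_iff.mp hzCcent q)
  set zQ : ↥Q := ⟨zC, hzQ⟩ with hzQdef
  have hzQcent : zQ ∈ Subgroup.center ↥Q := by
    rw [Subgroup.mem_center_iff]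
    intro q
    have := Subgroup.mem_center_iff.mp hzCcent (q : ↥C)
    exact Subtype.ext this
  have hzQne : zQ ≠ 1 := by
    intro h
    have h1 : (zQ : ↥C) = 1 := by rw [h]; rfl
    have h2 : ((zQ : ↥C) : G) = 1 := by rw [h1]; rfl
    have h3 : z = 1 := h2
    exact ne_one_of_orderOf_two hz h3
  have hzQsq : zQ ^ 2 = 1 := by
    apply Subtype.ext
    apply Subtype.ext
    show z ^ 2 = 1
    exact sq_of_orderOf_two hz
  by_cases hBbot : B = ⊥
  · right
    have : Bt = ⊥ := by
      rw [hBt, hBbot, Subgroup.map_bot, Subgroup.map_bot]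
    rw [this, Subgroup.map_bot, bot_inf_eq]
  -- B nontrivial: zQ ∈ B
  have hzB : zQ ∈ B := by
    have hBnt : Nontrivial ↥B := by
      rw [Subgroup.nontrivial_iff_ne_bot]; exact hBbot
    obtain ⟨u, hu⟩ := exists_involution (hQ.1.to_subgroup B) hBnt
    have hune : u ≠ 1 := ne_one_of_orderOf_two hu
    have husq : u ^ 2 = 1 := sq_of_orderOf_two hu
    have hBn : B.Normal := Subgroup.normal_of_characteristic B
    -- u is central in Q
    have hucent : (u : ↥Q) ∈ Subgroup.center ↥Q := by
      rw [Subgroup.mem_center_iff]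
      intro q
      have hconj : q * (u : ↥Q) * q⁻¹ ∈ B := hBn.conj_mem _ u.2 q
      have h1 : (⟨q * (u : ↥Q) * q⁻¹, hconj⟩ : ↥B) ≠ 1 := by
        intro h
        have h2 : q * (u : ↥Q) * q⁻¹ = 1 := congrArg Subtype.val h
        have h3 : (u : ↥Q) = 1 := by
          calc (u : ↥Q) = q⁻¹ * (q * (u : ↥Q) * q⁻¹) * q := by group
            _ = 1 := by rw [h2]; group
        exact hune (Subtype.ext h3)
      have h2 : (⟨q * (u : ↥Q) * q⁻¹, hconj⟩ : ↥B) ^ 2 = 1 := by
        apply Subtype.ext
        show (q * (u : ↥Q) * q⁻¹) ^ 2 = 1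
        have h3 : ((u : ↥Q)) ^ 2 = 1 := by
          have := congrArg Subtype.val husq
          simpa using this
        rw [conj_pow, h3]; group
      have h3 := Cfsg.Agent.S1853.cyclic_unique_inv u ⟨q * (u : ↥Q) * q⁻¹, hconj⟩ hune husq h1 h2
      have h4 : q * (u : ↥Q) * q⁻¹ = u := congrArg Subtype.val h3
      calc q * (u : ↥Q) = (q * (u : ↥Q) * q⁻¹) * q := by group
        _ = u * q := by rw [h4]
    -- u = zQ in the cyclic centre
    have h5 := Cfsg.Agent.S1853.cyclic_unique_inv (A := ↥(Subgroup.center ↥Q))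
      ⟨zQ, hzQcent⟩ ⟨(u : ↥Q), hucent⟩
      (by intro h; exact hzQne (congrArg Subtype.val h))
      (by apply Subtype.ext; exact hzQsq)
      (by
        intro h
        have h' : (u : ↥Q) = 1 := congrArg Subtype.val h
        exact hune (Subtype.ext h'))
      (by
        apply Subtype.ext
        show ((u : ↥Q)) ^ 2 = 1
        have := congrArg Subtype.val husq
        simpa using this)
    have h6 : (u : ↥Q) = zQ := congrArg Subtype.val h5
    rw [← h6]; exact u.2
  -- unique involution of Bt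
  have hBinv : ∀ w ∈ Bt, w ≠ 1 → w ^ 2 = 1 → w = z := by
    intro w hw hw1 hw2
    obtain ⟨b, hb, rfl⟩ := (hmemBt w).mp hw
    have hb1 : (⟨b, hb⟩ : ↥B) ≠ 1 := by
      intro h
      apply hw1
      have : b = 1 := congrArg Subtype.val h
      rw [this]; rfl
    have hb2 : (⟨b, hb⟩ : ↥B) ^ 2 = 1 := by
      apply Subtype.ext
      apply Subtype.ext
      apply Subtype.ext
      exact hw2
    have h := Cfsg.Agent.S1853.cyclic_unique_inv (A := ↥B) ⟨zQ, hzB⟩ ⟨b, hb⟩
      (by intro h; exact hzQne (congrArg Subtype.val h))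
      (by apply Subtype.ext; exact hzQsq) hb1 hb2
    have h' : b = zQ := congrArg Subtype.val h
    rw [h']
  have hBt2 : IsPGroup 2 ↥Bt := ((hQ.1.to_subgroup B).map _).map _
  by_cases hI : Bt.map (MulAut.conj g).toMonoidHom ⊓ Bt = ⊥
  · right; exact hI
  left
  -- an involution in the intersection
  have hInt : Nontrivial ↥(Bt.map (MulAut.conj g).toMonoidHom ⊓ Bt) := by
    rw [Subgroup.nontrivial_iff_ne_bot]; exact hI
  obtain ⟨w, hw⟩ := exists_involution (hBt2.to_le inf_le_right) hInt
  have hw1 : (w : G) ≠ 1 := by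
    intro h; exact ne_one_of_orderOf_two hw (Subtype.ext h)
  have hw2 : (w : G) ^ 2 = 1 := by
    apply sq_of_orderOf_two
    rw [Subgroup.orderOf_coe]; exact hw
  have hwz : (w : G) = z := hBinv _ w.2.2 hw1 hw2
  obtain ⟨v, hv, hvw⟩ := w.2.1
  simp only [MulEquiv.coe_toMonoidHom, MulAut.conj_apply] at hvw
  have hv1 : v ≠ 1 := by
    rintro rfl
    apply hw1
    rw [← hvw]; group
  have hv2 : v ^ 2 = 1 := by
    have : v = g⁻¹ * (w : G) * g := by rw [← hvw]; group
    rw [this]
    have e : g⁻¹ * (w : G) * g = g⁻¹ * (w : G) * g⁻¹⁻¹ := by group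
    rw [e, conj_pow, hw2]; group
  have hvz : v = z := hBinv v hv hv1 hv2
  have hgz : g * z * g⁻¹ = z := by
    calc g * z * g⁻¹ = g * v * g⁻¹ := by rw [hvz]
      _ = (w : G) := hvw
      _ = z := hwz
  have hgC : g ∈ C := by
    rw [hC, Subgroup.mem_centralizer_singleton_iff]
    calc g * z = (g * z * g⁻¹) * g := by group
      _ = z * g := by rw [hgz]
  -- elements of C normalize Bt
  have hnorm : ∀ c ∈ C, ∀ x ∈ Bt, c * x * c⁻¹ ∈ Bt := by
    intro c hc x hx
    obtain ⟨b, hb, rfl⟩ := (hmemBt x).mp hx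
    rw [hmemBt]
    set φ : MulAut ↥Q := MulAut.conjNormal (⟨c, hc⟩ : ↥C) with hφ
    have h1 : φ b ∈ B := by
      have := Subgroup.characteristic_iff_map_eq.mp hBc φ
      rw [← this]
      exact ⟨b, hb, rfl⟩
    refine ⟨φ b, h1, ?_⟩
    rw [hφ, MulAut.conjNormal_apply]
    rfl
  apply le_antisymm
  · rintro _ ⟨x, hx, rfl⟩
    simp only [MulEquiv.coe_toMonoidHom, MulAut.conj_apply]
    exact hnorm g hgC x hx
  · intro x hx
    refine ⟨g⁻¹ * x * g, ?_, ?_⟩
    · have := hnorm g⁻¹ (Subgroup.inv_mem _ hgC) x hx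
      simpa using this
    · simp only [MulEquiv.coe_toMonoidHom, MulAut.conj_apply]
      group

/-- Let G be a finite group and let z be an involution of G such that Q, the generalized Fitting subgroup of the centralizer C of z, is a 2-group of symplectic type (every characteristic abelian subgroup of Q is cyclic). Let B be a characteristic abelian subgroup of Q, viewed as a subgroup of G. Then for every g in G, the conjugate of B by g either equals B or meets B trivially. -/
theorem result {G : Type*} [Group G] [Finite G] (z : G) (hz : orderOf z = 2) (hQ : Cfsg.IsOfSymplecticType ↥(Cfsg.generalizedFittingSubgroup ↥(Subgroup.centralizer ({z} : Set G))))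
    (B : Subgroup ↥(Cfsg.generalizedFittingSubgroup ↥(Subgroup.centralizer ({z} : Set G)))) (hBc : B.Characteristic) (hBa : IsMulCommutative ↥B) (g : G) :
    ((B.map (Cfsg.generalizedFittingSubgroup ↥(Subgroup.centralizer ({z} : Set G))).subtype).map (Subgroup.centralizer ({z} : Set G)).subtype).map (MulAut.conj g).toMonoidHom =
        (B.map (Cfsg.generalizedFittingSubgroup ↥(Subgroup.centralizer ({z} : Set G))).subtype).map (Subgroup.centralizer ({z} : Set G)).subtype ∨
      ((B.map (Cfsg.generalizedFittingSubgroup ↥(Subgroup.centralizer ({z} : Set G))).subtype).map (Subgroup.centralizer ({z} : Set G)).subtype).map (MulAut.conj g).toMonoidHom ⊓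
        (B.map (Cfsg.generalizedFittingSubgroup ↥(Subgroup.centralizer ({z} : Set G))).subtype).map (Subgroup.centralizer ({z} : Set G)).subtype = ⊥ := by
  haveI := Cfsg.Agent.S1265.gf_normal ↥(Subgroup.centralizer ({z} : Set G))
  exact core (Subgroup.centralizer ({z} : Set G)) (Cfsg.generalizedFittingSubgroup ↥(Subgroup.centralizer ({z} : Set G)))
    Cfsg.Agent.S1265.result z hz rfl hQ B hBc hBa g

end Cfsg.Agent.S1755
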