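import Cfsg.Statements.S0214
import Cfsg.Agent.S0223
import Cfsg.Agent.S1755
import Cfsg.Agent.S1960
import Cfsg.Agent.Lib.Helper3_SylowRel
import Cfsg.Agent.Lib.Lead_Coprime

set_option autoImplicit false
open Cfsg

namespace Cfsg.Agent.S0214

open Cfsg.Agent.S0223 Cfsg.Agent.S1755 Cfsg.Agent.Lib.Helper3_SylowRel

/-- Let H be a proper subgroup of the finite group G and P a nontrivial Sylow 2-subgroup of H. Then H is strongly embedded in G if and only if N_G(X) ≤ H for every nontrivial subgroup X of P. -/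
theorem result {G : Type*} [Group G] [Finite G] (H : Subgroup G) (hH : H ≠ ⊤) (P : Sylow 2 ↥H) (hP : (P : Subgroup ↥H) ≠ ⊥) : Cfsg.IsStronglyEmbedded H ↔ (∀ X : Subgroup ↥H, X ≤ (P : Subgroup ↥H) → X ≠ ⊥ → Subgroup.normalizer ((X.map H.subtype : Subgroup G) : Set G) ≤ H) := by
  classical
  haveI : Fact (Nat.Prime 2) := ⟨Nat.prime_two⟩
  constructor
  · rintro ⟨-, -, hSE⟩ X hXP hXne n hn
    by_contra hnH
    have hodd := hSE n hnH
    have hX2 : IsPGroup 2 ↥X := P.2.to_le hXP
    have hXnt : Nontrivial ↥X := (Subgroup.nontrivial_iff_ne_bot X).mpr hXne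
    obtain ⟨v, hv⟩ := exists_involution hX2 hXnt
    have hv' : orderOf (((v : ↥X) : ↥H) : G) = 2 := by
      rw [Subgroup.orderOf_coe, Subgroup.orderOf_coe]; exact hv
    apply no_invol_of_odd _ hodd _ _ hv'
    refine Subgroup.mem_inf.mpr ⟨((v : ↥X) : ↥H).2, ?_⟩
    rw [mem_map_conj]
    have hvX : (((v : ↥X) : ↥H) : G) ∈ X.map H.subtype := ⟨(v : ↥H), v.2, rfl⟩
    have h1 := (Subgroup.mem_normalizer_iff.mp (Subgroup.inv_mem _ hn) _).mp hvX
    rw [inv_inv] at h1
    exact Subgroup.map_subtype_le X h1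
  · intro hN
    set P' : Subgroup G := (P : Subgroup ↥H).map H.subtype with hP'
    have hP'H : P' ≤ H := Subgroup.map_subtype_le _
    have hP'2 : IsPGroup 2 ↥P' := P.2.map _
    have hP'idx : ¬ 2 ∣ P'.relIndex H := by
      show ¬ 2 ∣ (P'.subgroupOf H).index
      have : P'.subgroupOf H = (P : Subgroup ↥H) := by
        rw [hP']
        unfold Subgroup.subgroupOf
        rw [Subgroup.comap_map_eq_self_of_injective (Subgroup.subtype_injective _)]
      rw [this]; exact P.not_dvd_index
    -- (1) normalizers of nontrivial 2-subgroups of H lie in H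
    have h1 : ∀ Y : Subgroup G, Y ≤ H → IsPGroup 2 ↥Y → Y ≠ ⊥ →
        Subgroup.normalizer (Y : Set G) ≤ H := by
      intro Y hYH hY2 hYne
      obtain ⟨m, hmH, hm⟩ := exists_conj_le_of_relIndex H P' Y hP'H hP'2 hP'idx hYH hY2
      set Y' := Y.map (MulAut.conj m).toMonoidHom with hY'
      have hY'P : Y' ≤ P' := by
        rintro _ ⟨q, hq, rfl⟩
        exact hm q hq
      have hY'ne : Y' ≠ ⊥ := by
        intro h
        apply hYne
        rw [eq_bot_iff]
        intro q hq
        have h2 : m * q * m⁻¹ ∈ Y' := ⟨q, hq, rfl⟩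
        rw [h, Subgroup.mem_bot] at h2
        rw [Subgroup.mem_bot]
        calc q = m⁻¹ * (m * q * m⁻¹) * m := by group
          _ = 1 := by rw [h2]; group
      -- Y' as the image of a subgroup of P
      have hY'eq : (Y'.subgroupOf H).map H.subtype = Y' :=
        Subgroup.map_subgroupOf_eq_of_le (hY'P.trans hP'H)
      have h2 := hN (Y'.subgroupOf H) (by
          intro y hy
          have h3 : (y : G) ∈ P' := hY'P (Subgroup.mem_subgroupOf.mp hy)
          obtain ⟨z, hz, hzy⟩ := h3
          have : z = y := Subtype.ext hzy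
          rwa [← this])
        (by
          intro h
          apply hY'ne
          rw [← hY'eq, h, Subgroup.map_bot])
      rw [hY'eq] at h2
      intro n hn
      have h3 : m * n * m⁻¹ ∈ Subgroup.normalizer (Y' : Set G) := by
        apply Cfsg.Agent.S1960.mem_normalizer_of_conj_le'
        rintro _ ⟨q, hq, rfl⟩
        refine ⟨n * q * n⁻¹, (Subgroup.mem_normalizer_iff.mp hn q).mp hq, ?_⟩
        simp only [MulEquiv.coe_toMonoidHom, MulAut.conj_apply]
        group
      have h4 := h2 h3
      have e : n = m⁻¹ * (m * n * m⁻¹) * m := by group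
      rw [e]
      exact H.mul_mem (H.mul_mem (H.inv_mem hmH) h4) hmH
    have hPne' : P' ≠ ⊥ := by
      intro h
      apply hP
      rwa [hP', Subgroup.map_eq_bot_iff_of_injective _ (Subgroup.subtype_injective _)] at h
    refine ⟨hH, ?_, ?_⟩
    · -- even order
      have hnt : Nontrivial ↥P' := (Subgroup.nontrivial_iff_ne_bot _).mpr hPne'
      obtain ⟨v, hv⟩ := exists_involution hP'2 hnt
      have h2 := orderOf_dvd_natCard (⟨(v : G), hP'H v.2⟩ : ↥H)
      rw [Subgroup.orderOf_mk, Subgroup.orderOf_coe, hv] at h2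
      exact even_iff_two_dvd.mpr h2
    · intro g hg
      by_contra hodd
      set K := H ⊓ H.map (MulAut.conj g).toMonoidHom with hK
      obtain ⟨t, htK, ht⟩ := exists_invol_of_even K hodd
      -- maximal 2-subgroup S of K containing t
      let 𝒮 : Set (Subgroup G) := {S | S ≤ K ∧ IsPGroup 2 ↥S}
      have h0 : Subgroup.zpowers t ∈ 𝒮 := by
        refine ⟨(Subgroup.zpowers_le).mpr htK, ?_⟩
        apply IsPGroup.of_card (n := 1)
        rw [Nat.card_zpowers, ht, pow_one]
      obtain ⟨S, hSt, hSmax⟩ := (Set.toFinite 𝒮).exists_le_maximal h0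
      obtain ⟨hSK, hS2⟩ := hSmax.prop
      have hSne : S ≠ ⊥ := by
        intro h
        have h2 : t ∈ S := hSt (Subgroup.mem_zpowers _)
        rw [h, Subgroup.mem_bot] at h2
        exact ne_one_of_orderOf_two ht h2
      have hSH : S ≤ H := hSK.trans inf_le_left
      have hNS : Subgroup.normalizer (S : Set G) ≤ H := h1 S hSH hS2 hSne
      -- S' = g⁻¹ S g ≤ H
      set S' := S.map (MulAut.conj g⁻¹).toMonoidHom with hS'
      have hS'H : S' ≤ H := by
        rintro _ ⟨s, hs, rfl⟩
        have := (mem_map_conj H g s).mp (hSK hs).2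
        simpa using this
      have hS'2 : IsPGroup 2 ↥S' := hS2.map _
      have hS'ne : S' ≠ ⊥ := by
        intro h
        apply hSne
        rw [eq_bot_iff]
        intro q hq
        have h2 : g⁻¹ * q * g⁻¹⁻¹ ∈ S' := ⟨q, hq, rfl⟩
        rw [h, Subgroup.mem_bot] at h2
        rw [Subgroup.mem_bot]
        calc q = g * (g⁻¹ * q * g⁻¹⁻¹) * g⁻¹ := by group
          _ = 1 := by rw [h2]; group
      have hNS' : Subgroup.normalizer (S' : Set G) ≤ H := h1 S' hS'H hS'2 hS'ne
      -- N(S) ≤ H^g
      have hNSg : Subgroup.normalizer (S : Set G) ≤ H.map (MulAut.conj g).toMonoidHom := by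
        intro n hn
        rw [mem_map_conj]
        apply hNS'
        apply Cfsg.Agent.S1960.mem_normalizer_of_conj_le'
        rintro _ ⟨q, hq, rfl⟩
        refine ⟨n * q * n⁻¹, (Subgroup.mem_normalizer_iff.mp hn q).mp hq, ?_⟩
        simp only [MulEquiv.coe_toMonoidHom, MulAut.conj_apply]
        group
      -- S is Sylow in H
      obtain ⟨PS, hPS⟩ := Cfsg.Agent.Lib.Lead_Coprime.sylow_of_self_normalizing 2 hSH hS2 (by
        intro W hSW hW hW2
        have hW𝒮 : W ∈ 𝒮 :=
          ⟨le_inf (hW.trans inf_le_right) ((hW.trans inf_le_left).trans hNSg), hW2⟩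
        exact le_antisymm (hSmax.2 hW𝒮 hSW) hSW)
      have hSidx : ¬ 2 ∣ S.relIndex H := by
        show ¬ 2 ∣ (S.subgroupOf H).index
        have : S.subgroupOf H = (PS : Subgroup ↥H) := by
          rw [← hPS]
          unfold Subgroup.subgroupOf
          rw [Subgroup.comap_map_eq_self_of_injective (Subgroup.subtype_injective _)]
        rw [this]; exact PS.not_dvd_index
      obtain ⟨h, hhH, hh⟩ := exists_conj_le_of_relIndex H S S' hSH hS2 hSidx hS'H hS'2
      have hnorm : h * g⁻¹ ∈ Subgroup.normalizer (S : Set G) := by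
        apply Cfsg.Agent.S1960.mem_normalizer_of_conj_le'
        intro s hs
        have h2 := hh (g⁻¹ * s * g⁻¹⁻¹) ⟨s, hs, rfl⟩
        have e : h * g⁻¹ * s * (h * g⁻¹)⁻¹ = h * (g⁻¹ * s * g⁻¹⁻¹) * h⁻¹ := by group
        rw [e]; exact h2
      have h3 := hNS hnorm
      apply hg
      have e : g = (h⁻¹ * (h * g⁻¹))⁻¹ := by group
      rw [e]
      exact H.inv_mem (H.mul_mem (H.inv_mem hhH) h3)

end Cfsg.Agent.S0214
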