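import Cfsg.Statements.S0216
import Cfsg.Agent.Lib.Lead_Dihedral
import Cfsg.Agent.S0206

set_option autoImplicit false
open Pointwise
open Cfsg

namespace Cfsg.Agent.S0216

open Cfsg.Agent.Lib.Lead_Dihedral

theorem orderOf_conj' {G : Type*} [Group G] (g u : G) : orderOf (g * u * g⁻¹) = orderOf u := by
  have := orderOf_injective (MulAut.conj g).toMonoidHom (MulAut.conj g).injective u
  simpa [MulAut.conj_apply] using this

/-- two involutions whose product has 2-power order generate a 2-group -/
theorem isPGroup_closure {G : Type*} [Group G] [Finite G] (x y : G) (hx : orderOf x = 2)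
    (hy : orderOf y = 2) (a : ℕ) (ha : orderOf (x * y) = 2 ^ a) :
    IsPGroup 2 (Subgroup.closure ({x, y} : Set G)) := by
  by_cases hxy : x = y
  · subst hxy
    have : Subgroup.closure ({x, x} : Set G) = Subgroup.zpowers x := by
      rw [Set.pair_eq_singleton, Subgroup.zpowers_eq_closure]
    rw [this]
    apply IsPGroup.of_card (n := 1)
    rw [Nat.card_zpowers, hx, pow_one]
  · obtain ⟨e⟩ := Cfsg.Agent.S0206.result x y hx hy hxy
    apply IsPGroup.of_card (n := a + 1)
    rw [Nat.card_congr e.toEquiv, DihedralGroup.nat_card, ha, pow_succ, mul_comm]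

/-- For an involution u in a Sylow 2-subgroup P of a finite group G, the following are equivalent: no G-conjugate of u other than u lies in P; every commutator of u with an element of G has odd order. -/
theorem result {G : Type*} [Group G] [Finite G] (P : Sylow 2 G) (u : G) (hu : orderOf u = 2) (huP : u ∈ P) : (∀ g : G, g * u * g⁻¹ ∈ P → g * u * g⁻¹ = u) ↔ (∀ g : G, Odd (orderOf (u * g * u⁻¹ * g⁻¹))) := by
  have hui := inv_eq_self_of_orderOf_two u hu
  have huu := mul_self_of_orderOf_two u hu
  constructor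
  · intro hiso g
    set v := g * u * g⁻¹ with hv
    have hvo : orderOf v = 2 := by rw [hv, orderOf_conj', hu]
    have hvv := mul_self_of_orderOf_two v hvo
    have hcomm : u * g * u⁻¹ * g⁻¹ = u * v := by rw [hv, hui]; simp [mul_assoc]
    rw [hcomm]
    by_contra hodd
    rw [Nat.not_odd_iff_even] at hodd
    obtain ⟨a, m, hm, hn⟩ := Nat.exists_eq_two_pow_mul_odd (orderOf_pos (u * v)).ne'
    have ha : a ≠ 0 := by
      intro h0
      rw [h0, pow_zero, one_mul] at hn
      rw [hn] at hodd
      exact (Nat.not_even_iff_odd.mpr hm) hodd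
    set w := (u * v) ^ m with hw
    have hmpos : 0 < m := hm.pos
    have hwo : orderOf w = 2 ^ a := by
      rw [hw, orderOf_pow' _ hmpos.ne', hn, Nat.gcd_mul_left_left, Nat.mul_div_cancel _ hmpos]
    -- v' = w * u is conjugate to v
    obtain ⟨j, hj⟩ := hm
    have hconj : ∃ c : G, c * u * c⁻¹ = w * u := by
      refine ⟨(u * v) ^ ((j : ℤ) + 1) * g, ?_⟩
      have h1 : (u * v) ^ ((j : ℤ) + 1) * g * u * ((u * v) ^ ((j : ℤ) + 1) * g)⁻¹
          = (u * v) ^ ((j : ℤ) + 1) * v * ((u * v) ^ ((j : ℤ) + 1))⁻¹ := by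
        rw [hv]; simp [mul_assoc]
      rw [h1]
      -- v = u * (u*v); conjugating
      have hvu : v = u * (u * v) := y_eq u v huu
      have h2 : (u * v) ^ ((j : ℤ) + 1) * v * ((u * v) ^ ((j : ℤ) + 1))⁻¹
          = (u * v) ^ (2 * ((j : ℤ) + 1) - 1) * u := by
        rw [← zpow_neg]
        nth_rewrite 2 [hvu]
        rw [mul_assoc ((u * v) ^ ((j : ℤ) + 1)), mul_assoc u, ← zpow_one_add,
          x_mul_zpow u v huu hvv, ← mul_assoc, ← zpow_add]
        congr 2
        ring
      rw [h2, hw, ← zpow_natCast]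
      congr 2
      rw [hj]; push_cast; ring
    obtain ⟨c, hc⟩ := hconj
    have hv'o : orderOf (w * u) = 2 := by rw [← hc, orderOf_conj', hu]
    have hprod : orderOf (w * u * u) = 2 ^ a := by rw [mul_assoc, huu, mul_one, hwo]
    have hS := isPGroup_closure (w * u) u hv'o hu a hprod
    obtain ⟨Q, hQ⟩ := hS.exists_le_sylow
    obtain ⟨h, hh⟩ := MulAction.exists_smul_eq G Q P
    -- conjugate into P
    have key : ∀ z ∈ (Q : Subgroup G), h * z * h⁻¹ ∈ P := by
      intro z hz
      rw [← hh]
      show h * z * h⁻¹ ∈ (MulAut.conj h • (Q : Subgroup G))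
      have := Subgroup.smul_mem_pointwise_smul z (MulAut.conj h) (Q : Subgroup G) hz
      rwa [MulAut.smul_def, MulAut.conj_apply] at this
    have hu_in : u ∈ (Q : Subgroup G) := hQ (Subgroup.subset_closure (by simp))
    have hv'_in : w * u ∈ (Q : Subgroup G) := hQ (Subgroup.subset_closure (by simp))
    have e1 := hiso h (key u hu_in)
    have e2 : h * (w * u) * h⁻¹ = u := by
      have h3 : h * (w * u) * h⁻¹ = (h * c) * u * (h * c)⁻¹ := by
        rw [← hc]; simp [mul_assoc]
      rw [h3]
      apply hiso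
      rw [← h3]
      exact key _ hv'_in
    have e3 : w * u = u := by
      have := e2.trans e1.symm
      have := congrArg (fun t => h⁻¹ * t * h) this
      simpa [mul_assoc] using this
    have hw1 : w = 1 := by
      have := congrArg (· * u) e3
      simpa [mul_assoc, huu] using this
    rw [hw1, orderOf_one] at hwo
    have : 2 ^ a ≥ 2 := by
      calc 2 ^ a ≥ 2 ^ 1 := Nat.pow_le_pow_right (by norm_num) (Nat.one_le_iff_ne_zero.mpr ha)
        _ = 2 := by norm_num
    omega
  · intro hodd g hg
    set v := g * u * g⁻¹ with hv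
    have hcomm : u * g * u⁻¹ * g⁻¹ = u * v := by rw [hv, hui]; simp [mul_assoc]
    have h1 := hodd g
    rw [hcomm] at h1
    have huv : u * v ∈ (P : Subgroup G) := Subgroup.mul_mem _ huP hg
    obtain ⟨k, hk⟩ := (IsPGroup.iff_orderOf.mp P.2) ⟨u * v, huv⟩
    rw [Subgroup.orderOf_mk] at hk
    have hk0 : k = 0 := by
      by_contra hne
      rw [hk] at h1
      exact (Nat.not_even_iff_odd.mpr h1) ((Nat.even_pow' hne).mpr even_two)
    rw [hk0, pow_zero, orderOf_eq_one_iff] at hk
    have := eq_inv_of_mul_eq_one_right hk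
    rw [hui] at this
    exact this

end Cfsg.Agent.S0216
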