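import Cfsg.Statements.S0219
import Mathlib

set_option autoImplicit false
open Pointwise
open Cfsg

namespace Cfsg.Agent.S0219

/-- a surjective hom onto a group of even prime-power order gives an index 2 subgroup -/
theorem index_two_of_surj {G T : Type*} [Group G] [Group T] [Finite T] (φ : G →* T)
    (hφ : Function.Surjective φ) (hT : IsPGroup 2 T) (h2 : 2 ∣ Nat.card T) :
    ∃ H : Subgroup G, H.index = 2 := by
  obtain ⟨a, ha⟩ := hT.exists_card_eq
  have ha1 : 1 ≤ a := by
    rcases a with _ | a
    · rw [pow_zero] at ha; rw [ha] at h2; omega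
    · omega
  obtain ⟨T', hT'⟩ := Sylow.exists_subgroup_card_pow_prime_of_le_card (n := a - 1) Nat.prime_two hT
    (by rw [ha]; exact Nat.pow_le_pow_right (by norm_num) (by omega))
  refine ⟨T'.comap φ, ?_⟩
  rw [Subgroup.index_comap_of_surjective _ hφ]
  have := Subgroup.card_mul_index T'
  rw [hT', ha] at this
  have h3 : (2 : ℕ) ^ a = 2 ^ (a - 1) * 2 := by
    rw [← pow_succ]; congr 1; omega
  rw [h3] at this
  exact Nat.eq_of_mul_eq_mul_left (by positivity) this

/-- If a finite group has even order and a cyclic Sylow 2-subgroup, then it has a subgroup of index 2 (consider the parity of permutations in the regular representation). -/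
theorem result {G : Type*} [Group G] [Finite G] (heven : Even (Nat.card G)) (T : Sylow 2 G) (hT : IsCyclic (T : Subgroup G)) : ∃ H : Subgroup G, H.index = 2 := by
  have h2 : 2 ∣ Nat.card G := even_iff_two_dvd.mp heven
  have hmin : (Nat.card G).minFac = 2 := (Nat.minFac_eq_two_iff _).mpr h2
  have hT' : IsCyclic T := hT
  have hc := IsCyclic.isComplement' hmin hT'
  set φ := MonoidHom.transferSylow T (hT'.normalizer_le_centralizer hmin) with hφ
  have hsurj : Function.Surjective φ := by
    rw [← MonoidHom.range_eq_top, ← Subgroup.card_eq_iff_eq_top]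
    have h1 := hc.card_mul_card
    have h3 := Subgroup.card_mul_index φ.ker
    rw [Subgroup.index_ker] at h3
    have hpos : 0 < Nat.card φ.ker := Nat.card_pos
    have : Nat.card φ.ker * Nat.card φ.range = Nat.card φ.ker * Nat.card (T : Subgroup G) := by
      rw [h3, h1]
    exact Nat.eq_of_mul_eq_mul_left hpos this
  exact index_two_of_surj φ hsurj T.2 (T.dvd_card_of_dvd_card h2)

end Cfsg.Agent.S0219
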