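import Cfsg.Statements.S0220
import Cfsg.Agent.Lib.Lead_Dihedral
import Cfsg.Agent.S0219
import Cfsg.Agent.S0216

set_option autoImplicit false
open Pointwise
open Cfsg

namespace Cfsg.Agent.S0220

open Cfsg.Agent.Lib.Lead_Dihedral

/-- in a finite cyclic group, any two elements of order two coincide -/
theorem unique_involution {C : Type*} [Group C] [Finite C] [IsCyclic C] (a b : C)
    (ha : orderOf a = 2) (hb : orderOf b = 2) : a = b := by
  classical
  have := Fintype.ofFinite C
  by_contra hab
  have h := IsCyclic.card_pow_eq_one_le (α := C) (n := 2) (by norm_num)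
  have ha1 : a ≠ 1 := by intro h1; rw [h1, orderOf_one] at ha; omega
  have hb1 : b ≠ 1 := by intro h1; rw [h1, orderOf_one] at hb; omega
  have hsub : ({1, a, b} : Finset C) ⊆ Finset.univ.filter (fun c : C => c ^ 2 = 1) := by
    intro c hc
    simp only [Finset.mem_insert, Finset.mem_singleton] at hc
    simp only [Finset.mem_filter, Finset.mem_univ, true_and]
    rcases hc with rfl | rfl | rfl
    · simp
    · rw [← ha]; exact pow_orderOf_eq_one _
    · rw [← hb]; exact pow_orderOf_eq_one _
  have hcard : ({1, a, b} : Finset C).card = 3 := by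
    rw [Finset.card_insert_of_notMem, Finset.card_insert_of_notMem, Finset.card_singleton]
    · simpa using hab
    · simp only [Finset.mem_insert, Finset.mem_singleton, not_or]
      exact ⟨ha1.symm, hb1.symm⟩
  have := Finset.card_le_card hsub
  omega

theorem main {G : Type*} [Group G] [Finite G] (x : G) (hx : orderOf x = 2) (C : Subgroup G)
    (hC : C = Subgroup.centralizer ({x} : Set G)) (S : Sylow 2 ↥C)
    (hS : IsCyclic (S : Subgroup ↥C)) : ∃ H : Subgroup G, H.index = 2 := by
  have hxC : x ∈ C := by
    rw [hC, Subgroup.mem_centralizer_iff]; simp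
  have memC : ∀ y : G, y ∈ C ↔ x * y = y * x := by
    intro y
    rw [hC, Subgroup.mem_centralizer_iff]
    simp
  set xc : C := ⟨x, hxC⟩ with hxc
  have hxco : orderOf xc = 2 := by rw [← Subgroup.orderOf_coe]; exact hx
  -- xc ∈ S
  have hxS : xc ∈ (S : Subgroup C) := by
    have hn : (Subgroup.zpowers xc).Normal := by
      constructor
      intro n hn g
      have : g * n * g⁻¹ = n := by
        obtain ⟨k, rfl⟩ := Subgroup.mem_zpowers_iff.mp hn
        have hgx : Commute g xc := by
          have := (memC g.1).mp g.2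
          exact Subtype.ext this.symm
        have := (hgx.zpow_right k).eq
        rw [this]; simp
      rw [this]; exact hn
    have hp : IsPGroup 2 (Subgroup.zpowers xc) := by
      apply IsPGroup.of_card (n := 1)
      rw [Nat.card_zpowers, hxco, pow_one]
    exact (hp.le_sylow_of_normal S) (Subgroup.mem_zpowers xc)
  set S' : Subgroup G := (S : Subgroup C).map C.subtype with hS'
  have hS'p : IsPGroup 2 S' := S.2.map _
  have hS'C : S' ≤ C := by
    rintro _ ⟨s, -, rfl⟩
    exact s.2
  obtain ⟨P, hP⟩ := hS'p.exists_le_sylow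
  have hxS' : x ∈ S' := ⟨xc, hxS, rfl⟩
  -- P ⊓ C ≤ S'
  have hPC : (P : Subgroup G) ⊓ C ≤ S' := by
    intro g hg
    set Q : Subgroup C := ((P : Subgroup G) ⊓ C).comap C.subtype with hQ
    have hQp : IsPGroup 2 Q := (P.2.to_le inf_le_left).comap_of_injective _ C.subtype_injective
    have hSQ : (S : Subgroup C) ≤ Q := by
      intro s hs
      rw [hQ, Subgroup.mem_comap]
      exact ⟨hP ⟨s, hs, rfl⟩, s.2⟩
    have hQS : Q = S := S.is_maximal' hQp hSQ
    have : (⟨g, hg.2⟩ : C) ∈ Q := by
      rw [hQ, Subgroup.mem_comap]; exact hg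
    rw [hQS] at this
    exact ⟨⟨g, hg.2⟩, this, rfl⟩
  -- unique involution in S'
  have huniq : ∀ z ∈ S', orderOf z = 2 → z = x := by
    rintro _ ⟨s, hs, rfl⟩ hz
    have := hS
    have h1 : orderOf (⟨s, hs⟩ : (S : Subgroup C)) = 2 := by
      rw [← Subgroup.orderOf_coe, ← Subgroup.orderOf_coe]; exact hz
    have h2 : orderOf (⟨xc, hxS⟩ : (S : Subgroup C)) = 2 := by
      rw [← Subgroup.orderOf_coe]; exact hxco
    have := unique_involution _ _ h1 h2
    have := congrArg (fun t : (S : Subgroup C) => ((t : C) : G)) this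
    exact this
  -- P ≤ S'
  have hPS' : (P : Subgroup G) ≤ S' := by
    by_contra hnot
    set H : Subgroup (P : Subgroup G) := S'.subgroupOf (P : Subgroup G) with hH
    have hHtop : H < ⊤ := by
      rw [lt_top_iff_ne_top]
      intro h
      apply hnot
      intro g hg
      have : (⟨g, hg⟩ : (P : Subgroup G)) ∈ H := by rw [h]; trivial
      exact Subgroup.mem_subgroupOf.mp this
    haveI : Group.IsNilpotent (P : Subgroup G) := P.2.isNilpotent
    have hnc : NormalizerCondition (P : Subgroup G) := normalizerCondition_of_isNilpotent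
    have hlt := hnc H hHtop
    obtain ⟨y, hyN, hyH⟩ := SetLike.exists_of_lt hlt
    apply hyH
    rw [hH, Subgroup.mem_subgroupOf]
    apply hPC
    refine Subgroup.mem_inf.mpr ⟨y.2, ?_⟩
    rw [memC]
    -- y x y⁻¹ ∈ S' and is an involution
    have hxH : (⟨x, hP hxS'⟩ : (P : Subgroup G)) ∈ H := Subgroup.mem_subgroupOf.mpr hxS'
    have h1 := (Subgroup.mem_normalizer_iff.mp hyN _).mp hxH
    rw [hH, Subgroup.mem_subgroupOf] at h1
    have h2 : (y : G) * x * (y : G)⁻¹ ∈ S' := h1
    have h3 : orderOf ((y : G) * x * (y : G)⁻¹) = 2 := by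
      rw [Cfsg.Agent.S0216.orderOf_conj', hx]
    have h4 := huniq _ h2 h3
    have := congrArg (· * (y : G)) h4
    simp only [inv_mul_cancel_right] at this
    exact this.symm
  have hPeq : (P : Subgroup G) = S' := le_antisymm hPS' hP
  have hPcyc : IsCyclic (P : Subgroup G) := by
    rw [hPeq]
    have := hS
    exact isCyclic_of_surjective _
      ((S : Subgroup C).equivMapOfInjective C.subtype C.subtype_injective).surjective
  have heven : Even (Nat.card G) := by
    rw [even_iff_two_dvd, ← hx]; exact orderOf_dvd_natCard x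
  exact Cfsg.Agent.S0219.result heven P hPcyc

/-- If x is an involution of a finite group G and a Sylow 2-subgroup of the centralizer of x is cyclic, then G has a subgroup of index 2; in particular G is not simple unless it has order 2. -/
theorem result {G : Type*} [Group G] [Finite G] (x : G) (hx : orderOf x = 2) (S : Sylow 2 ↥(Subgroup.centralizer ({x} : Set G))) (hS : IsCyclic (S : Subgroup ↥(Subgroup.centralizer ({x} : Set G)))) : ∃ H : Subgroup G, H.index = 2 :=
  main x hx _ rfl S hS

end Cfsg.Agent.S0220
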