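import Cfsg.Statements.S0221
import Mathlib
import Cfsg.Agent.Lib.Helper5_NormalFour
import Cfsg.Agent.Lib.Helper5_ThompsonExt
import Cfsg.Agent.Lib.Helper5_Sylow

set_option autoImplicit false
open Cfsg

namespace Cfsg.Agent.S0221

/-- Let G be a finite group with no subgroup of index 2 whose 2-rank is at least 3 (it contains an elementary abelian subgroup of order 8). Then the centralizer of every involution of G also contains an elementary abelian subgroup of order 8. -/
theorem result {G : Type*} [Group G] [Finite G] (hno : ∀ H : Subgroup G, H.index ≠ 2) (hrank : ∃ E : Subgroup G, Nat.card E = 8 ∧ ∀ e ∈ E, e ^ 2 = 1) (x : G) (hx : orderOf x = 2) : ∃ E : Subgroup G, E ≤ Subgroup.centralizer ({x} : Set G) ∧ Nat.card E = 8 ∧ ∀ e ∈ E, e ^ 2 = 1 := by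
  haveI : Fact (Nat.Prime 2) := ⟨Nat.prime_two⟩
  obtain ⟨E, hE8, hE⟩ := hrank
  obtain ⟨S⟩ : Nonempty (Sylow 2 G) := inferInstance
  have hEp : IsPGroup 2 E := IsPGroup.of_card (n := 3) (by rw [hE8]; norm_num)
  obtain ⟨h, hh⟩ := Cfsg.Agent.Lib.Helper5_Sylow.exists_conj_le_sylow hEp S
  set E' := E.map (MulAut.conj h).toMonoidHom with hE'
  set E₁ : Subgroup S := E'.subgroupOf S with hE₁
  have hcard₁ : Nat.card E₁ = 8 := by
    rw [hE₁, Nat.card_congr (Subgroup.subgroupOfEquivOfLe hh).toEquiv, hE',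
      Subgroup.card_map_of_injective (MulAut.conj h).injective, hE8]
  have hexp₁ : ∀ e ∈ E₁, e ^ 2 = 1 := by
    intro e he
    have he' : (e : G) ∈ E' := he
    obtain ⟨e₀, he₀, he₀'⟩ := he'
    apply Subtype.ext
    rw [Subgroup.coe_pow, Subgroup.coe_one, ← he₀', ← map_pow, hE e₀ he₀, map_one]
  obtain ⟨M, hMidx, hMgood⟩ :=
    Cfsg.Agent.Lib.Helper5_NormalFour.exists_good_subgroup S.isPGroup' E₁ hcard₁ hexp₁
  set Q : Subgroup G := M.map (S : Subgroup G).subtype with hQ
  have hx2 : x ^ 2 = 1 := by rw [← hx]; exact pow_orderOf_eq_one x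
  obtain ⟨g, hgQ⟩ : ∃ g : G, g * x * g⁻¹ ∈ Q := by
    rcases hMidx with hM | hM
    · have hxp : IsPGroup 2 (Subgroup.zpowers x) := by
        apply IsPGroup.of_card (n := 1)
        rw [Nat.card_zpowers, hx, pow_one]
      obtain ⟨g, hg⟩ := Cfsg.Agent.Lib.Helper5_Sylow.exists_conj_le_sylow hxp S
      refine ⟨g, ?_⟩
      have h1 : g * x * g⁻¹ ∈ (S : Subgroup G) :=
        hg ⟨x, Subgroup.mem_zpowers x, by simp [MulAut.conj_apply]⟩
      rw [hQ, hM]
      exact ⟨⟨_, h1⟩, Subgroup.mem_top _, rfl⟩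
    · have hQi : Q.relIndex (S : Subgroup G) = 2 := by
        have : Q.subgroupOf (S : Subgroup G) = M := by
          rw [hQ]
          ext y
          rw [Subgroup.mem_subgroupOf]
          constructor
          · rintro ⟨y', hy', hyy'⟩
            have : y' = y := Subtype.ext hyy'
            rw [← this]; exact hy'
          · intro hy
            exact ⟨y, hy, rfl⟩
        rw [Subgroup.relIndex, this, hM]
      obtain ⟨g, hg, -⟩ := Cfsg.Agent.Lib.Helper5_ThompsonExt.thompson_extremal S Q hQi x hx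
        (fun M' _ hM'i => absurd hM'i (hno M'))
      exact ⟨g, hg⟩
  obtain ⟨y₀, hy₀M, hy₀⟩ := hgQ
  have hy₀' : (y₀ : G) = g * x * g⁻¹ := hy₀
  have hy₀2 : y₀ * y₀ = 1 := by
    apply Subtype.ext
    rw [Subgroup.coe_mul, Subgroup.coe_one, hy₀']
    calc g * x * g⁻¹ * (g * x * g⁻¹) = g * (x * x) * g⁻¹ := by group
      _ = 1 := by rw [← pow_two, hx2]; group
  obtain ⟨F, hFc, hF8, hF2⟩ := hMgood y₀ hy₀M hy₀2
  refine ⟨(F.map (S : Subgroup G).subtype).map (MulAut.conj g⁻¹).toMonoidHom, ?_, ?_, ?_⟩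
  · rintro _ ⟨_, ⟨f, hf, rfl⟩, rfl⟩
    rw [Subgroup.mem_centralizer_iff]
    intro x' hx'
    rw [Set.mem_singleton_iff] at hx'; subst hx'
    have h1 := Subgroup.mem_centralizer_iff.mp (hFc hf) y₀ (Set.mem_singleton _)
    have h2 : (g * x' * g⁻¹) * (f : G) = (f : G) * (g * x' * g⁻¹) := by
      rw [← hy₀']
      exact congrArg Subtype.val h1
    simp only [MulEquiv.coe_toMonoidHom, MulAut.conj_apply, Subgroup.coe_subtype, inv_inv]
    calc x' * (g⁻¹ * (f : G) * g) = g⁻¹ * ((g * x' * g⁻¹) * (f : G)) * g := by group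
      _ = g⁻¹ * ((f : G) * (g * x' * g⁻¹)) * g := by rw [h2]
      _ = g⁻¹ * (f : G) * g * x' := by group
  · rw [Subgroup.card_map_of_injective (MulAut.conj g⁻¹).injective,
      Subgroup.card_map_of_injective (Subgroup.subtype_injective _), hF8]
  · rintro _ ⟨_, ⟨f, hf, rfl⟩, rfl⟩
    rw [← map_pow, ← map_pow, hF2 f hf, map_one, map_one]

end Cfsg.Agent.S0221
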