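import Cfsg.Statements.S0224
import Cfsg.Agent.S0223
import Mathlib

set_option autoImplicit false
open Pointwise
open Cfsg

namespace Cfsg.Agent.S0224

open Cfsg.Agent.S0223

theorem fixes_iff {G : Type*} [Group G] (H : Subgroup G) (t g : G) :
    t • (g : G ⧸ H) = (g : G ⧸ H) ↔ g⁻¹ * t * g ∈ H := by
  rw [MulAction.Quotient.smul_coe, smul_eq_mul, eq_comm, QuotientGroup.eq, ← mul_assoc]

/-- Let H be a proper subgroup of even order of the finite group G. Then H is strongly embedded if and only if each involution of H fixes exactly one point (namely the coset H) in the action of G on the cosets of H. -/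
theorem result {G : Type*} [Group G] [Finite G] (H : Subgroup G) (hH : H ≠ ⊤) (heven : Even (Nat.card H)) : Cfsg.IsStronglyEmbedded H ↔ ∀ t ∈ H, orderOf t = 2 → Nat.card {c : G ⧸ H // t • c = c} = 1 := by
  constructor
  · rintro ⟨-, -, hSE⟩ t htH ht
    rw [Nat.card_eq_one_iff_unique]
    constructor
    · constructor
      rintro ⟨c, hc⟩ ⟨d, hd⟩
      apply Subtype.ext
      simp only
      have key : ∀ c : G ⧸ H, t • c = c → c = ((1 : G) : G ⧸ H) := by
        intro c hc
        induction c using QuotientGroup.induction_on with | _ g => ?_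
        rw [fixes_iff] at hc
        by_cases hgH : g ∈ H
        · rw [QuotientGroup.eq]; simpa using H.inv_mem hgH
        · exfalso
          have hodd := hSE g hgH
          apply no_invol_of_odd _ hodd t _ ht
          exact Subgroup.mem_inf.mpr ⟨htH, (mem_map_conj H g t).mpr hc⟩
      rw [key c hc, key d hd]
    · refine ⟨⟨((1 : G) : G ⧸ H), ?_⟩⟩
      rw [fixes_iff]; simpa using htH
  · intro h
    refine ⟨hH, heven, ?_⟩
    intro g hgH
    by_contra hnodd
    obtain ⟨s, hsK, hs⟩ := exists_invol_of_even _ hnodd
    obtain ⟨hsH, hsg⟩ := Subgroup.mem_inf.mp hsK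
    rw [mem_map_conj] at hsg
    have h1 := h s hsH hs
    rw [Nat.card_eq_one_iff_unique] at h1
    obtain ⟨hsub, -⟩ := h1
    have f1 : s • ((1 : G) : G ⧸ H) = ((1 : G) : G ⧸ H) := by
      rw [fixes_iff]; simpa using hsH
    have f2 : s • ((g : G) : G ⧸ H) = ((g : G) : G ⧸ H) := by
      rw [fixes_iff]; exact hsg
    have := hsub.elim ⟨_, f1⟩ ⟨_, f2⟩
    have := congrArg Subtype.val this
    simp only at this
    rw [QuotientGroup.eq] at this
    apply hgH
    simpa using this

end Cfsg.Agent.S0224
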