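import Cfsg.Statements.S0226
import Mathlib

set_option autoImplicit false
open Pointwise
open Cfsg

namespace Cfsg.Agent.S0226

/-- A finite group of even order has an odd number of involutions. -/
theorem result {G : Type*} [Group G] [Finite G] (heven : Even (Nat.card G)) : Odd (Nat.card {t : G // orderOf t = 2}) := by
  classical
  have := Fintype.ofFinite G
  haveI : Fact (Nat.Prime 2) := ⟨Nat.prime_two⟩
  let σ : Equiv.Perm G := Equiv.inv G
  have hσ : σ ^ 2 ^ 1 = 1 := by
    ext x
    simp [σ, pow_succ]
  have h1 := Equiv.Perm.card_compl_support_modEq hσ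
  rw [← Nat.card_eq_fintype_card] at h1
  have h2 : σ.supportᶜ = insert (1 : G) (Finset.univ.filter (fun t : G => orderOf t = 2)) := by
    ext x
    simp only [Finset.mem_compl, Equiv.Perm.mem_support, not_not, Finset.mem_insert,
      Finset.mem_filter, Finset.mem_univ, true_and, σ, Equiv.inv_apply]
    constructor
    · intro h
      by_cases hx : x = 1
      · exact Or.inl hx
      · right
        apply orderOf_eq_prime _ hx
        rw [sq]; nth_rewrite 1 [← h]; simp
    · rintro (rfl | h)
      · simp
      · have : x ^ 2 = 1 := by rw [← h]; exact pow_orderOf_eq_one x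
        rw [inv_eq_iff_mul_eq_one, ← sq]; exact this
  have h3 : (1 : G) ∉ Finset.univ.filter (fun t : G => orderOf t = 2) := by simp
  rw [h2, Finset.card_insert_of_notMem h3] at h1
  have h4 : Nat.card {t : G // orderOf t = 2} = (Finset.univ.filter (fun t : G => orderOf t = 2)).card := by
    rw [Nat.card_eq_fintype_card, Fintype.card_subtype]
  rw [h4]
  have h5 : ((Finset.univ.filter (fun t : G => orderOf t = 2)).card + 1) % 2 = 0 := by
    have := h1
    unfold Nat.ModEq at this
    rw [this]
    exact Nat.even_iff.mp heven
  rw [Nat.odd_iff]; omega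

end Cfsg.Agent.S0226
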