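import Cfsg.Statements.S0229
import Cfsg.Agent.Lib.Lead_Dihedral
import Cfsg.Agent.S0208
import Cfsg.Agent.S0209
import Cfsg.Agent.S0211
import Cfsg.Agent.S0216

set_option autoImplicit false
open Pointwise
open Cfsg

namespace Cfsg.Agent.S0229

open Cfsg.Agent.Lib.Lead_Dihedral

/-- Let t be an involution of a Sylow 2-subgroup S of a finite group G, conjugate in G to no other element of S, and let s be an involution of G not conjugate to t. Then the order of st is twice an odd number. -/
theorem result {G : Type*} [Group G] [Finite G] (S : Sylow 2 G) (t : G) (ht : orderOf t = 2) (htS : t ∈ S) (hiso : ∀ g : G, g * t * g⁻¹ ∈ S → g * t * g⁻¹ = t) (s : G) (hs : orderOf s = 2) (hns : ¬ IsConj s t) : orderOf (s * t) % 4 = 2 := by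
  have hti := inv_eq_self_of_orderOf_two t ht
  have htt := mul_self_of_orderOf_two t ht
  have hsi := inv_eq_self_of_orderOf_two s hs
  have hord : orderOf (t * s) = orderOf (s * t) := by
    have h1 : t * s = t * (s * t) * t⁻¹ := by simp [mul_assoc]
    rw [h1, Cfsg.Agent.S0216.orderOf_conj']
  rcases Nat.even_or_odd (orderOf (s * t)) with heven | hodd
  · by_cases h4 : 4 ∣ orderOf (s * t)
    · exfalso
      have heven' : Even (orderOf (t * s)) := hord ▸ heven
      have h4' : 4 ∣ orderOf (t * s) := hord ▸ h4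
      obtain ⟨d, -, hd⟩ := (Cfsg.Agent.S0211.result t s ht hs heven').mpr h4'
      obtain ⟨hz2, hzt, -⟩ := Cfsg.Agent.S0209.result t s ht hs heven'
      set z := (t * s) ^ (orderOf (t * s) / 2) with hz
      have hzi := inv_eq_self_of_orderOf_two z hz2
      have hodd := (Cfsg.Agent.S0216.result S t ht htS).mp hiso d
      have hc : t * d * t⁻¹ * d⁻¹ = z := by
        have h1 : t * d * t⁻¹ * d⁻¹ = t * (d * t * d⁻¹)⁻¹ := by simp [mul_assoc]
        rw [h1, hd, mul_inv_rev, hzi, hti, ← mul_assoc, hzt.eq.symm, mul_assoc, htt, mul_one]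
      rw [hc, hz2] at hodd
      exact absurd hodd (by decide)
    · rcases heven with ⟨k, hk⟩
      omega
  · exfalso
    obtain ⟨d, -, hd⟩ := Cfsg.Agent.S0208.result s t hs ht hodd
    exact hns (isConj_iff.mpr ⟨d, hd⟩)

end Cfsg.Agent.S0229
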