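import Cfsg.Statements.S0230
import Mathlib
import Cfsg.Agent.Lib.Lead_Class
import Cfsg.Agent.S0208
import Cfsg.Agent.S0209

set_option autoImplicit false
open Cfsg

namespace Cfsg.Agent.S0230

/-- Let G be a finite group with two non-conjugate involutions, and let t be an involution whose centralizer has maximal order among centralizers of involutions. Then |G| < |C_G(t)|^3. -/
theorem result {G : Type*} [Group G] [Finite G] (s t : G) (hs : orderOf s = 2) (ht : orderOf t = 2) (hnc : ¬ IsConj s t) (hmax : ∀ u : G, orderOf u = 2 → Nat.card (Subgroup.centralizer ({u} : Set G)) ≤ Nat.card (Subgroup.centralizer ({t} : Set G))) : Nat.card G < Nat.card (Subgroup.centralizer ({t} : Set G)) ^ 3 := by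
  classical
  haveI := Fintype.ofFinite G
  have hclass := Cfsg.Agent.Lib.Lead_Class.card_class_mul_card_centralizer t
  -- the class of t is covered by centralizers of involutions of C(s)
  have hcover : ∀ x : G, IsConj t x → ∃ z : G, orderOf z = 2 ∧ z ∈ Subgroup.centralizer ({s} : Set G) ∧
      x ∈ Subgroup.centralizer ({z} : Set G) := by
    intro x hx
    obtain ⟨c, hc⟩ := isConj_iff.mp hx
    have hxo : orderOf x = 2 := by
      rw [← hc]
      have := orderOf_injective (MulAut.conj c).toMonoidHom (MulAut.conj c).injective t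
      simp only [MulEquiv.coe_toMonoidHom, MulAut.conj_apply] at this
      rw [this, ht]
    have hnc' : ¬ IsConj s x := fun h => hnc (h.trans hx.symm)
    have heven : Even (orderOf (s * x)) := by
      by_contra hodd
      rw [Nat.not_even_iff_odd] at hodd
      obtain ⟨d, -, hd⟩ := Cfsg.Agent.S0208.result s x hs hxo hodd
      exact hnc' (isConj_iff.mpr ⟨d, hd⟩)
    obtain ⟨hz2, hzs, hzx⟩ := Cfsg.Agent.S0209.result s x hs hxo heven
    refine ⟨_, hz2, ?_, ?_⟩
    · rw [Subgroup.mem_centralizer_iff]
      intro h hh
      rw [Set.mem_singleton_iff] at hh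
      rw [hh]; exact hzs.eq.symm
    · rw [Subgroup.mem_centralizer_iff]
      intro h hh
      rw [Set.mem_singleton_iff] at hh
      rw [hh]; exact hzx.eq
  -- counting
  have hT : Nat.card {x : G // IsConj t x} = (Finset.univ.filter (fun x : G => IsConj t x)).card := by
    rw [Nat.card_eq_fintype_card, Fintype.card_subtype]
  have hsub : Finset.univ.filter (fun x : G => IsConj t x) ⊆
      (Finset.univ.filter (fun z : G => orderOf z = 2 ∧ z ∈ Subgroup.centralizer ({s} : Set G))).biUnion
        (fun z => Finset.univ.filter (fun x : G => x ∈ Subgroup.centralizer ({z} : Set G))) := by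
    intro x hx
    rw [Finset.mem_filter] at hx
    obtain ⟨z, hz2, hzs, hxz⟩ := hcover x hx.2
    rw [Finset.mem_biUnion]
    exact ⟨z, Finset.mem_filter.mpr ⟨Finset.mem_univ _, hz2, hzs⟩, Finset.mem_filter.mpr ⟨Finset.mem_univ _, hxz⟩⟩
  have hcardC : ∀ z : G, (Finset.univ.filter (fun x : G => x ∈ Subgroup.centralizer ({z} : Set G))).card =
      Nat.card (Subgroup.centralizer ({z} : Set G)) := by
    intro z
    rw [Nat.card_eq_fintype_card, Fintype.card_subtype]
  have h1 : (Finset.univ.filter (fun x : G => IsConj t x)).card ≤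
      (Finset.univ.filter (fun z : G => orderOf z = 2 ∧ z ∈ Subgroup.centralizer ({s} : Set G))).card *
        Nat.card (Subgroup.centralizer ({t} : Set G)) := by
    refine (Finset.card_le_card hsub).trans ?_
    refine Finset.card_biUnion_le.trans ?_
    rw [← smul_eq_mul, ← Finset.sum_const]
    apply Finset.sum_le_sum
    intro z hz
    rw [Finset.mem_filter] at hz
    rw [hcardC z]
    exact hmax z hz.2.1
  have h2 : (Finset.univ.filter (fun z : G => orderOf z = 2 ∧ z ∈ Subgroup.centralizer ({s} : Set G))).card <
      Nat.card (Subgroup.centralizer ({s} : Set G)) := by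
    rw [← hcardC s]
    apply Finset.card_lt_card
    rw [Finset.ssubset_iff_of_subset]
    · refine ⟨1, Finset.mem_filter.mpr ⟨Finset.mem_univ _, Subgroup.one_mem _⟩, ?_⟩
      intro h
      rw [Finset.mem_filter] at h
      rw [orderOf_one] at h
      omega
    · intro z hz
      rw [Finset.mem_filter] at hz ⊢
      exact ⟨hz.1, hz.2.2⟩
  have hmpos : 0 < Nat.card (Subgroup.centralizer ({t} : Set G)) := Nat.card_pos
  have hs_le := hmax s hs
  rw [← hclass, hT]
  calc (Finset.univ.filter (fun x : G => IsConj t x)).card * Nat.card (Subgroup.centralizer ({t} : Set G))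
      ≤ ((Finset.univ.filter (fun z : G => orderOf z = 2 ∧ z ∈ Subgroup.centralizer ({s} : Set G))).card *
        Nat.card (Subgroup.centralizer ({t} : Set G))) * Nat.card (Subgroup.centralizer ({t} : Set G)) :=
        Nat.mul_le_mul_right _ h1
    _ < (Nat.card (Subgroup.centralizer ({s} : Set G)) * Nat.card (Subgroup.centralizer ({t} : Set G))) *
        Nat.card (Subgroup.centralizer ({t} : Set G)) := by
        apply Nat.mul_lt_mul_of_pos_right _ hmpos
        exact Nat.mul_lt_mul_of_pos_right h2 hmpos
    _ ≤ (Nat.card (Subgroup.centralizer ({t} : Set G)) * Nat.card (Subgroup.centralizer ({t} : Set G))) *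
        Nat.card (Subgroup.centralizer ({t} : Set G)) := by
        apply Nat.mul_le_mul_right
        exact Nat.mul_le_mul_right _ hs_le
    _ = Nat.card (Subgroup.centralizer ({t} : Set G)) ^ 3 := by ring

end Cfsg.Agent.S0230
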