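import Cfsg.Statements.S0231
import Cfsg.Agent.Lib.Lead_Dihedral
import Cfsg.Agent.S0208
import Cfsg.Agent.S0209
import Cfsg.Agent.S0216

set_option autoImplicit false
open Pointwise
open Cfsg

namespace Cfsg.Agent.S0231

open Cfsg.Agent.Lib.Lead_Dihedral

theorem mem_conj_smul {G : Type*} [Group G] (a x : G) (H : Subgroup G) :
    x ∈ MulAut.conj a • H ↔ a⁻¹ * x * a ∈ H := by
  rw [Subgroup.mem_pointwise_smul_iff_inv_smul_mem, MulAut.smul_def, MulAut.conj_inv_apply]

/-- commuting involutions lie in a common Sylow 2-subgroup -/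
theorem common_of_commute {G : Type*} [Group G] [Finite G] (u z : G) (hu : orderOf u = 2)
    (hz : orderOf z = 2) (hc : Commute u z) : ∃ Q : Sylow 2 G, u ∈ Q ∧ z ∈ Q := by
  have huu := mul_self_of_orderOf_two u hu
  have hzz := mul_self_of_orderOf_two z hz
  have h2 : (u * z) ^ 2 = 1 := by
    rw [sq]
    calc u * z * (u * z) = u * (z * u) * z := by simp [mul_assoc]
      _ = u * (u * z) * z := by rw [hc.eq]
      _ = (u * u) * (z * z) := by simp [mul_assoc]
      _ = 1 := by rw [huu, hzz, one_mul]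
  have hdvd : orderOf (u * z) ∣ 2 := orderOf_dvd_of_pow_eq_one h2
  obtain ⟨a, ha⟩ : ∃ a : ℕ, orderOf (u * z) = 2 ^ a := by
    rcases (Nat.dvd_prime Nat.prime_two).mp hdvd with h | h
    · exact ⟨0, by rw [h, pow_zero]⟩
    · exact ⟨1, by rw [h, pow_one]⟩
  have hS := Cfsg.Agent.S0216.isPGroup_closure u z hu hz a ha
  obtain ⟨Q, hQ⟩ := hS.exists_le_sylow
  exact ⟨Q, hQ (Subgroup.subset_closure (by simp)), hQ (Subgroup.subset_closure (by simp))⟩

/-- Let T be a Sylow 2-subgroup of the finite group G which is not normal and which intersects every other Sylow 2-subgroup trivially. Then G has a single conjugacy class of involutions. -/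
theorem result {G : Type*} [Group G] [Finite G] (T : Sylow 2 G) (hnn : ¬ (T : Subgroup G).Normal) (hTI : ∀ g : G, MulAut.conj g • (T : Subgroup G) ≠ T → MulAut.conj g • (T : Subgroup G) ⊓ T = ⊥) (s t : G) (hs : orderOf s = 2) (ht : orderOf t = 2) : IsConj s t := by
  -- TI for arbitrary pairs
  have uniq : ∀ (Q₁ Q₂ : Sylow 2 G) (x : G), x ≠ 1 → x ∈ Q₁ → x ∈ Q₂ → Q₁ = Q₂ := by
    intro Q₁ Q₂ x hx1 hx₁ hx₂
    by_contra hne
    obtain ⟨a, ha⟩ := MulAction.exists_smul_eq G T Q₁
    obtain ⟨b, hb⟩ := MulAction.exists_smul_eq G T Q₂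
    have hg : MulAut.conj (a⁻¹ * b) • (T : Subgroup G) ≠ T := by
      intro h
      apply hne
      rw [← ha, ← hb]
      apply Sylow.ext
      rw [Sylow.smul_def, Sylow.smul_def, Sylow.pointwise_smul_def, Sylow.pointwise_smul_def]
      have : MulAut.conj b = MulAut.conj a * MulAut.conj (a⁻¹ * b) := by
        rw [← map_mul]; simp
      rw [this, mul_smul, h]
    have h1 := hTI _ hg
    have hx₁' : x ∈ MulAut.conj a • (T : Subgroup G) := by
      have : x ∈ ((a • T : Sylow 2 G) : Subgroup G) := by rw [ha]; exact hx₁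
      exact this
    have hx₂' : x ∈ MulAut.conj b • (T : Subgroup G) := by
      have : x ∈ ((b • T : Sylow 2 G) : Subgroup G) := by rw [hb]; exact hx₂
      exact this
    rw [mem_conj_smul] at hx₁' hx₂'
    have h2 : a⁻¹ * x * a ∈ MulAut.conj (a⁻¹ * b) • (T : Subgroup G) ⊓ T := by
      refine Subgroup.mem_inf.mpr ⟨?_, hx₁'⟩
      rw [mem_conj_smul]
      have : (a⁻¹ * b)⁻¹ * (a⁻¹ * x * a) * (a⁻¹ * b) = b⁻¹ * x * b := by simp [mul_assoc]
      rw [this]; exact hx₂'
    rw [h1, Subgroup.mem_bot] at h2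
    apply hx1
    have := congrArg (fun y => a * y * a⁻¹) h2
    simpa [mul_assoc] using this
  have ne_one : ∀ x : G, orderOf x = 2 → x ≠ 1 := by
    intro x hx h; rw [h, orderOf_one] at hx; omega
  -- non-conjugate involutions lie in a common Sylow
  have common : ∀ a b : G, orderOf a = 2 → orderOf b = 2 → ¬ IsConj a b →
      ∃ Q : Sylow 2 G, a ∈ Q ∧ b ∈ Q := by
    intro a b ha hb hab
    have heven : Even (orderOf (a * b)) := by
      by_contra hodd
      rw [Nat.not_even_iff_odd] at hodd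
      obtain ⟨d, -, hd⟩ := Cfsg.Agent.S0208.result a b ha hb hodd
      exact hab (isConj_iff.mpr ⟨d, hd⟩)
    obtain ⟨hz2, hza, hzb⟩ := Cfsg.Agent.S0209.result a b ha hb heven
    set z := (a * b) ^ (orderOf (a * b) / 2) with hz
    obtain ⟨Q₁, ha₁, hz₁⟩ := common_of_commute a z ha hz2 hza.symm
    obtain ⟨Q₂, hb₂, hz₂⟩ := common_of_commute b z hb hz2 hzb.symm
    have := uniq Q₁ Q₂ z (ne_one z hz2) hz₁ hz₂
    subst this
    exact ⟨Q₁, ha₁, hb₂⟩
  by_contra hst
  obtain ⟨Q, hsQ, htQ⟩ := common s t hs ht hst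
  -- another Sylow
  obtain ⟨Q', hQ'⟩ : ∃ Q' : Sylow 2 G, Q' ≠ Q := by
    by_contra hall
    push Not at hall
    have : Subsingleton (Sylow 2 G) := ⟨fun A B => (hall A).trans (hall B).symm⟩
    exact hnn (Sylow.normal_of_subsingleton T)
  -- an involution in Q'
  have h2dvd : 2 ∣ Nat.card G := hs ▸ orderOf_dvd_natCard s
  have h2dvd' : 2 ∣ Nat.card (Q' : Subgroup G) := Q'.dvd_card_of_dvd_card h2dvd
  obtain ⟨r, hr⟩ := exists_prime_orderOf_dvd_card' 2 h2dvd'
  rw [← Subgroup.orderOf_coe] at hr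
  have hrQ' : (r : G) ∈ Q' := r.2
  have hconj : ∀ a : G, orderOf a = 2 → a ∈ Q → IsConj a (r : G) := by
    intro a ha haQ
    by_contra hnc
    obtain ⟨Q'', ha'', hr''⟩ := common a r ha hr hnc
    have e1 := uniq Q'' Q a (ne_one a ha) ha'' haQ
    have e2 := uniq Q'' Q' r (ne_one _ hr) hr'' hrQ'
    exact hQ' (e2.symm.trans e1)
  exact hst ((hconj s hs hsQ).trans (hconj t ht htQ).symm)

end Cfsg.Agent.S0231
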