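import Cfsg.Statements.S0232
import Mathlib
import Cfsg.Agent.S0233
import Cfsg.Agent.S0219
import Cfsg.Agent.Lib.Lead_Class
import Cfsg.Agent.Lib.Lead_Hall

set_option autoImplicit false
open Cfsg

namespace Cfsg.Agent.S0232


universe u

theorem of_index_two {G : Type u} [Group G] [Finite G] (hgt : 2 < Nat.card G)
    (H : Subgroup G) (hH : H.index = 2) : ∃ H : Subgroup G, H ≠ ⊤ ∧ Nat.card G < (Nat.card H) ^ 3 := by
  refine ⟨H, ?_, ?_⟩
  · intro h
    rw [h, Subgroup.index_top] at hH
    norm_num at hH
  · have h1 := Subgroup.card_mul_index H
    rw [hH] at h1
    have h2 : 2 ≤ Nat.card H := by omega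
    rw [← h1]
    have h4 : 4 ≤ Nat.card H * Nat.card H := Nat.mul_le_mul h2 h2
    have hpos : 0 < Nat.card H := by omega
    calc Nat.card H * 2 < Nat.card H * 4 := by omega
      _ ≤ Nat.card H * (Nat.card H * Nat.card H) := Nat.mul_le_mul_left _ h4
      _ = Nat.card H ^ 3 := by ring

theorem aux : ∀ (n : ℕ) (G : Type u) [Group G] [Finite G], Nat.card G = n → Even n → 2 < n →
    ∃ H : Subgroup G, H ≠ ⊤ ∧ Nat.card G < (Nat.card H) ^ 3 := by
  intro n
  induction n using Nat.strong_induction_on with
  | _ n ih =>
    intro G _ _ hn heven hgt
    classical
    haveI : Fact (Nat.Prime 2) := ⟨Nat.prime_two⟩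
    have hgt' : 2 < Nat.card G := by rw [hn]; exact hgt
    have heven' : Even (Nat.card G) := by rw [hn]; exact heven
    by_cases hZ : Odd (Nat.card (Subgroup.center G))
    · -- centre of odd order
      obtain ⟨H, hH, hH2 | hH2⟩ := Cfsg.Agent.S0233.result heven' hZ
      · exact of_index_two hgt' H hH2
      · -- pick an involution
        have h2 : 2 ∣ Nat.card G := even_iff_two_dvd.mp heven'
        obtain ⟨t, ht⟩ := exists_prime_orderOf_dvd_card' 2 h2
        have hCne : Subgroup.centralizer ({t} : Set G) ≠ ⊤ := by
          intro htop
          have hxc : t ∈ Subgroup.center G := by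
            rw [Subgroup.mem_center_iff]
            intro g
            have : g ∈ Subgroup.centralizer ({t} : Set G) := by rw [htop]; exact Subgroup.mem_top g
            exact (Subgroup.mem_centralizer_iff.mp this t rfl).symm
          have h2' : 2 ∣ Nat.card (Subgroup.center G) := by
            have := Subgroup.orderOf_dvd_natCard (Subgroup.center G) hxc
            rwa [ht] at this
          exact (Nat.not_even_iff_odd.mpr hZ) (even_iff_two_dvd.mpr h2')
        by_cases hm : Nat.card G < (Nat.card (Subgroup.centralizer ({t} : Set G))) ^ 3
        · exact ⟨_, hCne, hm⟩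
        · push_neg at hm
          refine ⟨H, hH, ?_⟩
          have hclass := Cfsg.Agent.Lib.Lead_Class.card_class_mul_card_centralizer t
          -- the class of t consists of involutions
          have hcl_le : Nat.card {x : G // IsConj t x} ≤ Nat.card {x : G // orderOf x = 2} := by
            apply Nat.card_le_card_of_injective
              (fun x : {x : G // IsConj t x} => (⟨x.1, by
                obtain ⟨c, hc⟩ := isConj_iff.mp x.2
                rw [← hc]
                have := orderOf_injective (MulAut.conj c).toMonoidHom (MulAut.conj c).injective t
                simp only [MulEquiv.coe_toMonoidHom, MulAut.conj_apply] at this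
                rw [this, ht]⟩ : {x : G // orderOf x = 2}))
            intro a b hab
            apply Subtype.ext
            have := congrArg Subtype.val hab
            exact this
          have hnm : Nat.card G ≤ Nat.card {x : G // orderOf x = 2} * Nat.card (Subgroup.centralizer ({t} : Set G)) := by
            rw [← hclass]
            exact Nat.mul_le_mul_right _ hcl_le
          have hmpos : 0 < Nat.card (Subgroup.centralizer ({t} : Set G)) := Nat.card_pos
          have hnpos : 0 < Nat.card {x : G // orderOf x = 2} :=
            Nat.card_pos_iff.mpr ⟨⟨⟨t, ht⟩⟩, inferInstance⟩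
          have hidx : H.index < (Nat.card (Subgroup.centralizer ({t} : Set G))) ^ 2 := by
            by_contra hge
            push_neg at hge
            have hgsq : Nat.card G * Nat.card G ≤
                (Nat.card {x : G // orderOf x = 2} * Nat.card (Subgroup.centralizer ({t} : Set G))) *
                (Nat.card {x : G // orderOf x = 2} * Nat.card (Subgroup.centralizer ({t} : Set G))) :=
              Nat.mul_le_mul hnm hnm
            have hgn : Nat.card G * Nat.card {x : G // orderOf x = 2} ≤
                (Nat.card {x : G // orderOf x = 2} * Nat.card (Subgroup.centralizer ({t} : Set G))) *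
                Nat.card {x : G // orderOf x = 2} := Nat.mul_le_mul_right _ hnm
            have hA : (Nat.card {x : G // orderOf x = 2}) ^ 2 * (2 * H.index) <
                (Nat.card {x : G // orderOf x = 2}) ^ 2 *
                ((Nat.card (Subgroup.centralizer ({t} : Set G))) ^ 2 + Nat.card (Subgroup.centralizer ({t} : Set G))) := by
              calc (Nat.card {x : G // orderOf x = 2}) ^ 2 * (2 * H.index)
                  = 2 * H.index * (Nat.card {x : G // orderOf x = 2}) ^ 2 := by ring
                _ < Nat.card G * (Nat.card G + Nat.card {x : G // orderOf x = 2}) := hH2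
                _ = Nat.card G * Nat.card G + Nat.card G * Nat.card {x : G // orderOf x = 2} := by ring
                _ ≤ _ := Nat.add_le_add hgsq hgn
                _ = _ := by ring
            have hB := Nat.lt_of_mul_lt_mul_left hA
            have hC : Nat.card (Subgroup.centralizer ({t} : Set G)) ≤
                (Nat.card (Subgroup.centralizer ({t} : Set G))) ^ 2 := Nat.le_self_pow (by norm_num) _
            omega
          have hci := Subgroup.card_mul_index H
          have hipos : 0 < H.index := Nat.pos_of_ne_zero Subgroup.index_ne_zero_of_finite
          -- |G| idx³ < |G|³ = |H|³ idx³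
          have h3 : H.index ^ 3 < Nat.card G ^ 2 := by
            have h4 : H.index ^ 3 < ((Nat.card (Subgroup.centralizer ({t} : Set G))) ^ 2) ^ 3 :=
              Nat.pow_lt_pow_left hidx (by norm_num)
            have h5 : ((Nat.card (Subgroup.centralizer ({t} : Set G))) ^ 2) ^ 3 =
                ((Nat.card (Subgroup.centralizer ({t} : Set G))) ^ 3) ^ 2 := by ring
            have h6 : ((Nat.card (Subgroup.centralizer ({t} : Set G))) ^ 3) ^ 2 ≤ Nat.card G ^ 2 :=
              Nat.pow_le_pow_left hm 2
            omega
          have h7 : Nat.card G * H.index ^ 3 < (Nat.card H) ^ 3 * H.index ^ 3 := by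
            have : (Nat.card H) ^ 3 * H.index ^ 3 = Nat.card G ^ 3 := by rw [← mul_pow, hci]
            rw [this]
            have hgpos : 0 < Nat.card G := Nat.card_pos
            calc Nat.card G * H.index ^ 3 < Nat.card G * Nat.card G ^ 2 :=
                  Nat.mul_lt_mul_of_pos_left h3 hgpos
              _ = Nat.card G ^ 3 := by ring
          exact Nat.lt_of_mul_lt_mul_right h7
    · -- centre of even order: a central involution
      rw [Nat.not_odd_iff_even] at hZ
      obtain ⟨z, hz⟩ := exists_prime_orderOf_dvd_card' 2 (even_iff_two_dvd.mp hZ)
      have hzo : orderOf (z : G) = 2 := by rw [Subgroup.orderOf_coe]; exact hz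
      haveI hNn : (Subgroup.zpowers (z : G)).Normal := by
        constructor
        intro x hx g
        have hxc : x ∈ Subgroup.center G := by
          rw [Subgroup.mem_zpowers_iff] at hx
          obtain ⟨k, rfl⟩ := hx
          exact Subgroup.zpow_mem _ z.2 k
        have := Subgroup.mem_center_iff.mp hxc g
        rw [this, mul_inv_cancel_right]
        exact hx
      have hNcard : Nat.card (Subgroup.zpowers (z : G)) = 2 := by rw [Nat.card_zpowers, hzo]
      have hQcard : Nat.card (G ⧸ Subgroup.zpowers (z : G)) * 2 = Nat.card G := by
        have := Subgroup.card_mul_index (Subgroup.zpowers (z : G))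
        rw [hNcard, mul_comm] at this
        exact this
      by_cases hQeven : Even (Nat.card (G ⧸ Subgroup.zpowers (z : G)))
      · by_cases hQ2 : Nat.card (G ⧸ Subgroup.zpowers (z : G)) = 2
        · refine ⟨Subgroup.zpowers (z : G), ?_, ?_⟩
          · intro h
            have := congrArg (fun K : Subgroup G => Nat.card K) h
            simp only [Subgroup.card_top] at this
            omega
          · rw [hNcard]; omega
        · have hQgt : 2 < Nat.card (G ⧸ Subgroup.zpowers (z : G)) := by
            obtain ⟨k, hk⟩ := hQeven
            have hpos : 0 < Nat.card (G ⧸ Subgroup.zpowers (z : G)) := Nat.card_pos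
            omega
          have hlt : Nat.card (G ⧸ Subgroup.zpowers (z : G)) < n := by omega
          obtain ⟨H', hH', hlt'⟩ := ih _ hlt (G ⧸ Subgroup.zpowers (z : G)) rfl hQeven hQgt
          refine ⟨H'.comap (QuotientGroup.mk' (Subgroup.zpowers (z : G))), ?_, ?_⟩
          · intro h
            apply hH'
            have := congrArg (Subgroup.map (QuotientGroup.mk' (Subgroup.zpowers (z : G)))) h
            rw [Subgroup.map_comap_eq_self_of_surjective (QuotientGroup.mk'_surjective _),
              Subgroup.map_top_of_surjective _ (QuotientGroup.mk'_surjective _)] at this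
            exact this
          · rw [Cfsg.Agent.Lib.Lead_Hall.card_comap_mk, hNcard]
            have : (Nat.card H' * 2) ^ 3 = 8 * (Nat.card H') ^ 3 := by ring
            rw [this]
            omega
      · -- |G| = 2 * odd : cyclic Sylow 2-subgroup
        obtain ⟨T⟩ : Nonempty (Sylow 2 G) := inferInstance
        have hTcard : Nat.card (T : Subgroup G) = 2 := by
          rw [Sylow.card_eq_multiplicity]
          have hfac : (Nat.card G).factorization 2 = 1 := by
            rw [← hQcard, Nat.factorization_mul (Nat.card_pos.ne') (by norm_num)]
            have h1 : (Nat.card (G ⧸ Subgroup.zpowers (z : G))).factorization 2 = 0 := by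
              apply Nat.factorization_eq_zero_of_not_dvd
              rw [← even_iff_two_dvd]; exact hQeven
            simp [h1, Nat.Prime.factorization_self Nat.prime_two]
          rw [hfac, pow_one]
        have hTcyc : IsCyclic (T : Subgroup G) := isCyclic_of_prime_card hTcard
        obtain ⟨H, hH⟩ := Cfsg.Agent.S0219.result heven' T hTcyc
        exact of_index_two hgt' H hH


/-- A finite group G of even order greater than 2 has a proper subgroup H with |G| < |H|^3. -/
theorem result {G : Type*} [Group G] [Finite G] (heven : Even (Nat.card G)) (hgt : 2 < Nat.card G) : ∃ H : Subgroup G, H ≠ ⊤ ∧ Nat.card G < (Nat.card H) ^ 3 := by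
  exact aux _ G rfl heven hgt

end Cfsg.Agent.S0232
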