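import Cfsg.Statements.S0234
import Mathlib
import Cfsg.Agent.S0233
import Cfsg.Agent.S0144
import Cfsg.Agent.S0219
import Cfsg.Agent.S0494

set_option autoImplicit false
open Cfsg

namespace Cfsg.Agent.S0234

set_option maxRecDepth 100000 in
lemma a5_inv : Fintype.card {t : alternatingGroup (Fin 5) // t ^ 2 = 1 ∧ t ≠ 1} = 15 := by decide

lemma card_inv_a5 : Nat.card {t : alternatingGroup (Fin 5) // orderOf t = 2} = 15 := by
  rw [← a5_inv, ← Nat.card_eq_fintype_card]
  apply Nat.card_congr
  refine Equiv.subtypeEquivRight ?_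
  intro t
  have : Fact (Nat.Prime 2) := ⟨Nat.prime_two⟩
  exact orderOf_eq_prime_iff

lemma fact30 : Nat.factorization 30 2 = 1 := by
  have : (30 : ℕ) = 2 ^ 1 * 15 := by norm_num
  rw [this, Nat.factorization_mul (by norm_num) (by norm_num), Finsupp.add_apply,
    Nat.factorization_pow, Finsupp.smul_apply, Nat.Prime.factorization_self Nat.prime_two,
    Nat.factorization_eq_zero_of_not_dvd (by norm_num)]
  rfl

lemma not_comm {G : Type*} [Group G] [Finite G] [IsSimpleGroup G] (heven : Even (Nat.card G))
    (hgt : 2 < Nat.card G) : ¬ ∀ a b : G, a * b = b * a := by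
  intro hc
  have : Fact (Nat.Prime 2) := ⟨Nat.prime_two⟩
  obtain ⟨t, ht⟩ := exists_prime_orderOf_dvd_card' 2 (even_iff_two_dvd.1 heven)
  have hn : (Subgroup.zpowers t).Normal :=
    ⟨fun n hn g => by rw [hc g n, mul_inv_cancel_right]; exact hn⟩
  rcases hn.eq_bot_or_eq_top with h | h
  · have : t ∈ Subgroup.zpowers t := Subgroup.mem_zpowers t
    rw [h, Subgroup.mem_bot] at this
    rw [this, orderOf_one] at ht
    omega
  · have h1 : Nat.card (Subgroup.zpowers t) = 2 := by rw [Nat.card_zpowers, ht]
    rw [h, Subgroup.card_top] at h1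
    omega

/-- In a finite simple group G of even order greater than 2, the number n of involutions satisfies 3n < |G|. -/
theorem result {G : Type*} [Group G] [Finite G] [IsSimpleGroup G] (heven : Even (Nat.card G)) (hgt : 2 < Nat.card G) : 3 * Nat.card {t : G // orderOf t = 2} < Nat.card G := by
  classical
  by_contra hcon
  rw [not_lt] at hcon
  have hnc := not_comm heven hgt
  have hZ : Subgroup.center G = ⊥ := by
    rcases (inferInstance : (Subgroup.center G).Normal).eq_bot_or_eq_top with h | h
    · exact h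
    · exfalso
      apply hnc
      intro a b
      have hb : b ∈ Subgroup.center G := by rw [h]; trivial
      exact Subgroup.mem_center_iff.1 hb a
  obtain ⟨H, hH, h⟩ := Cfsg.Agent.S0233.result heven
    (by rw [hZ, Subgroup.card_bot]; exact odd_one)
  have hno2 : ∀ K : Subgroup G, K.index ≠ 2 := by
    intro K hK
    have hKn := Subgroup.normal_of_index_eq_two hK
    rcases hKn.eq_bot_or_eq_top with h1 | h1
    · rw [h1, Subgroup.index_bot] at hK; omega
    · rw [h1, Subgroup.index_top] at hK; omega
  have hk : H.index ≤ 5 := by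
    rcases h with h | h
    · exact absurd h (hno2 H)
    · set m := Nat.card {t : G // orderOf t = 2} with hm
      set g := Nat.card G with hg
      set k := H.index with hk
      have h2 : g * (g + m) ≤ (3 * m) * (3 * m + m) := Nat.mul_le_mul hcon (by omega)
      have h3 : m ^ 2 * (2 * k) < m ^ 2 * 12 := by
        calc m ^ 2 * (2 * k) = 2 * k * m ^ 2 := by ring
          _ < g * (g + m) := h
          _ ≤ (3 * m) * (3 * m + m) := h2
          _ = m ^ 2 * 12 := by ring
      have := Nat.lt_of_mul_lt_mul_left h3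
      omega
  have hker : (MulAction.toPermHom G (G ⧸ H)).ker = ⊥ := by
    have hn : ((MulAction.toPermHom G (G ⧸ H)).ker).Normal := inferInstance
    rcases hn.eq_bot_or_eq_top with h | h
    · exact h
    · exfalso
      apply hH
      rw [← Subgroup.normalCore_eq_ker] at h
      exact top_le_iff.1 (h ▸ Subgroup.normalCore_le H)
  have hinj : Function.Injective (MulAction.toPermHom G (G ⧸ H)) :=
    (MonoidHom.ker_eq_bot_iff _).1 hker
  haveI : Fintype (G ⧸ H) := Fintype.ofFinite _
  have hsign : ∀ x, Equiv.Perm.sign (MulAction.toPermHom G (G ⧸ H) x) = 1 := by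
    set ψ : G →* ℤˣ := Equiv.Perm.sign.comp (MulAction.toPermHom G (G ⧸ H)) with hψ
    rcases (inferInstance : ψ.ker.Normal).eq_bot_or_eq_top with h1 | h1
    · exfalso
      have hinjψ : Function.Injective ψ := (MonoidHom.ker_eq_bot_iff _).1 h1
      have := Nat.card_le_card_of_injective ψ hinjψ
      rw [Nat.card_eq_fintype_card (α := ℤˣ), Fintype.card_units_int] at this
      omega
    · intro x
      have hx : x ∈ ψ.ker := by rw [h1]; trivial
      exact MonoidHom.mem_ker.1 hx
  have : Nontrivial (G ⧸ H) := by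
    rw [← Finite.one_lt_card_iff_nontrivial, ← Subgroup.index_eq_card]
    have h1 : H.index ≠ 1 := fun h1 => hH (Subgroup.index_eq_one.1 h1)
    have h0 : H.index ≠ 0 := Subgroup.index_ne_zero_of_finite
    omega
  have hdvd : 2 * Nat.card G ∣ Nat.factorial H.index := by
    let φ' : G →* alternatingGroup (G ⧸ H) :=
      (MulAction.toPermHom G (G ⧸ H)).codRestrict _
        (fun x => Equiv.Perm.mem_alternatingGroup.2 (hsign x))
    have hφ' : Function.Injective φ' := by
      intro x y hxy
      apply hinj
      exact congrArg Subtype.val hxy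
    have h1 := Subgroup.card_dvd_of_injective φ' hφ'
    have h2 := two_mul_nat_card_alternatingGroup (α := G ⧸ H)
    rw [Nat.card_perm, ← Subgroup.index_eq_card] at h2
    rw [← h2]
    exact Nat.mul_dvd_mul_left 2 h1
  have hd60 : Nat.card G ∣ 60 := by
    have h1 : Nat.factorial H.index ∣ Nat.factorial 5 := Nat.factorial_dvd_factorial hk
    have h2 : 2 * Nat.card G ∣ 2 * 60 := hdvd.trans h1
    exact Nat.dvd_of_mul_dvd_mul_left (by norm_num) h2
  have hsolv : ∀ p q a b : ℕ, p.Prime → q.Prime → Nat.card G = p ^ a * q ^ b → False := by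
    intro p q a b hp hq hc
    have hs := Cfsg.Agent.S0144.result p q a b hp hq hc
    exact hnc (IsSimpleGroup.comm_iff_isSolvable.2 hs)
  obtain ⟨g, hg⟩ : ∃ g, g = Nat.card G := ⟨_, rfl⟩
  rw [← hg] at hd60 heven hgt
  have hmem : g ∈ Nat.divisors 60 := Nat.mem_divisors.2 ⟨hd60, by norm_num⟩
  have hdiv : Nat.divisors 60 = {1, 2, 3, 4, 5, 6, 10, 12, 15, 20, 30, 60} := by decide
  rw [hdiv] at hmem
  simp only [Finset.mem_insert, Finset.mem_singleton] at hmem
  have h2p := Nat.prime_two
  have h3p := Nat.prime_three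
  have h5p := Nat.prime_five
  rcases hmem with rfl | rfl | rfl | rfl | rfl | rfl | rfl | rfl | rfl | rfl | rfl | rfl
  · omega
  · omega
  · exact absurd heven (by decide)
  · exact hsolv 2 3 2 0 h2p h3p (by rw [← hg]; norm_num)
  · exact absurd heven (by decide)
  · exact hsolv 2 3 1 1 h2p h3p (by rw [← hg]; norm_num)
  · exact hsolv 2 5 1 1 h2p h5p (by rw [← hg]; norm_num)
  · exact hsolv 2 3 2 1 h2p h3p (by rw [← hg]; norm_num)
  · exact absurd heven (by decide)
  · exact hsolv 2 5 2 1 h2p h5p (by rw [← hg]; norm_num)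
  · have : Fact (Nat.Prime 2) := ⟨Nat.prime_two⟩
    obtain T : Sylow 2 G := default
    have hT : Nat.card T = 2 := by
      rw [Sylow.card_eq_multiplicity, ← hg, fact30]
      rfl
    have hcyc : IsCyclic (T : Subgroup G) := isCyclic_of_prime_card hT
    obtain ⟨K, hK⟩ := Cfsg.Agent.S0219.result (by rw [← hg]; decide) T hcyc
    exact hno2 K hK
  · obtain ⟨e⟩ := Cfsg.Agent.S0494.result (G := G) hg.symm
    have hm : Nat.card {t : G // orderOf t = 2} = 15 := by
      rw [← card_inv_a5]
      apply Nat.card_congr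
      refine e.toEquiv.subtypeEquiv ?_
      intro t
      show orderOf t = 2 ↔ orderOf (e t) = 2
      rw [MulEquiv.orderOf_eq]
    rw [hm, ← hg] at hcon
    omega

end Cfsg.Agent.S0234
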