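import Cfsg.Statements.S0240
import Cfsg.Agent.Lib.Lead_Dihedral
import Cfsg.Agent.S0236

set_option autoImplicit false
open Pointwise
open Cfsg

namespace Cfsg.Agent.S0240

open Cfsg.Agent.Lib.Lead_Dihedral

/-- Let G be a finite group with n involutions and H a subgroup with |H|·(n+1) > |G|. Then some nontrivial h ∈ H is strongly real in G: an involution t of G satisfies t h t⁻¹ = h⁻¹. -/
theorem result {G : Type*} [Group G] [Finite G] (H : Subgroup G) (hH : Nat.card G < Nat.card H * (Nat.card {t : G // orderOf t = 2} + 1)) : ∃ h : G, h ∈ H ∧ h ≠ 1 ∧ ∃ t : G, orderOf t = 2 ∧ t * h * t⁻¹ = h⁻¹ := by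
  have hcard : Nat.card {t : G // t = 1 ∨ orderOf t = 2} = Nat.card {t : G // orderOf t = 2} + 1 := by
    rw [← Cfsg.Agent.S0236.card_ne (fun t : G => t = 1 ∨ orderOf t = 2) 1 (Or.inl rfl)]
    congr 1
    apply Nat.card_congr
    refine Equiv.subtypeEquiv (Equiv.refl G) ?_
    intro t
    simp only [Equiv.refl_apply]
    constructor
    · rintro ⟨h1 | h1, h2⟩
      · exact absurd h1 h2
      · exact h1
    · intro h
      refine ⟨Or.inr h, ?_⟩
      intro h1; rw [h1, orderOf_one] at h; omega
  have hidx : H.index < Nat.card {t : G // t = 1 ∨ orderOf t = 2} := by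
    rw [hcard]
    rw [← Subgroup.card_mul_index H] at hH
    exact Nat.lt_of_mul_lt_mul_left hH
  let f : {t : G // t = 1 ∨ orderOf t = 2} → G ⧸ H := fun t => (t.1 : G ⧸ H)
  obtain ⟨s, t, hst, hf⟩ : ∃ s t, s ≠ t ∧ f s = f t := by
    by_contra hcon
    push Not at hcon
    have hinj : Function.Injective f := fun a b h => by
      by_contra hne
      exact hcon a b hne h
    have := Nat.card_le_card_of_injective f hinj
    rw [← Subgroup.index_eq_card] at this
    omega
  have hmem : s.1⁻¹ * t.1 ∈ H := QuotientGroup.eq.mp hf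
  have hne : s.1⁻¹ * t.1 ≠ 1 := by
    intro h
    apply hst
    apply Subtype.ext
    have := eq_inv_of_mul_eq_one_right h
    simpa using this.symm
  refine ⟨s.1⁻¹ * t.1, hmem, hne, ?_⟩
  obtain ⟨s, hs⟩ := s
  obtain ⟨t, ht⟩ := t
  simp only at hne hmem ⊢
  rcases hs with rfl | hs
  · rcases ht with rfl | ht
    · simp at hne
    · refine ⟨t, ht, ?_⟩
      have hti := inv_eq_self_of_orderOf_two t ht
      have htt := mul_self_of_orderOf_two t ht
      simp [hti, htt]
  · have hsi := inv_eq_self_of_orderOf_two s hs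
    have hss := mul_self_of_orderOf_two s hs
    refine ⟨s, hs, ?_⟩
    rcases ht with rfl | ht
    · simp [hsi, hss]
    · have hti := inv_eq_self_of_orderOf_two t ht
      rw [mul_inv_rev, inv_inv, hti, hsi, ← mul_assoc, hss, one_mul]

end Cfsg.Agent.S0240
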