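import Cfsg.Statements.S0241
import Mathlib.Tactic

set_option autoImplicit false
open Pointwise
open Cfsg

namespace Cfsg.Agent.S0241

theorem conj_inv_of {G : Type*} [Group G] (g x : G) (hg : g * x * g⁻¹ = x⁻¹) :
    g * x⁻¹ * g⁻¹ = x := by
  calc g * x⁻¹ * g⁻¹ = (g * x * g⁻¹)⁻¹ := by simp [mul_assoc]
    _ = x := by rw [hg, inv_inv]

theorem sq_comm {G : Type*} [Group G] (g x : G) (hg : g * x * g⁻¹ = x⁻¹) :
    Commute (g ^ 2) x := by
  have h3 := conj_inv_of g x hg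
  have : g ^ 2 * x * (g ^ 2)⁻¹ = x := by
    calc g ^ 2 * x * (g ^ 2)⁻¹ = g * (g * x * g⁻¹) * g⁻¹ := by simp [pow_two, mul_assoc]
      _ = g * x⁻¹ * g⁻¹ := by rw [hg]
      _ = x := h3
  show g ^ 2 * x = x * g ^ 2
  calc g ^ 2 * x = (g ^ 2 * x * (g ^ 2)⁻¹) * g ^ 2 := by simp [mul_assoc]
    _ = x * g ^ 2 := by rw [this]

theorem odd_pow_conj {G : Type*} [Group G] (g x : G) (hg : g * x * g⁻¹ = x⁻¹) (j : ℕ) :
    g ^ (2 * j + 1) * x * (g ^ (2 * j + 1))⁻¹ = x⁻¹ := by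
  have hc : Commute ((g ^ 2) ^ j) x⁻¹ := ((sq_comm g x hg).pow_left j).inv_right
  have e : g ^ (2 * j + 1) = (g ^ 2) ^ j * g := by rw [pow_succ, pow_mul]
  rw [e]
  calc (g ^ 2) ^ j * g * x * ((g ^ 2) ^ j * g)⁻¹ = (g ^ 2) ^ j * (g * x * g⁻¹) * ((g ^ 2) ^ j)⁻¹ := by
        simp [mul_assoc]
    _ = (g ^ 2) ^ j * x⁻¹ * ((g ^ 2) ^ j)⁻¹ := by rw [hg]
    _ = x⁻¹ := by rw [hc.eq]; simp

/-- If x ≠ 1 is conjugate to x⁻¹ in a finite group G and |C_G(x)| is odd, then some involution t satisfies t x t⁻¹ = x⁻¹. -/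
theorem result {G : Type*} [Group G] [Finite G] (x : G) (hx : x ≠ 1) (hreal : IsConj x x⁻¹) (hodd : Odd (Nat.card (Subgroup.centralizer ({x} : Set G)))) : ∃ t : G, orderOf t = 2 ∧ t * x * t⁻¹ = x⁻¹ := by
  obtain ⟨g, hg⟩ := isConj_iff.mp hreal
  obtain ⟨a, m, hm, hn⟩ := Nat.exists_eq_two_pow_mul_odd (orderOf_pos g).ne'
  obtain ⟨j, hj⟩ := hm
  set t := g ^ m with ht
  have htx : t * x * t⁻¹ = x⁻¹ := by
    rw [ht, hj]; exact odd_pow_conj g x hg j
  have htpow : t ^ (2 ^ a) = 1 := by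
    rw [ht, ← pow_mul, mul_comm, ← hn, pow_orderOf_eq_one]
  -- t^2 in centralizer
  have ht2c : t ^ 2 ∈ Subgroup.centralizer ({x} : Set G) := by
    rw [Subgroup.mem_centralizer_iff]
    simp only [Set.mem_singleton_iff, forall_eq]
    exact ((sq_comm t x htx).eq).symm
  have ht2 : t ^ 2 = 1 := by
    have h1 : orderOf (t ^ 2) ∣ 2 ^ a := by
      apply orderOf_dvd_of_pow_eq_one
      rw [← pow_mul, mul_comm, pow_mul, htpow, one_pow]
    have h2 : orderOf (⟨t ^ 2, ht2c⟩ : Subgroup.centralizer ({x} : Set G)) ∣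
        Nat.card (Subgroup.centralizer ({x} : Set G)) := orderOf_dvd_natCard _
    rw [Subgroup.orderOf_mk] at h2
    have h3 : Odd (orderOf (t ^ 2)) := Odd.of_dvd_nat hodd h2
    obtain ⟨b, hb, hb2⟩ := (Nat.dvd_prime_pow Nat.prime_two).mp h1
    have hb0 : b = 0 := by
      by_contra hne
      rw [hb2] at h3
      exact (Nat.not_even_iff_odd.mpr h3) ((Nat.even_pow' hne).mpr even_two)
    rw [hb0, pow_zero] at hb2
    exact orderOf_eq_one_iff.mp hb2
  have ht1 : t ≠ 1 := by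
    intro h1
    rw [h1] at htx
    have hxx : x = x⁻¹ := by simpa using htx
    have hx2 : x ^ 2 = 1 := by
      rw [sq]; nth_rewrite 1 [hxx]; simp
    have hox : orderOf x = 2 := orderOf_eq_prime hx2 hx
    have hxc : x ∈ Subgroup.centralizer ({x} : Set G) := by
      rw [Subgroup.mem_centralizer_iff]
      simp
    have h2 : orderOf (⟨x, hxc⟩ : Subgroup.centralizer ({x} : Set G)) ∣
        Nat.card (Subgroup.centralizer ({x} : Set G)) := orderOf_dvd_natCard _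
    rw [Subgroup.orderOf_mk, hox] at h2
    exact (Nat.not_even_iff_odd.mpr hodd) (even_iff_two_dvd.mpr h2)
  exact ⟨t, orderOf_eq_prime ht2 ht1, htx⟩

end Cfsg.Agent.S0241
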