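import Cfsg.Statements.S0246
import Mathlib
import Cfsg.Agent.Lib.Helper9_Sp

set_option autoImplicit false
open Cfsg

namespace Cfsg.Agent.S0246

open Matrix Cfsg.Agent.Lib.Helper1_Symp Cfsg.Agent.Helper9Sp

variable {F : Type*} [Field F] {m : ℕ}

/-- the element `-1` of the symplectic group -/
def negOne (m : ℕ) (F : Type*) [Field F] : Matrix.symplecticGroup (Fin m) F :=
  ⟨-1, SymplecticGroup.neg_mem (one_mem _)⟩

lemma sp_ext (g h : Matrix.symplecticGroup (Fin m) F)
    (H : ∀ v, (g : Matrix (Fin m ⊕ Fin m) (Fin m ⊕ Fin m) F) *ᵥ v =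
      (h : Matrix (Fin m ⊕ Fin m) (Fin m ⊕ Fin m) F) *ᵥ v) : g = h := by
  apply Subtype.ext
  exact Matrix.ext_iff_mulVec.2 H

lemma negOne_mem_center : negOne m F ∈ Subgroup.center (Matrix.symplecticGroup (Fin m) F) := by
  rw [Subgroup.mem_center_iff]
  intro h
  apply Subtype.ext
  show (h : Matrix (Fin m ⊕ Fin m) (Fin m ⊕ Fin m) F) * (-1) = (-1) * (h : Matrix (Fin m ⊕ Fin m) (Fin m ⊕ Fin m) F)
  simp

/-- a central element fixes every line -/
lemma central_line (g : Matrix.symplecticGroup (Fin m) F)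
    (hg : g ∈ Subgroup.center (Matrix.symplecticGroup (Fin m) F)) (u : Fin m ⊕ Fin m → F) :
    ∃ c : F, (g : Matrix (Fin m ⊕ Fin m) (Fin m ⊕ Fin m) F) *ᵥ u = c • u := by
  by_cases hu : u = 0
  · subst hu
    exact ⟨1, by simp⟩
  · obtain ⟨x, hx⟩ := exists_form_ne_zero u hu
    have hx' : sympForm m F x u ≠ 0 := by rw [sympForm_swap]; exact neg_ne_zero.2 hx
    rw [Subgroup.mem_center_iff] at hg
    have h1 := hg ⟨sympTransvection m u 1, sympTransvection_mem _ _⟩
    have h2 : (sympTransvection m u 1) * (g : Matrix (Fin m ⊕ Fin m) (Fin m ⊕ Fin m) F)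
        = (g : Matrix (Fin m ⊕ Fin m) (Fin m ⊕ Fin m) F) * (sympTransvection m u 1) :=
      congrArg Subtype.val h1
    have h3 := congrArg (fun M => M *ᵥ x) h2
    simp only [← Matrix.mulVec_mulVec, sympTransvection_mulVec, Matrix.mulVec_add,
      Matrix.mulVec_smul, one_mul] at h3
    have h4 : sympForm m F ((g : Matrix (Fin m ⊕ Fin m) (Fin m ⊕ Fin m) F) *ᵥ x) u • u
        = sympForm m F x u • ((g : Matrix (Fin m ⊕ Fin m) (Fin m ⊕ Fin m) F) *ᵥ u) :=
      add_left_cancel h3
    refine ⟨(sympForm m F x u)⁻¹ * sympForm m F ((g : Matrix (Fin m ⊕ Fin m) (Fin m ⊕ Fin m) F) *ᵥ x) u, ?_⟩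
    rw [mul_smul, h4, smul_smul, inv_mul_cancel₀ hx', one_smul]

lemma central_scalar (g : Matrix.symplecticGroup (Fin m) F)
    (hg : g ∈ Subgroup.center (Matrix.symplecticGroup (Fin m) F)) :
    ∃ a : F, ∀ u, (g : Matrix (Fin m ⊕ Fin m) (Fin m ⊕ Fin m) F) *ᵥ u = a • u := by
  have h := LinearMap.exists_eq_smul_id_of_forall_notLinearIndependent
    (f := Matrix.toLin' (g : Matrix (Fin m ⊕ Fin m) (Fin m ⊕ Fin m) F)) (by
      intro v
      obtain ⟨c, hc⟩ := central_line g hg v
      rw [Matrix.toLin'_apply, hc, LinearIndependent.pair_iff]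
      intro hli
      by_cases hv : v = 0
      · have := hli 1 0 (by simp [hv])
        exact one_ne_zero this.1
      · have := hli c (-1) (by simp)
        have h2 := this.2
        simp at h2)
  obtain ⟨a, ha⟩ := h
  refine ⟨a, fun u => ?_⟩
  have := congrArg (fun f => f u) ha
  simpa using this

lemma central_cases (hm : 1 ≤ m) (g : Matrix.symplecticGroup (Fin m) F)
    (hg : g ∈ Subgroup.center (Matrix.symplecticGroup (Fin m) F)) :
    g = 1 ∨ g = negOne m F := by
  obtain ⟨a, ha⟩ := central_scalar g hg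
  classical
  set u : Fin m ⊕ Fin m → F := Pi.single (Sum.inl ⟨0, hm⟩) 1 with hu
  have hu0 : u ≠ 0 := by
    intro h
    have := congrFun h (Sum.inl ⟨0, hm⟩)
    simp [hu] at this
  obtain ⟨x, hx⟩ := exists_form_ne_zero u hu0
  have hp := (mem_symplecticGroup_iff_preserves _).1 g.2 u x
  rw [ha, ha, sympForm_smul_left, sympForm_smul_right] at hp
  have h1 : a * a = 1 := by
    have : (a * a - 1) * sympForm m F u x = 0 := by rw [sub_mul, one_mul, mul_assoc, hp, sub_self]
    rcases mul_eq_zero.1 this with h | h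
    · exact sub_eq_zero.1 h
    · exact absurd h hx
  rcases mul_self_eq_one_iff.1 h1 with h | h
  · left
    apply sp_ext
    intro v
    rw [ha, h, one_smul]
    show v = (1 : Matrix (Fin m ⊕ Fin m) (Fin m ⊕ Fin m) F) *ᵥ v
    rw [Matrix.one_mulVec]
  · right
    apply sp_ext
    intro v
    rw [ha, h]
    show (-1 : F) • v = (-1 : Matrix (Fin m ⊕ Fin m) (Fin m ⊕ Fin m) F) *ᵥ v
    rw [Matrix.neg_mulVec, Matrix.one_mulVec, neg_smul, one_smul]

lemma center_eq (hm : 1 ≤ m) :
    (Subgroup.center (Matrix.symplecticGroup (Fin m) F) : Set (Matrix.symplecticGroup (Fin m) F))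
      = {1, negOne m F} := by
  ext g
  constructor
  · intro hg
    rcases central_cases hm g hg with h | h
    · left; exact h
    · right; exact h
  · rintro (h | h)
    · rw [h]; exact Subgroup.one_mem _
    · rw [h]; exact negOne_mem_center

/-- The centre of Sp_{2m}(q), m at least 1, is {1, -1}: it has order gcd(2, q-1). -/
theorem result {F : Type*} [Field F] [Fintype F] {q : ℕ} (hF : Fintype.card F = q) (m : ℕ) (hm : 1 ≤ m) : Nat.card (Subgroup.center (Matrix.symplecticGroup (Fin m) F)) = Nat.gcd 2 (q - 1) := by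
  have hcard : Nat.card (Subgroup.center (Matrix.symplecticGroup (Fin m) F))
      = Set.ncard ({1, negOne m F} : Set (Matrix.symplecticGroup (Fin m) F)) := by
    rw [← center_eq hm]
    rfl
  rw [hcard]
  have hq2 : 2 ≤ q := by rw [← hF]; exact Fintype.one_lt_card
  by_cases hc : ringChar F = 2
  · have h1 : (-1 : F) = 1 := neg_one_eq_one_iff.2 hc
    have h2 : negOne m F = 1 := by
      apply Subtype.ext
      show (-1 : Matrix (Fin m ⊕ Fin m) (Fin m ⊕ Fin m) F) = 1
      ext i j
      by_cases hij : i = j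
      · subst hij; simp [h1]
      · simp [Matrix.one_apply_ne hij]
    rw [h2, Set.pair_eq_singleton, Set.ncard_singleton]
    have h3 := FiniteField.even_card_of_char_two hc
    rw [hF] at h3
    have h4 : Nat.gcd 2 (q - 1) ∣ 2 := Nat.gcd_dvd_left _ _
    have h5 : Nat.gcd 2 (q - 1) ∣ q - 1 := Nat.gcd_dvd_right _ _
    have h6 : Nat.gcd 2 (q - 1) ≤ 2 := Nat.le_of_dvd (by norm_num) h4
    have h7 : 0 < Nat.gcd 2 (q - 1) := Nat.gcd_pos_of_pos_left _ (by norm_num)
    interval_cases hh : Nat.gcd 2 (q - 1)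
    · rfl
    · exfalso; omega
  · have h1 : (-1 : F) ≠ 1 := fun h => hc (neg_one_eq_one_iff.1 h)
    have h2 : (1 : Matrix.symplecticGroup (Fin m) F) ≠ negOne m F := by
      intro h
      have h3 := congrArg (fun M : Matrix.symplecticGroup (Fin m) F =>
        (M : Matrix (Fin m ⊕ Fin m) (Fin m ⊕ Fin m) F) (Sum.inl ⟨0, hm⟩) (Sum.inl ⟨0, hm⟩)) h
      have h4 : (1 : F) = -1 := by
        simpa [negOne] using h3
      exact h1 h4.symm
    rw [Set.ncard_pair h2]
    have h3 := FiniteField.odd_card_of_char_ne_two hc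
    rw [hF] at h3
    have h4 : 2 ∣ q - 1 := by omega
    exact (Nat.gcd_eq_left h4).symm

end Cfsg.Agent.S0246
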