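-- Statement S0752: symplectic bases for alternating forms.
import Cfsg.Statements.S0752
import Mathlib

set_option autoImplicit false
open Cfsg

namespace Cfsg.Agent.S0752

variable {F V : Type*} [Field F] [AddCommGroup V] [Module F V]

/-- A hyperbolic family. -/
def IsHyp (B : LinearMap.BilinForm F V) {m : ℕ} (e f : Fin m → V) : Prop :=
  (∀ i j, B (e i) (f j) = if i = j then 1 else 0) ∧ (∀ i j, B (e i) (e j) = 0) ∧
    (∀ i j, B (f i) (f j) = 0)

lemma swap_eq (B : LinearMap.BilinForm F V) (hA : B.IsAlt) (x y : V) : B y x = - B x y :=
  (hA.neg_eq x y).symm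

lemma hyp_fe (B : LinearMap.BilinForm F V) (hA : B.IsAlt) {m : ℕ} (e f : Fin m → V)
    (h : IsHyp B e f) (i j : Fin m) : B (f i) (e j) = if i = j then -1 else 0 := by
  rw [swap_eq B hA (e j) (f i), h.1 j i]
  by_cases hij : i = j
  · subst hij; simp
  · have : ¬ j = i := fun h' => hij h'.symm
    simp [hij, this]

lemma li_family (B : LinearMap.BilinForm F V) (hA : B.IsAlt) {m k : ℕ} (e f : Fin m → V)
    (r : Fin k → V) (h : IsHyp B e f) (hr : LinearIndependent F r)
    (hrad : ∀ j v, B (r j) v = 0) :
    LinearIndependent F (Sum.elim (Sum.elim e f) r) := by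
  classical
  rw [Fintype.linearIndependent_iff]
  intro g hg
  simp only [Fintype.sum_sum_type, Sum.elim_inl, Sum.elim_inr] at hg
  have h1 : ∀ j, g (Sum.inl (Sum.inl j)) = 0 := by
    intro j
    have := congrArg (fun x => B x (f j)) hg
    simpa [map_add, map_sum, LinearMap.add_apply, LinearMap.sum_apply, map_smul,
      LinearMap.smul_apply, h.1, h.2.2, hrad] using this
  have h2 : ∀ j, g (Sum.inl (Sum.inr j)) = 0 := by
    intro j
    have := congrArg (fun x => B x (e j)) hg
    simpa [map_add, map_sum, LinearMap.add_apply, LinearMap.sum_apply, map_smul,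
      LinearMap.smul_apply, h.2.1, hyp_fe B hA e f h, hrad] using this
  have h3 : ∑ j, g (Sum.inr j) • r j = 0 := by
    simpa [h1, h2] using hg
  have h3' := Fintype.linearIndependent_iff.1 hr (fun j => g (Sum.inr j)) h3
  rintro ((i | i) | j)
  · exact h1 i
  · exact h2 i
  · exact h3' j

/-- Classification of alternating forms: for an alternating bilinear form B on a finite-dimensional space over any field there is a basis indexed by (Fin m ⊕ Fin m) ⊕ Fin k such that B (e_i, f_j) = δ_ij, the e's are pairwise orthogonal, the f's are pairwise orthogonal, and the last k basis vectors are orthogonal to everything (they span the radical). -/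
theorem result {F V : Type*} [Field F] [AddCommGroup V] [Module F V] [FiniteDimensional F V] (B : LinearMap.BilinForm F V) (hA : B.IsAlt) : ∃ (m k : ℕ) (b : Module.Basis ((Fin m ⊕ Fin m) ⊕ Fin k) F V), (∀ i j : Fin m, B (b (Sum.inl (Sum.inl i))) (b (Sum.inl (Sum.inr j))) = if i = j then 1 else 0) ∧ (∀ i j : Fin m, B (b (Sum.inl (Sum.inl i))) (b (Sum.inl (Sum.inl j))) = 0) ∧ (∀ i j : Fin m, B (b (Sum.inl (Sum.inr i))) (b (Sum.inl (Sum.inr j))) = 0) ∧ (∀ (j : Fin k) (v : V), B (b (Sum.inr j)) v = 0) := by
  classical
  obtain ⟨n, hn⟩ : ∃ n, n = Module.finrank F V := ⟨_, rfl⟩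
  let P : ℕ → Prop := fun m => ∃ e f : Fin m → V, IsHyp B e f
  have hbound : ∀ m, P m → m ≤ n := by
    rintro m ⟨e, f, h⟩
    have hli := li_family B hA e f (Fin.elim0 : Fin 0 → V) h linearIndependent_empty_type
      (fun j => j.elim0)
    have := hli.fintype_card_le_finrank
    simp only [Fintype.card_sum, Fintype.card_fin] at this
    omega
  have hP0 : P 0 := ⟨Fin.elim0, Fin.elim0, fun i => i.elim0, fun i => i.elim0, fun i => i.elim0⟩
  obtain ⟨m, ⟨e, f, h⟩, hmax⟩ : ∃ m, P m ∧ ∀ m', P m' → m' ≤ m :=
    ⟨Nat.findGreatest P n, Nat.findGreatest_spec (Nat.zero_le n) hP0,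
      fun m' h' => Nat.le_findGreatest (hbound m' h') h'⟩
  have hfe := hyp_fe B hA e f h
  -- the perp
  let W : Submodule F V := ⨅ i, (LinearMap.ker (B (e i)) ⊓ LinearMap.ker (B (f i)))
  have hW : ∀ w, w ∈ W ↔ ∀ i, B (e i) w = 0 ∧ B (f i) w = 0 := by
    intro w
    simp [W, Submodule.mem_iInf]
  -- B vanishes on W
  have hzero : ∀ u ∈ W, ∀ v ∈ W, B u v = 0 := by
    intro u hu v hv
    by_contra hne
    have hu' := (hW u).1 hu
    have hv' := (hW v).1 hv
    have hP : P (m + 1) := by
      refine ⟨Fin.snoc e u, Fin.snoc f ((B u v)⁻¹ • v), ?_, ?_, ?_⟩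
      · intro i j
        induction i using Fin.lastCases with
        | last =>
          induction j using Fin.lastCases with
          | last => simp [hne]
          | cast j =>
            have : Fin.last m ≠ j.castSucc := (Fin.castSucc_lt_last j).ne'
            simp [this, swap_eq B hA (f j) u, (hu' j).2]
        | cast i =>
          induction j using Fin.lastCases with
          | last =>
            have : i.castSucc ≠ Fin.last m := (Fin.castSucc_lt_last i).ne
            simp [this, (hv' i).1]
          | cast j => simp [h.1 i j]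
      · intro i j
        induction i using Fin.lastCases with
        | last =>
          induction j using Fin.lastCases with
          | last => simp [hA u]
          | cast j => simp [swap_eq B hA (e j) u, (hu' j).1]
        | cast i =>
          induction j using Fin.lastCases with
          | last => simp [(hu' i).1]
          | cast j => simp [h.2.1 i j]
      · intro i j
        induction i using Fin.lastCases with
        | last =>
          induction j using Fin.lastCases with
          | last => simp [hA v]
          | cast j => simp [swap_eq B hA (f j) v, (hv' j).2]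
        | cast i =>
          induction j using Fin.lastCases with
          | last => simp [(hv' i).2]
          | cast j => simp [h.2.2 i j]
    have := hmax _ hP
    omega
  -- projection
  let proj : V → V := fun v => ∑ i, (B v (f i)) • e i - ∑ i, (B v (e i)) • f i
  have hprojW : ∀ v, v - proj v ∈ W := by
    intro v
    rw [hW]
    intro j
    constructor
    · simp only [proj, map_sub, map_sum, map_smul, smul_eq_mul, h.2.1, h.1, mul_zero,
        Finset.sum_const_zero, zero_sub, mul_ite, mul_one, Finset.sum_ite_eq, Finset.mem_univ,
        if_true, sub_neg_eq_add]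
      rw [swap_eq B hA (e j) v]; ring
    · simp only [proj, map_sub, map_sum, map_smul, smul_eq_mul, h.2.2, hfe, mul_zero,
        Finset.sum_const_zero, sub_zero, mul_ite, mul_neg, mul_one, Finset.sum_ite_eq,
        Finset.mem_univ, if_true, sub_neg_eq_add]
      rw [swap_eq B hA (f j) v]; ring
  have hWrad : ∀ w ∈ W, ∀ v, B w v = 0 := by
    intro w hw v
    have hw' := (hW w).1 hw
    have h1 : B w (proj v) = 0 := by
      simp only [proj, map_sub, map_sum, map_smul, smul_eq_mul]
      have he : ∀ i, B w (e i) = 0 := fun i => by rw [swap_eq B hA (e i) w, (hw' i).1, neg_zero]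
      have hf : ∀ i, B w (f i) = 0 := fun i => by rw [swap_eq B hA (f i) w, (hw' i).2, neg_zero]
      simp [he, hf]
    have h2 : B w (v - proj v) = 0 := hzero w hw _ (hprojW v)
    have : v = proj v + (v - proj v) := by abel
    rw [this, map_add, h1, h2, add_zero]
  -- basis of W
  let bW := Module.finBasis F W
  let k := Module.finrank F W
  let r : Fin k → V := fun j => (bW j : V)
  have hr : LinearIndependent F r :=
    bW.linearIndependent.map' W.subtype (Submodule.ker_subtype W)
  have hrad : ∀ j v, B (r j) v = 0 := fun j v => hWrad _ (bW j).2 v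
  have hli := li_family B hA e f r h hr hrad
  have hsp : ⊤ ≤ Submodule.span F (Set.range (Sum.elim (Sum.elim e f) r)) := by
    intro v _
    have hv : v = proj v + (v - proj v) := by abel
    rw [hv]
    apply Submodule.add_mem
    · apply Submodule.sub_mem
      · apply Submodule.sum_mem
        intro i _
        apply Submodule.smul_mem
        exact Submodule.subset_span ⟨Sum.inl (Sum.inl i), rfl⟩
      · apply Submodule.sum_mem
        intro i _
        apply Submodule.smul_mem
        exact Submodule.subset_span ⟨Sum.inl (Sum.inr i), rfl⟩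
    · have hw := hprojW v
      have := bW.sum_repr ⟨v - proj v, hw⟩
      have h2 : v - proj v = ∑ j, (bW.repr ⟨v - proj v, hw⟩ j) • r j := by
        have := congrArg (Subtype.val) this
        simp only [Submodule.coe_sum, Submodule.coe_smul] at this
        exact this.symm
      rw [h2]
      apply Submodule.sum_mem
      intro j _
      apply Submodule.smul_mem
      exact Submodule.subset_span ⟨Sum.inr j, rfl⟩
  refine ⟨m, k, Module.Basis.mk hli hsp, ?_, ?_, ?_, ?_⟩
  · intro i j
    simp [Module.Basis.mk_apply, h.1]
  · intro i j
    simp [Module.Basis.mk_apply, h.2.1]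
  · intro i j
    simp [Module.Basis.mk_apply, h.2.2]
  · intro j v
    simp [Module.Basis.mk_apply, hrad]

end Cfsg.Agent.S0752
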