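-- Statement S0826: S_2n embeds in Sp_(2n-2)(2) via the heart of the permutation module.
import Cfsg.Statements.S0826
import Mathlib
import Cfsg.Agent.S0752

set_option autoImplicit false
open Cfsg

namespace Cfsg.Agent.S0826

open Matrix

abbrev K := ZMod 2

/-- the permutation module -/
abbrev P (N : ℕ) := Fin N → K

/-- the dot product form -/
def dotB (N : ℕ) : LinearMap.BilinForm K (P N) :=
  LinearMap.mk₂ K (fun u v => u ⬝ᵥ v) (fun u v w => add_dotProduct u v w)
    (fun c u v => smul_dotProduct c u v) (fun u v w => dotProduct_add u v w)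
    (fun c u v => dotProduct_smul c u v)

lemma dotB_apply (N : ℕ) (u v : P N) : dotB N u v = ∑ i, u i * v i := rfl

/-- the sum functional -/
def sumMap (N : ℕ) : P N →ₗ[K] K := ∑ i, LinearMap.proj i

lemma sumMap_apply (N : ℕ) (u : P N) : sumMap N u = ∑ i, u i := by
  simp [sumMap, LinearMap.sum_apply]

/-- the even-weight submodule -/
def E (N : ℕ) : Submodule K (P N) := LinearMap.ker (sumMap N)

lemma mem_E (N : ℕ) (u : P N) : u ∈ E N ↔ ∑ i, u i = 0 := by
  rw [E, LinearMap.mem_ker, sumMap_apply]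

/-- the restricted form -/
def BE (N : ℕ) : LinearMap.BilinForm K (E N) := (dotB N).restrict (E N)

lemma BE_apply (N : ℕ) (u v : E N) : BE N u v = ∑ i, (u : P N) i * (v : P N) i := rfl

lemma sq_eq (a : K) : a * a = a := by revert a; decide

lemma BE_alt (N : ℕ) : (BE N).IsAlt := by
  intro u
  rw [BE_apply]
  simp only [sq_eq]
  exact (mem_E N u).1 u.2

lemma BE_symm (N : ℕ) (u v : E N) : BE N u v = BE N v u := by
  rw [BE_apply, BE_apply]
  exact Finset.sum_congr rfl fun i _ => mul_comm _ _

/-- permutation action -/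
def T (N : ℕ) (σ : Equiv.Perm (Fin N)) : P N →ₗ[K] P N := LinearMap.funLeft K K σ.symm

lemma T_apply (N : ℕ) (σ : Equiv.Perm (Fin N)) (u : P N) (i : Fin N) :
    T N σ u i = u (σ.symm i) := rfl

lemma T_mem (N : ℕ) (σ : Equiv.Perm (Fin N)) (u : P N) (hu : u ∈ E N) : T N σ u ∈ E N := by
  rw [mem_E] at hu ⊢
  simp only [T_apply]
  rw [Equiv.sum_comp σ.symm u]
  exact hu

def TE (N : ℕ) (σ : Equiv.Perm (Fin N)) : E N →ₗ[K] E N := (T N σ).restrict (T_mem N σ)

lemma TE_apply (N : ℕ) (σ : Equiv.Perm (Fin N)) (u : E N) (i : Fin N) :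
    (TE N σ u : P N) i = (u : P N) (σ.symm i) := rfl

lemma TE_mul (N : ℕ) (σ τ : Equiv.Perm (Fin N)) : TE N (σ * τ) = TE N σ * TE N τ := by
  apply LinearMap.ext
  intro u
  apply Subtype.ext
  funext i
  simp only [TE_apply, Module.End.mul_apply]
  rfl

lemma TE_isom (N : ℕ) (σ : Equiv.Perm (Fin N)) (u v : E N) :
    BE N (TE N σ u) (TE N σ v) = BE N u v := by
  simp only [BE_apply, TE_apply]
  exact Equiv.sum_comp σ.symm (fun i => (u : P N) i * (v : P N) i)

/-- all ones, as an element of E (for even N) -/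
def ones (N : ℕ) (hN : Even N) : E N := ⟨fun _ => 1, by
  rw [mem_E]
  simp only [Finset.sum_const, Finset.card_univ, Fintype.card_fin, nsmul_eq_mul, mul_one]
  exact (ZMod.natCast_eq_zero_iff_even).2 hN⟩

lemma ones_apply (N : ℕ) (hN : Even N) (i : Fin N) : (ones N hN : P N) i = 1 := rfl

/-- the pair vector δ_a + δ_b -/
def pairVec (N : ℕ) (a b : Fin N) (hab : a ≠ b) : E N := ⟨Pi.single a 1 + Pi.single b 1, by
  rw [mem_E]
  simp only [Pi.add_apply, Finset.sum_add_distrib, Finset.sum_pi_single', Finset.mem_univ, if_true]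
  decide⟩

lemma pairVec_apply (N : ℕ) (a b : Fin N) (hab : a ≠ b) (i : Fin N) :
    (pairVec N a b hab : P N) i = (if i = a then 1 else 0) + (if i = b then 1 else 0) := by
  simp [pairVec, Pi.single_apply]

/-- radical of BE -/
lemma rad_eq (N : ℕ) (hN : Even N) (x : E N) (hx : ∀ y, BE N x y = 0) : x = 0 ∨ x = ones N hN := by
  have hconst : ∀ a b : Fin N, (x : P N) a = (x : P N) b := by
    intro a b
    by_cases hab : a = b
    · rw [hab]
    · have := hx (pairVec N a b hab)
      rw [BE_apply] at this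
      simp only [pairVec_apply, mul_add, mul_ite, mul_one, mul_zero, Finset.sum_add_distrib,
        Finset.sum_ite_eq', Finset.mem_univ, if_true] at this
      have h2 : (x : P N) a = -(x : P N) b := eq_neg_of_add_eq_zero_left this
      rw [h2]
      generalize (x : P N) b = t
      revert t; decide
  rcases Nat.eq_zero_or_pos N with h0 | hpos
  · left
    apply Subtype.ext
    funext i
    subst h0
    exact i.elim0
  · let i0 : Fin N := ⟨0, hpos⟩
    have h01 : (x : P N) i0 = 0 ∨ (x : P N) i0 = 1 := by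
      generalize (x : P N) i0 = t
      revert t; decide
    rcases h01 with h | h
    · left
      apply Subtype.ext
      funext i
      rw [hconst i i0, h]; rfl
    · right
      apply Subtype.ext
      funext i
      rw [hconst i i0, h]; rfl

lemma ones_rad (N : ℕ) (hN : Even N) (y : E N) : BE N (ones N hN) y = 0 := by
  rw [BE_apply]
  simp only [ones_apply, one_mul]
  exact (mem_E N y).1 y.2

lemma finrank_E (N : ℕ) (hN : 0 < N) : Module.finrank K (E N) + 1 = N := by
  have hsurj : Function.Surjective (sumMap N) := by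
    intro c
    refine ⟨Pi.single ⟨0, hN⟩ c, ?_⟩
    rw [sumMap_apply]
    simp
  have h1 := LinearMap.finrank_range_add_finrank_ker (sumMap N)
  rw [LinearMap.range_eq_top.2 hsurj, finrank_top] at h1
  simp only [Module.finrank_self, Module.finrank_fintype_fun_eq_card, Fintype.card_fin] at h1
  rw [E]
  omega

lemma TE_ones (N : ℕ) (hN : Even N) (σ : Equiv.Perm (Fin N)) : TE N σ (ones N hN) = ones N hN := by
  apply Subtype.ext
  funext i
  rfl

lemma exists_notMem (N : ℕ) (S : Finset (Fin N)) (hS : S.card < N) : ∃ i, i ∉ S := by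
  by_contra hcon
  push Not at hcon
  have : S = Finset.univ := Finset.eq_univ_iff_forall.2 hcon
  rw [this, Finset.card_univ, Fintype.card_fin] at hS
  exact lt_irrefl _ hS

/-- a permutation acting trivially on `E` modulo `ones` is trivial (N ≥ 6) -/
lemma perm_eq_one (N : ℕ) (hN : Even N) (h6 : 6 ≤ N) (σ : Equiv.Perm (Fin N))
    (h : ∀ x : E N, ∃ c : K, TE N σ x = x + c • ones N hN) : σ = 1 := by
  classical
  have key : ∀ a b : Fin N, a ≠ b → σ a = a ∨ σ a = b := by
    intro a b hab
    obtain ⟨c, hc⟩ := h (pairVec N a b hab)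
    have hc01 : ∀ t : K, t = 0 ∨ t = 1 := by decide
    rcases hc01 c with rfl | rfl
    · rw [zero_smul, add_zero] at hc
      have := congrFun (congrArg Subtype.val hc) (σ a)
      rw [TE_apply, Equiv.symm_apply_apply, pairVec_apply, pairVec_apply] at this
      by_contra hcon
      push Not at hcon
      simp [hab, hcon.1, hcon.2] at this
    · exfalso
      obtain ⟨i, hi⟩ := exists_notMem N {a, b, σ a, σ b}
        (lt_of_le_of_lt Finset.card_le_four (by omega))
      simp only [Finset.mem_insert, Finset.mem_singleton, not_or] at hi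
      have := congrFun (congrArg Subtype.val hc) i
      rw [TE_apply, pairVec_apply] at this
      simp only [Submodule.coe_add, Submodule.coe_smul, Pi.add_apply, Pi.smul_apply, ones_apply,
        pairVec_apply, smul_eq_mul, mul_one] at this
      have e1 : σ.symm i ≠ a := fun h' => hi.2.2.1 (by rw [← h', Equiv.apply_symm_apply])
      have e2 : σ.symm i ≠ b := fun h' => hi.2.2.2 (by rw [← h', Equiv.apply_symm_apply])
      simp [e1, e2, hi.1, hi.2.1] at this
  ext a
  obtain ⟨b, hb⟩ := exists_notMem N {a} (by simp; omega)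
  obtain ⟨c, hc⟩ := exists_notMem N {a, b} (lt_of_le_of_lt Finset.card_le_two (by omega))
  simp only [Finset.mem_singleton] at hb
  simp only [Finset.mem_insert, Finset.mem_singleton, not_or] at hc
  have h1 := key a b (Ne.symm hb)
  have h2 := key a c (Ne.symm hc.1)
  simp only [Equiv.Perm.coe_one, id_eq]
  rcases h1 with h1 | h1
  · rw [h1]
  · rcases h2 with h2 | h2
    · rw [h2]
    · exact absurd (h1.symm.trans h2) (Ne.symm hc.2)

/-- S_2n ≤ Sp_(2n−2)(2) for n ≥ 3: there is an injective homomorphism from the symmetric group on 2n letters into the symplectic group of degree 2n − 2 over the field with two elements. -/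
theorem result (n : ℕ) (hn : 3 ≤ n) : ∃ f : Equiv.Perm (Fin (2 * n)) →* Matrix.symplecticGroup (Fin (n - 1)) (ZMod 2), Function.Injective f := by
  classical
  have hN : Even (2 * n) := even_two_mul n
  have hNpos : 0 < 2 * n := by omega
  obtain ⟨m, k, b, h1, h2, h3, h4⟩ := Cfsg.Agent.S0752.result (BE (2 * n)) (BE_alt (2 * n))
  have hbr : ∀ j : Fin k, b (Sum.inr j) = ones (2 * n) hN := by
    intro j
    rcases rad_eq (2 * n) hN _ (h4 j) with h | h
    · exact absurd h (b.ne_zero _)
    · exact h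
  have hk1 : k ≤ 1 := by
    by_contra hcon
    have h01 : (⟨0, by omega⟩ : Fin k) = ⟨1, by omega⟩ := by
      have := b.injective ((hbr ⟨0, by omega⟩).trans (hbr ⟨1, by omega⟩).symm)
      exact Sum.inr_injective this
    simp [Fin.ext_iff] at h01
  have hdim : m + m + k + 1 = 2 * n := by
    have := finrank_E (2 * n) hNpos
    rw [Module.finrank_eq_card_basis b] at this
    simpa using this
  have hk : k = 1 := by omega
  have hm : m = n - 1 := by omega
  subst hm hk
  -- the matrices
  let M : Equiv.Perm (Fin (2 * n)) → Matrix ((Fin (n - 1) ⊕ Fin (n - 1)) ⊕ Fin 1)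
      ((Fin (n - 1) ⊕ Fin (n - 1)) ⊕ Fin 1) K := fun σ => LinearMap.toMatrix b b (TE (2 * n) σ)
  have hM_mul : ∀ σ τ, M (σ * τ) = M σ * M τ := by
    intro σ τ
    simp only [M]
    rw [TE_mul, LinearMap.toMatrix_mul]
  have hM12 : ∀ σ, (M σ).toBlocks₁₂ = 0 := by
    intro σ
    ext i j
    simp only [M, Matrix.toBlocks₁₂, Matrix.of_apply, LinearMap.toMatrix_apply, Matrix.zero_apply]
    rw [hbr j, TE_ones, ← hbr j, Module.Basis.repr_self]
    simp
  have hMdec : ∀ σ, M σ = Matrix.fromBlocks (M σ).toBlocks₁₁ 0 (M σ).toBlocks₂₁ (M σ).toBlocks₂₂ := by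
    intro σ
    conv_lhs => rw [← Matrix.fromBlocks_toBlocks (M σ), hM12 σ]
  let A : Equiv.Perm (Fin (2 * n)) → Matrix (Fin (n - 1) ⊕ Fin (n - 1)) (Fin (n - 1) ⊕ Fin (n - 1)) K :=
    fun σ => (M σ).toBlocks₁₁
  have hA_mul : ∀ σ τ, A (σ * τ) = A σ * A τ := by
    intro σ τ
    simp only [A]
    rw [hM_mul, hMdec σ, hMdec τ, Matrix.fromBlocks_multiply, Matrix.toBlocks_fromBlocks₁₁,
      Matrix.toBlocks_fromBlocks₁₁, Matrix.toBlocks_fromBlocks₁₁, Matrix.zero_mul, add_zero]
  -- Gram matrix
  have hG : LinearMap.BilinForm.toMatrix b (BE (2 * n)) =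
      Matrix.fromBlocks (Matrix.J (Fin (n - 1)) K) 0 0 0 := by
    ext x y
    rw [LinearMap.BilinForm.toMatrix_apply]
    rcases x with (i | i) | i <;> rcases y with (j | j) | j
    · rw [h2]; simp [Matrix.J]
    · rw [h1]
      simp only [Matrix.J, Matrix.fromBlocks_apply₁₁, Matrix.fromBlocks_apply₁₂, Matrix.neg_apply,
        Matrix.one_apply]
      by_cases hij : i = j
      · simp [hij]
      · simp [hij]
    · rw [BE_symm, h4]; simp
    · rw [BE_symm, h1]
      simp only [Matrix.J, Matrix.fromBlocks_apply₁₁, Matrix.fromBlocks_apply₂₁, Matrix.one_apply]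
      by_cases hij : i = j
      · simp [hij]
      · have : ¬ j = i := fun h' => hij h'.symm
        simp [hij, this]
    · rw [h3]; simp [Matrix.J]
    · rw [BE_symm, h4]; simp
    · rw [h4]; simp
    · rw [h4]; simp
    · rw [h4]; simp
  have hAJ : ∀ σ, (A σ)ᵀ * Matrix.J (Fin (n - 1)) K * A σ = Matrix.J (Fin (n - 1)) K := by
    intro σ
    have hcomp : (BE (2 * n)).comp (TE (2 * n) σ) (TE (2 * n) σ) = BE (2 * n) := by
      ext u v
      exact TE_isom (2 * n) σ u v
    have := LinearMap.BilinForm.toMatrix_comp b b (BE (2 * n)) (TE (2 * n) σ) (TE (2 * n) σ)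
    rw [hcomp, hG] at this
    change _ = (M σ)ᵀ * _ * M σ at this
    rw [hMdec σ, Matrix.fromBlocks_transpose, Matrix.fromBlocks_multiply,
      Matrix.fromBlocks_multiply] at this
    have h11 := congrArg Matrix.toBlocks₁₁ this
    rw [Matrix.toBlocks_fromBlocks₁₁, Matrix.toBlocks_fromBlocks₁₁] at h11
    simp only [Matrix.mul_zero, add_zero, Matrix.zero_mul] at h11
    exact h11.symm
  let f : Equiv.Perm (Fin (2 * n)) →* Matrix.symplecticGroup (Fin (n - 1)) (ZMod 2) :=
    MonoidHom.mk' (fun σ => ⟨A σ, SymplecticGroup.mem_iff'.2 (hAJ σ)⟩)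
      (fun σ τ => Subtype.ext (hA_mul σ τ))
  refine ⟨f, (injective_iff_map_eq_one f).2 ?_⟩
  intro σ hσ
  have hA1 : A σ = 1 := congrArg Subtype.val hσ
  apply perm_eq_one (2 * n) hN (by omega) σ
  -- on basis vectors
  have hbasis : ∀ j, ∃ c : K, TE (2 * n) σ (b j) = b j + c • ones (2 * n) hN := by
    intro j
    rcases j with j | j
    · refine ⟨M σ (Sum.inr 0) (Sum.inl j), ?_⟩
      have hrepr := b.sum_repr (TE (2 * n) σ (b (Sum.inl j)))
      rw [← hrepr]
      rw [Fintype.sum_sum_type]
      have e1 : ∀ l, b.repr (TE (2 * n) σ (b (Sum.inl j))) (Sum.inl l) = A σ l j := by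
        intro l
        simp only [A, M, Matrix.toBlocks₁₁, Matrix.of_apply, LinearMap.toMatrix_apply]
      have e2 : ∀ l, b.repr (TE (2 * n) σ (b (Sum.inl j))) (Sum.inr l) = M σ (Sum.inr l) (Sum.inl j) := by
        intro l
        simp only [M, LinearMap.toMatrix_apply]
      simp only [e1, e2, hA1, Matrix.one_apply, ite_smul, one_smul, zero_smul, Finset.sum_ite_eq',
        Finset.mem_univ, if_true, Fin.sum_univ_one, Fin.isValue]
      rw [hbr 0]
    · refine ⟨0, ?_⟩
      rw [hbr j, TE_ones, zero_smul, add_zero]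
  intro x
  have hx := b.sum_repr x
  choose c hc using hbasis
  refine ⟨∑ j, b.repr x j * c j, ?_⟩
  conv_lhs => rw [← hx]
  rw [map_sum]
  simp only [map_smul, hc, smul_add, Finset.sum_add_distrib, smul_smul]
  rw [hx, Finset.sum_smul]

end Cfsg.Agent.S0826
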