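-- Statement S0247: Sp_4(2) ≅ S_6.
import Cfsg.Statements.S0247
import Mathlib
import Cfsg.Agent.S0826
import Cfsg.Agent.S0245

set_option autoImplicit false
open Cfsg

namespace Cfsg.Agent.S0247

open Matrix

lemma J_map {R S : Type*} [CommRing R] [CommRing S] (φ : R →+* S) (l : Type*) [DecidableEq l] :
    (Matrix.J l R).map φ = Matrix.J l S := by
  unfold Matrix.J
  rw [Matrix.fromBlocks_map]
  congr 1
  · simp
  · ext i j
    simp [Matrix.one_apply, apply_ite φ]
  · ext i j
    simp [Matrix.one_apply, apply_ite φ]
  · simp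

/-- base change of symplectic groups along a ring hom -/
def spMap {R S : Type*} [CommRing R] [CommRing S] (φ : R →+* S) (l : Type*) [DecidableEq l]
    [Fintype l] : Matrix.symplecticGroup l R →* Matrix.symplecticGroup l S :=
  MonoidHom.mk' (fun A => ⟨A.1.map φ, by
    rw [SymplecticGroup.mem_iff]
    have h := (SymplecticGroup.mem_iff.1 A.2)
    have h2 := congrArg (fun X : Matrix (l ⊕ l) (l ⊕ l) R => X.map φ) h
    simp only [Matrix.map_mul, J_map, Matrix.transpose_map] at h2
    exact h2⟩)
    (fun A B => Subtype.ext (by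
      show (A.1 * B.1).map φ = A.1.map φ * B.1.map φ
      rw [Matrix.map_mul]))

lemma spMap_injective {R S : Type*} [CommRing R] [CommRing S] (φ : R →+* S)
    (hφ : Function.Injective φ) (l : Type*) [DecidableEq l] [Fintype l] :
    Function.Injective (spMap φ l) := by
  intro A B h
  apply Subtype.ext
  have := congrArg Subtype.val h
  exact Matrix.map_injective hφ this

/-- Sp_4(2) is isomorphic to the symmetric group S_6. -/
theorem result {F : Type*} [Field F] [Fintype F] (hF : Fintype.card F = 2) : Nonempty (Matrix.symplecticGroup (Fin 2) F ≃* Equiv.Perm (Fin 6)) := by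
  classical
  obtain ⟨f', hf'⟩ : ∃ f' : Equiv.Perm (Fin 6) →* Matrix.symplecticGroup (Fin 2) (ZMod 2),
      Function.Injective f' := Cfsg.Agent.S0826.result 3 (le_refl 3)
  let e : ZMod 2 ≃+* F := ZMod.ringEquivOfPrime F Nat.prime_two hF
  let g := (spMap e.toRingHom (Fin 2)).comp f'
  have hg : Function.Injective g :=
    (spMap_injective e.toRingHom e.injective (Fin 2)).comp hf'
  have hcard : Nat.card (Matrix.symplecticGroup (Fin 2) F) = 720 := by
    rw [Cfsg.Agent.S0245.result hF 2]
    norm_num [Finset.prod_range_succ]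
  have hcard2 : Nat.card (Equiv.Perm (Fin 6)) = 720 := by
    rw [Nat.card_eq_fintype_card, Fintype.card_perm, Fintype.card_fin]
    rfl
  have hbij : Function.Bijective g :=
    hg.bijective_of_nat_card_le (by rw [hcard, hcard2])
  exact ⟨(MulEquiv.ofBijective g hbij).symm⟩

end Cfsg.Agent.S0247
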