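import Cfsg.Statements.S0250
import Mathlib
import Cfsg.Agent.S0242

set_option autoImplicit false
open Cfsg

namespace Cfsg.Agent.S0250

open Matrix

/-- nonzero vectors of the plane -/
abbrev X (F : Type*) [Field F] := {v : Fin 2 → F // v ≠ 0}

instance instAct {F : Type*} [Field F] : MulAction (SpecialLinearGroup (Fin 2) F) (X F) where
  smul g v := ⟨g • v.1, fun h => v.2 (by
    have h1 := congrArg (fun w => g⁻¹ • w) h
    simpa using h1)⟩
  one_smul v := Subtype.ext (one_smul _ _)
  mul_smul g h v := Subtype.ext (mul_smul _ _ _)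

lemma smul_val {F : Type*} [Field F] (g : SpecialLinearGroup (Fin 2) F) (v : X F) :
    (g • v).1 = g.1 *ᵥ v.1 := rfl

lemma faithful {F : Type*} [Field F] (g : SpecialLinearGroup (Fin 2) F)
    (h : ∀ v : X F, g • v = v) : g = 1 := by
  apply Subtype.ext
  ext i j
  have hne : (Pi.single j 1 : Fin 2 → F) ≠ 0 := Pi.single_ne_zero_iff.2 one_ne_zero
  have h1 := congrArg Subtype.val (h ⟨Pi.single j 1, hne⟩)
  rw [smul_val] at h1
  have h2 := congrFun h1 i
  simp only [Matrix.mulVec_single_one] at h2
  rw [Matrix.col_apply] at h2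
  rw [h2]
  simp [Matrix.one_apply, Pi.single_apply]

/-- SL_2(2) is isomorphic to S_3. -/
theorem result {F : Type*} [Field F] [Fintype F] (hF : Fintype.card F = 2) : Nonempty (Matrix.SpecialLinearGroup (Fin 2) F ≃* Equiv.Perm (Fin 3)) := by
  classical
  have hX : Fintype.card (X F) = 3 := by
    have := Set.card_ne_eq (0 : Fin 2 → F)
    simp only [Set.coe_ofPred] at this
    rw [Fintype.card_subtype_compl] at *
    simp [hF] at *
  have hG : Nat.card (SpecialLinearGroup (Fin 2) F) = 6 := by
    have := Cfsg.Agent.S0242.result hF 2 (by norm_num)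
    simp [Fin.prod_univ_two] at this
    rw [Nat.card_eq_fintype_card]
    exact this
  let φ : SpecialLinearGroup (Fin 2) F →* Equiv.Perm (X F) := MulAction.toPermHom _ _
  have hinj : Function.Injective φ := by
    rw [injective_iff_map_eq_one]
    intro g hg
    apply faithful
    intro v
    have := congrArg (fun σ : Equiv.Perm (X F) => σ v) hg
    simpa [φ] using this
  have hbij : Function.Bijective φ := by
    rw [Fintype.bijective_iff_injective_and_card]
    refine ⟨hinj, ?_⟩
    rw [Fintype.card_perm, hX, ← Nat.card_eq_fintype_card, hG]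
    rfl
  let e1 : SpecialLinearGroup (Fin 2) F ≃* Equiv.Perm (X F) := MulEquiv.ofBijective φ hbij
  let e2 : X F ≃ Fin 3 := Fintype.equivFinOfCardEq hX
  exact ⟨e1.trans e2.permCongrHom⟩

end Cfsg.Agent.S0250
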