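import Cfsg.Statements.S0251
import Mathlib
import Cfsg.Agent.S0243
import Cfsg.Agent.Lib.Helper9_AltEmbed

set_option autoImplicit false
open Cfsg

namespace Cfsg.Agent.S0251

open scoped LinearAlgebra.Projectivization

/-- PSL_2(3) is isomorphic to A_4. -/
theorem result {F : Type*} [Field F] [Fintype F] (hF : Fintype.card F = 3) : Nonempty (Matrix.ProjectiveSpecialLinearGroup (Fin 2) F ≃* alternatingGroup (Fin 4)) := by
  have hcard : Nat.card (Matrix.ProjectiveSpecialLinearGroup (Fin 2) F) = 12 := by
    have := Cfsg.Agent.S0243.result hF 2 (le_refl 2)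
    simp [Fin.prod_univ_two] at this
    omega
  classical
  have hfin : Finite (ℙ F (Fin 2 → F)) := by
    rw [Projectivization.finite_iff_of_finite]
    infer_instance
  have : Fintype (ℙ F (Fin 2 → F)) := Fintype.ofFinite _
  have hX : Fintype.card (ℙ F (Fin 2 → F)) = 4 := by
    have h2 := Projectivization.card_of_finrank_two F (Fin 2 → F) (by simp)
    rw [← Nat.card_eq_fintype_card, h2, Nat.card_eq_fintype_card, hF]
  let φ : Matrix.ProjectiveSpecialLinearGroup (Fin 2) F →* Equiv.Perm (ℙ F (Fin 2 → F)) :=
    MulAction.toPermHom _ _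
  have hinj : Function.Injective φ := MulAction.toPerm_injective
  exact Cfsg.Agent.Helper9AltEmbed.alt_of_embed φ hinj 4 hX (by rw [hcard]; rfl)

end Cfsg.Agent.S0251
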