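import Cfsg.Statements.S0287
import Mathlib
import Cfsg.Agent.Lib.Helper9_OrthCount

set_option autoImplicit false
open Cfsg

namespace Cfsg.Agent.S0287

open Cfsg.Agent.Helper9OrthCount Finset

variable {F : Type*} [Field F]

/-- The plus-type form as a quadratic form. -/
def Qf (m : ℕ) : QuadraticForm F (Fin m ⊕ Fin m → F) :=
  ∑ i : Fin m, QuadraticMap.proj (Sum.inl i) (Sum.inr i)

lemma Qf_apply (m : ℕ) (x : Fin m ⊕ Fin m → F) : Qf m x = quadFormPlus m F x := by
  simp [Qf, quadFormPlus, QuadraticMap.proj_apply]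

/-- The standard space with trivial core is the plus-type space. -/
def sigma (m : ℕ) : Std F PUnit.{1} m ≃ₗ[F] (Fin m ⊕ Fin m → F) where
  toFun z := Sum.elim z.1 z.2.2
  invFun x := (fun i => x (Sum.inl i), (PUnit.unit, fun i => x (Sum.inr i)))
  map_add' z z' := by
    funext a
    rcases a with i | i <;> simp
  map_smul' c z := by
    funext a
    rcases a with i | i <;> simp
  left_inv z := rfl
  right_inv x := by
    funext a
    rcases a with i | i <;> simp

lemma prod_formula (q n : ℕ) (hq : 1 ≤ q) :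
    ∏ k ∈ range (n + 1), ((q ^ (k + 1) - 1) * (1 + q ^ k) * q ^ (2 * k)) =
      2 * q ^ ((n + 1) * n) * (q ^ (n + 1) - 1) * ∏ i ∈ range n, (q ^ (2 * (i + 1)) - 1) := by
  induction n with
  | zero => simp; ring
  | succ n ih =>
    rw [Finset.prod_range_succ, ih, Finset.prod_range_succ]
    have h1 : 1 ≤ q ^ (n + 1) := Nat.one_le_pow _ _ hq
    have h2 : (q ^ (n + 1) - 1) * (1 + q ^ (n + 1)) = q ^ (2 * (n + 1)) - 1 := by
      have h3 : 1 ≤ q ^ (2 * (n + 1)) := Nat.one_le_pow _ _ hq
      zify [h1, h3]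
      ring
    rw [← h2]
    have h4 : q ^ ((n + 1 + 1) * (n + 1)) = q ^ ((n + 1) * n) * q ^ (2 * (n + 1)) := by
      rw [← pow_add]; congr 1; ring
    rw [h4]
    ring

/-- Over a finite field with q elements (any characteristic) and m at least 1, the full orthogonal group of the hyperbolic form sum x_i y_i in dimension 2m has order 2 q^{m(m-1)} (q^m-1)(q^2-1)(q^4-1)...(q^{2m-2}-1). -/
theorem result {F : Type*} [Field F] [Fintype F] {q : ℕ} (hF : Fintype.card F = q) (m : ℕ) (hm : 1 ≤ m) : Nat.card (Cfsg.isometryGroup F (Cfsg.quadFormPlus m F)) = 2 * q ^ (m * (m - 1)) * (q ^ m - 1) * ∏ i ∈ Finset.range (m - 1), (q ^ (2 * (i + 1)) - 1) := by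
  classical
  have hq : 1 ≤ q := hF ▸ Fintype.card_pos
  let QC : QuadraticForm F PUnit.{1} := 0
  have hC : Nondeg QC := fun x _ => Subsingleton.elim _ _
  have hσ : ∀ z, Qf m (sigma m z) = stdQ QC m z := by
    intro z
    rw [Qf_apply]
    have h1 : ∀ i, sigma m z (Sum.inl i) = z.1 i := fun i => rfl
    have h2 : ∀ i, sigma m z (Sum.inr i) = z.2.2 i := fun i => rfl
    simp [quadFormPlus, stdQ, QC, h1, h2]
  have hbase : ∀ (U : Type _) [AddCommGroup U] [Module F U] [Finite U] (QU : QuadraticForm F U),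
      Nondeg QU → (∀ c, Nc QU c = Nc (stdQ QC 0) c) → Nat.card (IsoMaps (stdQ QC 0) QU) = 1 := by
    intro U _ _ _ QU _ _
    have hsub : Subsingleton (Std F PUnit.{1} 0) := by
      unfold Std; infer_instance
    have hsub2 : Subsingleton (IsoMaps (stdQ QC 0) QU) := by
      constructor
      intro T T'
      apply Subtype.ext
      apply LinearMap.ext
      intro z
      rw [Subsingleton.elim z 0, map_zero, map_zero]
    have hne : Nonempty (IsoMaps (stdQ QC 0) QU) :=
      ⟨⟨0, fun z => by simp [stdQ, QC]⟩⟩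
    rw [Nat.card_eq_one_iff_unique]
    exact ⟨hsub2, hne⟩
  have h0 : Nc (stdQ QC 0) 0 = 1 := by
    unfold Nc
    rw [Nat.card_eq_one_iff_unique]
    have hsub : Subsingleton (Std F PUnit.{1} 0) := by
      unfold Std; infer_instance
    exact ⟨inferInstance, ⟨⟨0, by simp [stdQ, QC]⟩⟩⟩
  have key := card_isometry QC (Qf m) hC m (sigma m) hσ 1 hbase
  have hcongr : Nat.card (Cfsg.isometryGroup F (Cfsg.quadFormPlus m F)) =
      Nat.card {g : Matrix.GeneralLinearGroup (Fin m ⊕ Fin m) F //
        ∀ x, Qf m ((g : Matrix _ _ F).mulVec x) = Qf m x} := by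
    apply Nat.card_congr
    apply Equiv.subtypeEquivRight
    intro g
    constructor
    · intro h x
      rw [Qf_apply, Qf_apply]
      exact h x x
    · intro h x _
      have := h x
      rw [Qf_apply, Qf_apply] at this
      exact this
  rw [hcongr, key, one_mul]
  obtain ⟨n, rfl⟩ : ∃ n, m = n + 1 := ⟨m - 1, by omega⟩
  have hterm : ∀ k ∈ range (n + 1), (Nc (stdQ QC (k + 1)) 0 - 1) * Nat.card (Std F PUnit.{1} k) =
      (q ^ (k + 1) - 1) * (1 + q ^ k) * q ^ (2 * k) := by
    intro k _
    rw [N0_std QC h0, card_std, hF]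
    simp
  rw [Finset.prod_congr rfl hterm, prod_formula q n hq]
  simp

end Cfsg.Agent.S0287
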