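import Cfsg.Statements.S0825
import Mathlib
import Cfsg.Agent.S0287

set_option autoImplicit false
open Cfsg

namespace Cfsg.Agent.S0825

open Matrix

abbrev J := Fin 3 ⊕ Fin 3
abbrev K := ZMod 2

def jx : J → Fin 6
  | .inl i => ⟨i.val, by omega⟩
  | .inr i => ⟨3 + i.val, by omega⟩

def D0 : Matrix (Fin 8) (Fin 6) K := !![1, 1, 1, 1, 1, 1; 1, 1, 0, 1, 1, 0; 1, 0, 1, 1, 0, 0; 1, 0, 0, 0, 0, 1; 0, 0, 0, 1, 0, 1; 0, 1, 0, 0, 1, 1; 0, 1, 1, 0, 0, 0; 0, 0, 1, 0, 1, 0]
def E0 : Matrix (Fin 6) (Fin 8) K := !![0, 0, 0, 1, 0, 1, 1, 1; 0, 0, 1, 1, 1, 0, 1, 0; 0, 1, 1, 0, 0, 0, 1, 1; 0, 0, 0, 0, 1, 1, 1, 1; 0, 0, 1, 1, 1, 0, 0, 1; 0, 1, 0, 1, 1, 1, 0, 0]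

/-- A basis of the even-weight words modulo the all-ones word, hyperbolic for the weight form. -/
def DM : Matrix (Fin 8) J K := fun k a => D0 k (jx a)
/-- The coordinate functionals of that basis. -/
def EM : Matrix J (Fin 8) K := fun a k => E0 (jx a) k

/-- Half the weight, modulo 2 (on even-weight words). -/
def q8 (h : Fin 8 → K) : K := (((Finset.univ.filter (fun i => h i ≠ 0)).card.choose 2 : ℕ) : K)

set_option maxRecDepth 100000 in
theorem hED : EM * DM = 1 := by decide +kernel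

set_option maxRecDepth 100000 in
theorem hE1 : EM *ᵥ (1 : Fin 8 → K) = 0 := by decide +kernel

set_option maxRecDepth 100000 in
theorem hA : ∀ v : J → K, ∑ k, (DM *ᵥ v) k = 0 := by decide +kernel

set_option maxRecDepth 100000 in
theorem hB : ∀ h : Fin 8 → K, ∑ k, h k = 0 → DM *ᵥ (EM *ᵥ h) = h ∨ DM *ᵥ (EM *ᵥ h) = h + 1 := by
  decide +kernel

set_option maxRecDepth 100000 in
theorem hQ1 : ∀ v : J → K, Cfsg.quadFormPlus 3 K v = q8 (DM *ᵥ v) := by decide +kernel

set_option maxRecDepth 100000 in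
theorem hQ2 : ∀ h : Fin 8 → K, ∑ k, h k = 0 → q8 (h + 1) = q8 h := by decide +kernel

theorem ex4 : ∀ a b c d : Fin 8, ∃ k, k ≠ a ∧ k ≠ b ∧ k ≠ c ∧ k ≠ d := by decide +kernel
theorem ex2 : ∀ i : Fin 8, ∃ j j', j ≠ i ∧ j' ≠ i ∧ j ≠ j' := by decide +kernel

/-- Permutation of coordinates. -/
def act (σ : Equiv.Perm (Fin 8)) (h : Fin 8 → K) : Fin 8 → K := fun k => h (σ.symm k)

theorem act_mul (σ τ : Equiv.Perm (Fin 8)) (h : Fin 8 → K) : act (σ * τ) h = act σ (act τ h) := rfl

theorem act_add (σ : Equiv.Perm (Fin 8)) (h h' : Fin 8 → K) : act σ (h + h') = act σ h + act σ h' :=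
  rfl

theorem act_one' (σ : Equiv.Perm (Fin 8)) : act σ (1 : Fin 8 → K) = 1 := rfl

theorem sum_act (σ : Equiv.Perm (Fin 8)) (h : Fin 8 → K) : ∑ k, act σ h k = ∑ k, h k :=
  Equiv.sum_comp σ.symm h

theorem q8_act (σ : Equiv.Perm (Fin 8)) (h : Fin 8 → K) : q8 (act σ h) = q8 h := by
  unfold q8
  have : (Finset.univ.filter (fun i => act σ h i ≠ 0)).card =
      (Finset.univ.filter (fun i => h i ≠ 0)).card := by
    apply Finset.card_equiv σ.symm
    intro i
    rw [Finset.mem_filter, Finset.mem_filter]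
    simp only [Finset.mem_univ, true_and, act]
  rw [this]

/-- The matrix of a permutation in the hyperbolic basis. -/
def psi0 (σ : Equiv.Perm (Fin 8)) : Matrix J J K :=
  fun a b => ∑ k : Fin 8, EM a (σ k) * DM k b

theorem psi0_mulVec (σ : Equiv.Perm (Fin 8)) (v : J → K) :
    psi0 σ *ᵥ v = EM *ᵥ (act σ (DM *ᵥ v)) := by
  funext a
  simp only [Matrix.mulVec, dotProduct, psi0, act]
  rw [← Equiv.sum_comp σ (fun k' => EM a k' * ∑ b, DM (σ.symm k') b * v b)]
  simp only [Equiv.symm_apply_apply, Finset.mul_sum, Finset.sum_mul]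
  rw [Finset.sum_comm]
  apply Finset.sum_congr rfl
  intro k _
  apply Finset.sum_congr rfl
  intro b _
  ring

theorem EM_add_one (h : Fin 8 → K) : EM *ᵥ (h + 1) = EM *ᵥ h := by
  rw [Matrix.mulVec_add, hE1, add_zero]

theorem mat_ext {A B : Matrix J J K} (h : ∀ v, A *ᵥ v = B *ᵥ v) : A = B := by
  ext a b
  have := congrFun (h (Pi.single b 1)) a
  simpa [Matrix.mulVec_single_one] using this

theorem psi0_mul (σ τ : Equiv.Perm (Fin 8)) : psi0 (σ * τ) = psi0 σ * psi0 τ := by
  apply mat_ext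
  intro v
  rw [← Matrix.mulVec_mulVec, psi0_mulVec, psi0_mulVec, psi0_mulVec, act_mul]
  have hsum : ∑ k, act τ (DM *ᵥ v) k = 0 := by rw [sum_act, hA]
  rcases hB _ hsum with h | h
  · rw [h]
  · rw [h, act_add, act_one', EM_add_one]

theorem psi0_one : psi0 1 = 1 := by
  apply mat_ext
  intro v
  rw [psi0_mulVec, Matrix.one_mulVec]
  have : act 1 (DM *ᵥ v) = DM *ᵥ v := rfl
  rw [this, Matrix.mulVec_mulVec, hED, Matrix.one_mulVec]

theorem psi0_iso (σ : Equiv.Perm (Fin 8)) (v : J → K) :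
    Cfsg.quadFormPlus 3 K (psi0 σ *ᵥ v) = Cfsg.quadFormPlus 3 K v := by
  rw [hQ1, hQ1 v, psi0_mulVec]
  have hsum : ∑ k, act σ (DM *ᵥ v) k = 0 := by rw [sum_act, hA]
  rcases hB _ hsum with h | h
  · rw [h, q8_act]
  · rw [h, hQ2 _ hsum, q8_act]

theorem two_eq_zero : (1 : Fin 8 → K) + 1 = 0 := by decide +kernel

/-- A permutation acting trivially fixes every even-weight word up to complement. -/
theorem act_of_psi0_one (σ : Equiv.Perm (Fin 8)) (hσ : psi0 σ = 1) (h : Fin 8 → K)
    (hh : ∑ k, h k = 0) : act σ h = h ∨ act σ h = h + 1 := by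
  set v := EM *ᵥ h with hv
  have h1 : EM *ᵥ (act σ (DM *ᵥ v)) = v := by
    rw [← psi0_mulVec, hσ, Matrix.one_mulVec]
  have hsum : ∑ k, act σ (DM *ᵥ v) k = 0 := by rw [sum_act, hA]
  have h2 := hB _ hsum
  rw [h1] at h2
  -- DM v = h or h + 1
  have h3 := hB h hh
  rw [← hv] at h3
  have hcancel : ∀ x : Fin 8 → K, x + 1 + 1 = x := by
    intro x
    rw [add_assoc, two_eq_zero, add_zero]
  rcases h3 with h3 | h3 <;> rcases h2 with h2 | h2
  · left
    rw [h3] at h2
    exact h2.symm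
  · right
    rw [h3] at h2
    have := congrArg (fun x => x + 1) h2
    simp only [hcancel] at this
    exact this.symm
  · left
    rw [h3, act_add, act_one'] at h2
    exact (add_right_cancel h2).symm
  · right
    rw [h3, act_add, act_one'] at h2
    have := congrArg (fun x => x + 1) h2
    simp only [hcancel] at this
    exact ((congrArg (fun x => x + 1) this).trans (hcancel _)).symm

theorem psi0_inj (σ : Equiv.Perm (Fin 8)) (hσ : psi0 σ = 1) : σ = 1 := by
  have key : ∀ i j : Fin 8, i ≠ j → σ i = i ∨ σ i = j := by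
    intro i j hij
    set h : Fin 8 → K := Pi.single i 1 + Pi.single j 1 with hh
    have hsum : ∑ k, h k = 0 := by
      simp only [hh, Pi.add_apply, Finset.sum_add_distrib, Finset.sum_pi_single', Finset.mem_univ,
        if_true]
      decide
    have hval : ∀ k, h k = (if k = i then 1 else 0) + (if k = j then 1 else 0) := by
      intro k
      simp only [hh, Pi.add_apply, Pi.single_apply]
    rcases act_of_psi0_one σ hσ h hsum with h1 | h1
    · have := congrFun h1 (σ i)
      simp only [act, Equiv.symm_apply_apply] at this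
      rw [hval, hval, if_pos rfl, if_neg hij, add_zero] at this
      by_contra hcon
      push Not at hcon
      rw [if_neg hcon.1, if_neg hcon.2] at this
      revert this
      decide
    · exfalso
      obtain ⟨k, k1, k2, k3, k4⟩ := ex4 i j (σ i) (σ j)
      have := congrFun h1 k
      simp only [act, Pi.add_apply, Pi.one_apply] at this
      rw [hval, hval, if_neg k1, if_neg k2] at this
      have e1 : σ.symm k ≠ i := fun e => k3 (by rw [← e, Equiv.apply_symm_apply])
      have e2 : σ.symm k ≠ j := fun e => k4 (by rw [← e, Equiv.apply_symm_apply])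
      rw [if_neg e1, if_neg e2] at this
      revert this
      decide
  ext i
  obtain ⟨j, j', hj, hj', hjj'⟩ := ex2 i
  rcases key i j hj.symm with h1 | h1
  · rw [h1]; rfl
  · rcases key i j' hj'.symm with h2 | h2
    · rw [h2]; rfl
    · exfalso
      exact hjj' (h1.symm.trans h2)

variable {F : Type*} [Field F]

theorem quad_map (e : K →+* F) (w : J → K) :
    Cfsg.quadFormPlus 3 F (fun i => e (w i)) = e (Cfsg.quadFormPlus 3 K w) := by
  unfold Cfsg.quadFormPlus
  simp [map_sum, map_mul]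

/-- The isometry over `F` attached to a permutation. -/
def PsiGL (e : K →+* F) (σ : Equiv.Perm (Fin 8)) : Matrix.GeneralLinearGroup J F where
  val := (psi0 σ).map e
  inv := (psi0 σ⁻¹).map e
  val_inv := by
    rw [← Matrix.map_mul, ← psi0_mul, mul_inv_cancel, psi0_one, Matrix.map_one _ (map_zero e)
      (map_one e)]
  inv_val := by
    rw [← Matrix.map_mul, ← psi0_mul, inv_mul_cancel, psi0_one, Matrix.map_one _ (map_zero e)
      (map_one e)]

theorem PsiGL_mul (e : K →+* F) (σ τ : Equiv.Perm (Fin 8)) :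
    PsiGL e (σ * τ) = PsiGL e σ * PsiGL e τ := by
  apply Units.ext
  show (psi0 (σ * τ)).map e = (psi0 σ).map e * (psi0 τ).map e
  rw [psi0_mul, Matrix.map_mul]

theorem PsiGL_mem (e : K ≃+* F) (σ : Equiv.Perm (Fin 8)) :
    PsiGL e.toRingHom σ ∈ Cfsg.isometryGroup F (Cfsg.quadFormPlus 3 F) := by
  intro u _
  show Cfsg.quadFormPlus 3 F ((psi0 σ).map e.toRingHom *ᵥ u) = Cfsg.quadFormPlus 3 F u
  set u₀ : J → K := fun i => e.symm (u i) with hu₀
  have hu : u = fun i => e.toRingHom (u₀ i) := by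
    funext i
    simp [hu₀]
  have h1 : (psi0 σ).map e.toRingHom *ᵥ u = fun i => e.toRingHom ((psi0 σ *ᵥ u₀) i) := by
    funext i
    rw [hu]
    exact (RingHom.map_mulVec e.toRingHom (psi0 σ) u₀ i).symm
  rw [h1, quad_map, psi0_iso, ← quad_map, ← hu]

/-- O⁺_6(2) is isomorphic to the symmetric group S_8. -/
theorem result {F : Type*} [Field F] [Fintype F] (hF : Fintype.card F = 2) : Nonempty (↥(Cfsg.isometryGroup F (Cfsg.quadFormPlus 3 F)) ≃* Equiv.Perm (Fin 8)) := by
  classical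
  let e : K ≃+* F := ZMod.ringEquivOfPrime F Nat.prime_two hF
  let Ψ₀ : Equiv.Perm (Fin 8) →* Matrix.GeneralLinearGroup J F :=
    MonoidHom.mk' (PsiGL e.toRingHom) (PsiGL_mul e.toRingHom)
  let Ψ₁ : Equiv.Perm (Fin 8) →* ↥(Cfsg.isometryGroup F (Cfsg.quadFormPlus 3 F)) :=
    Ψ₀.codRestrict _ (PsiGL_mem e)
  have hinj : Function.Injective Ψ₁ := by
    rw [injective_iff_map_eq_one]
    intro σ hσ
    have h1 : (PsiGL e.toRingHom σ : Matrix.GeneralLinearGroup J F) = 1 := by
      have := congrArg (fun x : ↥(Cfsg.isometryGroup F (Cfsg.quadFormPlus 3 F)) =>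
        (x : Matrix.GeneralLinearGroup J F)) hσ
      exact this
    have h2 : (psi0 σ).map e.toRingHom = 1 := congrArg Units.val h1
    apply psi0_inj
    have h3 : (psi0 σ).map e.toRingHom = (1 : Matrix J J K).map e.toRingHom := by
      rw [h2, Matrix.map_one _ (map_zero _) (map_one _)]
    exact Matrix.map_injective e.injective h3
  have hO : Nat.card (Cfsg.isometryGroup F (Cfsg.quadFormPlus 3 F)) = 40320 := by
    rw [Cfsg.Agent.S0287.result hF 3 (by norm_num)]
    norm_num [Finset.prod_range_succ]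
  have hbij : Function.Bijective Ψ₁ := by
    haveI : Finite (Cfsg.isometryGroup F (Cfsg.quadFormPlus 3 F)) :=
      Nat.finite_of_card_ne_zero (by rw [hO]; norm_num)
    rw [Nat.bijective_iff_injective_and_card]
    refine ⟨hinj, ?_⟩
    rw [Nat.card_perm, Nat.card_eq_fintype_card, Fintype.card_fin, hO]
    rfl
  exact ⟨(MulEquiv.ofBijective Ψ₁ hbij).symm⟩

end Cfsg.Agent.S0825
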