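import Cfsg.Statements.S0256
import Mathlib
import Cfsg.Agent.Lib.Helper9_Ext2
import Cfsg.Agent.S0825
import Cfsg.Agent.S0242

set_option autoImplicit false
open Cfsg

namespace Cfsg.Agent.S0256

open Matrix Cfsg.Agent.Helper9Ext2

variable {F : Type*} [Field F]

/-- The exterior square of an element of `SL_4`, as an invertible matrix. -/
def LGL (g : Matrix.SpecialLinearGroup (Fin 4) F) : Matrix.GeneralLinearGroup J F where
  val := L g.1
  inv := L (g⁻¹).1
  val_inv := by
    rw [← Cfsg.Agent.Helper9Ext2.L_mul, ← Matrix.SpecialLinearGroup.coe_mul, mul_inv_cancel,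
      Matrix.SpecialLinearGroup.coe_one, L_one]
  inv_val := by
    rw [← Cfsg.Agent.Helper9Ext2.L_mul, ← Matrix.SpecialLinearGroup.coe_mul, inv_mul_cancel,
      Matrix.SpecialLinearGroup.coe_one, L_one]

theorem LGL_mul (g h : Matrix.SpecialLinearGroup (Fin 4) F) : LGL (g * h) = LGL g * LGL h := by
  apply Units.ext
  show L (g * h).1 = L g.1 * L h.1
  rw [Matrix.SpecialLinearGroup.coe_mul, Cfsg.Agent.Helper9Ext2.L_mul]

theorem LGL_mem (g : Matrix.SpecialLinearGroup (Fin 4) F) :
    LGL g ∈ Cfsg.isometryGroup F (Cfsg.quadFormPlus 3 F) := by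
  intro u _
  show Cfsg.quadFormPlus 3 F (L g.1 *ᵥ u) = Cfsg.quadFormPlus 3 F u
  rw [L_quad, g.2, one_mul]

theorem L_inj (e : ZMod 2 ≃+* F) (g : Matrix (Fin 4) (Fin 4) F) (hg : L g = 1) : g = 1 := by
  have h1 : L (g.map e.symm.toRingHom) = 1 := by
    rw [L_map, hg, Matrix.map_one _ (map_zero _) (map_one _)]
  have h2 := L_inj2 _ h1
  have h3 : (g.map e.symm.toRingHom).map e.toRingHom = g := by
    ext i j
    simp
  rw [← h3, h2, Matrix.map_one _ (map_zero _) (map_one _)]

/-- PSL_4 over the field with 2 elements is isomorphic to the alternating group on eight letters. -/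
theorem result {F : Type*} [Field F] [Fintype F] (hF : Fintype.card F = 2) : Nonempty (Matrix.ProjectiveSpecialLinearGroup (Fin 4) F ≃* alternatingGroup (Fin 8)) := by
  classical
  let e : ZMod 2 ≃+* F := ZMod.ringEquivOfPrime F Nat.prime_two hF
  obtain ⟨ι⟩ := Cfsg.Agent.S0825.result hF
  -- the exterior square homomorphism
  let Λ₀ : Matrix.SpecialLinearGroup (Fin 4) F →* Matrix.GeneralLinearGroup J F :=
    MonoidHom.mk' LGL LGL_mul
  let Λ₁ : Matrix.SpecialLinearGroup (Fin 4) F →*
      ↥(Cfsg.isometryGroup F (Cfsg.quadFormPlus 3 F)) := Λ₀.codRestrict _ LGL_mem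
  have hΛinj : Function.Injective Λ₁ := by
    rw [injective_iff_map_eq_one]
    intro g hg
    have h1 : (LGL g : Matrix.GeneralLinearGroup J F) = 1 := by
      have := congrArg (fun x : ↥(Cfsg.isometryGroup F (Cfsg.quadFormPlus 3 F)) =>
        (x : Matrix.GeneralLinearGroup J F)) hg
      exact this
    have h2 : L g.1 = 1 := congrArg Units.val h1
    apply Subtype.ext
    exact L_inj e g.1 h2
  let θ : Matrix.SpecialLinearGroup (Fin 4) F →* Equiv.Perm (Fin 8) := ι.toMonoidHom.comp Λ₁
  have hθinj : Function.Injective θ := ι.injective.comp hΛinj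
  -- the order of SL_4(2)
  have hSL : Nat.card (Matrix.SpecialLinearGroup (Fin 4) F) = 20160 := by
    have := Cfsg.Agent.S0242.result hF 4 (by norm_num)
    rw [Fin.prod_univ_four] at this
    norm_num at this
    rw [Nat.card_eq_fintype_card]
    exact this
  have hrange : Nat.card θ.range = 20160 := by
    rw [← Nat.card_congr (MonoidHom.ofInjective hθinj).toEquiv, hSL]
  have hidx : θ.range.index = 2 := by
    have h1 := Subgroup.index_mul_card θ.range
    rw [hrange, Nat.card_perm, Nat.card_eq_fintype_card, Fintype.card_fin] at h1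
    have : Nat.factorial 8 = 40320 := rfl
    omega
  have hA : θ.range = alternatingGroup (Fin 8) := Equiv.Perm.eq_alternatingGroup_of_index_eq_two hidx
  -- the centre of SL_4(2) is trivial
  have hcenter : Subgroup.center (Matrix.SpecialLinearGroup (Fin 4) F) = ⊥ := by
    rw [eq_bot_iff]
    intro A hA'
    rw [Matrix.SpecialLinearGroup.mem_center_iff] at hA'
    obtain ⟨r, hr, hrA⟩ := hA'
    have hr1 : r = 1 := by
      have h01 : ∀ x : F, x = 0 ∨ x = 1 := by
        intro x
        have : e.symm x = 0 ∨ e.symm x = 1 := by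
          generalize e.symm x = y
          revert y
          decide
        rcases this with h | h
        · left
          have := congrArg e h
          simpa using this
        · right
          have := congrArg e h
          simpa using this
      rcases h01 r with h | h
      · rw [h] at hr
        simp at hr
      · exact h
    rw [Subgroup.mem_bot]
    apply Subtype.ext
    rw [← hrA, hr1]
    simp
  let e1 : Matrix.ProjectiveSpecialLinearGroup (Fin 4) F ≃* Matrix.SpecialLinearGroup (Fin 4) F :=
    (QuotientGroup.quotientMulEquivOfEq hcenter).trans QuotientGroup.quotientBot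
  let e2 : Matrix.SpecialLinearGroup (Fin 4) F ≃* θ.range := MonoidHom.ofInjective hθinj
  exact ⟨(e1.trans e2).trans (MulEquiv.subgroupCongr hA)⟩

end Cfsg.Agent.S0256
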