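import Cfsg.Statements.S0257
import Mathlib

set_option autoImplicit false
open Cfsg

namespace Cfsg.Agent.S0257

open Matrix

abbrev G0 := Matrix.SpecialLinearGroup (Fin 2) (ZMod 3)

def A0 : G0 := ⟨!![0, -1; 1, 0], by decide⟩
def X0 : G0 := ⟨!![1, 1; 1, -1], by decide⟩

def f0 : QuaternionGroup 2 → G0
  | .a i => A0 ^ i.val
  | .xa i => X0 * A0 ^ i.val

set_option maxRecDepth 100000 in
theorem f0_mul : ∀ x y : QuaternionGroup 2, f0 (x * y) = f0 x * f0 y := by decide

set_option maxRecDepth 100000 in
theorem f0_range : ∀ g : G0, g ^ 4 = 1 ↔ ∃ x : QuaternionGroup 2, f0 x = g := by decide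

set_option maxRecDepth 100000 in
theorem f0_inj : ∀ x y : QuaternionGroup 2, f0 x = f0 y → x = y := by decide

set_option maxRecDepth 100000 in
theorem card_G0 : Fintype.card G0 = 24 := by decide

set_option maxRecDepth 100000 in
theorem card_center_G0 : Fintype.card (Subgroup.center G0) = 2 := by decide

def f0Hom : QuaternionGroup 2 →* G0 := MonoidHom.mk' f0 f0_mul

theorem f0Hom_injective : Function.Injective f0Hom := fun x y h => f0_inj x y h

theorem mem_range_iff (g : G0) : g ∈ f0Hom.range ↔ g ^ 4 = 1 := by
  rw [f0_range g]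
  rfl

theorem range_normal : (f0Hom.range).Normal := by
  constructor
  intro n hn g
  rw [mem_range_iff] at hn ⊢
  rw [conj_pow, hn, mul_one, mul_inv_cancel]

theorem range_index : (f0Hom.range).index = 3 := by
  have h1 := Subgroup.index_mul_card (f0Hom.range)
  have h2 : Nat.card f0Hom.range = 8 := by
    rw [← Nat.card_congr (MonoidHom.ofInjective f0Hom_injective).toEquiv,
      Nat.card_eq_fintype_card, QuaternionGroup.card]
  rw [h2, Nat.card_eq_fintype_card, card_G0] at h1
  omega

/-- Transport of `SL_2` along a ring isomorphism. -/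
def slEquiv {R S : Type*} [CommRing R] [CommRing S] (e : R ≃+* S) :
    Matrix.SpecialLinearGroup (Fin 2) R ≃* Matrix.SpecialLinearGroup (Fin 2) S where
  toFun := Matrix.SpecialLinearGroup.map e.toRingHom
  invFun := Matrix.SpecialLinearGroup.map e.symm.toRingHom
  left_inv g := by
    apply Subtype.ext
    ext i j
    show e.symm (e (g.1 i j)) = g.1 i j
    simp
  right_inv g := by
    apply Subtype.ext
    ext i j
    show e (e.symm (g.1 i j)) = g.1 i j
    simp
  map_mul' := map_mul _

/-- SL_2 over the field with 3 elements (order 24) has a normal subgroup of index 3 isomorphic to the quaternion group of order 8, and its centre has order 2. -/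
theorem result {F : Type*} [Field F] [Fintype F] (hF : Fintype.card F = 3) : (∃ Q : Subgroup (Matrix.SpecialLinearGroup (Fin 2) F), Q.Normal ∧ Q.index = 3 ∧ Nonempty (Q ≃* QuaternionGroup 2)) ∧ Nat.card (Subgroup.center (Matrix.SpecialLinearGroup (Fin 2) F)) = 2 := by
  let e : ZMod 3 ≃+* F := ZMod.ringEquivOfPrime F Nat.prime_three hF
  let φ : G0 ≃* Matrix.SpecialLinearGroup (Fin 2) F := slEquiv e
  constructor
  · refine ⟨(f0Hom.range).map φ.toMonoidHom, ?_, ?_, ?_⟩
    · exact range_normal.map _ φ.surjective
    · rw [show (φ.toMonoidHom : G0 →* _) = ((φ : G0 ≃* _) : G0 →* _) from rfl,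
        Subgroup.index_map_equiv, range_index]
    · exact ⟨((φ.subgroupMap f0Hom.range).symm).trans
        (MonoidHom.ofInjective f0Hom_injective).symm⟩
  · rw [← Nat.card_congr (Subgroup.centerCongr φ).toEquiv, Nat.card_eq_fintype_card,
      card_center_G0]

end Cfsg.Agent.S0257
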