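import Cfsg.Statements.S0273
import Mathlib
import Cfsg.Agent.S2572

set_option autoImplicit false
open Cfsg

namespace Cfsg.Agent.S0273

open Matrix

/-- a non-zero matrix has non-zero rank. -/
theorem rank_ne_zero_of_ne_zero {n : ℕ} {F : Type*} [Field F] (N : Matrix (Fin n) (Fin n) F) (hN : N ≠ 0) :
    N.rank ≠ 0 := by
  intro h0
  apply hN
  unfold Matrix.rank at h0
  rw [Submodule.finrank_eq_zero] at h0
  ext i j
  have hmem : N.mulVecLin (Pi.single j 1) ∈ LinearMap.range N.mulVecLin := LinearMap.mem_range_self _ _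
  rw [h0, Submodule.mem_bot] at hmem
  have := congrFun hmem i
  simpa using this

/-- a nilpotent `2 × 2` matrix over a field squares to zero. -/
theorem sq_zero_of_nilpotent {F : Type*} [Field F] (N : Matrix (Fin 2) (Fin 2) F) (hN : IsNilpotent N) :
    N * N = 0 := by
  have htr : N.trace = 0 := (Matrix.isNilpotent_trace_of_isNilpotent hN).eq_zero
  have hdet : N.det = 0 := by
    obtain ⟨k, hk⟩ := hN
    have : N.det ^ k = 0 := by rw [← Matrix.det_pow, hk, Matrix.det_zero]
    exact pow_eq_zero_iff (n := k) (fun h => by subst h; simp at hk) |>.1 this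
  have hch := Matrix.aeval_self_charpoly N
  rw [Matrix.charpoly_fin_two, htr, hdet] at hch
  simpa [pow_two] using hch

/-- In GL_2(q) the centraliser of a non-trivial element of a Sylow p-subgroup (p the characteristic) has order q (q-1): the Sylow subgroup times the scalars. -/
theorem result {F : Type*} [Field F] [Fintype F] {q : ℕ} (hF : Fintype.card F = q) (p : ℕ) [Fact p.Prime] [CharP F p] (P : Sylow p (Matrix.GeneralLinearGroup (Fin 2) F)) (a : Matrix.GeneralLinearGroup (Fin 2) F) (ha : a ∈ P) (ha1 : a ≠ 1) : Nat.card (Subgroup.centralizer ({a} : Set (Matrix.GeneralLinearGroup (Fin 2) F))) = q * (q - 1) := by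
  obtain ⟨k, hk⟩ := P.isPGroup' ⟨a, ha⟩
  have hk' : a ^ p ^ k = 1 := by
    have := congrArg Subtype.val hk
    simpa using this
  set N : Matrix (Fin 2) (Fin 2) F := (a : Matrix (Fin 2) (Fin 2) F) - 1 with hN
  have hNk : N ^ p ^ k = 0 := by
    rw [hN, sub_pow_char_pow_of_commute p k (Commute.one_right _), one_pow, ← Units.val_pow_eq_pow_val, hk']
    simp
  have hsq : N * N = 0 := sq_zero_of_nilpotent N ⟨_, hNk⟩
  have hN0 : N ≠ 0 := by
    intro h
    apply ha1
    apply Units.ext
    rw [hN, sub_eq_zero] at h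
    exact h
  have hrank : N.rank = 1 := by
    have h1 := rank_ne_zero_of_ne_zero N hN0
    have h2 := Matrix.rank_add_rank_le_card_of_mul_eq_zero hsq
    simp only [Fintype.card_fin] at h2
    omega
  have ht : Cfsg.IsTransvection (a : Matrix (Fin 2) (Fin 2) F) := ⟨hrank, hsq⟩
  rw [Cfsg.Agent.S2572.result hF (le_refl 2) a ht]
  simp

end Cfsg.Agent.S0273
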