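import Cfsg.Statements.S0259
import Mathlib
import Cfsg.Agent.Lib.Helper9_GL2Sylow
import Cfsg.Agent.S0273

set_option autoImplicit false
open Cfsg

namespace Cfsg.Agent.S0259

open Matrix

/-- scalar matrices in `GL₂`. -/
noncomputable def sc (F : Type*) [Field F] : Fˣ →* GL (Fin 2) F :=
  Units.map (Matrix.scalar (Fin 2) : F →+* Matrix (Fin 2) (Fin 2) F).toMonoidHom

theorem sc_injective (F : Type*) [Field F] : Function.Injective (sc F) := by
  intro a b h
  have := congrArg (fun g : GL (Fin 2) F => (g : Matrix (Fin 2) (Fin 2) F) 0 0) h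
  simp only [sc, Units.coe_map, RingHom.toMonoidHom_eq_coe, MonoidHom.coe_coe, Matrix.scalar_apply,
    Matrix.diagonal_apply_eq] at this
  exact Units.ext this

theorem sc_comm (F : Type*) [Field F] (z : Fˣ) (g : GL (Fin 2) F) : sc F z * g = g * sc F z := by
  apply Units.ext
  simp only [Units.val_mul, sc, Units.coe_map, RingHom.toMonoidHom_eq_coe, MonoidHom.coe_coe]
  exact (Matrix.scalar_commute (z : F) (fun r' => Commute.all _ _) (g : Matrix (Fin 2) (Fin 2) F)).eq

/-- Distinct Sylow p-subgroups of GL_2(q), p the characteristic, intersect trivially. -/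
theorem result {F : Type*} [Field F] [Fintype F] (p : ℕ) [Fact p.Prime] [CharP F p] (P Q : Sylow p (Matrix.GeneralLinearGroup (Fin 2) F)) (h : P ≠ Q) : (P : Subgroup (Matrix.GeneralLinearGroup (Fin 2) F)) ⊓ (Q : Subgroup (Matrix.GeneralLinearGroup (Fin 2) F)) = ⊥ := by
  classical
  have hp : p.Prime := Fact.out
  set q := Fintype.card F with hq
  by_contra hne
  apply h
  obtain ⟨a, haPQ, ha1⟩ : ∃ a ∈ (P : Subgroup (GL (Fin 2) F)) ⊓ (Q : Subgroup (GL (Fin 2) F)), a ≠ 1 := by
    by_contra hcon
    push Not at hcon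
    apply hne
    rw [Subgroup.eq_bot_iff_forall]
    exact hcon
  have haP : a ∈ P := haPQ.1
  have haQ : a ∈ Q := haPQ.2
  have hC := Cfsg.Agent.S0273.result (F := F) rfl p P a haP ha1
  have hPcard : Nat.card (P : Subgroup (GL (Fin 2) F)) = q := by
    rw [Cfsg.Agent.S0263.result (F := F) rfl p 2 P]
    simp [hq]
  have hQcard : Nat.card (Q : Subgroup (GL (Fin 2) F)) = q := by
    rw [Cfsg.Agent.S0263.result (F := F) rfl p 2 Q]
    simp [hq]
  -- the map `Z × P → C(a)`
  have hPC : ∀ u ∈ P, u ∈ Subgroup.centralizer ({a} : Set (GL (Fin 2) F)) := by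
    intro u hu
    rw [Subgroup.mem_centralizer_iff]
    intro y hy
    rw [Set.mem_singleton_iff] at hy
    subst hy
    exact Cfsg.Agent.Helper9GL2.sylow_comm p P y u haP hu
  let φ : Fˣ × (P : Subgroup (GL (Fin 2) F)) → Subgroup.centralizer ({a} : Set (GL (Fin 2) F)) :=
    fun zu => ⟨sc F zu.1 * zu.2.1, by
      apply Subgroup.mul_mem _ _ (hPC _ zu.2.2)
      rw [Subgroup.mem_centralizer_iff]
      intro y hy
      exact (sc_comm F zu.1 y).symm⟩
  have hq2 : 2 ≤ q := Fintype.one_lt_card
  have hφinj : Function.Injective φ := by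
    rintro ⟨z, u⟩ ⟨z', u'⟩ hzu
    have h1 : sc F z * u.1 = sc F z' * u'.1 := congrArg Subtype.val hzu
    -- `sc (z'⁻¹ z) = u' u⁻¹` lies in `P` and has order dividing `q - 1`
    have h2 : sc F (z'⁻¹ * z) = u'.1 * u.1⁻¹ := by
      rw [map_mul, map_inv]
      calc (sc F z')⁻¹ * sc F z = (sc F z')⁻¹ * (sc F z * u.1) * u.1⁻¹ := by group
        _ = (sc F z')⁻¹ * (sc F z' * u'.1) * u.1⁻¹ := by rw [h1]
        _ = u'.1 * u.1⁻¹ := by group
    have h3 : (u'.1 * u.1⁻¹) ^ q = 1 := by
      have hm : u'.1 * u.1⁻¹ ∈ (P : Subgroup (GL (Fin 2) F)) := Subgroup.mul_mem _ u'.2 (Subgroup.inv_mem _ u.2)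
      have := pow_card_eq_one' (G := (P : Subgroup (GL (Fin 2) F))) (x := ⟨_, hm⟩)
      rw [hPcard] at this
      exact congrArg Subtype.val this
    have h4 : (z'⁻¹ * z) ^ (q - 1) = 1 := by
      have := pow_card_eq_one' (G := Fˣ) (x := z'⁻¹ * z)
      rwa [Nat.card_eq_fintype_card, Fintype.card_units] at this
    have h5 : (z'⁻¹ * z) ^ q = 1 := by
      apply sc_injective F
      rw [map_pow, h2, h3, map_one]
    have h6 : z'⁻¹ * z = 1 := by
      have : (z'⁻¹ * z) ^ q = (z'⁻¹ * z) ^ (q - 1) * (z'⁻¹ * z) := by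
        rw [← pow_succ]
        congr 1
        omega
      rw [h5, h4, one_mul] at this
      exact this.symm
    have hz : z = z' := by
      have := congrArg (fun t => z' * t) h6
      simpa using this
    subst hz
    have hu : u.1 = u'.1 := mul_left_cancel h1
    exact Prod.ext rfl (Subtype.ext hu)
  have hφbij : Function.Bijective φ := by
    rw [Nat.bijective_iff_injective_and_card]
    refine ⟨hφinj, ?_⟩
    rw [Nat.card_prod, hC, hPcard, Nat.card_eq_fintype_card, Fintype.card_units, mul_comm]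
  -- now `Q ≤ P`
  have hQP : (Q : Subgroup (GL (Fin 2) F)) ≤ P := by
    intro x hx
    have hxC : x ∈ Subgroup.centralizer ({a} : Set (GL (Fin 2) F)) := by
      rw [Subgroup.mem_centralizer_iff]
      intro y hy
      rw [Set.mem_singleton_iff] at hy
      subst hy
      exact Cfsg.Agent.Helper9GL2.sylow_comm p Q y x haQ hx
    obtain ⟨⟨z, u⟩, hzu⟩ := hφbij.2 ⟨x, hxC⟩
    have h1 : sc F z * u.1 = x := congrArg Subtype.val hzu
    have h3 : x ^ q = 1 := by
      have := pow_card_eq_one' (G := (Q : Subgroup (GL (Fin 2) F))) (x := ⟨x, hx⟩)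
      rw [hQcard] at this
      exact congrArg Subtype.val this
    have h3' : u.1 ^ q = 1 := by
      have := pow_card_eq_one' (G := (P : Subgroup (GL (Fin 2) F))) (x := u)
      rw [hPcard] at this
      exact congrArg Subtype.val this
    have h4 : z ^ (q - 1) = 1 := by
      have := pow_card_eq_one' (G := Fˣ) (x := z)
      rwa [Nat.card_eq_fintype_card, Fintype.card_units] at this
    have h5 : z ^ q = 1 := by
      apply sc_injective F
      rw [map_pow, map_one]
      have : (sc F z * u.1) ^ q = (sc F z) ^ q * u.1 ^ q := by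
        apply Commute.mul_pow
        exact sc_comm F z u.1
      rw [h1, h3, h3', mul_one] at this
      exact this.symm
    have h6 : z = 1 := by
      have : z ^ q = z ^ (q - 1) * z := by
        rw [← pow_succ]
        congr 1
        omega
      rw [h5, h4, one_mul] at this
      exact this.symm
    rw [← h1, h6, map_one, one_mul]
    exact u.2
  exact Sylow.ext (Q.is_maximal' P.isPGroup' hQP)

end Cfsg.Agent.S0259
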