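import Cfsg.Statements.S0266
import Mathlib

set_option autoImplicit false
open scoped MatrixGroups
open Cfsg

namespace Cfsg.Agent.S0266

open Matrix Projectivization Matrix.ProjGenLinGroup

variable {F : Type*} [Field F]

/-- Two nonzero vectors of the plane are proportional iff their cross product vanishes. -/
theorem mk_eq_iff_cross (u v : Fin 2 → F) (hu : u ≠ 0) (hv : v ≠ 0) :
    Projectivization.mk F u hu = Projectivization.mk F v hv ↔ u 0 * v 1 - u 1 * v 0 = 0 := by
  rw [Projectivization.mk_eq_mk_iff']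
  constructor
  · rintro ⟨a, rfl⟩
    simp only [Pi.smul_apply, smul_eq_mul]
    ring
  · intro h
    by_cases h0 : v 0 = 0
    · have h1 : v 1 ≠ 0 := by
        intro h1
        apply hv
        funext i
        fin_cases i
        · exact h0
        · exact h1
      rw [h0, mul_zero, sub_zero] at h
      have hu0 : u 0 = 0 := by
        rcases mul_eq_zero.1 h with h | h
        · exact h
        · exact absurd h h1
      refine ⟨u 1 / v 1, ?_⟩
      funext i
      fin_cases i
      · simp [h0, hu0]
      · simp [h1]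
    · refine ⟨u 0 / v 0, ?_⟩
      funext i
      fin_cases i
      · simp [h0]
      · simp only [Pi.smul_apply, smul_eq_mul]
        show u 0 / v 0 * v 1 = u 1
        field_simp
        linear_combination h

def e0 : Fin 2 → F := ![1, 0]
def e1 : Fin 2 → F := ![0, 1]
def e2 : Fin 2 → F := ![1, 1]

theorem e0_ne : (e0 : Fin 2 → F) ≠ 0 := fun h => one_ne_zero (congrFun h 0)
theorem e1_ne : (e1 : Fin 2 → F) ≠ 0 := fun h => one_ne_zero (congrFun h 1)
theorem e2_ne : (e2 : Fin 2 → F) ≠ 0 := fun h => one_ne_zero (congrFun h 0)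

/-- The standard triple of points. -/
noncomputable def std : Fin 3 → Projectivization F (Fin 2 → F) :=
  ![Projectivization.mk F e0 e0_ne, Projectivization.mk F e1 e1_ne, Projectivization.mk F e2 e2_ne]

theorem mulVec_e0 (M : Matrix (Fin 2) (Fin 2) F) : M *ᵥ e0 = ![M 0 0, M 1 0] := by
  funext i
  fin_cases i <;> simp [e0, Matrix.mulVec, dotProduct, Fin.sum_univ_two]

theorem mulVec_e1 (M : Matrix (Fin 2) (Fin 2) F) : M *ᵥ e1 = ![M 0 1, M 1 1] := by
  funext i
  fin_cases i <;> simp [e1, Matrix.mulVec, dotProduct, Fin.sum_univ_two]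

theorem mulVec_e2 (M : Matrix (Fin 2) (Fin 2) F) :
    M *ᵥ e2 = ![M 0 0 + M 0 1, M 1 0 + M 1 1] := by
  funext i
  fin_cases i <;> simp [e2, Matrix.mulVec, dotProduct, Fin.sum_univ_two]

theorem smul_mk_eq (G : GL (Fin 2) F) (v : Fin 2 → F) (hv : v ≠ 0) (p : Projectivization F (Fin 2 → F))
    (w : Fin 2 → F) (hw : w ≠ 0) (hp : p = Projectivization.mk F w hw) (a : F)
    (h : a • w = G.1 *ᵥ v) :
    (ProjGenLinGroup.mk G : PGL(Fin 2, F)) • Projectivization.mk F v hv = p := by
  rw [PGL.mk_smul_mk, hp, Projectivization.mk_eq_mk_iff']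
  exact ⟨a, h⟩

/-- Every triple of distinct points is the image of the standard triple. -/
theorem exists_to (x : Fin 3 → Projectivization F (Fin 2 → F)) (h01 : x 0 ≠ x 1)
    (h02 : x 0 ≠ x 2) (h12 : x 1 ≠ x 2) :
    ∃ g : PGL(Fin 2, F), ∀ i, g • std i = x i := by
  set u := (x 0).rep with hu
  set v := (x 1).rep with hv
  set w := (x 2).rep with hw
  have hu0 : u ≠ 0 := (x 0).rep_nonzero
  have hv0 : v ≠ 0 := (x 1).rep_nonzero
  have hw0 : w ≠ 0 := (x 2).rep_nonzero
  have hxu : x 0 = Projectivization.mk F u hu0 := (Projectivization.mk_rep (x 0)).symm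
  have hxv : x 1 = Projectivization.mk F v hv0 := (Projectivization.mk_rep (x 1)).symm
  have hxw : x 2 = Projectivization.mk F w hw0 := (Projectivization.mk_rep (x 2)).symm
  have hD : u 0 * v 1 - u 1 * v 0 ≠ 0 := by
    intro h
    apply h01
    rw [hxu, hxv]
    exact (mk_eq_iff_cross u v hu0 hv0).2 h
  have ha : w 0 * v 1 - w 1 * v 0 ≠ 0 := by
    intro h
    apply h12
    rw [hxv, hxw]
    exact ((mk_eq_iff_cross w v hw0 hv0).2 h).symm
  have hb : u 0 * w 1 - u 1 * w 0 ≠ 0 := by
    intro h
    apply h02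
    rw [hxu, hxw]
    exact (mk_eq_iff_cross u w hu0 hw0).2 h
  set D := u 0 * v 1 - u 1 * v 0 with hDdef
  set a := w 0 * v 1 - w 1 * v 0 with hadef
  set b := u 0 * w 1 - u 1 * w 0 with hbdef
  set M : Matrix (Fin 2) (Fin 2) F := !![a * u 0, b * v 0; a * u 1, b * v 1] with hM
  have hdet : M.det ≠ 0 := by
    rw [Matrix.det_fin_two]
    have : M 0 0 * M 1 1 - M 0 1 * M 1 0 = a * b * D := by
      simp only [hM, Matrix.of_apply, Matrix.cons_val', Matrix.cons_val_zero, Matrix.cons_val_one,
        Matrix.empty_val', Matrix.cons_val_fin_one, hDdef]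
      ring
    rw [this]
    exact mul_ne_zero (mul_ne_zero ha hb) hD
  refine ⟨ProjGenLinGroup.mk (Matrix.GeneralLinearGroup.mkOfDetNeZero M hdet), ?_⟩
  intro i
  fin_cases i
  · show (ProjGenLinGroup.mk _ : PGL(Fin 2, F)) • Projectivization.mk F e0 e0_ne = x 0
    apply smul_mk_eq _ e0 e0_ne (x 0) u hu0 hxu a
    show a • u = M *ᵥ e0
    rw [mulVec_e0]
    funext i
    fin_cases i <;> simp [hM]
  · show (ProjGenLinGroup.mk _ : PGL(Fin 2, F)) • Projectivization.mk F e1 e1_ne = x 1
    apply smul_mk_eq _ e1 e1_ne (x 1) v hv0 hxv b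
    show b • v = M *ᵥ e1
    rw [mulVec_e1]
    funext i
    fin_cases i <;> simp [hM]
  · show (ProjGenLinGroup.mk _ : PGL(Fin 2, F)) • Projectivization.mk F e2 e2_ne = x 2
    apply smul_mk_eq _ e2 e2_ne (x 2) w hw0 hxw D
    show D • w = M *ᵥ e2
    rw [mulVec_e2]
    funext i
    fin_cases i
    · simp only [hM, hDdef, hadef, hbdef, Pi.smul_apply, smul_eq_mul, Matrix.of_apply,
        Matrix.cons_val', Matrix.cons_val_zero, Matrix.cons_val_one, Matrix.empty_val',
        Matrix.cons_val_fin_one, Fin.zero_eta]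
      ring
    · simp only [hM, hDdef, hadef, hbdef, Pi.smul_apply, smul_eq_mul, Matrix.of_apply,
        Matrix.cons_val', Matrix.cons_val_zero, Matrix.cons_val_one, Matrix.empty_val',
        Matrix.cons_val_fin_one, Fin.mk_one]
      ring

/-- Only the identity fixes the standard triple. -/
theorem fix_std (g : PGL(Fin 2, F)) (h : ∀ i, g • (std i : Projectivization F (Fin 2 → F)) = std i) :
    g = 1 := by
  induction g using Matrix.ProjGenLinGroup.induction_on with
  | _ G =>
    have h0 := h 0
    have h1 := h 1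
    have h2 := h 2
    simp only [std, Matrix.cons_val_zero, Matrix.cons_val_one, Matrix.cons_val_two,
      Matrix.head_cons, Matrix.tail_cons] at h0 h1 h2
    rw [PGL.mk_smul_mk, mk_eq_iff_cross] at h0 h1
    have h2' : (ProjGenLinGroup.mk G : PGL(Fin 2, F)) • Projectivization.mk F e2 e2_ne =
        Projectivization.mk F e2 e2_ne := h2
    rw [PGL.mk_smul_mk, mk_eq_iff_cross] at h2'
    have g0 : (G • (e0 : Fin 2 → F)) = ![G.1 0 0, G.1 1 0] := mulVec_e0 G.1
    have g1 : (G • (e1 : Fin 2 → F)) = ![G.1 0 1, G.1 1 1] := mulVec_e1 G.1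
    have g2 : (G • (e2 : Fin 2 → F)) = ![G.1 0 0 + G.1 0 1, G.1 1 0 + G.1 1 1] := mulVec_e2 G.1
    rw [g0] at h0
    rw [g1] at h1
    rw [g2] at h2'
    simp [e0] at h0
    simp [e1] at h1
    simp [e2] at h2'
    have hdiag : G.1 0 0 = G.1 1 1 := by
      rw [h0, h1] at h2'
      linear_combination h2'
    have hne : G.1 0 0 ≠ 0 := by
      intro hz
      have hdet : G.1.det ≠ 0 := by
        have := (Matrix.isUnit_iff_isUnit_det G.1).1 G.isUnit
        exact this.ne_zero
      rw [Matrix.det_fin_two, h0, h1, hz] at hdet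
      simp at hdet
    have hG : G = Matrix.GeneralLinearGroup.scalar (Fin 2) (Units.mk0 _ hne) := by
      apply Units.ext
      rw [Matrix.GeneralLinearGroup.coe_scalar]
      ext i j
      fin_cases i <;> fin_cases j <;> simp [h0, h1, ← hdiag]
    rw [hG]
    exact Matrix.ProjGenLinGroup.mk_scalar _

/-- For any field, PGL_2 acts sharply 3-transitively on the projective line: 3-transitively, and only the identity fixes three distinct points. -/
theorem result {F : Type*} [Field F] : MulAction.IsMultiplyPretransitive (Matrix.ProjGenLinGroup (Fin 2) F) (Projectivization F (Fin 2 → F)) 3 ∧ ∀ (g : Matrix.ProjGenLinGroup (Fin 2) F) (a b c : Projectivization F (Fin 2 → F)), a ≠ b → a ≠ c → b ≠ c → g • a = a → g • b = b → g • c = c → g = 1 := by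
  constructor
  · rw [MulAction.isMultiplyPretransitive_iff]
    intro x y
    obtain ⟨gx, hgx⟩ := exists_to (fun i => x i) (fun h => by simpa using x.injective h)
      (fun h => by simpa using x.injective h) (fun h => by simpa using x.injective h)
    obtain ⟨gy, hgy⟩ := exists_to (fun i => y i) (fun h => by simpa using y.injective h)
      (fun h => by simpa using y.injective h) (fun h => by simpa using y.injective h)
    refine ⟨gy * gx⁻¹, ?_⟩
    ext i
    rw [Function.Embedding.smul_apply, ← hgx i, mul_smul, inv_smul_smul, hgy i]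
  · intro g a b c hab hac hbc ha hb hc
    obtain ⟨h, hh⟩ := exists_to ![a, b, c] hab hac hbc
    have key : h⁻¹ * g * h = 1 := by
      apply fix_std
      intro i
      rw [mul_smul, mul_smul, hh i]
      have : g • (![a, b, c] : Fin 3 → _) i = (![a, b, c] : Fin 3 → _) i := by
        fin_cases i
        · exact ha
        · exact hb
        · exact hc
      rw [this, ← hh i, inv_smul_smul]
    have : g = h * (h⁻¹ * g * h) * h⁻¹ := by group
    rw [this, key, mul_one, mul_inv_cancel]

end Cfsg.Agent.S0266
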