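import Cfsg.Statements.S0260
import Mathlib
import Cfsg.Agent.S0266

set_option autoImplicit false
open Cfsg

namespace Cfsg.Agent.S0260

open Matrix Projectivization Cfsg.Agent.S0266 Pointwise

variable {F : Type*} [Field F]

local notation "SL2" => Matrix.SpecialLinearGroup (Fin 2) F

theorem sl_ext (g h : SL2) (h00 : g.1 0 0 = h.1 0 0) (h01 : g.1 0 1 = h.1 0 1)
    (h10 : g.1 1 0 = h.1 1 0) (h11 : g.1 1 1 = h.1 1 1) : g = h := by
  apply Subtype.ext
  ext i j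
  fin_cases i <;> fin_cases j <;> assumption

theorem sl_det (g : SL2) : g.1 0 0 * g.1 1 1 - g.1 0 1 * g.1 1 0 = 1 := by
  have := g.2
  rwa [Matrix.det_fin_two] at this

theorem mul_entries (g h : SL2) :
    (g * h).1 0 0 = g.1 0 0 * h.1 0 0 + g.1 0 1 * h.1 1 0 ∧
    (g * h).1 0 1 = g.1 0 0 * h.1 0 1 + g.1 0 1 * h.1 1 1 ∧
    (g * h).1 1 0 = g.1 1 0 * h.1 0 0 + g.1 1 1 * h.1 1 0 ∧
    (g * h).1 1 1 = g.1 1 0 * h.1 0 1 + g.1 1 1 * h.1 1 1 := by
  simp [Matrix.SpecialLinearGroup.coe_mul, Matrix.mul_apply, Fin.sum_univ_two]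

theorem inv_entries (g : SL2) :
    (g⁻¹).1 0 0 = g.1 1 1 ∧ (g⁻¹).1 0 1 = - g.1 0 1 ∧ (g⁻¹).1 1 0 = - g.1 1 0 ∧
      (g⁻¹).1 1 1 = g.1 0 0 := by
  simp [Matrix.SpecialLinearGroup.coe_inv, Matrix.adjugate_fin_two]

/-- Upper unitriangular matrices. -/
def uM (t : F) : SL2 := ⟨!![1, t; 0, 1], by simp [Matrix.det_fin_two]⟩
/-- Lower unitriangular matrices. -/
def lM (t : F) : SL2 := ⟨!![1, 0; t, 1], by simp [Matrix.det_fin_two]⟩

theorem uM_entries (t : F) : (uM t).1 0 0 = 1 ∧ (uM t).1 0 1 = t ∧ (uM t).1 1 0 = 0 ∧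
    (uM t).1 1 1 = 1 := by simp [uM]
theorem lM_entries (t : F) : (lM t).1 0 0 = 1 ∧ (lM t).1 0 1 = 0 ∧ (lM t).1 1 0 = t ∧
    (lM t).1 1 1 = 1 := by simp [lM]

/-- The upper unitriangular subgroup. -/
def U (F : Type*) [Field F] : Subgroup (Matrix.SpecialLinearGroup (Fin 2) F) where
  carrier := {g | g.1 0 0 = 1 ∧ g.1 1 0 = 0 ∧ g.1 1 1 = 1}
  mul_mem' := by
    rintro g h ⟨g1, g2, g3⟩ ⟨h1, h2, h3⟩
    obtain ⟨e1, -, e3, e4⟩ := mul_entries g h
    refine ⟨?_, ?_, ?_⟩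
    · rw [e1, g1, h1, h2]; ring
    · rw [e3, g2, h2, g3]; ring
    · rw [e4, g2, g3, h3]; ring
  one_mem' := by simp
  inv_mem' := by
    rintro g ⟨g1, g2, g3⟩
    obtain ⟨e1, -, e3, e4⟩ := inv_entries g
    exact ⟨by rw [e1, g3], by rw [e3, g2, neg_zero], by rw [e4, g1]⟩

/-- The lower unitriangular subgroup. -/
def L (F : Type*) [Field F] : Subgroup (Matrix.SpecialLinearGroup (Fin 2) F) where
  carrier := {g | g.1 0 0 = 1 ∧ g.1 0 1 = 0 ∧ g.1 1 1 = 1}
  mul_mem' := by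
    rintro g h ⟨g1, g2, g3⟩ ⟨h1, h2, h3⟩
    obtain ⟨e1, e2, -, e4⟩ := mul_entries g h
    refine ⟨?_, ?_, ?_⟩
    · rw [e1, g1, h1, g2]; ring
    · rw [e2, g2, h2]; ring
    · rw [e4, h2, g3, h3]; ring
  one_mem' := by simp
  inv_mem' := by
    rintro g ⟨g1, g2, g3⟩
    obtain ⟨e1, e2, -, e4⟩ := inv_entries g
    exact ⟨by rw [e1, g3], by rw [e2, g2, neg_zero], by rw [e4, g1]⟩

theorem mem_U (g : SL2) : g ∈ U F ↔ g.1 0 0 = 1 ∧ g.1 1 0 = 0 ∧ g.1 1 1 = 1 := Iff.rfl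
theorem mem_L (g : SL2) : g ∈ L F ↔ g.1 0 0 = 1 ∧ g.1 0 1 = 0 ∧ g.1 1 1 = 1 := Iff.rfl

theorem uM_mem (t : F) : uM t ∈ U F := by
  obtain ⟨e1, -, e3, e4⟩ := uM_entries t
  exact ⟨e1, e3, e4⟩

theorem lM_mem (t : F) : lM t ∈ L F := by
  obtain ⟨e1, e2, -, e4⟩ := lM_entries t
  exact ⟨e1, e2, e4⟩

theorem eq_uM (g : SL2) (hg : g ∈ U F) : g = uM (g.1 0 1) := by
  obtain ⟨g1, g2, g3⟩ := hg
  obtain ⟨e1, e2, e3, e4⟩ := uM_entries (g.1 0 1)
  exact sl_ext _ _ (by rw [g1, e1]) (by rw [e2]) (by rw [g2, e3]) (by rw [g3, e4])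

theorem eq_lM (g : SL2) (hg : g ∈ L F) : g = lM (g.1 1 0) := by
  obtain ⟨g1, g2, g3⟩ := hg
  obtain ⟨e1, e2, e3, e4⟩ := lM_entries (g.1 1 0)
  exact sl_ext _ _ (by rw [g1, e1]) (by rw [g2, e2]) (by rw [e3]) (by rw [g3, e4])

/-- Bruhat-type decomposition of a matrix with non-zero lower-left entry. -/
theorem decomp (M : SL2) (hc : M.1 1 0 ≠ 0) :
    M = uM ((M.1 0 0 - 1) / M.1 1 0) * lM (M.1 1 0) * uM ((M.1 1 1 - 1) / M.1 1 0) := by
  have hdet := sl_det M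
  obtain ⟨a1, a2, a3, a4⟩ := uM_entries ((M.1 0 0 - 1) / M.1 1 0)
  obtain ⟨b1, b2, b3, b4⟩ := lM_entries (M.1 1 0)
  obtain ⟨c1, c2, c3, c4⟩ := uM_entries ((M.1 1 1 - 1) / M.1 1 0)
  obtain ⟨d1, d2, d3, d4⟩ := mul_entries (uM ((M.1 0 0 - 1) / M.1 1 0)) (lM (M.1 1 0))
  obtain ⟨f1, f2, f3, f4⟩ := mul_entries (uM ((M.1 0 0 - 1) / M.1 1 0) * lM (M.1 1 0))
    (uM ((M.1 1 1 - 1) / M.1 1 0))
  apply sl_ext
  · rw [f1, d1, d2, a1, a2, b1, b3, b2, b4, c1, c3]
    field_simp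
    ring
  · rw [f2, d1, d2, a1, a2, b1, b3, b2, b4, c2, c4]
    field_simp
    linear_combination (-1 : F) * hdet
  · rw [f3, d3, d4, a3, a4, b1, b3, b2, b4, c1, c3]
    ring
  · rw [f4, d3, d4, a3, a4, b1, b3, b2, b4, c2, c4]
    field_simp
    ring

theorem gen_top : U F ⊔ L F = ⊤ := by
  have hU : U F ≤ U F ⊔ L F := le_sup_left
  have hL : L F ≤ U F ⊔ L F := le_sup_right
  have key : ∀ M : SL2, M.1 1 0 ≠ 0 → M ∈ U F ⊔ L F := by
    intro M hc
    rw [decomp M hc]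
    exact mul_mem (mul_mem (hU (uM_mem _)) (hL (lM_mem _))) (hU (uM_mem _))
  rw [eq_top_iff]
  intro M _
  by_cases hc : M.1 1 0 = 0
  · have hdet := sl_det M
    rw [hc, mul_zero, sub_zero] at hdet
    have ha : M.1 0 0 ≠ 0 := left_ne_zero_of_mul_eq_one hdet
    have h2 : lM 1 * M ∈ U F ⊔ L F := by
      apply key
      obtain ⟨-, -, e3, -⟩ := mul_entries (lM 1) M
      obtain ⟨-, -, b3, b4⟩ := lM_entries (1 : F)
      rw [e3, b3, b4, hc]
      simpa using ha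
    have : M = (lM 1)⁻¹ * (lM 1 * M) := by group
    rw [this]
    exact mul_mem (inv_mem (hL (lM_mem _))) h2
  · exact key M hc

/-- Upper triangular matrices normalise `U`. -/
theorem conj_mem_U (m : SL2) (hm : m.1 1 0 = 0) (g : SL2) (hg : g ∈ U F) :
    m * g * m⁻¹ ∈ U F := by
  obtain ⟨g1, g2, g3⟩ := hg
  have hdet := sl_det m
  rw [hm, mul_zero, sub_zero] at hdet
  obtain ⟨d1, d2, d3, d4⟩ := mul_entries m g
  obtain ⟨i1, i2, i3, i4⟩ := inv_entries m
  obtain ⟨f1, f2, f3, f4⟩ := mul_entries (m * g) m⁻¹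
  refine ⟨?_, ?_, ?_⟩
  · rw [f1, d1, d2, i1, i3, g1, g2, g3, hm]
    linear_combination hdet
  · rw [f3, d3, d4, i1, i3, g1, g2, g3, hm]
    ring
  · rw [f4, d3, d4, i2, i4, g1, g2, g3, hm]
    linear_combination hdet

theorem conj_U_eq (m : SL2) (hm : m.1 1 0 = 0) : MulAut.conj m • U F = U F := by
  have hm' : (m⁻¹).1 1 0 = 0 := by
    obtain ⟨-, -, i3, -⟩ := inv_entries m
    rw [i3, hm, neg_zero]
  apply le_antisymm
  · intro x hx
    rw [Subgroup.mem_pointwise_smul_iff_inv_smul_mem] at hx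
    have h1 := conj_mem_U m hm _ hx
    have : m * ((MulAut.conj m)⁻¹ • x) * m⁻¹ = x := by
      simp [MulAut.smul_def, MulAut.inv_apply, MulAut.conj_symm_apply]
      group
    rwa [this] at h1
  · intro x hx
    rw [Subgroup.mem_pointwise_smul_iff_inv_smul_mem]
    have h1 := conj_mem_U m⁻¹ hm' _ hx
    have : (MulAut.conj m)⁻¹ • x = m⁻¹ * x * m⁻¹⁻¹ := by
      simp [MulAut.smul_def, MulAut.inv_apply, MulAut.conj_symm_apply]
    rwa [this]

/-- A conjugate of `U` by a matrix with non-zero lower-left entry generates everything with `U`. -/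
theorem sup_conj_eq_top (m : SL2) (hc : m.1 1 0 ≠ 0) : U F ⊔ MulAut.conj m • U F = ⊤ := by
  have hU : U F ≤ U F ⊔ MulAut.conj m • U F := le_sup_left
  have hC : MulAut.conj m • U F ≤ U F ⊔ MulAut.conj m • U F := le_sup_right
  have hL : L F ≤ U F ⊔ MulAut.conj m • U F := by
    intro x hx
    rw [eq_lM x hx]
    set s := x.1 1 0
    by_cases hs : s = 0
    · rw [hs]
      have : lM (0 : F) = 1 := by
        obtain ⟨b1, b2, b3, b4⟩ := lM_entries (0 : F)
        apply sl_ext <;> simp [b1, b2, b3, b4]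
      rw [this]
      exact one_mem _
    · set t := - s / (m.1 1 0) ^ 2 with ht
      set N := m * uM t * m⁻¹ with hN
      have hNmem : N ∈ MulAut.conj m • U F := by
        rw [Subgroup.mem_pointwise_smul_iff_inv_smul_mem]
        have : (MulAut.conj m)⁻¹ • N = uM t := by
          simp [MulAut.smul_def, MulAut.inv_apply, MulAut.conj_symm_apply, hN]
          group
        rw [this]
        exact uM_mem t
      have hN10 : N.1 1 0 = s := by
        obtain ⟨d1, d2, d3, d4⟩ := mul_entries m (uM t)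
        obtain ⟨i1, i2, i3, i4⟩ := inv_entries m
        obtain ⟨f1, f2, f3, f4⟩ := mul_entries (m * uM t) m⁻¹
        obtain ⟨u1, u2, u3, u4⟩ := uM_entries t
        rw [hN, f3, d3, d4, i1, i3, u1, u2, u3, u4, ht]
        field_simp
        ring
      have hdec := decomp N (by rw [hN10]; exact hs)
      rw [hN10] at hdec
      obtain ⟨A, hA, C, hC', hdec'⟩ : ∃ A ∈ U F, ∃ C ∈ U F, N = A * lM s * C :=
        ⟨_, uM_mem _, _, uM_mem _, hdec⟩
      have : lM s = A⁻¹ * N * C⁻¹ := by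
        rw [hdec']
        group
      rw [this]
      exact mul_mem (mul_mem (inv_mem (hU hA)) (hC hNmem)) (inv_mem (hU hC'))
  rw [eq_top_iff, ← gen_top]
  exact sup_le hU hL

theorem pow_upper (h : SL2) (hh : h.1 1 0 = 0) (n : ℕ) :
    (h ^ n).1 1 0 = 0 ∧ (h ^ n).1 0 0 = (h.1 0 0) ^ n := by
  induction n with
  | zero => simp
  | succ n ih =>
    obtain ⟨e1, -, e3, -⟩ := mul_entries (h ^ n) h
    rw [pow_succ]
    constructor
    · rw [e3, ih.1, hh]; ring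
    · rw [e1, ih.2, hh]; ring

theorem uM_mul (s t : F) : uM s * uM t = uM (s + t) := by
  obtain ⟨e1, e2, e3, e4⟩ := mul_entries (uM s) (uM t)
  obtain ⟨a1, a2, a3, a4⟩ := uM_entries s
  obtain ⟨b1, b2, b3, b4⟩ := uM_entries t
  obtain ⟨c1, c2, c3, c4⟩ := uM_entries (s + t)
  apply sl_ext
  · rw [e1, a1, a2, b1, b3, c1]; ring
  · rw [e2, a1, a2, b2, b4, c2]; ring
  · rw [e3, a3, a4, b1, b3, c3]; ring
  · rw [e4, a3, a4, b2, b4, c4]; ring

theorem uM_zero : uM (0 : F) = 1 := by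
  obtain ⟨b1, b2, b3, b4⟩ := uM_entries (0 : F)
  apply sl_ext <;> simp [b1, b2, b3, b4]

theorem uM_pow (t : F) (n : ℕ) : (uM t) ^ n = uM (n * t) := by
  induction n with
  | zero => simp [uM_zero]
  | succ n ih =>
    rw [pow_succ, ih, uM_mul]
    congr 1
    push_cast
    ring

theorem U_isPGroup (p : ℕ) [Fact p.Prime] [CharP F p] : IsPGroup p (U F) := by
  intro g
  refine ⟨1, ?_⟩
  apply Subtype.ext
  rw [pow_one, Subgroup.coe_pow, Subgroup.coe_one, eq_uM g.1 g.2, uM_pow, CharP.cast_eq_zero,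
    zero_mul, uM_zero]

theorem fix_e0 (h : SL2)
    (hfix : h • Projectivization.mk F (e0 : Fin 2 → F) e0_ne = Projectivization.mk F e0 e0_ne) :
    h.1 1 0 = 0 := by
  have h1 : h • Projectivization.mk F (e0 : Fin 2 → F) e0_ne =
      Projectivization.mk F (h.1 *ᵥ e0) ((smul_ne_zero_iff_ne h).mpr e0_ne) := rfl
  rw [h1, mk_eq_iff_cross, mulVec_e0] at hfix
  simpa [e0] using hfix

/-- Every Sylow `p`-subgroup is a conjugate of `U`. -/
theorem sylow_eq_conj [Fintype F] (p : ℕ) [Fact p.Prime] [CharP F p] (P : Sylow p SL2) :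
    ∃ g : SL2, (P : Subgroup SL2) = MulAut.conj g • U F := by
  classical
  have hp := (Fact.out : p.Prime)
  -- P fixes a point
  have hcard : Nat.card (Projectivization F (Fin 2 → F)) = Nat.card F + 1 :=
    Projectivization.card_of_finrank_two F _ (by simp)
  have hndvd : ¬ p ∣ Nat.card (Projectivization F (Fin 2 → F)) := by
    rw [hcard]
    obtain ⟨n, -, hn⟩ := FiniteField.card F p
    have hdvd : p ∣ Nat.card F := by
      rw [Nat.card_eq_fintype_card, hn]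
      exact dvd_pow_self p n.ne_zero
    intro h
    have := (Nat.dvd_add_right hdvd).1 h
    exact hp.one_lt.ne' (Nat.dvd_one.1 this)
  obtain ⟨x, hx⟩ := IsPGroup.nonempty_fixed_point_of_prime_not_dvd_card P.isPGroup'
    (Projectivization F (Fin 2 → F)) hndvd
  rw [MulAction.mem_fixedPoints] at hx
  obtain ⟨g₀, hg₀⟩ := MulAction.exists_smul_eq SL2
    (Projectivization.mk F (e0 : Fin 2 → F) e0_ne) x
  refine ⟨g₀, ?_⟩
  -- the conjugate P' = g₀⁻¹ P g₀ lies in U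
  have hle : ((g₀⁻¹ • P : Sylow p SL2) : Subgroup SL2) ≤ U F := by
    intro h hh
    rw [Sylow.coe_subgroup_smul, Subgroup.mem_pointwise_smul_iff_inv_smul_mem] at hh
    have hh' : g₀ * h * g₀⁻¹ ∈ (P : Subgroup SL2) := by
      have : (MulAut.conj g₀⁻¹)⁻¹ • h = g₀ * h * g₀⁻¹ := by
        simp [MulAut.smul_def, MulAut.inv_apply, MulAut.conj_symm_apply]
      rwa [this] at hh
    have hfix : h • Projectivization.mk F (e0 : Fin 2 → F) e0_ne =
        Projectivization.mk F e0 e0_ne := by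
      have h1 := hx ⟨_, hh'⟩
      have h2 : (g₀ * h * g₀⁻¹) • x = x := h1
      rw [← hg₀, mul_smul, mul_smul, inv_smul_smul] at h2
      exact smul_left_cancel g₀ h2
    have h10 := fix_e0 h hfix
    -- p-power order
    have hpg : IsPGroup p (g₀⁻¹ • P : Sylow p SL2) := (g₀⁻¹ • P : Sylow p SL2).isPGroup'
    have hh2 : h ∈ ((g₀⁻¹ • P : Sylow p SL2) : Subgroup SL2) := by
      rw [Sylow.coe_subgroup_smul, Subgroup.mem_pointwise_smul_iff_inv_smul_mem]
      exact hh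
    obtain ⟨k, hk⟩ := hpg ⟨h, hh2⟩
    have hk' : h ^ (p ^ k) = 1 := by
      have := congrArg Subtype.val hk
      simpa using this
    have h00 : h.1 0 0 ^ (p ^ k) = 1 := by
      rw [← (pow_upper h h10 (p ^ k)).2, hk']
      simp
    have ha : h.1 0 0 = 1 := by
      have : (h.1 0 0 - 1) ^ (p ^ k) = 0 := by
        rw [sub_pow_char_pow, h00, one_pow, sub_self]
      exact sub_eq_zero.1 (pow_eq_zero_iff (pow_ne_zero k hp.ne_zero) |>.1 this)
    have hdet := sl_det h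
    rw [h10, mul_zero, sub_zero, ha, one_mul] at hdet
    exact ⟨ha, h10, hdet⟩
  have heq : U F = ((g₀⁻¹ • P : Sylow p SL2) : Subgroup SL2) :=
    (g₀⁻¹ • P : Sylow p SL2).is_maximal' (U_isPGroup p) hle
  rw [heq, Sylow.coe_subgroup_smul, smul_smul, ← map_mul, mul_inv_cancel, map_one, one_smul]

/-- Over a finite field of characteristic p, SL_2 is generated by any two distinct Sylow p-subgroups. -/
theorem result {F : Type*} [Field F] [Fintype F] (p : ℕ) [Fact p.Prime] [CharP F p] (P Q : Sylow p (Matrix.SpecialLinearGroup (Fin 2) F)) (h : P ≠ Q) : (P : Subgroup (Matrix.SpecialLinearGroup (Fin 2) F)) ⊔ (Q : Subgroup (Matrix.SpecialLinearGroup (Fin 2) F)) = ⊤ := by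
  obtain ⟨g, hg⟩ := sylow_eq_conj p P
  obtain ⟨k, hk⟩ := sylow_eq_conj p Q
  have hm : (g⁻¹ * k).1 1 0 ≠ 0 := by
    intro h0
    apply h
    apply Sylow.ext
    rw [hg, hk]
    have := conj_U_eq (g⁻¹ * k) h0
    have h2 : MulAut.conj k • U F = MulAut.conj g • (MulAut.conj (g⁻¹ * k) • U F) := by
      rw [smul_smul, ← map_mul, mul_inv_cancel_left]
    rw [h2, this]
  have h1 := sup_conj_eq_top (g⁻¹ * k) hm
  have h2 : MulAut.conj g • (U F ⊔ MulAut.conj (g⁻¹ * k) • U F) =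
      (P : Subgroup (Matrix.SpecialLinearGroup (Fin 2) F)) ⊔ Q := by
    rw [Subgroup.smul_sup, smul_smul, ← map_mul, mul_inv_cancel_left, ← hg, ← hk]
  rw [← h2, h1]
  rw [eq_top_iff]
  intro x _
  rw [Subgroup.mem_pointwise_smul_iff_inv_smul_mem]
  exact Subgroup.mem_top _

end Cfsg.Agent.S0260
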