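import Cfsg.Statements.S0268
import Mathlib

set_option autoImplicit false
open Pointwise
open Cfsg

namespace Cfsg.Agent.S0268

theorem aux {F : Type*} [Field F] (M : Matrix (Fin 2) (Fin 2) F) (h2ne : (2 : F) ≠ 0)
    (hdet : M 0 0 * M 1 1 - M 0 1 * M 1 0 = 1) (hsq : M * M = 1) : M = 1 ∨ M = -1 := by
  have e00 := congrFun (congrFun hsq 0) 0
  have e01 := congrFun (congrFun hsq 0) 1
  have e10 := congrFun (congrFun hsq 1) 0
  have e11 := congrFun (congrFun hsq 1) 1
  simp only [Matrix.mul_apply, Fin.sum_univ_two, Matrix.one_apply_eq] at e00 e11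
  simp only [Matrix.mul_apply, Fin.sum_univ_two, ne_eq, zero_ne_one, one_ne_zero, not_false_eq_true,
    Matrix.one_apply_ne] at e01 e10
  have k1 : M 0 0 * (M 0 0 + M 1 1) = 2 := by linear_combination e00 + hdet
  have hne : M 0 0 + M 1 1 ≠ 0 := by
    intro h; rw [h, mul_zero] at k1; exact h2ne k1.symm
  have hb0 : M 0 1 = 0 := by
    have : M 0 1 * (M 0 0 + M 1 1) = 0 := by linear_combination e01
    rcases mul_eq_zero.mp this with h | h
    · exact h
    · exact absurd h hne
  have hc0 : M 1 0 = 0 := by
    have : M 1 0 * (M 0 0 + M 1 1) = 0 := by linear_combination e10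
    rcases mul_eq_zero.mp this with h | h
    · exact h
    · exact absurd h hne
  rw [hb0, hc0] at hdet e00 e11
  have had : M 0 0 * M 1 1 = 1 := by linear_combination hdet
  have haa : M 0 0 * M 0 0 = 1 := by linear_combination e00
  have hda : M 1 1 = M 0 0 := by
    have : M 0 0 * M 1 1 = M 0 0 * M 0 0 := by rw [had, haa]
    have ha0 : M 0 0 ≠ 0 := by intro h; rw [h, zero_mul] at haa; exact zero_ne_one haa
    exact (mul_left_cancel₀ ha0 this)
  have ha1 : M 0 0 = 1 ∨ M 0 0 = -1 := by
    have : (M 0 0 - 1) * (M 0 0 + 1) = 0 := by linear_combination haa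
    rcases mul_eq_zero.mp this with h | h
    · left; linear_combination h
    · right; linear_combination h
  rcases ha1 with h | h
  · left
    ext i j
    fin_cases i <;> fin_cases j
    · simpa using h
    · simpa using hb0
    · simpa using hc0
    · simpa using (hda.trans h)
  · right
    ext i j
    fin_cases i <;> fin_cases j
    · simpa using h
    · simpa using hb0
    · simpa using hc0
    · simpa using (hda.trans h)

/-- For q odd, -1 is the unique involution of SL_2(q). -/
theorem result {F : Type*} [Field F] [Fintype F] (hF : Odd (Fintype.card F)) (g : Matrix.SpecialLinearGroup (Fin 2) F) (h1 : g ≠ 1) (h2 : g * g = 1) : (g : Matrix (Fin 2) (Fin 2) F) = -1 := by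
  have hchar : ringChar F ≠ 2 := by
    intro h
    have := FiniteField.even_card_of_char_two h
    rw [Nat.odd_iff] at hF
    omega
  have h2ne : (2 : F) ≠ 0 := Ring.two_ne_zero hchar
  have hdet : (g : Matrix (Fin 2) (Fin 2) F).det = 1 := g.2
  rw [Matrix.det_fin_two] at hdet
  have hsq : (g : Matrix (Fin 2) (Fin 2) F) * (g : Matrix (Fin 2) (Fin 2) F) = 1 := by
    have := congrArg (fun x : Matrix.SpecialLinearGroup (Fin 2) F => (x : Matrix (Fin 2) (Fin 2) F)) h2
    simpa using this
  rcases aux _ h2ne hdet hsq with h | h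
  · exfalso
    apply h1
    apply Subtype.ext
    simpa using h
  · exact h

end Cfsg.Agent.S0268
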