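import Cfsg.Statements.S0261
import Mathlib
import Cfsg.Agent.S0016
import Cfsg.Agent.S0268

set_option autoImplicit false
open Cfsg

namespace Cfsg.Agent.S0261

open Matrix Polynomial

theorem exists_sq_add_sq {F : Type*} [Field F] [Fintype F] (hF : Odd (Fintype.card F)) :
    ∃ a b : F, a * a + b * b = -1 := by
  classical
  obtain ⟨a, b, hab⟩ := FiniteField.exists_root_sum_quadratic (R := F) (f := X ^ 2) (g := X ^ 2 - C (-1))
    (degree_X_pow 2) (degree_X_pow_sub_C (by decide) _) (Nat.odd_iff.1 hF)
  refine ⟨a, b, ?_⟩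
  simp only [eval_pow, eval_X, eval_sub, eval_C] at hab
  linear_combination hab

/-- two non-commuting elements of order four generating a `2`-group. -/
theorem exists_pair {F : Type*} [Field F] [Fintype F] (hF : Odd (Fintype.card F)) :
    ∃ x y : Matrix.SpecialLinearGroup (Fin 2) F, x ^ 4 = 1 ∧ y ^ 4 = 1 ∧ y * x * y⁻¹ = x⁻¹ ∧ x * y ≠ y * x := by
  classical
  obtain ⟨a, b, hab⟩ := exists_sq_add_sq hF
  have h2 : (2 : F) ≠ 0 := by
    intro h
    have hch : ringChar F = 2 := by
      have : (ringChar F) ∣ 2 := by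
        apply ringChar.dvd
        exact_mod_cast h
      rcases (Nat.dvd_prime Nat.prime_two).1 this with h1 | h1
      · exact absurd h1 (CharP.ringChar_ne_one)
      · exact h1
    have := FiniteField.even_card_of_char_two hch
    have h1 := Nat.odd_iff.1 hF
    omega
  set x : Matrix.SpecialLinearGroup (Fin 2) F := ⟨!![a, b; b, -a], by
    rw [Matrix.det_fin_two_of]; linear_combination -hab⟩ with hx
  set y : Matrix.SpecialLinearGroup (Fin 2) F := ⟨!![0, -1; 1, 0], by
    rw [Matrix.det_fin_two_of]; ring⟩ with hy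
  have hxx : (x * x : Matrix.SpecialLinearGroup (Fin 2) F).1 = -1 := by
    rw [Matrix.SpecialLinearGroup.coe_mul]
    show !![a, b; b, -a] * !![a, b; b, -a] = -1
    rw [Matrix.mul_fin_two]
    ext i j
    fin_cases i <;> fin_cases j <;> simp <;>
      first | linear_combination hab | linear_combination -hab | ring
  have hyy : (y * y : Matrix.SpecialLinearGroup (Fin 2) F).1 = -1 := by
    rw [Matrix.SpecialLinearGroup.coe_mul]
    show !![(0:F), -1; 1, 0] * !![0, -1; 1, 0] = -1
    rw [Matrix.mul_fin_two]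
    ext i j
    fin_cases i <;> fin_cases j <;> simp
  have hx4 : x ^ 4 = 1 := by
    apply Subtype.ext
    have : x ^ 4 = (x * x) * (x * x) := by
      rw [show (4:ℕ) = 2 + 2 from rfl, pow_add, pow_two]
    rw [this, Matrix.SpecialLinearGroup.coe_mul, hxx]
    simp
  have hy4 : y ^ 4 = 1 := by
    apply Subtype.ext
    have : y ^ 4 = (y * y) * (y * y) := by
      rw [show (4:ℕ) = 2 + 2 from rfl, pow_add, pow_two]
    rw [this, Matrix.SpecialLinearGroup.coe_mul, hyy]
    simp
  have hyx : (y * x).1 = !![-b, a; a, b] := by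
    rw [Matrix.SpecialLinearGroup.coe_mul]
    show !![(0:F), -1; 1, 0] * !![a, b; b, -a] = _
    rw [Matrix.mul_fin_two]
    ext i j
    fin_cases i <;> fin_cases j <;> simp
  have hxy : (x * y).1 = !![b, -a; -a, -b] := by
    rw [Matrix.SpecialLinearGroup.coe_mul]
    show !![a, b; b, -a] * !![(0:F), -1; 1, 0] = _
    rw [Matrix.mul_fin_two]
    ext i j
    fin_cases i <;> fin_cases j <;> simp
  refine ⟨x, y, hx4, hy4, ?_, ?_⟩
  · -- `y x y⁻¹ = x⁻¹` iff `y x = x⁻¹ y` iff `x y x = y`
    have h1 : x * (y * x) = y := by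
      apply Subtype.ext
      rw [Matrix.SpecialLinearGroup.coe_mul, hyx]
      show !![a, b; b, -a] * !![-b, a; a, b] = !![(0:F), -1; 1, 0]
      rw [Matrix.mul_fin_two]
      ext i j
      fin_cases i <;> fin_cases j <;> simp <;>
        first | linear_combination hab | linear_combination -hab | ring
    calc y * x * y⁻¹ = x⁻¹ * (x * (y * x)) * y⁻¹ := by group
      _ = x⁻¹ := by rw [h1]; group
  · intro h
    have := congrArg (fun g : Matrix.SpecialLinearGroup (Fin 2) F => g.1) h
    simp only [hxy, hyx] at this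
    have h00 := congrFun (congrFun this 0) 0
    have h01 := congrFun (congrFun this 0) 1
    simp at h00 h01
    have hb : b = 0 := by
      have : (2 : F) * b = 0 := by linear_combination h00
      rcases mul_eq_zero.1 this with h | h
      · exact absurd h h2
      · exact h
    have ha : a = 0 := by
      have : (2 : F) * a = 0 := by linear_combination -h01
      rcases mul_eq_zero.1 this with h | h
      · exact absurd h h2
      · exact h
    rw [ha, hb] at hab
    simp at hab

/-- For q odd, the Sylow 2-subgroups of SL_2(q) are generalised quaternion. -/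
theorem result {F : Type*} [Field F] [Fintype F] (hF : Odd (Fintype.card F)) (P : Sylow 2 (Matrix.SpecialLinearGroup (Fin 2) F)) : ∃ k : ℕ, 1 ≤ k ∧ Nonempty ((P : Subgroup (Matrix.SpecialLinearGroup (Fin 2) F)) ≃* QuaternionGroup (2 ^ k)) := by
  classical
  have huniq : ∀ H K : Subgroup ↥(P : Subgroup (Matrix.SpecialLinearGroup (Fin 2) F)),
      Nat.card H = 2 → Nat.card K = 2 → H = K := by
    have key : ∀ H : Subgroup ↥(P : Subgroup (Matrix.SpecialLinearGroup (Fin 2) F)), Nat.card H = 2 →
        ∃ h : ↥(P : Subgroup (Matrix.SpecialLinearGroup (Fin 2) F)),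
          ((h : Matrix.SpecialLinearGroup (Fin 2) F) : Matrix (Fin 2) (Fin 2) F) = -1 ∧
          H = Subgroup.zpowers h := by
      intro H hH
      have hnt : Nontrivial H := by
        rw [← Finite.one_lt_card_iff_nontrivial, hH]; norm_num
      obtain ⟨⟨h, hhH⟩, hh1⟩ := exists_ne (1 : H)
      have hh1' : h ≠ 1 := fun e => hh1 (Subtype.ext e)
      have hh2 : h ^ 2 = 1 := by
        have := pow_card_eq_one' (G := H) (x := ⟨h, hhH⟩)
        rw [hH] at this
        exact congrArg Subtype.val this
      refine ⟨h, ?_, ?_⟩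
      · apply Cfsg.Agent.S0268.result hF
        · intro e
          apply hh1'
          exact Subtype.ext e
        · have := congrArg Subtype.val hh2
          rw [pow_two] at this
          exact this
      · symm
        apply Subgroup.eq_of_le_of_card_ge
        · rw [Subgroup.zpowers_le]; exact hhH
        · rw [hH, Nat.card_zpowers]
          have hdvd : orderOf h ∣ 2 := orderOf_dvd_of_pow_eq_one hh2
          rcases (Nat.dvd_prime Nat.prime_two).1 hdvd with h1 | h1
          · exact absurd (orderOf_eq_one_iff.1 h1) hh1'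
          · rw [h1]
    intro H K hH hK
    obtain ⟨h, hh, rfl⟩ := key H hH
    obtain ⟨k, hk, rfl⟩ := key K hK
    have : h = k := by
      apply Subtype.ext
      apply Subtype.ext
      rw [hh, hk]
    rw [this]
  -- `P` is not commutative
  have hnc : ¬ ∀ a b : ↥(P : Subgroup (Matrix.SpecialLinearGroup (Fin 2) F)), a * b = b * a := by
    intro hcomm
    obtain ⟨x, y, hx4, hy4, hconj, hxy⟩ := exists_pair hF
    have hPx : IsPGroup 2 (Subgroup.zpowers x) := by
      rintro ⟨g, hg⟩
      obtain ⟨k, rfl⟩ := Subgroup.mem_zpowers_iff.1 hg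
      refine ⟨2, Subtype.ext ?_⟩
      show (x ^ k) ^ (2 ^ 2) = 1
      rw [← zpow_natCast, ← _root_.zpow_mul, mul_comm, _root_.zpow_mul, zpow_natCast]
      norm_num
      rw [hx4, _root_.one_zpow]
    have hPy : IsPGroup 2 (Subgroup.zpowers y) := by
      rintro ⟨g, hg⟩
      obtain ⟨k, rfl⟩ := Subgroup.mem_zpowers_iff.1 hg
      refine ⟨2, Subtype.ext ?_⟩
      show (y ^ k) ^ (2 ^ 2) = 1
      rw [← zpow_natCast, ← _root_.zpow_mul, mul_comm, _root_.zpow_mul, zpow_natCast]
      norm_num
      rw [hy4, _root_.one_zpow]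
    have hnorm : Subgroup.zpowers y ≤ Subgroup.normalizer (Subgroup.zpowers x : Set (Matrix.SpecialLinearGroup (Fin 2) F)) := by
      rw [Subgroup.zpowers_le, Subgroup.mem_normalizer_iff]
      intro h
      have hconj' : y⁻¹ * x * y = x⁻¹ := by
        have h3 : x = y⁻¹ * x⁻¹ * y := by rw [← hconj]; group
        calc y⁻¹ * x * y = (y⁻¹ * x⁻¹ * y)⁻¹ := by group
          _ = x⁻¹ := by rw [← h3]
      constructor
      · intro hh
        obtain ⟨k, rfl⟩ := Subgroup.mem_zpowers_iff.1 hh
        have : y * x ^ k * y⁻¹ = (y * x * y⁻¹) ^ k := by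
          have := map_zpow (MulAut.conj y) x k
          simpa [MulAut.conj_apply] using this
        rw [this, hconj]
        exact Subgroup.zpow_mem _ (Subgroup.inv_mem _ (Subgroup.mem_zpowers x)) k
      · intro hh
        obtain ⟨k, hk⟩ := Subgroup.mem_zpowers_iff.1 hh
        have : h = (y⁻¹ * x * y) ^ k := by
          have h1 := map_zpow (MulAut.conj y⁻¹) x k
          simp only [MulAut.conj_apply, inv_inv] at h1
          rw [← h1, hk]
          group
        rw [this, hconj']
        exact Subgroup.zpow_mem _ (Subgroup.inv_mem _ (Subgroup.mem_zpowers x)) k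
    have hQ : IsPGroup 2 (Subgroup.zpowers y ⊔ Subgroup.zpowers x : Subgroup (Matrix.SpecialLinearGroup (Fin 2) F)) :=
      IsPGroup.to_sup_of_normal_right' hPy hPx hnorm
    obtain ⟨P', hP'⟩ := hQ.exists_le_sylow
    obtain ⟨g, hg⟩ := MulAction.exists_smul_eq (Matrix.SpecialLinearGroup (Fin 2) F) P' P
    have hxP' : x ∈ P' := hP' (Subgroup.mem_sup_right (Subgroup.mem_zpowers x))
    have hyP' : y ∈ P' := hP' (Subgroup.mem_sup_left (Subgroup.mem_zpowers y))
    have hmem : ∀ z ∈ P', g * z * g⁻¹ ∈ P := by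
      intro z hz
      rw [← hg]
      show g * z * g⁻¹ ∈ ((g • P' : Sylow 2 (Matrix.SpecialLinearGroup (Fin 2) F)) : Subgroup (Matrix.SpecialLinearGroup (Fin 2) F))
      rw [Sylow.smul_def, Sylow.pointwise_smul_def, Subgroup.mem_pointwise_smul_iff_inv_smul_mem]
      simp only [MulAut.smul_def, map_inv, MulAut.inv_apply, MulAut.conj_symm_apply]
      have : g⁻¹ * (g * z * g⁻¹) * g = z := by group
      rw [this]
      exact hz
    have := hcomm ⟨_, hmem x hxP'⟩ ⟨_, hmem y hyP'⟩
    have h2 := congrArg Subtype.val this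
    simp only [Subgroup.coe_mul] at h2
    apply hxy
    have h3 : g * (x * y) * g⁻¹ = g * (y * x) * g⁻¹ := by
      calc g * (x * y) * g⁻¹ = g * x * g⁻¹ * (g * y * g⁻¹) := by group
        _ = g * y * g⁻¹ * (g * x * g⁻¹) := h2
        _ = g * (y * x) * g⁻¹ := by group
    exact mul_left_cancel (mul_right_cancel h3)
  rcases Cfsg.Agent.S0016.result 2 P.isPGroup' huniq with hc | ⟨_, n, hn⟩
  · exfalso
    apply hnc
    intro a b
    obtain ⟨g, hg⟩ := hc.exists_generator
    obtain ⟨i, rfl⟩ := Subgroup.mem_zpowers_iff.1 (hg a)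
    obtain ⟨j, rfl⟩ := Subgroup.mem_zpowers_iff.1 (hg b)
    rw [← _root_.zpow_add, ← _root_.zpow_add, add_comm]
  · refine ⟨n, ?_, hn⟩
    by_contra h0
    have hn0 : n = 0 := by omega
    subst hn0
    obtain ⟨e⟩ := hn
    apply hnc
    intro a b
    have hcyc : IsCyclic (QuaternionGroup (2 ^ 0)) := by
      rw [pow_zero]; exact QuaternionGroup.quaternionGroup_one_isCyclic
    obtain ⟨g, hg⟩ := hcyc.exists_generator
    apply e.injective
    rw [map_mul, map_mul]
    obtain ⟨i, hi⟩ := Subgroup.mem_zpowers_iff.1 (hg (e a))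
    obtain ⟨j, hj⟩ := Subgroup.mem_zpowers_iff.1 (hg (e b))
    rw [← hi, ← hj, ← _root_.zpow_add, ← _root_.zpow_add, add_comm]

end Cfsg.Agent.S0261
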