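import Cfsg.Statements.S0262
import Mathlib
import Cfsg.Agent.S0242

set_option autoImplicit false
open Cfsg

namespace Cfsg.Agent.S0262

open Matrix

/-- the diagonal torus of `SL₂`. -/
noncomputable def torus (K : Type*) [Field K] : Kˣ →* Matrix.SpecialLinearGroup (Fin 2) K where
  toFun a := ⟨!![(a : K), 0; 0, ((a⁻¹ : Kˣ) : K)], by
    rw [Matrix.det_fin_two_of]; simp⟩
  map_one' := by
    apply Subtype.ext
    simp [Matrix.one_fin_two]
  map_mul' a b := by
    apply Subtype.ext
    show !![((a * b : Kˣ) : K), 0; 0, (((a * b)⁻¹ : Kˣ) : K)] =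
      !![(a : K), 0; 0, ((a⁻¹ : Kˣ) : K)] * !![(b : K), 0; 0, ((b⁻¹ : Kˣ) : K)]
    rw [Matrix.mul_fin_two]
    simp [mul_comm]

theorem torus_injective (K : Type*) [Field K] : Function.Injective (torus K) := by
  intro a b h
  have := congrArg (fun g : Matrix.SpecialLinearGroup (Fin 2) K => g.1 0 0) h
  apply Units.ext
  exact this

theorem card_SL2 (K : Type*) [Field K] [Fintype K] :
    Nat.card (Matrix.SpecialLinearGroup (Fin 2) K) =
      Fintype.card K * ((Fintype.card K - 1) * (Fintype.card K + 1)) := by
  have h := Cfsg.Agent.S0242.result (F := K) rfl 2 (by norm_num)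
  have hq : 2 ≤ Fintype.card K := Fintype.one_lt_card
  set q := Fintype.card K with hqdef
  simp only [Fin.prod_univ_two, Fin.val_zero, Fin.val_one, pow_zero, pow_one] at h
  obtain ⟨c, hc⟩ : ∃ c, q = c + 2 := ⟨q - 2, by omega⟩
  have h1 : q ^ 2 - 1 = (q - 1) * (q + 1) := by
    rw [hc]
    have : (c + 2) ^ 2 - 1 = (c + 1) * (c + 3) := by
      have : (c + 2) ^ 2 = (c + 1) * (c + 3) + 1 := by ring
      omega
    simpa using this
  have h2 : q ^ 2 - q = q * (q - 1) := by
    rw [hc]
    have : (c + 2) ^ 2 - (c + 2) = (c + 2) * (c + 1) := by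
      have : (c + 2) ^ 2 = (c + 2) * (c + 1) + (c + 2) := by ring
      omega
    simpa using this
  rw [h1, h2] at h
  have hpos : 0 < q - 1 := by omega
  apply Nat.eq_of_mul_eq_mul_left hpos
  rw [h]
  ring

/-- Sylow `r`-subgroups of `SL₂(K)` are cyclic when `r` divides neither `|K|` nor `|K| + 1`. -/
theorem cyclic_of_not_dvd (K : Type*) [Field K] [Fintype K] (r : ℕ) [Fact r.Prime]
    (h1 : ¬ r ∣ Fintype.card K) (h2 : ¬ r ∣ Fintype.card K + 1)
    (R : Sylow r (Matrix.SpecialLinearGroup (Fin 2) K)) :
    IsCyclic (R : Subgroup (Matrix.SpecialLinearGroup (Fin 2) K)) := by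
  classical
  have hr : r.Prime := Fact.out
  set T : Subgroup (Matrix.SpecialLinearGroup (Fin 2) K) := (torus K).range with hT
  have hTcyc : IsCyclic T := by
    have : Function.Surjective (torus K).rangeRestrict := MonoidHom.rangeRestrict_surjective _
    exact isCyclic_of_surjective _ this
  have hTcard : Nat.card T = Fintype.card K - 1 := by
    rw [hT, Nat.card_congr (MonoidHom.ofInjective (torus_injective K)).toEquiv.symm,
      Nat.card_eq_fintype_card, Fintype.card_units]
  obtain PT : Sylow r T := default
  set S : Subgroup (Matrix.SpecialLinearGroup (Fin 2) K) :=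
    (PT : Subgroup T).map T.subtype with hS
  have hScard : Nat.card S = r ^ (Nat.card (Matrix.SpecialLinearGroup (Fin 2) K)).factorization r := by
    rw [hS, Subgroup.card_map_of_injective T.subtype_injective, PT.card_eq_multiplicity, hTcard, card_SL2]
    congr 1
    have hq : 2 ≤ Fintype.card K := Fintype.one_lt_card
    rw [Nat.factorization_mul (by omega) (Nat.mul_ne_zero (by omega) (by omega)),
      Nat.factorization_mul (by omega) (by omega)]
    simp only [Finsupp.coe_add, Pi.add_apply]
    rw [Nat.factorization_eq_zero_of_not_dvd h1, Nat.factorization_eq_zero_of_not_dvd h2]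
    omega
  set S' : Sylow r (Matrix.SpecialLinearGroup (Fin 2) K) := Sylow.ofCard S hScard with hS'
  have hScyc : IsCyclic S := by
    have : IsCyclic (PT : Subgroup T) := inferInstance
    have hsurj : Function.Surjective ((T.subtype.subgroupMap (PT : Subgroup T))) :=
      MonoidHom.subgroupMap_surjective _ _
    exact isCyclic_of_surjective _ hsurj
  have e : (S' : Subgroup (Matrix.SpecialLinearGroup (Fin 2) K)) ≃* R := Sylow.equiv S' R
  have hS'cyc : IsCyclic (S' : Subgroup (Matrix.SpecialLinearGroup (Fin 2) K)) := hScyc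
  exact isCyclic_of_surjective e.toMonoidHom e.surjective

/-- For an odd prime r different from the characteristic, the Sylow r-subgroups of SL_2(q) are cyclic. -/
theorem result {F : Type*} [Field F] [Fintype F] (p : ℕ) [Fact p.Prime] [CharP F p] (r : ℕ) [Fact r.Prime] (hr : r ≠ 2) (hrp : r ≠ p) (R : Sylow r (Matrix.SpecialLinearGroup (Fin 2) F)) : IsCyclic (R : Subgroup (Matrix.SpecialLinearGroup (Fin 2) F)) := by
  classical
  have hr' : r.Prime := Fact.out
  have hp' : p.Prime := Fact.out
  obtain ⟨f, _, hf⟩ := FiniteField.card F p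
  have hrq : ¬ r ∣ Fintype.card F := by
    rw [hf]
    intro h
    have := hr'.dvd_of_dvd_pow h
    exact hrp ((Nat.prime_dvd_prime_iff_eq hr' hp').1 this)
  by_cases h2 : r ∣ Fintype.card F + 1
  · -- pass to the quadratic extension
    let K := FiniteField.Extension F p 2
    letI : Fintype K := Fintype.ofFinite K
    have hKcard : Fintype.card K = Fintype.card F ^ 2 := by
      rw [Fintype.card_eq_nat_card, FiniteField.natCard_extension, Nat.card_eq_fintype_card]
    have hK1 : ¬ r ∣ Fintype.card K := by
      rw [hKcard]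
      intro h
      exact hrq (hr'.dvd_of_dvd_pow h)
    have hK2 : ¬ r ∣ Fintype.card K + 1 := by
      rw [hKcard]
      intro h
      obtain ⟨c, hc⟩ := h2
      have h3 : r ∣ (Fintype.card F + 1) * (Fintype.card F + 1) := Dvd.dvd.mul_right ⟨c, hc⟩ _
      have h4 : r ∣ 2 * (Fintype.card F + 1) := Dvd.dvd.mul_left ⟨c, hc⟩ _
      have h5 : (Fintype.card F + 1) * (Fintype.card F + 1) + 2 =
          (Fintype.card F ^ 2 + 1) + 2 * (Fintype.card F + 1) := by ring
      have h6 : r ∣ (Fintype.card F + 1) * (Fintype.card F + 1) + 2 := by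
        rw [h5]; exact dvd_add h h4
      have h7 : r ∣ 2 := (Nat.dvd_add_right h3).1 h6
      exact hr ((Nat.prime_dvd_prime_iff_eq hr' Nat.prime_two).1 h7)
    set ι : Matrix.SpecialLinearGroup (Fin 2) F →* Matrix.SpecialLinearGroup (Fin 2) K :=
      Matrix.SpecialLinearGroup.map (algebraMap F K) with hι
    have hιinj : Function.Injective ι := by
      intro a b hab
      apply Subtype.ext
      ext i j
      have := congrArg (fun g : Matrix.SpecialLinearGroup (Fin 2) K => g.1 i j) hab
      simp only [hι, Matrix.SpecialLinearGroup.map_apply_coe, RingHom.mapMatrix_apply,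
        Matrix.map_apply] at this
      exact (algebraMap F K).injective this
    have hRK : IsPGroup r ((R : Subgroup (Matrix.SpecialLinearGroup (Fin 2) F)).map ι) :=
      R.isPGroup'.map ι
    obtain ⟨RK, hRK'⟩ := hRK.exists_le_sylow
    have hcyc := cyclic_of_not_dvd K r hK1 hK2 RK
    -- `R` embeds into the cyclic group `RK`
    let φ : (R : Subgroup (Matrix.SpecialLinearGroup (Fin 2) F)) →*
        (RK : Subgroup (Matrix.SpecialLinearGroup (Fin 2) K)) :=
      { toFun := fun x => ⟨ι x.1, hRK' (Subgroup.mem_map_of_mem ι x.2)⟩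
        map_one' := by
          apply Subtype.ext
          simp
        map_mul' := by
          intro a b
          apply Subtype.ext
          simp }
    have hφinj : Function.Injective φ := by
      intro a b hab
      apply Subtype.ext
      apply hιinj
      exact congrArg Subtype.val hab
    exact isCyclic_of_injective φ hφinj
  · exact cyclic_of_not_dvd F r hrq h2 R

end Cfsg.Agent.S0262
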