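import Cfsg.Statements.S0264
import Mathlib
import Cfsg.Agent.Lib.Helper9_SLn

set_option autoImplicit false
open Cfsg

namespace Cfsg.Agent.S0264

open Matrix
open scoped commutatorElement

variable {ι F : Type*} [Fintype ι] [DecidableEq ι] [Field F]

/-- diagonal matrix as element of GL -/
noncomputable def dGL (d : ι → F) (hd : ∀ k, d k ≠ 0) : Matrix.GeneralLinearGroup ι F :=
  ⟨Matrix.diagonal d, Matrix.diagonal (fun k => (d k)⁻¹),
    by
      rw [Matrix.diagonal_mul_diagonal]
      have : (fun i => d i * (d i)⁻¹) = fun _ => (1 : F) := by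
        funext k; exact mul_inv_cancel₀ (hd k)
      rw [this]; exact Matrix.diagonal_one,
    by
      rw [Matrix.diagonal_mul_diagonal]
      have : (fun i => (d i)⁻¹ * d i) = fun _ => (1 : F) := by
        funext k; exact inv_mul_cancel₀ (hd k)
      rw [this]; exact Matrix.diagonal_one⟩

lemma diag_mul_transvection (d : ι → F) {i j : ι} (hij : i ≠ j) (c : F) (hj : d j = 1) :
    Matrix.diagonal d * (Matrix.SpecialLinearGroup.transvection hij c).1
      = (Matrix.SpecialLinearGroup.transvection hij (d i * c)).1 * Matrix.diagonal d := by
  apply Matrix.ext_iff_mulVec.2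
  intro v
  rw [← Matrix.mulVec_mulVec, ← Matrix.mulVec_mulVec]
  rw [Cfsg.Agent.Helper9SLn.transvection_mulVec, Cfsg.Agent.Helper9SLn.transvection_mulVec]
  ext l
  rw [Matrix.mulVec_diagonal]
  by_cases hl : l = i
  · subst hl
    simp only [Function.update_self, Matrix.mulVec_diagonal, hj]
    ring
  · simp only [Function.update_of_ne hl, Matrix.mulVec_diagonal]

lemma transvection_mem_of_scalar {i j : ι} (hij : i ≠ j) (b : F) (a : F) (ha0 : a ≠ 0)
    (ha1 : a ≠ 1) :
    Matrix.SpecialLinearGroup.toGL (Matrix.SpecialLinearGroup.transvection hij b)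
      ∈ commutator (Matrix.GeneralLinearGroup ι F) := by
  have hd : ∀ k, Function.update (fun _ => (1 : F)) i a k ≠ 0 := by
    intro k
    by_cases hk : k = i
    · subst hk; simpa using ha0
    · simp [hk]
  have ha1' : a - 1 ≠ 0 := sub_ne_zero.2 ha1
  set D := dGL (Function.update (fun _ => (1 : F)) i a) hd with hD
  set c : F := b / (a - 1) with hc
  have key : D * Matrix.SpecialLinearGroup.toGL (Matrix.SpecialLinearGroup.transvection hij c)
      = Matrix.SpecialLinearGroup.toGL (Matrix.SpecialLinearGroup.transvection hij (a * c)) * D := by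
    apply Units.ext
    simp only [Units.val_mul, Matrix.SpecialLinearGroup.coe_GL_coe_matrix]
    have := diag_mul_transvection (Function.update (fun _ => (1 : F)) i a) hij c
      (by simp [hij.symm])
    simpa [hD, dGL] using this
  have h2 : Matrix.SpecialLinearGroup.toGL (Matrix.SpecialLinearGroup.transvection hij b)
      = ⁅D, Matrix.SpecialLinearGroup.toGL (Matrix.SpecialLinearGroup.transvection hij c)⁆ := by
    rw [commutatorElement_def, key, mul_assoc _ D, mul_inv_cancel, mul_one, ← map_inv, ← map_mul,
      Matrix.SpecialLinearGroup.transvection_inv]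
    congr 1
    apply Subtype.ext
    simp only [Matrix.SpecialLinearGroup.coe_mul, Matrix.SpecialLinearGroup.transvection_coe]
    have := Matrix.transvection_mul_transvection_same i j hij (a * c) (-c)
    simp only [Matrix.transvection] at this
    rw [this]
    congr 2
    rw [hc]; field_simp; ring
  rw [h2, commutator_def]
  exact Subgroup.commutator_mem_commutator (Subgroup.mem_top _) (Subgroup.mem_top _)

lemma ker_det_eq_range :
    (Matrix.GeneralLinearGroup.det : Matrix.GeneralLinearGroup ι F →* Fˣ).ker
      = (Matrix.SpecialLinearGroup.toGL : Matrix.SpecialLinearGroup ι F →* _).range := by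
  ext g
  constructor
  · intro hg
    rw [MonoidHom.mem_ker] at hg
    have hdet : (g : Matrix ι ι F).det = 1 := by
      have := congrArg Units.val hg
      simpa using this
    refine ⟨⟨(g : Matrix ι ι F), hdet⟩, ?_⟩
    apply Units.ext
    rfl
  · rintro ⟨s, rfl⟩
    rw [MonoidHom.mem_ker]
    apply Units.ext
    simp

/-- GL_n(F)' = SL_n(F) (as the kernel of det), for every field F and every n, except n = 2 over the field of two elements. -/
theorem result {F : Type*} [Field F] (n : ℕ) (h : n = 2 → ∃ a : F, a ≠ 0 ∧ a ≠ 1) : commutator (Matrix.GeneralLinearGroup (Fin n) F) = (Matrix.GeneralLinearGroup.det : Matrix.GeneralLinearGroup (Fin n) F →* Fˣ).ker := by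
  apply le_antisymm
  · exact Abelianization.commutator_subset_ker _
  · rw [ker_det_eq_range]
    rintro _ ⟨M, rfl⟩
    rcases Nat.lt_or_ge n 2 with hn | hn
    · -- SL trivial
      have hM : M = 1 := by
        apply Subtype.ext
        have hdet := M.2
        ext i j
        interval_cases n
        · exact i.elim0
        · have hi : i = 0 := Subsingleton.elim _ _
          have hj : j = 0 := Subsingleton.elim _ _
          subst hi hj
          rw [Matrix.det_fin_one] at hdet
          simpa using hdet
      rw [hM, map_one]
      exact Subgroup.one_mem _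
    · have : Nontrivial (Fin n) := Fin.nontrivial_iff_two_le.2 hn
      apply Cfsg.Agent.Helper9SLn.transvection_induction
        (fun M => Matrix.SpecialLinearGroup.toGL M ∈ commutator (Matrix.GeneralLinearGroup (Fin n) F)) M
      · intro i j hij b
        rcases Nat.lt_or_ge n 3 with hn3 | hn3
        · obtain ⟨a, ha0, ha1⟩ := h (by omega)
          exact transvection_mem_of_scalar hij b a ha0 ha1
        · obtain ⟨k, hki, hkj⟩ := Cfsg.Agent.Helper9SLn.exists_third hn3 i j
          rw [Cfsg.Agent.Helper9SLn.transvection_eq_comm hij (Ne.symm hki) hkj b, map_commutatorElement,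
            commutator_def]
          exact Subgroup.commutator_mem_commutator (Subgroup.mem_top _) (Subgroup.mem_top _)
      · intro A B hA hB
        simp only [map_mul]
        exact Subgroup.mul_mem _ hA hB

end Cfsg.Agent.S0264
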