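import Cfsg.Statements.S0267
import Mathlib
import Cfsg.Agent.S0266

set_option autoImplicit false
open scoped MatrixGroups
open Cfsg

namespace Cfsg.Agent.S0267

open Matrix Projectivization Matrix.ProjGenLinGroup Cfsg.Agent.S0266

variable {F : Type*} [Field F]

theorem smul_eq_of_prop (S : Matrix.SpecialLinearGroup (Fin 2) F) (G : GL (Fin 2) F) (c : F)
    (h : ∀ v : Fin 2 → F, c • (G.1 *ᵥ v) = S.1 *ᵥ v) (p : Projectivization F (Fin 2 → F)) :
    S • p = (ProjGenLinGroup.mk G : PGL(Fin 2, F)) • p := by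
  induction p using Projectivization.ind with
  | _ v hv =>
    rw [Projectivization.smul_mk, PGL.mk_smul_mk, Projectivization.mk_eq_mk_iff']
    exact ⟨c, h v⟩

theorem inj3 {α : Type*} (a b c : α) (hab : a ≠ b) (hac : a ≠ c) (hbc : b ≠ c) :
    Function.Injective (![a, b, c] : Fin 3 → α) := by
  intro i j h
  fin_cases i <;> fin_cases j <;> simp_all

theorem sl_smul_mk (S : Matrix.SpecialLinearGroup (Fin 2) F) (v : Fin 2 → F) (hv : v ≠ 0) :
    ∃ hv' : S.1 *ᵥ v ≠ 0, S • Projectivization.mk F v hv = Projectivization.mk F (S.1 *ᵥ v) hv' :=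
  ⟨(smul_ne_zero_iff_ne S).mpr hv, rfl⟩

/-- Over a finite field, SL_2 is 3-transitive on the projective line exactly when the characteristic is 2. -/
theorem result {F : Type*} [Field F] [Fintype F] : MulAction.IsMultiplyPretransitive (Matrix.SpecialLinearGroup (Fin 2) F) (Projectivization F (Fin 2 → F)) 3 ↔ ringChar F = 2 := by
  constructor
  · intro h
    by_contra hchar
    obtain ⟨d, hd⟩ := FiniteField.exists_nonsquare hchar
    have hd0 : d ≠ 0 := by
      rintro rfl
      exact hd ⟨0, by simp⟩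
    have hw0 : (![d, 1] : Fin 2 → F) ≠ 0 := fun h => one_ne_zero (congrFun h 1)
    let p0 := Projectivization.mk F (e0 : Fin 2 → F) e0_ne
    let p1 := Projectivization.mk F (e1 : Fin 2 → F) e1_ne
    let p2 := Projectivization.mk F (e2 : Fin 2 → F) e2_ne
    let p3 := Projectivization.mk F (![d, 1] : Fin 2 → F) hw0
    have h01 : p0 ≠ p1 := by
      intro h
      have := (mk_eq_iff_cross _ _ e0_ne e1_ne).1 h
      simp [e0, e1] at this
    have h02 : p0 ≠ p2 := by
      intro h
      have := (mk_eq_iff_cross _ _ e0_ne e2_ne).1 h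
      simp [e0, e2] at this
    have h12 : p1 ≠ p2 := by
      intro h
      have := (mk_eq_iff_cross _ _ e1_ne e2_ne).1 h
      simp [e1, e2] at this
    have h03 : p0 ≠ p3 := by
      intro h
      have := (mk_eq_iff_cross _ _ e0_ne hw0).1 h
      simp [e0] at this
    have h13 : p1 ≠ p3 := by
      intro h
      have := (mk_eq_iff_cross _ _ e1_ne hw0).1 h
      simp [e1] at this
      exact hd0 this
    rw [MulAction.isMultiplyPretransitive_iff] at h
    obtain ⟨S, hS⟩ := h ⟨![p0, p1, p2], inj3 _ _ _ h01 h02 h12⟩ ⟨![p0, p1, p3], inj3 _ _ _ h01 h03 h13⟩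
    have hS0 : S • p0 = p0 := DFunLike.congr_fun hS 0
    have hS1 : S • p1 = p1 := DFunLike.congr_fun hS 1
    have hS2 : S • p2 = p3 := DFunLike.congr_fun hS 2
    obtain ⟨n0, k0⟩ := sl_smul_mk S e0 e0_ne
    obtain ⟨n1, k1⟩ := sl_smul_mk S e1 e1_ne
    obtain ⟨n2, k2⟩ := sl_smul_mk S e2 e2_ne
    have c0 := (mk_eq_iff_cross _ _ n0 e0_ne).1 (k0.symm.trans hS0)
    have c1 := (mk_eq_iff_cross _ _ n1 e1_ne).1 (k1.symm.trans hS1)
    have c2 := (mk_eq_iff_cross _ _ n2 hw0).1 (k2.symm.trans hS2)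
    rw [mulVec_e0] at c0
    rw [mulVec_e1] at c1
    rw [mulVec_e2] at c2
    simp [e0] at c0
    simp [e1] at c1
    simp at c2
    have hdet := S.2
    rw [Matrix.det_fin_two, c0, c1] at hdet
    rw [c0, c1] at c2
    simp at hdet c2
    -- c2 : S 0 0 = S 1 1 * d (in some form); hdet : S 0 0 * S 1 1 = 1
    have h11 : S.1 1 1 ≠ 0 := by
      intro hz
      rw [hz] at hdet
      simp at hdet
    apply hd
    refine ⟨(S.1 1 1)⁻¹, ?_⟩
    field_simp
    linear_combination hdet - S.1 1 1 * c2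
  · intro hchar
    rw [MulAction.isMultiplyPretransitive_iff]
    intro x y
    obtain ⟨g, hg⟩ := (MulAction.isMultiplyPretransitive_iff.1
      (Cfsg.Agent.S0266.result (F := F)).1) x y
    induction g using Matrix.ProjGenLinGroup.induction_on with
    | _ G =>
      have hdet0 : G.1.det ≠ 0 := ((Matrix.isUnit_iff_isUnit_det G.1).1 G.isUnit).ne_zero
      obtain ⟨c, hc⟩ := FiniteField.isSquare_of_char_two hchar G.1.det
      have hc0 : c ≠ 0 := by
        rintro rfl
        rw [mul_zero] at hc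
        exact hdet0 hc
      let S : Matrix.SpecialLinearGroup (Fin 2) F := ⟨c⁻¹ • G.1, by
        rw [Matrix.det_smul, Fintype.card_fin, hc]
        field_simp⟩
      refine ⟨S, ?_⟩
      ext i
      rw [Function.Embedding.smul_apply, ← hg, Function.Embedding.smul_apply]
      apply smul_eq_of_prop S G c⁻¹
      intro v
      show c⁻¹ • (G.1 *ᵥ v) = (c⁻¹ • G.1) *ᵥ v
      rw [Matrix.smul_mulVec]

end Cfsg.Agent.S0267
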