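import Cfsg.Statements.S0271
import Mathlib
import Cfsg.Agent.Lib.Helper9_Sp

set_option autoImplicit false
open Cfsg

namespace Cfsg.Agent.S0271

open Matrix Cfsg.Agent.Lib.Helper1_Symp Cfsg.Agent.Helper9Sp

variable {F : Type*} [Field F] {m : ℕ}

/-- one transvection suffices when the form is non-zero -/
lemma step (v w : Fin m ⊕ Fin m → F) (h : sympForm m F v w ≠ 0) :
    ∃ g : Matrix.symplecticGroup (Fin m) F,
      (g : Matrix (Fin m ⊕ Fin m) (Fin m ⊕ Fin m) F).mulVec v = w := by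
  refine ⟨⟨sympTransvection m (w - v) (sympForm m F v w)⁻¹, sympTransvection_mem _ _⟩, ?_⟩
  show sympTransvection m (w - v) (sympForm m F v w)⁻¹ *ᵥ v = w
  rw [sympTransvection_mulVec, sympForm_sub_right, sympForm_self, sub_zero, inv_mul_cancel₀ h,
    one_smul]
  abel

/-- Sp_{2m}(F) is transitive on non-zero vectors. -/
theorem result {F : Type*} [Field F] (m : ℕ) (v w : Fin m ⊕ Fin m → F) (hv : v ≠ 0) (hw : w ≠ 0) : ∃ g : Matrix.symplecticGroup (Fin m) F, (g : Matrix (Fin m ⊕ Fin m) (Fin m ⊕ Fin m) F).mulVec v = w := by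
  by_cases h : sympForm m F v w ≠ 0
  · exact step v w h
  · push Not at h
    obtain ⟨a, ha⟩ := exists_form_ne_zero v hv
    obtain ⟨b, hb⟩ := exists_form_ne_zero w hw
    have key : ∃ x, sympForm m F v x ≠ 0 ∧ sympForm m F w x ≠ 0 := by
      by_cases h1 : sympForm m F w a ≠ 0
      · exact ⟨a, ha, h1⟩
      · push Not at h1
        by_cases h2 : sympForm m F v b ≠ 0
        · exact ⟨b, h2, hb⟩
        · push Not at h2
          refine ⟨a + b, ?_, ?_⟩
          · rw [sympForm_add_right, h2, add_zero]; exact ha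
          · rw [sympForm_add_right, h1, zero_add]; exact hb
    obtain ⟨x, hx1, hx2⟩ := key
    obtain ⟨g1, hg1⟩ := step v x hx1
    obtain ⟨g2, hg2⟩ := step x w (by rw [sympForm_swap]; exact neg_ne_zero.2 hx2)
    refine ⟨g2 * g1, ?_⟩
    show ((g2 : Matrix (Fin m ⊕ Fin m) (Fin m ⊕ Fin m) F) * (g1 : Matrix (Fin m ⊕ Fin m) (Fin m ⊕ Fin m) F)) *ᵥ v = w
    rw [← Matrix.mulVec_mulVec, hg1, hg2]

end Cfsg.Agent.S0271
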