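import Cfsg.Statements.S0269
import Mathlib
import Cfsg.Agent.Lib.Helper9_Sp
import Cfsg.Agent.S0271

set_option autoImplicit false
open Cfsg

namespace Cfsg.Agent.S0269

open Matrix Cfsg.Agent.Lib.Helper1_Symp Cfsg.Agent.Helper9Sp

variable {F : Type*} [Field F] {m : ℕ}

/-- transvection as an element of the symplectic group -/
def tv (u : Fin m ⊕ Fin m → F) (c : F) : Matrix.symplecticGroup (Fin m) F :=
  ⟨sympTransvection m u c, sympTransvection_mem u c⟩

lemma tv_mulVec (u : Fin m ⊕ Fin m → F) (c : F) (x : Fin m ⊕ Fin m → F) :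
    (tv u c).1 *ᵥ x = x + (c * sympForm m F x u) • u :=
  sympTransvection_mulVec u c x

lemma sp_ext (g h : Matrix.symplecticGroup (Fin m) F)
    (H : ∀ v, g.1 *ᵥ v = h.1 *ᵥ v) : g = h := by
  apply Subtype.ext
  exact Matrix.ext_iff_mulVec.2 H

lemma mul_mulVec (g h : Matrix.symplecticGroup (Fin m) F) (x : Fin m ⊕ Fin m → F) :
    (g * h).1 *ᵥ x = g.1 *ᵥ (h.1 *ᵥ x) :=
  (Matrix.mulVec_mulVec x g.1 h.1).symm

lemma one_mulVec' (x : Fin m ⊕ Fin m → F) :
    (1 : Matrix.symplecticGroup (Fin m) F).1 *ᵥ x = x := Matrix.one_mulVec x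

lemma tv_mul (u : Fin m ⊕ Fin m → F) (c d : F) : tv u c * tv u d = tv u (c + d) :=
  Subtype.ext (sympTransvection_mul u c d)

lemma tv_zero (u : Fin m ⊕ Fin m → F) : tv u (0 : F) = 1 :=
  Subtype.ext (sympTransvection_zero u)

lemma tv_zero_vec (c : F) : tv (0 : Fin m ⊕ Fin m → F) c = 1 := by
  apply sp_ext
  intro x
  rw [tv_mulVec, smul_zero, add_zero, one_mulVec']

lemma tv_inv (u : Fin m ⊕ Fin m → F) (c : F) : (tv u c)⁻¹ = tv u (-c) := by
  rw [inv_eq_iff_mul_eq_one, tv_mul, add_neg_cancel, tv_zero]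

lemma tv_smul (a : F) (u : Fin m ⊕ Fin m → F) (c : F) : tv (a • u) c = tv u (a * a * c) :=
  Subtype.ext (sympTransvection_smul u a c)

lemma tv_conj (g : Matrix.symplecticGroup (Fin m) F) (u : Fin m ⊕ Fin m → F) (c : F) :
    g * tv u c * g⁻¹ = tv (g.1 *ᵥ u) c := by
  apply Subtype.ext
  have h : g.1 * (g⁻¹).1 = 1 := congrArg Subtype.val (mul_inv_cancel g)
  exact sympTransvection_conj g.2 h u c

/-- in the abelianization, all transvections with the same parameter have the same image -/
lemma ab_eq (u w : Fin m ⊕ Fin m → F) (hu : u ≠ 0) (hw : w ≠ 0) (c : F) :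
    Abelianization.of (tv u c) = Abelianization.of (tv w c) := by
  obtain ⟨g, hg⟩ := Cfsg.Agent.S0271.result m u w hu hw
  have h : (g : Matrix (Fin m ⊕ Fin m) (Fin m ⊕ Fin m) F) = g.1 := rfl
  rw [h] at hg
  rw [← hg, ← tv_conj, map_mul, map_mul, map_inv, mul_comm, inv_mul_cancel_left]

/-- if all transvections die in the abelianization, the group is perfect -/
lemma perfect_of_ab (h : ∀ (u : Fin m ⊕ Fin m → F) (c : F), Abelianization.of (tv u c) = 1) :
    commutator (Matrix.symplecticGroup (Fin m) F) = ⊤ := by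
  rw [← Abelianization.ker_of, eq_top_iff, ← Cfsg.Agent.S0765.result (F := F) m,
    Subgroup.closure_le]
  rintro A ⟨w, c, hA⟩
  have : A = tv w c := Subtype.ext hA
  rw [this]
  exact h w c

/-- case (i): a scalar with `a ≠ 0`, `a² ≠ 1` -/
theorem perfect_of_scalar (a : F) (ha0 : a ≠ 0) (ha1 : a * a ≠ 1) :
    commutator (Matrix.symplecticGroup (Fin m) F) = ⊤ := by
  apply perfect_of_ab
  intro u b
  by_cases hu : u = 0
  · rw [hu, tv_zero_vec, map_one]
  have hne : a * a - 1 ≠ 0 := sub_ne_zero.2 ha1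
  set c := b / (a * a - 1) with hc
  have h1 : Abelianization.of (tv u (a * a * c)) = Abelianization.of (tv u c) := by
    rw [← tv_smul]
    exact ab_eq _ _ (smul_ne_zero ha0 hu) hu c
  have h2 : tv u b = tv u (a * a * c) * (tv u c)⁻¹ := by
    rw [tv_inv, tv_mul]
    congr 1
    have : a * a * c + -c = (a * a - 1) * c := by ring
    rw [this, hc, mul_div_cancel₀ _ hne]
  rw [h2, map_mul, map_inv, h1, mul_inv_cancel]

/-- vectors in the standard Lagrangian -/
def IsL (y : Fin m ⊕ Fin m → F) : Prop := ∀ k, y (Sum.inr k) = 0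

lemma isL_single (i : Fin m) (a : F) : IsL (Pi.single (Sum.inl i) a : Fin m ⊕ Fin m → F) := by
  intro k
  simp

lemma isL_add {y z : Fin m ⊕ Fin m → F} (hy : IsL y) (hz : IsL z) : IsL (y + z) := by
  intro k
  rw [Pi.add_apply, hy k, hz k, add_zero]

lemma isL_sub {y z : Fin m ⊕ Fin m → F} (hy : IsL y) (hz : IsL z) : IsL (y - z) := by
  intro k
  rw [Pi.sub_apply, hy k, hz k, sub_zero]

lemma form_isL {y z : Fin m ⊕ Fin m → F} (hy : IsL y) (hz : IsL z) : sympForm m F y z = 0 := by
  rw [sympForm_eq]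
  apply Finset.sum_eq_zero
  intro i _
  rw [hy i, hz i, zero_mul, mul_zero, sub_zero]

/-- product of commuting transvections -/
lemma tv_mulVec_orth (y : Fin m ⊕ Fin m → F) (c : F) (x z : Fin m ⊕ Fin m → F)
    (hz : sympForm m F z y = 0) :
    (tv y c).1 *ᵥ (x + z) = x + (z + (c * sympForm m F x y) • y) := by
  rw [tv_mulVec, sympForm_add_left, hz, add_zero, add_assoc]

/-- case (ii): characteristic not two and `m ≥ 2` -/
theorem perfect_of_odd (h2 : (2 : F) ≠ 0) (hm : 2 ≤ m) :
    commutator (Matrix.symplecticGroup (Fin m) F) = ⊤ := by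
  classical
  apply perfect_of_ab
  set u : Fin m ⊕ Fin m → F := Pi.single (Sum.inl ⟨0, by omega⟩) 1 with hu
  set w : Fin m ⊕ Fin m → F := Pi.single (Sum.inl ⟨1, by omega⟩) 1 with hw
  have huL : IsL u := isL_single _ _
  have hwL : IsL w := isL_single _ _
  have hne : (Sum.inl ⟨0, by omega⟩ : Fin m ⊕ Fin m) ≠ Sum.inl ⟨1, by omega⟩ := by
    intro h
    have := Sum.inl_injective h
    simp [Fin.ext_iff] at this
  have hu0 : u ≠ 0 := by
    intro h
    have := congrFun h (Sum.inl ⟨0, by omega⟩)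
    simp [hu] at this
  have hw0 : w ≠ 0 := by
    intro h
    have := congrFun h (Sum.inl ⟨1, by omega⟩)
    simp [hw] at this
  have hp0 : u + w ≠ 0 := by
    intro h
    have := congrFun h (Sum.inl ⟨0, by omega⟩)
    simp [hu, hw, hne] at this
  have hm0 : u - w ≠ 0 := by
    intro h
    have := congrFun h (Sum.inl ⟨0, by omega⟩)
    simp [hu, hw, hne] at this
  have key : ∀ c : F, tv (u + w) c * tv (u - w) c = tv u (c + c) * tv w (c + c) := by
    intro c
    apply sp_ext
    intro x
    have o1 : sympForm m F ((c * sympForm m F x (u - w)) • (u - w)) (u + w) = 0 := by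
      rw [sympForm_smul_left, form_isL (isL_sub huL hwL) (isL_add huL hwL), mul_zero]
    have o2 : sympForm m F (((c + c) * sympForm m F x w) • w) u = 0 := by
      rw [sympForm_smul_left, form_isL hwL huL, mul_zero]
    rw [mul_mulVec, mul_mulVec, tv_mulVec (u - w), tv_mulVec w, tv_mulVec_orth _ _ _ _ o1,
      tv_mulVec_orth _ _ _ _ o2, sympForm_add_right, sympForm_sub_right]
    module
  intro y b
  by_cases hy : y = 0
  · rw [hy, tv_zero_vec, map_one]
  -- t c := image of tv u c
  have ht : ∀ c : F, Abelianization.of (tv u c) * Abelianization.of (tv u c)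
      = Abelianization.of (tv u (c + c)) := by
    intro c
    rw [← map_mul, tv_mul]
  have h4 : ∀ c : F, Abelianization.of (tv u (c + c)) = 1 := by
    intro c
    have h5 := congrArg (Abelianization.of (G := Matrix.symplecticGroup (Fin m) F)) (key c)
    rw [map_mul, map_mul, ab_eq (u + w) u hp0 hu0, ab_eq (u - w) u hm0 hu0,
      ab_eq w u hw0 hu0, ht c] at h5
    -- h5 : t(2c) = t(2c) * t(2c)
    have h6 := h5
    nth_rewrite 1 [← mul_one (Abelianization.of (tv u (c + c)))] at h6
    exact (mul_left_cancel h6).symm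
  rw [ab_eq y u hy hu0]
  have : b = b / 2 + b / 2 := by field_simp; ring
  rw [this]
  exact h4 _

/-- case (iii): characteristic two and `m ≥ 3` -/
theorem perfect_of_even (h2 : (2 : F) = 0) (hm : 3 ≤ m) :
    commutator (Matrix.symplecticGroup (Fin m) F) = ⊤ := by
  classical
  apply perfect_of_ab
  set u1 : Fin m ⊕ Fin m → F := Pi.single (Sum.inl ⟨0, by omega⟩) 1 with hu1
  set u2 : Fin m ⊕ Fin m → F := Pi.single (Sum.inl ⟨1, by omega⟩) 1 with hu2
  set u3 : Fin m ⊕ Fin m → F := Pi.single (Sum.inl ⟨2, by omega⟩) 1 with hu3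
  have hL1 : IsL u1 := isL_single _ _
  have hL2 : IsL u2 := isL_single _ _
  have hL3 : IsL u3 := isL_single _ _
  have hne01 : (Sum.inl ⟨0, by omega⟩ : Fin m ⊕ Fin m) ≠ Sum.inl ⟨1, by omega⟩ := by
    intro h
    have := Sum.inl_injective h
    simp [Fin.ext_iff] at this
  have hne02 : (Sum.inl ⟨0, by omega⟩ : Fin m ⊕ Fin m) ≠ Sum.inl ⟨2, by omega⟩ := by
    intro h
    have := Sum.inl_injective h
    simp [Fin.ext_iff] at this
  have hne12 : (Sum.inl ⟨1, by omega⟩ : Fin m ⊕ Fin m) ≠ Sum.inl ⟨2, by omega⟩ := by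
    intro h
    have := Sum.inl_injective h
    simp [Fin.ext_iff] at this
  have n1 : u1 ≠ 0 := by
    intro h
    have := congrFun h (Sum.inl ⟨0, by omega⟩)
    simp [hu1] at this
  have n2 : u2 ≠ 0 := by
    intro h
    have := congrFun h (Sum.inl ⟨1, by omega⟩)
    simp [hu2] at this
  have n3 : u3 ≠ 0 := by
    intro h
    have := congrFun h (Sum.inl ⟨2, by omega⟩)
    simp [hu3] at this
  have n12 : u1 + u2 ≠ 0 := by
    intro h
    have := congrFun h (Sum.inl ⟨0, by omega⟩)
    simp [hu1, hu2, hne01] at this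
  have n13 : u1 + u3 ≠ 0 := by
    intro h
    have := congrFun h (Sum.inl ⟨0, by omega⟩)
    simp [hu1, hu3, hne02] at this
  have n23 : u2 + u3 ≠ 0 := by
    intro h
    have := congrFun h (Sum.inl ⟨1, by omega⟩)
    simp [hu2, hu3, hne12] at this
  have n123 : u1 + u2 + u3 ≠ 0 := by
    intro h
    have := congrFun h (Sum.inl ⟨0, by omega⟩)
    simp [hu1, hu2, hu3, hne01, hne02] at this
  have key : ∀ c : F, tv u1 c * (tv u2 c * (tv u3 c * (tv (u1 + u2) c * (tv (u1 + u3) c *
      (tv (u2 + u3) c * tv (u1 + u2 + u3) c))))) = 1 := by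
    intro c
    apply sp_ext
    intro x
    have hzero : x = x + 0 := (add_zero x).symm
    have L12 := isL_add hL1 hL2
    have L13 := isL_add hL1 hL3
    have L23 := isL_add hL2 hL3
    have L123 := isL_add L12 hL3
    simp only [mul_mulVec]
    rw [tv_mulVec (u1 + u2 + u3)]
    have oL : ∀ (z y : Fin m ⊕ Fin m → F), IsL z → IsL y → sympForm m F z y = 0 :=
      fun z y hz hy => form_isL hz hy
    have smulL : ∀ (a : F) (y : Fin m ⊕ Fin m → F), IsL y → IsL (a • y) := by
      intro a y hy k
      rw [Pi.smul_apply, hy k, smul_zero]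
    rw [tv_mulVec_orth (u2 + u3) c x _ (oL _ _ (smulL _ _ L123) L23)]
    rw [tv_mulVec_orth (u1 + u3) c x _ (oL _ _ (isL_add (smulL _ _ L123) (smulL _ _ L23)) L13)]
    rw [tv_mulVec_orth (u1 + u2) c x _
      (oL _ _ (isL_add (isL_add (smulL _ _ L123) (smulL _ _ L23)) (smulL _ _ L13)) L12)]
    rw [tv_mulVec_orth u3 c x _
      (oL _ _ (isL_add (isL_add (isL_add (smulL _ _ L123) (smulL _ _ L23)) (smulL _ _ L13))
        (smulL _ _ L12)) hL3)]
    rw [tv_mulVec_orth u2 c x _
      (oL _ _ (isL_add (isL_add (isL_add (isL_add (smulL _ _ L123) (smulL _ _ L23))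
        (smulL _ _ L13)) (smulL _ _ L12)) (smulL _ _ hL3)) hL2)]
    rw [tv_mulVec_orth u1 c x _
      (oL _ _ (isL_add (isL_add (isL_add (isL_add (isL_add (smulL _ _ L123) (smulL _ _ L23))
        (smulL _ _ L13)) (smulL _ _ L12)) (smulL _ _ hL3)) (smulL _ _ hL2)) hL1)]
    rw [one_mulVec']
    simp only [sympForm_add_right]
    set a1 := sympForm m F x u1
    set a2 := sympForm m F x u2
    set a3 := sympForm m F x u3
    have : (c * (a1 + a2 + a3)) • (u1 + u2 + u3) + (c * (a2 + a3)) • (u2 + u3)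
        + (c * (a1 + a3)) • (u1 + u3) + (c * (a1 + a2)) • (u1 + u2) + (c * a3) • u3
        + (c * a2) • u2 + (c * a1) • u1
        = (2 : F) • ((c * (2 * a1 + a2 + a3)) • u1 + (c * (a1 + 2 * a2 + a3)) • u2
          + (c * (a1 + a2 + 2 * a3)) • u3) := by module
    rw [this, h2, zero_smul, add_zero]
  intro y b
  by_cases hy : y = 0
  · rw [hy, tv_zero_vec, map_one]
  have hsq : Abelianization.of (tv u1 b) * Abelianization.of (tv u1 b) = 1 := by
    rw [← map_mul, tv_mul]
    have : b + b = 0 := by rw [← two_mul, h2, zero_mul]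
    rw [this, tv_zero, map_one]
  have h7 := congrArg (Abelianization.of (G := Matrix.symplecticGroup (Fin m) F)) (key b)
  simp only [map_mul, map_one] at h7
  rw [ab_eq u2 u1 n2 n1, ab_eq u3 u1 n3 n1, ab_eq (u1 + u2) u1 n12 n1, ab_eq (u1 + u3) u1 n13 n1,
    ab_eq (u2 + u3) u1 n23 n1, ab_eq (u1 + u2 + u3) u1 n123 n1] at h7
  rw [ab_eq y u1 hy n1]
  set t := Abelianization.of (tv u1 b) with ht
  -- h7 : t^7 = 1, hsq : t^2 = 1
  calc t = t * (t * t) * (t * t) * (t * t) := by rw [hsq, mul_one, mul_one, mul_one]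
    _ = t * (t * (t * (t * (t * (t * t))))) := by simp only [mul_assoc]
    _ = 1 := h7

/-- Sp_{2m}(q) is perfect except for Sp_2(2), Sp_2(3) and Sp_4(2): stated as m at least 3, or m = 2 and q at least 3, or q at least 4. -/
theorem result {F : Type*} [Field F] [Fintype F] (m : ℕ) (h : 3 ≤ m ∨ (m = 2 ∧ 3 ≤ Fintype.card F) ∨ 4 ≤ Fintype.card F) : commutator (Matrix.symplecticGroup (Fin m) F) = ⊤ := by
  classical
  by_cases h4 : 4 ≤ Fintype.card F
  · -- a scalar with a ≠ 0, a² ≠ 1
    obtain ⟨a, ha⟩ : ∃ a : F, a ∉ ({0, 1, -1} : Finset F) := by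
      by_contra hcon
      push Not at hcon
      have hsub : (Finset.univ : Finset F) ⊆ {0, 1, -1} := fun a _ => hcon a
      have h1 := Finset.card_le_card hsub
      have h2 : ({0, 1, -1} : Finset F).card ≤ 3 := Finset.card_le_three
      rw [Finset.card_univ] at h1
      omega
    simp only [Finset.mem_insert, Finset.mem_singleton, not_or] at ha
    refine perfect_of_scalar a ha.1 ?_
    intro h1
    rcases mul_self_eq_one_iff.1 h1 with h | h
    · exact ha.2.1 h
    · exact ha.2.2 h
  · by_cases h2 : (2 : F) = 0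
    · -- characteristic two: the field has two elements (card < 4 and even)
      have hm3 : 3 ≤ m := by
        rcases h with h | ⟨-, h3⟩ | h
        · exact h
        · exfalso
          -- card F = 3 but 2 = 0
          have hc3 : Fintype.card F = 3 := by omega
          have : ringChar F = 2 := by
            have := ringChar.dvd (R := F) (x := 2) (by exact_mod_cast h2)
            exact ((Nat.dvd_prime Nat.prime_two).1 this).resolve_left
              (fun h1 => by
                have := CharP.ringChar_ne_one (R := F)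
                exact this h1)
          have := FiniteField.even_card_of_char_two this
          omega
        · exact absurd h h4
      exact perfect_of_even h2 hm3
    · have hm2 : 2 ≤ m := by
        rcases h with h | ⟨h, -⟩ | h
        · omega
        · omega
        · exact absurd h h4
      exact perfect_of_odd h2 hm2

end Cfsg.Agent.S0269
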