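import Cfsg.Statements.S0270
import Mathlib
import Cfsg.Agent.Lib.Helper9_SpMax
import Cfsg.Agent.S0269

set_option autoImplicit false
open Cfsg

namespace Cfsg.Agent.S0270

open Matrix Cfsg.Agent.Lib.Helper1_Symp Cfsg.Agent.Helper9Sp Cfsg.Agent.S0269

variable {F : Type*} [Field F] {m : ℕ}

/-- the embedding of the symplectic group in `GL` -/
def toGL : Matrix.symplecticGroup (Fin m) F →* Matrix.GeneralLinearGroup (Fin m ⊕ Fin m) F :=
  (Matrix.symplecticGroup (Fin m) F).subtype.toHomUnits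

lemma toGL_val (g : Matrix.symplecticGroup (Fin m) F) :
    ((toGL g : Matrix.GeneralLinearGroup (Fin m ⊕ Fin m) F) :
      Matrix (Fin m ⊕ Fin m) (Fin m ⊕ Fin m) F) = g.1 := rfl

lemma toGL_injective : Function.Injective (toGL (F := F) (m := m)) := by
  intro g h hgh
  apply Subtype.ext
  have := congrArg (fun x : Matrix.GeneralLinearGroup (Fin m ⊕ Fin m) F =>
    (x : Matrix (Fin m ⊕ Fin m) (Fin m ⊕ Fin m) F)) hgh
  simpa [toGL_val] using this

lemma toGL_mem (g : Matrix.symplecticGroup (Fin m) F) : toGL g ∈ Cfsg.spGL m F := by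
  rw [mem_spGL_iff]
  exact (mem_symplecticGroup_iff_preserves g.1).1 g.2

lemma exists_of_mem_spGL (x : Matrix.GeneralLinearGroup (Fin m ⊕ Fin m) F)
    (hx : x ∈ Cfsg.spGL m F) : ∃ g : Matrix.symplecticGroup (Fin m) F, toGL g = x :=
  ⟨⟨(x : Matrix (Fin m ⊕ Fin m) (Fin m ⊕ Fin m) F),
    (mem_symplecticGroup_iff_preserves _).2 ((mem_spGL_iff x).1 hx)⟩, Units.ext rfl⟩

/-- stabiliser of a subspace in the symplectic group -/
def stabS (W : Submodule F (Fin m ⊕ Fin m → F)) : Subgroup (Matrix.symplecticGroup (Fin m) F) :=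
  (Cfsg.Geo.subspaceStabilizer W).comap toGL

lemma mem_stabS (W : Submodule F (Fin m ⊕ Fin m → F)) (g : Matrix.symplecticGroup (Fin m) F) :
    g ∈ stabS W ↔ ∀ v, v ∈ W ↔ g.1 *ᵥ v ∈ W := Iff.rfl

lemma max_stabS (W : Submodule F (Fin m ⊕ Fin m → F)) (hW0 : W ≠ ⊥)
    (hW : Cfsg.Geo.IsTotallySingularFor (Cfsg.sympForm m F) W)
    (K : Subgroup (Matrix.symplecticGroup (Fin m) F)) (hK : stabS W ≤ K) :
    K = stabS W ∨ K = ⊤ := by
  have hmax := Cfsg.Agent.Helper9SpMax.maximal_stab m W hW0 hW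
  have h1 : Cfsg.Geo.subspaceStabilizer W ⊓ Cfsg.spGL m F ≤ K.map toGL := by
    rintro x ⟨hx1, hx2⟩
    obtain ⟨g, rfl⟩ := exists_of_mem_spGL x hx2
    exact ⟨g, hK hx1, rfl⟩
  have h2 : K.map toGL ≤ Cfsg.spGL m F := by
    rintro _ ⟨g, _, rfl⟩
    exact toGL_mem g
  rcases hmax.2 _ h1 h2 with h | h
  · left
    apply le_antisymm _ hK
    intro g hg
    have : toGL g ∈ K.map toGL := ⟨g, hg, rfl⟩
    rw [h] at this
    exact this.1
  · right
    rw [eq_top_iff]
    intro g _
    have : toGL g ∈ K.map toGL := by rw [h]; exact toGL_mem g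
    obtain ⟨g', hg', hgg'⟩ := this
    have := toGL_injective hgg'
    rwa [← this]

/-- an element fixing all lines is central -/
lemma mem_center_of_lines (g : Matrix.symplecticGroup (Fin m) F)
    (h : ∀ u : Fin m ⊕ Fin m → F, ∃ c : F, g.1 *ᵥ u = c • u) :
    g ∈ Subgroup.center (Matrix.symplecticGroup (Fin m) F) := by
  have h' := LinearMap.exists_eq_smul_id_of_forall_notLinearIndependent
    (f := Matrix.toLin' g.1) (by
      intro v
      obtain ⟨c, hc⟩ := h v
      rw [Matrix.toLin'_apply, hc, LinearIndependent.pair_iff]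
      intro hli
      by_cases hv : v = 0
      · have := hli 1 0 (by simp [hv])
        exact one_ne_zero this.1
      · have := hli c (-1) (by simp)
        have h2 := this.2
        simp at h2)
  obtain ⟨a, ha⟩ := h'
  have ha' : ∀ u, g.1 *ᵥ u = a • u := by
    intro u
    have := congrArg (fun f => f u) ha
    simpa using this
  rw [Subgroup.mem_center_iff]
  intro k
  apply Cfsg.Agent.S0269.sp_ext
  intro v
  rw [mul_mulVec, mul_mulVec, ha', ha', Matrix.mulVec_smul]

/-- the one-parameter group of transvections along `u` -/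
def tvHom (u : Fin m ⊕ Fin m → F) : Multiplicative F →* Matrix.symplecticGroup (Fin m) F where
  toFun c := tv u (Multiplicative.toAdd c)
  map_one' := tv_zero u
  map_mul' _ _ := (tv_mul u _ _).symm

lemma tv_mem_range (u : Fin m ⊕ Fin m → F) (c : F) : tv u c ∈ (tvHom u).range :=
  ⟨Multiplicative.ofAdd c, rfl⟩

/-- Iwasawa's argument -/
theorem normal_eq_top (hperf : commutator (Matrix.symplecticGroup (Fin m) F) = ⊤)
    (N : Subgroup (Matrix.symplecticGroup (Fin m) F)) [hN : N.Normal]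
    (hNc : ¬ N ≤ Subgroup.center (Matrix.symplecticGroup (Fin m) F)) : N = ⊤ := by
  classical
  obtain ⟨g, hgN, hgc⟩ := SetLike.not_le_iff_exists.1 hNc
  obtain ⟨u, hu⟩ : ∃ u : Fin m ⊕ Fin m → F, ∀ c : F, g.1 *ᵥ u ≠ c • u := by
    by_contra hcon
    apply hgc
    apply mem_center_of_lines
    intro v
    by_contra hv
    exact hcon ⟨v, fun c hc => hv ⟨c, hc⟩⟩
  have hu0 : u ≠ 0 := by
    rintro rfl
    exact hu 0 (by simp)
  set W : Submodule F (Fin m ⊕ Fin m → F) := Submodule.span F {u} with hWdef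
  have huW : u ∈ W := Submodule.mem_span_singleton_self u
  have hW0 : W ≠ ⊥ := by
    intro h
    rw [h] at huW
    exact hu0 ((Submodule.mem_bot F).1 huW)
  have hW : Cfsg.Geo.IsTotallySingularFor (Cfsg.sympForm m F) W := by
    intro x hx y hy
    obtain ⟨a, rfl⟩ := Submodule.mem_span_singleton.1 hx
    obtain ⟨b, rfl⟩ := Submodule.mem_span_singleton.1 hy
    rw [sympForm_smul_left, sympForm_smul_right, sympForm_self, mul_zero, mul_zero]
  have hgH : g ∉ stabS W := by
    intro hg
    have := ((mem_stabS W g).1 hg u).1 huW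
    obtain ⟨a, ha⟩ := Submodule.mem_span_singleton.1 this
    exact hu a ha.symm
  have hNH : N ⊔ stabS W = ⊤ := by
    rcases max_stabS W hW0 hW (N ⊔ stabS W) le_sup_right with h | h
    · exfalso
      apply hgH
      rw [← h]
      exact Subgroup.mem_sup_left hgN
    · exact h
  have hNT : N ⊔ (tvHom u).range = ⊤ := by
    rw [eq_top_iff, ← Cfsg.Agent.S0765.result, Subgroup.closure_le]
    rintro A ⟨w, c, hA⟩
    have hA' : A = tv w c := Subtype.ext hA
    rw [hA']
    by_cases hw0 : w = 0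
    · rw [hw0, tv_zero_vec]
      exact Subgroup.one_mem _
    obtain ⟨s, hs⟩ := Cfsg.Agent.S0271.result m u w hu0 hw0
    have hs' : s ∈ N ⊔ stabS W := by rw [hNH]; trivial
    obtain ⟨n, hn, k, hk, rfl⟩ := Subgroup.mem_sup_of_normal_left.1 hs'
    have hku : k.1 *ᵥ u ∈ W := ((mem_stabS W k).1 hk u).1 huW
    obtain ⟨a, ha⟩ := Submodule.mem_span_singleton.1 hku
    have h1 : k * tv u c * k⁻¹ = tv u (a * a * c) := by
      rw [tv_conj, ← ha, tv_smul]
    have h2 : tv w c = n * tv u (a * a * c) * n⁻¹ := by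
      calc tv w c = tv ((n * k).1 *ᵥ u) c := by rw [hs]
        _ = (n * k) * tv u c * (n * k)⁻¹ := (tv_conj _ _ _).symm
        _ = n * (k * tv u c * k⁻¹) * n⁻¹ := by group
        _ = _ := by rw [h1]
    rw [h2]
    set t := tv u (a * a * c) with ht
    have ht' : t ∈ (tvHom u).range := tv_mem_range u _
    have h3 : n * t * n⁻¹ = (n * (t * n⁻¹ * t⁻¹)) * t := by group
    rw [h3]
    exact Subgroup.mul_mem_sup (N.mul_mem hn (hN.conj_mem _ (N.inv_mem hn) t)) ht'
  have hle := Subgroup.Normal.commutator_le_of_self_sup_commutative_eq_top hNT inferInstance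
  rw [hperf] at hle
  exact top_le_iff.1 hle

lemma sp_nontrivial (hm : 1 ≤ m) : ∃ g : Matrix.symplecticGroup (Fin m) F, g ≠ 1 := by
  classical
  set u : Fin m ⊕ Fin m → F := Pi.single (Sum.inl ⟨0, hm⟩) 1 with hu
  have hu0 : u ≠ 0 := by
    intro h
    have := congrFun h (Sum.inl ⟨0, hm⟩)
    simp [hu] at this
  obtain ⟨x, hx⟩ := exists_form_ne_zero u hu0
  have hx' : sympForm m F x u ≠ 0 := by rw [sympForm_swap]; exact neg_ne_zero.2 hx
  refine ⟨tv u 1, fun h => ?_⟩
  have h1 := tv_mulVec u 1 x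
  rw [h, one_mulVec', one_mul] at h1
  have h2 : sympForm m F x u • u = 0 := by
    have := h1.symm
    rwa [add_eq_left] at this
  rcases smul_eq_zero.1 h2 with h3 | h3
  · exact hx' h3
  · exact hu0 h3

/-- PSp_{2m}(q) is simple for m at least 2 and (m, q) other than (2, 2). -/
theorem result {F : Type*} [Field F] [Fintype F] (m : ℕ) (hm : 2 ≤ m) (h : m = 2 → 3 ≤ Fintype.card F) : IsSimpleGroup (Cfsg.PSp m F) := by
  have hperf : commutator (Matrix.symplecticGroup (Fin m) F) = ⊤ := by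
    apply Cfsg.Agent.S0269.result
    by_cases h2 : m = 2
    · right; left; exact ⟨h2, h h2⟩
    · left; omega
  have hcne : Subgroup.center (Matrix.symplecticGroup (Fin m) F) ≠ ⊤ := by
    intro hc
    have h1 := (commutator_eq_bot_iff_center_eq_top _).2 hc
    rw [hperf] at h1
    obtain ⟨g, hg⟩ := sp_nontrivial (F := F) (m := m) (by omega)
    have : g ∈ (⊤ : Subgroup (Matrix.symplecticGroup (Fin m) F)) := trivial
    rw [h1] at this
    exact hg (Subgroup.mem_bot.1 this)
  have : Nontrivial (Cfsg.PSp m F) := by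
    rw [QuotientGroup.nontrivial_iff]
    exact hcne
  refine ⟨fun N' hN' => ?_⟩
  set N := N'.comap (QuotientGroup.mk' (Subgroup.center (Matrix.symplecticGroup (Fin m) F))) with hNdef
  have : N.Normal := hN'.comap _
  have hsurj := QuotientGroup.mk'_surjective (Subgroup.center (Matrix.symplecticGroup (Fin m) F))
  by_cases hNc : N ≤ Subgroup.center (Matrix.symplecticGroup (Fin m) F)
  · left
    rw [eq_bot_iff]
    intro x hx
    obtain ⟨g, rfl⟩ := hsurj x
    have hg : g ∈ N := hx
    rw [Subgroup.mem_bot]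
    exact (QuotientGroup.eq_one_iff g).2 (hNc hg)
  · right
    have := normal_eq_top hperf N hNc
    rw [eq_top_iff]
    intro x _
    obtain ⟨g, rfl⟩ := hsurj x
    have hg : g ∈ N := by rw [this]; trivial
    exact hg

end Cfsg.Agent.S0270
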