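import Cfsg.Statements.S0276
import Mathlib
import Cfsg.Agent.S0243
import Cfsg.Agent.S0261
import Cfsg.Agent.S0262

set_option autoImplicit false
open Cfsg

namespace Cfsg.Agent.S0276

open Matrix

theorem fact_two (k m : ℕ) (hm : ¬ 2 ∣ m) : (2 ^ k * m).factorization 2 = k := by
  have hm0 : m ≠ 0 := by
    rintro rfl
    exact hm (dvd_zero 2)
  rw [Nat.factorization_mul (by positivity) hm0, Nat.Prime.factorization_pow Nat.prime_two]
  simp only [Finsupp.coe_add, Pi.add_apply, Finsupp.single_eq_same]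
  rw [Nat.factorization_eq_zero_of_not_dvd hm, add_zero]

/-- the order of `SL₂(q)` for `q ≡ 3, 5 (mod 8)` is `8` times an odd number. -/
theorem card_SL2_eq (q : ℕ) (hq : q % 8 = 3 ∨ q % 8 = 5) :
    ∃ m : ℕ, ¬ 2 ∣ m ∧ q * ((q - 1) * (q + 1)) = 2 ^ 3 * m := by
  rcases hq with h | h
  · obtain ⟨t, rfl⟩ : ∃ t, q = 8 * t + 3 := ⟨q / 8, by omega⟩
    refine ⟨(8 * t + 3) * ((4 * t + 1) * (2 * t + 1)), ?_, ?_⟩
    · intro h2
      rcases (Nat.Prime.dvd_mul Nat.prime_two).1 h2 with h3 | h3
      · omega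
      · rcases (Nat.Prime.dvd_mul Nat.prime_two).1 h3 with h4 | h4 <;> omega
    · have : 8 * t + 3 - 1 = 8 * t + 2 := by omega
      rw [this]
      ring
  · obtain ⟨t, rfl⟩ : ∃ t, q = 8 * t + 5 := ⟨q / 8, by omega⟩
    refine ⟨(8 * t + 5) * ((2 * t + 1) * (4 * t + 3)), ?_, ?_⟩
    · intro h2
      rcases (Nat.Prime.dvd_mul Nat.prime_two).1 h2 with h3 | h3
      · omega
      · rcases (Nat.Prime.dvd_mul Nat.prime_two).1 h3 with h4 | h4 <;> omega
    · have : 8 * t + 5 - 1 = 8 * t + 4 := by omega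
      rw [this]
      ring

/-- For q = 3 or 5 mod 8 the Sylow 2-subgroups of PSL_2(q) are elementary abelian of order 4. -/
theorem result {F : Type*} [Field F] [Fintype F] {q : ℕ} (hF : Fintype.card F = q) (hq : q % 8 = 3 ∨ q % 8 = 5) (P : Sylow 2 (Matrix.ProjectiveSpecialLinearGroup (Fin 2) F)) : IsKleinFour (P : Subgroup (Matrix.ProjectiveSpecialLinearGroup (Fin 2) F)) := by
  classical
  have hFodd : Odd (Fintype.card F) := by
    rw [hF, Nat.odd_iff]
    omega
  obtain ⟨m, hm, hqm⟩ := card_SL2_eq q hq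
  have hSL : Nat.card (Matrix.SpecialLinearGroup (Fin 2) F) = 2 ^ 3 * m := by
    rw [Cfsg.Agent.S0262.card_SL2, hF, hqm]
  -- the order of `PSL₂(q)`
  have hPSL : Nat.card (Matrix.ProjectiveSpecialLinearGroup (Fin 2) F) = 2 ^ 2 * m := by
    have h := Cfsg.Agent.S0243.result (F := F) hF 2 (le_refl 2)
    simp only [Fin.prod_univ_two, Fin.val_zero, Fin.val_one, pow_zero, pow_one] at h
    have hq2 : 3 ≤ q := by omega
    have hgcd : Nat.gcd 2 (q - 1) = 2 := by
      apply Nat.gcd_eq_left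
      omega
    rw [hgcd] at h
    obtain ⟨c, hc⟩ : ∃ c, q = c + 2 := ⟨q - 2, by omega⟩
    have h1 : q ^ 2 - 1 = (q - 1) * (q + 1) := by
      rw [hc]
      have : (c + 2) ^ 2 - 1 = (c + 1) * (c + 3) := by
        have : (c + 2) ^ 2 = (c + 1) * (c + 3) + 1 := by ring
        omega
      simpa using this
    have h2 : q ^ 2 - q = q * (q - 1) := by
      rw [hc]
      have : (c + 2) ^ 2 - (c + 2) = (c + 2) * (c + 1) := by
        have : (c + 2) ^ 2 = (c + 2) * (c + 1) + (c + 2) := by ring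
        omega
      simpa using this
    rw [h1, h2] at h
    have hpos : 0 < 2 * (q - 1) := by omega
    apply Nat.eq_of_mul_eq_mul_left hpos
    calc 2 * (q - 1) * Nat.card (Matrix.ProjectiveSpecialLinearGroup (Fin 2) F)
        = 2 * ((q - 1) * Nat.card (Matrix.ProjectiveSpecialLinearGroup (Fin 2) F)) := by ring
      _ = (q - 1) * (q + 1) * (q * (q - 1)) := h
      _ = (q - 1) * (q * ((q - 1) * (q + 1))) := by ring
      _ = (q - 1) * (2 ^ 3 * m) := by rw [hqm]
      _ = 2 * (q - 1) * (2 ^ 2 * m) := by ring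
  have hPcard : Nat.card (P : Subgroup (Matrix.ProjectiveSpecialLinearGroup (Fin 2) F)) = 4 := by
    rw [P.card_eq_multiplicity, hPSL, fact_two 2 m hm]
    norm_num
  -- squares vanish
  have hsq : ∀ y : Matrix.ProjectiveSpecialLinearGroup (Fin 2) F, y ^ 4 = 1 → y ^ 2 = 1 := by
    intro y hy
    obtain ⟨x, rfl⟩ := QuotientGroup.mk_surjective y
    have hx4 : x ^ 4 ∈ Subgroup.center (Matrix.SpecialLinearGroup (Fin 2) F) := by
      rw [← QuotientGroup.eq_one_iff]
      exact hy
    have hx8 : x ^ 8 = 1 := by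
      obtain ⟨r, hr, hrx⟩ := Matrix.SpecialLinearGroup.mem_center_iff.1 hx4
      simp only [Fintype.card_fin] at hr
      apply Subtype.ext
      have : x ^ 8 = x ^ 4 * x ^ 4 := by rw [← pow_add]
      rw [this, Matrix.SpecialLinearGroup.coe_mul, ← hrx]
      simp only [Matrix.scalar_apply, Matrix.diagonal_mul_diagonal, Matrix.SpecialLinearGroup.coe_one]
      rw [← pow_two, hr]
      exact Matrix.diagonal_one
    -- `x` lies in a Sylow `2`-subgroup
    have hPx : IsPGroup 2 (Subgroup.zpowers x) := by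
      rintro ⟨g, hg⟩
      obtain ⟨k, rfl⟩ := Subgroup.mem_zpowers_iff.1 hg
      refine ⟨3, Subtype.ext ?_⟩
      show (x ^ k) ^ (2 ^ 3) = 1
      rw [← zpow_natCast, ← _root_.zpow_mul, mul_comm, _root_.zpow_mul, zpow_natCast]
      norm_num
      rw [hx8, _root_.one_zpow]
    obtain ⟨S, hS⟩ := hPx.exists_le_sylow
    have hxS : x ∈ S := hS (Subgroup.mem_zpowers x)
    obtain ⟨k, hk1, ⟨e⟩⟩ := Cfsg.Agent.S0261.result hFodd S
    have hScard : Nat.card (S : Subgroup (Matrix.SpecialLinearGroup (Fin 2) F)) = 8 := by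
      rw [S.card_eq_multiplicity, hSL, fact_two 3 m hm]
      norm_num
    have hk : k = 1 := by
      have h1 : Nat.card (QuaternionGroup (2 ^ k)) = 8 := by
        rw [← Nat.card_congr e.toEquiv, hScard]
      rw [Nat.card_eq_fintype_card, QuaternionGroup.card] at h1
      have h2 : 2 ^ k = 2 ^ 1 := by omega
      exact Nat.pow_right_injective (le_refl 2) h2
    subst hk
    have hx4' : x ^ 4 = 1 := by
      have h1 : (e ⟨x, hxS⟩) ^ 4 = 1 := by
        have h2 := Monoid.pow_exponent_eq_one (e ⟨x, hxS⟩)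
        rw [QuaternionGroup.exponent] at h2
        norm_num at h2
        exact h2
      rw [← map_pow] at h1
      have h3 := e.injective (h1.trans (map_one e).symm)
      exact congrArg Subtype.val h3
    by_cases hx2 : x ^ 2 = 1
    · rw [← QuotientGroup.mk_pow, hx2]
      rfl
    · have hmat := Cfsg.Agent.S0268.result hFodd (x ^ 2) hx2 (by rw [← pow_add]; exact hx4')
      rw [← QuotientGroup.mk_pow]
      show ((x ^ 2 : Matrix.SpecialLinearGroup (Fin 2) F) :
        Matrix.SpecialLinearGroup (Fin 2) F ⧸ Subgroup.center (Matrix.SpecialLinearGroup (Fin 2) F)) = 1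
      rw [QuotientGroup.eq_one_iff, Matrix.SpecialLinearGroup.mem_center_iff]
      refine ⟨-1, by simp, ?_⟩
      rw [hmat]
      ext i j
      fin_cases i <;> fin_cases j <;> simp
  refine ⟨hPcard, ?_⟩
  have hdvd : Monoid.exponent (P : Subgroup (Matrix.ProjectiveSpecialLinearGroup (Fin 2) F)) ∣ 2 := by
    apply Monoid.exponent_dvd_of_forall_pow_eq_one
    intro y
    have hy4 : y ^ 4 = 1 := by
      have := pow_card_eq_one' (G := (P : Subgroup (Matrix.ProjectiveSpecialLinearGroup (Fin 2) F))) (x := y)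
      rw [hPcard] at this
      exact this
    apply Subtype.ext
    have := hsq y.1 (by
      have := congrArg Subtype.val hy4
      simpa using this)
    simpa using this
  rcases (Nat.dvd_prime Nat.prime_two).1 hdvd with h1 | h1
  · exfalso
    rw [Monoid.exp_eq_one_iff] at h1
    have := Nat.card_eq_one_iff_unique.2 ⟨h1, ⟨1⟩⟩
    omega
  · exact h1

end Cfsg.Agent.S0276
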