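import Cfsg.Statements.S0281
import Mathlib
import Cfsg.Agent.Lib.Helper9_SUOrder
import Cfsg.Agent.Lib.Helper9_HermLines
import Cfsg.Agent.S0242

set_option autoImplicit false
open Cfsg

namespace Cfsg.Agent.S0281

open Cfsg.Agent.Helper9HermCount Cfsg.Agent.Helper9GUOrder Cfsg.Agent.Helper9SUOrder
  Cfsg.Agent.Helper9HermLines

variable {F : Type*} [Field F] [Fintype F] [DecidableEq F] {q : ℕ}

lemma neg_pow_q (hF : Fintype.card F = q ^ 2) (a : F) : (-a) ^ q = -(a ^ q) := by
  have h := sub_pow_q hF 0 a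
  have hq := q_ge_two hF
  rw [zero_sub, zero_pow (by omega), zero_sub] at h
  exact h

/-- The fixed field of `x ↦ x^q`. -/
def fixedSubfield (hF : Fintype.card F = q ^ 2) : Subfield F where
  carrier := {x | x ^ q = x}
  mul_mem' := fun {a b} ha hb => by
    simp only [Set.mem_ofPred_eq] at *
    rw [mul_pow, ha, hb]
  one_mem' := one_pow q
  add_mem' := fun {a b} ha hb => by
    simp only [Set.mem_ofPred_eq] at *
    rw [add_pow_q hF, ha, hb]
  zero_mem' := zero_pow (by have := q_ge_two hF; omega)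
  neg_mem' := fun {a} ha => by
    simp only [Set.mem_ofPred_eq] at *
    rw [neg_pow_q hF, ha]
  inv_mem' := fun a ha => by
    simp only [Set.mem_ofPred_eq] at *
    rw [inv_pow, ha]

lemma mem_fixedSubfield (hF : Fintype.card F = q ^ 2) (x : F) :
    x ∈ fixedSubfield hF ↔ x ^ q = x := Iff.rfl

lemma card_fixedSubfield (hF : Fintype.card F = q ^ 2) : Nat.card (fixedSubfield hF) = q := by
  have h1 : Nat.card (fixedSubfield hF) = Nat.card (S F q : Finset F) := by
    apply Nat.card_congr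
    exact Equiv.subtypeEquivRight (fun x => by rw [mem_fixedSubfield, mem_S])
  rw [h1, Nat.card_eq_finsetCard, S_card hF]

lemma fiberT_card (hF : Fintype.card F = q ^ 2) {c : F} (hc : c ∈ S F q) :
    (fiberT q c).card = q := by
  classical
  have hq := q_ge_two hF
  have h1 := Finset.card_eq_sum_card_fiberwise (s := (Finset.univ : Finset F)) (t := S F q)
    (f := fun t => t + t ^ q) (fun t _ => trace_mem_S hF t)
  have h2 : ∀ d ∈ S F q, ((Finset.univ : Finset F).filter (fun t => t + t ^ q = d)) = fiberT q d := by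
    intro d _
    ext t
    simp [mem_fiberT]
  rw [Finset.sum_congr rfl (fun d hd => by rw [h2 d hd]), Finset.card_univ, hF] at h1
  have h3 : ∑ d ∈ S F q, (fiberT q d).card = ∑ d ∈ S F q, q := by
    rw [Finset.sum_const, smul_eq_mul, S_card hF, ← h1]; ring
  exact (Finset.sum_eq_sum_iff_of_le (fun d _ => fiberT_card_le hq d)).1 h3 c hc

lemma exists_eps (hF : Fintype.card F = q ^ 2) : ∃ e : F, e ≠ 0 ∧ e ^ q = -e := by
  have hq := q_ge_two hF
  have h1 := fiberT_card hF (zero_mem_S hF)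
  obtain ⟨e, he, he0⟩ := Finset.exists_mem_ne (s := fiberT q (0 : F)) (by rw [h1]; omega) 0
  refine ⟨e, he0, ?_⟩
  have := mem_fiberT.1 he
  linear_combination this

/-- The twisted form `e (z₀ w₁^q - z₁ w₀^q)`. -/
def H' (q : ℕ) (e : F) (z w : Fin 2 → F) : F := e * (z 0 * (w 1) ^ q - z 1 * (w 0) ^ q)

omit [Fintype F] [DecidableEq F] in
lemma mulVec_two (M : Matrix (Fin 2) (Fin 2) F) (x : Fin 2 → F) :
    M.mulVec x 0 = M 0 0 * x 0 + M 0 1 * x 1 ∧ M.mulVec x 1 = M 1 0 * x 0 + M 1 1 * x 1 := by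
  simp [Matrix.mulVec, dotProduct, Fin.sum_univ_two]

lemma H'_fixed (hF : Fintype.card F = q ^ 2) (e : F) (M : Matrix (Fin 2) (Fin 2) F)
    (hM : ∀ i j, M i j ^ q = M i j) (hdet : M.det = 1) (z w : Fin 2 → F) :
    H' q e (M.mulVec z) (M.mulVec w) = H' q e z w := by
  unfold H'
  rw [(mulVec_two M z).1, (mulVec_two M z).2, (mulVec_two M w).1, (mulVec_two M w).2]
  rw [add_pow_q hF, add_pow_q hF, mul_pow, mul_pow, mul_pow, mul_pow, hM, hM, hM, hM]
  rw [Matrix.det_fin_two] at hdet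
  linear_combination (e * (z 0 * w 1 ^ q - z 1 * w 0 ^ q)) * hdet

theorem result {F K : Type*} [Field F] [Fintype F] [Field K] [Fintype K] {q : ℕ} (hF : Fintype.card F = q ^ 2) (hK : Fintype.card K = q) : Nonempty (Cfsg.SU 2 F q ≃* Matrix.SpecialLinearGroup (Fin 2) K) := by
  classical
  have hq := q_ge_two hF
  have hq0 : q ≠ 0 := by omega
  -- the embedding of K
  haveI : Fintype (fixedSubfield hF) := Fintype.ofFinite _
  have hcardK : Fintype.card K = Fintype.card (fixedSubfield hF) := by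
    rw [hK, ← Nat.card_eq_fintype_card, card_fixedSubfield hF]
  let e0 : K ≃+* fixedSubfield hF := FiniteField.ringEquivOfCardEq hcardK
  let ι : K →+* F := (fixedSubfield hF).subtype.comp (e0 : K →+* fixedSubfield hF)
  have hι : ∀ x : K, (ι x) ^ q = ι x := fun x => (e0 x).2
  have hιinj : Function.Injective ι := RingHom.injective ι
  -- constants
  obtain ⟨e, he0, heq⟩ := exists_eps hF
  have he2S : (e ^ 2)⁻¹ ∈ S F q := by
    rw [mem_S, inv_pow, ← pow_mul, mul_comm, pow_mul, heq]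
    ring_nf
  obtain ⟨s, hs⟩ := trace_surj hF he2S
  obtain ⟨c, hc⟩ := exists_norm_neg_one hF
  have hc0 : c ≠ 0 := by
    rintro rfl
    rw [zero_pow (Nat.succ_ne_zero q)] at hc
    exact (neg_ne_zero.2 one_ne_zero) hc.symm
  have R1 : e ^ 2 * (s + s ^ q) = 1 := by
    rw [hs]; exact mul_inv_cancel₀ (pow_ne_zero 2 he0)
  have R2 : c * c ^ q = -1 := by rw [← pow_succ', hc]
  let P : Matrix (Fin 2) (Fin 2) F := !![e * s, -(c * e * s ^ q); 1, c]
  have hP0 : ∀ x : Fin 2 → F, P.mulVec x 0 = e * s * x 0 + -(c * e * s ^ q) * x 1 :=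
    fun x => (mulVec_two P x).1
  have hP1 : ∀ x : Fin 2 → F, P.mulVec x 1 = 1 * x 0 + c * x 1 := fun x => (mulVec_two P x).2
  have hPH : ∀ x y : Fin 2 → F, H' q e (P.mulVec x) (P.mulVec y) = hermForm 2 F q x y := by
    intro x y
    unfold H' hermForm
    rw [Fin.sum_univ_two, hP0, hP1, hP0, hP1]
    have h1 : (1 * y 0 + c * y 1) ^ q = y 0 ^ q + c ^ q * y 1 ^ q := by
      rw [add_pow_q hF, mul_pow, mul_pow, one_pow, one_mul]
    have h2 : (e * s * y 0 + -(c * e * s ^ q) * y 1) ^ q =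
        -e * s ^ q * y 0 ^ q + c ^ q * e * s * y 1 ^ q := by
      rw [add_pow_q hF, mul_pow, mul_pow, mul_pow, neg_pow_q hF, mul_pow, mul_pow,
        Cfsg.Agent.Lib.Helper1_Herm.pow_q_q hF, heq]
      ring
    rw [h1, h2]
    linear_combination (x 0 * y 0 ^ q - c * c ^ q * x 1 * y 1 ^ q) * R1 - (x 1 * y 1 ^ q) * R2
  have hPdet : P.det = c * e * (s + s ^ q) := by
    rw [Matrix.det_fin_two_of]; ring
  have hPunit : IsUnit P.det := by
    rw [hPdet, isUnit_iff_ne_zero]
    apply mul_ne_zero (mul_ne_zero hc0 he0)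
    intro h
    rw [h, mul_zero] at R1
    exact zero_ne_one R1
  have hPU : IsUnit P := (Matrix.isUnit_iff_isUnit_det P).2 hPunit
  -- the conjugated matrix preserves the form
  have hconj : ∀ M : Matrix (Fin 2) (Fin 2) F, (∀ i j, M i j ^ q = M i j) → M.det = 1 →
      ∀ x y, hermForm 2 F q ((P⁻¹ * M * P).mulVec x) ((P⁻¹ * M * P).mulVec y) = hermForm 2 F q x y := by
    intro M hM hdet x y
    have h1 : P * (P⁻¹ * M * P) = M * P := by
      rw [← Matrix.mul_assoc, ← Matrix.mul_assoc, Matrix.mul_nonsing_inv P hPunit, Matrix.one_mul]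
    rw [← hPH, Matrix.mulVec_mulVec, Matrix.mulVec_mulVec, h1, ← Matrix.mulVec_mulVec,
      ← Matrix.mulVec_mulVec, H'_fixed hF e M hM hdet, hPH]
  -- the homomorphism
  have hfix : ∀ (g : Matrix.SpecialLinearGroup (Fin 2) K) (i j : Fin 2),
      ((g.1.map ι) i j) ^ q = (g.1.map ι) i j := fun g i j => hι _
  have hdetmap : ∀ g : Matrix.SpecialLinearGroup (Fin 2) K, (g.1.map ι).det = 1 := by
    intro g
    have := (RingHom.map_det ι g.1).symm
    rw [RingHom.mapMatrix_apply] at this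
    rw [this, g.2, map_one]
  let Φ : Matrix.SpecialLinearGroup (Fin 2) K → SU 2 F q := fun g =>
    ⟨⟨P⁻¹ * (g.1.map ι) * P, by rw [Matrix.det_conj' hPU, hdetmap g]⟩,
      hconj _ (hfix g) (hdetmap g)⟩
  have hΦval : ∀ g, ((Φ g).1.1 : Matrix (Fin 2) (Fin 2) F) = P⁻¹ * (g.1.map ι) * P := fun g => rfl
  have hΦmul : ∀ g g', Φ (g * g') = Φ g * Φ g' := by
    intro g g'
    apply Subtype.ext
    apply Subtype.ext
    show P⁻¹ * ((g * g').1.map ι) * P = (P⁻¹ * (g.1.map ι) * P) * (P⁻¹ * (g'.1.map ι) * P)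
    have h1 : (g * g').1.map ι = g.1.map ι * g'.1.map ι := by
      rw [Matrix.SpecialLinearGroup.coe_mul, Matrix.map_mul]
    rw [h1]
    have h2 : P * P⁻¹ = 1 := Matrix.mul_nonsing_inv P hPunit
    calc P⁻¹ * (g.1.map ι * g'.1.map ι) * P
        = P⁻¹ * (g.1.map ι) * (P * P⁻¹) * (g'.1.map ι) * P := by
          rw [h2]; simp only [Matrix.mul_assoc, Matrix.mul_one]
      _ = _ := by simp only [Matrix.mul_assoc]
  have hΦinj : Function.Injective Φ := by
    intro g g' h
    have h1 : P⁻¹ * (g.1.map ι) * P = P⁻¹ * (g'.1.map ι) * P := by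
      rw [← hΦval, ← hΦval, h]
    have h2 : P * P⁻¹ = 1 := Matrix.mul_nonsing_inv P hPunit
    have h3 : g.1.map ι = g'.1.map ι := by
      have := congrArg (fun X => P * X * P⁻¹) h1
      simp only [Matrix.mul_assoc, h2, Matrix.mul_one] at this
      simp only [← Matrix.mul_assoc, h2, Matrix.one_mul] at this
      exact this
    apply Subtype.ext
    ext i j
    have := congrFun (congrFun h3 i) j
    simp only [Matrix.map_apply] at this
    exact hιinj this
  -- cardinalities
  have hcardSL : Nat.card (Matrix.SpecialLinearGroup (Fin 2) K) = q * (q ^ 2 - 1) := by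
    have h := Cfsg.Agent.S0242.result hK 2 (by norm_num)
    rw [Fin.prod_univ_two] at h
    simp only [Fin.val_zero, Fin.val_one, pow_zero, pow_one] at h
    have h1 : q ^ 2 - q = q * (q - 1) := by
      rw [Nat.mul_sub, mul_one, pow_two]
    rw [h1] at h
    have h2 : (q - 1) * Nat.card (Matrix.SpecialLinearGroup (Fin 2) K) =
        (q - 1) * (q * (q ^ 2 - 1)) := by rw [h]; ring
    exact Nat.eq_of_mul_eq_mul_left (by omega) h2
  have hcardSU : Nat.card (SU 2 F q) = q * (q ^ 2 - 1) := by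
    have h := card_SU hF (n := 2) (by norm_num)
    rw [card_GU hF 2] at h
    rw [Finset.prod_range_succ, Finset.prod_range_one] at h
    simp only [show 2 * (2 - 1) / 2 = 1 from rfl, pow_one, if_pos (by decide : Even 0),
      if_neg (by decide : ¬ Even 1), zero_add] at h
    have h2 : (q + 1) * Nat.card (SU 2 F q) = (q + 1) * (q * (q ^ 2 - 1)) := by
      rw [h]; ring
    exact Nat.eq_of_mul_eq_mul_left (by omega) h2
  have hΦbij : Function.Bijective Φ := by
    haveI : Finite (SU 2 F q) := inferInstance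
    rw [Nat.bijective_iff_injective_and_card]
    exact ⟨hΦinj, by rw [hcardSL, hcardSU]⟩
  exact ⟨(MulEquiv.ofBijective (MonoidHom.mk' Φ hΦmul) hΦbij).symm⟩

end Cfsg.Agent.S0281
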