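import Cfsg.Statements.S0282
import Mathlib
import Cfsg.Agent.Lib.Helper9_SUCenter
import Cfsg.Agent.S0144

set_option autoImplicit false
open Cfsg

namespace Cfsg.Agent.S0282

/-- PSU_3(2) is a solvable group of order 72. -/
theorem result {F : Type*} [Field F] [Fintype F] (hF : Fintype.card F = 4) : Nat.card (Cfsg.PSU 3 F 2) = 72 ∧ Group.IsSolvable (Cfsg.PSU 3 F 2) := by
  classical
  have hF' : Fintype.card F = 2 ^ 2 := by rw [hF]; norm_num
  have h1 := Cfsg.Agent.Helper9SUCenter.card_center hF' (show 1 ≤ 3 by omega)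
  have h2 := Cfsg.Agent.Helper9SUOrder.card_SU hF' (show 1 ≤ 3 by omega)
  have h3 := Cfsg.Agent.Helper9GUOrder.card_GU hF' 3
  have h4 := Subgroup.card_eq_card_quotient_mul_card_subgroup (Subgroup.center (Cfsg.SU 3 F 2))
  have hcard : Nat.card (Cfsg.PSU 3 F 2) = 72 := by
    have h5 : Nat.card (Cfsg.GU 3 F 2) = 648 := by
      rw [h3]; decide
    rw [h5, h4, h1] at h2
    have h6 : Nat.gcd 3 (2 + 1) = 3 := by decide
    rw [h6] at h2
    show Nat.card (Cfsg.SU 3 F 2 ⧸ Subgroup.center (Cfsg.SU 3 F 2)) = 72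
    omega
  refine ⟨hcard, ?_⟩
  haveI : Finite (Cfsg.PSU 3 F 2) := Nat.finite_of_card_ne_zero (by rw [hcard]; norm_num)
  exact Cfsg.Agent.S0144.result 2 3 3 2 Nat.prime_two Nat.prime_three (by rw [hcard]; norm_num)

end Cfsg.Agent.S0282
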