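import Cfsg.Statements.S0284
import Mathlib
import Cfsg.Agent.Lib.Helper9_HermCount

set_option autoImplicit false
open Cfsg

namespace Cfsg.Agent.S0284

open Cfsg.Agent.Helper9HermCount

/-- The standard Hermitian form on F^n, |F| = q^2, has exactly q^(n-1) (q^n - (-1)^n) vectors of norm 1. -/
theorem result {F : Type*} [Field F] [Fintype F] {q : ℕ} (hF : Fintype.card F = q ^ 2) (n : ℕ) : Nat.card {v : Fin n → F // Cfsg.hermForm n F q v v = 1} = (if Even n then q ^ (n - 1) * (q ^ n - 1) else q ^ (n - 1) * (q ^ n + 1)) := by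
  classical
  have hq := q_ge_two hF
  have h := A_one hF n
  change A F q n 1 = _
  rcases Nat.eq_zero_or_pos n with rfl | hn
  · rw [A_zero, if_neg (one_ne_zero : (1 : F) ≠ 0)]; simp
  obtain ⟨m, rfl⟩ : ∃ m, n = m + 1 := ⟨n - 1, by omega⟩
  have h2 : 1 ≤ q ^ (m + 1) := Nat.one_le_pow _ _ (by omega)
  apply Nat.eq_of_mul_eq_mul_left (show 0 < q by omega)
  rw [Nat.add_sub_cancel]
  rcases Nat.even_or_odd (m + 1) with he | ho
  · rw [if_pos he]
    zify [h2]
    rw [h, he.neg_one_pow]; ring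
  · rw [if_neg (Nat.not_even_iff_odd.2 ho)]
    zify
    rw [h, ho.neg_one_pow]; ring

end Cfsg.Agent.S0284
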