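import Cfsg.Statements.S0285
import Mathlib
import Cfsg.Agent.Lib.Helper9_HermCount

set_option autoImplicit false
open Cfsg

namespace Cfsg.Agent.S0285

open Cfsg.Agent.Helper9HermCount

/-- The standard Hermitian form on F^n, |F| = q^2, has exactly (q^n - (-1)^n)(q^(n-1) + (-1)^n) non-zero isotropic vectors; counting the zero vector too: -/
theorem result {F : Type*} [Field F] [Fintype F] {q : ℕ} (hF : Fintype.card F = q ^ 2) (n : ℕ) : Nat.card {v : Fin n → F // Cfsg.hermForm n F q v v = 0} = (if Even n then (q ^ n - 1) * (q ^ (n - 1) + 1) else (q ^ n + 1) * (q ^ (n - 1) - 1)) + 1 := by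
  classical
  have hq := q_ge_two hF
  have h := A_null hF n
  change A F q n 0 = _
  rcases Nat.eq_zero_or_pos n with rfl | hn
  · rw [A_zero, if_pos rfl]; simp
  obtain ⟨m, rfl⟩ : ∃ m, n = m + 1 := ⟨n - 1, by omega⟩
  have h2 : 1 ≤ q ^ (m + 1) := Nat.one_le_pow _ _ (by omega)
  have h3 : 1 ≤ q ^ m := Nat.one_le_pow _ _ (by omega)
  apply Nat.eq_of_mul_eq_mul_left (show 0 < q by omega)
  rw [Nat.add_sub_cancel]
  rcases Nat.even_or_odd (m + 1) with he | ho
  · rw [if_pos he]
    zify [h2]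
    rw [h, he.neg_one_pow]; ring
  · rw [if_neg (Nat.not_even_iff_odd.2 ho)]
    zify [h3]
    rw [h, ho.neg_one_pow]; ring

end Cfsg.Agent.S0285
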