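import Cfsg.Statements.S0286
import Mathlib
import Cfsg.Agent.Lib.Helper9_OrthCount

set_option autoImplicit false
open Cfsg

namespace Cfsg.Agent.S0286

open Cfsg.Agent.Helper9OrthCount Finset

variable {F : Type*} [Field F]

/-- The odd-dimensional form as a quadratic form. -/
def Qf (m : ℕ) : QuadraticForm F (Unit ⊕ (Fin m ⊕ Fin m) → F) :=
  QuadraticMap.proj (Sum.inl ()) (Sum.inl ()) +
    ∑ i : Fin m, QuadraticMap.proj (Sum.inr (Sum.inl i)) (Sum.inr (Sum.inr i))

lemma Qf_apply (m : ℕ) (x : Unit ⊕ (Fin m ⊕ Fin m) → F) : Qf m x = quadFormOdd m F x := by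
  simp [Qf, quadFormOdd, QuadraticMap.proj_apply, pow_two]

/-- The standard space with one-dimensional core is the odd-dimensional space. -/
def sigma (m : ℕ) : Std F F m ≃ₗ[F] (Unit ⊕ (Fin m ⊕ Fin m) → F) where
  toFun z := Sum.elim (fun _ => z.2.1) (Sum.elim z.1 z.2.2)
  invFun x := (fun i => x (Sum.inr (Sum.inl i)), (x (Sum.inl ()), fun i => x (Sum.inr (Sum.inr i))))
  map_add' z z' := by
    funext a
    rcases a with i | i | i <;> simp
  map_smul' c z := by
    funext a
    rcases a with i | i | i <;> simp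
  left_inv z := rfl
  right_inv x := by
    funext a
    rcases a with i | i | i <;> simp

lemma prod_formula (q m : ℕ) (hq : 1 ≤ q) :
    ∏ k ∈ range m, ((q ^ (k + 1) - 1) * (1 + q ^ k * q) * (q ^ (2 * k) * q)) =
      q ^ (m ^ 2) * ∏ i ∈ range m, (q ^ (2 * (i + 1)) - 1) := by
  induction m with
  | zero => simp
  | succ n ih =>
    rw [Finset.prod_range_succ, ih, Finset.prod_range_succ]
    have h1 : 1 ≤ q ^ (n + 1) := Nat.one_le_pow _ _ hq
    have h2 : (q ^ (n + 1) - 1) * (1 + q ^ n * q) = q ^ (2 * (n + 1)) - 1 := by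
      have h3 : 1 ≤ q ^ (2 * (n + 1)) := Nat.one_le_pow _ _ hq
      zify [h1, h3]
      ring
    rw [h2]
    have h4 : q ^ ((n + 1) ^ 2) = q ^ (n ^ 2) * (q ^ (2 * n) * q) := by
      rw [← pow_succ, ← pow_add]; congr 1; ring
    rw [h4]
    ring

/-- The unit vector of the core. -/
def e0 : Std F F 0 := (0, (1, 0))

lemma std0_eq (z : Std F F 0) : z = z.2.1 • e0 := by
  obtain ⟨x, c, y⟩ := z
  refine Prod.ext (Subsingleton.elim _ _) (Prod.ext ?_ (Subsingleton.elim _ _))
  simp [e0]

lemma stdQ0 (z : Std F F 0) : stdQ (QuadraticMap.sq (R := F) (A := F)) 0 z = z.2.1 * z.2.1 := by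
  simp [stdQ]

/-- Over a finite field of odd order q, the full orthogonal group of the form x_0^2 + sum x_i y_i in dimension 2m+1 has order 2 q^{m^2} (q^2-1)(q^4-1)...(q^{2m}-1). -/
theorem result {F : Type*} [Field F] [Fintype F] {q : ℕ} (hF : Fintype.card F = q) (hodd : Odd q) (m : ℕ) : Nat.card (Cfsg.isometryGroup F (Cfsg.quadFormOdd m F)) = 2 * q ^ (m ^ 2) * ∏ i ∈ Finset.range m, (q ^ (2 * (i + 1)) - 1) := by
  classical
  have hq : 1 ≤ q := hF ▸ Fintype.card_pos
  have h2 : (2 : F) ≠ 0 := by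
    apply Ring.two_ne_zero
    intro hchar
    have := (FiniteField.even_card_iff_char_two (F := F)).1 hchar
    rw [hF] at this
    rcases hodd with ⟨t, ht⟩
    omega
  have h11 : (1 : F) ≠ -1 := by
    intro h
    apply h2
    have : (2 : F) = 1 + 1 := by norm_num
    rw [this]
    nth_rewrite 2 [h]
    ring
  let QC : QuadraticForm F F := QuadraticMap.sq
  have hC : Nondeg QC := by
    intro x hx
    have := hx 1
    simp only [QuadraticMap.polar, QC, QuadraticMap.sq_apply] at this
    have h3 : 2 * x = 0 := by linear_combination this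
    rcases mul_eq_zero.1 h3 with h | h
    · exact absurd h h2
    · exact h
  have hσ : ∀ z, Qf m (sigma m z) = stdQ QC m z := by
    intro z
    rw [Qf_apply]
    have h1 : ∀ i, sigma m z (Sum.inr (Sum.inl i)) = z.1 i := fun i => rfl
    have h2 : ∀ i, sigma m z (Sum.inr (Sum.inr i)) = z.2.2 i := fun i => rfl
    have h3 : sigma m z (Sum.inl ()) = z.2.1 := rfl
    simp [quadFormOdd, stdQ, QC, h1, h2, h3, pow_two, add_comm]
  -- number of core vectors of given norm
  have hNc : ∀ c : F, Nc (stdQ QC 0) c = Nat.card {t : F // t * t = c} := by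
    intro c
    unfold Nc
    apply Nat.card_congr
    refine ⟨fun z => ⟨z.1.2.1, by rw [← stdQ0]; exact z.2⟩, fun t => ⟨t.1 • e0, by
      rw [stdQ0]; simpa [e0] using t.2⟩, ?_, ?_⟩
    · intro z
      apply Subtype.ext
      exact (std0_eq z.1).symm
    · intro t
      apply Subtype.ext
      simp [e0]
  have h0 : Nc (stdQ QC 0) 0 = 1 := by
    rw [hNc, Nat.card_eq_one_iff_unique]
    refine ⟨⟨fun a b => ?_⟩, ⟨⟨0, by simp⟩⟩⟩
    apply Subtype.ext
    have ha := mul_self_eq_zero.1 a.2
    have hb := mul_self_eq_zero.1 b.2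
    rw [ha, hb]
  have hN1 : Nc (stdQ QC 0) 1 = 2 := by
    rw [hNc, Nat.card_eq_fintype_card, Fintype.card_subtype]
    have : (Finset.univ.filter fun t : F => t * t = 1) = {1, -1} := by
      ext t
      simp [mul_self_eq_one_iff]
    rw [this, Finset.card_pair h11]
  have hbase : ∀ (U : Type _) [AddCommGroup U] [Module F U] [Finite U] (QU : QuadraticForm F U),
      Nondeg QU → (∀ c, Nc QU c = Nc (stdQ QC 0) c) → Nat.card (IsoMaps (stdQ QC 0) QU) = 2 := by
    intro U _ _ _ QU _ hsame
    rw [← hN1, ← hsame 1]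
    unfold Nc
    apply Nat.card_congr
    refine ⟨fun T => ⟨T.1 e0, by rw [T.2, stdQ0]; simp [e0]⟩,
      fun u => ⟨(LinearMap.fst F F (Fin 0 → F) ∘ₗ LinearMap.snd F (Fin 0 → F) _).smulRight u.1,
        fun z => ?_⟩, ?_, ?_⟩
    · show QU (z.2.1 • u.1) = _
      rw [QuadraticMap.map_smul, u.2, stdQ0]
      simp
    · intro T
      apply Subtype.ext
      apply LinearMap.ext
      intro z
      show z.2.1 • T.1 e0 = T.1 z
      conv_rhs => rw [std0_eq z, map_smul]
    · intro u
      apply Subtype.ext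
      show (e0 (F := F)).2.1 • u.1 = u.1
      simp [e0]
  have key := card_isometry QC (Qf m) hC m (sigma m) hσ 2 hbase
  have hcongr : Nat.card (Cfsg.isometryGroup F (Cfsg.quadFormOdd m F)) =
      Nat.card {g : Matrix.GeneralLinearGroup (Unit ⊕ (Fin m ⊕ Fin m)) F //
        ∀ x, Qf m ((g : Matrix _ _ F).mulVec x) = Qf m x} := by
    apply Nat.card_congr
    apply Equiv.subtypeEquivRight
    intro g
    constructor
    · intro h x
      rw [Qf_apply, Qf_apply]
      exact h x x
    · intro h x _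
      have := h x
      rw [Qf_apply, Qf_apply] at this
      exact this
  rw [hcongr, key]
  have hterm : ∀ k ∈ range m, (Nc (stdQ QC (k + 1)) 0 - 1) * Nat.card (Std F F k) =
      (q ^ (k + 1) - 1) * (1 + q ^ k * q) * (q ^ (2 * k) * q) := by
    intro k _
    rw [N0_std QC h0, card_std, Nat.card_eq_fintype_card, hF]
    simp
  rw [Finset.prod_congr rfl hterm, prod_formula q m hq]
  ring

end Cfsg.Agent.S0286
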