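import Cfsg.Statements.S0288
import Mathlib
import Cfsg.Agent.Lib.Helper9_MinusBase

set_option autoImplicit false
open Cfsg

namespace Cfsg.Agent.S0288

open Cfsg.Agent.Helper9OrthCount Cfsg.Agent.Helper9AnisoPlane Cfsg.Agent.Helper9MinusBase Finset

variable {F : Type*} [Field F]

/-- The binary core form. -/
def QC (a b : F) : QuadraticForm F (Fin 2 → F) :=
  QuadraticMap.proj 0 0 + a • QuadraticMap.proj 0 1 + b • QuadraticMap.proj 1 1

lemma QC_apply (a b : F) (z : Fin 2 → F) :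
    QC a b z = z 0 * z 0 + a * (z 0 * z 1) + b * (z 1 * z 1) := by
  simp [QC, QuadraticMap.proj_apply]

/-- The minus-type form as a quadratic form. -/
def Qf (M : ℕ) (a b : F) : QuadraticForm F ((Fin M ⊕ Fin M) ⊕ Fin 2 → F) :=
  (∑ i : Fin M, QuadraticMap.proj (Sum.inl (Sum.inl i)) (Sum.inl (Sum.inr i))) +
    (QuadraticMap.proj (Sum.inr 0) (Sum.inr 0) + a • QuadraticMap.proj (Sum.inr 0) (Sum.inr 1) +
      b • QuadraticMap.proj (Sum.inr 1) (Sum.inr 1))

lemma Qf_apply (M : ℕ) (a b : F) (x : (Fin M ⊕ Fin M) ⊕ Fin 2 → F) :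
    Qf M a b x = quadFormMinus M F a b x := by
  simp [Qf, quadFormMinus, QuadraticMap.proj_apply, pow_two, mul_assoc]

/-- The standard space with binary core is the minus-type space. -/
def sigma (M : ℕ) : Std F (Fin 2 → F) M ≃ₗ[F] ((Fin M ⊕ Fin M) ⊕ Fin 2 → F) where
  toFun z := Sum.elim (Sum.elim z.1 z.2.2) z.2.1
  invFun x := (fun i => x (Sum.inl (Sum.inl i)), (fun j => x (Sum.inr j),
    fun i => x (Sum.inl (Sum.inr i))))
  map_add' z z' := by
    funext t
    rcases t with (i | i) | j <;> simp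
  map_smul' c z := by
    funext t
    rcases t with (i | i) | j <;> simp
  left_inv z := rfl
  right_inv x := by
    funext t
    rcases t with (i | i) | j <;> simp

/-- The core as a plane of pairs. -/
def tau : Std F (Fin 2 → F) 0 ≃ₗ[F] F × F where
  toFun z := (z.2.1 0, z.2.1 1)
  invFun p := (0, (![p.1, p.2], 0))
  map_add' z z' := rfl
  map_smul' c z := rfl
  left_inv z := by
    obtain ⟨x, c, y⟩ := z
    refine Prod.ext (Subsingleton.elim _ _) (Prod.ext ?_ (Subsingleton.elim _ _))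
    funext j
    fin_cases j <;> rfl
  right_inv p := rfl

lemma tau_nrm (a b : F) (z : Std F (Fin 2 → F) 0) : nrm a b (tau z) = stdQ (QC a b) 0 z := by
  simp only [nrm, tau, stdQ, QC_apply]
  simp
  ring

lemma prod_formula (q M : ℕ) (hq : 1 ≤ q) :
    2 * (q + 1) * ∏ k ∈ range M, ((q ^ (k + 1) - 1) * (1 + q ^ k * q ^ 2) * (q ^ (2 * k) * q ^ 2)) =
      2 * q ^ ((M + 1) * M) * (q ^ (M + 1) + 1) * ∏ i ∈ range M, (q ^ (2 * (i + 1)) - 1) := by
  induction M with
  | zero => simp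
  | succ n ih =>
    rw [Finset.prod_range_succ, ← mul_assoc, ih, Finset.prod_range_succ]
    have h1 : 1 ≤ q ^ (n + 1) := Nat.one_le_pow _ _ hq
    have h2 : (q ^ (n + 1) + 1) * (q ^ (n + 1) - 1) = q ^ (2 * (n + 1)) - 1 := by
      have h3 : 1 ≤ q ^ (2 * (n + 1)) := Nat.one_le_pow _ _ hq
      zify [h1, h3]
      ring
    rw [← h2]
    have h4 : q ^ ((n + 1 + 1) * (n + 1)) = q ^ ((n + 1) * n) * (q ^ (2 * n) * q ^ 2) := by
      rw [← pow_add, ← pow_add]; congr 1; ring
    rw [h4]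
    ring

/-- Over a finite field with q elements (any characteristic) and m at least 1, the full orthogonal group of a hyperbolic form of rank 2m-2 plus an anisotropic plane has order 2 q^{m(m-1)} (q^m+1)(q^2-1)(q^4-1)...(q^{2m-2}-1). -/
theorem result {F : Type*} [Field F] [Fintype F] {q : ℕ} (hF : Fintype.card F = q) (m : ℕ) (hm : 1 ≤ m) (a b : F) (hab : ∀ z₁ z₂ : F, z₁ ^ 2 + a * z₁ * z₂ + b * z₂ ^ 2 = 0 → z₁ = 0 ∧ z₂ = 0) : Nat.card (Cfsg.isometryGroup F (Cfsg.quadFormMinus (m - 1) F a b)) = 2 * q ^ (m * (m - 1)) * (q ^ m + 1) * ∏ i ∈ Finset.range (m - 1), (q ^ (2 * (i + 1)) - 1) := by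
  classical
  have hq : 1 ≤ q := hF ▸ Fintype.card_pos
  have hani : Aniso a b := hab
  obtain ⟨M, rfl⟩ : ∃ M, m = M + 1 := ⟨m - 1, by omega⟩
  show Nat.card (Cfsg.isometryGroup F (Cfsg.quadFormMinus M F a b)) =
    2 * q ^ ((M + 1) * M) * (q ^ (M + 1) + 1) * ∏ i ∈ Finset.range M, (q ^ (2 * (i + 1)) - 1)
  have hC : Nondeg (QC a b) := by
    intro x hx
    have h1 := hx (Pi.single 0 1)
    have h2 := hx (Pi.single 1 1)
    simp only [QuadraticMap.polar, QC_apply, Pi.add_apply, Pi.single_eq_same] at h1 h2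
    have e01 : (Pi.single (0 : Fin 2) (1 : F) : Fin 2 → F) 1 = 0 := by simp
    have e10 : (Pi.single (1 : Fin 2) (1 : F) : Fin 2 → F) 0 = 0 := by simp
    rw [e01] at h1
    rw [e10] at h2
    have := polar_nondeg hani (x 0, x 1) (by linear_combination h1) (by linear_combination h2)
    funext j
    fin_cases j
    · exact congrArg Prod.fst this
    · exact congrArg Prod.snd this
  have hσ : ∀ z, Qf M a b (sigma M z) = stdQ (QC a b) M z := by
    intro z
    rw [Qf_apply]
    have h1 : ∀ i, sigma M z (Sum.inl (Sum.inl i)) = z.1 i := fun i => rfl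
    have h2 : ∀ i, sigma M z (Sum.inl (Sum.inr i)) = z.2.2 i := fun i => rfl
    have h3 : ∀ j, sigma M z (Sum.inr j) = z.2.1 j := fun j => rfl
    simp only [quadFormMinus, stdQ, QC_apply, h1, h2, h3]
    ring
  have hNc : ∀ c : F, Nc (stdQ (QC a b) 0) c = Nat.card {p : F × F // nrm a b p = c} := fun c =>
    Nc_congr tau.toEquiv (stdQ (QC a b) 0) (nrm a b) (tau_nrm a b) c
  have h0 : Nc (stdQ (QC a b) 0) 0 = 1 := by
    rw [hNc, Nat.card_eq_one_iff_unique]
    refine ⟨⟨fun z z' => ?_⟩, ⟨⟨0, by simp [nrm]⟩⟩⟩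
    apply Subtype.ext
    rw [nrm_eq_zero hani _ z.2, nrm_eq_zero hani _ z'.2]
  have hN1 : Nc (stdQ (QC a b) 0) 1 = Fintype.card F + 1 := by
    rw [hNc, card_nrm_one hani]
  have hbase : ∀ (U : Type _) [AddCommGroup U] [Module F U] [Finite U] (QU : QuadraticForm F U),
      Nondeg QU → (∀ c, Nc QU c = Nc (stdQ (QC a b) 0) c) →
      Nat.card (IsoMaps (stdQ (QC a b) 0) QU) = 2 * (Fintype.card F + 1) := by
    intro U _ _ _ QU _ hsame
    rw [← Nat.card_congr (isoMapsCongr (stdQ (QC a b) 0) (nrm a b) tau (tau_nrm a b) QU)]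
    apply card_iso_aniso QU hani
    · rw [hsame, h0]
    · rw [hsame, hN1]
    · rw [← sum_Nc (⇑QU), Finset.sum_congr rfl (fun c _ => hsame c), sum_Nc, card_std]
      simp [Nat.card_eq_fintype_card]
  have key := card_isometry (QC a b) (Qf M a b) hC M (sigma M) hσ _ hbase
  have hcongr : Nat.card (Cfsg.isometryGroup F (Cfsg.quadFormMinus M F a b)) =
      Nat.card {g : Matrix.GeneralLinearGroup ((Fin M ⊕ Fin M) ⊕ Fin 2) F //
        ∀ x, Qf M a b ((g : Matrix _ _ F).mulVec x) = Qf M a b x} := by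
    apply Nat.card_congr
    apply Equiv.subtypeEquivRight
    intro g
    constructor
    · intro h x
      rw [Qf_apply, Qf_apply]
      exact h x x
    · intro h x _
      have := h x
      rw [Qf_apply, Qf_apply] at this
      exact this
  rw [hcongr, key]
  have hterm : ∀ k ∈ range M, (Nc (stdQ (QC a b) (k + 1)) 0 - 1) * Nat.card (Std F (Fin 2 → F) k) =
      (q ^ (k + 1) - 1) * (1 + q ^ k * q ^ 2) * (q ^ (2 * k) * q ^ 2) := by
    intro k _
    rw [N0_std (QC a b) h0, card_std, Nat.card_eq_fintype_card, Fintype.card_fun, Fintype.card_fin,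
      hF]
    simp
  rw [Finset.prod_congr rfl hterm, hF, prod_formula q M hq]

end Cfsg.Agent.S0288
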