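import Cfsg.Statements.S0289
import Mathlib
import Cfsg.Agent.Lib.Helper9_QuadCount

set_option autoImplicit false
open Cfsg

namespace Cfsg.Agent.S0289

/-- splitting the coordinates -/
def split (m : ℕ) (F : Type*) :
    (Fin m ⊕ Fin m → F) ≃ (Fin m → F) × (PUnit.{1} × (Fin m → F)) where
  toFun v := (fun i => v (.inl i), (PUnit.unit, fun i => v (.inr i)))
  invFun p := Sum.elim p.1 p.2.2
  left_inv v := by
    funext i
    rcases i with i | i <;> rfl
  right_inv p := by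
    rcases p with ⟨x, ⟨u, y⟩⟩
    rfl

/-- The hyperbolic quadratic form on F^(2m), m at least 1, has q^(2m-1) + q^m - q^(m-1) zeros (that is, (q^m - 1)(q^(m-1) + 1) non-zero isotropic vectors). -/
theorem result {F : Type*} [Field F] [Fintype F] {q : ℕ} (hF : Fintype.card F = q) (m : ℕ) (hm : 1 ≤ m) : Nat.card {v : Fin m ⊕ Fin m → F // Cfsg.quadFormPlus m F v = 0} = q ^ (2 * m - 1) + q ^ m - q ^ (m - 1) := by
  classical
  have e : {v : Fin m ⊕ Fin m → F // Cfsg.quadFormPlus m F v = 0} ≃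
      {p : (Fin m → F) × (PUnit.{1} × (Fin m → F)) //
        ∑ i, p.1 i * p.2.2 i + (fun _ : PUnit.{1} => (0 : F)) p.2.1 = 0} :=
    (split m F).subtypeEquiv (fun v => by
      simp only [split, Equiv.coe_fn_mk, add_zero, Cfsg.quadFormPlus])
  rw [Nat.card_congr e]
  have key := Cfsg.Agent.Helper9QuadCount.card_zeros' (F := F) m (fun _ : PUnit.{1} => (0 : F))
  rw [key, Nat.card_eq_fintype_card, hF]
  have hz : Nat.card {w : PUnit.{1} // (fun _ : PUnit.{1} => (0 : F)) w = 0} = 1 := by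
    rw [Nat.card_eq_one_iff_unique]
    exact ⟨⟨fun ⟨a, _⟩ ⟨b, _⟩ => rfl⟩, ⟨⟨PUnit.unit, rfl⟩⟩⟩
  rw [hz, Nat.card_eq_fintype_card, Fintype.card_punit, mul_one, mul_one]
  obtain ⟨k, rfl⟩ : ∃ k, m = k + 1 := ⟨m - 1, by omega⟩
  have hq1 : 1 ≤ q := by rw [← hF]; exact Fintype.card_pos
  have h1 : (q ^ (k + 1) - 1) * q ^ (k + 1 - 1) = q ^ (2 * (k + 1) - 1) - q ^ (k + 1 - 1) := by
    rw [Nat.sub_mul, one_mul, ← pow_add]
    congr 2
    omega
  have h2 : q ^ (k + 1 - 1) ≤ q ^ (2 * (k + 1) - 1) := Nat.pow_le_pow_right hq1 (by omega)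
  rw [h1]
  omega

end Cfsg.Agent.S0289
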