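import Cfsg.Statements.S0290
import Mathlib
import Cfsg.Agent.Lib.Helper9_QuadCount

set_option autoImplicit false
open Cfsg

namespace Cfsg.Agent.S0290

/-- splitting the coordinates -/
def split (m : ℕ) (F : Type*) :
    ((Fin m ⊕ Fin m) ⊕ Fin 2 → F) ≃ (Fin m → F) × ((Fin 2 → F) × (Fin m → F)) where
  toFun v := (fun i => v (.inl (.inl i)), (fun u => v (.inr u), fun i => v (.inl (.inr i))))
  invFun p := Sum.elim (Sum.elim p.1 p.2.2) p.2.1
  left_inv v := by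
    funext i
    rcases i with (i | i) | i <;> rfl
  right_inv p := by
    rcases p with ⟨x, ⟨u, y⟩⟩
    rfl

/-- The minus-type quadratic form on F^(2m), m at least 1, has q^(2m-1) + q^(m-1) - q^m zeros (that is, (q^m + 1)(q^(m-1) - 1) non-zero isotropic vectors). -/
theorem result {F : Type*} [Field F] [Fintype F] {q : ℕ} (hF : Fintype.card F = q) (m : ℕ) (hm : 1 ≤ m) (a b : F) (hab : ∀ z₁ z₂ : F, z₁ ^ 2 + a * z₁ * z₂ + b * z₂ ^ 2 = 0 → z₁ = 0 ∧ z₂ = 0) : Nat.card {v : (Fin (m - 1) ⊕ Fin (m - 1)) ⊕ Fin 2 → F // Cfsg.quadFormMinus (m - 1) F a b v = 0} = q ^ (2 * m - 1) + q ^ (m - 1) - q ^ m := by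
  classical
  have e : {v : (Fin (m - 1) ⊕ Fin (m - 1)) ⊕ Fin 2 → F // Cfsg.quadFormMinus (m - 1) F a b v = 0} ≃
      {p : (Fin (m - 1) → F) × ((Fin 2 → F) × (Fin (m - 1) → F)) //
        ∑ i, p.1 i * p.2.2 i + (fun w : Fin 2 → F => w 0 ^ 2 + a * w 0 * w 1 + b * w 1 ^ 2) p.2.1 = 0} :=
    (split (m - 1) F).subtypeEquiv (fun v => by
      simp only [split, Equiv.coe_fn_mk, Cfsg.quadFormMinus])
  rw [Nat.card_congr e]
  have key := Cfsg.Agent.Helper9QuadCount.card_zeros' (F := F) (m - 1)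
    (fun w : Fin 2 → F => w 0 ^ 2 + a * w 0 * w 1 + b * w 1 ^ 2)
  rw [key, Nat.card_eq_fintype_card, hF]
  have hz : Nat.card {w : Fin 2 → F //
      (fun w : Fin 2 → F => w 0 ^ 2 + a * w 0 * w 1 + b * w 1 ^ 2) w = 0} = 1 := by
    rw [Nat.card_eq_one_iff_unique]
    refine ⟨⟨fun ⟨x, hx⟩ ⟨y, hy⟩ => ?_⟩, ⟨⟨fun _ => 0, by simp⟩⟩⟩
    apply Subtype.ext
    have hx' := hab _ _ hx
    have hy' := hab _ _ hy
    funext u
    fin_cases u
    · exact hx'.1.trans hy'.1.symm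
    · exact hx'.2.trans hy'.2.symm
  have hW : Nat.card (Fin 2 → F) = q ^ 2 := by
    rw [Nat.card_eq_fintype_card, Fintype.card_fun, Fintype.card_fin, hF]
  rw [hz, hW, mul_one]
  have hq1 : 1 ≤ q := by rw [← hF]; exact Fintype.card_pos
  obtain ⟨k, rfl⟩ : ∃ k, m = k + 1 := ⟨m - 1, by omega⟩
  simp only [Nat.add_sub_cancel]
  rcases Nat.eq_zero_or_pos k with rfl | hk
  · simp
  · obtain ⟨j, rfl⟩ : ∃ j, k = j + 1 := ⟨k - 1, by omega⟩
    have h1 : (q ^ (j + 1) - 1) * (q ^ (j + 1 - 1) * q ^ 2)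
        = q ^ (2 * (j + 1 + 1) - 1) - q ^ (j + 1 + 1) := by
      rw [Nat.sub_mul, one_mul, Nat.add_sub_cancel, ← pow_add, ← pow_add]
      congr 2
      omega
    have h2 : q ^ (j + 1 + 1) ≤ q ^ (2 * (j + 1 + 1) - 1) := Nat.pow_le_pow_right hq1 (by omega)
    rw [h1]
    omega

end Cfsg.Agent.S0290
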