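import Cfsg.Statements.S0291
import Mathlib
import Cfsg.Agent.Lib.Helper9_QuadCount

set_option autoImplicit false
open Cfsg

namespace Cfsg.Agent.S0291

/-- splitting the coordinates -/
def split (m : ℕ) (F : Type*) :
    (Unit ⊕ (Fin m ⊕ Fin m) → F) ≃ (Fin m → F) × ((Unit → F) × (Fin m → F)) where
  toFun v := (fun i => v (.inr (.inl i)), (fun u => v (.inl u), fun i => v (.inr (.inr i))))
  invFun p := Sum.elim p.2.1 (Sum.elim p.1 p.2.2)
  left_inv v := by
    funext i
    rcases i with i | i | i <;> rfl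
  right_inv p := by
    rcases p with ⟨x, ⟨u, y⟩⟩
    rfl

/-- For q odd, the form x_0^2 + sum_{i<m} x_i y_i on F^(2m+1) has exactly q^(2m) zeros. -/
theorem result {F : Type*} [Field F] [Fintype F] {q : ℕ} (hF : Fintype.card F = q) (hodd : Odd q) (m : ℕ) : Nat.card {v : Unit ⊕ (Fin m ⊕ Fin m) → F // Cfsg.quadFormOdd m F v = 0} = q ^ (2 * m) := by
  classical
  have e : {v : Unit ⊕ (Fin m ⊕ Fin m) → F // Cfsg.quadFormOdd m F v = 0} ≃
      {p : (Fin m → F) × ((Unit → F) × (Fin m → F)) //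
        ∑ i, p.1 i * p.2.2 i + (fun w : Unit → F => w () ^ 2) p.2.1 = 0} :=
    (split m F).subtypeEquiv (fun v => by
      simp only [split, Equiv.coe_fn_mk, Cfsg.quadFormOdd]
      rw [add_comm])
  rw [Nat.card_congr e]
  have key := Cfsg.Agent.Helper9QuadCount.card_zeros' (F := F) m (fun w : Unit → F => w () ^ 2)
  rw [key, Nat.card_eq_fintype_card, hF]
  have hz : Nat.card {w : Unit → F // (fun w : Unit → F => w () ^ 2) w = 0} = 1 := by
    rw [Nat.card_eq_one_iff_unique]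
    refine ⟨⟨fun ⟨a, ha⟩ ⟨b, hb⟩ => ?_⟩, ⟨⟨fun _ => 0, by simp⟩⟩⟩
    apply Subtype.ext
    funext u
    have ha' : a () = 0 := by simpa using ha
    have hb' : b () = 0 := by simpa using hb
    cases u
    exact ha'.trans hb'.symm
  have hW : Nat.card (Unit → F) = q := by
    rw [Nat.card_eq_fintype_card, Fintype.card_fun, Fintype.card_unit, pow_one, hF]
  rw [hz, hW, mul_one]
  have hq1 : 1 ≤ q := by rw [← hF]; exact Fintype.card_pos
  rcases Nat.eq_zero_or_pos m with rfl | hm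
  · simp
  · obtain ⟨k, rfl⟩ : ∃ k, m = k + 1 := ⟨m - 1, by omega⟩
    have h1 : (q ^ (k + 1) - 1) * (q ^ (k + 1 - 1) * q) = q ^ (2 * (k + 1)) - q ^ (k + 1) := by
      rw [Nat.sub_mul, one_mul, Nat.add_sub_cancel, ← pow_succ, ← pow_add]
      congr 2
      omega
    have h2 : q ^ (k + 1) ≤ q ^ (2 * (k + 1)) := Nat.pow_le_pow_right hq1 (by omega)
    rw [h1]
    omega

end Cfsg.Agent.S0291
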