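import Cfsg.Statements.S0304
import Mathlib
import Cfsg.Agent.Lib.Helper9_SpStab

set_option autoImplicit false
open Cfsg

namespace Cfsg.Agent.S0304

open Matrix Cfsg.Agent.Lib.Helper1_Symp Cfsg.Agent.Helper9SpStab

variable {F : Type*} [Field F] {m : ℕ}

/-- Index type of the odd-dimensional space. -/
abbrev Io (m : ℕ) : Type := Unit ⊕ (Fin m ⊕ Fin m)

/-- Index type of the symplectic space. -/
abbrev Ka (m : ℕ) : Type := Fin m ⊕ Fin m

/-- A vector from its first coordinate and the rest. -/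
def vec (x₀ : F) (w : Ka m → F) : Io m → F := Sum.elim (fun _ => x₀) w

/-- The hyperbolic part of the form. -/
def q0 (w : Ka m → F) : F := ∑ i, w (Sum.inl i) * w (Sum.inr i)

lemma Q_vec (x₀ : F) (w : Ka m → F) : quadFormOdd m F (vec x₀ w) = x₀ ^ 2 + q0 w := by
  simp [quadFormOdd, vec, q0]

lemma vec_eta (v : Io m → F) : v = vec (v (Sum.inl ())) (fun t => v (Sum.inr t)) := by
  funext t
  rcases t with u | t
  · rfl
  · rfl

lemma vec_inj {x₀ y₀ : F} {w w' : Ka m → F} (h : vec x₀ w = vec y₀ w') : x₀ = y₀ ∧ w = w' := by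
  constructor
  · exact congrFun h (Sum.inl ())
  · funext t
    exact congrFun h (Sum.inr t)

lemma vec_add (x₀ y₀ : F) (w w' : Ka m → F) : vec x₀ w + vec y₀ w' = vec (x₀ + y₀) (w + w') := by
  funext t
  rcases t with u | t <;> rfl

lemma q0_add [CharP F 2] (w w' : Ka m → F) : q0 (w + w') = q0 w + q0 w' + sympForm m F w w' := by
  have h2 : (2 : F) = 0 := CharTwo.two_eq_zero
  rw [sympForm_eq]
  unfold q0
  rw [← Finset.sum_add_distrib, ← Finset.sum_add_distrib]
  apply Finset.sum_congr rfl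
  intro i _
  simp only [Pi.add_apply]
  linear_combination (w (Sum.inl i) * w' (Sum.inr i)) * h2

lemma q0_smul (c : F) (w : Ka m → F) : q0 (c • w) = c ^ 2 * q0 w := by
  unfold q0
  rw [Finset.mul_sum]
  apply Finset.sum_congr rfl
  intro i _
  simp only [Pi.smul_apply, smul_eq_mul]
  ring

lemma sq_inj [CharP F 2] {x y : F} (h : x ^ 2 = y ^ 2) : x = y := by
  have h2 : (2 : F) = 0 := CharTwo.two_eq_zero
  have : (x - y) ^ 2 = 0 := by linear_combination h - (x * y - y ^ 2) * h2
  exact sub_eq_zero.1 (pow_eq_zero_iff (two_ne_zero) |>.1 this)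

/-- Matrices fixing the radical vector. -/
def IsSpecial (M : Matrix (Io m) (Io m) F) : Prop := M.toBlocks₁₁ = 1 ∧ M.toBlocks₂₁ = 0

lemma special_mulVec (M : Matrix (Io m) (Io m) F) (hM : IsSpecial M) (x₀ : F) (w : Ka m → F) :
    M *ᵥ vec x₀ w = vec (x₀ + (M.toBlocks₁₂ *ᵥ w) ()) (M.toBlocks₂₂ *ᵥ w) := by
  conv_lhs => rw [← Matrix.fromBlocks_toBlocks M, Matrix.fromBlocks_mulVec, hM.1, hM.2]
  funext t
  rcases t with u | t
  · simp [vec, Matrix.mulVec, dotProduct]
  · simp [vec]

lemma mem_iso (g : Matrix.GeneralLinearGroup (Io m) F) :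
    g ∈ isometryGroup F (quadFormOdd m F) ↔
      ∀ v, quadFormOdd m F ((g : Matrix (Io m) (Io m) F) *ᵥ v) = quadFormOdd m F v :=
  ⟨fun h v => h v v, fun h v _ => h v⟩

lemma inv_mulVec_cancel (g : Matrix.GeneralLinearGroup (Io m) F) (v : Io m → F) :
    (g : Matrix (Io m) (Io m) F) *ᵥ (((g⁻¹ : Matrix.GeneralLinearGroup (Io m) F) : Matrix (Io m) (Io m) F) *ᵥ v) = v := by
  rw [Matrix.mulVec_mulVec, ← Units.val_mul, mul_inv_cancel, Units.val_one, Matrix.one_mulVec]

/-- The polar form of the quadratic form. -/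
lemma polar_Q [CharP F 2] (x₀ y₀ : F) (w w' : Ka m → F) :
    quadFormOdd m F (vec x₀ w + vec y₀ w') - quadFormOdd m F (vec x₀ w) -
      quadFormOdd m F (vec y₀ w') = sympForm m F w w' := by
  have h2 : (2 : F) = 0 := CharTwo.two_eq_zero
  rw [vec_add, Q_vec, Q_vec, Q_vec, q0_add]
  linear_combination (x₀ * y₀) * h2

/-- Isometries fix the radical vector. -/
lemma iso_special [CharP F 2] (g : Matrix.GeneralLinearGroup (Io m) F)
    (hg : g ∈ isometryGroup F (quadFormOdd m F)) : IsSpecial (g : Matrix (Io m) (Io m) F) := by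
  classical
  have hpres := (mem_iso g).1 hg
  set M : Matrix (Io m) (Io m) F := (g : Matrix (Io m) (Io m) F) with hM
  obtain ⟨c, hc⟩ : ∃ c, c = (M *ᵥ vec 1 0) (Sum.inl ()) := ⟨_, rfl⟩
  obtain ⟨z, hz⟩ : ∃ z : Ka m → F, z = fun t => (M *ᵥ vec 1 0) (Sum.inr t) := ⟨_, rfl⟩
  have hcz : M *ᵥ vec 1 0 = vec c z := by
    rw [hc, hz]; exact vec_eta _
  -- the image of the radical vector is radical
  have hz0 : z = 0 := by
    apply symp_nondeg
    intro w''
    obtain ⟨u, hu⟩ : ∃ u, M *ᵥ u = vec 0 w'' := ⟨_, inv_mulVec_cancel g _⟩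
    have h1 := polar_Q c 0 z w''
    rw [← hcz, ← hu, ← Matrix.mulVec_add, hpres, hpres, hpres] at h1
    rw [← h1, vec_eta u, polar_Q, sympForm_zero_left]
  have hc1 : c = 1 := by
    have h1 := hpres (vec 1 0)
    rw [hcz, hz0, Q_vec, Q_vec] at h1
    have h3 : q0 (0 : Ka m → F) = 0 := by simp [q0]
    rw [h3] at h1
    apply sq_inj
    linear_combination h1
  have hcol : ∀ i, M i (Sum.inl ()) = (vec (1 : F) (0 : Ka m → F)) i := by
    intro i
    have h1 : vec (1 : F) (0 : Ka m → F) = Pi.single (Sum.inl ()) 1 := by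
      funext t
      rcases t with u | t
      · simp [vec]
      · simp [vec]
    have h2 := congrFun hcz i
    rw [h1, Matrix.mulVec_single_one] at h2
    have h2' : M i (Sum.inl ()) = vec c z i := h2
    rw [h2', hc1, hz0]
  constructor
  · ext i j
    simp only [Matrix.toBlocks₁₁, Matrix.of_apply]
    rw [hcol]
    simp [vec]
  · ext i j
    simp only [Matrix.toBlocks₂₁, Matrix.of_apply]
    rw [hcol]
    simp [vec]

/-- The row functional determines the isometry condition. -/
lemma iso_row [CharP F 2] (M : Matrix (Io m) (Io m) F) (hM : IsSpecial M)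
    (hpres : ∀ v, quadFormOdd m F (M *ᵥ v) = quadFormOdd m F v) (w : Ka m → F) :
    ((M.toBlocks₁₂ *ᵥ w) ()) ^ 2 = q0 w + q0 (M.toBlocks₂₂ *ᵥ w) := by
  have h2 : (2 : F) = 0 := CharTwo.two_eq_zero
  have h1 := hpres (vec 0 w)
  rw [special_mulVec M hM, Q_vec, Q_vec] at h1
  linear_combination h1 - (q0 (M.toBlocks₂₂ *ᵥ w)) * h2

lemma iso_symp [CharP F 2] (M : Matrix (Io m) (Io m) F) (hM : IsSpecial M)
    (hpres : ∀ v, quadFormOdd m F (M *ᵥ v) = quadFormOdd m F v) :
    M.toBlocks₂₂ ∈ Matrix.symplecticGroup (Fin m) F := by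
  rw [mem_symplecticGroup_iff_preserves]
  intro w w'
  have h2 : (2 : F) = 0 := CharTwo.two_eq_zero
  have e1 := iso_row M hM hpres w
  have e2 := iso_row M hM hpres w'
  have e3 := iso_row M hM hpres (w + w')
  rw [Matrix.mulVec_add, Matrix.mulVec_add, q0_add, q0_add, Pi.add_apply] at e3
  linear_combination (-1 : F) * e3 + e1 + e2 +
    ((M.toBlocks₁₂ *ᵥ w) () * (M.toBlocks₁₂ *ᵥ w') () - sympForm m F w w') * h2

/-- The symplectic matrix attached to an isometry. -/
def Psi [CharP F 2] (g : isometryGroup F (quadFormOdd m F)) : Matrix.symplecticGroup (Fin m) F :=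
  ⟨((g.1 : Matrix.GeneralLinearGroup (Io m) F) : Matrix (Io m) (Io m) F).toBlocks₂₂,
    iso_symp _ (iso_special g.1 g.2) ((mem_iso g.1).1 g.2)⟩

/-- In characteristic 2, O_{2m+1}(q) is isomorphic to Sp_{2m}(q). -/
theorem result {F : Type*} [Field F] [Fintype F] [CharP F 2] (m : ℕ) : Nonempty (Cfsg.isometryGroup F (Cfsg.quadFormOdd m F) ≃* Matrix.symplecticGroup (Fin m) F) := by
  classical
  have h2 : (2 : F) = 0 := CharTwo.two_eq_zero
  haveI : Fact (Nat.Prime 2) := ⟨Nat.prime_two⟩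
  let G := isometryGroup F (quadFormOdd m F)
  let Mat : G → Matrix (Io m) (Io m) F := fun g => ((g.1 : Matrix.GeneralLinearGroup (Io m) F) : Matrix (Io m) (Io m) F)
  have hspec : ∀ g : G, IsSpecial (Mat g) := fun g => iso_special g.1 g.2
  have hpres : ∀ g : G, ∀ v, quadFormOdd m F (Mat g *ᵥ v) = quadFormOdd m F v := fun g =>
    (mem_iso g.1).1 g.2
  have hΨmul : ∀ g g' : G, Psi (g * g') = Psi g * Psi g' := by
    intro g g'
    apply Subtype.ext
    show (Mat g * Mat g').toBlocks₂₂ = (Mat g).toBlocks₂₂ * (Mat g').toBlocks₂₂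
    conv_lhs => rw [← Matrix.fromBlocks_toBlocks (Mat g), ← Matrix.fromBlocks_toBlocks (Mat g'),
      Matrix.fromBlocks_multiply, Matrix.toBlocks_fromBlocks₂₂, (hspec g).2]
    simp
  have hΨinj : Function.Injective (Psi (F := F) (m := m)) := by
    intro g g' h
    have hA : (Mat g).toBlocks₂₂ = (Mat g').toBlocks₂₂ := congrArg Subtype.val h
    have hrow : ∀ w, ((Mat g).toBlocks₁₂ *ᵥ w) () = ((Mat g').toBlocks₁₂ *ᵥ w) () := by
      intro w
      apply sq_inj
      rw [iso_row _ (hspec g) (hpres g), iso_row _ (hspec g') (hpres g'), hA]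
    have h12 : (Mat g).toBlocks₁₂ = (Mat g').toBlocks₁₂ := by
      ext u t
      have := hrow (Pi.single t 1)
      rw [Matrix.mulVec_single_one, Matrix.mulVec_single_one] at this
      exact this
    have hM : Mat g = Mat g' := by
      rw [← Matrix.fromBlocks_toBlocks (Mat g), ← Matrix.fromBlocks_toBlocks (Mat g'),
        (hspec g).1, (hspec g).2, (hspec g').1, (hspec g').2, h12, hA]
    exact Subtype.ext (Units.ext hM)
  have hΨsurj : Function.Surjective (Psi (F := F) (m := m)) := by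
    rintro ⟨A, hAmem⟩
    have hA := (mem_symplecticGroup_iff_preserves A).1 hAmem
    obtain ⟨r, hr⟩ : ∃ r : F → F, ∀ x, r x ^ 2 = x := by
      refine ⟨fun x => (frobeniusEquiv F 2).symm x, fun x => ?_⟩
      have := frobenius_apply_frobeniusEquiv_symm F 2 x
      rwa [frobenius_def] at this
    let f : (Ka m → F) → F := fun w => q0 w + q0 (A *ᵥ w)
    let μ : (Ka m → F) → F := fun w => r (f w)
    have hμ : ∀ w, μ w ^ 2 = q0 w + q0 (A *ᵥ w) := fun w => hr _
    have hμadd : ∀ w w', μ (w + w') = μ w + μ w' := by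
      intro w w'
      apply sq_inj
      have e1 := hμ w
      have e2 := hμ w'
      have e3 := hμ (w + w')
      rw [Matrix.mulVec_add, q0_add, q0_add, hA] at e3
      linear_combination e3 - e1 - e2 + (sympForm m F w w' - μ w * μ w') * h2
    have hμsmul : ∀ (c : F) w, μ (c • w) = c * μ w := by
      intro c w
      apply sq_inj
      have e1 := hμ w
      have e3 := hμ (c • w)
      rw [Matrix.mulVec_smul, q0_smul, q0_smul] at e3
      linear_combination e3 - c ^ 2 * e1
    let μL : (Ka m → F) →ₗ[F] F :=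
      { toFun := μ
        map_add' := hμadd
        map_smul' := fun c w => by rw [hμsmul]; rfl }
    let B : Matrix Unit (Ka m) F := Matrix.of (fun _ t => μ (Pi.single t 1))
    have hB : ∀ w, (B *ᵥ w) () = μ w := by
      intro w
      have h1 := LinearMap.pi_apply_eq_sum_univ μL w
      have h3 : ∀ i : Ka m, (fun j => if i = j then (1 : F) else 0) = Pi.single i 1 := by
        intro i
        funext j
        simp [Pi.single_apply, eq_comm]
      simp only [h3] at h1
      show (B *ᵥ w) () = μL w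
      rw [h1]
      simp only [Matrix.mulVec, dotProduct, B, Matrix.of_apply, smul_eq_mul]
      apply Finset.sum_congr rfl
      intro t _
      rw [mul_comm]; rfl
    let M : Matrix (Io m) (Io m) F :=
      Matrix.fromBlocks (1 : Matrix Unit Unit F) B (0 : Matrix (Ka m) Unit F) A
    have hMspec : IsSpecial M := ⟨rfl, rfl⟩
    have hMvec : ∀ x₀ w, M *ᵥ vec x₀ w = vec (x₀ + μ w) (A *ᵥ w) := by
      intro x₀ w
      rw [special_mulVec M hMspec]
      show vec (x₀ + (B *ᵥ w) ()) (A *ᵥ w) = _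
      rw [hB]
    have hMpres : ∀ v, quadFormOdd m F (M *ᵥ v) = quadFormOdd m F v := by
      intro v
      rw [vec_eta v, hMvec, Q_vec, Q_vec]
      have e1 := hμ (fun t => v (Sum.inr t))
      linear_combination e1 + (v (Sum.inl ()) * μ (fun t => v (Sum.inr t)) +
        q0 (A *ᵥ fun t => v (Sum.inr t))) * h2
    have hunit : IsUnit M := by
      rw [Matrix.isUnit_iff_isUnit_det]
      show IsUnit (Matrix.fromBlocks (1 : Matrix Unit Unit F) B (0 : Matrix (Ka m) Unit F) A).det
      rw [Matrix.det_fromBlocks_zero₂₁, Matrix.det_one, one_mul]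
      exact SymplecticGroup.symplectic_det hAmem
    refine ⟨⟨hunit.unit, (mem_iso _).2 (by rw [IsUnit.unit_spec]; exact hMpres)⟩, ?_⟩
    apply Subtype.ext
    show ((hunit.unit : Matrix.GeneralLinearGroup (Io m) F) : Matrix (Io m) (Io m) F).toBlocks₂₂ = A
    rw [IsUnit.unit_spec]
    rfl
  exact ⟨MulEquiv.ofBijective (MonoidHom.mk' Psi hΨmul) ⟨hΨinj, hΨsurj⟩⟩

end Cfsg.Agent.S0304
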