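import Cfsg.Statements.S0305
import Mathlib

set_option autoImplicit false
open Cfsg

namespace Cfsg.Agent.S0305

open Matrix

variable {F : Type*} [Field F]

/-- 2×2 matrices over the index type `Fin 1 ⊕ Fin 1`. -/
def M (a b c d : F) : Matrix (Fin 1 ⊕ Fin 1) (Fin 1 ⊕ Fin 1) F :=
  Matrix.of fun i j => Sum.elim (fun _ => Sum.elim (fun _ => a) (fun _ => b) j)
    (fun _ => Sum.elim (fun _ => c) (fun _ => d) j) i

lemma M_mul (a b c d a' b' c' d' : F) :
    M a b c d * M a' b' c' d' = M (a * a' + b * c') (a * b' + b * d') (c * a' + d * c') (c * b' + d * d') := by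
  ext i j
  rcases i with i | i <;> rcases j with j | j <;>
    simp [M, Matrix.mul_apply, Fintype.sum_sum_type]

lemma M_one : M (1 : F) 0 0 1 = 1 := by
  ext i j
  rcases i with i | i <;> rcases j with j | j <;>
    simp [M, Matrix.one_apply, Subsingleton.elim i j]

lemma eq_M (N : Matrix (Fin 1 ⊕ Fin 1) (Fin 1 ⊕ Fin 1) F) :
    N = M (N (Sum.inl 0) (Sum.inl 0)) (N (Sum.inl 0) (Sum.inr 0)) (N (Sum.inr 0) (Sum.inl 0))
      (N (Sum.inr 0) (Sum.inr 0)) := by
  ext i j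
  rcases i with i | i <;> rcases j with j | j <;>
    simp [M, Subsingleton.elim i 0, Subsingleton.elim j 0]

lemma Q_M (a b c d : F) (u : Fin 1 ⊕ Fin 1 → F) :
    quadFormPlus 1 F ((M a b c d).mulVec u) =
      (a * u (Sum.inl 0) + b * u (Sum.inr 0)) * (c * u (Sum.inl 0) + d * u (Sum.inr 0)) := by
  simp [quadFormPlus, M, Matrix.mulVec, dotProduct, Fintype.sum_sum_type]

lemma Q_apply (u : Fin 1 ⊕ Fin 1 → F) : quadFormPlus 1 F u = u (Sum.inl 0) * u (Sum.inr 0) := by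
  simp [quadFormPlus]

lemma mem_iso (g : Matrix.GeneralLinearGroup (Fin 1 ⊕ Fin 1) F) :
    g ∈ isometryGroup F (quadFormPlus 1 F) ↔
      ∀ u, quadFormPlus 1 F ((g : Matrix (Fin 1 ⊕ Fin 1) (Fin 1 ⊕ Fin 1) F).mulVec u) =
        quadFormPlus 1 F u :=
  ⟨fun h u => h u u, fun h u _ => h u⟩

/-- Diagonal isometries. -/
def gD (a : Fˣ) : isometryGroup F (quadFormPlus 1 F) :=
  ⟨⟨M (a : F) 0 0 ((a⁻¹ : Fˣ) : F), M ((a⁻¹ : Fˣ) : F) 0 0 (a : F), by
      rw [M_mul]; simp [M_one], by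
      rw [M_mul]; simp [M_one]⟩, by
    rw [mem_iso]
    intro u
    show quadFormPlus 1 F ((M (a : F) 0 0 ((a⁻¹ : Fˣ) : F)).mulVec u) = _
    rw [Q_M, Q_apply]
    have : (a : F) * ((a⁻¹ : Fˣ) : F) = 1 := by simp
    linear_combination (u (Sum.inl 0) * u (Sum.inr 0)) * this⟩

/-- Anti-diagonal isometries. -/
def gA (b : Fˣ) : isometryGroup F (quadFormPlus 1 F) :=
  ⟨⟨M 0 (b : F) ((b⁻¹ : Fˣ) : F) 0, M 0 (b : F) ((b⁻¹ : Fˣ) : F) 0, by
      rw [M_mul]; simp [M_one], by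
      rw [M_mul]; simp [M_one]⟩, by
    rw [mem_iso]
    intro u
    show quadFormPlus 1 F ((M 0 (b : F) ((b⁻¹ : Fˣ) : F) 0).mulVec u) = _
    rw [Q_M, Q_apply]
    have : (b : F) * ((b⁻¹ : Fˣ) : F) = 1 := by simp
    linear_combination (u (Sum.inl 0) * u (Sum.inr 0)) * this⟩

lemma gD_val (a : Fˣ) : ((gD a).1 : Matrix (Fin 1 ⊕ Fin 1) (Fin 1 ⊕ Fin 1) F) =
    M (a : F) 0 0 ((a⁻¹ : Fˣ) : F) := rfl

lemma gA_val (b : Fˣ) : ((gA b).1 : Matrix (Fin 1 ⊕ Fin 1) (Fin 1 ⊕ Fin 1) F) =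
    M 0 (b : F) ((b⁻¹ : Fˣ) : F) 0 := rfl

lemma ext_iso (g g' : isometryGroup F (quadFormPlus 1 F))
    (h : ((g.1 : Matrix.GeneralLinearGroup (Fin 1 ⊕ Fin 1) F) :
      Matrix (Fin 1 ⊕ Fin 1) (Fin 1 ⊕ Fin 1) F) = g'.1) : g = g' :=
  Subtype.ext (Units.ext h)

lemma mul_val (g g' : isometryGroup F (quadFormPlus 1 F)) :
    (((g * g').1 : Matrix.GeneralLinearGroup (Fin 1 ⊕ Fin 1) F) :
      Matrix (Fin 1 ⊕ Fin 1) (Fin 1 ⊕ Fin 1) F) = (g.1 : Matrix _ _ F) * (g'.1 : Matrix _ _ F) := rfl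

lemma gD_mul_gD (a a' : Fˣ) : gD a * gD a' = gD (a * a') := by
  apply ext_iso
  rw [mul_val, gD_val, gD_val, gD_val, M_mul]
  simp [mul_comm]

lemma gD_mul_gA (a b : Fˣ) : gD a * gA b = gA (a * b) := by
  apply ext_iso
  rw [mul_val, gD_val, gA_val, gA_val, M_mul]
  simp [mul_comm]

lemma gA_mul_gD (b a : Fˣ) : gA b * gD a = gA (b * a⁻¹) := by
  apply ext_iso
  rw [mul_val, gD_val, gA_val, gA_val, M_mul]
  simp [mul_comm]

lemma gA_mul_gA (b b' : Fˣ) : gA b * gA b' = gD (b * b'⁻¹) := by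
  apply ext_iso
  rw [mul_val, gA_val, gA_val, gD_val, M_mul]
  simp [mul_comm]

/-- GO^+_2(q) is dihedral of order 2(q-1). -/
theorem result {F : Type*} [Field F] [Fintype F] {q : ℕ} (hF : Fintype.card F = q) : Nonempty (Cfsg.isometryGroup F (Cfsg.quadFormPlus 1 F) ≃* DihedralGroup (q - 1)) := by
  classical
  have hq : 2 ≤ q := by rw [← hF]; exact Fintype.one_lt_card
  haveI : NeZero (q - 1) := ⟨by omega⟩
  have hcard : Nat.card (Multiplicative (ZMod (q - 1))) = Nat.card Fˣ := by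
    rw [Nat.card_units, Nat.card_eq_fintype_card, Fintype.card_multiplicative, ZMod.card,
      Nat.card_eq_fintype_card, hF]
  let e : Multiplicative (ZMod (q - 1)) ≃* Fˣ := mulEquivOfCyclicCardEq hcard
  let θ : ZMod (q - 1) → Fˣ := fun i => e (Multiplicative.ofAdd i)
  have hadd : ∀ i j, θ (i + j) = θ i * θ j := by
    intro i j
    show e (Multiplicative.ofAdd (i + j)) = _
    rw [ofAdd_add, map_mul]
  have hneg : ∀ i, θ (-i) = (θ i)⁻¹ := by
    intro i
    show e (Multiplicative.ofAdd (-i)) = _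
    rw [ofAdd_neg, map_inv]
  have hinj : Function.Injective θ := by
    intro i j h
    exact Multiplicative.ofAdd.injective (e.injective h)
  have hsurj : ∀ a : Fˣ, ∃ i, θ i = a := by
    intro a
    refine ⟨Multiplicative.toAdd (e.symm a), ?_⟩
    show e (Multiplicative.ofAdd (Multiplicative.toAdd (e.symm a))) = a
    simp
  let Φ : DihedralGroup (q - 1) → isometryGroup F (quadFormPlus 1 F) := fun x =>
    match x with
    | DihedralGroup.r i => gD (θ i)
    | DihedralGroup.sr i => gA (θ (-i))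
  have hmul : ∀ x y, Φ (x * y) = Φ x * Φ y := by
    intro x y
    rcases x with i | i <;> rcases y with j | j
    · show gD (θ (i + j)) = gD (θ i) * gD (θ j)
      rw [gD_mul_gD, hadd]
    · show gA (θ (-(j - i))) = gD (θ i) * gA (θ (-j))
      rw [gD_mul_gA, ← hadd]
      congr 2; ring
    · show gA (θ (-(i + j))) = gA (θ (-i)) * gD (θ j)
      rw [gA_mul_gD, ← hneg, ← hadd]
      congr 2; ring
    · show gD (θ (j - i)) = gA (θ (-i)) * gA (θ (-j))
      rw [gA_mul_gA, ← hneg, ← hadd]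
      congr 2; ring
  have hΦinj : Function.Injective Φ := by
    intro x y h
    have h' := congrArg (fun g : isometryGroup F (quadFormPlus 1 F) =>
      ((g.1 : Matrix.GeneralLinearGroup (Fin 1 ⊕ Fin 1) F) :
        Matrix (Fin 1 ⊕ Fin 1) (Fin 1 ⊕ Fin 1) F)) h
    rcases x with i | i <;> rcases y with j | j
    · have h1 := congrFun (congrFun h' (Sum.inl 0)) (Sum.inl 0)
      simp only [Φ, gD_val, M, Matrix.of_apply, Sum.elim_inl] at h1
      rw [hinj (Units.ext h1)]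
    · have h1 := congrFun (congrFun h' (Sum.inl 0)) (Sum.inl 0)
      simp only [Φ, gD_val, gA_val, M, Matrix.of_apply, Sum.elim_inl] at h1
      exact absurd h1 (Units.ne_zero _)
    · have h1 := congrFun (congrFun h' (Sum.inl 0)) (Sum.inl 0)
      simp only [Φ, gD_val, gA_val, M, Matrix.of_apply, Sum.elim_inl] at h1
      exact absurd h1.symm (Units.ne_zero _)
    · have h1 := congrFun (congrFun h' (Sum.inl 0)) (Sum.inr 0)
      simp only [Φ, gA_val, M, Matrix.of_apply, Sum.elim_inl, Sum.elim_inr] at h1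
      have := hinj (Units.ext h1)
      rw [neg_inj.1 this]
  have hΦsurj : Function.Surjective Φ := by
    intro g
    have hg := (mem_iso g.1).1 g.2
    set N : Matrix (Fin 1 ⊕ Fin 1) (Fin 1 ⊕ Fin 1) F :=
      ((g.1 : Matrix.GeneralLinearGroup (Fin 1 ⊕ Fin 1) F) :
        Matrix (Fin 1 ⊕ Fin 1) (Fin 1 ⊕ Fin 1) F) with hN
    rw [eq_M N] at hg
    set α := N (Sum.inl 0) (Sum.inl 0)
    set β := N (Sum.inl 0) (Sum.inr 0)
    set γ := N (Sum.inr 0) (Sum.inl 0)
    set δ := N (Sum.inr 0) (Sum.inr 0)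
    have e1 := hg (Sum.elim (fun _ => 1) (fun _ => 0))
    have e2 := hg (Sum.elim (fun _ => 0) (fun _ => 1))
    have e3 := hg (Sum.elim (fun _ => 1) (fun _ => 1))
    rw [Q_M, Q_apply] at e1 e2 e3
    simp only [Sum.elim_inl, Sum.elim_inr, mul_one, mul_zero, add_zero, zero_add] at e1 e2 e3
    by_cases hα : α = 0
    · have hβγ : β * γ = 1 := by
        rw [hα] at e3
        linear_combination e3 - e2
      have hβ0 : β ≠ 0 := left_ne_zero_of_mul_eq_one hβγ
      have hδ : δ = 0 := by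
        rcases mul_eq_zero.1 e2 with h | h
        · exact absurd h hβ0
        · exact h
      obtain ⟨i, hi⟩ := hsurj (Units.mk0 β hβ0)
      refine ⟨DihedralGroup.sr (-i), ?_⟩
      apply ext_iso
      show (((gA (θ (- -i))).1 : Matrix.GeneralLinearGroup (Fin 1 ⊕ Fin 1) F) :
        Matrix (Fin 1 ⊕ Fin 1) (Fin 1 ⊕ Fin 1) F) = N
      rw [neg_neg, hi, gA_val, eq_M N]
      have hγ : γ = β⁻¹ := eq_inv_of_mul_eq_one_right hβγ
      simp only [Units.val_mk0, Units.val_inv_eq_inv_val]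
      rw [← hγ]
      congr 1 <;> simp [α, δ, hα, hδ]
    · have hγ : γ = 0 := by
        rcases mul_eq_zero.1 e1 with h | h
        · exact absurd h hα
        · exact h
      have hαδ : α * δ = 1 := by
        rw [hγ] at e3
        linear_combination e3 - e2
      have hδ0 : δ ≠ 0 := right_ne_zero_of_mul_eq_one hαδ
      have hβ : β = 0 := by
        rcases mul_eq_zero.1 e2 with h | h
        · exact h
        · exact absurd h hδ0
      obtain ⟨i, hi⟩ := hsurj (Units.mk0 α hα)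
      refine ⟨DihedralGroup.r i, ?_⟩
      apply ext_iso
      show (((gD (θ i)).1 : Matrix.GeneralLinearGroup (Fin 1 ⊕ Fin 1) F) :
        Matrix (Fin 1 ⊕ Fin 1) (Fin 1 ⊕ Fin 1) F) = N
      rw [hi, gD_val, eq_M N]
      have hδ' : δ = α⁻¹ := eq_inv_of_mul_eq_one_right hαδ
      simp only [Units.val_mk0, Units.val_inv_eq_inv_val]
      rw [← hδ']
      congr 1 <;> simp [β, γ, hβ, hγ]
  exact ⟨(MulEquiv.ofBijective (MonoidHom.mk' Φ hmul) ⟨hΦinj, hΦsurj⟩).symm⟩

end Cfsg.Agent.S0305
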