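import Cfsg.Statements.S0306
import Mathlib
import Cfsg.Agent.S0288

set_option autoImplicit false
open Cfsg

namespace Cfsg.Agent.S0306

open Cfsg.Agent.Helper9AnisoPlane Matrix

variable {F : Type*} [Field F]

/-- The index type of the binary space. -/
abbrev I2 : Type := (Fin 0 ⊕ Fin 0) ⊕ Fin 2

/-- The quadratic extension in which the form is the norm form. -/
abbrev K (a b : F) : Type _ := QuadraticAlgebra F (-b) a

/-- Vectors as elements of the quadratic algebra. -/
def kappa (a b : F) : (I2 → F) ≃ₗ[F] K a b where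
  toFun v := ⟨v (Sum.inr 0), v (Sum.inr 1)⟩
  invFun z := fun t => match t with
    | Sum.inl s => Sum.elim (fun i => Fin.elim0 i) (fun i => Fin.elim0 i) s
    | Sum.inr j => ![z.re, z.im] j
  map_add' v w := by ext <;> simp
  map_smul' c v := by ext <;> simp
  left_inv v := by
    funext t
    rcases t with (i | i) | j
    · exact Fin.elim0 i
    · exact Fin.elim0 i
    · fin_cases j <;> rfl
  right_inv z := by ext <;> rfl

lemma Q_eq_norm (a b : F) (v : I2 → F) :
    quadFormMinus 0 F a b v = QuadraticAlgebra.norm (kappa a b v) := by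
  simp only [quadFormMinus, QuadraticAlgebra.norm_def, kappa, LinearEquiv.coe_mk, LinearMap.coe_mk,
    AddHom.coe_mk, Finset.univ_eq_empty, Finset.sum_empty, zero_add]
  ring

lemma mem_iso (a b : F) (g : Matrix.GeneralLinearGroup I2 F) :
    g ∈ isometryGroup F (quadFormMinus 0 F a b) ↔
      ∀ v, quadFormMinus 0 F a b ((g : Matrix I2 I2 F).mulVec v) = quadFormMinus 0 F a b v :=
  ⟨fun h v => h v v, fun h v _ => h v⟩

/-- Conjugating an endomorphism of the algebra to the vector space. -/
def conjEnd (a b : F) : Module.End F (K a b) →* Module.End F (I2 → F) where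
  toFun L := (kappa a b).symm.toLinearMap ∘ₗ L ∘ₗ (kappa a b).toLinearMap
  map_one' := by
    apply LinearMap.ext
    intro v
    simp
  map_mul' L L' := by
    apply LinearMap.ext
    intro v
    simp

lemma conjEnd_apply (a b : F) (L : Module.End F (K a b)) (v : I2 → F) :
    conjEnd a b L v = (kappa a b).symm (L (kappa a b v)) := rfl

/-- Multiplication operators. -/
def mulEnd (a b : F) : K a b →* Module.End F (K a b) where
  toFun u := LinearMap.mulLeft F u
  map_one' := by
    apply LinearMap.ext
    intro z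
    simp
  map_mul' u u' := by
    apply LinearMap.ext
    intro z
    simp [mul_assoc]

/-- The matrix group element of a unit of the algebra. -/
def rho (a b : F) : (K a b)ˣ →* Matrix.GeneralLinearGroup I2 F :=
  (Matrix.GeneralLinearGroup.toLin.symm.toMonoidHom).comp (Units.map ((conjEnd a b).comp (mulEnd a b)))

lemma rho_mulVec (a b : F) (u : (K a b)ˣ) (v : I2 → F) :
    ((rho a b u : Matrix.GeneralLinearGroup I2 F) : Matrix I2 I2 F).mulVec v =
      (kappa a b).symm ((u : K a b) * kappa a b v) := by
  have h1 : Matrix.GeneralLinearGroup.toLin (rho a b u) =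
      Units.map ((conjEnd a b).comp (mulEnd a b)) u := by
    simp [rho]
  have h2 := Matrix.GeneralLinearGroup.toLin_apply (A := rho a b u) v
  rw [h1, Matrix.mulVecLin_apply] at h2
  rw [← h2]
  rfl

/-- The conjugation as a linear automorphism. -/
def starEnd (a b : F) : Module.End F (K a b) where
  toFun z := star z
  map_add' z w := by ext <;> simp <;> ring
  map_smul' c z := by ext <;> simp; ring

lemma starEnd_sq (a b : F) : starEnd a b * starEnd a b = 1 := by
  apply LinearMap.ext
  intro z
  show star (star z) = z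
  simp

/-- The conjugation as a matrix group element. -/
def sig (a b : F) : Matrix.GeneralLinearGroup I2 F :=
  Matrix.GeneralLinearGroup.toLin.symm
    ⟨conjEnd a b (starEnd a b), conjEnd a b (starEnd a b), by
      rw [← map_mul, starEnd_sq, map_one], by rw [← map_mul, starEnd_sq, map_one]⟩

lemma sig_mulVec (a b : F) (v : I2 → F) :
    ((sig a b : Matrix.GeneralLinearGroup I2 F) : Matrix I2 I2 F).mulVec v =
      (kappa a b).symm (star (kappa a b v)) := by
  have h2 := Matrix.GeneralLinearGroup.toLin_apply (A := sig a b) v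
  rw [Matrix.mulVecLin_apply] at h2
  rw [← h2]
  simp only [sig, MulEquiv.apply_symm_apply]
  rfl

lemma gl_ext (g g' : Matrix.GeneralLinearGroup I2 F)
    (h : ∀ v, (g : Matrix I2 I2 F).mulVec v = (g' : Matrix I2 I2 F).mulVec v) : g = g' := by
  apply Units.ext
  ext i j
  have := congrFun (h (Pi.single j 1)) i
  simpa [Matrix.mulVec_single_one] using this

lemma mul_mulVec (g g' : Matrix.GeneralLinearGroup I2 F) (v : I2 → F) :
    ((g * g' : Matrix.GeneralLinearGroup I2 F) : Matrix I2 I2 F).mulVec v =
      (g : Matrix I2 I2 F).mulVec ((g' : Matrix I2 I2 F).mulVec v) := by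
  rw [Matrix.mulVec_mulVec]; rfl

/-- GO^-_2(q) is dihedral of order 2(q+1). -/
theorem result {F : Type*} [Field F] [Fintype F] {q : ℕ} (hF : Fintype.card F = q) (a b : F) (hab : ∀ z₁ z₂ : F, z₁ ^ 2 + a * z₁ * z₂ + b * z₂ ^ 2 = 0 → z₁ = 0 ∧ z₂ = 0) : Nonempty (Cfsg.isometryGroup F (Cfsg.quadFormMinus 0 F a b) ≃* DihedralGroup (q + 1)) := by
  classical
  have hani : Aniso a b := hab
  haveI hfact : Fact (∀ r : F, r ^ 2 ≠ -b + a * r) := ⟨fun r hr => by
    have := (hab r (-1) (by linear_combination hr)).2
    simp at this⟩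
  haveI : Finite (K a b) := Finite.of_equiv _ (QuadraticAlgebra.equivProd (-b) a).symm
  haveI : Fintype (K a b) := Fintype.ofFinite _
  -- the norm-one group
  let G₁ : Subgroup (K a b)ˣ := (Units.map (QuadraticAlgebra.norm : K a b →* F)).ker
  have hG₁ : ∀ u : (K a b)ˣ, u ∈ G₁ ↔ QuadraticAlgebra.norm (u : K a b) = 1 := by
    intro u
    show Units.map _ u = 1 ↔ _
    rw [Units.ext_iff]
    rfl
  have hnorm_nrm : ∀ z : K a b, QuadraticAlgebra.norm z = nrm a b (z.re, z.im) := by
    intro z
    simp only [QuadraticAlgebra.norm_def, nrm]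
    ring
  have hcardG₁ : Nat.card G₁ = q + 1 := by
    rw [← hF, ← card_nrm_one hani]
    apply Nat.card_congr
    refine ⟨fun u => ⟨((u.1 : K a b).re, (u.1 : K a b).im), by
        rw [← hnorm_nrm]; exact (hG₁ u.1).1 u.2⟩,
      fun p => ⟨Units.mk0 ⟨p.1.1, p.1.2⟩ (by
        intro h0
        have := p.2
        rw [show p.1 = ((⟨p.1.1, p.1.2⟩ : K a b).re, (⟨p.1.1, p.1.2⟩ : K a b).im) from rfl,
          ← hnorm_nrm, h0] at this
        simp at this), by
        rw [hG₁]
        show QuadraticAlgebra.norm (⟨p.1.1, p.1.2⟩ : K a b) = 1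
        rw [hnorm_nrm]; exact p.2⟩, ?_, ?_⟩
    · intro u
      apply Subtype.ext
      apply Units.ext
      rfl
    · intro p
      rfl
  haveI : NeZero (q + 1) := ⟨by omega⟩
  have hcard : Nat.card (Multiplicative (ZMod (q + 1))) = Nat.card G₁ := by
    rw [hcardG₁, Nat.card_eq_fintype_card, Fintype.card_multiplicative, ZMod.card]
  let e : Multiplicative (ZMod (q + 1)) ≃* G₁ := mulEquivOfCyclicCardEq hcard
  let θ : ZMod (q + 1) → G₁ := fun i => e (Multiplicative.ofAdd i)
  have hadd : ∀ i j, θ (i + j) = θ i * θ j := by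
    intro i j
    show e (Multiplicative.ofAdd (i + j)) = _
    rw [ofAdd_add, map_mul]
  have hneg : ∀ i, θ (-i) = (θ i)⁻¹ := by
    intro i
    show e (Multiplicative.ofAdd (-i)) = _
    rw [ofAdd_neg, map_inv]
  have hinj : Function.Injective θ := by
    intro i j h
    exact Multiplicative.ofAdd.injective (e.injective h)
  -- isometries
  have hrho_mem : ∀ u : G₁, rho a b u.1 ∈ isometryGroup F (quadFormMinus 0 F a b) := by
    intro u
    rw [mem_iso]
    intro v
    rw [rho_mulVec, Q_eq_norm, Q_eq_norm, LinearEquiv.apply_symm_apply, map_mul, (hG₁ u.1).1 u.2,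
      one_mul]
  have hsig_mem : sig a b ∈ isometryGroup F (quadFormMinus 0 F a b) := by
    rw [mem_iso]
    intro v
    rw [sig_mulVec, Q_eq_norm, Q_eq_norm, LinearEquiv.apply_symm_apply, QuadraticAlgebra.norm_star]
  let G := isometryGroup F (quadFormMinus 0 F a b)
  let gD : G₁ → G := fun u => ⟨rho a b u.1, hrho_mem u⟩
  let S : G := ⟨sig a b, hsig_mem⟩
  let gA : G₁ → G := fun u => gD u * S
  have hstar : ∀ u : G₁, star ((u.1 : (K a b)ˣ) : K a b) = (((u⁻¹ : G₁).1 : (K a b)ˣ) : K a b) := by
    intro u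
    have h1 : ((u.1 : (K a b)ˣ) : K a b) * star ((u.1 : (K a b)ˣ) : K a b) = 1 := by
      rw [← QuadraticAlgebra.algebraMap_norm_eq_mul_star, (hG₁ u.1).1 u.2, map_one]
    have h2 : (((u⁻¹ : G₁).1 : (K a b)ˣ) : K a b) = (((u.1 : (K a b)ˣ)⁻¹ : (K a b)ˣ) : K a b) := rfl
    rw [h2]
    exact Units.eq_inv_of_mul_eq_one_right (by rw [mul_comm]; exact h1)
  have hDD : ∀ u u' : G₁, gD u * gD u' = gD (u * u') := by
    intro u u'
    apply Subtype.ext
    show rho a b u.1 * rho a b u'.1 = rho a b (u * u').1
    rw [← map_mul]; rfl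
  have hSS : S * S = 1 := by
    apply Subtype.ext
    apply gl_ext
    intro v
    show ((sig a b * sig a b : Matrix.GeneralLinearGroup I2 F) : Matrix I2 I2 F).mulVec v =
      ((1 : Matrix.GeneralLinearGroup I2 F) : Matrix I2 I2 F).mulVec v
    rw [mul_mulVec, sig_mulVec, sig_mulVec, LinearEquiv.apply_symm_apply, star_star,
      LinearEquiv.symm_apply_apply]
    simp
  have hSD : ∀ u : G₁, S * gD u = gD u⁻¹ * S := by
    intro u
    apply Subtype.ext
    apply gl_ext
    intro v
    show ((sig a b * rho a b u.1 : Matrix.GeneralLinearGroup I2 F) : Matrix I2 I2 F).mulVec v =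
      ((rho a b (u⁻¹ : G₁).1 * sig a b : Matrix.GeneralLinearGroup I2 F) : Matrix I2 I2 F).mulVec v
    rw [mul_mulVec, mul_mulVec, sig_mulVec, rho_mulVec, rho_mulVec, sig_mulVec,
      LinearEquiv.apply_symm_apply, LinearEquiv.apply_symm_apply, star_mul, hstar, mul_comm]
  have hDA : ∀ u u' : G₁, gD u * gA u' = gA (u * u') := by
    intro u u'
    show gD u * (gD u' * S) = gD (u * u') * S
    rw [← mul_assoc, hDD]
  have hAD : ∀ u u' : G₁, gA u * gD u' = gA (u * u'⁻¹) := by
    intro u u'
    show gD u * S * gD u' = gD (u * u'⁻¹) * S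
    rw [mul_assoc, hSD, ← mul_assoc, hDD]
  have hAA : ∀ u u' : G₁, gA u * gA u' = gD (u * u'⁻¹) := by
    intro u u'
    show gD u * S * (gD u' * S) = gD (u * u'⁻¹)
    rw [mul_assoc, ← mul_assoc S, hSD, mul_assoc, hSS, mul_one, hDD]
  have hDinj : Function.Injective gD := by
    intro u u' h
    have h1 := congrArg (fun g : G => ((g.1 : Matrix.GeneralLinearGroup I2 F) : Matrix I2 I2 F).mulVec
      ((kappa a b).symm 1)) h
    simp only [gD, rho_mulVec, LinearEquiv.apply_symm_apply, mul_one] at h1
    apply Subtype.ext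
    apply Units.ext
    exact (kappa a b).symm.injective h1
  have hS_ne : ∀ u : G₁, gD u ≠ S := by
    intro u h
    have h1 : ∀ z : K a b, ((u.1 : (K a b)ˣ) : K a b) * z = star z := by
      intro z
      have := congrArg (fun g : G => ((g.1 : Matrix.GeneralLinearGroup I2 F) : Matrix I2 I2 F).mulVec
        ((kappa a b).symm z)) h
      simp only [gD, S, rho_mulVec, sig_mulVec, LinearEquiv.apply_symm_apply] at this
      exact (kappa a b).symm.injective this
    have h2 := h1 1
    rw [mul_one, star_one] at h2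
    have h3 := h1 (QuadraticAlgebra.omega)
    rw [h2, one_mul] at h3
    have h4 := congrArg QuadraticAlgebra.im h3
    have h5 := congrArg QuadraticAlgebra.re h3
    simp at h4 h5
    have h2' : (2 : F) = 0 := by linear_combination h4
    exact aniso_lin_ne h2' hani h5.symm
  have hDA_ne : ∀ u u' : G₁, gD u ≠ gA u' := by
    intro u u' h
    apply hS_ne (u'⁻¹ * u)
    rw [← hDD, h]
    show gD u'⁻¹ * (gD u' * S) = S
    rw [← mul_assoc, hDD, inv_mul_cancel]
    have : gD 1 = 1 := by
      apply Subtype.ext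
      show rho a b (1 : G₁).1 = 1
      exact map_one _
    rw [this, one_mul]
  have hAinj : Function.Injective gA := by
    intro u u' h
    apply hDinj
    exact mul_right_cancel h
  let Φ : DihedralGroup (q + 1) → G := fun x =>
    match x with
    | DihedralGroup.r i => gD (θ i)
    | DihedralGroup.sr i => gA (θ (-i))
  have hmul : ∀ x y, Φ (x * y) = Φ x * Φ y := by
    intro x y
    rcases x with i | i <;> rcases y with j | j
    · show gD (θ (i + j)) = gD (θ i) * gD (θ j)
      rw [hDD, hadd]
    · show gA (θ (-(j - i))) = gD (θ i) * gA (θ (-j))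
      rw [hDA, ← hadd]
      congr 2; ring
    · show gA (θ (-(i + j))) = gA (θ (-i)) * gD (θ j)
      rw [hAD, ← hneg, ← hadd]
      congr 2; ring
    · show gD (θ (j - i)) = gA (θ (-i)) * gA (θ (-j))
      rw [hAA, ← hneg, ← hadd]
      congr 2; ring
  have hΦinj : Function.Injective Φ := by
    intro x y h
    rcases x with i | i <;> rcases y with j | j
    · rw [hinj (hDinj h)]
    · exact absurd h (hDA_ne _ _)
    · exact absurd h.symm (hDA_ne _ _)
    · have := hinj (hAinj h)
      rw [neg_inj.1 this]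
  have hcardG : Nat.card G = 2 * (q + 1) := by
    have := Cfsg.Agent.S0288.result hF 1 le_rfl a b hab
    simpa using this
  have hΦbij : Function.Bijective Φ := by
    haveI : Finite G := Nat.finite_of_card_ne_zero (by rw [hcardG]; omega)
    apply hΦinj.bijective_of_nat_card_le
    rw [hcardG, DihedralGroup.nat_card]
  exact ⟨(MulEquiv.ofBijective (MonoidHom.mk' Φ hmul) hΦbij).symm⟩

end Cfsg.Agent.S0306
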