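import Cfsg.Statements.S0307
import Mathlib

set_option autoImplicit false
open Cfsg

namespace Cfsg.Agent.S0307

open Matrix Matrix.ProjGenLinGroup

/-- PSL_n(q) is normal in PGL_n(q) with cyclic quotient of order gcd(n, q-1): the image of the natural map PSL_n → PGL_n is the kernel of a surjective homomorphism onto the cyclic group of that order. -/
theorem result {F : Type*} [Field F] [Fintype F] {q : ℕ} (hF : Fintype.card F = q) (n : ℕ) (hn : 1 ≤ n) : ∃ g : Matrix.ProjGenLinGroup (Fin n) F →* Multiplicative (ZMod (Nat.gcd n (q - 1))), Function.Surjective g ∧ g.ker = (Matrix.ProjectiveSpecialLinearGroup.toPGL : Matrix.ProjectiveSpecialLinearGroup (Fin n) F →* Matrix.ProjGenLinGroup (Fin n) F).range := by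
  classical
  haveI : Nonempty (Fin n) := ⟨⟨0, hn⟩⟩
  have hq : 2 ≤ q := by rw [← hF]; exact Fintype.one_lt_card
  let R : Subgroup Fˣ := (powMonoidHom n : Fˣ →* Fˣ).range
  have hcardQ : Nat.card (Fˣ ⧸ R) = Nat.gcd n (q - 1) := by
    rw [← Subgroup.index_eq_card, IsCyclic.index_powMonoidHom_range, Nat.card_units,
      Nat.card_eq_fintype_card, hF, Nat.gcd_comm]
  have hdpos : Nat.gcd n (q - 1) ≠ 0 := by
    intro h
    have := Nat.gcd_eq_zero_iff.1 h
    omega
  haveI : NeZero (Nat.gcd n (q - 1)) := ⟨hdpos⟩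
  haveI : IsCyclic (Fˣ ⧸ R) :=
    isCyclic_of_surjective (QuotientGroup.mk' R) (QuotientGroup.mk'_surjective R)
  have hcard2 : Nat.card (Fˣ ⧸ R) = Nat.card (Multiplicative (ZMod (Nat.gcd n (q - 1)))) := by
    rw [hcardQ, Nat.card_eq_fintype_card, Fintype.card_multiplicative, ZMod.card]
  let e : (Fˣ ⧸ R) ≃* Multiplicative (ZMod (Nat.gcd n (q - 1))) := mulEquivOfCyclicCardEq hcard2
  let d0 : GL (Fin n) F →* Fˣ ⧸ R := (QuotientGroup.mk' R).comp Matrix.GeneralLinearGroup.det
  have hker0 : Subgroup.center (GL (Fin n) F) ≤ d0.ker := by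
    intro z hz
    rw [Matrix.GeneralLinearGroup.center_eq_range_scalar] at hz
    obtain ⟨u, rfl⟩ := hz
    rw [MonoidHom.mem_ker]
    show QuotientGroup.mk' R (Matrix.GeneralLinearGroup.det (Matrix.GeneralLinearGroup.scalar (Fin n) u)) = 1
    rw [Matrix.GeneralLinearGroup.det_scalar, Fintype.card_fin, QuotientGroup.mk'_apply,
      QuotientGroup.eq_one_iff]
    exact ⟨u, rfl⟩
  let d1 : Matrix.ProjGenLinGroup (Fin n) F →* Fˣ ⧸ R :=
    QuotientGroup.lift (Subgroup.center (GL (Fin n) F)) d0 hker0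
  have hd1 : ∀ x : GL (Fin n) F, d1 (mk x) = QuotientGroup.mk' R (Matrix.GeneralLinearGroup.det x) :=
    fun x => rfl
  refine ⟨e.toMonoidHom.comp d1, ?_, ?_⟩
  · apply e.surjective.comp
    intro y
    obtain ⟨u, rfl⟩ := QuotientGroup.mk'_surjective R y
    obtain ⟨x, rfl⟩ := Matrix.GeneralLinearGroup.det_surjective (n := Fin n) (R := F) u
    exact ⟨mk x, hd1 x⟩
  · ext x
    rw [MonoidHom.mem_ker]
    show e (d1 x) = 1 ↔ _
    rw [MulEquiv.map_eq_one_iff]
    induction x using Matrix.ProjGenLinGroup.induction_on with | mk x =>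
    rw [hd1, QuotientGroup.mk'_apply, QuotientGroup.eq_one_iff]
    constructor
    · rintro ⟨u, hu⟩
      rw [powMonoidHom_apply] at hu
      -- x * scalar u⁻¹ has determinant one
      have hdet : Matrix.GeneralLinearGroup.det (x * Matrix.GeneralLinearGroup.scalar (Fin n) u⁻¹) = 1 := by
        rw [map_mul, Matrix.GeneralLinearGroup.det_scalar, Fintype.card_fin, ← hu, inv_pow,
          mul_inv_cancel]
      have hdet' : ((x * Matrix.GeneralLinearGroup.scalar (Fin n) u⁻¹ : GL (Fin n) F) :
          Matrix (Fin n) (Fin n) F).det = 1 := by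
        have := congrArg (fun y : Fˣ => (y : F)) hdet
        exact this
      let s : Matrix.SpecialLinearGroup (Fin n) F := ⟨_, hdet'⟩
      refine ⟨QuotientGroup.mk s, ?_⟩
      show mk (Matrix.SpecialLinearGroup.toGL s) = mk x
      have h1 : Matrix.SpecialLinearGroup.toGL s =
          x * Matrix.GeneralLinearGroup.scalar (Fin n) u⁻¹ := by
        apply Units.ext; rfl
      rw [h1, map_mul, mk_scalar, mul_one]
    · rintro ⟨y, hy⟩
      obtain ⟨s, rfl⟩ := QuotientGroup.mk_surjective y
      have hy' : mk (Matrix.SpecialLinearGroup.toGL s) = mk x := hy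
      rw [mk_eq_mk_iff] at hy'
      have hy := hy'
      obtain ⟨u, hu⟩ := hy
      refine ⟨u, ?_⟩
      rw [powMonoidHom_apply, ← hu, map_mul, Matrix.GeneralLinearGroup.det_scalar, Fintype.card_fin]
      have : Matrix.GeneralLinearGroup.det (Matrix.SpecialLinearGroup.toGL s) = 1 := by
        apply Units.ext
        exact s.2
      rw [this, one_mul]

end Cfsg.Agent.S0307
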