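import Mathlib
import Cfsg.Statements.S0312
import Cfsg.Agent.Lib.Helper1_BN
import Cfsg.Agent.S0308

set_option autoImplicit false
open Cfsg

namespace Cfsg.Agent.S0312

open Cfsg.Agent.Lib.Helper1_BN in
/-- Every standard parabolic subgroup of a group with a (B,N)-pair equals its own normaliser. -/
theorem result {G : Type*} [Group G] (P : Cfsg.BNPair G) {J : Set G}
    (hJ : J ⊆ P.S) : Subgroup.normalizer (P.parabolic J : Set G) = P.parabolic J := by
  apply le_antisymm
  · intro g hg
    rw [Subgroup.mem_normalizer_iff] at hg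
    have hB : P.B ≤ P.parabolic J := le_sup_left
    obtain ⟨n, hn, hgn⟩ := Cfsg.Agent.S0308.result P g
    rw [DoubleCoset.mem_doubleCoset] at hgn
    obtain ⟨b1, hb1, b2, hb2, rfl⟩ := hgn
    have hnH : n ∈ P.parabolic J := by
      apply (ofBN P).mem_of_conj hn hB
      intro b hb
      have h1 : b2⁻¹ * b * b2 ∈ P.parabolic J :=
        hB (P.B.mul_mem (P.B.mul_mem (P.B.inv_mem hb2) hb) hb2)
      have h2 := (hg (b2⁻¹ * b * b2)).mp h1
      have : n * b * n⁻¹ = b1⁻¹ * ((b1 * n * b2) * (b2⁻¹ * b * b2) * (b1 * n * b2)⁻¹) * b1 := by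
        group
      rw [this]
      exact Subgroup.mul_mem _ (Subgroup.mul_mem _ (Subgroup.inv_mem _ (hB hb1)) h2) (hB hb1)
    exact Subgroup.mul_mem _ (Subgroup.mul_mem _ (hB hb1) hnH) (hB hb2)
  · exact Subgroup.le_normalizer

end Cfsg.Agent.S0312
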