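import Mathlib
import Cfsg.Statements.S0313
import Cfsg.Agent.Lib.Helper1_BN
import Cfsg.Agent.S0308

set_option autoImplicit false
open Cfsg

namespace Cfsg.Agent.S0313

open Cfsg.Agent.Lib.Helper1_BN in
/-- Two standard parabolic subgroups of a group with a (B,N)-pair which are conjugate in `G` coincide. -/
theorem result {G : Type*} [Group G] (P : Cfsg.BNPair G) {J K : Set G}
    (hJ : J ⊆ P.S) (hK : K ⊆ P.S) (g : G)
    (h : (P.parabolic J).map (MulAut.conj g).toMonoidHom = P.parabolic K) :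
    P.parabolic J = P.parabolic K := by
  have hBJ : P.B ≤ P.parabolic J := le_sup_left
  have hBK : P.B ≤ P.parabolic K := le_sup_left
  have hconj : ∀ x ∈ P.parabolic J, g * x * g⁻¹ ∈ P.parabolic K := by
    intro x hx
    rw [← h]
    exact ⟨x, hx, by simp [MulAut.conj_apply]⟩
  -- g ∈ P_K
  have hgK : g ∈ P.parabolic K := by
    obtain ⟨n, hn, hgn⟩ := Cfsg.Agent.S0308.result P g
    rw [DoubleCoset.mem_doubleCoset] at hgn
    obtain ⟨b1, hb1, b2, hb2, rfl⟩ := hgn
    have hnH : n ∈ P.parabolic K := by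
      apply (ofBN P).mem_of_conj hn hBK
      intro b hb
      have h1 : b2⁻¹ * b * b2 ∈ P.parabolic J :=
        hBJ (P.B.mul_mem (P.B.mul_mem (P.B.inv_mem hb2) hb) hb2)
      have h2 := hconj _ h1
      have : n * b * n⁻¹ = b1⁻¹ * ((b1 * n * b2) * (b2⁻¹ * b * b2) * (b1 * n * b2)⁻¹) * b1 := by
        group
      rw [this]
      exact Subgroup.mul_mem _ (Subgroup.mul_mem _ (Subgroup.inv_mem _ (hBK hb1)) h2) (hBK hb1)
    exact Subgroup.mul_mem _ (Subgroup.mul_mem _ (hBK hb1) hnH) (hBK hb2)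
  apply le_antisymm
  · intro x hx
    have h1 := hconj x hx
    have : x = g⁻¹ * (g * x * g⁻¹) * g := by group
    rw [this]
    exact Subgroup.mul_mem _ (Subgroup.mul_mem _ (Subgroup.inv_mem _ hgK) h1) hgK
  · intro y hy
    have h1 : g * y * g⁻¹ ∈ P.parabolic K :=
      Subgroup.mul_mem _ (Subgroup.mul_mem _ hgK hy) (Subgroup.inv_mem _ hgK)
    rw [← h] at h1
    obtain ⟨x, hx, hxy⟩ := h1
    have : x = y := by
      simp only [MulEquiv.coe_toMonoidHom, MulAut.conj_apply] at hxy
      have h2 : g * x = g * y := mul_right_cancel hxy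
      exact mul_left_cancel h2
    rw [← this]; exact hx

end Cfsg.Agent.S0313
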