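import Mathlib
import Cfsg.Statements.S0315
import Cfsg.Agent.Lib.Helper1_BN2

set_option autoImplicit false
open Cfsg

namespace Cfsg.Agent.S0315

open Cfsg.Agent.Lib.Helper1_BN2 in
/-- Standard parabolic subgroups intersect as the index sets do: `P_J ⊓ P_K = P_{J ∩ K}`. -/
theorem result {G : Type*} [Group G] (P : Cfsg.BNPair G) {J K : Set G}
    (hJ : J ⊆ P.S) (hK : K ⊆ P.S) : P.parabolic J ⊓ P.parabolic K = P.parabolic (J ∩ K) := by
  apply le_antisymm
  · have hB : P.B ≤ P.parabolic J ⊓ P.parabolic K := le_inf le_sup_left le_sup_left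
    have h1 := Cfsg.Agent.S0311.eq_parabolic P _ hB
    have h2 : P.S ∩ ((P.parabolic J ⊓ P.parabolic K : Subgroup G) : Set G) = J ∩ K := by
      rw [Subgroup.coe_inf, Set.inter_inter_distrib_left, S_inter_parabolic P hJ,
        S_inter_parabolic P hK]
    rw [h2] at h1
    exact h1.le
  · exact le_inf (parabolic_mono P Set.inter_subset_left) (parabolic_mono P Set.inter_subset_right)

end Cfsg.Agent.S0315
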