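import Mathlib
import Cfsg.Statements.S0316
import Cfsg.Agent.Lib.Helper1_BN2

set_option autoImplicit false
open Cfsg

namespace Cfsg.Agent.S0316

open Cfsg.Agent.Lib.Helper1_BN2

/-- the map `J ↦ P_J` -/
def f {G : Type*} [Group G] (P : Cfsg.BNPair G) (J : Set P.S) : {M : Subgroup G // P.B ≤ M} :=
  ⟨P.parabolic (Subtype.val '' J), le_sup_left⟩

theorem image_subset {G : Type*} [Group G] (P : Cfsg.BNPair G) (J : Set P.S) :
    Subtype.val '' J ⊆ P.S := by
  rintro _ ⟨x, _, rfl⟩
  exact x.2

theorem f_le_iff {G : Type*} [Group G] (P : Cfsg.BNPair G) (J K : Set P.S) :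
    f P J ≤ f P K ↔ J ≤ K := by
  show P.parabolic (Subtype.val '' J) ≤ P.parabolic (Subtype.val '' K) ↔ J ≤ K
  rw [parabolic_le_iff P (image_subset P J) (image_subset P K)]
  exact Set.image_subset_image_iff Subtype.val_injective

theorem f_injective {G : Type*} [Group G] (P : Cfsg.BNPair G) : Function.Injective (f P) := by
  intro J K h
  apply le_antisymm
  · exact (f_le_iff P J K).mp h.le
  · exact (f_le_iff P K J).mp h.ge

theorem f_surjective {G : Type*} [Group G] (P : Cfsg.BNPair G) : Function.Surjective (f P) := by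
  rintro ⟨M, hM⟩
  refine ⟨{s : P.S | (s : G) ∈ M}, ?_⟩
  apply Subtype.ext
  show P.parabolic (Subtype.val '' {s : P.S | (s : G) ∈ M}) = M
  have h1 : Subtype.val '' {s : P.S | (s : G) ∈ M} = P.S ∩ (M : Set G) := by
    ext x
    constructor
    · rintro ⟨s, hs, rfl⟩
      exact ⟨s.2, hs⟩
    · rintro ⟨hx, hxM⟩
      exact ⟨⟨x, hx⟩, hxM, rfl⟩
  rw [h1]
  exact (Cfsg.Agent.S0311.eq_parabolic P M hM).symm

/-- The map `J ↦ P_J` is a lattice isomorphism from the power set of the set of distinguished generators onto the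
subgroups containing `B`. -/
theorem result {G : Type*} [Group G] (P : Cfsg.BNPair G) :
    ∃ e : Set P.S ≃o {M : Subgroup G // P.B ≤ M},
      ∀ J : Set P.S, ((e J : {M : Subgroup G // P.B ≤ M}) : Subgroup G) = P.parabolic (Subtype.val '' J) := by
  refine ⟨⟨Equiv.ofBijective (f P) ⟨f_injective P, f_surjective P⟩, ?_⟩, ?_⟩
  · intro J K
    exact f_le_iff P J K
  · intro J
    rfl

end Cfsg.Agent.S0316
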