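import Mathlib
import Cfsg.Statements.S0318
import Cfsg.Agent.Lib.Helper1_BN

set_option autoImplicit false
open Cfsg

namespace Cfsg.Agent.S0318

open Cfsg.Agent.Lib.Helper1_BN in
/-- For `n ∈ N`, the subgroup generated by `B` and `n` coincides with the subgroup generated by `B` and the
conjugate `n B n⁻¹`. -/
theorem result {G : Type*} [Group G] (P : Cfsg.BNPair G) {n : G}
    (hn : n ∈ P.N) :
    P.B ⊔ Subgroup.closure {n} = P.B ⊔ P.B.map (MulAut.conj n).toMonoidHom := by
  apply le_antisymm
  · apply sup_le le_sup_left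
    rw [Subgroup.closure_le, Set.singleton_subset_iff]
    apply (ofBN P).mem_of_conj hn (H := P.B ⊔ P.B.map (MulAut.conj n).toMonoidHom) le_sup_left
    intro b hb
    apply Subgroup.mem_sup_right
    refine ⟨b, hb, ?_⟩
    simp [MulAut.conj_apply]
  · apply sup_le le_sup_left
    rintro _ ⟨b, hb, rfl⟩
    have hnm : n ∈ P.B ⊔ Subgroup.closure {n} :=
      Subgroup.mem_sup_right (Subgroup.subset_closure (Set.mem_singleton n))
    have hbm : b ∈ P.B ⊔ Subgroup.closure {n} := Subgroup.mem_sup_left hb
    simp only [MulEquiv.coe_toMonoidHom, MulAut.conj_apply]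
    exact Subgroup.mul_mem _ (Subgroup.mul_mem _ hnm hbm) (Subgroup.inv_mem _ hnm)

end Cfsg.Agent.S0318
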