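import Mathlib
import Cfsg.Statements.S0319
import Cfsg.Agent.Lib.Helper1_BN2

set_option autoImplicit false
open Cfsg

namespace Cfsg.Agent.S0319

open Cfsg.Agent.Lib.Helper1_BN Cfsg.Agent.Lib.Helper1_BN2

/-- if left multiplication by `s` does not increase the length of `n`, then `s ∈ B n B n⁻¹ B` -/
theorem peel_specific {G : Type*} [Group G] (Q : Pre G) {n s : G} (hn : n ∈ Q.N) (hs : s ∈ Q.S)
    (hle : Q.len (s * n) ≤ Q.len n) :
    ∃ b ∈ Q.B, ∃ b1 ∈ Q.B, ∃ b2 ∈ Q.B, s = b * n * b1 * n⁻¹ * b2 := by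
  have hsN := Q.S_mem_N hs
  have h1 : Q.len (n⁻¹ * s) = Q.len (s * n) := by
    rw [← Q.len_inv (Q.N.mul_mem (Q.N.inv_mem hn) hsN)]
    have e : (n⁻¹ * s)⁻¹ = (s * s)⁻¹ * (s * n) := by group
    rw [e, Q.len_T_mul (Q.N.mul_mem hsN hn) (Q.T.inv_mem (Q.sq_mem_T hs))]
  have h2 : Q.len (n⁻¹ * s) ≤ Q.len n⁻¹ := by rw [h1, Q.len_inv hn]; exact hle
  obtain ⟨b, hb, b1, hb1, b2, hb2, heq⟩ := Q.mul_right_of_ge (Q.N.inv_mem hn) hs h2
  refine ⟨b⁻¹, Q.B.inv_mem hb, b1, hb1, b2, hb2, ?_⟩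
  have : s = b⁻¹ * n * (n⁻¹ * b * s) := by group
  rw [this, heq]; group

/-- elements of `S ∩ BH` commute modulo `B` with elements of `S` outside `BH` -/
theorem comm_mem {G : Type*} [Group G] (P : Cfsg.BNPair G) (H : Subgroup G) [H.Normal]
    {s1 s2 : G} (hs1 : s1 ∈ P.S) (hs2 : s2 ∈ P.S) (h1 : s1 ∈ P.B ⊔ H) (h2 : s2 ∉ P.B ⊔ H) :
    s1 * s2 * s1⁻¹ * s2⁻¹ ∈ P.B := by
  set Q := ofBN P with hQ
  set M := P.B ⊔ H with hM
  have hBM : P.B ≤ M := le_sup_left
  have hHM : H ≤ M := le_sup_right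
  have hs1N : s1 ∈ Q.N := Q.S_mem_N hs1
  have hs2N : s2 ∈ Q.N := Q.S_mem_N hs2
  have hne : s1 ≠ s2 := fun h => h2 (h ▸ h1)
  -- s1 = b0 * h
  have h1' : s1 ∈ ((P.B ⊔ H : Subgroup G) : Set G) := h1
  rw [Subgroup.mul_normal] at h1'
  obtain ⟨b0, hb0, h, hh, hs1eq⟩ := Set.mem_mul.mp h1'
  have hheq : h = b0⁻¹ * s1 := by rw [← hs1eq]; group
  have hh' : s2 * h * s2⁻¹ ∈ H := Subgroup.Normal.conj_mem inferInstance h hh s2
  -- lengths
  have hl2 : Q.len s2 = 1 := Q.len_S hs2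
  have hl21 : Q.len (s2 * s1) = 2 := by
    have a1 := Q.len_mul_right_ne hs2N hs1
    have a2 := Q.len_mul_right_le hs1 hs2N
    have a3 : Q.len (s2 * s1) ≠ 0 := by
      intro h0
      have hB : s2 * s1 ∈ Q.B := (Q.len_eq_zero_iff (Q.N.mul_mem hs2N hs1N)).mp h0
      apply hne
      symm
      apply Q.inj s2 hs2 s1 hs1
      have : s2⁻¹ * s1 = (s2 * s2)⁻¹ * (s2 * s1) := by group
      rw [this]
      exact Q.B.mul_mem (Q.B.inv_mem (Q.sq_mem s2 hs2)) hB
    omega
  -- s2 b0⁻¹ s1 ∈ B s2 s1 B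
  have hR1 : Q.R (s2 * s1) (s2 * b0⁻¹ * s1) :=
    Q.mul_right_of_le hs2N hs1 (by rw [hl2, hl21]; norm_num) (Q.B.inv_mem hb0)
  obtain ⟨c1, hc1, c2, hc2, hc⟩ := hR1
  -- z = s2 s1 c2 s2 ∈ M
  have hz : s2 * s1 * c2 * s2 = c1⁻¹ * (s2 * h * s2⁻¹) * (s2 * s2) := by
    have : s2 * h * s2⁻¹ = (s2 * b0⁻¹ * s1) * s2⁻¹ := by rw [hheq]; group
    rw [this, hc]; group
  have hzM : s2 * s1 * c2 * s2 ∈ M := by
    rw [hz]
    exact M.mul_mem (M.mul_mem (M.inv_mem (hBM hc1)) (hHM hh')) (hBM (Q.sq_mem s2 hs2))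
  have hs1M : s1 ∈ M := h1
  rcases Q.R_axiom_right hs2 (Q.N.mul_mem hs2N hs1N) hc2 with hR | hR
  · -- w = s2 s1 s2 ∈ M
    obtain ⟨d1, hd1, d2, hd2, hd⟩ := hR
    have hwM : s2 * s1 * s2 ∈ M := by
      have : s2 * s1 * s2 = d1⁻¹ * (s2 * s1 * c2 * s2) * d2⁻¹ := by rw [hd]; group
      rw [this]
      exact M.mul_mem (M.mul_mem (M.inv_mem (hBM hd1)) hzM) (M.inv_mem (hBM hd2))
    have hwN : s2 * s1 * s2 ∈ Q.N := Q.N.mul_mem (Q.N.mul_mem hs2N hs1N) hs2N
    have b1 := Q.len_mul_right_ne (Q.N.mul_mem hs2N hs1N) hs2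
    have b2 := Q.len_mul_right_le hs2 (Q.N.mul_mem hs2N hs1N)
    have b3 := Q.len_le_mul_right hs2 (Q.N.mul_mem hs2N hs1N)
    have hlw : Q.len (s2 * s1 * s2) = 1 := by
      by_contra hcon
      have hl3 : Q.len (s2 * s1 * s2) = 3 := by omega
      -- then s2 ∈ M
      have hle : Q.len (s2 * (s2 * s1 * s2)) ≤ Q.len (s2 * s1 * s2) := by
        have e : s2 * (s2 * s1 * s2) = (s2 * s2) * (s1 * s2) := by group
        rw [e, Q.len_T_mul (Q.N.mul_mem hs1N hs2N) (Q.sq_mem_T hs2), hl3]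
        have := Q.len_mul_right_le hs2 hs1N
        have := Q.len_S hs1
        omega
      obtain ⟨e0, he0, e1, he1, e2, he2, heq⟩ := peel_specific Q hwN hs2 hle
      apply h2
      rw [heq]
      exact M.mul_mem (M.mul_mem (M.mul_mem (M.mul_mem (hBM he0) hwM) (hBM he1)) (M.inv_mem hwM))
        (hBM he2)
    -- w ≡ s' ∈ S
    obtain ⟨L, hL, hlen⟩ := Q.exists_Rep_len hwN
    rw [hlw] at hlen
    match L, hL, hlen with
    | [s'], hL, _ =>
      have hs' : s' ∈ P.S := hL.1 s' (by simp)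
      have hws' : (s2 * s1 * s2)⁻¹ * s' ∈ P.B := by
        have h4' : (s2 * s1 * s2)⁻¹ * [s'].prod ∈ Q.B := hL.2
        rw [List.prod_singleton] at h4'
        exact h4'
      -- s1 ∈ parabolic {s', s2}
      have hJ : ({s', s2} : Set G) ⊆ P.S := by
        intro x hx
        rcases hx with rfl | hx
        · exact hs'
        · rw [Set.mem_singleton_iff] at hx; rw [hx]; exact hs2
      have hs1J : s1 ∈ P.parabolic {s', s2} := by
        have hB' : P.B ≤ P.parabolic {s', s2} := le_sup_left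
        have m1 : s' ∈ P.parabolic {s', s2} :=
          Subgroup.mem_sup_right (Subgroup.subset_closure (by simp))
        have m2 : s2 ∈ P.parabolic {s', s2} :=
          Subgroup.mem_sup_right (Subgroup.subset_closure (by simp))
        have : s1 = s2⁻¹ * (s' * ((s2 * s1 * s2)⁻¹ * s')⁻¹) * s2⁻¹ := by group
        rw [this]
        exact Subgroup.mul_mem _ (Subgroup.mul_mem _ (Subgroup.inv_mem _ m2)
          (Subgroup.mul_mem _ m1 (Subgroup.inv_mem _ (hB' hws')))) (Subgroup.inv_mem _ m2)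
      have hmem := mem_of_mem_parabolic P hJ hs1 hs1J
      have hs1s' : s1 = s' := by
        rcases hmem with h | h
        · exact h
        · rw [Set.mem_singleton_iff] at h; exact absurd h hne
      rw [← hs1s'] at hws'
      -- conclude
      have ht : s1⁻¹ * (s2 * s1 * s2) ∈ Q.T := by
        refine ⟨?_, Q.N.mul_mem (Q.N.inv_mem hs1N) hwN⟩
        have : s1⁻¹ * (s2 * s1 * s2) = ((s2 * s1 * s2)⁻¹ * s1)⁻¹ := by group
        rw [this]; exact Q.B.inv_mem hws'
      have hfin : (s1 * s2 * s1⁻¹ * s2⁻¹)⁻¹ =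
          s1 * ((s1⁻¹ * (s2 * s1 * s2)) * (s2 * s2)⁻¹) * s1⁻¹ := by group
      have : (s1 * s2 * s1⁻¹ * s2⁻¹)⁻¹ ∈ Q.B := by
        rw [hfin]
        exact Q.T_le_B (Q.conj_mem_T hs1N (Q.T.mul_mem ht (Q.T.inv_mem (Q.sq_mem_T hs2))))
      have h5 := Q.B.inv_mem this
      rwa [inv_inv] at h5
  · -- s2 s1 ∈ M, so s2 ∈ M
    exfalso
    obtain ⟨d1, hd1, d2, hd2, hd⟩ := hR
    have hwM : s2 * s1 ∈ M := by
      have : s2 * s1 = d1⁻¹ * (s2 * s1 * c2 * s2) * d2⁻¹ := by rw [hd]; group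
      rw [this]
      exact M.mul_mem (M.mul_mem (M.inv_mem (hBM hd1)) hzM) (M.inv_mem (hBM hd2))
    apply h2
    have : s2 = (s2 * s1) * s1⁻¹ := by group
    rw [this]
    exact M.mul_mem hwM (M.inv_mem hs1M)

theorem result {G : Type*} [Group G] [Nontrivial G]
    (P : Cfsg.BNPair G) (hirr : P.Irreducible) (hsolv : Group.IsSolvable P.B) (hperf : commutator G = ⊤)
    (hcore : P.B.normalCore = ⊥) : IsSimpleGroup G := by
  refine ⟨fun H hH => ?_⟩
  have := hH
  set M := P.B ⊔ H with hM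
  have hBM : P.B ≤ M := le_sup_left
  have hMeq := Cfsg.Agent.S0311.eq_parabolic P M hBM
  set X := P.S ∩ (M : Set G) with hX
  -- X = ∅ or X = S
  have hcases : X = ∅ ∨ P.S \ X = ∅ := by
    by_contra hcon
    push Not at hcon
    obtain ⟨hne1, hne2⟩ := hcon
    obtain ⟨s, hs, s', hs', hnot⟩ := hirr X Set.inter_subset_left
      hne1 hne2
    apply hnot
    apply comm_mem P H hs.1 hs'.1 hs.2
    intro hmem
    exact hs'.2 ⟨hs'.1, hmem⟩
  rcases hcases with h0 | h0
  · -- M = B, so H ≤ B, so H = ⊥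
    left
    have hMB : M = P.B := by
      rw [hMeq, h0]
      unfold Cfsg.BNPair.parabolic
      rw [Subgroup.closure_empty, sup_bot_eq]
    have hHB : H ≤ P.B := by rw [← hMB]; exact le_sup_right
    have : H ≤ P.B.normalCore := Subgroup.normal_le_normalCore.mpr hHB
    rw [hcore] at this
    exact le_bot_iff.mp this
  · -- M = ⊤
    right
    have hXS : X = P.S := by
      apply Set.Subset.antisymm Set.inter_subset_left
      intro s hs
      by_contra hsX
      have : s ∈ P.S \ X := ⟨hs, hsX⟩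
      rw [h0] at this
      exact this
    have hMtop : M = ⊤ := by
      rw [eq_top_iff, ← P.sup_eq_top, hMeq, hXS]
      apply sup_le le_sup_left
      rw [← P.closure_sup]
      apply sup_le
      · exact le_sup_right
      · exact inf_le_left.trans le_sup_left
    -- G ⧸ H is solvable and perfect
    have hsurj : Function.Surjective ((QuotientGroup.mk' H).comp P.B.subtype) := by
      intro q
      obtain ⟨g, rfl⟩ := QuotientGroup.mk'_surjective H q
      have hg : g ∈ ((P.B ⊔ H : Subgroup G) : Set G) := by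
        show g ∈ M
        rw [hMtop]; trivial
      rw [Subgroup.mul_normal] at hg
      obtain ⟨b, hb, h, hh, rfl⟩ := Set.mem_mul.mp hg
      refine ⟨⟨b, hb⟩, ?_⟩
      simp only [MonoidHom.coe_comp, Function.comp_apply, Subgroup.coe_subtype,
        QuotientGroup.mk'_apply]
      rw [QuotientGroup.eq]
      have : b⁻¹ * (b * h) = h := by group
      rw [this]; exact hh
    have : Group.IsSolvable (G ⧸ H) := Group.isSolvable_of_surjective hsurj
    have hperfQ : commutator (G ⧸ H) = ⊤ := by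
      have h1 := Subgroup.map_commutator (⊤ : Subgroup G) ⊤ (QuotientGroup.mk' H)
      have hmap : Subgroup.map (QuotientGroup.mk' H) ⊤ = ⊤ :=
        Subgroup.map_top_of_surjective _ (QuotientGroup.mk'_surjective H)
      rw [hmap, ← commutator_def, ← commutator_def, hperf, hmap] at h1
      exact h1.symm
    rcases subsingleton_or_nontrivial (G ⧸ H) with hsub | hnt
    · exact QuotientGroup.subgroup_eq_top_of_subsingleton H hsub
    · exfalso
      have := Group.IsSolvable.commutator_lt_top_of_nontrivial (G ⧸ H)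
      rw [hperfQ] at this
      exact lt_irrefl _ this

end Cfsg.Agent.S0319
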