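import Mathlib
import Cfsg.Statements.S0321
import Cfsg.Agent.Lib.Helper1_BN2

set_option autoImplicit false
open Cfsg

namespace Cfsg.Agent.S0321

open Cfsg.Agent.Lib.Helper1_BN Cfsg.Agent.Lib.Helper1_BN2

/-- elements of `closure {s}` are congruent to `1` or `s` modulo `T` -/
theorem closure_singleton_cases {G : Type*} [Group G] (Q : Pre G) {s : G} (hs : s ∈ Q.S) :
    ∀ m ∈ Subgroup.closure ({s} : Set G), m ∈ Q.T ∨ s⁻¹ * m ∈ Q.T := by
  have hsN := Q.S_mem_N hs
  intro m hm
  induction hm using Subgroup.closure_induction with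
  | mem x hx =>
    rw [Set.mem_singleton_iff] at hx
    subst hx
    right
    rw [inv_mul_cancel]; exact Q.T.one_mem
  | one => left; exact Q.T.one_mem
  | mul x y _ _ ihx ihy =>
    rcases ihx with hx | hx <;> rcases ihy with hy | hy
    · left; exact Q.T.mul_mem hx hy
    · right
      have : s⁻¹ * (x * y) = (s⁻¹ * x * s) * (s⁻¹ * y) := by group
      rw [this]
      exact Q.T.mul_mem (Q.conj_mem_T' hsN hx) hy
    · right
      have : s⁻¹ * (x * y) = (s⁻¹ * x) * y := by group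
      rw [this]
      exact Q.T.mul_mem hx hy
    · left
      have : x * y = (s * (s⁻¹ * x) * s⁻¹) * (s * s) * (s⁻¹ * y) := by group
      rw [this]
      exact Q.T.mul_mem (Q.T.mul_mem (Q.conj_mem_T hsN hx) (Q.sq_mem_T hs)) hy
  | inv x _ ih =>
    rcases ih with hx | hx
    · left; exact Q.T.inv_mem hx
    · right
      have : s⁻¹ * x⁻¹ = (s⁻¹ * (s⁻¹ * x)⁻¹ * s) * (s * s)⁻¹ := by group
      rw [this]
      exact Q.T.mul_mem (Q.conj_mem_T' hsN (Q.T.inv_mem hx)) (Q.T.inv_mem (Q.sq_mem_T hs))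

theorem result {G : Type*} [Group G] (P : Cfsg.BNPair G) {n : G}
    (hn : n ∈ P.N) (hnB : n ∉ P.B) :
    (∃ H : Subgroup G, (H : Set G) = (P.B : Set G) ∪ DoubleCoset.doubleCoset n (P.B : Set G) P.B) ↔ ∃ s ∈ P.S, s⁻¹ * n ∈ P.B := by
  set Q := ofBN P with hQ
  constructor
  · rintro ⟨H, hH⟩
    have hBH : P.B ≤ H := by
      intro b hb
      have : b ∈ (H : Set G) := by rw [hH]; exact Or.inl hb
      exact this
    have hnH : n ∈ H := by
      have : n ∈ (H : Set G) := by
        rw [hH]; exact Or.inr (DoubleCoset.mem_doubleCoset_self _ _ _)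
      exact this
    have hlen : Q.len n ≠ 0 := by
      rw [Ne, Q.len_eq_zero_iff hn]; exact hnB
    obtain ⟨k, hk⟩ := Nat.exists_eq_succ_of_ne_zero hlen
    obtain ⟨s, hs, n', _, _, _, b, hb, b1, hb1, b2, hb2, hseq⟩ := Q.exists_peel hn hk
    have hsH : s ∈ H := by
      rw [hseq]
      exact H.mul_mem (H.mul_mem (H.mul_mem (H.mul_mem (hBH hb) hnH) (hBH hb1)) (H.inv_mem hnH))
        (hBH hb2)
    have hs' : s ∈ (P.B : Set G) ∪ DoubleCoset.doubleCoset n (P.B : Set G) P.B := by
      rw [← hH]; exact hsH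
    rcases hs' with hsB | hsn
    · exact absurd hsB (Q.S_not_mem_B hs)
    · have hR : Q.R n s := (Q.R_iff_mem n s).mpr hsn
      have h1 := Q.uniq hn (Q.S_mem_N hs) hR
      refine ⟨s, hs, ?_⟩
      have : s⁻¹ * n = (n⁻¹ * s)⁻¹ := by group
      rw [this]; exact P.B.inv_mem h1
  · rintro ⟨s, hs, hsn⟩
    have hRsn : Q.R s n := Q.R_of_inv_mul hsn
    have hJ : ({s} : Set G) ⊆ P.S := Set.singleton_subset_iff.mpr hs
    refine ⟨P.parabolic {s}, ?_⟩
    ext g
    constructor
    · intro hg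
      obtain ⟨m, hm, hgm⟩ := (Cfsg.Agent.S0310.result P hJ g).mp hg
      have hRmg : Q.R m g := (Q.R_iff_mem m g).mpr hgm
      rcases closure_singleton_cases Q hs m hm with hmT | hmT
      · left
        exact Q.R_mem_B hRmg (Q.T_le_B hmT)
      · right
        have hRsm : Q.R s m := Q.R_of_inv_mul (Q.T_le_B hmT)
        exact (Q.R_iff_mem n g).mp (Q.R_trans (Q.R_symm hRsn) (Q.R_trans hRsm hRmg))
    · rintro (hg | hg)
      · exact Subgroup.mem_sup_left hg
      · have hR : Q.R n g := (Q.R_iff_mem n g).mpr hg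
        obtain ⟨b1, hb1, b2, hb2, rfl⟩ := Q.R_trans hRsn hR
        have hB : P.B ≤ P.parabolic {s} := le_sup_left
        have hsP : s ∈ P.parabolic {s} :=
          Subgroup.mem_sup_right (Subgroup.subset_closure (Set.mem_singleton s))
        exact Subgroup.mul_mem _ (Subgroup.mul_mem _ (hB hb1) hsP) (hB hb2)

end Cfsg.Agent.S0321
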