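import Mathlib
import Cfsg.Statements.S0322
import Cfsg.Agent.Lib.Helper1_BN2
import Cfsg.Agent.S0321

set_option autoImplicit false
open Cfsg

namespace Cfsg.Agent.S0322

open Cfsg.Agent.Lib.Helper1_BN Cfsg.Agent.Lib.Helper1_BN2

/-- in rank one, every element outside `B` lies in `B s B` -/
theorem mem_BsB {G : Type*} [Group G] (P : Cfsg.BNPair G) {s : G} (hS : P.S = {s}) {g : G}
    (hg : g ∉ P.B) : (ofBN P).R s g := by
  set Q := ofBN P with hQ
  have hs : s ∈ Q.S := by
    show s ∈ P.S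
    rw [hS]; exact Set.mem_singleton s
  obtain ⟨n, hn, hgn⟩ := Cfsg.Agent.S0308.result P g
  have hRng : Q.R n g := (Q.R_iff_mem n g).mpr hgn
  obtain ⟨L, hL⟩ := Q.exists_Rep (n := n) hn
  have hLmem : L.prod ∈ Subgroup.closure ({s} : Set G) := by
    apply Subgroup.list_prod_mem
    intro x hx
    have : x ∈ P.S := hL.1 x hx
    rw [hS] at this
    exact Subgroup.subset_closure this
  have hRnL : Q.R n L.prod := Q.R_of_inv_mul hL.2
  rcases Cfsg.Agent.S0321.closure_singleton_cases Q hs _ hLmem with h | h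
  · exfalso
    apply hg
    have h1 : n ∈ Q.B := Q.R_mem_B (Q.R_symm hRnL) (Q.T_le_B h)
    exact Q.R_mem_B hRng h1
  · have hRsL : Q.R s L.prod := Q.R_of_inv_mul (Q.T_le_B h)
    exact Q.R_trans hRsL (Q.R_trans (Q.R_symm hRnL) hRng)

/-- A group with a (B,N)-pair of rank one acts doubly transitively on the left cosets of `B`. -/
theorem result {G : Type*} [Group G] (P : Cfsg.BNPair G) (h : P.rank = 1) : MulAction.IsMultiplyPretransitive G (G ⧸ P.B) 2 := by
  have hS : ∃ s, P.S = {s} := by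
    unfold Cfsg.BNPair.rank at h
    obtain ⟨hsub, hne⟩ := Nat.card_eq_one_iff_unique.mp h
    obtain ⟨⟨s, hs⟩⟩ := hne
    refine ⟨s, ?_⟩
    ext x
    constructor
    · intro hx
      have : (⟨x, hx⟩ : P.S) = ⟨s, hs⟩ := Subsingleton.elim _ _
      exact congrArg Subtype.val this
    · intro hx
      rw [Set.mem_singleton_iff] at hx
      rw [hx]; exact hs
  obtain ⟨s, hS⟩ := hS
  rw [MulAction.is_two_pretransitive_iff]
  intro a b c d hab hcd
  induction a using QuotientGroup.induction_on with | H x => ?_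
  induction b using QuotientGroup.induction_on with | H y => ?_
  induction c using QuotientGroup.induction_on with | H x' => ?_
  induction d using QuotientGroup.induction_on with | H y' => ?_
  have h1 : x⁻¹ * y ∉ P.B := fun hmem => hab (QuotientGroup.eq.mpr hmem)
  have h2 : x'⁻¹ * y' ∉ P.B := fun hmem => hcd (QuotientGroup.eq.mpr hmem)
  obtain ⟨b1, hb1, b2, hb2, e1⟩ := mem_BsB P hS h1
  obtain ⟨c1, hc1, c2, hc2, e2⟩ := mem_BsB P hS h2
  refine ⟨x' * c1 * b1⁻¹ * x⁻¹, ?_, ?_⟩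
  · show ((x' * c1 * b1⁻¹ * x⁻¹ * x : G) : G ⧸ P.B) = (x' : G ⧸ P.B)
    rw [QuotientGroup.eq]
    have : (x' * c1 * b1⁻¹ * x⁻¹ * x)⁻¹ * x' = b1 * c1⁻¹ := by group
    rw [this]
    exact P.B.mul_mem hb1 (P.B.inv_mem hc1)
  · show ((x' * c1 * b1⁻¹ * x⁻¹ * y : G) : G ⧸ P.B) = (y' : G ⧸ P.B)
    rw [QuotientGroup.eq]
    have hy : y = x * (b1 * s * b2) := by rw [← e1]; group
    have hy' : y' = x' * (c1 * s * c2) := by rw [← e2]; group
    have : (x' * c1 * b1⁻¹ * x⁻¹ * y)⁻¹ * y' = b2⁻¹ * c2 := by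
      rw [hy, hy']; group
    rw [this]
    exact P.B.mul_mem (P.B.inv_mem hb2) hc2

end Cfsg.Agent.S0322
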