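import Mathlib
import Cfsg.Statements.S0323

set_option autoImplicit false
open Cfsg

namespace Cfsg.Agent.S0323

open scoped Pointwise

variable {G Ω : Type*} [Group G] [MulAction G Ω]

/-- membership in the setwise stabiliser of a pair -/
theorem mem_pair_stab {x y : Ω} (hxy : x ≠ y) (n : G) :
    n ∈ MulAction.stabilizer G ({x, y} : Set Ω) ↔
      (n • x = x ∧ n • y = y) ∨ (n • x = y ∧ n • y = x) := by
  rw [MulAction.mem_stabilizer_iff, Set.smul_set_insert, Set.smul_set_singleton,
    Set.pair_eq_pair_iff]

theorem result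
    (h2 : MulAction.IsMultiplyPretransitive G Ω 2) {x y z : Ω} (hxy : x ≠ y) (hyz : y ≠ z) (hxz : x ≠ z) :
    ∃ P : Cfsg.BNPair G, P.B = MulAction.stabilizer G x ∧
      P.N = MulAction.stabilizer G ({x, y} : Set Ω) ∧ P.rank = 1 := by
  have tr : ∀ {a b c d : Ω}, a ≠ b → c ≠ d → ∃ g : G, g • a = c ∧ g • b = d :=
    MulAction.is_two_pretransitive_iff.mp h2
  obtain ⟨s, hsx, hsy⟩ := tr hxy (Ne.symm hxy)
  have hsinvx : s⁻¹ • x = y := by rw [← hsy, inv_smul_smul]
  have hsinvy : s⁻¹ • y = x := by rw [← hsx, inv_smul_smul]
  have hsN : s ∈ MulAction.stabilizer G ({x, y} : Set Ω) :=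
    (mem_pair_stab hxy s).mpr (Or.inr ⟨hsx, hsy⟩)
  -- every element moving x lies in B n B for n swapping x and y
  have key : ∀ n g : G, n • x = y → g • x ≠ x →
      g ∈ DoubleCoset.doubleCoset n ((MulAction.stabilizer G x : Subgroup G) : Set G)
        (MulAction.stabilizer G x) := by
    intro n g hn hg
    obtain ⟨b1, hb1x, hb1y⟩ := tr hxy (Ne.symm hg)
    rw [DoubleCoset.mem_doubleCoset]
    refine ⟨b1, hb1x, (b1 * n)⁻¹ * g, ?_, by group⟩
    show ((b1 * n)⁻¹ * g) • x = x
    rw [mul_smul, inv_smul_eq_iff, mul_smul, hn, hb1y]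
  refine ⟨{ B := MulAction.stabilizer G x
            N := MulAction.stabilizer G ({x, y} : Set Ω)
            S := {s}
            sup_eq_top := ?_
            conj_mem := ?_
            subset := ?_
            sq_mem := ?_
            inj := ?_
            closure_sup := ?_
            mul_mem_union := ?_
            conj_ne := ?_ }, rfl, rfl, ?_⟩
  · -- sup_eq_top
    rw [eq_top_iff]
    intro g _
    by_cases hg : g • x = x
    · exact Subgroup.mem_sup_left hg
    · obtain ⟨b, hbx, hby⟩ := tr (Ne.symm hg) hxy
      have h1 : s * b * g ∈ MulAction.stabilizer G x := by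
        show (s * b * g) • x = x
        rw [mul_smul, mul_smul, hby, hsy]
      have : g = b⁻¹ * (s⁻¹ * (s * b * g)) := by group
      rw [this]
      apply Subgroup.mul_mem
      · exact Subgroup.mem_sup_left (Subgroup.inv_mem _ hbx)
      · apply Subgroup.mul_mem
        · exact Subgroup.mem_sup_right (Subgroup.inv_mem _ hsN)
        · exact Subgroup.mem_sup_left h1
  · -- conj_mem
    intro n hn t ht
    obtain ⟨htx, htN⟩ := ht
    have htx' : t • x = x := htx
    have hty : t • y = y := by
      rcases (mem_pair_stab hxy t).mp htN with h | h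
      · exact h.2
      · exact absurd (htx'.symm.trans h.1) hxy
    show (n * t * n⁻¹) • x = x
    have hninv := (mem_pair_stab hxy n⁻¹).mp (Subgroup.inv_mem _ hn)
    rw [mul_smul, mul_smul]
    rcases hninv with h | h
    · rw [h.1, htx']
      exact (inv_smul_eq_iff.mp h.1).symm
    · rw [h.1, hty]
      exact (inv_smul_eq_iff.mp h.1).symm
  · -- subset
    intro a ha
    rw [Set.mem_singleton_iff] at ha
    rw [ha]; exact hsN
  · -- sq_mem
    intro a ha
    rw [Set.mem_singleton_iff] at ha
    subst ha
    show (a * a) • x = x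
    rw [mul_smul, hsx, hsy]
  · -- inj
    intro a ha a' ha' _
    rw [Set.mem_singleton_iff] at ha ha'
    rw [ha, ha']
  · -- closure_sup
    apply le_antisymm
    · apply sup_le
      · rw [Subgroup.closure_le]
        intro a ha
        rw [Set.mem_singleton_iff] at ha
        rw [ha]; exact hsN
      · exact inf_le_right
    · intro n hn
      rcases (mem_pair_stab hxy n).mp hn with h | h
      · exact Subgroup.mem_sup_right ⟨h.1, hn⟩
      · have h1 : s * n ∈ MulAction.stabilizer G x ⊓ MulAction.stabilizer G ({x, y} : Set Ω) := by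
          refine ⟨?_, Subgroup.mul_mem _ hsN hn⟩
          show (s * n) • x = x
          rw [mul_smul, h.1, hsy]
        have : n = s⁻¹ * (s * n) := by group
        rw [this]
        apply Subgroup.mul_mem
        · exact Subgroup.mem_sup_left
            (Subgroup.inv_mem _ (Subgroup.subset_closure (Set.mem_singleton s)))
        · exact Subgroup.mem_sup_right h1
  · -- mul_mem_union
    intro a ha n hn b hb
    rw [Set.mem_singleton_iff] at ha
    subst ha
    have hbx : b • x = x := hb
    rcases (mem_pair_stab hxy n).mp hn with h | h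
    · -- n ∈ B
      left
      rw [DoubleCoset.mem_doubleCoset]
      refine ⟨1, Subgroup.one_mem _, n⁻¹ * b * n, ?_, by group⟩
      show (n⁻¹ * b * n) • x = x
      rw [mul_smul, mul_smul, h.1, hbx, inv_smul_eq_iff, h.1]
    · -- n swaps x and y
      by_cases hby : b • y = y
      · left
        rw [DoubleCoset.mem_doubleCoset]
        refine ⟨(a * b * n) * (a * n)⁻¹, ?_, 1, Subgroup.one_mem _, by group⟩
        show ((a * b * n) * (a * n)⁻¹) • x = x
        have h1 : (a * n)⁻¹ • x = x := by
          rw [inv_smul_eq_iff, mul_smul, h.1, hsy]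
        rw [mul_smul, h1, mul_smul, mul_smul, h.1, hby, hsy]
      · right
        apply key n (a * b * n) h.1
        rw [mul_smul, mul_smul, h.1]
        intro hcon
        apply hby
        have : b • y = a⁻¹ • x := by rw [← hcon, inv_smul_smul]
        rw [this, hsinvx]
  · -- conj_ne
    intro a ha
    rw [Set.mem_singleton_iff] at ha
    subst ha
    obtain ⟨b, hbx, hby⟩ := tr hxy hxz
    intro heq
    have hmem : a * b * a ∈ ((MulAction.stabilizer G x : Subgroup G) : Set G) := by
      rw [← heq]
      exact ⟨b, hbx, rfl⟩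
    have h1 : (a * b * a) • x = x := hmem
    rw [mul_smul, mul_smul, hsx, hby] at h1
    -- a • z = x, so z = y
    have : z = a⁻¹ • x := by rw [← h1, inv_smul_smul]
    rw [hsinvx] at this
    exact hyz this.symm
  · -- rank
    show Nat.card ({s} : Set G) = 1
    simp

end Cfsg.Agent.S0323
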