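import Mathlib
import Cfsg.Statements.S0326

set_option autoImplicit false
open Cfsg

namespace Cfsg.Agent.S0326

variable (F : Type*) [Field F] (m : ℕ)

/-- the affine representative vector -/
def vec (x y : F) : Fin 4 → F :=
  ![x * y + x ^ (2 ^ (m + 1) + 2) + y ^ (2 ^ (m + 1)), y, x, 1]

theorem vec_ne (x y : F) : vec F m x y ≠ 0 := by
  intro h
  have := congrFun h 3
  simp [vec] at this

def vinf : Fin 4 → F := ![1, 0, 0, 0]

theorem vinf_ne : vinf F ≠ 0 := by
  intro h
  have := congrFun h 0
  simp [vinf] at this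

/-- the parametrisation of the ovoid -/
def φ : Option (F × F) → Projectivization F (Fin 4 → F)
  | none => Projectivization.mk F (vinf F) (vinf_ne F)
  | some (x, y) => Projectivization.mk F (vec F m x y) (vec_ne F m x y)

theorem φ_injective : Function.Injective (φ F m) := by
  intro a b hab
  rcases a with _ | ⟨x, y⟩ <;> rcases b with _ | ⟨x', y'⟩
  · rfl
  · exfalso
    simp only [φ] at hab
    rw [Projectivization.mk_eq_mk_iff'] at hab
    obtain ⟨a, ha⟩ := hab
    have h3 := congrFun ha 3
    have h0 := congrFun ha 0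
    simp [vec, vinf] at h3 h0
    rw [h3] at h0
    simp at h0
  · exfalso
    simp only [φ] at hab
    rw [Projectivization.mk_eq_mk_iff'] at hab
    obtain ⟨a, ha⟩ := hab
    have h3 := congrFun ha 3
    simp [vec, vinf] at h3
  · simp only [φ] at hab
    rw [Projectivization.mk_eq_mk_iff'] at hab
    obtain ⟨a, ha⟩ := hab
    have h3 := congrFun ha 3
    have h2 := congrFun ha 2
    have h1 := congrFun ha 1
    simp [vec] at h3 h2 h1
    subst h3
    simp at h2 h1
    rw [h2, h1]

theorem range_φ : Set.range (φ F m) = Cfsg.suzukiOvoid F m := by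
  ext p
  constructor
  · rintro ⟨a, rfl⟩
    rcases a with _ | ⟨x, y⟩
    · exact ⟨vinf F, vinf_ne F, rfl, Or.inl rfl⟩
    · exact ⟨vec F m x y, vec_ne F m x y, rfl, Or.inr ⟨x, y, rfl⟩⟩
  · rintro ⟨v, hv, rfl, h | ⟨x, y, h⟩⟩
    · subst h
      exact ⟨none, rfl⟩
    · subst h
      exact ⟨some (x, y), rfl⟩

/-- The Suzuki–Tits ovoid over a finite field with `q` elements has `q² + 1` points. -/
theorem result {F : Type*} [Field F] [Fintype F] (m : ℕ) :
    Nat.card (Cfsg.suzukiOvoid F m) = Fintype.card F ^ 2 + 1 := by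
  rw [← range_φ F m]
  rw [Nat.card_congr (Equiv.ofInjective (φ F m) (φ_injective F m)).symm]
  rw [Nat.card_eq_fintype_card, Fintype.card_option, Fintype.card_prod, pow_two]

end Cfsg.Agent.S0326
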