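import Cfsg.Statements.S0338
import Mathlib
import Cfsg.Agent.Lib.Helper3_Zass
import Cfsg.Agent.S0740

set_option autoImplicit false
open Cfsg

namespace Cfsg.Agent.S0338

/-- A Zassenhaus group of odd degree is a simple group. -/
theorem result {G Ω : Type*} [Group G] [MulAction G Ω] [Fintype Ω]
    (hZ : Cfsg.IsZassenhausGroup G Ω) (hodd : Odd (Fintype.card Ω)) : IsSimpleGroup G := by
  classical
  have hZ' := hZ
  obtain ⟨hF, h2, h3, h4, hreg⟩ := hZ'
  haveI : Finite G := Cfsg.Agent.Lib.Helper3_Zass.finite_of_faithful hF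
  obtain ⟨g0, hg0, a, b, hab, -, -⟩ := h4
  haveI : Nontrivial G := ⟨⟨g0, 1, hg0⟩⟩
  refine { toNontrivial := inferInstance, eq_bot_or_eq_top_of_normal := ?_ }
  intro N hNn
  by_cases hN : N = ⊥
  · exact Or.inl hN
  right
  obtain ⟨hZN, h2N⟩ := Cfsg.Agent.Lib.Helper3_Zass.zass_normal hZ N hN
  obtain ⟨⟨s, hs2, hsa, hsb⟩, hfixs, -⟩ := Cfsg.Agent.S0740.result hZN hab
  have hfix1 := (hfixs s hs2 hsa hsb).1 hodd
  rw [Nat.card_eq_one_iff_unique] at hfix1
  obtain ⟨hsub, ⟨⟨c, hc⟩⟩⟩ := hfix1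
  have hcs : (s : G) • c = c := hc
  have hcu : ∀ c' : Ω, (s : G) • c' = c' → c' = c := by
    intro c' hc'
    have := hsub.elim (⟨c', hc'⟩ : MulAction.fixedBy Ω s) ⟨c, hc⟩
    exact congrArg Subtype.val this
  have hsa' : (s : G) • a = b := hsa
  have hsb' : (s : G) • b = a := hsb
  have hsia : (s : G)⁻¹ • a = b := by rw [inv_smul_eq_iff, hsb']
  have hsib : (s : G)⁻¹ • b = a := by rw [inv_smul_eq_iff, hsa']
  have hca : a ≠ c := by
    intro h
    apply hab
    rw [← h] at hcs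
    exact hcs.symm.trans hsa'
  have hcb : b ≠ c := by
    intro h
    apply hab
    rw [← h] at hcs
    exact hsb'.symm.trans hcs
  -- the two point stabiliser lies in `N`
  set D : Subgroup G := MulAction.stabilizer G a ⊓ MulAction.stabilizer G b with hD
  have hmemD : ∀ x : G, x ∈ D ↔ x • a = a ∧ x • b = b := by
    intro x
    rw [hD, Subgroup.mem_inf, MulAction.mem_stabilizer_iff, MulAction.mem_stabilizer_iff]
  have hφmem : ∀ d : D, (s : G) * (d : G) * (s : G)⁻¹ * (d : G)⁻¹ ∈ D := by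
    intro d
    obtain ⟨hda, hdb⟩ := (hmemD _).mp d.2
    have hdia : (d : G)⁻¹ • a = a := by rw [inv_smul_eq_iff, hda]
    have hdib : (d : G)⁻¹ • b = b := by rw [inv_smul_eq_iff, hdb]
    rw [hmemD]
    constructor
    · rw [mul_smul, mul_smul, mul_smul, hdia, hsia, hdb, hsb']
    · rw [mul_smul, mul_smul, mul_smul, hdib, hsib, hda, hsa']
  let φ : D → D := fun d => ⟨(s : G) * (d : G) * (s : G)⁻¹ * (d : G)⁻¹, hφmem d⟩
  have hφinj : Function.Injective φ := by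
    intro d e hde
    have h1 : (s : G) * (d : G) * (s : G)⁻¹ * (d : G)⁻¹ = (s : G) * (e : G) * (s : G)⁻¹ * (e : G)⁻¹ :=
      congrArg Subtype.val hde
    have hcomm : ((e : G)⁻¹ * (d : G)) * (s : G) = (s : G) * ((e : G)⁻¹ * (d : G)) := by
      have h2 : (d : G) * (s : G)⁻¹ * (d : G)⁻¹ = (e : G) * (s : G)⁻¹ * (e : G)⁻¹ := by
        have : (d : G) * (s : G)⁻¹ * (d : G)⁻¹ =
            (s : G)⁻¹ * ((s : G) * (d : G) * (s : G)⁻¹ * (d : G)⁻¹) := by group
        rw [this, h1]; group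
      have h3 : (s : G)⁻¹ * ((e : G)⁻¹ * (d : G)) = ((e : G)⁻¹ * (d : G)) * (s : G)⁻¹ := by
        calc (s : G)⁻¹ * ((e : G)⁻¹ * (d : G))
            = (e : G)⁻¹ * ((e : G) * (s : G)⁻¹ * (e : G)⁻¹) * (d : G) := by group
          _ = (e : G)⁻¹ * ((d : G) * (s : G)⁻¹ * (d : G)⁻¹) * (d : G) := by rw [h2]
          _ = ((e : G)⁻¹ * (d : G)) * (s : G)⁻¹ := by group
      calc ((e : G)⁻¹ * (d : G)) * (s : G)
          = (s : G) * ((s : G)⁻¹ * ((e : G)⁻¹ * (d : G))) * (s : G) := by group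
        _ = (s : G) * (((e : G)⁻¹ * (d : G)) * (s : G)⁻¹) * (s : G) := by rw [h3]
        _ = (s : G) * ((e : G)⁻¹ * (d : G)) := by group
    obtain ⟨hda, hdb⟩ := (hmemD _).mp d.2
    obtain ⟨hea, heb⟩ := (hmemD _).mp e.2
    have hxa : ((e : G)⁻¹ * (d : G)) • a = a := by rw [mul_smul, hda, inv_smul_eq_iff, hea]
    have hxb : ((e : G)⁻¹ * (d : G)) • b = b := by rw [mul_smul, hdb, inv_smul_eq_iff, heb]
    have hxc : ((e : G)⁻¹ * (d : G)) • c = c := by
      apply hcu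
      rw [← mul_smul, ← hcomm, mul_smul, hcs]
    have hx1 := h3 _ a b c hab hcb hca hxa hxb hxc
    apply Subtype.ext
    calc (d : G) = (e : G) * ((e : G)⁻¹ * (d : G)) := by group
      _ = (e : G) := by rw [hx1, mul_one]
  have hφsurj : Function.Surjective φ := Finite.injective_iff_surjective.mp hφinj
  have hDN : D ≤ N := by
    intro x hx
    obtain ⟨d, hd⟩ := hφsurj ⟨x, hx⟩
    have h1 : (s : G) * (d : G) * (s : G)⁻¹ * (d : G)⁻¹ = x := congrArg Subtype.val hd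
    rw [← h1]
    have h2 : (d : G) * (s : G)⁻¹ * (d : G)⁻¹ ∈ N := hNn.conj_mem _ (N.inv_mem s.2) _
    have h3 := N.mul_mem s.2 h2
    have e : (s : G) * ((d : G) * (s : G)⁻¹ * (d : G)⁻¹) = (s : G) * (d : G) * (s : G)⁻¹ * (d : G)⁻¹ := by
      group
    rw [e] at h3
    exact h3
  rw [eq_top_iff]
  intro g _
  have hgab : g • a ≠ g • b := fun h => hab (smul_left_cancel g h)
  obtain ⟨n, hnN, hna, hnb⟩ := h2N a b (g • a) (g • b) hab hgab
  have hmem : n⁻¹ * g ∈ D := by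
    rw [hmemD]
    constructor
    · rw [mul_smul, inv_smul_eq_iff, hna]
    · rw [mul_smul, inv_smul_eq_iff, hnb]
  have : g = n * (n⁻¹ * g) := by group
  rw [this]
  exact N.mul_mem hnN (hDN hmem)

end Cfsg.Agent.S0338
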