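import Cfsg.Statements.S0350
import Mathlib
import Cfsg.Agent.Lib.Helper1_Steiner

set_option autoImplicit false
open Cfsg

namespace Cfsg.Agent.S0350

open Cfsg.Agent.Lib.Helper1_Steiner

theorem result {α : Type*} [Fintype α] [DecidableEq α] {t k : ℕ} {B : Set (Finset α)} (hB : Cfsg.IsSteinerSystem t k B) : B.ncard * Nat.choose k t = Nat.choose (Fintype.card α) t := by
  have h := lam_mul hB ∅ (by simp)
  have h2 : lam B (∅ : Finset α) = B.ncard := by
    rw [lam, ncard_eq_card_blocks]
    congr 1
    apply Finset.filter_true_of_mem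
    intro b _
    exact Finset.empty_subset b
  rw [h2] at h
  simpa using h

end Cfsg.Agent.S0350
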