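import Cfsg.Statements.S0351
import Mathlib

set_option autoImplicit false
open Cfsg

namespace Cfsg.Agent.S0351

theorem result {α : Type*} [Fintype α] [DecidableEq α] {t k : ℕ} {B : Set (Finset α)} (hB : Cfsg.IsSteinerSystem (t + 1) (k + 1) B) (p : α) : Cfsg.IsSteinerSystem t k {b' : Finset {a : α // a ≠ p} | ∃ b ∈ B, p ∈ b ∧ b' = Finset.subtype (fun a => a ≠ p) b} := by
  constructor
  · rintro b' ⟨b, hb, hpb, rfl⟩
    rw [Finset.card_subtype, Finset.filter_ne' b p, Finset.card_erase_of_mem hpb, hB.1 b hb]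
    rfl
  · intro s hs
    set s' : Finset α := insert p (s.map (Function.Embedding.subtype _)) with hs'
    have hp : p ∉ s.map (Function.Embedding.subtype (fun a => a ≠ p)) := by
      intro h
      rw [Finset.mem_map] at h
      obtain ⟨x, _, hx⟩ := h
      exact x.2 hx
    have hcard : s'.card = t + 1 := by
      rw [hs', Finset.card_insert_of_notMem hp, Finset.card_map, hs]
    obtain ⟨b, ⟨hbB, hsb⟩, huniq⟩ := hB.2 s' hcard
    have hpb : p ∈ b := hsb (Finset.mem_insert_self p _)
    have hmem : ∀ (c : Finset α), s' ⊆ c ↔ p ∈ c ∧ s ⊆ Finset.subtype (fun a => a ≠ p) c := by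
      intro c
      constructor
      · intro h
        refine ⟨h (Finset.mem_insert_self p _), ?_⟩
        intro x hx
        rw [Finset.mem_subtype]
        apply h
        apply Finset.mem_insert_of_mem
        rw [Finset.mem_map]
        exact ⟨x, hx, rfl⟩
      · rintro ⟨hpc, hsc⟩ y hy
        rw [hs', Finset.mem_insert, Finset.mem_map] at hy
        rcases hy with rfl | ⟨x, hx, rfl⟩
        · exact hpc
        · have := hsc hx
          rw [Finset.mem_subtype] at this
          exact this
    refine ⟨Finset.subtype (fun a => a ≠ p) b, ⟨⟨b, hbB, hpb, rfl⟩, ((hmem b).mp hsb).2⟩, ?_⟩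
    rintro b'' ⟨⟨c, hcB, hpc, rfl⟩, hsc⟩
    have := huniq c ⟨hcB, (hmem c).mpr ⟨hpc, hsc⟩⟩
    rw [this]

end Cfsg.Agent.S0351
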