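import Cfsg.Statements.S0353
import Mathlib
import Cfsg.Agent.S0352

set_option autoImplicit false
open Cfsg

namespace Cfsg.Agent.S0353

open Cfsg.Agent.Lib.Helper1_Steiner Finset

variable {α : Type*} [Fintype α] [DecidableEq α]

/-- every block meets every block evenly -/
theorem even_inter (hα : Fintype.card α = 24) {B : Set (Finset α)}
    (hB : Cfsg.IsSteinerSystem 5 8 B) {b d : Finset α} (hb : b ∈ B) (hd : d ∈ B) :
    Even (d ∩ b).card := by
  by_cases h : d = b
  · subst h
    rw [inter_self, hB.1 d hd]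
    decide
  · rcases Cfsg.Agent.S0352.result hα hB hd hb h with h0 | h2 | h4
    · rw [h0]; decide
    · rw [h2]; decide
    · rw [h4]; decide

/-- helper: block through `insert s₁ Q` -/
theorem helper {B : Set (Finset α)} (hB : Cfsg.IsSteinerSystem 5 8 B) (S d : Finset α)
    (hd : d ∈ B) (hev : ∀ e ∈ B, Even (e ∩ S).card) (s₁ s₂ : α) (hs₁ : s₁ ∉ d)
    (hS : S = insert s₁ (insert s₂ (d ∩ S))) (hs₂ : s₂ ∉ d) (hs12 : s₁ ≠ s₂)
    (Q : Finset α) (hQ : Q ⊆ d ∩ S) (hQ4 : Q.card = 4) :
    ∃ e ∈ B, insert s₁ Q ⊆ e ∧ e ∩ d = Q ∧ s₂ ∈ e := by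
  have hs₁Q : s₁ ∉ Q := fun h => hs₁ (mem_inter.mp (hQ h)).1
  have hs₂Q : s₂ ∉ Q := fun h => hs₂ (mem_inter.mp (hQ h)).1
  have hcard : (insert s₁ Q).card = 5 := by rw [card_insert_of_notMem hs₁Q, hQ4]
  obtain ⟨e, ⟨heB, hsub⟩, -⟩ := hB.2 _ hcard
  have hs₁e : s₁ ∈ e := hsub (mem_insert_self _ _)
  have hQe : Q ⊆ e := fun x hx => hsub (mem_insert_of_mem hx)
  have hne : e ≠ d := fun h => hs₁ (h ▸ hs₁e)
  have hlt : (d ∩ e).card < 5 := inter_card_lt hB hd heB hne
  have hQde : Q ⊆ e ∩ d := fun x hx => mem_inter.mpr ⟨hQe hx, (mem_inter.mp (hQ hx)).1⟩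
  have hed : e ∩ d = Q := by
    symm
    apply eq_of_subset_of_card_le hQde
    rw [hQ4, inter_comm]
    omega
  refine ⟨e, heB, hsub, hed, ?_⟩
  by_contra hs₂e
  -- e ∩ S = insert s₁ Q
  have heS : e ∩ S = insert s₁ Q := by
    ext x
    constructor
    · intro hx
      rw [mem_inter] at hx
      obtain ⟨hxe, hxS⟩ := hx
      rw [hS, mem_insert, mem_insert] at hxS
      rcases hxS with rfl | rfl | hxd
      · exact mem_insert_self _ _
      · exact absurd hxe hs₂e
      · apply mem_insert_of_mem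
        rw [← hed]
        exact mem_inter.mpr ⟨hxe, (mem_inter.mp hxd).1⟩
    · intro hx
      rw [mem_insert] at hx
      rcases hx with rfl | hxQ
      · refine mem_inter.mpr ⟨hs₁e, ?_⟩
        rw [hS]
        exact mem_insert_self _ _
      · exact mem_inter.mpr ⟨hQe hxQ, (mem_inter.mp (hQ hxQ)).2⟩
  have := hev e heB
  rw [heS, hcard] at this
  exact absurd this (by decide)

/-- An `8`-set meeting all blocks evenly is a block. -/
theorem mem_of_even {B : Set (Finset α)} (hB : Cfsg.IsSteinerSystem 5 8 B) (S : Finset α)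
    (hS8 : S.card = 8) (hev : ∀ e ∈ B, Even (e ∩ S).card) : S ∈ B := by
  obtain ⟨F, hFS, hF5⟩ := exists_subset_card_eq (show 5 ≤ S.card by omega)
  obtain ⟨d, ⟨hdB, hFd⟩, -⟩ := hB.2 F hF5
  have hd8 : d.card = 8 := hB.1 d hdB
  have h5 : 5 ≤ (d ∩ S).card := by
    rw [← hF5]
    exact card_le_card (fun x hx => mem_inter.mpr ⟨hFd hx, hFS hx⟩)
  have h8 : (d ∩ S).card ≤ 8 := by
    rw [← hS8]
    exact card_le_card inter_subset_right
  have heven := hev d hdB
  have hcases : (d ∩ S).card = 6 ∨ (d ∩ S).card = 8 := by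
    obtain ⟨r, hr⟩ := heven
    omega
  rcases hcases with h6 | h8'
  · exfalso
    -- S \ d has two points
    have h2 : (S \ d).card = 2 := by
      have := card_sdiff_add_card_inter S d
      rw [inter_comm] at this
      omega
    obtain ⟨s₁, s₂, hs12, hSd⟩ := card_eq_two.mp h2
    have hs₁ : s₁ ∈ S \ d := by rw [hSd]; exact mem_insert_self _ _
    have hs₂ : s₂ ∈ S \ d := by rw [hSd]; exact mem_insert_of_mem (mem_singleton_self _)
    rw [mem_sdiff] at hs₁ hs₂
    have hSeq : S = insert s₁ (insert s₂ (d ∩ S)) := by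
      ext x
      rw [mem_insert, mem_insert, mem_inter]
      constructor
      · intro hx
        by_cases hxd : x ∈ d
        · exact Or.inr (Or.inr ⟨hxd, hx⟩)
        · have : x ∈ S \ d := mem_sdiff.mpr ⟨hx, hxd⟩
          rw [hSd, mem_insert, mem_singleton] at this
          rcases this with h | h
          · exact Or.inl h
          · exact Or.inr (Or.inl h)
      · rintro (rfl | rfl | h)
        · exact hs₁.1
        · exact hs₂.1
        · exact h.2
    -- choose Q ⊆ P of size 4 and a further point p₅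
    obtain ⟨Q, hQP, hQ4⟩ := exists_subset_card_eq (show 4 ≤ (d ∩ S).card by omega)
    have hex : ∃ p₅ ∈ d ∩ S, p₅ ∉ Q := by
      by_contra hcon
      push Not at hcon
      have : (d ∩ S).card ≤ Q.card := card_le_card hcon
      omega
    obtain ⟨p₅, hp₅P, hp₅Q⟩ := hex
    have hQne : Q.Nonempty := by
      rw [← card_pos]; omega
    obtain ⟨q, hq⟩ := hQne
    set Q' := insert p₅ (Q.erase q) with hQ'
    have hQ'P : Q' ⊆ d ∩ S := by
      intro x hx
      rw [hQ', mem_insert] at hx
      rcases hx with rfl | hx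
      · exact hp₅P
      · exact hQP (mem_of_mem_erase hx)
    have hQ'4 : Q'.card = 4 := by
      rw [hQ', card_insert_of_notMem (fun h => hp₅Q (mem_of_mem_erase h)),
        card_erase_of_mem hq, hQ4]
    obtain ⟨e, heB, hsube, hed, hs₂e⟩ :=
      helper hB S d hdB hev s₁ s₂ hs₁.2 hSeq hs₂.2 hs12 Q hQP hQ4
    obtain ⟨e', he'B, hsube', he'd, hs₂e'⟩ :=
      helper hB S d hdB hev s₁ s₂ hs₁.2 hSeq hs₂.2 hs12 Q' hQ'P hQ'4
    -- e ∩ e' ⊇ (Q.erase q) ∪ {s₁, s₂}
    have hee' : e' = e := by
      by_contra hne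
      have hlt := inter_card_lt hB heB he'B hne
      have hsub : insert s₁ (insert s₂ (Q.erase q)) ⊆ e ∩ e' := by
        intro x hx
        rw [mem_insert, mem_insert] at hx
        rcases hx with rfl | rfl | hx
        · exact mem_inter.mpr ⟨hsube (mem_insert_self _ _), hsube' (mem_insert_self _ _)⟩
        · exact mem_inter.mpr ⟨hs₂e, hs₂e'⟩
        · refine mem_inter.mpr ⟨hsube (mem_insert_of_mem (mem_of_mem_erase hx)), ?_⟩
          apply hsube'
          apply mem_insert_of_mem
          rw [hQ']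
          exact mem_insert_of_mem hx
      have hs₁n : s₁ ∉ insert s₂ (Q.erase q) := by
        rw [mem_insert]
        rintro (h | h)
        · exact hs12 h
        · exact hs₁.2 (mem_inter.mp (hQP (mem_of_mem_erase h))).1
      have hs₂n : s₂ ∉ Q.erase q := fun h =>
        hs₂.2 (mem_inter.mp (hQP (mem_of_mem_erase h))).1
      have hc : (insert s₁ (insert s₂ (Q.erase q))).card = 5 := by
        rw [card_insert_of_notMem hs₁n, card_insert_of_notMem hs₂n, card_erase_of_mem hq, hQ4]
      have := card_le_card hsub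
      omega
    -- then p₅ ∈ e ∩ d = Q
    have hp₅e : p₅ ∈ e := by
      rw [← hee']
      apply hsube'
      apply mem_insert_of_mem
      rw [hQ']
      exact mem_insert_self _ _
    have : p₅ ∈ e ∩ d := mem_inter.mpr ⟨hp₅e, (mem_inter.mp hp₅P).1⟩
    rw [hed] at this
    exact hp₅Q this
  · have hSd : S ⊆ d := by
      have : d ∩ S = S := eq_of_subset_of_card_le inter_subset_right (by omega)
      rw [← this]
      exact inter_subset_left
    have : S = d := eq_of_subset_of_card_le hSd (by omega)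
    rw [this]
    exact hdB

theorem result {α : Type*} [Fintype α] [DecidableEq α] (hα : Fintype.card α = 24) {B : Set (Finset α)} (hB : Cfsg.IsSteinerSystem 5 8 B) {b c : Finset α} (hb : b ∈ B) (hc : c ∈ B) (h4 : (b ∩ c).card = 4) : symmDiff b c ∈ B := by
  apply mem_of_even hB
  · -- card
    rw [symmDiff_def, sup_eq_union, card_union_of_disjoint disjoint_sdiff_sdiff]
    have h1 := card_sdiff_add_card_inter b c
    have h2 := card_sdiff_add_card_inter c b
    rw [inter_comm c b] at h2
    rw [hB.1 b hb] at h1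
    rw [hB.1 c hc] at h2
    omega
  · intro e he
    have e1 := even_inter hα hB hb he
    have e2 := even_inter hα hB hc he
    have hdecomp : (e ∩ symmDiff b c).card + 2 * (e ∩ b ∩ c).card = (e ∩ b).card + (e ∩ c).card := by
      have h1 := card_sdiff_add_card_inter (e ∩ b) c
      have h2 := card_sdiff_add_card_inter (e ∩ c) b
      have h3 : e ∩ symmDiff b c = ((e ∩ b) \ c) ∪ ((e ∩ c) \ b) := by
        ext x
        simp only [symmDiff_def, sup_eq_union, mem_inter, mem_union, mem_sdiff]
        tauto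
      have h4' : Disjoint ((e ∩ b) \ c) ((e ∩ c) \ b) := by
        rw [disjoint_left]
        intro x hx hx'
        rw [mem_sdiff, mem_inter] at hx hx'
        exact hx.2 hx'.1.2
      have h5 : e ∩ c ∩ b = e ∩ b ∩ c := by
        ext x
        simp only [mem_inter]
        tauto
      rw [h3, card_union_of_disjoint h4']
      rw [h5] at h2
      omega
    obtain ⟨r1, hr1⟩ := e1
    obtain ⟨r2, hr2⟩ := e2
    rw [Nat.even_iff]
    omega

end Cfsg.Agent.S0353
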