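import Cfsg.Statements.S0355
import Mathlib
import Cfsg.Agent.Lib.Helper1_Steiner

set_option autoImplicit false
open Cfsg

namespace Cfsg.Agent.S0355

open Cfsg.Agent.Lib.Helper1_Steiner

theorem lam_values {α : Type*} [Fintype α] [DecidableEq α] (hα : Fintype.card α = 23)
    {B : Set (Finset α)} (hB : Cfsg.IsSteinerSystem 4 7 B) (s : Finset α) :
    (s.card = 0 → lam B s = 253) ∧ (s.card = 1 → lam B s = 77) ∧ (s.card = 2 → lam B s = 21) ∧
    (s.card = 3 → lam B s = 5) := by
  refine ⟨fun h => ?_, fun h => ?_, fun h => ?_, fun h => ?_⟩ <;>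
  · have := lam_mul hB s (by omega)
    rw [h, hα] at this
    norm_num [Nat.choose] at this
    omega

theorem nInter_values {α : Type*} [Fintype α] [DecidableEq α] (hα : Fintype.card α = 23)
    {B : Set (Finset α)} (hB : Cfsg.IsSteinerSystem 4 7 B) {b : Finset α} (hb : b ∈ B) :
    nInter B b 0 = 0 ∧ nInter B b 1 = 112 ∧ nInter B b 2 = 0 ∧ nInter B b 3 = 140 := by
  have e0 := inter_equation hB b hb 0 253 (fun s hs => (lam_values hα hB s).1 hs)
  have e1 := inter_equation hB b hb 1 77 (fun s hs => (lam_values hα hB s).2.1 hs)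
  have e2 := inter_equation hB b hb 2 21 (fun s hs => (lam_values hα hB s).2.2.1 hs)
  have e3 := inter_equation hB b hb 3 5 (fun s hs => (lam_values hα hB s).2.2.2 hs)
  norm_num [Finset.sum_range_succ, Nat.choose] at e0 e1 e2 e3
  omega

theorem result {α : Type*} [Fintype α] [DecidableEq α] (hα : Fintype.card α = 23) {B : Set (Finset α)} (hB : Cfsg.IsSteinerSystem 4 7 B) {b c : Finset α} (hb : b ∈ B) (hc : c ∈ B) (hbc : b ≠ c) : (b ∩ c).card = 1 ∨ (b ∩ c).card = 3 := by
  have hlt := inter_card_lt hB hb hc (Ne.symm hbc)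
  have hpos := nInter_pos (b := b) hc (Ne.symm hbc)
  obtain ⟨h0, -, h2, -⟩ := nInter_values hα hB hb
  have hi : (b ∩ c).card = 0 ∨ (b ∩ c).card = 1 ∨ (b ∩ c).card = 2 ∨ (b ∩ c).card = 3 := by omega
  rcases hi with h | h | h | h
  · rw [h, h0] at hpos; omega
  · exact Or.inl h
  · rw [h, h2] at hpos; omega
  · exact Or.inr h

end Cfsg.Agent.S0355
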