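import Cfsg.Statements.S0357
import Mathlib
import Cfsg.Agent.Lib.Helper1_Steiner

set_option autoImplicit false
open Cfsg

namespace Cfsg.Agent.S0357

open Cfsg.Agent.Lib.Helper1_Steiner

theorem lam_values {α : Type*} [Fintype α] [DecidableEq α] (hα : Fintype.card α = 12)
    {B : Set (Finset α)} (hB : Cfsg.IsSteinerSystem 5 6 B) (s : Finset α) :
    (s.card = 0 → lam B s = 132) ∧ (s.card = 1 → lam B s = 66) ∧ (s.card = 2 → lam B s = 30) ∧
    (s.card = 3 → lam B s = 12) ∧ (s.card = 4 → lam B s = 4) := by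
  refine ⟨fun h => ?_, fun h => ?_, fun h => ?_, fun h => ?_, fun h => ?_⟩ <;>
  · have := lam_mul hB s (by omega)
    rw [h, hα] at this
    norm_num [Nat.choose] at this
    omega

theorem nInter_values {α : Type*} [Fintype α] [DecidableEq α] (hα : Fintype.card α = 12)
    {B : Set (Finset α)} (hB : Cfsg.IsSteinerSystem 5 6 B) {b : Finset α} (hb : b ∈ B) :
    nInter B b 0 = 1 ∧ nInter B b 1 = 0 ∧ nInter B b 2 = 45 ∧ nInter B b 3 = 40 ∧
      nInter B b 4 = 45 := by
  have e0 := inter_equation hB b hb 0 132 (fun s hs => (lam_values hα hB s).1 hs)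
  have e1 := inter_equation hB b hb 1 66 (fun s hs => (lam_values hα hB s).2.1 hs)
  have e2 := inter_equation hB b hb 2 30 (fun s hs => (lam_values hα hB s).2.2.1 hs)
  have e3 := inter_equation hB b hb 3 12 (fun s hs => (lam_values hα hB s).2.2.2.1 hs)
  have e4 := inter_equation hB b hb 4 4 (fun s hs => (lam_values hα hB s).2.2.2.2 hs)
  norm_num [Finset.sum_range_succ, Nat.choose] at e0 e1 e2 e3 e4
  omega

theorem result {α : Type*} [Fintype α] [DecidableEq α] (hα : Fintype.card α = 12) {B : Set (Finset α)} (hB : Cfsg.IsSteinerSystem 5 6 B) {b : Finset α} (hb : b ∈ B) : bᶜ ∈ B := by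
  obtain ⟨h0, -⟩ := nInter_values hα hB hb
  rw [nInter] at h0
  have hpos : 0 < (((blocks B).erase b).filter (fun c => (b ∩ c).card = 0)).card := by omega
  obtain ⟨c, hc⟩ := Finset.card_pos.mp hpos
  rw [Finset.mem_filter, Finset.mem_erase, mem_blocks, Finset.card_eq_zero,
    ← Finset.disjoint_iff_inter_eq_empty] at hc
  obtain ⟨⟨_, hcB⟩, hdisj⟩ := hc
  have hsub : c ⊆ bᶜ := by
    intro x hx
    rw [Finset.mem_compl]
    intro hxb
    exact (Finset.disjoint_left.mp hdisj) hxb hx
  have hcard : bᶜ.card ≤ c.card := by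
    rw [Finset.card_compl, hα, hB.1 b hb, hB.1 c hcB]
  have := Finset.eq_of_subset_of_card_le hsub hcard
  rw [← this]
  exact hcB

end Cfsg.Agent.S0357
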