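import Cfsg.Statements.S0359
import Mathlib
import Cfsg.Agent.Lib.Helper1_Golay2
set_option autoImplicit false
open Cfsg
namespace Cfsg.Agent.S0359
open Cfsg.Agent.Lib.Helper1_Golay

theorem result (w : Cfsg.GolayPt → ZMod 2) (hw : w ∈ Cfsg.golayCode) : hammingNorm w = 0 ∨ hammingNorm w = 8 ∨ hammingNorm w = 12 ∨ hammingNorm w = 16 ∨ hammingNorm w = 24 := by
  exact golay_weights w hw

end Cfsg.Agent.S0359
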