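import Cfsg.Statements.S0364
import Mathlib
import Cfsg.Agent.Lib.Helper1_M24c
set_option autoImplicit false
open Cfsg
open scoped Pointwise
namespace Cfsg.Agent.S0364
open Cfsg.Agent.Lib.Helper1_Golay Cfsg.Agent.Lib.Helper1_Chain

theorem result : Nat.card Cfsg.M24 = 244823040 := by
  exact card_M24

end Cfsg.Agent.S0364
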