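import Cfsg.Statements.S0365
import Mathlib
import Cfsg.Agent.Lib.Helper1_MathieuSimple
set_option autoImplicit false
open Cfsg
open scoped Pointwise
namespace Cfsg.Agent.S0365
open Cfsg.Agent.Lib.Helper1_Golay Cfsg.Agent.Lib.Helper1_Chain

theorem result : IsSimpleGroup Cfsg.M24 := by
  exact M24_simple

end Cfsg.Agent.S0365
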