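import Cfsg.Statements.S0369
import Mathlib
import Cfsg.Agent.Lib.Helper1_M24
set_option autoImplicit false
open Cfsg
namespace Cfsg.Agent.S0369
open Cfsg.Agent.Lib.Helper1_Golay

theorem result : Cfsg.M24 = Cfsg.setSystemAut Cfsg.octads := by
  exact M24_eq_octads_aut

end Cfsg.Agent.S0369
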