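import Cfsg.Statements.S0371
import Mathlib
import Cfsg.Agent.Lib.Helper1_Golay2
set_option autoImplicit false
open Cfsg
namespace Cfsg.Agent.S0371
open Cfsg.Agent.Lib.Helper1_Golay

theorem result (u : (ZMod 23)ˣ) (hu : IsSquare u) : Equiv.optionCongr (Units.mulLeft u) ∈ Cfsg.M24 := by
  apply mem_M24_of_comp
  intro t
  obtain ⟨s, hs⟩ := hu
  have : (fun p => qrWord t (Equiv.optionCongr (Units.mulLeft u) p))
      = qrWord ((↑u⁻¹ : ZMod 23) * t) := by
    funext p
    cases p with
    | none => rfl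
    | some x =>
      simp only [Equiv.optionCongr_apply, Option.map_some, Units.mulLeft_apply, qrWord]
      apply if_congr _ rfl rfl
      constructor
      · rintro ⟨r, hr⟩
        refine ⟨(↑s⁻¹ : ZMod 23) * r, ?_⟩
        have h1 : x = (↑u⁻¹ : ZMod 23) * ((u : ZMod 23) * x) := by
          rw [← mul_assoc, Units.inv_mul, one_mul]
        have h2 : (↑u⁻¹ : ZMod 23) = (↑s⁻¹ : ZMod 23) * (↑s⁻¹ : ZMod 23) := by
          rw [hs, mul_inv, Units.val_mul]
        rw [h1, hr, h2]; ring
      · rintro ⟨r, hr⟩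
        refine ⟨(s : ZMod 23) * r, ?_⟩
        have h2 : (u : ZMod 23) = (s : ZMod 23) * (s : ZMod 23) := by
          rw [hs, Units.val_mul]
        have h3 : (u : ZMod 23) * ((↑u⁻¹ : ZMod 23) * t) = t := by
          rw [← mul_assoc, Units.mul_inv, one_mul]
        rw [hr, mul_add, h3, h2]; ring
  rw [this]
  exact qrWord_mem_golay _

end Cfsg.Agent.S0371
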