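import Cfsg.Statements.S0374
import Mathlib
import Cfsg.Agent.Lib.Helper1_M24gen2
set_option autoImplicit false
open Cfsg
open scoped Pointwise
namespace Cfsg.Agent.S0374
open Cfsg.Agent.Lib.Helper1_Golay Cfsg.Agent.Lib.Helper1_Chain

theorem result : Subgroup.closure {Equiv.optionCongr (Equiv.addRight (1 : ZMod 23)), Cfsg.projInv, Cfsg.cubeTwist} = Cfsg.M24 := by
  exact M24_eq_Hgen

end Cfsg.Agent.S0374
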