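import Cfsg.Statements.S0376
import Mathlib
import Cfsg.Agent.Lib.Helper1_M24c
set_option autoImplicit false
open Cfsg
open scoped Pointwise
namespace Cfsg.Agent.S0376
open Cfsg.Agent.Lib.Helper1_Golay Cfsg.Agent.Lib.Helper1_Chain

theorem result (p : Cfsg.GolayPt) : Nat.card (MulAction.stabilizer Cfsg.M24 p) = 10200960 := by
  exact card_point_stabilizer p

end Cfsg.Agent.S0376
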