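import Cfsg.Statements.S0382
import Mathlib
import Cfsg.Agent.Lib.Helper1_M12b
set_option autoImplicit false
open Cfsg
open scoped Pointwise
namespace Cfsg.Agent.S0382
open Cfsg.Agent.Lib.Helper1_Golay Cfsg.Agent.Lib.Helper1_Chain

theorem result (d : Finset Cfsg.GolayPt) (hd : d ∈ Cfsg.dodecads) : Nat.card (MulAction.stabilizer Cfsg.M24 d) = 95040 := by
  exact card_stabilizer_dodecad hd

end Cfsg.Agent.S0382
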