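import Cfsg.Statements.S0398
import Mathlib
import Cfsg.Agent.Lib.Helper1_Co0
import Cfsg.Agent.Lib.Helper1_Trans

set_option autoImplicit false
open Cfsg
open scoped Pointwise
open Cfsg.Agent.Lib.Helper1_Chain Cfsg.Agent.Lib.Helper1_Golay Cfsg.Agent.Lib.Helper1_Co0

namespace Cfsg.Agent.S0398

local notation "𝒢" => supports (golayCode : Set (GolayPt → ZMod 2))

theorem single_mem (i : GolayPt) (a : ℤ) (ha : a % 8 = 0) :
    (Pi.single i a : GolayPt → ℤ) ∈ leechLattice := by
  rw [mem_leechLattice_iff, mem_leechSet_iff]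
  refine ⟨0, fun j => ?_, ?_, ?_⟩
  · by_cases hj : j = i
    · subst hj; rw [Pi.single_eq_same]; omega
    · rw [Pi.single_eq_of_ne hj]
  · rw [Finset.sum_pi_single' i a Finset.univ]
    simp only [Finset.mem_univ, if_true]
    omega
  · have : resSet (Pi.single i a) 0 = Finset.univ := by
      ext j
      simp only [mem_resSet, Finset.mem_univ, iff_true]
      by_cases hj : j = i
      · subst hj; rw [Pi.single_eq_same]; omega
      · rw [Pi.single_eq_of_ne hj]
    rw [this]; exact univ_mem

/-- the frame vectors -/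
def E (i : GolayPt) : ↥leechLattice := ⟨Pi.single i 8, single_mem i 8 (by decide)⟩

set_option maxRecDepth 1000000 in
theorem separate : ∀ i j : GolayPt, i ≠ j → ∃ n ∈ allWords rows,
    n.testBit (idx j) = true ∧ n.testBit (idx i) = false := by
  decide +kernel

theorem exists_sep {i j : GolayPt} (hij : i ≠ j) : ∃ c ∈ 𝒢, j ∈ c ∧ i ∉ c := by
  obtain ⟨n, hn, h1, h2⟩ := separate i j hij
  refine ⟨maskSet n, ?_, mem_maskSet.2 h1, ?_⟩
  · rw [maskSet_eq_support₂]
    exact ⟨natWord n, (mem_golay_iff _).2 ⟨n, hn, rfl⟩, rfl⟩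
  · rw [mem_maskSet, h2]; decide

/-- the additive map underlying an element of `Co0` -/
def toHom (g : ↥Co0) : ↥leechLattice →+ ↥leechLattice where
  toFun v := g • v
  map_zero' := smul_zero_Co0 g
  map_add' := smul_add_Co0 g

theorem sqNorm_smul (g : ↥Co0) (v : ↥leechLattice) :
    sqNorm ((g • v : ↥leechLattice) : GolayPt → ℤ) = sqNorm (v : GolayPt → ℤ) := g.2.2 v

theorem sqNorm_single (i : GolayPt) (a : ℤ) : sqNorm (Pi.single i a : GolayPt → ℤ) = a ^ 2 := by
  unfold sqNorm
  have : ∀ j, (Pi.single i a : GolayPt → ℤ) j ^ 2 = (Pi.single i (a ^ 2) : GolayPt → ℤ) j := by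
    intro j
    by_cases hj : j = i
    · subst hj; rw [Pi.single_eq_same, Pi.single_eq_same]
    · rw [Pi.single_eq_of_ne hj, Pi.single_eq_of_ne hj]; ring
  rw [Finset.sum_congr rfl (fun j _ => this j), Finset.sum_pi_single' i _ Finset.univ]
  simp

/-- a central element acts on each frame vector by a sign -/
theorem central_frame (g : ↥Co0) (hg : ∀ x : ↥Co0, x * g = g * x) (i : GolayPt) :
    ∃ t : ℤ, (t = 8 ∨ t = -8) ∧ ((g • E i : ↥leechLattice) : GolayPt → ℤ) = Pi.single i t := by
  set y : GolayPt → ℤ := ((g • E i : ↥leechLattice) : GolayPt → ℤ) with hy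
  have hzero : ∀ j, j ≠ i → y j = 0 := by
    intro j hj
    obtain ⟨c, hc, hjc, hic⟩ := exists_sep (Ne.symm hj)
    have h1 : monoCo 1 M24.one_mem c hc • E i = E i := by
      apply Subtype.ext
      rw [monoCo_smul]
      funext k
      unfold signedPerm
      show (if k ∈ c then -(Pi.single i 8 : GolayPt → ℤ) ((1 : Equiv.Perm GolayPt).symm k)
        else (Pi.single i 8 : GolayPt → ℤ) ((1 : Equiv.Perm GolayPt).symm k)) = _
      have hk : (1 : Equiv.Perm GolayPt).symm k = k := rfl
      rw [hk]
      by_cases hkc : k ∈ c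
      · have hki : k ≠ i := fun h => hic (h ▸ hkc)
        simp only [hkc, if_true, E]
        rw [Pi.single_eq_of_ne hki]; rfl
      · simp only [hkc, if_false, E]
    have h2 := hg (monoCo 1 M24.one_mem c hc)
    have h3 : monoCo 1 M24.one_mem c hc • (g • E i) = g • E i := by
      rw [← mul_smul, h2, mul_smul, h1]
    have h4 := congrArg (fun v : ↥leechLattice => (v : GolayPt → ℤ) j) h3
    simp only [monoCo_smul] at h4
    unfold signedPerm at h4
    have hk : (1 : Equiv.Perm GolayPt).symm j = j := rfl
    rw [hk] at h4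
    simp only [hjc, if_true] at h4
    have : y j = (g • E i : ↥leechLattice).1 j := rfl
    rw [this]
    omega
  have hsingle : y = Pi.single i (y i) := by
    funext j
    by_cases hj : j = i
    · subst hj; rw [Pi.single_eq_same]
    · rw [Pi.single_eq_of_ne hj, hzero j hj]
  have hnorm : sqNorm y = 64 := by
    rw [hy, sqNorm_smul]
    show sqNorm (Pi.single i 8 : GolayPt → ℤ) = 64
    rw [sqNorm_single]; rfl
  rw [hsingle, sqNorm_single] at hnorm
  refine ⟨y i, ?_, hsingle⟩
  have h8 : (y i - 8) * (y i + 8) = 0 := by nlinarith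
  rcases mul_eq_zero.1 h8 with h | h
  · left; omega
  · right; omega

/-- evaluation at a coordinate as an additive map -/
def coordHom (j : GolayPt) : ↥leechLattice →+ ℤ where
  toFun v := v.1 j
  map_zero' := rfl
  map_add' _ _ := rfl

theorem eight_smul_eq (v : ↥leechLattice) : (8 : ℤ) • v = ∑ i, (v.1 i) • E i := by
  apply Subtype.ext
  funext j
  show coordHom j ((8 : ℤ) • v) = coordHom j (∑ i, (v.1 i) • E i)
  rw [map_sum, map_zsmul]
  rw [Finset.sum_eq_single j]
  · rw [map_zsmul]
    show (8 : ℤ) • v.1 j = v.1 j • (Pi.single j 8 : GolayPt → ℤ) j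
    rw [Pi.single_eq_same, smul_eq_mul, smul_eq_mul]; ring
  · intro b _ hb
    rw [map_zsmul]
    show v.1 b • (Pi.single b 8 : GolayPt → ℤ) j = 0
    rw [Pi.single_eq_of_ne (Ne.symm hb).symm.symm, smul_zero]
  · intro h; exact absurd (Finset.mem_univ j) h

theorem central_eq (g : ↥Co0) (hg : ∀ x : ↥Co0, x * g = g * x) : g = 1 ∨ g = negCo := by
  choose t ht htE using central_frame g hg
  -- the signs agree
  have htconst : ∀ i j, t i = t j := by
    intro i j
    obtain ⟨π, hπ, hπl⟩ := exists_map_lists (l := [i]) (l' := [j]) (List.nodup_singleton i)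
      (List.nodup_singleton j) rfl (by simp)
    simp only [List.map_cons, List.map_nil, List.cons.injEq, and_true] at hπl
    have hP : ∀ (k : GolayPt) (a : ℤ), signedPerm π ∅ (Pi.single k a) = Pi.single (π k) a := by
      intro k a
      funext m
      unfold signedPerm
      simp only [Finset.notMem_empty, if_false]
      by_cases hm : m = π k
      · subst hm; simp
      · rw [Pi.single_eq_of_ne hm, Pi.single_eq_of_ne]
        intro h
        apply hm
        rw [← h]; simp
    have h1 : monoCo π hπ ∅ empty_mem • E i = E j := by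
      apply Subtype.ext
      rw [monoCo_smul]
      show signedPerm π ∅ (Pi.single i 8) = Pi.single j 8
      rw [hP, hπl]
    have h2 := hg (monoCo π hπ ∅ empty_mem)
    have h3 : monoCo π hπ ∅ empty_mem • (g • E i) = g • E j := by
      rw [← mul_smul, h2, mul_smul, h1]
    have h4 := congrArg (fun v : ↥leechLattice => (v : GolayPt → ℤ) j) h3
    simp only [monoCo_smul] at h4
    rw [htE i, htE j, hP, hπl, Pi.single_eq_same, Pi.single_eq_same] at h4
    exact h4
  -- the action on an arbitrary vector
  have hact : ∀ v : ↥leechLattice, ∀ j, 8 * (g • v : ↥leechLattice).1 j = t j * v.1 j := by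
    intro v j
    have h1 : toHom g ((8 : ℤ) • v) = (8 : ℤ) • (g • v) := map_zsmul (toHom g) 8 v
    rw [eight_smul_eq v, map_sum] at h1
    have h2 := congrArg (coordHom j) h1
    rw [map_sum, map_zsmul] at h2
    have h3 : coordHom j (g • v) = (g • v : ↥leechLattice).1 j := rfl
    rw [h3, smul_eq_mul] at h2
    rw [← h2]
    rw [Finset.sum_eq_single j]
    · rw [map_zsmul, map_zsmul]
      show v.1 j • (g • E j : ↥leechLattice).1 j = _
      rw [htE j, Pi.single_eq_same, smul_eq_mul]; ring
    · intro b _ hb
      rw [map_zsmul, map_zsmul]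
      show v.1 b • (g • E b : ↥leechLattice).1 j = 0
      rw [htE b, Pi.single_eq_of_ne (Ne.symm hb).symm.symm, smul_zero]
    · intro h; exact absurd (Finset.mem_univ j) h
  rcases ht none with h8 | h8
  · left
    apply Subtype.ext
    apply Equiv.ext
    intro v
    apply Subtype.ext
    funext j
    have := hact v j
    rw [htconst j none, h8] at this
    show (g • v : ↥leechLattice).1 j = v.1 j
    omega
  · right
    apply Subtype.ext
    apply Equiv.ext
    intro v
    apply Subtype.ext
    show ((g • v : ↥leechLattice) : GolayPt → ℤ) = ((negCo • v : ↥leechLattice) : GolayPt → ℤ)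
    rw [negCo_smul]
    funext j
    have := hact v j
    rw [htconst j none, h8] at this
    show (g • v : ↥leechLattice).1 j = -(v.1 j)
    omega

/-- The centre of the lattice's automorphism group has order 2. -/
theorem result : Nat.card (Subgroup.center Cfsg.Co0) = 2 := by
  rw [Nat.card_eq_two_iff]
  refine ⟨⟨1, Subgroup.one_mem _⟩, ⟨negCo, ?_⟩, ?_, ?_⟩
  · rw [Subgroup.mem_center_iff]
    intro x
    exact negCo_comm x
  · intro h
    exact negCo_ne_one (congrArg Subtype.val h).symm
  · ext z
    simp only [Set.mem_insert_iff, Set.mem_singleton_iff, Set.mem_univ, iff_true]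
    have hz := z.2
    rw [Subgroup.mem_center_iff] at hz
    rcases central_eq z.1 hz with h | h
    · left; exact Subtype.ext h
    · right; exact Subtype.ext h

end Cfsg.Agent.S0398
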