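import Cfsg.Statements.S0416
import Mathlib
import Cfsg.Agent.Lib.Helper9_Sharp4

set_option autoImplicit false
open Cfsg

namespace Cfsg.Agent.S0416

/-- Degrees of sharply 5-transitive permutation groups are 5, 6, 7, 12. -/
theorem result {α : Type*} [Fintype α] [DecidableEq α] (G : Subgroup (Equiv.Perm α)) (h5 : 5 ≤ Fintype.card α) [MulAction.IsMultiplyPretransitive G α 5] (hsharp : ∀ x : Fin 5 ↪ α, MulAction.stabilizer G x = ⊥) : Fintype.card α = 5 ∨ Fintype.card α = 6 ∨ Fintype.card α = 7 ∨ Fintype.card α = 12 := by
  classical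
  have hne : Nonempty α := Fintype.card_pos_iff.1 (by omega)
  obtain ⟨a⟩ := hne
  have hpre : MulAction.IsPretransitive G α := by
    have h1 : MulAction.IsMultiplyPretransitive G α 1 :=
      MulAction.isMultiplyPretransitive_of_le (n := 5) (by norm_num)
        (by rw [Nat.card_eq_fintype_card]; exact h5)
    exact MulAction.is_one_pretransitive_iff.1 h1
  have h4t : MulAction.IsMultiplyPretransitive (MulAction.stabilizer G a)
      (SubMulAction.ofStabilizer G a) 4 :=
    SubMulAction.ofStabilizer.isMultiplyPretransitive.1 inferInstance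
  have hsharp' : ∀ x : Fin 4 ↪ SubMulAction.ofStabilizer G a,
      MulAction.stabilizer (MulAction.stabilizer G a) x = ⊥ := by
    intro x
    rw [eq_bot_iff]
    intro g hg
    rw [Subgroup.mem_bot]
    have hmem : (g : G) ∈ MulAction.stabilizer G (SubMulAction.ofStabilizer.snoc x) := by
      rw [MulAction.mem_stabilizer_iff]
      ext i
      change (g : G) • (SubMulAction.ofStabilizer.snoc x) i = (SubMulAction.ofStabilizer.snoc x) i
      rcases Fin.eq_castSucc_or_eq_last i with ⟨j, rfl⟩ | rfl
      · rw [SubMulAction.ofStabilizer.snoc_castSucc]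
        have := DFunLike.congr_fun (MulAction.mem_stabilizer_iff.1 hg) j
        rw [Function.Embedding.smul_apply] at this
        exact congrArg Subtype.val this
      · rw [SubMulAction.ofStabilizer.snoc_last]
        exact g.2
    rw [hsharp] at hmem
    exact Subtype.ext ((Subgroup.mem_bot.1 hmem).trans (Subgroup.coe_one _).symm)
  have hcard : Nat.card (SubMulAction.ofStabilizer G a) + 1 = Nat.card α :=
    SubMulAction.nat_card_ofStabilizer_add_one_eq G a
  have hα : Nat.card α = Fintype.card α := Nat.card_eq_fintype_card
  have h := Cfsg.Agent.Lib.Helper9_Sharp4.Helper9S4.core (H := MulAction.stabilizer G a)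
    (β := SubMulAction.ofStabilizer G a) hsharp' (by omega)
  omega

end Cfsg.Agent.S0416
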