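import Cfsg.Statements.S0419
import Mathlib
import Cfsg.Agent.Lib.Helper9_M11
import Cfsg.Agent.Lib.Helper9_SharpK
import Cfsg.Agent.Lib.Helper9_Wagner

set_option autoImplicit false
open Cfsg

namespace Cfsg.Agent.S0419

open Cfsg.Agent.Lib.Helper9_M11.Helper9M Cfsg.Agent.Lib.Helper5_Jordan

/-- A sharply 5-transitive group of degree 12 is simple of order 95040. -/
theorem result {α : Type*} [Fintype α] [DecidableEq α] (hα : Fintype.card α = 12) (G : Subgroup (Equiv.Perm α)) [MulAction.IsMultiplyPretransitive G α 5] (hsharp : ∀ x : Fin 5 ↪ α, MulAction.stabilizer G x = ⊥) : Cfsg.IsM12 G := by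
  classical
  have hcardα : Nat.card α = 12 := by rw [Nat.card_eq_fintype_card, hα]
  have h5 : MulAction.IsMultiplyPretransitive G α 5 := inferInstance
  have hG : Nat.card G = 95040 := by
    obtain ⟨x⟩ : Nonempty (Fin 5 ↪ α) :=
      Function.Embedding.nonempty_of_card_le (by rw [Fintype.card_fin, hα]; norm_num)
    have h1 := card_sharp_gen (H := G) (β := α) 5 hsharp x
    rw [Nat.card_eq_fintype_card (α := Fin 5 ↪ α), Fintype.card_embedding_eq, Fintype.card_fin,
      hα] at h1
    rw [h1]
    rfl
  refine ⟨?_, hG⟩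
  have hfaith : FaithfulSMul G α := by
    constructor
    intro g g' h
    apply Subtype.ext
    apply Equiv.ext
    intro x
    exact h x
  have hnt : Nontrivial G := by
    rw [← Finite.one_lt_card_iff_nontrivial, hG]; norm_num
  refine { toNontrivial := hnt, eq_bot_or_eq_top_of_normal := ?_ }
  intro N hNn
  by_cases hN : N = ⊥
  · exact Or.inl hN
  right
  have h4N : MulAction.IsMultiplyPretransitive N α 4 := by
    rcases jordan_aux 5 G α (by norm_num) (by rw [hcardα]; norm_num) h5 N hN with h | ⟨h, -⟩
    · exact h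
    · omega
  have h2N : MulAction.IsMultiplyPretransitive N α 2 :=
    MulAction.isMultiplyPretransitive_of_le (G := N) (α := α) (n := 4) (by norm_num)
      (by rw [hcardα]; norm_num)
  have h1N : MulAction.IsPretransitive N α := by
    have h1 : MulAction.IsMultiplyPretransitive N α 1 :=
      MulAction.isMultiplyPretransitive_of_le (G := N) (α := α) (n := 4) (by norm_num)
        (by rw [hcardα]; norm_num)
    exact MulAction.is_one_pretransitive_iff.1 h1
  have hpreG : MulAction.IsPretransitive G α :=
    Cfsg.Agent.Lib.Helper9_SharpK.Helper9SK.pretrans_of (k := 5) (by norm_num)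
      (by rw [hcardα]; norm_num)
  obtain ⟨y⟩ : Nonempty (Fin 3 ↪ α) :=
    Function.Embedding.nonempty_of_card_le (by rw [Fintype.card_fin, hα]; norm_num)
  obtain ⟨a, b, c, hab, hac, hbc⟩ : ∃ a b c : α, a ≠ b ∧ a ≠ c ∧ b ≠ c :=
    ⟨y 0, y 1, y 2, fun h => absurd (y.injective h) (by decide),
      fun h => absurd (y.injective h) (by decide), fun h => absurd (y.injective h) (by decide)⟩
  obtain ⟨ht, hs⟩ := Cfsg.Agent.Lib.Helper9_SharpK.Helper9SK.stab_sharp 4 hsharp a
  have hcardβ : Nat.card (SubMulAction.ofStabilizer G a) = 11 := by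
    have := SubMulAction.nat_card_ofStabilizer_add_one_eq G a
    omega
  have hfin : Fintype (SubMulAction.ofStabilizer G a) := Fintype.ofFinite _
  have hsimple : IsSimpleGroup (MulAction.stabilizer G a) :=
    simple11_gen hs (by rw [← Nat.card_eq_fintype_card]; exact hcardβ)
  have hnorm : (N.subgroupOf (MulAction.stabilizer G a)).Normal := inferInstance
  rcases hsimple.eq_bot_or_eq_top_of_normal _ hnorm with hbot | htop
  · exfalso
    obtain ⟨n, hnN, hna, hnb⟩ :=
      Cfsg.Agent.Lib.Helper9_Wagner.Helper9W.exists_pair N h2N a b a c hab hac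
    have hmem : (⟨n, hna⟩ : MulAction.stabilizer G a) ∈ N.subgroupOf (MulAction.stabilizer G a) :=
      Subgroup.mem_subgroupOf.2 hnN
    rw [hbot, Subgroup.mem_bot] at hmem
    have hn1 : n = 1 := congrArg Subtype.val hmem
    rw [hn1, one_smul] at hnb
    exact hbc hnb
  · rw [eq_top_iff]
    intro g _
    obtain ⟨n, hn⟩ := MulAction.exists_smul_eq N a (g • a)
    have hn' : (n : G) • a = g • a := hn
    have hmem : (n : G)⁻¹ * g ∈ MulAction.stabilizer G a := by
      rw [MulAction.mem_stabilizer_iff, mul_smul, ← hn', inv_smul_smul]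
    have h1 : (⟨(n : G)⁻¹ * g, hmem⟩ : MulAction.stabilizer G a) ∈
        N.subgroupOf (MulAction.stabilizer G a) := by
      rw [htop]; trivial
    have h2 : (n : G)⁻¹ * g ∈ N := Subgroup.mem_subgroupOf.1 h1
    have h3 := N.mul_mem n.2 h2
    rwa [mul_inv_cancel_left] at h3

end Cfsg.Agent.S0419
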