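import Cfsg.Statements.S0427
import Mathlib
import Cfsg.Agent.Lib.Helper1_Steiner2

set_option autoImplicit false
open Cfsg

namespace Cfsg.Agent.S0427

open Cfsg.Agent.Lib.Helper1_Steiner Cfsg.Agent.Lib.Helper1_Steiner2 Finset

theorem card_subtype_blocks {α : Type*} [Fintype α] [DecidableEq α] (B : Set (Finset α))
    (P : Finset α → Prop) [DecidablePred P] :
    Nat.card {w : B // P (w : Finset α)} = ((blocks B).filter P).card := by
  rw [← Fintype.card_coe, ← Nat.card_eq_fintype_card]
  apply Nat.card_congr
  exact
    { toFun := fun w => ⟨w.1.1, by rw [mem_filter, mem_blocks]; exact ⟨w.1.2, w.2⟩⟩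
      invFun := fun c => ⟨⟨c.1, mem_blocks.mp (mem_filter.mp c.2).1⟩, (mem_filter.mp c.2).2⟩
      left_inv := fun _ => rfl
      right_inv := fun _ => rfl }

theorem adj_iff {α : Type*} [Fintype α] {B : Set (Finset α)} {k : ℕ} (hk : 0 < k)
    (hcard : ∀ b ∈ B, b.card = k) (v w : B) :
    (blockGraph B).Adj v w ↔ Disjoint (w : Finset α) (v : Finset α) := by
  rw [blockGraph, SimpleGraph.fromRel_adj]
  constructor
  · rintro ⟨_, h | h⟩
    · exact h.symm
    · exact h
  · intro h
    refine ⟨?_, Or.inr h⟩
    rintro rfl
    rw [disjoint_self, bot_eq_empty] at h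
    have := hcard v.1 v.2
    rw [h] at this
    simp at this
    omega

theorem result {α : Type*} [Fintype α] (hα : Fintype.card α = 22) {B : Set (Finset α)} (hB : Cfsg.IsSteinerSystem 3 6 B) [Fintype B] [DecidableRel (Cfsg.blockGraph B).Adj] : (Cfsg.blockGraph B).IsSRGWith 77 16 0 4 := by
  classical
  have hadj := adj_iff (B := B) (k := 6) (by norm_num) hB.1
  refine ⟨?_, ?_, ?_, ?_⟩
  · rw [Fintype.card_eq_nat_card, Nat.card_coe_set_eq, ncard_eq_card_blocks]
    exact card_blocks hα hB
  · intro v
    rw [← SimpleGraph.card_neighborSet_eq_degree, Fintype.card_eq_nat_card]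
    have e : ↥((blockGraph B).neighborSet v) ≃ {w : B // Disjoint (w : Finset α) (v : Finset α)} :=
      Equiv.subtypeEquivRight (fun w => hadj v w)
    rw [Nat.card_congr e, card_subtype_blocks B (fun d => Disjoint d (v : Finset α))]
    exact card_disjoint hα hB v.2
  · intro v w hvw
    rw [Fintype.card_eq_nat_card]
    have e : ↥((blockGraph B).commonNeighbors v w) ≃
        {u : B // Disjoint (u : Finset α) (v : Finset α) ∧ Disjoint (u : Finset α) (w : Finset α)} :=
      Equiv.subtypeEquivRight (fun u => by
        rw [SimpleGraph.mem_commonNeighbors, hadj v u, hadj w u])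
    rw [Nat.card_congr e, card_subtype_blocks B
      (fun d => Disjoint d (v : Finset α) ∧ Disjoint d (w : Finset α))]
    exact card_disjoint_both_of_disjoint hα hB v.2 w.2 ((hadj v w).mp hvw).symm
  · intro v w hne hvw
    rw [Fintype.card_eq_nat_card]
    have e : ↥((blockGraph B).commonNeighbors v w) ≃
        {u : B // Disjoint (u : Finset α) (v : Finset α) ∧ Disjoint (u : Finset α) (w : Finset α)} :=
      Equiv.subtypeEquivRight (fun u => by
        rw [SimpleGraph.mem_commonNeighbors, hadj v u, hadj w u])
    rw [Nat.card_congr e, card_subtype_blocks B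
      (fun d => Disjoint d (v : Finset α) ∧ Disjoint d (w : Finset α))]
    apply card_disjoint_both_of_inter hα hB v.2 w.2
    have hne' : (v : Finset α) ≠ (w : Finset α) := fun h => hne (Subtype.ext h)
    rcases inter_zero_two hα hB v.2 w.2 hne' with h0 | h2
    · exfalso
      apply hvw
      rw [hadj v w, disjoint_comm, disjoint_iff_inter_eq_empty, ← card_eq_zero]
      exact h0
    · exact h2

end Cfsg.Agent.S0427
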