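import Cfsg.Statements.S0428
import Mathlib
import Cfsg.Agent.S0427

set_option autoImplicit false
open Cfsg

namespace Cfsg.Agent.S0428

open Cfsg.Agent.Lib.Helper1_Steiner Cfsg.Agent.Lib.Helper1_Steiner2 Finset

section
variable {α : Type*} {B : Set (Finset α)}

theorem adj_none_none : ¬ (pointBlockGraph B).Adj none none := by
  simp [pointBlockGraph]

theorem adj_none_point (a : α) : (pointBlockGraph B).Adj none (some (Sum.inl a)) := by
  simp [pointBlockGraph, pointBlockRel]

theorem adj_none_block (b : B) : ¬ (pointBlockGraph B).Adj none (some (Sum.inr b)) := by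
  simp [pointBlockGraph, pointBlockRel]

theorem adj_point_none (a : α) : (pointBlockGraph B).Adj (some (Sum.inl a)) none := by
  simp [pointBlockGraph, pointBlockRel]

theorem adj_point_point (a a' : α) :
    ¬ (pointBlockGraph B).Adj (some (Sum.inl a)) (some (Sum.inl a')) := by
  simp [pointBlockGraph, pointBlockRel]

theorem adj_point_block (a : α) (b : B) :
    (pointBlockGraph B).Adj (some (Sum.inl a)) (some (Sum.inr b)) ↔ a ∈ (b : Finset α) := by
  simp [pointBlockGraph, pointBlockRel]

theorem adj_block_none (b : B) : ¬ (pointBlockGraph B).Adj (some (Sum.inr b)) none := by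
  simp [pointBlockGraph, pointBlockRel]

theorem adj_block_point (a : α) (b : B) :
    (pointBlockGraph B).Adj (some (Sum.inr b)) (some (Sum.inl a)) ↔ a ∈ (b : Finset α) := by
  simp [pointBlockGraph, pointBlockRel]

theorem adj_block_block {k : ℕ} (hk : 0 < k) (hcard : ∀ b ∈ B, b.card = k) (b c : B) :
    (pointBlockGraph B).Adj (some (Sum.inr b)) (some (Sum.inr c)) ↔
      Disjoint (c : Finset α) (b : Finset α) := by
  simp only [pointBlockGraph, SimpleGraph.fromRel_adj, pointBlockRel]
  constructor
  · rintro ⟨_, h | h⟩
    · exact h.symm
    · exact h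
  · intro h
    refine ⟨?_, Or.inr h⟩
    intro heq
    have heq' : b = c := by simpa using heq
    subst heq'
    rw [disjoint_self, bot_eq_empty] at h
    have := hcard b.1 b.2
    rw [h] at this
    simp at this
    omega

end

/-- decomposition of a count over `Option (α ⊕ β)` -/
theorem card_option_sum {α β : Type*} [Finite α] [Finite β] (P : Option (α ⊕ β) → Prop) :
    Nat.card {x : Option (α ⊕ β) // P x} =
      Nat.card {_u : Unit // P none} + Nat.card {a : α // P (some (Sum.inl a))} +
        Nat.card {b : β // P (some (Sum.inr b))} := by
  classical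
  rw [← Nat.card_sum, ← Nat.card_sum]
  apply Nat.card_congr
  exact
    { toFun := fun x => match x with
        | ⟨none, h⟩ => Sum.inl (Sum.inl ⟨(), h⟩)
        | ⟨some (Sum.inl a), h⟩ => Sum.inl (Sum.inr ⟨a, h⟩)
        | ⟨some (Sum.inr b), h⟩ => Sum.inr ⟨b, h⟩
      invFun := fun y => match y with
        | Sum.inl (Sum.inl ⟨_, h⟩) => ⟨none, h⟩
        | Sum.inl (Sum.inr ⟨a, h⟩) => ⟨some (Sum.inl a), h⟩
        | Sum.inr ⟨b, h⟩ => ⟨some (Sum.inr b), h⟩
      left_inv := by
        rintro ⟨_ | (a | b), h⟩ <;> rfl
      right_inv := by
        rintro ((⟨_, h⟩ | ⟨a, h⟩) | ⟨b, h⟩) <;> rfl }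

theorem card_unit_true {P : Prop} (h : P) : Nat.card {_u : Unit // P} = 1 := by
  haveI : Unique {_u : Unit // P} := ⟨⟨⟨(), h⟩⟩, fun _ => Subtype.ext rfl⟩
  exact Nat.card_unique

theorem card_of_false {γ : Type*} {P : γ → Prop} (h : ∀ c, ¬ P c) : Nat.card {c : γ // P c} = 0 := by
  haveI : IsEmpty {c : γ // P c} := ⟨fun x => h x.1 x.2⟩
  exact Nat.card_of_isEmpty

theorem card_points {α : Type*} [Fintype α] [DecidableEq α] (s : Finset α) :
    Nat.card {a : α // a ∈ s} = s.card := by
  rw [Nat.card_eq_fintype_card, Fintype.card_coe]

theorem result {α : Type*} [Fintype α] (hα : Fintype.card α = 22) {B : Set (Finset α)} (hB : Cfsg.IsSteinerSystem 3 6 B) [Fintype B] [DecidableRel (Cfsg.pointBlockGraph B).Adj] : (Cfsg.pointBlockGraph B).IsSRGWith 100 22 0 6 := by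
  classical
  have hbb := adj_block_block (B := B) (k := 6) (by norm_num) hB.1
  have hBcard : Nat.card B = 77 := by
    rw [Nat.card_coe_set_eq, ncard_eq_card_blocks]
    exact card_blocks hα hB
  have hαcard : Nat.card α = 22 := by rw [Nat.card_eq_fintype_card, hα]
  -- common neighbour count as a predicate count
  have hcn : ∀ v w : Option (α ⊕ B), Fintype.card ((pointBlockGraph B).commonNeighbors v w) =
      Nat.card {u : Option (α ⊕ B) // (pointBlockGraph B).Adj v u ∧ (pointBlockGraph B).Adj w u} := by
    intro v w
    rw [Fintype.card_eq_nat_card]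
    rfl
  have hdeg : ∀ v : Option (α ⊕ B), (pointBlockGraph B).degree v =
      Nat.card {u : Option (α ⊕ B) // (pointBlockGraph B).Adj v u} := by
    intro v
    rw [← SimpleGraph.card_neighborSet_eq_degree, Fintype.card_eq_nat_card]
    rfl
  refine ⟨?_, ?_, ?_, ?_⟩
  · rw [Fintype.card_eq_nat_card, Finite.card_option, Nat.card_sum, hαcard, hBcard]
  · intro v
    rw [hdeg, card_option_sum]
    rcases v with _ | (a | b)
    · rw [card_of_false (fun _ => adj_none_none), card_of_false (fun w => adj_none_block w)]
      have : Nat.card {a : α // (pointBlockGraph B).Adj none (some (Sum.inl a))} = Nat.card α :=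
        Nat.card_congr (Equiv.subtypeUnivEquiv (fun a => adj_none_point a))
      rw [this, hαcard]
    · rw [card_unit_true (adj_point_none a), card_of_false (fun a' => adj_point_point a a')]
      have e : {w : B // (pointBlockGraph B).Adj (some (Sum.inl a)) (some (Sum.inr w))} ≃
          {w : B // a ∈ (w : Finset α)} := Equiv.subtypeEquivRight (fun w => adj_point_block a w)
      rw [Nat.card_congr e, Cfsg.Agent.S0427.card_subtype_blocks B (fun d => a ∈ d),
        card_through_point hα hB a]
    · rw [card_of_false (fun _ => adj_block_none b)]
      have e1 : {a : α // (pointBlockGraph B).Adj (some (Sum.inr b)) (some (Sum.inl a))} ≃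
          {a : α // a ∈ (b : Finset α)} := Equiv.subtypeEquivRight (fun a => adj_block_point a b)
      have e2 : {w : B // (pointBlockGraph B).Adj (some (Sum.inr b)) (some (Sum.inr w))} ≃
          {w : B // Disjoint (w : Finset α) (b : Finset α)} :=
        Equiv.subtypeEquivRight (fun w => hbb b w)
      rw [Nat.card_congr e1, Nat.card_congr e2, card_points, hB.1 b.1 b.2,
        Cfsg.Agent.S0427.card_subtype_blocks B (fun d => Disjoint d (b : Finset α)),
        card_disjoint hα hB b.2]
  · intro v w hvw
    rw [hcn, card_option_sum]
    rcases v with _ | (a | b) <;> rcases w with _ | (a' | c)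
    · exact absurd hvw adj_none_none
    · rw [card_of_false (fun _ h => adj_none_none h.1),
        card_of_false (fun x h => adj_point_point a' x h.2),
        card_of_false (fun x h => adj_none_block x h.1)]
    · exact absurd hvw (adj_none_block c)
    · rw [card_of_false (fun _ h => adj_none_none h.2),
        card_of_false (fun x h => adj_point_point a x h.1),
        card_of_false (fun x h => adj_none_block x h.2)]
    · exact absurd hvw (adj_point_point a a')
    · have hac : a ∈ (c : Finset α) := (adj_point_block a c).mp hvw
      rw [card_of_false (fun _ h => adj_block_none c h.2),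
        card_of_false (fun x h => adj_point_point a x h.1),
        card_of_false (fun x h => by
          have h1 := (adj_point_block a x).mp h.1
          have h2 := (hbb c x).mp h.2
          exact (disjoint_left.mp h2) h1 hac)]
    · exact absurd hvw (adj_block_none b)
    · have hab : a' ∈ (b : Finset α) := (adj_block_point a' b).mp hvw
      rw [card_of_false (fun _ h => adj_block_none b h.1),
        card_of_false (fun x h => adj_point_point a' x h.2),
        card_of_false (fun x h => by
          have h1 := (adj_point_block a' x).mp h.2
          have h2 := (hbb b x).mp h.1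
          exact (disjoint_left.mp h2) h1 hab)]
    · have hd : Disjoint (c : Finset α) (b : Finset α) := (hbb b c).mp hvw
      rw [card_of_false (fun _ h => adj_block_none b h.1),
        card_of_false (fun x h => by
          have h1 := (adj_block_point x b).mp h.1
          have h2 := (adj_block_point x c).mp h.2
          exact (disjoint_left.mp hd) h2 h1)]
      have e : {w : B // (pointBlockGraph B).Adj (some (Sum.inr b)) (some (Sum.inr w)) ∧
          (pointBlockGraph B).Adj (some (Sum.inr c)) (some (Sum.inr w))} ≃
          {w : B // Disjoint (w : Finset α) (b : Finset α) ∧ Disjoint (w : Finset α) (c : Finset α)} :=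
        Equiv.subtypeEquivRight (fun w => by rw [hbb b w, hbb c w])
      rw [Nat.card_congr e, Cfsg.Agent.S0427.card_subtype_blocks B
        (fun d => Disjoint d (b : Finset α) ∧ Disjoint d (c : Finset α)),
        card_disjoint_both_of_disjoint hα hB b.2 c.2 hd.symm]
  · intro v w hne hvw
    rw [hcn, card_option_sum]
    rcases v with _ | (a | b) <;> rcases w with _ | (a' | c)
    · exact absurd rfl hne
    · exact absurd (adj_none_point a') hvw
    · -- none, block
      rw [card_of_false (fun _ h => adj_none_none h.1),
        card_of_false (fun x h => adj_none_block x h.1)]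
      have e : {a : α // (pointBlockGraph B).Adj none (some (Sum.inl a)) ∧
          (pointBlockGraph B).Adj (some (Sum.inr c)) (some (Sum.inl a))} ≃
          {a : α // a ∈ (c : Finset α)} :=
        Equiv.subtypeEquivRight (fun a => by
          rw [adj_block_point a c]
          exact ⟨fun h => h.2, fun h => ⟨adj_none_point a, h⟩⟩)
      rw [Nat.card_congr e, card_points, hB.1 c.1 c.2]
    · exact absurd (adj_point_none a) hvw
    · -- point, point
      have haa : a ≠ a' := fun h => hne (by rw [h])
      rw [card_unit_true ⟨adj_point_none a, adj_point_none a'⟩,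
        card_of_false (fun x h => adj_point_point a x h.1)]
      have e : {w : B // (pointBlockGraph B).Adj (some (Sum.inl a)) (some (Sum.inr w)) ∧
          (pointBlockGraph B).Adj (some (Sum.inl a')) (some (Sum.inr w))} ≃
          {w : B // a ∈ (w : Finset α) ∧ a' ∈ (w : Finset α)} :=
        Equiv.subtypeEquivRight (fun w => by rw [adj_point_block a w, adj_point_block a' w])
      rw [Nat.card_congr e, Cfsg.Agent.S0427.card_subtype_blocks B (fun d => a ∈ d ∧ a' ∈ d),
        card_through_pair hα hB a a' haa]
    · -- point, block, a ∉ c
      have hac : a ∉ (c : Finset α) := fun h => hvw ((adj_point_block a c).mpr h)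
      rw [card_of_false (fun _ h => adj_block_none c h.2),
        card_of_false (fun x h => adj_point_point a x h.1)]
      have e : {w : B // (pointBlockGraph B).Adj (some (Sum.inl a)) (some (Sum.inr w)) ∧
          (pointBlockGraph B).Adj (some (Sum.inr c)) (some (Sum.inr w))} ≃
          {w : B // a ∈ (w : Finset α) ∧ Disjoint (w : Finset α) (c : Finset α)} :=
        Equiv.subtypeEquivRight (fun w => by rw [adj_point_block a w, hbb c w])
      rw [Nat.card_congr e, Cfsg.Agent.S0427.card_subtype_blocks B
        (fun d => a ∈ d ∧ Disjoint d (c : Finset α)), card_through_disjoint hα hB c.2 a hac]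
    · -- block, none
      rw [card_of_false (fun _ h => adj_none_none h.2),
        card_of_false (fun x h => adj_none_block x h.2)]
      have e : {a : α // (pointBlockGraph B).Adj (some (Sum.inr b)) (some (Sum.inl a)) ∧
          (pointBlockGraph B).Adj none (some (Sum.inl a))} ≃
          {a : α // a ∈ (b : Finset α)} :=
        Equiv.subtypeEquivRight (fun a => by
          rw [adj_block_point a b]
          exact ⟨fun h => h.1, fun h => ⟨h, adj_none_point a⟩⟩)
      rw [Nat.card_congr e, card_points, hB.1 b.1 b.2]
    · -- block, point, a' ∉ b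
      have hab : a' ∉ (b : Finset α) := fun h => hvw ((adj_block_point a' b).mpr h)
      rw [card_of_false (fun _ h => adj_block_none b h.1),
        card_of_false (fun x h => adj_point_point a' x h.2)]
      have e : {w : B // (pointBlockGraph B).Adj (some (Sum.inr b)) (some (Sum.inr w)) ∧
          (pointBlockGraph B).Adj (some (Sum.inl a')) (some (Sum.inr w))} ≃
          {w : B // a' ∈ (w : Finset α) ∧ Disjoint (w : Finset α) (b : Finset α)} :=
        Equiv.subtypeEquivRight (fun w => by rw [adj_point_block a' w, hbb b w, and_comm])
      rw [Nat.card_congr e, Cfsg.Agent.S0427.card_subtype_blocks B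
        (fun d => a' ∈ d ∧ Disjoint d (b : Finset α)), card_through_disjoint hα hB b.2 a' hab]
    · -- block, block, meeting
      have hbc : (b : Finset α) ≠ (c : Finset α) := fun h => hne (by
        have : b = c := Subtype.ext h
        rw [this])
      have hnd : ¬ Disjoint (c : Finset α) (b : Finset α) := fun h => hvw ((hbb b c).mpr h)
      have h2 : ((b : Finset α) ∩ (c : Finset α)).card = 2 := by
        rcases inter_zero_two hα hB b.2 c.2 hbc with h0 | h2
        · exfalso
          apply hnd
          rw [disjoint_comm, disjoint_iff_inter_eq_empty, ← card_eq_zero]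
          exact h0
        · exact h2
      rw [card_of_false (fun _ h => adj_block_none b h.1)]
      have e1 : {a : α // (pointBlockGraph B).Adj (some (Sum.inr b)) (some (Sum.inl a)) ∧
          (pointBlockGraph B).Adj (some (Sum.inr c)) (some (Sum.inl a))} ≃
          {a : α // a ∈ (b : Finset α) ∩ (c : Finset α)} :=
        Equiv.subtypeEquivRight (fun a => by
          rw [adj_block_point a b, adj_block_point a c, mem_inter])
      have e2 : {w : B // (pointBlockGraph B).Adj (some (Sum.inr b)) (some (Sum.inr w)) ∧
          (pointBlockGraph B).Adj (some (Sum.inr c)) (some (Sum.inr w))} ≃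
          {w : B // Disjoint (w : Finset α) (b : Finset α) ∧ Disjoint (w : Finset α) (c : Finset α)} :=
        Equiv.subtypeEquivRight (fun w => by rw [hbb b w, hbb c w])
      rw [Nat.card_congr e1, Nat.card_congr e2, card_points, h2,
        Cfsg.Agent.S0427.card_subtype_blocks B
          (fun d => Disjoint d (b : Finset α) ∧ Disjoint d (c : Finset α)),
        card_disjoint_both_of_inter hα hB b.2 c.2 h2]

end Cfsg.Agent.S0428
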