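import Cfsg.Statements.S0436
-- import your own Cfsg.Agent.* helpers here

set_option autoImplicit false
open Cfsg

namespace Cfsg.Agent.S0436

theorem sq_of_order_two {G : Type*} [Group G] {x : G} (h : orderOf x = 2) : x * x = 1 := by
  have := pow_orderOf_eq_one x
  rw [h, pow_two] at this
  exact this

/-- key step: if `e` commutes with `a*b` (a,b commuting involutions, a ≠ b) then it commutes with `a`. -/
theorem key {G : Type*} [Group G] {a b e : G} (ha : a * a = 1) (hb : b * b = 1) (he : e * e = 1)
    (hab : a ≠ b) (hcomm : a * b = b * a) (hc : e * (a * b) = (a * b) * e)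
    (hae : (a * e) ^ 2 = 1 ∨ (a * e) ^ 3 = 1) (hbe : (b * e) ^ 2 = 1 ∨ (b * e) ^ 3 = 1) :
    e * a = a * e := by
  have hai : a⁻¹ = a := inv_eq_of_mul_eq_one_right ha
  have hbi : b⁻¹ = b := inv_eq_of_mul_eq_one_right hb
  have hei : e⁻¹ = e := inv_eq_of_mul_eq_one_right he
  rcases hae with h2 | h3
  · -- (a e)^2 = 1
    have : a * e * (a * e) = 1 := by rw [← pow_two]; exact h2
    have h' : a * e = (a * e)⁻¹ := (inv_eq_of_mul_eq_one_right this).symm
    rw [mul_inv_rev, hai, hei] at h'
    exact h'.symm
  · -- (a e)^3 = 1
    have h3' : a * e * (a * e) * (a * e) = 1 := by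
      rw [← pow_two, ← pow_succ]; exact h3
    -- e a e = (a b) e b e
    have h1 : e * a * e = a * b * e * b * e := by
      have : e * a = a * b * e * b := by
        calc e * a = e * (a * b) * b := by rw [mul_assoc e, mul_assoc a, hb, mul_one]
          _ = a * b * e * b := by rw [hc]
      rw [this]
    -- a e a = e a e
    have h4 : a * e * a = e * a * e := by
      have : (a * e * a) * (e * a * e) = 1 := by
        rw [← h3']; group
      have h5 := inv_eq_of_mul_eq_one_left this
      rw [mul_inv_rev, mul_inv_rev, hai, hei, ← mul_assoc] at h5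
      exact h5.symm
    -- e a = b e b e
    have h6 : e * a = b * e * b * e := by
      have : a * (e * a) = a * (b * e * b * e) := by
        rw [← mul_assoc, h4, h1]; group
      exact mul_left_cancel this
    rcases hbe with k2 | k3
    · have : b * e * (b * e) = 1 := by rw [← pow_two]; exact k2
      have h7 : e * a = 1 := by rw [h6, ← this]; group
      have : e = a := by
        have := eq_inv_of_mul_eq_one_left h7
        rw [hai] at this; exact this
      rw [this]
    · exfalso
      have k3' : b * e * (b * e) * (b * e) = 1 := by
        rw [← pow_two, ← pow_succ]; exact k3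
      have h8 : e * a * (b * e) = 1 := by
        rw [h6, ← k3']; group
      have h9 : a * b = 1 := by
        have : e * (a * b) * e = 1 := by rw [← h8]; group
        have h10 : a * b = e⁻¹ * (e * (a * b) * e) * e⁻¹ := by group
        rw [h10, this, mul_one, hei, he]
      apply hab
      have := eq_inv_of_mul_eq_one_left h9
      rw [hbi] at this; exact this

/-- For distinct commuting members a, b of a set of 3-transpositions E, a member e of E centralises the product a * b if and only if it centralises both a and b. -/
theorem result {G : Type*} [Group G] {E : Set G} (hE : Cfsg.IsThreeTranspositionSet E) {a b e : G} (ha : a ∈ E) (hb : b ∈ E) (he : e ∈ E) (hab : a ≠ b) (hcomm : Commute a b) : Commute e (a * b) ↔ (Commute e a ∧ Commute e b) := by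
  constructor
  · intro hc
    have ha2 := sq_of_order_two (hE.1 a ha)
    have hb2 := sq_of_order_two (hE.1 b hb)
    have he2 := sq_of_order_two (hE.1 e he)
    have h1 : e * a = a * e :=
      key ha2 hb2 he2 hab hcomm.eq hc.eq (hE.2 a ha e he) (hE.2 b hb e he)
    have h2 : e * b = b * e := by
      apply key hb2 ha2 he2 hab.symm hcomm.eq.symm _ (hE.2 b hb e he) (hE.2 a ha e he)
      rw [← hcomm.eq]; exact hc.eq
    exact ⟨h1, h2⟩
  · rintro ⟨h1, h2⟩
    exact h1.mul_right h2

end Cfsg.Agent.S0436
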