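import Cfsg.Statements.S0437
-- import your own Cfsg.Agent.* helpers here

set_option autoImplicit false
open Cfsg

namespace Cfsg.Agent.S0437

theorem sq_of_order_two {G : Type*} [Group G] {x : G} (h : orderOf x = 2) : x * x = 1 := by
  have := pow_orderOf_eq_one x
  rw [h, pow_two] at this
  exact this

theorem comm_of_sq {G : Type*} [Group G] {a e : G} (ha : a * a = 1) (he : e * e = 1)
    (h2 : (a * e) ^ 2 = 1) : e * a = a * e := by
  have hai : a⁻¹ = a := inv_eq_of_mul_eq_one_right ha
  have hei : e⁻¹ = e := inv_eq_of_mul_eq_one_right he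
  have : a * e * (a * e) = 1 := by rw [← pow_two]; exact h2
  have h' : a * e = (a * e)⁻¹ := (inv_eq_of_mul_eq_one_right this).symm
  rw [mul_inv_rev, hai, hei] at h'
  exact h'.symm

theorem braid {G : Type*} [Group G] {a e : G} (ha : a * a = 1) (he : e * e = 1)
    (h3 : (a * e) ^ 3 = 1) : a * e * a = e * a * e := by
  have hai : a⁻¹ = a := inv_eq_of_mul_eq_one_right ha
  have hei : e⁻¹ = e := inv_eq_of_mul_eq_one_right he
  have h3' : a * e * (a * e) * (a * e) = 1 := by
    rw [← pow_two, ← pow_succ]; exact h3
  have : (a * e * a) * (e * a * e) = 1 := by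
    rw [← h3']; group
  have h5 := inv_eq_of_mul_eq_one_left this
  rw [mul_inv_rev, mul_inv_rev, hai, hei, ← mul_assoc] at h5
  exact h5.symm

/-- key step: if `e` commutes with `a*b` (a,b commuting involutions, a ≠ b) then it commutes with `a`. -/
theorem key {G : Type*} [Group G] {a b e : G} (ha : a * a = 1) (hb : b * b = 1) (he : e * e = 1)
    (hab : a ≠ b) (hc : e * (a * b) = (a * b) * e)
    (hae : (a * e) ^ 2 = 1 ∨ (a * e) ^ 3 = 1) (hbe : (b * e) ^ 2 = 1 ∨ (b * e) ^ 3 = 1) :
    e * a = a * e := by
  have hai : a⁻¹ = a := inv_eq_of_mul_eq_one_right ha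
  have hbi : b⁻¹ = b := inv_eq_of_mul_eq_one_right hb
  have hei : e⁻¹ = e := inv_eq_of_mul_eq_one_right he
  rcases hae with h2 | h3
  · exact comm_of_sq ha he h2
  · -- (a e)^3 = 1
    -- e a e = (a b) e b e
    have h1 : e * a * e = a * b * e * b * e := by
      have : e * a = a * b * e * b := by
        calc e * a = e * (a * b) * b := by rw [mul_assoc e, mul_assoc a, hb, mul_one]
          _ = a * b * e * b := by rw [hc]
      rw [this]
    -- a e a = e a e
    have h4 : a * e * a = e * a * e := braid ha he h3
    -- e a = b e b e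
    have h6 : e * a = b * e * b * e := by
      have : a * (e * a) = a * (b * e * b * e) := by
        rw [← mul_assoc, h4, h1]; group
      exact mul_left_cancel this
    rcases hbe with k2 | k3
    · have : b * e * (b * e) = 1 := by rw [← pow_two]; exact k2
      have h7 : e * a = 1 := by rw [h6, ← this]; group
      have : e = a := by
        have := eq_inv_of_mul_eq_one_left h7
        rw [hai] at this; exact this
      rw [this]
    · exfalso
      have k3' : b * e * (b * e) * (b * e) = 1 := by
        rw [← pow_two, ← pow_succ]; exact k3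
      have h8 : e * a * (b * e) = 1 := by
        rw [h6, ← k3']; group
      have h9 : a * b = 1 := by
        have : e * (a * b) * e = 1 := by rw [← h8]; group
        have h10 : a * b = e⁻¹ * (e * (a * b) * e) * e⁻¹ := by group
        rw [h10, this, mul_one, hei, he]
      apply hab
      have := eq_inv_of_mul_eq_one_left h9
      rw [hbi] at this; exact this

/-- the case where none of a, b, c commutes with e: then a = b. -/
theorem three_case {G : Type*} [Group G] {a b c e : G} (ha : a * a = 1) (hb : b * b = 1)
    (hc : c * c = 1) (he : e * e = 1)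
    (hab : a * b = b * a) (hac : a * c = c * a) (hbc : b * c = c * b)
    (hcomm : e * (a * b * c) = (a * b * c) * e)
    (ba : a * e * a = e * a * e) (bb : b * e * b = e * b * e) (bc : c * e * c = e * c * e) :
    a = b := by
  have hai : a⁻¹ = a := inv_eq_of_mul_eq_one_right ha
  have hbi : b⁻¹ = b := inv_eq_of_mul_eq_one_right hb
  have hci : c⁻¹ = c := inv_eq_of_mul_eq_one_right hc
  have hei : e⁻¹ = e := inv_eq_of_mul_eq_one_right he
  have hcomm' : e * (a * b * c) * e = a * b * c := by
    rw [hcomm, mul_assoc, he, mul_one]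
  have hcomm2' : e * (b * a * c) * e = b * a * c := by
    rw [← hab]; exact hcomm'
  have e1 : (a * e * a) * (b * e * b) * (c * e * c) = a * b * c := by
    rw [ba, bb, bc]
    calc e * a * e * (e * b * e) * (e * c * e)
        = e * a * (e * e) * b * (e * e) * c * e := by group
      _ = e * (a * b * c) * e := by rw [he]; group
      _ = a * b * c := hcomm'
  have e2 : (b * e * b) * (a * e * a) * (c * e * c) = b * a * c := by
    rw [ba, bb, bc]
    calc e * b * e * (e * a * e) * (e * c * e)
        = e * b * (e * e) * a * (e * e) * c * e := by group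
      _ = e * (b * a * c) * e := by rw [he]; group
      _ = b * a * c := hcomm2'
  -- (1') e a b e b c e = b
  have f1 : e * a * b * e * b * c * e = b := by
    calc e * a * b * e * b * c * e
        = a⁻¹ * ((a * e * a) * (b * e * b) * (c * e * c)) * c⁻¹ := by group
      _ = a⁻¹ * (a * b * c) * c⁻¹ := by rw [e1]
      _ = b := by group
  have f2 : e * b * a * e * a * c * e = a := by
    calc e * b * a * e * a * c * e
        = b⁻¹ * ((b * e * b) * (a * e * a) * (c * e * c)) * c⁻¹ := by group
      _ = b⁻¹ * (b * a * c) * c⁻¹ := by rw [e2]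
      _ = a := by group
  have g1 : e * a * b * e = b * e * c * b := by
    calc e * a * b * e = (e * a * b * e * b * c * e) * (e⁻¹ * c⁻¹ * b⁻¹) := by group
      _ = b * (e⁻¹ * c⁻¹ * b⁻¹) := by rw [f1]
      _ = b * e * c * b := by rw [hei, hci, hbi]; group
  have g2 : e * a * b * e = a * e * c * a := by
    calc e * a * b * e = e * (a * b) * e := by group
      _ = e * (b * a) * e := by rw [hab]
      _ = (e * b * a * e * a * c * e) * (e⁻¹ * c⁻¹ * a⁻¹) := by group
      _ = a * (e⁻¹ * c⁻¹ * a⁻¹) := by rw [f2]
      _ = a * e * c * a := by rw [hei, hci, hai]; group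
  -- b e b c = a e a c
  have g3 : b * e * b * c = a * e * a * c := by
    calc b * e * b * c = b * e * (b * c) := by group
      _ = b * e * (c * b) := by rw [hbc]
      _ = b * e * c * b := by group
      _ = a * e * c * a := by rw [← g1, g2]
      _ = a * e * (c * a) := by group
      _ = a * e * (a * c) := by rw [hac]
      _ = a * e * a * c := by group
  have g4 : b * e * b = a * e * a := mul_right_cancel g3
  rw [ba, bb] at g4
  have g5 : e * b = e * a := mul_right_cancel g4
  exact (mul_left_cancel g5).symm

/-- `e` commutes with `a` under the hypotheses. -/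
theorem main {G : Type*} [Group G] {a b c e : G} (ha : a * a = 1) (hb : b * b = 1)
    (hc : c * c = 1) (he : e * e = 1) (hne_ab : a ≠ b) (hne_ac : a ≠ c)
    (hab : a * b = b * a) (hac : a * c = c * a) (hbc : b * c = c * b)
    (hcomm : e * (a * b * c) = (a * b * c) * e)
    (hae : (a * e) ^ 2 = 1 ∨ (a * e) ^ 3 = 1) (hbe : (b * e) ^ 2 = 1 ∨ (b * e) ^ 3 = 1)
    (hce : (c * e) ^ 2 = 1 ∨ (c * e) ^ 3 = 1) :
    e * a = a * e := by
  rcases hae with h2 | h3
  · exact comm_of_sq ha he h2
  rcases hbe with k2 | k3
  · -- e commutes with b, hence with a*c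
    have hb' := comm_of_sq hb he k2
    have : e * (a * c) = (a * c) * e := by
      have h1 : a * c = (a * b * c) * b := by
        calc a * c = a * (c * (b * b)) := by rw [hb, mul_one]
          _ = a * ((c * b) * b) := by group
          _ = a * ((b * c) * b) := by rw [hbc]
          _ = (a * b * c) * b := by group
      rw [h1, ← mul_assoc, hcomm, mul_assoc, hb', ← mul_assoc]
    exact key ha hc he hne_ac this (Or.inr h3) hce
  rcases hce with l2 | l3
  · have hc' := comm_of_sq hc he l2
    have : e * (a * b) = (a * b) * e := by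
      have h1 : a * b = (a * b * c) * c := by
        rw [mul_assoc (a * b), hc, mul_one]
      rw [h1, ← mul_assoc, hcomm, mul_assoc, hc', ← mul_assoc]
    exact key ha hb he hne_ab this (Or.inr h3) (Or.inr k3)
  · exact absurd (three_case ha hb hc he hab hac hbc hcomm (braid ha he h3) (braid hb he k3)
      (braid hc he l3)) hne_ab

/-- For three distinct, pairwise commuting members a, b, c of a set of 3-transpositions E, a member e of E centralises a * b * c if and only if it centralises each of a, b and c. -/
theorem result {G : Type*} [Group G] {E : Set G} (hE : Cfsg.IsThreeTranspositionSet E) {a b c e : G} (ha : a ∈ E) (hb : b ∈ E) (hc : c ∈ E) (he : e ∈ E) (hab : a ≠ b) (hac : a ≠ c) (hbc : b ≠ c) (h₁ : Commute a b) (h₂ : Commute a c) (h₃ : Commute b c) : Commute e (a * b * c) ↔ (Commute e a ∧ Commute e b ∧ Commute e c) := by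
  constructor
  · intro hcm
    have ha2 := sq_of_order_two (hE.1 a ha)
    have hb2 := sq_of_order_two (hE.1 b hb)
    have hc2 := sq_of_order_two (hE.1 c hc)
    have he2 := sq_of_order_two (hE.1 e he)
    have hae := hE.2 a ha e he
    have hbe := hE.2 b hb e he
    have hce := hE.2 c hc e he
    have A : e * a = a * e :=
      main ha2 hb2 hc2 he2 hab hac h₁.eq h₂.eq h₃.eq hcm.eq hae hbe hce
    have B : e * b = b * e := by
      apply main hb2 ha2 hc2 he2 hab.symm hbc h₁.eq.symm h₃.eq h₂.eq _ hbe hae hce
      rw [← h₁.eq]; exact hcm.eq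
    have C : e * c = c * e := by
      apply main hc2 ha2 hb2 he2 hac.symm hbc.symm h₂.eq.symm h₃.eq.symm h₁.eq _ hce hae hbe
      have : c * a * b = a * b * c := by
        rw [← h₂.eq, mul_assoc, ← h₃.eq, ← mul_assoc]
      rw [this]; exact hcm.eq
    exact ⟨A, B, C⟩
  · rintro ⟨h1, h2, h3⟩
    exact (h1.mul_right h2).mul_right h3

end Cfsg.Agent.S0437
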