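import Cfsg.Statements.S0438
import Mathlib

set_option autoImplicit false
open Cfsg

namespace Cfsg.Agent.S0438

/-- Let E be a set of 3-transpositions closed under conjugation, and x an involutory automorphism of the group mapping E to itself. If some a in E fails to commute with its image x a, then x fixes an element of E. -/
theorem result {G : Type*} [Group G] {E : Set G} (hE : Cfsg.IsThreeTranspositionSet E) (hconj : ∀ g : G, ∀ d ∈ E, g * d * g⁻¹ ∈ E) (x : G ≃* G) (hx : ∀ g : G, x (x g) = g) (hxE : ∀ d ∈ E, x d ∈ E) {a : G} (ha : a ∈ E) (h : ¬ Commute a (x a)) : ∃ d ∈ E, x d = d := by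
  set b := x a with hb
  have hbE : b ∈ E := hxE a ha
  have ha2 : a * a = 1 := by
    have := hE.1 a ha
    rw [← sq, ← this, pow_orderOf_eq_one]
  have hb2 : b * b = 1 := by
    have := hE.1 b hbE
    rw [← sq, ← this, pow_orderOf_eq_one]
  have hainv : a⁻¹ = a := inv_eq_of_mul_eq_one_left ha2
  have hbinv : b⁻¹ = b := inv_eq_of_mul_eq_one_left hb2
  refine ⟨a * b * a⁻¹, hconj a b hbE, ?_⟩
  rw [map_mul, map_mul, map_inv, ← hb, hx a, hainv, hbinv]
  rcases hE.2 a ha b hbE with h2 | h3
  · exfalso
    apply h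
    -- (ab)^2 = 1 → ab = ba
    have : a * b * (a * b) = 1 := by rw [← sq]; exact h2
    show a * b = b * a
    calc a * b = (a * b)⁻¹ := (inv_eq_of_mul_eq_one_left this).symm
      _ = b * a := by rw [mul_inv_rev, hainv, hbinv]
  · -- ababab = 1 → bab = aba
    have h3' : a * b * (a * b) * (a * b) = 1 := by
      rw [← h3, pow_succ, pow_succ, pow_one]
    -- b a b = (a b a)⁻¹⁻¹ ...
    have : (a * b * a) * (b * a * b) = 1 := by
      rw [← h3']; group
    have h4 : b * a * b = (a * b * a)⁻¹ := (inv_eq_of_mul_eq_one_right this).symm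
    rw [h4, mul_inv_rev, mul_inv_rev, hainv, hbinv, mul_assoc]

end Cfsg.Agent.S0438
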