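import Cfsg.Statements.S0439
import Mathlib

set_option autoImplicit false
open Cfsg

namespace Cfsg.Agent.S0439

theorem swap_mul_swap_pow {α : Type*} [DecidableEq α] [Fintype α] {a b c d : α} (hab : a ≠ b) (hcd : c ≠ d) :
    (Equiv.swap a b * Equiv.swap c d) ^ 2 = 1 ∨ (Equiv.swap a b * Equiv.swap c d) ^ 3 = 1 := by
  by_cases h1 : a = c
  · subst h1
    by_cases h2 : b = d
    · subst h2
      left; simp
    · right
      have := (Equiv.Perm.isThreeCycle_swap_mul_swap_same hab hcd h2).orderOf
      rw [← this]; exact pow_orderOf_eq_one _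
  · by_cases h2 : a = d
    · subst h2
      by_cases h3 : b = c
      · subst h3
        left
        rw [Equiv.swap_comm b a]; simp
      · right
        have := (Equiv.Perm.isThreeCycle_swap_mul_swap_same hab (Ne.symm hcd) h3).orderOf
        rw [Equiv.swap_comm c a, ← this]; exact pow_orderOf_eq_one _
    · by_cases h3 : b = c
      · subst h3
        right
        have := (Equiv.Perm.isThreeCycle_swap_mul_swap_same (Ne.symm hab) hcd h2).orderOf
        rw [Equiv.swap_comm a b, ← this]; exact pow_orderOf_eq_one _
      · by_cases h4 : b = d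
        · subst h4
          right
          have := (Equiv.Perm.isThreeCycle_swap_mul_swap_same (Ne.symm hab) (Ne.symm hcd) h1).orderOf
          rw [Equiv.swap_comm a b, Equiv.swap_comm c b, ← this]; exact pow_orderOf_eq_one _
        · left
          have hdisj : Equiv.Perm.Disjoint (Equiv.swap a b) (Equiv.swap c d) := by
            intro x
            by_cases hxa : x = a
            · subst hxa; right; exact Equiv.swap_apply_of_ne_of_ne h1 h2
            · by_cases hxb : x = b
              · subst hxb; right; exact Equiv.swap_apply_of_ne_of_ne h3 h4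
              · left; exact Equiv.swap_apply_of_ne_of_ne hxa hxb
          rw [hdisj.commute.mul_pow]
          simp [sq]

/-- statement -/
theorem result (n : ℕ) (hn : 2 ≤ n) : Cfsg.IsThreeTranspositionClass {σ : Equiv.Perm (Fin n) | σ.IsSwap} := by
  refine ⟨⟨?_, ?_⟩, ?_, ?_⟩
  · intro d hd
    exact hd.orderOf
  · rintro d ⟨a, b, hab, rfl⟩ e ⟨c, d', hcd, rfl⟩
    exact swap_mul_swap_pow hab hcd
  · have h0 : (⟨0, by omega⟩ : Fin n) ≠ ⟨1, by omega⟩ := by
      intro h; simp [Fin.ext_iff] at h
    refine ⟨Equiv.swap ⟨0, by omega⟩ ⟨1, by omega⟩, ⟨_, _, h0, rfl⟩, ?_⟩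
    ext σ
    constructor
    · rintro ⟨a, b, hab, rfl⟩
      exact Equiv.Perm.isConj_swap h0 hab
    · intro h
      replace h : IsConj _ σ := h
      rw [Equiv.Perm.isConj_iff_cycleType_eq] at h
      show σ.IsSwap
      rw [← Equiv.Perm.card_support_eq_two, ← Equiv.Perm.sum_cycleType, ← h, Equiv.Perm.sum_cycleType,
        Equiv.Perm.card_support_eq_two]
      exact ⟨_, _, h0, rfl⟩
  · exact Equiv.Perm.closure_isSwap

end Cfsg.Agent.S0439
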