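import Cfsg.Statements.S0440
import Mathlib
import Cfsg.Agent.S0269

set_option autoImplicit false
open Cfsg

namespace Cfsg.Agent.S0440

open Matrix Cfsg.Agent.Lib.Helper1_Symp Cfsg.Agent.Helper9Sp Cfsg.Agent.S0269

variable {n : ℕ}

lemma zmod2_cases (c : ZMod 2) : c = 0 ∨ c = 1 := by revert c; decide

lemma form_left_ne_zero (u : Fin n ⊕ Fin n → ZMod 2) (hu : u ≠ 0) :
    ∃ x, sympForm n (ZMod 2) x u ≠ 0 := by
  obtain ⟨x, hx⟩ := exists_form_ne_zero u hu
  exact ⟨x, by rw [sympForm_swap]; exact neg_ne_zero.2 hx⟩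

lemma tv_ne_one (u : Fin n ⊕ Fin n → ZMod 2) (hu : u ≠ 0) : tv u (1 : ZMod 2) ≠ 1 := by
  intro h
  obtain ⟨x, hx'⟩ := form_left_ne_zero u hu
  have h1 := tv_mulVec u 1 x
  rw [h, one_mulVec', one_mul] at h1
  have h2 : sympForm n (ZMod 2) x u • u = 0 := by
    have := h1.symm
    rwa [add_eq_left] at this
  rcases smul_eq_zero.1 h2 with h3 | h3
  · exact hx' h3
  · exact hu h3

lemma tv_sq (u : Fin n ⊕ Fin n → ZMod 2) : tv u (1 : ZMod 2) * tv u 1 = 1 := by
  rw [tv_mul]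
  have : (1 : ZMod 2) + 1 = 0 := by decide
  rw [this, tv_zero]

lemma orderOf_tv (u : Fin n ⊕ Fin n → ZMod 2) (hu : u ≠ 0) : orderOf (tv u (1 : ZMod 2)) = 2 := by
  apply orderOf_eq_prime
  · rw [pow_two]; exact tv_sq u
  · exact tv_ne_one u hu

lemma tv_inv' (u : Fin n ⊕ Fin n → ZMod 2) : (tv u (1 : ZMod 2))⁻¹ = tv u 1 :=
  inv_eq_of_mul_eq_one_right (tv_sq u)

lemma tv_sub_one (u : Fin n ⊕ Fin n → ZMod 2) (x : Fin n ⊕ Fin n → ZMod 2) :
    ((tv u (1 : ZMod 2)).1 - 1) *ᵥ x = sympForm n (ZMod 2) x u • u := by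
  rw [Matrix.sub_mulVec, tv_mulVec, Matrix.one_mulVec, add_sub_cancel_left, one_mul]

lemma rank_tv (u : Fin n ⊕ Fin n → ZMod 2) (hu : u ≠ 0) :
    ((tv u (1 : ZMod 2)).1 - 1).rank = 1 := by
  apply le_antisymm
  · have : (tv u (1 : ZMod 2)).1 - 1 = vecMulVec u (Matrix.J (Fin n) (ZMod 2) *ᵥ u) := by
      show sympTransvection n u 1 - 1 = _
      unfold sympTransvection
      rw [one_smul, add_sub_cancel_left]
    rw [this]
    exact rank_vecMulVec_le _ _
  · rw [Nat.one_le_iff_ne_zero]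
    intro h0
    unfold Matrix.rank at h0
    rw [Submodule.finrank_eq_zero] at h0
    obtain ⟨x, hx⟩ := form_left_ne_zero u hu
    have hmem : ((tv u (1 : ZMod 2)).1 - 1) *ᵥ x ∈
        LinearMap.range ((tv u (1 : ZMod 2)).1 - 1).mulVecLin := ⟨x, rfl⟩
    rw [h0, Submodule.mem_bot, tv_sub_one] at hmem
    rcases smul_eq_zero.1 hmem with h3 | h3
    · exact hx h3
    · exact hu h3

lemma eq_tv_of_rank_one (g : Matrix.symplecticGroup (Fin n) (ZMod 2))
    (h : (g.1 - 1).rank = 1) : ∃ u : Fin n ⊕ Fin n → ZMod 2, u ≠ 0 ∧ g = tv u 1 := by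
  unfold Matrix.rank at h
  obtain ⟨⟨a, ha⟩, ha0, hspan⟩ := finrank_eq_one_iff'.1 h
  have ha0' : a ≠ 0 := fun h0 => ha0 (Subtype.ext h0)
  have hφ : ∀ x, ∃ c : ZMod 2, (g.1 - 1) *ᵥ x = c • a := by
    intro x
    obtain ⟨c, hc⟩ := hspan ⟨(g.1 - 1) *ᵥ x, ⟨x, rfl⟩⟩
    exact ⟨c, (congrArg Subtype.val hc).symm⟩
  choose φ hφ using hφ
  have hg : ∀ x, g.1 *ᵥ x = x + φ x • a := by
    intro x
    have := hφ x
    rw [Matrix.sub_mulVec, Matrix.one_mulVec, sub_eq_iff_eq_add] at this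
    rw [this, add_comm]
  have hp := (mem_symplecticGroup_iff_preserves g.1).1 g.2
  have key : ∀ x y, φ y * sympForm n (ZMod 2) x a = φ x * sympForm n (ZMod 2) y a := by
    intro x y
    have := hp x y
    rw [hg, hg, sympForm_add_left, sympForm_add_right, sympForm_add_right, sympForm_smul_left,
      sympForm_smul_left, sympForm_smul_right, sympForm_smul_right, sympForm_self,
      sympForm_swap a y] at this
    linear_combination this
  obtain ⟨y₀, hy₀⟩ := ha
  have hy₀' : (g.1 - 1) *ᵥ y₀ = a := hy₀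
  have hφy₀ : φ y₀ = 1 := by
    have h1 := hφ y₀
    rw [hy₀'] at h1
    have h2 : (φ y₀ - 1) • a = 0 := by rw [sub_smul, one_smul, ← h1, sub_self]
    rcases smul_eq_zero.1 h2 with h3 | h3
    · exact sub_eq_zero.1 h3
    · exact absurd h3 ha0'
  have hκ : sympForm n (ZMod 2) y₀ a = 1 := by
    rcases zmod2_cases (sympForm n (ZMod 2) y₀ a) with h0 | h1
    · exfalso
      obtain ⟨x, hx⟩ := form_left_ne_zero a ha0'
      have := key x y₀
      rw [hφy₀, h0, one_mul, mul_zero] at this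
      exact hx this
    · exact h1
  have hφx : ∀ x, φ x = sympForm n (ZMod 2) x a := by
    intro x
    have := key x y₀
    rw [hφy₀, hκ, one_mul, mul_one] at this
    exact this.symm
  refine ⟨a, ha0', ?_⟩
  apply Cfsg.Agent.S0269.sp_ext
  intro x
  rw [hg, tv_mulVec, hφx, one_mul]

/-- In the symplectic group in dimension 2n ≥ 2 over the field with two elements, the elements g for which g - 1 has rank one (the symplectic transvections) form a conjugacy class of 3-transpositions generating the group. -/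
theorem result (n : ℕ) (hn : 1 ≤ n) : Cfsg.IsThreeTranspositionClass {g : Matrix.symplecticGroup (Fin n) (ZMod 2) | ((g : Matrix (Fin n ⊕ Fin n) (Fin n ⊕ Fin n) (ZMod 2)) - 1).rank = 1} := by
  classical
  set D : Set (Matrix.symplecticGroup (Fin n) (ZMod 2)) :=
    {g | ((g : Matrix (Fin n ⊕ Fin n) (Fin n ⊕ Fin n) (ZMod 2)) - 1).rank = 1} with hD
  have hDiff : ∀ g, g ∈ D ↔ ∃ u : Fin n ⊕ Fin n → ZMod 2, u ≠ 0 ∧ g = tv u 1 := by
    intro g
    constructor
    · intro hg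
      exact eq_tv_of_rank_one g hg
    · rintro ⟨u, hu, rfl⟩
      exact rank_tv u hu
  refine ⟨⟨?_, ?_⟩, ?_, ?_⟩
  · intro d hd
    obtain ⟨u, hu, rfl⟩ := (hDiff d).1 hd
    exact orderOf_tv u hu
  · intro d hd e he
    obtain ⟨u, hu, rfl⟩ := (hDiff d).1 hd
    obtain ⟨w, hw, rfl⟩ := (hDiff e).1 he
    have hc1 : tv u (1 : ZMod 2) * tv w 1 * tv u 1 = tv (w + sympForm n (ZMod 2) w u • u) 1 := by
      have := tv_conj (tv u (1 : ZMod 2)) w 1
      rw [tv_inv', tv_mulVec, one_mul] at this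
      exact this
    have hc2 : tv w (1 : ZMod 2) * tv u 1 * tv w 1 = tv (u + sympForm n (ZMod 2) u w • w) 1 := by
      have := tv_conj (tv w (1 : ZMod 2)) u 1
      rw [tv_inv', tv_mulVec, one_mul] at this
      exact this
    rcases zmod2_cases (sympForm n (ZMod 2) w u) with h0 | h1
    · left
      rw [h0, zero_smul, add_zero] at hc1
      rw [pow_two]
      calc tv u (1 : ZMod 2) * tv w 1 * (tv u 1 * tv w 1)
          = (tv u 1 * tv w 1 * tv u 1) * tv w 1 := by group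
        _ = 1 := by rw [hc1, tv_sq]
    · right
      have h1' : sympForm n (ZMod 2) u w = 1 := by
        rw [sympForm_swap, h1]; decide
      rw [h1, one_smul] at hc1
      rw [h1', one_smul, add_comm] at hc2
      rw [pow_succ, pow_two]
      calc tv u (1 : ZMod 2) * tv w 1 * (tv u 1 * tv w 1) * (tv u 1 * tv w 1)
          = (tv u 1 * tv w 1 * tv u 1) * (tv w 1 * tv u 1 * tv w 1) := by group
        _ = 1 := by rw [hc1, hc2, tv_sq]
  · -- single class
    set u₀ : Fin n ⊕ Fin n → ZMod 2 := Pi.single (Sum.inl ⟨0, hn⟩) 1 with hu₀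
    have hu₀0 : u₀ ≠ 0 := by
      intro h
      have := congrFun h (Sum.inl ⟨0, hn⟩)
      simp [hu₀] at this
    refine ⟨tv u₀ 1, (hDiff _).2 ⟨u₀, hu₀0, rfl⟩, ?_⟩
    ext g
    rw [hDiff]
    show _ ↔ IsConj (tv u₀ 1) g
    rw [isConj_iff]
    constructor
    · rintro ⟨u, hu, rfl⟩
      obtain ⟨s, hs⟩ := Cfsg.Agent.S0271.result n u₀ u hu₀0 hu
      exact ⟨s, by rw [tv_conj, hs]⟩
    · rintro ⟨s, rfl⟩
      refine ⟨s.1 *ᵥ u₀, ?_, tv_conj s u₀ 1⟩
      intro h0
      apply tv_ne_one u₀ hu₀0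
      have h1 := tv_conj s u₀ (1 : ZMod 2)
      rw [h0, tv_zero_vec] at h1
      have : tv u₀ (1 : ZMod 2) = s⁻¹ * (s * tv u₀ 1 * s⁻¹) * s := by group
      rw [this, h1]
      group
  · rw [eq_top_iff, ← Cfsg.Agent.S0765.result, Subgroup.closure_le]
    rintro A ⟨w, c, hA⟩
    have hA' : A = tv w c := Subtype.ext hA
    rw [hA']
    rcases zmod2_cases c with rfl | rfl
    · rw [tv_zero]; exact Subgroup.one_mem _
    · by_cases hw : w = 0
      · rw [hw, tv_zero_vec]; exact Subgroup.one_mem _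
      · exact Subgroup.subset_closure ((hDiff _).2 ⟨w, hw, rfl⟩)

end Cfsg.Agent.S0440
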