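import Mathlib
import Cfsg.Statements.S0442
-- import your own Cfsg.Agent.* helpers here

set_option autoImplicit false
open Cfsg

namespace Cfsg.Agent.S0442

theorem sq_of_order_two {G : Type*} [Group G] {x : G} (h : orderOf x = 2) : x * x = 1 := by
  have := pow_orderOf_eq_one x
  rw [h, pow_two] at this
  exact this

theorem L1 {G : Type*} [Group G] {a b : G} (ha : a * a = 1) (n : ℕ) :
    a * (a * b) ^ n = (b * a) ^ n * a := by
  induction n with
  | zero => simp
  | succ n ih =>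
    rw [pow_succ, ← mul_assoc, ih, pow_succ]
    calc (b * a) ^ n * a * (a * b) = (b * a) ^ n * ((a * a) * b) := by group
      _ = (b * a) ^ n * b := by rw [ha, one_mul]
      _ = (b * a) ^ n * (b * (a * a)) := by rw [ha, mul_one]
      _ = (b * a) ^ n * (b * a) * a := by group

theorem L2 {G : Type*} [Group G] {a b : G} (ha : a * a = 1) (hb : b * b = 1) (n : ℕ) :
    (b * a) ^ n = ((a * b) ^ n)⁻¹ := by
  have hai : a⁻¹ = a := inv_eq_of_mul_eq_one_right ha
  have hbi : b⁻¹ = b := inv_eq_of_mul_eq_one_right hb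
  rw [← inv_pow, mul_inv_rev, hai, hbi]

/-- even case -/
theorem even_case {G : Type*} [Group G] {a b : G} (ha : a * a = 1) (hb : b * b = 1) (m : ℕ)
    (h : (a * b) ^ (2 * m) = 1) : (a * b) ^ m * a = a * (a * b) ^ m := by
  rw [L1 ha, L2 ha hb]
  have : (a * b) ^ m * (a * b) ^ m = 1 := by rw [← pow_add, ← two_mul]; exact h
  rw [inv_eq_of_mul_eq_one_right this]

theorem shift {G : Type*} [Group G] (a b : G) (n : ℕ) :
    b * (a * b) ^ n = (b * a) ^ n * b := by
  induction n with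
  | zero => simp
  | succ n ih =>
    rw [pow_succ, ← mul_assoc, ih, pow_succ]; group

/-- odd case -/
theorem odd_case {G : Type*} [Group G] {a b : G} (ha : a * a = 1) (hb : b * b = 1) (m : ℕ)
    (h : (a * b) ^ (2 * m + 1) = 1) : (a * b) ^ m * a = b * (a * b) ^ m := by
  rw [shift, L2 ha hb]
  have h1 : (a * b) ^ m * (a * b) ^ m * (a * b) = 1 := by
    rw [← pow_add, ← two_mul, ← pow_succ]; exact h
  -- x^m * a = (x^m)⁻¹ * b
  have h2 : (a * b) ^ m * ((a * b) ^ m * a) = b := by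
    calc (a * b) ^ m * ((a * b) ^ m * a)
        = ((a * b) ^ m * (a * b) ^ m * (a * b)) * (b⁻¹ * a⁻¹ * a) := by group
      _ = b⁻¹ := by rw [h1]; group
      _ = b := inv_eq_of_mul_eq_one_right hb
  exact eq_inv_mul_iff_mul_eq.mpr h2

theorem result {G : Type*} [Group G] (a g : G) (ha : orderOf a = 2) : (∀ m : ℕ, orderOf (a * (g⁻¹ * a * g)) = 2 * m + 1 → Commute (g * (a * (g⁻¹ * a * g)) ^ m) a) ∧ (∀ m : ℕ, orderOf (a * (g⁻¹ * a * g)) = 2 * m → Commute ((a * (g⁻¹ * a * g)) ^ m) a ∧ Commute ((a * (g * a * g⁻¹)) ^ m) a) := by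
  have ha2 := sq_of_order_two ha
  have hb2 : (g⁻¹ * a * g) * (g⁻¹ * a * g) = 1 := by
    calc (g⁻¹ * a * g) * (g⁻¹ * a * g) = g⁻¹ * (a * a) * g := by group
      _ = 1 := by rw [ha2]; group
  have hb2' : (g * a * g⁻¹) * (g * a * g⁻¹) = 1 := by
    calc (g * a * g⁻¹) * (g * a * g⁻¹) = g * (a * a) * g⁻¹ := by group
      _ = 1 := by rw [ha2]; group
  constructor
  · intro m hm
    have h : (a * (g⁻¹ * a * g)) ^ (2 * m + 1) = 1 := by
      rw [← hm]; exact pow_orderOf_eq_one _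
    have := odd_case ha2 hb2 m h
    show g * (a * (g⁻¹ * a * g)) ^ m * a = a * (g * (a * (g⁻¹ * a * g)) ^ m)
    rw [mul_assoc, this]; group
  · intro m hm
    have h : (a * (g⁻¹ * a * g)) ^ (2 * m) = 1 := by
      rw [← hm]; exact pow_orderOf_eq_one _
    refine ⟨even_case ha2 hb2 m h, ?_⟩
    apply even_case ha2 hb2' m
    -- a * (g a g⁻¹) is conjugate to the inverse of a * (g⁻¹ a g)
    have hconj : a * (g * a * g⁻¹) = g * ((g⁻¹ * a * g) * a) * g⁻¹ := by group
    have hinv : (g⁻¹ * a * g) * a = (a * (g⁻¹ * a * g))⁻¹ := by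
      have hai : a⁻¹ = a := inv_eq_of_mul_eq_one_right ha2
      have hbi : (g⁻¹ * a * g)⁻¹ = g⁻¹ * a * g := inv_eq_of_mul_eq_one_right hb2
      rw [mul_inv_rev, hai, hbi]
    rw [hconj, hinv, conj_pow, inv_pow, h]; group

end Cfsg.Agent.S0442
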