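import Mathlib
import Cfsg.Statements.S0443
-- import your own Cfsg.Agent.* helpers here

set_option autoImplicit false
open Cfsg

namespace Cfsg.Agent.S0443

/-- an element of order 2 centralizing a Sylow 2-subgroup lies in it -/
theorem mem_of_centralizes {G : Type*} [Group G] (t : G) (ht : orderOf t = 2) (P : Sylow 2 G)
    (hP : (P : Subgroup G) ≤ Subgroup.centralizer ({t} : Set G)) : t ∈ (P : Subgroup G) := by
  have hQ : IsPGroup 2 (Subgroup.zpowers t) := by
    rw [IsPGroup.iff_orderOf]
    intro x
    obtain ⟨x, hx⟩ := x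
    obtain ⟨k, rfl⟩ := Subgroup.mem_zpowers_iff.mp hx
    have h2 : (⟨t ^ k, hx⟩ : Subgroup.zpowers t) ^ 2 = 1 := by
      apply Subtype.ext
      simp only [Subgroup.coe_pow, Subgroup.coe_one]
      rw [← zpow_natCast, ← zpow_mul, mul_comm, zpow_mul, zpow_natCast, ← ht, pow_orderOf_eq_one,
        one_zpow]
    have hdvd : orderOf (⟨t ^ k, hx⟩ : Subgroup.zpowers t) ∣ 2 ^ 1 := by
      rw [pow_one]; exact orderOf_dvd_of_pow_eq_one h2
    obtain ⟨j, _, hj⟩ := (Nat.dvd_prime_pow Nat.prime_two).mp hdvd
    exact ⟨j, hj⟩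
  have hnorm : Subgroup.zpowers t ≤ Subgroup.normalizer ((P : Subgroup G) : Set G) := by
    rw [Subgroup.zpowers_le]
    rw [Subgroup.mem_normalizer_iff]
    intro h
    constructor
    · intro hh
      have : h * t = t * h := by
        have := hP hh
        rw [Subgroup.mem_centralizer_iff] at this
        exact (this t (Set.mem_singleton t)).symm
      have h3 : t * h * t⁻¹ = h := by rw [← this]; group
      rw [h3]; exact hh
    · intro hh
      have h4 := hP hh
      rw [Subgroup.mem_centralizer_iff] at h4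
      have h5 := h4 t (Set.mem_singleton t)
      -- t * (t h t⁻¹) = (t h t⁻¹) * t
      have h6 : h = t⁻¹ * (t * h * t⁻¹) * t := by group
      have h7 : t⁻¹ * (t * h * t⁻¹) * t = t * h * t⁻¹ := by
        rw [mul_assoc, ← h5]; group
      rw [h6, h7]; exact hh
  have hsup : IsPGroup 2 ((Subgroup.zpowers t ⊔ (P : Subgroup G) : Subgroup G)) :=
    IsPGroup.to_sup_of_normal_right' hQ P.isPGroup' hnorm
  have := P.is_maximal' hsup le_sup_right
  have h8 : Subgroup.zpowers t ≤ (P : Subgroup G) := by
    rw [← this]; exact le_sup_left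
  exact h8 (Subgroup.mem_zpowers t)

theorem result {G : Type*} [Group G] [Finite G] (t : G) (ht : orderOf t = 2) : Cfsg.IsTwoCentralInvolution t ↔ ∃ P : Sylow 2 G, (P : Subgroup G) ≤ Subgroup.centralizer ({t} : Set G) := by
  constructor
  · rintro ⟨_, P, htP, hc⟩
    refine ⟨P, ?_⟩
    intro x hx
    rw [Subgroup.mem_centralizer_iff]
    intro h hh
    rw [Set.mem_singleton_iff] at hh
    subst hh
    exact (hc x hx).symm
  · rintro ⟨P, hP⟩
    refine ⟨ht, P, mem_of_centralizes t ht P hP, ?_⟩
    intro x hx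
    have := hP hx
    rw [Subgroup.mem_centralizer_iff] at this
    exact (this t (Set.mem_singleton t)).symm

end Cfsg.Agent.S0443
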