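import Cfsg.Statements.S0444
import Mathlib

set_option autoImplicit false
open Cfsg

namespace Cfsg.Agent.S0444

/-- A hom from the closure of `S` into `Perm (Fin n)` from a conjugation-stable injective family. -/
theorem exists_hom_of_conj {G : Type*} [Group G] {n : ℕ} (c : Fin n → G)
    (hc : Function.Injective c) (S : Set G)
    (hS : ∀ g ∈ S, ∃ π : Equiv.Perm (Fin n), ∀ i, c (π i) = g * c i * g⁻¹) :
    ∃ φ : Subgroup.closure S →* Equiv.Perm (Fin n),
      ∀ g : Subgroup.closure S, ∀ i, c (φ g i) = (g : G) * c i * (g : G)⁻¹ := by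
  have hP : ∀ g ∈ Subgroup.closure S,
      ∃ π : Equiv.Perm (Fin n), ∀ i, c (π i) = g * c i * g⁻¹ := by
    intro g hg
    induction hg using Subgroup.closure_induction with
    | mem x hx => exact hS x hx
    | one => exact ⟨1, fun i => by simp⟩
    | mul x y _ _ hx hy =>
      obtain ⟨π, hπ⟩ := hx
      obtain ⟨ρ, hρ⟩ := hy
      refine ⟨π * ρ, fun i => ?_⟩
      rw [Equiv.Perm.mul_apply, hπ, hρ]; group
    | inv x _ hx =>
      obtain ⟨π, hπ⟩ := hx
      refine ⟨π⁻¹, fun i => ?_⟩
      have := hπ (π⁻¹ i)
      rw [show π (π⁻¹ i) = i by simp] at this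
      rw [this]; group
  have huniq : ∀ (g : G) (π ρ : Equiv.Perm (Fin n)), (∀ i, c (π i) = g * c i * g⁻¹) →
      (∀ i, c (ρ i) = g * c i * g⁻¹) → π = ρ := by
    intro g π ρ h1 h2
    ext i
    exact congrArg _ (hc ((h1 i).trans (h2 i).symm))
  choose f hf using hP
  refine ⟨⟨⟨fun g => f g.1 g.2, ?_⟩, ?_⟩, fun g i => hf g.1 g.2 i⟩
  · exact huniq 1 _ _ (hf 1 (one_mem _)) (fun i => by simp)
  · intro x y
    refine huniq (x.1 * y.1) _ _ (hf _ (mul_mem x.2 y.2)) (fun i => ?_)
    rw [Equiv.Perm.mul_apply, hf x.1 x.2, hf y.1 y.2]; group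

theorem perm3_cases : ∀ σ : Equiv.Perm (Fin 3),
    σ = 1 ∨ σ = Equiv.swap 1 2 ∨ σ = Equiv.swap 0 2 ∨ σ = Equiv.swap 1 2 * Equiv.swap 0 2 ∨
      σ = Equiv.swap 0 2 * Equiv.swap 1 2 ∨ σ = Equiv.swap 1 2 * Equiv.swap 0 2 * Equiv.swap 1 2 := by
  decide

/-- statement -/
theorem result {G : Type*} [Group G] {E : Set G} (hE : Cfsg.IsThreeTranspositionSet E) {d e : G} (hd : d ∈ E) (he : e ∈ E) (h : ¬ Commute d e) : Nonempty (Subgroup.closure ({d, e} : Set G) ≃* Equiv.Perm (Fin 3)) := by
  classical
  have hd2 : d * d = 1 := by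
    have := hE.1 d hd
    rw [← sq, ← this, pow_orderOf_eq_one]
  have he2 : e * e = 1 := by
    have := hE.1 e he
    rw [← sq, ← this, pow_orderOf_eq_one]
  have hdinv : d⁻¹ = d := inv_eq_of_mul_eq_one_left hd2
  have heinv : e⁻¹ = e := inv_eq_of_mul_eq_one_left he2
  have h3 : d * e * d * e * d * e = 1 := by
    rcases hE.2 d hd e he with h2 | h3
    · exfalso
      apply h
      have : d * e * (d * e) = 1 := by rw [← sq]; exact h2
      show d * e = e * d
      calc d * e = (d * e)⁻¹ := (inv_eq_of_mul_eq_one_left this).symm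
        _ = e * d := by rw [mul_inv_rev, hdinv, heinv]
    · rw [← h3, pow_succ, pow_succ, pow_one]; group
  -- braid relation
  have hbr : e * d * e = d * e * d := by
    have : (d * e * d) * (e * d * e) = 1 := by rw [← h3]; group
    have h4 : e * d * e = (d * e * d)⁻¹ := (inv_eq_of_mul_eq_one_right this).symm
    rw [h4, mul_inv_rev, mul_inv_rev, hdinv, heinv, mul_assoc]
  have hde : d ≠ e := by
    intro hh; apply h; rw [hh]
  have hne1 : d ≠ d * e * d := by
    intro hh
    apply hde
    have : d * d = d * (d * e * d) := by rw [← hh]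
    rw [hd2] at this
    have h5 : d * (d * e * d) = e * d := by
      rw [← mul_assoc, ← mul_assoc, hd2, one_mul]
    rw [h5] at this
    -- 1 = e * d → e = d⁻¹ = d
    have : e = d⁻¹ := eq_inv_of_mul_eq_one_left this.symm
    rw [this, hdinv]
  have hne2 : e ≠ d * e * d := by
    intro hh
    apply h
    show d * e = e * d
    calc d * e = d * (d * e * d) := by rw [← hh]
      _ = e * d := by rw [← mul_assoc, ← mul_assoc, hd2, one_mul]
  set c : Fin 3 → G := ![d, e, d * e * d] with hcdef
  have hc : Function.Injective c := by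
    intro i j hij
    fin_cases i <;> fin_cases j
    · rfl
    · exact absurd (show d = e from hij) hde
    · exact absurd (show d = d * e * d from hij) hne1
    · exact absurd (show d = e from hij.symm) hde
    · rfl
    · exact absurd (show e = d * e * d from hij) hne2
    · exact absurd (show d = d * e * d from hij.symm) hne1
    · exact absurd (show e = d * e * d from hij.symm) hne2
    · rfl
  obtain ⟨φ, hφ⟩ := exists_hom_of_conj c hc ({d, e} : Set G) (by
    intro g hg
    rcases hg with rfl | hg
    · refine ⟨Equiv.swap 1 2, fun i => ?_⟩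
      fin_cases i
      · show g = g * g * g⁻¹
        group
      · show g * e * g = g * e * g⁻¹
        rw [hdinv]
      · show e = g * (g * e * g) * g⁻¹
        rw [hdinv, ← mul_assoc, ← mul_assoc, hd2, one_mul, mul_assoc, hd2, mul_one]
    · rw [Set.mem_singleton_iff] at hg
      subst hg
      refine ⟨Equiv.swap 0 2, fun i => ?_⟩
      fin_cases i
      · show d * g * d = g * d * g⁻¹
        rw [heinv, hbr]
      · show g = g * g * g⁻¹
        group
      · show d = g * (d * g * d) * g⁻¹
        rw [heinv, ← hbr, ← mul_assoc, ← mul_assoc, he2, one_mul, mul_assoc, he2, mul_one])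
  have hdm : d ∈ Subgroup.closure ({d, e} : Set G) := Subgroup.subset_closure (by simp)
  have hem : e ∈ Subgroup.closure ({d, e} : Set G) := Subgroup.subset_closure (by simp)
  have hφd : φ ⟨d, hdm⟩ = Equiv.swap 1 2 := by
    ext i
    apply congrArg
    apply hc
    rw [hφ]
    fin_cases i
    · show d * d * d⁻¹ = d
      group
    · show d * e * d⁻¹ = d * e * d
      rw [hdinv]
    · show d * (d * e * d) * d⁻¹ = e
      rw [hdinv, ← mul_assoc, ← mul_assoc, hd2, one_mul, mul_assoc, hd2, mul_one]
  have hφe : φ ⟨e, hem⟩ = Equiv.swap 0 2 := by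
    ext i
    apply congrArg
    apply hc
    rw [hφ]
    fin_cases i
    · show e * d * e⁻¹ = d * e * d
      rw [heinv, hbr]
    · show e * e * e⁻¹ = e
      group
    · show e * (d * e * d) * e⁻¹ = d
      rw [heinv, ← hbr, ← mul_assoc, ← mul_assoc, he2, one_mul, mul_assoc, he2, mul_one]
  have hsurj : Function.Surjective φ := by
    intro σ
    rcases perm3_cases σ with rfl | rfl | rfl | rfl | rfl | rfl
    · exact ⟨1, map_one _⟩
    · exact ⟨_, hφd⟩
    · exact ⟨_, hφe⟩
    · exact ⟨⟨d, hdm⟩ * ⟨e, hem⟩, by rw [map_mul, hφd, hφe]⟩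
    · exact ⟨⟨e, hem⟩ * ⟨d, hdm⟩, by rw [map_mul, hφd, hφe]⟩
    · exact ⟨⟨d, hdm⟩ * ⟨e, hem⟩ * ⟨d, hdm⟩, by rw [map_mul, map_mul, hφd, hφe]⟩
  -- the closure has at most six elements
  have hsub : ∀ x ∈ Subgroup.closure ({d, e} : Set G),
      x ∈ ({1, d, e, d * e, e * d, d * e * d} : Finset G) := by
    intro x hx
    have key : ∀ g ∈ ({d, e} : Set G), ∀ y ∈ ({1, d, e, d * e, e * d, d * e * d} : Finset G),
        g * y ∈ ({1, d, e, d * e, e * d, d * e * d} : Finset G) := by
      intro g hg y hy
      simp only [Finset.mem_insert, Finset.mem_singleton] at hy ⊢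
      rcases hg with rfl | hg
      · rcases hy with rfl | rfl | rfl | rfl | rfl | rfl
        · right; left; rw [mul_one]
        · left; exact hd2
        · right; right; right; left; rfl
        · right; right; left; rw [← mul_assoc, hd2, one_mul]
        · right; right; right; right; right; rw [← mul_assoc]
        · right; right; right; right; left
          rw [← mul_assoc, ← mul_assoc, hd2, one_mul]
      · rw [Set.mem_singleton_iff] at hg
        subst hg
        rcases hy with rfl | rfl | rfl | rfl | rfl | rfl
        · right; right; left; rw [mul_one]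
        · right; right; right; right; left; rfl
        · left; exact he2
        · right; right; right; right; right; rw [← mul_assoc, hbr]
        · right; left; rw [← mul_assoc, he2, one_mul]
        · right; right; right; left
          rw [← hbr, ← mul_assoc, ← mul_assoc, he2, one_mul]
    induction hx using Subgroup.closure_induction_left with
    | one => simp
    | mul_left g hg y _ ih => exact key g hg y ih
    | inv_mul_cancel g hg y _ ih =>
      have : g⁻¹ = g := by
        rcases hg with rfl | hg
        · exact hdinv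
        · rw [Set.mem_singleton_iff] at hg; subst hg; exact heinv
      rw [this]; exact key g hg y ih
  have hfin : Finite (Subgroup.closure ({d, e} : Set G)) := by
    apply Set.Finite.subset (Finset.finite_toSet ({1, d, e, d * e, e * d, d * e * d} : Finset G))
    intro x hx
    exact hsub x hx
  have hcard : Nat.card (Subgroup.closure ({d, e} : Set G)) ≤ 6 := by
    have h1 : Nat.card (Subgroup.closure ({d, e} : Set G)) ≤
        Nat.card (({1, d, e, d * e, e * d, d * e * d} : Finset G) : Set G) := by
      apply Nat.card_mono (Finset.finite_toSet _)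
      intro x hx
      exact hsub x hx
    refine h1.trans ?_
    rw [Nat.card_coe_set_eq, Set.ncard_coe_finset]
    exact Finset.card_le_six
  have hinj : Function.Injective φ := by
    have := Fintype.ofFinite (Subgroup.closure ({d, e} : Set G))
    have hbij : Function.Bijective φ := by
      rw [Fintype.bijective_iff_surjective_and_card]
      refine ⟨hsurj, ?_⟩
      have h6 : Fintype.card (Equiv.Perm (Fin 3)) = 6 := by
        rw [Fintype.card_perm]; rfl
      have hge : Fintype.card (Equiv.Perm (Fin 3)) ≤ Fintype.card (Subgroup.closure ({d, e} : Set G)) :=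
        Fintype.card_le_of_surjective φ hsurj
      rw [Nat.card_eq_fintype_card] at hcard
      omega
    exact hbij.1
  exact ⟨MulEquiv.ofBijective φ ⟨hinj, hsurj⟩⟩

end Cfsg.Agent.S0444
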