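import Cfsg.Statements.S0445
import Mathlib
import Cfsg.Agent.S2572

set_option autoImplicit false
open Cfsg

namespace Cfsg.Agent.S0445

open Matrix

/-- a standard transvection matrix is a transvection in the sense of the prelude. -/
theorem isTransvection_std {n : ℕ} {F : Type*} [Field F] (i j : Fin n) (hij : i ≠ j) (c : F) (hc : c ≠ 0) :
    Cfsg.IsTransvection (Matrix.transvection i j c) := by
  unfold Cfsg.IsTransvection Matrix.transvection
  rw [add_sub_cancel_left]
  refine ⟨?_, ?_⟩
  · apply le_antisymm
    · have : Matrix.single i j c = Matrix.vecMulVec (Pi.single i c) (Pi.single j 1) := by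
        ext a b
        simp only [Matrix.single, Matrix.of_apply, Matrix.vecMulVec_apply, Pi.single_apply]
        by_cases ha : i = a <;> by_cases hb : j = b <;> simp [ha, hb, eq_comm]
      rw [this]
      exact Matrix.rank_vecMulVec_le _ _
    · rw [Nat.one_le_iff_ne_zero]
      intro h0
      unfold Matrix.rank at h0
      rw [Submodule.finrank_eq_zero] at h0
      have hmem : (Matrix.single i j c).mulVecLin (Pi.single j 1) ∈
          LinearMap.range (Matrix.single i j c).mulVecLin := LinearMap.mem_range_self _ _
      rw [h0, Submodule.mem_bot] at hmem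
      have := congrFun hmem i
      simp [Matrix.mulVec, dotProduct, Matrix.single, Pi.single_apply] at this
      exact hc this
  · exact Matrix.single_mul_single_of_ne _ _ _ _ hij.symm _

/-- over `ZMod 2`, `SL` and `GL` coincide. -/
theorem toGL_bijective (n : ℕ) :
    Function.Bijective (Matrix.SpecialLinearGroup.toGL :
      Matrix.SpecialLinearGroup (Fin n) (ZMod 2) →* GL (Fin n) (ZMod 2)) := by
  refine ⟨?_, ?_⟩
  · intro a b h
    apply Subtype.ext
    have := congrArg (fun u : GL (Fin n) (ZMod 2) => (u : Matrix (Fin n) (Fin n) (ZMod 2))) h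
    exact this
  · intro g
    have hdet : (g : Matrix (Fin n) (Fin n) (ZMod 2)).det = 1 := by
      have hu := Matrix.isUnits_det_units g
      have : ∀ x : ZMod 2, IsUnit x → x = 1 := by decide
      exact this _ hu
    refine ⟨⟨(g : Matrix (Fin n) (Fin n) (ZMod 2)), hdet⟩, ?_⟩
    apply Units.ext
    rfl

/-- In the special linear group of dimension 5 over the field with two elements, the centraliser of a transvection has order 21504 = 2 ^ 7 · 168 (it is an extension of an extraspecial group of order 2 ^ 7 by the simple group of order 168). -/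
theorem result (s : Matrix.SpecialLinearGroup (Fin 5) (ZMod 2)) (hs : (s : Matrix (Fin 5) (Fin 5) (ZMod 2)) = Matrix.transvection 0 1 1) : Nat.card (Subgroup.centralizer ({s} : Set (Matrix.SpecialLinearGroup (Fin 5) (ZMod 2)))) = 21504 := by
  set e : Matrix.SpecialLinearGroup (Fin 5) (ZMod 2) ≃* GL (Fin 5) (ZMod 2) :=
    MulEquiv.ofBijective _ (toGL_bijective 5) with he
  have hcard : Nat.card (Subgroup.centralizer ({s} : Set (Matrix.SpecialLinearGroup (Fin 5) (ZMod 2)))) =
      Nat.card (Subgroup.centralizer ({e s} : Set (GL (Fin 5) (ZMod 2)))) := by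
    apply Nat.card_congr
    refine Equiv.subtypeEquiv e.toEquiv ?_
    intro g
    simp only [Subgroup.mem_centralizer_iff, Set.mem_singleton_iff, forall_eq, MulEquiv.toEquiv_eq_coe,
      EquivLike.coe_coe]
    rw [← map_mul, ← map_mul]
    exact e.injective.eq_iff.symm
  rw [hcard]
  have hes : ((e s : GL (Fin 5) (ZMod 2)) : Matrix (Fin 5) (Fin 5) (ZMod 2)) = Matrix.transvection 0 1 1 := by
    rw [← hs]
    rfl
  have ht : Cfsg.IsTransvection ((e s : GL (Fin 5) (ZMod 2)) : Matrix (Fin 5) (Fin 5) (ZMod 2)) := by
    rw [hes]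
    exact isTransvection_std 0 1 (by decide) 1 one_ne_zero
  rw [Cfsg.Agent.S2572.result (q := 2) (n := 5) (by simp [ZMod.card]) (by norm_num) (e s) ht]
  simp [Fin.prod_univ_succ]

end Cfsg.Agent.S0445
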