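import Mathlib
import Cfsg.Statements.S0446
-- import your own Cfsg.Agent.* helpers here

set_option autoImplicit false
open Cfsg

namespace Cfsg.Agent.S0446

theorem result {G : Type*} [Group G] [Finite G] (h : Even (Nat.card G)) : ∃ t : G, Cfsg.IsTwoCentralInvolution t := by
  have : Fact (Nat.Prime 2) := ⟨Nat.prime_two⟩
  have h2 : 2 ∣ Nat.card G := even_iff_two_dvd.mp h
  obtain ⟨P⟩ : Nonempty (Sylow 2 G) := inferInstance
  have hP : IsPGroup 2 (P : Subgroup G) := P.isPGroup'
  have hPnt : Nontrivial (P : Subgroup G) := by
    have : (P : Subgroup G) ≠ ⊥ := by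
      intro hbot
      have hcard := P.card_eq_multiplicity
      rw [hbot] at hcard
      simp only [Subgroup.card_bot] at hcard
      have : (Nat.card G).factorization 2 = 0 := by
        by_contra hne
        have : 1 < 2 ^ (Nat.card G).factorization 2 := Nat.one_lt_two_pow hne
        omega
      have hpos : 0 < Nat.card G := Nat.card_pos
      rcases (Nat.factorization_eq_zero_iff _ _).mp this with h' | h' | h'
      · exact h' Nat.prime_two
      · exact h' h2
      · omega
    exact (Subgroup.nontrivial_iff_ne_bot _).mpr this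
  have hZ : Nontrivial (Subgroup.center (P : Subgroup G)) := hP.center_nontrivial
  have hZp : IsPGroup 2 (Subgroup.center (P : Subgroup G)) := hP.to_subgroup _
  have hdvd : 2 ∣ Nat.card (Subgroup.center (P : Subgroup G)) := by
    obtain ⟨n, hn⟩ := IsPGroup.iff_card.mp hZp
    rw [hn]
    have : n ≠ 0 := by
      intro h0
      rw [h0, pow_zero] at hn
      have := Finite.one_lt_card (α := Subgroup.center (P : Subgroup G))
      omega
    exact dvd_pow_self 2 this
  obtain ⟨z, hz⟩ := exists_prime_orderOf_dvd_card' 2 hdvd
  refine ⟨((z : (P : Subgroup G)) : G), ?_, P, ?_, ?_⟩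
  · have : orderOf ((z : (P : Subgroup G)) : G) = orderOf z := by
      rw [Subgroup.orderOf_coe, Subgroup.orderOf_coe]
    rw [this]; exact hz
  · exact (z : (P : Subgroup G)).2
  · intro x hx
    have := Subgroup.mem_center_iff.mp z.2 ⟨x, hx⟩
    have h3 := congrArg (fun y : (P : Subgroup G) => (y : G)) this
    simpa using h3

end Cfsg.Agent.S0446
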