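import Cfsg.Statements.S0481
import Mathlib

set_option autoImplicit false
open Cfsg
open scoped Pointwise

namespace Cfsg.Agent.S0481

/-- statement -/
theorem result {G : Type*} [Group G] [Finite G] (z : G) (hz : orderOf z = 2) (Q : Subgroup G) (hQC : Q ≤ Subgroup.centralizer ({z} : Set G)) (hQn : ∀ g ∈ Subgroup.centralizer ({z} : Set G), ∀ q ∈ Q, g * q * g⁻¹ ∈ Q) (hQ2 : IsPGroup 2 Q) (hZ : Nat.card (Subgroup.center Q) = 2) (hsq : ∀ x : Q, x ^ 2 ∈ Subgroup.center Q) (hlarge : Subgroup.centralizer (Q : Set G) ≤ Q) : (∃ P : Sylow 2 G, (P : Subgroup G) ≤ Subgroup.centralizer ({z} : Set G)) ∧ ∀ u : G, orderOf u = 2 → (∃ P : Sylow 2 G, (P : Subgroup G) ≤ Subgroup.centralizer ({u} : Set G)) → IsConj z u := by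
  haveI : Fact (Nat.Prime 2) := ⟨Nat.prime_two⟩
  have hz1 : z ≠ 1 := by
    intro h; rw [h, orderOf_one] at hz; omega
  have hzcent : z ∈ Subgroup.centralizer (Q : Set G) := by
    rw [Subgroup.mem_centralizer_iff]
    intro q hq
    have := hQC hq
    rw [Subgroup.mem_centralizer_iff] at this
    exact (this z rfl).symm
  have hcenter : ∀ w : G, ∀ hw : w ∈ Subgroup.centralizer (Q : Set G),
      (⟨w, hlarge hw⟩ : Q) ∈ Subgroup.center Q := by
    intro w hw
    rw [Subgroup.mem_center_iff]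
    intro q
    apply Subtype.ext
    rw [Subgroup.mem_centralizer_iff] at hw
    exact hw q.1 q.2
  have core : ∀ w : G, w ∈ Subgroup.centralizer (Q : Set G) → w ≠ 1 → w = z := by
    intro w hw hw1
    obtain ⟨y, _, hy⟩ := (Nat.card_eq_two_iff' (1 : Subgroup.center Q)).1 hZ
    have h1 := hy ⟨⟨w, hlarge hw⟩, hcenter w hw⟩ (by
      intro h; apply hw1
      exact congrArg (fun t : Subgroup.center Q => ((t : Q) : G)) h)
    have h2 := hy ⟨⟨z, hlarge hzcent⟩, hcenter z hzcent⟩ (by
      intro h; apply hz1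
      exact congrArg (fun t : Subgroup.center Q => ((t : Q) : G)) h)
    exact congrArg (fun t : Subgroup.center Q => ((t : Q) : G)) (h1.trans h2.symm)
  obtain ⟨P0, hQP0⟩ := hQ2.exists_le_sylow
  have hP0 : (P0 : Subgroup G) ≤ Subgroup.centralizer ({z} : Set G) := by
    have hzP0 : z ∈ (P0 : Subgroup G) := hQP0 (hlarge hzcent)
    haveI : Nontrivial (P0 : Subgroup G) := ⟨⟨⟨z, hzP0⟩, 1, fun h => hz1 (congrArg Subtype.val h)⟩⟩
    have hnt := IsPGroup.center_nontrivial P0.isPGroup'
    obtain ⟨w, hw⟩ := exists_ne (1 : Subgroup.center (P0 : Subgroup G))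
    have hwc : ((w : (P0 : Subgroup G)) : G) ∈ Subgroup.centralizer (Q : Set G) := by
      rw [Subgroup.mem_centralizer_iff]
      intro q hq
      have := Subgroup.mem_center_iff.1 w.2 ⟨q, hQP0 hq⟩
      exact congrArg Subtype.val this
    have hwz := core _ hwc (by
      intro h; apply hw
      apply Subtype.ext; apply Subtype.ext; exact h)
    intro x hx
    rw [Subgroup.mem_centralizer_iff]
    intro y hy
    rw [Set.mem_singleton_iff] at hy
    subst hy
    have := Subgroup.mem_center_iff.1 w.2 ⟨x, hx⟩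
    have h2 := congrArg Subtype.val this
    rw [← hwz]
    exact h2.symm
  refine ⟨⟨P0, hP0⟩, ?_⟩
  intro u hu ⟨P1, hP1⟩
  obtain ⟨g, hg⟩ := MulAction.exists_smul_eq G P1 P0
  have hu1 : u ≠ 1 := by
    intro h; rw [h, orderOf_one] at hu; omega
  have hcu : g * u * g⁻¹ ∈ Subgroup.centralizer (Q : Set G) := by
    rw [Subgroup.mem_centralizer_iff]
    intro q hq
    have hq0 : q ∈ (P0 : Subgroup G) := hQP0 hq
    rw [← hg, Sylow.coe_subgroup_smul, Subgroup.mem_pointwise_smul_iff_inv_smul_mem] at hq0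
    have hq1 := hP1 hq0
    rw [Subgroup.mem_centralizer_iff] at hq1
    have := hq1 u rfl
    simp only [MulAut.smul_def, map_inv, MulAut.inv_apply, MulAut.conj_symm_apply] at this
    -- this : u * (g⁻¹ * q * g) = g⁻¹ * q * g * u
    calc q * (g * u * g⁻¹) = g * ((g⁻¹ * q * g) * u) * g⁻¹ := by group
      _ = g * (u * (g⁻¹ * q * g)) * g⁻¹ := by rw [this]
      _ = g * u * g⁻¹ * q := by group
  have := core _ hcu (by
    intro h
    apply hu1
    have : u = g⁻¹ * (g * u * g⁻¹) * g := by group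
    rw [this, h]; group)
  rw [isConj_comm, isConj_iff]
  exact ⟨g, this⟩

end Cfsg.Agent.S0481
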