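import Mathlib
import Cfsg.Statements.S0493
import Cfsg.Agent.Lib.Helper7_SmallSimple
import Cfsg.Agent.Lib.Helper7_SmallSimple2
import Cfsg.Agent.Lib.Helper7_SmallSimple3

set_option autoImplicit false

open Cfsg

namespace Cfsg.Agent.S0493

open Cfsg.Agent.Lib
open Cfsg.Agent.Lib.Helper7_SmallSimple
open Cfsg.Agent.Lib.Helper7_SmallSimple2

section aux
variable {G : Type*} [Group G] [Finite G]

/-- Sylow counting obstruction to simplicity -/
theorem no_simple_of_sylow [IsSimpleGroup G] (p a m : ℕ) [Fact p.Prime]
    (hn : Nat.card G = p ^ a * m) (hpm : ¬ p ∣ m) (ha : 0 < a) (hm : 1 < m)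
    (H : ∀ d ≤ m, d ∣ m → 1 < d → d % p = 1 → ¬ (p ^ a * m) ∣ d.factorial) : False := by
  have hp : p.Prime := Fact.out
  let P : Sylow p G := default
  have hP := card_sylow_eq P a m hn hpm
  have h1 : 1 < Nat.card (P : Subgroup G) := by
    rw [hP]; exact Nat.one_lt_pow ha.ne' hp.one_lt
  have h2 : Nat.card (P : Subgroup G) < Nat.card G := by
    rw [hP, hn]
    have : 0 < p ^ a := pow_pos hp.pos a
    nlinarith
  have hne := card_sylow_ne_one P h1 h2
  have hd1 : Nat.card (Sylow p G) ≡ 1 [MOD p] := card_sylow_modEq_one p G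
  have hidx : (P : Subgroup G).index = m := by
    have h3 := Subgroup.card_mul_index (P : Subgroup G)
    rw [hP, hn] at h3
    exact Nat.eq_of_mul_eq_mul_left (pow_pos hp.pos a) h3
  have hdm : Nat.card (Sylow p G) ∣ m := by
    rw [← hidx]; exact Sylow.card_dvd_index P
  have hpos : 0 < Nat.card (Sylow p G) := Nat.card_pos
  have hNtop : Subgroup.normalizer ((P : Subgroup G) : Set G) ≠ ⊤ := by
    intro h
    apply hne
    rw [card_sylow_eq_index P, h, Subgroup.index_top]
  have hfact : Nat.card G ∣ (Nat.card (Sylow p G)).factorial := by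
    rw [card_sylow_eq_index P]
    exact card_dvd_factorial_index _ hNtop
  rw [hn] at hfact
  refine H _ (Nat.le_of_dvd (by omega) hdm) hdm (by omega) ?_ hfact
  have := hd1
  unfold Nat.ModEq at this
  rw [this, Nat.mod_eq_of_lt hp.one_lt]

/-- simple groups of prime power order are cyclic -/
theorem cyclic_of_prime_pow [IsSimpleGroup G] (p k : ℕ) [Fact p.Prime]
    (hn : Nat.card G = p ^ k) : IsCyclic G := by
  have hG : IsPGroup p G := IsPGroup.of_card hn
  haveI := hG.center_nontrivial
  have hc : Subgroup.center G = ⊤ := by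
    rcases (inferInstance : (Subgroup.center G).Normal).eq_bot_or_eq_top with h | h
    · exfalso
      exact (Subgroup.nontrivial_iff_ne_bot _).mp inferInstance h
    · exact h
  letI := Group.commGroupOfCenterEqTop hc
  exact IsSimpleGroup.isCyclic

/-- no simple group of order twice an odd number `> 1` -/
theorem no_simple_two_odd [IsSimpleGroup G] (m : ℕ) (hm : Odd m) (h1 : 1 < m)
    (hn : Nat.card G = 2 * m) : False := by
  classical
  letI : Fintype G := Fintype.ofFinite G
  obtain ⟨t, ht⟩ := exists_prime_orderOf_dvd_card' (G := G) 2 (by rw [hn]; exact dvd_mul_right 2 m)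
  have hsign := sign_toPerm_eq_one (G := G) (X := G) (by rw [hn]; omega) t
  have hinj : Function.Injective (MulAction.toPermHom G G) := by
    intro a b hab
    have := congrArg (fun σ : Equiv.Perm G => σ 1) hab
    simpa using this
  have ho : orderOf (MulAction.toPerm t : Equiv.Perm G) = 2 := by
    have := orderOf_injective (MulAction.toPermHom G G) hinj t
    rw [← ht, ← this]; rfl
  have hfix : Fintype.card (Function.fixedPoints (MulAction.toPerm t : Equiv.Perm G)) = 0 := by
    rw [Fintype.card_eq_zero_iff]
    constructor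
    rintro ⟨g, hg⟩
    have h2 : t * g = g := hg
    have h3 : t = 1 := by
      have := mul_right_cancel (a := t) (b := g) (c := 1) (by rw [one_mul]; exact h2)
      exact this
    rw [h3, orderOf_one] at ht
    omega
  rw [sign_of_orderOf_two _ ho, hfix, ← Nat.card_eq_fintype_card, hn, Nat.sub_zero,
    Nat.mul_div_cancel_left _ (by norm_num : 0 < 2), hm.neg_one_pow] at hsign
  exact absurd hsign (by decide)

/-- no simple group of order 56 -/
theorem no_simple_56 [IsSimpleGroup G] (hn : Nat.card G = 56) : False := by
  classical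
  haveI : Fact (Nat.Prime 7) := ⟨by norm_num⟩
  haveI : Fact (Nat.Prime 2) := ⟨by norm_num⟩
  have hn7 : Nat.card G = 7 ^ 1 * 8 := hn.trans (by norm_num)
  have hn2 : Nat.card G = 2 ^ 3 * 7 := hn.trans (by norm_num)
  have hQ7 : ∀ Q : Sylow 7 G, Nat.card (Q : Subgroup G) = 7 := by
    intro Q
    have := card_sylow_eq Q 1 8 hn7 (by decide)
    simpa using this
  have hQ2 : ∀ Q : Sylow 2 G, Nat.card (Q : Subgroup G) = 8 := by
    intro Q
    have := card_sylow_eq Q 3 7 hn2 (by decide)
    simpa using this
  -- n_7 = 8
  let P7 : Sylow 7 G := default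
  have hne7 := card_sylow_ne_one P7 (by rw [hQ7]; norm_num) (by rw [hQ7, hn]; norm_num)
  have hmod : Nat.card (Sylow 7 G) ≡ 1 [MOD 7] := card_sylow_modEq_one 7 G
  have hidx : (P7 : Subgroup G).index = 8 := by
    have h3 := Subgroup.card_mul_index (P7 : Subgroup G)
    rw [hQ7, hn] at h3
    omega
  have hdvd : Nat.card (Sylow 7 G) ∣ 8 := by
    rw [← hidx]; exact Sylow.card_dvd_index P7
  have hn7' : Nat.card (Sylow 7 G) = 8 := by
    have hle := Nat.le_of_dvd (by norm_num) hdvd
    have hpos : 0 < Nat.card (Sylow 7 G) := Nat.card_pos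
    unfold Nat.ModEq at hmod
    interval_cases (Nat.card (Sylow 7 G)) <;> simp_all
  have hcount := Helper7_SmallSimple3.card_orderOf_eq_prime (G := G) 7 hQ7
  rw [hn7'] at hcount
  -- the complement has 8 elements
  have hcompl : ({g : G | orderOf g ≠ 7} : Set G).ncard = 8 := by
    have h1 : ({g : G | orderOf g = 7} : Set G).ncard = 48 := by
      rw [← Nat.card_coe_set_eq]; exact hcount
    have h2 := Set.ncard_add_ncard_compl ({g : G | orderOf g = 7} : Set G)
    rw [h1, hn] at h2
    have h3 : ({g : G | orderOf g = 7} : Set G)ᶜ = {g : G | orderOf g ≠ 7} := by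
      ext g; simp
    rw [h3] at h2
    omega
  have hall : ∀ Q : Sylow 2 G, ((Q : Subgroup G) : Set G) = {g : G | orderOf g ≠ 7} := by
    intro Q
    apply Set.eq_of_subset_of_ncard_le
    · intro g hg
      show orderOf g ≠ 7
      intro h7
      have h4 : orderOf g ∣ 8 := by
        rw [← hQ2 Q]; exact Subgroup.orderOf_dvd_natCard _ hg
      rw [h7] at h4
      omega
    · rw [hcompl, ← Nat.card_coe_set_eq]
      exact (hQ2 Q).ge
    · exact Set.toFinite _
  let P2 : Sylow 2 G := default
  have hne2 := card_sylow_ne_one P2 (by rw [hQ2]; norm_num) (by rw [hQ2, hn]; norm_num)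
  apply hne2
  haveI : Subsingleton (Sylow 2 G) := by
    constructor
    intro Q Q'
    apply Sylow.ext
    apply SetLike.coe_injective
    rw [hall Q, hall Q']
  exact Nat.card_unique

end aux

/-- A finite simple group of order at most 100 that is not cyclic has order 60. -/
theorem result {G : Type*} [Group G] [Finite G] [IsSimpleGroup G]
    (hG : ¬ IsCyclic G) (h : Nat.card G ≤ 100) : Nat.card G = 60 := by
  classical
  haveI : Fact (Nat.Prime 2) := ⟨by norm_num⟩
  haveI : Fact (Nat.Prime 3) := ⟨by norm_num⟩
  haveI : Fact (Nat.Prime 5) := ⟨by norm_num⟩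
  haveI : Fact (Nat.Prime 7) := ⟨by norm_num⟩
  haveI : Fact (Nat.Prime 11) := ⟨by norm_num⟩
  haveI : Fact (Nat.Prime 13) := ⟨by norm_num⟩
  haveI : Fact (Nat.Prime 17) := ⟨by norm_num⟩
  haveI : Fact (Nat.Prime 19) := ⟨by norm_num⟩
  haveI : Fact (Nat.Prime 23) := ⟨by norm_num⟩
  haveI : Fact (Nat.Prime 29) := ⟨by norm_num⟩
  haveI : Fact (Nat.Prime 31) := ⟨by norm_num⟩
  haveI : Fact (Nat.Prime 37) := ⟨by norm_num⟩
  haveI : Fact (Nat.Prime 41) := ⟨by norm_num⟩
  haveI : Fact (Nat.Prime 43) := ⟨by norm_num⟩
  haveI : Fact (Nat.Prime 47) := ⟨by norm_num⟩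
  haveI : Fact (Nat.Prime 53) := ⟨by norm_num⟩
  haveI : Fact (Nat.Prime 59) := ⟨by norm_num⟩
  haveI : Fact (Nat.Prime 61) := ⟨by norm_num⟩
  haveI : Fact (Nat.Prime 67) := ⟨by norm_num⟩
  haveI : Fact (Nat.Prime 71) := ⟨by norm_num⟩
  haveI : Fact (Nat.Prime 73) := ⟨by norm_num⟩
  haveI : Fact (Nat.Prime 79) := ⟨by norm_num⟩
  haveI : Fact (Nat.Prime 83) := ⟨by norm_num⟩
  haveI : Fact (Nat.Prime 89) := ⟨by norm_num⟩
  haveI : Fact (Nat.Prime 97) := ⟨by norm_num⟩
  obtain ⟨n, hn⟩ : ∃ n, Nat.card G = n := ⟨_, rfl⟩
  rw [hn] at h ⊢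
  have hpos : 0 < n := by rw [← hn]; exact Nat.card_pos
  interval_cases n
  · exact absurd (cyclic_of_prime_pow (G := G) 2 0 (hn.trans (by norm_num))) hG
  · exact absurd (cyclic_of_prime_pow (G := G) 2 1 (hn.trans (by norm_num))) hG
  · exact absurd (cyclic_of_prime_pow (G := G) 3 1 (hn.trans (by norm_num))) hG
  · exact absurd (cyclic_of_prime_pow (G := G) 2 2 (hn.trans (by norm_num))) hG
  · exact absurd (cyclic_of_prime_pow (G := G) 5 1 (hn.trans (by norm_num))) hG
  · exact (no_simple_of_sylow (G := G) 3 1 2 (hn.trans (by norm_num)) (by decide) (by decide) (by decide) (by decide)).elim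
  · exact absurd (cyclic_of_prime_pow (G := G) 7 1 (hn.trans (by norm_num))) hG
  · exact absurd (cyclic_of_prime_pow (G := G) 2 3 (hn.trans (by norm_num))) hG
  · exact absurd (cyclic_of_prime_pow (G := G) 3 2 (hn.trans (by norm_num))) hG
  · exact (no_simple_of_sylow (G := G) 5 1 2 (hn.trans (by norm_num)) (by decide) (by decide) (by decide) (by decide)).elim
  · exact absurd (cyclic_of_prime_pow (G := G) 11 1 (hn.trans (by norm_num))) hG
  · exact (no_simple_of_sylow (G := G) 2 2 3 (hn.trans (by norm_num)) (by decide) (by decide) (by decide) (by decide)).elim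
  · exact absurd (cyclic_of_prime_pow (G := G) 13 1 (hn.trans (by norm_num))) hG
  · exact (no_simple_of_sylow (G := G) 7 1 2 (hn.trans (by norm_num)) (by decide) (by decide) (by decide) (by decide)).elim
  · exact (no_simple_of_sylow (G := G) 3 1 5 (hn.trans (by norm_num)) (by decide) (by decide) (by decide) (by decide)).elim
  · exact absurd (cyclic_of_prime_pow (G := G) 2 4 (hn.trans (by norm_num))) hG
  · exact absurd (cyclic_of_prime_pow (G := G) 17 1 (hn.trans (by norm_num))) hG
  · exact (no_simple_of_sylow (G := G) 3 2 2 (hn.trans (by norm_num)) (by decide) (by decide) (by decide) (by decide)).elim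
  · exact absurd (cyclic_of_prime_pow (G := G) 19 1 (hn.trans (by norm_num))) hG
  · exact (no_simple_of_sylow (G := G) 5 1 4 (hn.trans (by norm_num)) (by decide) (by decide) (by decide) (by decide)).elim
  · exact (no_simple_of_sylow (G := G) 7 1 3 (hn.trans (by norm_num)) (by decide) (by decide) (by decide) (by decide)).elim
  · exact (no_simple_of_sylow (G := G) 11 1 2 (hn.trans (by norm_num)) (by decide) (by decide) (by decide) (by decide)).elim
  · exact absurd (cyclic_of_prime_pow (G := G) 23 1 (hn.trans (by norm_num))) hG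
  · exact (no_simple_of_sylow (G := G) 2 3 3 (hn.trans (by norm_num)) (by decide) (by decide) (by decide) (by decide)).elim
  · exact absurd (cyclic_of_prime_pow (G := G) 5 2 (hn.trans (by norm_num))) hG
  · exact (no_simple_of_sylow (G := G) 13 1 2 (hn.trans (by norm_num)) (by decide) (by decide) (by decide) (by decide)).elim
  · exact absurd (cyclic_of_prime_pow (G := G) 3 3 (hn.trans (by norm_num))) hG
  · exact (no_simple_of_sylow (G := G) 7 1 4 (hn.trans (by norm_num)) (by decide) (by decide) (by decide) (by decide)).elim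
  · exact absurd (cyclic_of_prime_pow (G := G) 29 1 (hn.trans (by norm_num))) hG
  · exact (no_simple_two_odd (G := G) 15 (by decide) (by decide) (hn.trans (by norm_num))).elim
  · exact absurd (cyclic_of_prime_pow (G := G) 31 1 (hn.trans (by norm_num))) hG
  · exact absurd (cyclic_of_prime_pow (G := G) 2 5 (hn.trans (by norm_num))) hG
  · exact (no_simple_of_sylow (G := G) 3 1 11 (hn.trans (by norm_num)) (by decide) (by decide) (by decide) (by decide)).elim
  · exact (no_simple_of_sylow (G := G) 17 1 2 (hn.trans (by norm_num)) (by decide) (by decide) (by decide) (by decide)).elim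
  · exact (no_simple_of_sylow (G := G) 5 1 7 (hn.trans (by norm_num)) (by decide) (by decide) (by decide) (by decide)).elim
  · exact (no_simple_of_sylow (G := G) 3 2 4 (hn.trans (by norm_num)) (by decide) (by decide) (by decide) (by decide)).elim
  · exact absurd (cyclic_of_prime_pow (G := G) 37 1 (hn.trans (by norm_num))) hG
  · exact (no_simple_of_sylow (G := G) 19 1 2 (hn.trans (by norm_num)) (by decide) (by decide) (by decide) (by decide)).elim
  · exact (no_simple_of_sylow (G := G) 13 1 3 (hn.trans (by norm_num)) (by decide) (by decide) (by decide) (by decide)).elim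
  · exact (no_simple_of_sylow (G := G) 5 1 8 (hn.trans (by norm_num)) (by decide) (by decide) (by decide) (by decide)).elim
  · exact absurd (cyclic_of_prime_pow (G := G) 41 1 (hn.trans (by norm_num))) hG
  · exact (no_simple_of_sylow (G := G) 7 1 6 (hn.trans (by norm_num)) (by decide) (by decide) (by decide) (by decide)).elim
  · exact absurd (cyclic_of_prime_pow (G := G) 43 1 (hn.trans (by norm_num))) hG
  · exact (no_simple_of_sylow (G := G) 11 1 4 (hn.trans (by norm_num)) (by decide) (by decide) (by decide) (by decide)).elim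
  · exact (no_simple_of_sylow (G := G) 3 2 5 (hn.trans (by norm_num)) (by decide) (by decide) (by decide) (by decide)).elim
  · exact (no_simple_of_sylow (G := G) 23 1 2 (hn.trans (by norm_num)) (by decide) (by decide) (by decide) (by decide)).elim
  · exact absurd (cyclic_of_prime_pow (G := G) 47 1 (hn.trans (by norm_num))) hG
  · exact (no_simple_of_sylow (G := G) 2 4 3 (hn.trans (by norm_num)) (by decide) (by decide) (by decide) (by decide)).elim
  · exact absurd (cyclic_of_prime_pow (G := G) 7 2 (hn.trans (by norm_num))) hG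
  · exact (no_simple_of_sylow (G := G) 5 2 2 (hn.trans (by norm_num)) (by decide) (by decide) (by decide) (by decide)).elim
  · exact (no_simple_of_sylow (G := G) 3 1 17 (hn.trans (by norm_num)) (by decide) (by decide) (by decide) (by decide)).elim
  · exact (no_simple_of_sylow (G := G) 13 1 4 (hn.trans (by norm_num)) (by decide) (by decide) (by decide) (by decide)).elim
  · exact absurd (cyclic_of_prime_pow (G := G) 53 1 (hn.trans (by norm_num))) hG
  · exact (no_simple_of_sylow (G := G) 3 3 2 (hn.trans (by norm_num)) (by decide) (by decide) (by decide) (by decide)).elim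
  · exact (no_simple_of_sylow (G := G) 11 1 5 (hn.trans (by norm_num)) (by decide) (by decide) (by decide) (by decide)).elim
  · exact (no_simple_56 (G := G) hn).elim
  · exact (no_simple_of_sylow (G := G) 19 1 3 (hn.trans (by norm_num)) (by decide) (by decide) (by decide) (by decide)).elim
  · exact (no_simple_of_sylow (G := G) 29 1 2 (hn.trans (by norm_num)) (by decide) (by decide) (by decide) (by decide)).elim
  · exact absurd (cyclic_of_prime_pow (G := G) 59 1 (hn.trans (by norm_num))) hG
  · rfl
  · exact absurd (cyclic_of_prime_pow (G := G) 61 1 (hn.trans (by norm_num))) hG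
  · exact (no_simple_of_sylow (G := G) 31 1 2 (hn.trans (by norm_num)) (by decide) (by decide) (by decide) (by decide)).elim
  · exact (no_simple_of_sylow (G := G) 7 1 9 (hn.trans (by norm_num)) (by decide) (by decide) (by decide) (by decide)).elim
  · exact absurd (cyclic_of_prime_pow (G := G) 2 6 (hn.trans (by norm_num))) hG
  · exact (no_simple_of_sylow (G := G) 5 1 13 (hn.trans (by norm_num)) (by decide) (by decide) (by decide) (by decide)).elim
  · exact (no_simple_of_sylow (G := G) 11 1 6 (hn.trans (by norm_num)) (by decide) (by decide) (by decide) (by decide)).elim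
  · exact absurd (cyclic_of_prime_pow (G := G) 67 1 (hn.trans (by norm_num))) hG
  · exact (no_simple_of_sylow (G := G) 17 1 4 (hn.trans (by norm_num)) (by decide) (by decide) (by decide) (by decide)).elim
  · exact (no_simple_of_sylow (G := G) 3 1 23 (hn.trans (by norm_num)) (by decide) (by decide) (by decide) (by decide)).elim
  · exact (no_simple_of_sylow (G := G) 5 1 14 (hn.trans (by norm_num)) (by decide) (by decide) (by decide) (by decide)).elim
  · exact absurd (cyclic_of_prime_pow (G := G) 71 1 (hn.trans (by norm_num))) hG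
  · exact (no_simple_of_sylow (G := G) 3 2 8 (hn.trans (by norm_num)) (by decide) (by decide) (by decide) (by decide)).elim
  · exact absurd (cyclic_of_prime_pow (G := G) 73 1 (hn.trans (by norm_num))) hG
  · exact (no_simple_of_sylow (G := G) 37 1 2 (hn.trans (by norm_num)) (by decide) (by decide) (by decide) (by decide)).elim
  · exact (no_simple_of_sylow (G := G) 5 2 3 (hn.trans (by norm_num)) (by decide) (by decide) (by decide) (by decide)).elim
  · exact (no_simple_of_sylow (G := G) 19 1 4 (hn.trans (by norm_num)) (by decide) (by decide) (by decide) (by decide)).elim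
  · exact (no_simple_of_sylow (G := G) 7 1 11 (hn.trans (by norm_num)) (by decide) (by decide) (by decide) (by decide)).elim
  · exact (no_simple_of_sylow (G := G) 13 1 6 (hn.trans (by norm_num)) (by decide) (by decide) (by decide) (by decide)).elim
  · exact absurd (cyclic_of_prime_pow (G := G) 79 1 (hn.trans (by norm_num))) hG
  · exact (no_simple_of_sylow (G := G) 2 4 5 (hn.trans (by norm_num)) (by decide) (by decide) (by decide) (by decide)).elim
  · exact absurd (cyclic_of_prime_pow (G := G) 3 4 (hn.trans (by norm_num))) hG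
  · exact (no_simple_of_sylow (G := G) 41 1 2 (hn.trans (by norm_num)) (by decide) (by decide) (by decide) (by decide)).elim
  · exact absurd (cyclic_of_prime_pow (G := G) 83 1 (hn.trans (by norm_num))) hG
  · exact (no_simple_of_sylow (G := G) 7 1 12 (hn.trans (by norm_num)) (by decide) (by decide) (by decide) (by decide)).elim
  · exact (no_simple_of_sylow (G := G) 5 1 17 (hn.trans (by norm_num)) (by decide) (by decide) (by decide) (by decide)).elim
  · exact (no_simple_of_sylow (G := G) 43 1 2 (hn.trans (by norm_num)) (by decide) (by decide) (by decide) (by decide)).elim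
  · exact (no_simple_of_sylow (G := G) 3 1 29 (hn.trans (by norm_num)) (by decide) (by decide) (by decide) (by decide)).elim
  · exact (no_simple_of_sylow (G := G) 11 1 8 (hn.trans (by norm_num)) (by decide) (by decide) (by decide) (by decide)).elim
  · exact absurd (cyclic_of_prime_pow (G := G) 89 1 (hn.trans (by norm_num))) hG
  · exact (no_simple_two_odd (G := G) 45 (by decide) (by decide) (hn.trans (by norm_num))).elim
  · exact (no_simple_of_sylow (G := G) 7 1 13 (hn.trans (by norm_num)) (by decide) (by decide) (by decide) (by decide)).elim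
  · exact (no_simple_of_sylow (G := G) 23 1 4 (hn.trans (by norm_num)) (by decide) (by decide) (by decide) (by decide)).elim
  · exact (no_simple_of_sylow (G := G) 31 1 3 (hn.trans (by norm_num)) (by decide) (by decide) (by decide) (by decide)).elim
  · exact (no_simple_of_sylow (G := G) 47 1 2 (hn.trans (by norm_num)) (by decide) (by decide) (by decide) (by decide)).elim
  · exact (no_simple_of_sylow (G := G) 5 1 19 (hn.trans (by norm_num)) (by decide) (by decide) (by decide) (by decide)).elim
  · exact (no_simple_of_sylow (G := G) 2 5 3 (hn.trans (by norm_num)) (by decide) (by decide) (by decide) (by decide)).elim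
  · exact absurd (cyclic_of_prime_pow (G := G) 97 1 (hn.trans (by norm_num))) hG
  · exact (no_simple_of_sylow (G := G) 7 2 2 (hn.trans (by norm_num)) (by decide) (by decide) (by decide) (by decide)).elim
  · exact (no_simple_of_sylow (G := G) 3 2 11 (hn.trans (by norm_num)) (by decide) (by decide) (by decide) (by decide)).elim
  · exact (no_simple_of_sylow (G := G) 5 2 4 (hn.trans (by norm_num)) (by decide) (by decide) (by decide) (by decide)).elim

end Cfsg.Agent.S0493
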