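import Cfsg.Statements.S0499
import Cfsg.Agent.S0071

set_option autoImplicit false
open Cfsg

namespace Cfsg.Agent.S0499

/-- Arithmetic core. -/
theorem arith {r k j : ℕ} (hr : r.Prime) (hr2 : r ≠ 2) (hk : k ≤ 3) (hj : j < k)
    (h : 2 ^ k ≡ 2 ^ j [MOD r]) : (r = 3 ∧ 2 ≤ k) ∨ (r = 7 ∧ k = 3) := by
  have hle : 2 ^ j ≤ 2 ^ k := Nat.pow_le_pow_right (by norm_num) hj.le
  have hd : r ∣ 2 ^ k - 2 ^ j := (Nat.modEq_iff_dvd' hle).mp h.symm
  have hr1 : 2 ≤ r := hr.two_le
  have hpos : 0 < 2 ^ k - 2 ^ j := Nat.sub_pos_of_lt (Nat.pow_lt_pow_right (by norm_num) hj)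
  have hr7 : r ≤ 7 := by
    have h1 := Nat.le_of_dvd hpos hd
    have h2 : 2 ^ k ≤ 8 := by
      calc 2 ^ k ≤ 2 ^ 3 := Nat.pow_le_pow_right (by norm_num) hk
        _ = 8 := by norm_num
    have h3 : 1 ≤ 2 ^ j := Nat.one_le_two_pow
    omega
  clear h hle hpos
  interval_cases r <;> interval_cases k <;> interval_cases j <;>
    first
    | omega
    | (exfalso; revert hd; decide)
    | (exfalso; revert hr; decide)

/-- An automorphism of prime order `r` of a finite `2`-group of order `2^k`. -/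
theorem aut_arith {Q : Type*} [Group Q] [Finite Q] (hQ : IsPGroup 2 Q) (τ : MulAut Q) (r : ℕ)
    (hr : r.Prime) (hτ : orderOf τ = r) :
    ∃ k j, Nat.card Q = 2 ^ k ∧ j < k ∧ 2 ^ k ≡ 2 ^ j [MOD r] := by
  haveI : Fact r.Prime := ⟨hr⟩
  obtain ⟨k, hk⟩ := IsPGroup.iff_card.mp hQ
  let F : Subgroup Q :=
    { carrier := {x | τ x = x}
      mul_mem' := fun {a b} ha hb => by
        simp only [Set.mem_setOf_eq] at *; rw [map_mul, ha, hb]
      one_mem' := by simp
      inv_mem' := fun {a} ha => by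
        simp only [Set.mem_setOf_eq] at *; rw [map_inv, ha] }
  obtain ⟨j, hj⟩ := IsPGroup.iff_card.mp (hQ.to_subgroup F)
  have hP : IsPGroup r (Subgroup.zpowers τ) := by
    apply IsPGroup.of_card (n := 1)
    rw [Nat.card_zpowers, hτ, pow_one]
  have hmod := hP.card_modEq_card_fixedPoints (α := Q)
  have hfix : (MulAction.fixedPoints (Subgroup.zpowers τ) Q : Set Q) = (F : Set Q) := by
    ext x
    rw [MulAction.mem_fixedPoints]
    constructor
    · intro h
      exact h ⟨τ, Subgroup.mem_zpowers τ⟩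
    · intro h m
      have h1 : Subgroup.zpowers τ ≤ MulAction.stabilizer (MulAut Q) x := by
        rw [Subgroup.zpowers_le]; exact h
      exact h1 m.2
  have hcardfix : Nat.card (MulAction.fixedPoints (Subgroup.zpowers τ) Q) = Nat.card F := by
    rw [hfix]; rfl
  rw [hcardfix, hk, hj] at hmod
  have hFne : F ≠ ⊤ := by
    intro hF
    have : τ = 1 := by
      ext x
      have : x ∈ F := hF ▸ Subgroup.mem_top x
      exact this
    rw [this, orderOf_one] at hτ
    exact hr.one_lt.ne' hτ.symm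
  have hlt : Nat.card F < Nat.card Q := by
    have := Subgroup.card_le_card_group F
    rcases this.lt_or_eq with h | h
    · exact h
    · exact absurd ((Subgroup.card_eq_iff_eq_top F).mp h) hFne
  rw [hk, hj] at hlt
  exact ⟨k, j, hk, (Nat.pow_lt_pow_iff_right (by norm_num)).mp hlt, hmod⟩

/-- A non-abelian finite simple group of even order has order divisible by 12, 16 or 56. -/
theorem result {G : Type*} [Group G] [Finite G] [IsSimpleGroup G]
    (hG : ¬ IsMulCommutative G) (h2 : Even (Nat.card G)) :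
    12 ∣ Nat.card G ∨ 16 ∣ Nat.card G ∨ 56 ∣ Nat.card G := by
  classical
  by_contra hcon
  push_neg at hcon
  obtain ⟨h12, h16, h56⟩ := hcon
  haveI : Fact (Nat.Prime 2) := ⟨Nat.prime_two⟩
  obtain ⟨P⟩ : Nonempty (Sylow 2 G) := inferInstance
  have h2dvd : 2 ∣ Nat.card G := even_iff_two_dvd.mp h2
  have hno : ¬ ∃ N : Subgroup G, N.Normal ∧ N.IsComplement' (P : Subgroup G) := by
    rintro ⟨N, hN, hc⟩
    rcases hN.eq_bot_or_eq_top with rfl | rfl
    · have hP : (P : Subgroup G) = ⊤ := Subgroup.isComplement'_bot_left.mp hc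
      have hG2 : IsPGroup 2 G := by
        intro g
        obtain ⟨k, hk⟩ := P.isPGroup' ⟨g, by rw [hP]; trivial⟩
        exact ⟨k, by simpa [Subtype.ext_iff] using hk⟩
      haveI := hG2.center_nontrivial
      rcases (inferInstance : (Subgroup.center G).Normal).eq_bot_or_eq_top with hb | ht
      · exact absurd hb (Subgroup.nontrivial_iff_ne_bot _ |>.mp inferInstance)
      · apply hG
        refine ⟨⟨fun a b => ?_⟩⟩
        have : a ∈ Subgroup.center G := ht ▸ Subgroup.mem_top a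
        exact (Subgroup.mem_center_iff.mp this b).symm
    · have hP : (P : Subgroup G) = ⊥ := Subgroup.isComplement'_top_left.mp hc
      exact P.ne_bot_of_dvd_card h2dvd hP
  have hfrob := (Cfsg.Agent.S0071.result P).not.mp hno
  push_neg at hfrob
  obtain ⟨Q, hQP, g, hg, hcop, hgC⟩ := hfrob
  let φ := Q.normalizerMonoidHom
  let σ : MulAut Q := φ ⟨g, hg⟩
  have hσ1 : σ ≠ 1 := by
    intro h
    have h1 : (⟨g, hg⟩ : Subgroup.normalizer (Q : Set G)) ∈ φ.ker := h
    rw [Subgroup.normalizerMonoidHom_ker, Subgroup.mem_subgroupOf] at h1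
    exact hgC h1
  have hσord : orderOf σ ∣ orderOf g := by
    have := orderOf_map_dvd φ (⟨g, hg⟩ : Subgroup.normalizer (Q : Set G))
    rwa [Subgroup.orderOf_mk] at this
  have hd1 : orderOf σ ≠ 1 := by rwa [Ne, orderOf_eq_one_iff]
  have hdpos : 0 < orderOf σ := Nat.pos_of_dvd_of_pos hσord (orderOf_pos g)
  set r := (orderOf σ).minFac with hrdef
  have hr : r.Prime := Nat.minFac_prime hd1
  have hrd : r ∣ orderOf σ := Nat.minFac_dvd _
  have hr2 : r ≠ 2 := by
    intro h
    have h2g : 2 ∣ orderOf g := h ▸ (hrd.trans hσord)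
    exact (Nat.Prime.coprime_iff_not_dvd Nat.prime_two).mp hcop.symm h2g
  have hτ : orderOf (σ ^ (orderOf σ / r)) = r := orderOf_pow_orderOf_div hdpos.ne' hrd
  have hQ2 : IsPGroup 2 Q := P.isPGroup'.to_le hQP
  obtain ⟨k, j, hk, hjk, hmod⟩ := aut_arith hQ2 _ r hr hτ
  have hQdvd : 2 ^ k ∣ Nat.card G := hk ▸ Subgroup.card_subgroup_dvd_card Q
  have hrG : r ∣ Nat.card G := (hrd.trans hσord).trans (orderOf_dvd_natCard g)
  have hk3 : k ≤ 3 := by
    by_contra hk4
    push_neg at hk4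
    have : (2 : ℕ) ^ 4 ∣ Nat.card G := (pow_dvd_pow 2 hk4).trans hQdvd
    exact h16 (by norm_num at this; exact this)
  rcases arith hr hr2 hk3 hjk hmod with ⟨h3, hk2⟩ | ⟨h7, hk3'⟩
  · apply h12
    have h4 : (2 : ℕ) ^ 2 ∣ Nat.card G := (pow_dvd_pow 2 hk2).trans hQdvd
    have h3' : 3 ∣ Nat.card G := h3 ▸ hrG
    have := Nat.Coprime.mul_dvd_of_dvd_of_dvd (by norm_num : Nat.Coprime (2 ^ 2) 3) h4 h3'
    norm_num at this; exact this
  · apply h56
    have h8 : (2 : ℕ) ^ 3 ∣ Nat.card G := hk3' ▸ hQdvd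
    have h7' : 7 ∣ Nat.card G := h7 ▸ hrG
    have := Nat.Coprime.mul_dvd_of_dvd_of_dvd (by norm_num : Nat.Coprime (2 ^ 3) 7) h8 h7'
    norm_num at this; exact this

end Cfsg.Agent.S0499
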