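import Cfsg.Statements.S0502
import Mathlib
import Cfsg.Agent.Lib.Helper5_KleinSub
import Cfsg.Agent.Lib.Helper6_PNormal

set_option autoImplicit false
open Cfsg

namespace Cfsg.Agent.S0502

open Subgroup Cfsg.Agent.Lib.Helper5_KleinSub

section aux

variable {P : Type*} [Group P]

theorem isKleinFour_kleinSub (z t : P) (hz : z * z = 1) (ht : t * t = 1) (hzt : z * t = t * z)
    (hz1 : z ≠ 1) (ht1 : t ≠ 1) (hne : z ≠ t) : IsKleinFour (kleinSub z t hz ht hzt) := by
  have hcard := card_kleinSub z t hz ht hzt hz1 ht1 hne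
  refine ⟨hcard, ?_⟩
  have h1 : Monoid.exponent (kleinSub z t hz ht hzt) ∣ 2 := by
    apply Monoid.exponent_dvd_of_forall_pow_eq_one
    intro g
    apply Subtype.ext
    rw [Subgroup.coe_pow, Subgroup.coe_one, pow_two]
    exact sq_eq_one_of_mem_kleinSub g.2
  have h2 : Monoid.exponent (kleinSub z t hz ht hzt) ≠ 1 := by
    intro h
    rw [Monoid.exp_eq_one_iff] at h
    have := Nat.card_eq_one_iff_unique.mpr ⟨h, ⟨1⟩⟩
    omega
  have h3 := Nat.le_of_dvd (by norm_num) h1
  have h4 : Monoid.exponent (kleinSub z t hz ht hzt) ≠ 0 := by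
    intro h
    rw [h] at h1
    omega
  omega

theorem commute_of_mem_kleinSub {x z t : P} {hz : z * z = 1} {ht : t * t = 1}
    {hzt : z * t = t * z} (hxz : Commute x z) (hxt : Commute x t) {g : P}
    (hg : g ∈ kleinSub z t hz ht hzt) : Commute x g := by
  rcases mem_kleinSub.mp hg with rfl | rfl | rfl | rfl
  · exact Commute.one_right x
  · exact hxz
  · exact hxt
  · exact hxz.mul_right hxt

theorem comm_klein {z u e : P} {hz : z * z = 1} {hu : u * u = 1} {he : e * e = 1}
    {hzu : z * u = u * z} {hze : z * e = e * z} (hzc : ∀ g : P, g * z = z * g)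
    (hue : u * e = e * u) :
    ∀ a ∈ kleinSub z u hz hu hzu, ∀ b ∈ kleinSub z e hz he hze, a * b = b * a := by
  intro a ha b hb
  have h1 : Commute b z := hzc b
  have h2 : Commute b u := by
    apply Commute.symm
    exact commute_of_mem_kleinSub (hzc u) hue hb
  exact (commute_of_mem_kleinSub h1 h2 ha).symm.eq

end aux

section fixed

variable {P : Type*} [Group P] [Finite P]

/-- An involution acting on a normal elementary abelian 2-subgroup of order at least 8 centralizes
at least three of its elements. -/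
theorem exists_fixed (E : Subgroup P) [hEn : E.Normal] (hE : IsMulCommutative E)
    (hE2 : ∀ e ∈ E, e ^ 2 = 1) (hE8 : 8 ≤ Nat.card E) (t : P) (ht : t * t = 1) (z : P) :
    ∃ e ∈ E, e ≠ 1 ∧ e ≠ z ∧ t * e = e * t := by
  classical
  have hti : t⁻¹ = t := inv_eq_of_mul_eq_one_left ht
  have hcomm : ∀ x ∈ E, ∀ y ∈ E, x * y = y * x := fun x hx y hy => by
    have := mul_comm' (⟨x, hx⟩ : E) ⟨y, hy⟩
    exact congrArg Subtype.val this
  have hsq : ∀ x ∈ E, x * x = 1 := fun x hx => by rw [← pow_two]; exact hE2 x hx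
  let ψ : E →* E :=
    { toFun := fun d => ⟨(d : P) * (t * d * t⁻¹), mul_mem d.2 (hEn.conj_mem d d.2 t)⟩
      map_one' := by
        apply Subtype.ext
        simp
      map_mul' := by
        intro a b
        apply Subtype.ext
        simp only [Subgroup.coe_mul]
        have h1 : (b : P) * (t * a * t⁻¹) = (t * a * t⁻¹) * b :=
          hcomm _ b.2 _ (hEn.conj_mem a a.2 t)
        calc (a : P) * b * (t * (a * b) * t⁻¹) = a * (b * (t * a * t⁻¹)) * (t * b * t⁻¹) := by group
          _ = a * ((t * a * t⁻¹) * b) * (t * b * t⁻¹) := by rw [h1]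
          _ = a * (t * a * t⁻¹) * (b * (t * b * t⁻¹)) := by group }
  set C : Subgroup E := (centralizer {t}).subgroupOf E with hC
  have hCmem : ∀ c : E, c ∈ C ↔ t * (c : P) = c * t := by
    intro c
    rw [hC, Subgroup.mem_subgroupOf, mem_centralizer_iff]
    constructor
    · intro h; exact h t (Set.mem_singleton t)
    · intro h y hy
      rw [Set.mem_singleton_iff] at hy; subst hy; exact h
  have hker : ψ.ker ≤ C := by
    intro d hd
    rw [MonoidHom.mem_ker] at hd
    have h1 : (d : P) * (t * d * t⁻¹) = 1 := congrArg Subtype.val hd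
    rw [hCmem]
    have h2 : t * (d : P) * t⁻¹ = d := by
      have h3 : (d : P) * (t * d * t⁻¹) = d * d := by rw [h1, hsq d d.2]
      exact mul_left_cancel h3
    calc t * (d : P) = (t * d * t⁻¹) * t := by group
      _ = d * t := by rw [h2]
  have hrange : ψ.range ≤ C := by
    rintro _ ⟨d, rfl⟩
    rw [hCmem]
    show t * ((d : P) * (t * d * t⁻¹)) = (d : P) * (t * d * t⁻¹) * t
    have h1 : (d : P) * (t * d * t⁻¹) = (t * d * t⁻¹) * d := hcomm _ d.2 _ (hEn.conj_mem d d.2 t)
    rw [hti]
    rw [hti] at h1
    calc t * ((d : P) * (t * d * t)) = (t * d * t) * (t * t) * d * t := by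
          rw [ht, mul_one]; group
      _ = (t * d * t) * d * t := by rw [ht, mul_one]
      _ = (d : P) * (t * d * t) * t := by rw [h1]
  have hcard : Nat.card ψ.ker * Nat.card ψ.range = Nat.card E := by
    rw [← Subgroup.index_ker]; exact Subgroup.card_mul_index _
  have h1 : Nat.card ψ.ker ≤ Nat.card C := Subgroup.card_le_of_le hker
  have h2 : Nat.card ψ.range ≤ Nat.card C := Subgroup.card_le_of_le hrange
  have h3 : 3 ≤ Nat.card C := by
    by_contra hlt
    push_neg at hlt
    have : Nat.card ψ.ker * Nat.card ψ.range ≤ 2 * 2 := Nat.mul_le_mul (by omega) (by omega)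
    omega
  by_contra hno
  push_neg at hno
  have hall : ∀ c : C, (c : E) = 1 ∨ ((c : E) : P) = z := by
    intro c
    by_contra h
    push_neg at h
    have h4 : ((c : E) : P) ≠ 1 := fun h' => h.1 (Subtype.ext h')
    exact hno _ (c : E).2 h4 h.2 ((hCmem c).mp c.2)
  have hinj : Function.Injective (fun c : C => decide ((c : E) = 1)) := by
    intro c c' hcc
    simp only [decide_eq_decide] at hcc
    apply Subtype.ext
    rcases hall c with h | h
    · rw [h, hcc.mp h]
    · rcases hall c' with h' | h'
      · rw [h', hcc.mpr h']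
      · apply Subtype.ext
        rw [h, h']
  have := Nat.card_le_card_of_injective _ hinj
  rw [Nat.card_eq_fintype_card (α := Bool), Fintype.card_bool] at this
  omega

end fixed

/-- If a finite 2-group has a normal elementary abelian subgroup of order at least 8, then any two of its Klein
four-subgroups are joined by a chain of Klein four-subgroups with consecutive members commuting elementwise. -/
theorem result {P : Type*} [Group P] [Finite P] (hP : IsPGroup 2 P)
    (E : Subgroup P) [E.Normal] (hE : IsMulCommutative E) (hE2 : ∀ e ∈ E, e ^ 2 = 1) (hE8 : 8 ≤ Nat.card E) :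
    Cfsg.IsFourConnected P := by
  classical
  haveI : Fact (Nat.Prime 2) := ⟨Nat.prime_two⟩
  have hcommE : ∀ x ∈ E, ∀ y ∈ E, x * y = y * x := fun x hx y hy => by
    have := mul_comm' (⟨x, hx⟩ : E) ⟨y, hy⟩
    exact congrArg Subtype.val this
  have hsqE : ∀ x ∈ E, x * x = 1 := fun x hx => by rw [← pow_two]; exact hE2 x hx
  -- a central involution in `E`
  obtain ⟨k, hk⟩ := (hP.to_subgroup E).exists_card_eq
  have hk1 : 1 ≤ k := by
    by_contra hlt
    push_neg at hlt
    have : k = 0 := by omega
    rw [this] at hk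
    omega
  obtain ⟨K, hKE, hKn, hK2⟩ :=
    Cfsg.Agent.Lib.Helper6_PNormal.exists_normal_le_of_pow_dvd hP E 1
      (by rw [hk]; exact pow_dvd_pow 2 hk1)
  rw [pow_one] at hK2
  obtain ⟨z, hzK, hz1⟩ : ∃ z ∈ K, z ≠ 1 := by
    by_contra h
    push_neg at h
    have : K = ⊥ := (Subgroup.eq_bot_iff_forall K).mpr h
    rw [this, Subgroup.card_bot] at hK2
    omega
  have hzE : z ∈ E := hKE hzK
  have hzz : z * z = 1 := hsqE z hzE
  have hKmem : ∀ x ∈ K, x = 1 ∨ x = z := by
    intro x hx
    by_contra hne
    push_neg at hne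
    have hinj : Function.Injective (fun i : Fin 3 => (![⟨1, one_mem K⟩, ⟨z, hzK⟩, ⟨x, hx⟩] i : K)) := by
      intro i j hij
      fin_cases i <;> fin_cases j <;> simp_all [Subtype.ext_iff]
    have := Nat.card_le_card_of_injective _ hinj
    simp only [Nat.card_eq_fintype_card, Fintype.card_fin] at this
    rw [hK2] at this
    omega
  have hzc : ∀ g : P, g * z = z * g := by
    intro g
    have h1 : g * z * g⁻¹ ∈ K := hKn.conj_mem z hzK g
    rcases hKmem _ h1 with h | h
    · exfalso
      apply hz1
      have : z = g⁻¹ * (g * z * g⁻¹) * g := by group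
      rw [this, h]; group
    · calc g * z = g * z * g⁻¹ * g := by group
        _ = z * g := by rw [h]
  -- the relation
  set r : Subgroup P → Subgroup P → Prop :=
    fun A B => IsKleinFour A ∧ IsKleinFour B ∧ ∀ a ∈ A, ∀ b ∈ B, a * b = b * a with hr
  have rsymm : ∀ A B, r A B → r B A := by
    intro A B ⟨hA, hB, hAB⟩
    exact ⟨hB, hA, fun b hb a ha => (hAB a ha b hb).symm⟩
  -- every four-group is joined to a four-subgroup `⟨z, e⟩` of `E`
  have key : ∀ U : Subgroup P, IsKleinFour U → ∃ (e : P) (he : e * e = 1) (hze : z * e = e * z),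
      e ∈ E ∧ e ≠ 1 ∧ z ≠ e ∧
      Relation.ReflTransGen r U (kleinSub z e hzz he hze) ∧
      Relation.ReflTransGen r (kleinSub z e hzz he hze) U := by
    intro U hU
    have hUsq : ∀ x ∈ U, x * x = 1 := fun x hx => by
      have := IsKleinFour.mul_self (⟨x, hx⟩ : U)
      exact congrArg Subtype.val this
    have hUcomm : ∀ x ∈ U, ∀ y ∈ U, x * y = y * x := fun x hx y hy => by
      have := (IsKleinFour.isMulCommutative (G := U)).is_comm.comm ⟨x, hx⟩ ⟨y, hy⟩
      exact congrArg Subtype.val this
    have hU4 : Nat.card U = 4 := IsKleinFour.card_four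
    -- an element of `U` other than `1`, `z`
    obtain ⟨u, huU, hu1, huz⟩ : ∃ u ∈ U, u ≠ 1 ∧ z ≠ u := by
      by_contra hno
      push_neg at hno
      have hinj : Function.Injective (fun c : U => decide ((c : P) = 1)) := by
        intro c c' hcc
        simp only [decide_eq_decide] at hcc
        apply Subtype.ext
        by_cases h : (c : P) = 1
        · rw [h, hcc.mp h]
        · have h' : (c' : P) ≠ 1 := fun h'' => h (hcc.mpr h'')
          rw [← hno c c.2 h, ← hno c' c'.2 h']
      have := Nat.card_le_card_of_injective _ hinj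
      rw [Nat.card_eq_fintype_card (α := Bool), Fintype.card_bool] at this
      omega
    have huu : u * u = 1 := hUsq u huU
    have hzu : z * u = u * z := (hzc u).symm
    obtain ⟨e, heE, he1, hez, hue⟩ := exists_fixed E hE hE2 hE8 u huu z
    have hee : e * e = 1 := hsqE e heE
    have hze : z * e = e * z := (hzc e).symm
    have hW : IsKleinFour (kleinSub z e hzz hee hze) :=
      isKleinFour_kleinSub z e hzz hee hze hz1 he1 (Ne.symm hez)
    have hT : IsKleinFour (kleinSub z u hzz huu hzu) :=
      isKleinFour_kleinSub z u hzz huu hzu hz1 hu1 huz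
    have hTW : r (kleinSub z u hzz huu hzu) (kleinSub z e hzz hee hze) :=
      ⟨hT, hW, comm_klein hzc hue⟩
    refine ⟨e, hee, hze, heE, he1, Ne.symm hez, ?_, ?_⟩
    · have hUT : r U (kleinSub z u hzz huu hzu) := by
        refine ⟨hU, hT, fun a ha b hb => ?_⟩
        exact (commute_of_mem_kleinSub (x := a) (hzc a) (hUcomm a ha u huU) hb).eq
      exact Relation.ReflTransGen.head hUT (Relation.ReflTransGen.single hTW)
    · have hUT : r U (kleinSub z u hzz huu hzu) := by
        refine ⟨hU, hT, fun a ha b hb => ?_⟩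
        exact (commute_of_mem_kleinSub (x := a) (hzc a) (hUcomm a ha u huU) hb).eq
      exact Relation.ReflTransGen.head (rsymm _ _ hTW) (Relation.ReflTransGen.single (rsymm _ _ hUT))
  intro U V hU hV
  obtain ⟨e, he, hze, heE, he1, hez, hUW, -⟩ := key U hU
  obtain ⟨e', he', hze', heE', he1', hez', -, hWV⟩ := key V hV
  have hWW : r (kleinSub z e hzz he hze) (kleinSub z e' hzz he' hze') := by
    refine ⟨isKleinFour_kleinSub z e hzz he hze hz1 he1 hez,
      isKleinFour_kleinSub z e' hzz he' hze' hz1 he1' hez', ?_⟩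
    exact comm_klein hzc (hcommE e heE e' heE')
  exact hUW.trans (Relation.ReflTransGen.head hWW hWV)

end Cfsg.Agent.S0502
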