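import Cfsg.Statements.S0505
import Cfsg.Agent.Lib.Helper3_GFp3
import Cfsg.Agent.S2896

set_option autoImplicit false
open Cfsg

namespace Cfsg.Agent.S0505

/-- Let G be a finite group of even order in which the centralizer of every involution is solvable and has trivial
core (no nontrivial normal subgroup of odd order). Then G is of characteristic 2 type. -/
theorem result {G : Type*} [Group G] [Finite G]
    (h2 : Even (Nat.card G))
    (hs : ∀ t : G, orderOf t = 2 → Group.IsSolvable (Subgroup.centralizer ({t} : Set G)))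
    (hc : ∀ t : G, orderOf t = 2 → Cfsg.oddCore (Subgroup.centralizer ({t} : Set G)) = ⊥) :
    Cfsg.IsCharacteristicTwoType G := by
  classical
  haveI : Fact (Nat.Prime 2) := ⟨Nat.prime_two⟩
  refine ⟨h2, ?_⟩
  intro T hT hT1
  obtain ⟨z, hzT, hzo⟩ := Cfsg.Agent.S2896.exists_order_p T hT hT1
  unfold Cfsg.IsOfCharacteristicTwo
  rw [← Cfsg.Agent.Lib.Helper3_GFp3.gf_eq_pCore_iff_centralizer 2,
    ← Cfsg.Agent.Lib.Helper3_GFp.gf_pgroup_iff 2]
  apply Cfsg.Agent.Lib.Helper3_GFp3.gf_pgroup_normalizer_of_mem 2 T hT z hzT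
  rw [Cfsg.Agent.Lib.Helper3_GFp.gf_pgroup_iff 2]
  have hsol := hs z hzo
  have hcore : Cfsg.pPrimeCore 2 ↥(Subgroup.centralizer ({z} : Set G)) = ⊥ := hc z hzo
  have hfit := Cfsg.Agent.S1268.fitting_eq_pCore_of_pPrimeCore_eq_bot 2 hcore
  have hE : Cfsg.layer ↥(Subgroup.centralizer ({z} : Set G)) = ⊥ := by
    rw [eq_bot_iff]
    apply sSup_le
    intro K hK
    exfalso
    have : Group.IsSolvable ↥K := inferInstance
    exact Cfsg.Agent.Lib.Helper3_Components.quasisimple_not_solvable hK.2 this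
  unfold Cfsg.generalizedFittingSubgroup
  rw [hE, bot_sup_eq, hfit]

end Cfsg.Agent.S0505
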