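import Cfsg.Statements.S0514
import Mathlib
import Cfsg.Agent.Lib.Helper5_Dihedral
import Cfsg.Agent.Lib.Helper7_NPC

set_option autoImplicit false
open Cfsg

namespace Cfsg.Agent.S0514

open Subgroup

/-- In a finite group whose Sylow 2-subgroups are dihedral of order at least 4, the centralizer of any involution has a
normal subgroup of odd order whose index in the centralizer is a power of 2. -/
theorem result {X : Type*} [Group X] [Finite X]
    (S : Sylow 2 X) (n : ℕ) (hn : 2 ≤ n) (hS : Nonempty ((S : Subgroup X) ≃* DihedralGroup n)) (t : X)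
    (ht : orderOf t = 2) :
    ∃ N : Subgroup (Subgroup.centralizer ({t} : Set X)), N.Normal ∧ Odd (Nat.card N) ∧ ∃ k : ℕ, N.index = 2 ^ k := by
  haveI : Fact (Nat.Prime 2) := ⟨Nat.prime_two⟩
  obtain ⟨e⟩ := hS
  set C := Subgroup.centralizer ({t} : Set X) with hC
  have ht2 : t ^ 2 = 1 := by rw [← ht, pow_orderOf_eq_one]
  have ht1 : t ≠ 1 := by
    intro h; rw [h, orderOf_one] at ht; omega
  have hF : Cfsg.Agent.Lib.Helper7_NPC.FrobHyp 2 C := by
    intro Q hQ g hg hcop
    set QX : Subgroup X := Q.map C.subtype with hQX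
    have hQXp : IsPGroup 2 QX := hQ.map _
    have htp : IsPGroup 2 (zpowers t) := by
      apply IsPGroup.of_card (n := 1)
      rw [Nat.card_zpowers, ht, pow_one]
    have hcomm : ∀ c ∈ C, c * t = t * c := by
      intro c hc
      have := (Subgroup.mem_centralizer_iff.mp hc) t rfl
      exact this.symm
    have hconj_t : ∀ c ∈ C, ∀ w ∈ zpowers t, c * w * c⁻¹ = w := by
      intro c hc w hw
      obtain ⟨i, rfl⟩ := hw
      have h1 : Commute c (t ^ i) := (show Commute c t from hcomm c hc).zpow_right i
      rw [h1.eq]; group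
    have hQXC : QX ≤ C := by
      rintro _ ⟨q, -, rfl⟩
      exact q.2
    have hnorm : QX ≤ normalizer ((zpowers t : Subgroup X) : Set X) := by
      intro c hc
      apply Subgroup.mem_normalizer_fintype
      intro w hw
      rw [hconj_t c (hQXC hc) w hw]; exact hw
    set Q' : Subgroup X := QX ⊔ zpowers t with hQ'
    have hQ'p : IsPGroup 2 Q' := IsPGroup.to_sup_of_normal_right' hQXp htp hnorm
    have hgN' : (g : X) ∈ normalizer ((Q' : Subgroup X) : Set X) := by
      apply Subgroup.mem_normalizer_fintype
      have hle : Q' ≤ Q'.comap (MulAut.conj (g : X)).toMonoidHom := by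
        apply sup_le
        · rintro _ ⟨q, hq, rfl⟩
          rw [Subgroup.mem_comap]
          apply Subgroup.mem_sup_left
          refine ⟨g * q * g⁻¹, (mem_normalizer_iff.mp hg q).mp hq, ?_⟩
          simp
        · intro w hw
          rw [Subgroup.mem_comap]
          apply Subgroup.mem_sup_right
          simp only [MulEquiv.coe_toMonoidHom, MulAut.conj_apply]
          rw [hconj_t (g : X) g.2 w hw]; exact hw
      intro w hw
      have := hle hw
      simpa using this
    have hord : (orderOf (g : X)).Coprime 2 := by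
      rw [Subgroup.orderOf_coe]; exact hcop
    have hcen := Cfsg.Agent.Lib.Helper5_Dihedral.dih_frob_fix S n e Q' hQ'p (g : X) hgN' hord t
      (Subgroup.mem_sup_right (mem_zpowers t)) ht1 (hcomm (g : X) g.2)
    rw [mem_centralizer_iff] at hcen ⊢
    intro q hq
    have h1 : (q : X) ∈ Q' := Subgroup.mem_sup_left ⟨q, hq, rfl⟩
    have := hcen (q : X) h1
    exact Subtype.ext this
  obtain ⟨N, hN, hcop, k, hk⟩ := Cfsg.Agent.Lib.Helper7_NPC.npc_of_frobHyp hF
  exact ⟨N, hN, Nat.coprime_two_right.mp hcop, k, hk⟩

end Cfsg.Agent.S0514
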