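import Cfsg.Statements.S0519
import Mathlib
import Cfsg.Agent.S0126
import Cfsg.Agent.Lib.Helper5_NoNormalFour
import Cfsg.Agent.Lib.Helper5_MaxClassTwo

set_option autoImplicit false
open Cfsg

namespace Cfsg.Agent.S0519

/-- Let P be a finite p-group in which every abelian normal subgroup is cyclic, but which has a non-cyclic abelian
subgroup. Then p = 2 and P is generalized quaternion, dihedral of order at least 16, or quasi-dihedral. -/
theorem result {P : Type*} [Group P] [Finite P] (p : ℕ) [Fact p.Prime]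
    (hP : IsPGroup p P) (hn : ∀ A : Subgroup P, A.Normal → IsMulCommutative A → IsCyclic A)
    (hm : ∃ B : Subgroup P, IsMulCommutative B ∧ ¬ IsCyclic B) :
    p = 2 ∧ ((∃ n : ℕ, Nonempty (P ≃* QuaternionGroup n)) ∨ (∃ n : ℕ, 8 ≤ n ∧ Nonempty (P ≃* DihedralGroup n)) ∨
      Cfsg.IsQuasiDihedral P) := by
  obtain ⟨B, hBc, hBnc⟩ := hm
  have hPnc : ¬ IsCyclic P := by
    intro h
    exact hBnc inferInstance
  have hp2 : p = 2 := by
    by_contra hp
    obtain ⟨A, hAn, ⟨hAc, hAe⟩, hAcard⟩ := Cfsg.Agent.S0126.result hp hP hPnc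
    have hAcyc : IsCyclic A := hn A hAn hAc
    obtain ⟨g, hg⟩ := hAcyc.exists_generator
    have h1 : orderOf g = Nat.card A := orderOf_eq_card_of_forall_mem_zpowers hg
    have h2 : g ^ p = 1 := by
      apply Subtype.ext
      rw [Subgroup.coe_pow, Subgroup.coe_one]
      exact hAe g g.2
    have h3 : orderOf g ∣ p := orderOf_dvd_of_pow_eq_one h2
    rw [h1, hAcard] at h3
    have hp1 : 1 < p := (Fact.out : p.Prime).one_lt
    have h4 : p ^ 2 ≤ p := Nat.le_of_dvd (by omega) h3
    nlinarith
  refine ⟨hp2, ?_⟩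
  subst hp2
  obtain ⟨n, hn3, hcard, hclass⟩ :=
    Cfsg.Agent.Lib.Helper5_NoNormalFour.maxclass_of_cyclic_normal_abelian hP hn hPnc
  rcases Cfsg.Agent.Lib.Helper5_MaxClassTwo.maxclass_classify n hn3 hcard hclass with
    h | ⟨h4', a, b, ha, hb, hrel⟩ | h
  · right; left
    refine ⟨2 ^ (n - 1), ?_, h⟩
    -- exclude n = 3
    by_contra hlt
    push_neg at hlt
    have hn3' : n = 3 := by
      by_contra hne
      have h4 : 4 ≤ n := by omega
      have : 2 ^ 3 ≤ 2 ^ (n - 1) := Nat.pow_le_pow_right (by norm_num) (by omega)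
      omega
    subst hn3'
    -- |B| ∈ {1,2,4,8}
    have hBdvd : Nat.card B ∣ 2 ^ 3 := by rw [← hcard]; exact Subgroup.card_subgroup_dvd_card B
    obtain ⟨k, hk, hBk⟩ := (Nat.dvd_prime_pow Nat.prime_two).mp hBdvd
    have hBnormal : B.Normal := by
      have hk' : k = 0 ∨ k = 1 ∨ k = 2 ∨ k = 3 := by omega
      rcases hk' with rfl | rfl | rfl | rfl
      · exfalso
        apply hBnc
        have : Subsingleton B := (Nat.card_eq_one_iff_unique.mp (by rw [hBk]; norm_num)).1
        exact isCyclic_of_subsingleton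
      · exfalso
        apply hBnc
        haveI : Fact (Nat.Prime 2) := ⟨Nat.prime_two⟩
        exact isCyclic_of_prime_card (p := 2) (by rw [hBk]; norm_num)
      · apply Subgroup.normal_of_index_eq_two
        have := Subgroup.card_mul_index B
        rw [hBk, hcard] at this
        omega
      · have : B = ⊤ := by
          apply (Subgroup.card_eq_iff_eq_top B).mp
          rw [hBk, hcard]
        rw [this]; infer_instance
    exact hBnc (hn B hBnormal hBc)
  · right; right
    refine ⟨n - 1, by omega, ?_, a, b, ha, hb, ?_⟩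
    · rw [hcard]; congr 1; omega
    · rw [hrel]; congr 2
  · left
    exact ⟨_, h⟩

end Cfsg.Agent.S0519
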