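import Cfsg.Statements.S0521
import Mathlib
import Cfsg.Agent.Lib.Lead_CycComm
import Cfsg.Agent.S1958

set_option autoImplicit false
open Cfsg

namespace Cfsg.Agent.S0521

/-- Let X be a finite solvable group of odd order, p a prime and S a Sylow p-subgroup of X whose commutator subgroup is
cyclic. Then the product of the largest normal subgroup of X of order prime to p with S is a normal subgroup of X. -/
theorem result {X : Type*} [Group X] [Finite X] [Group.IsSolvable X]
    (hX : Odd (Nat.card X)) (p : ℕ) [Fact p.Prime] (S : Sylow p X) (hS : IsCyclic (commutator (S : Subgroup X))) :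
    (Cfsg.pPrimeCore p X ⊔ (S : Subgroup X)).Normal := by
  classical
  have hpp : p.Prime := Fact.out
  haveI hKn : (Cfsg.pPrimeCore p X).Normal := Cfsg.Agent.Lib.Helper5_PPrime.pPrimeCore_normal p X
  by_cases hp2 : p = 2
  · have hSbot : (S : Subgroup X) = ⊥ := by
      rw [eq_bot_iff]
      intro a ha
      obtain ⟨k, hk⟩ := S.isPGroup' ⟨a, ha⟩
      have hk' : a ^ (p ^ k) = 1 := by simpa using congrArg Subtype.val hk
      have h1 : orderOf a ∣ p ^ k := orderOf_dvd_of_pow_eq_one hk'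
      have h2 : orderOf a ∣ Nat.card X := orderOf_dvd_natCard a
      have h3 : Nat.Coprime (p ^ k) (Nat.card X) := by
        rw [hp2]; exact Nat.Coprime.pow_left k (Nat.coprime_two_left.2 hX)
      have h4 : orderOf a = 1 := Nat.eq_one_of_dvd_coprimes h3 h1 h2
      rw [orderOf_eq_one_iff] at h4
      rw [h4]; exact Subgroup.one_mem _
    rw [hSbot, sup_bot_eq]
    exact hKn
  -- a generator of the commutator subgroup
  obtain ⟨g, hg⟩ := hS.exists_generator
  have hcomm : (commutator ↥(S : Subgroup X)).map (S : Subgroup X).subtype =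
      ⁅(S : Subgroup X), (S : Subgroup X)⁆ := by
    rw [commutator_def, Subgroup.map_commutator, ← MonoidHom.range_eq_map, Subgroup.range_subtype]
  have hd : ⁅(S : Subgroup X), (S : Subgroup X)⁆ = Subgroup.zpowers ((g : ↥(S : Subgroup X)) : X) := by
    apply le_antisymm
    · rw [← hcomm]
      rintro _ ⟨z, hz, rfl⟩
      obtain ⟨k, hk⟩ := hg ⟨z, hz⟩
      refine ⟨k, ?_⟩
      have := congrArg (fun t : ↥(commutator ↥(S : Subgroup X)) => ((t : ↥(S : Subgroup X)) : X)) hk
      simpa using this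
    · rw [Subgroup.zpowers_le, ← hcomm]
      exact ⟨g, g.2, rfl⟩
  -- pass to the quotient
  set π := QuotientGroup.mk' (Cfsg.pPrimeCore p X) with hπ
  have hπs : Function.Surjective π := QuotientGroup.mk'_surjective _
  have hoddQ : Odd (Nat.card (X ⧸ Cfsg.pPrimeCore p X)) :=
    hX.of_dvd_nat (Subgroup.card_quotient_dvd_card _)
  have hO := Cfsg.Agent.S1958.pPrimeCore_quotient p X
  obtain ⟨Sb, hSb⟩ : ∃ Sb : Sylow p (X ⧸ Cfsg.pPrimeCore p X),
      (Sb : Subgroup (X ⧸ Cfsg.pPrimeCore p X)) = (S : Subgroup X).map π :=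
    ⟨S.mapSurjective hπs, Sylow.coe_mapSurjective hπs S⟩
  have hdQ : ⁅(Sb : Subgroup (X ⧸ Cfsg.pPrimeCore p X)), (Sb : Subgroup (X ⧸ Cfsg.pPrimeCore p X))⁆ =
      Subgroup.zpowers (π ((g : ↥(S : Subgroup X)) : X)) := by
    rw [hSb, ← Subgroup.map_commutator, hd, MonoidHom.map_zpowers]
  have h1 := Cfsg.Agent.Lib.Lead_CycComm.sylow_le_pCore hoddQ hO Sb _ hdQ
  have h2 : Cfsg.pCore p (X ⧸ Cfsg.pPrimeCore p X) ≤ (Sb : Subgroup (X ⧸ Cfsg.pPrimeCore p X)) :=
    Cfsg.Agent.Lib.Helper4_PCore.pCore_le_sylow _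
  have h3 : (S : Subgroup X).map π = Cfsg.pCore p (X ⧸ Cfsg.pPrimeCore p X) := by
    rw [← hSb]
    exact le_antisymm h1 h2
  have h4 : Cfsg.pPrimeCore p X ⊔ (S : Subgroup X) =
      (Cfsg.pCore p (X ⧸ Cfsg.pPrimeCore p X)).comap π := by
    rw [← h3, Subgroup.comap_map_eq, QuotientGroup.ker_mk', sup_comm]
  rw [h4]
  exact (Cfsg.Agent.Lib.Helper4_PCore.pCore_normal p _).comap π

end Cfsg.Agent.S0521
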