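import Cfsg.Statements.S0530
import Mathlib
import Cfsg.Agent.Lib.Helper1_Supersolvable2

set_option autoImplicit false
open Cfsg
open Cfsg.Agent.Lib.Helper1_Supersolvable Cfsg.Agent.Lib.Helper1_Supersolvable2

namespace Cfsg.Agent.S0530

/-- If `v` is central in the index-two subgroup `K` and `t ∉ K` conjugates `v` into `zpowers v`,
then `zpowers v` is normal. -/
theorem normal_zpowers_of_index_two {G : Type*} [Group G] (K : Subgroup G) (hK2 : K.index = 2)
    (t : G) (ht : t ∉ K) (v : G) (hvK : v ∈ K) (hvc : ∀ k ∈ K, k * v = v * k)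
    (htv : t * v * t⁻¹ ∈ Subgroup.zpowers v) : (Subgroup.zpowers v).Normal := by
  haveI : K.Normal := Subgroup.normal_of_index_eq_two hK2
  have hgen : ∀ g : G, g * v * g⁻¹ ∈ Subgroup.zpowers v := by
    intro g
    by_cases hg : g ∈ K
    · rw [hvc g hg, mul_inv_cancel_right]
      exact Subgroup.mem_zpowers v
    · have hk : g * t⁻¹ ∈ K := by
        rw [Subgroup.mul_mem_iff_of_index_two hK2]
        constructor
        · intro h; exact absurd h hg
        · intro h; exact absurd (by simpa using K.inv_mem h) ht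
      obtain ⟨j, hj⟩ := Subgroup.mem_zpowers_iff.mp htv
      have e : g * v * g⁻¹ = (g * t⁻¹) * (t * v * t⁻¹) * (g * t⁻¹)⁻¹ := by group
      rw [e, ← hj]
      have hvj : v ^ j ∈ K := K.zpow_mem hvK j
      have hcomm : (g * t⁻¹) * v ^ j = v ^ j * (g * t⁻¹) := by
        have : Commute (g * t⁻¹) v := hvc _ hk
        exact (this.zpow_right j).eq
      rw [hcomm, mul_inv_cancel_right]
      exact Subgroup.zpow_mem _ (Subgroup.mem_zpowers v) j
  constructor
  intro y hy g
  obtain ⟨k, rfl⟩ := Subgroup.mem_zpowers_iff.mp hy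
  rw [← conj_zpow]
  exact Subgroup.zpow_mem _ (hgen g) k

theorem key {G : Type*} [Group G] [Finite G] (K : Subgroup G) (hK2 : K.index = 2) (p : ℕ)
    [hp : Fact p.Prime] (hKp : IsPGroup p K) (hKnt : K ≠ ⊥) :
    ∃ v : G, orderOf v = p ∧ (Subgroup.zpowers v).Normal := by
  haveI : K.Normal := Subgroup.normal_of_index_eq_two hK2
  haveI : Nontrivial K := (Subgroup.nontrivial_iff_ne_bot K).mpr hKnt
  have hcn := hKp.center_nontrivial
  have hcp : IsPGroup p (Subgroup.center K) := hKp.to_subgroup _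
  have hdvd : p ∣ Nat.card (Subgroup.center K) := by
    rcases hcp.card_eq_or_dvd with h | h
    · exfalso
      have : 1 < Nat.card (Subgroup.center K) := Finite.one_lt_card
      omega
    · exact h
  obtain ⟨z, hz⟩ := exists_prime_orderOf_dvd_card' p hdvd
  set z' : G := ((z : K) : G) with hz'
  have hzo : orderOf z' = p := by
    rw [hz', Subgroup.orderOf_coe, Subgroup.orderOf_coe]
    exact hz
  have hzK : z' ∈ K := (z : K).2
  have hzc : ∀ k ∈ K, k * z' = z' * k := by
    intro k hk
    have := (Subgroup.mem_center_iff.mp z.2) ⟨k, hk⟩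
    exact congrArg Subtype.val this
  have hne : K ≠ ⊤ := by
    intro h
    rw [h, Subgroup.index_top] at hK2
    omega
  obtain ⟨t, ht⟩ : ∃ t, t ∉ K := by
    by_contra h
    push Not at h
    exact hne ((Subgroup.eq_top_iff' K).mpr h)
  have htt : t * t ∈ K := Subgroup.mul_self_mem_of_index_two hK2 t
  set z1 := t * z' * t⁻¹ with hz1
  have hz1K : z1 ∈ K := ‹K.Normal›.conj_mem _ hzK t
  have hz1c : ∀ k ∈ K, k * z1 = z1 * k := by
    intro k hk
    have hk' : t⁻¹ * k * t ∈ K := by
      have := ‹K.Normal›.conj_mem _ hk t⁻¹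
      simpa using this
    have := hzc _ hk'
    calc k * z1 = t * ((t⁻¹ * k * t) * z') * t⁻¹ := by rw [hz1]; group
      _ = t * (z' * (t⁻¹ * k * t)) * t⁻¹ := by rw [this]
      _ = z1 * k := by rw [hz1]; group
  have hz1o : orderOf z1 = p := by
    have := MulEquiv.orderOf_eq (MulAut.conj t) z'
    rw [MulAut.conj_apply] at this
    rw [hz1, this, hzo]
  by_cases hw : z' * z1 = 1
  · refine ⟨z', hzo, normal_zpowers_of_index_two K hK2 t ht z' hzK hzc ?_⟩
    have : z1 = z'⁻¹ := eq_inv_of_mul_eq_one_right hw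
    rw [← hz1, this]
    exact Subgroup.inv_mem _ (Subgroup.mem_zpowers z')
  · refine ⟨z' * z1, ?_, normal_zpowers_of_index_two K hK2 t ht _ (K.mul_mem hzK hz1K) ?_ ?_⟩
    · apply orderOf_eq_prime
      · have hcomm : Commute z' z1 := (hzc z1 hz1K).symm
        rw [hcomm.mul_pow, ← hzo, pow_orderOf_eq_one, one_mul, hzo, ← hz1o, pow_orderOf_eq_one]
      · exact hw
    · intro k hk
      calc k * (z' * z1) = (k * z') * z1 := (mul_assoc _ _ _).symm
        _ = (z' * k) * z1 := by rw [hzc k hk]
        _ = z' * (k * z1) := mul_assoc _ _ _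
        _ = z' * (z1 * k) := by rw [hz1c k hk]
        _ = z' * z1 * k := (mul_assoc _ _ _).symm
    · have h1 : t * (z' * z1) * t⁻¹ = z1 * (t * t * z' * (t * t)⁻¹) := by
        rw [hz1]; group
      have h2 : t * t * z' * (t * t)⁻¹ = z' := by
        rw [hzc _ htt, mul_inv_cancel_right]
      rw [h1, h2, ← hzc z1 hz1K]
      exact Subgroup.mem_zpowers _

theorem main {G : Type*} [Group G] [Finite G] (p : ℕ) (hp : p.Prime) (hp2 : p ≠ 2) (n : ℕ)
    (hG : Nat.card G = 2 * p ^ n) : Cfsg.IsSupersolvable G := by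
  induction n generalizing G with
  | zero =>
    rw [pow_zero, mul_one] at hG
    haveI : Fact (Nat.Prime 2) := ⟨Nat.prime_two⟩
    haveI := isCyclic_of_prime_card hG
    exact of_isCyclic
  | succ n ih =>
    haveI := Fact.mk hp
    obtain ⟨K, hK⟩ := Sylow.exists_subgroup_card_pow_prime p (n := n + 1)
      (hG ▸ Dvd.intro_left 2 rfl)
    have hK2 : K.index = 2 := by
      have h1 := K.card_mul_index
      rw [hK, hG] at h1
      have hpos : 0 < p ^ (n + 1) := pow_pos hp.pos _
      have : p ^ (n + 1) * K.index = p ^ (n + 1) * 2 := by rw [h1]; ring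
      exact Nat.eq_of_mul_eq_mul_left hpos this
    have hKp : IsPGroup p K := IsPGroup.of_card hK
    have hKnt : K ≠ ⊥ := by
      intro h
      rw [h, Subgroup.card_bot] at hK
      have : 1 < p ^ (n + 1) := Nat.one_lt_pow (by omega) hp.one_lt
      omega
    obtain ⟨v, hvo, hvn⟩ := key K hK2 p hKp hKnt
    apply of_quotient_zpowers v hvn
    apply ih
    have h1 := Subgroup.card_eq_card_quotient_mul_card_subgroup (Subgroup.zpowers v)
    rw [Nat.card_zpowers, hvo, hG] at h1
    have : Nat.card (G ⧸ Subgroup.zpowers v) * p = 2 * p ^ n * p := by rw [← h1]; ring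
    exact Nat.eq_of_mul_eq_mul_right hp.pos this

theorem result {G : Type*} [Group G] [Finite G] (p n : ℕ) (hp : p.Prime) (hG : Nat.card G = 2 * p ^ n) : Cfsg.IsSupersolvable G := by
  by_cases hp2 : p = 2
  · subst hp2
    haveI : Fact (Nat.Prime 2) := ⟨Nat.prime_two⟩
    apply of_isPGroup 2
    apply IsPGroup.of_card (n := n + 1)
    rw [hG]; ring
  · exact main p hp hp2 n hG

end Cfsg.Agent.S0530
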