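import Cfsg.Statements.S0532
import Mathlib

set_option autoImplicit false
open Cfsg

namespace Cfsg.Agent.S0532

open scoped Pointwise

universe u

theorem hasSub_of_equiv {A B : Type*} [Group A] [Group B] (e : A ≃* B)
    (h : Cfsg.HasSubgroupOfEveryOrder A) : Cfsg.HasSubgroupOfEveryOrder B := by
  intro d hd
  rw [← Nat.card_congr e.toEquiv] at hd
  obtain ⟨L, hL⟩ := h d hd
  refine ⟨L.map e.toMonoidHom, ?_⟩
  rw [← hL]
  exact Nat.card_congr (L.equivMapOfInjective e.toMonoidHom e.injective).symm.toEquiv

theorem hereditary_subgroup {G : Type*} [Group G]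
    (h : ∀ H : Subgroup G, Cfsg.HasSubgroupOfEveryOrder H) (H : Subgroup G) :
    ∀ K : Subgroup H, Cfsg.HasSubgroupOfEveryOrder K := by
  intro K
  exact hasSub_of_equiv (K.equivMapOfInjective H.subtype H.subtype_injective).symm
    (h (K.map H.subtype))

theorem main : ∀ (n : ℕ) (G : Type u) [Group G] [Finite G], Nat.card G = n →
    (∀ H : Subgroup G, Cfsg.HasSubgroupOfEveryOrder H) → ∀ (p : ℕ) [Fact p.Prime],
    p ∣ Nat.card G → (∀ q : ℕ, q.Prime → q ∣ Nat.card G → q ≤ p) → ∀ P : Sylow p G,
    (P : Subgroup G).Normal := by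
  intro n
  induction n using Nat.strong_induction_on with
  | _ n ih =>
  intro G _ _ hn h p _ hdvd hmax P
  have hp : p.Prime := Fact.out
  have hGpos : 0 < Nat.card G := Nat.card_pos
  have hG1 : Nat.card G ≠ 1 := by
    intro h1
    rw [h1] at hdvd
    exact hp.one_lt.ne' (Nat.dvd_one.mp hdvd)
  set q := (Nat.card G).minFac with hq
  have hqp : q.Prime := Nat.minFac_prime hG1
  have hqd : q ∣ Nat.card G := Nat.minFac_dvd _
  by_cases hqeq : q = p
  · -- G is a p-group
    have huniq : ∀ {d : ℕ}, d.Prime → d ∣ Nat.card G → d = p := by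
      intro d hd hdd
      have h1 : q ≤ d := Nat.minFac_le_of_dvd hd.two_le hdd
      have h2 := hmax d hd hdd
      omega
    have hk := Nat.eq_prime_pow_of_unique_prime_dvd hGpos.ne' huniq
    have hfac : (Nat.card G).factorization p = (Nat.card G).primeFactorsList.length := by
      conv_lhs => rw [hk]
      rw [Nat.Prime.factorization_pow hp]
      simp
    have hPc : Nat.card P = Nat.card G := by
      rw [Sylow.card_eq_multiplicity, hfac, ← hk]
    have : (P : Subgroup G) = ⊤ := Subgroup.eq_top_of_card_eq _ hPc
    rw [this]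
    infer_instance
  · have hqlt : q ≠ p := hqeq
    have hG := hasSub_of_equiv Subgroup.topEquiv (h ⊤)
    obtain ⟨H, hH⟩ := hG (Nat.card G / q) (Nat.div_dvd_of_dvd hqd)
    have hHq : Nat.card H * q = Nat.card G := by rw [hH]; exact Nat.div_mul_cancel hqd
    have hHpos : 0 < Nat.card H := Nat.card_pos
    have hidx : H.index = q := by
      have := H.card_mul_index
      rw [← hHq] at this
      exact Nat.eq_of_mul_eq_mul_left hHpos this
    haveI hHn : H.Normal := Subgroup.normal_of_index_eq_minFac_card hidx
    have hlt : Nat.card H < n := by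
      rw [← hn, ← hHq]
      exact lt_mul_of_one_lt_right hHpos hqp.one_lt
    have hpH : p ∣ Nat.card H := by
      rw [← hHq] at hdvd
      rcases hp.dvd_mul.mp hdvd with h1 | h1
      · exact h1
      · exact absurd ((Nat.prime_dvd_prime_iff_eq hp hqp).mp h1).symm hqlt
    have hmaxH : ∀ r : ℕ, r.Prime → r ∣ Nat.card H → r ≤ p := fun r hr hrd =>
      hmax r hr (hHq ▸ Dvd.dvd.mul_right hrd q)
    have PH : Sylow p H := default
    have hPHn : (PH : Subgroup H).Normal := ih _ hlt H rfl (hereditary_subgroup h H) p hpH hmaxH PH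
    haveI : (PH : Subgroup H).Characteristic := Sylow.characteristic_of_normal PH hPHn
    set M := (PH : Subgroup H).map H.subtype with hM
    haveI hMn : M.Normal := ConjAct.normal_of_characteristic_of_normal
    have hfac : (Nat.card G).factorization p = (Nat.card H).factorization p := by
      rw [← hHq, Nat.factorization_mul hHpos.ne' hqp.ne_zero, hqp.factorization]
      simp [hqlt]
    have hMc : Nat.card M = p ^ (Nat.card G).factorization p := by
      rw [hfac, ← Sylow.card_eq_multiplicity PH]
      exact Nat.card_congr ((PH : Subgroup H).equivMapOfInjective H.subtype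
        H.subtype_injective).symm.toEquiv
    obtain ⟨g, hg⟩ := MulAction.exists_smul_eq G (Sylow.ofCard M hMc) P
    have hgM : MulAut.conj g • M = (P : Subgroup G) := by
      have := congrArg Sylow.toSubgroup hg
      rw [Sylow.smul_def, Sylow.pointwise_smul_def] at this
      exact this
    rw [← hgM, Subgroup.Normal.conj_smul_eq_self g M]
    exact hMn


/-- If each subgroup of a finite group satisfies the converse of Lagrange's theorem, then a Sylow subgroup for the largest prime dividing the group order is normal. -/
theorem result {G : Type*} [Group G] [Finite G] (h : ∀ H : Subgroup G, Cfsg.HasSubgroupOfEveryOrder H) (p : ℕ) [Fact p.Prime] (hdvd : p ∣ Nat.card G) (hmax : ∀ q : ℕ, q.Prime → q ∣ Nat.card G → q ≤ p) (P : Sylow p G) : (P : Subgroup G).Normal := by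
  exact main _ G rfl h p hdvd hmax P

end Cfsg.Agent.S0532
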