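import Cfsg.Statements.S4263
import Mathlib
import Cfsg.Agent.Lib.Lead_Fitting

set_option autoImplicit false
open Cfsg

namespace Cfsg.Agent.S4263

theorem nil_pow {F : Type*} [Group F] [Finite F] [hn : Group.IsNilpotent F] :
    ∀ (n : ℕ) (K : Subgroup F), K.index = n → ∀ x : F, x ^ K.index ∈ K := by
  intro n
  induction n using Nat.strong_induction_on with
  | _ n ih =>
    intro K h x
    by_cases hK : K = ⊤
    · subst hK; exact Subgroup.mem_top _
    · have hlt : K < ⊤ := lt_top_iff_ne_top.mpr hK
      have hN := Group.normalizerCondition_of_isNilpotent (G := F) K hlt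
      have hKN : K ≤ Subgroup.normalizer (K : Set F) := Subgroup.le_normalizer
      have h3 : K.relIndex (Subgroup.normalizer (K : Set F)) * (Subgroup.normalizer (K : Set F)).index
          = K.index := Subgroup.relIndex_mul_index hKN
      have hrel : K.relIndex (Subgroup.normalizer (K : Set F)) ≠ 1 := by
        intro h1
        rw [Subgroup.relIndex_eq_one] at h1
        exact absurd (le_antisymm hKN h1) (ne_of_lt hN)
      have hpos : 0 < (Subgroup.normalizer (K : Set F)).index := Nat.pos_of_ne_zero Subgroup.index_ne_zero_of_finite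
      have hrelpos : 0 < K.relIndex (Subgroup.normalizer (K : Set F)) :=
        Nat.pos_of_ne_zero (by
          intro h0; rw [h0, zero_mul] at h3
          exact Subgroup.index_ne_zero_of_finite h3.symm)
      have hidx : (Subgroup.normalizer (K : Set F)).index < n := by
        rw [← h, ← h3]
        have : 2 ≤ K.relIndex (Subgroup.normalizer (K : Set F)) := by omega
        nlinarith
      have h1 : x ^ (Subgroup.normalizer (K : Set F)).index ∈ Subgroup.normalizer (K : Set F) :=
        ih _ hidx _ rfl x
      haveI : (K.subgroupOf (Subgroup.normalizer (K : Set F))).Normal := Subgroup.normal_in_normalizer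
      have key : ∀ y : Subgroup.normalizer (K : Set F),
          y ^ (K.subgroupOf (Subgroup.normalizer (K : Set F))).index ∈ K.subgroupOf (Subgroup.normalizer (K : Set F)) := by
        intro y
        rw [← QuotientGroup.eq_one_iff, QuotientGroup.mk_pow, Subgroup.index_eq_card]
        exact pow_card_eq_one'
      have h2 := key ⟨x ^ (Subgroup.normalizer (K : Set F)).index, h1⟩
      rw [← h3, mul_comm, pow_mul]
      have h4 := Subgroup.mem_subgroupOf.mp h2
      rw [Subgroup.coe_pow] at h4
      exact h4

theorem card_mul_relIndex' {G : Type*} [Group G] [Finite G] {A B : Subgroup G} (h : A ≤ B) :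
    Nat.card A * A.relIndex B = Nat.card B := by
  have h1 := Subgroup.card_mul_index (A.subgroupOf B)
  rw [Nat.card_congr (Subgroup.subgroupOfEquivOfLe h).toEquiv] at h1
  exact h1

theorem relIndex_dvd_index_of_normal_right {G : Type*} [Group G] [Finite G] (H F : Subgroup G) [F.Normal] :
    H.relIndex F ∣ H.index := by
  have hL : H.relIndex (H ⊔ F) ∣ H.index := Subgroup.relIndex_dvd_index_of_le le_sup_left
  have e1 := card_mul_relIndex' (le_sup_left : H ≤ H ⊔ F)
  have e2 := card_mul_relIndex' (le_sup_right : F ≤ H ⊔ F)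
  rw [Subgroup.relIndex_sup_right] at e2
  have e3 := card_mul_relIndex' (inf_le_left : H ⊓ F ≤ H)
  rw [Subgroup.inf_relIndex_left] at e3
  have e4 := card_mul_relIndex' (inf_le_right : H ⊓ F ≤ F)
  rw [Subgroup.inf_relIndex_right] at e4
  have hHpos : 0 < Nat.card H := Nat.card_pos
  have hMpos : 0 < Nat.card (H ⊓ F : Subgroup G) := Nat.card_pos
  have : H.relIndex (H ⊔ F) = H.relIndex F := by
    have h5 : Nat.card H * H.relIndex (H ⊔ F) = Nat.card H * H.relIndex F := by
      rw [e1, ← e2, ← e4, ← e3]; ring
    exact Nat.eq_of_mul_eq_mul_left hHpos h5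
  rw [← this]; exact hL

theorem mem_pCore_of_forall_sylow {G : Type*} [Group G] [Finite G] {p : ℕ} [Fact p.Prime] (z : G)
    (hz : ∀ P : Sylow p G, z ∈ P) : z ∈ Cfsg.pCore p G := by
  obtain ⟨P⟩ : Nonempty (Sylow p G) := inferInstance
  have hN : (P : Subgroup G).normalCore ≤ Cfsg.pCore p G :=
    Cfsg.Agent.Lib.Helper4_PCore.le_pCore _ (Subgroup.normalCore_normal _)
      (P.isPGroup'.to_le (Subgroup.normalCore_le _))
  apply hN
  intro b
  have h1 : z ∈ ((b⁻¹ • P : Sylow p G) : Subgroup G) := hz _
  rw [Sylow.coe_subgroup_smul, Subgroup.mem_smul_pointwise_iff_exists] at h1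
  obtain ⟨t, ht, hte⟩ := h1
  rw [MulAut.smul_def, MulAut.conj_apply] at hte
  rw [← hte]
  have : b * (b⁻¹ * t * b⁻¹⁻¹) * b⁻¹ = t := by group
  rw [this]; exact ht

/-- Let G be a finite group. An element x lies in the Fitting subgroup F(G) if and only if, for every subgroup H of G, the power x^[G : H] lies in H. -/
theorem result {G : Type*} [Group G] [Finite G] (x : G) :
    x ∈ Cfsg.fittingSubgroup G ↔ ∀ H : Subgroup G, x ^ H.index ∈ H := by
  haveI hnil : Group.IsNilpotent ↥(Cfsg.fittingSubgroup G) := by
    rw [Cfsg.Agent.Lib.Lead_Fitting.fitting_eq]; exact Cfsg.Agent.Lib.Lead_Fitting.F0_nilpotent G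
  haveI hnorm : (Cfsg.fittingSubgroup G).Normal := by
    rw [Cfsg.Agent.Lib.Lead_Fitting.fitting_eq]; exact Cfsg.Agent.Lib.Lead_Fitting.F0_normal G
  constructor
  · intro hx H
    have h1 := nil_pow _ (H.subgroupOf (Cfsg.fittingSubgroup G)) rfl ⟨x, hx⟩
    have h1' : x ^ H.relIndex (Cfsg.fittingSubgroup G) ∈ H := by
      have := Subgroup.mem_subgroupOf.mp h1
      rw [Subgroup.coe_pow] at this; exact this
    obtain ⟨k, hk⟩ := relIndex_dvd_index_of_normal_right H (Cfsg.fittingSubgroup G)
    rw [hk, pow_mul]; exact pow_mem h1' k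
  · intro h
    have main : ∀ n : ℕ, ∀ y : G, orderOf y = n → (∀ H : Subgroup G, y ^ H.index ∈ H) →
        y ∈ Cfsg.fittingSubgroup G := by
      intro n
      induction n using Nat.strong_induction_on with
      | _ n ih =>
        intro y hy hyH
        by_cases hn1 : n = 1
        · subst hn1; rw [orderOf_eq_one_iff] at hy; subst hy; exact one_mem _
        · obtain ⟨p, hp, hpn⟩ := Nat.exists_prime_and_dvd hn1
          haveI : Fact p.Prime := ⟨hp⟩
          have hn0 : n ≠ 0 := hy ▸ (orderOf_pos y).ne'
          obtain ⟨a, m', hm', hnm⟩ := Nat.exists_eq_pow_mul_and_not_dvd hn0 p hp.ne_one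
          have ha : a ≠ 0 := by
            rintro rfl
            rw [pow_zero, one_mul] at hnm
            exact hm' (hnm ▸ hpn)
          have hm'0 : m' ≠ 0 := by rintro rfl; simp at hnm; exact hn0 hnm
          have hpa0 : p ^ a ≠ 0 := pow_ne_zero _ hp.ne_zero
          -- y₁ = y^(p^a) has order m'
          have ho1 : orderOf (y ^ (p ^ a)) = m' := by
            rw [orderOf_pow_of_dvd hpa0 (by rw [hy, hnm]; exact Dvd.intro _ rfl), hy, hnm]
            exact Nat.mul_div_cancel_left _ (Nat.pos_of_ne_zero hpa0)
          have ho2 : orderOf (y ^ m') = p ^ a := by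
            rw [orderOf_pow_of_dvd hm'0 (by rw [hy, hnm]; exact Dvd.intro_left _ rfl), hy, hnm]
            exact Nat.mul_div_cancel _ (Nat.pos_of_ne_zero hm'0)
          have hlt : m' < n := by
            rw [hnm]
            have : 2 ≤ p ^ a := by
              calc 2 ≤ p := hp.two_le
                _ = p ^ 1 := (pow_one p).symm
                _ ≤ p ^ a := Nat.pow_le_pow_right hp.pos (Nat.one_le_iff_ne_zero.mpr ha)
            have : 0 < m' := Nat.pos_of_ne_zero hm'0
            nlinarith
          have hpow : ∀ k : ℕ, ∀ H : Subgroup G, (y ^ k) ^ H.index ∈ H := by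
            intro k H
            rw [← pow_mul, mul_comm, pow_mul]
            exact pow_mem (hyH H) k
          have h1 : y ^ (p ^ a) ∈ Cfsg.fittingSubgroup G := ih m' hlt _ ho1 (hpow _)
          have h2 : y ^ m' ∈ Cfsg.fittingSubgroup G := by
            have h3 : y ^ m' ∈ Cfsg.pCore p G := by
              apply mem_pCore_of_forall_sylow
              intro P
              have h4 := hpow m' (P : Subgroup G)
              have hcop : ((P : Subgroup G).index).Coprime (orderOf (y ^ m')) := by
                rw [ho2]
                apply Nat.Coprime.pow_right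
                exact ((Nat.Prime.coprime_iff_not_dvd hp).mpr P.not_dvd_index).symm
              obtain ⟨k, hk⟩ := exists_pow_eq_self_of_coprime hcop
              rw [← hk]
              exact pow_mem h4 k
            rw [Cfsg.Agent.Lib.Lead_Fitting.fitting_eq]
            exact Cfsg.Agent.Lib.Lead_Fitting.pCore_le_F0 p h3
          have hcop : Nat.Coprime (p ^ a) m' :=
            Nat.Coprime.pow_left a ((Nat.Prime.coprime_iff_not_dvd hp).mpr hm')
          have hb := Nat.gcd_eq_gcd_ab (p ^ a) m'
          rw [hcop] at hb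
          have hy1 : y = (y ^ (p ^ a)) ^ (Nat.gcdA (p ^ a) m') * (y ^ m') ^ (Nat.gcdB (p ^ a) m') := by
            rw [← zpow_natCast y (p ^ a), ← zpow_natCast y m', ← zpow_mul, ← zpow_mul, ← zpow_add, ← hb]
            simp
          rw [hy1]
          exact mul_mem (zpow_mem h1 _) (zpow_mem h2 _)
    exact main _ x rfl h

end Cfsg.Agent.S4263
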