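import Cfsg.Statements.S0533
import Mathlib
import Cfsg.Agent.Lib.Helper3_Huppert2
import Cfsg.Agent.Lib.Helper1_Supersolvable2
import Cfsg.Agent.Lib.Helper1_Supersolvable3
import Cfsg.Agent.S4263

set_option autoImplicit false
open Cfsg

namespace Cfsg.Agent.S0533

open scoped commutatorElement
open Cfsg.Agent.Lib.Helper3_Huppert Cfsg.Agent.Lib.Helper3_Huppert2
open Cfsg.Agent.Lib.Helper1_Supersolvable Cfsg.Agent.Lib.Helper1_Supersolvable2
open Cfsg.Agent.Lib.Helper1_Supersolvable3

theorem hasSub_of_mulEquiv {A B : Type*} [Group A] [Group B] (e : A ≃* B)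
    (h : Cfsg.HasSubgroupOfEveryOrder A) : Cfsg.HasSubgroupOfEveryOrder B := by
  intro d hd
  have hc : Nat.card A = Nat.card B := Nat.card_congr e.toEquiv
  obtain ⟨S, hS⟩ := h d (hc ▸ hd)
  exact ⟨S.map e.toMonoidHom, by rw [Subgroup.card_map_of_injective e.injective, hS]⟩

theorem hyp_subgroup {G : Type*} [Group G] (h : ∀ H : Subgroup G, Cfsg.HasSubgroupOfEveryOrder H)
    (K : Subgroup G) : ∀ H : Subgroup K, Cfsg.HasSubgroupOfEveryOrder H := fun H =>
  hasSub_of_mulEquiv (Subgroup.equivMapOfInjective H K.subtype K.subtype_injective).symm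
    (h (H.map K.subtype))

theorem clt {G : Type*} [Group G] (h : ∀ H : Subgroup G, Cfsg.HasSubgroupOfEveryOrder H)
    (K : Subgroup G) (d : ℕ) (hd : d ∣ Nat.card K) : ∃ S : Subgroup G, S ≤ K ∧ Nat.card S = d := by
  obtain ⟨S, hS⟩ := h K d hd
  exact ⟨S.map K.subtype, Subgroup.map_subtype_le S,
    by rw [Subgroup.card_map_of_injective K.subtype_injective, hS]⟩

theorem relIndex_sup_eq {G : Type*} [Group G] [Finite G] (H F : Subgroup G) [F.Normal] :
    H.relIndex (H ⊔ F) = H.relIndex F := by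
  have e1 := Cfsg.Agent.S4263.card_mul_relIndex' (le_sup_left : H ≤ H ⊔ F)
  have e2 := Cfsg.Agent.S4263.card_mul_relIndex' (le_sup_right : F ≤ H ⊔ F)
  rw [Subgroup.relIndex_sup_right] at e2
  have e3 := Cfsg.Agent.S4263.card_mul_relIndex' (inf_le_left : H ⊓ F ≤ H)
  rw [Subgroup.inf_relIndex_left] at e3
  have e4 := Cfsg.Agent.S4263.card_mul_relIndex' (inf_le_right : H ⊓ F ≤ F)
  rw [Subgroup.inf_relIndex_right] at e4
  have h0 : 0 < Nat.card (H ⊓ F : Subgroup G) := Nat.card_pos
  have h1 : 0 < F.relIndex H := Nat.pos_of_ne_zero (by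
    intro h'; rw [h', mul_zero] at e3
    have : 0 < Nat.card H := Nat.card_pos
    omega)
  have key : Nat.card (H ⊓ F : Subgroup G) * F.relIndex H * H.relIndex (H ⊔ F)
      = Nat.card (H ⊓ F : Subgroup G) * F.relIndex H * H.relIndex F := by
    calc Nat.card (H ⊓ F : Subgroup G) * F.relIndex H * H.relIndex (H ⊔ F)
        = Nat.card H * H.relIndex (H ⊔ F) := by rw [e3]
      _ = Nat.card F * F.relIndex H := by rw [e1, e2]
      _ = Nat.card (H ⊓ F : Subgroup G) * H.relIndex F * F.relIndex H := by rw [e4]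
      _ = _ := by ring
  exact Nat.eq_of_mul_eq_mul_left (Nat.mul_pos h0 h1) key
/-- If every subgroup of a finite group has subgroups of all orders dividing its order, then the group is supersolvable. -/
theorem result {G : Type*} [Group G] [Finite G] (h : ∀ H : Subgroup G, Cfsg.HasSubgroupOfEveryOrder H) : Cfsg.IsSupersolvable G := by
  classical
  induction hn : Nat.card G using Nat.strong_induction_on generalizing G with
  | _ n ih =>
  rcases subsingleton_or_nontrivial G with hs | hnt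
  · exact of_subsingleton
  have hprop : ∀ K : Subgroup G, K ≠ ⊤ → Cfsg.IsSupersolvable K := by
    intro K hK
    have hlt : Nat.card K < n := hn ▸ lt_of_le_of_ne (Subgroup.card_le_card_group K)
      (fun e => hK (Subgroup.eq_top_of_card_eq K e))
    exact ih _ hlt (hyp_subgroup h K) rfl
  have hG : Cfsg.HasSubgroupOfEveryOrder G := hasSub_of_mulEquiv Subgroup.topEquiv (h ⊤)
  have h1 : 1 < Nat.card G := Finite.one_lt_card
  obtain ⟨q, hq, hqG, hmax⟩ := exists_max_prime (Nat.card G) h1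
  haveI := Fact.mk hq
  set p := (Nat.card G).minFac with hpdef
  have hp : p.Prime := Nat.minFac_prime (by omega)
  have hpG : p ∣ Nat.card G := Nat.minFac_dvd _
  by_cases hpq : p = q
  · -- G is a q-group
    have hcard : Nat.card G = q ^ (Nat.card G).primeFactorsList.length := by
      apply Nat.eq_prime_pow_of_unique_prime_dvd (by omega)
      intro d hd hdG
      have h2 : d ≤ q := hmax d hd hdG
      have h3 : p ≤ d := Nat.minFac_le_of_dvd hd.two_le hdG
      omega
    exact of_isPGroup q (IsPGroup.of_card hcard)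
  -- a normal subgroup K of index p
  obtain ⟨K, hKc⟩ := hG (Nat.card G / p) (Nat.div_dvd_of_dvd hpG)
  have hKi : K.index = p := by
    have e1 := Subgroup.card_mul_index K
    rw [hKc] at e1
    have e2 : Nat.card G / p * p = Nat.card G := Nat.div_mul_cancel hpG
    have h0 : 0 < Nat.card G / p := Nat.div_pos (Nat.le_of_dvd (by omega) hpG) hp.pos
    exact Nat.eq_of_mul_eq_mul_left h0 (e1.trans e2.symm)
  haveI hKn : K.Normal := Subgroup.normal_of_index_eq_minFac_card hKi
  have hK1 : K ≠ ⊤ := by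
    intro h'
    rw [h', Subgroup.index_top] at hKi
    exact hp.one_lt.ne hKi
  have hKs := hprop K hK1
  have hGK : Nat.card G = Nat.card K * p := by rw [← hKi]; exact (Subgroup.card_mul_index K).symm
  have hqK : q ∣ Nat.card K := by
    rw [hGK] at hqG
    rcases (Nat.Prime.dvd_mul hq).mp hqG with h' | h'
    · exact h'
    · exact absurd ((Nat.prime_dvd_prime_iff_eq hq hp).mp h').symm hpq
  have hmaxK : ∀ r : ℕ, r.Prime → r ∣ Nat.card K → r ≤ q := fun r hr hrK =>
    hmax r hr (hGK ▸ Dvd.dvd.mul_right hrK p)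
  let QK : Sylow q K := default
  haveI hQKn : (QK : Subgroup K).Normal :=
    sylow_normal_of_prime_index (fun M hM => index_prime_of_isCoatom hKs M hM) q hmaxK QK
  haveI : (QK : Subgroup K).Characteristic := Sylow.characteristic_of_normal QK hQKn
  set Q : Subgroup G := (QK : Subgroup K).map K.subtype with hQdef
  haveI hQn : Q.Normal := by rw [hQdef]; infer_instance
  have hQ : IsPGroup q Q := QK.isPGroup'.map _
  have hQi : Q.index = (QK : Subgroup K).index * p := by
    rw [hQdef, Subgroup.index_map_subtype, hKi]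
  have hqi : ¬ q ∣ Q.index := by
    rw [hQi]
    intro h'
    rcases (Nat.Prime.dvd_mul hq).mp h' with h'' | h''
    · exact QK.not_dvd_index h''
    · exact absurd ((Nat.prime_dvd_prime_iff_eq hq hp).mp h'').symm hpq
  have hGQ : Nat.card Q * Q.index = Nat.card G := Subgroup.card_mul_index Q
  have hqQ : q ∣ Nat.card Q := by
    rw [← hGQ] at hqG
    rcases (Nat.Prime.dvd_mul hq).mp hqG with h' | h'
    · exact h'
    · exact absurd h' hqi
  obtain ⟨k, hk⟩ := IsPGroup.iff_card.mp hQ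
  have hk0 : k ≠ 0 := by
    intro h0
    rw [h0, pow_zero] at hk
    rw [hk] at hqQ
    exact hq.one_lt.ne' (Nat.dvd_one.mp hqQ)
  -- M of index q, and the complement H inside M
  obtain ⟨M, hMc⟩ := hG (Nat.card G / q) (Nat.div_dvd_of_dvd hqG)
  have hMi : M.index = q := by
    have e1 := Subgroup.card_mul_index M
    rw [hMc] at e1
    have e2 : Nat.card G / q * q = Nat.card G := Nat.div_mul_cancel hqG
    have h0 : 0 < Nat.card G / q := Nat.div_pos (Nat.le_of_dvd (by omega) hqG) hq.pos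
    exact Nat.eq_of_mul_eq_mul_left h0 (e1.trans e2.symm)
  have hM1 : M ≠ ⊤ := by
    intro h'
    rw [h', Subgroup.index_top] at hMi
    exact hq.one_lt.ne hMi
  have hMs := hprop M hM1
  have hmM : Q.index ∣ Nat.card M := by
    obtain ⟨q', hq'⟩ := hqQ
    rw [hMc, ← hGQ, hq', mul_assoc, Nat.mul_div_cancel_left _ hq.pos]
    exact dvd_mul_left _ _
  obtain ⟨H, hHM, hHc⟩ := clt h M Q.index hmM
  have hHq : (Nat.card H).Coprime q := by
    rw [hHc]; exact ((Nat.Prime.coprime_iff_not_dvd hq).mpr hqi).symm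
  have hHQ : (Nat.card H).Coprime (Nat.card Q) := by
    rw [hk]; exact Nat.Coprime.pow_right k hHq
  have hHnQ : H ≤ Subgroup.normalizer (Q : Set G) := by
    rw [Subgroup.normalizer_eq_top_iff.mpr hQn]; exact le_top
  have hQH : Q ⊔ H = ⊤ := by
    apply Subgroup.eq_top_of_card_eq
    rw [Cfsg.Agent.Lib.Lead_Coprime.card_sup_of_normalizer Q H hHnQ hHQ, hHc, hGQ]
  have hH1 : H ≠ ⊤ := by
    intro h'
    rw [h', Subgroup.card_top] at hHc
    rw [← hGQ, hk] at hHc
    have h2 : 1 < q ^ k := Nat.one_lt_pow hk0 hq.one_lt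
    have h3 : 0 < Q.index := Nat.pos_of_ne_zero Subgroup.index_ne_zero_of_finite
    nlinarith
  have hHs := hprop H hH1
  -- G ⧸ Q is supersolvable
  have hsupGQ : Cfsg.IsSupersolvable (G ⧸ Q) := by
    refine map_of_surjective ((QuotientGroup.mk' Q).comp H.subtype) ?_ hHs
    intro x
    obtain ⟨g, rfl⟩ := QuotientGroup.mk'_surjective Q x
    have hg : g ∈ Q ⊔ H := by rw [hQH]; trivial
    rw [Subgroup.mem_sup_of_normal_left] at hg
    obtain ⟨a, ha, b, hb, rfl⟩ := hg
    refine ⟨⟨b, hb⟩, ?_⟩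
    show QuotientGroup.mk' Q b = QuotientGroup.mk' Q (a * b)
    have ha1 : QuotientGroup.mk' Q a = 1 := by
      rw [← MonoidHom.mem_ker, QuotientGroup.ker_mk']; exact ha
    rw [map_mul, ha1, one_mul]
  -- Q₁ = Q ⊓ M
  have hr_dvd : M.relIndex Q ∣ q := hMi ▸ Cfsg.Agent.S4263.relIndex_dvd_index_of_normal_right M Q
  have hQ1n : (Q ⊓ M).Normal := by
    rcases (Nat.dvd_prime hq).mp hr_dvd with hr | hr
    · have hQM : Q ≤ M := Subgroup.relIndex_eq_one.mp hr
      rw [inf_eq_left.mpr hQM]; exact hQn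
    · have hQM : Q ⊔ M = ⊤ := by
        have e1 : M.relIndex (M ⊔ Q) = q := by rw [relIndex_sup_eq, hr]
        have e2 := Subgroup.relIndex_mul_index (le_sup_left : M ≤ M ⊔ Q)
        rw [e1, hMi] at e2
        have e3 : (M ⊔ Q).index = 1 := by
          have : q * (M ⊔ Q).index = q * 1 := by rw [e2, mul_one]
          exact Nat.eq_of_mul_eq_mul_left hq.pos this
        rw [sup_comm]; exact Subgroup.index_eq_one.mp e3
      have hind : ((Q ⊓ M).subgroupOf Q).index = (Nat.card Q).minFac := by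
        rw [hk, Nat.Prime.pow_minFac hq hk0]
        show (Q ⊓ M).relIndex Q = q
        rw [Subgroup.inf_relIndex_left, hr]
      have hnQ : ((Q ⊓ M).subgroupOf Q).Normal := Subgroup.normal_of_index_eq_minFac_card hind
      have hQnorm : Q ≤ Subgroup.normalizer ((Q ⊓ M : Subgroup G) : Set G) :=
        (Subgroup.normal_subgroupOf_iff_le_normalizer inf_le_left).mp hnQ
      apply normal_of_sup_eq_top (Q ⊓ M) Q M hQM
      · intro a ha n' hn'
        exact (Subgroup.mem_normalizer_iff.mp (hQnorm ha) n').mp hn'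
      · intro m hm n' hn'
        exact Subgroup.mem_inf.mpr ⟨hQn.conj_mem n' hn'.1 m, M.mul_mem (M.mul_mem hm hn'.2) (M.inv_mem hm)⟩
  -- commutators / powers centralize Q
  have hcentQ : ∀ c ∈ H, ((∃ y ∈ H, ∃ z ∈ H, c = ⁅y, z⁆) ∨ ∃ y ∈ H, c = y ^ (q - 1)) →
      ∀ x ∈ Q, c * x * c⁻¹ = x := by
    intro c hc hcc
    have hco : (orderOf c).Coprime q :=
      Nat.Coprime.coprime_dvd_left (Subgroup.orderOf_dvd_natCard H hc) hHq
    -- c centralizes Q ⊓ M
    have hc1 : ∀ r ∈ Q ⊓ M, c * r * c⁻¹ = r := by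
      haveI : ((Q ⊓ M).subgroupOf M).Normal := hQ1n.subgroupOf M
      have hR : IsPGroup q ((Q ⊓ M).subgroupOf M) := by
        rw [← Subgroup.comap_subtype]
        exact (hQ.to_le inf_le_left).comap_subtype
      have hx : (orderOf (⟨c, hHM hc⟩ : M)).Coprime q := by
        rw [← Subgroup.orderOf_coe]; exact hco
      have hxc : (∃ y z : M, (⟨c, hHM hc⟩ : M) = ⁅y, z⁆) ∨ ∃ y : M, (⟨c, hHM hc⟩ : M) = y ^ (q - 1) := by
        rcases hcc with ⟨y, hy, z, hz, rfl⟩ | ⟨y, hy, rfl⟩
        · exact Or.inl ⟨⟨y, hHM hy⟩, ⟨z, hHM hz⟩, Subtype.ext rfl⟩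
        · exact Or.inr ⟨⟨y, hHM hy⟩, Subtype.ext rfl⟩
      intro r hr
      have := centralizes_of_supersolvable hMs q ((Q ⊓ M).subgroupOf M) hR ⟨c, hHM hc⟩ hx hxc
        ⟨r, hr.2⟩ (Subgroup.mem_subgroupOf.mpr hr)
      exact congrArg Subtype.val this
    -- c acts trivially on Q / (Q ⊓ M)
    have hc2 : ∀ x ∈ Q, c * x * c⁻¹ * x⁻¹ ∈ Q ⊓ M := by
      intro x hx
      rcases (Nat.dvd_prime hq).mp hr_dvd with hr | hr
      · have hQM : Q ≤ M := Subgroup.relIndex_eq_one.mp hr
        rw [inf_eq_left.mpr hQM]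
        exact Q.mul_mem (hQn.conj_mem x hx c) (Q.inv_mem hx)
      · haveI := hQ1n
        haveI : (Q.map (QuotientGroup.mk' (Q ⊓ M))).Normal :=
          hQn.map _ (QuotientGroup.mk'_surjective _)
        have hLc : Nat.card (Q.map (QuotientGroup.mk' (Q ⊓ M))) = q := by
          have h1 := card_comap_mk' (Q ⊓ M) (Q.map (QuotientGroup.mk' (Q ⊓ M)))
          rw [Subgroup.comap_map_eq, QuotientGroup.ker_mk', sup_eq_left.mpr inf_le_left] at h1
          have h2 := Cfsg.Agent.S4263.card_mul_relIndex' (inf_le_left : Q ⊓ M ≤ Q)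
          rw [Subgroup.inf_relIndex_left, hr] at h2
          have h0 : 0 < Nat.card (Q ⊓ M : Subgroup G) := Nat.card_pos
          have : Nat.card (Q ⊓ M : Subgroup G) * Nat.card (Q.map (QuotientGroup.mk' (Q ⊓ M)))
              = Nat.card (Q ⊓ M : Subgroup G) * q := by rw [h2, h1, mul_comm]
          exact Nat.eq_of_mul_eq_mul_left h0 this
        have hxcb : (∃ y z : G ⧸ (Q ⊓ M), QuotientGroup.mk' (Q ⊓ M) c = ⁅y, z⁆) ∨
            ∃ y : G ⧸ (Q ⊓ M), QuotientGroup.mk' (Q ⊓ M) c = y ^ (q - 1) := by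
          rcases hcc with ⟨y, hy, z, hz, rfl⟩ | ⟨y, hy, rfl⟩
          · exact Or.inl ⟨QuotientGroup.mk' _ y, QuotientGroup.mk' _ z, map_commutatorElement _ _ _⟩
          · exact Or.inr ⟨QuotientGroup.mk' _ y, map_pow _ _ _⟩
        have key := conj_eq_of_card_prime q (Q.map (QuotientGroup.mk' (Q ⊓ M))) hLc
          (QuotientGroup.mk' (Q ⊓ M) c) hxcb (QuotientGroup.mk' (Q ⊓ M) x)
          (Subgroup.mem_map_of_mem _ hx)
        rw [← QuotientGroup.ker_mk' (Q ⊓ M), MonoidHom.mem_ker, map_mul, map_inv, map_mul, map_mul,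
          map_inv, key]
        group
    intro x hx
    have hk' := hc2 x hx
    apply Cfsg.Agent.Lib.Helper2_Coprime.conj_eq_of_stable_step (Q ⊓ M) c x hk' (hc1 _ hk')
    have hd : Nat.card (Q ⊓ M : Subgroup G) ∣ Nat.card Q := Subgroup.card_dvd_of_le inf_le_left
    exact Nat.Coprime.coprime_dvd_right hd
      (Nat.Coprime.coprime_dvd_left (Subgroup.orderOf_dvd_natCard H hc) hHQ)
  refine supersolvable_of_split q Q hQ H hQH hsupGQ ?_ ?_
  · intro y hy z hz x hx
    refine hcentQ _ ?_ (Or.inl ⟨y, hy, z, hz, rfl⟩) x hx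
    rw [commutatorElement_def]
    exact H.mul_mem (H.mul_mem (H.mul_mem hy hz) (H.inv_mem hy)) (H.inv_mem hz)
  · intro y hy x hx
    exact hcentQ _ (H.pow_mem hy _) (Or.inr ⟨y, hy, rfl⟩) x hx

end Cfsg.Agent.S0533
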