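import Cfsg.Statements.S0534
import Mathlib
import Cfsg.Agent.Lib.Lead_Hall
import Cfsg.Agent.Lib.Helper1_Supersolvable2

set_option autoImplicit false
open Cfsg

namespace Cfsg.Agent.S0534

theorem arith (g a d : ℕ) (hg : g ≠ 0) (ha : a ≠ 0)
    (hA : ∀ p : ℕ, p.Prime → p ∣ a → p ∣ g)
    (hexp : ∀ p : ℕ, p.Prime → p ∣ g → a.factorization p + 1 = g.factorization p)
    (hd : d ∣ g * a) :
    ∃ m n e : ℕ, g = m * n ∧ m.Coprime n ∧ e ∣ a ∧ m * e = d := by
  classical
  have hd0 : d ≠ 0 := by
    rintro rfl
    have := zero_dvd_iff.mp hd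
    exact (mul_ne_zero hg ha) this
  set pr : ℕ → Prop := fun p => g.factorization p ≤ d.factorization p with hpr
  set fm : ℕ →₀ ℕ := g.factorization.filter pr with hfm
  set fn : ℕ →₀ ℕ := g.factorization.filter (fun p => ¬ pr p) with hfn
  have hfmP : ∀ p ∈ fm.support, p.Prime := by
    intro p hp
    rw [hfm, Finsupp.support_filter, Finset.mem_filter] at hp
    exact Nat.prime_of_mem_primeFactors (Nat.support_factorization g ▸ hp.1)
  have hfnP : ∀ p ∈ fn.support, p.Prime := by
    intro p hp
    rw [hfn, Finsupp.support_filter, Finset.mem_filter] at hp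
    exact Nat.prime_of_mem_primeFactors (Nat.support_factorization g ▸ hp.1)
  set m := fm.prod (· ^ ·) with hm
  set n := fn.prod (· ^ ·) with hn
  have hmf : m.factorization = fm := Nat.prod_pow_factorization_eq_self hfmP
  have hnf : n.factorization = fn := Nat.prod_pow_factorization_eq_self hfnP
  have hm0 : m ≠ 0 := by
    rw [hm, Finsupp.prod_ne_zero_iff]
    intro p hp
    exact pow_ne_zero _ (hfmP p hp).ne_zero
  have hn0 : n ≠ 0 := by
    rw [hn, Finsupp.prod_ne_zero_iff]
    intro p hp
    exact pow_ne_zero _ (hfnP p hp).ne_zero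
  have hgmn : g = m * n := by
    apply Nat.eq_of_factorization_eq hg (mul_ne_zero hm0 hn0)
    intro p
    rw [Nat.factorization_mul hm0 hn0, hmf, hnf, hfm, hfn, Finsupp.filter_pos_add_filter_neg]
  have hcop : m.Coprime n := by
    apply Nat.coprime_of_dvd
    intro p hp hpm hpn
    have h1 : fm p ≠ 0 := by
      rw [← hmf]
      have := (hp.dvd_iff_one_le_factorization hm0).mp hpm
      omega
    have h2 : fn p ≠ 0 := by
      rw [← hnf]
      have := (hp.dvd_iff_one_le_factorization hn0).mp hpn
      omega
    rw [hfm, Finsupp.filter_apply] at h1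
    rw [hfn, Finsupp.filter_apply] at h2
    by_cases hc : pr p
    · rw [if_neg (not_not.mpr hc)] at h2
      exact h2 rfl
    · rw [if_neg hc] at h1
      exact h1 rfl
  have hmd : m ∣ d := by
    rw [← Nat.factorization_le_iff_dvd hm0 hd0, hmf]
    intro p
    rw [hfm, Finsupp.filter_apply]
    by_cases hc : pr p
    · rw [if_pos hc]; exact hc
    · rw [if_neg hc]; exact Nat.zero_le _
  refine ⟨m, n, d / m, hgmn, hcop, ?_, Nat.mul_div_cancel' hmd⟩
  have he0 : d / m ≠ 0 := by
    intro h
    have := Nat.mul_div_cancel' hmd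
    rw [h, mul_zero] at this
    exact hd0 this.symm
  rw [← Nat.factorization_le_iff_dvd he0 ha, Nat.factorization_div hmd, hmf]
  intro p
  rw [Finsupp.tsub_apply]
  by_cases hp : p.Prime
  · have hdle : d.factorization p ≤ g.factorization p + a.factorization p := by
      have := (Nat.factorization_le_iff_dvd hd0 (mul_ne_zero hg ha)).mpr hd p
      rw [Nat.factorization_mul hg ha] at this
      exact this
    by_cases hpg : p ∣ g
    · have h1 := hexp p hp hpg
      rw [hfm, Finsupp.filter_apply]
      by_cases hc : pr p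
      · rw [if_pos hc]
        have hc' : g.factorization p ≤ d.factorization p := hc
        omega
      · rw [if_neg hc]
        have hc' : ¬ g.factorization p ≤ d.factorization p := hc
        omega
    · have h1 : g.factorization p = 0 := Nat.factorization_eq_zero_of_not_dvd hpg
      have h2 : a.factorization p = 0 :=
        Nat.factorization_eq_zero_of_not_dvd (fun h => hpg (hA p hp h))
      omega
  · rw [Nat.factorization_eq_zero_of_not_prime d hp]
    simp


/-- Let G be a finite solvable group and A a finite abelian group such that every prime dividing the order of A divides the order of G and, for each prime p dividing the order of G, the exponent of p in the order of A is one less than its exponent in the order of G. Then G × A has a subgroup of every order dividing its order. -/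
theorem result {G A : Type*} [Group G] [CommGroup A] [Finite G] [Finite A] [Group.IsSolvable G] (hA : ∀ p : ℕ, p.Prime → p ∣ Nat.card A → p ∣ Nat.card G) (hexp : ∀ p : ℕ, p.Prime → p ∣ Nat.card G → (Nat.card A).factorization p + 1 = (Nat.card G).factorization p) : Cfsg.HasSubgroupOfEveryOrder (G × A) := by
  intro d hd
  rw [Nat.card_prod] at hd
  obtain ⟨m, n, e, hgmn, hcop, hea, hme⟩ := arith (Nat.card G) (Nat.card A) d Nat.card_pos.ne'
    Nat.card_pos.ne' hA hexp hd
  obtain ⟨⟨H, hH⟩, -, -⟩ := Cfsg.Agent.Lib.Lead_Hall.hall G m n hgmn hcop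
  have hAs : Cfsg.IsSupersolvable A :=
    Cfsg.Agent.Lib.Helper1_Supersolvable2.of_isNilpotent inferInstance
  obtain ⟨B, hB⟩ := Cfsg.Agent.Lib.Helper1_Supersolvable2.hasSubgroupOfEveryOrder hAs e hea
  refine ⟨H.prod B, ?_⟩
  rw [Nat.card_congr (Subgroup.prodEquiv H B).toEquiv, Nat.card_prod, hH, hB, hme]

end Cfsg.Agent.S0534
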