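import Cfsg.Statements.S0535
import Mathlib
import Cfsg.Agent.S0006
import Cfsg.Agent.Lib.Lead_SZ

set_option autoImplicit false
open Cfsg

namespace Cfsg.Agent.S0535

/-- Suppose that for every nontrivial subgroup H of a finite group and every prime p dividing the order of H there is a proper subgroup of H whose index in H is a power of p. Then the group is solvable. -/
theorem result {G : Type*} [Group G] [Finite G] (h : ∀ H : Subgroup G, H ≠ ⊥ → ∀ p : ℕ, p.Prime → p ∣ Nat.card H → ∃ K : Subgroup H, K ≠ ⊤ ∧ ∃ k : ℕ, K.index = p ^ k) : Group.IsSolvable G := by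
  classical
  apply Cfsg.Agent.S0006.result
  intro p hp
  haveI : Fact p.Prime := ⟨hp⟩
  -- choose a subgroup of p-power index of minimal order
  have hex : ∃ n, ∃ L : Subgroup G, (∃ j, L.index = p ^ j) ∧ Nat.card L = n :=
    ⟨_, ⊤, ⟨0, by simp⟩, rfl⟩
  obtain ⟨L, ⟨j, hj⟩, hLn⟩ := Nat.find_spec hex
  have hmin : ∀ L' : Subgroup G, (∃ j, L'.index = p ^ j) → Nat.card L ≤ Nat.card L' := by
    intro L' hL'
    rw [hLn]
    exact Nat.find_min' hex ⟨L', hL', rfl⟩
  have hpL : ¬ p ∣ Nat.card L := by
    intro hdvd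
    have hLbot : L ≠ ⊥ := by
      intro h
      rw [h, Subgroup.card_bot] at hdvd
      exact hp.one_lt.ne' (Nat.dvd_one.mp hdvd)
    obtain ⟨K, hKtop, k, hk⟩ := h L hLbot p hp hdvd
    have h1 : (K.map L.subtype).index = p ^ (k + j) := by
      rw [Subgroup.index_map_subtype, hk, hj, pow_add]
    have h2 := hmin _ ⟨_, h1⟩
    have h3 : Nat.card (K.map L.subtype) = Nat.card K :=
      Nat.card_congr (Subgroup.equivMapOfInjective K L.subtype L.subtype_injective).toEquiv.symm
    have h4 : Nat.card K < Nat.card L := by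
      have := Cfsg.Agent.Lib.Lead_SZ.card_lt (lt_top_iff_ne_top.mpr hKtop)
      rwa [Subgroup.card_top] at this
    omega
  refine ⟨L, ?_⟩
  rw [hj]
  congr 1
  have hcard := L.card_mul_index
  rw [hj] at hcard
  rw [← hcard, Nat.factorization_mul Nat.card_pos.ne' (pow_ne_zero _ hp.ne_zero)]
  simp only [Finsupp.coe_add, Pi.add_apply]
  rw [Nat.factorization_eq_zero_of_not_dvd hpL, zero_add, hp.factorization_pow]
  simp

end Cfsg.Agent.S0535
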