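import Cfsg.Statements.S0540
import Mathlib
import Cfsg.Agent.S0539
import Cfsg.Agent.Lib.Lead_SZ

set_option autoImplicit false
open Pointwise
open Cfsg

namespace Cfsg.Agent.S0540

open Cfsg.Agent.Lib.Lead_SZ

open scoped Pointwise

theorem subgroupOf_conj {G : Type*} [Group G] (V B : Subgroup G) (v : V) :
    MulAut.conj v • (B.subgroupOf V) = (MulAut.conj (v : G) • B).subgroupOf V := by
  ext ⟨y, hy⟩
  rw [mem_conj_smul, Subgroup.mem_subgroupOf, Subgroup.mem_subgroupOf, mem_conj_smul]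
  rfl

theorem map_sSup_image {G : Type*} [Group G] (V : Subgroup G) (Sg : Set (Subgroup G))
    (hSg : ∀ B ∈ Sg, B ≤ V) :
    (sSup ((fun B : Subgroup G => B.subgroupOf V) '' Sg)).map V.subtype = sSup Sg := by
  apply le_antisymm
  · rw [Subgroup.map_le_iff_le_comap]
    apply sSup_le
    rintro X' ⟨B, hB, rfl⟩
    exact Subgroup.comap_mono (le_sSup hB)
  · apply sSup_le
    intro B hB
    rw [← Subgroup.map_subgroupOf_eq_of_le (hSg B hB)]
    exact Subgroup.map_mono (le_sSup ⟨B, hB, rfl⟩)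

theorem step {G : Type*} [Group G] [Finite G] (A : Subgroup G) (S : Subgroup G → Set (Subgroup G))
    (hS : ∀ V B : Subgroup G, B ∈ S V ↔ (∃ g : G, B = MulAut.conj g • A) ∧ B ≤ V ∧
      (B.subgroupOf V).IsSubnormal)
    (V : Subgroup G) (Sg : Set (Subgroup G)) (hSg : Sg ⊆ S V) :
    Sg = S V ∨ ∃ B ∈ S V, B ∉ Sg ∧ B ≤ Subgroup.normalizer ((sSup Sg : Subgroup G) : Set G) := by
  by_cases heq : Sg = S V
  · exact Or.inl heq
  right
  have hss : Sg ⊂ S V := lt_of_le_of_ne hSg heq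
  set f : Subgroup G → Subgroup V := fun B => B.subgroupOf V with hf
  have hleV : ∀ B ∈ S V, B ≤ V := fun B hB => ((hS V B).mp hB).2.1
  have hinj : ∀ B ∈ S V, ∀ B' ∈ S V, f B = f B' → B = B' := by
    intro B hB B' hB' h
    have h1 : (f B).map V.subtype = (f B').map V.subtype := by rw [h]
    rw [hf] at h1
    simp only at h1
    rw [Subgroup.map_subgroupOf_eq_of_le (hleV B hB), Subgroup.map_subgroupOf_eq_of_le (hleV B' hB')]
      at h1
    exact h1
  have hss' : f '' Sg ⊂ f '' S V := by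
    refine lt_of_le_of_ne (Set.image_mono hSg) ?_
    intro h
    obtain ⟨B, hBS, hBn⟩ := Set.exists_of_ssubset hss
    have h1 : f B ∈ f '' Sg := by rw [h]; exact ⟨B, hBS, rfl⟩
    obtain ⟨B', hB', hBB'⟩ := h1
    have := hinj B' (hSg hB') B hBS hBB'
    rw [this] at hB'
    exact hBn hB'
  have hsn : ∀ U ∈ f '' S V, U.IsSubnormal := by
    rintro U ⟨B, hB, rfl⟩
    exact ((hS V B).mp hB).2.2
  have hconj : ∀ U ∈ f '' S V, ∀ g : V, MulAut.conj g • U ∈ f '' S V := by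
    rintro U ⟨B, hB, rfl⟩ v
    obtain ⟨⟨g, hg⟩, hBV, hBsn⟩ := (hS V B).mp hB
    refine ⟨MulAut.conj (v : G) • B, ?_, (subgroupOf_conj V B v).symm⟩
    rw [hS]
    refine ⟨⟨(v : G) * g, ?_⟩, ?_, ?_⟩
    · rw [hg, conj_smul_smul]
    · intro x hx
      rw [mem_conj_smul] at hx
      have h1 := V.mul_mem (V.mul_mem v.2 (hBV hx)) (V.inv_mem v.2)
      simpa [mul_assoc] using h1
    · rw [← subgroupOf_conj]
      exact hBsn.smul _
  obtain ⟨X', ⟨B, hB, rfl⟩, hX'n, hX'N⟩ := Cfsg.Agent.S0539.result (f '' S V) (f '' Sg) hsn hconj hss'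
  refine ⟨B, hB, fun h => hX'n ⟨B, h, rfl⟩, ?_⟩
  intro b hb
  have hbV : b ∈ V := hleV B hB hb
  have h1 : (⟨b, hbV⟩ : V) ∈ Subgroup.normalizer ((sSup (f '' Sg) : Subgroup V) : Set V) :=
    hX'N (Subgroup.mem_subgroupOf.mpr hb)
  have h2 : b ∈ (Subgroup.normalizer ((sSup (f '' Sg) : Subgroup V) : Set V)).map V.subtype :=
    ⟨⟨b, hbV⟩, h1, rfl⟩
  have h3 := Subgroup.le_normalizer_map V.subtype h2
  rw [map_sSup_image V Sg (fun B hB => hleV B (hSg hB))] at h3
  exact h3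

theorem le_normalizer_sSup {G : Type*} [Group G] [Finite G] (A : Subgroup G)
    (S : Subgroup G → Set (Subgroup G))
    (hS : ∀ V B : Subgroup G, B ∈ S V ↔ (∃ g : G, B = MulAut.conj g • A) ∧ B ≤ V ∧
      (B.subgroupOf V).IsSubnormal)
    (V : Subgroup G) : V ≤ Subgroup.normalizer ((sSup (S V) : Subgroup G) : Set G) := by
  intro v hv
  apply Cfsg.Agent.S0539.mem_normalizer_of_smul_le
  rw [Subgroup.pointwise_smul_subset_iff]
  apply sSup_le
  intro B hB
  rw [Subgroup.subset_pointwise_smul_iff, inv_inv]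
  apply le_sSup
  obtain ⟨⟨g, hg⟩, hBV, hBsn⟩ := (hS V B).mp hB
  rw [hS]
  refine ⟨⟨v * g, ?_⟩, ?_, ?_⟩
  · rw [hg, conj_smul_smul]
  · intro x hx
    rw [mem_conj_smul] at hx
    have h1 := V.mul_mem (V.mul_mem hv (hBV hx)) (V.inv_mem hv)
    simpa [mul_assoc] using h1
  · have := subgroupOf_conj V B ⟨v, hv⟩
    simp only at this
    rw [← this]
    exact hBsn.smul _


/-- A uniqueness lemma of zipper type. Let A be a subgroup of a finite group G and U a nonempty family of subgroups. For V in U write S(V) for the set of conjugates of A that lie in V and are subnormal in V. Assume: A belongs to S(V) for every V in U; a member of some S(W) that lies in V belongs to S(V); and for all V, W in U the normalizer of the join of S(V) ∩ S(W) lies in some member of U. Then U has a greatest element. -/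
theorem result {G : Type*} [Group G] [Finite G] (A : Subgroup G) (U : Set (Subgroup G)) (hU : U.Nonempty) (S : Subgroup G → Set (Subgroup G)) (hS : ∀ V B : Subgroup G, B ∈ S V ↔ (∃ g : G, B = MulAut.conj g • A) ∧ B ≤ V ∧ (B.subgroupOf V).IsSubnormal) (h1 : ∀ V ∈ U, A ∈ S V) (h2 : ∀ V ∈ U, ∀ W ∈ U, ∀ B ∈ S W, B ≤ V → B ∈ S V) (h3 : ∀ V ∈ U, ∀ W ∈ U, ∃ X ∈ U, Subgroup.normalizer ((sSup (S V ∩ S W) : Subgroup G) : Set G) ≤ X) : ∃ M ∈ U, ∀ V ∈ U, V ≤ M := by
  classical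
  by_contra hcon
  push_neg at hcon
  have hfinU : U.Finite := Set.toFinite U
  have hmax : ∀ V ∈ U, ∃ M, V ≤ M ∧ Maximal (· ∈ U) M := fun V hV => hfinU.exists_le_maximal hV
  obtain ⟨V₀, hV₀⟩ := hU
  obtain ⟨M₁, _, hM₁⟩ := hmax V₀ hV₀
  obtain ⟨V₁, hV₁U, hV₁⟩ := hcon M₁ hM₁.prop
  obtain ⟨M₂, hV₁M₂, hM₂⟩ := hmax V₁ hV₁U
  have hne : M₁ ≠ M₂ := by rintro rfl; exact hV₁ hV₁M₂
  let P : Set (Subgroup G × Subgroup G) :=
    {p | Maximal (· ∈ U) p.1 ∧ Maximal (· ∈ U) p.2 ∧ p.1 ≠ p.2}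
  have hPne : P.Nonempty := ⟨(M₁, M₂), hM₁, hM₂, hne⟩
  obtain ⟨⟨V, W⟩, ⟨hV, hW, hVW⟩, hbest⟩ :=
    Set.exists_max_image P (fun p => (S p.1 ∩ S p.2).ncard) (Set.toFinite P) hPne
  simp only at hV hW hVW hbest
  set Sg := S V ∩ S W with hSg
  obtain ⟨X, hXU, hNX⟩ := h3 V hV.prop W hW.prop
  obtain ⟨X', hXX', hX'⟩ := hmax X hXU
  have hTN : sSup Sg ≤ Subgroup.normalizer ((sSup Sg : Subgroup G) : Set G) := Subgroup.le_normalizer
  have hNX' : Subgroup.normalizer ((sSup Sg : Subgroup G) : Set G) ≤ X' := hNX.trans hXX'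
  have hSgX' : ∀ B ∈ Sg, B ≤ X' := fun B hB => (le_sSup hB).trans (hTN.trans hNX')
  by_cases hX'V : X' = V
  · rcases step A S hS W Sg Set.inter_subset_right with h | ⟨B, hBW, hBn, hBN⟩
    · have h1 : W ≤ Subgroup.normalizer ((sSup (S W) : Subgroup G) : Set G) :=
        le_normalizer_sSup A S hS W
      rw [← h] at h1
      have hWV : W ≤ V := h1.trans (hNX'.trans hX'V.le)
      exact hVW (hW.eq_of_le hV.prop hWV).symm
    · have hBV : B ≤ V := hBN.trans (hNX'.trans hX'V.le)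
      exact hBn ⟨h2 V hV.prop W hW.prop B hBW hBV, hBW⟩
  · rcases step A S hS V Sg Set.inter_subset_left with h | ⟨B, hBV, hBn, hBN⟩
    · have h1 : V ≤ Subgroup.normalizer ((sSup (S V) : Subgroup G) : Set G) :=
        le_normalizer_sSup A S hS V
      rw [← h] at h1
      have hVX' : V ≤ X' := h1.trans hNX'
      exact hX'V (hV.eq_of_le hX'.prop hVX').symm
    · have hBX' : B ≤ X' := hBN.trans hNX'
      have hBSX' : B ∈ S X' := h2 X' hX'.prop V hV.prop B hBV hBX'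
      have hsub : Sg ⊆ S V ∩ S X' := fun B₀ hB₀ =>
        ⟨hB₀.1, h2 X' hX'.prop V hV.prop B₀ hB₀.1 (hSgX' B₀ hB₀)⟩
      have hssub : Sg ⊂ S V ∩ S X' := by
        refine lt_of_le_of_ne hsub ?_
        intro h
        apply hBn
        rw [h]
        exact ⟨hBV, hBSX'⟩
      have hlt : Sg.ncard < (S V ∩ S X').ncard := Set.ncard_lt_ncard hssub (Set.toFinite _)
      have := hbest (V, X') ⟨hV, hX', Ne.symm hX'V⟩
      simp only at this
      omega

end Cfsg.Agent.S0540
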