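import Cfsg.Statements.S0541
import Mathlib
import Cfsg.Agent.S0540
import Cfsg.Agent.Lib.Lead_Subnormal

set_option autoImplicit false
open Pointwise
open Cfsg

namespace Cfsg.Agent.S0541

open Cfsg.Agent.Lib.Lead_SZ Cfsg.Agent.Lib.Lead_Subnormal

open scoped Pointwise

theorem family_step {G : Type*} [Group G] [Finite G] (V : Subgroup G) (S Sg : Set (Subgroup G))
    (hleV : ∀ B ∈ S, B ≤ V) (hsn : ∀ B ∈ S, (B.subgroupOf V).IsSubnormal)
    (hconj : ∀ B ∈ S, ∀ v ∈ V, MulAut.conj v • B ∈ S) (hss : Sg ⊂ S) :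
    ∃ B ∈ S, B ∉ Sg ∧ B ≤ Subgroup.normalizer ((sSup Sg : Subgroup G) : Set G) := by
  have hSg : Sg ⊆ S := hss.subset
  set f : Subgroup G → Subgroup V := fun B => B.subgroupOf V with hf
  have hinj : ∀ B ∈ S, ∀ B' ∈ S, f B = f B' → B = B' := by
    intro B hB B' hB' h
    have h1 : (f B).map V.subtype = (f B').map V.subtype := by rw [h]
    rw [hf] at h1
    simp only at h1
    rw [Subgroup.map_subgroupOf_eq_of_le (hleV B hB), Subgroup.map_subgroupOf_eq_of_le (hleV B' hB')]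
      at h1
    exact h1
  have hss' : f '' Sg ⊂ f '' S := by
    refine lt_of_le_of_ne (Set.image_mono hSg) ?_
    intro h
    obtain ⟨B, hBS, hBn⟩ := Set.exists_of_ssubset hss
    have h1 : f B ∈ f '' Sg := by rw [h]; exact ⟨B, hBS, rfl⟩
    obtain ⟨B', hB', hBB'⟩ := h1
    have := hinj B' (hSg hB') B hBS hBB'
    rw [this] at hB'
    exact hBn hB'
  have hsn' : ∀ U ∈ f '' S, U.IsSubnormal := by
    rintro U ⟨B, hB, rfl⟩
    exact hsn B hB
  have hconj' : ∀ U ∈ f '' S, ∀ g : V, MulAut.conj g • U ∈ f '' S := by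
    rintro U ⟨B, hB, rfl⟩ v
    exact ⟨MulAut.conj (v : G) • B, hconj B hB v v.2, (Cfsg.Agent.S0540.subgroupOf_conj V B v).symm⟩
  obtain ⟨X', ⟨B, hB, rfl⟩, hX'n, hX'N⟩ := Cfsg.Agent.S0539.result (f '' S) (f '' Sg) hsn' hconj' hss'
  refine ⟨B, hB, fun h => hX'n ⟨B, h, rfl⟩, ?_⟩
  intro b hb
  have hbV : b ∈ V := hleV B hB hb
  have h1 : (⟨b, hbV⟩ : V) ∈ Subgroup.normalizer ((sSup (f '' Sg) : Subgroup V) : Set V) :=
    hX'N (Subgroup.mem_subgroupOf.mpr hb)
  have h2 : b ∈ (Subgroup.normalizer ((sSup (f '' Sg) : Subgroup V) : Set V)).map V.subtype :=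
    ⟨⟨b, hbV⟩, h1, rfl⟩
  have h3 := Subgroup.le_normalizer_map V.subtype h2
  rw [Cfsg.Agent.S0540.map_sSup_image V Sg (fun B hB => hleV B (hSg hB))] at h3
  exact h3

/-- the weak closure of `Z` in `Q` -/
def wcl {G : Type*} [Group G] (Z Q : Subgroup G) : Subgroup G :=
  sSup {X | (∃ g : G, X = MulAut.conj g • Z) ∧ X ≤ Q}

theorem wcl_eq {G : Type*} [Group G] (Z Q : Subgroup G) :
    (⨆ g ∈ {g : G | MulAut.conj g • Z ≤ Q}, MulAut.conj g • Z : Subgroup G) = wcl Z Q := by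
  apply le_antisymm
  · apply iSup₂_le
    intro g hg
    exact le_sSup ⟨⟨g, rfl⟩, hg⟩
  · apply sSup_le
    rintro X ⟨⟨g, rfl⟩, hX⟩
    exact le_biSup (fun g => MulAut.conj g • Z) hX

theorem wcl_le {G : Type*} [Group G] (Z Q : Subgroup G) : wcl Z Q ≤ Q :=
  sSup_le (fun _ hX => hX.2)

theorem wcl_mono {G : Type*} [Group G] (Z : Subgroup G) {Q Q' : Subgroup G} (h : Q ≤ Q') :
    wcl Z Q ≤ wcl Z Q' :=
  sSup_le_sSup (fun _ hX => ⟨hX.1, hX.2.trans h⟩)


/-- Let Z and Y be subgroups of a finite group G and p a prime. Suppose that for every g in G the subgroup generated by the conjugates of g Z g⁻¹ under Y is a p-group. Then there is a Sylow p-subgroup P of G such that Y normalizes the subgroup generated by all conjugates of Z contained in P. -/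
theorem result {G : Type*} [Group G] [Finite G] (p : ℕ) [Fact p.Prime] (Z Y : Subgroup G) (h : ∀ g : G, IsPGroup p ↥(⨆ y ∈ Y, MulAut.conj (y * g) • Z)) : ∃ P : Sylow p G, Y ≤ Subgroup.normalizer ((⨆ g ∈ {g : G | MulAut.conj g • Z ≤ (P : Subgroup G)}, MulAut.conj g • Z : Subgroup G) : Set G) := by
  classical
  simp only [wcl_eq]
  let C : Set (Subgroup G) :=
    {Q | IsPGroup p Q ∧ Y ≤ Subgroup.normalizer (Q : Set G) ∧ wcl Z Q = Q}
  have hCbot : (⊥ : Subgroup G) ∈ C := by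
    refine ⟨IsPGroup.of_bot, ?_, le_antisymm (wcl_le Z ⊥) bot_le⟩
    rw [Subgroup.normalizer_eq_top_iff.mpr inferInstance]
    exact le_top
  obtain ⟨Q, -, hQmax⟩ := (Set.toFinite C).exists_le_maximal hCbot
  obtain ⟨hQp, hYQ, hWQ⟩ := hQmax.prop
  obtain ⟨P, hQP⟩ := hQp.exists_le_sylow
  refine ⟨P, ?_⟩
  have hclaim : wcl Z P = Q := by
    by_contra hne
    set S : Set (Subgroup G) := {X | (∃ g : G, X = MulAut.conj g • Z) ∧ X ≤ P} with hS
    set S₀ : Set (Subgroup G) := {X | (∃ g : G, X = MulAut.conj g • Z) ∧ X ≤ Q} with hS₀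
    have hsub : S₀ ⊆ S := fun X hX => ⟨hX.1, hX.2.trans hQP⟩
    have hss : S₀ ⊂ S := by
      refine lt_of_le_of_ne hsub ?_
      intro h
      apply hne
      show sSup S = Q
      rw [← h]
      exact hWQ
    haveI : Group.IsNilpotent (P : Subgroup G) := P.isPGroup'.isNilpotent
    obtain ⟨X, hXS, hXn, hXN⟩ := family_step (P : Subgroup G) S S₀ (fun B hB => hB.2)
      (fun B hB => isSubnormal_of_nilpotent _ _ rfl)
      (by
        rintro B ⟨⟨g, rfl⟩, hB⟩ v hv
        refine ⟨⟨v * g, by rw [conj_smul_smul]⟩, ?_⟩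
        intro x hx
        rw [mem_conj_smul] at hx
        have h1 := (P : Subgroup G).mul_mem ((P : Subgroup G).mul_mem hv (hB hx))
          ((P : Subgroup G).inv_mem hv)
        simpa [mul_assoc] using h1) hss
    have hsS₀ : sSup S₀ = Q := hWQ
    rw [hsS₀] at hXN
    obtain ⟨⟨g₀, rfl⟩, hXP⟩ := hXS
    have hXQ : ¬ MulAut.conj g₀ • Z ≤ Q := fun h => hXn ⟨⟨g₀, rfl⟩, h⟩
    set T := ⨆ y ∈ Y, MulAut.conj (y * g₀) • Z with hT
    have hTp : IsPGroup p T := h g₀
    have hgen : ∀ y ∈ Y, MulAut.conj (y * g₀) • Z ≤ T := fun y hy =>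
      le_biSup (fun y => MulAut.conj (y * g₀) • Z) hy
    have hTN : T ≤ Subgroup.normalizer (Q : Set G) := by
      apply iSup₂_le
      intro y hy
      rw [← conj_smul_smul]
      intro x hx
      rw [mem_conj_smul] at hx
      have h1 := hXN hx
      have h2 := hYQ hy
      have := (Subgroup.normalizer (Q : Set G)).mul_mem
        ((Subgroup.normalizer (Q : Set G)).mul_mem h2 h1)
        ((Subgroup.normalizer (Q : Set G)).inv_mem h2)
      simpa [mul_assoc] using this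
    have hYT : Y ≤ Subgroup.normalizer (T : Set G) := by
      intro y' hy'
      apply Cfsg.Agent.S0539.mem_normalizer_of_smul_le
      rw [Subgroup.pointwise_smul_subset_iff]
      apply iSup₂_le
      intro y hy
      rw [Subgroup.subset_pointwise_smul_iff, inv_inv, conj_smul_smul, ← mul_assoc]
      exact hgen (y' * y) (Y.mul_mem hy' hy)
    set Q' := Q ⊔ T with hQ'
    have hQ'p : IsPGroup p Q' := IsPGroup.to_sup_of_normal_left' hQp hTp hTN
    have hYQ' : Y ≤ Subgroup.normalizer (Q' : Set G) := by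
      intro y hy
      have h1 := hYQ hy
      have h2 := hYT hy
      rw [conj_smul_le_normalizer] at h1 h2 ⊢
      rw [hQ', Subgroup.smul_sup, h1, h2]
    have hWQ' : wcl Z Q' = Q' := by
      apply le_antisymm (wcl_le Z Q')
      apply sup_le
      · calc Q = wcl Z Q := hWQ.symm
          _ ≤ wcl Z Q' := wcl_mono Z le_sup_left
      · apply iSup₂_le
        intro y hy
        exact le_sSup ⟨⟨y * g₀, rfl⟩, (hgen y hy).trans le_sup_right⟩
    have hQ'C : Q' ∈ C := ⟨hQ'p, hYQ', hWQ'⟩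
    have hle : Q' ≤ Q := hQmax.le_of_ge hQ'C le_sup_left
    apply hXQ
    have := hgen 1 Y.one_mem
    rw [one_mul] at this
    exact this.trans (le_sup_right.trans hle)
  rw [hclaim]
  exact hYQ

end Cfsg.Agent.S0541
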