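import Cfsg.Statements.S0548
import Mathlib
import Cfsg.Agent.Lib.Helper1_MinNormal

set_option autoImplicit false
open Cfsg
open Cfsg.Agent.Lib.Helper1_MinNormal

namespace Cfsg.Agent.S0548

/-- Let a finite solvable group G act faithfully and primitively on a set, let M be a minimal normal subgroup and H the stabilizer of a point. Then H is a complement to M, no non-identity element of H centralizes M, and the only subgroups of M normalized by H are the trivial subgroup and M. -/
theorem result {G : Type*} [Group G] [Finite G] [Group.IsSolvable G] {Ω : Type*} [MulAction G Ω] [FaithfulSMul G Ω] (hprim : MulAction.IsPreprimitive G Ω) (M : Subgroup G) [M.Normal] (hM : M ≠ ⊥) (hmin : ∀ K : Subgroup G, K.Normal → K ≤ M → K = ⊥ ∨ K = M) (ω : Ω) : Subgroup.IsComplement' M (MulAction.stabilizer G ω) ∧ MulAction.stabilizer G ω ⊓ Subgroup.centralizer (M : Set G) = ⊥ ∧ ∀ K : Subgroup G, K ≤ M → MulAction.stabilizer G ω ≤ Subgroup.normalizer (K : Set G) → K = ⊥ ∨ K = M := by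
  have hMt : MulAction.IsPretransitive M Ω := isPretransitive_of_normal hprim M hM
  have hcomm := comm_of_minimal_normal M hmin
  set H := MulAction.stabilizer G ω with hH
  have hdisj : M ⊓ H = ⊥ := by
    rw [eq_bot_iff]
    rintro m ⟨hmM, hmH⟩
    rw [Subgroup.mem_bot]
    apply eq_one_of_centralizes_of_fixes M hMt ω m
    · exact hmH
    · intro m' hm'
      exact hcomm _ hmM _ hm'
  have hprod : ∀ g : G, ∃ m ∈ M, ∃ h ∈ H, g = m * h := by
    intro g
    obtain ⟨m, hm⟩ := hMt.exists_smul_eq ω (g • ω)
    refine ⟨m, m.2, (m : G)⁻¹ * g, ?_, by group⟩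
    rw [hH, MulAction.mem_stabilizer_iff, mul_smul, ← hm]
    show (m : G)⁻¹ • ((m : G) • ω) = ω
    rw [inv_smul_smul]
  have hsup : M ⊔ H = ⊤ := by
    rw [eq_top_iff]
    intro g _
    obtain ⟨m, hm, h, hh, rfl⟩ := hprod g
    exact Subgroup.mul_mem_sup hm hh
  refine ⟨?_, ?_, ?_⟩
  · apply Subgroup.isComplement'_of_disjoint_and_mul_eq_univ
    · rw [disjoint_iff]; exact hdisj
    · rw [← Subgroup.normal_mul, hsup]; rfl
  · rw [eq_bot_iff]
    rintro h ⟨hhH, hhC⟩
    rw [Subgroup.mem_bot]
    apply eq_one_of_centralizes_of_fixes M hMt ω h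
    · exact hhH
    · intro m hm
      exact ((Subgroup.mem_centralizer_iff.mp hhC) m hm).symm
  · intro K hKM hHK
    apply hmin K _ hKM
    rw [← Subgroup.normalizer_eq_top_iff, eq_top_iff, ← hsup]
    apply sup_le _ hHK
    intro m hm
    rw [Subgroup.mem_normalizer_iff]
    have key : ∀ k ∈ M, m * k * m⁻¹ = k := by
      intro k hk
      rw [hcomm m hm k hk, mul_inv_cancel_right]
    intro k
    constructor
    · intro hk
      rw [key k (hKM hk)]; exact hk
    · intro hk
      have hkM : k ∈ M := by
        have := ‹M.Normal›.conj_mem _ (hKM hk) m⁻¹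
        simpa [mul_assoc] using this
      rw [key k hkM] at hk; exact hk

end Cfsg.Agent.S0548
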