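import Cfsg.Statements.S0549
import Mathlib

set_option autoImplicit false
open Cfsg

namespace Cfsg.Agent.S0549

/-- a nontrivial normal subgroup supplements a core-free maximal subgroup -/
theorem sup_eq_top_of_normal {G : Type*} [Group G] (U : Subgroup G) (hU : IsCoatom U)
    (hcore : U.normalCore = ⊥) (K : Subgroup G) [K.Normal] (hK : K ≠ ⊥) : K ⊔ U = ⊤ := by
  have hKU : ¬ K ≤ U := by
    intro hle
    have := Subgroup.normal_le_normalCore.mpr hle
    rw [hcore, le_bot_iff] at this
    exact hK this
  by_contra hne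
  have hlt : U < K ⊔ U := lt_of_le_of_ne le_sup_right (fun h => hKU (h ▸ le_sup_left))
  exact hne (hU.2 _ hlt)

/-- Let U be a maximal subgroup of a finite group G whose normal core is trivial, and N a nontrivial normal subgroup with centralizer C. Then C ∩ U = 1, and either C = 1 or C is a minimal normal subgroup of G. -/
theorem result {G : Type*} [Group G] [Finite G] (U : Subgroup G) (hU : IsCoatom U) (hcore : U.normalCore = ⊥) (N : Subgroup G) [N.Normal] (hN : N ≠ ⊥) : Subgroup.centralizer (N : Set G) ⊓ U = ⊥ ∧ (Subgroup.centralizer (N : Set G) = ⊥ ∨ (Subgroup.centralizer (N : Set G) ≠ ⊥ ∧ ∀ K : Subgroup G, K.Normal → K ≤ Subgroup.centralizer (N : Set G) → K = ⊥ ∨ K = Subgroup.centralizer (N : Set G))) := by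
  set C := Subgroup.centralizer (N : Set G) with hC
  have hCn : C.Normal := Subgroup.normal_centralizer
  have hNU : N ⊔ U = ⊤ := sup_eq_top_of_normal U hU hcore N hN
  have hD : C ⊓ U = ⊥ := by
    have hDn : (C ⊓ U).Normal := by
      rw [← Subgroup.normalizer_eq_top_iff, eq_top_iff, ← hNU]
      apply sup_le
      · intro n hn
        rw [Subgroup.mem_normalizer_iff]
        have key : ∀ d ∈ C, n * d * n⁻¹ = d := by
          intro d hd
          have := (Subgroup.mem_centralizer_iff.mp hd) n hn
          rw [this, mul_inv_cancel_right]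
        intro d
        constructor
        · intro hd
          rw [key d hd.1]; exact hd
        · intro hd
          have hdC : d ∈ C := by
            have := hCn.conj_mem _ hd.1 n⁻¹
            simpa [mul_assoc] using this
          rw [key d hdC] at hd; exact hd
      · intro u hu
        rw [Subgroup.mem_normalizer_iff]
        intro d
        constructor
        · intro hd
          exact ⟨hCn.conj_mem _ hd.1 u, U.mul_mem (U.mul_mem hu hd.2) (U.inv_mem hu)⟩
        · intro hd
          refine ⟨?_, ?_⟩
          · have := hCn.conj_mem _ hd.1 u⁻¹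
            simpa [mul_assoc] using this
          · have := U.mul_mem (U.mul_mem (U.inv_mem hu) hd.2) hu
            simpa [mul_assoc] using this
    have := Subgroup.normal_le_normalCore.mpr (inf_le_right : C ⊓ U ≤ U)
    rwa [hcore, le_bot_iff] at this
  refine ⟨hD, ?_⟩
  by_cases hC0 : C = ⊥
  · exact Or.inl hC0
  refine Or.inr ⟨hC0, ?_⟩
  intro K hKn hKC
  by_cases hK0 : K = ⊥
  · exact Or.inl hK0
  refine Or.inr (le_antisymm hKC ?_)
  have hKU : K ⊔ U = ⊤ := sup_eq_top_of_normal U hU hcore K hK0
  intro c hc
  have hmem : c ∈ ((K ⊔ U : Subgroup G) : Set G) := by rw [hKU]; trivial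
  rw [Subgroup.normal_mul] at hmem
  obtain ⟨k, hk, u, hu, rfl⟩ := hmem
  have huC : u ∈ C := by
    have := C.mul_mem (C.inv_mem (hKC hk)) hc
    simpa using this
  have hu1 : u ∈ C ⊓ U := ⟨huC, hu⟩
  rw [hD, Subgroup.mem_bot] at hu1
  rw [hu1]
  show k * 1 ∈ K
  rw [mul_one]; exact hk

end Cfsg.Agent.S0549
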