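import Cfsg.Statements.S0587
import Mathlib
import Cfsg.Agent.Lib.Helper4_PCore
import Cfsg.Agent.Lib.Helper1_Index

set_option autoImplicit false
open Cfsg

namespace Cfsg.Agent.S0587

open Cfsg.Agent.Lib.Helper4_PCore

variable {G : Type*} [Group G]

theorem le_normalizer_of_conj_mem (A X : Subgroup G)
    (h : ∀ a ∈ A, ∀ x ∈ X, a * x * a⁻¹ ∈ X) : A ≤ Subgroup.normalizer (X : Set G) := by
  intro a ha
  rw [Subgroup.mem_normalizer_iff]
  intro x
  constructor
  · exact h a ha x
  · intro hx
    have := h a⁻¹ (A.inv_mem ha) _ hx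
    simpa [mul_assoc] using this

theorem eq_bot_of_normalized (M : Subgroup G) (hcore : M.normalCore = ⊥) (N : Subgroup G)
    (hNM : N ⊔ M = ⊤) (X : Subgroup G) (hXM : X ≤ M)
    (h1 : ∀ a ∈ M, ∀ x ∈ X, a * x * a⁻¹ ∈ X) (h2 : ∀ a ∈ N, ∀ x ∈ X, a * x * a⁻¹ ∈ X) :
    X = ⊥ := by
  have hn : Subgroup.normalizer (X : Set G) = ⊤ := by
    rw [eq_top_iff, ← hNM]
    exact sup_le (le_normalizer_of_conj_mem N X h2) (le_normalizer_of_conj_mem M X h1)
  haveI : X.Normal := Subgroup.normalizer_eq_top_iff.mp hn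
  rw [eq_bot_iff, ← hcore]
  exact Subgroup.normal_le_normalCore.mpr hXM

theorem sup_eq_top_of_normal (M : Subgroup G) (hM : IsCoatom M) (hcore : M.normalCore = ⊥)
    (N : Subgroup G) [N.Normal] (hN : N ≠ ⊥) : N ⊔ M = ⊤ := by
  apply hM.2
  apply lt_of_le_of_ne le_sup_right
  intro h
  have hNM : N ≤ M := by rw [h]; exact le_sup_left
  apply hN
  rw [eq_bot_iff, ← hcore]
  exact Subgroup.normal_le_normalCore.mpr hNM

theorem card_eq_index [Finite G] (M N : Subgroup G) [N.Normal] (hsup : N ⊔ M = ⊤)
    (hinf : N ⊓ M = ⊥) : Nat.card N = M.index := by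
  have h1 := Cfsg.Agent.Lib.Helper1_Index.second_iso_abs N M
  rw [hsup, Subgroup.relIndex_top_right, hinf, Subgroup.relIndex_bot_left] at h1
  exact h1.symm

/-- number of fixed points congruence for a `q`-subgroup acting by conjugation on a normal
subgroup. -/
theorem card_modEq_of_conj [Finite G] (q : ℕ) [Fact q.Prime] (Q L : Subgroup G) [L.Normal]
    (hQ : IsPGroup q Q) (hfix : ∀ l ∈ L, (∀ h ∈ Q, h * l * h⁻¹ = l) → l = 1) :
    Nat.card L ≡ 1 [MOD q] := by
  classical
  letI : MulAction Q L :=
    { smul := fun h k => ⟨h * k * (h : G)⁻¹, ‹L.Normal›.conj_mem _ k.2 _⟩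
      one_smul := fun k => by
        apply Subtype.ext
        change ((1 : Q) : G) * k * ((1 : Q) : G)⁻¹ = k
        simp
      mul_smul := fun a b k => by
        apply Subtype.ext
        change ((a * b : Q) : G) * k * ((a * b : Q) : G)⁻¹ =
          (a : G) * ((b : G) * k * (b : G)⁻¹) * (a : G)⁻¹
        simp [mul_assoc] }
  have hsmul : ∀ (h : Q) (k : L), ((h • k : L) : G) = h * k * (h : G)⁻¹ := fun _ _ => rfl
  have hmod := hQ.card_modEq_card_fixedPoints L
  have hfp : Nat.card (MulAction.fixedPoints Q L) = 1 := by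
    rw [Nat.card_eq_one_iff_unique]
    refine ⟨⟨?_⟩, ⟨⟨1, ?_⟩⟩⟩
    · rintro ⟨a, ha⟩ ⟨b, hb⟩
      apply Subtype.ext
      have ha1 : a = 1 := by
        apply Subtype.ext
        apply hfix a a.2
        intro h hh
        have := ha ⟨h, hh⟩
        exact congrArg Subtype.val this
      have hb1 : b = 1 := by
        apply Subtype.ext
        apply hfix b b.2
        intro h hh
        have := hb ⟨h, hh⟩
        exact congrArg Subtype.val this
      exact ha1.trans hb1.symm
    · intro h
      apply Subtype.ext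
      rw [hsmul]
      simp
  rw [hfp] at hmod
  exact hmod

theorem result {G : Type*} [Group G] [Finite G] (p : ℕ) [Fact p.Prime] (hL : Cfsg.pCore p G ≠ ⊥) (M : Subgroup G) (hM : IsCoatom M) (hcore : M.normalCore = ⊥) : Cfsg.IsElementaryAbelian p (Cfsg.pCore p G) ∧ Subgroup.IsComplement' (Cfsg.pCore p G) M ∧ (∀ K : Subgroup G, K.Normal → K ≤ Cfsg.pCore p G → K = ⊥ ∨ K = Cfsg.pCore p G) ∧ Subgroup.centralizer ((Cfsg.pCore p G : Subgroup G) : Set G) = Cfsg.pCore p G ∧ ∀ (q : ℕ) [Fact q.Prime], Cfsg.pCore q ↥M ≠ ⊥ → Nat.card (Cfsg.pCore p G) % q = 1 % q ∧ q ≠ p := by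
  classical
  set L := Cfsg.pCore p G with hLdef
  haveI hLn : L.Normal := pCore_normal p G
  have hLp : IsPGroup p L := pCore_isPGroup
  -- Z = Z(L)
  set Z := L ⊓ Subgroup.centralizer (L : Set G) with hZdef
  haveI hZn : Z.Normal := inferInstance
  have hZL : Z ≤ L := inf_le_left
  have hZne : Z ≠ ⊥ := by
    haveI : Nontrivial L := (Subgroup.nontrivial_iff_ne_bot L).mpr hL
    have hc := hLp.center_nontrivial
    obtain ⟨⟨z, hz⟩, hz1⟩ := exists_ne (1 : Subgroup.center L)
    intro hbot
    apply hz1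
    apply Subtype.ext
    apply Subtype.ext
    have : (z : G) ∈ Z := by
      refine Subgroup.mem_inf.mpr ⟨z.2, ?_⟩
      rw [Subgroup.mem_centralizer_iff]
      intro l hl
      have := (Subgroup.mem_center_iff.mp hz) ⟨l, hl⟩
      exact congrArg Subtype.val this
    rw [hbot, Subgroup.mem_bot] at this
    exact this
  have hZM : Z ⊔ M = ⊤ := sup_eq_top_of_normal M hM hcore Z hZne
  have hLM : L ⊔ M = ⊤ := sup_eq_top_of_normal M hM hcore L hL
  -- L ⊓ M = ⊥
  have hLMinf : L ⊓ M = ⊥ := by
    apply eq_bot_of_normalized M hcore Z hZM (L ⊓ M) inf_le_right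
    · intro a ha x hx
      exact ⟨hLn.conj_mem x hx.1 a, M.mul_mem (M.mul_mem ha hx.2) (M.inv_mem ha)⟩
    · intro a ha x hx
      have hc : x * a = a * x := (Subgroup.mem_centralizer_iff.mp ha.2) x hx.1
      rw [← hc, mul_inv_cancel_right]
      exact hx
  have hZMinf : Z ⊓ M = ⊥ := by
    rw [eq_bot_iff, ← hLMinf]
    exact inf_le_inf_right M hZL
  have hcardZ : Nat.card Z = M.index := card_eq_index M Z hZM hZMinf
  have hcardL : Nat.card L = M.index := card_eq_index M L hLM hLMinf
  have hZeq : Z = L := Subgroup.eq_of_le_of_card_ge hZL (by rw [hcardZ, hcardL])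
  have hLcomm : ∀ a ∈ L, ∀ b ∈ L, a * b = b * a := by
    intro a ha b hb
    have : b ∈ Z := hZeq ▸ hb
    exact ((Subgroup.mem_centralizer_iff.mp this.2) a ha)
  -- minimality
  have hmin : ∀ K : Subgroup G, K.Normal → K ≤ L → K = ⊥ ∨ K = L := by
    intro K hKn hKL
    by_cases hK : K = ⊥
    · exact Or.inl hK
    · right
      have hKM : K ⊔ M = ⊤ := sup_eq_top_of_normal M hM hcore K hK
      have hKMinf : K ⊓ M = ⊥ := by
        rw [eq_bot_iff, ← hLMinf]
        exact inf_le_inf_right M hKL
      have hcardK : Nat.card K = M.index := card_eq_index M K hKM hKMinf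
      exact Subgroup.eq_of_le_of_card_ge hKL (by rw [hcardK, hcardL])
  -- complement
  have hcompl : Subgroup.IsComplement' L M := by
    apply Subgroup.isComplement'_of_card_mul_and_disjoint
    · rw [hcardL, mul_comm]; exact M.card_mul_index
    · exact disjoint_iff.mpr hLMinf
  -- centralizer
  have hcent : Subgroup.centralizer (L : Set G) = L := by
    apply le_antisymm
    · have hX : Subgroup.centralizer (L : Set G) ⊓ M = ⊥ := by
        apply eq_bot_of_normalized M hcore L hLM _ inf_le_right
        · intro a ha x hx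
          refine ⟨?_, M.mul_mem (M.mul_mem ha hx.2) (M.inv_mem ha)⟩
          exact (inferInstance : (Subgroup.centralizer (L : Set G)).Normal).conj_mem x hx.1 a
        · intro a ha x hx
          have hc : a * x = x * a := (Subgroup.mem_centralizer_iff.mp hx.1) a ha
          rw [hc, mul_inv_cancel_right]
          exact hx
      intro c hc
      obtain ⟨⟨l, m⟩, hlm⟩ := hcompl.2 c
      have hlm' : (l : G) * m = c := hlm
      have hm : (m : G) ∈ Subgroup.centralizer (L : Set G) ⊓ M := by
        refine ⟨?_, m.2⟩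
        have : (m : G) = (l : G)⁻¹ * c := by rw [← hlm']; group
        rw [this]
        apply Subgroup.mul_mem _ (Subgroup.inv_mem _ _) hc
        rw [Subgroup.mem_centralizer_iff]
        intro b hb
        exact hLcomm _ hb _ l.2
      rw [hX, Subgroup.mem_bot] at hm
      rw [← hlm', hm, mul_one]
      exact l.2
    · intro l hl
      rw [Subgroup.mem_centralizer_iff]
      intro b hb
      exact hLcomm _ hb _ hl
  -- elementary abelian
  have hexp : ∀ a ∈ L, a ^ p = 1 := by
    let Ω : Subgroup G :=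
      { carrier := {x | x ∈ L ∧ x ^ p = 1}
        mul_mem' := by
          rintro a b ⟨ha, hap⟩ ⟨hb, hbp⟩
          refine ⟨L.mul_mem ha hb, ?_⟩
          have hc : Commute a b := hLcomm a ha b hb
          rw [hc.mul_pow, hap, hbp, one_mul]
        one_mem' := ⟨L.one_mem, one_pow p⟩
        inv_mem' := by
          rintro a ⟨ha, hap⟩
          exact ⟨L.inv_mem ha, by rw [inv_pow, hap, inv_one]⟩ }
    have hΩn : Ω.Normal := by
      constructor
      rintro x ⟨hx, hxp⟩ g
      exact ⟨hLn.conj_mem x hx g, by rw [conj_pow, hxp, mul_one, mul_inv_cancel]⟩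
    have hΩL : Ω ≤ L := fun x hx => hx.1
    have hΩne : Ω ≠ ⊥ := by
      haveI : Nontrivial L := (Subgroup.nontrivial_iff_ne_bot L).mpr hL
      have hdvd : p ∣ Nat.card L := by
        rcases hLp.card_eq_or_dvd with h | h
        · exfalso
          have : 1 < Nat.card L := Finite.one_lt_card
          omega
        · exact h
      obtain ⟨x, hx⟩ := exists_prime_orderOf_dvd_card' p hdvd
      intro hbot
      have hxΩ : (x : G) ∈ Ω := by
        refine ⟨x.2, ?_⟩
        have := pow_orderOf_eq_one x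
        rw [hx] at this
        exact_mod_cast congrArg Subtype.val this
      rw [hbot, Subgroup.mem_bot] at hxΩ
      have hx1 : x = 1 := Subtype.ext hxΩ
      rw [hx1, orderOf_one] at hx
      exact (Fact.out : p.Prime).one_lt.ne hx
    rcases hmin Ω hΩn hΩL with h | h
    · exact absurd h hΩne
    · intro a ha
      have : a ∈ Ω := h ▸ ha
      exact this.2
  have hcommInst : IsMulCommutative L := by
    refine ⟨⟨fun a b => ?_⟩⟩
    apply Subtype.ext
    exact hLcomm a a.2 b b.2
  refine ⟨⟨hcommInst, hexp⟩, hcompl, hmin, hcent, ?_⟩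
  intro q hq hQne
  set Q := (Cfsg.pCore q ↥M).map M.subtype with hQdef
  have hQM : Q ≤ M := Subgroup.map_subtype_le _
  have hQq : IsPGroup q Q := (pCore_isPGroup (G := M) (p := q)).map _
  have hQne' : Q ≠ ⊥ := by
    intro h
    apply hQne
    rw [hQdef, Subgroup.map_eq_bot_iff_of_injective _ M.subtype_injective] at h
    exact h
  have hQnormM : ∀ a ∈ M, ∀ x ∈ Q, a * x * a⁻¹ ∈ Q := by
    rintro a ha _ ⟨x, hx, rfl⟩
    have := (pCore_normal q M).conj_mem x hx ⟨a, ha⟩
    exact ⟨_, this, rfl⟩
  have hqp : q ≠ p := by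
    intro hqp
    subst hqp
    -- L ⊔ Q normal p-group
    have hsupP : IsPGroup q (L ⊔ Q : Subgroup G) := IsPGroup.to_sup_of_normal_left hLp hQq
    have hsupN : (L ⊔ Q).Normal := by
      rw [← Subgroup.normalizer_eq_top_iff, eq_top_iff, ← hLM]
      apply sup_le
      · exact le_trans le_sup_left Subgroup.le_normalizer
      · apply le_normalizer_of_conj_mem
        intro a ha x hx
        have : (L ⊔ Q).map (MulAut.conj a).toMonoidHom ≤ L ⊔ Q := by
          rw [Subgroup.map_sup]
          apply sup_le_sup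
          · rintro _ ⟨y, hy, rfl⟩
            exact hLn.conj_mem y hy a
          · rintro _ ⟨y, hy, rfl⟩
            exact hQnormM a ha y hy
        exact this ⟨x, hx, rfl⟩
    have hle : L ⊔ Q ≤ L := le_pCore _ hsupN hsupP
    have hQL : Q ≤ L ⊓ M := le_inf (le_trans le_sup_right hle) hQM
    rw [hLMinf] at hQL
    exact hQne' (eq_bot_iff.mpr hQL)
  refine ⟨?_, hqp⟩
  -- fixed points of Q on L
  have hF : L ⊓ Subgroup.centralizer (Q : Set G) = ⊥ ∨ L ⊓ Subgroup.centralizer (Q : Set G) = L := by
    apply hmin _ _ inf_le_left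
    rw [← Subgroup.normalizer_eq_top_iff, eq_top_iff, ← hLM]
    apply sup_le
    · apply le_normalizer_of_conj_mem
      intro a ha x hx
      rw [← hLcomm x hx.1 a ha, mul_inv_cancel_right]
      exact hx
    · apply le_normalizer_of_conj_mem
      intro a ha x hx
      refine Subgroup.mem_inf.mpr ⟨hLn.conj_mem x hx.1 a, ?_⟩
      rw [Subgroup.mem_centralizer_iff]
      intro y hy
      have hy' : a⁻¹ * y * a ∈ Q := by
        have := hQnormM a⁻¹ (M.inv_mem ha) y hy
        simpa using this
      have hc := (Subgroup.mem_centralizer_iff.mp hx.2) _ hy'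
      calc y * (a * x * a⁻¹) = a * ((a⁻¹ * y * a) * x) * a⁻¹ := by group
        _ = a * (x * (a⁻¹ * y * a)) * a⁻¹ := by rw [hc]
        _ = a * x * a⁻¹ * y := by group
  have hFbot : L ⊓ Subgroup.centralizer (Q : Set G) = ⊥ := by
    rcases hF with h | h
    · exact h
    · exfalso
      have hLc : L ≤ Subgroup.centralizer (Q : Set G) := inf_eq_left.mp h
      have hQc : Q ≤ Subgroup.centralizer (L : Set G) := by
        intro y hy
        rw [Subgroup.mem_centralizer_iff]
        intro l hl
        exact ((Subgroup.mem_centralizer_iff.mp (hLc hl)) y hy).symm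
      rw [hcent] at hQc
      have hQL : Q ≤ L ⊓ M := le_inf hQc hQM
      rw [hLMinf] at hQL
      exact hQne' (eq_bot_iff.mpr hQL)
  have := card_modEq_of_conj q Q L hQq (by
    intro l hl hfix
    have : l ∈ L ⊓ Subgroup.centralizer (Q : Set G) := by
      refine Subgroup.mem_inf.mpr ⟨hl, ?_⟩
      rw [Subgroup.mem_centralizer_iff]
      intro h hh
      have := hfix h hh
      calc h * l = (h * l * h⁻¹) * h := by group
        _ = l * h := by rw [this]
    rw [hFbot, Subgroup.mem_bot] at this
    exact this)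
  exact this

end Cfsg.Agent.S0587
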