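import Cfsg.Statements.S0550
import Mathlib
import Cfsg.Agent.S0587

set_option autoImplicit false
open Cfsg

namespace Cfsg.Agent.S0550

open Cfsg.Agent.S0587
open scoped Pointwise

variable {G : Type*} [Group G]

theorem exists_mul_of_sup_eq_top (B U : Subgroup G) [B.Normal] (h : B ⊔ U = ⊤) (x : G) :
    ∃ b ∈ B, ∃ u ∈ U, b * u = x := by
  have hx : x ∈ ((B ⊔ U : Subgroup G) : Set G) := by rw [h]; trivial
  rw [Subgroup.normal_mul] at hx
  obtain ⟨b, hb, u, hu, rfl⟩ := Set.mem_mul.mp hx
  exact ⟨b, hb, u, hu, rfl⟩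

/-- The centralizer of `A` is `B` -/
theorem centralizer_eq (U : Subgroup G) (hcore : U.normalCore = ⊥) (A B : Subgroup G) [A.Normal]
    [B.Normal] (hAU : A ⊔ U = ⊤) (hBU : B ⊔ U = ⊤)
    (hcomm : ∀ a ∈ A, ∀ b ∈ B, a * b = b * a) : Subgroup.centralizer (A : Set G) = B := by
  have hX : Subgroup.centralizer (A : Set G) ⊓ U = ⊥ := by
    apply eq_bot_of_normalized U hcore A hAU _ inf_le_right
    · intro a ha x hx
      refine ⟨?_, U.mul_mem (U.mul_mem ha hx.2) (U.inv_mem ha)⟩
      exact (inferInstance : (Subgroup.centralizer (A : Set G)).Normal).conj_mem x hx.1 a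
    · intro a ha x hx
      have hc : a * x = x * a := (Subgroup.mem_centralizer_iff.mp hx.1) a ha
      rw [hc, mul_inv_cancel_right]
      exact hx
  apply le_antisymm
  · intro c hc
    obtain ⟨b, hb, u, hu, rfl⟩ := exists_mul_of_sup_eq_top B U hBU c
    have hbC : b ∈ Subgroup.centralizer (A : Set G) := by
      rw [Subgroup.mem_centralizer_iff]
      intro a ha
      exact hcomm a ha b hb
    have huC : u ∈ Subgroup.centralizer (A : Set G) ⊓ U := by
      refine Subgroup.mem_inf.mpr ⟨?_, hu⟩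
      have : u = b⁻¹ * (b * u) := by group
      rw [this]
      exact Subgroup.mul_mem _ (Subgroup.inv_mem _ hbC) hc
    rw [hX, Subgroup.mem_bot] at huC
    rw [huC, mul_one]
    exact hb
  · intro b hb
    rw [Subgroup.mem_centralizer_iff]
    intro a ha
    exact hcomm a ha b hb

/-- `A ≃* (A ⊔ B) ⊓ U` when `A ⊓ B = ⊥` and `U` complements `B` -/
theorem nonempty_equiv (U A B : Subgroup G) [A.Normal] [B.Normal] (hAB : A ⊓ B = ⊥)
    (hBU : B ⊔ U = ⊤) (hBUinf : B ⊓ U = ⊥) : Nonempty (A ≃* ↥((A ⊔ B) ⊓ U)) := by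
  set D := (A ⊔ B) ⊓ U with hD
  let f : A →* G ⧸ B := (QuotientGroup.mk' B).comp A.subtype
  let g : D →* G ⧸ B := (QuotientGroup.mk' B).comp D.subtype
  have hf : Function.Injective f := by
    rw [injective_iff_map_eq_one]
    intro a ha
    have h1 : (a : G) ∈ B := by
      rw [← QuotientGroup.eq_one_iff]
      exact ha
    have h2 : (a : G) ∈ A ⊓ B := ⟨a.2, h1⟩
    rw [hAB, Subgroup.mem_bot] at h2
    exact Subtype.ext h2
  have hg : Function.Injective g := by
    rw [injective_iff_map_eq_one]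
    intro d hd
    have h1 : (d : G) ∈ B := by
      rw [← QuotientGroup.eq_one_iff]
      exact hd
    have h2 : (d : G) ∈ B ⊓ U := ⟨h1, d.2.2⟩
    rw [hBUinf, Subgroup.mem_bot] at h2
    exact Subtype.ext h2
  have hDB : D ⊔ B = A ⊔ B := by
    apply le_antisymm (sup_le inf_le_left le_sup_right)
    intro x hx
    obtain ⟨b, hb, u, hu, rfl⟩ := exists_mul_of_sup_eq_top B U hBU x
    have huD : u ∈ D := by
      refine Subgroup.mem_inf.mpr ⟨?_, hu⟩
      have : u = b⁻¹ * (b * u) := by group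
      rw [this]
      exact Subgroup.mul_mem _ (Subgroup.inv_mem _ (Subgroup.mem_sup_right hb)) hx
    exact Subgroup.mul_mem _ (Subgroup.mem_sup_right hb) (Subgroup.mem_sup_left huD)
  have hBmap : B.map (QuotientGroup.mk' B) = ⊥ := by
    rw [Subgroup.map_eq_bot_iff, QuotientGroup.ker_mk']
  have hrange : f.range = g.range := by
    have h1 : f.range = A.map (QuotientGroup.mk' B) := by
      rw [MonoidHom.range_comp, Subgroup.range_subtype]
    have h2 : g.range = D.map (QuotientGroup.mk' B) := by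
      rw [MonoidHom.range_comp, Subgroup.range_subtype]
    have h3 : A.map (QuotientGroup.mk' B) = (A ⊔ B).map (QuotientGroup.mk' B) := by
      rw [Subgroup.map_sup, hBmap, sup_bot_eq]
    have h4 : D.map (QuotientGroup.mk' B) = (D ⊔ B).map (QuotientGroup.mk' B) := by
      rw [Subgroup.map_sup, hBmap, sup_bot_eq]
    rw [h1, h2, h3, h4, hDB]
  exact ⟨(MonoidHom.ofInjective hf).trans
    ((MulEquiv.subgroupCongr hrange).trans (MonoidHom.ofInjective hg).symm)⟩

theorem result {G : Type*} [Group G] [Finite G] (U : Subgroup G) (hU : IsCoatom U) (hcore : U.normalCore = ⊥) (A B : Subgroup G) [A.Normal] [B.Normal] (hA : A ≠ ⊥) (hB : B ≠ ⊥) (hAmin : ∀ K : Subgroup G, K.Normal → K ≤ A → K = ⊥ ∨ K = A) (hBmin : ∀ K : Subgroup G, K.Normal → K ≤ B → K = ⊥ ∨ K = B) (hAB : A ≠ B) : Subgroup.centralizer (B : Set G) = A ∧ Subgroup.centralizer (A : Set G) = B ∧ Subgroup.IsComplement' A U ∧ Subgroup.IsComplement' B U ∧ ¬ IsMulCommutative A ∧ Nonempty (A ≃* B) ∧ Nonempty (A ≃* ↥((A ⊔ B) ⊓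 U)) := by
  -- A ⊓ B = ⊥
  have hinf : A ⊓ B = ⊥ := by
    rcases hAmin (A ⊓ B) inferInstance inf_le_left with h | h
    · exact h
    · exfalso
      have hAB' : A ≤ B := inf_eq_left.mp h
      rcases hBmin A inferInstance hAB' with h' | h'
      · exact hA h'
      · exact hAB h'
  have hcomm : ∀ a ∈ A, ∀ b ∈ B, a * b = b * a := fun a ha b hb =>
    (Subgroup.commute_of_normal_of_disjoint A B inferInstance inferInstance
      (disjoint_iff.mpr hinf) a b ha hb).eq
  have hcomm' : ∀ b ∈ B, ∀ a ∈ A, b * a = a * b := fun b hb a ha => (hcomm a ha b hb).symm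
  have hAU : A ⊔ U = ⊤ := sup_eq_top_of_normal U hU hcore A hA
  have hBU : B ⊔ U = ⊤ := sup_eq_top_of_normal U hU hcore B hB
  have hCA : Subgroup.centralizer (A : Set G) = B := centralizer_eq U hcore A B hAU hBU hcomm
  have hCB : Subgroup.centralizer (B : Set G) = A := centralizer_eq U hcore B A hBU hAU hcomm'
  have hAUinf : A ⊓ U = ⊥ := by
    have hX : Subgroup.centralizer (B : Set G) ⊓ U = ⊥ := by
      apply eq_bot_of_normalized U hcore B hBU _ inf_le_right
      · intro a ha x hx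
        refine ⟨?_, U.mul_mem (U.mul_mem ha hx.2) (U.inv_mem ha)⟩
        exact (inferInstance : (Subgroup.centralizer (B : Set G)).Normal).conj_mem x hx.1 a
      · intro a ha x hx
        have hc : a * x = x * a := (Subgroup.mem_centralizer_iff.mp hx.1) a ha
        rw [hc, mul_inv_cancel_right]
        exact hx
    rw [hCB] at hX
    exact hX
  have hBUinf : B ⊓ U = ⊥ := by
    have hX : Subgroup.centralizer (A : Set G) ⊓ U = ⊥ := by
      apply eq_bot_of_normalized U hcore A hAU _ inf_le_right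
      · intro a ha x hx
        refine ⟨?_, U.mul_mem (U.mul_mem ha hx.2) (U.inv_mem ha)⟩
        exact (inferInstance : (Subgroup.centralizer (A : Set G)).Normal).conj_mem x hx.1 a
      · intro a ha x hx
        have hc : a * x = x * a := (Subgroup.mem_centralizer_iff.mp hx.1) a ha
        rw [hc, mul_inv_cancel_right]
        exact hx
    rw [hCA] at hX
    exact hX
  have hcA : Subgroup.IsComplement' A U := by
    apply Subgroup.isComplement'_of_disjoint_and_mul_eq_univ (disjoint_iff.mpr hAUinf)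
    rw [← Subgroup.normal_mul, hAU]
    rfl
  have hcB : Subgroup.IsComplement' B U := by
    apply Subgroup.isComplement'_of_disjoint_and_mul_eq_univ (disjoint_iff.mpr hBUinf)
    rw [← Subgroup.normal_mul, hBU]
    rfl
  have hnc : ¬ IsMulCommutative A := by
    intro hc
    apply hA
    rw [eq_bot_iff, ← hinf]
    intro a ha
    refine Subgroup.mem_inf.mpr ⟨ha, ?_⟩
    rw [← hCA, Subgroup.mem_centralizer_iff]
    intro a' ha'
    have := hc.is_comm.comm (⟨a', ha'⟩ : A) ⟨a, ha⟩
    exact congrArg Subtype.val this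
  obtain ⟨e1⟩ := nonempty_equiv U A B hinf hBU hBUinf
  obtain ⟨e2⟩ := nonempty_equiv U B A (by rw [inf_comm]; exact hinf) hAU hAUinf
  have hDD : (B ⊔ A) ⊓ U = (A ⊔ B) ⊓ U := by rw [sup_comm]
  exact ⟨hCB, hCA, hcA, hcB, hnc,
    ⟨e1.trans ((MulEquiv.subgroupCongr hDD).symm.trans e2.symm)⟩, ⟨e1⟩⟩

end Cfsg.Agent.S0550
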