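import Cfsg.Statements.S0551
import Mathlib
import Cfsg.Agent.S0587
import Cfsg.Agent.Lib.Lead_SZ
import Cfsg.Agent.Lib.Helper1_Supersolvable3

set_option autoImplicit false
open Cfsg

namespace Cfsg.Agent.S0551

open Cfsg.Agent.Lib.Lead_SZ Cfsg.Agent.Lib.Helper4_PCore
open scoped Pointwise

variable {G : Type*} [Group G]

/-- For a complement `W` of the normal subgroup `L ≤ K`: `|L| * |K ⊓ W| = |K|`. -/
theorem card_inf_complement [Finite G] (L K W : Subgroup G) [L.Normal] (hLK : L ≤ K)
    (hc : Subgroup.IsComplement' L W) : Nat.card L * Nat.card (K ⊓ W : Subgroup G) = Nat.card K := by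
  have hdisj : L ⊓ W = ⊥ := disjoint_iff.mp hc.disjoint
  have hsup : L ⊔ (K ⊓ W) = K := by
    apply le_antisymm (sup_le hLK inf_le_left)
    intro k hk
    obtain ⟨l, hl, w, hw, rfl⟩ := exists_mul_of_complement hc k
    have hwK : w ∈ K := by
      have : w = l⁻¹ * (l * w) := by group
      rw [this]
      exact K.mul_mem (K.inv_mem (hLK hl)) hk
    exact Subgroup.mul_mem _ (Subgroup.mem_sup_left hl) (Subgroup.mem_sup_right ⟨hwK, hw⟩)
  have h1 := Cfsg.Agent.Lib.Helper1_Index.second_iso_abs L (K ⊓ W)
  have h2 : L ⊓ (K ⊓ W) = ⊥ := by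
    rw [eq_bot_iff, ← hdisj]
    exact inf_le_inf_left L inf_le_right
  rw [hsup, h2, Subgroup.relIndex_bot_left] at h1
  have h3 := ((K ⊓ W).subgroupOf K).card_mul_index
  rw [card_subgroupOf_of_le (inf_le_left : K ⊓ W ≤ K)] at h3
  change Nat.card (K ⊓ W : Subgroup G) * (K ⊓ W).relIndex K = Nat.card K at h3
  rw [h1] at h3
  rw [mul_comm]
  exact h3

/-- the normalizer of `K ⊓ U` is `U`. -/
theorem normalizer_inf_eq (U : Subgroup G) (hU : IsCoatom U) (hUc : U.normalCore = ⊥)
    (K : Subgroup G) [K.Normal] (hne : K ⊓ U ≠ ⊥) :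
    Subgroup.normalizer ((K ⊓ U : Subgroup G) : Set G) = U := by
  have h1 : U ≤ Subgroup.normalizer ((K ⊓ U : Subgroup G) : Set G) := by
    apply Cfsg.Agent.S0587.le_normalizer_of_conj_mem
    intro a ha x hx
    exact ⟨‹K.Normal›.conj_mem x hx.1 a, U.mul_mem (U.mul_mem ha hx.2) (U.inv_mem ha)⟩
  by_contra hneq
  have h2 := hU.2 _ (lt_of_le_of_ne h1 (Ne.symm hneq))
  haveI : (K ⊓ U).Normal := Subgroup.normalizer_eq_top_iff.mp h2
  apply hne
  rw [eq_bot_iff, ← hUc]
  exact Subgroup.normal_le_normalCore.mpr inf_le_right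

theorem result {G : Type*} [Group G] [Finite G] [Group.IsSolvable G] (U V : Subgroup G) (hU : IsCoatom U) (hV : IsCoatom V) (hUc : U.normalCore = ⊥) (hVc : V.normalCore = ⊥) : ∃ g : G, MulAut.conj g • U = V := by
  classical
  haveI : Nontrivial G := by
    by_contra h
    rw [not_nontrivial_iff_subsingleton] at h
    exact hU.1 (Subsingleton.elim _ _)
  obtain ⟨p, hp, P, hPn, hPp, hPne⟩ := exists_normal_pgroup G
  haveI := Fact.mk hp
  have hL : Cfsg.pCore p G ≠ ⊥ := by
    intro h
    apply hPne
    rw [eq_bot_iff, ← h]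
    exact le_pCore P hPn hPp
  obtain ⟨-, hcU, hmin, hcent, -⟩ := Cfsg.Agent.S0587.result p hL U hU hUc
  obtain ⟨-, hcV, -, -, -⟩ := Cfsg.Agent.S0587.result p hL V hV hVc
  set L := Cfsg.pCore p G with hLdef
  haveI hLn : L.Normal := pCore_normal p G
  have hLp : IsPGroup p L := pCore_isPGroup
  by_cases hLtop : L = ⊤
  · have hU1 : U = ⊥ := by
      have h1 := hcU.card_mul_card
      rw [hLtop, Subgroup.card_top] at h1
      have hpos : 0 < Nat.card G := Nat.card_pos
      have : Nat.card U = 1 := by
        have : Nat.card G * Nat.card U = Nat.card G * 1 := by rw [h1, mul_one]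
        exact Nat.eq_of_mul_eq_mul_left hpos this
      exact Subgroup.card_eq_one.mp this
    have hV1 : V = ⊥ := by
      have h1 := hcV.card_mul_card
      rw [hLtop, Subgroup.card_top] at h1
      have hpos : 0 < Nat.card G := Nat.card_pos
      have : Nat.card V = 1 := by
        have : Nat.card G * Nat.card V = Nat.card G * 1 := by rw [h1, mul_one]
        exact Nat.eq_of_mul_eq_mul_left hpos this
      exact Subgroup.card_eq_one.mp this
    refine ⟨1, ?_⟩
    rw [hU1, hV1, map_one, one_smul]
  · haveI : Nontrivial (G ⧸ L) := by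
      by_contra h
      rw [not_nontrivial_iff_subsingleton] at h
      exact hLtop (QuotientGroup.subgroup_eq_top_of_subsingleton L h)
    obtain ⟨q, hq, Kb, hKbn, hKbq, hKbne⟩ := exists_normal_pgroup (G ⧸ L)
    haveI := Fact.mk hq
    set K := Kb.comap (QuotientGroup.mk' L) with hKdef
    haveI hKn : K.Normal := hKbn.comap _
    have hLK : L ≤ K := by
      intro x hx
      rw [hKdef, Subgroup.mem_comap, QuotientGroup.mk'_apply, (QuotientGroup.eq_one_iff x).mpr hx]
      exact Kb.one_mem
    have hKcard : Nat.card K = Nat.card Kb * Nat.card L :=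
      Cfsg.Agent.Lib.Helper1_Supersolvable3.card_comap_mk' L Kb
    obtain ⟨a, ha⟩ := (IsPGroup.iff_card).mp hKbq
    obtain ⟨b, hb⟩ := (IsPGroup.iff_card).mp hLp
    have ha1 : 1 < Nat.card Kb := (Subgroup.one_lt_card_iff_ne_bot Kb).mpr hKbne
    have hqp : q ≠ p := by
      intro hqp
      subst hqp
      have hKp : IsPGroup q K := by
        apply IsPGroup.of_card (n := a + b)
        rw [hKcard, ha, hb, pow_add]
      have hKL : K ≤ L := le_pCore K hKn hKp
      have : Nat.card K ≤ Nat.card L := Nat.card_le_card_of_injective _ (Subgroup.inclusion_injective hKL)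
      rw [hKcard] at this
      have hpos : 0 < Nat.card L := Nat.card_pos
      nlinarith
    -- the two Sylow q-subgroups of K
    have hcardU := card_inf_complement L K U hLK hcU
    have hcardV := card_inf_complement L K V hLK hcV
    have hposL : 0 < Nat.card L := Nat.card_pos
    have hQU : Nat.card (K ⊓ U : Subgroup G) = Nat.card Kb := by
      have : Nat.card L * Nat.card (K ⊓ U : Subgroup G) = Nat.card L * Nat.card Kb := by
        rw [hcardU, hKcard, mul_comm]
      exact Nat.eq_of_mul_eq_mul_left hposL this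
    have hQV : Nat.card (K ⊓ V : Subgroup G) = Nat.card Kb := by
      have : Nat.card L * Nat.card (K ⊓ V : Subgroup G) = Nat.card L * Nat.card Kb := by
        rw [hcardV, hKcard, mul_comm]
      exact Nat.eq_of_mul_eq_mul_left hposL this
    have hQUne : K ⊓ U ≠ ⊥ := by
      intro h
      rw [h, Subgroup.card_bot] at hQU
      omega
    have hQVne : K ⊓ V ≠ ⊥ := by
      intro h
      rw [h, Subgroup.card_bot] at hQV
      omega
    -- conjugacy in K
    have hcop : (Nat.card (L.subgroupOf K)).Coprime (Nat.card ((K ⊓ U).subgroupOf K)) := by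
      rw [card_subgroupOf_of_le hLK, card_subgroupOf_of_le inf_le_left, hQU, ha, hb]
      apply Nat.Coprime.pow
      exact (Nat.coprime_primes hp hq).mpr (Ne.symm hqp)
    obtain ⟨k, hk⟩ := sz_conj K (L.subgroupOf K) ((K ⊓ U).subgroupOf K) ((K ⊓ V).subgroupOf K)
      inferInstance hcop
      (by rw [card_subgroupOf_of_le hLK, card_subgroupOf_of_le inf_le_left]; exact hcardU)
      (by rw [card_subgroupOf_of_le hLK, card_subgroupOf_of_le inf_le_left]; exact hcardV)
      (Or.inl inferInstance)
    have hk' : MulAut.conj (k : G) • (K ⊓ U) = K ⊓ V :=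
      conj_of_subgroupOf K k _ _ inf_le_left inf_le_left hk
    have hNU := normalizer_inf_eq U hU hUc K hQUne
    have hNV := normalizer_inf_eq V hV hVc K hQVne
    refine ⟨(k : G), ?_⟩
    ext x
    rw [mem_conj_smul]
    rw [← hNU, ← hNV, conj_smul_le_normalizer, conj_smul_le_normalizer, ← hk', conj_smul_smul]
    constructor
    · intro h
      have := congrArg (fun X => MulAut.conj (k : G) • X) h
      simp only [conj_smul_smul] at this
      rw [← this]
      congr 2
      group
    · intro h
      have := congrArg (fun X => MulAut.conj (k : G)⁻¹ • X) h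
      simp only [conj_smul_smul] at this
      rw [inv_mul_cancel, map_one, one_smul] at this
      rw [← this]
      congr 2
      group

end Cfsg.Agent.S0551
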