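import Cfsg.Statements.S0552
import Mathlib
import Cfsg.Agent.S0044

set_option autoImplicit false
open Cfsg

namespace Cfsg.Agent.S0552

theorem result {G : Type*} [Group G] [Finite G] [Group.IsSolvable G] (σ : G ≃* G) (hσ : ∀ x ∈ Cfsg.fittingSubgroup G, σ x = x) (hne : σ ≠ MulEquiv.refl G) : ¬ (orderOf σ).Coprime (Nat.card G) := by
  intro hcop
  apply hne
  have hFn : (Cfsg.fittingSubgroup G).Normal := Cfsg.Agent.S0044.fitting_normal
  have hCF := Cfsg.Agent.S0044.result (G := G)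
  apply MulEquiv.ext
  intro g
  change σ g = g
  -- k = σ g * g⁻¹ centralizes F
  have hk : σ g * g⁻¹ ∈ Cfsg.fittingSubgroup G := by
    apply hCF
    rw [Subgroup.mem_centralizer_iff]
    intro f hf
    have h1 : g⁻¹ * f * g ∈ Cfsg.fittingSubgroup G := by
      have := hFn.conj_mem f hf g⁻¹
      simpa using this
    have h2 := hσ _ h1
    rw [map_mul, map_mul, map_inv, hσ f hf] at h2
    -- (σ g)⁻¹ * f * σ g = g⁻¹ * f * g
    calc f * (σ g * g⁻¹) = σ g * ((σ g)⁻¹ * f * σ g) * g⁻¹ := by group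
      _ = σ g * (g⁻¹ * f * g) * g⁻¹ := by rw [h2]
      _ = σ g * g⁻¹ * f := by group
  obtain ⟨k, hkdef⟩ : ∃ k, k = σ g * g⁻¹ := ⟨_, rfl⟩
  rw [← hkdef] at hk
  have hσk : σ k = k := hσ k hk
  have hσg : σ g = k * g := by rw [hkdef]; group
  have hpow : ∀ j : ℕ, (σ ^ j) g = k ^ j * g := by
    intro j
    induction j with
    | zero => simp
    | succ j ih =>
      rw [pow_succ', MulAut.mul_apply, ih, map_mul, map_pow, hσk, hσg, pow_succ, mul_assoc]
  have h1 := hpow (orderOf σ)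
  rw [pow_orderOf_eq_one, MulAut.one_apply] at h1
  have hk1 : k ^ orderOf σ = 1 := by
    have := congrArg (· * g⁻¹) h1
    simpa using this.symm
  have hk2 : k ^ Nat.card G = 1 := pow_card_eq_one'
  have hk3 : k ^ Nat.gcd (orderOf σ) (Nat.card G) = 1 := by
    rw [← orderOf_dvd_iff_pow_eq_one] at hk1 hk2 ⊢
    exact Nat.dvd_gcd hk1 hk2
  rw [Nat.Coprime] at hcop
  rw [hcop, pow_one] at hk3
  rw [hσg, hk3, one_mul]

end Cfsg.Agent.S0552
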