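import Cfsg.Statements.S0553
import Mathlib
import Cfsg.Agent.Lib.Lead_SZ
import Cfsg.Agent.Lib.Helper1_Index
import Cfsg.Agent.Lib.Helper1_Supersolvable3

set_option autoImplicit false
open Cfsg

namespace Cfsg.Agent.S0553

open Cfsg.Agent.Lib.Lead_SZ

universe u

theorem isCoatom_comap {G G' : Type*} [Group G] [Group G'] (f : G →* G')
    (hf : Function.Surjective f) (M : Subgroup G') (hM : IsCoatom M) : IsCoatom (M.comap f) := by
  constructor
  · intro h
    apply hM.1
    rw [← Subgroup.map_comap_eq_self_of_surjective hf M, h, Subgroup.map_top_of_surjective f hf]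
  · intro X hX
    have hker : f.ker ≤ X := le_trans (Subgroup.ker_le_comap f M) hX.le
    have h1 : M ≤ X.map f := by
      rw [← Subgroup.map_comap_eq_self_of_surjective hf M]
      exact Subgroup.map_mono hX.le
    have h2 : M ≠ X.map f := by
      intro h
      apply hX.ne
      apply le_antisymm hX.le
      rw [h, Subgroup.comap_map_eq_self hker]
    have h3 := hM.2 _ (lt_of_le_of_ne h1 h2)
    rw [← Subgroup.comap_map_eq_self hker, h3, Subgroup.comap_top]

theorem main (n : ℕ) : ∀ (G : Type u) [Group G] [Finite G] [Group.IsSolvable G] [Nontrivial G],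
    Nat.card G = n →
    (∀ M : Subgroup G, IsCoatom M → (Nat.card M).Coprime M.index) →
    ∃ p : ℕ, p.Prime ∧ p ∣ Nat.card G ∧ ∀ P : Sylow p G, (P : Subgroup G).Normal := by
  induction n using Nat.strong_induction_on with
  | _ n ih =>
  intro G _ _ _ _ hn h
  obtain ⟨p, hp, N, hNn, hNp, hNne⟩ := exists_normal_pgroup G
  haveI := Fact.mk hp
  obtain ⟨b, hb⟩ := (IsPGroup.iff_card).mp hNp
  have hpG : p ∣ Nat.card G := by
    have h1 : p ∣ Nat.card N := by
      rcases hNp.card_eq_or_dvd with h | h
      · exact absurd (Subgroup.card_eq_one.mp h) hNne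
      · exact h
    exact h1.trans (Subgroup.card_subgroup_dvd_card N)
  by_cases hall : ∀ M : Subgroup G, IsCoatom M → N ≤ M
  · -- N ≤ Φ(G)
    have hNΦ : N ≤ frattini G := by
      unfold frattini Order.radical
      exact le_iInf₂ (fun M hM => hall M hM)
    by_cases hNtop : N = ⊤
    · refine ⟨p, hp, hpG, fun P => ?_⟩
      have : (P : Subgroup G) = ⊤ := by
        rw [eq_top_iff, ← hNtop]
        exact hNp.le_sylow_of_normal P
      rw [this]
      infer_instance
    · haveI : Nontrivial (G ⧸ N) := by
        by_contra h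
        rw [not_nontrivial_iff_subsingleton] at h
        exact hNtop (QuotientGroup.subgroup_eq_top_of_subsingleton N h)
      have hsurj := QuotientGroup.mk'_surjective N
      have hlt : Nat.card (G ⧸ N) < n := by
        rw [← hn]
        have h1 := Subgroup.card_eq_card_quotient_mul_card_subgroup N
        have h2 : 0 < Nat.card (G ⧸ N) := Nat.card_pos
        have h3 : 1 < Nat.card N := (Subgroup.one_lt_card_iff_ne_bot N).mpr hNne
        nlinarith
      have hQ : ∀ M : Subgroup (G ⧸ N), IsCoatom M → (Nat.card M).Coprime M.index := by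
        intro M hM
        have hco := isCoatom_comap (QuotientGroup.mk' N) hsurj M hM
        have h1 := h _ hco
        rw [Subgroup.index_comap_of_surjective M hsurj,
          Cfsg.Agent.Lib.Helper1_Supersolvable3.card_comap_mk'] at h1
        exact Nat.Coprime.coprime_dvd_left (Dvd.intro _ rfl) h1
      obtain ⟨q, hq, hqd, hqn⟩ := ih _ hlt (G ⧸ N) rfl hQ
      haveI := Fact.mk hq
      refine ⟨q, hq, ?_, fun S => ?_⟩
      · rw [Subgroup.card_eq_card_quotient_mul_card_subgroup N]
        exact Dvd.dvd.mul_right hqd _
      · have hSbar : ((S.mapSurjective hsurj : Sylow q (G ⧸ N)) : Subgroup (G ⧸ N)).Normal :=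
          hqn _
        rw [Sylow.coe_mapSurjective] at hSbar
        have hQn : ((S : Subgroup G) ⊔ N).Normal := by
          have := hSbar.comap (QuotientGroup.mk' N)
          rw [Subgroup.comap_map_eq, QuotientGroup.ker_mk'] at this
          exact this
        have h1 := Sylow.normalizer_sup_eq_top' (N := (S : Subgroup G) ⊔ N) S le_sup_left
        have h2 : Subgroup.normalizer ((S : Subgroup G) : Set G) ⊔ frattini G = ⊤ := by
          rw [eq_top_iff, ← h1]
          apply sup_le le_sup_left
          apply sup_le
          · exact le_trans Subgroup.le_normalizer le_sup_left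
          · exact le_trans hNΦ le_sup_right
        have h3 := frattini_nongenerating h2
        exact Subgroup.normalizer_eq_top_iff.mp h3
  · -- some maximal subgroup does not contain N: N is a normal Sylow subgroup
    push Not at hall
    obtain ⟨M, hM, hNM⟩ := hall
    have hsup : N ⊔ M = ⊤ := by
      apply hM.2
      apply lt_of_le_of_ne le_sup_right
      intro h
      apply hNM
      rw [h]
      exact le_sup_left
    have h1 := Cfsg.Agent.Lib.Helper1_Index.second_iso_abs N M
    rw [hsup, Subgroup.relIndex_top_right] at h1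
    have h2 : M.index ∣ Nat.card N := by
      rw [h1]
      exact Subgroup.relIndex_dvd_card _ _
    rw [hb] at h2
    obtain ⟨c, hcb, hc⟩ := (Nat.dvd_prime_pow hp).mp h2
    have hc0 : c ≠ 0 := by
      rintro rfl
      rw [pow_zero, Subgroup.index_eq_one] at hc
      exact hM.1 hc
    have hcop := h M hM
    rw [hc] at hcop
    have hpM : ¬ p ∣ Nat.card M := by
      intro hd
      have : p ∣ Nat.gcd (Nat.card M) (p ^ c) := Nat.dvd_gcd hd (dvd_pow_self p hc0)
      rw [hcop] at this
      exact hp.one_lt.ne' (Nat.dvd_one.mp this)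
    have hGcard : Nat.card M * p ^ c = Nat.card G := by rw [← hc]; exact M.card_mul_index
    -- b ≤ c
    have hbc : b ≤ c := by
      have h3 : p ^ b ∣ Nat.card M * p ^ c := by
        rw [hGcard, ← hb]
        exact Subgroup.card_subgroup_dvd_card N
      have h4 : Nat.Coprime (p ^ b) (Nat.card M) :=
        Nat.Coprime.pow_left b ((Nat.Prime.coprime_iff_not_dvd hp).mpr hpM)
      have h5 : p ^ b ∣ p ^ c := h4.dvd_of_dvd_mul_left h3
      exact (Nat.pow_dvd_pow_iff_le_right hp.one_lt).mp h5
    have hbeq : b = c := le_antisymm hbc hcb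
    have hNidx : N.index = Nat.card M := by
      have h6 := N.card_mul_index
      rw [hb, hbeq, ← hGcard, mul_comm] at h6
      exact Nat.eq_of_mul_eq_mul_right (pow_pos hp.pos c) h6
    refine ⟨p, hp, hpG, fun P => ?_⟩
    have hNP : N ≤ P := hNp.le_sylow_of_normal P
    have hmax := (hNp.toSylow (by rw [hNidx]; exact hpM)).is_maximal' P.isPGroup' hNP
    have : (P : Subgroup G) = N := hmax
    rw [this]
    exact hNn

theorem result {G : Type*} [Group G] [Finite G] [Group.IsSolvable G] [Nontrivial G] (h : ∀ M : Subgroup G, IsCoatom M → (Nat.card M).Coprime M.index) : ∃ p : ℕ, p.Prime ∧ p ∣ Nat.card G ∧ ∀ P : Sylow p G, (P : Subgroup G).Normal :=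
  main _ G rfl h

end Cfsg.Agent.S0553
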