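import Cfsg.Statements.S0554
import Mathlib
import Cfsg.Agent.Lib.Lead_SZ

set_option autoImplicit false
open Cfsg

namespace Cfsg.Agent.S0554

universe u

/-- Absorb a factor from a normal subgroup into the `j`-th factor of an ordered product. -/
theorem absorb {G : Type*} [Group G] (N : Subgroup G) [N.Normal] :
    ∀ (t : ℕ) (s : Fin t → G) (j : Fin t) (m : G), m ∈ N →
      ∃ m' ∈ N, (List.ofFn s).prod * m = (List.ofFn (Function.update s j (s j * m'))).prod := by
  intro t
  induction t with
  | zero => intro s j; exact j.elim0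
  | succ t ih =>
    intro s j m hm
    refine Fin.cases ?_ (fun j' => ?_) j
    · refine ⟨(List.ofFn fun i : Fin t => s i.succ).prod * m *
        ((List.ofFn fun i : Fin t => s i.succ).prod)⁻¹, ‹N.Normal›.conj_mem m hm _, ?_⟩
      rw [List.ofFn_succ, List.ofFn_succ, List.prod_cons, List.prod_cons, Function.update_self]
      have : (fun i : Fin t => Function.update s 0 (s 0 * ((List.ofFn fun i : Fin t => s i.succ).prod
          * m * ((List.ofFn fun i : Fin t => s i.succ).prod)⁻¹)) i.succ) = fun i => s i.succ := by
        funext i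
        rw [Function.update_of_ne (Fin.succ_ne_zero i)]
      rw [this]
      group
    · obtain ⟨m', hm', h⟩ := ih (fun i => s i.succ) j' m hm
      refine ⟨m', hm', ?_⟩
      rw [List.ofFn_succ, List.ofFn_succ, List.prod_cons, List.prod_cons, mul_assoc, h,
        Function.update_of_ne (Fin.succ_ne_zero j').symm]
      congr 3
      funext i
      by_cases hi : i = j'
      · subst hi
        rw [Function.update_self, Function.update_self]
      · rw [Function.update_of_ne hi, Function.update_of_ne (fun h => hi (Fin.succ_injective _ h))]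

theorem aux (n : ℕ) : ∀ (G : Type u) [Group G] [Finite G] [Group.IsSolvable G], Nat.card G = n →
    ∀ (t : ℕ) (p : Fin t → ℕ) (hp : ∀ i, (p i).Prime)
      (_hall : ∀ q : ℕ, q.Prime → q ∣ Nat.card G → ∃ i, p i = q)
      (S : (i : Fin t) → Sylow (p i) G), ∀ g : G, ∃ s : (i : Fin t) → G,
        (∀ i, s i ∈ (S i : Subgroup G)) ∧ g = (List.ofFn s).prod := by
  induction n using Nat.strong_induction_on with
  | _ n ih =>
  intro G _ _ _ hn t p hp hall S g
  rcases subsingleton_or_nontrivial G with hs | hnt
  · refine ⟨fun _ => 1, fun i => Subgroup.one_mem _, ?_⟩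
    exact Subsingleton.elim _ _
  · obtain ⟨q, hq, N, hNn, hNq, hNne⟩ := Cfsg.Agent.Lib.Lead_SZ.exists_normal_pgroup G
    have hqG : q ∣ Nat.card G := by
      have h1 : q ∣ Nat.card N := by
        haveI := Fact.mk hq
        rcases hNq.card_eq_or_dvd with h | h
        · exfalso
          exact hNne ((Subgroup.card_eq_one).mp h)
        · exact h
      exact h1.trans (Subgroup.card_subgroup_dvd_card N)
    obtain ⟨j, rfl⟩ := hall q hq hqG
    haveI : ∀ i, Fact (p i).Prime := fun i => ⟨hp i⟩
    have hNS : N ≤ S j := hNq.le_sylow_of_normal (S j)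
    have hsurj := QuotientGroup.mk'_surjective N
    have hlt : Nat.card (G ⧸ N) < n := by
      rw [← hn]
      have h1 := Subgroup.card_eq_card_quotient_mul_card_subgroup N
      have h2 : 0 < Nat.card (G ⧸ N) := Nat.card_pos
      have h3 : 1 < Nat.card N := (Subgroup.one_lt_card_iff_ne_bot N).mpr hNne
      nlinarith
    have hallQ : ∀ q : ℕ, q.Prime → q ∣ Nat.card (G ⧸ N) → ∃ i, p i = q := by
      intro q' hq' hd
      apply hall q' hq'
      rw [Subgroup.card_eq_card_quotient_mul_card_subgroup N]
      exact Dvd.dvd.mul_right hd _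
    obtain ⟨sb, hsb, hprod⟩ := ih _ hlt (G ⧸ N) rfl t p hp hallQ
      (fun i => (S i).mapSurjective hsurj) (QuotientGroup.mk' N g)
    have hlift : ∀ i, ∃ x ∈ (S i : Subgroup G), QuotientGroup.mk' N x = sb i := by
      intro i
      have := hsb i
      rw [Sylow.coe_mapSurjective] at this
      exact this
    choose s hsS hs using hlift
    have hm : ((List.ofFn s).prod)⁻¹ * g ∈ N := by
      rw [← QuotientGroup.eq_one_iff, ← QuotientGroup.mk'_apply, map_mul, map_inv, hprod,
        map_list_prod, List.map_ofFn]
      have : (⇑(QuotientGroup.mk' N) ∘ s) = sb := funext hs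
      rw [this, inv_mul_cancel]
    obtain ⟨m', hm', heq⟩ := absorb N t s j _ hm
    refine ⟨Function.update s j (s j * m'), ?_, ?_⟩
    · intro i
      by_cases hi : i = j
      · subst hi
        rw [Function.update_self]
        exact Subgroup.mul_mem _ (hsS i) (hNS hm')
      · rw [Function.update_of_ne hi]
        exact hsS i
    · rw [← heq, mul_inv_cancel_left]

theorem result {G : Type*} [Group G] [Finite G] [Group.IsSolvable G] (t : ℕ) (p : Fin t → ℕ) (hp : ∀ i, (p i).Prime) (hinj : Function.Injective p) (hall : ∀ q : ℕ, q.Prime → q ∣ Nat.card G → ∃ i, p i = q) (S : (i : Fin t) → Sylow (p i) G) : ∀ g : G, ∃ s : (i : Fin t) → G, (∀ i, s i ∈ (S i : Subgroup G)) ∧ g = (List.ofFn s).prod :=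
  aux _ G rfl t p hp hall S

end Cfsg.Agent.S0554
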