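import Cfsg.Statements.S0556
import Mathlib
import Cfsg.Agent.Lib.Lead_SZ
import Cfsg.Agent.Lib.Lead_Frob
import Cfsg.Agent.Lib.Lead_Coprime
import Cfsg.Agent.S0035

set_option autoImplicit false
open Cfsg

namespace Cfsg.Agent.S0556

open Cfsg.Agent.Lib.Lead_SZ Cfsg.Agent.Lib.Lead_Frob Cfsg.Agent.Lib.Lead_Coprime

open scoped commutatorElement Pointwise

theorem comm_bot {G : Type*} [Group G] (A : Subgroup G)
    (h : ∀ a ∈ A, ∀ b ∈ A, a * b = b * a) : ⁅A, A⁆ = ⊥ := by
  rw [Subgroup.commutator_eq_bot_iff_le_centralizer]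
  intro a ha
  rw [Subgroup.mem_centralizer_iff]
  intro b hb
  exact h b hb a ha

/-- normal abelian coatom: second derived subgroup trivial -/
theorem d2_of_normal {G : Type*} [Group G] (A : Subgroup G) (hA : IsCoatom A)
    (hAc : ∀ a ∈ A, ∀ b ∈ A, a * b = b * a) (hn : A.Normal) : derivedSeries G 2 = ⊥ := by
  haveI := hn
  have hcomm : commutator G ≤ A := by
    rw [commutator_def, Subgroup.commutator_le]
    intro x _ y _
    by_cases hall : ∀ g : G, g ∈ A
    · exact hall _
    push_neg at hall
    obtain ⟨g, hg⟩ := hall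
    have hsup : A ⊔ Subgroup.zpowers g = ⊤ :=
      hA.2 _ (lt_of_le_of_ne le_sup_left
        (fun h => hg (h ▸ Subgroup.mem_sup_right (Subgroup.mem_zpowers g))))
    have hrep : ∀ u : G, ∃ k : ℤ, (QuotientGroup.mk u : G ⧸ A) = (QuotientGroup.mk g) ^ k := by
      intro u
      have hu : u ∈ A ⊔ Subgroup.zpowers g := hsup ▸ Subgroup.mem_top u
      rw [← SetLike.mem_coe, Subgroup.normal_mul] at hu
      obtain ⟨a, ha, w, hw, rfl⟩ := Set.mem_mul.mp hu
      obtain ⟨k, rfl⟩ := Subgroup.mem_zpowers_iff.mp hw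
      refine ⟨k, ?_⟩
      rw [QuotientGroup.mk_mul, (QuotientGroup.eq_one_iff a).mpr ha, one_mul, QuotientGroup.mk_zpow]
    obtain ⟨k, hk⟩ := hrep x
    obtain ⟨l, hl⟩ := hrep y
    rw [← QuotientGroup.eq_one_iff (N := A), commutatorElement_def]
    simp only [QuotientGroup.mk_mul, QuotientGroup.mk_inv, hk, hl]
    rw [← zpow_neg, ← zpow_neg, ← zpow_add, ← zpow_add, ← zpow_add]
    have : k + l + -k + -l = 0 := by ring
    rw [this, zpow_zero]
  have h1 : derivedSeries G 1 ≤ A := by
    rw [derivedSeries_one]; exact hcomm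
  rw [derivedSeries_succ, eq_bot_iff, ← comm_bot A hAc]
  exact Subgroup.commutator_mono h1 h1

/-- commutator lies in a normal subgroup with commutative complement -/
theorem commutator_le_of_complement {G : Type*} [Group G] (N H : Subgroup G) [N.Normal]
    (hc : Subgroup.IsComplement' N H) (hH : ∀ a ∈ H, ∀ b ∈ H, a * b = b * a) :
    commutator G ≤ N := by
  rw [commutator_def, Subgroup.commutator_le]
  intro x _ y _
  obtain ⟨n, hn, a, ha, rfl⟩ := exists_mul_of_complement hc x
  obtain ⟨n', hn', a', ha', rfl⟩ := exists_mul_of_complement hc y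
  rw [← QuotientGroup.eq_one_iff (N := N), commutatorElement_def]
  simp only [QuotientGroup.mk_mul, QuotientGroup.mk_inv, (QuotientGroup.eq_one_iff n).mpr hn,
    (QuotientGroup.eq_one_iff n').mpr hn', one_mul]
  rw [← QuotientGroup.mk_inv, ← QuotientGroup.mk_inv, ← QuotientGroup.mk_mul,
    ← QuotientGroup.mk_mul, ← QuotientGroup.mk_mul, hH a ha a' ha']
  have : a' * a * a⁻¹ * a'⁻¹ = 1 := by group
  rw [this]; rfl


/-- If a finite group has a maximal subgroup that is abelian, then the third term of its derived series is trivial (so the group is solvable of derived length at most three). -/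
theorem result {G : Type*} [Group G] [Finite G] (A : Subgroup G) (hA : IsCoatom A) [IsMulCommutative A] : derivedSeries G 3 = ⊥ := by
  classical
  have hAcomm : ∀ a ∈ A, ∀ b ∈ A, a * b = b * a := fun a ha b hb =>
    congrArg Subtype.val (mul_comm' (⟨a, ha⟩ : A) ⟨b, hb⟩)
  by_cases hn : A.Normal
  · have h2 := d2_of_normal A hA hAcomm hn
    rw [derivedSeries_succ, h2]
    exact Subgroup.commutator_bot_left _
  -- non-normal case
  set Z := Subgroup.center G with hZ
  have hZA : Z ≤ A := by
    by_contra hZA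
    apply hn
    have hsup : A ⊔ Z = ⊤ :=
      hA.2 _ (lt_of_le_of_ne le_sup_left (fun h => hZA (h ▸ le_sup_right)))
    constructor
    intro x hx g
    have hg : g ∈ A ⊔ Z := hsup ▸ Subgroup.mem_top g
    rw [← SetLike.mem_coe, Subgroup.mul_normal] at hg
    obtain ⟨a, ha, z, hz, rfl⟩ := Set.mem_mul.mp hg
    have hzx : z * x = x * z := (Subgroup.mem_center_iff.mp hz x).symm
    have e : a * z * x * (a * z)⁻¹ = a * x * a⁻¹ := by
      calc a * z * x * (a * z)⁻¹ = a * (z * x) * z⁻¹ * a⁻¹ := by group
        _ = a * (x * z) * z⁻¹ * a⁻¹ := by rw [hzx]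
        _ = a * x * a⁻¹ := by group
    rw [e]
    exact A.mul_mem (A.mul_mem ha hx) (A.inv_mem ha)
  have hnormA : Subgroup.normalizer (A : Set G) = A := by
    by_contra hne
    have hlt : A < Subgroup.normalizer (A : Set G) :=
      lt_of_le_of_ne Subgroup.le_normalizer (fun h => hne h.symm)
    exact hn (Subgroup.normalizer_eq_top_iff.mp (hA.2 _ hlt))
  have hnorm : ∀ g : G, MulAut.conj g • A ≤ A → g ∈ A := by
    intro g hg
    have heq : MulAut.conj g • A = A := eq_of_le_of_card_eq hg (card_conj_smul g A)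
    have := conj_smul_le_normalizer.mpr heq
    rwa [hnormA] at this
  have hZconj : ∀ g : G, Z ≤ MulAut.conj g • A := by
    intro g z hz
    rw [mem_conj_smul]
    have : g⁻¹ * z * g = z := by
      have := Subgroup.mem_center_iff.mp hz g
      calc g⁻¹ * z * g = g⁻¹ * (z * g) := by group
        _ = g⁻¹ * (g * z) := by rw [this]
        _ = z := by group
    rw [this]; exact hZA hz
  have hint : ∀ g : G, g ∉ A → A ⊓ MulAut.conj g • A ≤ Z := by
    intro g hg x hx
    obtain ⟨hx1, hx2⟩ := Subgroup.mem_inf.mp hx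
    have hsup : A ⊔ MulAut.conj g • A = ⊤ := by
      apply hA.2
      refine lt_of_le_of_ne le_sup_left ?_
      intro h
      apply hg
      apply hnorm g
      calc MulAut.conj g • A ≤ A ⊔ MulAut.conj g • A := le_sup_right
        _ = A := h.symm
    have hcent : A ⊔ MulAut.conj g • A ≤ Subgroup.centralizer ({x} : Set G) := by
      apply sup_le
      · intro a ha
        rw [Subgroup.mem_centralizer_iff]
        intro y hy
        rw [Set.mem_singleton_iff.mp hy]
        exact hAcomm x hx1 a ha
      · intro a ha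
        rw [Subgroup.mem_centralizer_iff]
        intro y hy
        rw [Set.mem_singleton_iff.mp hy]
        rw [mem_conj_smul] at ha hx2
        have := hAcomm _ hx2 _ ha
        have e1 : x * a = g * ((g⁻¹ * x * g) * (g⁻¹ * a * g)) * g⁻¹ := by group
        have e2 : a * x = g * ((g⁻¹ * a * g) * (g⁻¹ * x * g)) * g⁻¹ := by group
        rw [e1, e2, this]
    rw [hsup] at hcent
    rw [hZ, Subgroup.mem_center_iff]
    intro y
    have := Subgroup.mem_centralizer_iff.mp (hcent (Subgroup.mem_top y)) x rfl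
    exact this.symm
  -- the quotient
  set f := QuotientGroup.mk' Z with hf
  have hsurj : Function.Surjective f := QuotientGroup.mk'_surjective Z
  have hker : f.ker = Z := QuotientGroup.ker_mk' Z
  set Ab := A.map f with hAb
  have hAbcomm : ∀ a ∈ Ab, ∀ b ∈ Ab, a * b = b * a := by
    rintro _ ⟨a, ha, rfl⟩ _ ⟨b, hb, rfl⟩
    rw [← map_mul, ← map_mul, hAcomm a ha b hb]
  have hcomap : Ab.comap f = A := by
    rw [hAb, Subgroup.comap_map_eq, hker, sup_eq_left.mpr hZA]
  have hFrob : Cfsg.IsFrobeniusComplement Ab := by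
    refine ⟨?_, ?_, ?_⟩
    · intro hbot
      apply hn
      have hAZ : A ≤ Z := by
        rw [← hker, ← Subgroup.map_eq_bot_iff]; exact hbot
      constructor
      intro x hx g
      have := Subgroup.mem_center_iff.mp (hAZ hx) g
      have e : g * x * g⁻¹ = x := by
        calc g * x * g⁻¹ = (g * x) * g⁻¹ := by group
          _ = (x * g) * g⁻¹ := by rw [this]
          _ = x := by group
      rw [e]; exact hx
    · intro htop
      apply hA.1
      rw [← hcomap, htop, Subgroup.comap_top]
    · intro gb hgb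
      obtain ⟨g, rfl⟩ := hsurj gb
      have hg : g ∉ A := fun h => hgb (Subgroup.mem_map_of_mem f h)
      rw [hAb, ← map_conj_smul, eq_bot_iff]
      rintro _ ⟨⟨a, ha, rfl⟩, ⟨b, hb, hab⟩⟩
      rw [Subgroup.mem_bot]
      have h1 : b⁻¹ * a ∈ Z := by
        rw [← hker, MonoidHom.mem_ker, map_mul, map_inv, hab]; simp
      have h2 : a ∈ MulAut.conj g • A := by
        have : a = b * (b⁻¹ * a) := by group
        rw [this]
        exact Subgroup.mul_mem _ hb (hZconj g h1)
      have h3 : a ∈ Z := hint g hg (Subgroup.mem_inf.mpr ⟨ha, h2⟩)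
      rw [← hker] at h3
      exact h3
  have hAbco : IsCoatom Ab := by
    refine ⟨hFrob.2.1, ?_⟩
    intro B hB
    have h1 : A < B.comap f := by
      rw [← hcomap]
      refine lt_of_le_of_ne (Subgroup.comap_mono hB.le) ?_
      intro h
      have := congrArg (Subgroup.map f) h
      rw [Subgroup.map_comap_eq_self_of_surjective hsurj,
        Subgroup.map_comap_eq_self_of_surjective hsurj] at this
      exact hB.ne this
    have h2 := hA.2 _ h1
    rw [← Subgroup.map_comap_eq_self_of_surjective hsurj B, h2, ← MonoidHom.range_eq_map,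
      MonoidHom.range_eq_top.mpr hsurj]
  obtain ⟨N, -, hNn, hNc⟩ := Cfsg.Agent.S0035.result Ab hFrob
  haveI := hNn
  have hcardN : Nat.card N = Ab.index := hNc.index_eq_card.symm
  have hcop : (Nat.card Ab).Coprime (Nat.card N) := by
    have h1 := index_mod_card hFrob
    rw [hcardN]
    have h2 := Nat.ModEq.gcd_eq (h1 : Nat.ModEq (Nat.card Ab) Ab.index 1)
    rw [Nat.gcd_one_left] at h2
    exact Nat.Coprime.symm h2
  have hNA : N ⊓ Ab = ⊥ := hNc.disjoint.eq_bot
  have hcardG : Nat.card N * Nat.card Ab = Nat.card (G ⧸ Z) := hNc.card_mul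
  have key : ∀ X : Subgroup (G ⧸ Z), X ≤ N → X ≠ ⊥ →
      Ab ≤ Subgroup.normalizer (X : Set (G ⧸ Z)) → X = N := by
    intro X hXN hX hAX
    have hXA : ¬ X ≤ Ab := by
      intro h
      apply hX
      rw [eq_bot_iff, ← hNA]
      exact le_inf hXN h
    have hsup : Ab ⊔ X = ⊤ := by
      apply hAbco.2
      refine lt_of_le_of_ne le_sup_left ?_
      intro h
      apply hXA
      calc X ≤ Ab ⊔ X := le_sup_right
        _ = Ab := h.symm
    have hcopX : (Nat.card Ab).Coprime (Nat.card X) :=
      Nat.Coprime.coprime_dvd_right (Subgroup.card_dvd_of_le hXN) hcop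
    have hc := card_sup_of_normalizer X Ab hAX hcopX
    rw [sup_comm, hsup, Subgroup.card_top, ← hcardG] at hc
    have : Nat.card X = Nat.card N := Nat.eq_of_mul_eq_mul_right Nat.card_pos hc.symm
    exact eq_of_le_of_card_eq hXN this
  have hNcomm : ∀ a ∈ N, ∀ b ∈ N, a * b = b * a := by
    by_cases hN1 : N = ⊥
    · intro a ha b hb
      rw [hN1, Subgroup.mem_bot] at ha hb
      rw [ha, hb]
    have hcard1 : Nat.card N ≠ 1 := fun h => hN1 (Subgroup.card_eq_one.mp h)
    obtain ⟨p, hp, hpdvd⟩ := Nat.exists_prime_and_dvd hcard1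
    haveI : Fact p.Prime := ⟨hp⟩
    have hAbN : Ab ≤ Subgroup.normalizer (N : Set (G ⧸ Z)) := by
      rw [Subgroup.normalizer_eq_top_iff.mpr hNn]; exact le_top
    have hAbsolv : Group.IsSolvable Ab := by
      apply isSolvable_of_comm
      intro u v
      exact Subtype.ext (hAbcomm u u.2 v v.2)
    obtain ⟨P, hP⟩ := exists_invariant_sylow Ab N hAbN hcop (Or.inl hAbsolv) p
    set P' := (P : Subgroup N).map N.subtype with hP'
    have hP'N : P' ≤ N := Subgroup.map_subtype_le _
    have hP'1 : P' ≠ ⊥ := by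
      intro h
      rw [hP', Subgroup.map_eq_bot_iff_of_injective _ N.subtype_injective] at h
      exact P.ne_bot_of_dvd_card hpdvd h
    have hPN := key P' hP'N hP'1 hP
    have hNp : IsPGroup p N := by
      have : IsPGroup p P' := P.isPGroup'.map _
      rw [hPN] at this; exact this
    set C := (Subgroup.center N).map N.subtype with hC
    have hCN : C ≤ N := Subgroup.map_subtype_le _
    have hC1 : C ≠ ⊥ := by
      intro h
      rw [hC, Subgroup.map_eq_bot_iff_of_injective _ N.subtype_injective] at h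
      haveI : Nontrivial N := (Subgroup.nontrivial_iff_ne_bot N).mpr hN1
      have := hNp.center_nontrivial
      exact (Subgroup.nontrivial_iff_ne_bot _).mp this h
    have hCnorm : Ab ≤ Subgroup.normalizer (C : Set (G ⧸ Z)) := by
      have hCn : C.Normal := ConjAct.normal_of_characteristic_of_normal
      rw [Subgroup.normalizer_eq_top_iff.mpr hCn]; exact le_top
    have hCeq := key C hCN hC1 hCnorm
    intro a ha b hb
    rw [← hCeq] at ha hb
    obtain ⟨a', ha', rfl⟩ := ha
    obtain ⟨b', hb', rfl⟩ := hb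
    have := Subgroup.mem_center_iff.mp ha' b'
    rw [← map_mul, ← map_mul, this]
  have hcommN : commutator (G ⧸ Z) ≤ N := commutator_le_of_complement N Ab hNc hAbcomm
  have hd2 : derivedSeries (G ⧸ Z) 2 = ⊥ := by
    have h1 : derivedSeries (G ⧸ Z) 1 ≤ N := by rw [derivedSeries_one]; exact hcommN
    rw [derivedSeries_succ, eq_bot_iff, ← comm_bot N hNcomm]
    exact Subgroup.commutator_mono h1 h1
  have hd2G : derivedSeries G 2 ≤ Z := by
    have := map_derivedSeries_eq hsurj 2
    rw [hd2, Subgroup.map_eq_bot_iff, hker] at this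
    exact this
  have hZcomm : ∀ a ∈ Z, ∀ b ∈ Z, a * b = b * a := by
    intro a _ b hb
    exact Subgroup.mem_center_iff.mp hb a
  rw [derivedSeries_succ, eq_bot_iff, ← comm_bot Z hZcomm]
  exact Subgroup.commutator_mono hd2G hd2G

end Cfsg.Agent.S0556
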