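import Mathlib
import Cfsg.Statements.S0558
import Cfsg.Agent.Lib.Helper7_HallNPC
import Cfsg.Agent.Lib.Helper7_Basic
import Cfsg.Agent.Lib.Helper5_Sylow

set_option autoImplicit false
open Cfsg

namespace Cfsg.Agent.S0558

open Cfsg.Agent.Lib.Helper7_HallNPC Cfsg.Agent.Lib.Helper5_Sylow Subgroup

variable {G : Type*} [Group G] [Finite G]

/-- two Sylow `r`-subgroups of `G` (by order) contained in `K` are conjugate in `K`. -/
theorem sylow_conj_in (r : ℕ) [Fact r.Prime] (K A B : Subgroup G) (hA : A ≤ K) (hB : B ≤ K)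
    (hAc : Nat.card A = r ^ (Nat.card G).factorization r)
    (hBc : Nat.card B = r ^ (Nat.card G).factorization r) :
    ∃ k ∈ K, B.map (MulAut.conj k).toMonoidHom = A := by
  have hAp : IsPGroup r A := IsPGroup.of_card hAc
  have hBp : IsPGroup r B := IsPGroup.of_card hBc
  obtain ⟨k, hk, R, hR, hRK, hAR, hBR⟩ := exists_conj_le_common_pgroup hA hB hAp hBp
  refine ⟨k, hk, ?_⟩
  have hRc : Nat.card R ≤ r ^ (Nat.card G).factorization r := by
    obtain ⟨n, hn⟩ := IsPGroup.iff_card.mp hR
    have h1 : r ^ n ∣ Nat.card G := hn ▸ Subgroup.card_subgroup_dvd_card R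
    have h2 : n ≤ (Nat.card G).factorization r :=
      (Nat.Prime.pow_dvd_iff_le_factorization Fact.out Nat.card_pos.ne').mp h1
    rw [hn]
    exact Nat.pow_le_pow_right (Fact.out : r.Prime).pos h2
  have hAeq : A = R := Subgroup.eq_of_le_of_card_ge hAR (by rw [hAc]; exact hRc)
  rw [hAeq]
  apply Subgroup.eq_of_le_of_card_ge hBR
  rw [card_map_conj, hBc]
  exact hRc

/-- in a finite nilpotent group a `q`-element commutes with every Sylow `r`-subgroup, `r ≠ q`. -/
theorem commute_sylow_of_nilpotent {H : Type*} [Group H] [Finite H] (hH : Group.IsNilpotent H)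
    (q r : ℕ) [Fact q.Prime] [Fact r.Prime] (hqr : q ≠ r) (x : H) (k : ℕ)
    (hx : orderOf x = q ^ k) (R : Sylow r H) (z : H) (hz : z ∈ R) : x * z = z * x := by
  obtain ⟨Q, hQ⟩ := Cfsg.Agent.Lib.Helper7_Basic.pElement_mem_sylow (p := q) x ⟨k, hx⟩
  have hn := ((Group.isNilpotent_of_finite_tfae (G := H)).out 0 3).mp hH
  have hQn : (Q : Subgroup H).Normal := hn q inferInstance Q
  have hRn : (R : Subgroup H).Normal := hn r inferInstance R
  have hd : Disjoint (Q : Subgroup H) (R : Subgroup H) :=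
    IsPGroup.disjoint_of_ne q r hqr _ _ Q.isPGroup' R.isPGroup'
  exact Subgroup.commute_of_normal_of_disjoint _ _ hQn hRn hd x z hQ hz

section main

variable (H : Subgroup G)
  (hnorm : ∀ p : ℕ, p.Prime → p ∣ Nat.card H → ∀ P : Sylow p H,
    Subgroup.normalizer (((P : Subgroup H).map H.subtype : Subgroup G) : Set G) = H)

include hnorm

theorem sylow_normal (p : ℕ) [Fact p.Prime] (P : Sylow p H) : (P : Subgroup H).Normal := by
  by_cases hp : p ∣ Nat.card H
  · have h1 := hnorm p Fact.out hp P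
    constructor
    intro n hn h
    have h2 : (h : G) ∈ normalizer (((P : Subgroup H).map H.subtype : Subgroup G) : Set G) := by
      rw [h1]; exact h.2
    have h3 := (mem_normalizer_iff.mp h2 (n : G)).mp ⟨n, hn, rfl⟩
    obtain ⟨m, hm, hm'⟩ := h3
    have : m = h * n * h⁻¹ := Subtype.ext (by simpa using hm')
    rw [← this]; exact hm
  · have h1 : Nat.card P = 1 := by
      rw [P.card_eq_multiplicity, Nat.factorization_eq_zero_of_not_dvd hp, pow_zero]
    have : (P : Subgroup H) = ⊥ := Subgroup.eq_bot_of_card_eq _ h1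
    rw [this]; infer_instance

theorem nilpotent : Group.IsNilpotent H :=
  ((Group.isNilpotent_of_finite_tfae (G := H)).out 0 3).mpr (fun p hp P => by
    haveI := hp; exact sylow_normal H hnorm p P)

theorem hall : Nat.Coprime (Nat.card H) H.index := by
  apply Nat.coprime_of_dvd
  intro p hp hpH hpi
  haveI : Fact p.Prime := ⟨hp⟩
  let P : Sylow p H := default
  set P₀ : Subgroup G := (P : Subgroup H).map H.subtype with hP₀
  have hP₀p : IsPGroup p P₀ := P.isPGroup'.map _
  obtain ⟨P', hP'⟩ := hP₀p.exists_le_sylow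
  have hne : P₀ ≠ P' := by
    intro heq
    have h1 : p ∣ P₀.index := by rw [hP₀, index_map_subtype]; exact hpi.mul_left _
    rw [heq] at h1
    exact P'.not_dvd_index h1
  have hlt : P₀ < P' := lt_of_le_of_ne hP' hne
  have h2 := lt_inf_normalizer P'.isPGroup' hlt
  rw [hnorm p hp hpH P] at h2
  have hKp : IsPGroup p ((P' : Subgroup G) ⊓ H : Subgroup G) := P'.isPGroup'.to_le inf_le_left
  have h3 : IsPGroup p (((P' : Subgroup G) ⊓ H).subgroupOf H) := hKp.comap_subtype
  have h4 : (P : Subgroup H) ≤ ((P' : Subgroup G) ⊓ H).subgroupOf H := by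
    intro z hz
    rw [mem_subgroupOf]
    exact h2.le ⟨z, hz, rfl⟩
  have h5 := P.is_maximal' h3 h4
  have h6 : ((P' : Subgroup G) ⊓ H) = P₀ := by
    rw [hP₀, ← h5, subgroupOf_map_subtype]
    exact (inf_eq_left.mpr inf_le_right).symm
  exact h2.ne h6.symm

theorem card_sylow_map (r : ℕ) [Fact r.Prime] (hr : r ∣ Nat.card H) (R : Sylow r H) :
    Nat.card ((R : Subgroup H).map H.subtype) = r ^ (Nat.card G).factorization r := by
  have hHall := hall H hnorm
  have hri : ¬ r ∣ H.index := fun h =>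
    (Fact.out : r.Prime).one_lt.ne' (Nat.eq_one_of_dvd_coprimes hHall hr h)
  have hfac : (Nat.card G).factorization r = (Nat.card H).factorization r := by
    rw [← H.card_mul_index, Nat.factorization_mul Nat.card_pos.ne' index_ne_zero_of_finite]
    simp [Nat.factorization_eq_zero_of_not_dvd hri]
  rw [card_map_of_injective (subtype_injective H), Sylow.card_eq_multiplicity, hfac]

theorem control (hnot : ∀ p : ℕ, p.Prime → ∀ P : Sylow p G, (P : Subgroup G) ≠ H)
    (x : G) (hx : x ∈ H) (y : G) (hy : y ∈ H) (hord : ∃ q k : ℕ, q.Prime ∧ orderOf x = q ^ k)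
    (hg : ∃ g : G, g * x * g⁻¹ = y) : ∃ h ∈ H, h * x * h⁻¹ = y := by
  obtain ⟨q, k, hq, hk⟩ := hord
  obtain ⟨g, rfl⟩ := hg
  haveI : Fact q.Prime := ⟨hq⟩
  by_cases hk0 : k = 0
  · subst hk0
    rw [pow_zero, orderOf_eq_one_iff] at hk
    subst hk
    exact ⟨1, H.one_mem, by simp⟩
  have hqH : q ∣ Nat.card H := by
    have h1 : q ∣ orderOf x := by rw [hk]; exact dvd_pow_self q hk0
    have h2 : orderOf x ∣ Nat.card H := by
      have := orderOf_dvd_natCard (⟨x, hx⟩ : H)
      rwa [Subgroup.orderOf_mk] at this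
    exact h1.trans h2
  have hex : ∃ r : ℕ, r.Prime ∧ r ≠ q ∧ r ∣ Nat.card H := by
    by_contra hcon
    push Not at hcon
    have h1 : Nat.card H = q ^ (Nat.card H).primeFactorsList.length :=
      Nat.eq_prime_pow_of_unique_prime_dvd Nat.card_pos.ne' (fun {d} hd hdH => by
        by_contra hne
        exact hcon d hd hne hdH)
    let Q : Sylow q H := default
    have hQtop : (Q : Subgroup H) = ⊤ := by
      refine (Subgroup.card_eq_iff_eq_top (Q : Subgroup H)).mp ?_
      obtain ⟨m, hm⟩ : ∃ m, Nat.card H = q ^ m := ⟨_, h1⟩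
      rw [Q.card_eq_multiplicity, hm, Nat.Prime.factorization_pow hq]; simp
    have hc := card_sylow_map H hnorm q hqH Q
    rw [hQtop, ← MonoidHom.range_eq_map, range_subtype] at hc
    exact hnot q hq (Sylow.ofCard H hc) (Sylow.coe_ofCard H hc)
  obtain ⟨r, hr, hrq, hrH⟩ := hex
  haveI : Fact r.Prime := ⟨hr⟩
  let R : Sylow r H := default
  set R₀ : Subgroup G := (R : Subgroup H).map H.subtype with hR₀
  have hnil := nilpotent H hnorm
  have hcent : ∀ w ∈ H, orderOf w = q ^ k → R₀ ≤ centralizer {w} := by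
    intro w hw hwo z hz
    obtain ⟨z', hz', rfl⟩ := hz
    rw [mem_centralizer_singleton_iff]
    have := commute_sylow_of_nilpotent hnil q r hrq.symm ⟨w, hw⟩ k
      (by rw [Subgroup.orderOf_mk]; exact hwo) R z' hz'
    have := congrArg Subtype.val this
    simpa using this.symm
  have hy' : orderOf (g * x * g⁻¹) = q ^ k := by
    rw [Cfsg.Agent.Lib.Helper7_Basic.orderOf_conj', hk]
  have hA : R₀.map (MulAut.conj g).toMonoidHom ≤ centralizer {g * x * g⁻¹} := by
    rintro _ ⟨z, hz, rfl⟩
    have := hcent x hx hk hz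
    rw [mem_centralizer_singleton_iff] at this ⊢
    simp only [MulEquiv.coe_toMonoidHom, MulAut.conj_apply]
    calc g * z * g⁻¹ * (g * x * g⁻¹) = g * (z * x) * g⁻¹ := by group
      _ = g * (x * z) * g⁻¹ := by rw [this]
      _ = g * x * g⁻¹ * (g * z * g⁻¹) := by group
  have hB : R₀ ≤ centralizer {g * x * g⁻¹} := hcent _ hy hy'
  have hRc := card_sylow_map H hnorm r hrH R
  obtain ⟨c, hc, hcR⟩ := sylow_conj_in r (centralizer {g * x * g⁻¹}) R₀
    (R₀.map (MulAut.conj g).toMonoidHom) hB hA hRc (by rw [card_map_conj]; exact hRc)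
  rw [map_conj_mul] at hcR
  have hcg : c * g ∈ H := by
    have := mem_normalizer_of_map_eq (c * g) R₀ hcR
    rwa [hR₀, hnorm r hr hrH R] at this
  refine ⟨c * g, hcg, ?_⟩
  rw [mem_centralizer_singleton_iff] at hc
  calc c * g * x * (c * g)⁻¹ = c * (g * x * g⁻¹) * c⁻¹ := by group
    _ = g * x * g⁻¹ := by rw [hc]; group

end main

theorem result {G : Type*} [Group G] [Finite G] (H : Subgroup G) (hnot : ∀ p : ℕ, p.Prime → ∀ P : Sylow p G, (P : Subgroup G) ≠ H) (hnorm : ∀ p : ℕ, p.Prime → p ∣ Nat.card H → ∀ P : Sylow p H, Subgroup.normalizer (((P : Subgroup H).map H.subtype : Subgroup G) : Set G) = H) : ∃ N : Subgroup G, N.Normal ∧ Subgroup.IsComplement' N H :=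
  exists_complement_of_hall H (nilpotent H hnorm) (hall H hnorm)
    (fun x hx y hy hord hg => control H hnorm hnot x hx y hy hord hg)

end Cfsg.Agent.S0558
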