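import Mathlib
import Cfsg.Statements.S0559

set_option autoImplicit false
open Cfsg

namespace Cfsg.Agent.S0559

open scoped Pointwise

theorem result {G : Type*} [Group G] [Finite G] (H K A B : Subgroup G) (hHK : ∀ g : G, ∃ h ∈ H, ∃ k ∈ K, g = h * k) (hA : ∃ x : G, A = MulAut.conj x • H) (hB : ∃ y : G, B = MulAut.conj y • K) : (∀ g : G, ∃ a ∈ A, ∃ b ∈ B, g = a * b) ∧ ∃ g : G, A = MulAut.conj g • H ∧ B = MulAut.conj g • K := by
  obtain ⟨x, rfl⟩ := hA
  obtain ⟨y, rfl⟩ := hB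
  obtain ⟨h, hh, k, hk, hxy⟩ := hHK (x⁻¹ * y)
  -- g = x h = y k⁻¹
  have hg1 : MulAut.conj x • H = MulAut.conj (x * h) • H := by
    rw [map_mul, mul_smul, Subgroup.conj_smul_eq_self_of_mem hh]
  have hyk : y * k⁻¹ = x * h := by
    have : y = x * (x⁻¹ * y) := by group
    rw [this, hxy]; group
  have hg2 : MulAut.conj y • K = MulAut.conj (x * h) • K := by
    rw [← hyk, map_mul, mul_smul, Subgroup.conj_smul_eq_self_of_mem (K.inv_mem hk)]
  refine ⟨?_, x * h, hg1, hg2⟩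
  intro g
  rw [hg1, hg2]
  set c := x * h with hc
  obtain ⟨h', hh', k', hk', hgeq⟩ := hHK (c⁻¹ * g * c)
  refine ⟨c * h' * c⁻¹, ?_, c * k' * c⁻¹, ?_, ?_⟩
  · rw [Subgroup.mem_smul_pointwise_iff_exists]
    exact ⟨h', hh', by simp [MulAut.conj_apply]⟩
  · rw [Subgroup.mem_smul_pointwise_iff_exists]
    exact ⟨k', hk', by simp [MulAut.conj_apply]⟩
  · have : g = c * (c⁻¹ * g * c) * c⁻¹ := by group
    rw [this, hgeq]; group

end Cfsg.Agent.S0559
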