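import Cfsg.Statements.S0560
import Mathlib
import Cfsg.Agent.Lib.Helper1_Card
set_option autoImplicit false
open Cfsg
namespace Cfsg.Agent.S0560

open scoped Pointwise
open Cfsg.Agent.Lib.Helper1_Card

variable {G : Type*} [Group G] {p : ℕ}

theorem mem_smul_sylow' (g y : G) (P : Sylow p G) : y ∈ (g • P : Sylow p G) ↔ g⁻¹ * y * g ∈ P := by
  show y ∈ MulAut.conj g • (P : Subgroup G) ↔ _
  rw [Subgroup.mem_pointwise_smul_iff_inv_smul_mem, MulAut.smul_def, ← map_inv, MulAut.conj_apply, inv_inv]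
  rfl

/-- membership in the image of a conjugated Sylow of a subgroup -/
theorem mem_map_smul (K : Subgroup G) (Q0 : Sylow p K) (R1 : Sylow p G)
    (hR1 : (R1 : Subgroup G).comap K.subtype = (Q0 : Subgroup K)) (k : G) (hk : k ∈ K) (y : G) :
    y ∈ (((⟨k, hk⟩ : K) • Q0 : Sylow p K) : Subgroup K).map K.subtype ↔ y ∈ K ∧ y ∈ (k • R1 : Sylow p G) := by
  constructor
  · rintro ⟨z, hz, rfl⟩
    refine ⟨z.2, ?_⟩
    have hz' : z ∈ ((⟨k, hk⟩ : K) • Q0 : Sylow p K) := hz
    rw [mem_smul_sylow'] at hz' ⊢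
    have : (⟨k, hk⟩ : K)⁻¹ * z * ⟨k, hk⟩ ∈ (Q0 : Subgroup K) := hz'
    rw [← hR1, Subgroup.mem_comap] at this
    exact this
  · rintro ⟨hyK, hy⟩
    refine ⟨⟨y, hyK⟩, ?_, rfl⟩
    show (⟨y, hyK⟩ : K) ∈ ((⟨k, hk⟩ : K) • Q0 : Sylow p K)
    rw [mem_smul_sylow'] at hy ⊢
    show (⟨k, hk⟩ : K)⁻¹ * ⟨y, hyK⟩ * ⟨k, hk⟩ ∈ (Q0 : Subgroup K)
    rw [← hR1, Subgroup.mem_comap]
    exact hy

theorem result {G : Type*} [Group G] [Finite G] (H K : Subgroup G) (hHK : ∀ g : G, ∃ h ∈ H, ∃ k ∈ K, g = h * k) (p : ℕ) [Fact p.Prime] : ∃ (P : Sylow p H) (Q : Sylow p K) (R : Sylow p G), ((R : Subgroup G) : Set G) = (((P : Subgroup H).map H.subtype : Subgroup G) : Set G) * (((Q : Subgroup K).map K.subtype : Subgroup G) : Set G) := by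
  classical
  have hp : p.Prime := Fact.out
  let P0 : Sylow p H := default
  let Q0 : Sylow p K := default
  obtain ⟨R1, hR1⟩ := Sylow.exists_comap_subtype_eq Q0
  obtain ⟨R2, hR2⟩ := Sylow.exists_comap_subtype_eq P0
  obtain ⟨x, hx⟩ := MulAction.exists_smul_eq G R1 R2
  obtain ⟨h, hh, k, hk, rfl⟩ := hHK x
  let R : Sylow p G := k • R1
  have hR' : R = h⁻¹ • R2 := by
    show k • R1 = h⁻¹ • R2
    rw [← hx, ← mul_smul, inv_mul_cancel_left]
  have hhinv : h⁻¹ ∈ H := H.inv_mem hh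
  let P : Sylow p H := (⟨h⁻¹, hhinv⟩ : H) • P0
  let Q : Sylow p K := (⟨k, hk⟩ : K) • Q0
  have hQmem : ∀ y, y ∈ (Q : Subgroup K).map K.subtype ↔ y ∈ K ∧ y ∈ R :=
    mem_map_smul K Q0 R1 hR1 k hk
  have hPmem : ∀ y, y ∈ (P : Subgroup H).map H.subtype ↔ y ∈ H ∧ y ∈ R := by
    intro y
    rw [hR']
    exact mem_map_smul H P0 R2 hR2 h⁻¹ hhinv y
  refine ⟨P, Q, R, ?_⟩
  set P' : Subgroup G := (P : Subgroup H).map H.subtype with hP'
  set Q' : Subgroup G := (Q : Subgroup K).map K.subtype with hQ'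
  have hP'R : P' ≤ R := fun y hy => ((hPmem y).mp hy).2
  have hQ'R : Q' ≤ R := fun y hy => ((hQmem y).mp hy).2
  have hsub : (P' : Set G) * (Q' : Set G) ⊆ (R : Set G) := by
    rintro _ ⟨a, ha, b, hb, rfl⟩
    exact (R : Subgroup G).mul_mem (hP'R ha) (hQ'R hb)
  symm
  apply Set.eq_of_subset_of_ncard_le hsub _ (Set.toFinite _)
  -- cardinalities
  have hcardG : Nat.card ((H : Set G) * (K : Set G) : Set G) = Nat.card G := by
    have : (H : Set G) * (K : Set G) = Set.univ := by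
      rw [Set.eq_univ_iff_forall]
      intro g
      obtain ⟨a, ha, b, hb, rfl⟩ := hHK g
      exact ⟨a, ha, b, hb, rfl⟩
    rw [this, Nat.card_congr (Equiv.Set.univ G)]
  have h1 : Nat.card G * Nat.card (H ⊓ K : Subgroup G) = Nat.card H * Nat.card K := by
    rw [← hcardG]; exact card_mul_card_inf H K
  have h2 : Nat.card ((P' : Set G) * (Q' : Set G) : Set G) * Nat.card (P' ⊓ Q' : Subgroup G) =
      Nat.card P' * Nat.card Q' := card_mul_card_inf P' Q'
  have hcP : Nat.card P' = p ^ (Nat.card H).factorization p := by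
    rw [hP', Nat.card_congr ((P : Subgroup H).equivMapOfInjective H.subtype H.subtype_injective).symm.toEquiv]
    exact Sylow.card_eq_multiplicity P
  have hcQ : Nat.card Q' = p ^ (Nat.card K).factorization p := by
    rw [hQ', Nat.card_congr ((Q : Subgroup K).equivMapOfInjective K.subtype K.subtype_injective).symm.toEquiv]
    exact Sylow.card_eq_multiplicity Q
  have hcR : Nat.card (R : Subgroup G) = p ^ (Nat.card G).factorization p := Sylow.card_eq_multiplicity R
  -- P' ⊓ Q' is a p-group inside H ⊓ K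
  have hPQ_le : P' ⊓ Q' ≤ H ⊓ K := by
    intro y hy
    exact ⟨((hPmem y).mp hy.1).1, ((hQmem y).mp hy.2).1⟩
  have hPQp : IsPGroup p (P' ⊓ Q' : Subgroup G) := by
    apply IsPGroup.to_le (R.isPGroup') 
    exact inf_le_left.trans hP'R
  obtain ⟨j, hj⟩ := IsPGroup.iff_card.mp hPQp
  have hjle : j ≤ (Nat.card (H ⊓ K : Subgroup G)).factorization p := by
    have hdvd : Nat.card (P' ⊓ Q' : Subgroup G) ∣ Nat.card (H ⊓ K : Subgroup G) :=
      Subgroup.card_dvd_of_le hPQ_le
    rw [hj] at hdvd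
    exact (hp.pow_dvd_iff_le_factorization Nat.card_pos.ne').mp hdvd
  -- factorization identity
  have hfac : (Nat.card G).factorization p + (Nat.card (H ⊓ K : Subgroup G)).factorization p =
      (Nat.card H).factorization p + (Nat.card K).factorization p := by
    have := congrArg (fun n => n.factorization p) h1
    beta_reduce at this
    rw [Nat.factorization_mul Nat.card_pos.ne' Nat.card_pos.ne',
      Nat.factorization_mul Nat.card_pos.ne' Nat.card_pos.ne'] at this
    simp only [Finsupp.coe_add, Pi.add_apply] at this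
    exact this
  rw [← Nat.card_coe_set_eq, ← Nat.card_coe_set_eq]
  show Nat.card (R : Subgroup G) ≤ _
  rw [hcR]
  rw [hcP, hcQ, hj] at h2
  -- |S| * p^j = p^(a+b)
  have h3 : Nat.card ((P' : Set G) * (Q' : Set G) : Set G) * p ^ j =
      p ^ ((Nat.card G).factorization p + (Nat.card (H ⊓ K : Subgroup G)).factorization p) := by
    rw [hfac, pow_add]; exact h2
  have hppos : 0 < p ^ j := pow_pos hp.pos _
  have h4 : p ^ (Nat.card G).factorization p * p ^ j ≤
      Nat.card ((P' : Set G) * (Q' : Set G) : Set G) * p ^ j := by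
    rw [h3, ← pow_add]
    exact Nat.pow_le_pow_right hp.pos (by omega)
  exact Nat.le_of_mul_le_mul_right h4 hppos

end Cfsg.Agent.S0560
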