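import Cfsg.Statements.S0561
import Mathlib
import Cfsg.Agent.S0559
import Cfsg.Agent.Lib.Lead_SZ
import Cfsg.Agent.Lib.Lead_Hall
import Cfsg.Agent.Lib.Helper1_Card

set_option autoImplicit false
open Pointwise
open Cfsg

namespace Cfsg.Agent.S0561

open scoped Pointwise

open Cfsg.Agent.Lib.Lead_SZ

variable {G : Type*} [Group G]

theorem main [Finite G] [Group.IsSolvable G] (H K A B : Subgroup G)
    (hHK : ∀ g : G, ∃ h ∈ H, ∃ k ∈ K, g = h * k)
    (hAn : H ≤ Subgroup.normalizer (A : Set G)) (hBn : K ≤ Subgroup.normalizer (B : Set G))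
    (hAh : (Nat.card A).Coprime A.index) (hBh : (Nat.card B).Coprime B.index) :
    ∃ S : Subgroup G, (S : Set G) = (A : Set G) * (B : Set G) := by
  have hAi : Nat.card A * A.index = Nat.card G := Subgroup.card_mul_index A
  have hBi : Nat.card B * B.index = Nat.card G := Subgroup.card_mul_index B
  have hm : Nat.lcm (Nat.card A) (Nat.card B) ∣ Nat.card G :=
    Nat.lcm_dvd (Subgroup.card_subgroup_dvd_card A) (Subgroup.card_subgroup_dvd_card B)
  obtain ⟨n, hn⟩ := hm
  have hnA : n ∣ A.index := by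
    obtain ⟨t, ht⟩ := Nat.dvd_lcm_left (Nat.card A) (Nat.card B)
    refine ⟨t, ?_⟩
    have h1 : Nat.card A * A.index = Nat.card A * (n * t) := by
      rw [hAi, hn, ht]; ring
    exact Nat.eq_of_mul_eq_mul_left Nat.card_pos h1
  have hnB : n ∣ B.index := by
    obtain ⟨t, ht⟩ := Nat.dvd_lcm_right (Nat.card A) (Nat.card B)
    refine ⟨t, ?_⟩
    have h1 : Nat.card B * B.index = Nat.card B * (n * t) := by
      rw [hBi, hn, ht]; ring
    exact Nat.eq_of_mul_eq_mul_left Nat.card_pos h1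
  have hcA : (Nat.card A).Coprime n := Nat.Coprime.coprime_dvd_right hnA hAh
  have hcB : (Nat.card B).Coprime n := Nat.Coprime.coprime_dvd_right hnB hBh
  have hcop : (Nat.lcm (Nat.card A) (Nat.card B)).Coprime n :=
    Nat.Coprime.coprime_dvd_left (Nat.lcm_dvd_mul _ _) (Nat.Coprime.mul_left hcA hcB)
  obtain ⟨-, hconj, hdom⟩ := Cfsg.Agent.Lib.Lead_Hall.hall G _ n hn hcop
  obtain ⟨T₁, hT₁, hAT₁⟩ := hdom A hcA
  obtain ⟨T₂, hT₂, hBT₂⟩ := hdom B hcB
  obtain ⟨c, hc⟩ := hconj T₁ T₂ hT₁ hT₂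
  obtain ⟨h, hh, k, hk, hck⟩ := hHK c⁻¹
  -- c = k⁻¹ * h⁻¹
  have hc' : c = k⁻¹ * h⁻¹ := by
    have := congrArg (fun u => u⁻¹) hck
    simpa using this
  have hAT : A ≤ MulAut.conj h⁻¹ • T₁ := by
    have h1 : MulAut.conj h⁻¹ • A = A :=
      conj_smul_le_normalizer.1 (hAn (H.inv_mem hh))
    rw [← h1]
    exact conj_smul_mono _ hAT₁
  have hBT : B ≤ MulAut.conj h⁻¹ • T₁ := by
    have h1 : MulAut.conj k • B = B := conj_smul_le_normalizer.1 (hBn hk)
    have h2 : MulAut.conj k • T₂ = MulAut.conj h⁻¹ • T₁ := by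
      rw [← hc, conj_smul_smul, hc']
      congr 2
      group
    rw [← h1, ← h2]
    exact conj_smul_mono _ hBT₂
  have hTc : Nat.card (MulAut.conj h⁻¹ • T₁ : Subgroup G) = Nat.lcm (Nat.card A) (Nat.card B) := by
    rw [card_conj_smul, hT₁]
  refine ⟨MulAut.conj h⁻¹ • T₁, ?_⟩
  symm
  apply Set.eq_of_subset_of_ncard_le
  · rintro _ ⟨a, ha, b, hb, rfl⟩
    exact Subgroup.mul_mem _ (hAT ha) (hBT hb)
  · have h1 := Cfsg.Agent.Lib.Helper1_Card.card_mul_card_inf A B
    have h2 : Nat.card (A ⊓ B : Subgroup G) ∣ Nat.gcd (Nat.card A) (Nat.card B) :=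
      Nat.dvd_gcd (Subgroup.card_dvd_of_le inf_le_left) (Subgroup.card_dvd_of_le inf_le_right)
    have h3 : Nat.gcd (Nat.card A) (Nat.card B) * Nat.lcm (Nat.card A) (Nat.card B) =
        Nat.card A * Nat.card B := Nat.gcd_mul_lcm _ _
    have h4 : Nat.card (A ⊓ B : Subgroup G) ≤ Nat.gcd (Nat.card A) (Nat.card B) :=
      Nat.le_of_dvd (Nat.gcd_pos_of_pos_left _ Nat.card_pos) h2
    have h5 : Nat.lcm (Nat.card A) (Nat.card B) ≤
        Nat.card ((A : Set G) * (B : Set G) : Set G) := by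
      by_contra hlt
      push_neg at hlt
      have h6 : Nat.card ((A : Set G) * (B : Set G) : Set G) * Nat.card (A ⊓ B : Subgroup G) <
          Nat.lcm (Nat.card A) (Nat.card B) * Nat.gcd (Nat.card A) (Nat.card B) :=
        Nat.mul_lt_mul_of_lt_of_le hlt h4 (Nat.gcd_pos_of_pos_left _ Nat.card_pos)
      rw [h1, mul_comm (Nat.lcm _ _), h3] at h6
      exact lt_irrefl _ h6
    rw [← Nat.card_coe_set_eq, ← Nat.card_coe_set_eq]
    calc Nat.card ((MulAut.conj h⁻¹ • T₁ : Subgroup G) : Set G)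
        = Nat.lcm (Nat.card A) (Nat.card B) := hTc
      _ ≤ _ := h5
  · exact Set.toFinite _


/-- Let the finite solvable group G be the product HK of subgroups, and let A be normal in H and B normal in K, where A and B are Hall subgroups of G (order coprime to index). Then for all x, y the product set of xAx⁻¹ and yBy⁻¹ is a subgroup of G. -/
theorem result {G : Type*} [Group G] [Finite G] [Group.IsSolvable G] (H K A B : Subgroup G) (hHK : ∀ g : G, ∃ h ∈ H, ∃ k ∈ K, g = h * k) (hA : A ≤ H) (hAn : (A.subgroupOf H).Normal) (hB : B ≤ K) (hBn : (B.subgroupOf K).Normal) (hAh : (Nat.card A).Coprime A.index) (hBh : (Nat.card B).Coprime B.index) (x y : G) : ∃ S : Subgroup G, (S : Set G) = ((MulAut.conj x • A : Subgroup G) : Set G) * ((MulAut.conj y • B : Subgroup G) : Set G) := by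
  have h1 := (Cfsg.Agent.S0559.result H K (MulAut.conj x • H) (MulAut.conj y • K) hHK
    ⟨x, rfl⟩ ⟨y, rfl⟩).1
  have hAH : H ≤ Subgroup.normalizer (A : Set G) := by
    intro h hh
    rw [Subgroup.mem_normalizer_iff]
    intro a
    constructor
    · intro ha
      have h2 := hAn.conj_mem ⟨a, hA ha⟩ (Subgroup.mem_subgroupOf.2 ha) ⟨h, hh⟩
      exact Subgroup.mem_subgroupOf.1 h2
    · intro ha
      have h2 := hAn.conj_mem ⟨h * a * h⁻¹, hA ha⟩ (Subgroup.mem_subgroupOf.2 ha) ⟨h, hh⟩⁻¹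
      have h3 := Subgroup.mem_subgroupOf.1 h2
      simp only [Subgroup.coe_mul, Subgroup.coe_inv, inv_inv] at h3
      have h4 : h⁻¹ * (h * a * h⁻¹) * h = a := by group
      rwa [h4] at h3
  have hBK : K ≤ Subgroup.normalizer (B : Set G) := by
    intro k hk
    rw [Subgroup.mem_normalizer_iff]
    intro b
    constructor
    · intro hb
      have h2 := hBn.conj_mem ⟨b, hB hb⟩ (Subgroup.mem_subgroupOf.2 hb) ⟨k, hk⟩
      exact Subgroup.mem_subgroupOf.1 h2
    · intro hb
      have h2 := hBn.conj_mem ⟨k * b * k⁻¹, hB hb⟩ (Subgroup.mem_subgroupOf.2 hb) ⟨k, hk⟩⁻¹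
      have h3 := Subgroup.mem_subgroupOf.1 h2
      simp only [Subgroup.coe_mul, Subgroup.coe_inv, inv_inv] at h3
      have h4 : k⁻¹ * (k * b * k⁻¹) * k = b := by group
      rwa [h4] at h3
  have hnorm : ∀ (z : G) (H' A' : Subgroup G), H' ≤ Subgroup.normalizer (A' : Set G) →
      MulAut.conj z • H' ≤ Subgroup.normalizer ((MulAut.conj z • A' : Subgroup G) : Set G) := by
    intro z H' A' hH' g hg
    rw [mem_conj_smul] at hg
    rw [conj_smul_le_normalizer, conj_smul_smul]
    have h2 := conj_smul_le_normalizer.1 (hH' hg)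
    have h3 : g * z = z * (z⁻¹ * g * z) := by group
    rw [h3, ← conj_smul_smul, h2]
  have hidx : ∀ (z : G) (A' : Subgroup G), (Nat.card A').Coprime A'.index →
      (Nat.card (MulAut.conj z • A' : Subgroup G)).Coprime (MulAut.conj z • A' : Subgroup G).index := by
    intro z A' h
    have h2 : Nat.card (MulAut.conj z • A' : Subgroup G) *
        (MulAut.conj z • A' : Subgroup G).index = Nat.card G := Subgroup.card_mul_index _
    have h3 : Nat.card A' * A'.index = Nat.card G := Subgroup.card_mul_index _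
    rw [card_conj_smul] at h2 ⊢
    have h4 : (MulAut.conj z • A' : Subgroup G).index = A'.index :=
      Nat.eq_of_mul_eq_mul_left Nat.card_pos (h2.trans h3.symm)
    rw [h4]
    exact h
  exact main (MulAut.conj x • H) (MulAut.conj y • K) (MulAut.conj x • A) (MulAut.conj y • B) h1
    (hnorm x H A hAH) (hnorm y K B hBK) (hidx x A hAh) (hidx y B hBh)

end Cfsg.Agent.S0561
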