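import Mathlib
import Cfsg.Statements.S0562

set_option autoImplicit false
open Cfsg

namespace Cfsg.Agent.S0562

open scoped Pointwise

/-- in a finite group, `X ≤ k X k⁻¹` forces `k` to normalise `X` -/
theorem mem_normalizer_of_le_conj {G : Type*} [Group G] [Finite G] (X : Subgroup G) (k : G)
    (h : X ≤ MulAut.conj k • X) : k ∈ Subgroup.normalizer (X : Set G) := by
  have hcard : Nat.card (MulAut.conj k • X : Subgroup G) = Nat.card X :=
    (Nat.card_congr (Subgroup.equivSMul (MulAut.conj k) X).toEquiv).symm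
  have heq : X = MulAut.conj k • X := Subgroup.eq_of_le_of_card_ge h (le_of_eq hcard)
  rw [Subgroup.mem_normalizer_iff]
  intro x
  constructor
  · intro hx
    have : k * x * k⁻¹ ∈ MulAut.conj k • X :=
      (Subgroup.mem_smul_pointwise_iff_exists _ _ _).mpr ⟨x, hx, by simp [MulAut.conj_apply]⟩
    rw [← heq] at this
    exact this
  · intro hx
    rw [heq] at hx
    obtain ⟨y, hy, hyx⟩ := (Subgroup.mem_smul_pointwise_iff_exists _ _ _).mp hx
    have : y = x := by
      simp only [MulAut.smul_def, MulAut.conj_apply] at hyx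
      exact mul_left_cancel (mul_right_cancel hyx)
    rw [← this]; exact hy

theorem result {G : Type*} [Group G] [Finite G] (H K A B : Subgroup G) (hHK : ∀ g : G, ∃ h ∈ H, ∃ k ∈ K, g = h * k) (hA : A ≤ H) (hAn : (A.subgroupOf H).Normal) (hB : B ≤ K) (hBn : (B.subgroupOf K).Normal) : ∀ g ∈ Subgroup.normalizer ((A ⊔ B : Subgroup G) : Set G), ∃ h ∈ Subgroup.normalizer ((A ⊔ B : Subgroup G) : Set G) ⊓ H, ∃ k ∈ Subgroup.normalizer ((A ⊔ B : Subgroup G) : Set G) ⊓ K, g = h * k := by
  intro g hg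
  set X := A ⊔ B with hX
  obtain ⟨h, hh, k, hk, rfl⟩ := hHK g
  have hHA : H ≤ Subgroup.normalizer (A : Set G) :=
    (Subgroup.normal_subgroupOf_iff_le_normalizer hA).mp hAn
  have hKB : K ≤ Subgroup.normalizer (B : Set G) :=
    (Subgroup.normal_subgroupOf_iff_le_normalizer hB).mp hBn
  rw [Subgroup.mem_normalizer_iff] at hg
  -- X ≤ k X k⁻¹
  have hkX : X ≤ MulAut.conj k • X := by
    rw [hX]
    apply sup_le
    · -- A = h⁻¹ A h ≤ h⁻¹ X h = k X k⁻¹
      intro a ha
      -- h a h⁻¹ ∈ A ≤ X, so h a h⁻¹ = (hk) x (hk)⁻¹ for x ∈ X, so a = k x k⁻¹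
      have h1 : h * a * h⁻¹ ∈ A := ((Subgroup.mem_normalizer_iff.mp (hHA hh)) a).mp ha
      have h2 : h * a * h⁻¹ ∈ X := le_sup_left (a := A) h1
      -- (hk)⁻¹ normalizes X too
      have h3 : (h * k)⁻¹ * (h * a * h⁻¹) * (h * k) ∈ X := by
        have := (hg ((h * k)⁻¹ * (h * a * h⁻¹) * (h * k))).mpr (by
          have e : h * k * ((h * k)⁻¹ * (h * a * h⁻¹) * (h * k)) * (h * k)⁻¹ = h * a * h⁻¹ := by
            group
          rw [e]; exact h2)
        exact this
      rw [Subgroup.mem_smul_pointwise_iff_exists]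
      refine ⟨(h * k)⁻¹ * (h * a * h⁻¹) * (h * k), h3, ?_⟩
      simp only [MulAut.smul_def, MulAut.conj_apply]
      group
    · intro b hb
      have h1 : k⁻¹ * b * k ∈ B := by
        have := ((Subgroup.mem_normalizer_iff.mp (hKB (K.inv_mem hk))) b).mp hb
        rwa [inv_inv] at this
      rw [Subgroup.mem_smul_pointwise_iff_exists]
      refine ⟨k⁻¹ * b * k, le_sup_right (a := A) h1, ?_⟩
      simp only [MulAut.smul_def, MulAut.conj_apply]
      group
  have hkN : k ∈ Subgroup.normalizer (X : Set G) := mem_normalizer_of_le_conj X k hkX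
  have hgN : h * k ∈ Subgroup.normalizer (X : Set G) := Subgroup.mem_normalizer_iff.mpr hg
  have hhN : h ∈ Subgroup.normalizer (X : Set G) := by
    have : h = (h * k) * k⁻¹ := by group
    rw [this]
    exact Subgroup.mul_mem _ hgN (Subgroup.inv_mem _ hkN)
  exact ⟨h, ⟨hhN, hh⟩, k, ⟨hkN, hk⟩, rfl⟩

end Cfsg.Agent.S0562
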