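import Cfsg.Statements.S0566
import Mathlib
import Cfsg.Agent.Lib.Lead_SZ

set_option autoImplicit false
open Pointwise
open Cfsg

namespace Cfsg.Agent.S0566

open Cfsg.Agent.Lib.Lead_SZ

open scoped Pointwise

theorem swap_of_mul {G : Type*} [Group G] (X C S : Subgroup G)
    (hS : (S : Set G) = (X : Set G) * (C : Set G)) :
    (∀ c ∈ C, ∀ x ∈ X, ∃ x' ∈ X, ∃ c' ∈ C, c * x = x' * c') ∧
    (∀ x ∈ X, ∀ c ∈ C, ∃ c' ∈ C, ∃ x' ∈ X, x * c = c' * x') := by
  have hXS : ∀ x ∈ X, x ∈ S := fun x hx => by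
    rw [← SetLike.mem_coe, hS]; exact ⟨x, hx, 1, C.one_mem, mul_one x⟩
  have hCS : ∀ c ∈ C, c ∈ S := fun c hc => by
    rw [← SetLike.mem_coe, hS]; exact ⟨1, X.one_mem, c, hc, one_mul c⟩
  constructor
  · intro c hc x hx
    have : c * x ∈ S := S.mul_mem (hCS c hc) (hXS x hx)
    rw [← SetLike.mem_coe, hS] at this
    obtain ⟨x', hx', c', hc', h⟩ := Set.mem_mul.mp this
    exact ⟨x', hx', c', hc', h.symm⟩
  · intro x hx c hc
    have : (x * c)⁻¹ ∈ S := S.inv_mem (S.mul_mem (hXS x hx) (hCS c hc))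
    rw [← SetLike.mem_coe, hS] at this
    obtain ⟨x', hx', c', hc', h⟩ := Set.mem_mul.mp this
    refine ⟨c'⁻¹, C.inv_mem hc', x'⁻¹, X.inv_mem hx', ?_⟩
    have : x * c = (x' * c')⁻¹ := by rw [h, inv_inv]
    rw [this, mul_inv_rev]

/-- if `X * C` and `Y * C` are subgroups then so is `(X ⊔ Y) * C` -/
theorem perm_sup {G : Type*} [Group G] (X Y C SX SY : Subgroup G)
    (hX : (SX : Set G) = (X : Set G) * (C : Set G))
    (hY : (SY : Set G) = (Y : Set G) * (C : Set G)) :
    ((X ⊔ Y ⊔ C : Subgroup G) : Set G) = ((X ⊔ Y : Subgroup G) : Set G) * (C : Set G) := by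
  obtain ⟨hX1, hX2⟩ := swap_of_mul X C SX hX
  obtain ⟨hY1, hY2⟩ := swap_of_mul Y C SY hY
  have hQ : ∀ w ∈ X ⊔ Y, (∀ c ∈ C, ∃ w' ∈ X ⊔ Y, ∃ c' ∈ C, c * w = w' * c') ∧
      (∀ c ∈ C, ∃ c' ∈ C, ∃ w' ∈ X ⊔ Y, w * c = c' * w') := by
    intro w hw
    rw [Subgroup.sup_eq_closure] at hw
    induction hw using Subgroup.closure_induction with
    | mem w hw =>
      rcases hw with hw | hw
      · constructor
        · intro c hc
          obtain ⟨x', hx', c', hc', h⟩ := hX1 c hc w hw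
          exact ⟨x', Subgroup.mem_sup_left hx', c', hc', h⟩
        · intro c hc
          obtain ⟨c', hc', x', hx', h⟩ := hX2 w hw c hc
          exact ⟨c', hc', x', Subgroup.mem_sup_left hx', h⟩
      · constructor
        · intro c hc
          obtain ⟨x', hx', c', hc', h⟩ := hY1 c hc w hw
          exact ⟨x', Subgroup.mem_sup_right hx', c', hc', h⟩
        · intro c hc
          obtain ⟨c', hc', x', hx', h⟩ := hY2 w hw c hc
          exact ⟨c', hc', x', Subgroup.mem_sup_right hx', h⟩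
    | one =>
      exact ⟨fun c hc => ⟨1, Subgroup.one_mem _, c, hc, by simp⟩,
        fun c hc => ⟨c, hc, 1, Subgroup.one_mem _, by simp⟩⟩
    | mul a b _ _ ha hb =>
      constructor
      · intro c hc
        obtain ⟨a', ha', c', hc', h1⟩ := ha.1 c hc
        obtain ⟨b', hb', c'', hc'', h2⟩ := hb.1 c' hc'
        refine ⟨a' * b', Subgroup.mul_mem _ ha' hb', c'', hc'', ?_⟩
        calc c * (a * b) = (c * a) * b := by group
          _ = a' * (c' * b) := by rw [h1]; group
          _ = a' * b' * c'' := by rw [h2]; group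
      · intro c hc
        obtain ⟨c', hc', b', hb', h1⟩ := hb.2 c hc
        obtain ⟨c'', hc'', a', ha', h2⟩ := ha.2 c' hc'
        refine ⟨c'', hc'', a' * b', Subgroup.mul_mem _ ha' hb', ?_⟩
        calc a * b * c = a * (b * c) := by group
          _ = (a * c') * b' := by rw [h1]; group
          _ = c'' * (a' * b') := by rw [h2]; group
    | inv a _ ha =>
      constructor
      · intro c hc
        obtain ⟨c', hc', a', ha', h⟩ := ha.2 c⁻¹ (C.inv_mem hc)
        refine ⟨a'⁻¹, Subgroup.inv_mem _ ha', c'⁻¹, C.inv_mem hc', ?_⟩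
        have : c * a⁻¹ = (a * c⁻¹)⁻¹ := by group
        rw [this, h, mul_inv_rev]
      · intro c hc
        obtain ⟨a', ha', c', hc', h⟩ := ha.1 c⁻¹ (C.inv_mem hc)
        refine ⟨c'⁻¹, C.inv_mem hc', a'⁻¹, Subgroup.inv_mem _ ha', ?_⟩
        have : a⁻¹ * c = (c⁻¹ * a)⁻¹ := by group
        rw [this, h, mul_inv_rev]
  apply Set.Subset.antisymm
  · intro g hg
    have hg' : g ∈ (X ⊔ Y) ⊔ C := hg
    clear hg
    rw [Subgroup.sup_eq_closure] at hg'
    induction hg' using Subgroup.closure_induction with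
    | mem g hg =>
      rcases hg with hg | hg
      · exact Set.mem_mul.mpr ⟨g, hg, 1, C.one_mem, mul_one g⟩
      · exact Set.mem_mul.mpr ⟨1, Subgroup.one_mem _, g, hg, one_mul g⟩
    | one => exact Set.mem_mul.mpr ⟨1, Subgroup.one_mem _, 1, C.one_mem, mul_one 1⟩
    | mul a b _ _ ha hb =>
      obtain ⟨w, hw, c, hc, rfl⟩ := Set.mem_mul.mp ha
      obtain ⟨w', hw', c', hc', rfl⟩ := Set.mem_mul.mp hb
      obtain ⟨w'', hw'', c'', hc'', h⟩ := (hQ w' hw').1 c hc
      refine Set.mem_mul.mpr ⟨w * w'', Subgroup.mul_mem _ hw hw'', c'' * c', C.mul_mem hc'' hc', ?_⟩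
      calc w * w'' * (c'' * c') = w * (w'' * c'') * c' := by group
        _ = w * (c * w') * c' := by rw [← h]
        _ = w * c * (w' * c') := by group
    | inv a _ ha =>
      obtain ⟨w, hw, c, hc, rfl⟩ := Set.mem_mul.mp ha
      obtain ⟨w', hw', c', hc', h⟩ := (hQ w⁻¹ (Subgroup.inv_mem _ hw)).1 c⁻¹ (C.inv_mem hc)
      refine Set.mem_mul.mpr ⟨w', hw', c', hc', ?_⟩
      rw [← h, mul_inv_rev]
  · intro g hg
    obtain ⟨w, hw, c, hc, rfl⟩ := Set.mem_mul.mp hg
    exact Subgroup.mul_mem _ (Subgroup.mem_sup_left hw) (Subgroup.mem_sup_right hc)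

theorem kegel_aux {G : Type*} [Group G] [Finite G] (B : Subgroup G) :
    ∀ (k : ℕ) (A : Subgroup G), Nat.card G - Nat.card A = k →
    (∀ x : G, ∃ S : Subgroup G, S ≠ ⊤ ∧
      (S : Set G) = (A : Set G) * ((MulAut.conj x • B : Subgroup G) : Set G)) →
    Subgroup.normalClosure (A : Set G) ≠ ⊤ ∨ Subgroup.normalClosure (B : Set G) ≠ ⊤ := by
  intro k
  induction k using Nat.strong_induction_on with
  | _ k ih =>
  intro A hk h
  by_contra hcon
  push_neg at hcon
  obtain ⟨hA, hB⟩ := hcon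
  have h1 : ∃ z : G, ∃ b ∈ MulAut.conj z • B, MulAut.conj b • A ≠ A := by
    by_contra hno
    push_neg at hno
    have hBN : Subgroup.normalClosure (B : Set G) ≤ Subgroup.normalizer (A : Set G) := by
      rw [Subgroup.normalClosure]
      apply (Subgroup.closure_le _).mpr
      intro y hy
      obtain ⟨b, hb, hby⟩ := Group.mem_conjugatesOfSet_iff.mp hy
      obtain ⟨c, hc⟩ := isConj_iff.mp hby
      have : y ∈ MulAut.conj c • B := by
        rw [mem_conj_smul, ← hc]
        simpa [mul_assoc] using hb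
      exact conj_smul_le_normalizer.mpr (hno c y this)
    rw [hB] at hBN
    have hAn : A.Normal := Subgroup.normalizer_eq_top_iff.mp (top_le_iff.mp hBN)
    haveI := hAn
    rw [Subgroup.normalClosure_eq_self] at hA
    obtain ⟨S, hS, hSeq⟩ := h 1
    apply hS
    rw [eq_top_iff]
    intro g _
    rw [← SetLike.mem_coe, hSeq]
    exact Set.mem_mul.mpr ⟨g, hA ▸ Subgroup.mem_top g, 1, Subgroup.one_mem _, mul_one g⟩
  obtain ⟨z, b, hb, hbA⟩ := h1
  obtain ⟨L, hL, hLeq⟩ := h z
  set A₁ := A ⊔ MulAut.conj b • A with hA₁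
  have hAL : A ≤ L := fun a ha => by
    rw [← SetLike.mem_coe, hLeq]; exact Set.mem_mul.mpr ⟨a, ha, 1, Subgroup.one_mem _, mul_one a⟩
  have hBL : MulAut.conj z • B ≤ L := fun c hc => by
    rw [← SetLike.mem_coe, hLeq]; exact Set.mem_mul.mpr ⟨1, A.one_mem, c, hc, one_mul c⟩
  have hbL : b ∈ L := hBL hb
  have hA₁L : A₁ ≤ L := by
    apply sup_le hAL
    intro y hy
    rw [mem_conj_smul] at hy
    have := L.mul_mem (L.mul_mem hbL (hAL hy)) (L.inv_mem hbL)
    simpa [mul_assoc] using this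
  have hlt : A < A₁ := by
    refine lt_of_le_of_ne le_sup_left ?_
    intro heq
    apply hbA
    have hle : MulAut.conj b • A ≤ A := by
      calc MulAut.conj b • A ≤ A₁ := le_sup_right
        _ = A := heq.symm
    exact eq_of_le_of_card_eq hle (card_conj_smul b A)
  have hperm : ∀ x : G, ∃ S : Subgroup G,
      (S : Set G) = (A₁ : Set G) * ((MulAut.conj x • B : Subgroup G) : Set G) := by
    intro x
    obtain ⟨S1, -, hS1⟩ := h x
    obtain ⟨S2, -, hS2⟩ := h (b⁻¹ * x)
    have hS2' : ((MulAut.conj b • S2 : Subgroup G) : Set G) =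
        ((MulAut.conj b • A : Subgroup G) : Set G) * ((MulAut.conj x • B : Subgroup G) : Set G) := by
      ext g
      constructor
      · intro hg
        rw [SetLike.mem_coe, mem_conj_smul, ← SetLike.mem_coe, hS2] at hg
        obtain ⟨a, ha, c, hc, hac⟩ := Set.mem_mul.mp hg
        refine Set.mem_mul.mpr ⟨b * a * b⁻¹, ?_, b * c * b⁻¹, ?_, ?_⟩
        · rw [SetLike.mem_coe, mem_conj_smul]
          simpa [mul_assoc] using ha
        · rw [SetLike.mem_coe, mem_conj_smul] at hc ⊢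
          have e : x⁻¹ * (b * c * b⁻¹) * x = (b⁻¹ * x)⁻¹ * c * (b⁻¹ * x) := by group
          rw [e]; exact hc
        · calc b * a * b⁻¹ * (b * c * b⁻¹) = b * (a * c) * b⁻¹ := by group
            _ = g := by rw [hac]; group
      · intro hg
        obtain ⟨a', ha', c', hc', rfl⟩ := Set.mem_mul.mp hg
        rw [SetLike.mem_coe, mem_conj_smul] at ha' hc'
        rw [SetLike.mem_coe, mem_conj_smul, ← SetLike.mem_coe, hS2]
        refine Set.mem_mul.mpr ⟨b⁻¹ * a' * b, ha', b⁻¹ * c' * b, ?_, by group⟩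
        rw [SetLike.mem_coe, mem_conj_smul]
        have e : (b⁻¹ * x)⁻¹ * (b⁻¹ * c' * b) * (b⁻¹ * x) = x⁻¹ * c' * x := by group
        rw [e]; exact hc'
    exact ⟨A ⊔ MulAut.conj b • A ⊔ MulAut.conj x • B,
      perm_sup A (MulAut.conj b • A) (MulAut.conj x • B) S1 (MulAut.conj b • S2) hS1 hS2'⟩
  by_cases hall : ∀ x : G, ∃ S : Subgroup G, S ≠ ⊤ ∧
      (S : Set G) = (A₁ : Set G) * ((MulAut.conj x • B : Subgroup G) : Set G)
  · have hk1 : Nat.card G - Nat.card A₁ < k := by
      have h1 := card_lt hlt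
      have h2 : Nat.card A₁ ≤ Nat.card G := Subgroup.card_le_card_group A₁
      omega
    rcases ih _ hk1 A₁ rfl hall with h2 | h2
    · apply h2
      rw [eq_top_iff, ← hA]
      exact Subgroup.normalClosure_mono (le_sup_left : A ≤ A₁)
    · exact h2 hB
  · push_neg at hall
    obtain ⟨x, hx⟩ := hall
    obtain ⟨S, hSeq⟩ := hperm x
    have hStop : S = ⊤ := by
      by_contra hne
      exact hx S hne hSeq
    apply hL
    have hg : z * x⁻¹ ∈ (S : Set G) := by rw [hStop]; trivial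
    rw [hSeq] at hg
    obtain ⟨l, hl, b', hb', hlb⟩ := Set.mem_mul.mp hg
    have hlL : l ∈ L := hA₁L hl
    have hxL : MulAut.conj x • B ≤ L := by
      intro c hc
      have hc2 : b'⁻¹ * c * b' ∈ MulAut.conj x • B :=
        Subgroup.mul_mem _ (Subgroup.mul_mem _ (Subgroup.inv_mem _ hb') hc) hb'
      rw [mem_conj_smul] at hc2
      have hz : z = l * b' * x := by rw [hlb]; group
      have h3 : z * (x⁻¹ * (b'⁻¹ * c * b') * x) * z⁻¹ ∈ MulAut.conj z • B := by
        rw [mem_conj_smul]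
        simpa [mul_assoc] using hc2
      have h4 := hBL h3
      have e : z * (x⁻¹ * (b'⁻¹ * c * b') * x) * z⁻¹ = l * c * l⁻¹ := by rw [hz]; group
      rw [e] at h4
      have := L.mul_mem (L.mul_mem (L.inv_mem hlL) h4) hlL
      simpa [mul_assoc] using this
    rw [eq_top_iff]
    intro g _
    have hgS : g ∈ (S : Set G) := by rw [hStop]; trivial
    rw [hSeq] at hgS
    obtain ⟨a, ha, c, hc, rfl⟩ := Set.mem_mul.mp hgS
    exact L.mul_mem (hA₁L ha) (hxL hc)


/-- Let A and B be nontrivial subgroups of a finite group G such that for every x the product set of A and xBx⁻¹ is a proper subgroup of G. Then there is a proper normal subgroup of G containing A or containing B. -/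
theorem result {G : Type*} [Group G] [Finite G] (A B : Subgroup G) (hA : A ≠ ⊥) (hB : B ≠ ⊥) (h : ∀ x : G, ∃ S : Subgroup G, S ≠ ⊤ ∧ (S : Set G) = (A : Set G) * ((MulAut.conj x • B : Subgroup G) : Set G)) : ∃ N : Subgroup G, N.Normal ∧ N ≠ ⊤ ∧ (A ≤ N ∨ B ≤ N) := by
  rcases kegel_aux B _ A rfl h with h1 | h1
  · exact ⟨Subgroup.normalClosure (A : Set G), inferInstance, h1, Or.inl Subgroup.le_normalClosure⟩
  · exact ⟨Subgroup.normalClosure (B : Set G), inferInstance, h1, Or.inr Subgroup.le_normalClosure⟩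

end Cfsg.Agent.S0566
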