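import Cfsg.Statements.S0567
import Mathlib

set_option autoImplicit false
open Cfsg

namespace Cfsg.Agent.S0567

open scoped commutatorElement

theorem iter_mono {G : Type*} [Group G] (H K : Subgroup G) (hHK : H ≤ K) (n : ℕ) :
    (fun L : Subgroup G => ⁅L, H⁆)^[n] ⊤ ≤ (fun L : Subgroup G => ⁅L, K⁆)^[n] ⊤ := by
  induction n with
  | zero => simp
  | succ n ih =>
    rw [Function.iterate_succ_apply', Function.iterate_succ_apply']
    exact Subgroup.commutator_mono ih hHK

theorem normalizer_inf_le_sup {G : Type*} [Group G] (A B : Subgroup G) :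
    Subgroup.normalizer (A : Set G) ⊓ Subgroup.normalizer (B : Set G) ≤
      Subgroup.normalizer ((A ⊔ B : Subgroup G) : Set G) := by
  intro g hg
  rw [Subgroup.mem_inf, Subgroup.mem_normalizer_iff_map_conj_eq,
    Subgroup.mem_normalizer_iff_map_conj_eq] at hg
  rw [Subgroup.mem_normalizer_iff_map_conj_eq, Subgroup.map_sup, hg.1, hg.2]

theorem sup_iter_subnormal {G : Type*} [Group G] (H : Subgroup G) (n : ℕ) :
    (H ⊔ (fun L : Subgroup G => ⁅L, H⁆)^[n] ⊤).IsSubnormal := by
  induction n with
  | zero => simp [Subgroup.IsSubnormal.top]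
  | succ n ih =>
    rw [Function.iterate_succ_apply']
    set K := (fun L : Subgroup G => ⁅L, H⁆)^[n] ⊤ with hK
    have hle : H ⊔ ⁅K, H⁆ ≤ H ⊔ K := by
      apply sup_le le_sup_left
      exact (Subgroup.commutator_le_sup K H).trans (by rw [sup_comm])
    refine Subgroup.IsSubnormal.step _ _ hle ih ?_
    rw [Subgroup.normal_subgroupOf_iff_le_normalizer hle]
    apply sup_le
    · -- H normalizes H ⊔ ⁅K,H⁆
      refine le_trans ?_ (normalizer_inf_le_sup H ⁅K, H⁆)
      exact le_inf Subgroup.le_normalizer (Subgroup.normalizer_commutator_ge_right K H)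
    · intro k hk
      have hkC : k ∈ Subgroup.normalizer ((⁅K, H⁆ : Subgroup G) : Set G) :=
        Subgroup.normalizer_commutator_ge_left K H hk
      rw [Subgroup.mem_normalizer_iff_map_conj_eq] at hkC ⊢
      rw [Subgroup.map_sup, hkC]
      apply le_antisymm
      · apply sup_le _ le_sup_right
        rintro _ ⟨h, hh, rfl⟩
        have : (MulAut.conj k).toMonoidHom h = ⁅k, h⁆ * h := by
          simp [commutatorElement_def]
        change (MulAut.conj k).toMonoidHom h ∈ _
        rw [this]
        exact mul_mem (Subgroup.mem_sup_right (Subgroup.commutator_mem_commutator hk hh))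
          (Subgroup.mem_sup_left hh)
      · apply sup_le _ le_sup_right
        intro h hh
        have : h = ⁅k, h⁆⁻¹ * (MulAut.conj k).toMonoidHom h := by
          simp only [commutatorElement_def, MulEquiv.toMonoidHom_eq_coe, MonoidHom.coe_coe,
            MulAut.conj_apply]
          group
        rw [this]
        exact mul_mem (Subgroup.mem_sup_right (inv_mem (Subgroup.commutator_mem_commutator hk hh)))
          (Subgroup.mem_sup_left (Subgroup.mem_map_of_mem _ hh))

/-- A subgroup H of a group G is subnormal exactly when, for some m, the subgroup obtained from G by taking the commutator with H m times in succession is contained in H. -/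
theorem result {G : Type*} [Group G] (H : Subgroup G) : H.IsSubnormal ↔ ∃ m : ℕ, (fun K : Subgroup G => ⁅K, H⁆)^[m] ⊤ ≤ H := by
  constructor
  · intro h
    induction h with
    | top => exact ⟨0, le_refl _⟩
    | step H K h_le hSubn hN ih =>
      obtain ⟨m, hm⟩ := ih
      refine ⟨m + 1, ?_⟩
      rw [Function.iterate_succ_apply']
      have h1 : (fun L : Subgroup G => ⁅L, H⁆)^[m] ⊤ ≤ K := (iter_mono H K h_le m).trans hm
      refine (Subgroup.commutator_mono h1 le_rfl).trans ?_
      rw [← Subgroup.le_normalizer_iff_commutator_le_right]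
      rwa [← Subgroup.normal_subgroupOf_iff_le_normalizer h_le]
  · rintro ⟨m, hm⟩
    have := sup_iter_subnormal H m
    rwa [sup_eq_left.mpr hm] at this

end Cfsg.Agent.S0567
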