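import Cfsg.Statements.S0568
import Mathlib
import Cfsg.Agent.Lib.Lead_SZ
import Cfsg.Agent.Lib.Lead_SysNorm
import Cfsg.Agent.Lib.Lead_Carter
import Cfsg.Agent.Lib.Helper1_MinNormal
import Cfsg.Agent.Lib.Helper4_FixedPoint

set_option autoImplicit false
open Cfsg

namespace Cfsg.Agent.S0568

open Cfsg.Agent.Lib.Lead_SZ Cfsg.Agent.Lib.Lead_SysNorm Cfsg.Agent.Lib.Lead_Carter Cfsg.Agent.Lib.Helper1_MinNormal Cfsg.Agent.Lib.Helper4_FixedPoint

open scoped commutatorElement Pointwise

/-- eccentric minimal normal subgroups are avoided by system normalizers -/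
theorem avoid_minimal {G : Type*} [Group G] [Finite G] [Group.IsSolvable G]
    {K : Nat.Primes → Subgroup G} (hK : IsComplementSystem K) (B : Subgroup G) [hBn : B.Normal]
    (hB : B ≠ ⊥) (hmin : ∀ N : Subgroup G, N.Normal → N ≤ B → N = ⊥ ∨ N = B)
    (hnc : ¬ B ≤ Subgroup.center G) : B ⊓ systemNormalizer K = ⊥ := by
  classical
  obtain ⟨p, d, hp, hd, hcard⟩ := exists_card_eq_prime_pow B hB hmin
  haveI : Fact p.Prime := ⟨hp⟩
  have hBp : IsPGroup p B := IsPGroup.of_card hcard
  set C := Subgroup.centralizer (B : Set G) with hC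
  haveI hCn : C.Normal := Subgroup.normal_centralizer
  have hCtop : C ≠ ⊤ := by
    intro h
    apply hnc
    intro b hb
    rw [Subgroup.mem_center_iff]
    intro g
    have : g ∈ C := h ▸ Subgroup.mem_top g
    exact (Subgroup.mem_centralizer_iff.mp this b hb).symm
  haveI : Nontrivial (G ⧸ C) := by
    rw [← not_subsingleton_iff_nontrivial, QuotientGroup.subsingleton_iff]
    exact hCtop
  obtain ⟨Nb, hNbn, hNb1, -, hNbmin⟩ := exists_minimal_normal (G := G ⧸ C)
  haveI := hNbn
  obtain ⟨r, e, hr, he, hNbcard⟩ := exists_card_eq_prime_pow Nb hNb1 hNbmin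
  haveI : Fact r.Prime := ⟨hr⟩
  have hNbr : IsPGroup r Nb := IsPGroup.of_card hNbcard
  set f := QuotientGroup.mk' C with hf
  have hsurj : Function.Surjective f := QuotientGroup.mk'_surjective C
  set R := Nb.comap f with hR
  haveI hRn : R.Normal := hNbn.comap f
  have hRmap : R.map f = Nb := Subgroup.map_comap_eq_self_of_surjective hsurj Nb
  have hX : B ⊓ Subgroup.centralizer (R : Set G) = ⊥ := by
    haveI : (Subgroup.centralizer (R : Set G)).Normal := Subgroup.normal_centralizer
    rcases hmin (B ⊓ Subgroup.centralizer (R : Set G)) inferInstance inf_le_left with h | h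
    · exact h
    · exfalso
      apply hNb1
      have hBR : B ≤ Subgroup.centralizer (R : Set G) := by rw [← h]; exact inf_le_right
      have hRC : R ≤ C := by
        intro x hx
        rw [hC, Subgroup.mem_centralizer_iff]
        intro b hb
        exact (Subgroup.mem_centralizer_iff.mp (hBR hb) x hx).symm
      rw [← hRmap, eq_bot_iff]
      rintro _ ⟨x, hx, rfl⟩
      rw [Subgroup.mem_bot]
      exact (QuotientGroup.eq_one_iff x).mpr (hRC hx)
  have hrp : r ≠ p := by
    intro hrp
    subst hrp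
    have hRB : ∀ x ∈ R, ∀ w ∈ B, x * w * x⁻¹ ∈ B := fun x _ w hw => hBn.conj_mem w hw x
    have hRp : ∀ x ∈ R, ∃ k : ℕ, x ^ (r ^ k) ∈ Subgroup.centralizer (B : Set G) := by
      intro x hx
      obtain ⟨k, hk⟩ := hNbr ⟨f x, hx⟩
      refine ⟨k, ?_⟩
      have h1 := congrArg Subtype.val hk
      simp only [Subgroup.coe_pow, Subgroup.coe_one] at h1
      rw [← map_pow] at h1
      exact (QuotientGroup.eq_one_iff _).mp h1
    obtain ⟨w, hwB, hw1, hw⟩ := exists_fixed_of_pAction B R hBp hB hRB hRp
    have : w ∈ B ⊓ Subgroup.centralizer (R : Set G) := by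
      refine Subgroup.mem_inf.mpr ⟨hwB, ?_⟩
      rw [Subgroup.mem_centralizer_iff]
      intro x hx
      exact hw x hx
    rw [hX, Subgroup.mem_bot] at this
    exact hw1 this
  let pp : Nat.Primes := ⟨p, hp⟩
  set Kp := K pp with hKp
  have hBK : B ⊓ Kp = ⊥ := by
    have hcop : (Nat.card B).Coprime (Nat.card Kp) := by
      rw [hcard]
      exact Nat.Coprime.pow_left _ ((Nat.Prime.coprime_iff_not_dvd hp).mpr (not_dvd_card hK pp))
    exact (Subgroup.disjoint_of_coprime_natCard hcop).eq_bot
  set W := R ⊓ Kp with hW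
  have hRle : R ≤ C ⊔ W := by
    rw [← Subgroup.relIndex_eq_one]
    have h1 : (C ⊔ W).relIndex R ∣ C.relIndex R := Subgroup.relIndex_dvd_of_le_left R le_sup_left
    have h2 : (C ⊔ W).relIndex R ∣ W.relIndex R := Subgroup.relIndex_dvd_of_le_left R le_sup_right
    have h3 : C.relIndex R = r ^ e := by
      have : C.relIndex R = (⊥ : Subgroup (G ⧸ C)).relIndex (R.map f) := by
        rw [← Subgroup.relIndex_comap, MonoidHom.comap_bot, QuotientGroup.ker_mk']
      rw [this, hRmap, Subgroup.relIndex_bot_left, hNbcard]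
    have h4 : W.relIndex R ∣ p ^ (Nat.card G).factorization p := by
      rw [hW, Subgroup.inf_relIndex_left]
      have := relIndex_dvd_index_of_normal_right Kp R
      rwa [hK pp] at this
    have h5 : (C ⊔ W).relIndex R ∣ Nat.gcd (r ^ e) (p ^ (Nat.card G).factorization p) :=
      Nat.dvd_gcd (h3 ▸ h1) (h2.trans h4)
    have h6 : Nat.Coprime (r ^ e) (p ^ (Nat.card G).factorization p) :=
      Nat.Coprime.pow _ _ ((Nat.coprime_primes hr hp).mpr hrp)
    rw [h6] at h5
    exact Nat.dvd_one.mp h5
  rw [eq_bot_iff, ← hX]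
  intro b hb
  obtain ⟨hbB, hbD⟩ := Subgroup.mem_inf.mp hb
  refine Subgroup.mem_inf.mpr ⟨hbB, ?_⟩
  have hcent : C ⊔ W ≤ Subgroup.centralizer ({b} : Set G) := by
    apply sup_le
    · intro c hc
      rw [Subgroup.mem_centralizer_iff]
      intro y hy
      rw [Set.mem_singleton_iff.mp hy]
      exact Subgroup.mem_centralizer_iff.mp hc b hbB
    · intro w hw
      obtain ⟨hwR, hwK⟩ := Subgroup.mem_inf.mp hw
      rw [Subgroup.mem_centralizer_iff]
      intro y hy
      rw [Set.mem_singleton_iff.mp hy]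
      have hbN : b ∈ Subgroup.normalizer (Kp : Set G) := systemNormalizer_le K pp hbD
      have h1 : b * w * b⁻¹ ∈ Kp := (Subgroup.mem_normalizer_iff.mp hbN w).mp hwK
      have h2 : b * w * b⁻¹ * w⁻¹ ∈ Kp := Kp.mul_mem h1 (Kp.inv_mem hwK)
      have h3 : b * w * b⁻¹ * w⁻¹ ∈ B := by
        have : b * w * b⁻¹ * w⁻¹ = b * (w * b⁻¹ * w⁻¹) := by group
        rw [this]
        exact B.mul_mem hbB (hBn.conj_mem _ (B.inv_mem hbB) w)
      have h4 : b * w * b⁻¹ * w⁻¹ ∈ B ⊓ Kp := Subgroup.mem_inf.mpr ⟨h3, h2⟩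
      rw [hBK, Subgroup.mem_bot] at h4
      calc b * w = (b * w * b⁻¹ * w⁻¹) * (w * b) := by group
        _ = w * b := by rw [h4, one_mul]
  rw [Subgroup.mem_centralizer_iff]
  intro x hx
  exact (Subgroup.mem_centralizer_iff.mp (hcent (hRle hx)) b rfl).symm


/-- Let D be the system normalizer of a Hall complement system of a finite solvable group G, and let A < B be normal subgroups with no normal subgroup of G strictly between them (a chief factor). If G centralizes B modulo A then B ≤ A ⊔ D (D covers the factor); otherwise B ∩ D ≤ A (D avoids it). -/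
theorem result {G : Type*} [Group G] [Finite G] [Group.IsSolvable G] (K : Nat.Primes → Subgroup G) (hK : Cfsg.IsComplementSystem K) (A B : Subgroup G) [A.Normal] [B.Normal] (hAB : A < B) (hchief : ∀ N : Subgroup G, N.Normal → A ≤ N → N ≤ B → N = A ∨ N = B) : (⁅B, (⊤ : Subgroup G)⁆ ≤ A → B ≤ A ⊔ Cfsg.systemNormalizer K) ∧ (¬ ⁅B, (⊤ : Subgroup G)⁆ ≤ A → B ⊓ Cfsg.systemNormalizer K ≤ A) := by
  classical
  set f := QuotientGroup.mk' A with hf
  have hsurj : Function.Surjective f := QuotientGroup.mk'_surjective A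
  have hker : f.ker = A := QuotientGroup.ker_mk' A
  have hKb := isComplementSystem_map hK A
  have hDb := systemNormalizer_map hK A
  have hcentral : ⁅B, (⊤ : Subgroup G)⁆ ≤ A ↔ B.map f ≤ Subgroup.center (G ⧸ A) := by
    constructor
    · intro h
      rintro _ ⟨b, hb, rfl⟩
      rw [Subgroup.mem_center_iff]
      intro y
      obtain ⟨g, rfl⟩ := hsurj y
      rw [← map_mul, ← map_mul]
      show (QuotientGroup.mk (g * b) : G ⧸ A) = QuotientGroup.mk (b * g)
      rw [QuotientGroup.eq]
      have h1 : ⁅b⁻¹, g⁻¹⁆ ∈ ⁅B, (⊤ : Subgroup G)⁆ :=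
        Subgroup.commutator_mem_commutator (B.inv_mem hb) (Subgroup.mem_top _)
      have h2 := h h1
      rw [commutatorElement_def] at h2
      simpa [mul_assoc] using h2
    · intro h
      rw [Subgroup.commutator_le]
      intro b hb g _
      have h1 := Subgroup.mem_center_iff.mp (h (Subgroup.mem_map_of_mem f hb)) (f g)
      rw [← hker, MonoidHom.mem_ker, map_commutatorElement, commutatorElement_def, ← h1]
      group
  constructor
  · intro hcent b hb
    have hfb : f b ∈ Cfsg.systemNormalizer (fun p => (K p).map (QuotientGroup.mk' A)) := by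
      apply Subgroup.mem_iInf.mpr
      intro q
      have hc := hcentral.mp hcent (Subgroup.mem_map_of_mem f hb)
      exact Subgroup.center_le_normalizer _ hc
    rw [hDb] at hfb
    obtain ⟨d, hd, hdb⟩ := hfb
    have hdb' : f d = f b := hdb
    have h1 : d⁻¹ * b ∈ A := by
      rw [← hker, MonoidHom.mem_ker, map_mul, map_inv, hdb']; simp
    have : b = d * (d⁻¹ * b) := by group
    rw [this]
    exact Subgroup.mul_mem _ (Subgroup.mem_sup_right hd) (Subgroup.mem_sup_left h1)
  · intro hecc
    haveI hBbn : (B.map f).Normal := Subgroup.Normal.map inferInstance f hsurj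
    have hBb1 : B.map f ≠ ⊥ := by
      intro h
      rw [Subgroup.map_eq_bot_iff, hker] at h
      exact hAB.not_ge h
    have hBbmin : ∀ N : Subgroup (G ⧸ A), N.Normal → N ≤ B.map f → N = ⊥ ∨ N = B.map f := by
      intro N hN hNB
      have h1 : A ≤ N.comap f := by
        intro a ha
        rw [Subgroup.mem_comap]
        have : f a = 1 := (QuotientGroup.eq_one_iff a).mpr ha
        rw [this]; exact N.one_mem
      have h2 : N.comap f ≤ B := by
        have := Subgroup.comap_mono (f := f) hNB
        rwa [Subgroup.comap_map_eq, hker, sup_eq_left.mpr hAB.le] at this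
      rcases hchief (N.comap f) (hN.comap f) h1 h2 with h | h
      · left
        rw [← Subgroup.map_comap_eq_self_of_surjective hsurj N, h]
        exact (Subgroup.map_eq_bot_iff _).mpr (le_of_eq hker.symm)
      · right
        rw [← Subgroup.map_comap_eq_self_of_surjective hsurj N, h]
    have hnc : ¬ B.map f ≤ Subgroup.center (G ⧸ A) := fun h => hecc (hcentral.mpr h)
    have hav := avoid_minimal hKb (B.map f) hBb1 hBbmin hnc
    intro x hx
    obtain ⟨hxB, hxD⟩ := Subgroup.mem_inf.mp hx
    have h1 : f x ∈ B.map f ⊓ Cfsg.systemNormalizer (fun p => (K p).map (QuotientGroup.mk' A)) := by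
      refine Subgroup.mem_inf.mpr ⟨Subgroup.mem_map_of_mem f hxB, ?_⟩
      rw [hDb]
      exact Subgroup.mem_map_of_mem _ hxD
    rw [hav, Subgroup.mem_bot] at h1
    rw [← hker]
    exact h1

end Cfsg.Agent.S0568
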