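import Cfsg.Statements.S0570
import Mathlib
import Cfsg.Agent.Lib.Lead_SysNorm
import Cfsg.Agent.Lib.Lead_Carter
import Cfsg.Agent.Lib.Lead_Hall
import Cfsg.Agent.Lib.Helper2_HallConverse
import Cfsg.Agent.Lib.Helper4_Kieler0
import Cfsg.Agent.S0568

set_option autoImplicit false
open Cfsg

namespace Cfsg.Agent.S0570

open Cfsg.Agent.Lib.Lead_SysNorm Cfsg.Agent.Lib.Lead_Carter Cfsg.Agent.Lib.Lead_SZ
open scoped Pointwise commutatorElement

universe u

theorem solvable_of {G : Type*} [Group G] (F : Subgroup G) [F.Normal]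
    (hF : Group.IsNilpotent F) (hGF : Group.IsNilpotent (G ⧸ F)) : Group.IsSolvable G :=
  Cfsg.Agent.Lib.Helper2_HallConverse.solvable_of_normal F inferInstance inferInstance

/-- existence of a Hall complement system in a finite solvable group -/
theorem exists_complementSystem {G : Type u} [Group G] [Finite G] [Group.IsSolvable G] :
    ∃ K : Nat.Primes → Subgroup G, Cfsg.IsComplementSystem K := by
  have h : ∀ p : Nat.Primes, ∃ H : Subgroup G,
      H.index = (p : ℕ) ^ (Nat.card G).factorization p := by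
    intro p
    have hne : Nat.card G ≠ 0 := Nat.card_pos.ne'
    have h1 : Nat.card G = (Nat.card G / (p : ℕ) ^ (Nat.card G).factorization p) *
        (p : ℕ) ^ (Nat.card G).factorization p := by
      rw [mul_comm]; exact (Nat.ordProj_mul_ordCompl_eq_self (Nat.card G) p).symm
    have h2 : (Nat.card G / (p : ℕ) ^ (Nat.card G).factorization p).Coprime
        ((p : ℕ) ^ (Nat.card G).factorization p) :=
      ((Nat.coprime_ordCompl p.2 hne).symm).pow_right _
    obtain ⟨⟨H, hH⟩, -, -⟩ := Cfsg.Agent.Lib.Lead_Hall.hall G _ _ h1 h2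
    refine ⟨H, ?_⟩
    have h3 := Subgroup.card_mul_index H
    rw [hH] at h3
    have hpos : 0 < Nat.card G / (p : ℕ) ^ (Nat.card G).factorization p := by
      rcases Nat.eq_zero_or_pos (Nat.card G / (p : ℕ) ^ (Nat.card G).factorization p) with h | h
      · rw [h, zero_mul] at h1; exact absurd h1 hne
      · exact h
    exact Nat.eq_of_mul_eq_mul_left hpos (h3.trans h1)
  exact ⟨fun p => (h p).choose, fun p => (h p).choose_spec⟩

/-- a system normalizer supplements a normal subgroup with nilpotent quotient -/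
theorem sup_eq_top {G : Type*} [Group G] [Finite G] [Group.IsSolvable G] (F : Subgroup G) [F.Normal]
    (hGF : Group.IsNilpotent (G ⧸ F)) {K : Nat.Primes → Subgroup G}
    (hK : Cfsg.IsComplementSystem K) : Cfsg.systemNormalizer K ⊔ F = ⊤ := by
  by_contra hne
  have hnc := normalClosure_systemNormalizer hK
  have h1 : (Cfsg.systemNormalizer K).map (QuotientGroup.mk' F) ≠ ⊤ := by
    intro h
    apply hne
    have := congrArg (Subgroup.comap (QuotientGroup.mk' F)) h
    rwa [Subgroup.comap_map_eq, QuotientGroup.ker_mk', Subgroup.comap_top] at this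
  obtain ⟨M, hM, hDM⟩ := (eq_top_or_exists_le_coatom _).resolve_left h1
  have hMn : M.Normal := (Group.isNilpotent_of_finite_tfae.out 0 2 rfl rfl).mp hGF M hM
  have hM0n : (M.comap (QuotientGroup.mk' F)).Normal := hMn.comap _
  have h2 : Cfsg.systemNormalizer K ≤ M.comap (QuotientGroup.mk' F) :=
    Subgroup.map_le_iff_le_comap.mp hDM
  have h3 : Subgroup.normalClosure ((Cfsg.systemNormalizer K : Subgroup G) : Set G) ≤
      M.comap (QuotientGroup.mk' F) := Subgroup.normalClosure_le_normal h2
  rw [hnc, top_le_iff] at h3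
  apply hM.1
  have := congrArg (Subgroup.map (QuotientGroup.mk' F)) h3
  rwa [Subgroup.map_comap_eq_self_of_surjective (QuotientGroup.mk'_surjective F),
    Subgroup.map_top_of_surjective _ (QuotientGroup.mk'_surjective F)] at this

theorem systemNormalizer_conj {G : Type*} [Group G] (K : Nat.Primes → Subgroup G) (g : G) :
    Cfsg.systemNormalizer (fun p => MulAut.conj g • K p) =
      MulAut.conj g • Cfsg.systemNormalizer K := by
  ext x
  rw [mem_conj_smul]
  unfold Cfsg.systemNormalizer
  rw [Subgroup.mem_iInf, Subgroup.mem_iInf]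
  refine forall_congr' fun p => ?_
  rw [normalizer_conj, mem_conj_smul]

set_option maxHeartbeats 1600000 in
/-- in a group of nilpotent length at most two system normalizers are self-normalizing -/
theorem sn_aux : ∀ (n : ℕ) (G : Type u) [Group G] [Finite G] (F : Subgroup G) [F.Normal],
    Nat.card G = n → Group.IsNilpotent F → Group.IsNilpotent (G ⧸ F) →
    ∀ K : Nat.Primes → Subgroup G, Cfsg.IsComplementSystem K →
    Subgroup.normalizer ((Cfsg.systemNormalizer K : Subgroup G) : Set G) ≤
      Cfsg.systemNormalizer K := by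
  intro n
  induction n using Nat.strong_induction_on with
  | _ n ih =>
  intro G _ _ F _ hn hF hGF K hK
  haveI : Group.IsSolvable G := solvable_of F hF hGF
  obtain ⟨D, hD⟩ : ∃ D : Subgroup G, D = Cfsg.systemNormalizer K := ⟨_, rfl⟩
  rw [← hD]
  have hDF : D ⊔ F = ⊤ := hD ▸ sup_eq_top F hGF hK
  by_cases hFbot : F = ⊥
  · rw [hFbot, sup_bot_eq] at hDF
    rw [hDF]; exact le_top
  obtain ⟨N, hNn, hNne, hNF, hNmin⟩ := exists_minimal_normal_le _ F inferInstance hFbot rfl
  haveI := hNn
  -- `N` is central in `F`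
  have hcomm : ∀ x ∈ N, ∀ f ∈ F, x * f = f * x := by
    haveI := hF
    have hA : N.subgroupOf F ≠ ⊥ := by
      obtain ⟨x, hx1⟩ := (Subgroup.ne_bot_iff_exists_ne_one).mp hNne
      intro h
      have : (⟨x.1, hNF x.2⟩ : F) ∈ N.subgroupOf F := Subgroup.mem_subgroupOf.mpr x.2
      rw [h, Subgroup.mem_bot] at this
      apply hx1
      exact Subtype.ext (congrArg (fun y : F => (y : G)) this)
    obtain ⟨a, haA, haZ, ha1⟩ :=
      Cfsg.Agent.Lib.Helper4_Kieler0.normal_inf_center_ne_bot' (N.subgroupOf F) hA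
    have hZn : ((Subgroup.center ↥F).map F.subtype).Normal := inferInstance
    have hZ₀n : (N ⊓ (Subgroup.center ↥F).map F.subtype).Normal := inferInstance
    have hZ₀ : N ⊓ (Subgroup.center ↥F).map F.subtype = N := by
      rcases hNmin _ hZ₀n inf_le_left with h | h
      · exfalso
        have : (a : G) ∈ N ⊓ (Subgroup.center ↥F).map F.subtype :=
          ⟨Subgroup.mem_subgroupOf.mp haA, ⟨a, haZ, rfl⟩⟩
        rw [h, Subgroup.mem_bot] at this
        exact ha1 (Subtype.ext this)
      · exact h
    intro x hx f hf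
    have hx' : x ∈ (Subgroup.center ↥F).map F.subtype := by
      have : x ∈ N ⊓ (Subgroup.center ↥F).map F.subtype := by rw [hZ₀]; exact hx
      exact this.2
    obtain ⟨z, hz, rfl⟩ := hx'
    have := Subgroup.mem_center_iff.mp hz ⟨f, hf⟩
    exact (congrArg Subtype.val this).symm
  -- the quotient
  have hKb := isComplementSystem_map hK N
  have hDb := systemNormalizer_map hK N
  haveI hFbn : (F.map (QuotientGroup.mk' N)).Normal :=
    Subgroup.Normal.map inferInstance _ (QuotientGroup.mk'_surjective N)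
  have hFbnil : Group.IsNilpotent ↥(F.map (QuotientGroup.mk' N)) := by
    haveI := hF
    exact Group.nilpotent_of_surjective ((QuotientGroup.mk' N).subgroupMap F)
      ((QuotientGroup.mk' N).subgroupMap_surjective F)
  have hGFb : Group.IsNilpotent ((G ⧸ N) ⧸ F.map (QuotientGroup.mk' N)) := by
    haveI := hGF
    exact Group.nilpotent_of_mulEquiv (QuotientGroup.quotientQuotientEquivQuotient N F hNF).symm
  have hIH := ih _ (hn ▸ card_quotient_lt hNne) (G ⧸ N) (F.map (QuotientGroup.mk' N)) rfl
    hFbnil hGFb _ hKb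
  rw [hDb, ← hD] at hIH
  intro x hx
  have hx1 : QuotientGroup.mk' N x ∈
      Subgroup.normalizer ((D.map (QuotientGroup.mk' N) : Subgroup (G ⧸ N)) : Set (G ⧸ N)) :=
    Subgroup.le_normalizer_map (H := D) (QuotientGroup.mk' N) (Subgroup.mem_map_of_mem _ hx)
  obtain ⟨d, hd, hdx⟩ := hIH hx1
  have hn₀N : d⁻¹ * x ∈ N := by
    rw [← QuotientGroup.eq_one_iff, QuotientGroup.mk_mul, QuotientGroup.mk_inv]
    have : (QuotientGroup.mk d : G ⧸ N) = QuotientGroup.mk x := hdx
    rw [this, inv_mul_cancel]
  have hn₀D : d⁻¹ * x ∈ Subgroup.normalizer (D : Set G) :=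
    Subgroup.mul_mem _ (Subgroup.inv_mem _ (Subgroup.le_normalizer hd)) hx
  suffices h : d⁻¹ * x ∈ D by
    have := D.mul_mem hd h
    rwa [mul_inv_cancel_left] at this
  have hchief : ∀ M : Subgroup G, M.Normal → (⊥ : Subgroup G) ≤ M → M ≤ N → M = ⊥ ∨ M = N :=
    fun M hM _ hMN => hNmin M hM hMN
  obtain ⟨hcov, havoid⟩ := Cfsg.Agent.S0568.result K hK ⊥ N (bot_lt_iff_ne_bot.mpr hNne) hchief
  by_cases hcen : ⁅N, (⊤ : Subgroup G)⁆ ≤ ⊥
  · have := hcov hcen
    rw [bot_sup_eq, ← hD] at this
    exact this hn₀N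
  · have hav := havoid hcen
    rw [← hD] at hav
    -- `n₀` centralizes `D`
    have hcD : D ≤ Subgroup.centralizer {d⁻¹ * x} := by
      intro e he
      rw [Subgroup.mem_centralizer_iff]
      intro y hy
      rw [Set.mem_singleton_iff] at hy
      subst hy
      have h1 : (d⁻¹ * x) * e * (d⁻¹ * x)⁻¹ * e⁻¹ ∈ N ⊓ D := by
        refine ⟨?_, ?_⟩
        · have : (d⁻¹ * x) * e * (d⁻¹ * x)⁻¹ * e⁻¹ = (d⁻¹ * x) * (e * (d⁻¹ * x)⁻¹ * e⁻¹) := by
            group
          rw [this]
          exact N.mul_mem hn₀N (hNn.conj_mem _ (N.inv_mem hn₀N) e)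
        · exact D.mul_mem ((Subgroup.mem_normalizer_iff.mp hn₀D e).mp he) (D.inv_mem he)
      have h2 := hav h1
      rw [Subgroup.mem_bot] at h2
      have h3 : (d⁻¹ * x) * e = e * (d⁻¹ * x) := by
        have := congrArg (· * (e * (d⁻¹ * x))) h2
        simpa [mul_assoc] using this
      exact h3
    have hcF : F ≤ Subgroup.centralizer {d⁻¹ * x} := by
      intro f hf
      rw [Subgroup.mem_centralizer_iff]
      intro y hy
      rw [Set.mem_singleton_iff] at hy
      subst hy
      exact hcomm _ hn₀N f hf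
    have hctop : Subgroup.centralizer {d⁻¹ * x} = (⊤ : Subgroup G) := by
      rw [eq_top_iff, ← hDF]; exact sup_le hcD hcF
    have hcenter : d⁻¹ * x ∈ Subgroup.center G := by
      rw [Subgroup.mem_center_iff]
      intro g
      have hg : g ∈ Subgroup.centralizer {d⁻¹ * x} := by rw [hctop]; trivial
      exact (Subgroup.mem_centralizer_iff.mp hg _ (Set.mem_singleton _)).symm
    have hZ₁n : (N ⊓ Subgroup.center G).Normal := inferInstance
    rcases hNmin _ hZ₁n inf_le_left with h | h
    · have : d⁻¹ * x ∈ N ⊓ Subgroup.center G := ⟨hn₀N, hcenter⟩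
      rw [h, Subgroup.mem_bot] at this
      rw [this]; exact D.one_mem
    · exfalso
      apply hcen
      rw [Subgroup.commutator_le]
      intro a ha g _
      have haZ : a ∈ Subgroup.center G := by
        have : a ∈ N ⊓ Subgroup.center G := by rw [h]; exact ha
        exact this.2
      rw [Subgroup.mem_bot, commutatorElement_def]
      have := Subgroup.mem_center_iff.mp haZ g
      rw [← this]; group


/-- Let G be a finite group with a nilpotent normal subgroup F such that G modulo F is nilpotent (nilpotent length at most two). Then a subgroup of G is a Carter subgroup if and only if it is the system normalizer of some Hall complement system. -/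
theorem result {G : Type*} [Group G] [Finite G] (F : Subgroup G) [F.Normal] (hF : Group.IsNilpotent F) (hGF : Group.IsNilpotent (G ⧸ F)) (C : Subgroup G) : Cfsg.IsCarterSubgroup C ↔ ∃ K : Nat.Primes → Subgroup G, Cfsg.IsComplementSystem K ∧ C = Cfsg.systemNormalizer K := by
  haveI : Group.IsSolvable G := solvable_of F hF hGF
  constructor
  · intro hC
    obtain ⟨K₀, hK₀⟩ := exists_complementSystem (G := G)
    have hD₀ : IsCarter (Cfsg.systemNormalizer K₀) :=
      ⟨systemNormalizer_nilpotent hK₀,
        le_antisymm (sn_aux _ G F rfl hF hGF K₀ hK₀) Subgroup.le_normalizer⟩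
    obtain ⟨g, hg⟩ := (carter_main _ G rfl).2 _ _ hD₀ hC
    refine ⟨fun p => MulAut.conj g • K₀ p, isComplementSystem_conj hK₀ g, ?_⟩
    rw [systemNormalizer_conj, hg]
  · rintro ⟨K, hK, rfl⟩
    exact ⟨systemNormalizer_nilpotent hK,
      le_antisymm (sn_aux _ G F rfl hF hGF K hK) Subgroup.le_normalizer⟩

end Cfsg.Agent.S0570
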