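import Cfsg.Statements.S0569
import Mathlib
import Mathlib
import Cfsg.Agent.Lib.Lead_CarterSN
import Cfsg.Agent.S0570

set_option autoImplicit false
open Cfsg

namespace Cfsg.Agent.S0569

open Cfsg.Agent.Lib.Lead_SZ Cfsg.Agent.Lib.Lead_SysNorm Cfsg.Agent.Lib.Lead_Carter Cfsg.Agent.Lib.Lead_CarterSN
open scoped Pointwise


/-- In a finite solvable group: each nilpotent self-normalizing subgroup contains the system normalizer of some Hall complement system, and the system normalizer of any Hall complement system lies in some nilpotent self-normalizing subgroup. -/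
theorem result {G : Type*} [Group G] [Finite G] [Group.IsSolvable G] : (∀ C : Subgroup G, Cfsg.IsCarterSubgroup C → ∃ K : Nat.Primes → Subgroup G, Cfsg.IsComplementSystem K ∧ Cfsg.systemNormalizer K ≤ C) ∧ ∀ K : Nat.Primes → Subgroup G, Cfsg.IsComplementSystem K → ∃ C : Subgroup G, Cfsg.IsCarterSubgroup C ∧ Cfsg.systemNormalizer K ≤ C := by
  constructor
  · intro C hC
    obtain ⟨K, hK, hred⟩ := exists_red C
    exact ⟨K, hK, main _ G rfl C K hC hK hred⟩
  · intro K hK
    obtain ⟨⟨C₀, hC₀⟩, -⟩ := carter_main _ G rfl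
    obtain ⟨K₀, hK₀, hred⟩ := exists_red C₀
    have hD₀ := main _ G rfl C₀ K₀ hC₀ hK₀ hred
    obtain ⟨g, hg⟩ := exists_conj hK₀ hK
    refine ⟨MulAut.conj g • C₀, hC₀.conj g, ?_⟩
    have hKeq : K = fun p => MulAut.conj g • K₀ p := funext fun p => (hg p).symm
    rw [hKeq, Cfsg.Agent.S0570.systemNormalizer_conj]
    exact conj_smul_mono g hD₀

end Cfsg.Agent.S0569
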