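import Cfsg.Statements.S0572
import Mathlib

set_option autoImplicit false
open Cfsg

namespace Cfsg.Agent.S0572

open scoped commutatorElement

section
variable {G : Type*} [Group G] (A B : Subgroup G)

theorem L1 (hA : ∀ x ∈ A, ∀ y ∈ A, x * y = y * x)
    {a1 a a2 b b2 : G} (ha1 : a1 ∈ A) (ha : a ∈ A) (ha2 : a2 ∈ A)
    (h : a1 * b * a1⁻¹ = b2 * a2) : a1 * ⁅a, b⁆ * a1⁻¹ = ⁅a, b2⁆ := by
  rw [conjugate_commutatorElement, h]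
  have h1 : a1 * a * a1⁻¹ = a := by rw [hA a1 ha1 a ha, mul_inv_cancel_right]
  rw [h1, commutatorElement_mul_right_eq_mul_conj]
  have h2 : ⁅a, a2⁆ = 1 := by
    rw [commutatorElement_eq_one_iff_mul_comm]; exact hA a ha a2 ha2
  rw [h2]; group

theorem L2 (hB : ∀ x ∈ B, ∀ y ∈ B, x * y = y * x)
    {b1 b b3 a a3 : G} (hb1 : b1 ∈ B) (hb : b ∈ B) (hb3 : b3 ∈ B)
    (h : b1 * a * b1⁻¹ = a3 * b3) : b1 * ⁅a, b⁆ * b1⁻¹ = ⁅a3, b⁆ := by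
  rw [conjugate_commutatorElement, h]
  have h1 : b1 * b * b1⁻¹ = b := by rw [hB b1 hb1 b hb, mul_inv_cancel_right]
  rw [h1, commutatorElement_mul_left_eq_conj_mul]
  have h2 : ⁅b3, b⁆ = 1 := by
    rw [commutatorElement_eq_one_iff_mul_comm]; exact hB b3 hb3 b hb
  rw [h2]; group

end

/-- Itô's Theorem: if a group G is the product AB of two abelian subgroups, then the commutator subgroup of G is abelian, i.e. the second term of the derived series is trivial. -/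
theorem result {G : Type*} [Group G] (A B : Subgroup G) [IsMulCommutative A] [IsMulCommutative B] (hAB : ∀ g : G, ∃ a ∈ A, ∃ b ∈ B, g = a * b) : derivedSeries G 2 = ⊥ := by
  have hA : ∀ x ∈ A, ∀ y ∈ A, x * y = y * x := fun x hx y hy =>
    congrArg Subtype.val (mul_comm' (⟨x, hx⟩ : A) ⟨y, hy⟩)
  have hB : ∀ x ∈ B, ∀ y ∈ B, x * y = y * x := fun x hx y hy =>
    congrArg Subtype.val (mul_comm' (⟨x, hx⟩ : B) ⟨y, hy⟩)
  have hBA : ∀ g : G, ∃ b ∈ B, ∃ a ∈ A, g = b * a := by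
    intro g
    obtain ⟨a, ha, b, hb, h⟩ := hAB g⁻¹
    refine ⟨b⁻¹, B.inv_mem hb, a⁻¹, A.inv_mem ha, ?_⟩
    rw [← mul_inv_rev, ← h, inv_inv]
  -- the generating set
  set S : Set G := {x | ∃ a ∈ A, ∃ b ∈ B, ⁅a, b⁆ = x} with hS
  -- closed under conjugation by A and B
  have conjA : ∀ a1 ∈ A, ∀ s ∈ S, a1 * s * a1⁻¹ ∈ S := by
    rintro a1 ha1 _ ⟨a, ha, b, hb, rfl⟩
    obtain ⟨b2, hb2, a2, ha2, h⟩ := hBA (a1 * b * a1⁻¹)
    exact ⟨a, ha, b2, hb2, (L1 A hA ha1 ha ha2 h).symm⟩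
  have conjB : ∀ b1 ∈ B, ∀ s ∈ S, b1 * s * b1⁻¹ ∈ S := by
    rintro b1 hb1 _ ⟨a, ha, b, hb, rfl⟩
    obtain ⟨a3, ha3, b3, hb3, h⟩ := hAB (b1 * a * b1⁻¹)
    exact ⟨a3, ha3, b, hb, (L2 B hB hb1 hb hb3 h).symm⟩
  have conjG : ∀ g : G, ∀ s ∈ S, g * s * g⁻¹ ∈ S := by
    intro g s hs
    obtain ⟨a, ha, b, hb, rfl⟩ := hAB g
    have := conjA a ha _ (conjB b hb s hs)
    have h2 : a * b * s * (a * b)⁻¹ = a * (b * s * b⁻¹) * a⁻¹ := by group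
    rw [h2]; exact this
  -- elements of S commute
  have key : ∀ a ∈ A, ∀ b ∈ B, ∀ a1 ∈ A, ∀ b1 ∈ B,
      ⁅a1⁻¹, b1⁻¹⁆ * ⁅a, b⁆ = ⁅a, b⁆ * ⁅a1⁻¹, b1⁻¹⁆ := by
    intro a ha b hb a1 ha1 b1 hb1
    obtain ⟨b2, hb2, a2, ha2, h12⟩ := hBA (a1 * b * a1⁻¹)
    obtain ⟨a3, ha3, b3, hb3, h33⟩ := hAB (b1 * a * b1⁻¹)
    have e1 : b1 * (a1 * ⁅a, b⁆ * a1⁻¹) * b1⁻¹ = ⁅a3, b2⁆ := by
      rw [L1 A hA ha1 ha ha2 h12, L2 B hB hb1 hb2 hb3 h33]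
    have e2 : a1 * (b1 * ⁅a, b⁆ * b1⁻¹) * a1⁻¹ = ⁅a3, b2⁆ := by
      rw [L2 B hB hb1 hb hb3 h33, L1 A hA ha1 ha3 ha2 h12]
    have X : b1 * (a1 * ⁅a, b⁆ * a1⁻¹) * b1⁻¹ = a1 * (b1 * ⁅a, b⁆ * b1⁻¹) * a1⁻¹ := by
      rw [e1, e2]
    generalize ⁅a, b⁆ = c at X
    have hw : ⁅a1⁻¹, b1⁻¹⁆ * c * ⁅a1⁻¹, b1⁻¹⁆⁻¹ = c := by
      calc ⁅a1⁻¹, b1⁻¹⁆ * c * ⁅a1⁻¹, b1⁻¹⁆⁻¹
          = a1⁻¹ * b1⁻¹ * (a1 * (b1 * c * b1⁻¹) * a1⁻¹) * b1 * a1 := by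
            rw [commutatorElement_def]; group
        _ = a1⁻¹ * b1⁻¹ * (b1 * (a1 * c * a1⁻¹) * b1⁻¹) * b1 * a1 := by rw [X]
        _ = c := by group
    calc ⁅a1⁻¹, b1⁻¹⁆ * c = (⁅a1⁻¹, b1⁻¹⁆ * c * ⁅a1⁻¹, b1⁻¹⁆⁻¹) * ⁅a1⁻¹, b1⁻¹⁆ := by group
      _ = c * ⁅a1⁻¹, b1⁻¹⁆ := by rw [hw]
  have hScomm : ∀ x ∈ S, ∀ y ∈ S, x * y = y * x := by
    rintro _ ⟨a1, ha1, b1, hb1, rfl⟩ _ ⟨a, ha, b, hb, rfl⟩
    have := key a ha b hb a1⁻¹ (A.inv_mem ha1) b1⁻¹ (B.inv_mem hb1)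
    rwa [inv_inv, inv_inv] at this
  set N := Subgroup.closure S with hN
  have hNcomm : IsMulCommutative N := Subgroup.isMulCommutative_closure hScomm
  have hNnormal : N.Normal := by
    constructor
    intro n hn g
    induction hn using Subgroup.closure_induction with
    | mem x hx => exact Subgroup.subset_closure (conjG g x hx)
    | one => simp
    | mul x y _ _ hx hy =>
      have : g * (x * y) * g⁻¹ = (g * x * g⁻¹) * (g * y * g⁻¹) := by group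
      rw [this]; exact N.mul_mem hx hy
    | inv x _ hx =>
      have : g * x⁻¹ * g⁻¹ = (g * x * g⁻¹)⁻¹ := by group
      rw [this]; exact N.inv_mem hx
  -- commutator subgroup ≤ N
  have hAg : ∀ a ∈ A, ∀ g : G, ⁅a, g⁆ ∈ N := by
    intro a ha g
    obtain ⟨a2, ha2, b2, hb2, rfl⟩ := hAB g
    rw [commutatorElement_mul_right_eq_mul_conj]
    have h2 : ⁅a, a2⁆ = 1 := by
      rw [commutatorElement_eq_one_iff_mul_comm]; exact hA a ha a2 ha2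
    rw [h2, one_mul]
    exact hNnormal.conj_mem _ (Subgroup.subset_closure ⟨a, ha, b2, hb2, rfl⟩) a2
  have hBg : ∀ b ∈ B, ∀ g : G, ⁅b, g⁆ ∈ N := by
    intro b hb g
    obtain ⟨a2, ha2, b2, hb2, rfl⟩ := hAB g
    rw [commutatorElement_mul_right_eq_mul_conj]
    have h2 : ⁅b, b2⁆ = 1 := by
      rw [commutatorElement_eq_one_iff_mul_comm]; exact hB b hb b2 hb2
    rw [h2, mul_one, mul_inv_cancel_right, ← commutatorElement_inv]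
    exact N.inv_mem (Subgroup.subset_closure ⟨a2, ha2, b, hb, rfl⟩)
  have hcomm : commutator G ≤ N := by
    rw [commutator_def, Subgroup.commutator_le]
    intro g1 _ g2 _
    obtain ⟨a1, ha1, b1, hb1, rfl⟩ := hAB g1
    rw [commutatorElement_mul_left_eq_conj_mul]
    exact N.mul_mem (hNnormal.conj_mem _ (hBg b1 hb1 g2) a1) (hAg a1 ha1 g2)
  rw [derivedSeries_succ, derivedSeries_one, eq_bot_iff]
  calc ⁅commutator G, commutator G⁆ ≤ ⁅N, N⁆ := Subgroup.commutator_mono hcomm hcomm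
    _ = ⊥ := Subgroup.commutator_self_eq_bot_iff.mpr hNcomm

end Cfsg.Agent.S0572
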