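import Cfsg.Statements.S0573
import Mathlib
import Cfsg.Agent.S0572
import Cfsg.Agent.Lib.Helper4_Kieler0

set_option autoImplicit false
open Cfsg

namespace Cfsg.Agent.S0573

open scoped commutatorElement

section
variable {G : Type*} [Group G]

/-- A subgroup consisting of central elements is normal. -/
theorem normal_of_central {N : Subgroup G} (h : ∀ n ∈ N, ∀ g : G, g * n = n * g) : N.Normal := by
  constructor
  intro n hn g
  rw [h n hn g, mul_inv_cancel_right]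
  exact hn

/-- In an abelian normal subgroup `V` containing all commutators, the fixed points of any set `D`
in a normal subgroup `M ≤ V` form a normal subgroup. -/
theorem fix_normal {V M : Subgroup G} (hVc : ∀ x ∈ V, ∀ y ∈ V, x * y = y * x)
    (hVcomm : ∀ g h : G, g * h * g⁻¹ * h⁻¹ ∈ V) (hMV : M ≤ V) (hM : M.Normal) (D : Set G) :
    (M ⊓ Subgroup.centralizer D).Normal := by
  constructor
  intro n hn g
  obtain ⟨hnM, hnD⟩ := Subgroup.mem_inf.mp hn
  refine Subgroup.mem_inf.mpr ⟨hM.conj_mem n hnM g, ?_⟩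
  rw [Subgroup.mem_centralizer_iff] at hnD ⊢
  intro d hd
  have hdn : d * n = n * d := hnD d hd
  set c : G := g⁻¹ * d * g * d⁻¹ with hc
  have hcV : c ∈ V := by
    have := hVcomm g⁻¹ d
    rwa [inv_inv] at this
  have hcn : c * n = n * c := hVc c hcV n (hMV hnM)
  have e1 : d * (g * n * g⁻¹) = g * (c * (d * n)) * g⁻¹ := by
    simp only [hc]; group
  have e2 : g * n * g⁻¹ * d = g * (n * (c * d)) * g⁻¹ := by
    simp only [hc]; group
  rw [e1, e2, hdn, ← mul_assoc c n d, hcn, mul_assoc n c d]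

/-- A `p`-subgroup acting on a non-trivial normal `p`-subgroup has non-trivial fixed points. -/
theorem fix_ne_bot [Finite G] {p : ℕ} [Fact p.Prime] {M D : Subgroup G} (hM : M.Normal)
    (hMp : IsPGroup p M) (hM1 : M ≠ ⊥) (hD : IsPGroup p D) :
    M ⊓ Subgroup.centralizer (D : Set G) ≠ ⊥ := by
  have := hM
  have hT : IsPGroup p (D ⊔ M : Subgroup G) := hD.to_sup_of_normal_right hMp
  have : Group.IsNilpotent (D ⊔ M : Subgroup G) := hT.isNilpotent
  obtain ⟨m, hmM, hm1⟩ := (Subgroup.ne_bot_iff_exists_ne_one).mp hM1 |> fun ⟨x, hx⟩ =>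
    (⟨x.1, x.2, fun h => hx (Subtype.ext h)⟩ : ∃ m : G, m ∈ M ∧ m ≠ 1)
  have hM' : M.subgroupOf (D ⊔ M) ≠ ⊥ := by
    intro h
    have : (⟨m, (le_sup_right : M ≤ D ⊔ M) hmM⟩ : (D ⊔ M : Subgroup G)) ∈ M.subgroupOf (D ⊔ M) := by
      rw [Subgroup.mem_subgroupOf]; exact hmM
    rw [h, Subgroup.mem_bot] at this
    exact hm1 (congrArg Subtype.val this)
  have : (M.subgroupOf (D ⊔ M)).Normal := hM.subgroupOf _
  obtain ⟨a, haM, haZ, ha1⟩ :=
    Cfsg.Agent.Lib.Helper4_Kieler0.normal_inf_center_ne_bot' (M.subgroupOf (D ⊔ M)) hM'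
  intro hbot
  have : (a : G) ∈ M ⊓ Subgroup.centralizer (D : Set G) := by
    refine Subgroup.mem_inf.mpr ⟨Subgroup.mem_subgroupOf.mp haM, ?_⟩
    rw [Subgroup.mem_centralizer_iff]
    intro d hd
    have := Subgroup.mem_center_iff.mp haZ ⟨d, (le_sup_left : D ≤ D ⊔ M) hd⟩
    exact congrArg Subtype.val this
  rw [hbot, Subgroup.mem_bot] at this
  exact ha1 (Subtype.ext this)

/-- If `G = A B`, then the index of a subgroup `K ⊇ A` equals its relative index in `B`. -/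
theorem index_eq_relIndex_of_mul {A B K : Subgroup G} (hAB : ∀ g : G, ∃ a ∈ A, ∃ b ∈ B, g = a * b)
    (hAK : A ≤ K) : K.index = K.relIndex B := by
  have hBA : ∀ g : G, ∃ b ∈ B, ∃ a ∈ A, g = b * a := by
    intro g
    obtain ⟨a, ha, b, hb, h⟩ := hAB g⁻¹
    refine ⟨b⁻¹, B.inv_mem hb, a⁻¹, A.inv_mem ha, ?_⟩
    rw [← mul_inv_rev, ← h, inv_inv]
  have hstab : MulAction.stabilizer B ((1 : G) : G ⧸ K) = K.subgroupOf B := by
    ext b
    rw [MulAction.mem_stabilizer_iff, Subgroup.mem_subgroupOf]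
    change ((b : G) • ((1 : G) : G ⧸ K)) = _ ↔ _
    rw [MulAction.Quotient.smul_mk, QuotientGroup.eq, smul_eq_mul, mul_one]
    constructor
    · intro h
      have := K.inv_mem h
      rwa [mul_inv_rev, inv_one, one_mul, inv_inv] at this
    · intro h
      rw [mul_one]
      exact K.inv_mem h
  have horb : MulAction.orbit B ((1 : G) : G ⧸ K) = Set.univ := by
    ext x
    simp only [Set.mem_univ, iff_true]
    induction x using QuotientGroup.induction_on with
    | H g =>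
      obtain ⟨b, hb, a, ha, rfl⟩ := hBA g
      refine ⟨⟨b, hb⟩, ?_⟩
      change (b : G) • ((1 : G) : G ⧸ K) = _
      rw [MulAction.Quotient.smul_mk, QuotientGroup.eq, smul_eq_mul, mul_one]
      simp only [inv_mul_cancel_left]
      exact hAK ha
  rw [Subgroup.relIndex, ← hstab, MulAction.index_stabilizer, horb, Set.ncard_univ,
    Subgroup.index_eq_card]

/-- If `G = A B` and `C` is normal, `p` does not divide `|G : C|` as soon as it divides neither
`|A : A ∩ C|` nor `|B : B ∩ C|`. -/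
theorem not_dvd_index_of_mul {p : ℕ} (hp : p.Prime) {A B C : Subgroup G} [C.Normal]
    (hAB : ∀ g : G, ∃ a ∈ A, ∃ b ∈ B, g = a * b)
    (hA : ¬ p ∣ C.relIndex A) (hB : ¬ p ∣ C.relIndex B) : ¬ p ∣ C.index := by
  have h1 : C.relIndex (A ⊔ C) * (A ⊔ C).index = C.index :=
    Subgroup.relIndex_mul_index le_sup_right
  have h2 : C.relIndex (A ⊔ C) = C.relIndex A := Subgroup.relIndex_sup_right A C
  have h3 : (A ⊔ C).index = (A ⊔ C).relIndex B := index_eq_relIndex_of_mul hAB le_sup_left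
  have h4 : (A ⊔ C).relIndex B ∣ C.relIndex B :=
    Subgroup.relIndex_dvd_of_le_left B (le_sup_right : C ≤ A ⊔ C)
  intro hdvd
  rw [← h1, h2, h3] at hdvd
  rcases (Nat.Prime.dvd_mul hp).mp hdvd with h | h
  · exact hA h
  · exact hB (h.trans h4)

end

section
variable {G : Type*} [Group G]

/-- If `G = A B` with `A ∩ B = 1` and `M` is a normal subgroup with `M ∩ B = 1`, then
`A ∩ M B` has the same order as `M`. -/
theorem card_factor {A B M : Subgroup G} [hMn : M.Normal]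
    (hAB : ∀ g : G, ∃ a ∈ A, ∃ b ∈ B, g = a * b)
    (hABbot : ∀ x ∈ A, x ∈ B → x = 1) (hMB : ∀ x ∈ M, x ∈ B → x = 1) :
    Nat.card (A ⊓ (M ⊔ B) : Subgroup G) = Nat.card M := by
  have hex : ∀ m : M, ∃ a : (A ⊓ (M ⊔ B) : Subgroup G), ∃ b ∈ B, (m : G) = (a : G) * b := by
    intro m
    obtain ⟨a, ha, b, hb, h⟩ := hAB (m : G)
    have ha' : a ∈ M ⊔ B := by
      refine Subgroup.mem_sup_of_normal_left.mpr ⟨m, m.2, b⁻¹, B.inv_mem hb, ?_⟩
      rw [h, mul_inv_cancel_right]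
    exact ⟨⟨a, Subgroup.mem_inf.mpr ⟨ha, ha'⟩⟩, b, hb, h⟩
  choose f b hb hf using hex
  have hinj : Function.Injective f := by
    intro m m' hmm
    have h1 := hf m
    have h2 := hf m'
    rw [hmm] at h1
    have h3 : (m : G)⁻¹ * (m' : G) = (b m)⁻¹ * b m' := by
      rw [h1, h2]; group
    have h4 : (m : G)⁻¹ * (m' : G) = 1 :=
      hMB _ (M.mul_mem (M.inv_mem m.2) m'.2) (h3 ▸ B.mul_mem (B.inv_mem (hb m)) (hb m'))
    apply Subtype.ext
    rw [inv_mul_eq_one] at h4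
    exact h4
  have hsurj : Function.Surjective f := by
    rintro ⟨a, ha⟩
    obtain ⟨haA, haMB⟩ := Subgroup.mem_inf.mp ha
    obtain ⟨m, hm, b', hb', hmb⟩ := Subgroup.mem_sup_of_normal_left.mp haMB
    refine ⟨⟨m, hm⟩, ?_⟩
    generalize hmm : (⟨m, hm⟩ : M) = mm
    have hmmv : (mm : G) = m := by rw [← hmm]
    have h1 : m = (f mm : G) * b mm := by rw [← hmmv]; exact hf mm
    have hfA : (f mm : G) ∈ A := (Subgroup.mem_inf.mp (f mm).2).1
    have h2 : a⁻¹ * (f mm : G) = b'⁻¹ * (b mm)⁻¹ := by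
      have e : (f mm : G) * b mm = a * b'⁻¹ := by rw [← h1, ← hmb, mul_inv_cancel_right]
      calc a⁻¹ * (f mm : G) = a⁻¹ * ((f mm : G) * b mm) * (b mm)⁻¹ := by group
        _ = a⁻¹ * (a * b'⁻¹) * (b mm)⁻¹ := by rw [e]
        _ = b'⁻¹ * (b mm)⁻¹ := by group
    have h3 : a⁻¹ * (f mm : G) = 1 :=
      hABbot _ (A.mul_mem (A.inv_mem haA) hfA)
        (h2 ▸ B.mul_mem (B.inv_mem hb') (B.inv_mem (hb mm)))
    apply Subtype.ext
    rw [inv_mul_eq_one] at h3
    exact h3.symm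
  exact (Nat.card_congr (Equiv.ofBijective f ⟨hinj, hsurj⟩)).symm

end

section
variable {G : Type*} [Group G]

theorem core [Finite G] [Nontrivial G] (A B : Subgroup G)
    (hA : ∀ x ∈ A, ∀ y ∈ A, x * y = y * x) (hB : ∀ x ∈ B, ∀ y ∈ B, x * y = y * x)
    (hAB : ∀ g : G, ∃ a ∈ A, ∃ b ∈ B, g = a * b)
    (V : Subgroup G) (hVn : V.Normal) (hVc : ∀ x ∈ V, ∀ y ∈ V, x * y = y * x)
    (hVcomm : ∀ g h : G, g * h * g⁻¹ * h⁻¹ ∈ V) :
    ∃ N : Subgroup G, N.Normal ∧ N ≠ ⊥ ∧ (N ≤ A ∨ N ≤ B) := by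
  by_contra hno
  have hno' : ∀ N : Subgroup G, N.Normal → (N ≤ A ∨ N ≤ B) → N = ⊥ := by
    intro N hN h
    by_contra h1
    exact hno ⟨N, hN, h1, h⟩
  -- central elements of A and B are trivial
  have hcentral_normal : ∀ K : Subgroup G, (K ⊓ Subgroup.center G).Normal := by
    intro K
    apply normal_of_central
    intro n hn g
    exact Subgroup.mem_center_iff.mp (Subgroup.mem_inf.mp hn).2 g
  have hAZ : ∀ x ∈ A, (∀ g : G, g * x = x * g) → x = 1 := by
    intro x hx hc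
    have h1 := hno' (A ⊓ Subgroup.center G) (hcentral_normal A) (Or.inl inf_le_left)
    have : x ∈ A ⊓ Subgroup.center G := Subgroup.mem_inf.mpr ⟨hx, Subgroup.mem_center_iff.mpr hc⟩
    rw [h1, Subgroup.mem_bot] at this
    exact this
  have hBZ : ∀ x ∈ B, (∀ g : G, g * x = x * g) → x = 1 := by
    intro x hx hc
    have h1 := hno' (B ⊓ Subgroup.center G) (hcentral_normal B) (Or.inr inf_le_left)
    have : x ∈ B ⊓ Subgroup.center G := Subgroup.mem_inf.mpr ⟨hx, Subgroup.mem_center_iff.mpr hc⟩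
    rw [h1, Subgroup.mem_bot] at this
    exact this
  -- an element commuting with A and B is central
  have hcen : ∀ x : G, (∀ a ∈ A, a * x = x * a) → (∀ b ∈ B, b * x = x * b) →
      ∀ g : G, g * x = x * g := by
    intro x h1 h2 g
    obtain ⟨a, ha, b, hb, rfl⟩ := hAB g
    rw [mul_assoc, h2 b hb, ← mul_assoc, h1 a ha, mul_assoc]
  have hABbot : ∀ x ∈ A, x ∈ B → x = 1 := by
    intro x hxA hxB
    exact hAZ x hxA (hcen x (fun a ha => hA a ha x hxA) (fun b hb => hB b hb x hxB))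
  -- A and B are self-centralizing
  have hCA : ∀ x : G, (∀ a ∈ A, a * x = x * a) → x ∈ A := by
    intro x hx
    obtain ⟨a₀, ha₀, b₀, hb₀, rfl⟩ := hAB x
    have hb1 : b₀ = 1 := by
      apply hBZ b₀ hb₀
      apply hcen b₀
      · intro a ha
        have h1 := hx a ha
        have h2 := hA a ha a₀ ha₀
        -- a * (a₀ * b₀) = (a₀ * b₀) * a, a * a₀ = a₀ * a
        have : a₀ * (a * b₀) = a₀ * (b₀ * a) := by
          rw [← mul_assoc, ← h2, mul_assoc, h1, mul_assoc]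
        exact mul_left_cancel this
      · intro b hb
        exact hB b hb b₀ hb₀
    rw [hb1, mul_one]
    exact ha₀
  have hCB : ∀ x : G, (∀ b ∈ B, b * x = x * b) → x ∈ B := by
    intro x hx
    obtain ⟨a₀, ha₀, b₀, hb₀, rfl⟩ := hAB x
    have ha1 : a₀ = 1 := by
      apply hAZ a₀ ha₀
      apply hcen a₀
      · intro a ha
        exact hA a ha a₀ ha₀
      · intro b hb
        have h1 := hx b hb
        have h2 := hB b hb b₀ hb₀
        have : (b * a₀) * b₀ = (a₀ * b) * b₀ := by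
          rw [mul_assoc a₀, h2, ← mul_assoc a₀, ← h1, mul_assoc]
        exact mul_right_cancel this
    rw [ha1, one_mul]
    exact hb₀
  -- fixed points of A, B on V are trivial
  have hVA : ∀ x ∈ V, (∀ a ∈ A, a * x = x * a) → x = 1 := by
    intro x hxV hx
    have hN : (V ⊓ Subgroup.centralizer (A : Set G)).Normal :=
      fix_normal hVc hVcomm le_rfl hVn (A : Set G)
    have hle : V ⊓ Subgroup.centralizer (A : Set G) ≤ A := by
      intro y hy
      exact hCA y (fun a ha => Subgroup.mem_centralizer_iff.mp (Subgroup.mem_inf.mp hy).2 a ha)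
    have h1 := hno' _ hN (Or.inl hle)
    have : x ∈ V ⊓ Subgroup.centralizer (A : Set G) :=
      Subgroup.mem_inf.mpr ⟨hxV, Subgroup.mem_centralizer_iff.mpr hx⟩
    rw [h1, Subgroup.mem_bot] at this
    exact this
  have hVB : ∀ x ∈ V, (∀ b ∈ B, b * x = x * b) → x = 1 := by
    intro x hxV hx
    have hN : (V ⊓ Subgroup.centralizer (B : Set G)).Normal :=
      fix_normal hVc hVcomm le_rfl hVn (B : Set G)
    have hle : V ⊓ Subgroup.centralizer (B : Set G) ≤ B := by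
      intro y hy
      exact hCB y (fun a ha => Subgroup.mem_centralizer_iff.mp (Subgroup.mem_inf.mp hy).2 a ha)
    have h1 := hno' _ hN (Or.inr hle)
    have : x ∈ V ⊓ Subgroup.centralizer (B : Set G) :=
      Subgroup.mem_inf.mpr ⟨hxV, Subgroup.mem_centralizer_iff.mpr hx⟩
    rw [h1, Subgroup.mem_bot] at this
    exact this
  have hVAbot : ∀ x ∈ V, x ∈ A → x = 1 := fun x hxV hxA =>
    hVA x hxV (fun a ha => hA a ha x hxA)
  have hVBbot : ∀ x ∈ V, x ∈ B → x = 1 := fun x hxV hxB =>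
    hVB x hxV (fun b hb => hB b hb x hxB)
  -- V is non-trivial
  have hV1 : V ≠ ⊥ := by
    intro hV
    have hcomm : ∀ g h : G, g * h = h * g := by
      intro g h
      have := hVcomm g h
      rw [hV, Subgroup.mem_bot] at this
      have h2 : g * h * g⁻¹ = h := by
        rw [mul_inv_eq_one] at this
        exact this
      rw [mul_inv_eq_iff_eq_mul] at h2
      exact h2
    obtain ⟨x, hx⟩ := exists_ne (1 : G)
    obtain ⟨a, ha, b, hb, rfl⟩ := hAB x
    have ha1 : a = 1 := hAZ a ha (fun g => hcomm g a)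
    have hb1 : b = 1 := hBZ b hb (fun g => hcomm g b)
    rw [ha1, hb1, one_mul] at hx
    exact hx rfl
  -- choose a prime p dividing |V|
  have hVcard : Nat.card V ≠ 1 := fun h => hV1 (Subgroup.card_eq_one.mp h)
  obtain ⟨p, hp, hpV⟩ := Nat.exists_prime_and_dvd hVcard
  have : Fact p.Prime := ⟨hp⟩
  -- the p-part of V
  let M₀ : Subgroup G :=
    { carrier := {v | v ∈ V ∧ ∃ k : ℕ, v ^ (p ^ k) = 1}
      one_mem' := ⟨V.one_mem, 0, by simp⟩
      mul_mem' := by
        rintro x y ⟨hx, kx, hkx⟩ ⟨hy, ky, hky⟩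
        refine ⟨V.mul_mem hx hy, kx + ky, ?_⟩
        have hc : Commute x y := hVc x hx y hy
        rw [hc.mul_pow, pow_add, pow_mul, hkx, one_pow, mul_comm (p ^ kx), pow_mul, hky, one_pow,
          one_mul]
      inv_mem' := by
        rintro x ⟨hx, k, hk⟩
        exact ⟨V.inv_mem hx, k, by rw [inv_pow, hk, inv_one]⟩ }
  have hM₀mem : ∀ v : G, v ∈ M₀ ↔ v ∈ V ∧ ∃ k : ℕ, v ^ (p ^ k) = 1 := fun v => Iff.rfl
  have hM₀n : M₀.Normal := by
    constructor
    rintro n ⟨hn, k, hk⟩ g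
    refine ⟨hVn.conj_mem n hn g, k, ?_⟩
    rw [conj_pow, hk, mul_one, mul_inv_cancel]
  have hM₀p : IsPGroup p M₀ := by
    rintro ⟨v, hv, k, hk⟩
    exact ⟨k, Subtype.ext (by simpa using hk)⟩
  have hM₀1 : M₀ ≠ ⊥ := by
    obtain ⟨x, hx⟩ := exists_prime_orderOf_dvd_card' (G := V) p hpV
    intro h
    have hxM : (x : G) ∈ M₀ := by
      refine ⟨x.2, 1, ?_⟩
      rw [pow_one, ← Subgroup.coe_pow, ← hx, pow_orderOf_eq_one]
      rfl
    rw [h, Subgroup.mem_bot] at hxM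
    have : x = 1 := Subtype.ext hxM
    rw [this, orderOf_one] at hx
    exact hp.one_lt.ne hx
  have hM₀V : M₀ ≤ V := fun v hv => hv.1
  obtain ⟨M, -, hMmin⟩ := Finite.exists_le_minimal
    (p := fun N : Subgroup G => N.Normal ∧ N ≤ V ∧ N ≠ ⊥ ∧ IsPGroup p N) (a := M₀)
    ⟨hM₀n, hM₀V, hM₀1, hM₀p⟩
  obtain ⟨hMn, hMV, hM1, hMp⟩ := hMmin.prop
  have := hMn
  -- every p-subgroup centralizes M
  have hcent : ∀ D : Subgroup G, IsPGroup p D → ∀ d ∈ D, ∀ m ∈ M, d * m = m * d := by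
    intro D hD d hd m hm
    have hN : (M ⊓ Subgroup.centralizer (D : Set G)).Normal :=
      fix_normal hVc hVcomm hMV hMn (D : Set G)
    have hN1 : M ⊓ Subgroup.centralizer (D : Set G) ≠ ⊥ := fix_ne_bot hMn hMp hM1 hD
    have hle : M ≤ M ⊓ Subgroup.centralizer (D : Set G) :=
      hMmin.le_of_le ⟨hN, inf_le_left.trans hMV, hN1, hMp.to_le inf_le_left⟩ inf_le_left
    exact Subgroup.mem_centralizer_iff.mp (Subgroup.mem_inf.mp (hle hm)).2 d hd
  have hMA : ∀ x ∈ M, x ∈ A → x = 1 := fun x hx => hVAbot x (hMV hx)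
  have hMB : ∀ x ∈ M, x ∈ B → x = 1 := fun x hx => hVBbot x (hMV hx)
  have hMc : ∀ x ∈ M, ∀ y ∈ M, x * y = y * x := fun x hx y hy => hVc x (hMV hx) y (hMV hy)
  obtain ⟨kM, hkM⟩ := IsPGroup.iff_card.mp hMp
  have hBA : ∀ g : G, ∃ b ∈ B, ∃ a ∈ A, g = b * a := by
    intro g
    obtain ⟨a, ha, b, hb, h⟩ := hAB g⁻¹
    refine ⟨b⁻¹, B.inv_mem hb, a⁻¹, A.inv_mem ha, ?_⟩
    rw [← mul_inv_rev, ← h, inv_inv]
  -- the factorizer
  set A₂ : Subgroup G := A ⊓ (M ⊔ B) with hA₂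
  set B₂ : Subgroup G := B ⊓ (M ⊔ A) with hB₂
  have hA₂card : Nat.card A₂ = Nat.card M := card_factor hAB hABbot hMB
  have hB₂card : Nat.card B₂ = Nat.card M :=
    card_factor hBA (fun x hxB hxA => hABbot x hxA hxB) hMA
  have hA₂p : IsPGroup p A₂ := IsPGroup.of_card (hA₂card.trans hkM)
  have hB₂p : IsPGroup p B₂ := IsPGroup.of_card (hB₂card.trans hkM)
  have hA₂A : A₂ ≤ A := inf_le_left
  have hB₂B : B₂ ≤ B := inf_le_left
  have hA₂M : ∀ a ∈ A₂, ∀ m ∈ M, a * m = m * a := hcent A₂ hA₂p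
  have hB₂M : ∀ b ∈ B₂, ∀ m ∈ M, b * m = m * b := hcent B₂ hB₂p
  have hA₂1 : A₂ ≠ ⊥ := by
    intro h
    apply hM1
    rw [← Subgroup.card_eq_one, ← hA₂card, h]
    exact Subgroup.card_eq_one.mpr rfl
  -- Y = M A₂ = M B₂
  set Y : Subgroup G := M ⊔ A₂ with hY
  have hYmem : ∀ y : G, y ∈ Y ↔ ∃ m ∈ M, ∃ a ∈ A₂, m * a = y :=
    fun y => Subgroup.mem_sup_of_normal_left
  have hYmem' : ∀ y : G, y ∈ Y ↔ ∃ m ∈ M, ∃ b ∈ B₂, m * b = y := by
    intro y
    constructor
    · intro hy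
      obtain ⟨m, hm, a, ha, rfl⟩ := (hYmem y).mp hy
      obtain ⟨haA, haMB⟩ := Subgroup.mem_inf.mp ha
      obtain ⟨m', hm', b, hb, hmb⟩ := Subgroup.mem_sup_of_normal_left.mp haMB
      refine ⟨m * m', M.mul_mem hm hm', b, Subgroup.mem_inf.mpr ⟨hb, ?_⟩, ?_⟩
      · refine Subgroup.mem_sup_of_normal_left.mpr ⟨m'⁻¹, M.inv_mem hm', a, haA, ?_⟩
        rw [← hmb, inv_mul_cancel_left]
      · rw [mul_assoc, hmb]
    · rintro ⟨m, hm, b, hb, rfl⟩
      obtain ⟨hbB, hbMA⟩ := Subgroup.mem_inf.mp hb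
      obtain ⟨m', hm', a, ha, hma⟩ := Subgroup.mem_sup_of_normal_left.mp hbMA
      refine (hYmem _).mpr ⟨m * m', M.mul_mem hm hm', a, Subgroup.mem_inf.mpr ⟨ha, ?_⟩, ?_⟩
      · refine Subgroup.mem_sup_of_normal_left.mpr ⟨m'⁻¹, M.inv_mem hm', b, hbB, ?_⟩
        rw [← hma, inv_mul_cancel_left]
      · rw [mul_assoc, hma]
  have hMY : M ≤ Y := le_sup_left
  have hA₂Y : A₂ ≤ Y := le_sup_right
  -- Y is abelian
  have hYc : ∀ x ∈ Y, ∀ y ∈ Y, x * y = y * x := by
    intro x hx y hy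
    obtain ⟨m, hm, a, ha, rfl⟩ := (hYmem x).mp hx
    obtain ⟨m', hm', a', ha', rfl⟩ := (hYmem y).mp hy
    have e1 : a * m' = m' * a := hA₂M a ha m' hm'
    have e2 : a' * m = m * a' := hA₂M a' ha' m hm
    have e3 : m * m' = m' * m := hMc m hm m' hm'
    have e4 : a * a' = a' * a := hA a (hA₂A ha) a' (hA₂A ha')
    calc m * a * (m' * a') = m * (a * m') * a' := by group
      _ = m * (m' * a) * a' := by rw [e1]
      _ = (m * m') * (a * a') := by group
      _ = (m' * m) * (a' * a) := by rw [e3, e4]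
      _ = m' * (m * a') * a := by group
      _ = m' * (a' * m) * a := by rw [e2]
      _ = m' * a' * (m * a) := by group
  -- commutators of Y with A, B and G lie in M
  have hYA : ∀ y ∈ Y, ∀ a ∈ A, a * y * a⁻¹ * y⁻¹ ∈ M := by
    intro y hy a ha
    obtain ⟨m, hm, a₂, ha₂, rfl⟩ := (hYmem y).mp hy
    have e : a * a₂ = a₂ * a := hA a ha a₂ (hA₂A ha₂)
    have : a * (m * a₂) * a⁻¹ * (m * a₂)⁻¹ = (a * m * a⁻¹) * m⁻¹ := by
      calc a * (m * a₂) * a⁻¹ * (m * a₂)⁻¹ = a * m * (a₂ * a⁻¹) * a₂⁻¹ * m⁻¹ := by group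
        _ = a * m * (a⁻¹ * a₂) * a₂⁻¹ * m⁻¹ := by
          have : a₂ * a⁻¹ = a⁻¹ * a₂ := by
            rw [eq_inv_mul_iff_mul_eq, ← mul_assoc, e, mul_inv_cancel_right]
          rw [this]
        _ = (a * m * a⁻¹) * m⁻¹ := by group
    rw [this]
    exact M.mul_mem (hMn.conj_mem m hm a) (M.inv_mem hm)
  have hYB : ∀ y ∈ Y, ∀ b ∈ B, b * y * b⁻¹ * y⁻¹ ∈ M := by
    intro y hy b hb
    obtain ⟨m, hm, b₂, hb₂, rfl⟩ := (hYmem' y).mp hy
    have e : b * b₂ = b₂ * b := hB b hb b₂ (hB₂B hb₂)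
    have : b * (m * b₂) * b⁻¹ * (m * b₂)⁻¹ = (b * m * b⁻¹) * m⁻¹ := by
      calc b * (m * b₂) * b⁻¹ * (m * b₂)⁻¹ = b * m * (b₂ * b⁻¹) * b₂⁻¹ * m⁻¹ := by group
        _ = b * m * (b⁻¹ * b₂) * b₂⁻¹ * m⁻¹ := by
          have : b₂ * b⁻¹ = b⁻¹ * b₂ := by
            rw [eq_inv_mul_iff_mul_eq, ← mul_assoc, e, mul_inv_cancel_right]
          rw [this]
        _ = (b * m * b⁻¹) * m⁻¹ := by group
    rw [this]
    exact M.mul_mem (hMn.conj_mem m hm b) (M.inv_mem hm)
  have hYconjA : ∀ y ∈ Y, ∀ a ∈ A, a * y * a⁻¹ ∈ Y := by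
    intro y hy a ha
    have h1 := hMY (hYA y hy a ha)
    have : a * y * a⁻¹ = (a * y * a⁻¹ * y⁻¹) * y := by group
    rw [this]
    exact Y.mul_mem h1 hy
  have hYconjB : ∀ y ∈ Y, ∀ b ∈ B, b * y * b⁻¹ ∈ Y := by
    intro y hy b hb
    have h1 := hMY (hYB y hy b hb)
    have : b * y * b⁻¹ = (b * y * b⁻¹ * y⁻¹) * y := by group
    rw [this]
    exact Y.mul_mem h1 hy
  have hYn : Y.Normal := by
    constructor
    intro y hy g
    obtain ⟨a, ha, b, hb, rfl⟩ := hAB g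
    have := hYconjA _ (hYconjB y hy b hb) a ha
    have e : a * b * y * (a * b)⁻¹ = a * (b * y * b⁻¹) * a⁻¹ := by group
    rw [e]
    exact this
  have hYG : ∀ y ∈ Y, ∀ g : G, g * y * g⁻¹ * y⁻¹ ∈ M := by
    intro y hy g
    obtain ⟨a, ha, b, hb, rfl⟩ := hAB g
    have h1 := hYB y hy b hb
    have h2 := hYA y hy a ha
    have e : a * b * y * (a * b)⁻¹ * y⁻¹ = (a * (b * y * b⁻¹ * y⁻¹) * a⁻¹) * (a * y * a⁻¹ * y⁻¹) := by
      group
    rw [e]
    exact M.mul_mem (hMn.conj_mem _ h1 a) h2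
  -- powers of elements of V acting on Y
  have hVM : ∀ v ∈ V, ∀ m ∈ M, v * m = m * v := fun v hv m hm => hVc v hv m (hMV hm)
  have hVpow : ∀ v ∈ V, ∀ y ∈ Y, ∀ j : ℕ,
      v ^ j * y * (v ^ j)⁻¹ = (v * y * v⁻¹ * y⁻¹) ^ j * y := by
    intro v hv y hy j
    have ht : v * y * v⁻¹ * y⁻¹ ∈ M := hYG y hy v
    set t : G := v * y * v⁻¹ * y⁻¹ with htdef
    have hvt : v * t = t * v := hVM v hv t ht
    have hvtj : ∀ i : ℕ, v * t ^ i * v⁻¹ = t ^ i := by
      intro i
      have : Commute v (t ^ i) := (show Commute v t from hvt).pow_right i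
      rw [this.eq, mul_inv_cancel_right]
    induction j with
    | zero => simp
    | succ j ih =>
      calc v ^ (j + 1) * y * (v ^ (j + 1))⁻¹ = v * (v ^ j * y * (v ^ j)⁻¹) * v⁻¹ := by
            rw [pow_succ']; group
        _ = v * (t ^ j * y) * v⁻¹ := by rw [ih]
        _ = (v * t ^ j * v⁻¹) * (v * y * v⁻¹ * y⁻¹) * y := by group
        _ = t ^ j * t * y := by rw [hvtj j]
        _ = t ^ (j + 1) * y := by rw [pow_succ]
  have := hYn
  set C : Subgroup G := Subgroup.centralizer (Y : Set G) with hC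
  have hCn : C.Normal := Subgroup.normal_centralizer
  have hVpowC : ∀ v ∈ V, v ^ (Nat.card M) ∈ C := by
    intro v hv
    rw [hC, Subgroup.mem_centralizer_iff]
    intro y hy
    have h1 := hVpow v hv y hy (Nat.card M)
    have ht : v * y * v⁻¹ * y⁻¹ ∈ M := hYG y hy v
    have h2 : (v * y * v⁻¹ * y⁻¹) ^ (Nat.card M) = 1 := by
      have h := pow_card_eq_one' (G := M) (x := ⟨_, ht⟩)
      have h' := congrArg Subtype.val h
      rw [Subgroup.coe_pow, Subgroup.coe_one] at h'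
      exact h'
    rw [h2, one_mul] at h1
    rw [mul_inv_eq_iff_eq_mul] at h1
    exact h1.symm
  -- p-subgroups of A and B centralize Y
  have hDA : ∀ D : Subgroup G, IsPGroup p D → D ≤ A → D ≤ C := by
    intro D hD hDA d hd
    rw [hC, Subgroup.mem_centralizer_iff]
    intro y hy
    obtain ⟨m, hm, a₂, ha₂, rfl⟩ := (hYmem y).mp hy
    have e1 : d * m = m * d := hcent D hD d hd m hm
    have e2 : d * a₂ = a₂ * d := hA d (hDA hd) a₂ (hA₂A ha₂)
    rw [mul_assoc, ← e2, ← mul_assoc, ← e1, mul_assoc]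
  have hDB : ∀ D : Subgroup G, IsPGroup p D → D ≤ B → D ≤ C := by
    intro D hD hDB d hd
    rw [hC, Subgroup.mem_centralizer_iff]
    intro y hy
    obtain ⟨m, hm, b₂, hb₂, rfl⟩ := (hYmem' y).mp hy
    have e1 : d * m = m * d := hcent D hD d hd m hm
    have e2 : d * b₂ = b₂ * d := hB d (hDB hd) b₂ (hB₂B hb₂)
    rw [mul_assoc, ← e2, ← mul_assoc, ← e1, mul_assoc]
  have hrel : ∀ K : Subgroup G, (∀ D : Subgroup G, IsPGroup p D → D ≤ K → D ≤ C) →
      ¬ p ∣ C.relIndex K := by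
    intro K hK
    obtain ⟨P⟩ : Nonempty (Sylow p K) := Sylow.nonempty
    have hDle : (P : Subgroup K).map K.subtype ≤ C :=
      hK _ (P.2.map _) (Subgroup.map_subtype_le _)
    have h1 : C.relIndex K ∣ ((P : Subgroup K).map K.subtype).relIndex K :=
      Subgroup.relIndex_dvd_of_le_left K hDle
    have h2 : ((P : Subgroup K).map K.subtype).relIndex K = (P : Subgroup K).index := by
      rw [Subgroup.relIndex, Subgroup.subgroupOf,
        Subgroup.comap_map_eq_self_of_injective K.subtype_injective]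
    intro hdvd
    exact P.not_dvd_index (h2 ▸ hdvd.trans h1)
  have hidx : ¬ p ∣ C.index := not_dvd_index_of_mul hp hAB (hrel A hDA) (hrel B hDB)
  have hVC : ∀ v ∈ V, v ∈ C := by
    intro v hv
    have h1 : ((v : G) : G ⧸ C) ^ (Nat.card M) = 1 := by
      rw [← QuotientGroup.mk_pow, QuotientGroup.eq_one_iff]
      exact hVpowC v hv
    have h2 : ((v : G) : G ⧸ C) ^ C.index = 1 := by
      rw [← QuotientGroup.mk_pow, QuotientGroup.eq_one_iff]
      exact C.pow_index_mem v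
    have hcop : Nat.Coprime (Nat.card M) C.index := by
      rw [hkM]
      exact Nat.Coprime.pow_left kM ((Nat.Prime.coprime_iff_not_dvd hp).mpr hidx)
    have h3 : orderOf ((v : G) : G ⧸ C) ∣ Nat.gcd (Nat.card M) C.index :=
      Nat.dvd_gcd (orderOf_dvd_of_pow_eq_one h1) (orderOf_dvd_of_pow_eq_one h2)
    rw [hcop, Nat.dvd_one, orderOf_eq_one_iff, QuotientGroup.eq_one_iff] at h3
    exact h3
  -- A₂ is normal
  have hA₂n : A₂.Normal := by
    constructor
    intro n hn g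
    obtain ⟨a, ha, b, hb, rfl⟩ := hAB g
    have hnY : n ∈ Y := hA₂Y hn
    have hnA : n ∈ A := hA₂A hn
    have hw : b * n * b⁻¹ ∈ A₂ := by
      have hwY : b * n * b⁻¹ ∈ Y := hYconjB n hnY b hb
      refine Subgroup.mem_inf.mpr ⟨?_, ?_⟩
      · apply hCA
        intro a' ha'
        set c : G := a'⁻¹ * b⁻¹ * a' * b with hcdef
        have hcV : c ∈ V := by
          have := hVcomm a'⁻¹ b⁻¹
          rwa [inv_inv, inv_inv] at this
        have hcn : c * n = n * c :=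
          (Subgroup.mem_centralizer_iff.mp (hVC c hcV) n hnY).symm
        have han : a' * n = n * a' := hA a' ha' n hnA
        have e1 : a' * (b * n * b⁻¹) = b * (a' * (c * n)) * (c⁻¹ * a'⁻¹ * b⁻¹ * a') := by
          simp only [hcdef]; group
        have e2 : b * n * b⁻¹ * a' = b * (n * (a' * c)) * (c⁻¹ * a'⁻¹ * b⁻¹ * a') := by
          simp only [hcdef]; group
        rw [e1, e2, hcn, ← mul_assoc a' n c, han, mul_assoc n a' c]
      · obtain ⟨m, hm, b₂, hb₂, h⟩ := (hYmem' _).mp hwY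
        exact Subgroup.mem_sup_of_normal_left.mpr ⟨m, hm, b₂, hB₂B hb₂, h⟩
    have e : a * b * n * (a * b)⁻¹ = a * (b * n * b⁻¹) * a⁻¹ := by group
    rw [e, hA a ha _ (hA₂A hw), mul_inv_cancel_right]
    exact hw
  exact hA₂1 (hno' A₂ hA₂n (Or.inl hA₂A))

end

/-- If a nontrivial finite group G is the product AB of abelian subgroups A and B, then some nontrivial normal subgroup of G is contained in A or in B. -/
theorem result {G : Type*} [Group G] [Finite G] [Nontrivial G] (A B : Subgroup G) [IsMulCommutative A] [IsMulCommutative B] (hAB : ∀ g : G, ∃ a ∈ A, ∃ b ∈ B, g = a * b) : ∃ N : Subgroup G, N.Normal ∧ N ≠ ⊥ ∧ (N ≤ A ∨ N ≤ B) := by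
  have hA : ∀ x ∈ A, ∀ y ∈ A, x * y = y * x := fun x hx y hy =>
    congrArg Subtype.val (mul_comm' (⟨x, hx⟩ : A) ⟨y, hy⟩)
  have hB : ∀ x ∈ B, ∀ y ∈ B, x * y = y * x := fun x hx y hy =>
    congrArg Subtype.val (mul_comm' (⟨x, hx⟩ : B) ⟨y, hy⟩)
  have hder := Cfsg.Agent.S0572.result A B hAB
  refine core A B hA hB hAB (commutator G) inferInstance ?_ ?_
  · intro x hx y hy
    have : ⁅x, y⁆ ∈ derivedSeries G 2 := by
      rw [derivedSeries_succ, derivedSeries_one]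
      exact Subgroup.commutator_mem_commutator hx hy
    rw [hder, Subgroup.mem_bot, commutatorElement_eq_one_iff_mul_comm] at this
    exact this
  · intro g h
    rw [commutator_def]
    exact Subgroup.commutator_mem_commutator (Subgroup.mem_top g) (Subgroup.mem_top h)

end Cfsg.Agent.S0573
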