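import Cfsg.Statements.S0571
import Mathlib
import Cfsg.Agent.S0573
import Cfsg.Agent.Lib.Helper1_Supersolvable

set_option autoImplicit false
open Cfsg

namespace Cfsg.Agent.S0571

universe u

open Cfsg.Agent.Lib.Helper1_Supersolvable

theorem isCyclic_of_le {G : Type*} [Group G] {N A : Subgroup G} (h : N ≤ A) (hA : IsCyclic ↥A) :
    IsCyclic ↥N := by
  haveI := hA
  haveI : IsCyclic ↥(N.subgroupOf A) := inferInstance
  exact isCyclic_of_surjective (Subgroup.subgroupOfEquivOfLe h)
    (Subgroup.subgroupOfEquivOfLe h).surjective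

theorem isCyclic_map {G H : Type*} [Group G] [Group H] (f : G →* H) (A : Subgroup G)
    (hA : IsCyclic ↥A) : IsCyclic ↥(A.map f) := by
  haveI := hA
  exact isCyclic_of_surjective (f.subgroupMap A) (f.subgroupMap_surjective A)

theorem aux : ∀ n : ℕ, ∀ (G : Type u) [Group G] [Finite G], Nat.card G = n →
    ∀ (A B : Subgroup G), IsCyclic ↥A → IsCyclic ↥B →
      (∀ g : G, ∃ a ∈ A, ∃ b ∈ B, g = a * b) → Cfsg.IsSupersolvable G := by
  intro n
  induction n using Nat.strong_induction_on with
  | _ n ih =>
    intro G _ _ hcard A B hA hB hAB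
    by_cases htriv : Subsingleton G
    · exact of_subsingleton
    · haveI : Nontrivial G := not_subsingleton_iff_nontrivial.mp htriv
      haveI := hA
      haveI := hB
      haveI : IsMulCommutative ↥A := IsCyclic.isMulCommutative
      haveI : IsMulCommutative ↥B := IsCyclic.isMulCommutative
      obtain ⟨N, hNn, hN1, hNle⟩ := Cfsg.Agent.S0573.result A B hAB
      haveI := hNn
      haveI hNc : IsCyclic ↥N := by
        rcases hNle with h | h
        · exact isCyclic_of_le h hA
        · exact isCyclic_of_le h hB
      have hlt : Nat.card (G ⧸ N) < n := by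
        have h1 := Subgroup.card_eq_card_quotient_mul_card_subgroup N
        have h2 : 1 < Nat.card ↥N := (Subgroup.one_lt_card_iff_ne_bot N).mpr hN1
        have h3 : 0 < Nat.card (G ⧸ N) := Nat.card_pos
        rw [← hcard, h1]
        nlinarith
      have hq : Cfsg.IsSupersolvable (G ⧸ N) := by
        refine ih _ hlt (G ⧸ N) rfl (A.map (QuotientGroup.mk' N)) (B.map (QuotientGroup.mk' N))
          (isCyclic_map _ A hA) (isCyclic_map _ B hB) ?_
        intro q
        obtain ⟨g, rfl⟩ := QuotientGroup.mk'_surjective N q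
        obtain ⟨a, ha, b, hb, rfl⟩ := hAB g
        exact ⟨_, Subgroup.mem_map_of_mem _ ha, _, Subgroup.mem_map_of_mem _ hb, map_mul _ a b⟩
      exact of_quotient_of_isCyclic N hq

/-- If a finite group G is the product AB of two cyclic subgroups (every element is a product ab), then G is supersolvable. -/
theorem result {G : Type*} [Group G] [Finite G] (A B : Subgroup G) [IsCyclic A] [IsCyclic B] (hAB : ∀ g : G, ∃ a ∈ A, ∃ b ∈ B, g = a * b) : Cfsg.IsSupersolvable G := by
  exact aux _ G rfl A B inferInstance inferInstance hAB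

end Cfsg.Agent.S0571
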