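import Cfsg.Statements.S0576
import Mathlib

set_option autoImplicit false
open Cfsg

namespace Cfsg.Agent.S0576

theorem inn_normal {H : Type*} [Group H] : ((MulAut.conj : H →* MulAut H).range).Normal := by
  constructor
  rintro _ ⟨h, rfl⟩ α
  refine ⟨α h, ?_⟩
  ext x
  simp [MulAut.conj_apply, map_mul]


/-- Let H be a normal subgroup of a finite group G with H contained in the Frattini subgroup of G. Then the group of inner automorphisms of H is contained in the Frattini subgroup of the automorphism group of H. -/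
theorem result {G : Type*} [Group G] [Finite G] (H : Subgroup G) [H.Normal] (hH : H ≤ frattini G) : (MulAut.conj : ↥H →* MulAut ↥H).range ≤ frattini (MulAut ↥H) := by
  classical
  show (MulAut.conj : ↥H →* MulAut ↥H).range ≤ ⨅ a ∈ {M : Subgroup (MulAut ↥H) | IsCoatom M}, a
  refine le_iInf₂ (fun M hM' => ?_)
  have hM : IsCoatom M := hM'
  by_contra hnot
  set I := (MulAut.conj : ↥H →* MulAut ↥H).range with hI
  haveI : I.Normal := inn_normal
  have hsup : I ⊔ M = ⊤ := by
    apply hM.2
    refine lt_of_le_of_ne le_sup_right ?_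
    intro h
    apply hnot
    calc I ≤ I ⊔ M := le_sup_left
      _ = M := h.symm
  set φ : G →* MulAut ↥H := MulAut.conjNormal with hφ
  set L := M.comap φ with hL
  have hHL : L ⊔ frattini G = ⊤ := by
    rw [eq_top_iff]
    intro g _
    have h1 : φ g ∈ I ⊔ M := hsup ▸ Subgroup.mem_top _
    rw [← SetLike.mem_coe, Subgroup.normal_mul] at h1
    obtain ⟨ι, hι, m, hm, hιm⟩ := Set.mem_mul.mp h1
    obtain ⟨h, rfl⟩ := hι
    have h2 : φ (h : G) = MulAut.conj h := MulAut.conjNormal_val
    have h3 : φ ((h : G)⁻¹ * g) = m := by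
      rw [map_mul, map_inv, h2, ← hιm]; group
    have h4 : (h : G)⁻¹ * g ∈ L := by rw [hL, Subgroup.mem_comap, h3]; exact hm
    have : g = (h : G) * ((h : G)⁻¹ * g) := by group
    rw [this]
    exact Subgroup.mul_mem _ (Subgroup.mem_sup_right (hH h.2)) (Subgroup.mem_sup_left h4)
  have hLtop : L = ⊤ := frattini_nongenerating hHL
  apply hnot
  rintro _ ⟨h, rfl⟩
  have h2 : φ (h : G) = MulAut.conj h := MulAut.conjNormal_val
  rw [← h2]
  have : (h : G) ∈ L := hLtop ▸ Subgroup.mem_top _
  exact this

end Cfsg.Agent.S0576
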