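import Cfsg.Statements.S0577
import Mathlib
import Cfsg.Agent.Lib.Lead_MinNonNil
import Cfsg.Agent.Lib.Lead_MinNonAb
import Cfsg.Agent.Lib.Lead_Fitting
import Cfsg.Agent.S0011
import Cfsg.Agent.S0012
import Cfsg.Agent.S0575

set_option autoImplicit false
open Cfsg

namespace Cfsg.Agent.S0577

open Cfsg.Agent.Lib.Lead_MinNonNil Cfsg.Agent.Lib.Lead_MinNonAb Cfsg.Agent.Lib.Lead_Fitting

open scoped commutatorElement

/-- quotient by a normal Sylow subgroup of a minimal non-nilpotent group is commutative -/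
theorem comm_le_sylow {G : Type*} [Group G] [Finite G] (hG : Cfsg.IsMinimalNonNilpotent G)
    (q : ℕ) [Fact q.Prime] (hq : q ∣ Nat.card G) (Q : Sylow q G) (hQ : (Q : Subgroup G).Normal) :
    commutator G ≤ (Q : Subgroup G) := by
  classical
  obtain ⟨p', q', hp', hq', hpq', P', Q', hPc, hQ'n, hsup⟩ := structure_minNonNil hG
  haveI : Fact p'.Prime := ⟨hp'⟩
  haveI : Fact q'.Prime := ⟨hq'⟩
  have key : ∀ (Q₀ : Sylow q' G), (Q₀ : Subgroup G).Normal → (P' : Subgroup G) ⊔ Q₀ = ⊤ →
      commutator G ≤ Q₀ := by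
    intro Q₀ hQ₀ hs
    rw [commutator_def, Subgroup.commutator_le]
    haveI := hQ₀
    have hrep : ∀ a : G, ∃ x ∈ (P' : Subgroup G),
        (QuotientGroup.mk a : G ⧸ (Q₀ : Subgroup G)) = QuotientGroup.mk x := by
      intro a
      have hmem : a ∈ (P' : Subgroup G) ⊔ Q₀ := hs ▸ Subgroup.mem_top a
      rw [← SetLike.mem_coe, Subgroup.mul_normal] at hmem
      obtain ⟨x, hx, u, hu, rfl⟩ := Set.mem_mul.mp hmem
      refine ⟨x, hx, ?_⟩
      rw [QuotientGroup.mk_mul, (QuotientGroup.eq_one_iff u).mpr hu, mul_one]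
    intro a _ b _
    obtain ⟨x, hx, hax⟩ := hrep a
    obtain ⟨y, hy, hby⟩ := hrep b
    rw [← QuotientGroup.eq_one_iff (N := (Q₀ : Subgroup G))]
    have hxy : x * y * x⁻¹ * y⁻¹ = 1 := by
      haveI := hPc
      letI := IsCyclic.commGroup (α := P')
      have : x * y = y * x := congrArg Subtype.val (mul_comm (⟨x, hx⟩ : P') ⟨y, hy⟩)
      rw [this]; group
    rw [commutatorElement_def]
    simp only [QuotientGroup.mk_mul, QuotientGroup.mk_inv, hax, hby]
    rw [← QuotientGroup.mk_inv, ← QuotientGroup.mk_inv, ← QuotientGroup.mk_mul,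
      ← QuotientGroup.mk_mul, ← QuotientGroup.mk_mul, hxy]
    rfl
  by_cases hqq : q = q'
  · subst hqq
    haveI := Sylow.unique_of_normal Q hQ
    have : Q' = Q := Subsingleton.elim _ _
    subst this
    exact key Q' hQ hsup
  · exfalso
    apply hG.1
    haveI := hQ'n
    have h1 : (Q' : Subgroup G).relIndex ((P' : Subgroup G) ⊔ Q') = (Q' : Subgroup G).relIndex P' :=
      Subgroup.relIndex_sup_right _ _
    rw [hsup, Subgroup.relIndex_top_right] at h1
    have h2 : (Q' : Subgroup G).relIndex (P' : Subgroup G) ∣ Nat.card P' := Subgroup.index_dvd_card _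
    rw [← h1, P'.card_eq_multiplicity] at h2
    have h3 := (Q' : Subgroup G).card_mul_index
    rw [← h3, Q'.card_eq_multiplicity] at hq
    have hqp : q = p' := by
      rcases (Nat.Prime.dvd_mul (Fact.out : q.Prime)).mp hq with h | h
      · exact absurd ((Nat.prime_dvd_prime_iff_eq Fact.out hq').mp
          ((Fact.out : q.Prime).dvd_of_dvd_pow h)) hqq
      · exact (Nat.prime_dvd_prime_iff_eq Fact.out hp').mp
          ((Fact.out : q.Prime).dvd_of_dvd_pow (h.trans h2))
    subst hqp
    haveI := Sylow.unique_of_normal Q hQ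
    have : P' = Q := Subsingleton.elim _ _
    subst this
    have hP1 := le_F0 (P' : Subgroup G) hQ P'.isPGroup'.isNilpotent
    have hQ1 := le_F0 (Q' : Subgroup G) hQ'n Q'.isPGroup'.isNilpotent
    have htop : F0 G = ⊤ := by
      rw [eq_top_iff, ← hsup]; exact sup_le hP1 hQ1
    have hnil := F0_nilpotent G
    rw [htop] at hnil
    haveI := hnil
    exact nilpotent_of_mulEquiv (Subgroup.topEquiv : (⊤ : Subgroup G) ≃* G)

/-- a nilpotent group all of whose Sylow subgroups are commutative is commutative -/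
theorem comm_of_nilpotent_of_sylow_comm {H : Type*} [Group H] [Finite H]
    (hnil : Group.IsNilpotent H)
    (h : ∀ (p : ℕ) [Fact p.Prime] (P : Sylow p H), ∀ a ∈ (P : Subgroup H),
      ∀ b ∈ (P : Subgroup H), a * b = b * a) :
    IsMulCommutative H := by
  classical
  obtain ⟨e⟩ := (Group.isNilpotent_of_finite_tfae.out 0 4 rfl rfl).mp hnil
  refine ⟨⟨fun a b => ?_⟩⟩
  obtain ⟨f, rfl⟩ := e.surjective a
  obtain ⟨g, rfl⟩ := e.surjective b
  rw [← map_mul, ← map_mul]
  congr 1
  funext p P
  haveI : Fact (p : ℕ).Prime := ⟨Nat.prime_of_mem_primeFactors p.2⟩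
  exact Subtype.ext (h p P _ (f p P).2 _ (g p P).2)


/-- Let G be a finite minimal non-nilpotent group and Q a normal Sylow q-subgroup of G, and let D be the commutator subgroup of Q regarded in G (a normal subgroup). Then G modulo D is non-abelian and all its proper subgroups are abelian. -/
theorem result {G : Type*} [Group G] [Finite G] (hG : Cfsg.IsMinimalNonNilpotent G) (q : ℕ) [Fact q.Prime] (hq : q ∣ Nat.card G) (Q : Sylow q G) (hQ : (Q : Subgroup G).Normal) (D : Subgroup G) [D.Normal] (hD : D = (commutator ↥(Q : Subgroup G)).map (Q : Subgroup G).subtype) : ¬ IsMulCommutative (G ⧸ D) ∧ ∀ K : Subgroup (G ⧸ D), K ≠ ⊤ → IsMulCommutative K := by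
  classical
  have hsurj := QuotientGroup.mk'_surjective D
  have hDmem : ∀ x ∈ (Q : Subgroup G), ∀ y ∈ (Q : Subgroup G), ⁅x, y⁆ ∈ D := by
    intro x hx y hy
    rw [hD]
    refine Subgroup.mem_map.mpr ⟨⁅(⟨x, hx⟩ : (Q : Subgroup G)), (⟨y, hy⟩ : (Q : Subgroup G))⁆, ?_, rfl⟩
    rw [commutator_def]
    exact Subgroup.commutator_mem_commutator (Subgroup.mem_top _) (Subgroup.mem_top _)
  constructor
  · intro hc
    apply hG.1
    have hDΦ : D ≤ frattini G := by
      rw [hD]
      haveI := hQ
      exact (Subgroup.map_mono (Cfsg.Agent.S0012.result q Q.isPGroup').1).trans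
        (Cfsg.Agent.S0575.result (Q : Subgroup G))
    apply Cfsg.Agent.S0011.result
    apply nilpotent_of_isMulCommutative
    refine ⟨⟨fun a b => ?_⟩⟩
    obtain ⟨x, rfl⟩ := QuotientGroup.mk_surjective a
    obtain ⟨y, rfl⟩ := QuotientGroup.mk_surjective b
    rw [← QuotientGroup.mk_mul, ← QuotientGroup.mk_mul, QuotientGroup.eq]
    apply hDΦ
    have h1 := mul_comm' (QuotientGroup.mk x : G ⧸ D) (QuotientGroup.mk y)
    rw [← QuotientGroup.mk_mul, ← QuotientGroup.mk_mul, QuotientGroup.eq] at h1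
    exact h1
  · intro K hK
    have hcomm := comm_le_sylow hG q hq Q hQ
    set f := QuotientGroup.mk' D with hf
    set Qb : Subgroup (G ⧸ D) := (Q : Subgroup G).map f with hQb
    have hQbn : Qb.Normal := Subgroup.Normal.map hQ f hsurj
    have hQbp : IsPGroup q Qb := Q.isPGroup'.map f
    have hQbcomm : ∀ a ∈ Qb, ∀ b ∈ Qb, a * b = b * a := by
      rintro _ ⟨x, hx, rfl⟩ _ ⟨y, hy, rfl⟩
      rw [← map_mul, ← map_mul]
      show (QuotientGroup.mk (x * y) : G ⧸ D) = QuotientGroup.mk (y * x)
      rw [QuotientGroup.eq]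
      have := hDmem y⁻¹ (Subgroup.inv_mem _ hy) x⁻¹ (Subgroup.inv_mem _ hx)
      rw [commutatorElement_def] at this
      simpa [mul_assoc] using this
    have hcommb : ∀ a b : G ⧸ D, ⁅a, b⁆ ∈ Qb := by
      intro a b
      obtain ⟨x, rfl⟩ := hsurj a
      obtain ⟨y, rfl⟩ := hsurj b
      rw [← map_commutatorElement]
      refine Subgroup.mem_map_of_mem _ (hcomm ?_)
      rw [commutator_def]
      exact Subgroup.commutator_mem_commutator (Subgroup.mem_top _) (Subgroup.mem_top _)
    have hT : ∀ (r : ℕ) [Fact r.Prime] (T : Subgroup (G ⧸ D)), IsPGroup r T →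
        ∀ a ∈ T, ∀ b ∈ T, a * b = b * a := by
      intro r _ T hTp a ha b hb
      by_cases hrq : r = q
      · subst hrq
        obtain ⟨S, hS⟩ := hTp.exists_le_sylow
        have hQS : ((Q.mapSurjective hsurj : Sylow r (G ⧸ D)) : Subgroup (G ⧸ D)) = Qb := rfl
        haveI := Sylow.unique_of_normal (Q.mapSurjective hsurj) (hQS ▸ hQbn)
        have : S = Q.mapSurjective hsurj := Subsingleton.elim _ _
        rw [this, hQS] at hS
        exact hQbcomm a (hS ha) b (hS hb)
      · have h1 : ⁅a, b⁆ ∈ T ⊓ Qb :=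
          Subgroup.mem_inf.mpr ⟨by
            rw [commutatorElement_def]
            exact T.mul_mem (T.mul_mem (T.mul_mem ha hb) (T.inv_mem ha)) (T.inv_mem hb), hcommb a b⟩
        rw [(IsPGroup.disjoint_of_ne r q hrq T Qb hTp hQbp).eq_bot, Subgroup.mem_bot] at h1
        exact commutatorElement_eq_one_iff_mul_comm.mp h1
    have hKt : K.comap f ≠ ⊤ := by
      intro h
      apply hK
      rw [← Subgroup.map_comap_eq_self_of_surjective hsurj K, h, ← MonoidHom.range_eq_map,
        MonoidHom.range_eq_top.mpr hsurj]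
    have hnil := hG.2 _ hKt
    have hKnil : Group.IsNilpotent K := by
      haveI := hnil
      exact nilpotent_of_surjective (f.subgroupComap K)
        (f.subgroupComap_surjective_of_surjective K hsurj)
    apply comm_of_nilpotent_of_sylow_comm hKnil
    intro r _ R a ha b hb
    have hTp : IsPGroup r ((R : Subgroup K).map K.subtype) := R.isPGroup'.map _
    exact Subtype.ext (hT r _ hTp a (Subgroup.mem_map_of_mem _ ha) b (Subgroup.mem_map_of_mem _ hb))

end Cfsg.Agent.S0577
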