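import Cfsg.Statements.S0578
import Mathlib

set_option autoImplicit false
open Cfsg

namespace Cfsg.Agent.S0578

open scoped commutatorElement

/-- A nilpotent subgroup `P` of `G` such that normalizers of abelian subgroups are their
centralizers is abelian. -/
theorem comm_of_nilpotent {G : Type*} [Group G] [Finite G]
    (h : ∀ A : Subgroup G, IsMulCommutative A → Subgroup.normalizer (A : Set G) = Subgroup.centralizer (A : Set G))
    (P : Subgroup G) (hP : Group.IsNilpotent P) : IsMulCommutative P := by
  obtain ⟨A, hA⟩ := exists_maximal_of_wellFoundedGT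
    (fun A : Subgroup G => A ≤ P ∧ IsMulCommutative A) ⟨⊥, bot_le, inferInstance⟩
  obtain ⟨⟨hAP, hAc⟩, hmax⟩ := hA
  by_cases hAeq : A = P
  · rw [← hAeq]; exact hAc
  exfalso
  have hnc : NormalizerCondition P := normalizerCondition_of_isNilpotent
  have hlt : A.subgroupOf P < ⊤ := by
    rw [lt_top_iff_ne_top]
    intro htop
    rw [Subgroup.subgroupOf_eq_top] at htop
    exact hAeq (le_antisymm hAP htop)
  have hlt2 := hnc _ hlt
  obtain ⟨x, hxN, hxA⟩ := SetLike.exists_of_lt hlt2
  have hxNG : (x : G) ∈ Subgroup.normalizer (A : Set G) := by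
    rw [Subgroup.mem_normalizer_iff] at hxN ⊢
    intro a
    constructor
    · intro ha
      have := (hxN ⟨a, hAP ha⟩).mp (by rw [Subgroup.mem_subgroupOf]; exact ha)
      rw [Subgroup.mem_subgroupOf] at this
      exact this
    · intro ha
      have haP : a ∈ P := by
        have h1 : (x : G)⁻¹ * ((x : G) * a * (x : G)⁻¹) * (x : G) ∈ P :=
          P.mul_mem (P.mul_mem (P.inv_mem x.2) (hAP ha)) x.2
        have h2 : (x : G)⁻¹ * ((x : G) * a * (x : G)⁻¹) * (x : G) = a := by group
        rwa [h2] at h1
      have := (hxN ⟨a, haP⟩).mpr (by rw [Subgroup.mem_subgroupOf]; exact ha)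
      rw [Subgroup.mem_subgroupOf] at this
      exact this
  rw [h A hAc, Subgroup.mem_centralizer_iff] at hxNG
  -- A ⊔ ⟨x⟩ is abelian
  have hcomm : IsMulCommutative (Subgroup.closure ((A : Set G) ∪ {(x : G)})) := by
    apply Subgroup.isMulCommutative_closure
    intro a ha b hb
    rcases ha with ha | ha <;> rcases hb with hb | hb
    · have := mul_comm' (⟨a, ha⟩ : A) ⟨b, hb⟩
      exact congrArg Subtype.val this
    · rw [Set.mem_singleton_iff] at hb; subst hb
      exact hxNG a ha
    · rw [Set.mem_singleton_iff] at ha; subst ha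
      exact (hxNG b hb).symm
    · rw [Set.mem_singleton_iff] at ha hb; subst ha; subst hb; rfl
  have hle : Subgroup.closure ((A : Set G) ∪ {(x : G)}) ≤ P := by
    rw [Subgroup.closure_le]
    intro a ha
    rcases ha with ha | ha
    · exact hAP ha
    · rw [Set.mem_singleton_iff] at ha; subst ha; exact x.2
  have hAle : A ≤ Subgroup.closure ((A : Set G) ∪ {(x : G)}) := by
    intro a ha
    exact Subgroup.subset_closure (Or.inl ha)
  have := hmax ⟨hle, hcomm⟩ hAle
  apply hxA
  rw [Subgroup.mem_subgroupOf]
  exact this (Subgroup.subset_closure (Or.inr rfl))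

/-- If in a finite group the normalizer of each abelian subgroup coincides with its centralizer, then the group is abelian. -/
theorem result {G : Type*} [Group G] [Finite G] (h : ∀ A : Subgroup G, IsMulCommutative A → Subgroup.normalizer (A : Set G) = Subgroup.centralizer (A : Set G)) : IsMulCommutative G := by
  refine ⟨⟨fun a b => ?_⟩⟩
  rw [← commutatorElement_eq_one_iff_mul_comm]
  rw [← orderOf_eq_one_iff]
  by_contra hne
  obtain ⟨p, hp, hpd⟩ := Nat.exists_prime_and_dvd hne
  haveI : Fact p.Prime := ⟨hp⟩
  obtain ⟨P⟩ : Nonempty (Sylow p G) := inferInstance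
  have hPc : IsMulCommutative (P : Subgroup G) :=
    comm_of_nilpotent h P (P.isPGroup'.isNilpotent)
  have hN : Subgroup.normalizer ((P : Subgroup G) : Set G) ≤ Subgroup.centralizer ((P : Subgroup G) : Set G) :=
    (h P hPc).le
  have hker : ⁅a, b⁆ ∈ (MonoidHom.transferSylow P hN).ker := by
    rw [MonoidHom.mem_ker, map_commutatorElement, commutatorElement_eq_one_iff_mul_comm]
    exact mul_comm' _ _
  have hnd := MonoidHom.not_dvd_card_ker_transferSylow P hN
  apply hnd
  refine hpd.trans ?_
  have := Subgroup.orderOf_dvd_natCard (MonoidHom.transferSylow P hN).ker hker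
  exact this

end Cfsg.Agent.S0578
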