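import Cfsg.Statements.S0580
import Mathlib

set_option autoImplicit false
open Cfsg

namespace Cfsg.Agent.S0580

/-- If every maximal subgroup has prime index, a Sylow subgroup for the largest prime is normal. -/
theorem sylow_normal_of_largest {G : Type*} [Group G] [Finite G]
    (h : ∀ M : Subgroup G, IsCoatom M → M.index.Prime) (p : ℕ) [Fact p.Prime]
    (hmax : ∀ q : ℕ, q.Prime → q ∣ Nat.card G → q ≤ p) (P : Sylow p G) :
    (P : Subgroup G).Normal := by
  rw [← Subgroup.normalizer_eq_top_iff]
  rcases eq_top_or_exists_le_coatom (Subgroup.normalizer ((P : Subgroup G) : Set G)) with h1 | ⟨M, hM, hNM⟩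
  · exact h1
  exfalso
  have hq := h M hM
  have hPM : (P : Subgroup G) ≤ M := Subgroup.le_normalizer.trans hNM
  -- a = |G : N(P)| ≡ 1
  have ha : (Subgroup.normalizer ((P : Subgroup G) : Set G)).index ≡ 1 [MOD p] := by
    have h1 := Sylow.card_eq_index_normalizer P
    have h2 := card_sylow_modEq_one p G
    rw [h1] at h2
    exact h2
  -- b = |M : N(P)| ≡ 1
  have hb : (Subgroup.normalizer ((P : Subgroup G) : Set G)).relIndex M ≡ 1 [MOD p] := by
    have h2 := Sylow.card_eq_index_normalizer (P.subtype hPM)
    have h3 := card_sylow_modEq_one p M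
    rw [h2] at h3
    have h3' : (Subgroup.normalizer (((P : Subgroup G).subgroupOf M : Subgroup M) : Set M)).index
        ≡ 1 [MOD p] := h3
    rw [← Subgroup.subgroupOf_normalizer_eq hPM] at h3'
    exact h3'
  have hmul := Subgroup.relIndex_mul_index hNM
  have hq1 : M.index ≡ 1 [MOD p] := by
    have : (Subgroup.normalizer ((P : Subgroup G) : Set G)).relIndex M * M.index ≡ 1 [MOD p] := by
      rw [hmul]; exact ha
    have h4 : (Subgroup.normalizer ((P : Subgroup G) : Set G)).relIndex M * M.index ≡ 1 * M.index [MOD p] :=
      Nat.ModEq.mul_right _ hb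
    rw [one_mul] at h4
    exact h4.symm.trans this
  have hqle : M.index ≤ p := hmax _ hq (Subgroup.index_dvd_card M)
  have hp := (Fact.out : p.Prime)
  -- M.index ≡ 1 mod p with 2 ≤ M.index ≤ p: contradiction
  have h2 : 2 ≤ M.index := hq.two_le
  rcases Nat.lt_or_ge M.index p with hlt | hge
  · have := Nat.ModEq.eq_of_lt_of_lt hq1 hlt hp.one_lt
    omega
  · have heq : M.index = p := le_antisymm hqle hge
    rw [heq] at hq1
    have : p % p = 1 % p := hq1
    rw [Nat.mod_self, Nat.mod_eq_of_lt hp.one_lt] at this
    omega

theorem aux (n : ℕ) : ∀ (G : Type*) [Group G] [Finite G], Nat.card G = n →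
    (∀ M : Subgroup G, IsCoatom M → M.index.Prime) → Group.IsSolvable G := by
  induction n using Nat.strong_induction_on with
  | _ n ih =>
    intro G _ _ hn h
    by_cases htriv : Nat.card G = 1
    · have : Subsingleton G := (Nat.card_eq_one_iff_unique.mp htriv).1
      infer_instance
    -- largest prime
    have hne : (Nat.card G).primeFactors.Nonempty := by
      rw [Nat.nonempty_primeFactors]
      have : 0 < Nat.card G := Nat.card_pos
      omega
    set p := (Nat.card G).primeFactors.max' hne with hp
    have hpmem : p ∈ (Nat.card G).primeFactors := Finset.max'_mem _ hne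
    have hpp : p.Prime := Nat.prime_of_mem_primeFactors hpmem
    have hpd : p ∣ Nat.card G := Nat.dvd_of_mem_primeFactors hpmem
    have : Fact p.Prime := ⟨hpp⟩
    have hmax : ∀ q : ℕ, q.Prime → q ∣ Nat.card G → q ≤ p := by
      intro q hq hqd
      apply Finset.le_max'
      rw [Nat.mem_primeFactors]
      exact ⟨hq, hqd, Nat.card_pos.ne'⟩
    obtain ⟨P⟩ : Nonempty (Sylow p G) := inferInstance
    have hPn : (P : Subgroup G).Normal := sylow_normal_of_largest h p hmax P
    have hPne : (P : Subgroup G) ≠ ⊥ := P.ne_bot_of_dvd_card hpd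
    -- quotient
    have hcard : Nat.card (G ⧸ (P : Subgroup G)) < n := by
      rw [← hn, ← Subgroup.index_eq_card]
      have h1 := Subgroup.card_mul_index (P : Subgroup G)
      have h2 : 1 < Nat.card (P : Subgroup G) := by
        rw [Subgroup.one_lt_card_iff_ne_bot]; exact hPne
      have h3 : 0 < (P : Subgroup G).index := Nat.pos_of_ne_zero Subgroup.index_ne_zero_of_finite
      nlinarith
    have hquot : Group.IsSolvable (G ⧸ (P : Subgroup G)) := by
      apply ih _ hcard (G ⧸ (P : Subgroup G)) rfl
      intro M hM
      have hsurj := QuotientGroup.mk'_surjective (P : Subgroup G)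
      have := h _ (Subgroup.isCoatom_comap_of_surjective hsurj hM)
      rwa [Subgroup.index_comap_of_surjective M hsurj] at this
    have hPsol : Group.IsSolvable (P : Subgroup G) := by
      have : Group.IsNilpotent (P : Subgroup G) := P.isPGroup'.isNilpotent
      infer_instance
    exact (Group.isSolvable_iff_subgroup_quotient (P : Subgroup G)).mpr ⟨hPsol, hquot⟩

/-- If every maximal subgroup of a finite group has prime index, then the group is solvable. -/
theorem result {G : Type*} [Group G] [Finite G] (h : ∀ M : Subgroup G, IsCoatom M → M.index.Prime) : Group.IsSolvable G :=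
  aux _ G rfl h

end Cfsg.Agent.S0580
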