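import Cfsg.Statements.S0581
import Mathlib
import Cfsg.Agent.Lib.Lead_SZ
import Cfsg.Agent.Lib.Lead_Coprime
import Cfsg.Agent.Lib.Lead_Schmidt
import Cfsg.Agent.Lib.Lead_MinNonNil
import Cfsg.Agent.S0046

set_option autoImplicit false
open Pointwise
open Cfsg

namespace Cfsg.Agent.S0581

open Cfsg.Agent.Lib.Lead_SZ Cfsg.Agent.Lib.Lead_Coprime Cfsg.Agent.Lib.Lead_Schmidt Cfsg.Agent.Lib.Lead_MinNonNil

open scoped Pointwise

/-- conjugating a `p`-subgroup of `L` into a Sylow `p`-subgroup of `G` lying in `L`, inside `L` -/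
theorem conj_into_sylow {G : Type*} [Group G] [Finite G] {p : ℕ} [Fact p.Prime]
    (L P : Subgroup G) (S : Sylow p G) (hPL : P ≤ L) (hSL : (S : Subgroup G) ≤ L)
    (hP : IsPGroup p P) : ∃ y ∈ L, MulAut.conj y • P ≤ (S : Subgroup G) := by
  have hP' : IsPGroup p (P.subgroupOf L) := hP.comap_of_injective L.subtype L.subtype_injective
  obtain ⟨T, hT⟩ := hP'.exists_le_sylow
  obtain ⟨l, hl⟩ := MulAction.exists_smul_eq L T (S.subtype hSL)
  refine ⟨l, l.2, ?_⟩
  intro x hx
  rw [mem_conj_smul] at hx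
  have hxL : x ∈ L := by
    have := L.mul_mem (L.mul_mem l.2 (hPL hx)) (L.inv_mem l.2)
    simpa [mul_assoc] using this
  have h1 : (⟨(l : G)⁻¹ * x * l, hPL hx⟩ : L) ∈ (T : Subgroup L) :=
    hT (Subgroup.mem_subgroupOf.mpr hx)
  have h2 : (⟨x, hxL⟩ : L) ∈ ((l • T : Sylow p L) : Subgroup L) := by
    rw [Sylow.smul_def, Sylow.pointwise_smul_def, mem_conj_smul]
    exact h1
  rw [hl, Sylow.coe_subtype] at h2
  exact Subgroup.mem_subgroupOf.mp h2

theorem main {G : Type*} [Group G] [Finite G] (H : Subgroup G) (hH : Group.IsNilpotent H)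
    (hHall : (Nat.card H).Coprime H.index) : ∀ (n : ℕ) (K : Subgroup G), Nat.card K = n →
    (∀ p : ℕ, p.Prime → p ∣ Nat.card K → p ∣ Nat.card H) → ∃ x : G, K ≤ MulAut.conj x • H := by
  classical
  intro n
  induction n using Nat.strong_induction_on with
  | _ n ih =>
  intro K hKn hK
  by_cases hK1 : K = ⊥
  · exact ⟨1, by rw [hK1]; exact bot_le⟩
  have hprop : ∀ L : Subgroup G, L < K → ∃ x : G, L ≤ MulAut.conj x • H := by
    intro L hL
    apply ih (Nat.card L) (hKn ▸ card_lt hL) L rfl
    intro q hq hqL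
    exact hK q hq (hqL.trans (Subgroup.card_dvd_of_le hL.le))
  have hconjnil : ∀ x : G, Group.IsNilpotent (MulAut.conj x • H : Subgroup G) := by
    intro x
    haveI := hH
    exact nilpotent_of_mulEquiv (Subgroup.equivSMul (MulAut.conj x) H)
  have hmaplt : ∀ M : Subgroup K, M ≠ ⊤ → M.map K.subtype < K := by
    intro M hM
    refine lt_of_le_of_ne (Subgroup.map_subtype_le M) ?_
    intro h
    apply hM
    rw [eq_top_iff]
    intro k _
    have hk : (k : G) ∈ M.map K.subtype := by rw [h]; exact k.2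
    obtain ⟨m, hm, hmk⟩ := hk
    have : m = k := Subtype.ext hmk
    rw [← this]; exact hm
  have hnilsub : ∀ M : Subgroup K, IsCoatom M → Group.IsNilpotent M := by
    intro M hM
    obtain ⟨x, hx⟩ := hprop _ (hmaplt M hM.1)
    have h1 : Group.IsNilpotent (M.map K.subtype) := isNilpotent_of_le hx (hconjnil x)
    haveI := h1
    exact nilpotent_of_mulEquiv (M.equivMapOfInjective K.subtype K.subtype_injective).symm
  haveI : Group.IsSolvable K := Cfsg.Agent.S0046.result hnilsub
  haveI : Nontrivial K := (Subgroup.nontrivial_iff_ne_bot K).mpr hK1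
  obtain ⟨M, hMco, hMn⟩ := exists_normal_coatom (G := K)
  set M' := M.map K.subtype with hM'
  have hM'K : M' < K := hmaplt M hMco.1
  obtain ⟨g, hg⟩ := hprop M' hM'K
  set H' := MulAut.conj g • H with hH'
  have hH'nil : Group.IsNilpotent H' := hconjnil g
  have hidx1 : M.index ≠ 1 := fun h => hMco.1 (Subgroup.index_eq_one.mp h)
  obtain ⟨p, hp, hpdvd⟩ := Nat.exists_prime_and_dvd hidx1
  haveI : Fact p.Prime := ⟨hp⟩
  obtain ⟨Qp⟩ : Nonempty (Sylow p M) := inferInstance
  obtain ⟨P, hP⟩ := (Qp.isPGroup'.map M.subtype).exists_le_sylow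
  have hPM : ¬ (P : Subgroup K) ≤ M := fun h =>
    P.not_dvd_index (hpdvd.trans (Subgroup.index_dvd_of_le h))
  have hsup : M ⊔ (P : Subgroup K) = ⊤ :=
    hMco.2 _ (lt_of_le_of_ne le_sup_left (fun h => hPM (h ▸ le_sup_right)))
  set P' := (P : Subgroup K).map K.subtype with hP'
  have hP'p : IsPGroup p P' := P.isPGroup'.map _
  have hP'K : P' ≤ K := Subgroup.map_subtype_le _
  set S : Set G := {x | x ∈ M' ∧ ∃ q : ℕ, q.Prime ∧ q ≠ p ∧ ∃ k : ℕ, x ^ (q ^ k) = 1} with hS
  set Y := Subgroup.closure S with hY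
  have hYM : Y ≤ M' := (Subgroup.closure_le _).mpr (fun x hx => hx.1)
  have hKY : K ≤ Subgroup.normalizer (Y : Set G) := by
    have key : ∀ k ∈ K, ∀ s ∈ S, k * s * k⁻¹ ∈ Subgroup.closure S := by
      intro k hk s hs
      apply Subgroup.subset_closure
      refine ⟨?_, ?_⟩
      · obtain ⟨m, hm, rfl⟩ := hs.1
        have := hMn.conj_mem m hm ⟨k, hk⟩
        exact ⟨_, this, rfl⟩
      · obtain ⟨q, hq, hqp, j, hj⟩ := hs.2
        refine ⟨q, hq, hqp, j, ?_⟩
        rw [conj_pow, hj]; group
    intro k hk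
    refine mem_normalizer_of_conj_mem (conj_mem_closure_of_forall (key k hk)) ?_
    intro n hn
    have := conj_mem_closure_of_forall (key k⁻¹ (K.inv_mem hk)) n hn
    rwa [inv_inv] at this
  -- the Sylow p-subgroup of H'
  have hpK : p ∣ Nat.card K := hpdvd.trans (Subgroup.index_dvd_card M)
  have hcardH' : Nat.card H' = Nat.card H := card_conj_smul g H
  have hpH' : p ∣ Nat.card H' := by rw [hcardH']; exact hK p hp hpK
  have hidxH' : H'.index = H.index := by
    rw [hH', Subgroup.pointwise_smul_def]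
    exact Subgroup.index_map_equiv H (MulAut.conj g)
  obtain ⟨Hp⟩ : Nonempty (Sylow p H') := inferInstance
  set Hp' := (Hp : Subgroup H').map H'.subtype with hHp'
  have hHp'H' : Hp' ≤ H' := Subgroup.map_subtype_le _
  have hHp'p : IsPGroup p Hp' := Hp.isPGroup'.map _
  have hcardHp' : Nat.card Hp' = p ^ (Nat.card G).factorization p := by
    have h1 : Nat.card Hp' = Nat.card (Hp : Subgroup H') :=
      (Nat.card_congr ((Hp : Subgroup H').equivMapOfInjective H'.subtype
        H'.subtype_injective).toEquiv).symm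
    rw [h1, Hp.card_eq_multiplicity]
    congr 1
    have h2 := H'.card_mul_index
    have hnd : ¬ p ∣ H'.index := by
      intro hd
      have hcop : (Nat.card H').Coprime H'.index := by rw [hcardH', hidxH']; exact hHall
      exact hp.one_lt.ne' (Nat.eq_one_of_dvd_coprimes hcop hpH' hd)
    rw [← h2, Nat.factorization_mul Nat.card_pos.ne' Subgroup.index_ne_zero_of_finite]
    simp [Nat.factorization_eq_zero_of_not_dvd hnd]
  set Sy : Sylow p G := Sylow.ofCard Hp' hcardHp' with hSy
  have hHpY : Hp' ≤ Subgroup.normalizer (Y : Set G) := by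
    intro h hh
    refine Subgroup.centralizer_le_normalizer (Y : Set G) ?_
    rw [Subgroup.mem_centralizer_iff]
    intro y hy
    have hy' : y ∈ Subgroup.closure S := hy
    clear hy
    induction hy' using Subgroup.closure_induction with
    | mem s hs =>
      obtain ⟨hsM, q, hq, hqp, j, hj⟩ := hs
      haveI : Fact q.Prime := ⟨hq⟩
      have hB : IsPGroup q (Subgroup.zpowers s) := by
        have h1 : orderOf s ∣ q ^ j := orderOf_dvd_of_pow_eq_one hj
        obtain ⟨i, -, hi⟩ := (Nat.dvd_prime_pow hq).mp h1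
        exact IsPGroup.of_card (n := i) (by rw [Nat.card_zpowers, hi])
      exact commute_of_nilpotent hqp hH'nil hB hHp'p
        ((Subgroup.zpowers_le).mpr (hg hsM)) hHp'H' (Subgroup.mem_zpowers s) hh
    | one => simp
    | mul a b _ _ ha hb =>
      calc a * b * h = a * (b * h) := by group
        _ = a * (h * b) := by rw [hb]
        _ = (a * h) * b := by group
        _ = h * a * b := by rw [ha]
        _ = h * (a * b) := by group
    | inv a _ ha =>
      calc a⁻¹ * h = a⁻¹ * (h * a) * a⁻¹ := by group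
        _ = a⁻¹ * (a * h) * a⁻¹ := by rw [ha]
        _ = h * a⁻¹ := by group
  obtain ⟨y, hyN, hy⟩ := conj_into_sylow (Subgroup.normalizer (Y : Set G)) P' Sy
    (hP'K.trans hKY) hHpY hP'p
  -- M' ≤ Y ⊔ P'
  have hM'le : M' ≤ Y ⊔ P' := by
    set T : Subgroup M := (Y ⊔ P').comap (K.subtype.comp M.subtype) with hT
    have hTtop : T = ⊤ := by
      apply eq_top_of_forall_sylow_le
      intro r hr
      by_cases hrp : r = p
      · subst hrp
        refine ⟨Qp, ?_⟩
        intro x hx
        rw [hT, Subgroup.mem_comap]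
        apply Subgroup.mem_sup_right
        have h1 : M.subtype x ∈ (P : Subgroup K) := hP (Subgroup.mem_map_of_mem _ hx)
        exact Subgroup.mem_map_of_mem K.subtype h1
      · obtain ⟨Qr⟩ : Nonempty (Sylow r M) := inferInstance
        refine ⟨Qr, ?_⟩
        intro x hx
        rw [hT, Subgroup.mem_comap]
        apply Subgroup.mem_sup_left
        apply Subgroup.subset_closure
        refine ⟨⟨M.subtype x, x.2, rfl⟩, r, hr.out, hrp, ?_⟩
        obtain ⟨k, hk⟩ := Qr.isPGroup' ⟨x, hx⟩
        refine ⟨k, ?_⟩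
        have h1 : (x : M) ^ (r ^ k) = 1 := by simpa using congrArg Subtype.val hk
        have h2 : ((x : M) : K) ^ (r ^ k) = 1 := by
          have := congrArg (fun z : M => (z : K)) h1
          simpa using this
        have h3 : (((x : M) : K) : G) ^ (r ^ k) = 1 := by
          have := congrArg (fun z : K => (z : G)) h2
          simpa using this
        exact h3
    rintro _ ⟨m, hm, rfl⟩
    have : (⟨m, hm⟩ : M) ∈ T := hTtop ▸ Subgroup.mem_top _
    exact this
  have hKle : K ≤ Y ⊔ P' := by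
    intro k hk
    have h1 : (⟨k, hk⟩ : K) ∈ M ⊔ (P : Subgroup K) := hsup ▸ Subgroup.mem_top _
    have h2 : k ∈ (M ⊔ (P : Subgroup K)).map K.subtype := ⟨_, h1, rfl⟩
    rw [Subgroup.map_sup] at h2
    exact (sup_le hM'le le_sup_right) h2
  refine ⟨y⁻¹ * g, ?_⟩
  intro k hk
  rw [mem_conj_smul]
  have h1 : y * k * y⁻¹ ∈ MulAut.conj y • (Y ⊔ P') := by
    rw [mem_conj_smul]
    have : y⁻¹ * (y * k * y⁻¹) * y = k := by group
    rw [this]; exact hKle hk
  rw [Subgroup.smul_sup, conj_smul_le_normalizer.mp hyN] at h1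
  have h2 : y * k * y⁻¹ ∈ H' := by
    refine (sup_le (hYM.trans hg) ?_) h1
    exact hy.trans hHp'H'
  rw [hH', mem_conj_smul] at h2
  have e : (y⁻¹ * g)⁻¹ * k * (y⁻¹ * g) = g⁻¹ * (y * k * y⁻¹) * g := by group
  rw [e]; exact h2


/-- Let H be a nilpotent subgroup of a finite group G whose order is coprime to its index, and K a subgroup every prime divisor of whose order divides the order of H. Then K lies in some conjugate of H. -/
theorem result {G : Type*} [Group G] [Finite G] (H K : Subgroup G) (hH : Group.IsNilpotent H) (hHall : (Nat.card H).Coprime H.index) (hK : ∀ p : ℕ, p.Prime → p ∣ Nat.card K → p ∣ Nat.card H) : ∃ x : G, K ≤ MulAut.conj x • H := by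
  exact main H hH hHall _ K rfl hK

end Cfsg.Agent.S0581
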