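import Cfsg.Statements.S0582
import Mathlib
import Cfsg.Agent.Lib.Helper1_Supersolvable3
import Cfsg.Agent.Lib.Lead_SZ

set_option autoImplicit false
open Pointwise
open Cfsg

namespace Cfsg.Agent.S0582

open Cfsg.Agent.Lib.Lead_SZ Cfsg.Agent.Lib.Helper1_Supersolvable Cfsg.Agent.Lib.Helper1_Supersolvable3

open scoped Pointwise

universe u

theorem exists_normal_sylow_of_max {G : Type*} [Group G] [Finite G] (hG : IsSupersolvable G)
    (p : ℕ) (hp : p.Prime) (hpG : p ∣ Nat.card G)
    (hmax : ∀ q : ℕ, q.Prime → q ∣ Nat.card G → q ≤ p) :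
    ∃ M : Subgroup G, M.Normal ∧ Nat.card M = p ^ (Nat.card G).factorization p := by
  induction hn : Nat.card G using Nat.strong_induction_on generalizing G with
  | _ n ih =>
  obtain ⟨N, hNn, hNc⟩ := exists_normal_card_eq_of_max hG p hp hpG hmax
  haveI := hNn
  have hcard := Subgroup.card_eq_card_quotient_mul_card_subgroup N
  have hQne : Nat.card (G ⧸ N) ≠ 0 := Nat.card_pos.ne'
  have hfac : (Nat.card G).factorization p = (Nat.card (G ⧸ N)).factorization p + 1 := by
    rw [hcard, hNc, Nat.factorization_mul hQne hp.ne_zero]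
    simp [hp.factorization_self]
  by_cases hpQ : p ∣ Nat.card (G ⧸ N)
  · have hmaxQ : ∀ q : ℕ, q.Prime → q ∣ Nat.card (G ⧸ N) → q ≤ p := fun q hq hqd =>
      hmax q hq (hcard ▸ Dvd.dvd.mul_right hqd _)
    obtain ⟨Mb, hMbn, hMbc⟩ := ih _ (hn ▸ card_quotient_lt N (hNc ▸ hp)) (quotient N hG) hpQ hmaxQ rfl
    refine ⟨Mb.comap (QuotientGroup.mk' N), hMbn.comap _, ?_⟩
    rw [card_comap_mk', hMbc, hNc, ← hn, hfac, pow_succ]
  · refine ⟨N, hNn, ?_⟩
    rw [← hn, hfac, Nat.factorization_eq_zero_of_not_dvd hpQ, hNc]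
    simp

theorem main : ∀ (n : ℕ) (G : Type u) [Group G] [Finite G] (H K : Subgroup G), Nat.card H = n →
    IsSupersolvable H → IsSupersolvable K → Nat.card H = Nat.card K →
    (Nat.card H).Coprime H.index → ∃ x : G, MulAut.conj x • H = K := by
  intro n
  induction n using Nat.strong_induction_on with
  | _ n ih =>
  intro G _ _ H K hn hH hK hcard hcop
  by_cases h1 : Nat.card H = 1
  · have hHb : H = ⊥ := Subgroup.card_eq_one.mp h1
    have hKb : K = ⊥ := Subgroup.card_eq_one.mp (hcard ▸ h1)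
    refine ⟨1, ?_⟩
    rw [hHb, hKb]
    simp
  have hHpos : 0 < Nat.card H := Nat.card_pos
  obtain ⟨p, hp, hpH, hmaxp⟩ := exists_max_prime (Nat.card H) (by omega)
  haveI := Fact.mk hp
  obtain ⟨MH, hMHn, hMHc⟩ := exists_normal_sylow_of_max hH p hp hpH hmaxp
  obtain ⟨MK, hMKn, hMKc⟩ := exists_normal_sylow_of_max hK p hp (hcard ▸ hpH)
    (by rw [← hcard]; exact hmaxp)
  set P := MH.map H.subtype with hP
  set Q := MK.map K.subtype with hQ
  have hpi : ¬ p ∣ H.index :=
    (Nat.Prime.coprime_iff_not_dvd hp).mp (Nat.Coprime.coprime_dvd_left hpH hcop)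
  have hv : (Nat.card G).factorization p = (Nat.card H).factorization p := by
    rw [← H.card_mul_index, Nat.factorization_mul hHpos.ne' Subgroup.index_ne_zero_of_finite]
    simp [Nat.factorization_eq_zero_of_not_dvd hpi]
  have hPc : Nat.card P = p ^ (Nat.card G).factorization p := by
    rw [hv, ← hMHc]
    exact Nat.card_congr (MH.equivMapOfInjective H.subtype H.subtype_injective).symm.toEquiv
  have hQc : Nat.card Q = p ^ (Nat.card G).factorization p := by
    rw [hv, hcard, ← hMKc]
    exact Nat.card_congr (MK.equivMapOfInjective K.subtype K.subtype_injective).symm.toEquiv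
  obtain ⟨g, hg⟩ := MulAction.exists_smul_eq G (Sylow.ofCard Q hQc) (Sylow.ofCard P hPc)
  have hgQ : MulAut.conj g • Q = P := by
    have := congrArg Sylow.toSubgroup hg
    rw [Sylow.smul_def, Sylow.pointwise_smul_def] at this
    exact this
  set K' := MulAut.conj g • K with hK'
  have hHN : H ≤ Subgroup.normalizer (P : Set G) := by
    have h2 := Subgroup.le_normalizer_map (H := MH) H.subtype
    rw [Subgroup.normalizer_eq_top_iff.mpr hMHn, ← MonoidHom.range_eq_map, Subgroup.range_subtype] at h2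
    exact h2
  have hKNQ : K ≤ Subgroup.normalizer (Q : Set G) := by
    have h2 := Subgroup.le_normalizer_map (H := MK) K.subtype
    rw [Subgroup.normalizer_eq_top_iff.mpr hMKn, ← MonoidHom.range_eq_map, Subgroup.range_subtype] at h2
    exact h2
  have hK'N : K' ≤ Subgroup.normalizer (P : Set G) := by
    intro y hy
    rw [hK', mem_conj_smul] at hy
    have h2 := hKNQ hy
    rw [conj_smul_le_normalizer] at h2 ⊢
    rw [← hgQ, conj_smul_smul]
    have h3 : y * g = g * (g⁻¹ * y * g) := by group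
    rw [h3, ← conj_smul_smul, h2]
  set N := Subgroup.normalizer (P : Set G) with hN
  set P' := P.subgroupOf N with hP'
  haveI : P'.Normal := Subgroup.normal_in_normalizer
  set f := QuotientGroup.mk' P' with hf
  have hfs : Function.Surjective f := QuotientGroup.mk'_surjective P'
  set H₁ := H.subgroupOf N with hH₁
  set K₁ := K'.subgroupOf N with hK₁
  have hPH : P ≤ H := Subgroup.map_subtype_le MH
  have hPK' : P ≤ K' := by
    rw [← hgQ, hK']
    exact conj_smul_mono g (Subgroup.map_subtype_le MK)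
  have hP'H₁ : P' ≤ H₁ := fun x hx => Subgroup.mem_subgroupOf.mpr (hPH (Subgroup.mem_subgroupOf.mp hx))
  have hP'K₁ : P' ≤ K₁ := fun x hx => Subgroup.mem_subgroupOf.mpr (hPK' (Subgroup.mem_subgroupOf.mp hx))
  have hP'c : Nat.card P' = Nat.card P := card_subgroupOf_of_le Subgroup.le_normalizer
  have hP'gt : 1 < Nat.card P' := by
    rw [hP'c, hPc, hv]
    apply Nat.one_lt_pow _ hp.one_lt
    exact (Nat.pos_of_ne_zero ((hp.factorization_pos_of_dvd hHpos.ne' hpH).ne')).ne'
  have hcH' : Nat.card (H₁.map f) * Nat.card P' = Nat.card H := by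
    rw [card_map_of_le P' H₁ hP'H₁, hH₁, card_subgroupOf_of_le hHN]
  have hcK'' : Nat.card (K₁.map f) * Nat.card P' = Nat.card H := by
    rw [card_map_of_le P' K₁ hP'K₁, hK₁, card_subgroupOf_of_le hK'N, hK', card_conj_smul, hcard]
  have hlt : Nat.card (H₁.map f) < n := by
    rw [← hn, ← hcH']
    exact lt_mul_of_one_lt_right Nat.card_pos hP'gt
  have hcc : Nat.card (H₁.map f) = Nat.card (K₁.map f) :=
    Nat.eq_of_mul_eq_mul_right (by omega) (hcH'.trans hcK''.symm)
  have hH' : IsSupersolvable (H₁.map f) := by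
    have h2 : IsSupersolvable H₁ := of_mulEquiv (Subgroup.subgroupOfEquivOfLe hHN).symm hH
    exact map_of_surjective (f.subgroupMap H₁) (f.subgroupMap_surjective H₁) h2
  have hK'' : IsSupersolvable (K₁.map f) := by
    have h2 : IsSupersolvable K' := of_mulEquiv (Subgroup.equivSMul (MulAut.conj g) K) hK
    have h3 : IsSupersolvable K₁ := of_mulEquiv (Subgroup.subgroupOfEquivOfLe hK'N).symm h2
    exact map_of_surjective (f.subgroupMap K₁) (f.subgroupMap_surjective K₁) h3
  have hker : f.ker = P' := QuotientGroup.ker_mk' P'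
  have hcop' : (Nat.card (H₁.map f)).Coprime (H₁.map f).index := by
    rw [Subgroup.index_map_eq H₁ hfs (hker.le.trans hP'H₁)]
    have h2 : H₁.index ∣ H.index := Subgroup.relIndex_dvd_index_of_le hHN
    have h3 : Nat.card (H₁.map f) ∣ Nat.card H := Dvd.intro _ hcH'
    exact Nat.Coprime.coprime_dvd_left h3 (Nat.Coprime.coprime_dvd_right h2 hcop)
  obtain ⟨xb, hxb⟩ := ih _ hlt (↥N ⧸ P') (H₁.map f) (K₁.map f) rfl hH' hK'' hcc hcop'
  obtain ⟨x, rfl⟩ := hfs xb
  rw [← map_conj_smul, Subgroup.map_eq_map_iff, hker] at hxb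
  have hP'x : P' ≤ MulAut.conj x • H₁ := by
    rw [← Subgroup.Normal.conj_smul_eq_self x P']
    exact conj_smul_mono x hP'H₁
  rw [sup_eq_left.mpr hP'x, sup_eq_left.mpr hP'K₁] at hxb
  have h5 := conj_of_subgroupOf N x H K' hHN hK'N hxb
  refine ⟨g⁻¹ * (x : G), ?_⟩
  rw [← conj_smul_smul, h5, hK', conj_smul_smul, inv_mul_cancel, map_one, one_smul]


/-- Let H and K be supersolvable subgroups of a finite group G of the same order, that order being coprime to their index. Then H and K are conjugate in G. -/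
theorem result {G : Type*} [Group G] [Finite G] (H K : Subgroup G) (hH : Cfsg.IsSupersolvable H) (hK : Cfsg.IsSupersolvable K) (hcard : Nat.card H = Nat.card K) (hHall : (Nat.card H).Coprime H.index) : ∃ x : G, MulAut.conj x • H = K := by
  exact main _ G H K rfl hH hK hcard hHall

end Cfsg.Agent.S0582
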