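import Cfsg.Statements.S0584
import Mathlib

set_option autoImplicit false
open Cfsg

namespace Cfsg.Agent.S0584

/-- Let B ≤ A be normal subgroups of a finite group G with B contained in the Frattini subgroup of G. If A modulo B is nilpotent then A is nilpotent. -/
theorem result {G : Type*} [Group G] [Finite G] (A B : Subgroup G) [A.Normal] [B.Normal] (hBA : B ≤ A) (hB : B ≤ frattini G) (h : Group.IsNilpotent (↥A ⧸ B.subgroupOf A)) : Group.IsNilpotent A := by
  have q := (Group.isNilpotent_of_finite_tfae (G := A)).out 0 3
  rw [q]; clear q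
  intro p p_prime P
  -- quotient map
  set B' := B.subgroupOf A with hB'
  have hsurj : Function.Surjective (QuotientGroup.mk' B') := QuotientGroup.mk'_surjective B'
  -- image Sylow is normal
  have hPbar : ((P.mapSurjective hsurj : Sylow p (↥A ⧸ B')) : Subgroup (↥A ⧸ B')).Normal :=
    inferInstance
  -- Q = comap π (map π P) = P ⊔ B'
  have hQn : ((P : Subgroup A) ⊔ B').Normal := by
    have h1 : (((P : Subgroup A).map (QuotientGroup.mk' B')).comap (QuotientGroup.mk' B')).Normal := by
      have : ((P : Subgroup A).map (QuotientGroup.mk' B')).Normal := hPbar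
      infer_instance
    rwa [Subgroup.comap_map_eq, QuotientGroup.ker_mk'] at h1
  -- Frattini in A
  have hfr1 : Subgroup.normalizer ((P : Subgroup A) : Set A) ⊔ ((P : Subgroup A) ⊔ B') = ⊤ :=
    Sylow.normalizer_sup_eq_top' P le_sup_left
  have hfr1' : Subgroup.normalizer ((P : Subgroup A) : Set A) ⊔ B' = ⊤ := by
    rw [← hfr1, ← sup_assoc, sup_eq_left.mpr (Subgroup.le_normalizer : (P : Subgroup A) ≤ _)]
  -- Frattini in G
  have hfr2 := Sylow.normalizer_sup_eq_top P
  have hA : A ≤ Subgroup.normalizer (((P : Subgroup A).map A.subtype : Subgroup G) : Set G) ⊔ B := by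
    have : A = (⊤ : Subgroup A).map A.subtype := by
      rw [← MonoidHom.range_eq_map, Subgroup.range_subtype]
    refine this.le.trans ?_
    rw [← hfr1', Subgroup.map_sup]
    apply sup_le_sup
    · exact Subgroup.le_normalizer_map A.subtype
    · rw [hB', Subgroup.subgroupOf_map_subtype]
      exact inf_le_left
  have htop : Subgroup.normalizer (((P : Subgroup A).map A.subtype : Subgroup G) : Set G) ⊔ frattini G = ⊤ := by
    rw [eq_top_iff, ← hfr2]
    apply sup_le
    · exact le_sup_left
    · exact hA.trans (sup_le_sup le_rfl hB)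
  have normalizer_P := frattini_nongenerating htop
  have P_normal_in_G : (Subgroup.map A.subtype (P : Subgroup A)).Normal :=
    Subgroup.normalizer_eq_top_iff.mp normalizer_P
  exact P_normal_in_G.of_map_subtype

end Cfsg.Agent.S0584
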