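import Cfsg.Statements.S0585
import Mathlib

set_option autoImplicit false
open Cfsg

namespace Cfsg.Agent.S0585

/-- If the Frattini subgroup of a finite group G is trivial, then every abelian normal subgroup of G has a complement in G. -/
theorem result {G : Type*} [Group G] [Finite G] (hΦ : frattini G = ⊥) (A : Subgroup G) [A.Normal] [IsMulCommutative A] : ∃ H : Subgroup G, Subgroup.IsComplement' A H := by
  obtain ⟨H, hH⟩ := exists_minimal_of_wellFoundedLT (fun H : Subgroup G => A ⊔ H = ⊤) ⟨⊤, by simp⟩
  have hAH : A ⊔ H = ⊤ := hH.1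
  have hmin : ∀ K : Subgroup G, A ⊔ K = ⊤ → K ≤ H → H ≤ K := fun K hK hKH => hH.2 hK hKH
  refine ⟨H, ?_⟩
  -- D = A ⊓ H is normal
  have hDn : (A ⊓ H).Normal := by
    rw [← Subgroup.normalizer_eq_top_iff, eq_top_iff, ← hAH]
    apply sup_le
    · intro a ha
      rw [Subgroup.mem_normalizer_iff]
      intro d
      have key : ∀ d ∈ A, a * d * a⁻¹ = d := by
        intro d hd
        have := mul_comm' (⟨a, ha⟩ : A) ⟨d, hd⟩
        have h2 : a * d = d * a := congrArg Subtype.val this
        rw [h2, mul_inv_cancel_right]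
      constructor
      · intro hd
        rw [key d hd.1]; exact hd
      · intro hd
        have hdA : d ∈ A := by
          have := ‹A.Normal›.conj_mem _ hd.1 a⁻¹
          simpa [mul_assoc] using this
        rw [key d hdA] at hd; exact hd
    · intro h hh
      rw [Subgroup.mem_normalizer_iff]
      intro d
      constructor
      · intro hd
        exact ⟨‹A.Normal›.conj_mem _ hd.1 h, H.mul_mem (H.mul_mem hh hd.2) (H.inv_mem hh)⟩
      · intro hd
        refine ⟨?_, ?_⟩
        · have := ‹A.Normal›.conj_mem _ hd.1 h⁻¹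
          simpa [mul_assoc] using this
        · have := H.mul_mem (H.mul_mem (H.inv_mem hh) hd.2) hh
          simpa [mul_assoc] using this
  -- D ≤ frattini G
  have hD : A ⊓ H ≤ frattini G := by
    unfold frattini Order.radical
    apply le_iInf₂
    intro M hM
    by_contra hDM
    have hsup : (A ⊓ H) ⊔ M = ⊤ := by
      by_contra hne
      have hlt : M < (A ⊓ H) ⊔ M := lt_of_le_of_ne le_sup_right (fun h => hDM (h ▸ le_sup_left))
      exact hne (hM.2 _ hlt)
    have hHsub : H ≤ (A ⊓ H) ⊔ (H ⊓ M) := by
      intro h hh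
      have hmem : h ∈ ((((A ⊓ H) ⊔ M : Subgroup G)) : Set G) := by rw [hsup]; trivial
      rw [Subgroup.normal_mul] at hmem
      obtain ⟨d, hd, m, hm, rfl⟩ := hmem
      have hmH : m ∈ H := by
        have := H.mul_mem (H.inv_mem hd.2) hh
        simpa using this
      exact Subgroup.mul_mem_sup hd ⟨hmH, hm⟩
    have hK : A ⊔ (H ⊓ M) = ⊤ := by
      rw [eq_top_iff, ← hAH]
      apply sup_le le_sup_left
      refine hHsub.trans ?_
      apply sup_le
      · exact inf_le_left.trans le_sup_left
      · exact le_sup_right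
    have := hmin _ hK inf_le_left
    exact hDM (inf_le_right.trans (this.trans inf_le_right))
  rw [hΦ, le_bot_iff] at hD
  apply Subgroup.isComplement'_of_disjoint_and_mul_eq_univ
  · rw [disjoint_iff]; exact hD
  · rw [← Subgroup.normal_mul, hAH]; rfl

end Cfsg.Agent.S0585
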