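import Cfsg.Statements.S0586
import Mathlib
import Cfsg.Agent.S0583
import Cfsg.Agent.S0585
import Cfsg.Agent.S0044

set_option autoImplicit false
open Cfsg

namespace Cfsg.Agent.S0586

open scoped IsMulCommutative in
theorem le_fitting_of_comm {G : Type*} [Group G] (A : Subgroup G) (hn : A.Normal)
    (hc : IsMulCommutative A) : A ≤ Cfsg.fittingSubgroup G := by
  unfold Cfsg.fittingSubgroup
  apply le_sSup
  exact ⟨hn, inferInstance⟩

theorem exists_minimal_normal_le {G : Type*} [Group G] [Finite G] (X : Subgroup G) (hXn : X.Normal)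
    (hX : X ≠ ⊥) : ∃ K : Subgroup G, K.Normal ∧ K ≠ ⊥ ∧ K ≤ X ∧
      ∀ J : Subgroup G, J.Normal → J ≤ K → J = ⊥ ∨ J = K := by
  obtain ⟨K, hK⟩ := exists_minimal_of_wellFoundedLT
    (fun K : Subgroup G => K.Normal ∧ K ≠ ⊥ ∧ K ≤ X) ⟨X, hXn, hX, le_rfl⟩
  refine ⟨K, hK.1.1, hK.1.2.1, hK.1.2.2, ?_⟩
  intro J hJn hJK
  by_cases hJ : J = ⊥
  · exact Or.inl hJ
  · right
    exact le_antisymm hJK (hK.2 ⟨hJn, hJ, le_trans hJK hK.1.2.2⟩ hJK)

theorem result {G : Type*} [Group G] [Finite G] (hΦ : frattini G = ⊥) : Cfsg.fittingSubgroup G = sSup {N : Subgroup G | N.Normal ∧ N ≠ ⊥ ∧ IsMulCommutative N ∧ ∀ K : Subgroup G, K.Normal → K ≤ N → K = ⊥ ∨ K = N} := by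
  set 𝒮 : Set (Subgroup G) := {N : Subgroup G | N.Normal ∧ N ≠ ⊥ ∧ IsMulCommutative N ∧
    ∀ K : Subgroup G, K.Normal → K ≤ N → K = ⊥ ∨ K = N} with h𝒮
  set F := Cfsg.fittingSubgroup G with hF
  set S := sSup 𝒮 with hS
  have hFn : F.Normal := Cfsg.Agent.S0044.fitting_normal
  have hSn : S.Normal := Cfsg.Agent.S0044.sSup_normal 𝒮 (fun N hN => hN.1)
  have hSF : S ≤ F := sSup_le (fun N hN => le_fitting_of_comm N hN.1 hN.2.2.1)
  -- F centralizes every minimal normal subgroup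
  have hFcent : ∀ N ∈ 𝒮, F ≤ Subgroup.centralizer (N : Set G) := by
    intro N hN
    haveI := hN.1
    exact Cfsg.Agent.S0583.result N hN.2.1 hN.2.2.2
  -- F centralizes S
  have hFS : F ≤ Subgroup.centralizer (S : Set G) := by
    rw [Subgroup.le_centralizer_iff]
    apply sSup_le
    intro N hN
    rw [← Subgroup.le_centralizer_iff]
    exact hFcent N hN
  -- S commutative
  haveI hScomm : IsMulCommutative S := by
    refine ⟨⟨fun a b => ?_⟩⟩
    apply Subtype.ext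
    have := (Subgroup.mem_centralizer_iff.mp (hFS (hSF b.2))) a a.2
    exact this
  obtain ⟨H, hH⟩ := Cfsg.Agent.S0585.result hΦ S
  have hSH : S ⊓ H = ⊥ := disjoint_iff.mp hH.disjoint
  -- F ⊓ H is normal
  have hFHn : (F ⊓ H).Normal := by
    constructor
    intro x hx g
    obtain ⟨⟨s, h⟩, hsh⟩ := hH.2 g
    have hg : (s : G) * h = g := hsh
    have hxs : (s : G)⁻¹ * x * s = x := by
      have hc := (Subgroup.mem_centralizer_iff.mp (hFS hx.1)) s s.2
      rw [mul_assoc, ← hc, inv_mul_cancel_left]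
    refine ⟨hFn.conj_mem x hx.1 g, ?_⟩
    rw [← hg]
    have h1 : (h : G) * x * (h : G)⁻¹ ∈ F ⊓ H :=
      ⟨hFn.conj_mem x hx.1 h, H.mul_mem (H.mul_mem h.2 hx.2) (H.inv_mem h.2)⟩
    have hc := (Subgroup.mem_centralizer_iff.mp (hFS h1.1)) s s.2
    have e : (s : G) * h * x * ((s : G) * h)⁻¹ = (s : G) * ((h : G) * x * (h : G)⁻¹) * (s : G)⁻¹ := by
      group
    rw [e, hc, mul_inv_cancel_right]
    exact h1.2
  have hFH : F ⊓ H = ⊥ := by
    by_contra hne
    obtain ⟨K, hKn, hKne, hKle, hKmin⟩ := exists_minimal_normal_le (F ⊓ H) hFHn hne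
    have hKF : K ≤ F := le_trans hKle inf_le_left
    haveI := hKn
    have hKc : F ≤ Subgroup.centralizer (K : Set G) := Cfsg.Agent.S0583.result K hKne hKmin
    have hKcomm : IsMulCommutative K := by
      refine ⟨⟨fun a b => ?_⟩⟩
      apply Subtype.ext
      exact (Subgroup.mem_centralizer_iff.mp (hKc (hKF b.2))) a a.2
    have hKS : K ≤ S := le_sSup ⟨hKn, hKne, hKcomm, hKmin⟩
    have : K ≤ S ⊓ H := le_inf hKS (le_trans hKle inf_le_right)
    rw [hSH] at this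
    exact hKne (eq_bot_iff.mpr this)
  apply le_antisymm _ hSF
  intro f hf
  obtain ⟨⟨s, h⟩, hsh⟩ := hH.2 f
  have hg : (s : G) * h = f := hsh
  have hh : (h : G) ∈ F ⊓ H := by
    refine ⟨?_, h.2⟩
    have : (h : G) = (s : G)⁻¹ * f := by rw [← hg]; group
    rw [this]
    exact F.mul_mem (F.inv_mem (hSF s.2)) hf
  rw [hFH, Subgroup.mem_bot] at hh
  rw [← hg, hh, mul_one]
  exact s.2

end Cfsg.Agent.S0586
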