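import Cfsg.Statements.S0589
import Mathlib
import Cfsg.Agent.Lib.Lead_Frob

set_option autoImplicit false
open Cfsg

namespace Cfsg.Agent.S0589

open Cfsg.Agent.Lib.Lead_SZ Cfsg.Agent.Lib.Lead_Frob
open scoped Pointwise

/-- In the coset action of a group with Frobenius complement `H`, a non-identity element fixes
at most one coset. -/
theorem fix_unique {G : Type*} [Group G] (H : Subgroup G) (hH : Cfsg.IsFrobeniusComplement H)
    (x : G) (hx : x ≠ 1) (a b : G ⧸ H) (ha : x • a = a) (hb : x • b = b) : a = b := by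
  obtain ⟨a, rfl⟩ := QuotientGroup.mk_surjective a
  obtain ⟨b, rfl⟩ := QuotientGroup.mk_surjective b
  rw [MulAction.Quotient.smul_mk, QuotientGroup.eq, smul_eq_mul] at ha hb
  rw [QuotientGroup.eq]
  by_contra hab
  have h1 := conj_inf_conj_eq_bot hH a b hab
  have hxa : x ∈ MulAut.conj a • H := by
    rw [mem_conj_smul]
    have := H.inv_mem ha
    simpa [mul_assoc] using this
  have hxb : x ∈ MulAut.conj b • H := by
    rw [mem_conj_smul]
    have := H.inv_mem hb
    simpa [mul_assoc] using this
  have : x ∈ MulAut.conj a • H ⊓ MulAut.conj b • H := ⟨hxa, hxb⟩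
  rw [h1, Subgroup.mem_bot] at this
  exact hx this

/-- Fixed point lemma: a finite group `L` acting on a finite set `Ω` with `|Ω| ≡ 1 mod |L|`,
where non-identity elements fix at most one point, has a global fixed point. -/
theorem exists_fixed {L Ω : Type*} [Group L] [Finite L] [Finite Ω] [MulAction L Ω]
    (hfix : ∀ x : L, x ≠ 1 → ∀ a b : Ω, x • a = a → x • b = b → a = b)
    (hcard : Nat.card Ω % Nat.card L = 1 % Nat.card L) (hL : 1 < Nat.card L) :
    ∃ ω : Ω, ∀ y : L, y • ω = ω := by
  classical
  -- the set of non-regular points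
  let T : Set Ω := {ω | ∃ x : L, x ≠ 1 ∧ x • ω = ω}
  have hTinv : ∀ (y : L) (ω : Ω), ω ∈ T → y • ω ∈ T := by
    rintro y ω ⟨x, hx1, hx⟩
    refine ⟨y * x * y⁻¹, ?_, ?_⟩
    · intro h
      apply hx1
      have := congrArg (fun z => y⁻¹ * z * y) h
      simpa [mul_assoc] using this
    · rw [mul_smul, mul_smul, inv_smul_smul, hx]
  have hTcinv : ∀ (y : L) (ω : Ω), ω ∈ Tᶜ → y • ω ∈ Tᶜ := by
    intro y ω hω h
    apply hω
    have := hTinv y⁻¹ _ h
    rwa [inv_smul_smul] at this
  -- |T| ≤ |L| - 1
  have hTle : Nat.card T + 1 ≤ Nat.card L := by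
    have hch : ∀ ω : T, ∃ x : L, x ≠ 1 ∧ x • (ω : Ω) = ω := fun ω => ω.2
    choose f hf1 hf using hch
    let φ : Option T → L := fun o => o.elim 1 f
    have hφ : Function.Injective φ := by
      intro o1 o2 h
      cases o1 with
      | none =>
        cases o2 with
        | none => rfl
        | some b => exact absurd h.symm (hf1 b)
      | some a =>
        cases o2 with
        | none => exact absurd h (hf1 a)
        | some b =>
          have hab : f a = f b := h
          have := hfix (f a) (hf1 a) a b (hf a) (by rw [hab]; exact hf b)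
          rw [Subtype.ext this]
    have := Nat.card_le_card_of_injective φ hφ
    rw [Finite.card_option] at this
    exact this
  -- L acts freely on the complement
  let M : SubMulAction L Ω := { carrier := Tᶜ, smul_mem' := fun y ω h => hTcinv y ω h }
  have hMfree : ∀ ω : M, MulAction.stabilizer L ω = ⊥ := by
    intro ω
    rw [eq_bot_iff]
    intro y hy
    rw [MulAction.mem_stabilizer_iff] at hy
    rw [Subgroup.mem_bot]
    by_contra hne
    apply ω.2
    exact ⟨y, hne, by simpa using congrArg Subtype.val hy⟩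
  have hdvd : Nat.card L ∣ Nat.card M := card_dvd_of_stabilizer_eq_bot hMfree
  have hsum : Nat.card Ω = Nat.card T + Nat.card M := by
    have e : Ω ≃ T ⊕ (Tᶜ : Set Ω) := (Equiv.Set.sumCompl T).symm
    rw [Nat.card_congr e, Nat.card_sum]
    rfl
  -- |T| ≡ 1 mod |L| and |T| < |L|, so |T| = 1
  have hT1 : Nat.card T = 1 := by
    obtain ⟨c, hc⟩ := hdvd
    rw [hsum, hc, Nat.add_mul_mod_self_left] at hcard
    rw [Nat.mod_eq_of_lt (by omega), Nat.mod_eq_of_lt hL] at hcard
    exact hcard
  obtain ⟨ω, hω⟩ := Nat.card_eq_one_iff_exists.mp hT1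
  refine ⟨ω, fun y => ?_⟩
  have := hω ⟨y • ω, hTinv y ω ω.2⟩
  exact congrArg Subtype.val this

theorem result {G : Type*} [Group G] [Finite G] (H : Subgroup G) (hH : Cfsg.IsFrobeniusComplement H) (L : Subgroup G) (hL : Nat.card L ∣ Nat.card H) : ∃ x : G, L ≤ MulAut.conj x • H := by
  by_cases hL1 : Nat.card L = 1
  · refine ⟨1, ?_⟩
    rw [Subgroup.card_eq_one] at hL1
    rw [hL1]
    exact bot_le
  · have hL2 : 1 < Nat.card L := by
      have : 0 < Nat.card L := Nat.card_pos
      omega
    have hmod : Nat.card (G ⧸ H) % Nat.card L = 1 % Nat.card L := by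
      have h1 := index_mod_card hH
      rw [Subgroup.index_eq_card] at h1
      have hmodeq : Nat.card (G ⧸ H) ≡ 1 [MOD Nat.card H] := h1
      exact hmodeq.of_dvd hL
    have hfix : ∀ x : L, x ≠ 1 → ∀ a b : G ⧸ H, x • a = a → x • b = b → a = b := by
      intro x hx a b ha hb
      apply fix_unique H hH (x : G) (fun h => hx (Subtype.ext h)) a b
      · exact ha
      · exact hb
    obtain ⟨ω, hω⟩ := exists_fixed hfix hmod hL2
    obtain ⟨g, rfl⟩ := QuotientGroup.mk_surjective ω
    refine ⟨g, fun y hy => ?_⟩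
    have := hω ⟨y, hy⟩
    change (y : G) • (g : G ⧸ H) = g at this
    rw [MulAction.Quotient.smul_mk, QuotientGroup.eq, smul_eq_mul] at this
    rw [mem_conj_smul]
    have h2 := H.inv_mem this
    simpa [mul_assoc] using h2

end Cfsg.Agent.S0589
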