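import Cfsg.Statements.S0590
import Mathlib

set_option autoImplicit false
open Cfsg

namespace Cfsg.Agent.S0590

open scoped commutatorElement

/-- basic facts on quadratic action -/
theorem quad_basic {G : Type*} [Group G] (V H : Subgroup G)
    (hHV : H ≤ Subgroup.normalizer (V : Set G)) (hq : ⁅⁅V, H⁆, H⁆ = ⊥) :
    ∀ v ∈ V, ∀ a ∈ H, ⁅v, a⁆ ∈ V ∧ ∀ h ∈ H, h * ⁅v, a⁆ = ⁅v, a⁆ * h := by
  intro v hv a ha
  refine ⟨?_, ?_⟩
  · have h1 : a * v⁻¹ * a⁻¹ ∈ V := ((Subgroup.mem_normalizer_iff.mp (hHV ha)) v⁻¹).mp (V.inv_mem hv)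
    have h2 : ⁅v, a⁆ = v * (a * v⁻¹ * a⁻¹) := by rw [commutatorElement_def]; group
    rw [h2]; exact V.mul_mem hv h1
  · have h1 := (Subgroup.commutator_eq_bot_iff_le_centralizer.mp hq)
      (Subgroup.commutator_mem_commutator hv ha)
    exact Subgroup.mem_centralizer_iff.mp h1

theorem conj_eq {G : Type*} [Group G] (v a : G) : a * v * a⁻¹ = ⁅v, a⁆⁻¹ * v := by
  rw [commutatorElement_def]; group

/-- Quadratic action on an elementary abelian p-group forces the acting group modulo the kernel of the action to be elementary abelian. -/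
theorem result {G : Type*} [Group G] [Finite G] {p : ℕ} [Fact p.Prime] (V H : Subgroup G) (hV : Cfsg.IsElementaryAbelian p V) (hHV : H ≤ Subgroup.normalizer (V : Set G)) (hq : ⁅⁅V, H⁆, H⁆ = ⊥) : ⁅H, H⁆ ≤ Subgroup.centralizer (V : Set G) ∧ ∀ a ∈ H, a ^ p ∈ Subgroup.centralizer (V : Set G) := by
  have hb := quad_basic V H hHV hq
  have hVc := hV.1
  have hVcomm : ∀ x ∈ V, ∀ y ∈ V, x * y = y * x := fun x hx y hy =>
    congrArg Subtype.val (mul_comm' (⟨x, hx⟩ : V) ⟨y, hy⟩)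
  refine ⟨?_, ?_⟩
  · rw [Subgroup.commutator_le]
    intro a ha b hb'
    rw [Subgroup.mem_centralizer_iff]
    intro v hv
    -- (b a) v (b a)⁻¹ = (a b) v (a b)⁻¹
    have key : ∀ a ∈ H, ∀ b ∈ H, b * (a * v * a⁻¹) * b⁻¹ = a * (b * v * b⁻¹) * a⁻¹ := by
      intro a ha b hb'
      obtain ⟨hwaV, hwa⟩ := hb v hv a ha
      obtain ⟨hwbV, hwb⟩ := hb v hv b hb'
      have e1 : b * (a * v * a⁻¹) * b⁻¹ = ⁅v, a⁆⁻¹ * (⁅v, b⁆⁻¹ * v) := by
        rw [conj_eq v a]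
        have : b * (⁅v, a⁆⁻¹ * v) * b⁻¹ = (b * ⁅v, a⁆⁻¹ * b⁻¹) * (b * v * b⁻¹) := by group
        rw [this, conj_eq v b]
        have h3 : b * ⁅v, a⁆⁻¹ * b⁻¹ = ⁅v, a⁆⁻¹ := by
          have := hwa b hb'
          have h4 : b * ⁅v, a⁆⁻¹ = ⁅v, a⁆⁻¹ * b := by
            rw [eq_inv_mul_iff_mul_eq, ← mul_assoc, ← this, mul_assoc, mul_inv_cancel, mul_one]
          rw [h4, mul_inv_cancel_right]
        rw [h3]
      have e2 : a * (b * v * b⁻¹) * a⁻¹ = ⁅v, b⁆⁻¹ * (⁅v, a⁆⁻¹ * v) := by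
        rw [conj_eq v b]
        have : a * (⁅v, b⁆⁻¹ * v) * a⁻¹ = (a * ⁅v, b⁆⁻¹ * a⁻¹) * (a * v * a⁻¹) := by group
        rw [this, conj_eq v a]
        have h3 : a * ⁅v, b⁆⁻¹ * a⁻¹ = ⁅v, b⁆⁻¹ := by
          have := hwb a ha
          have h4 : a * ⁅v, b⁆⁻¹ = ⁅v, b⁆⁻¹ * a := by
            rw [eq_inv_mul_iff_mul_eq, ← mul_assoc, ← this, mul_assoc, mul_inv_cancel, mul_one]
          rw [h4, mul_inv_cancel_right]
        rw [h3]
      rw [e1, e2, ← mul_assoc, ← mul_assoc,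
        hVcomm _ (V.inv_mem hwaV) _ (V.inv_mem hwbV)]
    have k := key a⁻¹ (H.inv_mem ha) b⁻¹ (H.inv_mem hb')
    rw [inv_inv, inv_inv] at k
    -- k : b⁻¹ * (a⁻¹ * v * a) * b = a⁻¹ * (b⁻¹ * v * b) * a
    rw [commutatorElement_def]
    have : v = a * b * (b⁻¹ * (a⁻¹ * v * a) * b) * b⁻¹ * a⁻¹ := by group
    calc v * (a * b * a⁻¹ * b⁻¹)
        = a * b * (b⁻¹ * (a⁻¹ * v * a) * b) * b⁻¹ * a⁻¹ * (a * b * a⁻¹ * b⁻¹) := by rw [← this]
      _ = a * b * (a⁻¹ * (b⁻¹ * v * b) * a) * b⁻¹ * a⁻¹ * (a * b * a⁻¹ * b⁻¹) := by rw [k]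
      _ = a * b * a⁻¹ * b⁻¹ * v := by group
  · intro a ha
    rw [Subgroup.mem_centralizer_iff]
    intro v hv
    obtain ⟨hwV, hw⟩ := hb v hv a ha
    have hca : Commute a ⁅v, a⁆⁻¹ := by
      have := hw a ha
      have h4 : a * ⁅v, a⁆⁻¹ = ⁅v, a⁆⁻¹ * a := by
        rw [eq_inv_mul_iff_mul_eq, ← mul_assoc, ← this, mul_assoc, mul_inv_cancel, mul_one]
      exact h4
    have hpow : ∀ k : ℕ, a ^ k * v * (a ^ k)⁻¹ = (⁅v, a⁆⁻¹) ^ k * v := by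
      intro k
      induction k with
      | zero => simp
      | succ k ih =>
        have e : a ^ (k + 1) * v * (a ^ (k + 1))⁻¹ = a * (a ^ k * v * (a ^ k)⁻¹) * a⁻¹ := by
          rw [pow_succ']; group
        rw [e, ih]
        have e2 : a * (⁅v, a⁆⁻¹ ^ k * v) * a⁻¹ = (a * ⁅v, a⁆⁻¹ ^ k * a⁻¹) * (a * v * a⁻¹) := by group
        rw [e2, conj_eq v a]
        have e3 : a * ⁅v, a⁆⁻¹ ^ k * a⁻¹ = ⁅v, a⁆⁻¹ ^ k := by
          have := (hca.pow_right k).eq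
          rw [this, mul_inv_cancel_right]
        rw [e3, ← mul_assoc, ← pow_succ]
    have h1 := hpow p
    rw [inv_pow, hV.2 _ hwV, inv_one, one_mul] at h1
    -- a^p v (a^p)⁻¹ = v
    calc v * a ^ p = (a ^ p * v * (a ^ p)⁻¹) * a ^ p := by rw [h1]
      _ = a ^ p * v := by group

end Cfsg.Agent.S0590
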