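import Cfsg.Statements.S0591
import Mathlib
import Cfsg.Agent.S0590

set_option autoImplicit false
open Cfsg

namespace Cfsg.Agent.S0591

open scoped commutatorElement

/-- For a quadratically acting element a on an elementary abelian p-group V, the fixed points C_V(a) have order at least the square root of the order of V. -/
theorem result {G : Type*} [Group G] [Finite G] {p : ℕ} [Fact p.Prime] (V : Subgroup G) (hV : Cfsg.IsElementaryAbelian p V) (a : G) (ha : a ∈ Subgroup.normalizer (V : Set G)) (hq : ⁅⁅V, Subgroup.zpowers a⁆, Subgroup.zpowers a⁆ = ⊥) : Nat.card V ≤ Nat.card ↥(V ⊓ Subgroup.centralizer (Subgroup.zpowers a : Set G)) ^ 2 := by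
  have hHV : Subgroup.zpowers a ≤ Subgroup.normalizer (V : Set G) := by
    rw [Subgroup.zpowers_le]; exact ha
  have hb := Cfsg.Agent.S0590.quad_basic V (Subgroup.zpowers a) hHV hq
  have haH : a ∈ Subgroup.zpowers a := Subgroup.mem_zpowers a
  have hVc := hV.1
  have hVcomm : ∀ x ∈ V, ∀ y ∈ V, x * y = y * x := fun x hx y hy =>
    congrArg Subtype.val (mul_comm' (⟨x, hx⟩ : V) ⟨y, hy⟩)
  set C := V ⊓ Subgroup.centralizer (Subgroup.zpowers a : Set G) with hC
  -- the homomorphism v ↦ [v, a]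
  let f : V →* V := MonoidHom.mk' (fun v => ⟨⁅(v : G), a⁆, (hb v v.2 a haH).1⟩) (by
    intro v w
    apply Subtype.ext
    show ⁅(v : G) * (w : G), a⁆ = ⁅(v : G), a⁆ * ⁅(w : G), a⁆
    rw [commutatorElement_mul_left_eq_conj_mul]
    have h1 : (v : G) * ⁅(w : G), a⁆ * (v : G)⁻¹ = ⁅(w : G), a⁆ := by
      rw [hVcomm _ v.2 _ (hb w w.2 a haH).1, mul_inv_cancel_right]
    rw [h1]
    exact hVcomm _ (hb w w.2 a haH).1 _ (hb v v.2 a haH).1)
  have hfapp : ∀ v : V, ((f v : V) : G) = ⁅(v : G), a⁆ := fun v => rfl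
  have hcard : Nat.card f.ker * Nat.card f.range = Nat.card V := by
    rw [← Subgroup.index_ker]; exact Subgroup.card_mul_index f.ker
  -- ker f ≤ C
  have hker : (f.ker.map V.subtype) ≤ C := by
    rintro _ ⟨v, hv, rfl⟩
    refine ⟨v.2, ?_⟩
    have hv' : f v = 1 := MonoidHom.mem_ker.mp hv
    have h1 : ⁅(v : G), a⁆ = 1 := by rw [← hfapp, hv']; rfl
    rw [commutatorElement_eq_one_iff_commute] at h1
    show (v : G) ∈ Subgroup.centralizer (Subgroup.zpowers a : Set G)
    rw [Subgroup.mem_centralizer_iff]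
    intro x hx
    obtain ⟨k, rfl⟩ := Subgroup.mem_zpowers_iff.mp hx
    exact ((h1.zpow_right k).eq).symm
  have hrange : (f.range.map V.subtype) ≤ C := by
    rintro _ ⟨_, ⟨v, rfl⟩, rfl⟩
    refine ⟨(f v).2, ?_⟩
    show ((f v : V) : G) ∈ Subgroup.centralizer (Subgroup.zpowers a : Set G)
    rw [Subgroup.mem_centralizer_iff]
    intro x hx
    exact (hb v v.2 a haH).2 x hx
  have h1 : Nat.card f.ker ≤ Nat.card C := by
    rw [← Subgroup.card_map_of_injective V.subtype_injective]
    exact Subgroup.card_le_of_le hker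
  have h2 : Nat.card f.range ≤ Nat.card C := by
    rw [← Subgroup.card_map_of_injective V.subtype_injective]
    exact Subgroup.card_le_of_le hrange
  calc Nat.card V = Nat.card f.ker * Nat.card f.range := hcard.symm
    _ ≤ Nat.card C * Nat.card C := Nat.mul_le_mul h1 h2
    _ = Nat.card C ^ 2 := (sq _).symm

end Cfsg.Agent.S0591
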