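import Cfsg.Statements.S0597
import Mathlib
import Cfsg.Agent.Lib.Helper5_Stab
import Cfsg.Agent.Lib.Helper4_Subnormal
import Cfsg.Agent.Lib.Helper4_SubnormalClosure
import Cfsg.Agent.S0538

set_option autoImplicit false
open Cfsg

namespace Cfsg.Agent.S0597

open Cfsg.Agent.Lib.Helper5_Stab Cfsg.Agent.Lib.Helper4_Subnormal Cfsg.Agent.Lib.Helper4_SubnormalClosure
open scoped commutatorElement

/-- If two subnormal subgroups of a faithful group on an elementary abelian p-group satisfy [V, E₁, E₂] = 1, then their commutator lies in the largest normal p-subgroup. -/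
theorem result {G : Type*} [Group G] [Finite G] {p : ℕ} [Fact p.Prime] (V H : Subgroup G) (hV : Cfsg.IsElementaryAbelian p V) (hHV : H ≤ Subgroup.normalizer (V : Set G)) (hf : H ⊓ Subgroup.centralizer (V : Set G) = ⊥) (E₁ E₂ : Subgroup G) (h₁ : E₁ ≤ H) (h₂ : E₂ ≤ H) (hs₁ : (E₁.subgroupOf H).IsSubnormal) (hs₂ : (E₂.subgroupOf H).IsSubnormal) (hc : ⁅⁅V, E₁⁆, E₂⁆ = ⊥) : ⁅E₁, E₂⁆ ≤ (Cfsg.pCore p H).map H.subtype := by
  classical
  set W : Subgroup G := ⁅V, E₁⁆ with hW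
  have hE₁N : E₁ ≤ Subgroup.normalizer (V : Set G) := h₁.trans hHV
  have hE₂N : E₂ ≤ Subgroup.normalizer (V : Set G) := h₂.trans hHV
  have hWV : W ≤ V := by
    rw [hW, Subgroup.commutator_le]
    intro v hv e he
    have h1 : e * v⁻¹ * e⁻¹ ∈ V :=
      (Subgroup.mem_normalizer_iff.mp (hE₁N he) v⁻¹).mp (V.inv_mem hv)
    have e1 : ⁅v, e⁆ = v * (e * v⁻¹ * e⁻¹) := by rw [commutatorElement_def]; group
    rw [e1]
    exact V.mul_mem hv h1
  have hWp : ∀ w ∈ W, w ^ p = 1 := fun w hw => hV.2 w (hWV hw)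
  have hE₂W : ∀ e ∈ E₂, ∀ w ∈ W, e * w = w * e := by
    intro e he w hw
    have h1 : ⁅w, e⁆ ∈ ⁅W, E₂⁆ := Subgroup.commutator_mem_commutator hw he
    rw [hc, Subgroup.mem_bot, commutatorElement_eq_one_iff_mul_comm] at h1
    exact h1.symm
  have hE₁W : ∀ e ∈ E₁, ∀ w ∈ W, e * w * e⁻¹ ∈ W := fun e he w hw =>
    conj_mem_commutator_right V E₁ e he w hw
  have hP₁ : ∀ e ∈ E₁, ∀ v ∈ V, ⁅e, v⁆ ∈ W := by
    intro e he v hv
    rw [← commutatorElement_inv]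
    exact W.inv_mem (Subgroup.commutator_mem_commutator hv he)
  have hXH : ⁅E₁, E₂⁆ ≤ H := (commutator_le_sup' E₁ E₂).trans (sup_le h₁ h₂)
  have hXstab : ⁅E₁, E₂⁆ ≤ stabChain V W := by
    rw [Subgroup.commutator_le]
    intro a ha b hb
    have hxH : ⁅a, b⁆ ∈ H := hXH (Subgroup.commutator_mem_commutator ha hb)
    rw [mem_stabChain]
    refine ⟨hHV hxH, ?_, ?_⟩
    · intro w hw
      have hw' : a⁻¹ * w * a ∈ W := by
        have := hE₁W a⁻¹ (E₁.inv_mem ha) w hw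
        rwa [inv_inv] at this
      have c1 : b⁻¹ * w = w * b⁻¹ := hE₂W b⁻¹ (E₂.inv_mem hb) w hw
      have c2 : b * (a⁻¹ * w * a) = (a⁻¹ * w * a) * b := hE₂W b hb _ hw'
      calc ⁅a, b⁆ * w = a * b * a⁻¹ * (b⁻¹ * w) := by rw [commutatorElement_def]; group
        _ = a * b * a⁻¹ * (w * b⁻¹) := by rw [c1]
        _ = a * (b * (a⁻¹ * w * a)) * a⁻¹ * b⁻¹ := by group
        _ = a * ((a⁻¹ * w * a) * b) * a⁻¹ * b⁻¹ := by rw [c2]
        _ = w * ⁅a, b⁆ := by rw [commutatorElement_def]; group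
    · intro v hv
      have hv'' : b⁻¹ * v * b ∈ V := by
        have := (Subgroup.mem_normalizer_iff.mp (E₂.inv_mem hb |> fun h => hE₂N h) v).mp hv
        rwa [inv_inv] at this
      have hc1 : ⁅a⁻¹, b⁻¹ * v * b⁆ ∈ W := hP₁ a⁻¹ (E₁.inv_mem ha) _ hv''
      have hc2 : b * ⁅a⁻¹, b⁻¹ * v * b⁆ * b⁻¹ = ⁅a⁻¹, b⁻¹ * v * b⁆ := by
        rw [hE₂W b hb _ hc1]; group
      have hc3 : ⁅b * a⁻¹ * b⁻¹, v⁆ = b * ⁅a⁻¹, b⁻¹ * v * b⁆ * b⁻¹ := by
        simp only [commutatorElement_def]; group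
      have hc4 : ⁅b * a⁻¹ * b⁻¹, v⁆ ∈ W := by rw [hc3, hc2]; exact hc1
      have e : ⁅⁅a, b⁆, v⁆ = (a * ⁅b * a⁻¹ * b⁻¹, v⁆ * a⁻¹) * ⁅a, v⁆ := by
        simp only [commutatorElement_def]; group
      rw [e]
      exact W.mul_mem (hE₁W a ha _ hc4) (hP₁ a ha v hv)
  have hpow : ∀ x ∈ ⁅E₁, E₂⁆, x ^ p = 1 := by
    intro x hx
    have h1 := stab_pow_mem_centralizer V W p hWp x (hXstab hx)
    have h2 : x ^ p ∈ H := H.pow_mem (hXH hx) p
    have h3 : x ^ p ∈ H ⊓ Subgroup.centralizer (V : Set G) := ⟨h2, h1⟩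
    rw [hf, Subgroup.mem_bot] at h3
    exact h3
  -- inside H
  have hJ : (E₁.subgroupOf H ⊔ E₂.subgroupOf H).IsSubnormal :=
    Cfsg.Agent.S0538.result _ _ hs₁ hs₂
  have hX'sub : (⁅E₁.subgroupOf H, E₂.subgroupOf H⁆).IsSubnormal :=
    isSubnormal_of_normal_in _ _ hJ (commutator_le_sup' _ _) (sup_le_normalizer_commutator _ _)
  have hX'map : (⁅E₁.subgroupOf H, E₂.subgroupOf H⁆).map H.subtype = ⁅E₁, E₂⁆ := by
    rw [Subgroup.map_commutator, Subgroup.map_subgroupOf_eq_of_le h₁,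
      Subgroup.map_subgroupOf_eq_of_le h₂]
  have hX'p : IsPGroup p ↥(⁅E₁.subgroupOf H, E₂.subgroupOf H⁆) := by
    intro x'
    refine ⟨1, ?_⟩
    rw [pow_one]
    apply Subtype.ext
    apply Subtype.ext
    have hmem : ((x' : ↥H) : G) ∈ ⁅E₁, E₂⁆ := by
      rw [← hX'map]
      exact ⟨x', x'.2, rfl⟩
    exact hpow _ hmem
  have hle := subnormal_pGroup_le_pCore _ hX'sub hX'p
  rw [← hX'map]
  exact Subgroup.map_mono hle

end Cfsg.Agent.S0597
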