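import Cfsg.Statements.S0599
import Cfsg.Agent.Lib.Helper3_Replacement2

set_option autoImplicit false
open Cfsg

namespace Cfsg.Agent.S0599

/-- The Timmesfeld replacement Theorem: replacing a best offender A by C_A([U, A]) gives a best offender with fixed points [U, A]C_V(A), still nontrivial on V if A was. -/
theorem result {G : Type*} [Group G] [Finite G] {p : ℕ} [Fact p.Prime] (V A : Subgroup G) (hV : Cfsg.IsElementaryAbelian p V) (hAV : A ≤ Subgroup.normalizer (V : Set G)) (hA : Cfsg.IsBestOffenderOn p V A) (U : Subgroup G) (hU : U ≤ V) : Cfsg.IsBestOffenderOn p V (A ⊓ Subgroup.centralizer ((⁅U, A⁆ : Subgroup G) : Set G)) ∧ V ⊓ Subgroup.centralizer ((A ⊓ Subgroup.centralizer ((⁅U, A⁆ : Subgroup G) : Set G) : Subgroup G) : Set G) = ⁅U, A⁆ ⊔ (V ⊓ Subgroup.centralizer (A : Set G)) ∧ (⁅V, A⁆ ≠ ⊥ → ⁅V, A ⊓ Subgroup.centralizer ((⁅U, A⁆ : Subgroup G) : Set G)⁆ ≠ ⊥) := by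
  classical
  obtain ⟨hbest, hab, hpow⟩ := hA
  have hbest' : ∀ B : Subgroup G, B ≤ A →
      Cfsg.Agent.Lib.Helper3_Replacement.ff V B ≤ Cfsg.Agent.Lib.Helper3_Replacement.ff V A := hbest
  have h := Cfsg.Agent.Lib.Helper3_Replacement.replacement V A hV.1 hAV hab hbest' U hU
  have hBA : A ⊓ Subgroup.centralizer ((⁅U, A⁆ : Subgroup G) : Set G) ≤ A := inf_le_left
  refine ⟨⟨?_, ?_, ?_⟩, h.2, ?_⟩
  · intro B' hB'
    have h1 := hbest B' (hB'.trans hBA)
    have h2 := h.1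
    unfold Cfsg.Agent.Lib.Helper3_Replacement.ff Cfsg.Agent.Lib.Helper3_Replacement.cv at h2
    rw [h2]
    exact h1
  · exact (Subgroup.commutator_mono hBA hBA).trans hab
  · intro a ha
    exact hpow a (hBA ha)
  · intro hne hbot
    apply hne
    have hVle : V ≤ Subgroup.centralizer
        ((A ⊓ Subgroup.centralizer ((⁅U, A⁆ : Subgroup G) : Set G) : Subgroup G) : Set G) :=
      Subgroup.commutator_eq_bot_iff_le_centralizer.mp hbot
    have h2 := h.2
    unfold Cfsg.Agent.Lib.Helper3_Replacement.cv at h2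
    rw [inf_eq_left.mpr hVle] at h2
    apply Cfsg.Agent.Lib.Helper3_Replacement2.nilpotent_action p V A hV.1 hV.2 hAV hpow
    calc V = ⁅U, A⁆ ⊔ (V ⊓ Subgroup.centralizer (A : Set G)) := h2
      _ ≤ ⁅V, A⁆ ⊔ Cfsg.Agent.Lib.Helper3_Replacement.cv V A :=
        sup_le_sup_right (Subgroup.commutator_mono hU le_rfl) _

end Cfsg.Agent.S0599
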