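import Cfsg.Statements.S0600
import Mathlib

set_option autoImplicit false
open Cfsg

namespace Cfsg.Agent.S0600

/-- A normal elementary abelian p-subgroup generated by the fixed points of the Sylow p-subgroups admits no nontrivial normal p-subgroup of G modulo its centralizer. -/
theorem result {G : Type*} [Group G] [Finite G] {p : ℕ} [Fact p.Prime] (V : Subgroup G) [V.Normal] (hV : Cfsg.IsElementaryAbelian p V) (hgen : V = ⨆ S : Sylow p G, V ⊓ Subgroup.centralizer ((S : Subgroup G) : Set G)) : Cfsg.pCore p (G ⧸ Subgroup.centralizer (V : Set G)) = ⊥ := by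
  set C := Subgroup.centralizer (V : Set G) with hC
  unfold Cfsg.pCore
  rw [eq_bot_iff]
  apply sSup_le
  rintro N ⟨hNn, hNp⟩
  intro xbar hxbar
  rw [Subgroup.mem_bot]
  obtain ⟨x, rfl⟩ := QuotientGroup.mk'_surjective C xbar
  have hsurj : Function.Surjective (QuotientGroup.mk' C) := QuotientGroup.mk'_surjective C
  show ((x : G) : G ⧸ C) = 1
  rw [QuotientGroup.eq_one_iff]
  -- x centralizes each V ⊓ C(S)
  have hx : V ≤ Subgroup.centralizer ({x} : Set G) := by
    rw [hgen]
    apply iSup_le
    intro S v hv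
    have hNS : N ≤ ((S.mapSurjective hsurj : Sylow p (G ⧸ C)) : Subgroup (G ⧸ C)) :=
      hNp.le_sylow_of_normal _
    obtain ⟨s, hs, hsx⟩ := hNS hxbar
    have hc : s⁻¹ * x ∈ C := by
      rw [← QuotientGroup.eq]; exact hsx
    rw [Subgroup.mem_centralizer_iff]
    intro y hy
    rw [Set.mem_singleton_iff] at hy; subst hy
    have h1 : s * v = v * s := ((Subgroup.mem_centralizer_iff.mp hv.2) s hs)
    have h2 : v * (s⁻¹ * y) = (s⁻¹ * y) * v := (Subgroup.mem_centralizer_iff.mp hc) v hv.1
    calc y * v = s * ((s⁻¹ * y) * v) := by group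
      _ = s * (v * (s⁻¹ * y)) := by rw [h2]
      _ = (s * v) * (s⁻¹ * y) := by group
      _ = (v * s) * (s⁻¹ * y) := by rw [h1]
      _ = v * y := by group
  rw [hC, Subgroup.mem_centralizer_iff]
  intro v hv
  exact ((Subgroup.mem_centralizer_iff.mp (hx hv)) x rfl).symm

end Cfsg.Agent.S0600
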