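import Cfsg.Statements.S0601
import Mathlib
import Cfsg.Agent.Lib.Helper1_Thompson
import Cfsg.Agent.Lib.Helper1_Index

set_option autoImplicit false
open Cfsg
open Cfsg.Agent.Lib.Helper1_Thompson

namespace Cfsg.Agent.S0601

theorem pCore_le_sylow' {G : Type*} [Group G] [Finite G] {p : ℕ} [Fact p.Prime]
    (Q : Sylow p G) : Cfsg.pCore p G ≤ Q := by
  unfold Cfsg.pCore
  apply sSup_le
  rintro N ⟨hn, hN⟩
  exact hN.le_sylow_of_normal Q

/-- the generating set of `W` -/
def gens {G : Type*} [Group G] (p : ℕ) (S : Subgroup G) : Set G :=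
  {x : G | x ∈ S ⊓ Subgroup.centralizer (S : Set G) ∧ x ^ p = 1}

theorem W_eq {G : Type*} [Group G] (p : ℕ) :
    (⨆ S : Sylow p G, Cfsg.omegaOne p (((S : Subgroup G)) ⊓ Subgroup.centralizer ((S : Subgroup G) : Set G)))
      = Subgroup.closure (⋃ S : Sylow p G, gens p (S : Subgroup G)) := by
  rw [Subgroup.closure_iUnion]
  rfl

theorem conj_gens {G : Type*} [Group G] {p : ℕ} (S : Sylow p G) (g x : G)
    (hx : x ∈ gens p (S : Subgroup G)) :
    g * x * g⁻¹ ∈ gens p ((g • S : Sylow p G) : Subgroup G) := by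
  obtain ⟨⟨hxS, hxC⟩, hxp⟩ := hx
  have hmem : ∀ y : G, y ∈ ((g • S : Sylow p G) : Subgroup G) ↔ g⁻¹ * y * g ∈ (S : Subgroup G) := by
    intro y
    rw [Sylow.coe_subgroup_smul, Subgroup.mem_pointwise_smul_iff_inv_smul_mem]
    simp [MulAut.smul_def]
  refine ⟨⟨?_, ?_⟩, ?_⟩
  · show g * x * g⁻¹ ∈ ((g • S : Sylow p G) : Subgroup G)
    rw [hmem]
    have : g⁻¹ * (g * x * g⁻¹) * g = x := by group
    rw [this]; exact hxS
  · show g * x * g⁻¹ ∈ Subgroup.centralizer (((g • S : Sylow p G) : Subgroup G) : Set G)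
    rw [Subgroup.mem_centralizer_iff]
    intro y hy
    have hy' : g⁻¹ * y * g ∈ (S : Subgroup G) := (hmem y).mp hy
    have h1 := (Subgroup.mem_centralizer_iff.mp hxC) _ hy'
    calc y * (g * x * g⁻¹) = g * ((g⁻¹ * y * g) * x) * g⁻¹ := by group
      _ = g * (x * (g⁻¹ * y * g)) * g⁻¹ := by rw [h1]
      _ = g * x * g⁻¹ * y := by group
  · rw [conj_pow, hxp, mul_one, mul_inv_cancel]

/-- When O_p(G) contains its centralizer, the normal closure of Ω₁(Z(S)) is elementary abelian and G has no nontrivial normal p-subgroup modulo its centralizer. -/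
theorem result {G : Type*} [Group G] [Finite G] {p : ℕ} [Fact p.Prime] (hc : Subgroup.centralizer (Cfsg.pCore p G : Set G) ≤ Cfsg.pCore p G) : (⨆ S : Sylow p G, Cfsg.omegaOne p (((S : Subgroup G)) ⊓ Subgroup.centralizer ((S : Subgroup G) : Set G))).Normal ∧ Cfsg.IsElementaryAbelian p (⨆ S : Sylow p G, Cfsg.omegaOne p (((S : Subgroup G)) ⊓ Subgroup.centralizer ((S : Subgroup G) : Set G))) ∧ ∀ D : Subgroup G, D.Normal → Subgroup.centralizer ((⨆ S : Sylow p G, Cfsg.omegaOne p (((S : Subgroup G)) ⊓ Subgroup.centralizer ((S : Subgroup G) : Set G)) : Subgroup G) : Set G) ≤ D → (∃ k : ℕ, (Subgroup.centralizer ((⨆ S : Sylow p G, Cfsg.omegaOne p (((S : Subgroup G)) ⊓ Subgroup.centralizer ((S : Subgroup G) : Set G)) : Subgroup G) : Set G)).relIndex D = p ^ k) → D = Subgroup.centralizer ((⨆ S : Sylow p G, Cfsg.omegaOne p (((S : Subgroup G)) ⊓ Subgroup.centralizer ((S : Subgroup G) : Set G)) : Subgroup G) : Set G) := by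
  rw [W_eq]
  set T : Set G := ⋃ S : Sylow p G, gens p (S : Subgroup G) with hT
  set W := Subgroup.closure T with hW
  have hTconj : ∀ g : G, ∀ x ∈ T, g * x * g⁻¹ ∈ T := by
    intro g x hx
    rw [hT, Set.mem_iUnion] at hx ⊢
    obtain ⟨S, hxS⟩ := hx
    exact ⟨g • S, conj_gens S g x hxS⟩
  have hWn : W.Normal := by
    constructor
    intro n hn g
    induction hn using Subgroup.closure_induction with
    | mem x hx => exact Subgroup.subset_closure (hTconj g x hx)
    | one => simp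
    | mul x y _ _ hx hy =>
      have : g * (x * y) * g⁻¹ = (g * x * g⁻¹) * (g * y * g⁻¹) := by group
      rw [this]; exact W.mul_mem hx hy
    | inv x _ hx =>
      have : g * x⁻¹ * g⁻¹ = (g * x * g⁻¹)⁻¹ := by group
      rw [this]; exact W.inv_mem hx
  -- generators are in Z(O_p(G))
  have hTP : ∀ x ∈ T, x ∈ Cfsg.pCore p G ∧ x ∈ Subgroup.centralizer (Cfsg.pCore p G : Set G) := by
    intro x hx
    rw [hT, Set.mem_iUnion] at hx
    obtain ⟨S, ⟨⟨hxS, hxC⟩, hxp⟩⟩ := hx
    have h1 : x ∈ Subgroup.centralizer (Cfsg.pCore p G : Set G) := by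
      rw [Subgroup.mem_centralizer_iff]
      intro y hy
      exact (Subgroup.mem_centralizer_iff.mp hxC) y (pCore_le_sylow' S hy)
    exact ⟨hc h1, h1⟩
  have hWEA : IsElementaryAbelian p W := by
    apply isElementaryAbelian_closure
    · intro a ha b hb
      exact ((Subgroup.mem_centralizer_iff.mp (hTP b hb).2) a (hTP a ha).1)
    · intro a ha
      rw [hT, Set.mem_iUnion] at ha
      obtain ⟨S, ⟨_, hap⟩⟩ := ha
      exact hap
  refine ⟨hWn, hWEA, ?_⟩
  intro D hDn hCD hk
  obtain ⟨k, hk⟩ := hk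
  set CW := Subgroup.centralizer (W : Set G) with hCW
  have hCWn : CW.Normal := Subgroup.normal_centralizer
  apply le_antisymm _ hCD
  -- for each Sylow S, D = (S ⊓ D) ⊔ CW
  have hDS : ∀ S : Sylow p G, D ≤ ((S : Subgroup G) ⊓ D) ⊔ CW := by
    intro S
    set E := ((S : Subgroup G) ⊓ D) ⊔ CW with hE
    have hED : E ≤ D := sup_le inf_le_right hCD
    have h1 : CW.relIndex E * E.relIndex D = CW.relIndex D :=
      Subgroup.relIndex_mul_relIndex _ _ _ le_sup_right hED
    have h2 : ((S : Subgroup G) ⊓ D).relIndex E * E.relIndex D = ((S : Subgroup G) ⊓ D).relIndex D :=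
      Subgroup.relIndex_mul_relIndex _ _ _ le_sup_left hED
    rw [Subgroup.inf_relIndex_right] at h2
    have h3 : ¬ p ∣ (S : Subgroup G).relIndex D :=
      Cfsg.Agent.Lib.Helper1_Index.not_dvd_relIndex_of_isSubnormal p S D hDn.isSubnormal
    have h4 : E.relIndex D ∣ p ^ k := by rw [← hk, ← h1]; exact dvd_mul_left _ _
    have h5 : ¬ p ∣ E.relIndex D := fun h => h3 (by rw [← h2]; exact dvd_mul_of_dvd_right h _)
    obtain ⟨j, _, hj⟩ := (Nat.dvd_prime_pow (Fact.out : p.Prime)).mp h4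
    have hj0 : j = 0 := by
      by_contra hne
      apply h5
      rw [hj]
      exact dvd_pow_self p hne
    rw [hj0, pow_zero] at hj
    exact Subgroup.relIndex_eq_one.mp hj
  intro d hd
  rw [hCW, Subgroup.mem_centralizer_iff]
  -- d centralizes closure T iff centralizes T
  have hdT : ∀ x ∈ T, x * d = d * x := by
    intro x hx
    rw [hT, Set.mem_iUnion] at hx
    obtain ⟨S, hxS⟩ := hx
    have hmem : d ∈ ((((S : Subgroup G) ⊓ D) ⊔ CW : Subgroup G) : Set G) := hDS S hd
    rw [Subgroup.mul_normal] at hmem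
    obtain ⟨s, hs, c, hcc, rfl⟩ := hmem
    have h1 : s * x = x * s := (Subgroup.mem_centralizer_iff.mp hxS.1.2) s hs.1
    have h2 : x * c = c * x :=
      (Subgroup.mem_centralizer_iff.mp hcc) x (Subgroup.subset_closure (by
        rw [hT, Set.mem_iUnion]; exact ⟨S, hxS⟩))
    show x * (s * c) = s * c * x
    calc x * (s * c) = (x * s) * c := by group
      _ = (s * x) * c := by rw [h1]
      _ = s * (x * c) := by group
      _ = s * (c * x) := by rw [h2]
      _ = s * c * x := by group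
  have hle : W ≤ Subgroup.centralizer ({d} : Set G) := by
    rw [hW, Subgroup.closure_le]
    intro x hx
    rw [SetLike.mem_coe, Subgroup.mem_centralizer_iff]
    intro y hy
    rw [Set.mem_singleton_iff] at hy; subst hy
    exact (hdT x hx).symm
  intro w hw
  exact ((Subgroup.mem_centralizer_iff.mp (hle hw)) d rfl).symm

end Cfsg.Agent.S0601
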