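import Cfsg.Statements.S0602
import Mathlib
import Cfsg.Agent.Lib.Helper1_Thompson

set_option autoImplicit false
open Cfsg
open Cfsg.Agent.Lib.Helper1_Thompson

namespace Cfsg.Agent.S0602

/-- The Thompson subgroup is characteristic, and nontrivial as soon as p divides the group order. -/
theorem result {G : Type*} [Group G] [Finite G] {p : ℕ} [Fact p.Prime] : (Cfsg.thompsonSubgroup p G).Characteristic ∧ (p ∣ Nat.card G → Cfsg.thompsonSubgroup p G ≠ ⊥) := by
  refine ⟨thompson_characteristic p, ?_⟩
  intro hp hbot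
  obtain ⟨x, hx⟩ := exists_prime_orderOf_dvd_card' p hp
  obtain ⟨A, hA⟩ := exists_maxEA (G := G) p
  have hAbot : A = ⊥ := by
    rw [eq_bot_iff, ← hbot]; exact le_thompson p hA
  have hxA : x ∈ A := by
    apply mem_of_centralizes_maxEA p hA x
    · rw [← hx]; exact pow_orderOf_eq_one x
    · intro a ha
      rw [hAbot, Subgroup.mem_bot] at ha
      rw [ha, mul_one, one_mul]
  rw [hAbot, Subgroup.mem_bot] at hxA
  rw [hxA, orderOf_one] at hx
  exact (Fact.out : p.Prime).one_lt.ne hx

end Cfsg.Agent.S0602
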