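import Cfsg.Statements.S0603
import Mathlib
import Cfsg.Agent.Lib.Helper1_Thompson

set_option autoImplicit false
open Cfsg
open Cfsg.Agent.Lib.Helper1_Thompson

namespace Cfsg.Agent.S0603

/-- The Thompson subgroup of any subgroup containing J(G) is J(G) itself. -/
theorem result {G : Type*} [Group G] [Finite G] {p : ℕ} [Fact p.Prime] (U : Subgroup G) (hU : Cfsg.thompsonSubgroup p G ≤ U) : Cfsg.thompsonSubgroupOf p U = Cfsg.thompsonSubgroup p G := by
  obtain ⟨A₀, hA₀⟩ := exists_maxEA (G := G) p
  have hA₀U : A₀ ≤ U := (le_thompson p hA₀).trans hU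
  unfold thompsonSubgroupOf
  apply le_antisymm
  · rw [Subgroup.map_le_iff_le_comap]
    apply sSup_le
    intro B hB
    rw [← Subgroup.map_le_iff_le_comap]
    exact le_thompson p (maxEA_map_subtype p hA₀ hA₀U hB)
  · apply sSup_le
    intro A hA
    have hAU : A ≤ U := (le_thompson p hA).trans hU
    have h1 : A.subgroupOf U ≤ thompsonSubgroup p U := le_thompson p (maxEA_subgroupOf p hA hAU)
    have h2 := Subgroup.map_mono (f := U.subtype) h1
    rwa [Subgroup.subgroupOf_map_subtype, inf_eq_left.mpr hAU] at h2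

end Cfsg.Agent.S0603
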