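import Cfsg.Statements.S0604
import Mathlib
import Cfsg.Agent.Lib.Helper1_Thompson

set_option autoImplicit false
open Cfsg
open Cfsg.Agent.Lib.Helper1_Thompson

namespace Cfsg.Agent.S0604

theorem isPGroup_of_EA {G : Type*} [Group G] {p : ℕ} {A : Subgroup G}
    (hA : IsElementaryAbelian p A) : IsPGroup p A := by
  intro a
  refine ⟨1, ?_⟩
  rw [pow_one]
  apply Subtype.ext
  have := hA.2 a a.2
  simpa using this

/-- every Sylow subgroup contains an elementary abelian subgroup of maximal order -/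
theorem exists_maxEA_le_sylow {G : Type*} [Group G] [Finite G] {p : ℕ} [Fact p.Prime]
    (S : Sylow p G) : ∃ A ∈ maxElementaryAbelianSubgroups p G, A ≤ (S : Subgroup G) := by
  obtain ⟨A, hA⟩ := exists_maxEA (G := G) p
  obtain ⟨S₀, hS₀⟩ := (isPGroup_of_EA hA.1).exists_le_sylow
  obtain ⟨g, hg⟩ := MulAction.exists_smul_eq G S₀ S
  refine ⟨A.map (MulAut.conj g).toMonoidHom, maxEA_map_equiv p (MulAut.conj g) hA, ?_⟩
  rw [← hg, Sylow.coe_subgroup_smul]
  rintro _ ⟨a, ha, rfl⟩
  rw [Subgroup.mem_pointwise_smul_iff_inv_smul_mem]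
  have h1 : (MulAut.conj g)⁻¹ • ((MulAut.conj g).toMonoidHom a) = a := by
    simp [MulAut.smul_def, mul_assoc]
  rw [h1]
  exact hS₀ ha

/-- The Thompson subgroup of G is the join of the Thompson subgroups of its Sylow p-subgroups. -/
theorem result {G : Type*} [Group G] [Finite G] {p : ℕ} [Fact p.Prime] : Cfsg.thompsonSubgroup p G = ⨆ S : Sylow p G, Cfsg.thompsonSubgroupOf p (S : Subgroup G) := by
  apply le_antisymm
  · apply sSup_le
    intro A hA
    obtain ⟨S, hS⟩ := (isPGroup_of_EA hA.1).exists_le_sylow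
    refine le_trans ?_ (le_iSup _ S)
    unfold thompsonSubgroupOf
    have h1 : A.subgroupOf (S : Subgroup G) ≤ thompsonSubgroup p (S : Subgroup G) :=
      le_thompson p (maxEA_subgroupOf p hA hS)
    have h2 := Subgroup.map_mono (f := (S : Subgroup G).subtype) h1
    rwa [Subgroup.subgroupOf_map_subtype, inf_eq_left.mpr hS] at h2
  · apply iSup_le
    intro S
    obtain ⟨A₀, hA₀, hA₀S⟩ := exists_maxEA_le_sylow S
    unfold thompsonSubgroupOf
    rw [Subgroup.map_le_iff_le_comap]
    apply sSup_le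
    intro B hB
    rw [← Subgroup.map_le_iff_le_comap]
    exact le_thompson p (maxEA_map_subtype p hA₀ hA₀S hB)

end Cfsg.Agent.S0604
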