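import Cfsg.Statements.S0606
import Mathlib
import Cfsg.Agent.Lib.Helper1_Thompson
import Cfsg.Agent.Lib.Helper1_Card

set_option autoImplicit false
open Cfsg
open Cfsg.Agent.Lib.Helper1_Thompson
open Cfsg.Agent.Lib.Helper1_Card

namespace Cfsg.Agent.S0606

open scoped Pointwise

/-- Elementary abelian p-subgroups of maximal order are best offenders on any normal elementary abelian p-subgroup. -/
theorem result {G : Type*} [Group G] [Finite G] {p : ℕ} [Fact p.Prime] (V : Subgroup G) [V.Normal] (hV : Cfsg.IsElementaryAbelian p V) (A : Subgroup G) (hA : A ∈ Cfsg.maxElementaryAbelianSubgroups p G) : Cfsg.IsBestOffenderOn p V A := by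
  have hAc := hA.1.1
  have hAcomm : ∀ a ∈ A, ∀ b ∈ A, a * b = b * a := fun a ha b hb =>
    congrArg Subtype.val (mul_comm' (⟨a, ha⟩ : A) ⟨b, hb⟩)
  refine ⟨?_, ?_, ?_⟩
  · intro B hBA
    set C := V ⊓ Subgroup.centralizer (B : Set G) with hC
    have hBEA : IsElementaryAbelian p B := by
      refine ⟨⟨⟨?_⟩⟩, fun b hb => hA.1.2 b (hBA hb)⟩
      rintro ⟨a, ha⟩ ⟨b, hb⟩
      exact Subtype.ext (hAcomm a (hBA ha) b (hBA hb))
    have hCEA : IsElementaryAbelian p C := by
      have hVc := hV.1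
      refine ⟨⟨⟨?_⟩⟩, fun c hc => hV.2 c hc.1⟩
      rintro ⟨a, ha⟩ ⟨b, hb⟩
      have h1 : a * b = b * a := congrArg Subtype.val (mul_comm' (⟨a, ha.1⟩ : V) ⟨b, hb.1⟩)
      exact Subtype.ext h1
    have hE : IsElementaryAbelian p (B ⊔ C) := by
      apply isElementaryAbelian_sup p hBEA hCEA
      intro b hb c hc
      exact ((Subgroup.mem_centralizer_iff.mp hc.2) b hb)
    have hcardE : Nat.card (B ⊔ C : Subgroup G) ≤ Nat.card A := hA.2 _ hE
    have hsub : ((B : Set G) * (C : Set G) : Set G) ⊆ ((B ⊔ C : Subgroup G) : Set G) := by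
      rintro _ ⟨b, hb, c, hc, rfl⟩
      exact Subgroup.mul_mem_sup hb hc
    have hcard1 : Nat.card ((B : Set G) * (C : Set G) : Set G) ≤ Nat.card (B ⊔ C : Subgroup G) :=
      Nat.card_mono (Set.toFinite _) hsub
    have hprod := card_mul_card_inf B C
    have hinf : Nat.card (B ⊓ C : Subgroup G) ≤
        Nat.card ↥(V ⊓ Subgroup.centralizer (A : Set G)) := by
      apply Subgroup.card_le_of_le
      rintro x ⟨hxB, hxC⟩
      refine ⟨hxC.1, ?_⟩
      show x ∈ Subgroup.centralizer (A : Set G)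
      rw [Subgroup.mem_centralizer_iff]
      intro a ha
      exact hAcomm a ha x (hBA hxB)
    calc Nat.card B * Nat.card C
        = Nat.card ((B : Set G) * (C : Set G) : Set G) * Nat.card (B ⊓ C : Subgroup G) := hprod.symm
      _ ≤ Nat.card A * Nat.card ↥(V ⊓ Subgroup.centralizer (A : Set G)) :=
        Nat.mul_le_mul (hcard1.trans hcardE) hinf
  · have : ⁅A, A⁆ = ⊥ := Subgroup.commutator_self_eq_bot_iff.mpr hAc
    rw [this]; exact bot_le
  · intro a ha
    rw [hA.1.2 a ha]; exact Subgroup.one_mem _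

end Cfsg.Agent.S0606
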