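import Cfsg.Statements.S0607
import Cfsg.Agent.Lib.Helper3_Replacement2
import Cfsg.Agent.S0599

set_option autoImplicit false
open Cfsg

namespace Cfsg.Agent.S0607

open scoped commutatorElement
open Cfsg.Agent.Lib.Helper3_Replacement Cfsg.Agent.Lib.Helper3_Replacement2

/-- the join of two commuting elementary abelian subgroups is elementary abelian -/
theorem elemAb_sup {G : Type*} [Group G] {p : ℕ} (X Y : Subgroup G)
    (hX : Cfsg.IsElementaryAbelian p X) (hY : Cfsg.IsElementaryAbelian p Y)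
    (hXY : Y ≤ Subgroup.centralizer (X : Set G)) : Cfsg.IsElementaryAbelian p (X ⊔ Y) := by
  have hYX : X ≤ Subgroup.centralizer (Y : Set G) := Subgroup.le_centralizer_iff.mp hXY
  constructor
  · rw [← Subgroup.le_centralizer_iff_isMulCommutative, centralizer_sup]
    exact sup_le (le_inf (Subgroup.le_centralizer_iff_isMulCommutative.mpr hX.1) hYX)
      (le_inf hXY (Subgroup.le_centralizer_iff_isMulCommutative.mpr hY.1))
  · intro g hg
    obtain ⟨x, hx, y, hy, rfl⟩ :=
      Cfsg.Agent.Lib.Helper3_SupNormalizer.exists_mul_of_mem_sup X Y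
        (hXY.trans (Subgroup.centralizer_le_normalizer _)) hg
    have hc : Commute x y := (Subgroup.mem_centralizer_iff.mp (hXY hy) x hx)
    rw [hc.mul_pow, hX.2 x hx, hY.2 y hy, one_mul]

/-- The replacement Theorem for the Thompson subgroup: from A of maximal order among elementary abelian p-subgroups one obtains A₀ = [V, A] C_A([V, A]) of the same kind, quadratic on V and nontrivial on V when A is. -/
theorem result {G : Type*} [Group G] [Finite G] {p : ℕ} [Fact p.Prime] (V : Subgroup G) [V.Normal] (hV : Cfsg.IsElementaryAbelian p V) (A : Subgroup G) (hA : A ∈ Cfsg.maxElementaryAbelianSubgroups p G) : (⁅V, A⁆ ⊔ (A ⊓ Subgroup.centralizer ((⁅V, A⁆ : Subgroup G) : Set G))) ∈ Cfsg.maxElementaryAbelianSubgroups p G ∧ ⁅⁅V, ⁅V, A⁆ ⊔ (A ⊓ Subgroup.centralizer ((⁅V, A⁆ : Subgroup G) : Set G))⁆, ⁅V, A⁆ ⊔ (A ⊓ Subgroup.centralizer ((⁅V, A⁆ : Subgroup G) : Set G))⁆ = ⊥ ∧ (⁅V, A⁆ ≠ ⊥ → ⁅V, ⁅V, A⁆ ⊔ (A ⊓ Subgroup.centralizer ((⁅V, A⁆ : Subgroup G) : Set G))⁆ ≠ ⊥)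 := by
  classical
  obtain ⟨hAe, hAmax⟩ := hA
  haveI hVc : IsMulCommutative ↥V := hV.1
  haveI hAc : IsMulCommutative ↥A := hAe.1
  have hAV : A ≤ Subgroup.normalizer (V : Set G) := by
    rw [Subgroup.normalizer_eq_top_iff.mpr inferInstance]; exact le_top
  have hAA : A ≤ Subgroup.centralizer (A : Set G) :=
    Subgroup.le_centralizer_iff_isMulCommutative.mpr hAe.1
  have hVV : V ≤ Subgroup.centralizer (V : Set G) :=
    Subgroup.le_centralizer_iff_isMulCommutative.mpr hV.1
  -- subgroups of elementary abelian subgroups are elementary abelian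
  have hsub : ∀ (X Y : Subgroup G), Cfsg.IsElementaryAbelian p X → Y ≤ X →
      Cfsg.IsElementaryAbelian p Y := by
    intro X Y hX hYX
    refine ⟨?_, fun a ha => hX.2 a (hYX ha)⟩
    rw [← Subgroup.le_centralizer_iff_isMulCommutative]
    exact hYX.trans ((Subgroup.le_centralizer_iff_isMulCommutative.mpr hX.1).trans
      (Subgroup.centralizer_le (by exact_mod_cast hYX)))
  -- `A ∩ V ≤ C_V(A)`
  have hAVcv : A ⊓ V ≤ cv V A := fun x hx => ⟨hx.2, hAA hx.1⟩
  -- `A` is a best offender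
  have hbest : ∀ B : Subgroup G, B ≤ A → ff V B ≤ ff V A := by
    intro B hB
    have hBe := hsub A B hAe hB
    have hce : Cfsg.IsElementaryAbelian p (cv V B) := hsub V _ hV inf_le_left
    have hjoin := elemAb_sup B (cv V B) hBe hce inf_le_right
    have h1 := hAmax _ hjoin
    have h2 := card_mul_card_le B (cv V B)
    have h3 : Nat.card ↥(B ⊓ cv V B) ≤ Nat.card ↥(cv V A) :=
      Subgroup.card_le_of_le ((inf_le_inf hB inf_le_left).trans hAVcv)
    unfold ff
    calc Nat.card ↥B * Nat.card ↥(cv V B) ≤ Nat.card ↥(B ⊓ cv V B) * Nat.card ↥(B ⊔ cv V B) := h2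
      _ ≤ Nat.card ↥(cv V A) * Nat.card ↥A := Nat.mul_le_mul h3 h1
      _ = Nat.card ↥A * Nat.card ↥(cv V A) := Nat.mul_comm _ _
  have hab : ⁅A, A⁆ ≤ Subgroup.centralizer (V : Set G) := by
    rw [Subgroup.commutator_eq_bot_iff_le_centralizer.mpr hAA]; exact bot_le
  have hpow : ∀ a ∈ A, a ^ p ∈ Subgroup.centralizer (V : Set G) := by
    intro a ha; rw [hAe.2 a ha]; exact Subgroup.one_mem _
  have hoff : Cfsg.IsBestOffenderOn p V A := ⟨hbest, hab, hpow⟩
  have hrep := replacement V A hV.1 hAV hab hbest V le_rfl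
  have h599 := Cfsg.Agent.S0599.result V A hV hAV hoff V le_rfl
  set W := ⁅V, A⁆ with hW
  set B := A ⊓ Subgroup.centralizer (W : Set G) with hB
  have hWV : W ≤ V := chain_le V A hAV 1
  have hBA : B ≤ A := inf_le_left
  have hBW : B ≤ Subgroup.centralizer (W : Set G) := inf_le_right
  have hWB : W ≤ Subgroup.centralizer (B : Set G) := Subgroup.le_centralizer_iff.mp hBW
  have hWe : Cfsg.IsElementaryAbelian p W := hsub V W hV hWV
  have hBe : Cfsg.IsElementaryAbelian p B := hsub A B hAe hBA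
  have hstar : Cfsg.IsElementaryAbelian p (W ⊔ B) := elemAb_sup W B hWe hBe hBW
  -- `C_V(A) ≤ B`
  have hcvA : cv V A ≤ B := by
    have hje := elemAb_sup A (cv V A) hAe (hsub V _ hV inf_le_left) inf_le_right
    have hcard := hAmax _ hje
    have heq : A = A ⊔ cv V A := Subgroup.eq_of_le_of_card_ge le_sup_left hcard
    have h1 : cv V A ≤ A := by
      calc cv V A ≤ A ⊔ cv V A := le_sup_right
        _ = A := heq.symm
    refine le_inf h1 ?_
    exact (inf_le_left : cv V A ≤ V).trans (hVV.trans (Subgroup.centralizer_le (by exact_mod_cast hWV)))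
  have hstar_eq : W ⊔ B = B ⊔ cv V B := by
    rw [hrep.2]
    apply le_antisymm
    · exact sup_le (le_sup_right.trans' le_sup_left) le_sup_left
    · exact sup_le le_sup_right (sup_le le_sup_left (hcvA.trans le_sup_right))
  have hcard_ge : Nat.card ↥A ≤ Nat.card ↥(W ⊔ B) := by
    have h1 := card_mul_card_le B (cv V B)
    have h2 : Nat.card ↥(B ⊓ cv V B) ≤ Nat.card ↥(cv V A) :=
      Subgroup.card_le_of_le ((inf_le_inf hBA inf_le_left).trans hAVcv)
    have h3 : Nat.card ↥B * Nat.card ↥(cv V B) = Nat.card ↥A * Nat.card ↥(cv V A) := hrep.1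
    rw [← hstar_eq] at h1
    have h4 : Nat.card ↥A * Nat.card ↥(cv V A) ≤ Nat.card ↥(W ⊔ B) * Nat.card ↥(cv V A) := by
      calc Nat.card ↥A * Nat.card ↥(cv V A) = Nat.card ↥B * Nat.card ↥(cv V B) := h3.symm
        _ ≤ Nat.card ↥(B ⊓ cv V B) * Nat.card ↥(W ⊔ B) := h1
        _ ≤ Nat.card ↥(cv V A) * Nat.card ↥(W ⊔ B) := Nat.mul_le_mul_right _ h2
        _ = _ := Nat.mul_comm _ _
    exact Nat.le_of_mul_le_mul_right h4 Nat.card_pos
  -- `[V, A*] ≤ [V, B]`
  have hcomm_le : ⁅V, W ⊔ B⁆ ≤ ⁅V, B⁆ := by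
    rw [Subgroup.commutator_le]
    intro v hv x hx
    rw [sup_comm] at hx
    obtain ⟨b, hb, w, hw, rfl⟩ :=
      Cfsg.Agent.Lib.Helper3_SupNormalizer.exists_mul_of_mem_sup B W
        (hWB.trans (Subgroup.centralizer_le_normalizer _)) hx
    have hc : v⁻¹ * w = w * v⁻¹ := setLike_mul_comm (V.inv_mem hv) (hWV hw)
    rw [comm_mul_right_of_commute v b w hc]
    exact Subgroup.commutator_mem_commutator hv hb
  refine ⟨⟨hstar, ?_⟩, ?_, ?_⟩
  · intro B' hB'
    exact (hAmax B' hB').trans hcard_ge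
  · rw [Subgroup.commutator_eq_bot_iff_le_centralizer]
    refine hcomm_le.trans ((Subgroup.commutator_mono le_rfl hBA).trans ?_)
    show W ≤ _
    rw [centralizer_sup]
    exact le_inf (hWV.trans (hVV.trans (Subgroup.centralizer_le (by exact_mod_cast hWV)))) hWB
  · intro hne hbot
    apply h599.2.2 hne
    rw [eq_bot_iff, ← hbot]
    exact Subgroup.commutator_mono le_rfl le_sup_right

end Cfsg.Agent.S0607
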