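import Cfsg.Statements.S0608
import Mathlib
import Cfsg.Agent.S0604
import Cfsg.Agent.Lib.Helper1_Thompson
import Cfsg.Agent.Lib.Lead_SZ
import Cfsg.Agent.Lib.Lead_Coprime
import Cfsg.Agent.Lib.Helper5_Residual

set_option autoImplicit false
open Cfsg

namespace Cfsg.Agent.S0608

open Cfsg.Agent.Lib.Helper1_Thompson Cfsg.Agent.Lib.Lead_Coprime Cfsg.Agent.Lib.Lead_SZ
  Cfsg.Agent.Lib.Helper5_Residual

section

open scoped Pointwise

variable {G : Type*} [Group G] [Finite G] {p : ℕ} [Fact p.Prime]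

/-- `Ω₁(Z(S))`. -/
def ZS (p : ℕ) (S : Subgroup G) : Subgroup G :=
  Cfsg.omegaOne p (S ⊓ Subgroup.centralizer (S : Set G))

/-- The join of the maximal elementary abelian subgroups of `G` inside `T`. -/
def JT (p : ℕ) (T : Subgroup G) : Subgroup G :=
  sSup {A | A ∈ Cfsg.maxElementaryAbelianSubgroups p G ∧ A ≤ T}

theorem thompsonOf_sylow_eq (S : Sylow p G) :
    Cfsg.thompsonSubgroupOf p (S : Subgroup G) = JT p (S : Subgroup G) := by
  obtain ⟨A₀, hA₀, hA₀S⟩ := Cfsg.Agent.S0604.exists_maxEA_le_sylow S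
  apply le_antisymm
  · unfold Cfsg.thompsonSubgroupOf
    rw [Subgroup.map_le_iff_le_comap]
    apply sSup_le
    intro B hB
    rw [← Subgroup.map_le_iff_le_comap]
    refine le_sSup ⟨maxEA_map_subtype p hA₀ hA₀S hB, ?_⟩
    rintro _ ⟨b, -, rfl⟩
    exact b.2
  · apply sSup_le
    rintro A ⟨hA, hAS⟩
    unfold Cfsg.thompsonSubgroupOf
    have h1 : A.subgroupOf (S : Subgroup G) ≤ Cfsg.thompsonSubgroup p (S : Subgroup G) :=
      le_thompson p (maxEA_subgroupOf p hA hAS)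
    have h2 := Subgroup.map_mono (f := (S : Subgroup G).subtype) h1
    rwa [Subgroup.subgroupOf_map_subtype, inf_eq_left.mpr hAS] at h2

theorem JT_le (T : Subgroup G) : JT p T ≤ T := sSup_le (fun _ hA => hA.2)

theorem JT_le_thompson (T : Subgroup G) : JT p T ≤ Cfsg.thompsonSubgroup p G :=
  sSup_le (fun _ hA => le_thompson p hA.1)

theorem JT_eq_of_le {T S : Subgroup G} (hTS : T ≤ S) (hJ : JT p S ≤ T) : JT p T = JT p S := by
  apply le_antisymm
  · apply sSup_le
    rintro A ⟨hA, hAT⟩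
    exact le_sSup ⟨hA, hAT.trans hTS⟩
  · apply sSup_le
    rintro A ⟨hA, hAS⟩
    have h1 : A ≤ JT p S := le_sSup ⟨hA, hAS⟩
    exact le_sSup ⟨hA, h1.trans hJ⟩

theorem normalizer_le_normalizer_JT (T : Subgroup G) :
    Subgroup.normalizer (T : Set G) ≤ Subgroup.normalizer (JT p T : Set G) := by
  have key : ∀ n ∈ Subgroup.normalizer (T : Set G), ∀ j ∈ JT p T, n * j * n⁻¹ ∈ JT p T := by
    intro n hn
    have h1 : JT p T ≤ (JT p T).comap (MulAut.conj n).toMonoidHom := by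
      apply sSup_le
      rintro A ⟨hA, hAT⟩
      rw [← Subgroup.map_le_iff_le_comap]
      refine le_sSup ⟨maxEA_map_equiv p (MulAut.conj n) hA, ?_⟩
      rintro _ ⟨a, ha, rfl⟩
      exact (Subgroup.mem_normalizer_iff.1 hn a).1 (hAT ha)
    intro j hj
    exact h1 hj
  intro n hn
  apply mem_normalizer_of_conj_mem (key n hn)
  intro j hj
  have := key n⁻¹ (Subgroup.inv_mem _ hn) j hj
  rwa [inv_inv] at this

theorem ZS_le_of_maxEA (S : Subgroup G) {A : Subgroup G}
    (hA : A ∈ Cfsg.maxElementaryAbelianSubgroups p G) (hAS : A ≤ S) : ZS p S ≤ A := by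
  unfold ZS Cfsg.omegaOne
  rw [Subgroup.closure_le]
  rintro x ⟨hx, hxp⟩
  apply mem_of_centralizes_maxEA p hA x hxp
  intro a ha
  exact (Subgroup.mem_centralizer_iff.1 hx.2 a (hAS ha)).symm

theorem JT_le_centralizer_ZS (S : Subgroup G) :
    JT p S ≤ Subgroup.centralizer (ZS p S : Set G) := by
  apply sSup_le
  rintro A ⟨hA, hAS⟩
  intro a ha
  rw [Subgroup.mem_centralizer_iff]
  intro z hz
  have hzA := ZS_le_of_maxEA S hA hAS hz
  have := hA.1.1
  exact congrArg Subtype.val (mul_comm' (⟨z, hzA⟩ : A) ⟨a, ha⟩)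

/-- The normal subgroup generated by all `Ω₁(Z(S))`. -/
def WW (p : ℕ) [Fact p.Prime] (G : Type*) [Group G] : Subgroup G :=
  ⨆ S : Sylow p G, ZS p (S : Subgroup G)

theorem conj_mem_ZS (g : G) (S : Sylow p G) (x : G)
    (hx : x ∈ (S : Subgroup G) ⊓ Subgroup.centralizer ((S : Subgroup G) : Set G)) (hxp : x ^ p = 1) :
    g * x * g⁻¹ ∈ ZS p ((g • S : Sylow p G) : Subgroup G) := by
  unfold ZS Cfsg.omegaOne
  apply Subgroup.subset_closure
  refine ⟨Subgroup.mem_inf.2 ⟨?_, ?_⟩, ?_⟩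
  · rw [Sylow.coe_subgroup_smul, mem_conj_smul]
    have e : g⁻¹ * (g * x * g⁻¹) * g = x := by group
    rw [e]; exact hx.1
  · rw [Subgroup.mem_centralizer_iff]
    intro y hy
    have hy' : y ∈ MulAut.conj g • (S : Subgroup G) := by
      rw [← Sylow.coe_subgroup_smul]; exact hy
    rw [mem_conj_smul] at hy'
    have h1 := Subgroup.mem_centralizer_iff.1 hx.2 _ hy'
    calc y * (g * x * g⁻¹) = g * ((g⁻¹ * y * g) * x) * g⁻¹ := by group
      _ = g * (x * (g⁻¹ * y * g)) * g⁻¹ := by rw [h1]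
      _ = g * x * g⁻¹ * y := by group
  · have e : (g * x * g⁻¹) ^ p = g * x ^ p * g⁻¹ := by
      rw [conj_pow]
    rw [e, hxp]; group

theorem WW_normal : (WW p G).Normal := by
  constructor
  intro w hw g
  have h1 : WW p G ≤ (WW p G).comap (MulAut.conj g).toMonoidHom := by
    unfold WW
    apply iSup_le
    intro S
    unfold ZS Cfsg.omegaOne
    rw [Subgroup.closure_le]
    rintro x ⟨hx, hxp⟩
    show g * x * g⁻¹ ∈ ⨆ S : Sylow p G, ZS p (S : Subgroup G)
    exact (le_iSup (fun S : Sylow p G => ZS p (S : Subgroup G)) (g • S)) (conj_mem_ZS g S x hx hxp)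
  exact h1 hw

theorem forward (hO : Cfsg.pPrimeCore p G = ⊥) (h : Cfsg.IsThompsonFactorizable p G) :
    Cfsg.thompsonSubgroup p G ≤ Subgroup.centralizer (WW p G : Set G) := by
  rw [Cfsg.Agent.S0604.result]
  apply iSup_le
  intro S
  rw [Subgroup.le_centralizer_iff]
  unfold WW
  apply iSup_le
  intro S'
  obtain ⟨g, hg⟩ := MulAction.exists_smul_eq G S S'
  unfold ZS Cfsg.omegaOne
  rw [Subgroup.closure_le]
  rintro x ⟨hx, hxp⟩
  have hxS : g⁻¹ * x * g ∈ (S : Subgroup G) := by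
    have h1 : x ∈ MulAut.conj g • (S : Subgroup G) := by
      rw [← Sylow.coe_subgroup_smul, hg]; exact hx.1
    exact (mem_conj_smul g x _).1 h1
  have hxC : g⁻¹ * x * g ∈ Subgroup.centralizer ((S : Subgroup G) : Set G) := by
    rw [Subgroup.mem_centralizer_iff]
    intro s hs
    have hs' : g * s * g⁻¹ ∈ (S' : Subgroup G) := by
      rw [← hg, Sylow.coe_subgroup_smul, mem_conj_smul]
      have e : g⁻¹ * (g * s * g⁻¹) * g = s := by group
      rw [e]; exact hs
    have h1 := Subgroup.mem_centralizer_iff.1 hx.2 _ hs'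
    calc s * (g⁻¹ * x * g) = g⁻¹ * ((g * s * g⁻¹) * x) * g := by group
      _ = g⁻¹ * (x * (g * s * g⁻¹)) * g := by rw [h1]
      _ = g⁻¹ * x * g * s := by group
  have hy : g⁻¹ * x * g ∈ ZS p (S : Subgroup G) := by
    unfold ZS Cfsg.omegaOne
    apply Subgroup.subset_closure
    refine ⟨⟨hxS, hxC⟩, ?_⟩
    have e : (g⁻¹ * x * g) ^ p = g⁻¹ * x ^ p * g := by
      have := conj_pow (a := g⁻¹) (b := x) (i := p)
      rw [inv_inv] at this
      exact this
    rw [e, hxp]; group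
  obtain ⟨y, hydef⟩ : ∃ y, y = g⁻¹ * x * g := ⟨_, rfl⟩
  rw [← hydef] at hy
  have hxy : x = g * y * g⁻¹ := by rw [hydef]; group
  obtain ⟨o, ho, c, hc, n, hn, hgcn⟩ := h S g⁻¹
  rw [hO, Subgroup.mem_bot] at ho
  subst ho
  rw [one_mul] at hgcn
  have hg' : g = n⁻¹ * c⁻¹ := by
    have : g = (g⁻¹)⁻¹ := (inv_inv g).symm
    rw [this, hgcn]; group
  have hcy : c⁻¹ * y * c = y := by
    have h1 := Subgroup.mem_centralizer_iff.1 hc _ hy
    calc c⁻¹ * y * c = c⁻¹ * (y * c) := by group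
      _ = c⁻¹ * (c * y) := by rw [h1]
      _ = y := by group
  have hx' : x = n⁻¹ * y * n := by
    rw [hxy, hg']
    calc n⁻¹ * c⁻¹ * y * (n⁻¹ * c⁻¹)⁻¹ = n⁻¹ * (c⁻¹ * y * c) * n := by group
      _ = n⁻¹ * y * n := by rw [hcy]
  show x ∈ Subgroup.centralizer _
  rw [Subgroup.mem_centralizer_iff]
  intro j hj
  have hjn : n * j * n⁻¹ ∈ Cfsg.thompsonSubgroupOf p (S : Subgroup G) :=
    (Subgroup.mem_normalizer_iff.1 hn j).1 hj
  rw [thompsonOf_sylow_eq] at hjn
  have h3 := Subgroup.mem_centralizer_iff.1 (JT_le_centralizer_ZS (S : Subgroup G) hjn) _ hy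
  rw [hx']
  calc j * (n⁻¹ * y * n) = n⁻¹ * ((n * j * n⁻¹) * y) * n := by group
    _ = n⁻¹ * (y * (n * j * n⁻¹)) * n := by rw [h3]
    _ = n⁻¹ * y * n * j := by group

theorem backward (h : Cfsg.thompsonSubgroup p G ≤ Subgroup.centralizer (WW p G : Set G)) :
    Cfsg.IsThompsonFactorizable p G := by
  intro S g
  haveI := WW_normal (p := p) (G := G)
  haveI hCn : (Subgroup.centralizer (WW p G : Set G)).Normal := Subgroup.normal_centralizer
  have hfr := Sylow.normalizer_sup_eq_top (sylowInfNormal S (Subgroup.centralizer (WW p G : Set G)))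
  rw [map_sylowInfNormal] at hfr
  have hg : g ∈ ((Subgroup.centralizer (WW p G : Set G) ⊔
      Subgroup.normalizer ((((S : Subgroup G) ⊓ Subgroup.centralizer (WW p G : Set G) :
      Subgroup G)) : Set G) : Subgroup G) : Set G) := by
    rw [sup_comm, hfr]; trivial
  rw [Subgroup.normal_mul] at hg
  obtain ⟨c, hc, n, hn, rfl⟩ := Set.mem_mul.1 hg
  refine ⟨1, Subgroup.one_mem _, c, ?_, n, ?_, by rw [one_mul]⟩
  · have hle : ZS p (S : Subgroup G) ≤ WW p G :=
      le_iSup (fun S : Sylow p G => ZS p (S : Subgroup G)) S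
    exact Subgroup.centralizer_le hle hc
  · rw [thompsonOf_sylow_eq]
    have hJ : JT p (S : Subgroup G) ≤ (S : Subgroup G) ⊓ Subgroup.centralizer (WW p G : Set G) :=
      le_inf (JT_le _) ((JT_le_thompson _).trans h)
    rw [← JT_eq_of_le inf_le_left hJ]
    exact normalizer_le_normalizer_JT _ hn

end


/-- With trivial p'-core, Thompson factorizability is equivalent to J(G) centralizing the subgroup generated by all Ω₁(Z(S)), S Sylow. -/
theorem result {G : Type*} [Group G] [Finite G] {p : ℕ} [Fact p.Prime] (hO : Cfsg.pPrimeCore p G = ⊥) : Cfsg.IsThompsonFactorizable p G ↔ Cfsg.thompsonSubgroup p G ≤ Subgroup.centralizer ((⨆ S : Sylow p G, Cfsg.omegaOne p (((S : Subgroup G)) ⊓ Subgroup.centralizer ((S : Subgroup G) : Set G)) : Subgroup G) : Set G) := by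
  exact ⟨forward hO, backward⟩

end Cfsg.Agent.S0608
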