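import Cfsg.Statements.S0609
import Mathlib
import Cfsg.Agent.S0630
import Cfsg.Agent.Lib.Lead_ZJ
import Cfsg.Agent.Lib.Lead_ZJmap
import Cfsg.Agent.Lib.Lead_SZ
import Cfsg.Agent.Lib.Lead_Coprime
import Cfsg.Agent.Lib.Helper5_PPrime

set_option autoImplicit false
open Cfsg

namespace Cfsg.Agent.S0609

open Cfsg.Agent.Lib.Lead_ZJ Cfsg.Agent.Lib.Lead_ZJmap Cfsg.Agent.Lib.Lead_Coprime
  Cfsg.Agent.Lib.Lead_SZ

section

open scoped Pointwise

variable {G H : Type*} [Group G] [Group H] (p : ℕ)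

theorem elab_of_map (f : G →* H) (P B : Subgroup G) (hinj : Set.InjOn f (P : Set G)) (hBP : B ≤ P)
    (h : Cfsg.IsElementaryAbelian p (B.map f)) : Cfsg.IsElementaryAbelian p B := by
  refine ⟨comm_of_map_comm f P B hinj hBP h.1, ?_⟩
  intro b hb
  apply hinj (hBP (B.pow_mem hb p)) (P.one_mem)
  rw [map_pow, map_one]
  exact h.2 _ ⟨b, hb, rfl⟩

theorem FE_map_injOn (f : G →* H) (P : Subgroup G) (hinj : Set.InjOn f (P : Set G))
    (U : Subgroup G) (hU : U ∈ FE p P) : U.map f ∈ FE p (P.map f) := by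
  obtain ⟨hUP, hUc, hUmax⟩ := hU
  refine ⟨Subgroup.map_mono hUP, elab_map p f U hUc, ?_⟩
  intro B' hB' hB'c
  have e := map_comap_inf f P B' hB'
  have hBc : Cfsg.IsElementaryAbelian p (B'.comap f ⊓ P : Subgroup G) := by
    apply elab_of_map p f P _ hinj inf_le_right
    rw [e]; exact hB'c
  have h1 := hUmax _ inf_le_right hBc
  rw [card_map_of_injOn f P U hinj hUP, ← e, card_map_of_injOn f P _ hinj inf_le_right]
  exact h1

theorem FE_comap_injOn (f : G →* H) (P : Subgroup G) (hinj : Set.InjOn f (P : Set G))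
    (U' : Subgroup H) (hU' : U' ∈ FE p (P.map f)) : U'.comap f ⊓ P ∈ FE p P := by
  obtain ⟨hUP, hUc, hUmax⟩ := hU'
  have e := map_comap_inf f P U' hUP
  have hc : Cfsg.IsElementaryAbelian p (U'.comap f ⊓ P : Subgroup G) := by
    apply elab_of_map p f P _ hinj inf_le_right
    rw [e]; exact hUc
  refine ⟨inf_le_right, hc, ?_⟩
  intro B hB hBc
  have h1 := hUmax (B.map f) (Subgroup.map_mono hB) (elab_map p f B hBc)
  rw [card_map_of_injOn f P B hinj hB] at h1
  rw [← card_map_of_injOn f P _ hinj inf_le_right, e]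
  exact h1

end

section

universe u

variable {G H : Type u} [Group G] [Group H] (p : ℕ)

theorem thompsonE_map (f : G →* H) (P : Subgroup G) (hinj : Set.InjOn f (P : Set G)) :
    Cfsg.thompsonSubgroupOf p (P.map f) = (Cfsg.thompsonSubgroupOf p P).map f := by
  unfold Cfsg.thompsonSubgroupOf
  rw [thompsonE_eq, thompsonE_eq]
  apply le_antisymm
  · apply sSup_le
    intro U' hU'
    have h1 := FE_comap_injOn p f P hinj U' hU'
    rw [← map_comap_inf f P U' hU'.1]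
    exact Subgroup.map_mono (le_sSup h1)
  · rw [Subgroup.map_le_iff_le_comap]
    apply sSup_le
    intro U hU
    rw [← Subgroup.map_le_iff_le_comap]
    exact le_sSup (FE_map_injOn p f P hinj U hU)

theorem ZS_map (f : G →* H) (P : Subgroup G) (hinj : Set.InjOn f (P : Set G)) :
    Cfsg.omegaOne p (P.map f ⊓ Subgroup.centralizer ((P.map f : Subgroup H) : Set H)) =
      (Cfsg.omegaOne p (P ⊓ Subgroup.centralizer (P : Set G))).map f := by
  unfold Cfsg.omegaOne
  rw [MonoidHom.map_closure]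
  congr 1
  ext y
  constructor
  · rintro ⟨⟨⟨x, hx, rfl⟩, hy2⟩, hy3⟩
    refine ⟨x, ⟨⟨hx, ?_⟩, ?_⟩, rfl⟩
    · show x ∈ Subgroup.centralizer _
      rw [Subgroup.mem_centralizer_iff]
      intro s hs
      apply hinj (P.mul_mem hs hx) (P.mul_mem hx hs)
      rw [map_mul, map_mul]
      exact Subgroup.mem_centralizer_iff.1 hy2 (f s) ⟨s, hs, rfl⟩
    · apply hinj (P.pow_mem hx p) P.one_mem
      rw [map_pow, map_one]
      exact hy3
  · rintro ⟨x, ⟨⟨hx1, hx2⟩, hx3⟩, rfl⟩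
    refine ⟨⟨⟨x, hx1, rfl⟩, ?_⟩, ?_⟩
    · show f x ∈ Subgroup.centralizer _
      rw [Subgroup.mem_centralizer_iff]
      rintro _ ⟨s, hs, rfl⟩
      rw [← map_mul, ← map_mul, Subgroup.mem_centralizer_iff.1 hx2 s hs]
    · show (f x) ^ p = 1
      rw [← map_pow, hx3, map_one]

end

section

open scoped Pointwise

variable {G : Type*} [Group G] [Finite G] {p : ℕ} [Fact p.Prime]

theorem injOn_sylow (S : Sylow p G) :
    Set.InjOn (QuotientGroup.mk' (Cfsg.pPrimeCore p G)) ((S : Subgroup G) : Set G) := by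
  have hOcop : (Nat.card (Cfsg.pPrimeCore p G)).Coprime p :=
    Cfsg.Agent.Lib.Helper5_PPrime.pPrimeCore_coprime p G
  have hPO : (S : Subgroup G) ⊓ Cfsg.pPrimeCore p G = ⊥ :=
    Cfsg.Agent.Lib.Helper5_PPrime.inf_eq_bot_of_pGroup_of_coprime S.isPGroup' hOcop
  intro x hx y hy hxy
  have h1 : x⁻¹ * y ∈ Cfsg.pPrimeCore p G := QuotientGroup.eq.1 hxy
  have h2 : x⁻¹ * y ∈ (S : Subgroup G) ⊓ Cfsg.pPrimeCore p G :=
    ⟨Subgroup.mul_mem _ (Subgroup.inv_mem _ hx) hy, h1⟩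
  rw [hPO, Subgroup.mem_bot] at h2
  exact (inv_mul_eq_one.1 h2)

theorem forward (h : Cfsg.IsThompsonFactorizable p G) :
    Cfsg.IsThompsonFactorizable p (G ⧸ Cfsg.pPrimeCore p G) := by
  intro Sb gb
  obtain ⟨S, rfl⟩ := Sylow.mapSurjective_surjective
    (QuotientGroup.mk'_surjective (Cfsg.pPrimeCore p G)) p Sb
  obtain ⟨g, rfl⟩ := QuotientGroup.mk_surjective gb
  obtain ⟨x, hx, c, hc, n, hn, rfl⟩ := h S g
  have hinj := injOn_sylow S
  refine ⟨1, Subgroup.one_mem _, QuotientGroup.mk' (Cfsg.pPrimeCore p G) c, ?_,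
    QuotientGroup.mk' (Cfsg.pPrimeCore p G) n, ?_, ?_⟩
  · rw [Sylow.coe_mapSurjective, ZS_map p _ _ hinj, Subgroup.mem_centralizer_iff]
    rintro _ ⟨z, hz, rfl⟩
    rw [← map_mul, ← map_mul, Subgroup.mem_centralizer_iff.1 hc z hz]
  · rw [Sylow.coe_mapSurjective, thompsonE_map p _ _ hinj]
    have hn' := Subgroup.inv_mem _ hn
    apply mem_normalizer_of_conj_mem
    · rintro _ ⟨j, hj, rfl⟩
      exact ⟨n * j * n⁻¹, (Subgroup.mem_normalizer_iff.1 hn j).1 hj, by simp⟩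
    · rintro _ ⟨j, hj, rfl⟩
      have h1 := (Subgroup.mem_normalizer_iff.1 hn' j).1 hj
      rw [inv_inv] at h1
      exact ⟨n⁻¹ * j * n, h1, by simp⟩
  · rw [one_mul]
    show QuotientGroup.mk' (Cfsg.pPrimeCore p G) (x * c * n) = _
    have e : QuotientGroup.mk' (Cfsg.pPrimeCore p G) x = 1 := (QuotientGroup.eq_one_iff x).2 hx
    rw [map_mul, map_mul, e, one_mul]

theorem backward (h : Cfsg.IsThompsonFactorizable p (G ⧸ Cfsg.pPrimeCore p G)) :
    Cfsg.IsThompsonFactorizable p G := by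
  classical
  have hpp : p.Prime := Fact.out
  have hOcop : (Nat.card (Cfsg.pPrimeCore p G)).Coprime p :=
    Cfsg.Agent.Lib.Helper5_PPrime.pPrimeCore_coprime p G
  have h0b := Cfsg.Agent.S0630.pPrimeCore_quotient_self (G := G) p
  intro S g
  have hinj := injOn_sylow S
  obtain ⟨xb, hxb, cb, hcb, nb, hnb, hg⟩ :=
    h (S.mapSurjective (QuotientGroup.mk'_surjective (Cfsg.pPrimeCore p G)))
      (QuotientGroup.mk' (Cfsg.pPrimeCore p G) g)
  rw [h0b, Subgroup.mem_bot] at hxb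
  subst hxb
  rw [one_mul] at hg
  obtain ⟨c₀, rfl⟩ := QuotientGroup.mk'_surjective (Cfsg.pPrimeCore p G) cb
  obtain ⟨n₀, rfl⟩ := QuotientGroup.mk'_surjective (Cfsg.pPrimeCore p G) nb
  rw [Sylow.coe_mapSurjective, ZS_map p _ _ hinj] at hcb
  rw [Sylow.coe_mapSurjective, thompsonE_map p _ _ hinj] at hnb
  -- the subgroups
  have hZS : Cfsg.omegaOne p ((S : Subgroup G) ⊓ Subgroup.centralizer ((S : Subgroup G) : Set G)) ≤
      (S : Subgroup G) := by
    unfold Cfsg.omegaOne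
    rw [Subgroup.closure_le]
    rintro x ⟨hx, -⟩
    exact hx.1
  have hJS : Cfsg.thompsonSubgroupOf p (S : Subgroup G) ≤ (S : Subgroup G) :=
    Subgroup.map_subtype_le _
  have hcopOf : ∀ A : Subgroup G, A ≤ (S : Subgroup G) →
      (Nat.card A).Coprime (Nat.card (Cfsg.pPrimeCore p G)) := by
    intro A hA
    obtain ⟨k, hk⟩ := IsPGroup.iff_card.1 (S.isPGroup'.to_le hA)
    rw [hk]
    exact Nat.Coprime.pow_left k hOcop.symm
  have hsolvOf : ∀ A : Subgroup G, A ≤ (S : Subgroup G) → Group.IsSolvable A := by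
    intro A hA
    haveI : Group.IsNilpotent A := (S.isPGroup'.to_le hA).isNilpotent
    infer_instance
  have hnormO : ∀ A : Subgroup G, A ≤ Subgroup.normalizer ((Cfsg.pPrimeCore p G : Subgroup G) : Set G) := by
    intro A
    rw [Subgroup.normalizer_eq_top_iff.2 inferInstance]
    exact le_top
  -- lift c
  obtain ⟨d, hd, hcd⟩ := lemmaC (Cfsg.pPrimeCore p G) _ (hnormO _) (hcopOf _ hZS)
    (Or.inl (hsolvOf _ hZS)) c₀ (by
      intro a ha
      have h1 := Subgroup.mem_centralizer_iff.1 hcb _ ⟨a, ha, rfl⟩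
      apply (QuotientGroup.eq_one_iff _).1
      show QuotientGroup.mk' (Cfsg.pPrimeCore p G) (c₀⁻¹ * a * c₀ * a⁻¹) = 1
      rw [map_mul, map_mul, map_mul, map_inv, map_inv, mul_assoc _ _ (QuotientGroup.mk' _ c₀), h1]
      group)
  -- lift n
  have hA₂ : MulAut.conj n₀ • Cfsg.thompsonSubgroupOf p (S : Subgroup G) ≤
      Cfsg.pPrimeCore p G ⊔ Cfsg.thompsonSubgroupOf p (S : Subgroup G) := by
    intro y hy
    rw [mem_conj_smul] at hy
    have h1 : QuotientGroup.mk' (Cfsg.pPrimeCore p G) y ∈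
        (Cfsg.thompsonSubgroupOf p (S : Subgroup G)).map (QuotientGroup.mk' (Cfsg.pPrimeCore p G)) := by
      have h2 := (Subgroup.mem_normalizer_iff.1 hnb _).1 ⟨_, hy, rfl⟩
      rw [map_mul, map_mul, map_inv] at h2
      have e : QuotientGroup.mk' (Cfsg.pPrimeCore p G) n₀ *
          ((QuotientGroup.mk' (Cfsg.pPrimeCore p G) n₀)⁻¹ *
          QuotientGroup.mk' (Cfsg.pPrimeCore p G) y * QuotientGroup.mk' (Cfsg.pPrimeCore p G) n₀) *
          (QuotientGroup.mk' (Cfsg.pPrimeCore p G) n₀)⁻¹ =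
          QuotientGroup.mk' (Cfsg.pPrimeCore p G) y := by group
      rw [e] at h2
      exact h2
    obtain ⟨j, hj, hjy⟩ := h1
    have ho : j⁻¹ * y ∈ Cfsg.pPrimeCore p G := QuotientGroup.eq.1 hjy
    have hno := (inferInstance : (Cfsg.pPrimeCore p G).Normal).conj_mem _ ho j
    have e : y = (j * (j⁻¹ * y) * j⁻¹) * j := by group
    rw [e]
    exact Subgroup.mul_mem _ (Subgroup.mem_sup_left hno) (Subgroup.mem_sup_right hj)
  obtain ⟨d', hd', hd'J⟩ := exists_conj_of_le_sup (Cfsg.pPrimeCore p G) _ _ (hnormO _)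
    (hcopOf _ hJS) (Or.inl (hsolvOf _ hJS)) hA₂ (card_conj_smul _ _)
  have hnN : d'⁻¹ * n₀ ∈ Subgroup.normalizer (Cfsg.thompsonSubgroupOf p (S : Subgroup G) : Set G) := by
    rw [conj_smul_le_normalizer, ← conj_smul_smul, ← hd'J, conj_smul_smul, inv_mul_cancel,
      map_one, one_smul]
  refine ⟨g * (c₀ * d * (d'⁻¹ * n₀))⁻¹, ?_, c₀ * d, hcd, d'⁻¹ * n₀, hnN, by group⟩
  apply (QuotientGroup.eq_one_iff _).1
  show QuotientGroup.mk' (Cfsg.pPrimeCore p G) (g * (c₀ * d * (d'⁻¹ * n₀))⁻¹) = 1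
  have e1 : QuotientGroup.mk' (Cfsg.pPrimeCore p G) d = 1 := (QuotientGroup.eq_one_iff d).2 hd
  have e2 : QuotientGroup.mk' (Cfsg.pPrimeCore p G) d' = 1 := (QuotientGroup.eq_one_iff d').2 hd'
  rw [map_mul, hg, map_inv, map_mul, map_mul, map_mul, map_inv, e1, e2]
  group

end


/-- Thompson factorizability passes to and from the quotient by the largest normal subgroup of order prime to p. -/
theorem result {G : Type*} [Group G] [Finite G] {p : ℕ} [Fact p.Prime] : Cfsg.IsThompsonFactorizable p G ↔ Cfsg.IsThompsonFactorizable p (G ⧸ Cfsg.pPrimeCore p G) := by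
  exact ⟨forward, backward⟩

end Cfsg.Agent.S0609
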