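import Cfsg.Statements.S0623
import Mathlib
import Cfsg.Agent.Lib.Lead_WS

set_option autoImplicit false
open Cfsg

namespace Cfsg.Agent.S0623

open Cfsg.Agent.Lib.Lead_WS


/-- No element of a finite p-group acts quadratically and nontrivially on the stable normal closure W(S). -/
theorem result {S : Type*} [Group S] [Finite S] {p : ℕ} [Fact p.Prime] (hS : IsPGroup p S) (x : S) (hq : ⁅⁅Cfsg.stableNormalClosure p S, Subgroup.zpowers x⁆, Subgroup.zpowers x⁆ = ⊥) : ⁅Cfsg.stableNormalClosure p S, Subgroup.zpowers x⁆ = ⊥ := by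
  have h := W_quadratic x hq
  rw [Subgroup.commutator_eq_bot_iff_le_centralizer]
  intro w hw
  have hx : x ∈ Subgroup.centralizer ({w} : Set S) := by
    rw [Subgroup.mem_centralizer_iff]
    intro y hy
    rw [Set.mem_singleton_iff] at hy
    rw [hy]
    exact (h w hw).symm
  have hle : Subgroup.zpowers x ≤ Subgroup.centralizer ({w} : Set S) :=
    Subgroup.zpowers_le.2 hx
  rw [Subgroup.mem_centralizer_iff]
  intro u hu
  have := Subgroup.mem_centralizer_iff.1 (hle hu) w rfl
  exact this.symm

end Cfsg.Agent.S0623
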