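import Cfsg.Statements.S0624
import Mathlib
import Cfsg.Agent.Lib.Lead_WS
import Cfsg.Agent.S2959
import Cfsg.Agent.S0029
import Cfsg.Agent.S0604
import Cfsg.Agent.S0606
import Cfsg.Agent.S0599
import Cfsg.Agent.Lib.Lead_Coprime
import Cfsg.Agent.Lib.Helper5_Residual
import Cfsg.Agent.Lib.Helper1_Thompson

set_option autoImplicit false
open Cfsg

namespace Cfsg.Agent.S0624

open Cfsg.Agent.Lib.Lead_WS Cfsg.Agent.Lib.Helper4_PCore Cfsg.Agent.Lib.Helper1_Thompson
  Cfsg.Agent.Lib.Lead_Coprime Cfsg.Agent.Lib.Helper5_Residual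
open scoped commutatorElement

universe u

section

variable {G : Type u} [Group G] [Finite G] {p : ℕ} [Fact p.Prime]

theorem map_inclusion {S N : Subgroup G} (h : S ≤ N) (K : Subgroup ↥S) :
    K.map (Subgroup.inclusion h) = (K.map S.subtype).subgroupOf N := by
  ext x
  constructor
  · rintro ⟨k, hk, rfl⟩
    exact Subgroup.mem_subgroupOf.2 ⟨k, hk, rfl⟩
  · intro hx
    obtain ⟨k, hk, hkx⟩ := Subgroup.mem_subgroupOf.1 hx
    exact ⟨k, hk, Subtype.ext hkx⟩

theorem S_le_normalizer_J (S : Sylow p G) :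
    (S : Subgroup G) ≤
      Subgroup.normalizer (Cfsg.thompsonSubgroupOf p (S : Subgroup G) : Set G) := by
  haveI hJchar : (Cfsg.thompsonSubgroup p ↥(S : Subgroup G)).Characteristic :=
    thompson_characteristic p
  have hJn : (Cfsg.thompsonSubgroup p ↥(S : Subgroup G)).Normal := inferInstance
  have key : ∀ s ∈ (S : Subgroup G), ∀ y ∈ Cfsg.thompsonSubgroupOf p (S : Subgroup G),
      s * y * s⁻¹ ∈ Cfsg.thompsonSubgroupOf p (S : Subgroup G) := by
    rintro s hs _ ⟨j, hj, rfl⟩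
    exact ⟨⟨s, hs⟩ * j * ⟨s, hs⟩⁻¹, hJn.conj_mem j hj _, rfl⟩
  intro s hs
  exact mem_normalizer_of_conj_mem (key s hs) (fun y hy => by
    have := key s⁻¹ (Subgroup.inv_mem _ hs) y hy
    rwa [inv_inv] at this)

theorem stable_inclusion (hst : Cfsg.IsActionPStable p G)
    (hc : Subgroup.centralizer (Cfsg.pCore p G : Set G) ≤ Cfsg.pCore p G) (S : Sylow p G) :
    Cfsg.IsStableEmbedding p (Subgroup.inclusion (S_le_normalizer_J S)) := by
  refine ⟨Subgroup.inclusion_injective _, inferInstance,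
    ⟨S.subtype (S_le_normalizer_J S), ?_⟩, ?_, ?_, ?_⟩
  · rw [Sylow.coe_subtype, Subgroup.inclusion_range]
  · apply Cfsg.Agent.S2959.result hc
    exact (pCore_le_sylow S).trans ((S_le_normalizer_J S).trans Subgroup.le_normalizer)
  · rw [map_inclusion]
    exact Subgroup.normal_in_normalizer
  · intro V _ hV
    apply hst.2.2 S V
    have h1 := Subgroup.map_mono
      (f := (Subgroup.normalizer (Cfsg.thompsonSubgroupOf p (S : Subgroup G) : Set G)).subtype) hV
    rw [Subgroup.map_map, Subgroup.subtype_comp_inclusion] at h1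
    exact h1

/-- `W(S)` is normalized by `N_G(J(S))`. -/
theorem W_normalizer (hst : Cfsg.IsActionPStable p G)
    (hc : Subgroup.centralizer (Cfsg.pCore p G : Set G) ≤ Cfsg.pCore p G) (S : Sylow p G) :
    ∀ n ∈ Subgroup.normalizer (Cfsg.thompsonSubgroupOf p (S : Subgroup G) : Set G),
    ∀ w ∈ (Cfsg.stableNormalClosure p ↥(S : Subgroup G)).map (S : Subgroup G).subtype,
      n * w * n⁻¹ ∈ (Cfsg.stableNormalClosure p ↥(S : Subgroup G)).map (S : Subgroup G).subtype := by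
  intro n hn w hw
  have hnorm := W_map_normal _ (stable_inclusion hst hc S)
  rw [map_inclusion] at hnorm
  have hwN : w ∈ Subgroup.normalizer (Cfsg.thompsonSubgroupOf p (S : Subgroup G) : Set G) :=
    S_le_normalizer_J S (Subgroup.map_subtype_le _ hw)
  have h1 := hnorm.conj_mem ⟨w, hwN⟩ (Subgroup.mem_subgroupOf.2 hw) ⟨n, hn⟩
  exact Subgroup.mem_subgroupOf.1 h1

/-- The kernel of the action on `O_p(G)/Φ(O_p(G))` is a `p`-group. -/
theorem sectionKernel_isPGroup
    (hc : Subgroup.centralizer (Cfsg.pCore p G : Set G) ≤ Cfsg.pCore p G)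
    [hΦ : ((frattini ↥(Cfsg.pCore p G)).map (Cfsg.pCore p G).subtype).Normal] :
    IsPGroup p (Cfsg.sectionKernel (Cfsg.pCore p G)
      ((frattini ↥(Cfsg.pCore p G)).map (Cfsg.pCore p G).subtype)) := by
  have hp : p.Prime := Fact.out
  haveI hQn : (Cfsg.pCore p G).Normal := inferInstance
  rintro ⟨g, hg⟩
  obtain ⟨a, ha⟩ := exists_pow_coprime p g
  refine ⟨a, Subtype.ext ?_⟩
  rw [Subgroup.coe_pow, Subgroup.coe_one]
  show g ^ (p ^ a) = 1
  obtain ⟨y, hy⟩ : ∃ y, y = g ^ (p ^ a) := ⟨_, rfl⟩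
  rw [← hy] at ha ⊢
  have hyK : y ∈ Cfsg.sectionKernel (Cfsg.pCore p G)
      ((frattini ↥(Cfsg.pCore p G)).map (Cfsg.pCore p G).subtype) := by
    rw [hy]; exact Subgroup.pow_mem _ hg _
  have hA : Subgroup.zpowers y ≤ Subgroup.centralizer (Cfsg.pCore p G : Set G) := by
    apply Cfsg.Agent.S0029.result (Subgroup.zpowers y) (Cfsg.pCore p G)
    · rw [Subgroup.normalizer_eq_top]
      exact le_top
    · rw [Nat.card_zpowers]
      have hfp : IsPGroup p (frattini ↥(Cfsg.pCore p G)) :=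
        (pCore_isPGroup (p := p) (G := G)).to_subgroup _
      obtain ⟨k, hk⟩ := IsPGroup.iff_card.1 hfp
      rw [hk]
      exact Nat.Coprime.pow_right k ha
    · intro b hb k hk
      have hbK := (Subgroup.zpowers_le.2 hyK) hb
      have h1 := Subgroup.mem_centralizer_iff.1 hbK
        (QuotientGroup.mk' _ k) ⟨k, hk, rfl⟩
      apply (QuotientGroup.eq_one_iff _).1
      have e : ((b * k * b⁻¹ * k⁻¹ : G) : G ⧸
          ((frattini ↥(Cfsg.pCore p G)).map (Cfsg.pCore p G).subtype)) =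
          QuotientGroup.mk' _ b * QuotientGroup.mk' _ k * (QuotientGroup.mk' _ b)⁻¹ *
            (QuotientGroup.mk' _ k)⁻¹ := by
        simp
      rw [e, ← h1]
      group
  have hyQ : y ∈ Cfsg.pCore p G := hc (hA (Subgroup.mem_zpowers y))
  obtain ⟨k, hk⟩ := (pCore_isPGroup (p := p) (G := G)) ⟨y, hyQ⟩
  have hk' : y ^ (p ^ k) = 1 := by
    have := congrArg (fun z : ↥(Cfsg.pCore p G) => (z : G)) hk
    simpa using this
  have h1 : orderOf y ∣ p ^ k := orderOf_dvd_of_pow_eq_one hk'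
  have h2 : (orderOf y).Coprime (p ^ k) := Nat.Coprime.pow_right k ha
  have h3 : orderOf y = 1 := h2.eq_one_of_dvd h1
  exact orderOf_eq_one_iff.1 h3

theorem le_pCore_of_props
    (hc : Subgroup.centralizer (Cfsg.pCore p G : Set G) ≤ Cfsg.pCore p G)
    [hΦ : ((frattini ↥(Cfsg.pCore p G)).map (Cfsg.pCore p G).subtype).Normal]
    (hst2 : Cfsg.IsPStableOnSection p (Cfsg.pCore p G)
      ((frattini ↥(Cfsg.pCore p G)).map (Cfsg.pCore p G).subtype))
    (S : Sylow p G) (Wg : Subgroup G)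
    (hWS : ∀ s ∈ (S : Subgroup G), ∀ w ∈ Wg, s * w * s⁻¹ ∈ Wg)
    (hWc : ∀ w ∈ Wg, ∀ w' ∈ Wg, w * w' = w' * w) : Wg ≤ Cfsg.pCore p G := by
  intro a ha
  have hQS : Cfsg.pCore p G ≤ S := pCore_le_sylow S
  have hza : Subgroup.zpowers a ≤ Wg := Subgroup.zpowers_le.2 ha
  have h1 : ⁅Cfsg.pCore p G, Subgroup.zpowers a⁆ ≤ Wg := by
    rw [Subgroup.commutator_le]
    intro q hq u hu
    rw [commutatorElement_def]
    exact Wg.mul_mem (hWS q (hQS hq) u (hza hu)) (Wg.inv_mem (hza hu))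
  have hquad : ⁅⁅Cfsg.pCore p G, Subgroup.zpowers a⁆, Subgroup.zpowers a⁆ ≤
      (frattini ↥(Cfsg.pCore p G)).map (Cfsg.pCore p G).subtype := by
    have h2 : ⁅⁅Cfsg.pCore p G, Subgroup.zpowers a⁆, Subgroup.zpowers a⁆ = ⊥ := by
      rw [eq_bot_iff]
      calc _ ≤ ⁅Wg, Wg⁆ := Subgroup.commutator_mono h1 hza
        _ ≤ ⊥ := by
          rw [Subgroup.commutator_le]
          intro x hx y hy
          rw [commutatorElement_def, Subgroup.mem_bot, hWc x hx y hy]; group
    rw [h2]; exact bot_le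
  obtain ⟨D, hDn, hKD, ⟨k, hk⟩, haD⟩ := hst2 a hquad
  have hKp := sectionKernel_isPGroup (p := p) (G := G) hc
  obtain ⟨j, hj⟩ := IsPGroup.iff_card.1 hKp
  have hDp : IsPGroup p D := by
    apply IsPGroup.of_card (n := j + k)
    have h3 := Subgroup.relIndex_mul_relIndex ⊥ _ D bot_le hKD
    rw [Subgroup.relIndex_bot_left, Subgroup.relIndex_bot_left, hj, hk] at h3
    rw [← h3, pow_add]
  exact le_pCore D hDn hDp haD

theorem normal_of_props
    (hst1 : ∀ (V : Subgroup G) [V.Normal], Cfsg.IsElementaryAbelian p V → Cfsg.IsPStableOn p V)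
    (S : Sylow p G) (Wg : Subgroup G)
    (hWS : ∀ s ∈ (S : Subgroup G), ∀ w ∈ Wg, s * w * s⁻¹ ∈ Wg)
    (hWc : ∀ w ∈ Wg, ∀ w' ∈ Wg, w * w' = w' * w)
    (hWp : ∀ w ∈ Wg, w ^ p = 1)
    (hWq : ∀ t ∈ (S : Subgroup G), ⁅⁅Wg, Subgroup.zpowers t⁆, Subgroup.zpowers t⁆ = ⊥ →
      ∀ w ∈ Wg, t * w = w * t)
    (hWQ : Wg ≤ Cfsg.pCore p G)
    (hWN : ∀ n ∈ Subgroup.normalizer (Cfsg.thompsonSubgroupOf p (S : Subgroup G) : Set G),
      ∀ w ∈ Wg, n * w * n⁻¹ ∈ Wg) :
    Wg.Normal := by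
  classical
  have hQn : (Cfsg.pCore p G).Normal := inferInstance
  have hQS : Cfsg.pCore p G ≤ S := pCore_le_sylow S
  -- conjugates of `Wg` centralize `Wg`
  have hKC : ∀ e : G, ∀ w ∈ Wg, ∀ w' ∈ Wg, w * (e * w' * e⁻¹) = (e * w' * e⁻¹) * w := by
    intro e w hw w' hw'
    have hxQ : e * w' * e⁻¹ ∈ Cfsg.pCore p G := hQn.conj_mem _ (hWQ hw') e
    have hxS : e * w' * e⁻¹ ∈ (S : Subgroup G) := hQS hxQ
    obtain ⟨We, hWe⟩ : ∃ We : Subgroup G, We = Wg.map (MulAut.conj e).toMonoidHom := ⟨_, rfl⟩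
    have hxWe : e * w' * e⁻¹ ∈ We := by rw [hWe]; exact ⟨w', hw', rfl⟩
    have hWec : ∀ a ∈ We, ∀ b ∈ We, a * b = b * a := by
      rw [hWe]
      rintro _ ⟨a, ha, rfl⟩ _ ⟨b, hb, rfl⟩
      show e * a * e⁻¹ * (e * b * e⁻¹) = e * b * e⁻¹ * (e * a * e⁻¹)
      have := hWc a ha b hb
      calc e * a * e⁻¹ * (e * b * e⁻¹) = e * (a * b) * e⁻¹ := by group
        _ = e * (b * a) * e⁻¹ := by rw [this]
        _ = _ := by group
    have hWeQ : ∀ q ∈ Cfsg.pCore p G, ∀ a ∈ We, q * a * q⁻¹ ∈ We := by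
      intro q hq a ha
      rw [hWe] at ha ⊢
      obtain ⟨a₀, ha₀, rfl⟩ := ha
      have hq' : e⁻¹ * q * e ∈ Cfsg.pCore p G := by
        have := hQn.conj_mem q hq e⁻¹
        rwa [inv_inv] at this
      refine ⟨(e⁻¹ * q * e) * a₀ * (e⁻¹ * q * e)⁻¹, hWS _ (hQS hq') a₀ ha₀, ?_⟩
      show e * ((e⁻¹ * q * e) * a₀ * (e⁻¹ * q * e)⁻¹) * e⁻¹ = q * (e * a₀ * e⁻¹) * q⁻¹
      group
    have hzle : Subgroup.zpowers (e * w' * e⁻¹) ≤ We := Subgroup.zpowers_le.2 hxWe
    have h1 : ⁅Wg, Subgroup.zpowers (e * w' * e⁻¹)⁆ ≤ We := by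
      rw [Subgroup.commutator_le]
      intro a ha u hu
      rw [commutatorElement_def]
      exact We.mul_mem (hWeQ a (hWQ ha) u (hzle hu)) (We.inv_mem (hzle hu))
    have h2 : ⁅⁅Wg, Subgroup.zpowers (e * w' * e⁻¹)⁆, Subgroup.zpowers (e * w' * e⁻¹)⁆ = ⊥ := by
      rw [eq_bot_iff]
      calc _ ≤ ⁅We, We⁆ := Subgroup.commutator_mono h1 hzle
        _ ≤ ⊥ := by
          rw [Subgroup.commutator_le]
          intro a ha b hb
          rw [commutatorElement_def, Subgroup.mem_bot, hWec a ha b hb]; group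
    exact (hWq _ hxS h2 w hw).symm
  -- the set of conjugates
  obtain ⟨T, hT⟩ : ∃ T : Set G, T = {y | ∃ c : G, ∃ w ∈ Wg, y = c * w * c⁻¹} := ⟨_, rfl⟩
  have hTcomm : ∀ a ∈ T, ∀ b ∈ T, a * b = b * a := by
    rw [hT]
    rintro _ ⟨c, w, hw, rfl⟩ _ ⟨d, w', hw', rfl⟩
    have := hKC (c⁻¹ * d) w hw w' hw'
    calc c * w * c⁻¹ * (d * w' * d⁻¹)
        = c * (w * ((c⁻¹ * d) * w' * (c⁻¹ * d)⁻¹)) * c⁻¹ := by group
      _ = c * (((c⁻¹ * d) * w' * (c⁻¹ * d)⁻¹) * w) * c⁻¹ := by rw [this]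
      _ = _ := by group
  have hTpow : ∀ a ∈ T, a ^ p = 1 := by
    rw [hT]
    rintro _ ⟨c, w, hw, rfl⟩
    rw [conj_pow, hWp w hw]; group
  have hTconj : ∀ t ∈ T, ∀ g : G, g * t * g⁻¹ ∈ T := by
    rw [hT]
    rintro _ ⟨c, w, hw, rfl⟩ g
    exact ⟨g * c, w, hw, by group⟩
  obtain ⟨U, hU⟩ : ∃ U : Subgroup G, U = Subgroup.closure T := ⟨_, rfl⟩
  have hUel : Cfsg.IsElementaryAbelian p U := by
    rw [hU]; exact isElementaryAbelian_closure p T hTcomm hTpow
  haveI hUn : U.Normal := by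
    rw [hU]; exact closure_normal_of_conj T hTconj
  have hWU : Wg ≤ U := by
    intro w hw
    rw [hU]
    apply Subgroup.subset_closure
    rw [hT]; exact ⟨1, w, hw, by group⟩
  have hstU := hst1 U hUel
  -- quadratic elements centralize `U`
  obtain ⟨Q, hQ⟩ : ∃ Q : Set G, Q = {x : G | ⁅⁅U, Subgroup.zpowers x⁆, Subgroup.zpowers x⁆ = ⊥} :=
    ⟨_, rfl⟩
  have hQconj : ∀ x ∈ Q, ∀ g : G, g * x * g⁻¹ ∈ Q := by
    intro x hx g
    rw [hQ] at hx ⊢
    exact quad_conj U x g hx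
  have hCn : (Subgroup.centralizer Q).Normal := by
    constructor
    intro c hc' g
    rw [Subgroup.mem_centralizer_iff] at hc' ⊢
    intro x hx
    have h1 := hQconj x hx g⁻¹
    rw [inv_inv] at h1
    have h2 := hc' _ h1
    calc x * (g * c * g⁻¹) = g * ((g⁻¹ * x * g) * c) * g⁻¹ := by group
      _ = g * (c * (g⁻¹ * x * g)) * g⁻¹ := by rw [h2]
      _ = _ := by group
  have hWgQ : Wg ≤ Subgroup.centralizer Q := by
    intro w hw
    rw [Subgroup.mem_centralizer_iff]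
    intro x hx
    have hx' : ⁅⁅U, Subgroup.zpowers x⁆, Subgroup.zpowers x⁆ = ⊥ := by rw [hQ] at hx; exact hx
    have pst := hstU x hx'
    have hsyl := pCore_le_sylow (S.mapSurjective
      (QuotientGroup.mk'_surjective (Subgroup.centralizer (U : Set G)))) pst
    rw [Sylow.coe_mapSurjective] at hsyl
    obtain ⟨t, ht, hte⟩ := hsyl
    have hcU : t⁻¹ * x ∈ Subgroup.centralizer (U : Set G) := QuotientGroup.eq.1 hte
    have hcU' : x⁻¹ * t ∈ Subgroup.centralizer (U : Set G) := by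
      have := Subgroup.inv_mem _ hcU
      rwa [mul_inv_rev, inv_inv] at this
    have hq3 := quad_of_mod_centralizer U x t hcU' hx'
    have hq4 : ⁅⁅Wg, Subgroup.zpowers t⁆, Subgroup.zpowers t⁆ = ⊥ := by
      rw [eq_bot_iff, ← hq3]
      exact Subgroup.commutator_mono (Subgroup.commutator_mono hWU le_rfl) le_rfl
    have h5 := hWq t ht hq4 w hw
    have h6 := Subgroup.mem_centralizer_iff.1 hcU w (hWU hw)
    calc x * w = t * ((t⁻¹ * x) * w) := by group
      _ = t * (w * (t⁻¹ * x)) := by rw [← h6]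
      _ = (t * w) * (t⁻¹ * x) := by group
      _ = (w * t) * (t⁻¹ * x) := by rw [h5]
      _ = _ := by group
  have hUQ : U ≤ Subgroup.centralizer Q := by
    rw [hU, Subgroup.closure_le, hT]
    rintro _ ⟨c, w, hw, rfl⟩
    exact hCn.conj_mem w (hWgQ hw) c
  -- `J(S)` centralizes `U`
  have hJU : Cfsg.thompsonSubgroupOf p (S : Subgroup G) ≤ Subgroup.centralizer (U : Set G) := by
    obtain ⟨A₀, hA₀, hA₀S⟩ := Cfsg.Agent.S0604.exists_maxEA_le_sylow S
    unfold Cfsg.thompsonSubgroupOf Cfsg.thompsonSubgroup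
    rw [Subgroup.map_le_iff_le_comap]
    apply sSup_le
    intro A hA
    rw [← Subgroup.map_le_iff_le_comap]
    have hA' := maxEA_map_subtype p hA₀ hA₀S hA
    have hbest := Cfsg.Agent.S0606.result U hUel _ hA'
    have hAN : A.map (S : Subgroup G).subtype ≤ Subgroup.normalizer (U : Set G) := by
      rw [Subgroup.normalizer_eq_top]; exact le_top
    obtain ⟨-, -, h3⟩ := Cfsg.Agent.S0599.result U _ hUel hAN hbest U le_rfl
    by_contra hnot
    have hne : ⁅U, A.map (S : Subgroup G).subtype⁆ ≠ ⊥ := by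
      intro h
      rw [Subgroup.commutator_eq_bot_iff_le_centralizer] at h
      exact hnot (Subgroup.le_centralizer_iff.1 h)
    apply h3 hne
    rw [Subgroup.commutator_eq_bot_iff_le_centralizer, Subgroup.le_centralizer_iff]
    intro a ha
    have hza : Subgroup.zpowers a ≤ A.map (S : Subgroup G).subtype ⊓
        Subgroup.centralizer ((⁅U, A.map (S : Subgroup G).subtype⁆ : Subgroup G) : Set G) :=
      Subgroup.zpowers_le.2 ha
    have haQ : a ∈ Q := by
      rw [hQ]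
      show ⁅⁅U, Subgroup.zpowers a⁆, Subgroup.zpowers a⁆ = ⊥
      rw [eq_bot_iff]
      calc _ ≤ ⁅⁅U, A.map (S : Subgroup G).subtype⁆,
            Subgroup.centralizer ((⁅U, A.map (S : Subgroup G).subtype⁆ : Subgroup G) : Set G)⁆ :=
            Subgroup.commutator_mono (Subgroup.commutator_mono le_rfl (hza.trans inf_le_left))
              (hza.trans inf_le_right)
        _ ≤ ⊥ := by
          rw [Subgroup.commutator_comm, le_bot_iff,
            Subgroup.commutator_eq_bot_iff_le_centralizer]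
    rw [Subgroup.mem_centralizer_iff]
    intro u hu
    exact (Subgroup.mem_centralizer_iff.1 (hUQ hu) a haQ).symm
  -- Frattini
  haveI hCUn : (Subgroup.centralizer (U : Set G)).Normal := Subgroup.normal_centralizer
  have hfr := Sylow.normalizer_sup_eq_top (sylowInfNormal S (Subgroup.centralizer (U : Set G)))
  rw [map_sylowInfNormal] at hfr
  have hNJ : Subgroup.normalizer (((S : Subgroup G) ⊓ Subgroup.centralizer (U : Set G) :
      Subgroup G) : Set G) ≤
      Subgroup.normalizer (Cfsg.thompsonSubgroupOf p (S : Subgroup G) : Set G) := by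
    have key : ∀ g ∈ Subgroup.normalizer (((S : Subgroup G) ⊓
        Subgroup.centralizer (U : Set G) : Subgroup G) : Set G),
        ∀ y ∈ Cfsg.thompsonSubgroupOf p (S : Subgroup G),
        g * y * g⁻¹ ∈ Cfsg.thompsonSubgroupOf p (S : Subgroup G) := by
      intro g hg
      obtain ⟨A₀, hA₀, hA₀S⟩ := Cfsg.Agent.S0604.exists_maxEA_le_sylow S
      have hle : (sSup (Cfsg.maxElementaryAbelianSubgroups p ↥(S : Subgroup G))).map
          (S : Subgroup G).subtype ≤
          (Cfsg.thompsonSubgroupOf p (S : Subgroup G)).comap (MulAut.conj g).toMonoidHom := by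
        rw [Subgroup.map_le_iff_le_comap]
        apply sSup_le
        intro A hA
        rw [← Subgroup.map_le_iff_le_comap, ← Subgroup.map_le_iff_le_comap]
        have hA' := maxEA_map_subtype p hA₀ hA₀S hA
        have hA'' := maxEA_map_equiv p (MulAut.conj g) hA'
        have hAJ : A.map (S : Subgroup G).subtype ≤ Cfsg.thompsonSubgroupOf p (S : Subgroup G) :=
          Subgroup.map_mono (le_thompson p hA)
        have hA''S : (A.map (S : Subgroup G).subtype).map (MulAut.conj g).toMonoidHom ≤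
            (S : Subgroup G) := by
          rintro _ ⟨a, ha, rfl⟩
          have ha1 : a ∈ (S : Subgroup G) ⊓ Subgroup.centralizer (U : Set G) :=
            ⟨Subgroup.map_subtype_le _ ha, hJU (hAJ ha)⟩
          exact ((Subgroup.mem_normalizer_iff.1 hg a).1 ha1).1
        have h5 := le_thompson p (maxEA_subgroupOf p hA'' hA''S)
        have h6 := Subgroup.map_mono (f := (S : Subgroup G).subtype) h5
        rwa [Subgroup.map_subgroupOf_eq_of_le hA''S] at h6
      intro y hy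
      exact hle hy
    intro g hg
    exact mem_normalizer_of_conj_mem (key g hg) (fun y hy => by
      have := key g⁻¹ (Subgroup.inv_mem _ hg) y hy
      rwa [inv_inv] at this)
  constructor
  intro w hw g
  have hg : g ∈ ((Subgroup.normalizer (((S : Subgroup G) ⊓ Subgroup.centralizer (U : Set G) :
      Subgroup G) : Set G) ⊔ Subgroup.centralizer (U : Set G) : Subgroup G) : Set G) := by
    rw [hfr]; trivial
  rw [Subgroup.mul_normal] at hg
  obtain ⟨n, hn, c, hc, rfl⟩ := Set.mem_mul.1 hg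
  have hcw : c * w * c⁻¹ = w := by
    have := Subgroup.mem_centralizer_iff.1 hc w (hWU hw)
    rw [← this]; group
  have e : n * c * w * (n * c)⁻¹ = n * (c * w * c⁻¹) * n⁻¹ := by group
  rw [e, hcw]
  exact hWN n (hNJ hn) w hw

theorem Wg_quad (S : Sylow p G) : ∀ t ∈ (S : Subgroup G),
    ⁅⁅(Cfsg.stableNormalClosure p ↥(S : Subgroup G)).map (S : Subgroup G).subtype,
      Subgroup.zpowers t⁆, Subgroup.zpowers t⁆ = ⊥ →
    ∀ w ∈ (Cfsg.stableNormalClosure p ↥(S : Subgroup G)).map (S : Subgroup G).subtype,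
      t * w = w * t := by
  intro t ht hq w hw
  obtain ⟨w₀, hw₀, rfl⟩ := hw
  have hq0 := quad_map (S : Subgroup G).subtype (Subgroup.subtype_injective _)
    (Cfsg.stableNormalClosure p ↥(S : Subgroup G)) ⟨t, ht⟩
  have e : ((S : Subgroup G).subtype ⟨t, ht⟩ : G) = t := rfl
  rw [e] at hq0
  have hq' := hq0.2 hq
  have := W_quadratic (p := p) (S := ↥(S : Subgroup G)) ⟨t, ht⟩ hq' w₀ hw₀
  show t * (w₀ : G) = (w₀ : G) * t
  have h2 := congrArg (fun z : ↥(S : Subgroup G) => (z : G)) this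
  exact h2

theorem Wg_conj (S : Sylow p G) : ∀ s ∈ (S : Subgroup G),
    ∀ w ∈ (Cfsg.stableNormalClosure p ↥(S : Subgroup G)).map (S : Subgroup G).subtype,
    s * w * s⁻¹ ∈ (Cfsg.stableNormalClosure p ↥(S : Subgroup G)).map (S : Subgroup G).subtype := by
  haveI := W_char (p := p) (S := ↥(S : Subgroup G))
  have hn : (Cfsg.stableNormalClosure p ↥(S : Subgroup G)).Normal := inferInstance
  rintro s hs _ ⟨w, hw, rfl⟩
  exact ⟨⟨s, hs⟩ * w * ⟨s, hs⟩⁻¹, hn.conj_mem w hw _, rfl⟩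

theorem Wg_comm (S : Sylow p G) :
    ∀ w ∈ (Cfsg.stableNormalClosure p ↥(S : Subgroup G)).map (S : Subgroup G).subtype,
    ∀ w' ∈ (Cfsg.stableNormalClosure p ↥(S : Subgroup G)).map (S : Subgroup G).subtype,
    w * w' = w' * w := by
  rintro _ ⟨a, ha, rfl⟩ _ ⟨b, hb, rfl⟩
  exact congrArg (fun z : ↥(S : Subgroup G) => (z : G)) (W_comm a ha b hb)

theorem Wg_pow (S : Sylow p G) :
    ∀ w ∈ (Cfsg.stableNormalClosure p ↥(S : Subgroup G)).map (S : Subgroup G).subtype,
    w ^ p = 1 := by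
  rintro _ ⟨a, ha, rfl⟩
  have := W_pow a ha
  have h2 := congrArg (fun z : ↥(S : Subgroup G) => (z : G)) this
  simpa using h2

end


/-- The analogue of the ZJ-Theorem: in an action-p-stable group whose largest normal p-subgroup contains its centralizer, the characteristic subgroup W(S) of a Sylow p-subgroup S is normal. -/
theorem result {G : Type*} [Group G] [Finite G] {p : ℕ} [Fact p.Prime] (hst : Cfsg.IsActionPStable p G) (hc : Subgroup.centralizer (Cfsg.pCore p G : Set G) ≤ Cfsg.pCore p G) (S : Sylow p G) : (((Cfsg.stableNormalClosure p ↥(S : Subgroup G)).map (S : Subgroup G).subtype)).Normal := by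
  exact normal_of_props hst.1 S _ (Wg_conj S) (Wg_comm S) (Wg_pow S) (Wg_quad S)
    (le_pCore_of_props hc hst.2.1 S _ (Wg_conj S) (Wg_comm S)) (W_normalizer hst hc S)

end Cfsg.Agent.S0624
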