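import Cfsg.Statements.S0627
import Mathlib
import Mathlib
import Cfsg.Agent.Lib.Lead_StabSep2
import Cfsg.Agent.Lib.Lead_FratPP
import Cfsg.Agent.S0624
import Cfsg.Agent.S0630
import Cfsg.Agent.Lib.Helper6_HallHigman

set_option autoImplicit false
open Cfsg

namespace Cfsg.Agent.S0627

/-- In a p-separable group with p at least 5, the normalizer of W(S) supplements the largest normal subgroup of order prime to p. -/
theorem result {G : Type*} [Group G] [Finite G] {p : ℕ} [Fact p.Prime] (hp : 5 ≤ p) (hsep : Cfsg.IsPSolvable p G) (S : Sylow p G) : Cfsg.pPrimeCore p G ⊔ Subgroup.normalizer (((Cfsg.stableNormalClosure p ↥(S : Subgroup G)).map (S : Subgroup G).subtype) : Set G) = ⊤ := by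
  have hpp : p.Prime := Fact.out
  haveI hKn : (Cfsg.pPrimeCore p G).Normal := Cfsg.Agent.Lib.Helper5_PPrime.pPrimeCore_normal p G
  have hOcop : (Nat.card (Cfsg.pPrimeCore p G)).Coprime p :=
    Cfsg.Agent.Lib.Helper5_PPrime.pPrimeCore_coprime p G
  have h0b := Cfsg.Agent.S0630.pPrimeCore_quotient_self (G := G) p
  have hsolb : Cfsg.IsPSolvable p (G ⧸ Cfsg.pPrimeCore p G) :=
    Cfsg.Agent.Lib.Helper7_PSolvable.quotient hpp hsep _
  have hcb := Cfsg.Agent.Lib.Helper6_HallHigman.centralizer_pCore_le hsolb h0b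
  have hstb := Cfsg.Agent.Lib.Lead_StabSep2.actionPStable_sep hp hsolb
  have hWb := Cfsg.Agent.S0624.result hstb hcb
    (S.mapSurjective (QuotientGroup.mk'_surjective (Cfsg.pPrimeCore p G)))
  have hPO : (S : Subgroup G) ⊓ Cfsg.pPrimeCore p G = ⊥ :=
    Cfsg.Agent.Lib.Helper5_PPrime.inf_eq_bot_of_pGroup_of_coprime S.isPGroup' hOcop
  have hinj : Set.InjOn (QuotientGroup.mk' (Cfsg.pPrimeCore p G)) ((S : Subgroup G) : Set G) := by
    intro x hx y hy hxy
    have h1 : x⁻¹ * y ∈ Cfsg.pPrimeCore p G := QuotientGroup.eq.1 hxy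
    have h2 : x⁻¹ * y ∈ (S : Subgroup G) ⊓ Cfsg.pPrimeCore p G :=
      ⟨Subgroup.mul_mem _ (Subgroup.inv_mem _ hx) hy, h1⟩
    rw [hPO, Subgroup.mem_bot] at h2
    exact inv_mul_eq_one.1 h2
  rw [Cfsg.Agent.Lib.Lead_FratPP.W_map_sub (QuotientGroup.mk' (Cfsg.pPrimeCore p G))
    (S : Subgroup G) hinj _ (Sylow.coe_mapSurjective _ _)] at hWb
  exact Cfsg.Agent.Lib.Lead_FratPP.sup_normalizer_eq_top _
    (S.isPGroup'.to_le (Subgroup.map_subtype_le _)) hWb

end Cfsg.Agent.S0627
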