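import Cfsg.Statements.S0628
import Mathlib
import Cfsg.Agent.Lib.Lead_Ind
import Cfsg.Agent.Lib.Lead_ActStab
import Cfsg.Agent.S0622
import Cfsg.Agent.S0624

set_option autoImplicit false
open Cfsg

namespace Cfsg.Agent.S0628

open Cfsg.Agent.Lib.Helper7_NPC Cfsg.Agent.Lib.Lead_GTb Cfsg.Agent.Lib.Lead_Ind
  Cfsg.Agent.Lib.Lead_ActStab

universe u

/-- The trivial class of all groups. -/
def allClass : GClass.{u} where
  mem := fun _ _ => True
  sub := fun _ _ _ _ => trivial
  quot := fun _ _ _ _ _ => trivial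

theorem snc_isCharPFunctor (p : ℕ) [Fact p.Prime] :
    Cfsg.IsCharPFunctor.{u} p (fun (Q : Type u) [Group Q] => Cfsg.stableNormalClosure p Q) := by
  refine ⟨?_, ?_⟩
  · intro Q _ _ hQ hnt
    exact (Cfsg.Agent.S0622.result hQ).2.2.2.1 hnt
  · intro Q R _ _ _ hQ φ
    exact (Cfsg.Agent.S0622.result hQ).2.2.2.2 R φ


/-- The normal p-complement Theorem of Thompson in the form with W(S): for odd p, G has a normal p-complement as soon as the normalizer of the characteristic subgroup W(S) of a Sylow p-subgroup S has one. -/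
theorem result {G : Type*} [Group G] [Finite G] {p : ℕ} [Fact p.Prime] (hp : p ≠ 2) (S : Sylow p G) (hN : Cfsg.HasNormalPComplement p ↥(Subgroup.normalizer (((Cfsg.stableNormalClosure p ↥(S : Subgroup G)).map (S : Subgroup G).subtype) : Set G))) : Cfsg.HasNormalPComplement p G := by
  rw [hasNormalPComplement_iff_npc] at hN ⊢
  have hW := snc_isCharPFunctor.{u_1} p
  have hend : ∀ (X : Type u_1) [Group X] [Finite X], (allClass.{u_1}).mem X → EndConfig p X →
      ∀ S' : Sylow p X, ((indFun _ hW).W X (S' : Subgroup X)).Normal := by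
    intro X _ _ _ hE S'
    have hst := actionPStable_of_endConfig hp hE
    obtain ⟨H, K, hHn, hKn, hHp, hHO, hHK, hab, hcop, hKi, hcent, -⟩ := hE
    subst hHO
    exact Cfsg.Agent.S0624.result hst hcent S'
  exact main_b (indFun _ hW) allClass hend G trivial (hyp_of_single (indFun _ hW) S hN)

end Cfsg.Agent.S0628
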