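import Cfsg.Statements.S0629
import Cfsg.Agent.S1327
import Cfsg.Agent.S1317
import Cfsg.Agent.Lib.Helper7_PSolvable
import Cfsg.Agent.Lib.Helper3_PComp

set_option autoImplicit false
open Cfsg

namespace Cfsg.Agent.S0629

open Cfsg.Agent.Lib.Helper3_Components Cfsg.Agent.Lib.Helper3_PComp in
/-- a `p`-solvable quasisimple group has order prime to `p` -/
theorem quasisimple_psolvable_coprime {Q : Type*} [Group Q] [Finite Q] (p : ℕ) [hp : Fact p.Prime]
    (hq : Cfsg.IsQuasisimple Q) (hs : Cfsg.IsPSolvable p Q) : (Nat.card Q).Coprime p := by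
  haveI := hq.1
  haveI := hq.2
  have h1 : Cfsg.IsPSolvable p (Q ⧸ Subgroup.center Q) :=
    Cfsg.Agent.Lib.Helper7_PSolvable.quotient hp.out hs _
  haveI : Nontrivial (Q ⧸ Subgroup.center Q) := IsSimpleGroup.toNontrivial
  obtain ⟨N, hN, hNbot, hNc⟩ := Cfsg.Agent.Lib.Helper7_PSolvable.exists_normal_PorC h1
  have hNtop : N = ⊤ := (hN.eq_bot_or_eq_top).resolve_left hNbot
  rw [hNtop, Subgroup.card_top] at hNc
  have hidx : ((Subgroup.center Q).index).Coprime p := by
    rcases hNc with ⟨m, hm⟩ | hc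
    · exfalso
      have hpg : IsPGroup p (Q ⧸ Subgroup.center Q) := IsPGroup.of_card hm
      haveI : Group.IsNilpotent (Q ⧸ Subgroup.center Q) := hpg.isNilpotent
      haveI : Group.IsSolvable ↥(Subgroup.center Q) := by
        haveI : Group.IsNilpotent ↥(Subgroup.center Q) :=
          Cfsg.Agent.S1317.isNilpotent_of_isMulCommutative _
        infer_instance
      have : Group.IsSolvable Q :=
        Group.isSolvable_of_ker_le_range (Subgroup.center Q).subtype
          (QuotientGroup.mk' (Subgroup.center Q)) (by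
            rw [QuotientGroup.ker_mk', Subgroup.range_subtype])
      exact quasisimple_not_solvable hq this
    · rw [Subgroup.index_eq_card]; exact hc
  exact perfect_card_coprime_of_center_index p hidx

/-- A group in which the centralizer of a Sylow p-subgroup of O_{p',p}(G) is p-solvable is p-constrained. -/
theorem result {G : Type*} [Group G] [Finite G] {p : ℕ} [Fact p.Prime] (P : Sylow p ↥(Cfsg.pPrimePCore p G)) (hsol : Cfsg.IsPSolvable p ↥(Subgroup.centralizer (((P : Subgroup ↥(Cfsg.pPrimePCore p G)).map (Cfsg.pPrimePCore p G).subtype : Subgroup G) : Set G))) : Cfsg.IsPConstrained p G := by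
  classical
  rw [Cfsg.Agent.S1327.result p, Cfsg.Agent.S1327.pLayer_eq_bot_iff p]
  have hO : Cfsg.pPrimeCore p (G ⧸ Cfsg.pPrimeCore p G) = ⊥ := Cfsg.Agent.S1958.pPrimeCore_quotient p G
  have hfit := Cfsg.Agent.S1268.fitting_eq_pCore_of_pPrimeCore_eq_bot p hO
  have hcomm := Cfsg.Agent.S1317.layer_commute_fitting (G ⧸ Cfsg.pPrimeCore p G)
  haveI hDn : (Cfsg.pPrimeCore p G).Normal := Cfsg.Agent.Lib.Helper5_PPrime.pPrimeCore_normal p G
  have hDc : (Nat.card ↥(Cfsg.pPrimeCore p G)).Coprime p :=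
    Cfsg.Agent.Lib.Helper5_PPrime.pPrimeCore_coprime p G
  set D := Cfsg.pPrimeCore p G with hD
  set π := QuotientGroup.mk' D with hπ
  set P' := (P : Subgroup ↥(Cfsg.pPrimePCore p G)).map (Cfsg.pPrimePCore p G).subtype with hP'
  set C := Subgroup.centralizer (P' : Set G) with hC
  have hP'p : IsPGroup p ↥P' := P.isPGroup'.map _
  rw [eq_bot_iff]
  apply sSup_le
  intro Kb hKb
  exfalso
  have hle : Kb ≤ C.map π := by
    intro kb hkb
    obtain ⟨x, rfl⟩ := QuotientGroup.mk'_surjective D kb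
    have hx : ∀ a ∈ P', x⁻¹ * a * x * a⁻¹ ∈ D := by
      intro a ha
      have ha1 : π a ∈ Cfsg.fittingSubgroup (G ⧸ D) := by
        rw [hfit]
        obtain ⟨a0, ha0, rfl⟩ := ha
        exact a0.2
      have hk1 : π x ∈ Cfsg.layer (G ⧸ D) := (le_sSup hKb : Kb ≤ Cfsg.layer (G ⧸ D)) hkb
      have hc := Cfsg.Agent.Lib.Helper3_Components.commute_of_commutator_eq_bot hcomm hk1 ha1
      rw [← QuotientGroup.eq_one_iff]
      show π (x⁻¹ * a * x * a⁻¹) = 1
      rw [map_mul, map_mul, map_mul, map_inv, map_inv, mul_assoc (π x)⁻¹, ← hc]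
      group
    have hcop : (Nat.card ↥P').Coprime (Nat.card ↥D) := by
      obtain ⟨n, hn⟩ := (IsPGroup.iff_card.mp hP'p)
      rw [hn]
      exact Nat.Coprime.pow_left n hDc.symm
    haveI : Group.IsNilpotent ↥P' := hP'p.isNilpotent
    obtain ⟨d, hd, hxd⟩ := Cfsg.Agent.Lib.Lead_Coprime.lemmaC D P'
      (by rw [Subgroup.normalizer_eq_top]; exact le_top) hcop (Or.inl inferInstance) x hx
    refine ⟨x * d, hxd, ?_⟩
    rw [map_mul]
    have : π d = 1 := (QuotientGroup.eq_one_iff d).mpr hd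
    rw [this, mul_one]
  -- the image of `C` is `p`-solvable
  have hCs : Cfsg.IsPSolvable p ↥(C.map π) := by
    have h1 := Cfsg.Agent.Lib.Helper7_PSolvable.quotient (Fact.out : p.Prime) hsol (π.subgroupMap C).ker
    exact Cfsg.Agent.Lib.Helper7_PSolvable.of_equiv
      (QuotientGroup.quotientKerEquivOfSurjective _ (π.subgroupMap_surjective C)) h1
  have hKs : Cfsg.IsPSolvable p ↥Kb := by
    have h1 := Cfsg.Agent.Lib.Helper7_PSolvable.subgroup (Fact.out : p.Prime) hCs (Kb.subgroupOf (C.map π))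
    exact Cfsg.Agent.Lib.Helper7_PSolvable.of_equiv (Subgroup.subgroupOfEquivOfLe hle) h1
  have hKc := quasisimple_psolvable_coprime p hKb.2 hKs
  have hK1 := Cfsg.Agent.Lib.Helper3_PComp.subnormal_coprime_le_pPrimeCore p Kb hKb.1 hKc
  rw [hO, le_bot_iff] at hK1
  haveI := Cfsg.Agent.Lib.Helper3_Components.quasisimple_nontrivial hKb.2
  exact (Subgroup.nontrivial_iff_ne_bot _).mp inferInstance hK1

end Cfsg.Agent.S0629
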