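import Cfsg.Statements.S0631
import Mathlib
import Cfsg.Agent.Lib.Helper6_PConstrained

set_option autoImplicit false
open Cfsg

namespace Cfsg.Agent.S0631

/-- In a p-constrained group the normalizer and the centralizer of any p-subgroup are again p-constrained. -/
theorem result {G : Type*} [Group G] [Finite G] {p : ℕ} [Fact p.Prime] (hG : Cfsg.IsPConstrained p G) (P : Subgroup G) (hP : IsPGroup p P) : Cfsg.IsPConstrained p ↥(Subgroup.normalizer (P : Set G)) ∧ Cfsg.IsPConstrained p ↥(Subgroup.centralizer (P : Set G)) := by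
  have hc : Subgroup.centralizer (Cfsg.pCore p (G ⧸ Cfsg.pPrimeCore p G) :
      Set (G ⧸ Cfsg.pPrimeCore p G)) ≤ Cfsg.pCore p (G ⧸ Cfsg.pPrimeCore p G) := by
    rw [Cfsg.Agent.S0630.result (G := G),
      Cfsg.Agent.S0630.constrained_iff_of_pPrimeCore_eq_bot
        (Cfsg.Agent.S0630.pPrimeCore_quotient_self p)] at hG
    exact hG
  constructor
  · exact Cfsg.Agent.Lib.Helper6_PConstrained.constrained_sub hc P hP _
      (Subgroup.centralizer_le_normalizer _) le_rfl (Or.inr Subgroup.le_normalizer)
  · exact Cfsg.Agent.Lib.Helper6_PConstrained.constrained_sub hc P hP _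
      le_rfl (Subgroup.centralizer_le_normalizer _) (Or.inl le_rfl)

end Cfsg.Agent.S0631
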