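import Cfsg.Statements.S0632
import Mathlib
import Cfsg.Agent.S0667
import Cfsg.Agent.S0630
import Cfsg.Agent.Lib.Lead_PStable
import Cfsg.Agent.Lib.Lead_Coprime

set_option autoImplicit false
open Cfsg

namespace Cfsg.Agent.S0632

open Cfsg.Agent.Lib.Lead_PStable Cfsg.Agent.Lib.Helper4_PCore Cfsg.Agent.Lib.Lead_Coprime

section

variable {G : Type*} [Group G] [Finite G] {p : ℕ} [Fact p.Prime]

theorem mem_pCore_of_injective {H K : Type*} [Group H] [Group K] (ψ : H →* K)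
    (hinj : Function.Injective ψ) (x : H) (hx : ψ x ∈ Cfsg.pCore p K) : x ∈ Cfsg.pCore p H := by
  have hn : ((Cfsg.pCore p K).comap ψ).Normal :=
    (Cfsg.Agent.Lib.Helper4_PCore.pCore_normal p K).comap ψ
  have hpg : IsPGroup p ((Cfsg.pCore p K).comap ψ) :=
    IsPGroup.comap_of_injective pCore_isPGroup ψ hinj
  exact le_pCore _ hn hpg (Subgroup.mem_comap.2 hx)

theorem forward (hO : Cfsg.pCore p G ≠ ⊥) (hs : Cfsg.IsPStable p G) :
    Cfsg.IsPStable p (G ⧸ Cfsg.pPrimeCore p G) := by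
  classical
  have hOcop : (Nat.card (Cfsg.pPrimeCore p G)).Coprime p :=
    Cfsg.Agent.Lib.Helper5_PPrime.pPrimeCore_coprime p G
  have h0b := Cfsg.Agent.S0630.pPrimeCore_quotient_self (G := G) p
  have hsh := stabHyp_of_pStable hs
  refine ⟨hs.1, ?_, ?_⟩
  · intro hbot
    apply hO
    have h1 : (Cfsg.pCore p G).map (QuotientGroup.mk' (Cfsg.pPrimeCore p G)) ≤
        Cfsg.pCore p (G ⧸ Cfsg.pPrimeCore p G) := by
      apply le_pCore
      · exact (Cfsg.Agent.Lib.Helper4_PCore.pCore_normal p G).map _ (QuotientGroup.mk'_surjective _)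
      · exact pCore_isPGroup.map _
    rw [hbot] at h1
    have h2 : Cfsg.pCore p G ⊓ Cfsg.pPrimeCore p G = ⊥ :=
      Cfsg.Agent.Lib.Helper5_PPrime.inf_eq_bot_of_pGroup_of_coprime pCore_isPGroup hOcop
    rw [eq_bot_iff]
    intro x hx
    have h3 : QuotientGroup.mk' (Cfsg.pPrimeCore p G) x ∈ (⊥ : Subgroup _) :=
      h1 ⟨x, hx, rfl⟩
    rw [Subgroup.mem_bot] at h3
    have h4 : x ∈ Cfsg.pPrimeCore p G := (QuotientGroup.eq_one_iff x).1 h3
    rw [← h2]
    exact ⟨hx, h4⟩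
  · intro Ab Pb hAb hPb hnorm hPle hsupN hquad
    rw [h0b, bot_sup_eq] at hsupN
    haveI : Pb.Normal := hsupN
    obtain ⟨S⟩ : Nonempty (Sylow p G) := inferInstance
    have hst : Cfsg.IsPStableOn p Pb :=
      stableOn_quotient (Cfsg.pPrimeCore p G) hOcop hsh S Pb hPb
    let ψ : (↥(Subgroup.normalizer (Pb : Set (G ⧸ Cfsg.pPrimeCore p G))) ⧸
        (Subgroup.centralizer (Pb : Set (G ⧸ Cfsg.pPrimeCore p G))).subgroupOf
          (Subgroup.normalizer (Pb : Set (G ⧸ Cfsg.pPrimeCore p G)))) →*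
        ((G ⧸ Cfsg.pPrimeCore p G) ⧸ Subgroup.centralizer (Pb : Set (G ⧸ Cfsg.pPrimeCore p G))) :=
      QuotientGroup.map _ _ (Subgroup.normalizer (Pb : Set (G ⧸ Cfsg.pPrimeCore p G))).subtype
        (fun x hx => hx)
    have hinj : Function.Injective ψ := by
      rw [injective_iff_map_eq_one]
      intro q hq
      obtain ⟨n, rfl⟩ := QuotientGroup.mk_surjective q
      have h1 : (QuotientGroup.mk (n : G ⧸ Cfsg.pPrimeCore p G) :
          (G ⧸ Cfsg.pPrimeCore p G) ⧸ Subgroup.centralizer (Pb : Set (G ⧸ Cfsg.pPrimeCore p G))) = 1 := hq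
      have h2 := (QuotientGroup.eq_one_iff _).1 h1
      exact (QuotientGroup.eq_one_iff n).2 (Subgroup.mem_subgroupOf.2 h2)
    rintro _ ⟨a, ha, rfl⟩
    apply mem_pCore_of_injective ψ hinj
    show (QuotientGroup.mk (a : G ⧸ Cfsg.pPrimeCore p G) :
          (G ⧸ Cfsg.pPrimeCore p G) ⧸ Subgroup.centralizer (Pb : Set (G ⧸ Cfsg.pPrimeCore p G))) ∈ _
    apply hst
    have haA : (a : G ⧸ Cfsg.pPrimeCore p G) ∈ Ab := Subgroup.mem_subgroupOf.1 ha
    have hz : Subgroup.zpowers (a : G ⧸ Cfsg.pPrimeCore p G) ≤ Ab := Subgroup.zpowers_le.2 haA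
    rw [eq_bot_iff, ← hquad]
    exact Subgroup.commutator_mono (Subgroup.commutator_mono le_rfl hz) hz

theorem backward (hO : Cfsg.pCore p G ≠ ⊥) (hsb : Cfsg.IsPStable p (G ⧸ Cfsg.pPrimeCore p G)) :
    Cfsg.IsPStable p G := by
  classical
  have hOcop : (Nat.card (Cfsg.pPrimeCore p G)).Coprime p :=
    Cfsg.Agent.Lib.Helper5_PPrime.pPrimeCore_coprime p G
  have h0b := Cfsg.Agent.S0630.pPrimeCore_quotient_self (G := G) p
  refine ⟨hsb.1, hO, ?_⟩
  intro A P hA hP hnorm hPle hsupN hquad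
  have hPbN : (P.map (QuotientGroup.mk' (Cfsg.pPrimeCore p G))).Normal := by
    have h1 := Subgroup.Normal.map hsupN (QuotientGroup.mk' (Cfsg.pPrimeCore p G))
      (QuotientGroup.mk'_surjective _)
    rwa [Subgroup.map_sup, QuotientGroup.map_mk'_self, bot_sup_eq] at h1
  have hPO : P ⊓ Cfsg.pPrimeCore p G = ⊥ :=
    Cfsg.Agent.Lib.Helper5_PPrime.inf_eq_bot_of_pGroup_of_coprime hP hOcop
  have hb := hsb.2.2 (A.map (QuotientGroup.mk' (Cfsg.pPrimeCore p G)))
    (P.map (QuotientGroup.mk' (Cfsg.pPrimeCore p G))) (hA.map _) (hP.map _)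
    (by
      rintro _ ⟨a, ha, rfl⟩ _ ⟨x, hx, rfl⟩
      exact ⟨a * x * a⁻¹, hnorm a ha x hx, by simp⟩)
    (by
      rw [Cfsg.Agent.S0630.pPrimePCore_eq_pCore h0b]
      exact le_pCore _ hPbN (hP.map _))
    (by
      rw [h0b, bot_sup_eq]; exact hPbN)
    (by
      rw [← Subgroup.map_commutator, ← Subgroup.map_commutator, hquad, Subgroup.map_bot])
  have hmemN : ∀ n : ↥(Subgroup.normalizer (P : Set G)),
      ((QuotientGroup.mk' (Cfsg.pPrimeCore p G)).comp (Subgroup.normalizer (P : Set G)).subtype) n ∈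
        Subgroup.normalizer ((P.map (QuotientGroup.mk' (Cfsg.pPrimeCore p G)) :
          Subgroup (G ⧸ Cfsg.pPrimeCore p G)) : Set (G ⧸ Cfsg.pPrimeCore p G)) := by
    intro n
    have hn' := Subgroup.inv_mem _ n.2
    apply mem_normalizer_of_conj_mem
    · rintro _ ⟨x, hx, rfl⟩
      exact ⟨(n : G) * x * (n : G)⁻¹, (Subgroup.mem_normalizer_iff.1 n.2 x).1 hx, by simp⟩
    · rintro _ ⟨x, hx, rfl⟩
      have h1 := (Subgroup.mem_normalizer_iff.1 hn' x).1 hx
      rw [inv_inv] at h1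
      exact ⟨(n : G)⁻¹ * x * (n : G), h1, by simp⟩
  let φ : ↥(Subgroup.normalizer (P : Set G)) →*
      ↥(Subgroup.normalizer ((P.map (QuotientGroup.mk' (Cfsg.pPrimeCore p G)) :
          Subgroup (G ⧸ Cfsg.pPrimeCore p G)) : Set (G ⧸ Cfsg.pPrimeCore p G))) :=
    ((QuotientGroup.mk' (Cfsg.pPrimeCore p G)).comp
      (Subgroup.normalizer (P : Set G)).subtype).codRestrict _ hmemN
  have hφ : ∀ n : ↥(Subgroup.normalizer (P : Set G)),
      ((φ n : G ⧸ Cfsg.pPrimeCore p G)) = QuotientGroup.mk' (Cfsg.pPrimeCore p G) (n : G) :=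
    fun n => rfl
  have hker : (Subgroup.centralizer (P : Set G)).subgroupOf (Subgroup.normalizer (P : Set G)) ≤
      ((Subgroup.centralizer ((P.map (QuotientGroup.mk' (Cfsg.pPrimeCore p G)) :
          Subgroup (G ⧸ Cfsg.pPrimeCore p G)) : Set (G ⧸ Cfsg.pPrimeCore p G))).subgroupOf
        (Subgroup.normalizer ((P.map (QuotientGroup.mk' (Cfsg.pPrimeCore p G)) :
          Subgroup (G ⧸ Cfsg.pPrimeCore p G)) : Set (G ⧸ Cfsg.pPrimeCore p G)))).comap φ := by
    intro c hc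
    rw [Subgroup.mem_comap, Subgroup.mem_subgroupOf, hφ]
    show _ ∈ Subgroup.centralizer _
    rw [Subgroup.mem_centralizer_iff]
    rintro _ ⟨x, hx, rfl⟩
    have h1 := Subgroup.mem_centralizer_iff.1 (Subgroup.mem_subgroupOf.1 hc) x hx
    rw [← map_mul, ← map_mul, h1]
  let ψ := QuotientGroup.map _ _ φ hker
  have hinj : Function.Injective ψ := by
    rw [injective_iff_map_eq_one]
    intro q hq
    obtain ⟨n, rfl⟩ := QuotientGroup.mk_surjective q
    have h1 : (QuotientGroup.mk (φ n) : _ ⧸ ((Subgroup.centralizer ((P.map (QuotientGroup.mk' (Cfsg.pPrimeCore p G)) :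
          Subgroup (G ⧸ Cfsg.pPrimeCore p G)) : Set (G ⧸ Cfsg.pPrimeCore p G))).subgroupOf
        (Subgroup.normalizer ((P.map (QuotientGroup.mk' (Cfsg.pPrimeCore p G)) :
          Subgroup (G ⧸ Cfsg.pPrimeCore p G)) : Set (G ⧸ Cfsg.pPrimeCore p G))))) = 1 := hq
    have h2 := Subgroup.mem_subgroupOf.1 ((QuotientGroup.eq_one_iff _).1 h1)
    rw [hφ] at h2
    apply (QuotientGroup.eq_one_iff n).2
    rw [Subgroup.mem_subgroupOf]
    show _ ∈ Subgroup.centralizer _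
    rw [Subgroup.mem_centralizer_iff]
    intro x hx
    have h3 := Subgroup.mem_centralizer_iff.1 h2 _ ⟨x, hx, rfl⟩
    rw [← map_mul, ← map_mul] at h3
    have h4 : (x * (n : G))⁻¹ * ((n : G) * x) ∈ Cfsg.pPrimeCore p G := QuotientGroup.eq.1 h3
    have h5 : (x * (n : G))⁻¹ * ((n : G) * x) ∈ P := by
      have h6 := (Subgroup.mem_normalizer_iff.1 (Subgroup.inv_mem _ n.2) x).1 hx
      rw [inv_inv] at h6
      have e : (x * (n : G))⁻¹ * ((n : G) * x) = ((n : G)⁻¹ * x * (n : G))⁻¹ * x := by group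
      rw [e]
      exact Subgroup.mul_mem _ (Subgroup.inv_mem _ h6) hx
    have h7 : (x * (n : G))⁻¹ * ((n : G) * x) ∈ P ⊓ Cfsg.pPrimeCore p G := ⟨h5, h4⟩
    rw [hPO, Subgroup.mem_bot] at h7
    exact (inv_mul_eq_one.1 h7)
  rintro _ ⟨a, ha, rfl⟩
  apply mem_pCore_of_injective ψ hinj
  apply hb
  refine ⟨φ a, Subgroup.mem_subgroupOf.2 ?_, rfl⟩
  rw [hφ]
  exact ⟨(a : G), Subgroup.mem_subgroupOf.1 ha, rfl⟩

end


/-- For a group with a nontrivial normal p-subgroup, p-stability passes to and from the quotient by the largest normal subgroup of order prime to p. -/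
theorem result {G : Type*} [Group G] [Finite G] {p : ℕ} [Fact p.Prime] (hO : Cfsg.pCore p G ≠ ⊥) : Cfsg.IsPStable p G ↔ Cfsg.IsPStable p (G ⧸ Cfsg.pPrimeCore p G) := by
  exact ⟨forward hO, backward hO⟩

end Cfsg.Agent.S0632
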