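import Cfsg.Statements.S0635
import Mathlib
import Cfsg.Agent.S0634

set_option autoImplicit false
open Cfsg

namespace Cfsg.Agent.S0635

open scoped commutatorElement

theorem upper_even_le_odd {G : Type*} [Group G] (p k : ℕ) :
    (Cfsg.upperPSeries p G (2 * k)).1 ≤ (Cfsg.upperPSeries p G (2 * k + 1)).1 := by
  rw [Cfsg.Agent.S0634.upper_odd p k]
  exact Cfsg.Agent.Lib.Lead_Hall.le_comap_mk _ _

theorem upper_odd_le_even {G : Type*} [Group G] (p k : ℕ) :
    (Cfsg.upperPSeries p G (2 * k + 1)).1 ≤ (Cfsg.upperPSeries p G (2 * k + 2)).1 := by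
  rw [Cfsg.Agent.S0634.upper_even p k]
  exact Cfsg.Agent.Lib.Lead_Hall.le_comap_mk _ _

/-- the `k`-th term of the upper central series of a Sylow `p`-subgroup lies in the `2k`-th term of
the upper `p`-series -/
theorem upperCentral_le {G : Type*} [Group G] [Finite G] {p : ℕ} [Fact p.Prime]
    (hsol : Cfsg.IsPSolvable p G) (S : Sylow p G) : ∀ k : ℕ,
    (Subgroup.upperCentralSeries ↥(S : Subgroup G) k).map (S : Subgroup G).subtype ≤
      (Cfsg.upperPSeries p G (2 * k)).1 := by
  intro k
  induction k with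
  | zero =>
    rw [Subgroup.upperCentralSeries_zero, Subgroup.map_bot]
    exact bot_le
  | succ k ih =>
    rintro _ ⟨x, hx, rfl⟩
    set W : Subgroup G := (Cfsg.upperPSeries p G (2 * k + 1)).1 with hW
    have hxy : ∀ y : ↥(S : Subgroup G), ⁅(x : G), (y : G)⁆ ∈ W := by
      intro y
      have h1 : ⁅x, y⁆ ∈ Subgroup.upperCentralSeries ↥(S : Subgroup G) k :=
        Subgroup.mem_upperCentralSeries_succ_iff.mp hx y
      have h2 : (S : Subgroup G).subtype ⁅x, y⁆ ∈ (Cfsg.upperPSeries p G (2 * k)).1 :=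
        ih (Subgroup.mem_map_of_mem _ h1)
      have h3 : (S : Subgroup G).subtype ⁅x, y⁆ = ⁅(x : G), (y : G)⁆ := by
        rw [map_commutatorElement]; rfl
      rw [h3] at h2
      exact upper_even_le_odd p k h2
    -- the image of `x` in `G / W` centralizes the image of `S`, hence `O_p(G / W)`
    have hsurj : Function.Surjective (QuotientGroup.mk' W) := QuotientGroup.mk'_surjective W
    have hmap : (Cfsg.upperPSeries p G (2 * k + 2)).1.map (QuotientGroup.mk' W) =
        Cfsg.pCore p (G ⧸ W) := by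
      rw [Cfsg.Agent.S0634.upper_even p k]
      exact Subgroup.map_comap_eq_self_of_surjective hsurj _
    have hPS : Cfsg.pCore p (G ⧸ W) ≤ (S : Subgroup G).map (QuotientGroup.mk' W) := by
      have := Cfsg.Agent.Lib.Helper7_PCore.pCore_le_sylow (S.mapSurjective hsurj)
      rwa [Sylow.coe_mapSurjective] at this
    have hcent : (QuotientGroup.mk' W) (x : G) ∈
        Subgroup.centralizer ((((Cfsg.upperPSeries p G (2 * k + 2)).1.map
          (QuotientGroup.mk' W)) : Subgroup (G ⧸ W)) : Set (G ⧸ W)) := by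
      rw [hmap, Subgroup.mem_centralizer_iff]
      intro yb hyb
      obtain ⟨y, hy, rfl⟩ := hPS hyb
      have h1 := hxy ⟨y, hy⟩
      have h2 : (QuotientGroup.mk' W) ⁅(x : G), y⁆ = 1 := by
        have : ⁅(x : G), y⁆ ∈ (QuotientGroup.mk' W).ker := by
          rw [QuotientGroup.ker_mk']; exact h1
        exact this
      rw [map_commutatorElement, commutatorElement_eq_one_iff_mul_comm] at h2
      exact h2.symm
    have h4 := Cfsg.Agent.S0634.result hsol k hcent
    obtain ⟨u, hu, hux⟩ := h4
    have h5 : u⁻¹ * (x : G) ∈ W := by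
      rw [← QuotientGroup.ker_mk' W, MonoidHom.mem_ker, map_mul, map_inv, hux]
      group
    have h6 : (x : G) = u * (u⁻¹ * (x : G)) := by group
    show (x : G) ∈ (Cfsg.upperPSeries p G (2 * (k + 1))).1
    rw [h6]
    have h7 : 2 * (k + 1) = 2 * k + 2 := by ring
    rw [h7]
    exact Subgroup.mul_mem _ hu (upper_odd_le_even p k h5)

/-- The p-length of a p-soluble group is at most the nilpotency class of its Sylow p-subgroups. -/
theorem result {G : Type*} [Group G] [Finite G] {p : ℕ} [Fact p.Prime] (hsol : Cfsg.IsPSolvable p G) (S : Sylow p G) : Cfsg.PLengthLE p (Group.nilpotencyClass ↥(S : Subgroup G)) G := by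
  have hpp := (Fact.out : p.Prime)
  unfold Cfsg.PLengthLE
  set c := Group.nilpotencyClass ↥(S : Subgroup G) with hc
  set V : Subgroup G := (Cfsg.upperPSeries p G (2 * c)).1 with hV
  have hSV : (S : Subgroup G) ≤ V := by
    have : Group.IsNilpotent ↥(S : Subgroup G) := S.isPGroup'.isNilpotent
    have h1 := upperCentral_le hsol S c
    rw [hc, Subgroup.upperCentralSeries_nilpotencyClass, ← MonoidHom.range_eq_map,
      Subgroup.range_subtype] at h1
    exact h1
  rw [Cfsg.Agent.S0634.upper_odd p c]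
  have htop : Cfsg.pPrimeCore p (G ⧸ V) = ⊤ := by
    rw [eq_top_iff]
    apply Cfsg.Agent.Lib.Helper5_PPrime.le_pPrimeCore
    rw [Subgroup.card_top, ← Subgroup.index_eq_card]
    have h1 : V.index ∣ (S : Subgroup G).index := Subgroup.index_dvd_of_le hSV
    have h2 : ¬ p ∣ (S : Subgroup G).index := S.not_dvd_index
    have h3 : ¬ p ∣ V.index := fun h => h2 (h.trans h1)
    exact (Nat.Coprime.symm ((Nat.Prime.coprime_iff_not_dvd hpp).mpr h3))
  rw [htop, Subgroup.comap_top]

end Cfsg.Agent.S0635
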