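import Cfsg.Statements.S0636
import Mathlib
import Cfsg.Agent.S0127
import Cfsg.Agent.Lib.Helper2_Nilpotent
import Cfsg.Agent.Lib.Helper4_Kieler0
import Cfsg.Agent.Lib.Helper6_PNormal
import Cfsg.Agent.Lib.Helper7_PGroupRank
import Cfsg.Agent.Lib.Lead_Hall

set_option autoImplicit false
open Cfsg

namespace Cfsg.Agent.S0636

open Cfsg.Agent.Lib.Helper6_PNormal
open scoped commutatorElement

/-- a normal subgroup `S` of a finite nilpotent group contains a normal abelian subgroup `C` of the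
whole group which is self-centralizing in `S`. -/
theorem exists_self_centralizing_in {R : Type*} [Group R] [Finite R] [Group.IsNilpotent R]
    (S : Subgroup R) [S.Normal] :
    ∃ C : Subgroup R, C.Normal ∧ C ≤ S ∧ Subgroup.centralizer (C : Set R) ⊓ S = C := by
  set 𝒦 : Set (Subgroup R) :=
    {C | C.Normal ∧ C ≤ S ∧ C ≤ Subgroup.centralizer (C : Set R)} with h𝒦
  have hbot : (⊥ : Subgroup R) ∈ 𝒦 := ⟨inferInstance, bot_le, bot_le⟩
  obtain ⟨C, -, hCmax⟩ := (Set.toFinite 𝒦).exists_le_maximal hbot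
  obtain ⟨hCn, hCS, hCab⟩ := hCmax.1
  refine ⟨C, hCn, hCS, le_antisymm ?_ (le_inf hCab hCS)⟩
  by_contra hcon
  have hDn : (Subgroup.centralizer (C : Set R) ⊓ S).Normal := inferInstance
  obtain ⟨x, hxD, hxC, hx⟩ :=
    Cfsg.Agent.Lib.Helper2_Nilpotent.exists_mem_not_mem_commutator_mem
      (Subgroup.centralizer (C : Set R) ⊓ S) C hcon
  set E := C ⊔ Subgroup.zpowers x with hE
  have hCE : C ≤ E := le_sup_left
  have hxE : x ∈ E := (le_sup_right : Subgroup.zpowers x ≤ E) (Subgroup.mem_zpowers x)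
  have hES : E ≤ S := sup_le hCS (Subgroup.zpowers_le.mpr hxD.2)
  have hEn : E.Normal := by
    constructor
    intro e he g
    have hle : E ≤ E.comap (MulAut.conj g).toMonoidHom := by
      rw [hE]
      apply sup_le
      · intro c hc
        rw [Subgroup.mem_comap]
        show g * c * g⁻¹ ∈ _
        exact hCE (hCn.conj_mem c hc g)
      · rw [Subgroup.zpowers_le, Subgroup.mem_comap]
        show g * x * g⁻¹ ∈ _
        have h1 : ⁅x, g⁆ ∈ C := hx g
        have h2 : g * x * g⁻¹ = (⁅x, g⁆)⁻¹ * x := by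
          rw [commutatorElement_def]; group
        rw [h2]
        exact E.mul_mem (E.inv_mem (hCE h1)) hxE
    exact hle he
  have hEab : E ≤ Subgroup.centralizer (E : Set R) := by
    have hcomm := Cfsg.Agent.Lib.Helper2_Nilpotent.sup_commute C (Subgroup.zpowers x)
      (by
        intro a ha b hb
        have := Subgroup.mem_centralizer_iff.mp (hCab hb) a ha
        exact this)
      (by
        intro a ha b hb
        obtain ⟨i, rfl⟩ := Subgroup.mem_zpowers_iff.mp ha
        obtain ⟨j, rfl⟩ := Subgroup.mem_zpowers_iff.mp hb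
        rw [← zpow_add, ← zpow_add, add_comm])
      (by
        intro a ha b hb
        obtain ⟨j, rfl⟩ := Subgroup.mem_zpowers_iff.mp hb
        have h1 : a * x = x * a := Subgroup.mem_centralizer_iff.mp hxD.1 a ha
        have : Commute a x := h1
        exact (this.zpow_right j).eq)
    intro e he
    rw [Subgroup.mem_centralizer_iff]
    intro e' he'
    exact hcomm e' he' e he
  have hE𝒦 : E ∈ 𝒦 := ⟨hEn, hES, hEab⟩
  have := hCmax.2 hE𝒦 hCE
  exact hxC (this hxE)

/-- For odd p, every non-cyclic normal subgroup of a p-group contains a normal elementary abelian subgroup of order p^2. -/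
theorem result {R : Type*} [Group R] [Finite R] {p : ℕ} [Fact p.Prime] (hp : p ≠ 2) (hR : IsPGroup p R) (S : Subgroup R) [S.Normal] (hS : ¬ IsCyclic S) : ∃ A : Subgroup R, A ≤ S ∧ A.Normal ∧ Cfsg.IsElementaryAbelian p A ∧ Nat.card A = p ^ 2 := by
  classical
  have hpp := (Fact.out : p.Prime)
  have hnil : Group.IsNilpotent R := hR.isNilpotent
  obtain ⟨A₀, hA₀n, hA₀S, hCA⟩ := exists_self_centralizing_in (R := R) S
  have hA₀ab : ∀ a ∈ A₀, ∀ b ∈ A₀, a * b = b * a := by
    intro a ha b hb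
    have h1 : a ∈ Subgroup.centralizer (A₀ : Set R) ⊓ S := by rw [hCA]; exact ha
    exact (Subgroup.mem_centralizer_iff.mp h1.1 b hb).symm
  by_cases hcyc : IsCyclic A₀
  · -- A₀ cyclic
    have hA₀S' : A₀ ≠ S := by
      intro h
      apply hS
      rw [← h]; exact hcyc
    have hQp : IsPGroup p (R ⧸ A₀) := hR.to_quotient A₀
    have hQnil : Group.IsNilpotent (R ⧸ A₀) := hQp.isNilpotent
    set Sb : Subgroup (R ⧸ A₀) := S.map (QuotientGroup.mk' A₀) with hSb
    have hSbn : Sb.Normal :=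
      Subgroup.Normal.map inferInstance _ (QuotientGroup.mk'_surjective A₀)
    have hSbne : Sb ≠ ⊥ := by
      intro h
      apply hA₀S'
      apply le_antisymm hA₀S
      intro s hs
      have h1 : (QuotientGroup.mk' A₀) s ∈ Sb := Subgroup.mem_map_of_mem _ hs
      rw [h, Subgroup.mem_bot] at h1
      have h2 : s ∈ (QuotientGroup.mk' A₀).ker := h1
      rwa [QuotientGroup.ker_mk'] at h2
    obtain ⟨a, haS, haZ, ha1⟩ :=
      Cfsg.Agent.Lib.Helper4_Kieler0.normal_inf_center_ne_bot' Sb hSbne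
    -- an element of order p
    obtain ⟨k, hk⟩ := hQp a
    have hoa : orderOf a ∣ p ^ k := orderOf_dvd_of_pow_eq_one hk
    obtain ⟨j, hjk, hj⟩ := (Nat.dvd_prime_pow hpp).mp hoa
    have hj0 : j ≠ 0 := by
      intro h
      rw [h, pow_zero, orderOf_eq_one_iff] at hj
      exact ha1 hj
    set zb : R ⧸ A₀ := a ^ (p ^ (j - 1)) with hzb
    have hozb : orderOf zb = p := by
      rw [hzb, orderOf_pow_of_dvd (pow_ne_zero _ hpp.ne_zero)
        (by rw [hj]; exact pow_dvd_pow p (by omega)), hj]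
      have : p ^ j = p ^ (j - 1) * p := by
        rw [← pow_succ]; congr 1; omega
      rw [this, Nat.mul_div_cancel_left _ (pow_pos hpp.pos _)]
    have hzbS : zb ∈ Sb := Sb.pow_mem haS _
    have hzbc : zb ∈ Subgroup.center (R ⧸ A₀) := (Subgroup.center (R ⧸ A₀)).pow_mem haZ _
    set Bb : Subgroup (R ⧸ A₀) := Subgroup.zpowers zb with hBb
    have hBbcard : Nat.card Bb = p := by rw [hBb, Nat.card_zpowers, hozb]
    have hBbn : Bb.Normal := by
      have hle : Bb ≤ Subgroup.center (R ⧸ A₀) := by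
        rw [hBb, Subgroup.zpowers_le]; exact hzbc
      refine ⟨fun n hn g => ?_⟩
      have := Subgroup.mem_center_iff.mp (hle hn) g
      have h1 : g * n * g⁻¹ = n := by rw [this]; group
      rw [h1]; exact hn
    set B : Subgroup R := Bb.comap (QuotientGroup.mk' A₀) with hB
    have hBn : B.Normal := hBbn.comap _
    have hA₀B : A₀ ≤ B := Cfsg.Agent.Lib.Lead_Hall.le_comap_mk A₀ Bb
    have hBS : B ≤ S := by
      intro b hb
      have h1 : (QuotientGroup.mk' A₀) b ∈ Bb := hb
      have h2 : (QuotientGroup.mk' A₀) b ∈ Sb :=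
        (Subgroup.zpowers_le.mpr hzbS : Bb ≤ Sb) h1
      obtain ⟨s, hs, hsb⟩ := h2
      have h3 : s⁻¹ * b ∈ A₀ := by
        rw [← QuotientGroup.ker_mk' A₀, MonoidHom.mem_ker, map_mul, map_inv, hsb]
        group
      have h4 : b = s * (s⁻¹ * b) := by group
      rw [h4]
      exact S.mul_mem hs (hA₀S h3)
    have hBcard : Nat.card B = p * Nat.card A₀ := by
      rw [hB, Cfsg.Agent.Lib.Lead_Hall.card_comap_mk, hBbcard]
    have hCi : (A₀.subgroupOf B).index = p := by
      have h1 := Subgroup.card_mul_index (A₀.subgroupOf B)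
      rw [Nat.card_congr (Subgroup.subgroupOfEquivOfLe hA₀B).toEquiv, hBcard, mul_comm] at h1
      exact Nat.eq_of_mul_eq_mul_right Nat.card_pos h1
    have hCcyc : IsCyclic (A₀.subgroupOf B) :=
      isCyclic_of_surjective (Subgroup.subgroupOfEquivOfLe hA₀B).symm.toMonoidHom
        (Subgroup.subgroupOfEquivOfLe hA₀B).symm.surjective
    have hncB : ¬ IsCyclic B := by
      intro hBc
      have hBle : B ≤ A₀ := by
        rw [← hCA]
        intro b hb
        refine Subgroup.mem_inf.mpr ⟨?_, hBS hb⟩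
        rw [Subgroup.mem_centralizer_iff]
        intro a ha
        have := (IsCyclic.isMulCommutative (α := B)).is_comm.comm ⟨a, hA₀B ha⟩ ⟨b, hb⟩
        exact congrArg Subtype.val this
      have h1 := Subgroup.card_le_of_le hBle
      rw [hBcard] at h1
      have h2 : 0 < Nat.card A₀ := Nat.card_pos
      have h3 : 2 * Nat.card A₀ ≤ p * Nat.card A₀ := Nat.mul_le_mul_right _ hpp.two_le
      omega
    obtain ⟨hEea, hEcard⟩ := Cfsg.Agent.S0127.result (R := B) hp (hR.to_subgroup B) hncB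
      (A₀.subgroupOf B) hCcyc hCi
    set E' : Subgroup B := Subgroup.closure {x : B | x ^ p = 1} with hE'
    set E : Subgroup R := E'.map B.subtype with hE
    refine ⟨E, ?_, ?_, ⟨⟨⟨?_⟩⟩, ?_⟩, ?_⟩
    · rw [hE]
      exact (Subgroup.map_subtype_le E').trans hBS
    · -- normal
      have hEcl : E = Subgroup.closure {y : R | y ∈ B ∧ y ^ p = 1} := by
        rw [hE, hE', MonoidHom.map_closure]
        congr 1
        ext y
        constructor
        · rintro ⟨x, hx, rfl⟩
          refine ⟨x.2, ?_⟩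
          have : x ^ p = 1 := hx
          exact congrArg (fun c : B => (c : R)) this
        · rintro ⟨hyB, hyp⟩
          exact ⟨⟨y, hyB⟩, Subtype.ext hyp, rfl⟩
      rw [hEcl]
      apply closure_normal_of_conj_mem
      rintro g s ⟨hsB, hsp⟩
      exact ⟨hBn.conj_mem s hsB g, by rw [conj_pow, hsp]; group⟩
    · rintro ⟨_, a, ha, rfl⟩ ⟨_, b, hb, rfl⟩
      apply Subtype.ext
      show B.subtype a * B.subtype b = B.subtype b * B.subtype a
      rw [← map_mul, ← map_mul]
      have := hEea.1.is_comm.comm ⟨a, ha⟩ ⟨b, hb⟩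
      have h2 : a * b = b * a := congrArg Subtype.val this
      rw [h2]
    · rintro _ ⟨a, ha, rfl⟩
      rw [← map_pow, hEea.2 a ha, map_one]
    · rw [hE, Subgroup.card_map_of_injective B.subtype_injective, hEcard]
  · -- A₀ noncyclic: Ω₁(A₀)
    let Ω : Subgroup R :=
      { carrier := {a | a ∈ A₀ ∧ a ^ p = 1}
        mul_mem' := by
          rintro a b ⟨ha, hap⟩ ⟨hb, hbp⟩
          refine ⟨A₀.mul_mem ha hb, ?_⟩
          rw [(show Commute a b from hA₀ab a ha b hb).mul_pow, hap, hbp, one_mul]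
        one_mem' := ⟨A₀.one_mem, one_pow p⟩
        inv_mem' := by
          rintro a ⟨ha, hap⟩
          exact ⟨A₀.inv_mem ha, by rw [inv_pow, hap, inv_one]⟩ }
    have hΩmem : ∀ a : R, a ∈ Ω ↔ a ∈ A₀ ∧ a ^ p = 1 := fun a => Iff.rfl
    have hΩn : Ω.Normal := by
      refine ⟨fun n hn g => ?_⟩
      rw [hΩmem] at hn ⊢
      exact ⟨hA₀n.conj_mem n hn.1 g, by rw [conj_pow, hn.2]; group⟩
    have hΩp : IsPGroup p Ω := hR.to_subgroup Ω
    have hdvd : p ^ 2 ∣ Nat.card Ω := by
      obtain ⟨k, hk⟩ := hΩp.exists_card_eq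
      rw [hk]
      apply pow_dvd_pow
      by_contra hlt
      have hk1 : k ≤ 1 := by omega
      have hΩle : Nat.card Ω ≤ p := by
        rw [hk]
        calc p ^ k ≤ p ^ 1 := Nat.pow_le_pow_right hpp.pos hk1
          _ = p := pow_one p
      have hR' : ∀ x u : A₀, x * u = u * x → x ^ p = 1 → u ^ p = 1 → x ≠ 1 →
          u ∈ Subgroup.zpowers x := by
        intro x u _ hx hu hx1
        have hx' : (x : R) ^ p = 1 := congrArg (fun c : A₀ => (c : R)) hx
        have hu' : (u : R) ^ p = 1 := congrArg (fun c : A₀ => (c : R)) hu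
        have hx1' : (x : R) ≠ 1 := fun h => hx1 (Subtype.ext h)
        have hox : orderOf (x : R) = p := orderOf_eq_prime hx' hx1'
        have hle : Subgroup.zpowers (x : R) ≤ Ω := by
          rw [Subgroup.zpowers_le]; exact ⟨x.2, hx'⟩
        have heq : Subgroup.zpowers (x : R) = Ω :=
          Subgroup.eq_of_le_of_card_ge hle (by rw [Nat.card_zpowers, hox]; exact hΩle)
        have hu2 : (u : R) ∈ Subgroup.zpowers (x : R) := by rw [heq]; exact ⟨u.2, hu'⟩
        obtain ⟨j, hj⟩ := Subgroup.mem_zpowers_iff.mp hu2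
        rw [Subgroup.mem_zpowers_iff]
        exact ⟨j, Subtype.ext (by simpa using hj)⟩
      rcases Cfsg.Agent.Lib.Helper7_PGroupRank.cyclic_or_quaternion_like (hR.to_subgroup A₀) hR' with h | ⟨h, -⟩
      · exact hcyc h
      · exact hp h
    obtain ⟨K, hKΩ, hKn, hKc⟩ := exists_normal_le_of_pow_dvd hR Ω 2 hdvd
    refine ⟨K, ?_, hKn, ⟨⟨⟨?_⟩⟩, ?_⟩, hKc⟩
    · exact fun x hx => hA₀S (hKΩ hx).1
    · rintro ⟨a, ha⟩ ⟨b, hb⟩
      apply Subtype.ext
      exact hA₀ab a (hKΩ ha).1 b (hKΩ hb).1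
    · intro a ha
      exact (hKΩ ha).2

end Cfsg.Agent.S0636
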