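import Cfsg.Statements.S0638
import Mathlib
import Cfsg.Agent.S0126
import Cfsg.Agent.S0127

set_option autoImplicit false
open Cfsg

namespace Cfsg.Agent.S0638

universe u

/-- subgroups of metacyclic groups are metacyclic -/
theorem metacyclic_subgroup {R : Type u} [Group R] (h : Cfsg.IsMetacyclic R) (K : Subgroup R) :
    Cfsg.IsMetacyclic K := by
  obtain ⟨N, hN, hNc, hQc⟩ := h
  refine ⟨N.subgroupOf K, inferInstance, ?_, ?_⟩
  · let f : N.subgroupOf K →* N :=
      MonoidHom.codRestrict ((K.subtype).comp (N.subgroupOf K).subtype) N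
        (fun x => Subgroup.mem_subgroupOf.mp x.2)
    have hf : Function.Injective f := by
      intro x y hxy
      have h1 : ((x : K) : R) = ((y : K) : R) := congrArg (fun z : N => (z : R)) hxy
      exact Subtype.ext (Subtype.ext h1)
    exact isCyclic_of_injective f hf
  · let f : K ⧸ N.subgroupOf K →* R ⧸ N :=
      QuotientGroup.map (N.subgroupOf K) N K.subtype (le_refl _)
    have hf : Function.Injective f := by
      rw [injective_iff_map_eq_one]
      intro x
      induction x using QuotientGroup.induction_on with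
      | H k =>
        intro hk
        have h1 : ((k : R) : R ⧸ N) = 1 := hk
        rw [QuotientGroup.eq_one_iff] at h1
        rw [QuotientGroup.eq_one_iff]
        exact Subgroup.mem_subgroupOf.mpr h1
    exact isCyclic_of_injective f hf

/-- a group generated by elements of order dividing `p` has only cyclic quotients of order
dividing `p`. -/
theorem index_dvd_of_gen {K : Type*} [Group K] [Finite K] (p : ℕ)
    (hgen : Subgroup.closure {x : K | x ^ p = 1} = ⊤) (N : Subgroup K) [N.Normal]
    (hc : IsCyclic (K ⧸ N)) : N.index ∣ p := by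
  obtain ⟨g, hg⟩ := hc.exists_generator
  have hcomm : ∀ a b : K ⧸ N, a * b = b * a := by
    intro a b
    obtain ⟨i, rfl⟩ := Subgroup.mem_zpowers_iff.mp (hg a)
    obtain ⟨j, rfl⟩ := Subgroup.mem_zpowers_iff.mp (hg b)
    rw [← zpow_add, ← zpow_add, add_comm]
  have hall : ∀ k : K, ((k : K ⧸ N)) ^ p = 1 := by
    intro k
    have hk : k ∈ Subgroup.closure {x : K | x ^ p = 1} := by rw [hgen]; trivial
    induction hk using Subgroup.closure_induction with
    | mem x hx =>
      have hx' : x ^ p = 1 := hx
      rw [← QuotientGroup.mk_pow, hx']; rfl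
    | one => rw [QuotientGroup.mk_one, one_pow]
    | mul x y _ _ hx hy =>
      rw [QuotientGroup.mk_mul, (show Commute (x : K ⧸ N) (y : K ⧸ N) from hcomm _ _).mul_pow,
        hx, hy, one_mul]
    | inv x _ hx =>
      rw [QuotientGroup.mk_inv, inv_pow, hx, inv_one]
  have hgp : g ^ p = 1 := by
    induction g using QuotientGroup.induction_on with
    | H k => exact hall k
  rw [Subgroup.index_eq_card, ← orderOf_eq_card_of_forall_mem_zpowers hg]
  exact orderOf_dvd_of_pow_eq_one hgp

/-- For odd p, a non-cyclic metacyclic p-group R has Omega_1(R) elementary abelian of order p^2. -/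
theorem result {R : Type*} [Group R] [Finite R] {p : ℕ} [Fact p.Prime] (hp : p ≠ 2) (hR : IsPGroup p R) (hm : Cfsg.IsMetacyclic R) (hnc : ¬ IsCyclic R) : Cfsg.IsElementaryAbelian p (Cfsg.omegaOne p (⊤ : Subgroup R)) ∧ Nat.card ↥(Cfsg.omegaOne p (⊤ : Subgroup R)) = p ^ 2 := by
  classical
  have hpp := (Fact.out : p.Prime)
  set K : Subgroup R := Cfsg.omegaOne p (⊤ : Subgroup R) with hK
  have hKmem : ∀ x : R, x ^ p = 1 → x ∈ K := by
    intro x hx
    exact Subgroup.subset_closure ⟨Subgroup.mem_top x, hx⟩
  have hgenK : Subgroup.closure {y : K | y ^ p = 1} = ⊤ := by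
    apply Subgroup.map_injective K.subtype_injective
    rw [MonoidHom.map_closure, ← MonoidHom.range_eq_map, Subgroup.range_subtype]
    have : (K.subtype '' {y : K | y ^ p = 1}) = {x : R | x ∈ (⊤ : Subgroup R) ∧ x ^ p = 1} := by
      ext x
      constructor
      · rintro ⟨y, hy, rfl⟩
        have hy' : y ^ p = 1 := hy
        exact ⟨Subgroup.mem_top _, congrArg (fun c : K => (c : R)) hy'⟩
      · rintro ⟨-, hx⟩
        exact ⟨⟨x, hKmem x hx⟩, Subtype.ext hx, rfl⟩
    rw [this]
    rfl
  obtain ⟨N, hNn, hNc, hQc⟩ := metacyclic_subgroup hm K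
  by_cases hKc : IsCyclic K
  · exfalso
    obtain ⟨E, hEn, hEea, hEcard⟩ := Cfsg.Agent.S0126.result hp hR hnc
    have hEK : E ≤ K := fun e he => hKmem e (hEea.2 e he)
    have hEc : IsCyclic E :=
      isCyclic_of_injective (Subgroup.inclusion hEK) (Subgroup.inclusion_injective hEK)
    obtain ⟨e, he⟩ := hEc.exists_generator
    have h1 : orderOf e = p ^ 2 := by
      rw [orderOf_eq_card_of_forall_mem_zpowers he, hEcard]
    have h2 : e ^ p = 1 := Subtype.ext (hEea.2 e e.2)
    have h3 : p ^ 2 ∣ p := by
      rw [← h1]; exact orderOf_dvd_of_pow_eq_one h2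
    have h4 : p ^ 2 ≤ p := Nat.le_of_dvd hpp.pos h3
    have h5 : p * 2 ≤ p * p := Nat.mul_le_mul_left _ hpp.two_le
    have h6 : 0 < p := hpp.pos
    nlinarith
  · have hidx : N.index ∣ p := index_dvd_of_gen p hgenK N hQc
    rcases (Nat.dvd_prime hpp).mp hidx with h1 | h1
    · exfalso
      apply hKc
      rw [Subgroup.index_eq_one] at h1
      have : IsCyclic (⊤ : Subgroup K) := h1 ▸ hNc
      exact isCyclic_of_surjective (Subgroup.topEquiv (G := K)).toMonoidHom
        (Subgroup.topEquiv (G := K)).surjective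
    · obtain ⟨hea, hcard⟩ := Cfsg.Agent.S0127.result (R := K) hp (hR.to_subgroup K) hKc N hNc h1
      rw [hgenK] at hea hcard
      rw [Subgroup.card_top] at hcard
      refine ⟨⟨⟨⟨?_⟩⟩, ?_⟩, hcard⟩
      · intro a b
        have := hea.1.is_comm.comm ⟨a, Subgroup.mem_top a⟩ ⟨b, Subgroup.mem_top b⟩
        exact congrArg Subtype.val this
      · intro a ha
        have := hea.2 ⟨a, ha⟩ (Subgroup.mem_top _)
        exact congrArg (fun c : K => (c : R)) this

end Cfsg.Agent.S0638
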