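import Cfsg.Statements.S0640
import Mathlib
import Cfsg.Agent.S1949
import Cfsg.Agent.Lib.Helper4_MaxNormAb3

set_option autoImplicit false
open Cfsg

namespace Cfsg.Agent.S0640

section aux
variable {R : Type*} [Group R]

/-- the fixed points of an automorphism -/
def fixSub (α : MulAut R) : Subgroup R where
  carrier := {x | α x = x}
  mul_mem' := by
    intro a b ha hb
    show α (a * b) = a * b
    rw [map_mul, ha, hb]
  one_mem' := map_one α
  inv_mem' := by
    intro a ha
    show α a⁻¹ = a⁻¹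
    rw [map_inv, ha]

theorem mem_fixSub (α : MulAut R) (x : R) : x ∈ fixSub α ↔ α x = x := Iff.rfl

/-- orbit counting for an automorphism of prime order `q` on an invariant subgroup -/
theorem card_modEq_fix [Finite R] (α : MulAut R) (q : ℕ) [Fact q.Prime] (hα : α ^ q = 1)
    (H : Subgroup R) (hH : ∀ h ∈ H, α h ∈ H) :
    Nat.card H ≡ Nat.card ↥(H ⊓ fixSub α) [MOD q] := by
  classical
  haveI : Fintype ↥H := Fintype.ofFinite _
  let f : Function.End ↥H := fun h => ⟨α h, hH h h.2⟩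
  have hfn : ∀ n : ℕ, ∀ h : ↥H, ((f ^ n) h : R) = (α ^ n) h := by
    intro n
    induction n with
    | zero => intro h; rfl
    | succ n ih =>
      intro h
      rw [pow_succ', pow_succ']
      show ((f ((f ^ n) h) : ↥H) : R) = α ((α ^ n) h)
      show α ((f ^ n) h : R) = α ((α ^ n) h)
      rw [ih h]
  have hf : f ^ q ^ 1 = 1 := by
    rw [pow_one]
    funext h
    apply Subtype.ext
    rw [hfn q h, hα]
    rfl
  have h1 := Equiv.Perm.card_fixedPoints_modEq (p := q) (n := 1) hf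
  rw [← Nat.card_eq_fintype_card, ← Nat.card_eq_fintype_card] at h1
  have h2 : Nat.card ↥(Function.fixedPoints f) = Nat.card ↥(H ⊓ fixSub α) := by
    apply Nat.card_congr
    refine ⟨fun h => ⟨(h.1 : R), Subgroup.mem_inf.2 ⟨h.1.2, ?_⟩⟩,
      fun x => ⟨⟨x.1, (Subgroup.mem_inf.1 x.2).1⟩, ?_⟩, ?_, ?_⟩
    · have := h.2
      have h3 : f h.1 = h.1 := this
      exact congrArg Subtype.val h3
    · show f ⟨x.1, _⟩ = ⟨x.1, _⟩
      apply Subtype.ext
      exact (Subgroup.mem_inf.1 x.2).2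
    · intro h; rfl
    · intro x; rfl
  rw [h2] at h1
  exact h1

theorem dvd_of_modEq_pow {p q k j : ℕ} (hp : p.Prime) (hq : q.Prime) (hqp : q ≠ p) (hjk : j < k)
    (hk : k ≤ j + 2) (h : p ^ k ≡ p ^ j [MOD q]) : q ∣ p ^ 2 - 1 := by
  have hle : p ^ j ≤ p ^ k := Nat.pow_le_pow_right hp.pos hjk.le
  have h1 : q ∣ p ^ k - p ^ j := (Nat.modEq_iff_dvd' hle).mp h.symm
  obtain ⟨d, rfl⟩ : ∃ d, k = j + d := ⟨k - j, by omega⟩
  have h2 : p ^ (j + d) - p ^ j = p ^ j * (p ^ d - 1) := by
    rw [pow_add, Nat.mul_sub, mul_one]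
  rw [h2] at h1
  have hcop : Nat.Coprime q (p ^ j) := Nat.Coprime.pow_right j ((Nat.coprime_primes hq hp).mpr hqp)
  have h3 : q ∣ p ^ d - 1 := hcop.dvd_of_dvd_mul_left h1
  have hd : d = 1 ∨ d = 2 := by omega
  rcases hd with rfl | rfl
  · rw [pow_one] at h3
    have : p ^ 2 - 1 = (p - 1) * (p + 1) := by
      obtain ⟨m, rfl⟩ : ∃ m, p = m + 1 := ⟨p - 1, by have := hp.pos; omega⟩
      simp only [Nat.add_sub_cancel]
      have : (m + 1) ^ 2 = m * (m + 1 + 1) + 1 := by ring
      rw [this, Nat.add_sub_cancel]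
    rw [this]
    exact dvd_mul_of_dvd_left h3 _
  · exact h3

theorem lt_of_dvd_sq_sub_one {p q : ℕ} (hp : p.Prime) (hp2 : p ≠ 2) (hq : q.Prime) (hqp : q ≠ p)
    (h : q ∣ p ^ 2 - 1) : q < p := by
  have hp3 : 3 ≤ p := by
    have := hp.two_le
    omega
  have e : p ^ 2 - 1 = (p - 1) * (p + 1) := by
    obtain ⟨m, rfl⟩ : ∃ m, p = m + 1 := ⟨p - 1, by omega⟩
    simp only [Nat.add_sub_cancel]
    have : (m + 1) ^ 2 = m * (m + 1 + 1) + 1 := by ring
    rw [this, Nat.add_sub_cancel]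
  rw [e] at h
  rcases (Nat.Prime.dvd_mul hq).mp h with h1 | h1
  · have := Nat.le_of_dvd (by omega) h1
    omega
  · obtain ⟨m, hm⟩ := hp.odd_of_ne_two hp2
    have e2 : p + 1 = 2 * (m + 1) := by omega
    rw [e2] at h1
    rcases (Nat.Prime.dvd_mul hq).mp h1 with h2 | h2
    · have := Nat.le_of_dvd (by norm_num) h2
      omega
    · have := Nat.le_of_dvd (by omega) h2
      omega

end aux

/-- For odd p, a prime q ≠ p dividing the order of the automorphism group of a p-group of rank at most 2 divides p² - 1 and is less than p. -/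
theorem result {R : Type*} [Group R] [Finite R] {p : ℕ} [Fact p.Prime] (hp : p ≠ 2) (hR : IsPGroup p R) (hrk : Cfsg.PRankLE p 2 R) (q : ℕ) (hq : q.Prime) (hqp : q ≠ p) (hdvd : q ∣ Nat.card (MulAut R)) : q ∣ p ^ 2 - 1 ∧ q < p := by
  classical
  have hpp : p.Prime := Fact.out
  haveI : Fact q.Prime := ⟨hq⟩
  suffices hmain : q ∣ p ^ 2 - 1 from ⟨hmain, lt_of_dvd_sq_sub_one hpp hp hq hqp hmain⟩
  obtain ⟨α, hαq⟩ := exists_prime_orderOf_dvd_card' q hdvd
  have hαpow : α ^ q = 1 := by rw [← hαq]; exact pow_orderOf_eq_one α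
  have hα1 : α ≠ 1 := by
    intro h
    rw [h, orderOf_one] at hαq
    exact hq.one_lt.ne hαq
  obtain ⟨D, hDmap, -, hDexp, -, hDtriv, -⟩ :=
    Cfsg.Agent.S1949.result hR (⊤ : Subgroup (MulAut R)) le_top
  have hcop : (orderOf α).Coprime p := by
    rw [hαq]; exact (Nat.coprime_primes hq hpp).mpr hqp
  have hDα : ∀ d ∈ D, α d ∈ D := by
    intro d hd
    have := hDmap α (Subgroup.mem_top α)
    rw [← this]
    exact ⟨d, hd, rfl⟩
  have hDe : ∀ d ∈ D, d ^ p = 1 := by
    intro d hd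
    rcases hDexp d hd with h | ⟨h, -⟩
    · exact h
    · exact absurd h hp
  have hnotfix : ¬ ∀ d ∈ D, α d = d := fun h => hα1 (hDtriv α (Subgroup.mem_top α) hcop h)
  -- |D| ≤ p^3
  have hDp : IsPGroup p ↥D := hR.to_subgroup D
  have hDcard : Nat.card ↥D ≤ p ^ 3 := by
    haveI : Nonempty {A : Subgroup ↥D // A.Normal ∧ IsMulCommutative ↥A} :=
      ⟨⟨⊥, inferInstance, ⟨⟨fun a b => Subsingleton.elim _ _⟩⟩⟩⟩
    obtain ⟨⟨A, hAn, hAab⟩, hAmax⟩ :=
      Finite.exists_max (fun A : {A : Subgroup ↥D // A.Normal ∧ IsMulCommutative ↥A} => Nat.card A.1)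
    haveI := hAn
    have hmax : ∀ B : Subgroup ↥D, B.Normal → IsMulCommutative ↥B → A ≤ B → B = A := by
      intro B hBn hBab hAB
      have h1 := hAmax ⟨B, hBn, hBab⟩
      exact (Subgroup.eq_of_le_of_card_ge hAB h1).symm
    obtain ⟨a, ha⟩ := (hDp.to_subgroup A).exists_card_eq
    have hbound := Cfsg.Agent.Lib.Helper4_MaxNormAb3.main hDp A hAab hmax a ha
    -- a ≤ 2
    have hA2 : Nat.card ↥(A.map D.subtype) ≤ p ^ 2 := by
      apply hrk
      · refine ⟨⟨fun x y => Subtype.ext ?_⟩⟩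
        obtain ⟨x', hx', hxx⟩ := x.2
        obtain ⟨y', hy', hyy⟩ := y.2
        have := congrArg Subtype.val (hAab.is_comm.comm ⟨x', hx'⟩ ⟨y', hy'⟩)
        have h2 : (x' : R) * y' = y' * x' := congrArg Subtype.val this
        show (x : R) * y = y * x
        rw [← hxx, ← hyy]
        exact h2
      · rintro x ⟨x', -, rfl⟩
        exact hDe _ x'.2
    rw [Subgroup.card_map_of_injective D.subtype_injective, ha] at hA2
    have ha2 : a ≤ 2 := (Nat.pow_le_pow_iff_right hpp.one_lt).mp hA2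
    calc Nat.card ↥D ≤ p ^ (a * (a + 1) / 2) := hbound
      _ ≤ p ^ 3 := by
        apply Nat.pow_le_pow_right hpp.pos
        interval_cases a <;> norm_num
  obtain ⟨k, hk⟩ := hDp.exists_card_eq
  have hk3 : k ≤ 3 := (Nat.pow_le_pow_iff_right hpp.one_lt).mp (hk ▸ hDcard)
  -- centre of D
  obtain ⟨Z, hZdef⟩ : ∃ Z, Z = D ⊓ Subgroup.centralizer (D : Set R) := ⟨_, rfl⟩
  have hZD : Z ≤ D := by rw [hZdef]; exact inf_le_left
  have hZα : ∀ z ∈ Z, α z ∈ Z := by
    intro z hz
    rw [hZdef] at hz ⊢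
    refine Subgroup.mem_inf.2 ⟨hDα z hz.1, ?_⟩
    rw [Subgroup.mem_centralizer_iff]
    intro d hd
    -- d = α d' with d' ∈ D
    have hd' : d ∈ D.map α.toMonoidHom := by rw [hDmap α (Subgroup.mem_top α)]; exact hd
    obtain ⟨d', hd'D, rfl⟩ := hd'
    have := Subgroup.mem_centralizer_iff.mp hz.2 d' hd'D
    show α d' * α z = α z * α d'
    rw [← map_mul, ← map_mul, this]
  have hZcomm : ∀ a ∈ Z, ∀ b ∈ Z, a * b = b * a := by
    intro a ha b hb
    rw [hZdef] at ha hb
    exact (Subgroup.mem_centralizer_iff.mp hb.2 a ha.1)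
  have hZcard : Nat.card ↥Z ≤ p ^ 2 := by
    apply hrk
    · exact ⟨⟨fun a b => Subtype.ext (hZcomm a a.2 b b.2)⟩⟩
    · intro z hz
      exact hDe z (hZD hz)
  have hZp : IsPGroup p ↥Z := hR.to_subgroup Z
  obtain ⟨kz, hkz⟩ := hZp.exists_card_eq
  have hkz2 : kz ≤ 2 := (Nat.pow_le_pow_iff_right hpp.one_lt).mp (hkz ▸ hZcard)
  by_cases hZfix : ∀ z ∈ Z, α z = z
  · -- α fixes Z pointwise; count on D
    have hcount := card_modEq_fix α q hαpow D hDα
    have hFp : IsPGroup p ↥(D ⊓ fixSub α) := hR.to_subgroup _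
    obtain ⟨j, hj⟩ := hFp.exists_card_eq
    rw [hk, hj] at hcount
    -- j < k
    have hjk : j < k := by
      have hle : Nat.card ↥(D ⊓ fixSub α) ≤ Nat.card ↥D := Subgroup.card_le_of_le inf_le_left
      rw [hk, hj] at hle
      have hjk' : j ≤ k := (Nat.pow_le_pow_iff_right hpp.one_lt).mp hle
      rcases Nat.lt_or_ge j k with h | h
      · exact h
      · exfalso
        have hjk'' : j = k := le_antisymm hjk' h
        apply hnotfix
        have : D ⊓ fixSub α = D :=
          Subgroup.eq_of_le_of_card_ge inf_le_left (by rw [hk, hj, hjk''])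
        intro d hd
        have hd' : d ∈ D ⊓ fixSub α := by rw [this]; exact hd
        exact (Subgroup.mem_inf.1 hd').2
    -- 1 ≤ j since Z nontrivial and Z ≤ fix
    have hj1 : 1 ≤ j := by
      have hDnt : Nontrivial ↥D := by
        by_contra hnt
        rw [not_nontrivial_iff_subsingleton] at hnt
        apply hnotfix
        intro d hd
        have : (⟨d, hd⟩ : ↥D) = 1 := Subsingleton.elim _ _
        have hd1 : d = 1 := congrArg Subtype.val this
        rw [hd1, map_one]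
      haveI := hDnt
      haveI : Nontrivial ↥(Subgroup.center ↥D) := hDp.center_nontrivial
      obtain ⟨⟨z, hz⟩, hz1⟩ := exists_ne (1 : ↥(Subgroup.center ↥D))
      have hzZ : (z : R) ∈ Z := by
        rw [hZdef]
        refine Subgroup.mem_inf.2 ⟨z.2, ?_⟩
        rw [Subgroup.mem_centralizer_iff]
        intro d hd
        have := Subgroup.mem_center_iff.mp hz ⟨d, hd⟩
        exact congrArg Subtype.val this
      have hzF : (z : R) ∈ D ⊓ fixSub α := Subgroup.mem_inf.2 ⟨z.2, hZfix _ hzZ⟩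
      by_contra hj0
      have hj0' : j = 0 := by omega
      rw [hj0', pow_zero] at hj
      have hbot := Subgroup.card_eq_one.mp hj
      rw [hbot, Subgroup.mem_bot] at hzF
      apply hz1
      apply Subtype.ext
      apply Subtype.ext
      exact hzF
    exact dvd_of_modEq_pow hpp hq hqp hjk (by omega) hcount
  · -- α moves Z; count on Z
    have hcount := card_modEq_fix α q hαpow Z hZα
    have hFp : IsPGroup p ↥(Z ⊓ fixSub α) := hR.to_subgroup _
    obtain ⟨j, hj⟩ := hFp.exists_card_eq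
    rw [hkz, hj] at hcount
    have hjk : j < kz := by
      have hle : Nat.card ↥(Z ⊓ fixSub α) ≤ Nat.card ↥Z := Subgroup.card_le_of_le inf_le_left
      rw [hkz, hj] at hle
      have hjk' : j ≤ kz := (Nat.pow_le_pow_iff_right hpp.one_lt).mp hle
      rcases Nat.lt_or_ge j kz with h | h
      · exact h
      · exfalso
        have hjk'' : j = kz := le_antisymm hjk' h
        apply hZfix
        have : Z ⊓ fixSub α = Z :=
          Subgroup.eq_of_le_of_card_ge inf_le_left (by rw [hkz, hj, hjk''])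
        intro d hd
        have hd' : d ∈ Z ⊓ fixSub α := by rw [this]; exact hd
        exact (Subgroup.mem_inf.1 hd').2
    exact dvd_of_modEq_pow hpp hq hqp hjk (by omega) hcount

end Cfsg.Agent.S0640
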