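import Mathlib
import Cfsg.Statements.S0641
-- import your own Cfsg.Agent.* helpers here

set_option autoImplicit false
open Cfsg

namespace Cfsg.Agent.S0641

theorem map_powerClosure_le {G H : Type*} [Group G] [Group H] (p n : ℕ) (f : G →* H)
    (K : Subgroup G) : (Cfsg.powerClosure p n K).map f ≤ Cfsg.powerClosure p n (K.map f) := by
  unfold Cfsg.powerClosure
  rw [MonoidHom.map_closure]
  apply Subgroup.closure_mono
  rintro _ ⟨y, ⟨x, hx, rfl⟩, rfl⟩
  exact ⟨f x, Subgroup.mem_map_of_mem f hx, map_pow f x _⟩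

theorem result {G : Type*} [Group G] {p : ℕ} [Fact p.Prime] (hG : Cfsg.IsRegularPGroup p G) (N : Subgroup G) [N.Normal] : Cfsg.IsRegularPGroup p (G ⧸ N) := by
  refine ⟨hG.1.to_quotient N, ?_⟩
  intro a' b' n
  obtain ⟨a, rfl⟩ := QuotientGroup.mk'_surjective N a'
  obtain ⟨b, rfl⟩ := QuotientGroup.mk'_surjective N b'
  obtain ⟨c, hc, hceq⟩ := hG.2 a b n
  refine ⟨QuotientGroup.mk' N c, ?_, ?_⟩
  · have h1 := map_powerClosure_le p n (QuotientGroup.mk' N)
      ⁅Subgroup.closure ({a, b} : Set G), Subgroup.closure ({a, b} : Set G)⁆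
    have h2 := h1 (Subgroup.mem_map_of_mem _ hc)
    rw [Subgroup.map_commutator, MonoidHom.map_closure] at h2
    have h3 : (QuotientGroup.mk' N) '' ({a, b} : Set G) =
        {(QuotientGroup.mk' N) a, (QuotientGroup.mk' N) b} := by
      rw [Set.image_insert_eq, Set.image_singleton]
    rw [h3] at h2
    exact h2
  · rw [← map_mul, ← map_pow, hceq]
    simp only [map_mul, map_pow]

end Cfsg.Agent.S0641
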