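import Cfsg.Statements.S0642
import Mathlib
import Cfsg.Agent.S0641

set_option autoImplicit false
open Cfsg

namespace Cfsg.Agent.S0642

open scoped commutatorElement

theorem aux (n : ℕ) : ∀ (G : Type*) [Group G] [Finite G], Nat.card G = n →
    Cfsg.IsRegularPGroup 2 G → ∀ a b : G, a * b = b * a := by
  induction n using Nat.strong_induction_on with
  | _ n ih =>
    intro G _ _ hn hreg a b
    have hG : IsPGroup 2 G := hreg.1
    have : Fact (Nat.Prime 2) := ⟨Nat.prime_two⟩
    by_cases htriv : Subsingleton G
    · rw [Subsingleton.elim a b]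
    rw [not_subsingleton_iff_nontrivial] at htriv
    -- central element of order 2
    have hcn : Nontrivial (Subgroup.center G) := hG.center_nontrivial
    have hcp : IsPGroup 2 (Subgroup.center G) := hG.to_subgroup _
    have hdvd : 2 ∣ Nat.card (Subgroup.center G) := by
      rcases hcp.card_eq_or_dvd with h1 | h1
      · exfalso
        have := (Nat.card_eq_one_iff_unique.mp h1).1
        exact not_subsingleton _ this
      · exact h1
    obtain ⟨z, hz⟩ := exists_prime_orderOf_dvd_card' 2 hdvd
    have hzG : orderOf (z : G) = 2 := by rw [Subgroup.orderOf_coe]; exact hz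
    have hzc : ∀ g : G, g * (z : G) = (z : G) * g := fun g => (Subgroup.mem_center_iff.mp z.2 g)
    set Z := Subgroup.zpowers (z : G) with hZ
    have hZn : Z.Normal := by
      constructor
      intro x hx g
      obtain ⟨k, rfl⟩ := Subgroup.mem_zpowers_iff.mp hx
      have : g * (z : G) ^ k * g⁻¹ = (z : G) ^ k := by
        have hc : Commute g ((z : G) ^ k) := (show Commute g (z : G) from hzc g).zpow_right k
        rw [hc.eq, mul_inv_cancel_right]
      rw [this]; exact hx
    have hZsq : ∀ x ∈ Z, x ^ 2 = 1 := by
      intro x hx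
      obtain ⟨k, rfl⟩ := Subgroup.mem_zpowers_iff.mp hx
      rw [← zpow_natCast, ← zpow_mul, mul_comm, zpow_mul, zpow_natCast, ← hzG, pow_orderOf_eq_one,
        one_zpow]
    -- quotient is abelian
    have hcard : Nat.card (G ⧸ Z) < n := by
      rw [← hn, ← Subgroup.index_eq_card]
      have h1 := Subgroup.card_mul_index Z
      have h2 : Nat.card Z = 2 := by rw [hZ, Nat.card_zpowers, hzG]
      have h3 : 0 < Z.index := Nat.pos_of_ne_zero Subgroup.index_ne_zero_of_finite
      rw [h2] at h1
      omega
    have hquot := ih _ hcard (G ⧸ Z) rfl (Cfsg.Agent.S0641.result hreg Z)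
    have hcommZ : ∀ x y : G, ⁅x, y⁆ ∈ Z := by
      intro x y
      rw [← QuotientGroup.eq_one_iff]
      have h1 : ((⁅x, y⁆ : G) : G ⧸ Z) = ⁅(x : G ⧸ Z), (y : G ⧸ Z)⁆ :=
        map_commutatorElement (QuotientGroup.mk' Z) x y
      rw [h1, commutatorElement_eq_one_iff_mul_comm]
      exact hquot _ _
    -- apply regularity with n = 1
    obtain ⟨c, hc, hceq⟩ := hreg.2 a b 1
    have hK : ⁅Subgroup.closure ({a, b} : Set G), Subgroup.closure ({a, b} : Set G)⁆ ≤ Z := by
      rw [Subgroup.commutator_le]
      intro x _ y _
      exact hcommZ x y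
    have hc1 : c = 1 := by
      have hle : Cfsg.powerClosure 2 1 ⁅Subgroup.closure ({a, b} : Set G), Subgroup.closure ({a, b} : Set G)⁆ ≤ ⊥ := by
        unfold Cfsg.powerClosure
        rw [Subgroup.closure_le]
        rintro _ ⟨x, hx, rfl⟩
        rw [pow_one, hZsq x (hK hx)]
        exact Subgroup.one_mem _
      exact Subgroup.mem_bot.mp (hle hc)
    rw [hc1, mul_one, pow_one] at hceq
    -- (ab)^2 = a^2 b^2
    have : a * b * (a * b) = a * a * (b * b) := by
      rw [← pow_two, hceq, pow_two, pow_two]
    have h2 : b * a = a * b := by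
      have h3 : a * (b * a) * b = a * (a * b) * b := by
        calc a * (b * a) * b = a * b * (a * b) := by group
          _ = a * a * (b * b) := this
          _ = a * (a * b) * b := by group
      exact mul_left_cancel (mul_right_cancel h3)
    exact h2.symm

/-- Among finite 2-groups the regular ones are exactly the abelian ones. -/
theorem result {G : Type*} [Group G] [Finite G] (hG : IsPGroup 2 G) : Cfsg.IsRegularPGroup 2 G ↔ ∀ a b : G, a * b = b * a := by
  constructor
  · intro hreg
    exact aux _ G rfl hreg
  · intro hcomm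
    refine ⟨hG, ?_⟩
    intro a b n
    refine ⟨1, Subgroup.one_mem _, ?_⟩
    rw [mul_one]
    exact (show Commute a b from hcomm a b).mul_pow _

end Cfsg.Agent.S0642
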