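import Cfsg.Statements.S0644
import Mathlib
import Cfsg.Agent.Lib.Helper7_Regular

set_option autoImplicit false
open Cfsg

namespace Cfsg.Agent.S0644

open Cfsg.Agent.Lib.Helper7_Regular Cfsg.Agent.Lib.Helper7_PFrattini
open scoped commutatorElement

universe u

theorem commutator_le_frattini {P : Type*} [Group P] [Finite P] {p : ℕ} [Fact p.Prime]
    (hP : IsPGroup p P) : commutator P ≤ frattini P := by
  rw [commutator_def, Subgroup.commutator_le]
  intro a _ b _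
  rw [commutatorElement_def]
  exact comm_mem_frattini hP a b

/-- every element of the power closure of `K` is a power, provided products of powers are powers -/
theorem mem_powerClosure_of_mul {G : Type*} [Group G] {p : ℕ} (n : ℕ) (K : Subgroup G)
    (hmul : ∀ a ∈ K, ∀ b ∈ K, ∃ c ∈ K, a ^ p ^ n * b ^ p ^ n = c ^ p ^ n)
    (y : G) (hy : y ∈ Cfsg.powerClosure p n K) : ∃ x ∈ K, y = x ^ p ^ n := by
  unfold Cfsg.powerClosure at hy
  induction hy using Subgroup.closure_induction with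
  | mem y hy => exact hy
  | one => exact ⟨1, one_mem _, (one_pow _).symm⟩
  | mul y₁ y₂ _ _ h₁ h₂ =>
    obtain ⟨x₁, hx₁, rfl⟩ := h₁
    obtain ⟨x₂, hx₂, rfl⟩ := h₂
    obtain ⟨c, hc, hc'⟩ := hmul x₁ hx₁ x₂ hx₂
    exact ⟨c, hc, hc'⟩
  | inv y _ h =>
    obtain ⟨x, hx, rfl⟩ := h
    exact ⟨x⁻¹, inv_mem hx, (inv_pow x _).symm⟩

theorem pow_mul_pow_aux (p : ℕ) [Fact p.Prime] (k : ℕ) :
    ∀ (n : ℕ) (G : Type u) [Group G] [Finite G],
    Nat.card G = n → Cfsg.IsRegularPGroup p G →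
    ∀ a b : G, ∃ c : G, a ^ p ^ k * b ^ p ^ k = c ^ p ^ k := by
  intro n
  induction n using Nat.strong_induction_on with
  | _ n ih =>
  intro G _ _ hcard hG a b
  -- reduction to subgroups
  have sub : ∀ K : Subgroup G, K ≠ ⊤ → ∀ x ∈ K, ∀ y ∈ K,
      ∃ c ∈ K, x ^ p ^ k * y ^ p ^ k = c ^ p ^ k := by
    intro K hK x hx y hy
    have hlt : Nat.card K < n := by
      rw [← hcard]
      exact lt_of_le_of_ne (Subgroup.card_le_card_group K)
        (fun h => hK ((Subgroup.card_eq_iff_eq_top K).mp h))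
    obtain ⟨c, hc⟩ := ih (Nat.card K) hlt K rfl (regular_subgroup hG K) ⟨x, hx⟩ ⟨y, hy⟩
    refine ⟨c, c.2, ?_⟩
    have := congrArg (Subtype.val) hc
    simpa using this
  by_cases hcomm : ∀ x y : G, x * y = y * x
  · exact ⟨a * b, ((show Commute a b from hcomm a b).mul_pow _).symm⟩
  by_cases hK : Subgroup.closure ({a, b} : Set G) = ⊤
  · obtain ⟨c₀, hc₀, heq⟩ := hG.2 a b k
    rw [hK, ← commutator_def] at hc₀
    have hDtop : commutator G ≠ ⊤ := by
      haveI := hG.1.isNilpotent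
      haveI : Nontrivial G := by
        by_contra hnt
        rw [not_nontrivial_iff_subsingleton] at hnt
        exact hcomm (fun x y => Subsingleton.elim _ _)
      exact (Group.IsSolvable.commutator_lt_top_of_nontrivial G).ne
    obtain ⟨d, hd, rfl⟩ := mem_powerClosure_of_mul k (commutator G)
      (sub (commutator G) hDtop) c₀ hc₀
    -- a^q b^q = (ab)^q (d⁻¹)^q
    have h1 : a ^ p ^ k * b ^ p ^ k = (a * b) ^ p ^ k * (d⁻¹) ^ p ^ k := by
      rw [heq, inv_pow, mul_assoc, mul_inv_cancel, mul_one]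
    by_cases hM : Subgroup.closure ({a * b, d⁻¹} : Set G) = ⊤
    · exfalso
      -- G is cyclic
      have h2 : Subgroup.zpowers (a * b) ⊔ frattini G = ⊤ := by
        rw [eq_top_iff, ← hM, Subgroup.closure_le]
        intro x hx
        rcases hx with rfl | rfl
        · exact (le_sup_left : Subgroup.zpowers (a * b) ≤ _) (Subgroup.mem_zpowers _)
        · exact (le_sup_right : frattini G ≤ _)
            (commutator_le_frattini hG.1 (inv_mem hd))
      have h3 : Subgroup.zpowers (a * b) = ⊤ := frattini_nongenerating h2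
      apply hcomm
      intro x y
      have hx : x ∈ Subgroup.zpowers (a * b) := h3 ▸ Subgroup.mem_top x
      have hy : y ∈ Subgroup.zpowers (a * b) := h3 ▸ Subgroup.mem_top y
      obtain ⟨i, rfl⟩ := Subgroup.mem_zpowers_iff.mp hx
      obtain ⟨j, rfl⟩ := Subgroup.mem_zpowers_iff.mp hy
      exact (Commute.zpow_zpow (Commute.refl _) i j).eq
    · obtain ⟨c, -, hc⟩ := sub _ hM (a * b) (Subgroup.subset_closure (by simp))
        d⁻¹ (Subgroup.subset_closure (by simp))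
      exact ⟨c, h1.trans hc⟩
  · obtain ⟨c, -, hc⟩ := sub _ hK a (Subgroup.subset_closure (by simp))
      b (Subgroup.subset_closure (by simp))
    exact ⟨c, hc⟩

theorem pow_mul_pow {G : Type u} [Group G] [Finite G] {p : ℕ} [Fact p.Prime]
    (hG : Cfsg.IsRegularPGroup p G) (k : ℕ) (a b : G) :
    ∃ c : G, a ^ p ^ k * b ^ p ^ k = c ^ p ^ k :=
  pow_mul_pow_aux p k _ G rfl hG a b

/-- In a regular p-group the p^n-th powers of the elements of any subgroup H form a subgroup, whose derived subgroup is contained in the subgroup generated by the p^n-th powers of elements of the derived subgroup of H. -/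
theorem result {G : Type*} [Group G] [Finite G] {p : ℕ} [Fact p.Prime] (hG : Cfsg.IsRegularPGroup p G) (H : Subgroup G) (n : ℕ) : {y : G | ∃ x ∈ H, y = x ^ (p ^ n)} = (Cfsg.powerClosure p n H : Set G) ∧ ⁅Cfsg.powerClosure p n H, Cfsg.powerClosure p n H⁆ ≤ Cfsg.powerClosure p n ⁅H, H⁆ := by
  classical
  have hmulH : ∀ K : Subgroup G, ∀ a ∈ K, ∀ b ∈ K,
      ∃ c ∈ K, a ^ p ^ n * b ^ p ^ n = c ^ p ^ n := by
    intro K a ha b hb
    obtain ⟨c, hc⟩ := pow_mul_pow (regular_subgroup hG K) n ⟨a, ha⟩ ⟨b, hb⟩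
    refine ⟨c, c.2, ?_⟩
    have := congrArg Subtype.val hc
    simpa using this
  have part1 : ∀ K : Subgroup G, ∀ y ∈ Cfsg.powerClosure p n K, ∃ x ∈ K, y = x ^ p ^ n :=
    fun K y hy => mem_powerClosure_of_mul n K (hmulH K) y hy
  have pmono : ∀ K K' : Subgroup G, K ≤ K' →
      Cfsg.powerClosure p n K ≤ Cfsg.powerClosure p n K' := by
    intro K K' h
    unfold Cfsg.powerClosure
    apply Subgroup.closure_mono
    rintro y ⟨x, hx, rfl⟩
    exact ⟨x, h hx, rfl⟩
  refine ⟨?_, ?_⟩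
  · ext y
    constructor
    · rintro ⟨x, hx, rfl⟩
      exact Subgroup.subset_closure ⟨x, hx, rfl⟩
    · intro hy
      exact part1 H y hy
  · have hDH : ⁅H, H⁆ ≤ H := Subgroup.commutator_le.mpr (fun a ha b hb =>
      H.mul_mem (H.mul_mem (H.mul_mem ha hb) (H.inv_mem ha)) (H.inv_mem hb))
    have key : ∀ a ∈ H, ∀ b ∈ H,
        (a ^ p ^ n)⁻¹ * (b⁻¹ * a ^ p ^ n * b) ∈ Cfsg.powerClosure p n ⁅H, H⁆ := by
      intro a ha b hb
      have hd : ⁅a⁻¹, b⁻¹⁆ ∈ ⁅H, H⁆ :=
        Subgroup.commutator_mem_commutator (H.inv_mem ha) (H.inv_mem hb)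
      have hd' : ⁅a⁻¹, b⁻¹⁆ = a⁻¹ * (b⁻¹ * a * b) := by
        rw [commutatorElement_def]; group
      obtain ⟨c, hc, heq⟩ := hG.2 a ⁅a⁻¹, b⁻¹⁆ n
      have hcT : c ∈ Cfsg.powerClosure p n ⁅H, H⁆ := by
        refine pmono _ _ (Subgroup.commutator_mono ?_ ?_) hc <;>
        · rw [Subgroup.closure_le]
          intro x hx
          rcases hx with rfl | rfl
          · exact ha
          · exact hDH hd
      have h1 : b⁻¹ * a ^ p ^ n * b = (a * ⁅a⁻¹, b⁻¹⁆) ^ p ^ n := by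
        have h2 : a * ⁅a⁻¹, b⁻¹⁆ = b⁻¹ * a * b⁻¹⁻¹ := by rw [hd']; group
        rw [h2, conj_pow, inv_inv]
      rw [h1, heq]
      have h3 : (a ^ p ^ n)⁻¹ * (a ^ p ^ n * ⁅a⁻¹, b⁻¹⁆ ^ p ^ n * c) = ⁅a⁻¹, b⁻¹⁆ ^ p ^ n * c := by
        group
      rw [h3]
      exact Subgroup.mul_mem _ (Subgroup.subset_closure ⟨_, hd, rfl⟩) hcT
    rw [Subgroup.commutator_le]
    intro g₁ hg₁ g₂ hg₂
    obtain ⟨a, ha, rfl⟩ := part1 H g₁ hg₁
    obtain ⟨b, hb, rfl⟩ := part1 H g₂ hg₂
    have h := key a⁻¹ (H.inv_mem ha) (b ^ p ^ n)⁻¹ (H.inv_mem (H.pow_mem hb _))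
    have e : ((a⁻¹) ^ p ^ n)⁻¹ * (((b ^ p ^ n)⁻¹)⁻¹ * (a⁻¹) ^ p ^ n * (b ^ p ^ n)⁻¹)
        = ⁅a ^ p ^ n, b ^ p ^ n⁆ := by
      rw [commutatorElement_def, inv_pow]; group
    rw [e] at h
    exact h

end Cfsg.Agent.S0644
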