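import Cfsg.Statements.S0645
import Mathlib
import Cfsg.Agent.Lib.Helper6_CyclicP
import Cfsg.Agent.Lib.Helper7_OmegaAut

set_option autoImplicit false
open Cfsg

namespace Cfsg.Agent.S0645

open Cfsg.Agent.Lib.Helper7_OmegaAut

/-- lifting the exponent, in the form needed -/
theorem nt_lemma (p : ℕ) [hp : Fact p.Prime] (hp2 : p ≠ 2) (r N : ℕ) (hr : 2 ≤ r)
    (h : p ^ (N + 1) ∣ r ^ p - 1) : p ^ N ∣ r - 1 := by
  have hpp := hp.out
  have hodd : Odd p := hpp.odd_of_ne_two hp2
  have h1 : p ∣ r ^ p - 1 := (dvd_pow_self p (Nat.succ_ne_zero N)).trans h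
  have hrp : 1 ≤ r ^ p := Nat.one_le_pow _ _ (by omega)
  have h2 : (r : ZMod p) ^ p = 1 := by
    have h3 : ((r ^ p - 1 : ℕ) : ZMod p) = 0 := (ZMod.natCast_eq_zero_iff _ _).mpr h1
    rw [Nat.cast_sub hrp] at h3
    push_cast at h3
    exact sub_eq_zero.mp h3
  have h3 : (r : ZMod p) = 1 := by rw [← h2, ZMod.pow_card]
  have h4 : p ∣ r - 1 := by
    rw [← ZMod.natCast_eq_zero_iff, Nat.cast_sub (by omega)]
    push_cast
    rw [h3, sub_self]
  have h5 : ¬ p ∣ r := by
    intro hd
    have : (r : ZMod p) = 0 := (ZMod.natCast_eq_zero_iff _ _).mpr hd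
    rw [h3] at this
    exact one_ne_zero this
  have h6 := padicValNat.pow_sub_pow hodd (show 1 < r by omega) h4 h5 hpp.ne_zero
  rw [one_pow, padicValNat_self] at h6
  have h7 : r ^ p - 1 ≠ 0 := by
    have : 2 ^ p ≤ r ^ p := Nat.pow_le_pow_left hr p
    have : 2 ≤ 2 ^ p := by
      calc 2 = 2 ^ 1 := rfl
        _ ≤ 2 ^ p := Nat.pow_le_pow_right (by norm_num) hpp.one_lt.le
    omega
  have h8 : N + 1 ≤ padicValNat p (r ^ p - 1) := (padicValNat_dvd_iff_le h7).mp h
  have h9 : r - 1 ≠ 0 := by omega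
  rw [padicValNat_dvd_iff_le h9]
  omega

/-- Classification of p-groups with a cyclic maximal subgroup, odd p: a non-abelian one of order p^n has generators a of order p^(n-1) and b of order p, b outside the cyclic subgroup generated by a, with b a b⁻¹ = a^(1 + p^(n-2)). -/
theorem result {G : Type*} [Group G] [Finite G] {p : ℕ} [Fact p.Prime] (hp : p ≠ 2) (n : ℕ) (hn : 3 ≤ n) (hG : Nat.card G = p ^ n) (C : Subgroup G) (hC : IsCyclic C) (hCi : C.index = p) (hna : ∃ x y : G, x * y ≠ y * x) : ∃ a b : G, orderOf a = p ^ (n - 1) ∧ orderOf b = p ∧ b ∉ Subgroup.zpowers a ∧ b * a * b⁻¹ = a ^ (1 + p ^ (n - 2)) := by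
  classical
  have hpp := (Fact.out : p.Prime)
  have hGp : IsPGroup p G := IsPGroup.of_card hG
  -- generator of C
  obtain ⟨g, hgen⟩ := hC.exists_generator
  have hCeq : C = Subgroup.zpowers (g : G) := by
    apply le_antisymm
    · intro y hy
      obtain ⟨k, hk⟩ := Subgroup.mem_zpowers_iff.mp (hgen ⟨y, hy⟩)
      have h1 := congrArg Subtype.val hk
      rw [Subgroup.coe_zpow] at h1
      rw [← show (g : G) ^ k = y from h1]
      exact Subgroup.zpow_mem_zpowers _ k
    · rw [Subgroup.zpowers_le]; exact g.2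
  set a : G := (g : G) with hadef
  rw [hCeq] at hCi
  clear hCeq hgen
  set A := Subgroup.zpowers a with hA
  have hAn : A.Normal := by
    apply Subgroup.normal_of_index_eq_minFac_card
    rw [hCi, hG, Nat.Prime.pow_minFac hpp (by omega)]
  have haA : a ∈ A := Subgroup.mem_zpowers a
  have hab : ∀ u ∈ A, ∀ v ∈ A, u * v = v * u := by
    intro u hu v hv
    obtain ⟨i, rfl⟩ := Subgroup.mem_zpowers_iff.mp hu
    obtain ⟨j, rfl⟩ := Subgroup.mem_zpowers_iff.mp hv
    rw [← zpow_add, ← zpow_add, add_comm]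
  have hpown : p ^ n = p ^ (n - 1) * p := by rw [← pow_succ]; congr 1; omega
  have hord : orderOf a = p ^ (n - 1) := by
    have h1 := Subgroup.card_mul_index A
    rw [hCi, hG, Nat.card_zpowers, hpown] at h1
    exact Nat.eq_of_mul_eq_mul_right hpp.pos h1
  have hcardA : Nat.card A = p ^ (n - 1) := by rw [Nat.card_zpowers, hord]
  have hM : p ^ (n - 1) = p ^ (n - 2) * p := by rw [← pow_succ]; congr 1; omega
  have hAc : IsCyclic A := by rw [hA]; infer_instance
  have hAp : IsPGroup p A := hGp.to_subgroup A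
  -- some x outside A not commuting with a
  obtain ⟨x, hxa⟩ : ∃ x : G, x * a ≠ a * x := by
    by_contra hcon
    push Not at hcon
    obtain ⟨u, v, huv⟩ := hna
    -- a central; G/A cyclic...; use: centre contains A, index p, so G/Z cyclic
    have haZ : A ≤ Subgroup.center G := by
      rw [hA, Subgroup.zpowers_le, Subgroup.mem_center_iff]
      intro g; exact hcon g
    have hidx : (Subgroup.center G).index ∣ p := by
      rw [← hCi]; exact Subgroup.index_dvd_of_le haZ
    have hcyc : IsCyclic (G ⧸ Subgroup.center G) := by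
      rcases (Nat.dvd_prime hpp).mp hidx with h | h
      · have : Nat.card (G ⧸ Subgroup.center G) = 1 := by rw [← Subgroup.index_eq_card]; exact h
        have : Subsingleton (G ⧸ Subgroup.center G) := (Nat.card_eq_one_iff_unique.mp this).1
        infer_instance
      · have h' : Nat.card (G ⧸ Subgroup.center G) = p := by
          rw [← Subgroup.index_eq_card]; exact h
        have : Fact (Nat.card (G ⧸ Subgroup.center G)).Prime := ⟨by rw [h']; exact hpp⟩
        exact isCyclic_of_prime_card rfl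
    have hcomm : IsMulCommutative G :=
      MonoidHom.isMulCommutative_of_isCyclic_of_ker_le_center
        (QuotientGroup.mk' (Subgroup.center G)) (by rw [QuotientGroup.ker_mk'])
    exact huv (hcomm.is_comm.comm u v)
  have hconjA : ∀ (y : G), ∀ c ∈ A, y * c * y⁻¹ ∈ A := fun y c hc => hAn.conj_mem c hc y
  -- x a x⁻¹ = a ^ r
  obtain ⟨r, hr2, hr⟩ : ∃ r : ℕ, 2 ≤ r ∧ x * a * x⁻¹ = a ^ r := by
    have h1 := hconjA x a haA
    rw [hA, ← mem_powers_iff_mem_zpowers] at h1
    obtain ⟨r, hr⟩ := h1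
    refine ⟨r + orderOf a, ?_, ?_⟩
    · have : 2 ≤ orderOf a := by
        rw [hord]
        calc 2 ≤ p := hpp.two_le
          _ = p ^ 1 := (pow_one p).symm
          _ ≤ p ^ (n - 1) := Nat.pow_le_pow_right hpp.pos (by omega)
      omega
    · rw [pow_add, pow_orderOf_eq_one, mul_one]; exact hr.symm
  have hxpA : x ^ p ∈ A := by
    have := A.pow_index_mem x
    rw [hCi] at this
    exact this
  have hconjpow : ∀ k : ℕ, x ^ k * a * (x ^ k)⁻¹ = a ^ (r ^ k) := by
    intro k
    induction k with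
    | zero => simp
    | succ k ih =>
      calc x ^ (k + 1) * a * (x ^ (k + 1))⁻¹ = x * (x ^ k * a * (x ^ k)⁻¹) * x⁻¹ := by
            rw [pow_succ']; group
        _ = x * a ^ (r ^ k) * x⁻¹ := by rw [ih]
        _ = (x * a * x⁻¹) ^ (r ^ k) := by
            rw [← MulAut.conj_apply, map_pow, MulAut.conj_apply]
        _ = a ^ (r ^ (k + 1)) := by rw [hr, ← pow_mul, pow_succ']
  have hrp : p ^ (n - 2 + 1) ∣ r ^ p - 1 := by
    have h1 := hconjpow p
    have h2 : x ^ p * a * (x ^ p)⁻¹ = a := by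
      rw [hab _ hxpA a haA]; group
    rw [h2] at h1
    have h3 : 1 ≤ r ^ p := Nat.one_le_pow _ _ (by omega)
    have h4 : a ^ (r ^ p - 1) = 1 := by
      have h5 : a ^ (r ^ p - 1) * a = a := by
        rw [← pow_succ, Nat.sub_add_cancel h3]; exact h1.symm
      exact mul_eq_right.mp h5
    have h6 := orderOf_dvd_of_pow_eq_one h4
    rw [hord] at h6
    have : n - 2 + 1 = n - 1 := by omega
    rw [this]; exact h6
  obtain ⟨u, hu⟩ := nt_lemma p hp r (n - 2) hr2 hrp
  set z := a ^ (p ^ (n - 2)) with hz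
  have hzA : z ∈ A := A.pow_mem haA _
  have hzp : z ^ p = 1 := by
    rw [hz, ← pow_mul, ← hM, ← hord]; exact pow_orderOf_eq_one a
  have hz1 : z ≠ 1 := by
    intro h
    have h1 : orderOf a ∣ p ^ (n - 2) := orderOf_dvd_of_pow_eq_one h
    rw [hord, hM] at h1
    have h2 := Nat.le_of_dvd (pow_pos hpp.pos _) h1
    have h3 : 0 < p ^ (n - 2) := pow_pos hpp.pos _
    have h4 : p ^ (n - 2) * 2 ≤ p ^ (n - 2) * p := Nat.mul_le_mul_left _ hpp.two_le
    omega
  have hoz : orderOf z = p := orderOf_eq_prime hzp hz1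
  set w := x * a * x⁻¹ * a⁻¹ with hw
  have hwz : w = z ^ u := by
    have h1 : a ^ (r - 1) * a = a ^ r := by rw [← pow_succ, Nat.sub_add_cancel (by omega)]
    have h2 : w = a ^ (r - 1) := by
      rw [hw, hr, ← h1]; group
    rw [h2, hu, hz, pow_mul]
  have hw1 : w ≠ 1 := by
    intro h
    apply hxa
    have : x * a * x⁻¹ * a⁻¹ = 1 := h
    calc x * a = (x * a * x⁻¹ * a⁻¹) * (a * x) := by group
      _ = a * x := by rw [this, one_mul]
  -- z commutes with x
  have hxz : x * z = z * x := by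
    have h1 : x * z * x⁻¹ = z := by
      rw [hz, ← MulAut.conj_apply, map_pow, MulAut.conj_apply, hr, ← pow_mul, mul_comm, pow_mul,
        ← hz]
      have h2 : r = 1 + p ^ (n - 2) * u := by omega
      rw [h2, pow_add, pow_one, pow_mul]
      have h3 : z ^ p ^ (n - 2) = 1 := by
        have : n - 2 = 1 + (n - 3) := by omega
        rw [this, pow_add, pow_one, pow_mul, hzp, one_pow]
      rw [h3, one_pow, mul_one]
    calc x * z = (x * z * x⁻¹) * x := by group
      _ = z * x := by rw [h1]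
  -- choose j with w ^ j = z
  have hup : ¬ p ∣ u := by
    intro hd
    obtain ⟨u', rfl⟩ := hd
    apply hw1
    rw [hwz, pow_mul, hzp, one_pow]
  obtain ⟨j, -, hj⟩ := Nat.exists_mul_mod_eq_one_of_coprime
    ((Nat.Prime.coprime_iff_not_dvd hpp).mpr hup).symm hpp.one_lt
  have hwj : w ^ j = z := by
    rw [hwz, ← pow_mul, pow_eq_pow_mod (u * j) hzp, hj, pow_one]
  have hxw : x * w = w * x := by
    rw [hwz]
    exact ((show Commute x z from hxz).pow_right u).eq
  have haw : a * w = w * a := by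
    have hwA : w ∈ A := A.mul_mem (hconjA x a haA) (A.inv_mem haA)
    exact hab a haA w hwA
  -- x' = x ^ j
  have hconj' : ∀ k : ℕ, x ^ k * a * (x ^ k)⁻¹ = a * w ^ k := by
    intro k
    induction k with
    | zero => simp
    | succ k ih =>
      have h1 : x * a * x⁻¹ = w * a := by rw [hw]; group
      have h2 : x * w ^ k * x⁻¹ = w ^ k := by
        rw [((show Commute x w from hxw).pow_right k).eq]; group
      calc x ^ (k + 1) * a * (x ^ (k + 1))⁻¹ = x * (x ^ k * a * (x ^ k)⁻¹) * x⁻¹ := by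
            rw [pow_succ']; group
        _ = x * (a * w ^ k) * x⁻¹ := by rw [ih]
        _ = (x * a * x⁻¹) * (x * w ^ k * x⁻¹) := by group
        _ = w * a * w ^ k := by rw [h1, h2]
        _ = a * w * w ^ k := by rw [haw]
        _ = a * w ^ (k + 1) := by rw [pow_succ']; group
  set x' := x ^ j with hx'
  have hx'a : x' * a * x'⁻¹ = a * z := by rw [hx', hconj' j, hwj]
  have hx'z : x' * z = z * x' := ((show Commute x z from hxz).pow_left j).eq
  have hx'A : x' ∉ A := by
    intro h
    apply hz1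
    have h1 := hab x' h a haA
    have h2 : x' * a * x'⁻¹ = a := by rw [h1]; group
    rw [h2] at hx'a
    exact (mul_eq_left.mp hx'a.symm)
  have hx'pA : x' ^ p ∈ A := by
    have := A.pow_index_mem x'
    rw [hCi] at this
    exact this
  -- x'^p ∈ ⟨a^p⟩
  have hoap : orderOf (a ^ p) = p ^ (n - 2) := by
    rw [orderOf_pow_of_dvd hpp.ne_zero, hord, hM, Nat.mul_div_cancel _ hpp.pos]
    rw [hord, hM]; exact dvd_mul_left p _
  have hx'pmem : x' ^ p ∈ Subgroup.zpowers (a ^ p) := by
    set Z := A ⊓ Subgroup.centralizer {x'} with hZ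
    have hZA : Z ≤ A := inf_le_left
    have haZ : a ∉ Z := by
      intro h
      have h1 := (Subgroup.mem_inf.mp h).2
      rw [Subgroup.mem_centralizer_singleton_iff] at h1
      apply hz1
      have h2 : x' * a * x'⁻¹ = a := by rw [← h1]; group
      rw [h2] at hx'a
      exact (mul_eq_left.mp hx'a.symm)
    have hmemZ : x' ^ p ∈ Z := by
      refine Subgroup.mem_inf.mpr ⟨hx'pA, ?_⟩
      rw [Subgroup.mem_centralizer_singleton_iff, ← pow_succ, ← pow_succ']
    have hZle : Z ≤ Subgroup.zpowers (a ^ p) := by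
      rcases Cfsg.Agent.Lib.Helper6_CyclicP.le_total_of_cyclic A hAc hAp
        Z (Subgroup.zpowers (a ^ p)) hZA
        (by rw [Subgroup.zpowers_le]; exact A.pow_mem haA p) with h | h
      · exact h
      · refine (Subgroup.eq_of_le_of_card_ge h ?_).ge
        rw [Nat.card_zpowers, hoap]
        -- |Z| ≤ p^(n-2) since Z < A
        have h1 : Nat.card Z ∣ p ^ (n - 1) := by rw [← hcardA]; exact Subgroup.card_dvd_of_le hZA
        obtain ⟨k, hk, hk'⟩ := (Nat.dvd_prime_pow hpp).mp h1
        have hk2 : k ≠ n - 1 := by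
          intro hkk
          apply haZ
          have : Z = A := Subgroup.eq_of_le_of_card_ge hZA (by rw [hk', hcardA, hkk])
          rw [this]; exact haA
        rw [hk']
        exact Nat.pow_le_pow_right hpp.pos (by omega)
    exact hZle hmemZ
  obtain ⟨t, ht⟩ := Subgroup.mem_zpowers_iff.mp hx'pmem
  -- b = x' * (a^t)⁻¹
  set c := (a ^ t)⁻¹ with hc
  have hcA : c ∈ A := A.inv_mem (A.zpow_mem haA t)
  have hcp : x' ^ p * c ^ p = 1 := by
    rw [← ht, hc, inv_pow, ← zpow_natCast (a ^ t) p, ← zpow_mul, mul_comm t, zpow_mul,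
      zpow_natCast]
    exact mul_inv_cancel _
  -- the commutator of c and x' is a power of z
  have hcx' : ∀ s : ℤ, x' * a ^ s * x'⁻¹ = a ^ s * z ^ s := by
    intro s
    rw [← MulAut.conj_apply, map_zpow, MulAut.conj_apply, hx'a]
    exact (show Commute a z from hab a haA z hzA).mul_zpow s
  set e := c * x' * c⁻¹ * x'⁻¹ with he
  have hez : e = z ^ t := by
    have h1 := hcx' t
    rw [he, hc, inv_inv]
    calc (a ^ t)⁻¹ * x' * a ^ t * x'⁻¹ = (a ^ t)⁻¹ * (x' * a ^ t * x'⁻¹) := by group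
      _ = (a ^ t)⁻¹ * (a ^ t * z ^ t) := by rw [h1]
      _ = z ^ t := by group
  have hex' : Commute e x' := by
    rw [hez]
    exact ((show Commute x' z from hx'z).zpow_right t).symm
  have hec : Commute e c := by
    rw [hez]
    exact hab _ (A.zpow_mem hzA t) c hcA
  have hpowform := mul_pow_class2 x' c e he hex' hec p
  have hep : e ^ (p * (p - 1) / 2) = 1 := by
    obtain ⟨m, hm⟩ := hpp.odd_of_ne_two hp
    have h1 : p * (p - 1) / 2 = p * m := by
      apply Nat.div_eq_of_eq_mul_left (by norm_num)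
      rw [hm]
      simp only [Nat.add_sub_cancel]
      ring
    rw [h1, pow_mul, hez, ← zpow_natCast (z ^ t) p, ← zpow_mul, mul_comm t, zpow_mul,
      zpow_natCast, hzp, one_zpow, one_pow]
  rw [hep, mul_one, hcp] at hpowform
  set b := x' * c with hb
  have hbA : b ∉ A := by
    intro h
    apply hx'A
    have h1 : x' = b * c⁻¹ := by rw [hb]; group
    rw [h1]; exact A.mul_mem h (A.inv_mem hcA)
  have hb1 : b ≠ 1 := fun h => hbA (h ▸ A.one_mem)
  refine ⟨a, b, hord, orderOf_eq_prime hpowform hb1, hbA, ?_⟩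
  have h1 := hab c hcA a haA
  calc b * a * b⁻¹ = x' * (c * a) * c⁻¹ * x'⁻¹ := by rw [hb]; group
    _ = x' * (a * c) * c⁻¹ * x'⁻¹ := by rw [h1]
    _ = x' * a * x'⁻¹ := by group
    _ = a * z := hx'a
    _ = a ^ (1 + p ^ (n - 2)) := by rw [pow_add, pow_one, hz]

end Cfsg.Agent.S0645
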