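import Cfsg.Statements.S0646
import Mathlib
import Cfsg.Agent.Lib.Helper6_MaxClass2
import Cfsg.Agent.Lib.Helper6_CyclicP

set_option autoImplicit false
open Cfsg

namespace Cfsg.Agent.S0646

open Cfsg.Agent.Lib.Helper6_MaxClass Cfsg.Agent.Lib.Helper6_MaxClass2
open scoped commutatorElement

/-- Classification of non-abelian 2-groups with a cyclic maximal subgroup: dihedral, generalized quaternion, and for order at least 16 the modular group and the semidihedral group, each given by generators a (of index 2) and b with the stated relations. -/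
theorem result {G : Type*} [Group G] [Finite G] (n : ℕ) (hn : 3 ≤ n) (hG : Nat.card G = 2 ^ n) (C : Subgroup G) (hC : IsCyclic C) (hCi : C.index = 2) (hna : ∃ x y : G, x * y ≠ y * x) : ∃ a b : G, orderOf a = 2 ^ (n - 1) ∧ b ∉ Subgroup.zpowers a ∧ ((b ^ 2 = 1 ∧ b * a * b⁻¹ = a⁻¹) ∨ (b ^ 2 = a ^ (2 ^ (n - 2)) ∧ b * a * b⁻¹ = a⁻¹) ∨ (4 ≤ n ∧ b ^ 2 = 1 ∧ b * a * b⁻¹ = a ^ (1 + 2 ^ (n - 2))) ∨ (4 ≤ n ∧ b ^ 2 = 1 ∧ b * a * b⁻¹ = a ^ (2 ^ (n - 2) - 1))) := by
  classical
  have : Fact (Nat.Prime 2) := ⟨Nat.prime_two⟩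
  have hGp : IsPGroup 2 G := IsPGroup.of_card hG
  have hnab : ¬ IsMulCommutative G := by
    intro h
    obtain ⟨x, y, hxy⟩ := hna
    exact hxy (h.is_comm.comm x y)
  -- generator of C
  obtain ⟨g, hgen⟩ := hC.exists_generator
  have hCeq : C = Subgroup.zpowers (g : G) := by
    apply le_antisymm
    · intro y hy
      obtain ⟨k, hk⟩ := Subgroup.mem_zpowers_iff.mp (hgen ⟨y, hy⟩)
      have h1 := congrArg Subtype.val hk
      rw [Subgroup.coe_zpow] at h1
      rw [← show (g : G) ^ k = y from h1]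
      exact Subgroup.zpow_mem_zpowers _ k
    · rw [Subgroup.zpowers_le]; exact g.2
  set a : G := (g : G) with hadef
  rw [hCeq] at hCi
  clear hCeq hgen
  set A := Subgroup.zpowers a with hA
  obtain ⟨x, hx⟩ : ∃ x, x ∉ A := by
    by_contra hcon
    push Not at hcon
    have h1 : A = ⊤ := (Subgroup.eq_top_iff' _).mpr hcon
    rw [h1, Subgroup.index_top] at hCi
    omega
  have hAn : A.Normal := Subgroup.normal_of_index_eq_two hCi
  have haA : a ∈ A := Subgroup.mem_zpowers a
  have hab : ∀ u ∈ A, ∀ v ∈ A, u * v = v * u := by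
    intro u hu v hv
    obtain ⟨i, rfl⟩ := Subgroup.mem_zpowers_iff.mp hu
    obtain ⟨j, rfl⟩ := Subgroup.mem_zpowers_iff.mp hv
    rw [← zpow_add, ← zpow_add, add_comm]
  -- M = 2^(n-1) = order of a
  have hpow2 : 2 ^ n = 2 ^ (n - 1) * 2 := by rw [← pow_succ]; congr 1; omega
  have hord : orderOf a = 2 ^ (n - 1) := by
    have h1 := Subgroup.card_mul_index A
    rw [hCi, hG, Nat.card_zpowers, hpow2] at h1
    exact Nat.eq_of_mul_eq_mul_right (by norm_num) h1
  have hcardA : Nat.card A = 2 ^ (n - 1) := by rw [Nat.card_zpowers, hord]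
  have hM2 : 2 ^ (n - 1) = 2 * 2 ^ (n - 2) := by rw [← pow_succ']; congr 1; omega
  -- the involution
  set z := a ^ (2 ^ (n - 2)) with hz
  have hzA : z ∈ A := A.pow_mem haA _
  have hz2 : z ^ 2 = 1 := by
    rw [hz, ← pow_mul, mul_comm, ← hM2, ← hord]; exact pow_orderOf_eq_one a
  have hz1 : z ≠ 1 := by
    intro h
    have h1 : orderOf a ∣ 2 ^ (n - 2) := orderOf_dvd_of_pow_eq_one h
    rw [hord, hM2] at h1
    have h2 := Nat.le_of_dvd (by positivity) h1
    have h3 : 0 < 2 ^ (n - 2) := by positivity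
    omega
  -- F1: elements of A of order ≤ 2
  have hF1 : ∀ c ∈ A, c ^ 2 = 1 → c = 1 ∨ c = z := by
    intro c hc hc2
    have hAc : IsCyclic A := by rw [hA]; infer_instance
    have hAp : IsPGroup 2 A := hGp.to_subgroup A
    by_cases hc1 : c = 1
    · exact Or.inl hc1
    right
    -- the subgroups ⟨c⟩ and ⟨z⟩ both have order 2 inside cyclic A
    have hoc : orderOf c = 2 := orderOf_eq_prime hc2 hc1
    have hoz : orderOf z = 2 := orderOf_eq_prime hz2 hz1
    have hcz : Subgroup.zpowers c = Subgroup.zpowers z := by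
      rcases Cfsg.Agent.Lib.Helper6_CyclicP.le_total_of_cyclic A hAc hAp
        (Subgroup.zpowers c) (Subgroup.zpowers z)
        (by rw [Subgroup.zpowers_le]; exact hc) (by rw [Subgroup.zpowers_le]; exact hzA)
        with h | h
      · exact Subgroup.eq_of_le_of_card_ge h (by rw [Nat.card_zpowers, Nat.card_zpowers, hoc, hoz])
      · exact (Subgroup.eq_of_le_of_card_ge h
          (by rw [Nat.card_zpowers, Nat.card_zpowers, hoc, hoz])).symm
    have h1 : c ∈ Subgroup.zpowers z := by rw [← hcz]; exact Subgroup.mem_zpowers c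
    rw [← mem_powers_iff_mem_zpowers, mem_powers_iff_mem_range_orderOf, hoz] at h1
    simp only [Finset.mem_image, Finset.mem_range] at h1
    obtain ⟨i, hi, rfl⟩ := h1
    interval_cases i
    · simp at hc1
    · simp
  -- centre
  set Z := Subgroup.center G with hZ
  have hZA : Z ≤ A := center_le_of_abelian_index_two A hCi hab hnab
  have hZmem : ∀ c ∈ A, x * c = c * x → c ∈ Z := fun c hc h =>
    mem_center_of_abelian_index_two A hCi hab x hx c hc h
  have hZc : ∀ c ∈ Z, ∀ g : G, g * c = c * g := fun c hc g => Subgroup.mem_center_iff.mp hc g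
  have haZ : a ∉ Z := by
    intro h
    apply hnab
    have h1 : A ≤ Z := by rw [hA, Subgroup.zpowers_le]; exact h
    -- G = A ∪ xA all commute
    refine ⟨⟨fun u v => ?_⟩⟩
    have key : ∀ g : G, ∃ c ∈ Z, g = c ∨ g = x * c := by
      intro g
      by_cases hg : g ∈ A
      · exact ⟨g, h1 hg, Or.inl rfl⟩
      · exact ⟨x⁻¹ * g, h1 (decomp_of_index_two A hCi x g hx hg), Or.inr (by group)⟩
    obtain ⟨c₁, hc₁, h₁ | h₁⟩ := key u <;> obtain ⟨c₂, hc₂, h₂ | h₂⟩ := key v <;> rw [h₁, h₂]
    · exact hZc c₂ hc₂ c₁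
    · exact (hZc c₁ hc₁ (x * c₂)).symm
    · exact hZc c₂ hc₂ (x * c₁)
    · calc x * c₁ * (x * c₂) = x * (c₁ * x) * c₂ := by group
        _ = x * (x * c₁) * c₂ := by rw [← hZc c₁ hc₁ x]
        _ = x * x * (c₁ * c₂) := by group
        _ = x * x * (c₂ * c₁) := by rw [hZc c₂ hc₂ c₁]
        _ = x * (x * c₂) * c₁ := by group
        _ = x * (c₂ * x) * c₁ := by rw [hZc c₂ hc₂ x]
        _ = x * c₂ * (x * c₁) := by group
  have hxx : x * x ∈ A := (Subgroup.mul_mem_iff_of_index_two hCi).mpr Iff.rfl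
  have hxxZ : x * x ∈ Z := hZmem _ hxx (by group)
  -- the norm map
  have hconjA : ∀ c ∈ A, x * c * x⁻¹ ∈ A := fun c hc => hAn.conj_mem c hc x
  have hN : ∀ c ∈ A, c * (x * c * x⁻¹) ∈ Z := by
    intro c hc
    have h1 := hconjA c hc
    apply hZmem _ (A.mul_mem hc h1)
    have h4 := hab _ hxx c hc
    have h5 := hab _ h1 c hc
    calc x * (c * (x * c * x⁻¹)) = (x * c * x⁻¹) * (x * x * c) * (x * x)⁻¹ * x := by group
      _ = (x * c * x⁻¹) * (c * (x * x)) * (x * x)⁻¹ * x := by rw [h4]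
      _ = (x * c * x⁻¹ * c) * x := by group
      _ = c * (x * c * x⁻¹) * x := by rw [h5]
  have hsq : ∀ c ∈ A, (x * c) ^ 2 = c * (x * c * x⁻¹) * (x * x) := by
    intro c hc
    have h4 := hab _ hxx c hc
    have h5 := hab _ (hconjA c hc) c hc
    calc (x * c) ^ 2 = (x * c * x⁻¹) * (x * x * c) := by rw [pow_two]; group
      _ = (x * c * x⁻¹) * (c * (x * x)) := by rw [h4]
      _ = (x * c * x⁻¹ * c) * (x * x) := by group
      _ = c * (x * c * x⁻¹) * (x * x) := by rw [h5]
  have hNpow : ∀ j : ℤ, (a ^ j) * (x * a ^ j * x⁻¹) = (a * (x * a * x⁻¹)) ^ j := by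
    intro j
    have h1 : x * a ^ j * x⁻¹ = (x * a * x⁻¹) ^ j := by
      rw [← MulAut.conj_apply, map_zpow, MulAut.conj_apply]
    rw [h1]
    exact ((show Commute a (x * a * x⁻¹) from (hab _ (hconjA a haA) a haA).symm).mul_zpow j).symm
  set d := a * (x * a * x⁻¹) with hd
  have hdZ : d ∈ Z := hN a haA
  -- construct b from surjectivity of the norm onto ⟨d⟩
  have hbuild : (x * x)⁻¹ ∈ Subgroup.zpowers d →
      ∃ b : G, b ∉ A ∧ b ^ 2 = 1 ∧ b * a * b⁻¹ = x * a * x⁻¹ := by
    intro h
    obtain ⟨j, hj⟩ := Subgroup.mem_zpowers_iff.mp h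
    refine ⟨x * a ^ j, ?_, ?_, ?_⟩
    · intro hb
      apply hx
      have h1 : x = (x * a ^ j) * (a ^ j)⁻¹ := by group
      rw [h1]
      exact A.mul_mem hb (A.inv_mem (A.zpow_mem haA j))
    · rw [hsq _ (A.zpow_mem haA j), hNpow, hj]; group
    · have h1 := hab _ (A.zpow_mem haA j) a haA
      calc x * a ^ j * a * (x * a ^ j)⁻¹ = x * (a ^ j * a) * (a ^ j)⁻¹ * x⁻¹ := by group
        _ = x * (a * a ^ j) * (a ^ j)⁻¹ * x⁻¹ := by rw [h1]
        _ = x * a * x⁻¹ := by group
  have hZcardle : Nat.card Z ∣ 2 ^ (n - 1) := by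
    rw [← hcardA]; exact Subgroup.card_dvd_of_le hZA
  obtain ⟨k, hk, hkZ⟩ := (Nat.dvd_prime_pow Nat.prime_two).mp hZcardle
  have hnt : Nontrivial G := by
    rw [← Finite.one_lt_card_iff_nontrivial, hG]
    exact Nat.one_lt_pow (by omega) (by norm_num)
  have hZ0 : Z ≠ ⊥ := (hGp.bot_lt_center).ne'
  have hk0 : k ≠ 0 := by
    intro h
    rw [h, pow_zero] at hkZ
    exact hZ0 (Subgroup.card_eq_one.mp hkZ)
  have hcardform := card_of_abelian_index_two A hCi hab hnab
  by_cases hk1 : k = 1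
  · -- |Z| = 2
    rw [hk1, pow_one] at hkZ
    obtain ⟨z', hz'Z, hz'1, hz'2, hz'all⟩ := exists_of_card_two Z hkZ
    have hz'z : z' = z := by
      rcases hF1 z' (hZA hz'Z) hz'2 with h | h
      · exact absurd h hz'1
      · exact h
    rw [hz'z] at hz'all hz'Z
    rcases hz'all d hdZ with hd1 | hdz
    · -- d = 1 : x inverts a
      have hinv : x * a * x⁻¹ = a⁻¹ := eq_inv_of_mul_eq_one_right hd1
      refine ⟨a, x, hord, hx, ?_⟩
      rcases hz'all (x * x) hxxZ with h | h
      · left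
        exact ⟨by rw [pow_two]; exact h, hinv⟩
      · right; left
        exact ⟨by rw [pow_two]; exact h, hinv⟩
    · -- d = z : semidihedral
      have hconj : x * a * x⁻¹ = a⁻¹ * z := by
        calc x * a * x⁻¹ = a⁻¹ * (a * (x * a * x⁻¹)) := by group
          _ = a⁻¹ * z := by rw [← hd, hdz]
      have hn4 : 4 ≤ n := by
        by_contra hlt
        have hn3 : n = 3 := by omega
        apply haZ
        apply hZmem a haA
        have h1 : z = a ^ 2 := by rw [hz, hn3]; norm_num
        have h2 : x * a * x⁻¹ = a := by rw [hconj, h1]; group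
        calc x * a = (x * a * x⁻¹) * x := by group
          _ = a * x := by rw [h2]
      have hmem : (x * x)⁻¹ ∈ Subgroup.zpowers d := by
        rcases hz'all (x * x) hxxZ with h | h
        · rw [h, inv_one]; exact Subgroup.one_mem _
        · rw [h, hdz]; exact Subgroup.inv_mem _ (Subgroup.mem_zpowers z)
      obtain ⟨b, hbA, hb2, hba⟩ := hbuild hmem
      refine ⟨a, b, hord, hbA, Or.inr (Or.inr (Or.inr ⟨hn4, hb2, ?_⟩))⟩
      rw [hba, hconj]
      have h3 : 2 ^ (n - 2) - 1 + 1 = 2 ^ (n - 2) := Nat.sub_add_cancel Nat.one_le_two_pow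
      have h4 : a ^ (2 ^ (n - 2) - 1) * a = z := by rw [← pow_succ, h3]
      calc a⁻¹ * z = a⁻¹ * (a ^ (2 ^ (n - 2) - 1) * a) := by rw [h4]
        _ = a⁻¹ * (a * a ^ (2 ^ (n - 2) - 1)) := by rw [← pow_succ, ← pow_succ']
        _ = a ^ (2 ^ (n - 2) - 1) := by group
  · -- |Z| ≥ 4 : modular
    have hk2 : 2 ≤ k := by omega
    have hAc : IsCyclic A := by rw [hA]; infer_instance
    have hAp : IsPGroup 2 A := hGp.to_subgroup A
    -- k ≤ n - 2
    have hkn : k ≤ n - 2 := by
      by_contra hlt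
      have hk' : k = n - 1 := by omega
      apply haZ
      have h1 : Z = A := Subgroup.eq_of_le_of_card_ge hZA (by rw [hkZ, hcardA, hk'])
      rw [h1]; exact haA
    have hn4 : 4 ≤ n := by omega
    -- |G'| = 2^(n-1-k)
    have hcardD : Nat.card (commutator G) = 2 ^ (n - 1 - k) := by
      rw [hG, ← hZ, hkZ, hpow2] at hcardform
      have h1 : 2 ^ (n - 1) = 2 ^ k * 2 ^ (n - 1 - k) := by rw [← pow_add]; congr 1; omega
      rw [h1] at hcardform
      have h2 : 2 ^ k * (2 ^ (n - 1 - k) * 2) = 2 ^ k * (Nat.card (commutator G) * 2) := by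
        rw [← mul_assoc, hcardform]; ring
      have h3 := Nat.eq_of_mul_eq_mul_left (show 0 < 2 ^ k by positivity) h2
      omega
    set w := x * a * x⁻¹ * a⁻¹ with hw
    have hwA : w ∈ A := A.mul_mem (hconjA a haA) (A.inv_mem haA)
    have hwD : w ∈ commutator G := by
      rw [commutator_def, hw, ← commutatorElement_def]
      exact Subgroup.commutator_mem_commutator (Subgroup.mem_top x) (Subgroup.mem_top a)
    have ho4 : orderOf (a ^ 4) = 2 ^ (n - 3) := by
      rw [orderOf_pow_of_dvd (by norm_num), hord]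
      · have h1 : 2 ^ (n - 1) = 4 * 2 ^ (n - 3) := by
          have : n - 1 = 2 + (n - 3) := by omega
          rw [this, pow_add]; norm_num
        rw [h1, Nat.mul_div_cancel_left _ (by norm_num)]
      · rw [hord]
        have : (4 : ℕ) = 2 ^ 2 := by norm_num
        rw [this]
        exact pow_dvd_pow 2 (by omega)
    have ho2 : orderOf (a ^ 2) = 2 ^ (n - 2) := by
      rw [orderOf_pow_of_dvd (by norm_num), hord, hM2, Nat.mul_div_cancel_left _ (by norm_num)]
      rw [hord, hM2]; exact dvd_mul_right 2 _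
    have hwH4 : w ∈ Subgroup.zpowers (a ^ 4) := by
      have hle : Subgroup.zpowers w ≤ Subgroup.zpowers (a ^ 4) := by
        rcases Cfsg.Agent.Lib.Helper6_CyclicP.le_total_of_cyclic A hAc hAp
          (Subgroup.zpowers w) (Subgroup.zpowers (a ^ 4))
          (by rw [Subgroup.zpowers_le]; exact hwA)
          (by rw [Subgroup.zpowers_le]; exact A.pow_mem haA 4) with h | h
        · exact h
        · have h1 : Nat.card (Subgroup.zpowers w) ≤ 2 ^ (n - 3) := by
            have h2 : Subgroup.zpowers w ≤ commutator G := by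
              rw [Subgroup.zpowers_le]; exact hwD
            calc Nat.card (Subgroup.zpowers w) ≤ Nat.card (commutator G) :=
                  Subgroup.card_le_of_le h2
              _ = 2 ^ (n - 1 - k) := hcardD
              _ ≤ 2 ^ (n - 3) := Nat.pow_le_pow_right (by norm_num) (by omega)
          exact (Subgroup.eq_of_le_of_card_ge h (by rw [Nat.card_zpowers (a ^ 4), ho4]; exact h1)).ge
      exact hle (Subgroup.mem_zpowers w)
    have hd' : d = a ^ 2 * w := by
      rw [hd, hw, pow_two]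
      have h1 := hab _ (hconjA a haA) a haA
      calc a * (x * a * x⁻¹) = a * ((x * a * x⁻¹) * a) * a⁻¹ := by group
        _ = a * (a * (x * a * x⁻¹)) * a⁻¹ := by rw [h1]
        _ = a * a * (x * a * x⁻¹ * a⁻¹) := by group
    have hcomm2w : Commute (a ^ 2) w := hab _ (A.pow_mem haA 2) w hwA
    have hw8 : w ^ (2 ^ (n - 3)) = 1 := by
      have h1 : orderOf w ∣ orderOf (a ^ 4) := orderOf_dvd_of_mem_zpowers hwH4
      rw [ho4] at h1
      exact orderOf_dvd_iff_pow_eq_one.mp h1
    have hdz : d ^ (2 ^ (n - 3)) = z := by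
      rw [hd', hcomm2w.mul_pow, hw8, mul_one, ← pow_mul, hz]
      congr 1
      have : n - 2 = 1 + (n - 3) := by omega
      rw [this, pow_add]; norm_num
    have hod : orderOf d = 2 ^ (n - 2) := by
      have h1 : d ^ (2 ^ (n - 2)) = 1 := by
        have h2 : n - 2 = (n - 3) + 1 := by omega
        rw [h2, pow_succ, pow_mul, hdz]; exact hz2
      obtain ⟨j, hj, hj'⟩ := (Nat.dvd_prime_pow Nat.prime_two).mp (orderOf_dvd_of_pow_eq_one h1)
      by_contra hne
      have hj3 : j ≤ n - 3 := by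
        by_contra hlt
        apply hne
        rw [hj']; congr 1; omega
      have h3 : orderOf d ∣ 2 ^ (n - 3) := by rw [hj']; exact pow_dvd_pow 2 hj3
      have h4 := orderOf_dvd_iff_pow_eq_one.mp h3
      rw [hdz] at h4
      exact hz1 h4
    have hdz2 : Subgroup.zpowers d = Subgroup.zpowers (a ^ 2) := by
      apply Subgroup.eq_of_le_of_card_ge
      · rw [Subgroup.zpowers_le, hd']
        apply Subgroup.mul_mem _ (Subgroup.mem_zpowers _)
        have h1 : Subgroup.zpowers (a ^ 4) ≤ Subgroup.zpowers (a ^ 2) := by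
          rw [Subgroup.zpowers_le]
          have : a ^ 4 = (a ^ 2) ^ 2 := by rw [← pow_mul]
          rw [this]
          exact Subgroup.pow_mem _ (Subgroup.mem_zpowers _) 2
        exact h1 hwH4
      · rw [Nat.card_zpowers, Nat.card_zpowers, hod, ho2]
    have ha2Z : a ^ 2 ∈ Z := by
      have h1 : Subgroup.zpowers d ≤ Z := by rw [Subgroup.zpowers_le]; exact hdZ
      rw [hdz2] at h1
      exact h1 (Subgroup.mem_zpowers _)
    have hconj : x * a * x⁻¹ = w * a := by rw [hw]; group
    have hw2 : w ^ 2 = 1 := by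
      have h1 : x * a ^ 2 * x⁻¹ = a ^ 2 := by rw [hZc _ ha2Z x]; group
      have h2 : x * a ^ 2 * x⁻¹ = (w * a) ^ 2 := by
        rw [← hconj, ← MulAut.conj_apply, map_pow, MulAut.conj_apply]
      rw [h1, (show Commute w a from hab w hwA a haA).mul_pow] at h2
      exact (mul_eq_right.mp h2.symm)
    have hwz : w = z := by
      rcases hF1 w hwA hw2 with h | h
      · exfalso
        apply haZ
        apply hZmem a haA
        rw [h, one_mul] at hconj
        calc x * a = (x * a * x⁻¹) * x := by group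
          _ = a * x := by rw [hconj]
      · exact h
    have hZle : Z ≤ Subgroup.zpowers (a ^ 2) := by
      rcases Cfsg.Agent.Lib.Helper6_CyclicP.le_total_of_cyclic A hAc hAp
        Z (Subgroup.zpowers (a ^ 2)) hZA
        (by rw [Subgroup.zpowers_le]; exact A.pow_mem haA 2) with h | h
      · exact h
      · refine (Subgroup.eq_of_le_of_card_ge h ?_).ge
        rw [Nat.card_zpowers, ho2, hkZ]
        exact Nat.pow_le_pow_right (by norm_num) hkn
    have hmem : (x * x)⁻¹ ∈ Subgroup.zpowers d := by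
      rw [hdz2]
      exact Subgroup.inv_mem _ (hZle hxxZ)
    obtain ⟨b, hbA, hb2, hba⟩ := hbuild hmem
    refine ⟨a, b, hord, hbA, Or.inr (Or.inr (Or.inl ⟨hn4, hb2, ?_⟩))⟩
    rw [hba, hconj, hwz, hz, ← pow_succ, add_comm]

end Cfsg.Agent.S0646
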