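import Cfsg.Statements.S0647
import Mathlib

set_option autoImplicit false
open Cfsg

namespace Cfsg.Agent.S0647

/-- For a nonempty family of maximal abelian subgroups of a finite group, the intersection of the family is the centre of the subgroup it generates, which is also the full centralizer of that subgroup. -/
theorem result {S : Type*} [Group S] [Finite S] (𝒜 : Set (Subgroup S)) (hne : 𝒜.Nonempty) (hab : ∀ A ∈ 𝒜, IsMulCommutative A) (hmax : ∀ A ∈ 𝒜, ∀ B : Subgroup S, IsMulCommutative B → A ≤ B → B = A) : sInf 𝒜 = sSup 𝒜 ⊓ Subgroup.centralizer ((sSup 𝒜 : Subgroup S) : Set S) ∧ sInf 𝒜 = Subgroup.centralizer ((sSup 𝒜 : Subgroup S) : Set S) := by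
  have hcommA : ∀ A ∈ 𝒜, ∀ x ∈ A, ∀ y ∈ A, x * y = y * x := by
    intro A hA x hx y hy
    have := hab A hA
    exact congrArg Subtype.val (mul_comm' (⟨x, hx⟩ : A) ⟨y, hy⟩)
  -- (a) C(J) ≤ I
  have ha : Subgroup.centralizer ((sSup 𝒜 : Subgroup S) : Set S) ≤ sInf 𝒜 := by
    intro x hx
    rw [Subgroup.mem_sInf]
    intro A hA
    have hxA : ∀ a ∈ A, a * x = x * a := fun a haA =>
      (Subgroup.mem_centralizer_iff.mp hx) a ((le_sSup hA : A ≤ sSup 𝒜) haA)
    have hcl : IsMulCommutative (Subgroup.closure ((A : Set S) ∪ {x})) := by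
      apply Subgroup.isMulCommutative_closure
      intro a haa b hbb
      rcases haa with haa | haa <;> rcases hbb with hbb | hbb
      · exact hcommA A hA a haa b hbb
      · rw [Set.mem_singleton_iff] at hbb; subst hbb
        exact hxA a haa
      · rw [Set.mem_singleton_iff] at haa; subst haa
        exact (hxA b hbb).symm
      · rw [Set.mem_singleton_iff] at haa hbb; subst haa; subst hbb; rfl
    have hle : A ≤ Subgroup.closure ((A : Set S) ∪ {x}) :=
      fun a haA => Subgroup.subset_closure (Or.inl haA)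
    have := hmax A hA _ hcl hle
    rw [← this]
    exact Subgroup.subset_closure (Or.inr rfl)
  -- (b)
  have hb1 : sInf 𝒜 ≤ sSup 𝒜 := by
    obtain ⟨A, hA⟩ := hne
    exact (sInf_le hA).trans (le_sSup hA)
  have hb2 : sInf 𝒜 ≤ Subgroup.centralizer ((sSup 𝒜 : Subgroup S) : Set S) := by
    intro x hx
    rw [Subgroup.mem_sInf] at hx
    have hle : sSup 𝒜 ≤ Subgroup.centralizer ({x} : Set S) := by
      apply sSup_le
      intro A hA a haA
      rw [Subgroup.mem_centralizer_iff]
      intro y hy
      rw [Set.mem_singleton_iff] at hy; subst hy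
      exact hcommA A hA y (hx A hA) a haA
    rw [Subgroup.mem_centralizer_iff]
    intro y hy
    have := (Subgroup.mem_centralizer_iff.mp (hle hy)) x rfl
    exact this.symm
  refine ⟨le_antisymm (le_inf hb1 hb2) (inf_le_right.trans ha), le_antisymm hb2 ha⟩

end Cfsg.Agent.S0647
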