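import Cfsg.Statements.S0648
import Mathlib
import Cfsg.Agent.Lib.Lead_Coprime

set_option autoImplicit false
open Cfsg

namespace Cfsg.Agent.S0648

open scoped commutatorElement

variable {G : Type*} [Group G]

theorem comm_mul_left (x y z : G) : ⁅x * y, z⁆ = x * ⁅y, z⁆ * x⁻¹ * ⁅x, z⁆ := by
  simp only [commutatorElement_def]; group

theorem comm_mul_right (x y z : G) : ⁅x, y * z⁆ = ⁅x, y⁆ * (y * ⁅x, z⁆ * y⁻¹) := by
  simp only [commutatorElement_def]; group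

theorem conj_comm (a x y : G) : a * ⁅x, y⁆ * a⁻¹ = ⁅a * x * a⁻¹, a * y * a⁻¹⁆ := by
  simp only [commutatorElement_def]; group

/-- the commutator-calculus core: if the commutators `⁅d₁, d₂⁆` of elements of a subgroup `D`
commute with `D` and `⁅x, y⁆ ^ 2 = 1` for generators, then all elements of `⁅D, D⁆` square to one -/
theorem sq_eq_one_of_gens (X : Set G) (hcent : ∀ w ∈ ⁅Subgroup.closure X, Subgroup.closure X⁆,
      ∀ d ∈ Subgroup.closure X, d * w = w * d)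
    (hX : ∀ x ∈ X, ∀ y ∈ X, ⁅x, y⁆ ^ 2 = 1) :
    ∀ w ∈ ⁅Subgroup.closure X, Subgroup.closure X⁆, w ^ 2 = 1 := by
  set D := Subgroup.closure X with hD
  have hmem : ∀ d₁ ∈ D, ∀ d₂ ∈ D, ⁅d₁, d₂⁆ ∈ ⁅D, D⁆ := fun d₁ h₁ d₂ h₂ =>
    Subgroup.commutator_mem_commutator h₁ h₂
  -- step A
  have stepA : ∀ x ∈ X, ∀ d ∈ D, ⁅x, d⁆ ^ 2 = 1 := by
    intro x hx d hd
    induction hd using Subgroup.closure_induction with
    | mem y hy => exact hX x hx y hy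
    | one => simp
    | mul y z hy hz ihy ihz =>
      have hxD : x ∈ D := Subgroup.subset_closure hx
      rw [comm_mul_right]
      have h1 : y * ⁅x, z⁆ * y⁻¹ = ⁅x, z⁆ := by
        rw [hcent _ (hmem x hxD z hz) y hy]; group
      rw [h1]
      have h2 : Commute ⁅x, y⁆ ⁅x, z⁆ := by
        have := hcent _ (hmem x hxD z hz) _ ((Subgroup.commutator_le_self D) (hmem x hxD y hy))
        exact this
      rw [h2.mul_pow, ihy, ihz, one_mul]
    | inv y hy ihy =>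
      have hxD : x ∈ D := Subgroup.subset_closure hx
      have h1 : ⁅x, y⁻¹⁆ = y⁻¹ * (⁅x, y⁆)⁻¹ * y := by
        simp only [commutatorElement_def]; group
      have h2 : y⁻¹ * (⁅x, y⁆)⁻¹ * y = (⁅x, y⁆)⁻¹ := by
        have h3 := hcent _ (Subgroup.inv_mem _ (hmem x hxD y hy)) y⁻¹ (Subgroup.inv_mem _ hy)
        rw [h3]; group
      rw [h1, h2, inv_pow, ihy, inv_one]
  -- step B
  have stepB : ∀ d' ∈ D, ∀ d ∈ D, ⁅d', d⁆ ^ 2 = 1 := by
    intro d' hd' d hd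
    induction hd' using Subgroup.closure_induction with
    | mem y hy => exact stepA y hy d hd
    | one => simp
    | mul y z hy hz ihy ihz =>
      rw [comm_mul_left]
      have h1 : y * ⁅z, d⁆ * y⁻¹ = ⁅z, d⁆ := by
        rw [hcent _ (hmem z hz d hd) y hy]; group
      rw [h1]
      have h2 : Commute ⁅z, d⁆ ⁅y, d⁆ := by
        have := hcent _ (hmem y hy d hd) _ ((Subgroup.commutator_le_self D) (hmem z hz d hd))
        exact this
      rw [h2.mul_pow, ihy, ihz, one_mul]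
    | inv y hy ihy =>
      have h1 : ⁅y⁻¹, d⁆ = y⁻¹ * (⁅y, d⁆)⁻¹ * y := by
        simp only [commutatorElement_def]; group
      have h2 : y⁻¹ * (⁅y, d⁆)⁻¹ * y = (⁅y, d⁆)⁻¹ := by
        have h3 := hcent _ (Subgroup.inv_mem _ (hmem y hy d hd)) y⁻¹ (Subgroup.inv_mem _ hy)
        rw [h3]; group
      rw [h1, h2, inv_pow, ihy, inv_one]
  intro w hw
  rw [Subgroup.commutator_def] at hw
  induction hw using Subgroup.closure_induction with
  | mem y hy =>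
    obtain ⟨d₁, h₁, d₂, h₂, rfl⟩ := hy
    exact stepB d₁ h₁ d₂ h₂
  | one => simp
  | mul y z hy hz ihy ihz =>
    have hy' : y ∈ ⁅D, D⁆ := by rw [Subgroup.commutator_def]; exact hy
    have hz' : z ∈ ⁅D, D⁆ := by rw [Subgroup.commutator_def]; exact hz
    have h2 : Commute y z := hcent z hz' y ((Subgroup.commutator_le_self D) hy')
    rw [h2.mul_pow, ihy, ihz, one_mul]
  | inv y hy ihy => rw [inv_pow, ihy, inv_one]

/-- If A acts on B centralizing [B, B], then [B, A] has derived subgroup central in B, and for abelian A and b ∈ B with [[b, A], A, A] = 1 the derived subgroup of the subgroup [b, A] generated by the commutators of b with A has exponent dividing 2. -/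
theorem result {G : Type*} [Group G] [Finite G] (A B : Subgroup G) (hAB : A ≤ Subgroup.normalizer (B : Set G)) (hc : ⁅⁅B, B⁆, A⁆ = ⊥) : ⁅⁅B, A⁆, ⁅B, A⁆⁆ ≤ B ⊓ Subgroup.centralizer (B : Set G) ∧ (IsMulCommutative A → ∀ b ∈ B, ⁅⁅(Subgroup.closure {g : G | ∃ a ∈ A, g = b⁻¹ * a * b * a⁻¹}), A⁆, A⁆ = ⊥ → ∀ w ∈ ⁅(Subgroup.closure {g : G | ∃ a ∈ A, g = b⁻¹ * a * b * a⁻¹}), (Subgroup.closure {g : G | ∃ a ∈ A, g = b⁻¹ * a * b * a⁻¹})⁆, w ^ 2 = 1) := by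
  classical
  set C : Subgroup G := ⁅B, A⁆ with hC
  have hCB : C ≤ B := Cfsg.Agent.Lib.Lead_Coprime.commutator_le_of_le_normalizer B A hAB
  -- `C` centralizes `⁅B, B⁆`
  have h1 : ⁅⁅A, B⁆, ⁅B, B⁆⁆ = ⊥ := by
    apply Subgroup.commutator_commutator_eq_bot_of_rotate
    · rw [eq_bot_iff, ← hc]
      apply Subgroup.commutator_mono _ le_rfl
      exact Subgroup.commutator_mono le_rfl (Subgroup.commutator_le_self B)
    · rw [hc]
      rw [eq_bot_iff, Subgroup.commutator_le]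
      intro x hx y _
      rw [Subgroup.mem_bot] at hx
      rw [hx, Subgroup.mem_bot]
      simp
  have hCB' : ⁅C, ⁅B, B⁆⁆ = ⊥ := by rw [hC, Subgroup.commutator_comm B A]; exact h1
  -- `⁅C, C⁆` centralizes `B`
  have h2 : ⁅⁅C, C⁆, B⁆ = ⊥ := by
    have h3 : ⁅⁅C, B⁆, C⁆ = ⊥ := by
      rw [eq_bot_iff, ← hCB', Subgroup.commutator_comm C ⁅B, B⁆]
      exact Subgroup.commutator_mono (Subgroup.commutator_mono hCB le_rfl) le_rfl
    apply Subgroup.commutator_commutator_eq_bot_of_rotate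
    · exact h3
    · rw [Subgroup.commutator_comm B C]; exact h3
  have hpart1 : ⁅C, C⁆ ≤ B ⊓ Subgroup.centralizer (B : Set G) :=
    le_inf ((Subgroup.commutator_le_self C).trans hCB)
      (Subgroup.commutator_eq_bot_iff_le_centralizer.mp h2)
  refine ⟨hpart1, ?_⟩
  intro hAcomm b hb hcub
  -- elementwise facts
  have hcentB : ∀ w ∈ ⁅C, C⁆, ∀ g ∈ B, g * w = w * g := by
    intro w hw g hg
    exact Subgroup.mem_centralizer_iff.mp (hpart1 hw).2 g hg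
  have hCcentB' : ∀ x ∈ C, ∀ c ∈ ⁅B, B⁆, x * c = c * x := by
    intro x hx c hc'
    have := Subgroup.commutator_eq_bot_iff_le_centralizer.mp hCB' hx
    exact (Subgroup.mem_centralizer_iff.mp this c hc').symm
  have hAfixB' : ∀ c ∈ ⁅B, B⁆, ∀ a ∈ A, a * c * a⁻¹ = c := by
    intro c hc' a ha
    have := Subgroup.commutator_eq_bot_iff_le_centralizer.mp hc hc'
    have h3 := Subgroup.mem_centralizer_iff.mp this a ha
    rw [h3]; group
  have hAcomm' : ∀ a ∈ A, ∀ a' ∈ A, a * a' = a' * a := by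
    intro a ha a' ha'
    have := hAcomm.is_comm.comm ⟨a, ha⟩ ⟨a', ha'⟩
    exact congrArg Subtype.val this
  set X : Set G := {g : G | ∃ a ∈ A, g = b⁻¹ * a * b * a⁻¹} with hX
  set D : Subgroup G := Subgroup.closure X with hD
  have hconjB : ∀ a ∈ A, ∀ g ∈ B, a * g * a⁻¹ ∈ B := fun a ha g hg =>
    (Subgroup.mem_normalizer_iff.mp (hAB ha) g).mp hg
  have hXC : ∀ a ∈ A, b⁻¹ * a * b * a⁻¹ ∈ C := by
    intro a ha
    have : b⁻¹ * a * b * a⁻¹ = ⁅b⁻¹, a⁆ := by rw [commutatorElement_def]; group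
    rw [this]
    exact Subgroup.commutator_mem_commutator (B.inv_mem hb) ha
  have hDC : D ≤ C := by
    rw [hD, Subgroup.closure_le]
    rintro _ ⟨a, ha, rfl⟩
    exact hXC a ha
  have hXD : ∀ a ∈ A, b⁻¹ * a * b * a⁻¹ ∈ D := fun a ha => Subgroup.subset_closure ⟨a, ha, rfl⟩
  have hEfix : ∀ e ∈ ⁅D, A⁆, ∀ a ∈ A, a * e * a⁻¹ = e := by
    intro e he a ha
    have := Subgroup.commutator_eq_bot_iff_le_centralizer.mp hcub he
    have h3 := Subgroup.mem_centralizer_iff.mp this a ha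
    rw [h3]; group
  -- L1
  have L1 : ∀ δ ∈ B, (∀ a ∈ A, a * δ * a⁻¹ = δ) → ∀ a ∈ A, ⁅δ, b⁻¹ * a * b * a⁻¹⁆ = 1 := by
    intro δ hδB hδ a ha
    have hcB' : ⁅δ, b⁆ ∈ ⁅B, B⁆ := Subgroup.commutator_mem_commutator hδB hb
    have h3 := hAfixB' _ hcB' a ha
    rw [conj_comm, hδ a ha] at h3
    have h4 : a * b * a⁻¹ = b * (b⁻¹ * a * b * a⁻¹) := by group
    rw [h4, comm_mul_right] at h3
    have h5 : b * ⁅δ, b⁻¹ * a * b * a⁻¹⁆ * b⁻¹ = 1 := by
      have := congrArg (fun t => (⁅δ, b⁆)⁻¹ * t) h3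
      simpa using this
    have h6 : ⁅δ, b⁻¹ * a * b * a⁻¹⁆ = b⁻¹ * (b * ⁅δ, b⁻¹ * a * b * a⁻¹⁆ * b⁻¹) * b := by group
    rw [h6, h5]; group
  -- L2
  have L2 : ∀ a ∈ A, ∀ a'' ∈ A,
      ⁅(b⁻¹ * a * b * a⁻¹)⁻¹ * (a'' * (b⁻¹ * a * b * a⁻¹) * a''⁻¹), b⁆ =
        (⁅b⁻¹ * a * b * a⁻¹, b⁻¹ * a'' * b * a''⁻¹⁆)⁻¹ := by
    intro a ha a'' ha''
    set x := b⁻¹ * a * b * a⁻¹ with hx
    set v := b⁻¹ * a'' * b * a''⁻¹ with hv
    set δ := x⁻¹ * (a'' * x * a''⁻¹) with hδ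
    have hxC : x ∈ C := hXC a ha
    have hxB : x ∈ B := hCB hxC
    have hvC : v ∈ C := hXC a'' ha''
    have hxD : x ∈ D := hXD a ha
    have hδB : δ ∈ B := B.mul_mem (B.inv_mem hxB) (hconjB a'' ha'' x hxB)
    have hδE : δ ∈ ⁅D, A⁆ := by
      have : δ = ⁅x⁻¹, a''⁆ := by rw [hδ, commutatorElement_def]; group
      rw [this]
      exact Subgroup.commutator_mem_commutator (D.inv_mem hxD) ha''
    have hδv : ⁅δ, v⁆ = 1 := L1 δ hδB (hEfix δ hδE) a'' ha''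
    have hg : ⁅x, b⁆ ∈ ⁅B, B⁆ := Subgroup.commutator_mem_commutator hxB hb
    have h3 := hAfixB' _ hg a'' ha''
    rw [conj_comm] at h3
    have h4 : a'' * b * a''⁻¹ = b * v := by rw [hv]; group
    have h5 : a'' * x * a''⁻¹ = x * δ := by rw [hδ]; group
    rw [h4, h5, comm_mul_left, comm_mul_right δ b v, hδv, comm_mul_right x b v] at h3
    have hδb : ⁅δ, b⁆ ∈ ⁅B, B⁆ := Subgroup.commutator_mem_commutator hδB hb
    have h6 : x * (⁅δ, b⁆ * (b * 1 * b⁻¹)) * x⁻¹ = ⁅δ, b⁆ := by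
      rw [mul_one, mul_inv_cancel, mul_one, hCcentB' x hxC _ hδb]; group
    have hxv : ⁅x, v⁆ ∈ ⁅C, C⁆ := Subgroup.commutator_mem_commutator hxC hvC
    have h7 : b * ⁅x, v⁆ * b⁻¹ = ⁅x, v⁆ := by rw [hcentB _ hxv b hb]; group
    rw [h6, h7] at h3
    -- `⁅δ,b⁆ * (⁅x,b⁆ * ⁅x,v⁆) = ⁅x,b⁆`
    have h8 : ⁅x, b⁆ * ⁅x, v⁆ = ⁅x, v⁆ * ⁅x, b⁆ :=
      hcentB _ hxv _ ((Subgroup.commutator_le_self B) hg)
    rw [h8, ← mul_assoc] at h3
    have h9 : ⁅δ, b⁆ * ⁅x, v⁆ = 1 := by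
      have := congrArg (fun t => t * (⁅x, b⁆)⁻¹) h3
      simpa using this
    exact eq_inv_of_mul_eq_one_left h9
  -- L3
  have L3 : ∀ x ∈ X, ∀ y ∈ X, ⁅x, y⁆ ^ 2 = 1 := by
    rintro _ ⟨a, ha, rfl⟩ _ ⟨a', ha', rfl⟩
    set x := b⁻¹ * a * b * a⁻¹ with hx
    set y := b⁻¹ * a' * b * a'⁻¹ with hy
    set t := x⁻¹ * (a' * x * a'⁻¹) with ht
    set s := y⁻¹ * (a * y * a⁻¹) with hs
    have hxC : x ∈ C := hXC a ha
    have hyC : y ∈ C := hXC a' ha'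
    have hxB : x ∈ B := hCB hxC
    have hyB : y ∈ B := hCB hyC
    have ht1 : ⁅t, b⁆ = (⁅x, y⁆)⁻¹ := L2 a ha a' ha'
    have hs1 : ⁅s, b⁆ = (⁅y, x⁆)⁻¹ := L2 a' ha' a ha
    have hs2 : ⁅s, b⁆ = ⁅x, y⁆ := by rw [hs1, commutatorElement_inv]
    -- the cocycle identity
    have hcoc : x * (a * y * a⁻¹) = y * (a' * x * a'⁻¹) := by
      have e1 : x * (a * y * a⁻¹) = b⁻¹ * (a * a') * b * (a * a')⁻¹ := by rw [hx, hy]; group
      have e2 : y * (a' * x * a'⁻¹) = b⁻¹ * (a' * a) * b * (a' * a)⁻¹ := by rw [hx, hy]; group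
      rw [e1, e2, hAcomm' a ha a' ha']
    have hts : t = ⁅x⁻¹, y⁻¹⁆ * s := by
      have e1 : a' * x * a'⁻¹ = y⁻¹ * (x * (a * y * a⁻¹)) := by rw [hcoc]; group
      rw [ht, hs, e1, commutatorElement_def]; group
    have hκ : ⁅x⁻¹, y⁻¹⁆ ∈ ⁅C, C⁆ :=
      Subgroup.commutator_mem_commutator (C.inv_mem hxC) (C.inv_mem hyC)
    have hsB : s ∈ B := B.mul_mem (B.inv_mem hyB) (hconjB a ha y hyB)
    have hsb : ⁅s, b⁆ ∈ B := (Subgroup.commutator_le_self B)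
      (Subgroup.commutator_mem_commutator hsB hb)
    have h3 : ⁅t, b⁆ = ⁅s, b⁆ := by
      rw [hts, comm_mul_left]
      have e1 : ⁅⁅x⁻¹, y⁻¹⁆, b⁆ = 1 := by
        rw [commutatorElement_eq_one_iff_mul_comm]
        exact (hcentB _ hκ b hb).symm
      rw [e1, mul_one, ← hcentB _ hκ _ hsb]; group
    rw [ht1, hs2] at h3
    -- `⁅x,y⁆⁻¹ = ⁅x,y⁆`
    rw [pow_two]
    nth_rewrite 1 [← h3]
    exact inv_mul_cancel _
  intro w hw
  have hcentD : ∀ w ∈ ⁅D, D⁆, ∀ d ∈ D, d * w = w * d := by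
    intro w hw d hd
    exact hcentB w (Subgroup.commutator_mono hDC hDC hw) d (hCB (hDC hd))
  exact sq_eq_one_of_gens X hcentD L3 w hw

end Cfsg.Agent.S0648
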