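import Cfsg.Statements.S0649
import Mathlib

set_option autoImplicit false
open Cfsg

namespace Cfsg.Agent.S0649

/-- In the Glauberman replacement situation, if B does not normalize A then some element of B normalizes N_S(A) without normalizing A. -/
theorem result {S : Type*} [Group S] [Finite S] {p : ℕ} [Fact p.Prime] (hS : IsPGroup p S) (B : Subgroup S) [B.Normal] (hB2 : p = 2 → IsMulCommutative B) (A : Subgroup S) (hA : IsMulCommutative A) (hBA : ⁅B, B⁆ ≤ A) (hnot : ¬ B ≤ Subgroup.normalizer (A : Set S)) : ∃ b ∈ B, b ∈ Subgroup.normalizer ((Subgroup.normalizer (A : Set S)) : Set S) ∧ b ∉ Subgroup.normalizer (A : Set S) := by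
  set N := Subgroup.normalizer (A : Set S) with hN
  set M := N ⊔ B with hM
  have hNM : N ≤ M := le_sup_left
  have hMp : IsPGroup p M := hS.to_subgroup M
  have hMnil : Group.IsNilpotent M := hMp.isNilpotent
  have hnc : NormalizerCondition M := Group.normalizerCondition_of_isNilpotent
  have hlt : N.subgroupOf M < ⊤ := by
    rw [lt_top_iff_ne_top]
    intro htop
    rw [Subgroup.subgroupOf_eq_top] at htop
    exact hnot (le_sup_right.trans htop)
  have hlt2 := hnc _ hlt
  rw [← Subgroup.subgroupOf_normalizer_eq hNM] at hlt2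
  obtain ⟨x, hxN, hxA⟩ := SetLike.exists_of_lt hlt2
  rw [Subgroup.mem_subgroupOf] at hxN hxA
  have hxM : (x : S) ∈ ((N ⊔ B : Subgroup S) : Set S) := x.2
  rw [Subgroup.mul_normal] at hxM
  obtain ⟨n, hn, b, hb, hnb⟩ := hxM
  refine ⟨b, hb, ?_, ?_⟩
  · have hb_eq : b = n⁻¹ * (x : S) := by rw [← hnb]; group
    rw [hb_eq]
    exact Subgroup.mul_mem _ (Subgroup.inv_mem _ (Subgroup.le_normalizer hn)) hxN
  · intro hbN
    apply hxA
    rw [← hnb]
    exact N.mul_mem hn hbN

end Cfsg.Agent.S0649
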