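import Cfsg.Statements.S0652
import Mathlib
import Cfsg.Agent.Lib.Lead_Replacement

set_option autoImplicit false
open Cfsg

namespace Cfsg.Agent.S0652

/-- For odd p and D normal in the p-group S, the elementary abelian subgroups of D of largest order satisfy the replacement property for class-2 normal subgroups of S. -/
theorem result {S : Type*} [Group S] [Finite S] {p : ℕ} [Fact p.Prime] (hS : IsPGroup p S) (hp : p ≠ 2) (D : Subgroup S) [D.Normal] : ∀ (B : Subgroup S) [B.Normal], ⁅⁅B, B⁆, B⁆ = ⊥ → (∃ U ∈ (Set.image (fun A : Subgroup ↥D => A.map D.subtype) (Cfsg.maxElementaryAbelianSubgroups p ↥D)), ⁅B, B⁆ ≤ U ∧ ¬ B ≤ U) → ∃ A ∈ (Set.image (fun A : Subgroup ↥D => A.map D.subtype) (Cfsg.maxElementaryAbelianSubgroups p ↥D)), ⁅B, B⁆ ≤ A ∧ ¬ B ≤ A ∧ B ≤ Subgroup.normalizer (A : Set S) := by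
  intro B _ _ hU
  refine Cfsg.Agent.Lib.Lead_Replacement.replacement_family hS hp D _ ?_ ?_ B hU
  · rintro _ ⟨A₀, hA₀, rfl⟩
    haveI := hA₀.1.1
    exact ⟨inferInstance, Subgroup.map_subtype_le _⟩
  · rintro _ ⟨A₀, hA₀, rfl⟩ A' hA'D hA'c hcard hexp
    refine ⟨A'.subgroupOf D, ⟨⟨?_, ?_⟩, ?_⟩, ?_⟩
    · haveI := hA'c; infer_instance
    · intro a ha
      have h1 : Monoid.exponent ↥(A₀.map D.subtype) ∣ p := by
        apply Monoid.exponent_dvd_of_forall_pow_eq_one
        rintro ⟨_, a₀, ha₀, rfl⟩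
        apply Subtype.ext
        rw [Subgroup.coe_pow, Subgroup.coe_one]
        have := hA₀.1.2 a₀ ha₀
        have h2 := congrArg (fun t : D => (t : S)) this
        simpa using h2
      have h3 : ∀ g : A', g ^ p = 1 :=
        Monoid.exponent_dvd_iff_forall_pow_eq_one.1 (hexp.trans h1)
      have h4 := h3 ⟨(a : S), Subgroup.mem_subgroupOf.1 ha⟩
      have h5 := congrArg (fun t : A' => (t : S)) h4
      apply Subtype.ext
      simpa using h5
    · intro B₀ hB₀
      rw [Cfsg.Agent.Lib.Lead_SZ.card_subgroupOf_of_le hA'D, hcard,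
        Subgroup.card_map_of_injective D.subtype_injective]
      exact hA₀.2 B₀ hB₀
    · exact Subgroup.map_subgroupOf_eq_of_le hA'D

end Cfsg.Agent.S0652
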