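import Cfsg.Statements.S0655
import Mathlib
import Cfsg.Agent.Lib.Helper1_Thompson

set_option autoImplicit false
open Cfsg
open Cfsg.Agent.Lib.Helper1_Thompson

namespace Cfsg.Agent.S0655

/-- In a p-group the intersection of all elementary abelian subgroups of largest order is the subgroup generated by the elements of order dividing p in the centre (equivalently the centralizer) of the elementary-version Thompson subgroup. -/
theorem result {S : Type*} [Group S] [Finite S] {p : ℕ} [Fact p.Prime] (hS : IsPGroup p S) : sInf (Cfsg.maxElementaryAbelianSubgroups p S) = Cfsg.omegaCenterThompson p S ∧ Cfsg.omegaCenterThompson p S = Cfsg.omegaOne p (Subgroup.centralizer (Cfsg.thompsonSubgroup p S : Set S)) := by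
  obtain ⟨A₀, hA₀⟩ := exists_maxEA (G := S) p
  have hmem : ∀ x : S, x ∈ Subgroup.centralizer (thompsonSubgroup p S : Set S) → x ^ p = 1 →
      ∀ A ∈ maxElementaryAbelianSubgroups p S, x ∈ A := by
    intro x hx hxp A hA
    apply mem_of_centralizes_maxEA p hA x hxp
    intro a ha
    exact ((Subgroup.mem_centralizer_iff.mp hx) a (le_thompson p hA ha)).symm
  refine ⟨le_antisymm ?_ ?_, le_antisymm ?_ ?_⟩
  · intro x hx
    rw [Subgroup.mem_sInf] at hx
    unfold omegaCenterThompson omegaOne
    apply Subgroup.subset_closure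
    refine ⟨⟨le_thompson p hA₀ (hx A₀ hA₀), ?_⟩, hA₀.1.2 x (hx A₀ hA₀)⟩
    have hle : thompsonSubgroup p S ≤ Subgroup.centralizer ({x} : Set S) := by
      apply sSup_le
      intro A hA a haA
      rw [Subgroup.mem_centralizer_iff]
      intro y hy
      rw [Set.mem_singleton_iff] at hy; subst hy
      have := hA.1.1
      exact congrArg Subtype.val (mul_comm' (⟨y, hx A hA⟩ : A) ⟨a, haA⟩)
    show x ∈ Subgroup.centralizer (thompsonSubgroup p S : Set S)
    rw [Subgroup.mem_centralizer_iff]
    intro y hy
    exact ((Subgroup.mem_centralizer_iff.mp (hle hy)) x rfl).symm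
  · unfold omegaCenterThompson omegaOne
    rw [Subgroup.closure_le]
    rintro x ⟨⟨_, hxC⟩, hxp⟩
    rw [SetLike.mem_coe, Subgroup.mem_sInf]
    exact hmem x hxC hxp
  · unfold omegaCenterThompson omegaOne
    apply Subgroup.closure_mono
    rintro x ⟨⟨_, hxC⟩, hxp⟩
    exact ⟨hxC, hxp⟩
  · unfold omegaCenterThompson omegaOne
    apply Subgroup.closure_mono
    rintro x ⟨hxC, hxp⟩
    exact ⟨⟨le_thompson p hA₀ (hmem x hxC hxp A₀ hA₀), hxC⟩, hxp⟩

end Cfsg.Agent.S0655
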