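import Mathlib
import Cfsg.Statements.S0660
import Cfsg.Agent.Lib.Helper7_SemiAct
import Cfsg.Agent.Lib.Helper7_Maschke

set_option autoImplicit false
open Cfsg

namespace Cfsg.Agent.S0660

open Subgroup
open Cfsg.Agent.Lib.Helper7_SemiAct
open Cfsg.Agent.Lib.Helper7_Maschke

/-- Under a coprime action on an abelian group, an invariant subgroup that is complemented admits an invariant complement. -/
theorem result {G : Type*} [Group G] [Finite G] (V A U : Subgroup G) (hVab : IsMulCommutative V) (hAV : A ≤ Subgroup.normalizer (V : Set G)) (hcop : (Nat.card A).Coprime (Nat.card V)) (hUV : U ≤ V) (hAU : A ≤ Subgroup.normalizer (U : Set G)) (W : Subgroup G) (hWV : W ≤ V) (hUW : U ⊓ W = ⊥) (hUWV : U ⊔ W = V) : ∃ W' : Subgroup G, W' ≤ V ∧ A ≤ Subgroup.normalizer (W' : Set G) ∧ U ⊓ W' = ⊥ ∧ U ⊔ W' = V := by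
  letI act : MulDistribMulAction A V :=
    MulDistribMulAction.compHom V ((V.normalizerMonoidHom).comp (Subgroup.inclusion hAV))
  have hsm : ∀ (a : A) (v : V), ((a • v : V) : G) = a * v * (a : G)⁻¹ := fun a v => rfl
  have hcomm : ∀ x y : V, x * y = y * x := fun x y => (IsMulCommutative.is_comm (M := V)).comm x y
  have hUinv : Inv A (U.subgroupOf V) := by
    intro a x hx
    rw [mem_subgroupOf] at hx ⊢
    rw [hsm]
    exact (Subgroup.mem_normalizer_iff.mp (hAU a.2) _).mp hx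
  have h1 : U.subgroupOf V ⊓ W.subgroupOf V = ⊥ := by
    rw [eq_bot_iff]
    rintro x ⟨hx1, hx2⟩
    have : (x : G) ∈ U ⊓ W := ⟨mem_subgroupOf.mp hx1, mem_subgroupOf.mp hx2⟩
    rw [hUW, mem_bot] at this
    rw [mem_bot]
    exact Subtype.ext this
  have h2 : U.subgroupOf V ⊔ W.subgroupOf V = ⊤ := by
    rw [← Subgroup.subgroupOf_sup hUV hWV, hUWV, Subgroup.subgroupOf_self]
  obtain ⟨W', hW'inv, hW'1, hW'2⟩ :=
    exists_invariant_complement hcomm hcop (U.subgroupOf V) (W.subgroupOf V) hUinv h1 h2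
  refine ⟨W'.map V.subtype, Subgroup.map_subtype_le _, ?_, ?_, ?_⟩
  · intro a ha
    apply Cfsg.Agent.Lib.Lead_Coprime.mem_normalizer_of_conj_mem
    · rintro _ ⟨v, hv, rfl⟩
      exact ⟨(⟨a, ha⟩ : A) • v, hW'inv ⟨a, ha⟩ v hv, rfl⟩
    · rintro _ ⟨v, hv, rfl⟩
      refine ⟨(⟨a, ha⟩ : A)⁻¹ • v, hW'inv _ v hv, ?_⟩
      show ((((⟨a, ha⟩ : A)⁻¹ • v : V)) : G) = _
      rw [hsm]
      simp
  · rw [eq_bot_iff]
    rintro x ⟨hxU, v, hv, rfl⟩
    have : v ∈ U.subgroupOf V ⊓ W' := ⟨hxU, hv⟩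
    rw [hW'1, mem_bot] at this
    rw [this]; simp
  · apply le_antisymm
    · exact sup_le hUV (Subgroup.map_subtype_le _)
    · intro x hx
      have : (⟨x, hx⟩ : V) ∈ U.subgroupOf V ⊔ W' := by rw [hW'2]; trivial
      have hUn : (U.subgroupOf V).Normal := ⟨fun n hn g => by
        have : g * n * g⁻¹ = n := by rw [hcomm g n, mul_assoc, mul_inv_cancel, mul_one]
        rw [this]; exact hn⟩
      have hWn : W'.Normal := ⟨fun n hn g => by
        have : g * n * g⁻¹ = n := by rw [hcomm g n, mul_assoc, mul_inv_cancel, mul_one]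
        rw [this]; exact hn⟩
      rw [Subgroup.mem_sup_of_normal_right] at this
      obtain ⟨u, hu, w, hw, huw⟩ := this
      have e : x = (u : G) * (w : G) := by
        have := congrArg Subtype.val huw
        simpa using this.symm
      rw [e]
      exact mul_mem (mem_sup_left (mem_subgroupOf.mp hu)) (mem_sup_right ⟨w, hw, rfl⟩)

end Cfsg.Agent.S0660
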