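import Cfsg.Statements.S0661
import Mathlib
import Cfsg.Agent.Lib.Helper5_AxB
import Cfsg.Agent.Lib.Helper5_PPrime
import Cfsg.Agent.Lib.Helper7_PCore
import Cfsg.Agent.Lib.Lead_Coprime

set_option autoImplicit false
open Cfsg

namespace Cfsg.Agent.S0661

/-- If, modulo the largest normal subgroup of order prime to p, the largest normal p-subgroup contains its centralizer, then for every p-subgroup P the p'-core of N_G(P) is just O_p'(G) ∩ N_G(P). -/
theorem result {G : Type*} [Group G] [Finite G] {p : ℕ} [Fact p.Prime] (hc : Subgroup.centralizer (Cfsg.pCore p (G ⧸ Cfsg.pPrimeCore p G) : Set (G ⧸ Cfsg.pPrimeCore p G)) ≤ Cfsg.pCore p (G ⧸ Cfsg.pPrimeCore p G)) (P : Subgroup G) (hP : IsPGroup p P) : (Cfsg.pPrimeCore p ↥(Subgroup.normalizer (P : Set G))).map (Subgroup.normalizer (P : Set G)).subtype = Cfsg.pPrimeCore p G ⊓ Subgroup.normalizer (P : Set G) := by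
  classical
  have hpp := (Fact.out : p.Prime)
  set O : Subgroup G := Cfsg.pPrimeCore p G with hO
  have hOcop : (Nat.card O).Coprime p := Cfsg.Agent.Lib.Helper5_PPrime.pPrimeCore_coprime p G
  set N : Subgroup G := Subgroup.normalizer (P : Set G) with hN
  set Q : Subgroup (G ⧸ O) := Cfsg.pCore p (G ⧸ O) with hQ
  have hQn : Q.Normal := Cfsg.Agent.Lib.Helper7_PCore.pCore_normal p
  have hQp : IsPGroup p Q := Cfsg.Agent.Lib.Helper7_PCore.pCore_isPGroup p
  have hPN : P ≤ N := Subgroup.le_normalizer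
  apply le_antisymm
  · -- `⊆`
    set Kn : Subgroup N := Cfsg.pPrimeCore p ↥N with hKn
    have hKnn : Kn.Normal := Cfsg.Agent.Lib.Helper5_PPrime.pPrimeCore_normal p ↥N
    have hKncop : (Nat.card Kn).Coprime p := Cfsg.Agent.Lib.Helper5_PPrime.pPrimeCore_coprime p ↥N
    set K : Subgroup G := Kn.map N.subtype with hK
    have hKN : K ≤ N := Subgroup.map_subtype_le Kn
    have hKcop : (Nat.card K).Coprime p := by
      rw [hK, Subgroup.card_map_of_injective N.subtype_injective]; exact hKncop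
    have hKnorm : ∀ n ∈ N, ∀ k ∈ K, n * k * n⁻¹ ∈ K := by
      rintro n hn _ ⟨k, hk, rfl⟩
      exact ⟨⟨n, hn⟩ * k * ⟨n, hn⟩⁻¹, hKnn.conj_mem k hk ⟨n, hn⟩, rfl⟩
    have hKPbot : P ⊓ K = ⊥ :=
      Cfsg.Agent.Lib.Helper5_PPrime.inf_eq_bot_of_pGroup_of_coprime hP hKcop
    have hKP : K ≤ Subgroup.centralizer (P : Set G) := by
      intro k hk
      rw [Subgroup.mem_centralizer_iff]
      intro x hx
      have hkN : k ∈ N := hKN hk
      have h1 : k * x * k⁻¹ * x⁻¹ ∈ P := by
        have := (Subgroup.mem_normalizer_iff.mp hkN x).mp hx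
        exact P.mul_mem this (P.inv_mem hx)
      have h2 : k * x * k⁻¹ * x⁻¹ ∈ K := by
        have h3 := hKnorm x (hPN hx) k⁻¹ (K.inv_mem hk)
        have h4 : k * x * k⁻¹ * x⁻¹ = k * (x * k⁻¹ * x⁻¹) := by group
        rw [h4]
        exact K.mul_mem hk h3
      have h5 : k * x * k⁻¹ * x⁻¹ ∈ P ⊓ K := ⟨h1, h2⟩
      rw [hKPbot, Subgroup.mem_bot] at h5
      have h6 : k * x = (k * x * k⁻¹ * x⁻¹) * (x * k) := by group
      rw [h6, h5, one_mul]
    set π := QuotientGroup.mk' O with hπ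
    set Kb : Subgroup (G ⧸ O) := K.map π with hKb
    set Pb : Subgroup (G ⧸ O) := P.map π with hPb
    have hA : ∀ a ∈ Kb, (orderOf a).Coprime p := by
      rintro _ ⟨k, hk, rfl⟩
      have h1 : orderOf (π k) ∣ orderOf k := orderOf_map_dvd π k
      have h2 : orderOf k ∣ Nat.card K := by
        have := orderOf_dvd_natCard (⟨k, hk⟩ : K)
        rwa [Subgroup.orderOf_mk] at this
      exact Nat.Coprime.coprime_dvd_left (h1.trans h2) hKcop
    have hB : IsPGroup p Pb := hP.map π
    have hAB : Kb ≤ Subgroup.centralizer (Pb : Set (G ⧸ O)) := by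
      rintro _ ⟨k, hk, rfl⟩
      rw [Subgroup.mem_centralizer_iff]
      rintro _ ⟨x, hx, rfl⟩
      have := Subgroup.mem_centralizer_iff.mp (hKP hk) x hx
      rw [← map_mul, ← map_mul, this]
    have hKbQ : ∀ z ∈ Kb, z ∈ Q → z = 1 := by
      intro z hzK hzQ
      have h1 := hA z hzK
      obtain ⟨j, hj⟩ := hQp ⟨z, hzQ⟩
      have hj' : z ^ p ^ j = 1 := congrArg Subtype.val hj
      have h2 : orderOf z ∣ p ^ j := orderOf_dvd_of_pow_eq_one hj'
      have h3 : orderOf z = 1 :=
        Nat.eq_one_of_dvd_coprimes (Nat.Coprime.pow_right j h1) dvd_rfl h2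
      exact orderOf_eq_one_iff.mp h3
    have hOn : Subgroup.normalizer (O : Set G) = ⊤ := Subgroup.normalizer_eq_top _
    have hcopPO : (Nat.card P).Coprime (Nat.card O) := by
      obtain ⟨j, hj⟩ := IsPGroup.iff_card.mp hP
      rw [hj]
      exact Nat.Coprime.pow_left j hOcop.symm
    have hPsolv : Group.IsSolvable P := by
      have : Group.IsNilpotent P := hP.isNilpotent
      infer_instance
    have key : Q ⊓ Subgroup.centralizer (Pb : Set (G ⧸ O)) ≤
        Subgroup.centralizer (Kb : Set (G ⧸ O)) := by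
      rintro yb ⟨hybQ, hybP⟩
      obtain ⟨y, hyy⟩ := QuotientGroup.mk'_surjective O yb
      have hyy' : yb = π y := hyy.symm
      rw [hyy'] at hybQ hybP ⊢
      have hy : ∀ a ∈ P, y⁻¹ * a * y * a⁻¹ ∈ O := by
        intro a ha
        rw [← QuotientGroup.ker_mk' O, MonoidHom.mem_ker]
        have h1 := Subgroup.mem_centralizer_iff.mp hybP (π a) (Subgroup.mem_map_of_mem _ ha)
        rw [map_mul, map_mul, map_mul, map_inv, map_inv]
        show (π y)⁻¹ * π a * π y * (π a)⁻¹ = 1
        rw [mul_assoc (π y)⁻¹, h1]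
        group
      obtain ⟨d, hd, hyd⟩ := Cfsg.Agent.Lib.Lead_Coprime.lemmaC O P
        (by rw [hOn]; exact le_top) hcopPO (Or.inl hPsolv) y hy
      have hπyd : π (y * d) = π y := by
        rw [map_mul]
        have : π d = 1 := by
          have : d ∈ π.ker := by rw [hπ, QuotientGroup.ker_mk']; exact hd
          exact this
        rw [this, mul_one]
      have hydN : y * d ∈ N := Subgroup.centralizer_le_normalizer _ hyd
      rw [Subgroup.mem_centralizer_iff]
      rintro _ ⟨k, hk, rfl⟩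
      have h1 : (y * d) * k * (y * d)⁻¹ * k⁻¹ ∈ K :=
        K.mul_mem (hKnorm _ hydN k hk) (K.inv_mem hk)
      have h2 : π ((y * d) * k * (y * d)⁻¹ * k⁻¹) ∈ Kb := Subgroup.mem_map_of_mem _ h1
      have h3 : π ((y * d) * k * (y * d)⁻¹ * k⁻¹) = π y * (π k * (π y)⁻¹ * (π k)⁻¹) := by
        rw [map_mul, map_mul, map_mul, map_inv, map_inv, hπyd]
        group
      have h4 : π y * (π k * (π y)⁻¹ * (π k)⁻¹) ∈ Q :=
        Q.mul_mem hybQ (hQn.conj_mem _ (Q.inv_mem hybQ) _)
      rw [h3] at h2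
      have h5 := hKbQ _ h2 h4
      have h6 : π y * π k = (π y * (π k * (π y)⁻¹ * (π k)⁻¹)) * (π k * π y) := by group
      rw [h6, h5, one_mul]
    have hQnorm : Subgroup.normalizer (Q : Set (G ⧸ O)) = ⊤ := Subgroup.normalizer_eq_top _
    have hQK : Q ≤ Subgroup.centralizer (Kb : Set (G ⧸ O)) :=
      Cfsg.Agent.Lib.Helper5_AxB.thompson_AxB Kb Pb hA hB hAB Q hQp
        (by rw [hQnorm]; exact le_top) (by rw [hQnorm]; exact le_top) key
    have hKbbot : ∀ z ∈ Kb, z = 1 := by
      intro z hz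
      apply hKbQ z hz
      apply hc
      rw [Subgroup.mem_centralizer_iff]
      intro q hq
      have := Subgroup.mem_centralizer_iff.mp (hQK hq) z hz
      exact this.symm
    intro x hx
    refine ⟨?_, hKN hx⟩
    have h1 := hKbbot (π x) (Subgroup.mem_map_of_mem _ hx)
    have h2 : x ∈ π.ker := h1
    rwa [hπ, QuotientGroup.ker_mk'] at h2
  · -- `⊇`
    rintro x ⟨hxO, hxN⟩
    have hn : (O.subgroupOf N).Normal := inferInstance
    have hcop : (Nat.card (O.subgroupOf N)).Coprime p := by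
      let f : O.subgroupOf N →* O :=
        MonoidHom.codRestrict ((N.subtype).comp (O.subgroupOf N).subtype) O
          (fun x => Subgroup.mem_subgroupOf.mp x.2)
      have hf : Function.Injective f := by
        intro a b hab
        have h1 : ((a : N) : G) = ((b : N) : G) := congrArg (fun z : O => (z : G)) hab
        exact Subtype.ext (Subtype.ext h1)
      exact Nat.Coprime.coprime_dvd_left (Subgroup.card_dvd_of_injective f hf) hOcop
    have hle : O.subgroupOf N ≤ Cfsg.pPrimeCore p ↥N :=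
      Cfsg.Agent.Lib.Helper5_PPrime.le_pPrimeCore _ hcop
    exact ⟨⟨x, hxN⟩, hle (Subgroup.mem_subgroupOf.mpr hxO), rfl⟩

end Cfsg.Agent.S0661
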