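import Cfsg.Statements.S0662
import Mathlib
import Cfsg.Agent.Lib.Helper6_MaxClass
import Cfsg.Agent.Lib.Helper6_PNormal
import Cfsg.Agent.Lib.Lead_Hall

set_option autoImplicit false
open Cfsg

namespace Cfsg.Agent.S0662

open scoped commutatorElement

/-- an elementary abelian group of order `p²` has exactly `p + 1` subgroups of order `p` -/
theorem card_subgroups_of_prime_sq {Q : Type*} [Group Q] [Finite Q] {p : ℕ} [hfact : Fact p.Prime]
    (hQ : Nat.card Q = p ^ 2) (hexp : ∀ q : Q, q ^ p = 1) :
    Nat.card {H : Subgroup Q // Nat.card H = p} = p + 1 := by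
  classical
  have hp := hfact.out
  have : Fintype Q := Fintype.ofFinite Q
  have : Fintype {H : Subgroup Q // Nat.card H = p} := Fintype.ofFinite _
  have horder : ∀ q : Q, q ≠ 1 → orderOf q = p := fun q hq => orderOf_eq_prime (hexp q) hq
  let f : {q : Q // q ≠ 1} → {H : Subgroup Q // Nat.card H = p} := fun q =>
    ⟨Subgroup.zpowers (q : Q), by rw [Nat.card_zpowers, horder q q.2]⟩
  have hfiber : ∀ H : {H : Subgroup Q // Nat.card H = p},
      Nat.card {x : {q : Q // q ≠ 1} // f x = H} = p - 1 := by
    intro H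
    have hiff : ∀ x : {q : Q // q ≠ 1}, f x = H ↔ (x : Q) ∈ (H : Subgroup Q) := by
      intro x
      constructor
      · intro h
        have h1 : Subgroup.zpowers (x : Q) = (H : Subgroup Q) := congrArg Subtype.val h
        rw [← h1]; exact Subgroup.mem_zpowers _
      · intro h
        apply Subtype.ext
        show Subgroup.zpowers (x : Q) = (H : Subgroup Q)
        apply Subgroup.eq_of_le_of_card_ge (Subgroup.zpowers_le.mpr h)
        rw [Nat.card_zpowers, horder x x.2, H.2]
    let e : {x : {q : Q // q ≠ 1} // f x = H} ≃ {h : (H : Subgroup Q) // h ≠ 1} :=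
      { toFun := fun x => ⟨⟨(x : {q : Q // q ≠ 1}), (hiff x.1).mp x.2⟩,
          fun h => x.1.2 (congrArg Subtype.val h)⟩
        invFun := fun h => ⟨⟨(h : (H : Subgroup Q)), fun h1 => h.2 (Subtype.ext h1)⟩,
          (hiff _).mpr h.1.2⟩
        left_inv := fun x => rfl
        right_inv := fun h => rfl }
    rw [Nat.card_congr e]
    have h2 : Nat.card {h : (H : Subgroup Q) // h ≠ 1} = Nat.card (H : Subgroup Q) - 1 := by
      have : Fintype (H : Subgroup Q) := Fintype.ofFinite _
      rw [Nat.card_eq_fintype_card, Nat.card_eq_fintype_card, Fintype.card_subtype_compl,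
        Fintype.card_subtype_eq]
    rw [h2, H.2]
  have hX : Nat.card {q : Q // q ≠ 1} = p ^ 2 - 1 := by
    rw [Nat.card_eq_fintype_card, Fintype.card_subtype_compl, Fintype.card_subtype_eq,
      ← Nat.card_eq_fintype_card, hQ]
  have hsum : Nat.card {q : Q // q ≠ 1} =
      Nat.card {H : Subgroup Q // Nat.card H = p} * (p - 1) := by
    rw [← Nat.card_congr (Equiv.sigmaFiberEquiv f), Nat.card_sigma]
    simp_rw [hfiber]
    rw [Finset.sum_const, Finset.card_univ, smul_eq_mul, Nat.card_eq_fintype_card]
  rw [hX] at hsum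
  have hp1 : 0 < p - 1 := by have := hp.two_le; omega
  have h3 : p ^ 2 - 1 = (p + 1) * (p - 1) := by
    have h4 : (p + 1) * (p - 1) + 1 = p ^ 2 := by
      obtain ⟨k, rfl⟩ : ∃ k, p = k + 1 := ⟨p - 1, by have := hp.two_le; omega⟩
      simp only [Nat.add_sub_cancel]; ring
    omega
  rw [h3] at hsum
  exact (Nat.eq_of_mul_eq_mul_right hp1 hsum).symm

/-- strictness of the lower central series below the class -/
theorem lcs_ne_succ {G : Type*} [Group G] [hnil : Group.IsNilpotent G] (i : ℕ)
    (hi : i < Group.nilpotencyClass G) :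
    (⊤ : Subgroup G).lowerCentralSeries (i + 1) ≠ (⊤ : Subgroup G).lowerCentralSeries i := by
  intro h
  have hstab : ∀ j, i ≤ j →
      (⊤ : Subgroup G).lowerCentralSeries j = (⊤ : Subgroup G).lowerCentralSeries i := by
    intro j hj
    induction j, hj using Nat.le_induction with
    | base => rfl
    | succ j _ ih => rw [Subgroup.lowerCentralSeries_succ, ih, ← Subgroup.lowerCentralSeries_succ, h]
  have h1 := hstab (Group.nilpotencyClass G) hi.le
  rw [Subgroup.lowerCentralSeries_nilpotencyClass] at h1
  have h2 : Group.nilpotencyClass G ≤ i :=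
    Subgroup.lowerCentralSeries_eq_bot_iff_nilpotencyClass_le.mp h1.symm
  omega

/-- In a p-group of maximal class of order p^n (n ≥ 3), the normal subgroups of index p^r with r ≥ 2 are exactly the terms of the lower central series, and there are p + 1 maximal subgroups. -/
theorem result {G : Type*} [Group G] [Finite G] {p : ℕ} [Fact p.Prime] (n : ℕ) (hG : Nat.card G = p ^ n) (hcl : Group.nilpotencyClass G = n - 1) (hn : 3 ≤ n) : (∀ (N : Subgroup G) [N.Normal] (r : ℕ), 2 ≤ r → N.index = p ^ r → N = (⊤ : Subgroup G).lowerCentralSeries (r - 1)) ∧ Nat.card {N : Subgroup G // N.Normal ∧ N.index = p} = p + 1 := by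
  classical
  have hpp := (Fact.out : p.Prime)
  have hGp : IsPGroup p G := IsPGroup.of_card hG
  have hnil : Group.IsNilpotent G := hGp.isNilpotent
  set L : ℕ → Subgroup G := fun i => (⊤ : Subgroup G).lowerCentralSeries i with hL
  have hLanti : Antitone L := Subgroup.lowerCentralSeries_antitone ⊤
  -- lower bound on the orders
  have hlower : ∀ j, j ≤ n - 1 → p ^ j ≤ Nat.card (L (n - 1 - j)) := by
    intro j
    induction j with
    | zero => intro _; rw [pow_zero]; exact Nat.card_pos
    | succ j ih =>
      intro hj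
      have hj' : j ≤ n - 1 := by omega
      have h1 := ih hj'
      have hlt : n - 1 - (j + 1) < Group.nilpotencyClass G := by rw [hcl]; omega
      have hne := lcs_ne_succ (G := G) (n - 1 - (j + 1)) hlt
      have hidx : n - 1 - (j + 1) + 1 = n - 1 - j := by omega
      rw [hidx] at hne
      have hle : L (n - 1 - j) ≤ L (n - 1 - (j + 1)) := hLanti (by omega)
      have hlt' : L (n - 1 - j) < L (n - 1 - (j + 1)) := lt_of_le_of_ne hle hne
      obtain ⟨a, ha⟩ := IsPGroup.iff_card.mp (hGp.to_subgroup (L (n - 1 - j)))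
      obtain ⟨b, hb⟩ := IsPGroup.iff_card.mp (hGp.to_subgroup (L (n - 1 - (j + 1))))
      have hcard : Nat.card (L (n - 1 - j)) < Nat.card (L (n - 1 - (j + 1))) := by
        by_contra hcon
        push Not at hcon
        exact hlt'.ne (Subgroup.eq_of_le_of_card_ge hle hcon)
      rw [ha] at h1
      rw [ha, hb] at hcard
      rw [hb]
      have hab : a < b := (Nat.pow_lt_pow_iff_right hpp.one_lt).mp hcard
      have hja : j ≤ a := (Nat.pow_le_pow_iff_right hpp.one_lt).mp h1
      exact Nat.pow_le_pow_right hpp.pos (by omega)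
  -- part (a)
  have partA : ∀ (N : Subgroup G) [N.Normal] (r : ℕ), 2 ≤ r → N.index = p ^ r →
      N = (⊤ : Subgroup G).lowerCentralSeries (r - 1) := by
    intro N hNn r hr hNr
    have hQcard : Nat.card (G ⧸ N) = p ^ r := by rw [← Subgroup.index_eq_card]; exact hNr
    have hQcl := Cfsg.Agent.Lib.Helper6_MaxClass.class_le p r (G ⧸ N) hQcard hr
    have hQp : IsPGroup p (G ⧸ N) := IsPGroup.of_card hQcard
    have hQnil : Group.IsNilpotent (G ⧸ N) := hQp.isNilpotent
    have hbot : (⊤ : Subgroup (G ⧸ N)).lowerCentralSeries (r - 1) = ⊥ :=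
      Subgroup.lowerCentralSeries_eq_bot_iff_nilpotencyClass_le.mpr hQcl
    have hLN : L (r - 1) ≤ N := by
      intro x hx
      have h1 : (QuotientGroup.mk' N) x ∈ ((⊤ : Subgroup G).lowerCentralSeries (r - 1)).map
          (QuotientGroup.mk' N) := Subgroup.mem_map_of_mem _ hx
      rw [Subgroup.map_lowerCentralSeries,
        Subgroup.map_top_of_surjective _ (QuotientGroup.mk'_surjective N), hbot,
        Subgroup.mem_bot] at h1
      have h2 : x ∈ (QuotientGroup.mk' N).ker := h1
      rwa [QuotientGroup.ker_mk'] at h2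
    have hrn : r ≤ n := by
      have h1 : p ^ r ∣ p ^ n := by
        rw [← hNr, ← hG]; exact Subgroup.index_dvd_card N
      exact (Nat.pow_dvd_pow_iff_le_right hpp.one_lt).mp h1
    have hNcard : Nat.card N = p ^ (n - r) := by
      have h1 := Subgroup.card_mul_index N
      rw [hNr, hG] at h1
      have h2 : p ^ n = p ^ (n - r) * p ^ r := by rw [← pow_add]; congr 1; omega
      rw [h2] at h1
      exact Nat.eq_of_mul_eq_mul_right (pow_pos hpp.pos r) h1
    have h3 := hlower (n - r) (by omega)
    have h4 : n - 1 - (n - r) = r - 1 := by omega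
    rw [h4] at h3
    symm
    exact Subgroup.eq_of_le_of_card_ge hLN (by rw [hNcard]; exact h3)
  refine ⟨partA, ?_⟩
  -- part (b)
  set D : Subgroup G := L 1 with hD
  have hDcomm : D = commutator G := Subgroup.top_lowerCentralSeries_one
  have hDn : D.Normal := by rw [hDcomm]; infer_instance
  -- `D` has index `p²`
  obtain ⟨K, -, hKn, hKcard⟩ := Cfsg.Agent.Lib.Helper6_PNormal.exists_normal_le_of_pow_dvd hGp
    (⊤ : Subgroup G) (n - 2) (by
      rw [Subgroup.card_top, hG]; exact pow_dvd_pow p (by omega))
  have hKidx : K.index = p ^ 2 := by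
    have h1 := Subgroup.card_mul_index K
    rw [hKcard, hG] at h1
    have h2 : p ^ n = p ^ (n - 2) * p ^ 2 := by rw [← pow_add]; congr 1; omega
    rw [h2] at h1
    exact Nat.eq_of_mul_eq_mul_left (pow_pos hpp.pos _) h1
  have hKD : K = D := partA K 2 le_rfl hKidx
  have hDidx : D.index = p ^ 2 := hKD ▸ hKidx
  have hDcard : Nat.card D = p ^ (n - 2) := hKD ▸ hKcard
  have hQcard : Nat.card (G ⧸ D) = p ^ 2 := by rw [← Subgroup.index_eq_card]; exact hDidx
  -- `G ⧸ D` is commutative
  have hQcomm : ∀ a b : G ⧸ D, a * b = b * a := by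
    intro a b
    induction a using QuotientGroup.induction_on with
    | H a =>
      induction b using QuotientGroup.induction_on with
      | H b =>
        rw [← QuotientGroup.mk_mul, ← QuotientGroup.mk_mul, QuotientGroup.eq]
        have h1 : (a * b)⁻¹ * (b * a) = ⁅b⁻¹, a⁻¹⁆ := by
          rw [commutatorElement_def]; group
        rw [h1, hDcomm, commutator_def]
        exact Subgroup.commutator_mem_commutator (Subgroup.mem_top _) (Subgroup.mem_top _)
  -- `G ⧸ D` is not cyclic
  have hQnc : ¬ IsCyclic (G ⧸ D) := by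
    intro hcyc
    set L2 : Subgroup G := L 2 with hL2
    have hL2n : L2.Normal := by
      have : (L 2).Characteristic := Subgroup.lowerCentralSeries_characteristic ⊤ 2
      infer_instance
    have hL2D : L2 ≤ D := hLanti (by norm_num)
    let f : G ⧸ L2 →* G ⧸ D := QuotientGroup.map L2 D (MonoidHom.id G) hL2D
    have hker : f.ker ≤ Subgroup.center (G ⧸ L2) := by
      intro x hx
      induction x using QuotientGroup.induction_on with
      | H g =>
        have h1 : ((g : G) : G ⧸ D) = 1 := hx
        rw [QuotientGroup.eq_one_iff] at h1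
        rw [Subgroup.mem_center_iff]
        intro y
        induction y using QuotientGroup.induction_on with
        | H y =>
          rw [← QuotientGroup.mk_mul, ← QuotientGroup.mk_mul, QuotientGroup.eq]
          have h2 : (y * g)⁻¹ * (g * y) = ⁅g⁻¹, y⁻¹⁆ := by
            rw [commutatorElement_def]; group
          rw [h2]
          show ⁅g⁻¹, y⁻¹⁆ ∈ (⊤ : Subgroup G).lowerCentralSeries (1 + 1)
          rw [Subgroup.lowerCentralSeries_succ]
          exact Subgroup.commutator_mem_commutator (Subgroup.inv_mem _ h1) (Subgroup.mem_top _)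
    have hcomm2 := (f.isMulCommutative_of_isCyclic_of_ker_le_center hker).is_comm.comm
    have hDL2 : D ≤ L2 := by
      rw [hDcomm, commutator_def, Subgroup.commutator_le]
      intro a _ b _
      have h1 := hcomm2 ((a⁻¹ : G) : G ⧸ L2) ((b⁻¹ : G) : G ⧸ L2)
      rw [← QuotientGroup.mk_mul, ← QuotientGroup.mk_mul, QuotientGroup.eq] at h1
      have h2 : (a⁻¹ * b⁻¹)⁻¹ * (b⁻¹ * a⁻¹) = ⁅b, a⁆ := by
        rw [commutatorElement_def]; group
      rw [h2] at h1
      have h3 : ⁅a, b⁆ = (⁅b, a⁆)⁻¹ := (commutatorElement_inv b a).symm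
      rw [h3]
      exact L2.inv_mem h1
    have heq : L (1 + 1) = L 1 := le_antisymm hL2D hDL2
    exact lcs_ne_succ (G := G) 1 (by rw [hcl]; omega) heq
  -- exponent `p`
  have hQexp : ∀ q : G ⧸ D, q ^ p = 1 := by
    intro q
    have h1 : orderOf q ∣ p ^ 2 := by rw [← hQcard]; exact orderOf_dvd_natCard q
    obtain ⟨k, hk, hkq⟩ := (Nat.dvd_prime_pow hpp).mp h1
    have hk2 : k ≠ 2 := by
      intro h2
      apply hQnc
      exact isCyclic_of_orderOf_eq_card q (by rw [hkq, h2, hQcard])
    have hk1 : k ≤ 1 := by omega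
    have h2 : orderOf q ∣ p := by
      rw [hkq]
      calc p ^ k ∣ p ^ 1 := pow_dvd_pow p hk1
        _ = p := pow_one p
    exact orderOf_dvd_iff_pow_eq_one.mp h2
  rw [← card_subgroups_of_prime_sq hQcard hQexp]
  -- the correspondence
  have hcontains : ∀ N : Subgroup G, N.Normal → N.index = p → D ≤ N := by
    intro N hNn hNp
    have hcyc : IsCyclic (G ⧸ N) := by
      apply isCyclic_of_prime_card (p := p)
      rw [← Subgroup.index_eq_card]; exact hNp
    rw [hDcomm, commutator_def, Subgroup.commutator_le]
    intro a _ b _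
    rw [← QuotientGroup.eq_one_iff (N := N), ← QuotientGroup.mk'_apply, map_commutatorElement,
      commutatorElement_eq_one_iff_mul_comm]
    obtain ⟨g, hg⟩ := hcyc.exists_generator
    obtain ⟨i, hi⟩ := Subgroup.mem_zpowers_iff.mp (hg (QuotientGroup.mk' N a))
    obtain ⟨j, hj⟩ := Subgroup.mem_zpowers_iff.mp (hg (QuotientGroup.mk' N b))
    rw [← hi, ← hj, ← zpow_add, ← zpow_add, add_comm]
  have hker : (QuotientGroup.mk' D).ker = D := QuotientGroup.ker_mk' D
  let e : {N : Subgroup G // N.Normal ∧ N.index = p} ≃ {H : Subgroup (G ⧸ D) // Nat.card H = p} :=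
    { toFun := fun N => ⟨(N : Subgroup G).map (QuotientGroup.mk' D), by
        have hDN := hcontains N N.2.1 N.2.2
        have h1 := Cfsg.Agent.Lib.Lead_SZ.card_map_of_le D (N : Subgroup G) hDN
        have h2 := Subgroup.card_mul_index (N : Subgroup G)
        rw [N.2.2, hG] at h2
        have h3 : p ^ n = p ^ (n - 1) * p := by rw [← pow_succ]; congr 1; omega
        rw [h3] at h2
        have h4 : Nat.card (N : Subgroup G) = p ^ (n - 1) :=
          Nat.eq_of_mul_eq_mul_right hpp.pos h2
        rw [h4, hDcard] at h1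
        have h5 : p ^ (n - 1) = p * p ^ (n - 2) := by rw [← pow_succ']; congr 1; omega
        rw [h5] at h1
        exact Nat.eq_of_mul_eq_mul_right (pow_pos hpp.pos _) h1⟩
      invFun := fun H => ⟨(H : Subgroup (G ⧸ D)).comap (QuotientGroup.mk' D), by
        have hHn : (H : Subgroup (G ⧸ D)).Normal := by
          refine ⟨fun x hx g => ?_⟩
          have : g * x * g⁻¹ = x := by rw [hQcomm g x]; group
          rw [this]; exact hx
        refine ⟨hHn.comap _, ?_⟩
        rw [Subgroup.index_comap_of_surjective _ (QuotientGroup.mk'_surjective D)]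
        have h1 := Subgroup.card_mul_index (H : Subgroup (G ⧸ D))
        rw [H.2, hQcard, pow_two] at h1
        exact Nat.eq_of_mul_eq_mul_left hpp.pos h1⟩
      left_inv := fun N => by
        apply Subtype.ext
        show ((N : Subgroup G).map (QuotientGroup.mk' D)).comap (QuotientGroup.mk' D) = N
        apply Subgroup.comap_map_eq_self
        rw [hker]
        exact hcontains N N.2.1 N.2.2
      right_inv := fun H => by
        apply Subtype.ext
        show ((H : Subgroup (G ⧸ D)).comap (QuotientGroup.mk' D)).map (QuotientGroup.mk' D) = H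
        exact Subgroup.map_comap_eq_self_of_surjective (QuotientGroup.mk'_surjective D) _ }
  exact Nat.card_congr e

end Cfsg.Agent.S0662
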