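import Cfsg.Statements.S0663
import Mathlib

set_option autoImplicit false
open Cfsg

namespace Cfsg.Agent.S0663

open scoped commutatorElement

variable {L : Type*} [Group L]

/-- An element normalising two subgroups normalises their commutator. -/
theorem mem_normalizer_commutator {H K : Subgroup L} {g : L}
    (hH : g ∈ Subgroup.normalizer (H : Set L)) (hK : g ∈ Subgroup.normalizer (K : Set L)) :
    g ∈ Subgroup.normalizer ((⁅H, K⁆ : Subgroup L) : Set L) := by
  rw [Subgroup.mem_normalizer_iff_map_conj_eq] at hH hK ⊢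
  rw [Subgroup.map_commutator, hH, hK]

theorem le_normalizer_commutator {H K T : Subgroup L}
    (hH : T ≤ Subgroup.normalizer (H : Set L)) (hK : T ≤ Subgroup.normalizer (K : Set L)) :
    T ≤ Subgroup.normalizer ((⁅H, K⁆ : Subgroup L) : Set L) :=
  fun _ hg => mem_normalizer_commutator (hH hg) (hK hg)

theorem le_normalizer_sup {H K T : Subgroup L}
    (hH : T ≤ Subgroup.normalizer (H : Set L)) (hK : T ≤ Subgroup.normalizer (K : Set L)) :
    T ≤ Subgroup.normalizer ((H ⊔ K : Subgroup L) : Set L) :=
  fun _ hg => Subgroup.normalizer_inf_normalizer_le_normalizer_sup H K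
    (Subgroup.mem_inf.mpr ⟨hH hg, hK hg⟩)

/-- If `G` normalises `H` then `[H, G] ≤ H`. -/
theorem commutator_le_of_normalizes {H G : Subgroup L}
    (hG : G ≤ Subgroup.normalizer (H : Set L)) : ⁅H, G⁆ ≤ H := by
  rw [Subgroup.commutator_le]
  intro h hh g hg
  have h1 : g * h⁻¹ * g⁻¹ ∈ H := (Subgroup.mem_normalizer_iff.mp (hG hg) h⁻¹).mp (H.inv_mem hh)
  have : ⁅h, g⁆ = h * (g * h⁻¹ * g⁻¹) := by
    rw [commutatorElement_def]; group
  rw [this]
  exact H.mul_mem hh h1

/-- The iterated commutators in `L` of a subgroup `Γ` with itself form the lower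
central series of `Γ`. -/
theorem iter_self_eq (Γ : Subgroup L) (k : ℕ) :
    Cfsg.iterCommutator Γ Γ k = Γ.lowerCentralSeries k := by
  induction k with
  | zero => rfl
  | succ k ih => rw [Cfsg.iterCommutator, ih, Subgroup.lowerCentralSeries_succ]

/-- Nilpotent action: a `p`-group `G` normalising a non-trivial `p`-group `K` has `[K, G] ≠ K`. -/
theorem commutator_ne_self [Finite L] {p : ℕ} [Fact p.Prime] {K G : Subgroup L}
    (hK : IsPGroup p K) (hG : IsPGroup p G) (hGK : G ≤ Subgroup.normalizer (K : Set L))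
    (hne : K ≠ ⊥) : ⁅K, G⁆ ≠ K := by
  intro heq
  apply hne
  set Γ : Subgroup L := K ⊔ G with hΓ
  have hΓp : IsPGroup p Γ := IsPGroup.to_sup_of_normal_left' hK hG hGK
  have hΓK : Γ ≤ Subgroup.normalizer (K : Set L) := sup_le Subgroup.le_normalizer hGK
  have h1 : ⁅K, Γ⁆ = K := by
    apply le_antisymm (commutator_le_of_normalizes hΓK)
    calc K = ⁅K, G⁆ := heq.symm
      _ ≤ ⁅K, Γ⁆ := Subgroup.commutator_mono le_rfl le_sup_right
  have h2 : ∀ k, K ≤ Cfsg.iterCommutator Γ Γ k := by
    intro k
    induction k with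
    | zero => exact le_sup_left
    | succ k ih =>
      calc K = ⁅K, Γ⁆ := h1.symm
        _ ≤ ⁅Cfsg.iterCommutator Γ Γ k, Γ⁆ := Subgroup.commutator_mono ih le_rfl
  have hnil : Group.IsNilpotent Γ := hΓp.isNilpotent
  obtain ⟨c, hc⟩ := (Subgroup.isNilpotent_iff_lowerCentralSeries Γ).mp hnil
  have := h2 c
  rw [iter_self_eq, hc] at this
  exact le_bot_iff.mp this

theorem comm_mul_left' (x y z : L) : ⁅x * y, z⁆ = x * ⁅y, z⁆ * x⁻¹ * ⁅x, z⁆ := by
  simp only [commutatorElement_def]; group

theorem iter_normalized {N G : Subgroup L} (hGN : G ≤ Subgroup.normalizer (N : Set L)) :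
    ∀ i, G ≤ Subgroup.normalizer (Cfsg.iterCommutator N G i : Set L) := by
  intro i
  induction i with
  | zero => exact hGN
  | succ i ih => exact le_normalizer_commutator ih Subgroup.le_normalizer

theorem iter_succ_le {N G : Subgroup L} (hGN : G ≤ Subgroup.normalizer (N : Set L)) (i : ℕ) :
    Cfsg.iterCommutator N G (i + 1) ≤ Cfsg.iterCommutator N G i :=
  commutator_le_of_normalizes (iter_normalized hGN i)

theorem iter_antitone {N G : Subgroup L} (hGN : G ≤ Subgroup.normalizer (N : Set L)) :
    Antitone (Cfsg.iterCommutator N G) :=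
  antitone_nat_of_succ_le (iter_succ_le hGN)

theorem iter_le {N G : Subgroup L} (hGN : G ≤ Subgroup.normalizer (N : Set L)) (i : ℕ) :
    Cfsg.iterCommutator N G i ≤ N :=
  iter_antitone hGN (Nat.zero_le i)

/-- A subgroup between two `p`-power-order subgroups of consecutive orders is one of them. -/
theorem sandwich [Finite L] {p : ℕ} [Fact p.Prime] {A B C : Subgroup L} (hAB : A ≤ B)
    (hBC : B ≤ C) {a : ℕ} (hA : Nat.card A = p ^ a) (hC : Nat.card C = p ^ (a + 1)) :
    B = A ∨ B = C := by
  have hp := (Fact.out : p.Prime)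
  have h1 : Nat.card B ∣ p ^ (a + 1) := hC ▸ Subgroup.card_dvd_of_le hBC
  obtain ⟨b, hb, hBb⟩ := (Nat.dvd_prime_pow hp).mp h1
  have h2 : p ^ a ∣ p ^ b := by rw [← hA, ← hBb]; exact Subgroup.card_dvd_of_le hAB
  have h3 : a ≤ b := (Nat.pow_dvd_pow_iff_le_right hp.one_lt).mp h2
  rcases Nat.lt_or_ge a b with h | h
  · right
    have : b = a + 1 := by omega
    exact Subgroup.eq_of_le_of_card_ge hBC (by rw [hC, hBb, this])
  · left
    have : b = a := by omega
    exact (Subgroup.eq_of_le_of_card_ge hAB (by rw [hA, hBb, this])).symm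

theorem eq_bot_of_card_pow_zero [Finite L] {p : ℕ} {K : Subgroup L}
    (h : Nat.card K = p ^ 0) : K = ⊥ := by
  rw [pow_zero] at h
  exact Subgroup.card_eq_one.mp h

theorem ne_bot_of_card_pow [Finite L] {p : ℕ} [Fact p.Prime] {K : Subgroup L} {a : ℕ}
    (h : Nat.card K = p ^ a) (ha : 1 ≤ a) : K ≠ ⊥ := by
  have hp := (Fact.out : p.Prime)
  intro hK
  rw [hK, Subgroup.card_bot] at h
  have : 1 < p ^ a := Nat.one_lt_pow (by omega) hp.one_lt
  omega

/-- If the chain is still non-trivial at position `n - 1`, all its terms have the expected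
order. -/
theorem cards_of_ne_bot [Finite L] {p : ℕ} [Fact p.Prime] {N G : Subgroup L}
    (hN : IsPGroup p N) (hG : IsPGroup p G) (hGN : G ≤ Subgroup.normalizer (N : Set L))
    {n : ℕ} (hn : Nat.card N = p ^ n) (hn1 : 1 ≤ n)
    (hne : Cfsg.iterCommutator N G (n - 1) ≠ ⊥) :
    ∀ j ≤ n, Nat.card (Cfsg.iterCommutator N G j) = p ^ (n - j) := by
  have hp := (Fact.out : p.Prime)
  have hpj : ∀ j, IsPGroup p (Cfsg.iterCommutator N G j) := fun j => hN.to_le (iter_le hGN j)
  have hex : ∀ j, ∃ a, Nat.card (Cfsg.iterCommutator N G j) = p ^ a :=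
    fun j => IsPGroup.iff_card.mp (hpj j)
  choose a ha using hex
  have ha0 : a 0 = n := by
    have h0 : Nat.card (Cfsg.iterCommutator N G 0) = p ^ n := hn
    rw [ha 0] at h0
    exact Nat.pow_right_injective hp.two_le h0
  have hstep : ∀ j, j ≤ n - 1 → a (j + 1) + 1 ≤ a j := by
    intro j hj
    have hjne : Cfsg.iterCommutator N G j ≠ ⊥ := by
      intro h
      apply hne
      have := iter_antitone hGN hj
      rw [h] at this
      exact le_bot_iff.mp this
    have hle : Cfsg.iterCommutator N G (j + 1) ≤ Cfsg.iterCommutator N G j := iter_succ_le hGN j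
    have hne' : Cfsg.iterCommutator N G (j + 1) ≠ Cfsg.iterCommutator N G j :=
      commutator_ne_self (hpj j) hG (iter_normalized hGN j) hjne
    have hdvd : p ^ a (j + 1) ∣ p ^ a j := by
      rw [← ha, ← ha]; exact Subgroup.card_dvd_of_le hle
    have hle' : a (j + 1) ≤ a j := (Nat.pow_dvd_pow_iff_le_right hp.one_lt).mp hdvd
    by_contra hcon
    have h3 : a (j + 1) = a j := by omega
    apply hne'
    exact Subgroup.eq_of_le_of_card_ge hle (by rw [ha, ha, h3])
  have hup : ∀ j, j ≤ n → a j + j ≤ n := by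
    intro j
    induction j with
    | zero => intro _; omega
    | succ j ih =>
      intro hj
      have h1 := ih (by omega)
      have h2 := hstep j (by omega)
      omega
  have hlast : 1 ≤ a (n - 1) := by
    by_contra hcon
    have h0 : a (n - 1) = 0 := by omega
    apply hne
    have := ha (n - 1)
    rw [h0] at this
    exact eq_bot_of_card_pow_zero this
  have hdown : ∀ k, k ≤ n - 1 → k + 1 ≤ a (n - 1 - k) := by
    intro k
    induction k with
    | zero => intro _; simpa using hlast
    | succ k ih =>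
      intro hk
      have h1 := ih (by omega)
      have h2 := hstep (n - 1 - (k + 1)) (by omega)
      have h3 : n - 1 - (k + 1) + 1 = n - 1 - k := by omega
      rw [h3] at h2
      omega
  intro j hj
  rw [ha]
  congr 1
  rcases Nat.lt_or_ge j n with h | h
  · have h1 := hup j hj
    have h2 := hdown (n - 1 - j) (by omega)
    have h3 : n - 1 - (n - 1 - j) = j := by omega
    rw [h3] at h2
    omega
  · have h1 := hup j hj
    omega

/-- Under the uniserial hypothesis all chain terms have the expected order. -/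
theorem cards_of_uniserial [Finite L] {p : ℕ} [Fact p.Prime] {N G : Subgroup L}
    (hGN : G ≤ Subgroup.normalizer (N : Set L)) {n : ℕ} (hn : Nat.card N = p ^ n)
    (hU : ∀ H : Subgroup L, H ≤ N → G ≤ Subgroup.normalizer (H : Set L) → H ≠ ⊥ →
      (⁅H, G⁆).relIndex H = p) :
    ∀ j ≤ n, Nat.card (Cfsg.iterCommutator N G j) = p ^ (n - j) := by
  have hp := (Fact.out : p.Prime)
  intro j
  induction j with
  | zero => intro _; exact hn
  | succ j ih =>
    intro hj
    have hcj := ih (by omega)
    have hjne : Cfsg.iterCommutator N G j ≠ ⊥ := ne_bot_of_card_pow hcj (by omega)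
    have hrel : (Cfsg.iterCommutator N G (j + 1)).relIndex (Cfsg.iterCommutator N G j) = p :=
      hU _ (iter_le hGN j) (iter_normalized hGN j) hjne
    have h1 := Subgroup.relIndex_mul_relIndex ⊥ _ _
      (bot_le : ⊥ ≤ Cfsg.iterCommutator N G (j + 1)) (iter_succ_le hGN j)
    rw [Subgroup.relIndex_bot_left, Subgroup.relIndex_bot_left, hrel, hcj] at h1
    have h2 : n - j = (n - (j + 1)) + 1 := by omega
    rw [h2, pow_succ] at h1
    exact Nat.eq_of_mul_eq_mul_right hp.pos h1

/-- When the chain has the expected orders, `N` normalises all its terms. -/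
theorem N_normalizes [Finite L] {p : ℕ} [Fact p.Prime] {N G : Subgroup L}
    (hN : IsPGroup p N) (hG : IsPGroup p G) (hGN : G ≤ Subgroup.normalizer (N : Set L))
    {n : ℕ} (hc : ∀ j ≤ n, Nat.card (Cfsg.iterCommutator N G j) = p ^ (n - j)) :
    ∀ j ≤ n, N ≤ Subgroup.normalizer (Cfsg.iterCommutator N G j : Set L) := by
  intro j
  induction j with
  | zero => intro _; exact Subgroup.le_normalizer
  | succ j ih =>
    intro hj
    have ihj := ih (by omega)
    have hpj : IsPGroup p (Cfsg.iterCommutator N G j) := hN.to_le (iter_le hGN j)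
    have hcj := hc j (by omega)
    have hjne : Cfsg.iterCommutator N G j ≠ ⊥ := ne_bot_of_card_pow hcj (by omega)
    set Γ : Subgroup L := N ⊔ G with hΓdef
    have hΓp : IsPGroup p Γ := IsPGroup.to_sup_of_normal_left' hN hG hGN
    have hΓ : Γ ≤ Subgroup.normalizer (Cfsg.iterCommutator N G j : Set L) :=
      sup_le ihj (iter_normalized hGN j)
    have hT1 : ⁅Cfsg.iterCommutator N G j, Γ⁆ ≤ Cfsg.iterCommutator N G j :=
      commutator_le_of_normalizes hΓ
    have hT2 : Cfsg.iterCommutator N G (j + 1) ≤ ⁅Cfsg.iterCommutator N G j, Γ⁆ :=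
      Subgroup.commutator_mono le_rfl le_sup_right
    have hT3 : ⁅Cfsg.iterCommutator N G j, Γ⁆ ≠ Cfsg.iterCommutator N G j :=
      commutator_ne_self hpj hΓp hΓ hjne
    have hcj' : Nat.card (Cfsg.iterCommutator N G j) = p ^ (n - (j + 1) + 1) := by
      rw [hcj]; congr 1; omega
    have hT4 : ⁅Cfsg.iterCommutator N G j, Γ⁆ = Cfsg.iterCommutator N G (j + 1) := by
      rcases sandwich hT2 hT1 (hc (j + 1) hj) hcj' with h | h
      · exact h
      · exact absurd h hT3
    rw [← hT4]
    exact le_sup_left.trans (le_normalizer_commutator hΓ Subgroup.le_normalizer)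

/-- When the chain has the expected orders, every `G`-invariant subgroup of `N` is a chain
term. -/
theorem eq_iter_of_invariant [Finite L] {p : ℕ} [Fact p.Prime] {N G : Subgroup L}
    (hGN : G ≤ Subgroup.normalizer (N : Set L))
    {n : ℕ} (hc : ∀ j ≤ n, Nat.card (Cfsg.iterCommutator N G j) = p ^ (n - j))
    (hNn : ∀ j ≤ n, N ≤ Subgroup.normalizer (Cfsg.iterCommutator N G j : Set L))
    (H : Subgroup L) (hHN : H ≤ N) (hGH : G ≤ Subgroup.normalizer (H : Set L)) :
    ∃ i ≤ n, H = Cfsg.iterCommutator N G i := by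
  have hnbot : Cfsg.iterCommutator N G n = ⊥ := by
    have := hc n le_rfl
    rw [Nat.sub_self] at this
    exact eq_bot_of_card_pow_zero this
  by_cases hbot : H ≤ Cfsg.iterCommutator N G n
  · refine ⟨n, le_rfl, ?_⟩
    rw [hnbot] at hbot ⊢
    exact le_bot_iff.mp hbot
  · have hex : ∃ i, i < n ∧ H ≤ Cfsg.iterCommutator N G i ∧
        ¬ H ≤ Cfsg.iterCommutator N G (i + 1) := by
      by_contra hcon
      push Not at hcon
      have hall : ∀ i, i ≤ n → H ≤ Cfsg.iterCommutator N G i := by
        intro i
        induction i with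
        | zero => intro _; exact hHN
        | succ i ih => intro hi; exact hcon i (by omega) (ih (by omega))
      exact hbot (hall n le_rfl)
    obtain ⟨i, hin, hHi, hHi'⟩ := hex
    refine ⟨i, hin.le, ?_⟩
    have key : ∀ j, i + 1 ≤ j → j ≤ n → H ⊔ Cfsg.iterCommutator N G j =
        Cfsg.iterCommutator N G i := by
      intro j hj
      induction j, hj using Nat.le_induction with
      | base =>
        intro _
        have hci' : Nat.card (Cfsg.iterCommutator N G i) = p ^ (n - (i + 1) + 1) := by
          rw [hc i hin.le]; congr 1; omega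
        rcases sandwich (le_sup_right : Cfsg.iterCommutator N G (i + 1) ≤
            H ⊔ Cfsg.iterCommutator N G (i + 1)) (sup_le hHi (iter_succ_le hGN i))
            (hc (i + 1) (by omega)) hci' with h | h
        · exact absurd (h ▸ le_sup_left) hHi'
        · exact h
      | succ j hj ih =>
        intro hjn
        have ihj := ih (by omega)
        set M : Subgroup L := H ⊔ Cfsg.iterCommutator N G (j + 1) with hM
        have hMN : M ≤ N := sup_le hHN (iter_le hGN (j + 1))
        have hGM : G ≤ Subgroup.normalizer (M : Set L) :=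
          le_normalizer_sup hGH (iter_normalized hGN (j + 1))
        have hMj : M ⊔ Cfsg.iterCommutator N G j = Cfsg.iterCommutator N G i := by
          rw [hM, sup_assoc, sup_eq_right.mpr (iter_succ_le hGN j)]
          exact ihj
        have h1 : Cfsg.iterCommutator N G (i + 1) ≤ M := by
          show ⁅Cfsg.iterCommutator N G i, G⁆ ≤ M
          rw [← hMj, Subgroup.commutator_le]
          intro z hz g hg
          have hz' : z ∈ ((M ⊔ Cfsg.iterCommutator N G j : Subgroup L) : Set L) := hz
          rw [Subgroup.coe_mul_of_left_le_normalizer_right M (Cfsg.iterCommutator N G j)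
            (hMN.trans (hNn j (by omega)))] at hz'
          obtain ⟨x, hx, y, hy, rfl⟩ := hz'
          rw [comm_mul_left']
          apply M.mul_mem
          · have hyg : ⁅y, g⁆ ∈ Cfsg.iterCommutator N G (j + 1) :=
              Subgroup.commutator_mem_commutator hy hg
            have : x * ⁅y, g⁆ * x⁻¹ ∈ Cfsg.iterCommutator N G (j + 1) :=
              (Subgroup.mem_normalizer_iff.mp (hNn (j + 1) hjn (hMN hx)) _).mp hyg
            exact (le_sup_right : Cfsg.iterCommutator N G (j + 1) ≤ M) this
          · exact commutator_le_of_normalizes hGM (Subgroup.commutator_mem_commutator hx hg)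
        have h2 : Cfsg.iterCommutator N G j ≤ M := (iter_antitone hGN hj).trans h1
        rw [← hMj]
        exact (sup_eq_left.mpr h2).symm
    have := key n (by omega) le_rfl
    rw [hnbot, sup_bot_eq] at this
    exact this

/-- A p-group acts uniserially on a p-group N of order p^n exactly when the iterated commutator chain from N has length n; in that case the chain terms are all the invariant subgroups of N and they are normal in N. -/
theorem result {L : Type*} [Group L] [Finite L] {p : ℕ} [Fact p.Prime] (N G : Subgroup L) (hN : IsPGroup p N) (hG : IsPGroup p G) (hGN : G ≤ Subgroup.normalizer (N : Set L)) (n : ℕ) (hn : Nat.card N = p ^ n) : ((∀ H : Subgroup L, H ≤ N → G ≤ Subgroup.normalizer (H : Set L) → H ≠ ⊥ → (⁅H, G⁆).relIndex H = p) ↔ Cfsg.iterCommutator N G (n - 1) ≠ ⊥ ∨ n = 0) ∧ ((∀ H : Subgroup L, H ≤ N → G ≤ Subgroup.normalizer (H : Set L) → H ≠ ⊥ → (⁅H, G⁆).relIndex H = p) → ∀ H : Subgroup L, H ≤ N → G ≤ Subgroup.normalizer (H : Set L) → (∃ i ≤ n, H = Cfsg.iterCommutator N G i) ∧ N ≤ Subgroup.normalizer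 (H : Set L)) := by
  have hp := (Fact.out : p.Prime)
  have hfromcards : (∀ j ≤ n, Nat.card (Cfsg.iterCommutator N G j) = p ^ (n - j)) →
      ∀ H : Subgroup L, H ≤ N → G ≤ Subgroup.normalizer (H : Set L) →
        (∃ i ≤ n, H = Cfsg.iterCommutator N G i) ∧ N ≤ Subgroup.normalizer (H : Set L) := by
    intro hc H hHN hGH
    have hNn := N_normalizes hN hG hGN hc
    obtain ⟨i, hi, rfl⟩ := eq_iter_of_invariant hGN hc hNn H hHN hGH
    exact ⟨⟨i, hi, rfl⟩, hNn i hi⟩
  have hzero : n = 0 → ∀ H : Subgroup L, H ≤ N → H ≠ ⊥ → False := by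
    intro h0 H hHN hHne
    subst h0
    have hNbot : N = ⊥ := eq_bot_of_card_pow_zero hn
    rw [hNbot] at hHN
    exact hHne (le_bot_iff.mp hHN)
  refine ⟨⟨fun hU => ?_, fun h => ?_⟩, fun hU => hfromcards (cards_of_uniserial hGN hn hU)⟩
  · rcases Nat.eq_zero_or_pos n with h0 | hpos
    · right; exact h0
    · left
      have h1 := cards_of_uniserial hGN hn hU (n - 1) (by omega)
      exact ne_bot_of_card_pow h1 (by omega)
  · intro H hHN hGH hHne
    rcases h with h | h
    · by_cases h0 : n = 0
      · exact (hzero h0 H hHN hHne).elim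
      · have hc := cards_of_ne_bot hN hG hGN hn (by omega) h
        obtain ⟨⟨i, hi, rfl⟩, _⟩ := hfromcards hc H hHN hGH
        have hin : i < n := by
          by_contra hcon
          have hi' : i = n := by omega
          subst hi'
          have := hc i le_rfl
          rw [Nat.sub_self] at this
          exact hHne (eq_bot_of_card_pow_zero this)
        show (Cfsg.iterCommutator N G (i + 1)).relIndex (Cfsg.iterCommutator N G i) = p
        have h1 := Subgroup.relIndex_mul_relIndex ⊥ _ _
          (bot_le : ⊥ ≤ Cfsg.iterCommutator N G (i + 1)) (iter_succ_le hGN i)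
        rw [Subgroup.relIndex_bot_left, Subgroup.relIndex_bot_left, hc i hi,
          hc (i + 1) (by omega)] at h1
        have h2 : n - i = (n - (i + 1)) + 1 := by omega
        rw [h2, pow_succ] at h1
        exact Nat.eq_of_mul_eq_mul_left (pow_pos hp.pos _) h1
    · exact (hzero h H hHN hHne).elim

end Cfsg.Agent.S0663
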