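import Mathlib
import Cfsg.Statements.S0666
import Cfsg.Agent.Lib.Helper7_FrobGroup
import Cfsg.Agent.Lib.Helper6_ConjAct

set_option autoImplicit false
open Cfsg

namespace Cfsg.Agent.S0666

open Cfsg.Agent.Lib.Helper7_FrobGroup
open scoped IsMulCommutative

/-- A Frobenius group acting on a nontrivial abelian group of order prime to that of its kernel, with the kernel acting without nontrivial fixed points, has a complement with a nontrivial fixed point. -/
theorem result {G : Type*} [Group G] [Finite G] (V F : Subgroup G) (hVab : IsMulCommutative V) (hV1 : V ≠ ⊥) (hFV : F ≤ Subgroup.normalizer (V : Set G)) (H : Subgroup ↥F) (hH : Cfsg.IsFrobeniusComplement H) (hcop : (Nat.card V).Coprime (Nat.card (Cfsg.frobeniusKernel H))) (hCK : V ⊓ Subgroup.centralizer (Subtype.val '' Cfsg.frobeniusKernel H : Set G) = ⊥) : V ⊓ Subgroup.centralizer ((H.map F.subtype : Subgroup G) : Set G) ≠ ⊥ := by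
  classical
  intro hbot
  haveI := hVab
  letI act : MulDistribMulAction F V := Cfsg.Agent.Lib.Helper6_ConjAct.conjNormalizer F V hFV
  have hsmul : ∀ (f : F) (v : V), ((f • v : V) : G) = (f : G) * (v : G) * (f : G)⁻¹ :=
    fun _ _ => rfl
  have hcard : Nat.card (kernel H hH) = Nat.card (Cfsg.frobeniusKernel H) := by
    rw [← kernel_coe H hH]; rfl
  have key : ∀ w : V, w = 1 := by
    apply eq_one_of_frobenius_action (W := V) H hH
    · rw [hcard]; exact hcop
    · intro w hw
      have hmem : (w : G) ∈ V ⊓ Subgroup.centralizer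
          (Subtype.val '' Cfsg.frobeniusKernel H : Set G) := by
        refine Subgroup.mem_inf.mpr ⟨w.2, ?_⟩
        rw [Subgroup.mem_centralizer_iff]
        rintro _ ⟨k, hk, rfl⟩
        have hk' : k ∈ kernel H hH := by
          rw [← SetLike.mem_coe, kernel_coe]; exact hk
        have h1 := congrArg (fun v : V => (v : G)) (hw k hk')
        simp only [hsmul] at h1
        calc (k : G) * (w : G) = ((k : G) * (w : G) * (k : G)⁻¹) * (k : G) := by group
          _ = (w : G) * (k : G) := by rw [h1]
      rw [hCK] at hmem
      exact Subtype.ext (Subgroup.mem_bot.mp hmem)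
    · intro w hw
      have hmem : (w : G) ∈ V ⊓ Subgroup.centralizer
          ((H.map F.subtype : Subgroup G) : Set G) := by
        refine Subgroup.mem_inf.mpr ⟨w.2, ?_⟩
        rw [Subgroup.mem_centralizer_iff]
        rintro _ ⟨h, hh, rfl⟩
        have h1 := congrArg (fun v : V => (v : G)) (hw h hh)
        simp only [hsmul] at h1
        show (h : G) * (w : G) = (w : G) * (h : G)
        calc (h : G) * (w : G) = ((h : G) * (w : G) * (h : G)⁻¹) * (h : G) := by group
          _ = (w : G) * (h : G) := by rw [h1]
      rw [hbot] at hmem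
      exact Subtype.ext (Subgroup.mem_bot.mp hmem)
  apply hV1
  rw [eq_bot_iff]
  intro v hv
  have := key ⟨v, hv⟩
  exact Subgroup.mem_bot.mpr (congrArg Subtype.val this)

end Cfsg.Agent.S0666
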