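import Cfsg.Statements.S0668
import Mathlib

set_option autoImplicit false
open Cfsg

namespace Cfsg.Agent.S0668

section
variable {G : Type*} [Group G] {K : Type*} [Field K] {Ω₁ Ω₂ : Type*} [Fintype Ω₁] [Fintype Ω₂]
  [MulAction G Ω₁] [MulAction G Ω₂]

theorem rho_apply {Ω : Type*} [MulAction G Ω] (g : G) (f : Ω → K) (x : Ω) :
    Cfsg.permRep K G Ω g f x = f (g⁻¹ • x) := rfl

theorem rho_single {Ω : Type*} [MulAction G Ω] [DecidableEq Ω] (g : G) (x : Ω) :
    Cfsg.permRep K G Ω g (Pi.single x 1) = Pi.single (g • x) 1 := by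
  funext z
  rw [rho_apply, Pi.single_apply, Pi.single_apply]
  simp only [inv_smul_eq_iff]

/-- the map from functions on orbits to linear maps -/
noncomputable def Phi :
    (MulAction.orbitRel.Quotient G (Ω₁ × Ω₂) → K) →ₗ[K] ((Ω₁ → K) →ₗ[K] (Ω₂ → K)) where
  toFun c :=
    { toFun := fun f y => ∑ x, c (Quotient.mk'' (x, y)) * f x
      map_add' := by
        intro f₁ f₂
        funext y
        simp only [Pi.add_apply, mul_add, Finset.sum_add_distrib]
      map_smul' := by
        intro a f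
        funext y
        simp only [Pi.smul_apply, smul_eq_mul, RingHom.id_apply, Finset.mul_sum]
        apply Finset.sum_congr rfl
        intro x _
        ring }
  map_add' := by
    intro c₁ c₂
    apply LinearMap.ext
    intro f
    funext y
    show ∑ x, (c₁ + c₂) (Quotient.mk'' (x, y)) * f x =
      ∑ x, c₁ (Quotient.mk'' (x, y)) * f x + ∑ x, c₂ (Quotient.mk'' (x, y)) * f x
    simp only [Pi.add_apply, add_mul, Finset.sum_add_distrib]
  map_smul' := by
    intro a c
    apply LinearMap.ext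
    intro f
    funext y
    show ∑ x, (a • c) (Quotient.mk'' (x, y)) * f x =
      a • ∑ x, c (Quotient.mk'' (x, y)) * f x
    simp only [Pi.smul_apply, smul_eq_mul, Finset.mul_sum]
    apply Finset.sum_congr rfl
    intro x _
    ring

theorem Phi_apply (c : MulAction.orbitRel.Quotient G (Ω₁ × Ω₂) → K) (f : Ω₁ → K) (y : Ω₂) :
    Phi c f y = ∑ x, c (Quotient.mk'' (x, y)) * f x := rfl

theorem mk_smul (g : G) (x : Ω₁) (y : Ω₂) :
    (Quotient.mk'' (g • x, g • y) : MulAction.orbitRel.Quotient G (Ω₁ × Ω₂)) =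
      Quotient.mk'' (x, y) := by
  apply Quotient.sound'
  show (g • x, g • y) ∈ MulAction.orbit G (x, y)
  exact ⟨g, rfl⟩

theorem Phi_mem (c : MulAction.orbitRel.Quotient G (Ω₁ × Ω₂) → K) :
    Phi c ∈ ((Cfsg.permRep K G Ω₁).linHom (Cfsg.permRep K G Ω₂)).invariants := by
  rw [Representation.mem_invariants]
  intro g
  rw [Representation.linHom_apply]
  apply LinearMap.ext
  intro f
  funext y
  show Phi c (Cfsg.permRep K G Ω₁ g⁻¹ f) (g⁻¹ • y) = Phi c f y
  rw [Phi_apply, Phi_apply]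
  symm
  apply Fintype.sum_equiv (MulAction.toPerm g⁻¹)
  intro x
  show c (Quotient.mk'' (x, y)) * f x =
    c (Quotient.mk'' (g⁻¹ • x, g⁻¹ • y)) * f ((g⁻¹)⁻¹ • (g⁻¹ • x))
  rw [mk_smul, inv_inv, smul_inv_smul]

theorem decomp [DecidableEq Ω₁] (f : Ω₁ → K) :
    f = ∑ x, f x • (Pi.single x (1 : K) : Ω₁ → K) := by
  funext z
  rw [Finset.sum_apply]
  simp [Pi.single_apply]

end

theorem result {G : Type*} [Group G] {K : Type*} [Field K] {Ω₁ Ω₂ : Type*} [Fintype Ω₁] [Fintype Ω₂] [MulAction G Ω₁] [MulAction G Ω₂] : Module.finrank K ((Cfsg.permRep K G Ω₁).linHom (Cfsg.permRep K G Ω₂)).invariants = Nat.card (MulAction.orbitRel.Quotient G (Ω₁ × Ω₂)) := by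
  classical
  have : Finite (MulAction.orbitRel.Quotient G (Ω₁ × Ω₂)) := Quotient.finite _
  have : Fintype (MulAction.orbitRel.Quotient G (Ω₁ × Ω₂)) := Fintype.ofFinite _
  let Φ' : (MulAction.orbitRel.Quotient G (Ω₁ × Ω₂) → K) →ₗ[K]
      ((Cfsg.permRep K G Ω₁).linHom (Cfsg.permRep K G Ω₂)).invariants :=
    (Phi (G := G) (K := K) (Ω₁ := Ω₁) (Ω₂ := Ω₂)).codRestrict _ Phi_mem
  have hΦ' : ∀ c, ((Φ' c : ((Cfsg.permRep K G Ω₁).linHom (Cfsg.permRep K G Ω₂)).invariants) :
      (Ω₁ → K) →ₗ[K] (Ω₂ → K)) = Phi c := fun c => rfl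
  have hinj : Function.Injective Φ' := by
    rw [injective_iff_map_eq_zero]
    intro c hc
    funext q
    induction q using Quotient.inductionOn' with
    | h xy =>
      obtain ⟨x, y⟩ := xy
      have h1 : Phi c (Pi.single x 1) y = 0 := by
        rw [← hΦ', hc]; rfl
      rw [Phi_apply] at h1
      rw [Finset.sum_eq_single x] at h1
      · simpa using h1
      · intro x' _ hx'
        simp [Pi.single_apply, hx']
      · simp
  have hsurj : Function.Surjective Φ' := by
    rintro ⟨F, hF⟩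
    rw [Representation.mem_invariants] at hF
    have hequiv : ∀ (g : G) (f : Ω₁ → K),
        F (Cfsg.permRep K G Ω₁ g f) = Cfsg.permRep K G Ω₂ g (F f) := by
      intro g f
      have h1 := hF g
      rw [Representation.linHom_apply] at h1
      have h2 := LinearMap.congr_fun h1 (Cfsg.permRep K G Ω₁ g f)
      have h3 : Cfsg.permRep K G Ω₁ g⁻¹ (Cfsg.permRep K G Ω₁ g f) = f := by
        funext x
        rw [rho_apply, rho_apply, inv_inv, inv_smul_smul]
      rw [← h2]
      show Cfsg.permRep K G Ω₂ g (F (Cfsg.permRep K G Ω₁ g⁻¹ (Cfsg.permRep K G Ω₁ g f))) = _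
      rw [h3]
    let m : Ω₁ × Ω₂ → K := fun xy => F (Pi.single xy.1 1) xy.2
    have hm : ∀ a b : Ω₁ × Ω₂, (MulAction.orbitRel G (Ω₁ × Ω₂)) a b → m a = m b := by
      rintro ⟨x', y'⟩ ⟨x, y⟩ ⟨g, hg⟩
      have hx : x' = g • x := (congrArg Prod.fst hg).symm
      have hy : y' = g • y := (congrArg Prod.snd hg).symm
      show F (Pi.single x' 1) y' = F (Pi.single x 1) y
      rw [hx, hy, ← rho_single, hequiv, rho_apply, inv_smul_smul]
    let c : MulAction.orbitRel.Quotient G (Ω₁ × Ω₂) → K := Quotient.lift m hm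
    refine ⟨c, ?_⟩
    apply Subtype.ext
    rw [hΦ']
    apply LinearMap.ext
    intro f
    funext y
    rw [Phi_apply]
    conv_rhs => rw [decomp f]
    rw [map_sum, Finset.sum_apply]
    apply Finset.sum_congr rfl
    intro x _
    rw [map_smul, Pi.smul_apply, smul_eq_mul, mul_comm]
    rfl
  rw [← (LinearEquiv.ofBijective Φ' ⟨hinj, hsurj⟩).finrank_eq,
    Module.finrank_fintype_fun_eq_card, Nat.card_eq_fintype_card]

end Cfsg.Agent.S0668
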