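import Cfsg.Statements.S0669
import Mathlib

set_option autoImplicit false
open Cfsg

namespace Cfsg.Agent.S0669

/-- The rank of a transitive action: orbits on ordered pairs correspond to orbits of a point stabiliser. -/
theorem result {G : Type*} [Group G] {Ω : Type*} [Finite Ω] [MulAction G Ω] [MulAction.IsPretransitive G Ω] (a : Ω) : Nat.card (MulAction.orbitRel.Quotient G (Ω × Ω)) = Nat.card (MulAction.orbitRel.Quotient (MulAction.stabilizer G a) Ω) := by
  let f : MulAction.orbitRel.Quotient (MulAction.stabilizer G a) Ω →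
      MulAction.orbitRel.Quotient G (Ω × Ω) :=
    Quotient.map' (fun b => (a, b)) (by
      intro b b' h
      rw [MulAction.orbitRel_apply] at h ⊢
      obtain ⟨g, hg⟩ := h
      refine ⟨(g : G), ?_⟩
      show ((g : G) • a, (g : G) • b') = (a, b)
      rw [MulAction.mem_stabilizer_iff.mp g.2]
      exact congrArg (Prod.mk a) hg)
  have hinj : Function.Injective f := by
    intro x y
    refine Quotient.inductionOn₂' x y ?_
    intro b b' h
    have h1 : (Quotient.mk'' (a, b) : MulAction.orbitRel.Quotient G (Ω × Ω)) = Quotient.mk'' (a, b') := h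
    rw [Quotient.eq''] at h1
    rw [MulAction.orbitRel_apply] at h1
    obtain ⟨g, hg⟩ := h1
    have hg1 : g • a = a := congrArg Prod.fst hg
    have hg2 : g • b' = b := congrArg Prod.snd hg
    apply Quotient.sound'
    rw [MulAction.orbitRel_apply]
    exact ⟨⟨g, hg1⟩, hg2⟩
  have hsurj : Function.Surjective f := by
    intro z
    refine Quotient.inductionOn' z ?_
    rintro ⟨x, y⟩
    obtain ⟨g, hg⟩ := MulAction.exists_smul_eq G a x
    refine ⟨Quotient.mk'' (g⁻¹ • y), ?_⟩
    show (Quotient.mk'' (a, g⁻¹ • y) : MulAction.orbitRel.Quotient G (Ω × Ω)) = Quotient.mk'' (x, y)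
    apply Quotient.sound'
    rw [MulAction.orbitRel_apply]
    refine ⟨g⁻¹, ?_⟩
    show (g⁻¹ • x, g⁻¹ • y) = (a, g⁻¹ • y)
    rw [← hg, inv_smul_smul]
  exact (Nat.card_congr (Equiv.ofBijective f ⟨hinj, hsurj⟩)).symm

end Cfsg.Agent.S0669
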