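import Cfsg.Statements.S0673
import Cfsg.Agent.Lib.Helper9_PolyFun
import Mathlib

set_option autoImplicit false
open Cfsg

namespace Cfsg.Agent.S0673

open Cfsg.Agent.Helper9PF

theorem result {p : ℕ} [Fact p.Prime] {K : Type*} [Field K] [CharP K p] (W : Submodule K (ZMod p → K)) (hW : ∀ f ∈ W, (fun j => f (j - 1)) ∈ W) : ∃ r : ℕ, r ≤ p ∧ Module.finrank K W = r ∧ ∀ f : ZMod p → K, f ∈ W ↔ ∃ P : Polynomial K, P.degree < r ∧ ∀ j : ZMod p, f j = P.eval (ZMod.cast j : K) := by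
  obtain ⟨r, hr, hWr⟩ := invariant_eq_V p K W (fun f hf => hW f hf)
  refine ⟨r, hr, ?_, ?_⟩
  · rw [hWr]; exact finrank_V p K r hr
  · intro f
    rw [hWr, mem_V]
    constructor
    · rintro ⟨P, hP, rfl⟩
      exact ⟨P, hP, fun j => rfl⟩
    · rintro ⟨P, hP, h⟩
      exact ⟨P, hP, funext fun j => (h j).symm⟩

end Cfsg.Agent.S0673
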