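import Cfsg.Statements.S0676
import Cfsg.Agent.Lib.Helper9_PrimeDeg3
import Mathlib

set_option autoImplicit false
open Cfsg

namespace Cfsg.Agent.S0676

open Cfsg.Agent.Helper9PD Cfsg.Agent.Helper9PD3

/-- A non-solvable transitive permutation group of prime degree `p` whose Sylow `p`-normaliser has even order is triply transitive. -/
theorem result {α : Type*} [Fintype α] [DecidableEq α] {p : ℕ} [Fact p.Prime] (hα : Fintype.card α = p) (G : Subgroup (Equiv.Perm α)) [MulAction.IsPretransitive G α] (hG : ¬ Group.IsSolvable G) (P : Sylow p G) (heven : Even (Nat.card (Subgroup.normalizer ((P : Subgroup G) : Set G)))) : MulAction.IsMultiplyPretransitive G α 3 := by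
  classical
  have hp := (Fact.out : p.Prime)
  have hp5 : 5 ≤ p := by
    by_contra hlt
    push Not at hlt
    have hp4 : p ≠ 4 := by
      intro h4
      rw [h4] at hp
      exact absurd hp (by norm_num)
    exact hG (solvable_of_le_three G hα (by omega))
  obtain ⟨σ, t, ψ, hψ, htt, hθ⟩ := exists_neg_involution hα G (by omega) P heven
  have h2 : MulAction.IsMultiplyPretransitive G α 2 := (burnside G hα).resolve_left hG
  have h2ne : (2 : ZMod p) ≠ 0 := by
    intro h
    have h' : ((2 : ℕ) : ZMod p) = 0 := by exact_mod_cast h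
    have hd := (CharP.cast_eq_zero_iff (ZMod p) p 2).mp h'
    have := Nat.le_of_dvd (by norm_num) hd
    omega
  have ht1 : t ≠ 1 := by
    intro h
    have h1 := hθ 1
    rw [h] at h1
    have h3 : (1 : ZMod p) = -1 := by
      rw [← h1]
      show (1 : ZMod p) = ψ.symm (((1 : G) : Equiv.Perm α) (ψ 1))
      rw [Subgroup.coe_one, Equiv.Perm.one_apply, Equiv.symm_apply_apply]
    apply h2ne
    linear_combination h3
  have hfix : t • ψ 0 = ψ 0 := by
    have h0 := hθ 0
    rw [neg_zero] at h0
    have h1 := congrArg ψ h0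
    rwa [Equiv.apply_symm_apply] at h1
  have heven' : ∀ a : α, Even (Nat.card (MulAction.stabilizer G a)) := by
    intro a
    obtain ⟨g, hg⟩ := MulAction.exists_smul_eq G (ψ 0) a
    have hmem : g * t * g⁻¹ ∈ MulAction.stabilizer G a := by
      rw [MulAction.mem_stabilizer_iff, mul_smul, mul_smul, ← hg, inv_smul_smul, hfix]
    have hord : orderOf (⟨g * t * g⁻¹, hmem⟩ : MulAction.stabilizer G a) = 2 := by
      apply orderOf_eq_prime
      · apply Subtype.ext
        show (g * t * g⁻¹) ^ 2 = 1
        rw [pow_two]
        calc g * t * g⁻¹ * (g * t * g⁻¹) = g * (t * t) * g⁻¹ := by group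
          _ = 1 := by rw [htt]; group
      · intro h
        apply ht1
        have h1 : g * t * g⁻¹ = 1 := congrArg Subtype.val h
        calc t = g⁻¹ * (g * t * g⁻¹) * g := by group
          _ = 1 := by rw [h1]; group
    rw [even_iff_two_dvd, ← hord]
    exact orderOf_dvd_natCard _
  exact Cfsg.Agent.S0672.result (G := G) (K := ZMod p) (p := p) h2 (by rw [hα]) heven'
    (fun f hf => intertwiner_zero G σ t ψ hα hG hψ htt hθ f hf)

end Cfsg.Agent.S0676
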