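import Cfsg.Statements.S0681
import Mathlib
import Cfsg.Agent.Lib.Helper1_NearField

set_option autoImplicit false
open Cfsg
open Cfsg.Agent.Lib.Helper1_NearField

namespace Cfsg.Agent.S0681

/-- The affine maps `x ↦ x * a + b`, `a ≠ 0`, of a near-field form a sharply doubly transitive permutation group. -/
theorem result {F : Type*} [Cfsg.NearField F] : ∃ H : Subgroup (Equiv.Perm F), (∀ σ : Equiv.Perm F, σ ∈ H ↔ ∃ a b : F, a ≠ 0 ∧ ∀ x : F, σ x = x * a + b) ∧ MulAction.IsMultiplyPretransitive H F 2 ∧ ∀ x : Fin 2 ↪ F, MulAction.stabilizer H x = ⊥ := by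
  refine ⟨affSub F, mem_affSub, ?_, ?_⟩
  · rw [MulAction.is_two_pretransitive_iff]
    intro x1 x2 y1 y2 hx hy
    have hx' : x1 - x2 ≠ 0 := sub_ne_zero.2 hx
    have hy' : y1 - y2 ≠ 0 := sub_ne_zero.2 hy
    obtain ⟨u, hu1, hu2⟩ := nf_exists_inv (x1 - x2) hx'
    have hu : u ≠ 0 := nf_inv_ne_zero hu1
    have hk : u * (y1 - y2) ≠ 0 := nf_mul_ne_zero hu hy'
    refine ⟨⟨affPerm (u * (y1 - y2)) (-(x1 * (u * (y1 - y2))) + y1) hk, affPerm_mem _ _ _⟩, ?_, ?_⟩
    · show x1 * (u * (y1 - y2)) + (-(x1 * (u * (y1 - y2))) + y1) = y1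
      rw [add_neg_cancel_left]
    · show x2 * (u * (y1 - y2)) + (-(x1 * (u * (y1 - y2))) + y1) = y2
      rw [← add_assoc, ← sub_eq_add_neg, ← nf_sub_mul, ← neg_sub x1 x2, nf_neg_mul, ← mul_assoc, hu1,
        one_mul, neg_sub, sub_add_cancel]
  · intro x
    rw [eq_bot_iff]
    intro g hg
    rw [Subgroup.mem_bot]
    rw [MulAction.mem_stabilizer_iff] at hg
    have h0 : (g : Equiv.Perm F) (x 0) = x 0 := by
      have := congrArg (fun e : Fin 2 ↪ F => e 0) hg
      exact this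
    have h1 : (g : Equiv.Perm F) (x 1) = x 1 := by
      have := congrArg (fun e : Fin 2 ↪ F => e 1) hg
      exact this
    obtain ⟨a, b, ha, hab⟩ := g.2
    rw [hab] at h0 h1
    have hne : x 0 - x 1 ≠ 0 := by
      rw [sub_ne_zero]
      intro h
      have := x.injective h
      simp at this
    have h2 : (x 0 - x 1) * a = x 0 - x 1 := by
      rw [nf_sub_mul, ← add_sub_add_right_eq_sub _ _ b, h0, h1]
    obtain ⟨u, hu1, hu2⟩ := nf_exists_inv (x 0 - x 1) hne
    have ha1 : a = 1 := by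
      calc a = (u * (x 0 - x 1)) * a := by rw [hu2, one_mul]
        _ = u * ((x 0 - x 1) * a) := mul_assoc _ _ _
        _ = 1 := by rw [h2, hu2]
    have hb0 : b = 0 := by
      rw [ha1, mul_one] at h0
      exact add_eq_left.mp h0
    apply Subtype.ext
    ext y
    show (g : Equiv.Perm F) y = y
    rw [hab, ha1, hb0, mul_one, add_zero]

end Cfsg.Agent.S0681
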