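import Cfsg.Statements.S0682
import Mathlib
import Cfsg.Agent.Lib.Helper1_NearField

set_option autoImplicit false
open Cfsg
open Cfsg.Agent.Lib.Helper1_NearField

namespace Cfsg.Agent.S0682

/-- right multiplication as an additive hom -/
def rmul {F : Type*} [Cfsg.NearField F] (c : F) : F →+ F where
  toFun x := x * c
  map_zero' := nf_zero_mul c
  map_add' a b := nf_add_mul a b c

theorem rmul_injective {F : Type*} [Cfsg.NearField F] {c : F} (hc : c ≠ 0) :
    Function.Injective (rmul c) := fun _ _ h => nf_mul_right_cancel hc h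

/-- A finite near-field has prime-power order, and its additive group is elementary abelian. -/
theorem result {F : Type*} [Cfsg.NearField F] [Finite F] : ∃ p j : ℕ, p.Prime ∧ 1 ≤ j ∧ Nat.card F = p ^ j ∧ (∀ x y : F, x + y = y + x) ∧ ∀ x : F, p • x = 0 := by
  have h01 : (0 : F) ≠ 1 := nf_zero_ne_one
  set n := addOrderOf (1 : F) with hn
  have hord : ∀ x : F, x ≠ 0 → addOrderOf x = n := by
    intro x hx
    have := addOrderOf_injective (rmul x) (rmul_injective hx) 1
    rw [hn, ← this]
    show addOrderOf x = addOrderOf (1 * x)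
    rw [one_mul]
  have hnpos : 0 < n := addOrderOf_pos 1
  have hn1 : n ≠ 1 := by
    intro h
    rw [hn, AddMonoid.addOrderOf_eq_one_iff] at h
    exact h01 h.symm
  obtain ⟨p, hp, hpn⟩ := Nat.exists_prime_and_dvd hn1
  obtain ⟨m, hm⟩ := hpn
  have hnp : n = p := by
    by_cases hy : m • (1 : F) = 0
    · exfalso
      have : n ∣ m := addOrderOf_dvd_of_nsmul_eq_zero hy
      rw [hm] at this
      have hm0 : m ≠ 0 := by
        rintro rfl
        rw [mul_zero] at hm; omega
      have h2 : p * m ≤ m := Nat.le_of_dvd (Nat.pos_of_ne_zero hm0) this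
      have h3 : 2 * m ≤ p * m := Nat.mul_le_mul_right m hp.two_le
      omega
    · have h1 := hord _ hy
      have h2 : p • (m • (1 : F)) = 0 := by
        rw [← mul_nsmul', ← hm]
        exact addOrderOf_nsmul_eq_zero 1
      have h3 : n ∣ p := by
        rw [← h1]
        exact addOrderOf_dvd_of_nsmul_eq_zero h2
      rcases (Nat.dvd_prime hp).1 h3 with h4 | h4
      · exact absurd h4 hn1
      · exact h4
  have hpx : ∀ x : F, p • x = 0 := by
    intro x
    by_cases hx : x = 0
    · rw [hx, smul_zero]
    · rw [← hnp, ← hord x hx]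
      exact addOrderOf_nsmul_eq_zero x
  haveI : Fact p.Prime := ⟨hp⟩
  have hPG : IsPGroup p (Multiplicative F) := by
    intro g
    refine ⟨1, ?_⟩
    rw [pow_one]
    exact congrArg Multiplicative.ofAdd (hpx (Multiplicative.toAdd g))
  obtain ⟨j, hj⟩ := IsPGroup.iff_card.1 hPG
  have hcardF : Nat.card F = p ^ j := by
    rw [← hj]; rfl
  haveI : Nontrivial F := ⟨⟨0, 1, h01⟩⟩
  have hj1 : 1 ≤ j := by
    rcases Nat.eq_zero_or_pos j with h0 | h0
    · exfalso
      rw [h0, pow_zero] at hcardF
      have := Finite.one_lt_card (α := F)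
      omega
    · exact h0
  refine ⟨p, j, hp, hj1, hcardF, ?_, hpx⟩
  -- commutativity
  haveI : Nontrivial (Multiplicative F) := ⟨⟨Multiplicative.ofAdd 0, Multiplicative.ofAdd 1,
    fun h => h01 (Multiplicative.ofAdd.injective h)⟩⟩
  have hcen := IsPGroup.center_nontrivial hPG
  obtain ⟨z, hz⟩ := exists_ne (1 : Subgroup.center (Multiplicative F))
  set z0 : F := Multiplicative.toAdd (z : Multiplicative F) with hz0
  have hz0ne : z0 ≠ 0 := by
    intro h
    apply hz
    apply Subtype.ext
    exact congrArg Multiplicative.ofAdd h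
  have hzc : ∀ x : F, x + z0 = z0 + x := by
    intro x
    have := Subgroup.mem_center_iff.1 z.2 (Multiplicative.ofAdd x)
    exact congrArg Multiplicative.toAdd this
  have hcentral : ∀ y : F, y ≠ 0 → ∀ x : F, x + y = y + x := by
    intro y hy x
    obtain ⟨z', h1, h2⟩ := nf_exists_inv z0 hz0ne
    have hz' : z' ≠ 0 := nf_inv_ne_zero h1
    set c := z' * y with hc
    have hcne : c ≠ 0 := nf_mul_ne_zero hz' hy
    have hyc : y = z0 * c := by rw [hc, ← mul_assoc, h1, one_mul]
    obtain ⟨c', hc1, hc2⟩ := nf_exists_inv c hcne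
    have hx : x = (x * c') * c := by rw [mul_assoc, hc2, mul_one]
    rw [hyc, hx, ← nf_add_mul, ← nf_add_mul, hzc]
  intro x y
  by_cases hy : y = 0
  · rw [hy, add_zero, zero_add]
  · exact hcentral y hy x

end Cfsg.Agent.S0682
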