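import Cfsg.Statements.S0684
import Mathlib
import Cfsg.Agent.Lib.Helper5_FpfCyclic
import Cfsg.Agent.Lib.Helper5_Frob

set_option autoImplicit false
open Cfsg

namespace Cfsg.Agent.S0684

open Cfsg.Agent.Lib.Helper5_FpfCyclic Cfsg.Agent.Lib.Helper5_Frob

/-- Point stabiliser of a sharply doubly transitive group not of semilinear type: a maximal normal abelian subgroup `A` of a linear group `H` that is regular on non-zero vectors and has no irreducible cyclic normal subgroup is cyclic and reducible, and the order of `A` divides `p ^ k - 1` for `k` the dimension of a minimal `A`-invariant subspace. -/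
theorem result {p : ℕ} [Fact p.Prime] {V : Type*} [AddCommGroup V] [Module (ZMod p) V] [Finite V] (H : Subgroup (V ≃ₗ[ZMod p] V)) (hreg : ∀ v w : V, v ≠ 0 → w ≠ 0 → ∃! h : H, (h : V ≃ₗ[ZMod p] V) v = w) (hI : ∀ A : Subgroup H, A.Normal → IsCyclic A → ∃ W : Submodule (ZMod p) V, W ≠ ⊥ ∧ W ≠ ⊤ ∧ ∀ a ∈ A, ∀ v ∈ W, ((a : H) : V ≃ₗ[ZMod p] V) v ∈ W) (A : Subgroup H) (hAn : A.Normal) (hAc : IsMulCommutative A) (hAmax : ∀ B : Subgroup H, B.Normal → IsMulCommutative B → A ≤ B → B = A) : IsCyclic A ∧ ∃ W : Submodule (ZMod p) V, W ≠ ⊥ ∧ W ≠ ⊤ ∧ (∀ a ∈ A, ∀ v ∈ W, ((a : H) : V ≃ₗ[ZMod p] V) v ∈ W) ∧ (∀ W' : Submodule (ZMod p) V, W' ≤ W → (∀ a ∈ A, ∀ v ∈ W', ((a : H) : V ≃ₗ[ZMod p] V) v ∈ W') → W' = ⊥ ∨ W' = W) ∧ Nat.card A ∣ p ^ Module.finrank (ZMod p) W - 1 := by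
  classical
  have hfpf : ∀ h : H, ∀ v : V, v ≠ 0 → (h : V ≃ₗ[ZMod p] V) v = v → h = 1 := by
    intro h v hv hh
    obtain ⟨h0, _, huniq⟩ := hreg v v hv hv
    rw [huniq h hh, huniq 1 (by simp)]
  haveI : Finite (V ≃ₗ[ZMod p] V) :=
    Finite.of_injective (fun e => (e : V → V)) DFunLike.coe_injective
  let ρ : ↥A →* (V →ₗ[ZMod p] V) :=
    { toFun := fun a => (((a : H) : V ≃ₗ[ZMod p] V) : V →ₗ[ZMod p] V)
      map_one' := rfl
      map_mul' := fun _ _ => rfl }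
  have hcomm : ∀ a b : A, a * b = b * a := fun a b => hAc.is_comm.comm a b
  obtain ⟨W₁, hW₁0, hW₁T, _⟩ := hI ⊥ inferInstance inferInstance
  have htop : (⊤ : Submodule (ZMod p) V) ≠ ⊥ := by
    intro h; apply hW₁0; rw [eq_bot_iff, ← h]; exact le_top
  obtain ⟨Wc, _, hWc0, hWcinv, hWcmin⟩ :=
    exists_min_invariant (Set.range ρ) ⊤ htop (fun _ _ _ _ => Submodule.mem_top)
  have hcyc : IsCyclic A :=
    isCyclic_of_fpf_irred hcomm ρ Wc hWc0 (fun a v hv => hWcinv _ ⟨a, rfl⟩ v hv)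
      (fun W' hle hinv => hWcmin W' hle (by rintro _ ⟨a, rfl⟩ v hv; exact hinv a v hv))
      (fun a v _ hv0 hav => by
        have := hfpf (a : H) v hv0 hav
        exact Subtype.ext this)
  refine ⟨hcyc, ?_⟩
  obtain ⟨W₀, hW₀0, hW₀T, hW₀inv⟩ := hI A hAn hcyc
  obtain ⟨W, hWle, hW0, hWinv, hWmin⟩ :=
    exists_min_invariant (Set.range ρ) W₀ hW₀0
      (by rintro _ ⟨a, rfl⟩ v hv; exact hW₀inv a a.2 v hv)
  refine ⟨W, hW0, ?_, ?_, ?_, ?_⟩
  · intro h; apply hW₀T; rw [eq_top_iff, ← h]; exact hWle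
  · intro a ha v hv; exact hWinv _ ⟨⟨a, ha⟩, rfl⟩ v hv
  · intro W' hle hinv
    exact hWmin W' hle (by rintro _ ⟨a, rfl⟩ v hv; exact hinv a a.2 v hv)
  · let Y : Set V := (W : Set V) \ {0}
    letI : MulAction A Y :=
      { smul := fun a y => ⟨((a : H) : V ≃ₗ[ZMod p] V) y,
          ⟨hWinv _ ⟨a, rfl⟩ y y.2.1, fun h0 => y.2.2 (by
            have h1 : ((a : H) : V ≃ₗ[ZMod p] V) (y : V) = 0 := h0
            have h2 : (y : V) = 0 := by simpa using h1
            exact h2)⟩⟩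
        one_smul := fun y => Subtype.ext rfl
        mul_smul := fun a b y => Subtype.ext rfl }
    have hdvd : Nat.card A ∣ Nat.card Y := card_dvd_of_free (fun y => by
      rw [eq_bot_iff]; intro a ha; rw [Subgroup.mem_bot]
      have h1 : a • y = y := ha
      have h2 : ((a : H) : V ≃ₗ[ZMod p] V) (y : V) = y := congrArg Subtype.val h1
      exact Subtype.ext (hfpf (a : H) y (fun h => y.2.2 h) h2))
    have hY : Nat.card Y + 1 = Nat.card W := by
      rw [_root_.Nat.card_coe_set_eq]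
      have h0 : (0 : V) ∈ (W : Set V) := W.zero_mem
      have := Set.ncard_sdiff_singleton_add_one h0 (Set.toFinite _)
      rw [this]
      exact (_root_.Nat.card_coe_set_eq _).symm
    have hWc : Nat.card W = p ^ Module.finrank (ZMod p) W := by
      rw [Module.natCard_eq_pow_finrank (K := ZMod p), Nat.card_zmod]
    rw [← hWc, ← hY, Nat.add_sub_cancel]
    exact hdvd

end Cfsg.Agent.S0684
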