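import Cfsg.Statements.S0685
import Mathlib
import Cfsg.Agent.Lib.Helper5_FpfCyclic
import Cfsg.Agent.Lib.Helper5_RegLin

set_option autoImplicit false
open Cfsg

namespace Cfsg.Agent.S0685

open Cfsg.Agent.Lib.Helper5_FpfCyclic Cfsg.Agent.Lib.Helper5_RegLin

/-- In a linear group over the prime field that is regular on non-zero vectors and has no irreducible cyclic normal subgroup, a maximal normal abelian subgroup is properly contained in its centraliser, which is non-abelian. -/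
theorem result {p : ℕ} [Fact p.Prime] {V : Type*} [AddCommGroup V] [Module (ZMod p) V] [Finite V] (H : Subgroup (V ≃ₗ[ZMod p] V)) (hreg : ∀ v w : V, v ≠ 0 → w ≠ 0 → ∃! h : H, (h : V ≃ₗ[ZMod p] V) v = w) (hI : ∀ A : Subgroup H, A.Normal → IsCyclic A → ∃ W : Submodule (ZMod p) V, W ≠ ⊥ ∧ W ≠ ⊤ ∧ ∀ a ∈ A, ∀ v ∈ W, ((a : H) : V ≃ₗ[ZMod p] V) v ∈ W) (A : Subgroup H) (hAn : A.Normal) (hAc : IsMulCommutative A) (hAmax : ∀ B : Subgroup H, B.Normal → IsMulCommutative B → A ≤ B → B = A) : A < Subgroup.centralizer (A : Set H) ∧ ¬ IsMulCommutative (Subgroup.centralizer (A : Set H)) := by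
  classical
  have hfpf : ∀ h : H, ∀ v : V, v ≠ 0 → (h : V ≃ₗ[ZMod p] V) v = v → h = 1 := by
    intro h v hv hh
    obtain ⟨h0, _, huniq⟩ := hreg v v hv hv
    rw [huniq h hh, huniq 1 (by simp)]
  haveI : Finite (V ≃ₗ[ZMod p] V) :=
    Finite.of_injective (fun e => (e : V → V)) DFunLike.coe_injective
  let ρ : ↥A →* (V →ₗ[ZMod p] V) :=
    { toFun := fun a => (((a : H) : V ≃ₗ[ZMod p] V) : V →ₗ[ZMod p] V)
      map_one' := rfl
      map_mul' := fun _ _ => rfl }
  have hcomm : ∀ a b : A, a * b = b * a := fun a b => hAc.is_comm.comm a b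
  obtain ⟨W₁, hW₁0, hW₁T, _⟩ := hI ⊥ inferInstance inferInstance
  have htop : (⊤ : Submodule (ZMod p) V) ≠ ⊥ := by
    intro h; apply hW₁0; rw [eq_bot_iff, ← h]; exact le_top
  obtain ⟨Wc, _, hWc0, hWcinv, hWcmin⟩ :=
    exists_min_invariant (Set.range ρ) ⊤ htop (fun _ _ _ _ => Submodule.mem_top)
  have hcyc : IsCyclic A :=
    isCyclic_of_fpf_irred hcomm ρ Wc hWc0 (fun a v hv => hWcinv _ ⟨a, rfl⟩ v hv)
      (fun W' hle hinv => hWcmin W' hle (by rintro _ ⟨a, rfl⟩ v hv; exact hinv a v hv))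
      (fun a v _ hv0 hav => by
        have := hfpf (a : H) v hv0 hav
        exact Subtype.ext this)
  obtain ⟨W₀, hW₀0, hW₀T, hW₀inv⟩ := hI A hAn hcyc
  have hne := centralizer_ne H hreg A hAn hcomm W₀ hW₀0 hW₀T hW₀inv
  have hle : A ≤ Subgroup.centralizer (A : Set H) := by
    intro a ha
    rw [Subgroup.mem_centralizer_iff]
    intro b hb
    have := hcomm ⟨b, hb⟩ ⟨a, ha⟩
    exact congrArg Subtype.val this
  have hlt : A < Subgroup.centralizer (A : Set H) := lt_of_le_of_ne hle (Ne.symm hne)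
  refine ⟨hlt, ?_⟩
  intro hCc
  have hCn : (Subgroup.centralizer (A : Set H)).Normal := inferInstance
  exact hne (hAmax _ hCn hCc hle)

end Cfsg.Agent.S0685
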