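import Cfsg.Statements.S0691
import Mathlib

set_option autoImplicit false
open Cfsg

namespace Cfsg.Agent.S0691

abbrev Idx := Fin 4 × Fin 2 × Fin 3
def A0 : Matrix (Fin 2) (Fin 2) (ZMod 5) := !![2, 0; 0, -2]
def B0 : Matrix (Fin 2) (Fin 2) (ZMod 5) := !![0, -1; 1, 0]
def C0 : Matrix (Fin 2) (Fin 2) (ZMod 5) := !![1, 2; 1, -2]
def f0 (x : Idx) : Matrix (Fin 2) (Fin 2) (ZMod 5) :=
  A0 ^ (x.1 : ℕ) * B0 ^ (x.2.1 : ℕ) * C0 ^ (x.2.2 : ℕ)

set_option maxRecDepth 1000000 in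
theorem f0_inj : ∀ x y : Idx, f0 x = f0 y → x = y := by decide +kernel

set_option maxRecDepth 1000000 in
theorem closedA : ∀ x : Idx, ∃ y : Idx, A0 * f0 x = f0 y := by decide +kernel
set_option maxRecDepth 1000000 in
theorem closedB : ∀ x : Idx, ∃ y : Idx, B0 * f0 x = f0 y := by decide +kernel
set_option maxRecDepth 1000000 in
theorem closedC : ∀ x : Idx, ∃ y : Idx, C0 * f0 x = f0 y := by decide +kernel
set_option maxRecDepth 1000000 in
theorem powA : A0 ^ 4 = 1 := by decide +kernel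
set_option maxRecDepth 1000000 in
theorem powB : B0 ^ 4 = 1 := by decide +kernel
set_option maxRecDepth 1000000 in
theorem powC : C0 ^ 3 = 1 := by decide +kernel

set_option maxRecDepth 1000000 in
theorem reg1 : ∀ v w : Fin 2 → ZMod 5, v ≠ 0 → w ≠ 0 →
    ∃ x : Idx, Matrix.mulVec (f0 x) v = w := by decide +kernel

set_option maxRecDepth 1000000 in
theorem reg2 : ∀ v : Fin 2 → ZMod 5, v ≠ 0 → ∀ x y : Idx,
    Matrix.mulVec (f0 x) v = Matrix.mulVec (f0 y) v → x = y := by decide +kernel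

/-- statement -/
theorem result (A : Matrix.GeneralLinearGroup (Fin 2) (ZMod 5)) (B : Matrix.GeneralLinearGroup (Fin 2) (ZMod 5)) (C : Matrix.GeneralLinearGroup (Fin 2) (ZMod 5)) (hA : (A : Matrix (Fin 2) (Fin 2) (ZMod 5)) = !![2, 0; 0, -2]) (hB : (B : Matrix (Fin 2) (Fin 2) (ZMod 5)) = !![0, -1; 1, 0]) (hC : (C : Matrix (Fin 2) (Fin 2) (ZMod 5)) = !![1, 2; 1, -2]) : Nat.card (Subgroup.closure ({A, B, C} : Set (Matrix.GeneralLinearGroup (Fin 2) (ZMod 5)))) = 24 ∧ ∀ v w : Fin 2 → ZMod 5, v ≠ 0 → w ≠ 0 → ∃! h : Subgroup.closure ({A, B, C} : Set (Matrix.GeneralLinearGroup (Fin 2) (ZMod 5))), Matrix.mulVec ((h : Matrix.GeneralLinearGroup (Fin 2) (ZMod 5)) : Matrix (Fin 2) (Fin 2) (ZMod 5)) v = w := by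
  set H := Subgroup.closure ({A, B, C} : Set (Matrix.GeneralLinearGroup (Fin 2) (ZMod 5))) with hH
  have hA' : (A : Matrix (Fin 2) (Fin 2) (ZMod 5)) = A0 := hA
  have hB' : (B : Matrix (Fin 2) (Fin 2) (ZMod 5)) = B0 := hB
  have hC' : (C : Matrix (Fin 2) (Fin 2) (ZMod 5)) = C0 := hC
  have hAm : A ∈ H := Subgroup.subset_closure (by simp)
  have hBm : B ∈ H := Subgroup.subset_closure (by simp)
  have hCm : C ∈ H := Subgroup.subset_closure (by simp)
  -- the parametrisation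
  let f : Idx → Matrix.GeneralLinearGroup (Fin 2) (ZMod 5) :=
    fun x => A ^ (x.1 : ℕ) * B ^ (x.2.1 : ℕ) * C ^ (x.2.2 : ℕ)
  have hf0 : ∀ x, ((f x : Matrix.GeneralLinearGroup (Fin 2) (ZMod 5)) :
      Matrix (Fin 2) (Fin 2) (ZMod 5)) = f0 x := by
    intro x
    simp only [f, f0, Units.val_mul, Units.val_pow_eq_pow_val, hA', hB', hC']
  have hfH : ∀ x, f x ∈ H := fun x =>
    H.mul_mem (H.mul_mem (H.pow_mem hAm _) (H.pow_mem hBm _)) (H.pow_mem hCm _)
  have hAinv : A⁻¹ = A ^ 3 := by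
    rw [inv_eq_iff_mul_eq_one, ← pow_succ']
    apply Units.ext
    rw [Units.val_pow_eq_pow_val, hA']; exact powA
  have hBinv : B⁻¹ = B ^ 3 := by
    rw [inv_eq_iff_mul_eq_one, ← pow_succ']
    apply Units.ext
    rw [Units.val_pow_eq_pow_val, hB']; exact powB
  have hCinv : C⁻¹ = C ^ 2 := by
    rw [inv_eq_iff_mul_eq_one, ← pow_succ']
    apply Units.ext
    rw [Units.val_pow_eq_pow_val, hC']; exact powC
  have hmulA : ∀ g, g ∈ Set.range f → A * g ∈ Set.range f := by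
    rintro _ ⟨x, rfl⟩
    obtain ⟨y, hy⟩ := closedA x
    refine ⟨y, Units.ext ?_⟩
    rw [hf0, Units.val_mul, hf0, hA', hy]
  have hmulB : ∀ g, g ∈ Set.range f → B * g ∈ Set.range f := by
    rintro _ ⟨x, rfl⟩
    obtain ⟨y, hy⟩ := closedB x
    refine ⟨y, Units.ext ?_⟩
    rw [hf0, Units.val_mul, hf0, hB', hy]
  have hmulC : ∀ g, g ∈ Set.range f → C * g ∈ Set.range f := by
    rintro _ ⟨x, rfl⟩
    obtain ⟨y, hy⟩ := closedC x
    refine ⟨y, Units.ext ?_⟩
    rw [hf0, Units.val_mul, hf0, hC', hy]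
  have hsub : ∀ g ∈ H, g ∈ Set.range f := by
    intro g hg
    induction hg using Subgroup.closure_induction_left with
    | one => exact ⟨(0, 0, 0), by simp [f]⟩
    | mul_left x hx y _ ih =>
      rcases hx with rfl | rfl | hx
      · exact hmulA y ih
      · exact hmulB y ih
      · rw [Set.mem_singleton_iff] at hx; subst hx; exact hmulC y ih
    | inv_mul_cancel x hx y _ ih =>
      rcases hx with rfl | rfl | hx
      · rw [hAinv, pow_succ, pow_succ, pow_one, mul_assoc, mul_assoc]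
        exact hmulA _ (hmulA _ (hmulA y ih))
      · rw [hBinv, pow_succ, pow_succ, pow_one, mul_assoc, mul_assoc]
        exact hmulB _ (hmulB _ (hmulB y ih))
      · rw [Set.mem_singleton_iff] at hx; subst hx
        rw [hCinv, pow_succ, pow_one, mul_assoc]
        exact hmulC _ (hmulC y ih)
  have hfinj : Function.Injective f := by
    intro x y hxy
    apply f0_inj
    rw [← hf0, ← hf0, hxy]
  -- the equivalence Idx ≃ H
  let e : Idx ≃ H := Equiv.ofBijective (fun x => ⟨f x, hfH x⟩) ⟨fun x y hxy => hfinj (congrArg Subtype.val hxy),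
    fun h => by
      obtain ⟨x, hx⟩ := hsub h.1 h.2
      exact ⟨x, Subtype.ext hx⟩⟩
  refine ⟨?_, ?_⟩
  · rw [← Nat.card_congr e]
    simp
  · intro v w hv hw
    obtain ⟨x, hx⟩ := reg1 v w hv hw
    refine ⟨e x, ?_, ?_⟩
    · show Matrix.mulVec ((f x : Matrix.GeneralLinearGroup (Fin 2) (ZMod 5)) :
        Matrix (Fin 2) (Fin 2) (ZMod 5)) v = w
      rw [hf0]; exact hx
    · intro h hh
      obtain ⟨y, rfl⟩ := e.surjective h
      have hy : Matrix.mulVec ((f y : Matrix.GeneralLinearGroup (Fin 2) (ZMod 5)) :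
        Matrix (Fin 2) (Fin 2) (ZMod 5)) v = w := hh
      rw [hf0] at hy
      rw [reg2 v hv y x (hy.trans hx.symm)]

end Cfsg.Agent.S0691
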