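import Cfsg.Statements.S0692
import Mathlib

set_option autoImplicit false
open Cfsg

namespace Cfsg.Agent.S0692

abbrev Idx := Fin 4 × Fin 2 × Fin 3 × Fin 5
def A0 : Matrix (Fin 2) (Fin 2) (ZMod 11) := !![0, -1; 1, 0]
def B0 : Matrix (Fin 2) (Fin 2) (ZMod 11) := !![2, 4; 1, -3]
def W2 : Matrix (Fin 2) (Fin 2) (ZMod 11) := B0*A0*B0*B0*A0*B0*A0*B0*B0*A0*B0
def W3 : Matrix (Fin 2) (Fin 2) (ZMod 11) := A0*B0*B0*A0*B0*A0*B0*A0
def W4 : Matrix (Fin 2) (Fin 2) (ZMod 11) := A0*B0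
def f0 (x : Idx) : Matrix (Fin 2) (Fin 2) (ZMod 11) :=
  A0 ^ (x.1 : ℕ) * W2 ^ (x.2.1 : ℕ) * W3 ^ (x.2.2.1 : ℕ) * W4 ^ (x.2.2.2 : ℕ)

set_option maxRecDepth 1000000 in
theorem f0_inj : ∀ x y : Idx, f0 x = f0 y → x = y := by decide +kernel
set_option maxRecDepth 1000000 in
theorem closedA : ∀ x : Idx, ∃ y : Idx, A0 * f0 x = f0 y := by decide +kernel
set_option maxRecDepth 1000000 in
theorem closedB : ∀ x : Idx, ∃ y : Idx, B0 * f0 x = f0 y := by decide +kernel
set_option maxRecDepth 1000000 in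
theorem powA : A0 ^ 4 = 1 := by decide +kernel
set_option maxRecDepth 1000000 in
theorem powB : B0 ^ 3 = 1 := by decide +kernel
set_option maxRecDepth 1000000 in
theorem free1 : ∀ x : Idx, ∀ v : Fin 2 → ZMod 11, v ≠ 0 →
    Matrix.mulVec (f0 x) v = v → x = (0, 0, 0, 0) := by decide +kernel
set_option maxRecDepth 1000000 in
theorem card_nonzero : (Finset.univ.filter (fun u : Fin 2 → ZMod 11 => u ≠ 0)).card = 120 := by
  decide +kernel

/-- statement -/
theorem result (A : Matrix.GeneralLinearGroup (Fin 2) (ZMod 11)) (B : Matrix.GeneralLinearGroup (Fin 2) (ZMod 11)) (hA : (A : Matrix (Fin 2) (Fin 2) (ZMod 11)) = !![0, -1; 1, 0]) (hB : (B : Matrix (Fin 2) (Fin 2) (ZMod 11)) = !![2, 4; 1, -3]) : Nat.card (Subgroup.closure ({A, B} : Set (Matrix.GeneralLinearGroup (Fin 2) (ZMod 11)))) = 120 ∧ ∀ v w : Fin 2 → ZMod 11, v ≠ 0 → w ≠ 0 → ∃! h : Subgroup.closure ({A, B} : Set (Matrix.GeneralLinearGroup (Fin 2) (ZMod 11))), Matrix.mulVec ((h :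 Matrix.GeneralLinearGroup (Fin 2) (ZMod 11)) : Matrix (Fin 2) (Fin 2) (ZMod 11)) v = w := by
  classical
  set H := Subgroup.closure ({A, B} : Set (Matrix.GeneralLinearGroup (Fin 2) (ZMod 11))) with hH
  have hA' : (A : Matrix (Fin 2) (Fin 2) (ZMod 11)) = A0 := hA
  have hB' : (B : Matrix (Fin 2) (Fin 2) (ZMod 11)) = B0 := hB
  have hAm : A ∈ H := Subgroup.subset_closure (by simp)
  have hBm : B ∈ H := Subgroup.subset_closure (by simp)
  let X2 : Matrix.GeneralLinearGroup (Fin 2) (ZMod 11) := B*A*B*B*A*B*A*B*B*A*B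
  let X3 : Matrix.GeneralLinearGroup (Fin 2) (ZMod 11) := A*B*B*A*B*A*B*A
  let X4 : Matrix.GeneralLinearGroup (Fin 2) (ZMod 11) := A*B
  have hX2 : X2 ∈ H := by
    simp only [X2]
    repeat (first | exact hAm | exact hBm | apply H.mul_mem)
  have hX3 : X3 ∈ H := by
    simp only [X3]
    repeat (first | exact hAm | exact hBm | apply H.mul_mem)
  have hX4 : X4 ∈ H := H.mul_mem hAm hBm
  let f : Idx → Matrix.GeneralLinearGroup (Fin 2) (ZMod 11) :=
    fun x => A ^ (x.1 : ℕ) * X2 ^ (x.2.1 : ℕ) * X3 ^ (x.2.2.1 : ℕ) * X4 ^ (x.2.2.2 : ℕ)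
  have hf0 : ∀ x, ((f x : Matrix.GeneralLinearGroup (Fin 2) (ZMod 11)) :
      Matrix (Fin 2) (Fin 2) (ZMod 11)) = f0 x := by
    intro x
    simp only [f, f0, X2, X3, X4, W2, W3, W4, Units.val_mul, Units.val_pow_eq_pow_val, hA', hB']
  have hfH : ∀ x, f x ∈ H := fun x =>
    H.mul_mem (H.mul_mem (H.mul_mem (H.pow_mem hAm _) (H.pow_mem hX2 _)) (H.pow_mem hX3 _))
      (H.pow_mem hX4 _)
  have hAinv : A⁻¹ = A ^ 3 := by
    rw [inv_eq_iff_mul_eq_one, ← pow_succ']
    apply Units.ext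
    rw [Units.val_pow_eq_pow_val, hA']; exact powA
  have hBinv : B⁻¹ = B ^ 2 := by
    rw [inv_eq_iff_mul_eq_one, ← pow_succ']
    apply Units.ext
    rw [Units.val_pow_eq_pow_val, hB']; exact powB
  have hmulA : ∀ g, g ∈ Set.range f → A * g ∈ Set.range f := by
    rintro _ ⟨x, rfl⟩
    obtain ⟨y, hy⟩ := closedA x
    refine ⟨y, Units.ext ?_⟩
    rw [hf0, Units.val_mul, hf0, hA', hy]
  have hmulB : ∀ g, g ∈ Set.range f → B * g ∈ Set.range f := by
    rintro _ ⟨x, rfl⟩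
    obtain ⟨y, hy⟩ := closedB x
    refine ⟨y, Units.ext ?_⟩
    rw [hf0, Units.val_mul, hf0, hB', hy]
  have hsub : ∀ g ∈ H, g ∈ Set.range f := by
    intro g hg
    induction hg using Subgroup.closure_induction_left with
    | one => exact ⟨(0, 0, 0, 0), by simp [f]⟩
    | mul_left x hx y _ ih =>
      rcases hx with rfl | hx
      · exact hmulA y ih
      · rw [Set.mem_singleton_iff] at hx; subst hx; exact hmulB y ih
    | inv_mul_cancel x hx y _ ih =>
      rcases hx with rfl | hx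
      · rw [hAinv, pow_succ, pow_succ, pow_one, mul_assoc, mul_assoc]
        exact hmulA _ (hmulA _ (hmulA y ih))
      · rw [Set.mem_singleton_iff] at hx; subst hx
        rw [hBinv, pow_succ, pow_one, mul_assoc]
        exact hmulB _ (hmulB y ih)
  have hfinj : Function.Injective f := by
    intro x y hxy
    apply f0_inj
    rw [← hf0, ← hf0, hxy]
  let e : Idx ≃ H := Equiv.ofBijective (fun x => ⟨f x, hfH x⟩)
    ⟨fun x y hxy => hfinj (congrArg Subtype.val hxy),
    fun h => by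
      obtain ⟨x, hx⟩ := hsub h.1 h.2
      exact ⟨x, Subtype.ext hx⟩⟩
  have hcardH : Nat.card H = 120 := by
    rw [← Nat.card_congr e]
    simp
  refine ⟨hcardH, ?_⟩
  intro v w hv hw
  letI : Fintype H := Fintype.ofEquiv Idx e
  -- the orbit map
  let φ : H → (Fin 2 → ZMod 11) := fun h =>
    Matrix.mulVec ((h : Matrix.GeneralLinearGroup (Fin 2) (ZMod 11)) :
      Matrix (Fin 2) (Fin 2) (ZMod 11)) v
  have hfree : ∀ k : H, φ k = v → k = 1 := by
    intro k hk
    obtain ⟨x, hx⟩ := hsub k.1 k.2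
    have h1 : Matrix.mulVec (f0 x) v = v := by
      rw [← hf0, hx]; exact hk
    have h2 := free1 x v hv h1
    apply Subtype.ext
    rw [← hx, h2]
    simp [f]
  have hφinj : Function.Injective φ := by
    intro h h' hhh
    have hk : φ (h'⁻¹ * h) = v := by
      show Matrix.mulVec (((h'⁻¹ * h : H) : Matrix.GeneralLinearGroup (Fin 2) (ZMod 11)) :
        Matrix (Fin 2) (Fin 2) (ZMod 11)) v = v
      rw [Subgroup.coe_mul, Units.val_mul, ← Matrix.mulVec_mulVec]
      have : Matrix.mulVec ((h : Matrix.GeneralLinearGroup (Fin 2) (ZMod 11)) :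
        Matrix (Fin 2) (Fin 2) (ZMod 11)) v = Matrix.mulVec ((h' :
        Matrix.GeneralLinearGroup (Fin 2) (ZMod 11)) : Matrix (Fin 2) (Fin 2) (ZMod 11)) v := hhh
      rw [this, Matrix.mulVec_mulVec, ← Units.val_mul, ← Subgroup.coe_mul, inv_mul_cancel]
      simp
    have := hfree _ hk
    exact (inv_mul_eq_one.1 this).symm
  have hφne : ∀ h : H, φ h ≠ 0 := by
    intro h h0
    apply hv
    have : v = Matrix.mulVec (((h⁻¹ : H) : Matrix.GeneralLinearGroup (Fin 2) (ZMod 11)) :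
        Matrix (Fin 2) (Fin 2) (ZMod 11)) (φ h) := by
      show v = Matrix.mulVec _ (Matrix.mulVec _ v)
      rw [Matrix.mulVec_mulVec, ← Units.val_mul, ← Subgroup.coe_mul, inv_mul_cancel]
      simp
    rw [this, h0, Matrix.mulVec_zero]
  have himg : Finset.univ.image φ = Finset.univ.filter (fun u : Fin 2 → ZMod 11 => u ≠ 0) := by
    apply Finset.eq_of_subset_of_card_le
    · intro u hu
      rw [Finset.mem_image] at hu
      obtain ⟨h, _, rfl⟩ := hu
      rw [Finset.mem_filter]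
      exact ⟨Finset.mem_univ _, hφne h⟩
    · rw [card_nonzero, Finset.card_image_of_injective _ hφinj, Finset.card_univ,
        ← Nat.card_eq_fintype_card, hcardH]
  have hwmem : w ∈ Finset.univ.image φ := by
    rw [himg, Finset.mem_filter]
    exact ⟨Finset.mem_univ _, hw⟩
  rw [Finset.mem_image] at hwmem
  obtain ⟨h, _, hh⟩ := hwmem
  exact ⟨h, hh, fun h' hh' => hφinj (hh'.trans hh.symm)⟩

end Cfsg.Agent.S0692
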