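import Cfsg.Statements.S0693
import Mathlib

set_option autoImplicit false
open Cfsg

namespace Cfsg.Agent.S0693

abbrev Idx := Fin 4 × Fin 2 × Fin 3 × Fin 5
abbrev Idx2 := Idx × Fin 29
def A0 : Matrix (Fin 2) (Fin 2) (ZMod 59) := !![0, -1; 1, 0]
def B0 : Matrix (Fin 2) (Fin 2) (ZMod 59) := !![9, 15; -10, -10]
def C0 : Matrix (Fin 2) (Fin 2) (ZMod 59) := !![4, 0; 0, 4]
def W2 : Matrix (Fin 2) (Fin 2) (ZMod 59) := B0*A0*B0*B0*A0*B0*A0*B0*B0*A0*B0
def W3 : Matrix (Fin 2) (Fin 2) (ZMod 59) := A0*B0*B0*A0*B0*A0*B0*A0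
def W4 : Matrix (Fin 2) (Fin 2) (ZMod 59) := A0*B0
def g0 (x : Idx) : Matrix (Fin 2) (Fin 2) (ZMod 59) :=
  A0 ^ (x.1 : ℕ) * W2 ^ (x.2.1 : ℕ) * W3 ^ (x.2.2.1 : ℕ) * W4 ^ (x.2.2.2 : ℕ)
def f0 (z : Idx2) : Matrix (Fin 2) (Fin 2) (ZMod 59) := g0 z.1 * C0 ^ (z.2 : ℕ)
def d2 (M : Matrix (Fin 2) (Fin 2) (ZMod 59)) : ZMod 59 := M 0 0 * M 1 1 - M 0 1 * M 1 0

set_option maxRecDepth 1000000 in
theorem g0_inj : ∀ x y : Idx, g0 x = g0 y → x = y := by decide +kernel
set_option maxRecDepth 1000000 in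
theorem closedA : ∀ x : Idx, ∃ y : Idx, A0 * g0 x = g0 y := by decide +kernel
set_option maxRecDepth 1000000 in
theorem closedB : ∀ x : Idx, ∃ y : Idx, B0 * g0 x = g0 y := by decide +kernel
set_option maxRecDepth 1000000 in
theorem powA : A0 ^ 4 = 1 := by decide +kernel
set_option maxRecDepth 1000000 in
theorem powB : B0 ^ 3 = 1 := by decide +kernel
set_option maxRecDepth 1000000 in
theorem powC : C0 ^ 29 = 1 := by decide +kernel
set_option maxRecDepth 1000000 in
theorem C0_eq : C0 = (4 : ZMod 59) • (1 : Matrix (Fin 2) (Fin 2) (ZMod 59)) := by decide +kernel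
set_option maxRecDepth 1000000 in
theorem det_g0 : ∀ x : Idx, d2 (g0 x) = 1 := by decide +kernel
set_option maxRecDepth 1000000 in
theorem det_C0 : d2 C0 = 16 := by decide +kernel
set_option maxRecDepth 1000000 in
theorem pow16 : ∀ m m' : Fin 29, (16 : ZMod 59) ^ (m : ℕ) = 16 ^ (m' : ℕ) → m = m' := by
  decide +kernel
set_option maxRecDepth 1000000 in
set_option synthInstance.maxSize 2000 in
set_option synthInstance.maxHeartbeats 0 in
theorem free1 : ∀ z : Idx2, d2 (f0 z - 1) = 0 → z = ((0, 0, 0, 0), 0) := by decide +kernel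

abbrev GL59 := Matrix.GeneralLinearGroup (Fin 2) (ZMod 59)
def gG (A B : GL59) (x : Idx) : GL59 :=
  A ^ (x.1 : ℕ) * (B*A*B*B*A*B*A*B*B*A*B) ^ (x.2.1 : ℕ) * (A*B*B*A*B*A*B*A) ^ (x.2.2.1 : ℕ) *
    (A*B) ^ (x.2.2.2 : ℕ)
def fG (A B C : GL59) (z : Idx2) : GL59 := gG A B z.1 * C ^ (z.2 : ℕ)
theorem fG_def (A B C : GL59) (z : Idx2) : fG A B C z = gG A B z.1 * C ^ (z.2 : ℕ) := rfl
theorem gG_zero (A B : GL59) : gG A B (0, 0, 0, 0) = 1 := by simp [gG]
theorem fG_zero (A B C : GL59) : fG A B C ((0, 0, 0, 0), 0) = 1 := by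
  rw [fG_def, gG_zero]; simp

theorem det_eq_d2 (M : Matrix (Fin 2) (Fin 2) (ZMod 59)) : M.det = d2 M := Matrix.det_fin_two M

theorem C0_comm (M : Matrix (Fin 2) (Fin 2) (ZMod 59)) : C0 * M = M * C0 := by
  rw [C0_eq, smul_mul_assoc, one_mul, mul_smul_comm, mul_one]


/-- statement -/
theorem result (A : Matrix.GeneralLinearGroup (Fin 2) (ZMod 59)) (B : Matrix.GeneralLinearGroup (Fin 2) (ZMod 59)) (C : Matrix.GeneralLinearGroup (Fin 2) (ZMod 59)) (hA : (A : Matrix (Fin 2) (Fin 2) (ZMod 59)) = !![0, -1; 1, 0]) (hB : (B : Matrix (Fin 2) (Fin 2) (ZMod 59)) = !![9, 15; -10, -10]) (hC : (C : Matrix (Fin 2) (Fin 2) (ZMod 59)) = !![4, 0; 0, 4]) : Nat.card (Subgroup.closure ({A, B, C} : Set (Matrix.GeneralLinearGroup (Fin 2) (ZMod 59)))) = 3480 ∧ ∀ v w : Fin 2 → ZMod 59, v ≠ 0 → w ≠ 0 → ∃! h : Subgroup.closure ({A, B, C} : Set (Matrix.GeneralLinearGroup (Fin 2) (ZMod 59))), Matrix.mulVec ((h : Matrix.GeneralLinearGroup (Fin 2) (ZMod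 59)) : Matrix (Fin 2) (Fin 2) (ZMod 59)) v = w := by
  haveI : Fact (Nat.Prime 59) := ⟨by norm_num⟩
  set H := Subgroup.closure ({A, B, C} : Set (Matrix.GeneralLinearGroup (Fin 2) (ZMod 59))) with hH
  have hA' : (A : Matrix (Fin 2) (Fin 2) (ZMod 59)) = A0 := hA
  have hB' : (B : Matrix (Fin 2) (Fin 2) (ZMod 59)) = B0 := hB
  have hC' : (C : Matrix (Fin 2) (Fin 2) (ZMod 59)) = C0 := hC
  have hAm : A ∈ H := Subgroup.subset_closure (by simp)
  have hBm : B ∈ H := Subgroup.subset_closure (by simp)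
  have hCm : C ∈ H := Subgroup.subset_closure (by simp)
  have hX2 : B*A*B*B*A*B*A*B*B*A*B ∈ H := by
    repeat (first | exact hAm | exact hBm | apply H.mul_mem)
  have hX3 : A*B*B*A*B*A*B*A ∈ H := by
    repeat (first | exact hAm | exact hBm | apply H.mul_mem)
  have hX4 : A*B ∈ H := H.mul_mem hAm hBm
  set g : Idx → GL59 := gG A B with hgdef
  set f : Idx2 → GL59 := fG A B C with hfdef
  have hfg : ∀ z, f z = g z.1 * C ^ (z.2 : ℕ) := fun z => rfl
  have hg0 : ∀ x, ((g x : Matrix.GeneralLinearGroup (Fin 2) (ZMod 59)) :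
      Matrix (Fin 2) (Fin 2) (ZMod 59)) = g0 x := by
    intro x
    simp only [hgdef, gG, g0, W2, W3, W4, Units.val_mul, Units.val_pow_eq_pow_val, hA', hB']
  have hf0 : ∀ z, ((f z : Matrix.GeneralLinearGroup (Fin 2) (ZMod 59)) :
      Matrix (Fin 2) (Fin 2) (ZMod 59)) = f0 z := by
    intro z
    rw [hfg, Units.val_mul, Units.val_pow_eq_pow_val, hg0, hC']
    rfl
  have hgH : ∀ x, g x ∈ H := fun x =>
    H.mul_mem (H.mul_mem (H.mul_mem (H.pow_mem hAm _) (H.pow_mem hX2 _)) (H.pow_mem hX3 _))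
      (H.pow_mem hX4 _)
  have hfH : ∀ z, f z ∈ H := fun z => H.mul_mem (hgH _) (H.pow_mem hCm _)
  have hApow : A ^ 4 = 1 := by
    apply Units.ext
    rw [Units.val_pow_eq_pow_val, hA']; exact powA
  have hBpow : B ^ 3 = 1 := by
    apply Units.ext
    rw [Units.val_pow_eq_pow_val, hB']; exact powB
  have hCpow : C ^ 29 = 1 := by
    apply Units.ext
    rw [Units.val_pow_eq_pow_val, hC']; exact powC
  have hAinv : A⁻¹ = A ^ 3 := by
    rw [inv_eq_iff_mul_eq_one, ← pow_succ']; exact hApow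
  have hBinv : B⁻¹ = B ^ 2 := by
    rw [inv_eq_iff_mul_eq_one, ← pow_succ']; exact hBpow
  have hCinv : C⁻¹ = C ^ 28 := by
    rw [inv_eq_iff_mul_eq_one, ← pow_succ']; exact hCpow
  have hCcomm : ∀ k : Matrix.GeneralLinearGroup (Fin 2) (ZMod 59), C * k = k * C := by
    intro k
    apply Units.ext
    rw [Units.val_mul, Units.val_mul, hC']
    exact C0_comm _
  have hmulA : ∀ k, k ∈ Set.range f → A * k ∈ Set.range f := by
    rintro _ ⟨z, rfl⟩
    obtain ⟨y, hy⟩ := closedA z.1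
    refine ⟨(y, z.2), ?_⟩
    have hgy : g y = A * g z.1 := by
      apply Units.ext
      rw [hg0, Units.val_mul, hg0, hA', hy]
    rw [hfg, hfg, hgy, mul_assoc]
  have hmulB : ∀ k, k ∈ Set.range f → B * k ∈ Set.range f := by
    rintro _ ⟨z, rfl⟩
    obtain ⟨y, hy⟩ := closedB z.1
    refine ⟨(y, z.2), ?_⟩
    have hgy : g y = B * g z.1 := by
      apply Units.ext
      rw [hg0, Units.val_mul, hg0, hB', hy]
    rw [hfg, hfg, hgy, mul_assoc]
  have hmulC : ∀ k, k ∈ Set.range f → C * k ∈ Set.range f := by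
    rintro _ ⟨z, rfl⟩
    refine ⟨(z.1, z.2 + 1), ?_⟩
    rw [hfg, hfg]
    show g z.1 * C ^ ((z.2 + 1 : Fin 29) : ℕ) = C * (g z.1 * C ^ (z.2 : ℕ))
    rw [← mul_assoc, hCcomm (g z.1), mul_assoc, ← pow_succ', Fin.val_add,
      pow_eq_pow_mod ((z.2 : ℕ) + 1) hCpow]
    rfl
  have hpowmem : ∀ (X : Matrix.GeneralLinearGroup (Fin 2) (ZMod 59)),
      (∀ k, k ∈ Set.range f → X * k ∈ Set.range f) → ∀ n : ℕ, ∀ k, k ∈ Set.range f →
      X ^ n * k ∈ Set.range f := by
    intro X hX n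
    induction n with
    | zero => intro k hk; simpa using hk
    | succ n ih =>
      intro k hk
      rw [pow_succ', mul_assoc]
      exact hX _ (ih k hk)
  have hsub : ∀ k ∈ H, k ∈ Set.range f := by
    intro k hk
    induction hk using Subgroup.closure_induction_left with
    | one => exact ⟨((0, 0, 0, 0), 0), fG_zero A B C⟩
    | mul_left x hx y _ ih =>
      rcases hx with rfl | rfl | hx
      · exact hmulA y ih
      · exact hmulB y ih
      · rw [Set.mem_singleton_iff] at hx; subst hx; exact hmulC y ih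
    | inv_mul_cancel x hx y _ ih =>
      rcases hx with rfl | rfl | hx
      · rw [hAinv]; exact hpowmem _ hmulA 3 y ih
      · rw [hBinv]; exact hpowmem _ hmulB 2 y ih
      · rw [Set.mem_singleton_iff] at hx; subst hx
        rw [hCinv]; exact hpowmem _ hmulC 28 y ih
  have hfinj : Function.Injective f := by
    intro z z' hzz
    have hv : f0 z = f0 z' := by rw [← hf0, ← hf0, hzz]
    have hdet : (f0 z).det = (f0 z').det := by rw [hv]
    simp only [f0, Matrix.det_mul, Matrix.det_pow, det_eq_d2, det_g0, det_C0, one_mul] at hdet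
    have hm : z.2 = z'.2 := pow16 _ _ hdet
    have hg : g z.1 = g z'.1 := by
      have h1 : g z.1 * C ^ (z.2 : ℕ) = g z'.1 * C ^ (z'.2 : ℕ) := by rw [← hfg, ← hfg, hzz]
      rw [hm] at h1
      exact mul_right_cancel h1
    have hx : z.1 = z'.1 := by
      apply g0_inj
      rw [← hg0, ← hg0, hg]
    exact Prod.ext hx hm
  let e : Idx2 ≃ H := Equiv.ofBijective (fun z => ⟨f z, hfH z⟩)
    ⟨fun x y hxy => hfinj (congrArg Subtype.val hxy),
    fun h => by
      obtain ⟨x, hx⟩ := hsub h.1 h.2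
      exact ⟨x, Subtype.ext hx⟩⟩
  have hcardH : Nat.card H = 3480 := by
    rw [← Nat.card_congr e]
    simp
  refine ⟨hcardH, ?_⟩
  intro v w hv hw
  let φ : H → (Fin 2 → ZMod 59) := fun h =>
    Matrix.mulVec ((h : Matrix.GeneralLinearGroup (Fin 2) (ZMod 59)) :
      Matrix (Fin 2) (Fin 2) (ZMod 59)) v
  have hfree : ∀ k : H, φ k = v → k = 1 := by
    intro k hk
    obtain ⟨z, hz⟩ := hsub k.1 k.2
    have h1 : Matrix.mulVec (f0 z) v = v := by
      rw [← hf0, hz]; exact hk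
    have h2 : Matrix.mulVec (f0 z - 1) v = 0 := by
      rw [Matrix.sub_mulVec, h1, Matrix.one_mulVec, sub_self]
    have h3 : d2 (f0 z - 1) = 0 := by
      by_contra hne
      rw [← det_eq_d2] at hne
      exact hv (Matrix.eq_zero_of_mulVec_eq_zero hne h2)
    have h4 := free1 z h3
    apply Subtype.ext
    rw [← hz, h4]
    exact fG_zero A B C
  have hφinj : Function.Injective φ := by
    intro h h' hhh
    have hk : φ (h'⁻¹ * h) = v := by
      show Matrix.mulVec (((h'⁻¹ * h : H) : Matrix.GeneralLinearGroup (Fin 2) (ZMod 59)) :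
        Matrix (Fin 2) (Fin 2) (ZMod 59)) v = v
      rw [Subgroup.coe_mul, Units.val_mul, ← Matrix.mulVec_mulVec]
      have : Matrix.mulVec ((h : Matrix.GeneralLinearGroup (Fin 2) (ZMod 59)) :
        Matrix (Fin 2) (Fin 2) (ZMod 59)) v = Matrix.mulVec ((h' :
        Matrix.GeneralLinearGroup (Fin 2) (ZMod 59)) : Matrix (Fin 2) (Fin 2) (ZMod 59)) v := hhh
      rw [this, Matrix.mulVec_mulVec, ← Units.val_mul, ← Subgroup.coe_mul, inv_mul_cancel,
        Subgroup.coe_one, Units.val_one, Matrix.one_mulVec]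
    have := hfree _ hk
    exact (inv_mul_eq_one.1 this).symm
  have hφne : ∀ h : H, φ h ≠ 0 := by
    intro h h0
    apply hv
    have : v = Matrix.mulVec (((h⁻¹ : H) : Matrix.GeneralLinearGroup (Fin 2) (ZMod 59)) :
        Matrix (Fin 2) (Fin 2) (ZMod 59)) (φ h) := by
      show v = Matrix.mulVec _ (Matrix.mulVec _ v)
      rw [Matrix.mulVec_mulVec, ← Units.val_mul, ← Subgroup.coe_mul, inv_mul_cancel,
        Subgroup.coe_one, Units.val_one, Matrix.one_mulVec]
    rw [this, h0, Matrix.mulVec_zero]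
  have hcardN : Nat.card {u : Fin 2 → ZMod 59 | u ≠ 0} = 3480 := by
    rw [Nat.card_eq_fintype_card, Set.card_ne_eq, Fintype.card_fun, ZMod.card, Fintype.card_fin]
    norm_num
  let ψ : H → {u : Fin 2 → ZMod 59 | u ≠ 0} := fun h => ⟨φ h, hφne h⟩
  have hψinj : Function.Injective ψ := fun h h' hh => hφinj (congrArg Subtype.val hh)
  have hψbij : Function.Bijective ψ :=
    hψinj.bijective_of_nat_card_le (by rw [hcardN, hcardH])
  obtain ⟨h, hh⟩ := hψbij.2 ⟨w, hw⟩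
  have hh' : φ h = w := congrArg Subtype.val hh
  exact ⟨h, hh', fun h' hh'' => hφinj (hh''.trans hh'.symm)⟩

end Cfsg.Agent.S0693
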