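import Cfsg.Statements.S0694
import Mathlib

set_option autoImplicit false
open Cfsg

namespace Cfsg.Agent.S0694

theorem dvd_iff_val {a b : ℕ} (ha : a ≠ 0) (hb : b ≠ 0) :
    a ∣ b ↔ ∀ s : ℕ, s.Prime → padicValNat s a ≤ padicValNat s b := by
  rw [← Nat.factorization_prime_le_iff_dvd ha hb]
  constructor
  · intro h s hs
    have := h s hs
    rwa [Nat.factorization_def _ hs, Nat.factorization_def _ hs] at this
  · intro h s hs
    rw [Nat.factorization_def _ hs, Nat.factorization_def _ hs]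
    exact h s hs

theorem geom_odd {x k : ℕ} (hx : Odd x) (hk : Odd k) : Odd (∑ i ∈ Finset.range k, x ^ i) := by
  rw [Finset.odd_sum_iff_odd_card_odd]
  have : (Finset.range k).filter (fun i => Odd (x ^ i)) = Finset.range k := by
    apply Finset.filter_true_of_mem
    intro i _
    exact hx.pow
  rw [this, Finset.card_range]
  exact hk

theorem geom_mul {x k : ℕ} (hx : 1 ≤ x) : (∑ i ∈ Finset.range k, x ^ i) * (x - 1) = x ^ k - 1 := by
  have h := geom_sum_mul (x : ℤ) k
  have h1 : 1 ≤ x ^ k := Nat.one_le_pow _ _ hx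
  zify [hx, h1]
  exact_mod_cast h

theorem val_two_odd {x k : ℕ} (hx : 2 ≤ x) (hx2 : 2 ∣ x - 1) (hk : Odd k) :
    padicValNat 2 (x ^ k - 1) = padicValNat 2 (x - 1) := by
  have hxodd : Odd x := by
    rcases hx2 with ⟨c, hc⟩
    exact ⟨c, by omega⟩
  have hg := geom_odd hxodd hk
  rw [← geom_mul (by omega : 1 ≤ x)]
  have hG0 : (∑ i ∈ Finset.range k, x ^ i) ≠ 0 := by
    rintro h0; rw [h0] at hg; exact (Nat.not_odd_iff_even.mpr (by decide)) hg
  have hx1 : x - 1 ≠ 0 := by omega
  rw [padicValNat.mul hG0 hx1]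
  have : padicValNat 2 (∑ i ∈ Finset.range k, x ^ i) = 0 := by
    apply padicValNat.eq_zero_of_not_dvd
    rw [← even_iff_two_dvd, Nat.not_even_iff_odd]
    exact hg
  rw [this, zero_add]

theorem core {s x k : ℕ} (hs : s.Prime) (hx : 2 ≤ x) (hsx : s ∣ x - 1) (hk : k ≠ 0)
    (h : Odd s ∨ 4 ∣ x - 1 ∨ Odd k) :
    padicValNat s (x ^ k - 1) = padicValNat s (x - 1) + padicValNat s k := by
  have := Fact.mk hs
  have hnsx : ¬ s ∣ x := by
    intro hsx'
    have : s ∣ x - (x - 1) := Nat.dvd_sub hsx' hsx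
    have h1 : x - (x - 1) = 1 := by omega
    rw [h1] at this
    exact hs.one_lt.ne' (Nat.dvd_one.mp this)
  by_cases hodd : Odd s
  · have := padicValNat.pow_sub_pow (p := s) hodd (show 1 < x by omega) hsx hnsx hk
    simpa using this
  · have hs2 : s = 2 := by
      rcases hs.eq_two_or_odd' with h2 | h2
      · exact h2
      · exact absurd h2 hodd
    subst hs2
    rcases Nat.even_or_odd k with hke | hko
    · rcases h with h | h | h
      · exact absurd h hodd
      · have h1 := padicValNat.pow_two_sub_one (show 1 < x by omega) hnsx hk hke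
        have h2 : padicValNat 2 (x + 1) = 1 := by
          obtain ⟨c, hc⟩ := h
          have : x + 1 = 2 * (2 * c + 1) := by omega
          rw [this, padicValNat.mul (by norm_num) (by omega), padicValNat_self]
          have : padicValNat 2 (2 * c + 1) = 0 := by
            apply padicValNat.eq_zero_of_not_dvd
            omega
          rw [this]
        omega
      · exact absurd hke (Nat.not_even_iff_odd.mpr h)
    · rw [val_two_odd hx hsx hko]
      have : padicValNat 2 k = 0 := by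
        apply padicValNat.eq_zero_of_not_dvd
        rw [← even_iff_two_dvd, Nat.not_even_iff_odd]
        exact hko
      rw [this, add_zero]

theorem val_two_eq_one {a : ℕ} (h2 : 2 ∣ a) (h4 : ¬ 4 ∣ a) : padicValNat 2 a = 1 := by
  obtain ⟨c, rfl⟩ := h2
  have hc : ¬ 2 ∣ c := by
    intro ⟨d, hd⟩; apply h4; exact ⟨d, by omega⟩
  have hc0 : c ≠ 0 := by rintro rfl; exact hc (dvd_zero _)
  rw [padicValNat.mul (by norm_num) hc0, padicValNat_self, padicValNat.eq_zero_of_not_dvd hc]

theorem pow_sub_one_ne_zero {q k : ℕ} (hq : 2 ≤ q) (hk : k ≠ 0) : q ^ k - 1 ≠ 0 := by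
  have : 2 ≤ q ^ k := by
    calc 2 ≤ q := hq
      _ = q ^ 1 := (pow_one q).symm
      _ ≤ q ^ k := Nat.pow_le_pow_right (by omega) (Nat.one_le_iff_ne_zero.mpr hk)
  omega

theorem P_iff_val {q n k : ℕ} (hq : 2 ≤ q) (hn : n ≠ 0) (hk : k ≠ 0) :
    n * (q - 1) ∣ q ^ k - 1 ↔
      ∀ s : ℕ, s.Prime → padicValNat s n + padicValNat s (q - 1) ≤ padicValNat s (q ^ k - 1) := by
  have hq1 : q - 1 ≠ 0 := by omega
  rw [dvd_iff_val (Nat.mul_ne_zero hn hq1) (pow_sub_one_ne_zero hq hk)]
  constructor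
  · intro h s hs
    have := Fact.mk hs
    have := h s hs
    rwa [padicValNat.mul hn hq1] at this
  · intro h s hs
    have := Fact.mk hs
    rw [padicValNat.mul hn hq1]
    exact h s hs

theorem val_sub_one_le {q k s : ℕ} (hq : 2 ≤ q) (hk : k ≠ 0) (hs : s.Prime) :
    padicValNat s (q - 1) ≤ padicValNat s (q ^ k - 1) := by
  have h : q - 1 ∣ q ^ k - 1 := Nat.sub_one_dvd_pow_sub_one q k
  exact (dvd_iff_val (by omega) (pow_sub_one_ne_zero hq hk)).mp h s hs

theorem forward {q n : ℕ} (hq : 2 ≤ q) (hn : 1 < n) (hA1 : ∀ r : ℕ, r.Prime → r ∣ n → r ∣ q - 1)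
    (hA2 : 4 ∣ n → 4 ∣ q - 1) {k : ℕ} (hk : k ≠ 0) : n * (q - 1) ∣ q ^ k - 1 ↔ n ∣ k := by
  have hn0 : n ≠ 0 := by omega
  rw [P_iff_val hq hn0 hk, dvd_iff_val hn0 hk]
  have key : ∀ s : ℕ, s.Prime → (padicValNat s n + padicValNat s (q - 1) ≤ padicValNat s (q ^ k - 1) ↔
      padicValNat s n ≤ padicValNat s k) := by
    intro s hs
    have := Fact.mk hs
    by_cases hsn : s ∣ n
    · have hsq := hA1 s hs hsn
      by_cases hc : Odd s ∨ 4 ∣ q - 1 ∨ Odd k
      · rw [core hs hq hsq hk hc]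
        omega
      · push Not at hc
        obtain ⟨hc1, hc2, hc3⟩ := hc
        have hs2 : s = 2 := by
          rcases hs.eq_two_or_odd' with h2 | h2
          · exact h2
          · exact absurd h2 hc1
        subst hs2
        have h4n : ¬ 4 ∣ n := fun h => hc2 (hA2 h)
        have h1 := val_two_eq_one hsn h4n
        have h2 := val_two_eq_one hsq hc2
        have hke : Even k := Nat.not_odd_iff_even.mp hc3
        have hnq : ¬ 2 ∣ q := by
          obtain ⟨c, hc⟩ := hsq
          omega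
        have h3 := padicValNat.pow_two_sub_one_ge (show 1 < q by omega) hnq hk hke
        have h4 : 1 ≤ padicValNat 2 k := one_le_padicValNat_of_dvd hk (even_iff_two_dvd.mp hke)
        constructor
        · intro _; omega
        · intro _; omega
    · have h0 : padicValNat s n = 0 := padicValNat.eq_zero_of_not_dvd hsn
      rw [h0, zero_add]
      have := val_sub_one_le hq hk hs
      constructor
      · intro _; exact Nat.zero_le _
      · intro _; exact this
  constructor
  · intro h s hs; exact (key s hs).mp (h s hs)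
  · intro h s hs; exact (key s hs).mpr (h s hs)


theorem four {q n : ℕ} (hq : 2 ≤ q) (hn : 1 < n) (hA1 : ∀ r : ℕ, r.Prime → r ∣ n → r ∣ q - 1)
    (hB : ∀ i : ℕ, 0 < i → i < n → ¬ n * (q - 1) ∣ q ^ i - 1) (h4 : 4 ∣ n) : 4 ∣ q - 1 := by
  by_contra h4q
  have hn0 : n ≠ 0 := by omega
  have h2n : 2 ∣ n := dvd_trans (by norm_num) h4
  have h2q : 2 ∣ q - 1 := hA1 2 Nat.prime_two h2n
  obtain ⟨m, hm⟩ := h4
  have hk : n / 2 = 2 * m := by omega
  have hk0 : n / 2 ≠ 0 := by omega
  apply hB (n / 2) (by omega) (by omega)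
  rw [P_iff_val hq hn0 hk0]
  intro s hs
  have := Fact.mk hs
  by_cases hsn : s ∣ n
  · have hsq := hA1 s hs hsn
    by_cases hodd : Odd s
    · rw [core hs hq hsq hk0 (Or.inl hodd)]
      have hn2 : n = 2 * (n / 2) := by omega
      have hs2 : s ≠ 2 := by rintro rfl; exact absurd hodd (by decide)
      have h1 : padicValNat s n = padicValNat s (n / 2) := by
        conv_lhs => rw [hn2]
        rw [padicValNat.mul (by norm_num) hk0]
        have : padicValNat s 2 = 0 := by
          apply padicValNat.eq_zero_of_not_dvd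
          intro h
          exact hs2 ((Nat.prime_dvd_prime_iff_eq hs Nat.prime_two).mp h)
        rw [this, zero_add]
      omega
    · have hs2 : s = 2 := by
        rcases hs.eq_two_or_odd' with h2 | h2
        · exact h2
        · exact absurd h2 hodd
      subst hs2
      have h2 := val_two_eq_one hsq h4q
      have hnq : ¬ 2 ∣ q := by
        obtain ⟨c, hc⟩ := hsq
        omega
      have hke : Even (n / 2) := ⟨m, by omega⟩
      have h3 := padicValNat.pow_two_sub_one_ge (show 1 < q by omega) hnq hk0 hke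
      have hn2 : n = 2 * (n / 2) := by omega
      have h1 : padicValNat 2 n = 1 + padicValNat 2 (n / 2) := by
        conv_lhs => rw [hn2]
        rw [padicValNat.mul (by norm_num) hk0, padicValNat_self]
      omega
  · have h0 : padicValNat s n = 0 := padicValNat.eq_zero_of_not_dvd hsn
    rw [h0, zero_add]
    exact val_sub_one_le hq hk0 hs


theorem dvd_sub_one_iff_cast {s y : ℕ} (hy : 1 ≤ y) : s ∣ y - 1 ↔ ((y : ℕ) : ZMod s) = 1 := by
  rw [← ZMod.natCast_eq_zero_iff, Nat.cast_sub hy, Nat.cast_one, sub_eq_zero]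

theorem ord_arg {s r x : ℕ} (hs : s.Prime) (hr : r.Prime) (hx : 1 ≤ x) (h1 : s ∣ x ^ r - 1)
    (h2 : ¬ s ∣ x - 1) : r ∣ s - 1 := by
  have := Fact.mk hs
  have := Fact.mk hr
  have hxr : 1 ≤ x ^ r := Nat.one_le_pow _ _ hx
  rw [dvd_sub_one_iff_cast hxr, Nat.cast_pow] at h1
  rw [dvd_sub_one_iff_cast hx] at h2
  have hord : orderOf ((x : ℕ) : ZMod s) = r := orderOf_eq_prime h1 h2
  have hne : ((x : ℕ) : ZMod s) ≠ 0 := by
    intro h0
    rw [h0, zero_pow hr.ne_zero] at h1
    exact zero_ne_one h1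
  have := ZMod.orderOf_dvd_card_sub_one hne
  rwa [hord] at this

theorem primes {q n : ℕ} (hq : 2 ≤ q) (hn : 1 < n) (hP : n * (q - 1) ∣ q ^ n - 1)
    (hB : ∀ i : ℕ, 0 < i → i < n → ¬ n * (q - 1) ∣ q ^ i - 1) :
    ∀ r : ℕ, r.Prime → r ∣ n → r ∣ q - 1 := by
  by_contra hcon
  push Not at hcon
  have hn0 : n ≠ 0 := by omega
  set B := n.primeFactors.filter (fun r => ¬ r ∣ q - 1) with hBdef
  have hBne : B.Nonempty := by
    obtain ⟨r, hr, hrn, hrq⟩ := hcon
    refine ⟨r, ?_⟩
    rw [hBdef, Finset.mem_filter]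
    exact ⟨Nat.mem_primeFactors.mpr ⟨hr, hrn, hn0⟩, hrq⟩
  obtain ⟨r, hrB, hmax⟩ := Finset.exists_max_image B id hBne
  have hrmem := Finset.mem_filter.mp hrB
  have hr : r.Prime := Nat.prime_of_mem_primeFactors hrmem.1
  have hrn : r ∣ n := Nat.dvd_of_mem_primeFactors hrmem.1
  have hrq : ¬ r ∣ q - 1 := hrmem.2
  have hmax' : ∀ s : ℕ, s.Prime → s ∣ n → ¬ s ∣ q - 1 → s ≤ r := by
    intro s hs hsn hsq
    have : s ∈ B := by
      rw [hBdef, Finset.mem_filter]
      exact ⟨Nat.mem_primeFactors.mpr ⟨hs, hsn, hn0⟩, hsq⟩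
    exact hmax s this
  have hqn1 : 1 ≤ q ^ n := Nat.one_le_pow _ _ (by omega)
  have hrodd : Odd r := by
    rcases hr.eq_two_or_odd' with h2 | h2
    · exfalso
      subst h2
      have h1 : 2 ∣ q ^ n - 1 := dvd_trans (dvd_trans hrn (Dvd.intro _ rfl)) hP
      have hqodd : ¬ 2 ∣ q := by
        intro h
        have : 2 ∣ q ^ n := dvd_pow h hn0
        omega
      apply hrq
      omega
    · exact h2
  have := Fact.mk hr
  obtain ⟨k, hk⟩ := hrn
  have hk' : n = k * r := by rw [hk, mul_comm]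
  have hk0 : k ≠ 0 := by rintro rfl; omega
  have hr2 : 2 ≤ r := hr.two_le
  apply hB k (by omega) (by nlinarith)
  rw [P_iff_val hq hn0 hk0]
  intro s hs
  have := Fact.mk hs
  have hsP := (P_iff_val hq hn0 hn0).mp hP s hs
  have hx2 : 2 ≤ q ^ k := by
    have := pow_sub_one_ne_zero hq hk0
    omega
  have hqn : q ^ n = (q ^ k) ^ r := by rw [hk', pow_mul]
  by_cases hsr : s = r
  · subst hsr
    have hv0 : padicValNat s (q - 1) = 0 := padicValNat.eq_zero_of_not_dvd hrq
    rw [hv0, add_zero]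
    obtain ⟨e, m, hm, hnm⟩ := Nat.exists_eq_pow_mul_and_not_dvd hn0 s hr.ne_one
    have hm0 : m ≠ 0 := by rintro rfl; exact hm (dvd_zero _)
    have hvn : padicValNat s n = e := by
      rw [hnm, padicValNat.mul (pow_ne_zero _ hr.ne_zero) hm0, padicValNat.prime_pow,
        padicValNat.eq_zero_of_not_dvd hm, add_zero]
    have he1 : 1 ≤ e := by
      rw [← hvn]
      exact one_le_padicValNat_of_dvd hn0 ⟨k, hk⟩
    have hy2 : 2 ≤ q ^ m := by
      have := pow_sub_one_ne_zero hq hm0
      omega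
    have hsy : s ∣ q ^ m - 1 := by
      have h1 : s ∣ q ^ n - 1 := dvd_trans (dvd_trans ⟨k, hk⟩ (Dvd.intro _ rfl)) hP
      rw [dvd_sub_one_iff_cast hqn1] at h1
      rw [dvd_sub_one_iff_cast (by omega)]
      have h2 : q ^ n = (q ^ m) ^ (s ^ e) := by rw [hnm, ← pow_mul, mul_comm]
      rw [h2, Nat.cast_pow, ZMod.pow_card_pow] at h1
      exact h1
    have hkm : k = m * s ^ (e - 1) := by
      have h1 : s * k = s * (m * s ^ (e - 1)) := by
        rw [← hk, hnm]
        have : s ^ e = s * s ^ (e - 1) := by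
          rw [← pow_succ']
          congr 1
          omega
        rw [this]
        ring
      exact Nat.eq_of_mul_eq_mul_left hr.pos h1
    have hqk : q ^ k = (q ^ m) ^ (s ^ (e - 1)) := by rw [hkm, pow_mul]
    rw [hqk, core hr hy2 hsy (pow_ne_zero _ hr.ne_zero) (Or.inl hrodd), padicValNat.prime_pow, hvn]
    have : 1 ≤ padicValNat s (q ^ m - 1) := one_le_padicValNat_of_dvd (by omega) hsy
    omega
  · by_cases hsn : s ∣ n
    · have hsx : s ∣ q ^ k - 1 := by
        by_cases hsq : s ∣ q - 1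
        · exact dvd_trans hsq (Nat.sub_one_dvd_pow_sub_one q k)
        · have hslt : s < r := lt_of_le_of_ne (hmax' s hs hsn hsq) hsr
          by_contra hnx
          have h1 : s ∣ (q ^ k) ^ r - 1 := by
            rw [← hqn]
            exact dvd_trans (dvd_trans hsn (Dvd.intro _ rfl)) hP
          have := ord_arg hs hr (by omega) h1 hnx
          have := Nat.le_of_dvd (by have := hs.two_le; omega) this
          omega
      rw [hqn, core hs hx2 hsx hr.ne_zero (Or.inr (Or.inr hrodd))] at hsP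
      have : padicValNat s r = 0 := by
        apply padicValNat.eq_zero_of_not_dvd
        intro h
        exact hsr ((Nat.prime_dvd_prime_iff_eq hs hr).mp h)
      omega
    · have h0 : padicValNat s n = 0 := padicValNat.eq_zero_of_not_dvd hsn
      rw [h0, zero_add]
      exact val_sub_one_le hq hk0 hs


theorem modEq_iff {q k M : ℕ} (hq : 1 ≤ q) : q ^ k ≡ 1 [MOD M] ↔ M ∣ q ^ k - 1 := by
  have h1 : 1 ≤ q ^ k := Nat.one_le_pow _ _ hq
  rw [Nat.ModEq.comm, Nat.modEq_iff_dvd' h1]

/-- The Dickson pair condition: for a prime power `q` and `n > 1`, (every prime factor of `n` divides `q - 1`, and `4 ∣ n → 4 ∣ q - 1`) holds exactly when `q ^ n ≡ 1` modulo `n * (q - 1)` but `q ^ i` is not, for `0 < i < n`. -/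
theorem result (q n : ℕ) (hq : IsPrimePow q) (hn : 1 < n) : ((∀ r : ℕ, r.Prime → r ∣ n → r ∣ q - 1) ∧ (4 ∣ n → 4 ∣ q - 1)) ↔ (q ^ n ≡ 1 [MOD n * (q - 1)] ∧ ∀ i : ℕ, 0 < i → i < n → ¬ q ^ i ≡ 1 [MOD n * (q - 1)]) := by
  have hq2 : 2 ≤ q := hq.two_le
  have hq1 : 1 ≤ q := by omega
  constructor
  · rintro ⟨hA1, hA2⟩
    refine ⟨?_, ?_⟩
    · rw [modEq_iff hq1, forward hq2 hn hA1 hA2 (by omega)]
    · intro i hi0 hin
      rw [modEq_iff hq1, forward hq2 hn hA1 hA2 (by omega)]
      intro h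
      have := Nat.le_of_dvd hi0 h
      omega
  · rintro ⟨hP, hB⟩
    rw [modEq_iff hq1] at hP
    have hB' : ∀ i : ℕ, 0 < i → i < n → ¬ n * (q - 1) ∣ q ^ i - 1 := by
      intro i hi0 hin
      have := hB i hi0 hin
      rwa [modEq_iff hq1] at this
    have hA1 := primes hq2 hn hP hB'
    exact ⟨hA1, four hq2 hn hA1 hB'⟩

end Cfsg.Agent.S0694
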