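import Cfsg.Statements.S0697
import Mathlib
import Cfsg.Agent.Lib.Helper5_Jordan2

set_option autoImplicit false
open Cfsg

namespace Cfsg.Agent.S0697

open Cfsg.Agent.Lib.Helper5_Jordan2

/-- In a `k`-primitive permutation group which is not the whole symmetric group, a non-trivial non-regular normal subgroup is `k`-transitive. -/
theorem result {α : Type*} [Fintype α] [DecidableEq α] (G : Subgroup (Equiv.Perm α)) {k : ℕ} (hk : 1 ≤ k) (hkn : k ≤ Fintype.card α) (hG : MulAction.IsMultiplyPreprimitive G α k) (htop : G ≠ ⊤) (H : Subgroup G) [H.Normal] (hH : H ≠ ⊥) (hnr : ∃ a : α, MulAction.stabilizer H a ≠ ⊥) : MulAction.IsMultiplyPretransitive H α k := by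
  haveI : FaithfulSMul G α := by
    constructor
    intro g g' h
    apply Subtype.ext
    apply Equiv.ext
    intro x
    exact h x
  have hns : ¬ Function.Surjective (MulAction.toPermHom G α) := by
    intro hs
    apply htop
    rw [eq_top_iff]
    intro σ _
    obtain ⟨g, hg⟩ := hs σ
    have : (g : Equiv.Perm α) = σ := by
      rw [← hg]
      ext x
      rfl
    rw [← this]
    exact g.2
  exact wielandt_aux k G α hk (by rwa [Nat.card_eq_fintype_card]) hG hns H hnr

end Cfsg.Agent.S0697
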