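import Cfsg.Statements.S0699
import Mathlib
import Cfsg.Agent.Lib.Helper5_Jordan
import Cfsg.Agent.Lib.Helper9_Wagner

set_option autoImplicit false
open Cfsg

namespace Cfsg.Agent.S0699

open Cfsg.Agent.Lib.Helper5_Jordan

/-- Wagner's Theorem: a non-trivial normal subgroup of a triply transitive permutation group of odd degree at least 5 is triply transitive. -/
theorem result {α : Type*} [Fintype α] [DecidableEq α] (G : Subgroup (Equiv.Perm α)) (hodd : Odd (Fintype.card α)) (h5 : 5 ≤ Fintype.card α) (hG : MulAction.IsMultiplyPretransitive G α 3) (N : Subgroup G) [N.Normal] (hN : N ≠ ⊥) : MulAction.IsMultiplyPretransitive N α 3 := by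
  classical
  have : FaithfulSMul G α := by
    constructor
    intro g g' h
    apply Subtype.ext
    apply Equiv.ext
    intro x
    exact h x
  have hcard : 3 < Nat.card α := by rw [Nat.card_eq_fintype_card]; omega
  have hoddN : Odd (Nat.card α) := by rw [Nat.card_eq_fintype_card]; exact hodd
  have h2G : MulAction.IsMultiplyPretransitive G α 2 :=
    MulAction.isMultiplyPretransitive_of_le (G := G) (α := α) (n := 3) (by norm_num)
      (by omega)
  have h2 : MulAction.IsMultiplyPretransitive N α 2 := by
    rcases jordan_aux 3 G α (by norm_num) hcard hG N hN with h | ⟨-, hsq, hreg⟩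
    · exact h
    · exfalso
      have hNt : MulAction.IsPretransitive N α := normal_transitive h2G N hN
      obtain ⟨a⟩ : Nonempty α := Fintype.card_pos_iff.1 (by omega)
      have hidx : (MulAction.stabilizer N a).index = Nat.card α :=
        MulAction.index_stabilizer_of_transitive N a
      rw [hreg a, Subgroup.index_bot] at hidx
      have hp : IsPGroup 2 N := by
        intro n
        refine ⟨1, ?_⟩
        have := hsq (n : G) n.2
        apply Subtype.ext
        rw [pow_one]
        simpa using this
      have : Fact (Nat.Prime 2) := ⟨Nat.prime_two⟩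
      obtain ⟨k, hk⟩ := IsPGroup.iff_card.1 hp
      rw [hidx] at hk
      obtain ⟨r, hr⟩ := hoddN
      rcases k with _ | k
      · simp at hk
        omega
      · rw [pow_succ] at hk
        omega
  exact Cfsg.Agent.Lib.Helper9_Wagner.Helper9W.three_of_two hoddN hG N h2

end Cfsg.Agent.S0699
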