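import Cfsg.Statements.S0701
import Mathlib

set_option autoImplicit false
open Cfsg

namespace Cfsg.Agent.S0701

section
variable {α : Type*} (G : Subgroup (Equiv.Perm α)) [MulAction.IsPretransitive G α]

theorem exists_apply_eq (a x : α) : ∃ g ∈ G, g a = x := by
  obtain ⟨g, hg⟩ := MulAction.exists_smul_eq G a x
  exact ⟨g, g.2, hg⟩

/-- centralizing permutations are determined by the image of one point -/
theorem centralizer_semiregular (c : Equiv.Perm α)
    (hc : c ∈ Subgroup.centralizer (G : Set (Equiv.Perm α))) (a : α) (h : c a = a) : c = 1 := by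
  ext b
  obtain ⟨g, hg, rfl⟩ := exists_apply_eq G a b
  have h1 : g * c = c * g := (Subgroup.mem_centralizer_iff.mp hc) g hg
  have h2 : c (g a) = g (c a) := by
    have := congrArg (fun σ : Equiv.Perm α => σ a) h1
    simpa using this.symm
  rw [h2, h]; rfl

end

/-- for a regular group, the map `g a ↦ g b` -/
theorem exists_centralizing {α : Type*} (G : Subgroup (Equiv.Perm α)) [MulAction.IsPretransitive G α]
    (hreg : ∀ a : α, MulAction.stabilizer G a = ⊥) (a b : α) :
    ∃ c ∈ Subgroup.centralizer (G : Set (Equiv.Perm α)), c a = b := by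
  classical
  have huniq : ∀ (a : α) (g h : Equiv.Perm α), g ∈ G → h ∈ G → g a = h a → g = h := by
    intro a g h hg hh hgh
    have hmem : (⟨h⁻¹ * g, G.mul_mem (G.inv_mem hh) hg⟩ : G) ∈ MulAction.stabilizer G a := by
      rw [MulAction.mem_stabilizer_iff]
      show (h⁻¹ * g) a = a
      rw [Equiv.Perm.mul_apply, hgh]
      simp
    rw [hreg a, Subgroup.mem_bot] at hmem
    have h1 : h⁻¹ * g = 1 := congrArg Subtype.val hmem
    calc g = h * (h⁻¹ * g) := by group
      _ = h := by rw [h1, mul_one]
  -- choose representatives
  let r : α → α → Equiv.Perm α := fun a x => Classical.choose (exists_apply_eq G a x)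
  have hr : ∀ a x, r a x ∈ G ∧ r a x a = x := fun a x => Classical.choose_spec (exists_apply_eq G a x)
  have hr' : ∀ (a : α) (g : Equiv.Perm α), g ∈ G → r a (g a) = g := by
    intro a g hg
    exact huniq a _ _ (hr a (g a)).1 hg (hr a (g a)).2
  let c : Equiv.Perm α :=
    { toFun := fun x => r a x b
      invFun := fun x => r b x a
      left_inv := by
        intro x
        show r b (r a x b) a = x
        rw [hr' b (r a x) (hr a x).1]
        exact (hr a x).2
      right_inv := by
        intro x
        show r a (r b x a) b = x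
        rw [hr' a (r b x) (hr b x).1]
        exact (hr b x).2 }
  have hcapp : ∀ x, c x = r a x b := fun x => rfl
  refine ⟨c, ?_, ?_⟩
  · rw [Subgroup.mem_centralizer_iff]
    intro g hg
    ext x
    rw [Equiv.Perm.mul_apply, Equiv.Perm.mul_apply, hcapp, hcapp]
    -- r a (g x) = g * r a x
    have : r a (g x) = g * r a x := by
      have h1 : g x = (g * r a x) a := by
        rw [Equiv.Perm.mul_apply, (hr a x).2]
      rw [h1, hr' a _ (G.mul_mem hg (hr a x).1)]
    rw [this]; rfl
  · rw [hcapp]
    have : r a a = 1 := by
      have := hr' a 1 G.one_mem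
      simpa using this
    rw [this]; rfl

/-- The centraliser in the full symmetric group of a transitive permutation group `G` is semiregular, and it is transitive if and only if `G` is regular. -/
theorem result {α : Type*} (G : Subgroup (Equiv.Perm α)) [MulAction.IsPretransitive G α] : (∀ c ∈ Subgroup.centralizer (G : Set (Equiv.Perm α)), ∀ a : α, c a = a → c = 1) ∧ (MulAction.IsPretransitive (Subgroup.centralizer (G : Set (Equiv.Perm α))) α ↔ ∀ a : α, MulAction.stabilizer G a = ⊥) := by
  refine ⟨fun c hc a h => centralizer_semiregular G c hc a h, ?_, ?_⟩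
  · intro htr a
    rw [eq_bot_iff]
    intro g hg
    rw [Subgroup.mem_bot]
    apply Subtype.ext
    ext b
    obtain ⟨c, hc⟩ := htr.exists_smul_eq a b
    have hga : (g : Equiv.Perm α) a = a := MulAction.mem_stabilizer_iff.mp hg
    have hcb : (c : Equiv.Perm α) a = b := hc
    have h1 : (g : Equiv.Perm α) * c = c * g := (Subgroup.mem_centralizer_iff.mp c.2) g g.2
    have h2 : (g : Equiv.Perm α) ((c : Equiv.Perm α) a) = (c : Equiv.Perm α) ((g : Equiv.Perm α) a) := by
      have := congrArg (fun σ : Equiv.Perm α => σ a) h1
      simpa using this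
    rw [← hcb, h2, hga]; rfl
  · intro hreg
    constructor
    intro a b
    obtain ⟨c, hc, hcab⟩ := exists_centralizing G hreg a b
    exact ⟨⟨c, hc⟩, hcab⟩

end Cfsg.Agent.S0701
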