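import Mathlib
import Cfsg.Statements.S0702

set_option autoImplicit false
open Cfsg

namespace Cfsg.Agent.S0702

open Equiv MulAction

section main

variable {α : Type*} [Finite α] (G : Subgroup (Perm α)) [MulAction.IsPretransitive G α] (a : α)

/-- a chosen element moving `a` to `x` -/
noncomputable def rep (x : α) : G := Classical.choose (MulAction.exists_smul_eq G a x)

theorem rep_spec (x : α) : rep G a x • a = x := Classical.choose_spec (MulAction.exists_smul_eq G a x)

/-- the map attached to `n` -/
noncomputable def f (n : G) : α → α := fun x => rep G a x • (n⁻¹ • a)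

theorem f_apply {n : G} (hn : n ∈ Subgroup.normalizer ((stabilizer G a : Subgroup G) : Set G))
    (g : G) : f G a n (g • a) = g • n⁻¹ • a := by
  unfold f
  set r := rep G a (g • a) with hr
  have h1 : r • a = g • a := rep_spec G a _
  -- r⁻¹ g ∈ stabilizer
  have h2 : r⁻¹ * g ∈ stabilizer G a := by
    rw [mem_stabilizer_iff, mul_smul, ← h1, inv_smul_smul]
  have h3 : n * (r⁻¹ * g) * n⁻¹ ∈ stabilizer G a := (Subgroup.mem_normalizer_iff.mp hn _).mp h2
  rw [mem_stabilizer_iff] at h3
  -- (r⁻¹ g) n⁻¹ a = n⁻¹ a
  have h4 : (r⁻¹ * g) • n⁻¹ • a = n⁻¹ • a := by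
    have := congrArg (fun x => n⁻¹ • x) h3
    simp only [mul_smul, inv_smul_smul] at this
    simpa [mul_smul] using this
  calc r • n⁻¹ • a = r • ((r⁻¹ * g) • n⁻¹ • a) := by rw [h4]
    _ = g • n⁻¹ • a := by rw [mul_smul, smul_inv_smul]

theorem f_mul {n m : G} (hn : n ∈ Subgroup.normalizer ((stabilizer G a : Subgroup G) : Set G))
    (hm : m ∈ Subgroup.normalizer ((stabilizer G a : Subgroup G) : Set G)) (x : α) :
    f G a (n * m) x = f G a n (f G a m x) := by
  obtain ⟨g, rfl⟩ := MulAction.exists_smul_eq G a x
  rw [f_apply G a (Subgroup.mul_mem _ hn hm), f_apply G a hm]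
  have : g • m⁻¹ • a = (g * m⁻¹) • a := by rw [mul_smul]
  rw [this, f_apply G a hn, mul_inv_rev, mul_smul, mul_smul]

theorem f_one (x : α) : f G a 1 x = x := by
  obtain ⟨g, rfl⟩ := MulAction.exists_smul_eq G a x
  rw [f_apply G a (Subgroup.one_mem _)]
  simp

/-- the homomorphism from the normalizer to permutations -/
noncomputable def psi : Subgroup.normalizer ((stabilizer G a : Subgroup G) : Set G) →* Perm α where
  toFun n :=
    { toFun := f G a n
      invFun := f G a n⁻¹
      left_inv := fun x => by
        rw [← f_mul G a (Subgroup.inv_mem _ n.2) n.2, inv_mul_cancel, f_one]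
      right_inv := fun x => by
        rw [← f_mul G a n.2 (Subgroup.inv_mem _ n.2), mul_inv_cancel, f_one] }
  map_one' := by
    ext x
    exact f_one G a x
  map_mul' n m := by
    ext x
    exact f_mul G a n.2 m.2 x

theorem psi_apply (n : Subgroup.normalizer ((stabilizer G a : Subgroup G) : Set G)) (g : G) :
    psi G a n (g • a) = g • (n : G)⁻¹ • a := f_apply G a n.2 g

theorem psi_mem (n : Subgroup.normalizer ((stabilizer G a : Subgroup G) : Set G)) :
    psi G a n ∈ Subgroup.centralizer (G : Set (Perm α)) := by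
  rw [Subgroup.mem_centralizer_iff]
  intro h hh
  ext x
  obtain ⟨g, rfl⟩ := MulAction.exists_smul_eq G a x
  show h (psi G a n (g • a)) = psi G a n (h (g • a))
  have e : h (g • a) = ((⟨h, hh⟩ : G) * g) • a := by rw [mul_smul]; rfl
  rw [e, psi_apply, psi_apply, mul_smul]
  rfl


/-- `psi` with codomain the centralizer -/
noncomputable def psi' : Subgroup.normalizer ((stabilizer G a : Subgroup G) : Set G) →*
    Subgroup.centralizer (G : Set (Perm α)) :=
  (psi G a).codRestrict _ (psi_mem G a)

theorem comm_of_mem {c : Perm α} (hc : c ∈ Subgroup.centralizer (G : Set (Perm α))) (h : G)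
    (x : α) : c (h • x) = h • c x := by
  have := (Subgroup.mem_centralizer_iff.mp hc) h.1 h.2
  have := congrArg (fun σ : Perm α => σ x) this
  exact this.symm

theorem psi'_ker : (psi' G a).ker =
    (stabilizer G a).subgroupOf (Subgroup.normalizer ((stabilizer G a : Subgroup G) : Set G)) := by
  ext n
  rw [MonoidHom.mem_ker, Subgroup.mem_subgroupOf, mem_stabilizer_iff]
  constructor
  · intro h
    have h1 : psi G a n = 1 := congrArg Subtype.val h
    have h2 := psi_apply G a n 1
    rw [h1] at h2
    simp only [Perm.coe_one, id_eq, one_smul] at h2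
    calc (n : G) • a = (n : G) • ((n : G)⁻¹ • a) := by rw [← h2]
      _ = a := smul_inv_smul _ _
  · intro h
    apply Subtype.ext
    show psi G a n = 1
    ext x
    obtain ⟨g, rfl⟩ := MulAction.exists_smul_eq G a x
    rw [psi_apply]
    have : (n : G)⁻¹ • a = a := by
      calc (n : G)⁻¹ • a = (n : G)⁻¹ • ((n : G) • a) := by rw [h]
        _ = a := inv_smul_smul _ _
    rw [this]; rfl

theorem psi'_surj : Function.Surjective (psi' G a) := by
  rintro ⟨c, hc⟩
  obtain ⟨g₀, hg₀⟩ := MulAction.exists_smul_eq G a (c a)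
  have hn : g₀⁻¹ ∈ Subgroup.normalizer ((stabilizer G a : Subgroup G) : Set G) := by
    rw [Subgroup.mem_normalizer_iff]
    intro h
    rw [mem_stabilizer_iff, mem_stabilizer_iff, inv_inv, mul_smul, mul_smul, hg₀,
      ← comm_of_mem G hc h a]
    constructor
    · intro hh
      rw [hh, ← hg₀, inv_smul_smul]
    · intro hh
      have h1 : c (h • a) = g₀ • a := by
        calc c (h • a) = g₀ • (g₀⁻¹ • c (h • a)) := (smul_inv_smul _ _).symm
          _ = g₀ • a := by rw [hh]
      rw [hg₀] at h1
      exact c.injective h1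
  refine ⟨⟨g₀⁻¹, hn⟩, ?_⟩
  apply Subtype.ext
  show psi G a ⟨g₀⁻¹, hn⟩ = c
  ext x
  obtain ⟨g, rfl⟩ := MulAction.exists_smul_eq G a x
  rw [psi_apply]
  simp only [inv_inv]
  rw [hg₀, comm_of_mem G hc]

end main

theorem result {α : Type*} [Finite α] (G : Subgroup (Equiv.Perm α)) [MulAction.IsPretransitive G α] (a : α) : Nonempty (Subgroup.centralizer (G : Set (Equiv.Perm α)) ≃* Subgroup.normalizer ((MulAction.stabilizer G a : Subgroup G) : Set G) ⧸ (MulAction.stabilizer G a).subgroupOf (Subgroup.normalizer ((MulAction.stabilizer G a : Subgroup G) : Set G))) ∧ MulAction.orbit (Subgroup.centralizer (G : Set (Equiv.Perm α))) a = MulAction.fixedPoints (MulAction.stabilizer G a) α := by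
  constructor
  · exact ⟨((QuotientGroup.quotientKerEquivOfSurjective (psi' G a) (psi'_surj G a)).symm).trans
      (QuotientGroup.quotientMulEquivOfEq (psi'_ker G a))⟩
  · ext x
    constructor
    · rintro ⟨c, rfl⟩
      rw [MulAction.mem_fixedPoints]
      intro s
      show (s : G) • (c.1 a) = c.1 a
      rw [← comm_of_mem G c.2 (s : G) a]
      have : (s : G) • a = a := s.2
      rw [this]
    · intro hx
      rw [MulAction.mem_fixedPoints] at hx
      obtain ⟨g₀, hg₀⟩ := MulAction.exists_smul_eq G a x
      have hfwd : ∀ h : G, h ∈ stabilizer G a → g₀⁻¹ * h * g₀ ∈ stabilizer G a := by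
        intro h hh
        rw [mem_stabilizer_iff, mul_smul, mul_smul, hg₀]
        have := hx ⟨h, hh⟩
        have h2 : h • x = x := this
        rw [h2, ← hg₀, inv_smul_smul]
      have hn : g₀⁻¹ ∈ Subgroup.normalizer ((stabilizer G a : Subgroup G) : Set G) := by
        rw [Subgroup.mem_normalizer_iff]
        intro h
        rw [inv_inv]
        refine ⟨hfwd h, fun hk => ?_⟩
        let φ : stabilizer G a → stabilizer G a := fun h => ⟨g₀⁻¹ * h * g₀, hfwd h.1 h.2⟩
        have hφ : Function.Injective φ := by
          intro u v huv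
          have := congrArg Subtype.val huv
          simp only [φ] at this
          exact Subtype.ext (mul_left_cancel (mul_right_cancel this))
        obtain ⟨h', hh'⟩ := (Finite.injective_iff_surjective.mp hφ) ⟨g₀⁻¹ * h * g₀, hk⟩
        have := congrArg Subtype.val hh'
        simp only [φ] at this
        have e : (h' : G) = h := mul_left_cancel (mul_right_cancel this)
        rw [← e]
        exact h'.2
      refine ⟨⟨psi G a ⟨g₀⁻¹, hn⟩, psi_mem G a _⟩, ?_⟩
      show psi G a ⟨g₀⁻¹, hn⟩ a = x
      have := psi_apply G a ⟨g₀⁻¹, hn⟩ 1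
      rw [one_smul, one_smul] at this
      rw [this]
      simp only [inv_inv]
      exact hg₀

end Cfsg.Agent.S0702
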