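import Cfsg.Statements.S0703
import Mathlib

set_option autoImplicit false
open Cfsg

namespace Cfsg.Agent.S0703

/-- An abelian transitive minimal normal subgroup `M` of a permutation group on a finite set is self-centralising in the symmetric group, regular, elementary abelian, and is the unique minimal normal subgroup. -/
theorem result {α : Type*} [Finite α] (G : Subgroup (Equiv.Perm α)) (M : Subgroup G) [M.Normal] (hM : M ≠ ⊥) (hmin : ∀ L : Subgroup G, L.Normal → L ≤ M → L = ⊥ ∨ L = M) (hab : IsMulCommutative M) (htrans : MulAction.IsPretransitive M α) : Subgroup.centralizer ((M.map G.subtype : Subgroup (Equiv.Perm α)) : Set (Equiv.Perm α)) = M.map G.subtype ∧ (∀ a : α, MulAction.stabilizer M a = ⊥) ∧ (∃ p : ℕ, p.Prime ∧ ∀ m ∈ M, m ^ p = 1) ∧ ∀ L : Subgroup G, L.Normal → L ≠ ⊥ → (∀ L' : Subgroup G, L'.Normal → L' ≤ L → L' = ⊥ ∨ L' = L) → L = M := by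
  have hFin : Finite (Equiv.Perm α) := inferInstance
  have hcomm : ∀ x ∈ M, ∀ y ∈ M, x * y = y * x := by
    intro x hx y hy
    have := hab.is_comm.comm (⟨x, hx⟩ : M) ⟨y, hy⟩
    exact congrArg Subtype.val this
  have hsmul : ∀ (m : M) (a : α), m • a = ((m : G) : Equiv.Perm α) a := fun _ _ => rfl
  -- the centraliser statement
  have hcent : Subgroup.centralizer ((M.map G.subtype : Subgroup (Equiv.Perm α)) :
      Set (Equiv.Perm α)) = M.map G.subtype := by
    obtain ⟨m₀, hm₀, hm₀1⟩ := M.bot_or_exists_ne_one.resolve_left hM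
    have hne : ∃ a : α, (m₀ : Equiv.Perm α) a ≠ a := by
      by_contra hcon
      push Not at hcon
      apply hm₀1
      apply Subtype.ext
      ext b
      exact hcon b
    obtain ⟨a, -⟩ := hne
    apply le_antisymm
    · intro σ hσ
      rw [Subgroup.mem_centralizer_iff] at hσ
      obtain ⟨m, hm⟩ := MulAction.exists_smul_eq M a (σ a)
      refine ⟨(m : G), m.2, ?_⟩
      ext b
      obtain ⟨n, rfl⟩ := MulAction.exists_smul_eq M a b
      rw [hsmul] at hm ⊢
      have hnM : ((n : G) : Equiv.Perm α) ∈ M.map G.subtype := ⟨(n : G), n.2, rfl⟩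
      have h1 := hσ _ hnM
      have h2 : σ (((n : G) : Equiv.Perm α) a) = ((n : G) : Equiv.Perm α) (σ a) := by
        have := congrArg (fun τ : Equiv.Perm α => τ a) h1
        simp only [Equiv.Perm.coe_mul, Function.comp_apply] at this
        exact this.symm
      rw [h2, ← hm]
      have h3 := hcomm (n : G) n.2 (m : G) m.2
      have h4 := congrArg (fun τ : G => (τ : Equiv.Perm α) a) h3
      simp only [Subgroup.coe_mul, Equiv.Perm.coe_mul, Function.comp_apply] at h4
      simpa using h4.symm
    · intro σ hσ
      obtain ⟨m, hm, rfl⟩ := hσ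
      rw [Subgroup.mem_centralizer_iff]
      rintro τ ⟨n, hn, rfl⟩
      have := hcomm n hn m hm
      have h2 := congrArg (fun τ : G => (τ : Equiv.Perm α)) this
      simpa using h2
  refine ⟨hcent, ?_, ?_, ?_⟩
  · intro a
    rw [eq_bot_iff]
    intro m hm
    rw [MulAction.mem_stabilizer_iff] at hm
    rw [Subgroup.mem_bot]
    have hall : ∀ b : α, ((m : G) : Equiv.Perm α) b = b := by
      intro b
      obtain ⟨n, rfl⟩ := MulAction.exists_smul_eq M a b
      rw [hsmul] at hm ⊢
      have h3 := hcomm (n : G) n.2 (m : G) m.2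
      have h4 := congrArg (fun τ : G => (τ : Equiv.Perm α) a) h3
      simp only [Subgroup.coe_mul, Equiv.Perm.coe_mul, Function.comp_apply] at h4
      rw [← h4, hm]
    apply Subtype.ext
    apply Subtype.ext
    ext b
    exact hall b
  · have hcard1 : 1 < Nat.card M := by
      rw [Subgroup.one_lt_card_iff_ne_bot]; exact hM
    obtain ⟨p, hp, hpd⟩ := Nat.exists_prime_and_dvd hcard1.ne'
    have hpF : Fact p.Prime := ⟨hp⟩
    obtain ⟨x, hx⟩ := exists_prime_orderOf_dvd_card' p hpd
    refine ⟨p, hp, ?_⟩
    let T : Subgroup G :=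
      { carrier := {x | x ∈ M ∧ x ^ p = 1}
        mul_mem' := by
          rintro a b ⟨ha, ha'⟩ ⟨hb, hb'⟩
          refine ⟨M.mul_mem ha hb, ?_⟩
          have hc : Commute a b := hcomm a ha b hb
          rw [hc.mul_pow, ha', hb', one_mul]
        one_mem' := ⟨M.one_mem, one_pow _⟩
        inv_mem' := by
          rintro a ⟨ha, ha'⟩
          exact ⟨M.inv_mem ha, by rw [inv_pow, ha', inv_one]⟩ }
    have hTn : T.Normal := by
      constructor
      rintro n ⟨hn, hn'⟩ g
      refine ⟨‹M.Normal›.conj_mem n hn g, ?_⟩
      rw [conj_pow, hn', mul_one, mul_inv_cancel]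
    have hTM : T ≤ M := fun a ha => ha.1
    rcases hmin T hTn hTM with h | h
    · exfalso
      have hxT : (x : G) ∈ T := by
        refine ⟨x.2, ?_⟩
        have : x ^ p = 1 := by rw [← hx]; exact pow_orderOf_eq_one x
        have h2 := congrArg Subtype.val this
        simpa using h2
      rw [h, Subgroup.mem_bot] at hxT
      have : x = 1 := Subtype.ext hxT
      rw [this, orderOf_one] at hx
      exact hp.one_lt.ne hx
    · intro y hy
      rw [← h] at hy
      exact hy.2
  · intro L hLn hL1 hLmin
    by_contra hLM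
    have hKn : (L ⊓ M).Normal := inferInstance
    rcases hmin (L ⊓ M) hKn inf_le_right with h | h
    · -- L and M commute
      have hcom : ⁅L, M⁆ = ⊥ := by
        rw [eq_bot_iff, ← h]
        exact Subgroup.commutator_le_inf L M
      have hLcent := Subgroup.commutator_eq_bot_iff_le_centralizer.mp hcom
      have hLM' : L ≤ M := by
        intro l hl
        have h1 : (l : Equiv.Perm α) ∈ Subgroup.centralizer
            ((M.map G.subtype : Subgroup (Equiv.Perm α)) : Set (Equiv.Perm α)) := by
          rw [Subgroup.mem_centralizer_iff]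
          rintro τ ⟨n, hn, rfl⟩
          have := Subgroup.mem_centralizer_iff.mp (hLcent hl) n hn
          have h2 := congrArg (fun τ : G => (τ : Equiv.Perm α)) this
          simpa using h2
        rw [hcent] at h1
        obtain ⟨m, hm, hml⟩ := h1
        have : m = l := Subtype.ext hml
        rw [← this]; exact hm
      apply hL1
      rw [← inf_eq_left.mpr hLM', h]
    · have hML : M ≤ L := by rw [← h]; exact inf_le_left
      rcases hLmin M inferInstance hML with h' | h'
      · exact hM h'
      · exact hLM h'.symm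

end Cfsg.Agent.S0703
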