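import Cfsg.Statements.S0704
import Mathlib

set_option autoImplicit false
open Cfsg

namespace Cfsg.Agent.S0704

section

variable {α : Type*} (G : Subgroup (Equiv.Perm α))

theorem exists_of_trans (M : Subgroup G) (h : MulAction.IsPretransitive M α) (a b : α) :
    ∃ m : G, m ∈ M ∧ (m : Equiv.Perm α) a = b := by
  obtain ⟨m, hm⟩ := MulAction.exists_smul_eq M a b
  exact ⟨m, m.2, hm⟩

/-- A permutation commuting with a transitive group and fixing a point is trivial. -/
theorem semireg (M : Subgroup G) (h : MulAction.IsPretransitive M α) (σ : Equiv.Perm α)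
    (hσ : ∀ m : G, m ∈ M → σ * (m : Equiv.Perm α) = (m : Equiv.Perm α) * σ) (a : α)
    (ha : σ a = a) : σ = 1 := by
  ext b
  obtain ⟨m, hm, rfl⟩ := exists_of_trans G M h a b
  have := congrArg (fun τ : Equiv.Perm α => τ a) (hσ m hm)
  simp only [Equiv.Perm.coe_mul, Function.comp_apply] at this
  rw [this, ha]
  rfl

theorem inf_eq_bot_of_min {H : Type*} [Group H] (M N : Subgroup H) [M.Normal] [N.Normal]
    (hM : M ≠ ⊥)
    (hMmin : ∀ L : Subgroup H, L.Normal → L ≤ M → L = ⊥ ∨ L = M)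
    (hNmin : ∀ L : Subgroup H, L.Normal → L ≤ N → L = ⊥ ∨ L = N) (hMN : M ≠ N) :
    M ⊓ N = ⊥ := by
  rcases hMmin (M ⊓ N) inferInstance inf_le_left with h | h
  · exact h
  · have hle : M ≤ N := by rw [← h]; exact inf_le_right
    rcases hNmin M inferInstance hle with h' | h'
    · exact absurd h' hM
    · exact absurd h' hMN

theorem commute_of_inf_bot {H : Type*} [Group H] (M N : Subgroup H) [M.Normal] [N.Normal]
    (h : M ⊓ N = ⊥) : ∀ m ∈ M, ∀ n ∈ N, m * n = n * m := by
  have hcom : ⁅M, N⁆ = ⊥ := by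
    rw [eq_bot_iff, ← h]
    exact Subgroup.commutator_le_inf M N
  have hc := Subgroup.commutator_eq_bot_iff_le_centralizer.mp hcom
  intro m hm n hn
  exact (Subgroup.mem_centralizer_iff.mp (hc hm) n hn).symm

theorem cent_eq (M N : Subgroup G) (hMt : MulAction.IsPretransitive M α)
    (hNt : MulAction.IsPretransitive N α) (hcomm : ∀ m ∈ M, ∀ n ∈ N, m * n = n * m) (a : α) :
    Subgroup.centralizer ((M.map G.subtype : Subgroup (Equiv.Perm α)) : Set (Equiv.Perm α)) =
      N.map G.subtype := by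
  have hcommP : ∀ m : G, m ∈ M → ∀ n : G, n ∈ N →
      (m : Equiv.Perm α) * (n : Equiv.Perm α) = (n : Equiv.Perm α) * (m : Equiv.Perm α) := by
    intro m hm n hn
    have := congrArg (fun τ : G => (τ : Equiv.Perm α)) (hcomm m hm n hn)
    simpa using this
  apply le_antisymm
  · intro σ hσ
    rw [Subgroup.mem_centralizer_iff] at hσ
    obtain ⟨n, hn, hna⟩ := exists_of_trans G N hNt a (σ a)
    refine ⟨n, hn, ?_⟩
    have h1 : (n : Equiv.Perm α)⁻¹ * σ = 1 := by
      apply semireg G M hMt _ _ a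
      · simp only [Equiv.Perm.coe_mul, Function.comp_apply, ← hna]
        exact Equiv.symm_apply_apply _ a
      · intro m hm
        have h2 : (m : Equiv.Perm α) * σ = σ * (m : Equiv.Perm α) :=
          hσ _ ⟨m, hm, rfl⟩
        have h3 := hcommP m hm n hn
        calc (n : Equiv.Perm α)⁻¹ * σ * (m : Equiv.Perm α)
            = (n : Equiv.Perm α)⁻¹ * ((m : Equiv.Perm α) * σ) := by rw [h2, mul_assoc]
          _ = (n : Equiv.Perm α)⁻¹ * ((m : Equiv.Perm α) * (n : Equiv.Perm α)) *
                ((n : Equiv.Perm α)⁻¹ * σ) := by group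
          _ = (m : Equiv.Perm α) * ((n : Equiv.Perm α)⁻¹ * σ) := by rw [h3]; group
    show (n : Equiv.Perm α) = σ
    exact (inv_mul_eq_one.mp h1)
  · rintro σ ⟨n, hn, rfl⟩
    rw [Subgroup.mem_centralizer_iff]
    rintro τ ⟨m, hm, rfl⟩
    exact hcommP m hm n hn

end

/-- Two distinct transitive minimal normal subgroups `M`, `N` of a permutation group are regular, non-abelian, isomorphic, each other's centraliser in the symmetric group, and the only minimal normal subgroups. -/
theorem result {α : Type*} (G : Subgroup (Equiv.Perm α)) (M N : Subgroup G) [M.Normal] [N.Normal] (hM : M ≠ ⊥) (hN : N ≠ ⊥) (hMmin : ∀ L : Subgroup G, L.Normal → L ≤ M → L = ⊥ ∨ L = M) (hNmin : ∀ L : Subgroup G, L.Normal → L ≤ N → L = ⊥ ∨ L = N) (hMN : M ≠ N) (hMt : MulAction.IsPretransitive M α) (hNt : MulAction.IsPretransitive N α) : (∀ a : α, MulAction.stabilizer M a = ⊥) ∧ (∀ a : α, MulAction.stabilizer N a = ⊥) ∧ ¬ IsMulCommutative M ∧ Nonempty (M ≃* N) ∧ Subgroup.centralizer ((M.map G.subtype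 : Subgroup (Equiv.Perm α)) : Set (Equiv.Perm α)) = N.map G.subtype ∧ Subgroup.centralizer ((N.map G.subtype : Subgroup (Equiv.Perm α)) : Set (Equiv.Perm α)) = M.map G.subtype ∧ ∀ L : Subgroup G, L.Normal → L ≠ ⊥ → (∀ L' : Subgroup G, L'.Normal → L' ≤ L → L' = ⊥ ∨ L' = L) → L = M ∨ L = N := by
  have hMN0 : M ⊓ N = ⊥ := inf_eq_bot_of_min M N hM hMmin hNmin hMN
  have hcomm : ∀ m ∈ M, ∀ n ∈ N, m * n = n * m := commute_of_inf_bot M N hMN0
  have hcomm' : ∀ n ∈ N, ∀ m ∈ M, n * m = m * n := fun n hn m hm => (hcomm m hm n hn).symm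
  have hcommP : ∀ m : G, m ∈ M → ∀ n : G, n ∈ N →
      (m : Equiv.Perm α) * (n : Equiv.Perm α) = (n : Equiv.Perm α) * (m : Equiv.Perm α) := by
    intro m hm n hn
    have := congrArg (fun τ : G => (τ : Equiv.Perm α)) (hcomm m hm n hn)
    simpa using this
  have hregM : ∀ a : α, MulAction.stabilizer M a = ⊥ := by
    intro a
    rw [eq_bot_iff]
    intro m hm
    have h1 := semireg G N hNt ((m : G) : Equiv.Perm α) (fun n hn => hcommP m m.2 n hn) a hm
    rw [Subgroup.mem_bot]
    exact Subtype.ext (Subtype.ext h1)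
  have hregN : ∀ a : α, MulAction.stabilizer N a = ⊥ := by
    intro a
    rw [eq_bot_iff]
    intro n hn
    have h1 := semireg G M hMt ((n : G) : Equiv.Perm α)
      (fun m hm => (hcommP m hm n n.2).symm) a hn
    rw [Subgroup.mem_bot]
    exact Subtype.ext (Subtype.ext h1)
  -- a point
  obtain ⟨m₀, hm₀, hm₀1⟩ := M.bot_or_exists_ne_one.resolve_left hM
  have hne : ∃ a : α, (m₀ : Equiv.Perm α) a ≠ a := by
    by_contra hcon
    push Not at hcon
    apply hm₀1
    apply Subtype.ext
    ext b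
    exact hcon b
  obtain ⟨a, -⟩ := hne
  have hcentM := cent_eq G M N hMt hNt hcomm a
  have hcentN := cent_eq G N M hNt hMt hcomm' a
  refine ⟨hregM, hregN, ?_, ?_, hcentM, hcentN, ?_⟩
  · intro hab
    apply hM
    have hle : M ≤ N := by
      intro m hm
      have h1 : (m : Equiv.Perm α) ∈ Subgroup.centralizer
          ((M.map G.subtype : Subgroup (Equiv.Perm α)) : Set (Equiv.Perm α)) := by
        rw [Subgroup.mem_centralizer_iff]
        rintro τ ⟨m', hm', rfl⟩
        have h2 := hab.is_comm.comm (⟨m', hm'⟩ : M) ⟨m, hm⟩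
        have h3 := congrArg (fun τ : M => ((τ : G) : Equiv.Perm α)) h2
        simpa using h3
      rw [hcentM] at h1
      obtain ⟨n, hn, hnm⟩ := h1
      have : n = m := Subtype.ext hnm
      rw [← this]; exact hn
    rw [← inf_eq_left.mpr hle, hMN0]
  · have huniq : ∀ n₁ n₂ : N, n₁ • a = n₂ • a → n₁ = n₂ := by
      intro n₁ n₂ h
      have h1 : n₂⁻¹ * n₁ ∈ MulAction.stabilizer N a := by
        rw [MulAction.mem_stabilizer_iff, mul_smul, h, inv_smul_smul]
      rw [hregN a, Subgroup.mem_bot] at h1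
      exact (inv_mul_eq_one.mp h1).symm
    have huniqM : ∀ m₁ m₂ : M, m₁ • a = m₂ • a → m₁ = m₂ := by
      intro m₁ m₂ h
      have h1 : m₂⁻¹ * m₁ ∈ MulAction.stabilizer M a := by
        rw [MulAction.mem_stabilizer_iff, mul_smul, h, inv_smul_smul]
      rw [hregM a, Subgroup.mem_bot] at h1
      exact (inv_mul_eq_one.mp h1).symm
    choose φ hφ using fun m : M => MulAction.exists_smul_eq N a (m • a)
    have hsc : ∀ (m : M) (n : N) (b : α), m • n • b = n • m • b := by
      intro m n b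
      have := congrArg (fun τ : Equiv.Perm α => τ b) (hcommP m m.2 n n.2)
      exact this
    have hanti : ∀ m₁ m₂ : M, φ (m₁ * m₂) = φ m₂ * φ m₁ := by
      intro m₁ m₂
      apply huniq
      rw [hφ, mul_smul, mul_smul, hφ m₁, ← hφ m₂, hsc]
    let f : M →* N := MonoidHom.mk' (fun m => (φ m)⁻¹) (by
      intro m₁ m₂
      simp only [hanti, mul_inv_rev])
    refine ⟨MulEquiv.ofBijective f ⟨?_, ?_⟩⟩
    · intro m₁ m₂ h
      have h' : φ m₁ = φ m₂ := inv_injective h
      apply huniqM
      rw [← hφ m₁, ← hφ m₂, h']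
    · intro n
      obtain ⟨m, hm⟩ := MulAction.exists_smul_eq M a (n⁻¹ • a)
      refine ⟨m, ?_⟩
      have h1 : φ m = n⁻¹ := huniq _ _ (by rw [hφ, hm])
      show (φ m)⁻¹ = n
      rw [h1, inv_inv]
  · intro L hLn hL1 hLmin
    by_contra hcon
    push Not at hcon
    obtain ⟨hLM, hLN⟩ := hcon
    have hLM0 : L ⊓ M = ⊥ := inf_eq_bot_of_min L M hL1 hLmin hMmin hLM
    have hLN0 : L ⊓ N = ⊥ := inf_eq_bot_of_min L N hL1 hLmin hNmin hLN
    have hcL := commute_of_inf_bot L M hLM0
    have hle : L ≤ N := by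
      intro l hl
      have h1 : (l : Equiv.Perm α) ∈ Subgroup.centralizer
          ((M.map G.subtype : Subgroup (Equiv.Perm α)) : Set (Equiv.Perm α)) := by
        rw [Subgroup.mem_centralizer_iff]
        rintro τ ⟨m', hm', rfl⟩
        have h3 := congrArg (fun τ : G => (τ : Equiv.Perm α)) (hcL l hl m' hm')
        simpa using h3.symm
      rw [hcentM] at h1
      obtain ⟨n, hn, hnm⟩ := h1
      have : n = l := Subtype.ext hnm
      rw [← this]; exact hn
    apply hL1
    rw [← inf_eq_left.mpr hle, hLN0]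

end Cfsg.Agent.S0704
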