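import Mathlib
import Cfsg.Statements.S0705

set_option autoImplicit false
open scoped Pointwise
open Cfsg

namespace Cfsg.Agent.S0705

open Equiv Equiv.Perm MulAction

section main

variable {α : Type*} [Fintype α] [DecidableEq α]

/-- a permutation fixing everything outside `t` maps `t` to itself -/
theorem maps_iff {t : Finset α} {τ : Perm α} (hτ : ∀ x, x ∉ t → τ x = x) (x : α) :
    τ x ∈ t ↔ x ∈ t := by
  constructor
  · intro hx
    by_contra hxt
    rw [hτ x hxt] at hx
    exact hxt hx
  · intro hx
    by_contra hxt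
    have h1 := hτ _ hxt
    have h2 := τ.injective h1
    rw [h2] at hxt
    exact hxt hx

/-- generosity gives all permutations with support inside a set of at most `k + 1` points -/
theorem extend (G : Subgroup (Perm α)) {k : ℕ} (hk : k < Fintype.card α)
    (hgen : ∀ s : Finset α, s.card = k + 1 → ∀ σ : Perm ↥s, ∃ g ∈ G, ∀ x : ↥s, g (x : α) = σ x)
    (t : Finset α) (ht : t.card ≤ k + 1) (τ : Perm α) (hτ : ∀ x, x ∉ t → τ x = x) :
    ∃ g ∈ G, ∀ x ∈ t, g x = τ x := by
  obtain ⟨s, hts, hs⟩ := Finset.exists_superset_card_eq ht (by omega)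
  have hτs : ∀ x, x ∉ s → τ x = x := fun x hx => hτ x (fun h => hx (hts h))
  obtain ⟨g, hg, hgs⟩ := hgen s hs (subtypePerm τ (maps_iff hτs))
  refine ⟨g, hg, fun x hx => ?_⟩
  have := hgs ⟨x, hts hx⟩
  simpa using this

theorem trans_aux (G : Subgroup (Perm α)) {k : ℕ} (hk : k < Fintype.card α)
    (hgen : ∀ s : Finset α, s.card = k + 1 → ∀ σ : Perm ↥s, ∃ g ∈ G, ∀ x : ↥s, g (x : α) = σ x) :
    ∀ n : ℕ, ∀ x y : Fin k ↪ α, (Finset.univ.filter (fun i => x i ≠ y i)).card = n →
      ∃ g ∈ G, ∀ i, g (x i) = y i := by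
  intro n
  induction n using Nat.strong_induction_on with
  | _ n ih =>
    intro x y hn
    by_cases h0 : ∀ i, x i = y i
    · exact ⟨1, G.one_mem, fun i => by simpa using h0 i⟩
    · push Not at h0
      obtain ⟨i, hi⟩ := h0
      -- the set: image of x together with y i
      let t : Finset α := insert (y i) (Finset.univ.image x)
      have ht : t.card ≤ k + 1 := by
        refine (Finset.card_insert_le _ _).trans ?_
        have : (Finset.univ.image x).card ≤ k := by
          refine Finset.card_image_le.trans ?_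
          simp
        omega
      have hτ : ∀ z, z ∉ t → swap (x i) (y i) z = z := by
        intro z hz
        apply swap_apply_of_ne_of_ne
        · rintro rfl
          exact hz (Finset.mem_insert_of_mem (Finset.mem_image_of_mem _ (Finset.mem_univ _)))
        · rintro rfl
          exact hz (Finset.mem_insert_self _ _)
      obtain ⟨g₁, hg₁, hg₁t⟩ := extend G hk hgen t ht (swap (x i) (y i)) hτ
      have hx' : ∀ j, g₁ (x j) = swap (x i) (y i) (x j) := fun j =>
        hg₁t _ (Finset.mem_insert_of_mem (Finset.mem_image_of_mem _ (Finset.mem_univ _)))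
      let x' : Fin k ↪ α := x.trans g₁.toEmbedding
      have hx'a : ∀ j, x' j = swap (x i) (y i) (x j) := fun j => hx' j
      have hsub : (Finset.univ.filter (fun j => x' j ≠ y j)) ⊂
          (Finset.univ.filter (fun j => x j ≠ y j)) := by
        rw [Finset.ssubset_iff_of_subset]
        · refine ⟨i, by simpa using hi, ?_⟩
          simp only [Finset.mem_filter, Finset.mem_univ, true_and, not_not]
          rw [hx'a, swap_apply_left]
        · intro j
          simp only [Finset.mem_filter, Finset.mem_univ, true_and]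
          intro hj hxy
          apply hj
          rw [hx'a, ← hxy]
          apply swap_apply_of_ne_of_ne
          · intro h
            have := x.injective h
            subst this
            exact hi hxy
          · intro h
            rw [hxy] at h
            have := y.injective h
            subst this
            exact hi hxy
      have hlt := Finset.card_lt_card hsub
      rw [hn] at hlt
      obtain ⟨g₂, hg₂, hg₂x⟩ := ih _ hlt x' y rfl
      exact ⟨g₂ * g₁, G.mul_mem hg₂ hg₁, fun j => by
        rw [Perm.mul_apply]; exact hg₂x j⟩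

end main

theorem result {α : Type*} [Fintype α] [DecidableEq α] (G : Subgroup (Equiv.Perm α)) {k : ℕ} (hk : k < Fintype.card α) (hgen : ∀ s : Finset α, s.card = k + 1 → ∀ σ : Equiv.Perm ↥s, ∃ g ∈ G, ∀ x : ↥s, g (x : α) = σ x) : MulAction.IsMultiplyPretransitive G α k ∧ ∀ s : Finset α, s.card = k → ∀ a b : α, a ∉ s → b ∉ s → (∃ g ∈ G, g • s = s ∧ g a = b) → ∃ g ∈ G, (∀ x ∈ s, g x = x) ∧ g a = b := by
  refine ⟨?_, ?_⟩
  · refine ⟨fun x y => ?_⟩
    obtain ⟨g, hg, hgx⟩ := trans_aux G hk hgen _ x y rfl
    refine ⟨⟨g, hg⟩, ?_⟩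
    ext i
    exact hgx i
  · intro s hs a b ha hb ⟨g, hg, hgs, hgab⟩
    have hgs' : ∀ x, g x ∈ s ↔ x ∈ s := by
      intro x
      have : g x ∈ g • s ↔ x ∈ s := Finset.smul_mem_smul_finset_iff g
      rwa [hgs] at this
    let τ : Perm α := ofSubtype ((subtypePerm g hgs')⁻¹)
    have hτ : ∀ x, x ∉ insert b s → τ x = x := by
      intro x hx
      exact ofSubtype_apply_of_not_mem _ (fun h => hx (Finset.mem_insert_of_mem h))
    have hτb : τ b = b := ofSubtype_apply_of_not_mem _ hb
    have hτg : ∀ x ∈ s, τ (g x) = x := by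
      intro x hx
      have h1 : τ (g x) = ((subtypePerm g hgs')⁻¹ ⟨g x, (hgs' x).mpr hx⟩ : α) :=
        ofSubtype_apply_of_mem _ _
      rw [h1]
      have : (subtypePerm g hgs')⁻¹ ⟨g x, (hgs' x).mpr hx⟩ = ⟨x, hx⟩ := by
        rw [Perm.inv_eq_iff_eq]
        rfl
      rw [this]
    obtain ⟨g', hg', hg't⟩ := extend G hk hgen (insert b s)
      (by rw [Finset.card_insert_of_notMem hb, hs]) τ hτ
    refine ⟨g' * g, G.mul_mem hg' hg, fun x hx => ?_, ?_⟩
    · rw [Perm.mul_apply, hg't _ (Finset.mem_insert_of_mem ((hgs' x).mpr hx)), hτg x hx]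
    · rw [Perm.mul_apply, hgab, hg't _ (Finset.mem_insert_self _ _), hτb]

end Cfsg.Agent.S0705
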