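import Mathlib
import Cfsg.Statements.S0743

set_option autoImplicit false
open Cfsg

namespace Cfsg.Agent.S0743

open Equiv MulAction

section core

variable {α : Type*} [Fintype α] [DecidableEq α]

/-- Gleason's lemma, relative to a pointwise fixed set `t`. -/
theorem core {p : ℕ} [Fact p.Prime] (H : Subgroup (Perm α)) (t : Finset α)
    (hHt : ∀ g ∈ H, ∀ x ∈ t, g x = x)
    (hP : ∀ a, a ∉ t → ∃ P : Subgroup (Perm α), P ≤ H ∧ IsPGroup p P ∧
      ∀ x, (∀ g ∈ P, g x = x) ↔ x ∈ insert a t)
    (a b : α) (ha : a ∉ t) (hb : b ∉ t) : ∃ g ∈ H, g a = b := by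
  by_contra hne
  have hbO : b ∉ MulAction.orbit H a := fun ⟨g, hg⟩ => hne ⟨g.1, g.2, hg⟩
  have hOt : ∀ x ∈ MulAction.orbit H a, x ∉ t := by
    rintro x ⟨g, rfl⟩ hx
    have h1 : (g⁻¹ : H).1 (g • a) = g • a := hHt _ (g⁻¹).2 _ hx
    have h2 : (g⁻¹ : H).1 (g • a) = a := by
      show (g⁻¹ : H) • (g • a) = a
      rw [smul_smul, inv_mul_cancel, one_smul]
    rw [h2] at h1
    exact ha (h1 ▸ hx)
  -- fixed points of a subgroup on the orbit
  have key : ∀ (c : α) (P : Subgroup (Perm α)) (hPH : P ≤ H)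
      (hfix : ∀ x, (∀ g ∈ P, g x = x) ↔ x ∈ insert c t),
      ∀ x : MulAction.orbit H a,
        x ∈ MulAction.fixedPoints (P.subgroupOf H) (MulAction.orbit H a) ↔ (x : α) = c := by
    intro c P hPH hfix x
    rw [MulAction.mem_fixedPoints]
    constructor
    · intro h
      have h1 : ∀ g ∈ P, g (x : α) = x := by
        intro g hg
        have := h ⟨⟨g, hPH hg⟩, Subgroup.mem_subgroupOf.mpr hg⟩
        exact congrArg Subtype.val this
      have h2 := (hfix x).mp h1
      rcases Finset.mem_insert.mp h2 with h3 | h3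
      · exact h3
      · exact absurd h3 (hOt x x.2)
    · intro hx q
      apply Subtype.ext
      have h1 : ∀ g ∈ P, g (x : α) = x := (hfix x).mpr (by rw [hx]; exact Finset.mem_insert_self _ _)
      exact h1 q.1.1 (Subgroup.mem_subgroupOf.mp q.2)
  obtain ⟨Pa, hPaH, hPap, hPafix⟩ := hP a ha
  obtain ⟨Pb, hPbH, hPbp, hPbfix⟩ := hP b hb
  have h1 := (hPap.comap_subtype (K := H)).card_modEq_card_fixedPoints (MulAction.orbit H a)
  have h2 := (hPbp.comap_subtype (K := H)).card_modEq_card_fixedPoints (MulAction.orbit H a)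
  have hfa : MulAction.fixedPoints (Pa.subgroupOf H) (MulAction.orbit H a) =
      {⟨a, MulAction.mem_orbit_self a⟩} := by
    ext x
    rw [key a Pa hPaH hPafix x, Set.mem_singleton_iff, Subtype.ext_iff]
  have hfb : MulAction.fixedPoints (Pb.subgroupOf H) (MulAction.orbit H a) = ∅ := by
    ext x
    rw [key b Pb hPbH hPbfix x]
    simp only [Set.mem_empty_iff_false, iff_false]
    intro h
    exact hbO (h ▸ x.2)
  have c1 : Nat.card (MulAction.fixedPoints (Pa.subgroupOf H) (MulAction.orbit H a)) = 1 := by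
    rw [hfa]; simp
  have c2 : Nat.card (MulAction.fixedPoints (Pb.subgroupOf H) (MulAction.orbit H a)) = 0 := by
    rw [hfb]; simp
  have h1' : Nat.card (MulAction.orbit H a) ≡ 1 [MOD p] := by
    rw [← c1]; exact h1
  have h2' : Nat.card (MulAction.orbit H a) ≡ 0 [MOD p] := by
    rw [← c2]; exact h2
  have := h1'.symm.trans h2'
  have hp2 := (Fact.out : p.Prime).two_le
  rw [Nat.ModEq, Nat.mod_eq_of_lt (by omega : 1 < p), Nat.zero_mod] at this
  omega


/-- the subgroup of `G` fixing `t` pointwise -/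
def stabT (G : Subgroup (Perm α)) (t : Finset α) : Subgroup (Perm α) where
  carrier := {g | g ∈ G ∧ ∀ x ∈ t, g x = x}
  mul_mem' := by
    rintro a b ⟨ha, ha'⟩ ⟨hb, hb'⟩
    refine ⟨G.mul_mem ha hb, fun x hx => ?_⟩
    rw [Perm.mul_apply, hb' x hx, ha' x hx]
  one_mem' := ⟨G.one_mem, fun _ _ => rfl⟩
  inv_mem' := by
    rintro a ⟨ha, ha'⟩
    refine ⟨G.inv_mem ha, fun x hx => ?_⟩
    rw [Perm.inv_eq_iff_eq, ha' x hx]

theorem stepB (G : Subgroup (Perm α)) {p k : ℕ} [Fact p.Prime]
    (h : ∀ s : Finset α, s.card = k → ∃ P : Subgroup G, IsPGroup p P ∧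
      MulAction.fixedPoints P α = (s : Set α))
    (t : Finset α) (ht : t.card + 1 = k) (a b : α) (ha : a ∉ t) (hb : b ∉ t) :
    ∃ g ∈ G, (∀ x ∈ t, g x = x) ∧ g a = b := by
  have hcore := core (p := p) (stabT G t) t (fun g hg => hg.2) ?_ a b ha hb
  · obtain ⟨g, hg, hgab⟩ := hcore
    exact ⟨g, hg.1, hg.2, hgab⟩
  · intro c hc
    obtain ⟨P, hPp, hPfix⟩ := h (insert c t) (by rw [Finset.card_insert_of_notMem hc, ht])
    have hmem : ∀ x, (∀ g ∈ P.map G.subtype, g x = x) ↔ x ∈ insert c t := by
      intro x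
      have h1 : x ∈ MulAction.fixedPoints P α ↔ x ∈ ((insert c t : Finset α) : Set α) := by
        rw [hPfix]
      rw [Finset.mem_coe] at h1
      rw [← h1, MulAction.mem_fixedPoints]
      constructor
      · intro h2 q
        exact h2 _ ⟨q.1, q.2, rfl⟩
      · rintro h2 g ⟨q, hq, rfl⟩
        exact h2 ⟨q, hq⟩
    refine ⟨P.map G.subtype, ?_, hPp.map _, hmem⟩
    rintro g hg
    refine ⟨?_, fun x hx => ?_⟩
    · obtain ⟨q, _, rfl⟩ := hg
      exact q.2
    · exact (hmem x).mpr (Finset.mem_insert_of_mem hx) g hg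

theorem stepB' (G : Subgroup (Perm α)) {p k : ℕ} [Fact p.Prime]
    (h : ∀ s : Finset α, s.card = k → ∃ P : Subgroup G, IsPGroup p P ∧
      MulAction.fixedPoints P α = (s : Set α))
    (x : Fin k ↪ α) (i : Fin k) (b : α) (hb : ∀ l, l ≠ i → x l ≠ b) :
    ∃ g ∈ G, (∀ l, l ≠ i → g (x l) = x l) ∧ g (x i) = b := by
  have ht : ((Finset.univ.erase i).image x).card + 1 = k := by
    rw [Finset.card_image_of_injective _ x.injective, Finset.card_erase_of_mem (Finset.mem_univ _),
      Finset.card_univ, Fintype.card_fin]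
    have := i.pos
    omega
  have ha : x i ∉ (Finset.univ.erase i).image x := by
    intro hm
    obtain ⟨l, hl, hxl⟩ := Finset.mem_image.mp hm
    exact (Finset.mem_erase.mp hl).1 (x.injective hxl)
  have hb' : b ∉ (Finset.univ.erase i).image x := by
    intro hm
    obtain ⟨l, hl, hxl⟩ := Finset.mem_image.mp hm
    exact hb l (Finset.mem_erase.mp hl).1 hxl
  obtain ⟨g, hg, hgt, hgab⟩ := stepB G h _ ht (x i) b ha hb'
  refine ⟨g, hg, fun l hl => hgt _ ?_, hgab⟩
  exact Finset.mem_image_of_mem _ (Finset.mem_erase.mpr ⟨hl, Finset.mem_univ _⟩)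

theorem main_aux (G : Subgroup (Perm α)) {p k : ℕ} [Fact p.Prime]
    (hkn : k < Fintype.card α)
    (h : ∀ s : Finset α, s.card = k → ∃ P : Subgroup G, IsPGroup p P ∧
      MulAction.fixedPoints P α = (s : Set α)) :
    ∀ n : ℕ, ∀ x y : Fin k ↪ α, (Finset.univ.filter (fun l => x l ≠ y l)).card = n →
      ∃ g ∈ G, ∀ l, g (x l) = y l := by
  intro n
  induction n using Nat.strong_induction_on with
  | _ n ih =>
    intro x y hn
    by_cases h0 : ∀ l, x l = y l
    · exact ⟨1, G.one_mem, fun l => by simpa using h0 l⟩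
    · push Not at h0
      obtain ⟨i, hi⟩ := h0
      -- reduce to the case where y i is not among the other x l
      have hred : ∃ g₁ ∈ G, (∀ l, l ≠ i → g₁ (x l) ≠ y i) ∧
          (∀ l, x l = y l → g₁ (x l) = x l) := by
        by_cases hc : ∀ l, l ≠ i → x l ≠ y i
        · exact ⟨1, G.one_mem, fun l hl => by simpa using hc l hl, fun l _ => rfl⟩
        · push Not at hc
          obtain ⟨j, hji, hxj⟩ := hc
          -- a point outside the range of x
          obtain ⟨z, hz⟩ : ∃ z, z ∉ Finset.univ.image x := by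
            by_contra hall
            push Not at hall
            have : Fintype.card α ≤ (Finset.univ.image x).card := by
              rw [← Finset.card_univ]
              exact Finset.card_le_card (fun z _ => hall z)
            have h2 : (Finset.univ.image x).card ≤ k := by
              refine Finset.card_image_le.trans ?_
              simp
            omega
          have hz' : ∀ l, x l ≠ z := fun l hl =>
            hz (hl ▸ Finset.mem_image_of_mem _ (Finset.mem_univ _))
          obtain ⟨g₁, hg₁, hg₁fix, hg₁j⟩ := stepB' G h x j z (fun l _ => hz' l)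
          refine ⟨g₁, hg₁, fun l hl => ?_, fun l hl => ?_⟩
          · by_cases hlj : l = j
            · subst hlj
              rw [hg₁j, ← hxj]
              exact (hz' l).symm
            · rw [hg₁fix l hlj, ← hxj]
              exact fun hh => hlj (x.injective hh)
          · have hlj : l ≠ j := by
              rintro rfl
              rw [hxj] at hl
              exact hji (y.injective hl.symm)
            exact hg₁fix l hlj
      obtain ⟨g₁, hg₁, hg₁c, hg₁agree⟩ := hred
      let x' : Fin k ↪ α := x.trans g₁.toEmbedding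
      have hx' : ∀ l, x' l = g₁ (x l) := fun l => rfl
      obtain ⟨g₂, hg₂, hg₂fix, hg₂i⟩ := stepB' G h x' i (y i) (fun l hl => by rw [hx']; exact hg₁c l hl)
      let x'' : Fin k ↪ α := x'.trans g₂.toEmbedding
      have hx'' : ∀ l, x'' l = g₂ (x' l) := fun l => rfl
      have hsub : (Finset.univ.filter (fun l => x'' l ≠ y l)) ⊂
          (Finset.univ.filter (fun l => x l ≠ y l)) := by
        rw [Finset.ssubset_iff_of_subset]
        · refine ⟨i, by simpa using hi, ?_⟩
          simp only [Finset.mem_filter, Finset.mem_univ, true_and, not_not]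
          rw [hx'', hg₂i]
        · intro l
          simp only [Finset.mem_filter, Finset.mem_univ, true_and]
          intro hl hxy
          apply hl
          have hli : l ≠ i := by
            rintro rfl
            exact hi hxy
          rw [hx'', hg₂fix l hli, hx', hg₁agree l hxy, hxy]
      have hlt := Finset.card_lt_card hsub
      rw [hn] at hlt
      obtain ⟨g₃, hg₃, hg₃x⟩ := ih _ hlt x'' y rfl
      refine ⟨g₃ * (g₂ * g₁), G.mul_mem hg₃ (G.mul_mem hg₂ hg₁), fun l => ?_⟩
      rw [Perm.mul_apply, Perm.mul_apply]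
      exact hg₃x l

end core

theorem result {α : Type*} [Fintype α] [DecidableEq α] (G : Subgroup (Equiv.Perm α)) {p k : ℕ} (hp : p.Prime) (hk : 1 ≤ k) (hkn : k < Fintype.card α) (h : ∀ s : Finset α, s.card = k → ∃ P : Subgroup G, IsPGroup p P ∧ MulAction.fixedPoints P α = (s : Set α)) : MulAction.IsMultiplyPretransitive G α k := by
  have := Fact.mk hp
  refine ⟨fun x y => ?_⟩
  obtain ⟨g, hg, hgx⟩ := main_aux G hkn h _ x y rfl
  refine ⟨⟨g, hg⟩, ?_⟩
  ext i
  exact hgx i

end Cfsg.Agent.S0743
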