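import Mathlib
import Cfsg.Statements.S0706
import Cfsg.Agent.S0705
import Cfsg.Agent.S0743

set_option autoImplicit false
open Cfsg

namespace Cfsg.Agent.S0706

open Equiv MulAction Cfsg.Agent.S0743

section main

variable {α : Type*} [Fintype α] [DecidableEq α]

theorem mem_orbit_iff (G : Subgroup (Perm α)) (Γ : Finset α) (a w : α) :
    w ∈ MulAction.orbit (fixingSubgroup G (Γ : Set α)) a ↔ ∃ g ∈ stabT G Γ, g a = w := by
  constructor
  · rintro ⟨h, rfl⟩
    refine ⟨((h : G) : Perm α), ⟨(h : G).2, fun x hx => ?_⟩, rfl⟩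
    have := (mem_fixingSubgroup_iff G).mp h.2 x (Finset.mem_coe.mpr hx)
    exact this
  · rintro ⟨g, ⟨hg, hgΓ⟩, rfl⟩
    refine ⟨⟨⟨g, hg⟩, ?_⟩, rfl⟩
    rw [mem_fixingSubgroup_iff]
    intro y hy
    exact hgΓ y (Finset.mem_coe.mp hy)

/-- elements of `G` fixing `Γ₀` pointwise and `Δ` setwise -/
def setY (G : Subgroup (Perm α)) (Γ₀ Δ : Finset α) : Subgroup (Perm α) where
  carrier := {g | g ∈ G ∧ (∀ x ∈ Γ₀, g x = x) ∧ ∀ x, g x ∈ Δ ↔ x ∈ Δ}
  mul_mem' := by
    rintro a b ⟨ha, ha', ha''⟩ ⟨hb, hb', hb''⟩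
    refine ⟨G.mul_mem ha hb, fun x hx => ?_, fun x => ?_⟩
    · rw [Perm.mul_apply, hb' x hx, ha' x hx]
    · rw [Perm.mul_apply, ha'', hb'']
  one_mem' := ⟨G.one_mem, fun _ _ => rfl, fun _ => Iff.rfl⟩
  inv_mem' := by
    rintro a ⟨ha, ha', ha''⟩
    refine ⟨G.inv_mem ha, fun x hx => ?_, fun x => ?_⟩
    · rw [Perm.inv_eq_iff_eq, ha' x hx]
    · rw [← ha'' (a⁻¹ x)]; simp

theorem card_stabT_conj (G : Subgroup (Perm α)) (Γ Γ' : Finset α) (g : Perm α) (hg : g ∈ G)
    (hΓ : ∀ x, x ∈ Γ' ↔ g⁻¹ x ∈ Γ) : Nat.card (stabT G Γ') = Nat.card (stabT G Γ) := by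
  have : stabT G Γ' = (stabT G Γ).map (MulAut.conj g).toMonoidHom := by
    ext h
    rw [Subgroup.mem_map]
    constructor
    · rintro ⟨hG, hfix⟩
      refine ⟨g⁻¹ * h * g, ⟨G.mul_mem (G.mul_mem (G.inv_mem hg) hG) hg, fun x hx => ?_⟩, ?_⟩
      · have hx' : g x ∈ Γ' := by rw [hΓ]; simpa using hx
        rw [Perm.mul_apply, Perm.mul_apply, hfix _ hx']
        simp
      · show g * (g⁻¹ * h * g) * g⁻¹ = h
        group
    · rintro ⟨h₀, ⟨hG, hfix⟩, rfl⟩
      refine ⟨G.mul_mem (G.mul_mem hg hG) (G.inv_mem hg), fun x hx => ?_⟩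
      show (g * h₀ * g⁻¹) x = x
      rw [Perm.mul_apply, Perm.mul_apply, hfix _ ((hΓ x).mp hx)]
      simp
  rw [this, Subgroup.card_map_of_injective (MulAut.conj g).injective]


omit [Fintype α] in
theorem maps_onto (g : Perm α) (Γ : Finset α) (h : ∀ x ∈ Γ, g x ∈ Γ) :
    ∀ x, g x ∈ Γ ↔ x ∈ Γ := by
  have himg : Γ.image g = Γ := by
    apply Finset.eq_of_subset_of_card_le
    · intro y hy
      obtain ⟨x, hx, rfl⟩ := Finset.mem_image.mp hy
      exact h x hx
    · rw [Finset.card_image_of_injective _ g.injective]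
  intro x
  constructor
  · intro hx
    rw [← himg] at hx
    obtain ⟨y, hy, hyx⟩ := Finset.mem_image.mp hx
    exact g.injective hyx ▸ hy
  · exact h x

open scoped Pointwise in
theorem core (G : Subgroup (Perm α)) {k : ℕ} (hk : k < Fintype.card α)
    (hgen : ∀ s : Finset α, s.card = k + 1 → ∀ σ : Perm ↥s, ∃ g ∈ G, ∀ x : ↥s, g (x : α) = σ x)
    {p : ℕ} [Fact p.Prime] (hpk : p ≤ k) (Γ : Finset α) (hΓ : Γ.card = k)
    (f : Fin p → α) (hf : ∀ i, f i ∉ Γ)
    (hdist : ∀ i j, i ≠ j → f j ∉ MulAction.orbit (fixingSubgroup G (Γ : Set α)) (f i))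
    (hcon : ∀ i, ¬ p ∣ Nat.card (MulAction.orbit (fixingSubgroup G (Γ : Set α)) (f i))) :
    False := by
  classical
  have hp : p.Prime := Fact.out
  obtain ⟨hktrans, hpart2⟩ := Cfsg.Agent.S0705.result G hk hgen
  obtain ⟨Δ, hΔΓ, hΔp⟩ := Finset.exists_subset_card_eq (show p ≤ Γ.card by omega)
  -- basic facts on orbits
  have hOΓ : ∀ i, ∀ w ∈ MulAction.orbit (fixingSubgroup G (Γ : Set α)) (f i), w ∉ Γ := by
    intro i w hw hwΓ
    obtain ⟨h, ⟨_, hfix⟩, rfl⟩ := (mem_orbit_iff G Γ (f i) w).mp hw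
    have h1 : h (h (f i)) = h (f i) := hfix _ hwΓ
    have h2 := h.injective h1
    exact hf i (h2 ▸ hwΓ)
  -- Y preserves Γ
  have hYΓ : ∀ g ∈ setY G (Γ \ Δ) Δ, ∀ x, g x ∈ Γ ↔ x ∈ Γ := by
    rintro g ⟨_, hfix, hΔ⟩
    apply maps_onto
    intro x hx
    by_cases hxΔ : x ∈ Δ
    · exact hΔΓ ((hΔ x).mpr hxΔ)
    · rw [hfix x (Finset.mem_sdiff.mpr ⟨hx, hxΔ⟩)]; exact hx
  -- Y preserves the orbits
  have hYO : ∀ g ∈ setY G (Γ \ Δ) Δ, ∀ i,
      ∀ w ∈ MulAction.orbit (fixingSubgroup G (Γ : Set α)) (f i),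
        g w ∈ MulAction.orbit (fixingSubgroup G (Γ : Set α)) (f i) := by
    intro g hg i w hw
    have hwΓ := hOΓ i w hw
    have hgwΓ : g w ∉ Γ := fun h => hwΓ ((hYΓ g hg w).mp h)
    have hsm : g • Γ = Γ := by
      ext x
      rw [Finset.mem_smul_finset]
      constructor
      · rintro ⟨y, hy, rfl⟩
        exact (hYΓ g hg y).mpr hy
      · intro hx
        refine ⟨g⁻¹ x, ?_, by simp⟩
        rw [← hYΓ g hg]; simpa using hx
    obtain ⟨g', hg'G, hg'fix, hg'w⟩ := hpart2 Γ hΓ w (g w) hwΓ hgwΓ ⟨g, hg.1, hsm, rfl⟩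
    obtain ⟨h, hh, rfl⟩ := (mem_orbit_iff G Γ (f i) w).mp hw
    rw [mem_orbit_iff]
    refine ⟨g' * h, (stabT G Γ).mul_mem ⟨hg'G, hg'fix⟩ hh, ?_⟩
    rw [Perm.mul_apply, hg'w]
  -- stabT ≤ Y
  have hle : stabT G Γ ≤ setY G (Γ \ Δ) Δ := by
    rintro g ⟨hgG, hfix⟩
    refine ⟨hgG, fun x hx => hfix x (Finset.mem_sdiff.mp hx).1, ?_⟩
    apply maps_onto
    intro x hx
    rw [hfix x (hΔΓ hx)]; exact hx
  -- a point of Δ
  obtain ⟨δ, hδ⟩ : Δ.Nonempty := by
    rw [← Finset.card_pos, hΔp]; exact hp.pos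
  -- the orbit of δ under Y is Δ
  have horb : MulAction.orbit (setY G (Γ \ Δ) Δ) δ = (Δ : Set α) := by
    ext x
    constructor
    · rintro ⟨y, rfl⟩
      exact Finset.mem_coe.mpr ((y.2.2.2 δ).mpr hδ)
    · intro hx
      have hx : x ∈ Δ := Finset.mem_coe.mp hx
      have hτ : ∀ z, z ∉ Γ → swap δ x z = z := by
        intro z hz
        apply swap_apply_of_ne_of_ne
        · rintro rfl; exact hz (hΔΓ hδ)
        · rintro rfl; exact hz (hΔΓ hx)
      obtain ⟨g, hgG, hgΓ⟩ := Cfsg.Agent.S0705.extend G hk hgen Γ (by omega) (swap δ x) hτ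
      have hgY : g ∈ setY G (Γ \ Δ) Δ := by
        refine ⟨hgG, fun z hz => ?_, ?_⟩
        · have hz' := Finset.mem_sdiff.mp hz
          rw [hgΓ z hz'.1]
          apply swap_apply_of_ne_of_ne
          · rintro rfl; exact hz'.2 hδ
          · rintro rfl; exact hz'.2 hx
        · apply maps_onto
          intro z hz
          rw [hgΓ z (hΔΓ hz)]
          by_cases h1 : z = δ
          · rw [h1, swap_apply_left]; exact hx
          · by_cases h2 : z = x
            · rw [h2, swap_apply_right]; exact hδ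
            · rw [swap_apply_of_ne_of_ne h1 h2]; exact hz
      refine ⟨⟨g, hgY⟩, ?_⟩
      show g δ = x
      rw [hgΓ δ (hΔΓ hδ), swap_apply_left]
  -- p * |stabT| divides |Y|
  have hdiv : p * Nat.card (stabT G Γ) ∣ Nat.card (setY G (Γ \ Δ) Δ) := by
    have h1 : Nat.card (setY G (Γ \ Δ) Δ) =
        Nat.card (MulAction.orbit (setY G (Γ \ Δ) Δ) δ) *
          Nat.card (MulAction.stabilizer (setY G (Γ \ Δ) Δ) δ) := by
      rw [Subgroup.card_eq_card_quotient_mul_card_subgroup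
        (MulAction.stabilizer (setY G (Γ \ Δ) Δ) δ)]
      congr 1
      exact (Nat.card_congr (MulAction.orbitEquivQuotientStabilizer _ δ)).symm
    have h2 : Nat.card (MulAction.orbit (setY G (Γ \ Δ) Δ) δ) = p := by
      rw [horb, Nat.card_coe_set_eq, Set.ncard_coe_finset, hΔp]
    have h3 : Nat.card (stabT G Γ) ∣
        Nat.card (MulAction.stabilizer (setY G (Γ \ Δ) Δ) δ) := by
      have hsub : (stabT G Γ).subgroupOf (setY G (Γ \ Δ) Δ) ≤
          MulAction.stabilizer (setY G (Γ \ Δ) Δ) δ := by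
        intro y hy
        rw [MulAction.mem_stabilizer_iff]
        exact (Subgroup.mem_subgroupOf.mp hy).2 δ (hΔΓ hδ)
      have := Subgroup.card_dvd_of_le hsub
      rwa [Nat.card_congr (Subgroup.subgroupOfEquivOfLe hle).toEquiv] at this
    rw [h1, h2]
    exact Nat.mul_dvd_mul_left p h3
  -- a Sylow subgroup of Y and its fixed points in the orbits
  obtain ⟨P⟩ : Nonempty (Sylow p (setY G (Γ \ Δ) Δ)) := inferInstance
  have hfixpt : ∀ i, ∃ w ∈ MulAction.orbit (fixingSubgroup G (Γ : Set α)) (f i),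
      ∀ c ∈ (P : Subgroup (setY G (Γ \ Δ) Δ)), (c : Perm α) w = w := by
    intro i
    let S : SubMulAction (P : Subgroup (setY G (Γ \ Δ) Δ)) α :=
      { carrier := MulAction.orbit (fixingSubgroup G (Γ : Set α)) (f i)
        smul_mem' := fun c x hx => hYO c.1.1 c.1.2 i x hx }
    have hcard : ¬ p ∣ Nat.card S := hcon i
    obtain ⟨⟨w, hw⟩, hfix⟩ := P.isPGroup'.nonempty_fixed_point_of_prime_not_dvd_card S hcard
    refine ⟨w, hw, fun c hc => ?_⟩
    have := hfix ⟨c, hc⟩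
    exact congrArg Subtype.val this
  choose ω hωO hωfix using hfixpt
  have hωinj : Function.Injective ω := by
    intro i j hij
    by_contra hne
    have h1 := hωO i
    have h2 := hωO j
    rw [hij] at h1
    have e1 := MulAction.orbit_eq_iff.mpr h1
    have e2 := MulAction.orbit_eq_iff.mpr h2
    have : f j ∈ MulAction.orbit (fixingSubgroup G (Γ : Set α)) (f i) := by
      rw [← e1, e2]; exact MulAction.mem_orbit_self _
    exact hdist i j hne this
  -- the new k-set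
  have hdisj : Disjoint (Γ \ Δ) (Finset.univ.image ω) := by
    rw [Finset.disjoint_left]
    intro x hx hx'
    obtain ⟨i, _, rfl⟩ := Finset.mem_image.mp hx'
    exact hOΓ i _ (hωO i) (Finset.mem_sdiff.mp hx).1
  have hΓ'card : ((Γ \ Δ) ∪ Finset.univ.image ω).card = k := by
    rw [Finset.card_union_of_disjoint hdisj, Finset.card_image_of_injective _ hωinj,
      Finset.card_sdiff_of_subset hΔΓ, Finset.card_univ, Fintype.card_fin, hΓ, hΔp]
    omega
  -- P fixes the new set pointwise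
  have hPle : (P : Subgroup (setY G (Γ \ Δ) Δ)).map (setY G (Γ \ Δ) Δ).subtype ≤
      stabT G ((Γ \ Δ) ∪ Finset.univ.image ω) := by
    rintro g ⟨c, hc, rfl⟩
    refine ⟨c.2.1, fun x hx => ?_⟩
    rcases Finset.mem_union.mp hx with h1 | h1
    · exact c.2.2.1 x h1
    · obtain ⟨i, _, rfl⟩ := Finset.mem_image.mp h1
      exact hωfix i c hc
  -- conjugacy of the stabilizers
  have hconj : Nat.card (stabT G ((Γ \ Δ) ∪ Finset.univ.image ω)) = Nat.card (stabT G Γ) := by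
    let x : Fin k ↪ α := (Γ.equivFinOfCardEq hΓ).symm.toEmbedding.trans
      (Function.Embedding.subtype _)
    let y : Fin k ↪ α := (((Γ \ Δ) ∪ Finset.univ.image ω).equivFinOfCardEq hΓ'card).symm.toEmbedding.trans
      (Function.Embedding.subtype _)
    obtain ⟨g, hg⟩ := hktrans.exists_smul_eq x y
    have hxmem : ∀ z, z ∈ Γ ↔ ∃ i, x i = z := by
      intro z
      constructor
      · intro hz
        exact ⟨Γ.equivFinOfCardEq hΓ ⟨z, hz⟩, by simp [x]⟩
      · rintro ⟨i, rfl⟩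
        exact ((Γ.equivFinOfCardEq hΓ).symm i).2
    have hymem : ∀ z, z ∈ (Γ \ Δ) ∪ Finset.univ.image ω ↔ ∃ i, y i = z := by
      intro z
      constructor
      · intro hz
        exact ⟨((Γ \ Δ) ∪ Finset.univ.image ω).equivFinOfCardEq hΓ'card ⟨z, hz⟩, by simp [y]⟩
      · rintro ⟨i, rfl⟩
        exact ((((Γ \ Δ) ∪ Finset.univ.image ω).equivFinOfCardEq hΓ'card).symm i).2
    have hgxy : ∀ i, (g : Perm α) (x i) = y i := fun i => DFunLike.congr_fun hg i
    apply card_stabT_conj G Γ _ (g : Perm α) g.2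
    intro z
    rw [hymem, hxmem]
    constructor
    · rintro ⟨i, rfl⟩
      exact ⟨i, by rw [← hgxy i]; simp⟩
    · rintro ⟨i, hi⟩
      exact ⟨i, by rw [← hgxy i, hi]; simp⟩
  -- orders
  have hPcard : Nat.card ((P : Subgroup (setY G (Γ \ Δ) Δ)).map (setY G (Γ \ Δ) Δ).subtype) =
      p ^ (Nat.card (setY G (Γ \ Δ) Δ)).factorization p := by
    rw [Subgroup.card_map_of_injective (Subgroup.subtype_injective _)]
    exact P.card_eq_multiplicity
  have h1 := Subgroup.card_dvd_of_le hPle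
  rw [hPcard, hconj] at h1
  have h2 : p ^ ((Nat.card (setY G (Γ \ Δ) Δ)).factorization p + 1) ∣
      Nat.card (setY G (Γ \ Δ) Δ) := by
    rw [pow_succ, mul_comm]
    exact (Nat.mul_dvd_mul_left p h1).trans hdiv
  exact Nat.pow_succ_factorization_not_dvd Nat.card_pos.ne' hp h2

end main

theorem result {α : Type*} [Fintype α] [DecidableEq α] (G : Subgroup (Equiv.Perm α)) {k : ℕ} (hk : k < Fintype.card α) (hgen : ∀ s : Finset α, s.card = k + 1 → ∀ σ : Equiv.Perm ↥s, ∃ g ∈ G, ∀ x : ↥s, g (x : α) = σ x) {p : ℕ} (hp : p.Prime) (hpk : p ≤ k) (Γ : Finset α) (hΓ : Γ.card = k) (f : Fin p → α) (hf : ∀ i, f i ∉ Γ) (hdist : ∀ i j, i ≠ j → f j ∉ MulAction.orbit (fixingSubgroup G (Γ : Set α)) (f i)) : ∃ i, p ∣ Nat.card (MulAction.orbit (fixingSubgroup G (Γ : Set α)) (f i)) := by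
  have := Fact.mk hp
  by_contra hcon
  push Not at hcon
  exact core G hk hgen hpk Γ hΓ f hf hdist hcon

end Cfsg.Agent.S0706
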