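import Cfsg.Statements.S0707
import Mathlib

set_option autoImplicit false
open Cfsg

namespace Cfsg.Agent.S0707

/-- a group in which the trivial subgroup is maximal has prime order -/
theorem prime_card_of_isCoatom_bot {G : Type*} [Group G] (h : IsCoatom (⊥ : Subgroup G)) :
    (Nat.card G).Prime := by
  have hnt : Nontrivial G := by
    rw [← Subgroup.nontrivial_iff, nontrivial_iff_exists_ne ⊥]
    exact ⟨⊤, fun h' => h.1 h'.symm⟩
  have hsimple : IsSimpleGroup G := by
    refine ⟨fun H _ => ?_⟩
    by_cases hH : H = ⊥
    · exact Or.inl hH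
    · exact Or.inr (h.2 H (bot_lt_iff_ne_bot.mpr hH))
  obtain ⟨g, hg⟩ := exists_ne (1 : G)
  have hz : Subgroup.zpowers g = ⊤ :=
    h.2 _ (bot_lt_iff_ne_bot.mpr (Subgroup.zpowers_ne_bot.2 hg))
  have hcyc : IsCyclic G := ⟨⟨g, (Subgroup.eq_top_iff' _).1 hz⟩⟩
  let _ : CommGroup G := IsCyclic.commGroup
  exact IsSimpleGroup.prime_card

theorem mem_stab_smul {G : Type*} [Group G] {α : Type*} [MulAction G α] (g x : G) (a : α) :
    x ∈ MulAction.stabilizer G (g • a) ↔ g⁻¹ * x * g ∈ MulAction.stabilizer G a := by
  rw [MulAction.mem_stabilizer_iff, MulAction.mem_stabilizer_iff, mul_smul, mul_smul,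
    inv_smul_eq_iff]

/-- In a primitive permutation group, distinct points have distinct stabilisers unless the group is regular of prime degree. -/
theorem result {α : Type*} (G : Subgroup (Equiv.Perm α)) [MulAction.IsPreprimitive G α] (h : ¬ (Nat.card α).Prime ∨ ∃ a : α, MulAction.stabilizer G a ≠ ⊥) {a b : α} (hab : a ≠ b) : MulAction.stabilizer G a ≠ MulAction.stabilizer G b := by
  intro heq
  have hnt : Nontrivial α := ⟨⟨a, b, hab⟩⟩
  set N := Subgroup.normalizer ((MulAction.stabilizer G a : Subgroup G) : Set G) with hN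
  have hblock : MulAction.IsBlock G (MulAction.orbit N a) :=
    MulAction.IsBlock.of_orbit Subgroup.le_normalizer
  have ha : a ∈ MulAction.orbit N a := MulAction.mem_orbit_self a
  have hb : b ∈ MulAction.orbit N a := by
    obtain ⟨g, hg⟩ := MulAction.exists_smul_eq G a b
    have hgN : g⁻¹ ∈ N := by
      rw [hN, Subgroup.mem_normalizer_iff]
      intro x
      have h1 := mem_stab_smul g x a
      rw [hg, ← heq] at h1
      rw [inv_inv]
      exact h1
    exact ⟨⟨g, by simpa using N.inv_mem hgN⟩, hg⟩
  have huniv : MulAction.orbit N a = Set.univ := by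
    rcases MulAction.IsPreprimitive.isTrivialBlock_of_isBlock hblock with h1 | h1
    · exact absurd (h1 ha hb) hab
    · exact h1
  -- the stabilizer of a fixes every point
  have hstab : ∀ x : α, MulAction.stabilizer G x = MulAction.stabilizer G a := by
    intro x
    have hx : x ∈ MulAction.orbit N a := by rw [huniv]; trivial
    obtain ⟨n, hn⟩ := hx
    have hn' : (n : G) • a = x := hn
    ext y
    rw [← hn', mem_stab_smul]
    have hnN : (n : G)⁻¹ ∈ Subgroup.normalizer ((MulAction.stabilizer G a : Subgroup G) : Set G) :=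
      N.inv_mem n.2
    have h2 := (Subgroup.mem_normalizer_iff.mp hnN) y
    rw [inv_inv] at h2
    exact h2.symm
  have hbot : MulAction.stabilizer G a = ⊥ := by
    rw [eq_bot_iff]
    intro g hg
    rw [Subgroup.mem_bot]
    apply Subtype.ext
    ext x
    have : g ∈ MulAction.stabilizer G x := by rw [hstab x]; exact hg
    exact MulAction.mem_stabilizer_iff.mp this
  have hallbot : ∀ x : α, MulAction.stabilizer G x = ⊥ := fun x => (hstab x).trans hbot
  have hcoatom : IsCoatom (MulAction.stabilizer G a) :=
    MulAction.IsPreprimitive.isCoatom_stabilizer_of_isPreprimitive (G := G) a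
  rw [hbot] at hcoatom
  have hprime := prime_card_of_isCoatom_bot hcoatom
  have hcard : Nat.card α = Nat.card G := by
    have := MulAction.index_stabilizer_of_transitive G a
    rw [hbot, Subgroup.index_bot] at this
    exact this.symm
  rcases h with h | ⟨x, hx⟩
  · exact h (hcard ▸ hprime)
  · exact hx (hallbot x)

end Cfsg.Agent.S0707
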