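import Cfsg.Statements.S0708
import Mathlib
import Cfsg.Agent.Lib.Helper9_Sharp4

set_option autoImplicit false
open Cfsg

namespace Cfsg.Agent.S0708

open Cfsg.Agent.Lib.Helper9_Sharp4.Helper9S4

/-- Tits' argument: a sharply 4-transitive group (no finiteness assumed) has finite degree at most 11, and at most 6 when the degree is even. -/
theorem result {G : Type*} [Group G] {Ω : Type*} [MulAction G Ω] (h4 : MulAction.IsMultiplyPretransitive G Ω 4) (hsharp : ∀ x : Fin 4 ↪ Ω, MulAction.stabilizer G x = ⊥) (hne : Nonempty (Fin 4 ↪ Ω)) : Finite Ω ∧ Nat.card Ω ≤ 11 ∧ (Even (Nat.card Ω) → Nat.card Ω ≤ 6) := by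
  have := h4
  classical
  obtain ⟨x0⟩ := hne
  obtain ⟨a, b, c, d, hinj⟩ : ∃ a b c d : Ω, Inj4 a b c d :=
    ⟨x0 0, x0 1, x0 2, x0 3, inj4_of_emb x0⟩
  have hinj' := hinj
  obtain ⟨hab, hac, had, hbc, hbd, hcd⟩ := hinj'
  obtain ⟨t, ta, tb, tc, td⟩ := exists_map4 (H := G) a b c d b a c d hinj
    ⟨hab.symm, hbc, hbd, hac, had, hcd⟩
  have htt : t * t = 1 := eq_one_of_fix4 hsharp (t * t) a b c d hinj
    (by rw [mul_smul, ta, tb]) (by rw [mul_smul, tb, ta]) (by rw [mul_smul, tc, tc])
    (by rw [mul_smul, td, td])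
  have htt2 : ∀ z : Ω, t • t • z = z := fun z => by rw [← mul_smul, htt, one_smul]
  have ht1 : t ≠ 1 := by
    intro h
    rw [h, one_smul] at ta
    exact hab ta
  -- the fixed points of `t` are finite
  have hFix : {y : Ω | t • y = y}.Finite := by
    by_cases hex : ∃ e, t • e = e ∧ e ≠ c ∧ e ≠ d
    · obtain ⟨e, he, hec, hed⟩ := hex
      apply Set.Finite.subset (Set.toFinite ({c, d, e} : Set Ω))
      intro y hy
      by_contra hny
      simp only [Set.mem_insert_iff, Set.mem_singleton_iff, not_or] at hny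
      obtain ⟨hyc, hyd, hye⟩ := hny
      exact ht1 (eq_one_of_fix4 hsharp t c d e y
        ⟨hcd, hec.symm, Ne.symm hyc, hed.symm, Ne.symm hyd, Ne.symm hye⟩ tc td he hy)
    · apply Set.Finite.subset (Set.toFinite ({c, d} : Set Ω))
      intro y hy
      by_contra hny
      simp only [Set.mem_insert_iff, Set.mem_singleton_iff, not_or] at hny
      exact hex ⟨y, hy, hny.1, hny.2⟩
  -- the elements fixing a, b and preserving the fixed points of t
  let D : Set G := {u | u • a = a ∧ u • b = b ∧ ∀ y : Ω, t • y = y → t • (u • y) = u • y}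
  have hD : D.Finite := by
    apply Set.Finite.of_injOn (f := fun u : G => ((u • c, u • d) : Ω × Ω))
      (t := ({y : Ω | t • y = y} ×ˢ {y : Ω | t • y = y}))
    · intro u hu
      exact ⟨hu.2.2 c tc, hu.2.2 d td⟩
    · intro u hu u' hu' heq
      simp only [Prod.mk.injEq] at heq
      exact eq_of_agree4 hsharp u u' a b c d hinj (hu.1.trans hu'.1.symm)
        (hu.2.1.trans hu'.2.1.symm) heq.1 heq.2
    · exact hFix.prod hFix
  have hI : ∀ z : Ω, ¬ t • z = z → z ≠ a → z ≠ b → Inj4 a b z (t • z) := by
    intro z hz hza hzb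
    refine ⟨hab, hza.symm, ?_, hzb.symm, ?_, fun h => hz h.symm⟩
    · intro h
      apply hzb
      calc z = t • t • z := (htt2 z).symm
        _ = t • a := by rw [h]
        _ = b := ta
    · intro h
      apply hza
      calc z = t • t • z := (htt2 z).symm
        _ = t • b := by rw [h]
        _ = a := tb
  have hMv : {y : Ω | ¬ t • y = y}.Finite := by
    by_cases hex : ∃ x', ¬ t • x' = x' ∧ x' ≠ a ∧ x' ≠ b
    · obtain ⟨x', hx', hxa, hxb⟩ := hex
      have hsub : {y : Ω | ¬ t • y = y} ⊆ ({a, b} : Set Ω) ∪ (fun u : G => u • x') '' D := by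
        intro z hz
        by_cases hza : z = a
        · left; simp [hza]
        by_cases hzb : z = b
        · left; simp [hzb]
        right
        have hI1 := hI x' hx' hxa hxb
        have hI2 := hI z hz hza hzb
        obtain ⟨u, ua, ub, ux, utx⟩ :=
          exists_map4 (H := G) a b x' (t • x') a b z (t • z) hI1 hI2
        have hcomm : u * t = t * u := by
          refine eq_of_agree4 hsharp (u * t) (t * u) a b x' (t • x') hI1 ?_ ?_ ?_ ?_
          · rw [mul_smul, mul_smul, ta, ub, ua, ta]
          · rw [mul_smul, mul_smul, tb, ua, ub, tb]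
          · rw [mul_smul, mul_smul, utx, ux]
          · rw [mul_smul, mul_smul, htt2, ux, utx, htt2]
        refine ⟨u, ⟨ua, ub, ?_⟩, ux⟩
        intro y hy
        rw [← mul_smul, ← hcomm, mul_smul, hy]
      exact Set.Finite.subset ((Set.toFinite ({a, b} : Set Ω)).union (hD.image _)) hsub
    · apply Set.Finite.subset (Set.toFinite ({a, b} : Set Ω))
      intro y hy
      by_contra hny
      simp only [Set.mem_insert_iff, Set.mem_singleton_iff, not_or] at hny
      exact hex ⟨y, hy, hny.1, hny.2⟩
  have hΩ : Finite Ω := by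
    have hu : (Set.univ : Set Ω) = {y | t • y = y} ∪ {y | ¬ t • y = y} := by
      ext y
      simp [em]
    rw [← Set.finite_univ_iff, hu]
    exact hFix.union hMv
  have := hΩ
  have hG : Finite G := by
    apply Finite.of_injective (fun g : G => g • x0)
    intro g g' h
    have h' : g • x0 = g' • x0 := h
    have h1 : g'⁻¹ * g ∈ MulAction.stabilizer G x0 := by
      rw [MulAction.mem_stabilizer_iff, mul_smul, h', inv_smul_smul]
    rw [hsharp] at h1
    exact (inv_mul_eq_one.1 (Subgroup.mem_bot.1 h1)).symm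
  have := hG
  have h4le : 4 ≤ Nat.card Ω := by
    have := Nat.card_le_card_of_injective x0 x0.injective
    simpa using this
  have h := core (H := G) (β := Ω) hsharp h4le
  refine ⟨hΩ, by omega, ?_⟩
  rintro ⟨r, hr⟩
  omega

end Cfsg.Agent.S0708
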