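import Cfsg.Statements.S0709
import Mathlib
import Cfsg.Agent.Lib.Helper9_M12gen

set_option autoImplicit false

open Cfsg

namespace Cfsg.Agent.S0709

open Cfsg.Agent.Lib.Helper9_M12gen

/-! ### generic one-point extension step (no involution hypothesis) -/
section generic
variable {Γ : Type*} [Group Γ]

theorem ext_step' [Finite Γ] {A Hh : Subgroup Γ} {y x : Γ} (hE : Helper9G.Ext A Hh y)
    (hxx : x * x ∈ A) (hnorm : ∀ a ∈ A, x * a * x⁻¹ ∈ A)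
    (hxyx : ∃ h₁ ∈ Hh, ∃ h₂ ∈ Hh, x * y * x = h₁ * x * h₂) :
    Helper9G.Ext Hh (Hh ⊔ Subgroup.zpowers x) x := by
  obtain ⟨hAH, hy, hdc⟩ := hE
  refine ⟨le_sup_left, Subgroup.mem_sup_right (Subgroup.mem_zpowers x), ?_⟩
  have hcl : Hh ⊔ Subgroup.zpowers x = Subgroup.closure ((Hh : Set Γ) ∪ {x}) := by
    rw [Subgroup.closure_union, Subgroup.closure_eq, Subgroup.zpowers_eq_closure]
  rw [hcl]
  have hnorm' : ∀ a ∈ A, x⁻¹ * a * x ∈ A := by
    intro a ha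
    have e : x⁻¹ * a * x = (x * x)⁻¹ * (x * a * x⁻¹) * (x * x) := by group
    rw [e]
    exact mul_mem (mul_mem (inv_mem hxx) (hnorm a ha)) hxx
  obtain ⟨k₁, hk₁, k₂, hk₂, hk⟩ := hxyx
  intro h0 hh0
  refine Helper9G.closure_sub ((Hh : Set Γ) ∪ {x})
    {k | k ∈ Hh ∨ ∃ h₁ ∈ Hh, ∃ h₂ ∈ Hh, k = h₁ * x * h₂}
    (Or.inl (one_mem Hh)) ?_ h0 hh0
  rintro g (hg | hg) l hl
  · rcases hl with hl | ⟨h₁, hh₁, h₂, hh₂, rfl⟩
    · exact Or.inl (mul_mem hg hl)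
    · exact Or.inr ⟨g * h₁, mul_mem hg hh₁, h₂, hh₂, by simp only [mul_assoc]⟩
  · rw [Set.mem_singleton_iff] at hg
    rw [hg]
    rcases hl with hl | ⟨h₁, hh₁, h₂, hh₂, rfl⟩
    · exact Or.inr ⟨1, one_mem Hh, l, hl, by rw [one_mul]⟩
    · rcases hdc h₁ hh₁ with ha | ⟨a₁, ha₁, a₂, ha₂, rfl⟩
      · refine Or.inl ?_
        have e0 : x * (h₁ * x * h₂) = (x * h₁ * x⁻¹) * (x * x) * h₂ := by group
        rw [e0]
        exact mul_mem (mul_mem (hAH (hnorm _ ha)) (hAH hxx)) hh₂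
      · refine Or.inr ⟨(x * a₁ * x⁻¹) * k₁, mul_mem (hAH (hnorm _ ha₁)) hk₁,
          k₂ * (x⁻¹ * a₂ * x) * h₂, mul_mem (mul_mem hk₂ (hAH (hnorm' _ ha₂))) hh₂, ?_⟩
        have e1 : x * (a₁ * y * a₂ * x * h₂)
            = (x * a₁ * x⁻¹) * (x * y * x) * (x⁻¹ * a₂ * x) * h₂ := by group
        rw [e1, hk]
        simp only [mul_assoc]

theorem conj_closure (x : Γ) (S : Set Γ) (B : Subgroup Γ) (h : ∀ g ∈ S, x * g * x⁻¹ ∈ B) :
    ∀ a ∈ Subgroup.closure S, x * a * x⁻¹ ∈ B := by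
  intro a ha
  refine Subgroup.closure_induction (p := fun a _ => x * a * x⁻¹ ∈ B) ?_ ?_ ?_ ?_ ha
  · exact h
  · rw [mul_one, mul_inv_cancel]; exact one_mem B
  · intro a b _ _ ha hb
    have e : x * (a * b) * x⁻¹ = (x * a * x⁻¹) * (x * b * x⁻¹) := by group
    rw [e]; exact mul_mem ha hb
  · intro a _ ha
    have e : x * a⁻¹ * x⁻¹ = (x * a * x⁻¹)⁻¹ := by group
    rw [e]; exact inv_mem ha

end generic

/-! ### permutation-level lemmas with excluded sets -/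
section perm
variable {α : Type*}

theorem invApp (f : Equiv.Perm α) (x : α) : f⁻¹ (f x) = x := by simp
theorem appInv (f : Equiv.Perm α) (x : α) : f (f⁻¹ x) = x := by simp

theorem stabOfExt {Hh K : Subgroup (Equiv.Perm α)} {x : Equiv.Perm α} {i a : α}
    (hE : Helper9G.Ext Hh K x) (hH : ∀ h ∈ Hh, h i = i) (hx : x i = a) (ha : a ≠ i) :
    ∀ k ∈ K, k i = i → k ∈ Hh := by
  intro k hk hki
  rcases hE.2.2 k hk with h | ⟨h₁, hh₁, h₂, hh₂, rfl⟩
  · exact h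
  · exfalso
    apply ha
    have e : h₁ a = h₁ i := by
      rw [hH h₁ hh₁]
      rw [Equiv.Perm.mul_apply, Equiv.Perm.mul_apply, hH h₂ hh₂, hx] at hki
      exact hki
    exact h₁.injective e

def TransS (Hh : Subgroup (Equiv.Perm α)) (b : α) (l : Set α) : Prop :=
  ∀ p, p ∉ l → ∃ g ∈ Hh, g b = p

theorem transStepS {Hh K : Subgroup (Equiv.Perm α)} (hHK : Hh ≤ K) {x : Equiv.Perm α}
    (hx : x ∈ K) {i a : α} (hxa : x i = a) {l : Set α} (hT : TransS Hh a (insert i l)) :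
    TransS K i l := by
  intro p hp
  by_cases hpi : p = i
  · exact ⟨1, one_mem K, by rw [hpi]; rfl⟩
  · obtain ⟨g, hg, hga⟩ := hT p (by
      intro h
      rcases Set.mem_insert_iff.mp h with h | h
      · exact hpi h
      · exact hp h)
    exact ⟨g * x, mul_mem (hHK hg) hx, by rw [Equiv.Perm.mul_apply, hxa, hga]⟩

def ReachS (K : Subgroup (Equiv.Perm α)) (l : Set α) (bs : List α) : Prop :=
  ∀ zs : List α, zs.Nodup → (∀ z ∈ zs, z ∉ l) → zs.length = bs.length →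
    ∃ g ∈ K, bs.map g = zs

theorem reachStepS {Hh K : Subgroup (Equiv.Perm α)} (hHK : Hh ≤ K) {b : α}
    {l : Set α} {bs : List α} (hT : TransS K b l) (hKF : ∀ k ∈ K, ∀ p ∈ l, k p = p)
    (hHb : ∀ h ∈ Hh, h b = b) (hR : ReachS Hh (insert b l) bs) : ReachS K l (b :: bs) := by
  intro zs hnd hF hlen
  cases zs with
  | nil => simp at hlen
  | cons z zs' =>
    rw [List.nodup_cons] at hnd
    obtain ⟨hz, hnd'⟩ := hnd
    obtain ⟨g₁, hg₁, e₁⟩ := hT z (hF z (by simp))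
    have hlen' : (zs'.map (g₁⁻¹ : Equiv.Perm α)).length = bs.length := by
      rw [List.length_map]; simpa using hlen
    have havoid : ∀ w ∈ zs'.map (g₁⁻¹ : Equiv.Perm α), w ∉ insert b l := by
      intro w hw
      rw [List.mem_map] at hw
      obtain ⟨w', hw', rfl⟩ := hw
      intro hmem
      rcases Set.mem_insert_iff.mp hmem with hwb | hFw
      · have e : w' = z := by
          rw [← e₁, ← hwb, appInv]
        exact hz (e ▸ hw')
      · have h1 := hKF g₁ hg₁ _ hFw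
        rw [appInv] at h1
        rw [← h1] at hFw
        exact hF w' (List.mem_cons.mpr (Or.inr hw')) hFw
    obtain ⟨g₂, hg₂, e₂⟩ := hR (zs'.map (g₁⁻¹ : Equiv.Perm α))
      (List.Nodup.map (g₁⁻¹ : Equiv.Perm α).injective hnd') havoid hlen'
    refine ⟨g₁ * g₂, mul_mem hg₁ (hHK hg₂), ?_⟩
    rw [List.map_cons, Equiv.Perm.mul_apply, hHb g₂ hg₂, e₁]
    congr 1
    have e3 : bs.map (g₁ * g₂) = (bs.map g₂).map g₁ := by
      rw [List.map_map]; rfl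
    have e4 : ((g₁ : α → α) ∘ ((g₁⁻¹ : Equiv.Perm α) : α → α)) = id := by
      funext w; simp
    rw [e3, e₂, List.map_map, e4, List.map_id]

theorem pretrans_of_reach {K : Subgroup (Equiv.Perm α)} {bs : List α} {l : Set α} {n : ℕ}
    (hlen : bs.length = n) (hl : ∀ p, p ∉ l) (hR : ReachS K l bs) :
    MulAction.IsMultiplyPretransitive K α n := by
  subst hlen
  have key : ∀ x : Fin bs.length ↪ α, ∃ g ∈ K, ∀ i, g (bs.get i) = x i := by
    intro x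
    obtain ⟨g, hg, e⟩ := hR (List.ofFn x) (List.nodup_ofFn.mpr x.injective)
      (fun z _ => hl z) (List.length_ofFn)
    refine ⟨g, hg, fun i => ?_⟩
    have e2 : List.ofFn ((g : α → α) ∘ bs.get) = List.ofFn x := by
      rw [← List.map_ofFn, List.ofFn_get]; exact e
    exact congrFun (List.ofFn_injective e2) i
  refine ⟨fun x y => ?_⟩
  obtain ⟨gx, hgx, ex⟩ := key x
  obtain ⟨gy, hgy, ey⟩ := key y
  refine ⟨⟨gy * gx⁻¹, mul_mem hgy (inv_mem hgx)⟩, ?_⟩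
  apply Function.Embedding.ext
  intro i
  show (gy * gx⁻¹) (x i) = y i
  rw [← ex i, Equiv.Perm.mul_apply, invApp, ey i]

end perm

/-! ### the data of Witt's lemma -/

structure Data {α : Type*} (t : ℕ) (q : ℕ → α) (G H : Subgroup (Equiv.Perm α))
    (s : ℕ → Equiv.Perm α) : Prop where
  ht : 2 ≤ t
  hq : ∀ i j : ℕ, 1 ≤ i → i ≤ t → 1 ≤ j → j ≤ t → q i = q j → i = j
  hfix : ∀ g ∈ G, ∀ i : ℕ, 3 ≤ i → i ≤ t → g (q i) = q i
  h2 : ∀ a b c d : α, (∀ i, 3 ≤ i → i ≤ t → a ≠ q i ∧ b ≠ q i ∧ c ≠ q i ∧ d ≠ q i) →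
    a ≠ b → c ≠ d → ∃ g ∈ G, g a = c ∧ g b = d
  hs1 : s 1 ∈ G
  hs1q : s 1 (q 1) = q 2 ∧ s 1 (q 2) = q 1
  hsq : ∀ i : ℕ, 2 ≤ i → i + 1 ≤ t → s i (q i) = q (i + 1) ∧ s i (q (i + 1)) = q i ∧
    ∀ j : ℕ, 1 ≤ j → j ≤ t → j ≠ i → j ≠ i + 1 → s i (q j) = q j
  hH : H = G ⊓ MulAction.stabilizer (Equiv.Perm α) (q 1) ⊓
    MulAction.stabilizer (Equiv.Perm α) (q 2)
  hsq2 : ∀ i : ℕ, 1 ≤ i → i + 1 ≤ t → s i ^ 2 ∈ H
  hbraid : ∀ i : ℕ, 1 ≤ i → i + 2 ≤ t → (s i * s (i + 1)) ^ 3 ∈ H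
  hcomm : ∀ i j : ℕ, 1 ≤ i → i + 2 ≤ j → j + 1 ≤ t →
    (s i * s j) ^ 2 ∈ H ∧ (s j * s i) ^ 2 ∈ H
  hnorm : ∀ i : ℕ, 2 ≤ i → i + 1 ≤ t →
    ∀ g ∈ G ⊓ MulAction.stabilizer (Equiv.Perm α) (q 2),
      s i * g * (s i)⁻¹ ∈ G ⊓ MulAction.stabilizer (Equiv.Perm α) (q 2)

section chain
variable {α : Type*}

def Gk (G : Subgroup (Equiv.Perm α)) (s : ℕ → Equiv.Perm α) (k : ℕ) :
    Subgroup (Equiv.Perm α) :=
  Subgroup.closure ((G : Set (Equiv.Perm α)) ∪ {x | ∃ i : ℕ, 2 ≤ i ∧ i + 1 ≤ k ∧ x = s i})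

def A2 (G : Subgroup (Equiv.Perm α)) (q : ℕ → α) : Subgroup (Equiv.Perm α) :=
  G ⊓ MulAction.stabilizer (Equiv.Perm α) (q 2)

def Ak (G : Subgroup (Equiv.Perm α)) (s : ℕ → Equiv.Perm α) (q : ℕ → α) :
    ℕ → Subgroup (Equiv.Perm α)
  | 0 => A2 G q
  | (m + 1) => Gk G s (m + 2)

def Lk (t : ℕ) (q : ℕ → α) (k : ℕ) : Set α := {p | ∃ j, k < j ∧ j ≤ t ∧ p = q j}

def bsk (q : ℕ → α) : ℕ → List α
  | 0 => []
  | (k + 1) => q (k + 1) :: bsk q k

theorem bsk_length (q : ℕ → α) : ∀ k, (bsk q k).length = k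
  | 0 => rfl
  | (k + 1) => by rw [bsk, List.length_cons, bsk_length q k]

variable {t : ℕ} {q : ℕ → α} {G H : Subgroup (Equiv.Perm α)} {s : ℕ → Equiv.Perm α}

theorem G_le_Gk (k : ℕ) : G ≤ Gk G s k :=
  fun _ hg => Subgroup.subset_closure (Or.inl hg)

theorem s_mem_Gk {i k : ℕ} (h1 : 2 ≤ i) (h2 : i + 1 ≤ k) : s i ∈ Gk G s k :=
  Subgroup.subset_closure (Or.inr ⟨i, h1, h2, rfl⟩)

theorem Gk_two : Gk G s 2 = G := by
  have e : {x | ∃ i : ℕ, 2 ≤ i ∧ i + 1 ≤ 2 ∧ x = s i} = (∅ : Set (Equiv.Perm α)) := by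
    ext x
    constructor
    · rintro ⟨i, h1, h2, _⟩
      omega
    · intro h
      exact False.elim h
  unfold Gk
  rw [e, Set.union_empty, Subgroup.closure_eq]

theorem Gk_succ (k : ℕ) (hk : 2 ≤ k) :
    Gk G s (k + 1) = Gk G s k ⊔ Subgroup.zpowers (s k) := by
  have e : {x | ∃ i : ℕ, 2 ≤ i ∧ i + 1 ≤ k + 1 ∧ x = s i}
      = {x | ∃ i : ℕ, 2 ≤ i ∧ i + 1 ≤ k ∧ x = s i} ∪ {s k} := by
    ext x
    constructor
    · rintro ⟨i, h1, h2, rfl⟩
      by_cases hik : i = k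
      · exact Or.inr (by rw [hik]; exact Set.mem_singleton _)
      · exact Or.inl ⟨i, h1, by omega, rfl⟩
    · rintro (⟨i, h1, h2, rfl⟩ | hx)
      · exact ⟨i, h1, by omega, rfl⟩
      · exact ⟨k, hk, le_refl _, hx⟩
  unfold Gk
  rw [e, ← Set.union_assoc, Subgroup.closure_union _ {s k}, Subgroup.zpowers_eq_closure]

theorem Gk_mono (k : ℕ) : Gk G s k ≤ Gk G s (k + 1) := by
  unfold Gk
  apply Subgroup.closure_mono
  rintro x (hx | ⟨i, h1, h2, rfl⟩)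
  · exact Or.inl hx
  · exact Or.inr ⟨i, h1, by omega, rfl⟩

theorem Lk_succ (k : ℕ) (hk : k + 1 ≤ t) :
    Lk t q k = insert (q (k + 1)) (Lk t q (k + 1)) := by
  ext p
  constructor
  · rintro ⟨j, h1, h2, rfl⟩
    by_cases hj : j = k + 1
    · rw [hj]; exact Set.mem_insert _ _
    · exact Set.mem_insert_of_mem _ ⟨j, by omega, h2, rfl⟩
  · intro h
    rcases Set.mem_insert_iff.mp h with h | ⟨j, h1, h2, h3⟩
    · exact ⟨k + 1, by omega, hk, h⟩
    · exact ⟨j, by omega, h2, h3⟩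

variable [Fintype α] [DecidableEq α] (W : Data t q G H s)
include W

theorem q_ne (i j : ℕ) (hi1 : 1 ≤ i) (hi : i ≤ t) (hj1 : 1 ≤ j) (hj : j ≤ t) (hij : i ≠ j) :
    q i ≠ q j := fun h => hij (W.hq i j hi1 hi hj1 hj h)

theorem H_le_G : H ≤ G := by
  rw [W.hH]; exact inf_le_of_left_le inf_le_left

theorem Gk_fix (k j : ℕ) (hk : 2 ≤ k) (hkj : k < j) (hj : j ≤ t) :
    ∀ g ∈ Gk G s k, g (q j) = q j := by
  intro g hg
  have hle : Gk G s k ≤ MulAction.stabilizer (Equiv.Perm α) (q j) := by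
    unfold Gk
    rw [Subgroup.closure_le]
    rintro g (hg | ⟨i, h1, h2, rfl⟩)
    · exact MulAction.mem_stabilizer_iff.mpr (W.hfix g hg j (by omega) hj)
    · exact MulAction.mem_stabilizer_iff.mpr
        ((W.hsq i h1 (by omega)).2.2 j (by omega) hj (by omega) (by omega))
  exact MulAction.mem_stabilizer_iff.mp (hle hg)

theorem ext_base : Helper9G.Ext (A2 G q) G (s 1) := by
  refine ⟨inf_le_left, W.hs1, ?_⟩
  intro g hg
  have ht := W.ht
  by_cases hg2 : g (q 2) = q 2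
  · exact Or.inl (Subgroup.mem_inf.mpr ⟨hg, MulAction.mem_stabilizer_iff.mpr hg2⟩)
  · refine Or.inr ?_
    have hc : ∀ i, 3 ≤ i → i ≤ t → g (q 2) ≠ q i := by
      intro i h3 hi h
      rw [← W.hfix g hg i h3 hi] at h
      have := W.hq 2 i (by omega) (by omega) (by omega) hi (g.injective h)
      omega
    obtain ⟨a₁, ha₁, e1, e2⟩ := W.h2 (q 2) (q 1) (q 2) (g (q 2)) (by
        intro i h3 hi
        refine ⟨?_, ?_, ?_, hc i h3 hi⟩
        · exact q_ne W 2 i (by omega) (by omega) (by omega) hi (by omega)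
        · exact q_ne W 1 i (by omega) (by omega) (by omega) hi (by omega)
        · exact q_ne W 2 i (by omega) (by omega) (by omega) hi (by omega))
      (q_ne W 2 1 (by omega) (by omega) (by omega) (by omega) (by omega))
      (fun h => hg2 h.symm)
    have hA1 : a₁ ∈ A2 G q :=
      Subgroup.mem_inf.mpr ⟨ha₁, MulAction.mem_stabilizer_iff.mpr e1⟩
    refine ⟨a₁, hA1, (s 1)⁻¹ * a₁⁻¹ * g, ?_, by group⟩
    refine Subgroup.mem_inf.mpr
      ⟨mul_mem (mul_mem (inv_mem W.hs1) (inv_mem ha₁)) hg, MulAction.mem_stabilizer_iff.mpr ?_⟩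
    show ((s 1)⁻¹ * a₁⁻¹ * g) (q 2) = q 2
    rw [Equiv.Perm.mul_apply, Equiv.Perm.mul_apply, ← e2, invApp, ← W.hs1q.2, invApp]

theorem norm_G (j : ℕ) (hj3 : 3 ≤ j) (hjt : j + 1 ≤ t) :
    ∀ g ∈ G, s j * g * (s j)⁻¹ ∈ G := by
  intro g hg
  have hHG : H ≤ G := H_le_G W
  have hA2G : A2 G q ≤ G := inf_le_left
  have hs1conj : s j * s 1 * (s j)⁻¹ ∈ G := by
    have e : s j * s 1 * (s j)⁻¹ = (s 1)⁻¹ * (s 1 * s j) ^ 2 * (s j ^ 2)⁻¹ := by
      simp only [pow_succ, pow_zero, one_mul]; group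
    rw [e]
    exact mul_mem (mul_mem (inv_mem W.hs1) (hHG (W.hcomm 1 j le_rfl (by omega) hjt).1))
      (inv_mem (hHG (W.hsq2 j (by omega) hjt)))
  rcases (ext_base W).2.2 g hg with ha | ⟨a₁, ha₁, a₂, ha₂, rfl⟩
  · exact hA2G (W.hnorm j (by omega) hjt g ha)
  · have e : s j * (a₁ * s 1 * a₂) * (s j)⁻¹
        = (s j * a₁ * (s j)⁻¹) * (s j * s 1 * (s j)⁻¹) * (s j * a₂ * (s j)⁻¹) := by group
    rw [e]
    exact mul_mem (mul_mem (hA2G (W.hnorm j (by omega) hjt a₁ ha₁)) hs1conj)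
      (hA2G (W.hnorm j (by omega) hjt a₂ ha₂))

theorem norm_Gk (m j : ℕ) (hm : 2 ≤ m) (hmj : m + 1 ≤ j) (hjt : j + 1 ≤ t) :
    ∀ a ∈ Gk G s m, s j * a * (s j)⁻¹ ∈ Gk G s m := by
  intro a ha
  have hHG : H ≤ G := H_le_G W
  refine conj_closure (s j) _ (Gk G s m) ?_ a ha
  rintro g (hg | ⟨i, h1, h2, rfl⟩)
  · exact G_le_Gk m (norm_G W j (by omega) hjt g hg)
  · have e : s j * s i * (s j)⁻¹ = (s i)⁻¹ * (s i * s j) ^ 2 * (s j ^ 2)⁻¹ := by
      simp only [pow_succ, pow_zero, one_mul]; group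
    rw [e]
    exact mul_mem (mul_mem (inv_mem (s_mem_Gk h1 h2))
      (G_le_Gk m (hHG (W.hcomm i j (by omega) (by omega) hjt).1)))
      (inv_mem (G_le_Gk m (hHG (W.hsq2 j (by omega) hjt))))

theorem H_le_Ak (m : ℕ) : H ≤ Ak G s q m := by
  cases m with
  | zero =>
    show H ≤ A2 G q
    rw [W.hH]
    exact le_inf (inf_le_of_left_le inf_le_left) inf_le_right
  | succ m =>
    show H ≤ Gk G s (m + 2)
    exact le_trans (H_le_G W) (G_le_Gk _)

theorem norm_Ak (m : ℕ) (hm : m + 3 ≤ t) :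
    ∀ a ∈ Ak G s q m, s (m + 2) * a * (s (m + 2))⁻¹ ∈ Ak G s q m := by
  cases m with
  | zero =>
    intro a ha
    exact W.hnorm 2 le_rfl (by omega) a ha
  | succ m =>
    intro a ha
    exact norm_Gk W (m + 2) (m + 1 + 2) (by omega) (by omega) (by omega) a ha

theorem ext_chain : ∀ m, m + 2 ≤ t → Helper9G.Ext (Ak G s q m) (Gk G s (m + 2)) (s (m + 1)) := by
  intro m
  induction m with
  | zero =>
    intro _
    show Helper9G.Ext (A2 G q) (Gk G s 2) (s 1)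
    rw [Gk_two]
    exact ext_base W
  | succ m ih =>
    intro hm
    have IH := ih (by omega)
    have hHG : H ≤ G := H_le_G W
    have hxx : s (m + 2) * s (m + 2) ∈ Ak G s q m := by
      rw [← pow_two]
      exact H_le_Ak W m (W.hsq2 (m + 2) (by omega) (by omega))
    have hb : (s (m + 1) * s (m + 2)) ^ 3 ∈ H := W.hbraid (m + 1) (by omega) (by omega)
    have hx2 : s (m + 2) ^ 2 ∈ H := W.hsq2 (m + 2) (by omega) (by omega)
    have hxyx : ∃ h₁ ∈ Gk G s (m + 2), ∃ h₂ ∈ Gk G s (m + 2),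
        s (m + 2) * s (m + 1) * s (m + 2) = h₁ * s (m + 2) * h₂ := by
      refine ⟨(s (m + 1))⁻¹ * (s (m + 1) * s (m + 2)) ^ 3, ?_,
        (s (m + 2) ^ 2)⁻¹ * (s (m + 1))⁻¹, ?_, by
          simp only [pow_succ, pow_zero, one_mul]; group⟩
      · exact mul_mem (inv_mem IH.2.1) (G_le_Gk _ (hHG hb))
      · exact mul_mem (inv_mem (G_le_Gk _ (hHG hx2))) (inv_mem IH.2.1)
    have step := ext_step' IH hxx (norm_Ak W m (by omega)) hxyx
    rw [← Gk_succ (m + 2) (by omega)] at step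
    exact step

theorem stab_chain (m : ℕ) (hm : m + 2 ≤ t) :
    ∀ g ∈ Gk G s (m + 2), g (q (m + 2)) = q (m + 2) → g ∈ Ak G s q m := by
  cases m with
  | zero =>
    intro g hg h2
    rw [Gk_two] at hg
    exact Subgroup.mem_inf.mpr ⟨hg, MulAction.mem_stabilizer_iff.mpr h2⟩
  | succ m =>
    have hE := ext_chain W (m + 1) hm
    refine stabOfExt (i := q (m + 1 + 2)) (a := q (m + 2)) hE ?_ ?_ ?_
    · exact Gk_fix W (m + 2) (m + 1 + 2) (by omega) (by omega) hm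
    · exact (W.hsq (m + 2) (by omega) (by omega)).2.1
    · exact q_ne W (m + 2) (m + 1 + 2) (by omega) (by omega) (by omega) hm (by omega)

theorem trans_chain : ∀ m, m + 2 ≤ t → TransS (Gk G s (m + 2)) (q (m + 2)) (Lk t q (m + 2)) := by
  intro m
  induction m with
  | zero =>
    intro hm
    rw [Gk_two]
    intro p hp
    by_cases hp2 : p = q 2
    · exact ⟨1, one_mem G, by rw [hp2]; rfl⟩
    · obtain ⟨g, hg, e1, _⟩ := W.h2 (q 2) (q 1) p (q 2) (by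
          intro i h3 hi
          refine ⟨?_, ?_, ?_, ?_⟩
          · exact q_ne W 2 i (by omega) (by omega) (by omega) hi (by omega)
          · exact q_ne W 1 i (by omega) (by omega) (by omega) hi (by omega)
          · exact fun h => hp ⟨i, by omega, hi, h⟩
          · exact q_ne W 2 i (by omega) (by omega) (by omega) hi (by omega))
        (q_ne W 2 1 (by omega) (by omega) (by omega) (by omega) (by omega)) hp2
      exact ⟨g, hg, e1⟩
  | succ m ih =>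
    intro hm
    have IH := ih (by omega)
    rw [Lk_succ (m + 2) (by omega)] at IH
    exact transStepS (Gk_mono (m + 2)) (s_mem_Gk (by omega) (le_refl _))
      (W.hsq (m + 2) (by omega) (by omega)).2.1 IH

theorem reach_chain : ∀ m, m + 2 ≤ t →
    ReachS (Gk G s (m + 2)) (Lk t q (m + 2)) (bsk q (m + 2)) := by
  intro m
  induction m with
  | zero =>
    intro hm
    rw [Gk_two]
    intro zs hnd hav hlen
    have hlen2 : zs.length = 2 := hlen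
    obtain ⟨z1, z2, rfl⟩ := List.length_eq_two.mp hlen2
    have hz12 : z1 ≠ z2 := by
      intro h
      rw [h] at hnd
      simp at hnd
    obtain ⟨g, hg, e1, e2⟩ := W.h2 (q 2) (q 1) z1 z2 (by
        intro i h3 hi
        refine ⟨?_, ?_, ?_, ?_⟩
        · exact q_ne W 2 i (by omega) (by omega) (by omega) hi (by omega)
        · exact q_ne W 1 i (by omega) (by omega) (by omega) hi (by omega)
        · exact fun h => hav z1 (by simp) ⟨i, by omega, hi, h⟩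
        · exact fun h => hav z2 (by simp) ⟨i, by omega, hi, h⟩)
      (q_ne W 2 1 (by omega) (by omega) (by omega) (by omega) (by omega)) hz12
    refine ⟨g, hg, ?_⟩
    show [g (q 2), g (q 1)] = [z1, z2]
    rw [e1, e2]
  | succ m ih =>
    intro hm
    have IH := ih (by omega)
    rw [Lk_succ (m + 2) (by omega)] at IH
    refine reachStepS (Gk_mono (m + 2)) (trans_chain W (m + 1) hm) ?_ ?_ IH
    · rintro k hk p ⟨j, h1, h2, rfl⟩
      exact Gk_fix W (m + 2 + 1) j (by omega) h1 h2 k hk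
    · exact Gk_fix W (m + 2) (m + 2 + 1) (by omega) (by omega) (by omega)

theorem desc : ∀ m, m + 2 ≤ t → ∀ g ∈ Gk G s (m + 2),
    (∀ i, 1 ≤ i → i ≤ m + 2 → g (q i) = q i) → g ∈ H := by
  intro m
  induction m with
  | zero =>
    intro _ g hg hfx
    rw [Gk_two] at hg
    rw [W.hH]
    exact Subgroup.mem_inf.mpr ⟨Subgroup.mem_inf.mpr
      ⟨hg, MulAction.mem_stabilizer_iff.mpr (hfx 1 le_rfl (by omega))⟩,
      MulAction.mem_stabilizer_iff.mpr (hfx 2 (by omega) le_rfl)⟩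
  | succ m ih =>
    intro hm g hg hfx
    have h1 : g ∈ Ak G s q (m + 1) := stab_chain W (m + 1) hm g hg (hfx (m + 1 + 2) (by omega) le_rfl)
    exact ih (by omega) g h1 (fun i hi1 hi2 => hfx i hi1 (by omega))

end chain

/-- Witt's Lemma for constructing transitive extensions. Points `q 1, …, q t` (`t ≥ 2`) of a finite set are given; `G` fixes `q i` for `i ≥ 3` and is doubly transitive on the remaining points; `s 1 ∈ G` swaps `q 1, q 2`; for `2 ≤ i ≤ t-1`, `s i` swaps `q i, q (i+1)` and fixes the other `q j`; with `H` the stabiliser of `q 1, q 2` in `G`: `s i ^ 2 ∈ H`, `(s i * s (i+1)) ^ 3 ∈ H`, `(s i * s j) ^ 2 ∈ H` for `j ≥ i + 2`, and `s i` (`i ≥ 2`) normalises the stabiliser of `q 2` in `G`. Then `G` and the `s i` generate a `t`-transitive group whose pointwise stabiliser of the `q`'s is `H`. -/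
theorem result {α : Type*} [Fintype α] [DecidableEq α] (t : ℕ) (ht : 2 ≤ t) (q : ℕ → α) (hq : ∀ i j : ℕ, 1 ≤ i → i ≤ t → 1 ≤ j → j ≤ t → q i = q j → i = j) (G : Subgroup (Equiv.Perm α)) (hfix : ∀ g ∈ G, ∀ i : ℕ, 3 ≤ i → i ≤ t → g (q i) = q i) (h2 : ∀ a b c d : α, (∀ i, 3 ≤ i → i ≤ t → a ≠ q i ∧ b ≠ q i ∧ c ≠ q i ∧ d ≠ q i) → a ≠ b → c ≠ d → ∃ g ∈ G, g a = c ∧ g b = d) (s : ℕ → Equiv.Perm α) (hs1 : s 1 ∈ G) (hs1q : s 1 (q 1) = q 2 ∧ s 1 (q 2) = q 1) (hsq : ∀ i : ℕ, 2 ≤ i → i + 1 ≤ t → s i (q i) = q (i + 1) ∧ s i (q (i + 1)) = q i ∧ ∀ j : ℕ, 1 ≤ j → j ≤ t → j ≠ i → j ≠ i + 1 → s i (q j) = q j) (H : Subgroup (Equiv.Perm α)) (hH : H = G ⊓ MulAction.stabilizer (Equiv.Perm α) (q 1) ⊓ MulAction.stabilizer (Equiv.Perm α) (q 2)) (hsq2 : ∀ i : ℕ, 1 ≤ i → i + 1 ≤ t → s i ^ 2 ∈ H) (hbraid : ∀ i : ℕ, 1 ≤ i → i + 2 ≤ t → (s i * s (i + 1)) ^ 3 ∈ H) (hcomm : ∀ i j : ℕ, 1 ≤ i → i + 2 ≤ j → j + 1 ≤ t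 → (s i * s j) ^ 2 ∈ H ∧ (s j * s i) ^ 2 ∈ H) (hnorm : ∀ i : ℕ, 2 ≤ i → i + 1 ≤ t → ∀ g ∈ G ⊓ MulAction.stabilizer (Equiv.Perm α) (q 2), s i * g * (s i)⁻¹ ∈ G ⊓ MulAction.stabilizer (Equiv.Perm α) (q 2)) : MulAction.IsMultiplyPretransitive ↥(Subgroup.closure ((G : Set (Equiv.Perm α)) ∪ {x | ∃ i : ℕ, 2 ≤ i ∧ i + 1 ≤ t ∧ x = s i})) α t ∧ Subgroup.closure ((G : Set (Equiv.Perm α)) ∪ {x | ∃ i : ℕ, 2 ≤ i ∧ i + 1 ≤ t ∧ x = s i}) ⊓ fixingSubgroup (Equiv.Perm α) {x | ∃ i : ℕ, 1 ≤ i ∧ i ≤ t ∧ x = q i} = H := by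
  have W : Data t q G H s :=
    ⟨ht, hq, hfix, h2, hs1, hs1q, hsq, hH, hsq2, hbraid, hcomm, hnorm⟩
  obtain ⟨m, rfl⟩ : ∃ m, t = m + 2 := ⟨t - 2, by omega⟩
  have hL : ∀ p, p ∉ Lk (m + 2) q (m + 2) := by
    rintro p ⟨j, h1, h2, _⟩
    omega
  refine ⟨?_, ?_⟩
  · exact pretrans_of_reach (bsk_length q (m + 2)) hL (reach_chain W m le_rfl)
  · show Gk G s (m + 2) ⊓ fixingSubgroup (Equiv.Perm α) {x | ∃ i : ℕ, 1 ≤ i ∧ i ≤ m + 2 ∧ x = q i} = H
    ext g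
    rw [Subgroup.mem_inf, mem_fixingSubgroup_iff]
    constructor
    · rintro ⟨hgK, hgfix⟩
      exact desc W m le_rfl g hgK (fun i h1 h2 => hgfix (q i) ⟨i, h1, h2, rfl⟩)
    · intro hgH
      refine ⟨G_le_Gk _ (H_le_G W hgH), ?_⟩
      rintro y ⟨i, h1, h2, rfl⟩
      have hgH' := hgH
      rw [W.hH] at hgH'
      obtain ⟨⟨hgG, hg1⟩, hg2⟩ := hgH'
      by_cases hi1 : i = 1
      · rw [hi1]; exact hg1
      · by_cases hi2 : i = 2
        · rw [hi2]; exact hg2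
        · exact W.hfix g hgG i (by omega) h2

end Cfsg.Agent.S0709
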