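import Cfsg.Statements.S0710
import Mathlib
import Cfsg.Agent.Lib.Helper1_PrimeDegree

set_option autoImplicit false
open Cfsg
open Cfsg.Agent.Lib

namespace Cfsg.Agent.S0710

/-- statement -/
theorem result {α : Type*} [Fintype α] [DecidableEq α] (hα : Fintype.card α = 13) (G : Subgroup (Equiv.Perm α)) [MulAction.IsPretransitive G α] : Nat.card G ≠ 13 * 12 * 11 * 10 * 9 * 8 := by
  intro hcard
  haveI : Fact (Nat.Prime 13) := ⟨by norm_num⟩
  have hcard' : Nat.card G = 13 * 95040 := by rw [hcard]
  obtain P : Sylow 13 G := default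
  have hP : Nat.card P = 13 :=
    Helper1_Simple.sylow_card_eq_prime 13 95040 hcard' (by norm_num) P
  obtain ⟨e, he, hN⟩ := Helper1_Simple.card_normalizer_sylow_prime 13 P hP
  have hC := Helper1_PrimeDegree.card_centralizer_sylow_prime_degree G 13 hα P hP
  rw [hC] at hN
  have hidx := Helper1_Simple.index_normalizer_sylow_mod 13 P
  have hmul := Subgroup.card_mul_index (Subgroup.normalizer ((P : Subgroup G) : Set G))
  rw [hN, hcard'] at hmul
  have he12 : e ∣ 12 := he
  have hepos : 0 < e := Nat.pos_of_dvd_of_pos he12 (by norm_num)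
  have hele : e ≤ 12 := Nat.le_of_dvd (by norm_num) he12
  set i := (Subgroup.normalizer ((P : Subgroup G) : Set G)).index with hi
  have h1 : e * i = 95040 := by
    have : 13 * (e * i) = 13 * 95040 := by rw [← hmul]; ring
    omega
  interval_cases e <;> omega

end Cfsg.Agent.S0710
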