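import Cfsg.Statements.S0711
import Mathlib

set_option autoImplicit false
open Cfsg

namespace Cfsg.Agent.S0711

section aux
variable {α : Type*} [Fintype α] [DecidableEq α]

theorem app_inv (f : Equiv.Perm α) (x : α) : f (f⁻¹ x) = x := f.apply_symm_apply x
theorem inv_app (f : Equiv.Perm α) (x : α) : f⁻¹ (f x) = x := f.symm_apply_apply x
theorem comm_app (g t : Equiv.Perm α) (x : α) :
    (g⁻¹ * t * g * t⁻¹) x = g⁻¹ (t (g (t⁻¹ x))) := rfl

theorem exists_agree (G : Subgroup (Equiv.Perm α)) {k : ℕ}
    (hkn : k ≤ Fintype.card α) (hG : MulAction.IsMultiplyPretransitive G α k)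
    (A : Finset α) (hA : A.card ≤ k) (σ : Equiv.Perm α) :
    ∃ t ∈ G, ∀ a ∈ A, t a = σ a := by
  obtain ⟨B, hAB, hB⟩ := Finset.exists_superset_card_eq hA hkn
  let e : B ≃ Fin k := Finset.equivFinOfCardEq hB
  let x : Fin k ↪ α := e.symm.toEmbedding.trans (Function.Embedding.subtype _)
  obtain ⟨t, ht⟩ := MulAction.exists_smul_eq G x (σ • x)
  refine ⟨t, t.2, fun a ha => ?_⟩
  have h1 := congrArg (fun f => f (e ⟨a, hAB ha⟩)) ht
  simpa [x, Function.Embedding.smul_apply, Subgroup.smul_def] using h1

theorem exists_fix_move (G : Subgroup (Equiv.Perm α)) {k : ℕ}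
    (hkn : k ≤ Fintype.card α) (hG : MulAction.IsMultiplyPretransitive G α k)
    (T : Finset α) (u v : α) (hu : u ∉ T) (hv : v ∉ T) (hT : T.card + 1 ≤ k) :
    ∃ t ∈ G, (∀ x ∈ T, t x = x) ∧ t u = v := by
  obtain ⟨t, htG, ht⟩ := exists_agree G hkn hG (insert u T)
    (by rw [Finset.card_insert_of_notMem hu]; exact hT) (Equiv.swap u v)
  refine ⟨t, htG, fun x hx => ?_, ?_⟩
  · rw [ht x (Finset.mem_insert_of_mem hx)]
    exact Equiv.swap_apply_of_ne_of_ne (by rintro rfl; exact hu hx) (by rintro rfl; exact hv hx)
  · rw [ht u (Finset.mem_insert_self _ _)]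
    exact Equiv.swap_apply_left _ _

theorem card_support_comm_le (g t : Equiv.Perm α) (T T₀ E : Finset α)
    (hTS : T ⊆ g.support) (htT : ∀ x ∈ T, t x = x) (hT₀ : T₀ ⊆ T) (hT₀g : ∀ x ∈ T₀, g x ∈ T)
    (hE : E ⊆ g.support \ T) (hEt : ∀ y ∈ E, t y ∈ g.support) :
    (g⁻¹ * t * g * t⁻¹).support.card + T₀.card + E.card
      ≤ g.support.card + (g.support \ T).card := by
  have hsub : (g⁻¹ * t * g * t⁻¹).support ⊆
      (g.support \ T₀) ∪ ((g.support \ T) \ E).image t := by
    intro x hx
    rw [Equiv.Perm.mem_support] at hx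
    simp only [Finset.mem_union, Finset.mem_sdiff, Finset.mem_image]
    by_cases hxS : x ∈ g.support
    · left
      refine ⟨hxS, fun hx0 => hx ?_⟩
      have h1 : t x = x := htT x (hT₀ hx0)
      have h2 : t⁻¹ x = x := by rw [Equiv.Perm.inv_eq_iff_eq]; exact h1.symm
      have h3 : t (g x) = g x := htT _ (hT₀g x hx0)
      rw [comm_app, h2, h3, inv_app]
    · right
      refine ⟨t⁻¹ x, ⟨⟨?_, ?_⟩, ?_⟩, by simp⟩
      · by_contra hn
        rw [Equiv.Perm.notMem_support] at hn hxS
        apply hx
        have h4 : g⁻¹ x = x := by rw [Equiv.Perm.inv_eq_iff_eq]; exact hxS.symm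
        rw [comm_app, hn, app_inv, h4]
      · intro hT
        have h5 := htT _ hT
        rw [app_inv] at h5
        rw [← h5] at hT
        exact hxS (hTS hT)
      · intro hE'
        have h6 := hEt _ hE'
        rw [app_inv] at h6
        exact hxS h6
  have h1 := Finset.card_le_card hsub
  have h2 := Finset.card_union_le (g.support \ T₀) (((g.support \ T) \ E).image t)
  have h3 : (((g.support \ T) \ E).image t).card ≤ ((g.support \ T) \ E).card :=
    Finset.card_image_le
  have h4 := Finset.card_sdiff_add_card_eq_card (hT₀.trans hTS)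
  have h5 := Finset.card_sdiff_add_card_eq_card hE
  omega

theorem exists_chain (g : Equiv.Perm α) (j : ℕ) (hj : j ≤ g.support.card) :
    ∃ T ⊆ g.support, T.card = j ∧ (T.filter (fun x => g x ∉ T)).card ≤ 1 := by
  induction j with
  | zero => exact ⟨∅, Finset.empty_subset _, rfl, by simp⟩
  | succ j ih =>
    obtain ⟨T, hTS, hTc, hTb⟩ := ih (by omega)
    by_cases hb : (T.filter (fun x => g x ∉ T)) = ∅
    · obtain ⟨s, hsS, hsT⟩ := Finset.exists_mem_notMem_of_card_lt_card (s := T) (t := g.support)
        (by omega)
      refine ⟨insert s T, ?_, ?_, ?_⟩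
      · intro y hy
        rcases Finset.mem_insert.mp hy with rfl | hy
        · exact hsS
        · exact hTS hy
      · rw [Finset.card_insert_of_notMem hsT, hTc]
      · refine (Finset.card_le_card (t := {s}) ?_).trans (by simp)
        intro y hy
        rw [Finset.mem_filter] at hy
        rw [Finset.mem_singleton]
        rcases Finset.mem_insert.mp hy.1 with rfl | hyT
        · rfl
        · exfalso
          have : y ∈ T.filter (fun x => g x ∉ T) := by
            rw [Finset.mem_filter]
            exact ⟨hyT, fun h => hy.2 (Finset.mem_insert_of_mem h)⟩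
          rw [hb] at this
          exact absurd this (Finset.notMem_empty _)
    · obtain ⟨x, hx⟩ := Finset.nonempty_iff_ne_empty.mpr hb
      have hx' := Finset.mem_filter.mp hx
      have huniq : ∀ y ∈ T.filter (fun x => g x ∉ T), y = x := fun y hy =>
        Finset.card_le_one.mp hTb y hy x hx
      refine ⟨insert (g x) T, ?_, ?_, ?_⟩
      · intro y hy
        rcases Finset.mem_insert.mp hy with rfl | hy
        · exact Equiv.Perm.apply_mem_support.mpr (hTS hx'.1)
        · exact hTS hy
      · rw [Finset.card_insert_of_notMem hx'.2, hTc]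
      · refine (Finset.card_le_card (t := {g x}) ?_).trans (by simp)
        intro y hy
        rw [Finset.mem_filter] at hy
        rw [Finset.mem_singleton]
        rcases Finset.mem_insert.mp hy.1 with rfl | hyT
        · rfl
        · exfalso
          have hyb : y ∈ T.filter (fun x => g x ∉ T) := by
            rw [Finset.mem_filter]
            exact ⟨hyT, fun h => hy.2 (Finset.mem_insert_of_mem h)⟩
          have := huniq y hyb
          subst this
          exact hy.2 (Finset.mem_insert_self _ _)

theorem exists_notMem_of_card_lt (s : Finset α) (h : s.card < Fintype.card α) : ∃ a, a ∉ s := by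
  by_contra hc
  push Not at hc
  have : s = Finset.univ := Finset.eq_univ_iff_forall.mpr hc
  rw [this, Finset.card_univ] at h
  exact lt_irrefl _ h

theorem comm_mem (G : Subgroup (Equiv.Perm α)) {g t : Equiv.Perm α} (hg : g ∈ G) (ht : t ∈ G) :
    g⁻¹ * t * g * t⁻¹ ∈ G :=
  G.mul_mem (G.mul_mem (G.mul_mem (G.inv_mem hg) ht) hg) (G.inv_mem ht)

theorem step (G : Subgroup (Equiv.Perm α)) {k : ℕ}
    (hkn : k ≤ Fintype.card α) (hG : MulAction.IsMultiplyPretransitive G α k)
    (g : Equiv.Perm α) (hg : g ∈ G) (h4 : 4 ≤ g.support.card)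
    (hm : g.support.card + 3 ≤ 2 * k) :
    ∃ c ∈ G, c ≠ 1 ∧ c.support.card < g.support.card := by
  wlog hkm : k ≤ g.support.card generalizing k
  · have hmn : g.support.card ≤ Fintype.card α := Finset.card_le_univ _
    have hG' : MulAction.IsMultiplyPretransitive G α g.support.card :=
      @MulAction.isMultiplyPretransitive_of_le G α _ _ g.support.card k hG (by omega)
        (by rw [Nat.card_eq_fintype_card]; exact hkn) _
    exact this hmn hG' (by omega) le_rfl
  have hk4 : 4 ≤ k := by omega
  by_cases hS : g.support = Finset.univ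
  · -- Case I
    have hmn : g.support.card = Fintype.card α := by rw [hS, Finset.card_univ]
    by_cases hkn' : k = Fintype.card α
    · obtain ⟨a, ha⟩ : ∃ a, a ∈ g.support := Finset.card_pos.mp (by omega)
      have hab : g a ≠ a := Equiv.Perm.mem_support.mp ha
      obtain ⟨t, htG, ht⟩ := exists_agree G hkn hG Finset.univ
        (by rw [Finset.card_univ, hkn']) (Equiv.swap a (g a))
      have hts : t = Equiv.swap a (g a) := Equiv.ext fun x => ht x (Finset.mem_univ x)
      rw [hts] at htG
      refine ⟨_, htG, ?_, ?_⟩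
      · intro h1
        have h2 := congrArg (fun f => f a) h1
        simp only [Equiv.swap_apply_left, Equiv.Perm.one_apply] at h2
        exact hab h2
      · rw [Equiv.Perm.card_support_swap hab.symm]; omega
    · have hn5 : 5 ≤ Fintype.card α := by omega
      obtain ⟨x, hxS⟩ : ∃ a, a ∈ g.support := Finset.card_pos.mp (by omega)
      obtain ⟨z, hz⟩ := exists_notMem_of_card_lt ({x, g⁻¹ x} : Finset α) (by
        have := Finset.card_le_two (a := x) (b := g⁻¹ x); omega)
      have hzx : z ≠ x := fun h => hz (by simp [h])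
      have hzx' : z ≠ g⁻¹ x := fun h => hz (by simp [h])
      set F : Finset α := {x, g x, z} with hF
      have hFc : F.card ≤ 3 := Finset.card_le_three
      have hzS : g z ≠ z := by
        have : z ∈ g.support := by rw [hS]; exact Finset.mem_univ _
        exact Equiv.Perm.mem_support.mp this
      have hpF : g z ∉ F := by
        simp only [hF, Finset.mem_insert, Finset.mem_singleton, not_or]
        refine ⟨?_, ?_, hzS⟩
        · intro h; apply hzx'; rw [← h, inv_app]
        · intro h; exact hzx (g.injective h)
      obtain ⟨v, hv⟩ := exists_notMem_of_card_lt (insert (g z) F) (by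
        have := Finset.card_insert_le (g z) F; omega)
      have hvF : v ∉ F := fun h => hv (Finset.mem_insert_of_mem h)
      have hvp : v ≠ g z := fun h => hv (h ▸ Finset.mem_insert_self _ _)
      obtain ⟨t, htG, htF, htp⟩ := exists_fix_move G hkn hG F (g z) v hpF hvF (by omega)
      refine ⟨g⁻¹ * t * g * t⁻¹, comm_mem G hg htG, ?_, ?_⟩
      · intro h1
        have h2 := congrArg (fun f => f z) h1
        simp only [Equiv.Perm.one_apply] at h2
        have htz : t⁻¹ z = z := by
          rw [Equiv.Perm.inv_eq_iff_eq]; exact (htF z (by simp [hF])).symm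
        rw [comm_app, htz, htp, Equiv.Perm.inv_eq_iff_eq] at h2
        exact hvp h2
      · have hFS : F ⊆ g.support := by rw [hS]; exact Finset.subset_univ _
        have := card_support_comm_le g t F {x} (g.support \ F) hFS htF (by simp [hF])
          (by simp [hF]) (subset_refl _) (fun y _ => by rw [hS]; exact Finset.mem_univ _)
        rw [Finset.card_singleton] at this
        omega
  · -- Case II
    obtain ⟨v₀, hv₀⟩ : ∃ v, v ∉ g.support := by
      by_contra hc
      push Not at hc
      exact hS (Finset.eq_univ_iff_forall.mpr hc)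
    obtain ⟨T, hTS, hTc, hTb⟩ := exists_chain g (k - 1) (by omega)
    have hv₀T : v₀ ∉ T := fun h => hv₀ (hTS h)
    have hcard := Finset.card_filter_add_card_filter_not (s := T) (fun x => g x ∈ T)
    have hsd := Finset.card_sdiff_add_card_eq_card hTS
    have hT₀T : T.filter (fun x => g x ∈ T) ⊆ T := Finset.filter_subset _ _
    have hT₀g : ∀ x ∈ T.filter (fun x => g x ∈ T), g x ∈ T :=
      fun x hx => (Finset.mem_filter.mp hx).2
    by_cases hb : (T.filter (fun x => g x ∉ T)) = ∅
    · -- Case B
      obtain ⟨u, huS, huT⟩ := Finset.exists_mem_notMem_of_card_lt_card (s := T) (t := g.support)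
        (by omega)
      obtain ⟨t, htG, htT, htu⟩ := exists_fix_move G hkn hG T u v₀ huT hv₀T (by omega)
      refine ⟨g⁻¹ * t * g * t⁻¹, comm_mem G hg htG, ?_, ?_⟩
      · intro h1
        have h2 := congrArg (fun f => f v₀) h1
        simp only [Equiv.Perm.one_apply] at h2
        have htv : t⁻¹ v₀ = u := by rw [Equiv.Perm.inv_eq_iff_eq]; exact htu.symm
        rw [comm_app, htv, Equiv.Perm.inv_eq_iff_eq, Equiv.Perm.notMem_support.mp hv₀] at h2
        have : g u = u := t.injective (h2.trans htu.symm)
        exact Equiv.Perm.mem_support.mp huS this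
      · have := card_support_comm_le g t T _ ∅ hTS htT hT₀T hT₀g (Finset.empty_subset _)
          (by simp)
        rw [hb] at hcard
        simp only [Finset.card_empty] at this hcard
        omega
    · -- Case A
      obtain ⟨x, hx⟩ := Finset.nonempty_iff_ne_empty.mpr hb
      have hx' := Finset.mem_filter.mp hx
      have hxT := hx'.1
      have huT : g x ∉ T := hx'.2
      have huS : g x ∈ g.support := Equiv.Perm.apply_mem_support.mpr (hTS hxT)
      have fin : ∀ v, v ∉ T → v ≠ g x → (v ∈ g.support ∨ (g.support \ T).card ≤ 1) →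
          ∃ c ∈ G, c ≠ 1 ∧ c.support.card < g.support.card := by
        intro v hvT hvu hvS
        obtain ⟨t, htG, htT, htu⟩ := exists_fix_move G hkn hG T (g x) v huT hvT (by omega)
        refine ⟨g⁻¹ * t * g * t⁻¹, comm_mem G hg htG, ?_, ?_⟩
        · intro h1
          have h2 := congrArg (fun f => f x) h1
          simp only [Equiv.Perm.one_apply] at h2
          have htx : t⁻¹ x = x := by
            rw [Equiv.Perm.inv_eq_iff_eq]; exact (htT x hxT).symm
          rw [comm_app, htx, htu, Equiv.Perm.inv_eq_iff_eq] at h2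
          exact hvu h2
        · rcases hvS with hvS | hvS
          · have := card_support_comm_le g t T _ {g x} hTS htT hT₀T hT₀g
              (by simp [huS, huT])
              (fun y hy => by rw [Finset.mem_singleton.mp hy, htu]; exact hvS)
            rw [Finset.card_singleton] at this
            omega
          · have := card_support_comm_le g t T _ ∅ hTS htT hT₀T hT₀g (Finset.empty_subset _)
              (by simp)
            simp only [Finset.card_empty] at this
            omega
      by_cases hex : ∃ v ∈ g.support \ T, v ≠ g x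
      · obtain ⟨v, hv, hvu⟩ := hex
        rw [Finset.mem_sdiff] at hv
        exact fin v hv.2 hvu (Or.inl hv.1)
      · push Not at hex
        refine fin v₀ hv₀T (fun h => hv₀ (h ▸ huS)) (Or.inr ?_)
        exact Finset.card_le_one.mpr (fun a ha b hb => (hex a ha).trans (hex b hb).symm)

theorem exists_small (G : Subgroup (Equiv.Perm α)) {k : ℕ}
    (hkn : k ≤ Fintype.card α) (hG : MulAction.IsMultiplyPretransitive G α k) :
    ∀ n, ∀ g ∈ G, g ≠ 1 → g.support.card = n → n + 3 ≤ 2 * k →
      ∃ h ∈ G, h ≠ 1 ∧ h.support.card ≤ 3 := by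
  intro n
  induction n using Nat.strong_induction_on with
  | _ n ih =>
    intro g hg hg1 hn hnk
    by_cases h3 : n ≤ 3
    · exact ⟨g, hg, hg1, hn ▸ h3⟩
    · obtain ⟨c, hcG, hc1, hcs⟩ := step G hkn hG g hg (by omega) (by omega)
      exact ih c.support.card (by omega) c hcG hc1 rfl (by omega)

end aux
/-- A `k`-transitive permutation group (`k ≥ 3`) with a non-identity element of support smaller than `2k - 2` contains a non-identity element of support at most 3, and therefore contains the alternating group. -/
theorem result {α : Type*} [Fintype α] [DecidableEq α] (G : Subgroup (Equiv.Perm α)) {k : ℕ} (hk : 3 ≤ k) (hkn : k ≤ Fintype.card α) (hG : MulAction.IsMultiplyPretransitive G α k) (g : Equiv.Perm α) (hg : g ∈ G) (hg1 : g ≠ 1) (hsupp : g.support.card < 2 * k - 2) : (∃ h : Equiv.Perm α, h ∈ G ∧ h ≠ 1 ∧ h.support.card ≤ 3) ∧ alternatingGroup α ≤ G := by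
  have hex : ∃ h : Equiv.Perm α, h ∈ G ∧ h ≠ 1 ∧ h.support.card ≤ 3 := by
    obtain ⟨h, h1, h2, h3⟩ := exists_small G hkn hG _ g hg hg1 rfl (by omega)
    exact ⟨h, h1, h2, h3⟩
  refine ⟨hex, ?_⟩
  obtain ⟨h, hhG, hh1, hh3⟩ := hex
  have h2t : MulAction.IsMultiplyPretransitive G α 2 :=
    @MulAction.isMultiplyPretransitive_of_le G α _ _ 2 k hG (by omega)
      (by rw [Nat.card_eq_fintype_card]; exact hkn) _
  have hprim : MulAction.IsPreprimitive G α :=
    MulAction.isPreprimitive_of_is_two_pretransitive h2t
  have h0 : h.support.card ≠ 0 := fun h0 => hh1 (Equiv.Perm.card_support_eq_zero.mp h0)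
  have h1' := Equiv.Perm.card_support_ne_one h
  have hcases : h.support.card = 2 ∨ h.support.card = 3 := by omega
  rcases hcases with h2 | h3
  · have htop := Equiv.Perm.subgroup_eq_top_of_isPreprimitive_of_isSwap_mem hprim h
      (Equiv.Perm.card_support_eq_two.mp h2) hhG
    rw [htop]; exact le_top
  · exact Equiv.Perm.alternatingGroup_le_of_isPreprimitive_of_isThreeCycle_mem hprim
      (card_support_eq_three_iff.mp h3) hhG

end Cfsg.Agent.S0711
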