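import Mathlib
import Cfsg.Statements.S0713

set_option autoImplicit false
open Cfsg

namespace Cfsg.Agent.S0713

open Equiv Equiv.Perm MulAction

/-- Sylow conjugacy for elements of order `p` when `p ^ 2` does not divide the group order. -/
theorem conj_mem_zpowers {F : Type*} [Group F] [Finite F] {p : ℕ} (hp : p.Prime)
    (hF : ¬ p ^ 2 ∣ Nat.card F) (x y : F) (hx : orderOf x = p) (hy : orderOf y = p) :
    ∃ z : F, z * y * z⁻¹ ∈ Subgroup.zpowers x := by
  have := Fact.mk hp
  have hdvd : p ∣ Nat.card F := hx ▸ orderOf_dvd_natCard x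
  have hfac : (Nat.card F).factorization p = 1 := by
    have hpos : Nat.card F ≠ 0 := Nat.card_pos.ne'
    have h1 : 1 ≤ (Nat.card F).factorization p :=
      (hp.dvd_iff_one_le_factorization hpos).mp hdvd
    have h2 : ¬ 2 ≤ (Nat.card F).factorization p := by
      intro h
      exact hF ((hp.pow_dvd_iff_le_factorization hpos).mpr h)
    omega
  let P : Sylow p F := Sylow.ofCard (Subgroup.zpowers x) (by
    rw [Nat.card_zpowers, hx, hfac, pow_one])
  let Q : Sylow p F := Sylow.ofCard (Subgroup.zpowers y) (by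
    rw [Nat.card_zpowers, hy, hfac, pow_one])
  obtain ⟨z, hz⟩ := MulAction.exists_smul_eq F Q P
  refine ⟨z, ?_⟩
  have hyQ : y ∈ (Q : Subgroup F) := Subgroup.mem_zpowers y
  have : z * y * z⁻¹ ∈ ((z • Q : Sylow p F) : Subgroup F) := by
    rw [Sylow.coe_subgroup_smul]
    exact ⟨y, hyQ, rfl⟩
  rw [hz] at this
  exact this


section main

variable {α : Type*} [Fintype α] [DecidableEq α]

/-- a permutation fixing `S` pointwise preserves the complement -/
theorem preserves_compl {S : Finset α} {σ : Perm α} (hσ : ∀ x ∈ S, σ x = x) (d : α) (hd : d ∉ S) :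
    σ d ∉ S := by
  intro h
  have := hσ _ h
  rw [σ.injective.eq_iff] at this
  exact hd (this ▸ h)

theorem inv_fix {S : Finset α} {σ : Perm α} (hσ : ∀ x ∈ S, σ x = x) : ∀ x ∈ S, σ⁻¹ x = x := by
  intro x hx
  rw [Perm.inv_eq_iff_eq]
  exact (hσ x hx).symm

/-- if `h` agrees with `σ` on the complement of `S`, where `σ` fixes `S` pointwise,
then `h` preserves `S`. -/
theorem agree_preserves {S : Finset α} {σ h : Perm α} (hσ : ∀ x ∈ S, σ x = x)
    (hh : ∀ d, d ∉ S → h d = σ d) (x : α) : h x ∈ S ↔ x ∈ S := by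
  constructor
  · intro hx
    by_contra hxS
    rw [hh x hxS] at hx
    exact preserves_compl hσ x hxS hx
  · intro hx
    by_contra hxS
    -- h x ∉ S, so h x = σ (σ⁻¹ (h x)) = h (σ⁻¹ (h x))
    have h1 : σ⁻¹ (h x) ∉ S := preserves_compl (inv_fix hσ) _ hxS
    have h2 : h (σ⁻¹ (h x)) = h x := by
      rw [hh _ h1]; simp
    have h3 := h.injective h2
    rw [← h3] at hx
    exact h1 hx

theorem agree_inv {S : Finset α} {σ h : Perm α} (hσ : ∀ x ∈ S, σ x = x)
    (hh : ∀ d, d ∉ S → h d = σ d) : ∀ d, d ∉ S → h⁻¹ d = σ⁻¹ d := by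
  intro d hd
  rw [Perm.inv_eq_iff_eq]
  have h1 : σ⁻¹ d ∉ S := preserves_compl (inv_fix hσ) _ hd
  rw [hh _ h1]; simp

theorem agree_mul {S : Finset α} {σ τ h k : Perm α} (hτ : ∀ x ∈ S, τ x = x)
    (hh : ∀ d, d ∉ S → h d = σ d) (hk : ∀ d, d ∉ S → k d = τ d) :
    ∀ d, d ∉ S → (h * k) d = (σ * τ) d := by
  intro d hd
  rw [Perm.mul_apply, Perm.mul_apply, hk d hd, hh _ (preserves_compl hτ d hd)]


/-- the subgroup of `G` fixing the complement of `S` pointwise -/
def fixC (G : Subgroup (Perm α)) (S : Finset α) : Subgroup (Perm α) where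
  carrier := {f | f ∈ G ∧ ∀ d, d ∉ S → f d = d}
  mul_mem' := by
    rintro a b ⟨ha, ha'⟩ ⟨hb, hb'⟩
    refine ⟨G.mul_mem ha hb, fun d hd => ?_⟩
    rw [Perm.mul_apply, hb' d hd, ha' d hd]
  one_mem' := ⟨G.one_mem, fun _ _ => rfl⟩
  inv_mem' := by
    rintro a ⟨ha, ha'⟩
    refine ⟨G.inv_mem ha, fun d hd => ?_⟩
    rw [Perm.inv_eq_iff_eq, ha' d hd]

theorem mem_fixC {G : Subgroup (Perm α)} {S : Finset α} {f : Perm α} :
    f ∈ fixC G S ↔ f ∈ G ∧ ∀ d, d ∉ S → f d = d := Iff.rfl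

theorem card_fixC_dvd (G : Subgroup (Perm α)) (S : Finset α) :
    Nat.card (fixC G S) ∣ S.card.factorial := by
  have hle : fixC G S ≤ (ofSubtype : Perm {x // x ∈ S} →* Perm α).range := by
    intro f hf
    have h1 : ∀ x, f x ∈ S ↔ x ∈ S :=
      agree_preserves (σ := 1) (fun _ _ => rfl) (fun d hd => by simpa using hf.2 d hd)
    exact ⟨subtypePerm f h1, ofSubtype_subtypePerm h1
      (fun x hx => by by_contra h; exact hx (hf.2 x h))⟩
  have := Subgroup.card_dvd_of_le hle
  rw [Nat.card_congr (MonoidHom.ofInjective ofSubtype_injective).toEquiv.symm, Nat.card_perm] at this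
  have h2 : Nat.card {x // x ∈ S} = S.card := by
    rw [Nat.card_eq_fintype_card, Fintype.card_coe]
  rwa [h2] at this

theorem not_sq_dvd_factorial {p : ℕ} (hp : p.Prime) : ¬ p ^ 2 ∣ p.factorial := by
  intro h
  obtain ⟨m, hm⟩ : ∃ m, p = m + 1 := ⟨p - 1, by have := hp.pos; omega⟩
  rw [hm, Nat.factorial_succ, pow_two, ← hm] at h
  have h2 : p ∣ m.factorial := Nat.dvd_of_mul_dvd_mul_left hp.pos h
  have := (hp.dvd_factorial).mp h2
  omega

theorem witt (G : Subgroup (Perm α)) {g : Perm α} (hgc : g.IsCycle) (hg : g ∈ G) {p : ℕ}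
    (hp : p.Prime) (hgp : g.support.card = p) {k : ℕ} (hk : Fintype.card α = p + k)
    [IsMultiplyPretransitive G α k] (σ : Perm α) (hσ : ∀ x ∈ g.support, σ x = x) :
    ∃ h ∈ G, (∀ d, d ∉ g.support → h d = σ d) ∧ ∃ i : ℤ, h * g * h⁻¹ = g ^ i := by
  have hcard : Fintype.card {x // x ∉ g.support} = k := by
    rw [Fintype.card_subtype_compl, Fintype.card_coe, hgp, hk]; omega
  let e : Fin k ≃ {x // x ∉ g.support} := (Fintype.equivFinOfCardEq hcard).symm
  let x : Fin k ↪ α := e.toEmbedding.trans (Function.Embedding.subtype _)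
  let y : Fin k ↪ α := x.trans σ.toEmbedding
  obtain ⟨h, hh⟩ := exists_smul_eq G x y
  have hagree : ∀ d, d ∉ g.support → (h : Perm α) d = σ d := by
    intro d hd
    have h1 := DFunLike.congr_fun hh (e.symm ⟨d, hd⟩)
    have h2 : x (e.symm ⟨d, hd⟩) = d := by simp [x]
    rw [Function.Embedding.smul_apply, h2] at h1
    have h3 : h • d = (h : Perm α) d := rfl
    rw [← h3, h1]
    simp [y, x]
  have hpres := agree_preserves hσ hagree
  -- conjugate
  set g' : Perm α := (h : Perm α) * g * (h : Perm α)⁻¹ with hg'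
  have hg'F : g' ∈ fixC G g.support := by
    refine ⟨G.mul_mem (G.mul_mem h.2 hg) (G.inv_mem h.2), fun d hd => ?_⟩
    have h1 : (h : Perm α)⁻¹ d ∉ g.support := by
      rw [agree_inv hσ hagree d hd]
      exact preserves_compl (inv_fix hσ) d hd
    rw [hg', Perm.mul_apply, Perm.mul_apply, Perm.notMem_support.mp h1]
    simp
  have hgF : g ∈ fixC G g.support := ⟨hg, fun d hd => Perm.notMem_support.mp hd⟩
  have hog : orderOf g = p := by rw [hgc.orderOf, hgp]
  have hog' : orderOf g' = p := by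
    rw [← hog]
    exact (MulAut.conj (h : Perm α)).orderOf_eq g
  have hF : ¬ p ^ 2 ∣ Nat.card (fixC G g.support) := by
    intro hdv
    have := card_fixC_dvd G g.support
    rw [hgp] at this
    exact not_sq_dvd_factorial hp (hdv.trans this)
  obtain ⟨z, hz⟩ := conj_mem_zpowers hp hF (⟨g, hgF⟩ : fixC G g.support) ⟨g', hg'F⟩
    (by rw [Subgroup.orderOf_mk, hog]) (by rw [Subgroup.orderOf_mk, hog'])
  obtain ⟨i, hi⟩ := Subgroup.mem_zpowers_iff.mp hz
  have hi' : g ^ i = (z : Perm α) * g' * (z : Perm α)⁻¹ := by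
    have := congrArg (fun t : fixC G g.support => (t : Perm α)) hi
    simpa using this
  refine ⟨(z : Perm α) * (h : Perm α), G.mul_mem z.2.1 h.2, ?_, i, ?_⟩
  · intro d hd
    rw [Perm.mul_apply, hagree d hd]
    exact z.2.2 _ (preserves_compl hσ d hd)
  · rw [hi', hg']
    group

end main


/-- Jordan's Theorem: a primitive permutation group of degree `n ≥ 5` containing a `p`-cycle for a prime `p ≤ n - 3` contains the alternating group. -/
theorem result {α : Type*} [Fintype α] [DecidableEq α] (G : Subgroup (Equiv.Perm α)) (hG : MulAction.IsPreprimitive G α) {p : ℕ} (hp : p.Prime) (hn : 5 ≤ Fintype.card α) (hpn : p + 3 ≤ Fintype.card α) {g : Equiv.Perm α} (hgc : g.IsCycle) (hgp : g.support.card = p) (hg : g ∈ G) : alternatingGroup α ≤ G := by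
  classical
  obtain ⟨m, hm⟩ : ∃ m, Fintype.card α = p + (m + 3) := ⟨Fintype.card α - (p + 3), by omega⟩
  have hsc : Set.ncard ((g.support : Set α)ᶜ) = (m + 2) + 1 := by
    apply Nat.add_left_cancel (n := p)
    rw [← hgp, ← Set.ncard_coe_finset g.support, Set.ncard_add_ncard_compl,
      Nat.card_eq_fintype_card, hm, Set.ncard_coe_finset, hgp]
  have hprim : IsPreprimitive (fixingSubgroup G ((g.support : Set α)ᶜ))
      (SubMulAction.ofFixingSubgroup G ((g.support : Set α)ᶜ)) := by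
    have := isPretransitive_of_isCycle_mem hgc hg
    apply IsPreprimitive.of_prime_card
    convert hp
    rw [Nat.card_eq_fintype_card, Fintype.card_subtype, ← hgp]
    apply congr_arg
    ext x
    simp [SubMulAction.mem_ofFixingSubgroup_iff]
  have hmp : IsMultiplyPreprimitive G α (m + 2 + 2) :=
    hG.isMultiplyPreprimitive hsc
      (by rw [Nat.card_eq_fintype_card, hm]; have := hp.two_le; omega) hprim
  haveI hmt : IsMultiplyPretransitive G α (m + 2 + 2) := hmp.isMultiplyPretransitive ..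
  haveI : IsMultiplyPretransitive G α (m + 3) :=
    isMultiplyPretransitive_of_le (n := m + 2 + 2) (by omega)
      (by rw [Nat.card_eq_fintype_card, hm]; have := hp.two_le; omega)
  -- three points outside the support
  have hcompl : 3 ≤ (g.supportᶜ).card := by
    rw [Finset.card_compl, hgp, hm]; omega
  obtain ⟨T, hTs, hT3⟩ := Finset.exists_subset_card_eq hcompl
  obtain ⟨a, b, c, hab, hac, hbc, rfl⟩ := Finset.card_eq_three.mp hT3
  have ha : a ∉ g.support := by
    have := hTs (show a ∈ ({a, b, c} : Finset α) by simp)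
    simpa using this
  have hb : b ∉ g.support := by
    have := hTs (show b ∈ ({a, b, c} : Finset α) by simp)
    simpa using this
  have hc : c ∉ g.support := by
    have := hTs (show c ∈ ({a, b, c} : Finset α) by simp)
    simpa using this
  have hfix : ∀ u v : α, u ∉ g.support → v ∉ g.support → ∀ x ∈ g.support, swap u v x = x := by
    intro u v hu hv x hx
    apply swap_apply_of_ne_of_ne
    · rintro rfl; exact hu hx
    · rintro rfl; exact hv hx
  have hσ₁ := hfix a b ha hb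
  have hσ₂ := hfix a c ha hc
  obtain ⟨h₁, h₁G, h₁a, i₁, h₁c⟩ := witt G hgc hg hp hgp hm (swap a b) hσ₁
  obtain ⟨h₂, h₂G, h₂a, i₂, h₂c⟩ := witt G hgc hg hp hgp hm (swap a c) hσ₂
  -- the commutator
  set c₀ : Perm α := (h₂ * h₁)⁻¹ * (h₁ * h₂) with hc₀
  have hc₀G : c₀ ∈ G := G.mul_mem (G.inv_mem (G.mul_mem h₂G h₁G)) (G.mul_mem h₁G h₂G)
  have hcomm : Commute c₀ g := by
    have e1 : (h₁ * h₂) * g * (h₁ * h₂)⁻¹ = g ^ (i₁ * i₂) := by
      have : (h₁ * h₂) * g * (h₁ * h₂)⁻¹ = h₁ * (h₂ * g * h₂⁻¹) * h₁⁻¹ := by group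
      rw [this, h₂c, ← conj_zpow, h₁c, ← zpow_mul]
    have e2 : (h₂ * h₁) * g * (h₂ * h₁)⁻¹ = g ^ (i₁ * i₂) := by
      have : (h₂ * h₁) * g * (h₂ * h₁)⁻¹ = h₂ * (h₁ * g * h₁⁻¹) * h₂⁻¹ := by group
      rw [this, h₁c, ← conj_zpow, h₂c, ← zpow_mul, mul_comm]
    have e3 : (h₁ * h₂) * g * (h₁ * h₂)⁻¹ = (h₂ * h₁) * g * (h₂ * h₁)⁻¹ := e1.trans e2.symm
    -- c₀ g = g c₀
    show c₀ * g = g * c₀
    rw [hc₀]
    have e4 : (h₁ * h₂) * g = (h₂ * h₁) * g * (h₂ * h₁)⁻¹ * (h₁ * h₂) := by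
      rw [← e3]; group
    calc (h₂ * h₁)⁻¹ * (h₁ * h₂) * g = (h₂ * h₁)⁻¹ * ((h₁ * h₂) * g) := by group
      _ = (h₂ * h₁)⁻¹ * ((h₂ * h₁) * g * (h₂ * h₁)⁻¹ * (h₁ * h₂)) := by rw [← e4]
      _ = g * ((h₂ * h₁)⁻¹ * (h₁ * h₂)) := by group
  -- the action of c₀ on the complement
  set τ : Perm α := (swap a c * swap a b)⁻¹ * (swap a b * swap a c) with hτ
  have hτfix : ∀ x ∈ g.support, τ x = x := by
    intro x hx
    have h1 : (swap a b * swap a c) x = x := by
      rw [Perm.mul_apply, hσ₂ x hx, hσ₁ x hx]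
    have h2 : (swap a c * swap a b) x = x := by
      rw [Perm.mul_apply, hσ₁ x hx, hσ₂ x hx]
    rw [hτ, Perm.mul_apply, h1, Perm.inv_eq_iff_eq, h2]
  have hc₀a : ∀ d, d ∉ g.support → c₀ d = τ d := by
    have hA : ∀ d, d ∉ g.support → (h₁ * h₂) d = (swap a b * swap a c) d :=
      agree_mul hσ₂ h₁a h₂a
    have hB : ∀ d, d ∉ g.support → (h₂ * h₁) d = (swap a c * swap a b) d :=
      agree_mul hσ₁ h₂a h₁a
    have hBfix : ∀ x ∈ g.support, (swap a c * swap a b) x = x := by
      intro x hx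
      rw [Perm.mul_apply, hσ₁ x hx, hσ₂ x hx]
    have hAfix : ∀ x ∈ g.support, (swap a b * swap a c) x = x := by
      intro x hx
      rw [Perm.mul_apply, hσ₂ x hx, hσ₁ x hx]
    have hB' := agree_inv hBfix hB
    exact agree_mul hAfix hB' hA
  have hτ3 : IsThreeCycle τ := by
    have h1 : τ = (swap a b * swap a c) * (swap a b * swap a c) := by
      rw [hτ, mul_inv_rev, swap_inv, swap_inv]
    rw [h1]
    exact (isThreeCycle_swap_mul_swap_same hab hac hbc).isThreeCycle_sq
  -- c₀ restricted to the support is a power of g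
  obtain ⟨hc', i, hi⟩ := (hgc.commute_iff).mp hcomm
  have hi : g ^ i = ofSubtype (subtypePerm c₀ hc') := hi
  have hτeq : τ = c₀ * (g ^ i)⁻¹ := by
    ext x
    by_cases hx : x ∈ g.support
    · rw [hτfix x hx]
      show x = c₀ ((g ^ i)⁻¹ x)
      have hy : (g ^ i)⁻¹ x ∈ g.support := by
        rw [← zpow_neg]; exact zpow_apply_mem_support.mpr hx
      have := ofSubtype_subtypePerm_of_mem hc' hy
      rw [← this, ← hi]
      simp
    · show τ x = c₀ ((g ^ i)⁻¹ x)
      have hy : (g ^ i)⁻¹ x = x := by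
        rw [← zpow_neg]
        exact zpow_apply_eq_self_of_apply_eq_self (Perm.notMem_support.mp hx) _
      rw [hy, hc₀a x hx]
  have hτG : τ ∈ G := by
    rw [hτeq]
    exact G.mul_mem hc₀G (G.inv_mem (G.zpow_mem hg i))
  exact alternatingGroup_le_of_isPreprimitive_of_isThreeCycle_mem hG hτ3 hτG

end Cfsg.Agent.S0713
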