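import Cfsg.Statements.S0714
import Mathlib

set_option autoImplicit false
open Cfsg

namespace Cfsg.Agent.S0714

open Equiv

section
variable {α : Type*} [Fintype α] [DecidableEq α] {K : Type*} [Field K]

/-- the difference vector -/
def dv (K : Type*) [Field K] (x y : α) : α → K := Pi.single x 1 - Pi.single y 1

theorem rho_apply (g : alternatingGroup α) (f : α → K) (z : α) :
    (Cfsg.permRep K (alternatingGroup α) α g f) z = f ((g : Perm α)⁻¹ z) := rfl

theorem lemma1 (W : Subrepresentation (Cfsg.permRep K (alternatingGroup α) α)) (h : α → K)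
    (hW : h ∈ W.toSubmodule)
    (x y u v : α) (hxy : x ≠ y) (huv : u ≠ v) (hxu : x ≠ u) (hxv : x ≠ v) (hyu : y ≠ u)
    (hyv : y ≠ v) (huv' : h u = h v) : (h x - h y) • dv K x y ∈ W.toSubmodule := by
  let σ : alternatingGroup α := ⟨swap x y * swap u v,
    Equiv.Perm.mul_mem_alternatingGroup_of_isSwap ⟨x, y, hxy, rfl⟩ ⟨u, v, huv, rfl⟩⟩
  have h1 : h - Cfsg.permRep K (alternatingGroup α) α σ h ∈ W.toSubmodule :=
    W.toSubmodule.sub_mem hW (W.apply_mem_toSubmodule σ hW)
  have h2 : h - Cfsg.permRep K (alternatingGroup α) α σ h = (h x - h y) • dv K x y := by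
    funext z
    rw [Pi.sub_apply, rho_apply]
    have hσ : ((σ : Perm α))⁻¹ z = swap u v (swap x y z) := by
      show (swap x y * swap u v)⁻¹ z = _
      rw [mul_inv_rev, swap_inv, swap_inv]; rfl
    rw [hσ]
    simp only [dv, Pi.smul_apply, Pi.sub_apply, smul_eq_mul, Pi.single_apply]
    by_cases hzx : z = x
    · subst hzx
      rw [swap_apply_left, swap_apply_of_ne_of_ne hyu hyv]
      simp [hxy]
    by_cases hzy : z = y
    · subst hzy
      rw [swap_apply_right, swap_apply_of_ne_of_ne hxu hxv]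
      simp [hxy.symm]
    rw [swap_apply_of_ne_of_ne hzx hzy]
    by_cases hzu : z = u
    · subst hzu; rw [swap_apply_left, huv']; simp [hzx, hzy]
    by_cases hzv : z = v
    · subst hzv; rw [swap_apply_right, huv']; simp [hzx, hzy]
    rw [swap_apply_of_ne_of_ne hzu hzv]; simp [hzx, hzy]
  rw [← h2]; exact h1

theorem lemma2 (W : Subrepresentation (Cfsg.permRep K (alternatingGroup α) α)) (f : α → K)
    (hW : f ∈ W.toSubmodule) (a b c : α) (hab : a ≠ b) (hac : a ≠ c) (hbc : b ≠ c)
    (hf : f a ≠ f b) :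
    ∃ h ∈ W.toSubmodule, h ≠ 0 ∧ ∀ z, z ≠ a → z ≠ b → z ≠ c → h z = 0 := by
  let g : alternatingGroup α := ⟨swap a b * swap a c,
    (Equiv.Perm.isThreeCycle_swap_mul_swap_same hab hac hbc).mem_alternatingGroup⟩
  refine ⟨f - Cfsg.permRep K _ α g⁻¹ f,
    W.toSubmodule.sub_mem hW (W.apply_mem_toSubmodule _ hW), ?_, ?_⟩
  · intro h0
    have h1 := congrFun h0 b
    rw [Pi.sub_apply, rho_apply] at h1
    have h2 : ((g⁻¹ : alternatingGroup α) : Perm α)⁻¹ b = a := by
      show ((swap a b * swap a c)⁻¹)⁻¹ b = a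
      rw [inv_inv, Perm.mul_apply, swap_apply_of_ne_of_ne hab.symm hbc, swap_apply_right]
    rw [h2] at h1
    apply hf
    have h3 : f b - f a = 0 := h1
    exact (sub_eq_zero.mp h3).symm
  · intro z hza hzb hzc
    rw [Pi.sub_apply, rho_apply]
    have h2 : ((g⁻¹ : alternatingGroup α) : Perm α)⁻¹ z = z := by
      show ((swap a b * swap a c)⁻¹)⁻¹ z = z
      rw [inv_inv, Perm.mul_apply, swap_apply_of_ne_of_ne hza hzc,
        swap_apply_of_ne_of_ne hza hzb]
    rw [h2, sub_self]

theorem smul_mem_cancel (W : Submodule K (α → K)) (c : K) (hc : c ≠ 0) (v : α → K)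
    (h : c • v ∈ W) : v ∈ W := by
  have := W.smul_mem c⁻¹ h
  rwa [smul_smul, inv_mul_cancel₀ hc, one_smul] at this

theorem claimA (hα : 5 ≤ Fintype.card α)
    (W : Subrepresentation (Cfsg.permRep K (alternatingGroup α) α)) (f : α → K)
    (hW : f ∈ W.toSubmodule) (a b : α) (hf : f a ≠ f b) :
    ∃ x y : α, x ≠ y ∧ dv K x y ∈ W.toSubmodule := by
  have hab : a ≠ b := fun h => hf (h ▸ rfl)
  have hcard : 2 < (Finset.univ \ {a, b} : Finset α).card := by
    have h1 := Finset.card_sdiff_add_card_inter (Finset.univ : Finset α) {a, b}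
    have h2 : ((Finset.univ : Finset α) ∩ {a, b}).card ≤ 2 :=
      (Finset.card_le_card Finset.inter_subset_right).trans Finset.card_le_two
    rw [Finset.card_univ] at h1
    omega
  obtain ⟨c, hc, d, hd, e, he, hcd, hce, hde⟩ := Finset.two_lt_card.mp hcard
  simp only [Finset.mem_sdiff, Finset.mem_univ, true_and, Finset.mem_insert,
    Finset.mem_singleton, not_or] at hc hd he
  obtain ⟨h, hhW, hh0, hsupp⟩ := lemma2 W f hW a b c hab (Ne.symm hc.1) (Ne.symm hc.2) hf
  have hd0 : h d = 0 := hsupp d hd.1 hd.2 hcd.symm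
  have he0 : h e = 0 := hsupp e he.1 he.2 hce.symm
  by_cases h1 : h a = h b
  · by_cases h2 : h b = h c
    · have hc0 : h c ≠ 0 := by
        intro hc0
        apply hh0
        funext z
        by_cases hza : z = a
        · rw [hza, h1, h2, hc0]; rfl
        by_cases hzb : z = b
        · rw [hzb, h2, hc0]; rfl
        by_cases hzc : z = c
        · rw [hzc, hc0]; rfl
        exact hsupp z hza hzb hzc
      have := lemma1 W h hhW c d a b hcd hab (hc.1) (hc.2) (hd.1) (hd.2) h1
      rw [hd0, sub_zero] at this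
      exact ⟨c, d, hcd, smul_mem_cancel _ _ hc0 _ this⟩
    · have := lemma1 W h hhW b c d e (Ne.symm hc.2) hde (Ne.symm hd.2) (Ne.symm he.2) hcd hce
        (hd0.trans he0.symm)
      exact ⟨b, c, Ne.symm hc.2, smul_mem_cancel _ _ (sub_ne_zero.mpr h2) _ this⟩
  · have := lemma1 W h hhW a b d e hab hde (Ne.symm hd.1) (Ne.symm he.1) (Ne.symm hd.2)
      (Ne.symm he.2) (hd0.trans he0.symm)
    exact ⟨a, b, hab, smul_mem_cancel _ _ (sub_ne_zero.mpr h1) _ this⟩

theorem rho_dv (g : alternatingGroup α) (x y : α) :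
    Cfsg.permRep K (alternatingGroup α) α g (dv K x y) = dv K ((g : Perm α) x) ((g : Perm α) y) := by
  funext z
  rw [rho_apply]
  simp only [dv, Pi.sub_apply, Pi.single_apply]
  have h1 : ((g : Perm α)⁻¹ z = x) ↔ z = (g : Perm α) x := Perm.inv_eq_iff_eq
  have h2 : ((g : Perm α)⁻¹ z = y) ↔ z = (g : Perm α) y := Perm.inv_eq_iff_eq
  simp only [h1, h2]

theorem claimB (hα : 5 ≤ Fintype.card α)
    (W : Subrepresentation (Cfsg.permRep K (alternatingGroup α) α)) (x y : α) (hxy : x ≠ y)
    (hW : dv K x y ∈ W.toSubmodule) (x' y' : α) (hxy' : x' ≠ y') :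
    dv K x' y' ∈ W.toSubmodule := by
  have hc : Nat.card α = Fintype.card α := Nat.card_eq_fintype_card
  have := alternatingGroup.isMultiplyPretransitive α
  have h2 : MulAction.IsMultiplyPretransitive (alternatingGroup α) α 2 :=
    MulAction.isMultiplyPretransitive_of_le (n := Nat.card α - 2) (by omega) (by omega)
  obtain ⟨g, hg1, hg2⟩ := MulAction.is_two_pretransitive_iff.mp h2 hxy hxy'
  have h3 := W.apply_mem_toSubmodule g hW
  rw [rho_dv] at h3
  have e1 : (g : Perm α) x = x' := hg1
  have e2 : (g : Perm α) y = y' := hg2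
  rw [e1, e2] at h3
  exact h3

theorem claimC (W : Submodule K (α → K)) (hW : ∀ x y : α, x ≠ y → dv K x y ∈ W) (f : α → K)
    (hf : ∑ x, f x = 0) : f ∈ W := by
  by_cases hne : Nonempty α
  · obtain ⟨x0⟩ := hne
    have h1 : f = ∑ x, f x • dv K x x0 := by
      funext z
      rw [Finset.sum_apply]
      simp only [dv, Pi.smul_apply, Pi.sub_apply, smul_eq_mul, Pi.single_apply, mul_sub]
      rw [Finset.sum_sub_distrib, ← Finset.sum_mul, hf, zero_mul, sub_zero]
      simp
    rw [h1]
    apply W.sum_mem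
    intro x _
    by_cases hx : x = x0
    · rw [hx]
      have : dv K x0 x0 = 0 := sub_self _
      rw [this, smul_zero]; exact W.zero_mem
    · exact W.smul_mem _ (hW x x0 hx)
  · have : f = 0 := by
      funext z; exact (hne ⟨z⟩).elim
    rw [this]; exact W.zero_mem

end

theorem result {α : Type*} [Fintype α] [DecidableEq α] (hα : 5 ≤ Fintype.card α) {K : Type*} [Field K] (W : Subrepresentation (Cfsg.permRep K (alternatingGroup α) α)) : W.toSubmodule = ⊥ ∨ W = Cfsg.permConstants K (alternatingGroup α) α ∨ W = Cfsg.permSumZero K (alternatingGroup α) α ∨ W.toSubmodule = ⊤ := by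
  classical
  have hne : Nonempty α := Fintype.card_pos_iff.mp (by omega)
  obtain ⟨x0⟩ := hne
  by_cases hc : ∀ f ∈ W.toSubmodule, ∀ a b, f a = f b
  · by_cases hbot : W.toSubmodule = ⊥
    · exact Or.inl hbot
    · right; left
      apply Subrepresentation.toSubmodule_injective
      show W.toSubmodule = Submodule.span K {fun _ => 1}
      apply le_antisymm
      · intro f hf
        rw [Submodule.mem_span_singleton]
        refine ⟨f x0, ?_⟩
        funext z
        simp only [Pi.smul_apply, smul_eq_mul, mul_one]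
        exact hc f hf x0 z
      · obtain ⟨f, hfW, hf0⟩ := Submodule.exists_mem_ne_zero_of_ne_bot hbot
        have hfx : f x0 ≠ 0 := by
          intro h
          apply hf0
          funext z
          rw [hc f hfW z x0, h]; rfl
        rw [Submodule.span_le, Set.singleton_subset_iff]
        have h1 : (fun _ : α => (1 : K)) = (f x0)⁻¹ • f := by
          funext z
          simp only [Pi.smul_apply, smul_eq_mul]
          rw [hc f hfW z x0, inv_mul_cancel₀ hfx]
        rw [h1]
        exact W.toSubmodule.smul_mem _ hfW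
  · push Not at hc
    obtain ⟨f, hfW, a, b, hab⟩ := hc
    obtain ⟨x, y, hxy, hd⟩ := claimA hα W f hfW a b hab
    have hall : ∀ x' y' : α, x' ≠ y' → dv K x' y' ∈ W.toSubmodule :=
      fun x' y' h => claimB hα W x y hxy hd x' y' h
    have hsz : ∀ f : α → K, ∑ x, f x = 0 → f ∈ W.toSubmodule := claimC W.toSubmodule hall
    right; right
    by_cases hs : ∀ f ∈ W.toSubmodule, ∑ x, f x = 0
    · left
      apply Subrepresentation.toSubmodule_injective
      apply le_antisymm
      · intro f hf
        exact hs f hf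
      · intro f hf
        exact hsz f hf
    · right
      push Not at hs
      obtain ⟨f1, hf1W, hf1s⟩ := hs
      rw [eq_top_iff]
      intro h _
      have h1 : h = (h - ((∑ x, h x) / (∑ x, f1 x)) • f1) + ((∑ x, h x) / (∑ x, f1 x)) • f1 := by
        rw [sub_add_cancel]
      rw [h1]
      apply W.toSubmodule.add_mem
      · apply hsz
        simp only [Pi.sub_apply, Pi.smul_apply, smul_eq_mul, Finset.sum_sub_distrib,
          ← Finset.mul_sum]
        rw [div_mul_cancel₀ _ hf1s, sub_self]
      · exact W.toSubmodule.smul_mem _ hf1W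

end Cfsg.Agent.S0714
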