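import Cfsg.Statements.S5914
import Mathlib

set_option autoImplicit false
open Cfsg

namespace Cfsg.Agent.S5914

section pow
variable {S : Type*} [Group S] {n : ℕ}

/-- coordinate permutation automorphism -/
def permAut (σ : Equiv.Perm (Fin n)) : (Fin n → S) ≃* (Fin n → S) where
  toFun y := y ∘ σ
  invFun y := y ∘ σ.symm
  left_inv y := by ext i; simp
  right_inv y := by ext i; simp
  map_mul' _ _ := rfl

lemma permAut_mulSingle (σ : Equiv.Perm (Fin n)) (j : Fin n) (s : S) :
    permAut σ (Pi.mulSingle j s : Fin n → S) = (Pi.mulSingle (σ.symm j) s : Fin n → S) := by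
  ext k
  show (Pi.mulSingle j s : Fin n → S) (σ k) = _
  by_cases hk : σ k = j
  · have : k = σ.symm j := by rw [← hk]; simp
    rw [hk, this]; simp
  · have : k ≠ σ.symm j := by
      intro h; apply hk; rw [h]; simp
    rw [Pi.mulSingle_eq_of_ne hk, Pi.mulSingle_eq_of_ne this]

/-- adding coordinate i to coordinate j (commutative case) -/
def addAut (hc : ∀ a b : S, a * b = b * a) (i j : Fin n) (hij : j ≠ i) :
    (Fin n → S) ≃* (Fin n → S) where
  toFun y := y * (Pi.mulSingle j (y i) : Fin n → S)
  invFun y := y * (Pi.mulSingle j (y i)⁻¹ : Fin n → S)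
  left_inv y := by
    ext k
    by_cases hk : k = j
    · subst hk; simp [Pi.mulSingle_eq_of_ne hij.symm]
    · simp [Pi.mulSingle_eq_of_ne hk]
  right_inv y := by
    ext k
    by_cases hk : k = j
    · subst hk; simp [Pi.mulSingle_eq_of_ne hij.symm]
    · simp [Pi.mulSingle_eq_of_ne hk]
  map_mul' y z := by
    ext k
    by_cases hk : k = j
    · subst hk
      simp only [Pi.mul_apply, Pi.mulSingle_eq_same]
      rw [mul_assoc, mul_assoc, ← mul_assoc (z k), hc (z k) (y i)]
      simp only [mul_assoc]
    · simp [Pi.mulSingle_eq_of_ne hk]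

theorem char_simple_pow [IsSimpleGroup S] (hn : 1 ≤ n) (H : Subgroup (Fin n → S))
    (hH : H.Characteristic) : H = ⊥ ∨ H = ⊤ := by
  classical
  by_cases hbot : H = ⊥
  · exact Or.inl hbot
  right
  have hnorm : H.Normal := Subgroup.normal_of_characteristic H
  -- one coordinate subgroup nontrivial
  have key : ∃ j : Fin n, ∃ s : S, s ≠ 1 ∧ (Pi.mulSingle j s : Fin n → S) ∈ H := by
    obtain ⟨⟨x, hxH⟩, hx1⟩ := (Subgroup.ne_bot_iff_exists_ne_one).1 hbot
    have hx1' : x ≠ 1 := fun h => hx1 (Subtype.ext h)
    obtain ⟨i, hi⟩ : ∃ i, x i ≠ 1 := by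
      by_contra hcon
      push Not at hcon
      exact hx1' (funext hcon)
    by_cases hc : ∀ a b : S, a * b = b * a
    · by_cases hj : ∃ j, j ≠ i
      · obtain ⟨j, hji⟩ := hj
        refine ⟨j, x i, hi, ?_⟩
        have h2 := Subgroup.characteristic_iff_comap_eq.1 hH (addAut hc i j hji)
        have h3 : addAut hc i j hji x ∈ H := by
          have : x ∈ H.comap (addAut hc i j hji).toMonoidHom := by rw [h2]; exact hxH
          exact this
        have h4 : (Pi.mulSingle j (x i) : Fin n → S) = x⁻¹ * addAut hc i j hji x := by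
          show _ = x⁻¹ * (x * (Pi.mulSingle j (x i) : Fin n → S)); simp
        rw [h4]; exact H.mul_mem (H.inv_mem hxH) h3
      · push Not at hj
        refine ⟨i, x i, hi, ?_⟩
        have : (Pi.mulSingle i (x i) : Fin n → S) = x := by
          ext k; rw [hj k]; simp
        rw [this]; exact hxH
    · push Not at hc
      have hcen : Subgroup.center S = ⊥ := by
        rcases (inferInstance : (Subgroup.center S).Normal).eq_bot_or_eq_top with h | h
        · exact h
        · exfalso
          obtain ⟨a, b, hab⟩ := hc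
          have ha : a ∈ Subgroup.center S := by rw [h]; trivial
          exact hab ((Subgroup.mem_center_iff.1 ha b).symm)
      have hxi : x i ∉ Subgroup.center S := by
        rw [hcen, Subgroup.mem_bot]; exact hi
      rw [Subgroup.mem_center_iff] at hxi
      push Not at hxi
      obtain ⟨s, hs⟩ := hxi
      refine ⟨i, x i * s * (x i)⁻¹ * s⁻¹, ?_, ?_⟩
      · intro h
        apply hs
        have : x i * s * (x i)⁻¹ = s := by
          rw [mul_inv_eq_one] at h; exact h
        calc s * x i = (x i * s * (x i)⁻¹) * x i := by rw [this]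
          _ = x i * s := by group
      · have hc1 : x * ((Pi.mulSingle i s : Fin n → S) * x⁻¹ * (Pi.mulSingle i s : Fin n → S)⁻¹) ∈ H :=
          H.mul_mem hxH (hnorm.conj_mem _ (H.inv_mem hxH) _)
        have : (Pi.mulSingle i (x i * s * (x i)⁻¹ * s⁻¹) : Fin n → S)
            = x * ((Pi.mulSingle i s : Fin n → S) * x⁻¹ * (Pi.mulSingle i s : Fin n → S)⁻¹) := by
          ext k
          by_cases hk : k = i
          · subst hk; simp [mul_assoc]
          · simp [Pi.mulSingle_eq_of_ne hk]
        rw [this]; exact hc1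
  obtain ⟨j, s, hs1, hsH⟩ := key
  have hHj : H.comap (MonoidHom.mulSingle (fun _ : Fin n => S) j) = ⊤ := by
    have hn' : (H.comap (MonoidHom.mulSingle (fun _ : Fin n => S) j)).Normal := hnorm.comap _
    rcases hn'.eq_bot_or_eq_top with h | h
    · exfalso
      have : s ∈ H.comap (MonoidHom.mulSingle (fun _ : Fin n => S) j) := hsH
      rw [h, Subgroup.mem_bot] at this
      exact hs1 this
    · exact h
  rw [eq_top_iff]
  intro y _
  apply Subgroup.pi_mem_of_mulSingle_mem
  intro i
  have h1 : (Pi.mulSingle j (y i) : Fin n → S) ∈ H := by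
    have : y i ∈ H.comap (MonoidHom.mulSingle (fun _ : Fin n => S) j) := by rw [hHj]; trivial
    exact this
  have h2 := (Subgroup.characteristic_iff_comap_eq.1 hH (permAut (Equiv.swap i j)))
  have h3 : permAut (Equiv.swap i j) (Pi.mulSingle i (y i) : Fin n → S) ∈ H := by
    rw [permAut_mulSingle]
    simpa using h1
  rw [← h2]
  exact h3

end pow


section forward
variable {G : Type*} [Group G]

/-- invariant data -/
structure Good (N : Subgroup G) (k : ℕ) (f : (Fin k → N) →* G) : Prop where
  inj : Function.Injective f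
  normal : f.range.Normal
  le : N ≤ f.range
  cen : f.range ≤ N ⊔ Subgroup.centralizer (N : Set G)

lemma step (N : Subgroup G) (hN : N.Normal)
    (hmin : ∀ A : Subgroup G, A.Normal → A ≤ N → A = ⊥ ∨ A = N)
    (k : ℕ) (f : (Fin k → N) →* G) (hf : Good N k f) (α : G ≃* G)
    (hα : ¬ N.map α.toMonoidHom ≤ f.range) :
    ∃ f' : (Fin (k+1) → N) →* G, Good N (k+1) f' ∧ f.range < f'.range := by
  have hfn := hf.normal
  have hN' : (N.map α.toMonoidHom).Normal := hN.map _ α.surjective
  have hdisj : N.map α.toMonoidHom ⊓ f.range = ⊥ := by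
    have hAn : (N.map α.toMonoidHom ⊓ f.range).Normal := Subgroup.normal_inf_normal _ _
    have hcn : ((N.map α.toMonoidHom ⊓ f.range).comap α.toMonoidHom).Normal := hAn.comap _
    have hcle : (N.map α.toMonoidHom ⊓ f.range).comap α.toMonoidHom ≤ N := by
      intro x hx
      obtain ⟨y, hy, hyx⟩ := hx.1
      have : y = x := α.injective hyx
      rw [← this]; exact hy
    rcases hmin _ hcn hcle with h | h
    · have := Subgroup.map_comap_eq_self_of_surjective (f := α.toMonoidHom) α.surjective
        (N.map α.toMonoidHom ⊓ f.range)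
      rw [← this, h, Subgroup.map_bot]
    · exfalso
      apply hα
      have h' := congrArg (Subgroup.map α.toMonoidHom) h
      rw [Subgroup.map_comap_eq_self_of_surjective (f := α.toMonoidHom) α.surjective] at h'
      rw [← h']
      exact inf_le_right
  have hcomm : ∀ u ∈ f.range, ∀ v ∈ N.map α.toMonoidHom, Commute u v := by
    intro u hu v hv
    exact Subgroup.commute_of_normal_of_disjoint _ _ hfn hN'
      (disjoint_iff.2 (by rw [inf_comm]; exact hdisj)) u v hu hv
  have hN'cen : N.map α.toMonoidHom ≤ Subgroup.centralizer (N : Set G) := by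
    intro v hv
    rw [Subgroup.mem_centralizer_iff]
    intro n hn
    exact (hcomm n (hf.le hn) v hv).eq
  have hαmem : ∀ s : N, α (s : G) ∈ N.map α.toMonoidHom := fun s => ⟨s, s.2, rfl⟩
  let f' : (Fin (k+1) → N) →* G :=
    { toFun := fun y => f (fun i => y i.castSucc) * α (y (Fin.last k) : G)
      map_one' := by
        show f (fun i => (1 : Fin (k+1) → N) i.castSucc) * α ((1 : Fin (k+1) → N) (Fin.last k) : G) = 1
        have : (fun i : Fin k => (1 : Fin (k+1) → N) i.castSucc) = 1 := rfl
        rw [this, map_one]; simp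
      map_mul' := by
        intro y z
        have e1 : (fun i : Fin k => (y * z) i.castSucc)
            = (fun i : Fin k => y i.castSucc) * (fun i : Fin k => z i.castSucc) := rfl
        rw [e1, map_mul]
        have e2 : ((y * z) (Fin.last k) : N) = y (Fin.last k) * z (Fin.last k) := rfl
        rw [e2, Subgroup.coe_mul, map_mul]
        have := hcomm (f fun i => z i.castSucc) ⟨_, rfl⟩ (α (y (Fin.last k) : G)) (hαmem _)
        calc f (fun i => y i.castSucc) * f (fun i => z i.castSucc) * (α ↑(y (Fin.last k)) * α ↑(z (Fin.last k)))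
            = f (fun i => y i.castSucc) * (f (fun i => z i.castSucc) * α ↑(y (Fin.last k))) * α ↑(z (Fin.last k)) := by
              simp only [mul_assoc]
          _ = f (fun i => y i.castSucc) * (α ↑(y (Fin.last k)) * f (fun i => z i.castSucc)) * α ↑(z (Fin.last k)) := by
              rw [this.eq]
          _ = _ := by simp only [mul_assoc] }
  have hf'apply : ∀ y, f' y = f (fun i => y i.castSucc) * α (y (Fin.last k) : G) := fun y => rfl
  have hrange : f'.range = f.range ⊔ N.map α.toMonoidHom := by
    apply le_antisymm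
    · rintro _ ⟨y, rfl⟩
      rw [hf'apply]
      exact Subgroup.mul_mem _ (Subgroup.mem_sup_left ⟨_, rfl⟩) (Subgroup.mem_sup_right (hαmem _))
    · apply sup_le
      · rintro _ ⟨u, rfl⟩
        refine ⟨Fin.snoc u 1, ?_⟩
        rw [hf'apply]
        simp
      · rintro _ ⟨s, hs, rfl⟩
        refine ⟨Fin.snoc 1 ⟨s, hs⟩, ?_⟩
        rw [hf'apply]
        have : (fun i : Fin k => (Fin.snoc (1 : Fin k → N) (⟨s, hs⟩ : N) : Fin (k+1) → N) i.castSucc) = 1 := by
          ext i; simp
        rw [this]
        simp
  refine ⟨f', ⟨?_, ?_, ?_, ?_⟩, ?_⟩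
  · rw [injective_iff_map_eq_one]
    intro y hy
    rw [hf'apply] at hy
    have h1 : f (fun i => y i.castSucc) = (α (y (Fin.last k) : G))⁻¹ := eq_inv_of_mul_eq_one_left hy
    have h2 : f (fun i => y i.castSucc) ∈ N.map α.toMonoidHom ⊓ f.range :=
      ⟨by rw [h1]; exact Subgroup.inv_mem _ (hαmem _), ⟨_, rfl⟩⟩
    rw [hdisj, Subgroup.mem_bot] at h2
    have h3 : (fun i => y i.castSucc) = (1 : Fin k → N) := by
      apply hf.inj; rw [h2, map_one]
    have h4 : α (y (Fin.last k) : G) = 1 := by
      rw [h2] at h1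
      have := inv_eq_one.1 h1.symm
      exact this
    have h5 : y (Fin.last k) = 1 := by
      have : (y (Fin.last k) : G) = 1 := by
        apply α.injective; rw [h4, map_one]
      exact Subtype.ext this
    funext i
    refine Fin.lastCases ?_ (fun j => ?_) i
    · exact h5
    · exact congrFun h3 j
  · rw [hrange]; exact Subgroup.sup_normal _ _
  · rw [hrange]; exact le_sup_of_le_left hf.le
  · rw [hrange]; exact sup_le hf.cen (le_sup_of_le_right hN'cen)
  · rw [hrange]
    refine lt_of_le_of_ne le_sup_left ?_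
    intro h
    apply hα
    rw [h]
    exact le_sup_right

theorem forward [Finite G] [Nontrivial G]
    (hcs : ∀ H : Subgroup G, H.Characteristic → H = ⊥ ∨ H = ⊤) :
    ∃ (N : Subgroup G) (k : ℕ), 1 ≤ k ∧ IsSimpleGroup N ∧ Nonempty (G ≃* (Fin k → N)) := by
  obtain ⟨N, ⟨hNn, hNb⟩, hNmin⟩ := wellFounded_lt.has_min
    {N : Subgroup G | N.Normal ∧ N ≠ ⊥} ⟨⊤, inferInstance, top_ne_bot⟩
  have hmin : ∀ A : Subgroup G, A.Normal → A ≤ N → A = ⊥ ∨ A = N := by
    intro A hA hle
    by_cases hb : A = ⊥
    · exact Or.inl hb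
    · right
      exact eq_of_le_of_not_lt hle (hNmin A ⟨hA, hb⟩)
  -- the images of N generate G
  have hK : (⨆ α : G ≃* G, N.map α.toMonoidHom) = ⊤ := by
    have hchar : (⨆ α : G ≃* G, N.map α.toMonoidHom).Characteristic := by
      rw [Subgroup.characteristic_iff_map_le]
      intro φ
      rw [Subgroup.map_iSup]
      apply iSup_le
      intro α
      rw [Subgroup.map_map]
      exact le_iSup (fun β : G ≃* G => N.map β.toMonoidHom) (α.trans φ)
    rcases hcs _ hchar with h | h
    · exfalso
      apply hNb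
      rw [eq_bot_iff, ← h]
      have : N = N.map (MulEquiv.refl G).toMonoidHom := by
        ext x; simp
      conv_lhs => rw [this]
      exact le_iSup (fun β : G ≃* G => N.map β.toMonoidHom) (MulEquiv.refl G)
    · exact h
  have claim : ∀ M : Subgroup G, (∃ (k : ℕ) (f : (Fin k → N) →* G), 1 ≤ k ∧ Good N k f ∧ f.range = M) →
      ∃ (k : ℕ) (f : (Fin k → N) →* G), 1 ≤ k ∧ Good N k f ∧ f.range = ⊤ := by
    intro M
    induction M using WellFoundedGT.induction with
    | ind M ih =>
      rintro ⟨k, f, hk, hg, hr⟩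
      by_cases hM : M = ⊤
      · exact ⟨k, f, hk, hg, hr.trans hM⟩
      · have : ∃ α : G ≃* G, ¬ N.map α.toMonoidHom ≤ f.range := by
          by_contra hcon
          push Not at hcon
          apply hM
          rw [← hr, eq_top_iff, ← hK]
          exact iSup_le hcon
        obtain ⟨α, hα⟩ := this
        obtain ⟨f', hg', hlt⟩ := step N hNn hmin k f hg α hα
        rw [hr] at hlt
        exact ih f'.range hlt ⟨k+1, f', by omega, hg', rfl⟩
  -- base
  let f1 : (Fin 1 → N) →* G := N.subtype.comp (Pi.evalMonoidHom (fun _ : Fin 1 => N) 0)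
  have hf1r : f1.range = N := by
    ext x
    constructor
    · rintro ⟨y, rfl⟩
      exact (y 0).2
    · intro hx
      exact ⟨fun _ => ⟨x, hx⟩, rfl⟩
  have hg1 : Good N 1 f1 := by
    refine ⟨?_, ?_, ?_, ?_⟩
    · intro y z hyz
      funext i
      have : i = 0 := Subsingleton.elim _ _
      subst this
      exact Subtype.ext hyz
    · rw [hf1r]; exact hNn
    · rw [hf1r]
    · rw [hf1r]; exact le_sup_left
  obtain ⟨k, f, hk, hg, hr⟩ := claim N ⟨1, f1, le_refl 1, hg1, hf1r⟩
  refine ⟨N, k, hk, ?_, ?_⟩
  · -- simplicity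
    haveI : Nontrivial N := (Subgroup.nontrivial_iff_ne_bot N).2 hNb
    refine ⟨fun A hA => ?_⟩
    have hAn : (A.map N.subtype).Normal := by
      refine ⟨fun a ha g => ?_⟩
      obtain ⟨a', ha', rfl⟩ := ha
      have hg' : g ∈ N ⊔ Subgroup.centralizer (N : Set G) := hg.cen (by rw [hr]; trivial)
      have hg'' : g ∈ ((N ⊔ Subgroup.centralizer (N : Set G) : Subgroup G) : Set G) := hg'
      have := hNn
      rw [Subgroup.normal_mul] at hg''
      obtain ⟨n, hn, c, hc, rfl⟩ := Set.mem_mul.1 hg''
      rw [SetLike.mem_coe, Subgroup.mem_centralizer_iff] at hc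
      have hca : c * (a' : G) * c⁻¹ = a' := by
        rw [← hc a' a'.2]; group
      refine ⟨⟨n, hn⟩ * a' * ⟨n, hn⟩⁻¹, hA.conj_mem a' ha' _, ?_⟩
      simp only [Subgroup.subtype_apply, Subgroup.coe_mul, Subgroup.coe_inv]
      calc n * (a' : G) * n⁻¹ = n * (c * (a' : G) * c⁻¹) * n⁻¹ := by rw [hca]
        _ = _ := by group
    rcases hmin _ hAn (Subgroup.map_subtype_le A) with h | h
    · left
      exact (Subgroup.map_eq_bot_iff_of_injective A N.subtype_injective).1 h
    · right
      rw [eq_top_iff]
      intro x _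
      have : (x : G) ∈ A.map N.subtype := by rw [h]; exact x.2
      obtain ⟨y, hy, hyx⟩ := this
      have : y = x := Subtype.ext hyx
      rw [← this]; exact hy
  · have hsurj : Function.Surjective f := by
      intro g
      have : g ∈ f.range := by rw [hr]; trivial
      exact this
    exact ⟨(MulEquiv.ofBijective f ⟨hg.inj, hsurj⟩).symm⟩

end forward



/-- A non-trivial finite group G is characteristically simple (its only characteristic subgroups are 1 and G) if and only if G is isomorphic to a direct power S^n (n ≥ 1) of some simple group S (possibly cyclic of prime order). -/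
theorem result {G : Type*} [Group G] [Finite G] [Nontrivial G] :
    (∀ H : Subgroup G, H.Characteristic → H = ⊥ ∨ H = ⊤) ↔
    ∃ (S : Type) (_ : Group S) (_ : IsSimpleGroup S) (n : ℕ), 1 ≤ n ∧ Nonempty (G ≃* (Fin n → S)) := by
  constructor
  · intro hcs
    obtain ⟨N, k, hk, hs, ⟨e⟩⟩ := forward hcs
    refine ⟨Shrink.{0} N, inferInstance, ?_, k, hk,
      ⟨e.trans (MulEquiv.piCongrRight (fun _ => (Shrink.mulEquiv : Shrink.{0} N ≃* N).symm))⟩⟩
    exact (Shrink.mulEquiv : Shrink.{0} N ≃* N).isSimpleGroup
  · rintro ⟨S, hS, hsimple, n, hn, ⟨e⟩⟩ H hH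
    have hH' : (H.map e.toMonoidHom).Characteristic := by
      rw [Subgroup.characteristic_iff_map_le]
      intro φ
      rintro _ ⟨_, ⟨h, hh, rfl⟩, rfl⟩
      have hψ := Subgroup.characteristic_iff_map_eq.1 hH (e.trans (φ.trans e.symm))
      have : e.symm (φ (e h)) ∈ H := by
        rw [← hψ]
        exact ⟨h, hh, rfl⟩
      exact ⟨_, this, by simp⟩
    rcases char_simple_pow hn _ hH' with h | h
    · left
      exact (Subgroup.map_eq_bot_iff_of_injective H e.injective).1 h
    · right
      rw [eq_top_iff]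
      intro x _
      have : e x ∈ H.map e.toMonoidHom := by rw [h]; trivial
      obtain ⟨y, hy, hyx⟩ := this
      have : y = x := e.injective hyx
      rw [← this]; exact hy

end Cfsg.Agent.S5914
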