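import Cfsg.Statements.S0724
import Mathlib

set_option autoImplicit false
open Cfsg

namespace Cfsg.Agent.S0724

open scoped BigOperators

section
variable {G : Type*} [Group G] [Fintype G] {α : Type*} [Fintype α] [DecidableEq α] [MulAction G α]

/-- fixed points of `g` on `Fin k → α` -/
noncomputable def fixedPiEquiv (k : ℕ) (g : G) :
    MulAction.fixedBy (Fin k → α) g ≃ (Fin k → MulAction.fixedBy α g) where
  toFun f := fun i => ⟨f.1 i, congrFun f.2 i⟩
  invFun h := ⟨fun i => (h i).1, funext fun i => (h i).2⟩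
  left_inv f := by ext; rfl
  right_inv h := by ext; rfl

theorem card_fixedPi (k : ℕ) (g : G) :
    Nat.card (MulAction.fixedBy (Fin k → α) g) = Nat.card (MulAction.fixedBy α g) ^ k := by
  rw [Nat.card_congr (fixedPiEquiv k g), Nat.card_fun, Nat.card_fin]

/-- Burnside's lemma for the action on `k`-tuples -/
theorem burnside_pow (k : ℕ) :
    (Fintype.card G : ℤ) ∣ ∑ g : G, ((Nat.card (MulAction.fixedBy α g) : ℕ) : ℤ) ^ k := by
  classical
  have h := MulAction.sum_card_fixedBy_eq_card_orbits_mul_card_group G (Fin k → α)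
  have h2 : ∑ g : G, ((Nat.card (MulAction.fixedBy α g) : ℕ) : ℤ) ^ k =
      ((∑ g : G, Fintype.card (MulAction.fixedBy (Fin k → α) g) : ℕ) : ℤ) := by
    push_cast
    apply Finset.sum_congr rfl
    intro g _
    rw [← Nat.card_eq_fintype_card, card_fixedPi]
    push_cast
    rfl
  rw [h2, h]
  push_cast
  exact dvd_mul_left _ _

/-- the class of functions `f` with `|G| ∣ Σ f π^k` -/
theorem blichfeldt_aux (L : Finset ℕ) : ∀ k : ℕ,
    (Fintype.card G : ℤ) ∣ ∑ g : G, (∏ l ∈ L, (((Nat.card (MulAction.fixedBy α g) : ℕ) : ℤ) - l)) *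
      ((Nat.card (MulAction.fixedBy α g) : ℕ) : ℤ) ^ k := by
  classical
  induction L using Finset.induction_on with
  | empty =>
    intro k
    simpa using burnside_pow (G := G) (α := α) k
  | insert a s ha ih =>
    intro k
    have e : ∀ g : G, (∏ l ∈ insert a s, (((Nat.card (MulAction.fixedBy α g) : ℕ) : ℤ) - l)) *
        ((Nat.card (MulAction.fixedBy α g) : ℕ) : ℤ) ^ k =
        (∏ l ∈ s, (((Nat.card (MulAction.fixedBy α g) : ℕ) : ℤ) - l)) *
          ((Nat.card (MulAction.fixedBy α g) : ℕ) : ℤ) ^ (k + 1)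
        - (a : ℤ) * ((∏ l ∈ s, (((Nat.card (MulAction.fixedBy α g) : ℕ) : ℤ) - l)) *
          ((Nat.card (MulAction.fixedBy α g) : ℕ) : ℤ) ^ k) := by
      intro g
      rw [Finset.prod_insert ha]
      ring
    rw [Finset.sum_congr rfl (fun g _ => e g), Finset.sum_sub_distrib, ← Finset.mul_sum]
    exact dvd_sub (ih (k + 1)) (Dvd.dvd.mul_left (ih k) _)

end

/-- Blichfeldt's Theorem: if a finite set `L` of natural numbers contains the number of fixed points of every non-identity element of a permutation group `G` of degree `n`, then the order of `G` divides `∏ (n - l)` over `l ∈ L`. -/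
theorem result {α : Type*} [Fintype α] [DecidableEq α] (G : Subgroup (Equiv.Perm α)) (L : Finset ℕ) (hL : ∀ g ∈ G, g ≠ 1 → Nat.card (MulAction.fixedBy α g) ∈ L) : Nat.card G ∣ ∏ l ∈ L, (Fintype.card α - l) := by
  classical
  have : Fintype G := Fintype.ofFinite G
  by_cases hbig : ∃ l ∈ L, Fintype.card α < l
  · obtain ⟨l, hl, hlt⟩ := hbig
    have : ∏ l ∈ L, (Fintype.card α - l) = 0 := by
      apply Finset.prod_eq_zero hl
      omega
    rw [this]; exact dvd_zero _
  push Not at hbig
  have h := blichfeldt_aux (G := G) (α := α) L 0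
  simp only [pow_zero, mul_one] at h
  have hsum : ∑ g : G, (∏ l ∈ L, (((Nat.card (MulAction.fixedBy α g) : ℕ) : ℤ) - l)) =
      ∏ l ∈ L, ((Fintype.card α : ℤ) - l) := by
    rw [Finset.sum_eq_single (1 : G)]
    · congr 1
      ext l
      congr 2
      have : MulAction.fixedBy α (1 : G) = Set.univ := by
        ext x; simp [MulAction.mem_fixedBy]
      rw [this, Nat.card_coe_set_eq, Set.ncard_univ, Nat.card_eq_fintype_card]
    · intro g _ hg
      have hg' : (g : Equiv.Perm α) ≠ 1 := fun h' => hg (Subtype.ext h')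
      have hmem := hL g g.2 hg'
      apply Finset.prod_eq_zero hmem
      have : MulAction.fixedBy α g = MulAction.fixedBy α (g : Equiv.Perm α) := rfl
      rw [this, sub_self]
    · intro h'; exact absurd (Finset.mem_univ _) h'
  rw [hsum] at h
  have hcast : ∏ l ∈ L, ((Fintype.card α : ℤ) - l) = ((∏ l ∈ L, (Fintype.card α - l) : ℕ) : ℤ) := by
    push_cast
    apply Finset.prod_congr rfl
    intro l hl
    rw [Nat.cast_sub (hbig l hl)]
  rw [hcast] at h
  rw [Nat.card_eq_fintype_card]
  exact Int.natCast_dvd_natCast.mp h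

end Cfsg.Agent.S0724
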