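import Cfsg.Statements.S0726
import Mathlib

set_option autoImplicit false
open Cfsg

namespace Cfsg.Agent.S0726

theorem mem_centralizer_iff_right {G : Type*} [Group G] (c : Equiv.Perm G) :
    c ∈ Subgroup.centralizer ((MulAction.toPermHom G G).range : Set (Equiv.Perm G)) ↔
      c ∈ (MulAction.toPermHom Gᵐᵒᵖ G).range := by
  constructor
  · intro hc
    refine ⟨MulOpposite.op (c 1), ?_⟩
    ext x
    have h1 := (Subgroup.mem_centralizer_iff.mp hc) (MulAction.toPermHom G G x) ⟨x, rfl⟩
    have h2 := congrArg (fun σ : Equiv.Perm G => σ 1) h1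
    simp only [Equiv.Perm.mul_apply, MulAction.toPermHom_apply, MulAction.toPerm_apply,
      smul_eq_mul, mul_one] at h2
    simp only [MulAction.toPermHom_apply, MulAction.toPerm_apply, MulOpposite.smul_eq_mul_unop,
      MulOpposite.unop_op]
    exact h2
  · rintro ⟨y, rfl⟩
    rw [Subgroup.mem_centralizer_iff]
    rintro _ ⟨x, rfl⟩
    ext z
    simp only [Equiv.Perm.mul_apply, MulAction.toPermHom_apply, MulAction.toPerm_apply,
      smul_eq_mul, MulOpposite.smul_eq_mul_unop, mul_assoc]

/-- The left and right regular permutation representations of a group are each other's centralisers in the symmetric group: the centraliser of the left regular image is the right regular image, and a transitive subgroup centralising the left regular image is the whole right regular image. -/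
theorem result {G : Type*} [Group G] : Subgroup.centralizer ((MulAction.toPermHom G G).range : Set (Equiv.Perm G)) = (MulAction.toPermHom Gᵐᵒᵖ G).range ∧ ∀ H : Subgroup (Equiv.Perm G), H ≤ Subgroup.centralizer ((MulAction.toPermHom G G).range : Set (Equiv.Perm G)) → MulAction.IsPretransitive H G → H = (MulAction.toPermHom Gᵐᵒᵖ G).range := by
  have h1 : Subgroup.centralizer ((MulAction.toPermHom G G).range : Set (Equiv.Perm G)) = (MulAction.toPermHom Gᵐᵒᵖ G).range := by
    ext c
    exact mem_centralizer_iff_right c
  refine ⟨h1, ?_⟩
  intro H hH htr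
  rw [h1] at hH
  apply le_antisymm hH
  rintro _ ⟨y, rfl⟩
  obtain ⟨h, hh⟩ := htr.exists_smul_eq (1 : G) (MulOpposite.unop y)
  obtain ⟨z, hz⟩ := hH h.2
  have hh' : (h : Equiv.Perm G) 1 = MulOpposite.unop y := hh
  rw [← hz] at hh'
  simp only [MulAction.toPermHom_apply, MulAction.toPerm_apply, MulOpposite.smul_eq_mul_unop,
    one_mul] at hh'
  have : z = y := MulOpposite.unop_injective hh'
  rw [← this, hz]
  exact h.2

end Cfsg.Agent.S0726
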