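import Cfsg.Statements.S0728
import Mathlib
import Cfsg.Agent.Lib.Helper5_Sharp3

set_option autoImplicit false
open Cfsg

namespace Cfsg.Agent.S0728

open Cfsg.Agent.Lib.Helper5_Sharp3

/-- In a sharply triply transitive group of even degree at least 6 (degree `q + 1`, `q` odd), a two-point stabiliser has at most one subgroup of order 3. -/
theorem result {α : Type*} [Fintype α] [DecidableEq α] (heven : Even (Fintype.card α)) (h6 : 6 ≤ Fintype.card α) (G : Subgroup (Equiv.Perm α)) (h3 : MulAction.IsMultiplyPretransitive G α 3) (hsharp : ∀ x : Fin 3 ↪ α, MulAction.stabilizer G x = ⊥) {a b : α} (hab : a ≠ b) (A B : Subgroup G) (hA : A ≤ MulAction.stabilizer G a ⊓ MulAction.stabilizer G b) (hB : B ≤ MulAction.stabilizer G a ⊓ MulAction.stabilizer G b) (hA3 : Nat.card A = 3) (hB3 : Nat.card B = 3) : A = B := by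
  classical
  haveI : Fintype G := Fintype.ofFinite G
  have h3n : 3 ≤ Fintype.card α := by omega
  haveI := h3
  have hle := card_Eab_le (G := G) (α := α) hsharp h3n a b hab
  have key : ∀ C : Subgroup G, C ≤ MulAction.stabilizer G a ⊓ MulAction.stabilizer G b →
      Nat.card C = 3 →
      (Finset.univ.filter (fun g : G => g ∈ C)).erase 1 = Exy (G := G) a b := by
    intro C hC hC3
    apply Finset.eq_of_subset_of_card_le
    · intro g hg
      rw [Finset.mem_erase, Finset.mem_filter] at hg
      obtain ⟨hg1, -, hgC⟩ := hg
      have hst := hC hgC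
      rw [Subgroup.mem_inf, MulAction.mem_stabilizer_iff, MulAction.mem_stabilizer_iff] at hst
      simp only [Exy, E3, Finset.mem_filter, Finset.mem_univ, true_and]
      refine ⟨⟨hg1, ?_⟩, hst.1, hst.2⟩
      have := pow_card_eq_one' (G := C) (x := ⟨g, hgC⟩)
      rw [hC3] at this
      exact congrArg Subtype.val this
    · have hcardC : (Finset.univ.filter (fun g : G => g ∈ C)).card = 3 := by
        rw [← hC3, Nat.card_eq_fintype_card]
        exact (Fintype.card_of_subtype _ (by simp)).symm
      rw [Finset.card_erase_of_mem (by simp [C.one_mem]), hcardC]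
      exact hle
  have hAB := (key A hA hA3).trans (key B hB hB3).symm
  ext g
  by_cases hg1 : g = 1
  · rw [hg1]; exact ⟨fun _ => B.one_mem, fun _ => A.one_mem⟩
  · have := Finset.ext_iff.mp hAB g
    simp only [Finset.mem_erase, Finset.mem_filter, Finset.mem_univ, true_and, hg1, ne_eq,
      not_false_eq_true] at this
    exact this

end Cfsg.Agent.S0728
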