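import Mathlib
import Cfsg.Statements.S0733

set_option autoImplicit false
open Cfsg

namespace Cfsg.Agent.S0733

open Equiv MulAction
open scoped Pointwise

theorem result {p : ℕ} [Fact p.Prime] {V : Type*} [AddCommGroup V] [Module (ZMod p) V] [Finite V] [Nontrivial V] (G₀ : Subgroup (V ≃ₗ[ZMod p] V)) (G : Subgroup (Equiv.Perm V)) (hG : ∀ σ : Equiv.Perm V, σ ∈ G ↔ ∃ g ∈ G₀, ∃ b : V, ∀ x : V, σ x = (g : V ≃ₗ[ZMod p] V) x + b) : MulAction.IsPreprimitive G V ↔ ∀ W : Submodule (ZMod p) V, (∀ g ∈ G₀, ∀ v ∈ W, (g : V ≃ₗ[ZMod p] V) v ∈ W) → W = ⊥ ∨ W = ⊤ := by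
  -- translations and linear maps as elements of G
  have htr : ∀ b : V, Equiv.addRight b ∈ G := fun b =>
    (hG _).mpr ⟨1, G₀.one_mem, b, fun x => rfl⟩
  have hlin : ∀ g ∈ G₀, (g : V ≃ₗ[ZMod p] V).toEquiv ∈ G := fun g hg =>
    (hG _).mpr ⟨g, hg, 0, fun x => by simp⟩
  constructor
  · intro hprim W hW
    have hblock : MulAction.IsBlock G (W : Set V) := by
      rw [MulAction.isBlock_iff_smul_eq_of_mem]
      intro σ a ha hσa
      obtain ⟨g, hg, b, hσ⟩ := (hG σ.1).mp σ.2
      have hσ' : ∀ x : V, σ • x = g x + b := hσ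
      have hb : b ∈ W := by
        have h1 : g a + b ∈ W := by rw [← hσ' a]; exact hσa
        have h2 : g a ∈ W := hW g hg a ha
        have : b = (g a + b) - g a := by abel
        rw [this]
        exact W.sub_mem h1 h2
      ext x
      constructor
      · rintro ⟨w, hw, rfl⟩
        show σ • w ∈ W
        rw [hσ']
        exact W.add_mem (hW g hg w hw) hb
      · intro hx
        refine ⟨g⁻¹ (x - b), hW g⁻¹ (G₀.inv_mem hg) _ (W.sub_mem hx hb), ?_⟩
        show σ • (g⁻¹ (x - b)) = x
        rw [hσ']
        have : g (g⁻¹ (x - b)) = x - b := by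
          show (g * g⁻¹) (x - b) = x - b
          rw [mul_inv_cancel]; rfl
        rw [this]; abel
    rcases hprim.isTrivialBlock_of_isBlock hblock with h | h
    · left
      rw [eq_bot_iff]
      intro w hw
      rw [Submodule.mem_bot]
      exact h hw W.zero_mem
    · right
      rw [eq_top_iff]
      intro w _
      have : w ∈ (W : Set V) := by rw [h]; exact Set.mem_univ _
      exact this
  · intro hirr
    have htrans : MulAction.IsPretransitive G V := by
      refine ⟨fun x y => ⟨⟨Equiv.addRight (y - x), htr _⟩, ?_⟩⟩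
      show x + (y - x) = y
      abel
    refine ⟨fun {B} hB => ?_⟩
    -- blocks containing zero
    have key : ∀ B : Set V, MulAction.IsBlock G B → (0 : V) ∈ B → MulAction.IsTrivialBlock B := by
      intro B hB h0
      have hadd : ∀ b ∈ B, (⟨Equiv.addRight b, htr b⟩ : G) • B = B := by
        intro b hb
        apply hB.smul_eq_of_mem h0
        show (0 : V) + b ∈ B
        rw [zero_add]; exact hb
      let A : AddSubgroup V :=
        { carrier := B
          add_mem' := by
            intro x y hx hy
            have : x + y ∈ (⟨Equiv.addRight y, htr y⟩ : G) • B := ⟨x, hx, rfl⟩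
            rwa [hadd y hy] at this
          zero_mem' := h0
          neg_mem' := by
            intro x hx
            have h1 : (0 : V) ∈ (⟨Equiv.addRight x, htr x⟩ : G) • B := by rw [hadd x hx]; exact h0
            obtain ⟨y, hy, hyx⟩ := h1
            have hyx' : y + x = 0 := hyx
            have : -x = y := by rw [eq_comm, ← add_eq_zero_iff_eq_neg]; exact hyx'
            rw [this]; exact hy }
      have hAB : ((AddSubgroup.toZModSubmodule p A : Submodule (ZMod p) V) : Set V) = B := rfl
      have hinv : ∀ g ∈ G₀, ∀ v ∈ AddSubgroup.toZModSubmodule p A,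
          (g : V ≃ₗ[ZMod p] V) v ∈ AddSubgroup.toZModSubmodule p A := by
        intro g hg v hv
        have h1 : (⟨(g : V ≃ₗ[ZMod p] V).toEquiv, hlin g hg⟩ : G) • B = B := by
          apply hB.smul_eq_of_mem h0
          show g 0 ∈ B
          rw [map_zero]; exact h0
        have h2 : g v ∈ (⟨(g : V ≃ₗ[ZMod p] V).toEquiv, hlin g hg⟩ : G) • B := ⟨v, hv, rfl⟩
        rw [h1] at h2
        exact h2
      rcases hirr _ hinv with h | h
      · left
        intro x hx y hy
        have hx' : x ∈ AddSubgroup.toZModSubmodule p A := hx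
        have hy' : y ∈ AddSubgroup.toZModSubmodule p A := hy
        rw [h, Submodule.mem_bot] at hx' hy'
        rw [hx', hy']
      · right
        rw [← hAB, h]
        rfl
    rcases B.eq_empty_or_nonempty with h | ⟨c, hc⟩
    · left; rw [h]; exact Set.subsingleton_empty
    · have h1 := key ((⟨Equiv.addRight (-c), htr _⟩ : G) • B) (hB.translate _)
        ⟨c, hc, by show c + -c = 0; abel⟩
      exact (MulAction.IsTrivialBlock.smul_iff _).mp h1

end Cfsg.Agent.S0733
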