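import Mathlib
import Cfsg.Statements.S0734

set_option autoImplicit false
open Cfsg

namespace Cfsg.Agent.S0734

open MulAction
open scoped Pointwise

theorem reach_pres {Ω : Type*} {Γ : SimpleGraph Ω} (P : Ω → Prop)
    (h : ∀ x y, Γ.Adj x y → P x → P y) : ∀ x y, Γ.Reachable x y → P x → P y := by
  rintro x y ⟨w⟩
  induction w with
  | nil => exact id
  | cons hadj _ ih => exact fun hx => ih (h _ _ hadj hx)

theorem result {G : Type*} [Group G] {Ω : Type*} [Finite Ω] [MulAction G Ω] [MulAction.IsPretransitive G Ω] [Nontrivial Ω] : MulAction.IsPreprimitive G Ω ↔ ∀ a b : Ω, a ≠ b → (SimpleGraph.fromRel fun x y : Ω => ∃ g : G, g • a = x ∧ g • b = y).Connected := by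
  constructor
  · intro hprim a b hab
    set Γ := SimpleGraph.fromRel fun x y : Ω => ∃ g : G, g • a = x ∧ g • b = y with hΓ
    have hadj : ∀ (h : G) (x y : Ω), Γ.Adj x y → Γ.Adj (h • x) (h • y) := by
      intro h x y hxy
      rw [hΓ, SimpleGraph.fromRel_adj] at hxy ⊢
      refine ⟨fun e => hxy.1 (MulAction.injective h e), ?_⟩
      rcases hxy.2 with ⟨g, rfl, rfl⟩ | ⟨g, rfl, rfl⟩
      · exact Or.inl ⟨h * g, mul_smul _ _ _, mul_smul _ _ _⟩
      · exact Or.inr ⟨h * g, mul_smul _ _ _, mul_smul _ _ _⟩
    have hreach : ∀ (h : G) (x y : Ω), Γ.Reachable x y → Γ.Reachable (h • x) (h • y) := by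
      intro h x y hxy
      let φ : Γ →g Γ := ⟨fun z => h • z, fun {u v} huv => hadj h u v huv⟩
      exact hxy.map φ
    have hblock : MulAction.IsBlock G {x | Γ.Reachable a x} := by
      rw [MulAction.isBlock_iff_smul_eq_of_mem]
      intro g x hx hgx
      have hx : Γ.Reachable a x := hx
      have hgx : Γ.Reachable a (g • x) := hgx
      have h1 : Γ.Reachable a (g • a) := hgx.trans (hreach g a x hx).symm
      ext y
      constructor
      · rintro ⟨z, hz, rfl⟩
        exact h1.trans (hreach g a z hz)
      · intro hy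
        have hy : Γ.Reachable a y := hy
        refine ⟨g⁻¹ • y, ?_, by simp⟩
        have h2 : Γ.Reachable (g⁻¹ • a) a := by
          have := hreach g⁻¹ a (g • a) h1
          rw [inv_smul_smul] at this
          exact this
        exact h2.symm.trans (hreach g⁻¹ a y hy)
    have hab' : Γ.Adj a b := by
      rw [hΓ, SimpleGraph.fromRel_adj]
      exact ⟨hab, Or.inl ⟨1, one_smul _ _, one_smul _ _⟩⟩
    rcases hprim.isTrivialBlock_of_isBlock hblock with h | h
    · exact absurd (h (SimpleGraph.Reachable.refl a) hab'.reachable) hab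
    · rw [SimpleGraph.connected_iff]
      refine ⟨fun x y => ?_, ⟨a⟩⟩
      have hx : Γ.Reachable a x := by
        have : x ∈ {x | Γ.Reachable a x} := by rw [h]; exact Set.mem_univ _
        exact this
      have hy : Γ.Reachable a y := by
        have : y ∈ {x | Γ.Reachable a x} := by rw [h]; exact Set.mem_univ _
        exact this
      exact hx.symm.trans hy
  · intro hconn
    refine ⟨fun {B} hB => ?_⟩
    by_contra hnt
    unfold MulAction.IsTrivialBlock at hnt
    push Not at hnt
    obtain ⟨⟨a, ha, b, hb, hab⟩, hnu⟩ := hnt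
    obtain ⟨c, hc⟩ : ∃ c, c ∉ B := by
      by_contra hall
      push Not at hall
      exact hnu (Set.eq_univ_of_forall hall)
    have hc' := (hconn a b hab).preconnected a c
    have hstep : ∀ x y, (SimpleGraph.fromRel fun x y : Ω => ∃ g : G, g • a = x ∧ g • b = y).Adj x y →
        x ∈ B → y ∈ B := by
      intro x y hxy hx
      rw [SimpleGraph.fromRel_adj] at hxy
      rcases hxy.2 with ⟨g, rfl, rfl⟩ | ⟨g, rfl, rfl⟩
      · have h1 : g • B = B := hB.smul_eq_of_mem ha hx
        rw [← h1]
        exact Set.smul_mem_smul_set hb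
      · have h1 : g • B = B := hB.smul_eq_of_mem hb hx
        rw [← h1]
        exact Set.smul_mem_smul_set ha
    exact hc (reach_pres (fun x => x ∈ B) hstep a c hc' ha)

end Cfsg.Agent.S0734
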