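import Mathlib
import Cfsg.Statements.S0735

set_option autoImplicit false
open Cfsg

namespace Cfsg.Agent.S0735

open Equiv MulAction
open scoped Pointwise

section main

variable {α : Type*} [Fintype α] [DecidableEq α]

/-- usable form of 2-homogeneity -/
theorem homog (G : Subgroup (Perm α)) (h2 : MulAction.IsPretransitive G (Set.powersetCard α 2))
    (a b c d : α) (hab : a ≠ b) (hcd : c ≠ d) :
    ∃ g ∈ G, (g a = c ∧ g b = d) ∨ (g a = d ∧ g b = c) := by
  let s : Set.powersetCard α 2 := ⟨{a, b}, Finset.card_pair hab⟩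
  let t : Set.powersetCard α 2 := ⟨{c, d}, Finset.card_pair hcd⟩
  obtain ⟨g, hg⟩ := h2.exists_smul_eq s t
  have h1 : (g • ({a, b} : Finset α)) = {c, d} := by
    have := congrArg (fun u : Set.powersetCard α 2 => (u : Finset α)) hg
    rw [show ((g • s : Set.powersetCard α 2) : Finset α) = g • (s : Finset α) from
      Set.powersetCard.coe_smul] at this
    exact this
  have ha : (g : Perm α) a ∈ ({c, d} : Finset α) := by
    rw [← h1]
    exact Finset.smul_mem_smul_finset (by simp)
  have hb : (g : Perm α) b ∈ ({c, d} : Finset α) := by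
    rw [← h1]
    exact Finset.smul_mem_smul_finset (by simp)
  have hne : (g : Perm α) a ≠ (g : Perm α) b := fun h => hab ((g : Perm α).injective h)
  refine ⟨(g : Perm α), g.2, ?_⟩
  simp only [Finset.mem_insert, Finset.mem_singleton] at ha hb
  rcases ha with ha | ha <;> rcases hb with hb | hb
  · exact absurd (ha.trans hb.symm) hne
  · exact Or.inl ⟨ha, hb⟩
  · exact Or.inr ⟨ha, hb⟩
  · exact absurd (ha.trans hb.symm) hne

theorem trans_of_homog (G : Subgroup (Perm α))
    (h2 : MulAction.IsPretransitive G (Set.powersetCard α 2)) (hα : 3 ≤ Fintype.card α)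
    (x y : α) : ∃ g ∈ G, g x = y := by
  by_cases hxy : x = y
  · exact ⟨1, G.one_mem, by simpa using hxy⟩
  · obtain ⟨z, hz⟩ : ∃ z, z ∉ ({x, y} : Finset α) := by
      by_contra hall
      push Not at hall
      have : Fintype.card α ≤ ({x, y} : Finset α).card := by
        rw [← Finset.card_univ]
        exact Finset.card_le_card (fun w _ => hall w)
      have h2 : ({x, y} : Finset α).card ≤ 2 := Finset.card_insert_le _ _
      omega
    simp only [Finset.mem_insert, Finset.mem_singleton, not_or] at hz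
    obtain ⟨g, hg, h | h⟩ := homog G h2 x z y z (Ne.symm hz.1) (Ne.symm hz.2)
    · exact ⟨g, hg, h.1⟩
    · obtain ⟨g', hg', h' | h'⟩ := homog G h2 x z x y (Ne.symm hz.1) hxy
      · exact ⟨g' * g, G.mul_mem hg' hg, by rw [Perm.mul_apply, h.1, h'.2]⟩
      · exact ⟨g', hg', h'.1⟩

end main

theorem result {α : Type*} [Fintype α] [DecidableEq α] (G : Subgroup (Equiv.Perm α)) (h2 : MulAction.IsPretransitive G (Set.powersetCard α 2)) (hα : 3 ≤ Fintype.card α) : (Even (Nat.card G) → MulAction.IsMultiplyPretransitive G α 2) ∧ (G ≠ ⊥ → MulAction.IsPreprimitive G α) := by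
  refine ⟨fun heven => ?_, fun _ => ?_⟩
  · -- an involution
    have : Fact (Nat.Prime 2) := ⟨Nat.prime_two⟩
    obtain ⟨t, ht⟩ := exists_prime_orderOf_dvd_card' (G := G) 2 heven.two_dvd
    have ht1 : (t : Perm α) ≠ 1 := by
      intro h
      have : t = 1 := Subtype.ext h
      rw [this, orderOf_one] at ht
      omega
    obtain ⟨a, ha⟩ : ∃ a, (t : Perm α) a ≠ a := by
      by_contra hall
      push Not at hall
      exact ht1 (Perm.ext hall)
    have htt : (t : Perm α) ((t : Perm α) a) = a := by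
      have h1 : t ^ 2 = 1 := by rw [← ht]; exact pow_orderOf_eq_one t
      have h2 : ((t : Perm α)) ^ 2 = 1 := by
        have := congrArg (fun u : G => (u : Perm α)) h1
        simpa using this
      have := congrArg (fun u : Perm α => u a) h2
      simpa [pow_two] using this
    -- every ordered pair can be moved to (a, t a)
    have key : ∀ x y : α, x ≠ y → ∃ g ∈ G, g x = a ∧ g y = (t : Perm α) a := by
      intro x y hxy
      obtain ⟨g, hg, h | h⟩ := homog G h2 x y a ((t : Perm α) a) hxy (Ne.symm ha)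
      · exact ⟨g, hg, h⟩
      · refine ⟨(t : Perm α) * g, G.mul_mem t.2 hg, ?_, ?_⟩
        · rw [Perm.mul_apply, h.1, htt]
        · rw [Perm.mul_apply, h.2]
    rw [MulAction.is_two_pretransitive_iff]
    intro x y x' y' hxy hxy'
    obtain ⟨g₁, hg₁, h1, h1'⟩ := key x y hxy
    obtain ⟨g₂, hg₂, h2', h2''⟩ := key x' y' hxy'
    refine ⟨⟨g₂⁻¹ * g₁, G.mul_mem (G.inv_mem hg₂) hg₁⟩, ?_, ?_⟩
    · show (g₂⁻¹ * g₁) x = x'
      rw [Perm.mul_apply, h1, Perm.inv_eq_iff_eq, h2']
    · show (g₂⁻¹ * g₁) y = y'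
      rw [Perm.mul_apply, h1', Perm.inv_eq_iff_eq, h2'']
  · have : MulAction.IsPretransitive G α := by
      refine ⟨fun x y => ?_⟩
      obtain ⟨g, hg, hgx⟩ := trans_of_homog G h2 hα x y
      exact ⟨⟨g, hg⟩, hgx⟩
    refine ⟨fun {B} hB => ?_⟩
    by_contra hnt
    unfold MulAction.IsTrivialBlock at hnt
    push Not at hnt
    obtain ⟨hns, hnu⟩ := hnt
    obtain ⟨a, ha, b, hb, hab⟩ := hns
    obtain ⟨c, hc⟩ : ∃ c, c ∉ B := by
      by_contra hall
      push Not at hall
      exact hnu (Set.eq_univ_of_forall hall)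
    have hac : a ≠ c := fun h => hc (h ▸ ha)
    obtain ⟨g, hg, h | h⟩ := homog G h2 a b a c hab hac
    · have h1 : (⟨g, hg⟩ : G) • B = B := hB.smul_eq_of_mem ha (by show g a ∈ B; rw [h.1]; exact ha)
      have h2 : c ∈ (⟨g, hg⟩ : G) • B := by
        rw [← h.2]; exact Set.smul_mem_smul_set hb
      rw [h1] at h2
      exact hc h2
    · have h1 : (⟨g, hg⟩ : G) • B = B := hB.smul_eq_of_mem hb (by show g b ∈ B; rw [h.2]; exact ha)
      have h2 : c ∈ (⟨g, hg⟩ : G) • B := by
        rw [← h.1]; exact Set.smul_mem_smul_set ha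
      rw [h1] at h2
      exact hc h2

end Cfsg.Agent.S0735
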