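import Mathlib
import Cfsg.Statements.S0744
import Cfsg.Agent.S0743

set_option autoImplicit false
open Cfsg

namespace Cfsg.Agent.S0744

open Equiv MulAction Cfsg.Agent.S0743

theorem dvd_card_of_orbits {K β : Type*} [Group K] [MulAction K β] [Finite β] (d : ℕ)
    (h : ∀ y : β, Nat.card (orbit K y) = d) : d ∣ Nat.card β := by
  classical
  have := Fintype.ofFinite β
  have : Fintype (orbitRel.Quotient K β) := Fintype.ofFinite _
  rw [Nat.card_congr (selfEquivSigmaOrbits' K β), Nat.card_sigma]
  apply Finset.dvd_sum
  intro ω _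
  induction ω using Quotient.inductionOn' with
  | h y =>
    rw [orbitRel.Quotient.orbit_mk, h y]

section main

variable {α : Type*} [Fintype α] [DecidableEq α]

theorem dvd_sub (K : Subgroup (Perm α)) (Y : Set α) (hinv : ∀ k ∈ K, ∀ y ∈ Y, k y ∈ Y) (d : ℕ)
    (h : ∀ y ∈ Y, Nat.card (orbit K y) = d) : d ∣ Nat.card Y := by
  let S : SubMulAction K α := ⟨Y, fun c y hy => hinv c.1 c.2 y hy⟩
  have h1 : d ∣ Nat.card S := by
    apply dvd_card_of_orbits (K := K)
    intro y
    rw [← h y.1 y.2, ← SubMulAction.val_image_orbit y]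
    exact (Nat.card_image_of_injective Subtype.val_injective _).symm
  exact h1

/-- transitivity from transitivity of pointwise stabilizers of sets of size one less -/
theorem trans_of_step (G : Subgroup (Perm α)) {k : ℕ} (hkn : k < Fintype.card α)
    (hstep : ∀ t : Finset α, t.card + 1 = k → ∀ a b : α, a ∉ t → b ∉ t →
      ∃ g ∈ G, (∀ x ∈ t, g x = x) ∧ g a = b) :
    MulAction.IsMultiplyPretransitive G α k := by
  have stepB' : ∀ (x : Fin k ↪ α) (i : Fin k) (b : α), (∀ l, l ≠ i → x l ≠ b) →
      ∃ g ∈ G, (∀ l, l ≠ i → g (x l) = x l) ∧ g (x i) = b := by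
    intro x i b hb
    have ht : ((Finset.univ.erase i).image x).card + 1 = k := by
      rw [Finset.card_image_of_injective _ x.injective,
        Finset.card_erase_of_mem (Finset.mem_univ _), Finset.card_univ, Fintype.card_fin]
      have := i.pos
      omega
    have ha : x i ∉ (Finset.univ.erase i).image x := by
      intro hm
      obtain ⟨l, hl, hxl⟩ := Finset.mem_image.mp hm
      exact (Finset.mem_erase.mp hl).1 (x.injective hxl)
    have hb' : b ∉ (Finset.univ.erase i).image x := by
      intro hm
      obtain ⟨l, hl, hxl⟩ := Finset.mem_image.mp hm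
      exact hb l (Finset.mem_erase.mp hl).1 hxl
    obtain ⟨g, hg, hgt, hgab⟩ := hstep _ ht (x i) b ha hb'
    refine ⟨g, hg, fun l hl => hgt _ ?_, hgab⟩
    exact Finset.mem_image_of_mem _ (Finset.mem_erase.mpr ⟨hl, Finset.mem_univ _⟩)
  have main_aux : ∀ n : ℕ, ∀ x y : Fin k ↪ α,
      (Finset.univ.filter (fun l => x l ≠ y l)).card = n → ∃ g ∈ G, ∀ l, g (x l) = y l := by
    intro n
    induction n using Nat.strong_induction_on with
    | _ n ih =>
      intro x y hn
      by_cases h0 : ∀ l, x l = y l
      · exact ⟨1, G.one_mem, fun l => by simpa using h0 l⟩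
      · push Not at h0
        obtain ⟨i, hi⟩ := h0
        have hred : ∃ g₁ ∈ G, (∀ l, l ≠ i → g₁ (x l) ≠ y i) ∧
            (∀ l, x l = y l → g₁ (x l) = x l) := by
          by_cases hc : ∀ l, l ≠ i → x l ≠ y i
          · exact ⟨1, G.one_mem, fun l hl => by simpa using hc l hl, fun l _ => rfl⟩
          · push Not at hc
            obtain ⟨j, hji, hxj⟩ := hc
            obtain ⟨z, hz⟩ : ∃ z, z ∉ Finset.univ.image x := by
              by_contra hall
              push Not at hall
              have : Fintype.card α ≤ (Finset.univ.image x).card := by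
                rw [← Finset.card_univ]
                exact Finset.card_le_card (fun z _ => hall z)
              have h2 : (Finset.univ.image x).card ≤ k := by
                refine Finset.card_image_le.trans ?_
                simp
              omega
            have hz' : ∀ l, x l ≠ z := fun l hl =>
              hz (hl ▸ Finset.mem_image_of_mem _ (Finset.mem_univ _))
            obtain ⟨g₁, hg₁, hg₁fix, hg₁j⟩ := stepB' x j z (fun l _ => hz' l)
            refine ⟨g₁, hg₁, fun l hl => ?_, fun l hl => ?_⟩
            · by_cases hlj : l = j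
              · subst hlj
                rw [hg₁j, ← hxj]
                exact (hz' l).symm
              · rw [hg₁fix l hlj, ← hxj]
                exact fun hh => hlj (x.injective hh)
            · have hlj : l ≠ j := by
                rintro rfl
                rw [hxj] at hl
                exact hji (y.injective hl.symm)
              exact hg₁fix l hlj
        obtain ⟨g₁, hg₁, hg₁c, hg₁agree⟩ := hred
        let x' : Fin k ↪ α := x.trans g₁.toEmbedding
        have hx' : ∀ l, x' l = g₁ (x l) := fun l => rfl
        obtain ⟨g₂, hg₂, hg₂fix, hg₂i⟩ :=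
          stepB' x' i (y i) (fun l hl => by rw [hx']; exact hg₁c l hl)
        let x'' : Fin k ↪ α := x'.trans g₂.toEmbedding
        have hx'' : ∀ l, x'' l = g₂ (x' l) := fun l => rfl
        have hsub : (Finset.univ.filter (fun l => x'' l ≠ y l)) ⊂
            (Finset.univ.filter (fun l => x l ≠ y l)) := by
          rw [Finset.ssubset_iff_of_subset]
          · refine ⟨i, by simpa using hi, ?_⟩
            simp only [Finset.mem_filter, Finset.mem_univ, true_and, not_not]
            rw [hx'', hg₂i]
          · intro l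
            simp only [Finset.mem_filter, Finset.mem_univ, true_and]
            intro hl hxy
            apply hl
            have hli : l ≠ i := by
              rintro rfl
              exact hi hxy
            rw [hx'', hg₂fix l hli, hx', hg₁agree l hxy, hxy]
        have hlt := Finset.card_lt_card hsub
        rw [hn] at hlt
        obtain ⟨g₃, hg₃, hg₃x⟩ := ih _ hlt x'' y rfl
        refine ⟨g₃ * (g₂ * g₁), G.mul_mem hg₃ (G.mul_mem hg₂ hg₁), fun l => ?_⟩
        rw [Perm.mul_apply, Perm.mul_apply]
        exact hg₃x l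
  refine ⟨fun x y => ?_⟩
  obtain ⟨g, hg, hgx⟩ := main_aux _ x y rfl
  refine ⟨⟨g, hg⟩, ?_⟩
  ext i
  exact hgx i

omit [Fintype α] [DecidableEq α] in
theorem card_stabT_eq [Finite α] (G : Subgroup (Perm α)) (s : Finset α) :
    Nat.card (stabT G s) = Nat.card (fixingSubgroup G (s : Set α)) := by
  apply Nat.card_congr
  refine ⟨fun g => ⟨⟨g.1, g.2.1⟩, ?_⟩, fun h => ⟨(h.1 : Perm α), ⟨h.1.2, ?_⟩⟩, ?_, ?_⟩
  · rw [mem_fixingSubgroup_iff]
    intro y hy
    exact g.2.2 y (Finset.mem_coe.mp hy)
  · intro x hx
    exact (mem_fixingSubgroup_iff G).mp h.2 x (Finset.mem_coe.mpr hx)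
  · intro g; rfl
  · intro h; rfl

theorem orbit_card (G : Subgroup (Perm α)) (t : Finset α) (y : α) :
    Nat.card (orbit (stabT G t) y) * Nat.card (stabT G (insert y t)) = Nat.card (stabT G t) := by
  have hle : stabT G (insert y t) ≤ stabT G t := by
    rintro g ⟨hg, hfix⟩
    exact ⟨hg, fun x hx => hfix x (Finset.mem_insert_of_mem hx)⟩
  have hstab : MulAction.stabilizer (stabT G t) y = (stabT G (insert y t)).subgroupOf (stabT G t) := by
    ext g
    rw [MulAction.mem_stabilizer_iff, Subgroup.mem_subgroupOf]
    constructor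
    · intro h
      refine ⟨g.2.1, fun x hx => ?_⟩
      rcases Finset.mem_insert.mp hx with rfl | hx
      · exact h
      · exact g.2.2 x hx
    · intro h
      exact h.2 y (Finset.mem_insert_self _ _)
  rw [Subgroup.card_eq_card_quotient_mul_card_subgroup (MulAction.stabilizer (stabT G t) y),
    ← Nat.card_congr (MulAction.orbitEquivQuotientStabilizer (stabT G t) y), hstab,
    Nat.card_congr (Subgroup.subgroupOfEquivOfLe hle).toEquiv]


theorem step (G : Subgroup (Perm α)) {k l m : ℕ} (hk : 1 < k) (hl : 1 < l)
    (hkm1 : ∀ s : Finset α, s.card = k - 1 → Nat.card (stabT G s) = l)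
    (hkm : ∀ s : Finset α, s.card = k → Nat.card (stabT G s) = m)
    (t : Finset α) (ht : t.card + 1 = k - 1) (a b : α) (ha : a ∉ t) (hb : b ∉ t) :
    ∃ g ∈ G, (∀ x ∈ t, g x = x) ∧ g a = b := by
  by_contra hne
  have hbO : b ∉ orbit (stabT G t) a := by
    rintro ⟨g, hg⟩
    exact hne ⟨g.1, g.2.1, g.2.2, hg⟩
  have hab : b ≠ a := by
    rintro rfl
    exact hbO (mem_orbit_self _)
  have hla : Nat.card (stabT G (insert a t)) = l :=
    hkm1 _ (by rw [Finset.card_insert_of_notMem ha]; exact ht)
  have hlb : Nat.card (stabT G (insert b t)) = l :=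
    hkm1 _ (by rw [Finset.card_insert_of_notMem hb]; exact ht)
  have hsa := orbit_card G t a
  have hsb := orbit_card G t b
  rw [hla] at hsa
  rw [hlb] at hsb
  have hs : Nat.card (orbit (stabT G t) a) = Nat.card (orbit (stabT G t) b) := by
    have : Nat.card (orbit (stabT G t) a) * l = Nat.card (orbit (stabT G t) b) * l := by
      rw [hsa, hsb]
    exact Nat.eq_of_mul_eq_mul_right (by omega) this
  -- the smaller group
  have hKle : stabT G (insert a t) ≤ stabT G t := by
    rintro g ⟨hg, hfix⟩
    exact ⟨hg, fun x hx => hfix x (Finset.mem_insert_of_mem hx)⟩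
  have horb : ∀ y, y ∉ insert a t → Nat.card (orbit (stabT G (insert a t)) y) * m = l := by
    intro y hy
    have := orbit_card G (insert a t) y
    rw [hla, hkm _ (by rw [Finset.card_insert_of_notMem hy, Finset.card_insert_of_notMem ha]; omega)]
      at this
    exact this
  have hm0 : m ≠ 0 := by
    rintro rfl
    have := horb b (by simp [hab, hb])
    omega
  have hbK : b ∉ insert a t := by simp [hab, hb]
  set d := Nat.card (orbit (stabT G (insert a t)) b) with hd
  have hdall : ∀ y, y ∉ insert a t → Nat.card (orbit (stabT G (insert a t)) y) = d := by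
    intro y hy
    have h1 := horb y hy
    have h2 := horb b hbK
    exact Nat.eq_of_mul_eq_mul_right (Nat.pos_of_ne_zero hm0) (h1.trans h2.symm)
  -- points of orbits avoid t
  have hnotT : ∀ c, c ∉ t → ∀ y ∈ orbit (stabT G t) c, y ∉ t := by
    rintro c hc y ⟨g, rfl⟩ hy
    have h1 : g.1 (g.1 c) = g.1 c := g.2.2 _ hy
    have h2 := g.1.injective h1
    exact hc (h2 ▸ hy)
  -- divisibility on the orbit of b
  have hd2 : d ∣ Nat.card (orbit (stabT G t) b) := by
    apply dvd_sub (stabT G (insert a t)) (orbit (stabT G t) b)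
    · rintro k hk y ⟨g, rfl⟩
      refine ⟨⟨k, hKle hk⟩ * g, ?_⟩
      show (⟨k, hKle hk⟩ * g : stabT G t) • b = k (g • b)
      rw [mul_smul]; rfl
    · intro y hy
      apply hdall
      intro hy'
      rcases Finset.mem_insert.mp hy' with rfl | hy'
      · -- a in orbit of b
        obtain ⟨g, hg⟩ := hy
        apply hbO
        refine ⟨g⁻¹, ?_⟩
        have hg' : g • b = y := hg
        show g⁻¹ • y = b
        rw [← hg', inv_smul_smul]
      · exact hnotT b hb y hy hy'
  -- divisibility on the orbit of a minus a
  have hd1 : d ∣ Nat.card ((orbit (stabT G t) a \ {a} : Set α)) := by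
    apply dvd_sub (stabT G (insert a t)) (orbit (stabT G t) a \ {a})
    · rintro k hk y ⟨⟨g, rfl⟩, hya⟩
      refine ⟨⟨⟨k, hKle hk⟩ * g, ?_⟩, ?_⟩
      · show (⟨k, hKle hk⟩ * g : stabT G t) • a = k (g • a)
        rw [mul_smul]; rfl
      intro h
      have h1 : k (g • a) = a := h
      have h2 : k a = a := hk.2 a (Finset.mem_insert_self _ _)
      have h3 : k (g • a) = k a := h1.trans h2.symm
      exact hya (k.injective h3)
    · intro y hy
      apply hdall
      intro hy'
      rcases Finset.mem_insert.mp hy' with rfl | hy'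
      · exact hy.2 rfl
      · exact hnotT a ha y hy.1 hy'
  have hcard1 : Nat.card ((orbit (stabT G t) a \ {a} : Set α)) + 1 =
      Nat.card (orbit (stabT G t) a) := by
    rw [Nat.card_coe_set_eq, Nat.card_coe_set_eq]
    exact Set.ncard_sdiff_singleton_add_one (mem_orbit_self a) (Set.toFinite _)
  have hd1' : d = 1 := by
    rw [← hs] at hd2
    rw [← hcard1] at hd2
    have := (Nat.dvd_add_right hd1).mp hd2
    exact Nat.dvd_one.mp this
  -- then the group is trivial
  have htriv : ∀ g ∈ stabT G (insert a t), g = 1 := by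
    intro g hg
    ext y
    by_cases hy : y ∈ insert a t
    · exact hg.2 y hy
    · have h1 := hdall y hy
      rw [hd1'] at h1
      have h2 : (⟨g, hg⟩ : stabT G (insert a t)) • y ∈ orbit (stabT G (insert a t)) y :=
        mem_orbit _ _
      have h3 : Subsingleton (orbit (stabT G (insert a t)) y) :=
        (Nat.card_eq_one_iff_unique.mp h1).1
      have := congrArg Subtype.val (h3.elim ⟨_, h2⟩ ⟨y, mem_orbit_self y⟩)
      exact this
  have : Nat.card (stabT G (insert a t)) = 1 := by
    rw [Nat.card_eq_one_iff_unique]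
    refine ⟨⟨fun x y => Subtype.ext ((htriv x.1 x.2).trans (htriv y.1 y.2).symm)⟩, ⟨1⟩⟩
  omega

end main

theorem result {α : Type*} [Fintype α] [DecidableEq α] (G : Subgroup (Equiv.Perm α)) {k : ℕ} (hk : 1 < k) (hkn : k ≤ Fintype.card α) (l m : ℕ) (hl : 1 < l) (hkm1 : ∀ s : Finset α, s.card = k - 1 → Nat.card (fixingSubgroup G (s : Set α)) = l) (hkm : ∀ s : Finset α, s.card = k → Nat.card (fixingSubgroup G (s : Set α)) = m) : MulAction.IsMultiplyPretransitive G α (k - 1) := by
  apply trans_of_step G (by omega)
  intro t ht a b ha hb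
  exact step G hk hl (fun s hs => by rw [card_stabT_eq]; exact hkm1 s hs)
    (fun s hs => by rw [card_stabT_eq]; exact hkm s hs) t ht a b ha hb

end Cfsg.Agent.S0744
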