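-- Statement S0749: Witt's lemma for alternating forms, via symplectic transvections.
import Cfsg.Statements.S0749
import Mathlib

set_option autoImplicit false
open Cfsg

namespace Cfsg.Agent.S0749

variable {F V : Type*} [Field F] [AddCommGroup V] [Module F V]

lemma swap_eq (B : LinearMap.BilinForm F V) (hA : B.IsAlt) (x y : V) : B y x = - B x y :=
  (hA.neg_eq x y).symm

/-- The symplectic transvection `z ↦ z + c B(z,u) u` as a linear map. -/
def tvMap (B : LinearMap.BilinForm F V) (u : V) (c : F) : V →ₗ[F] V :=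
  LinearMap.id + (c • (B.flip u)).smulRight u

lemma tvMap_apply (B : LinearMap.BilinForm F V) (u : V) (c : F) (z : V) :
    tvMap B u c z = z + (c * B z u) • u := by
  simp [tvMap, LinearMap.smulRight_apply, LinearMap.flip_apply]

lemma tvMap_comp (B : LinearMap.BilinForm F V) (hA : B.IsAlt) (u : V) (c : F) (z : V) :
    tvMap B u (-c) (tvMap B u c z) = z := by
  rw [tvMap_apply, tvMap_apply]
  simp only [map_add, map_smul, LinearMap.add_apply, LinearMap.smul_apply, hA u, smul_eq_mul,
    mul_zero, add_zero]
  rw [add_assoc, ← add_smul]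
  have : c * B z u + -c * B z u = 0 := by ring
  rw [this, zero_smul, add_zero]

/-- The symplectic transvection as a linear equivalence. -/
def tv (B : LinearMap.BilinForm F V) (hA : B.IsAlt) (u : V) (c : F) : V ≃ₗ[F] V :=
  LinearEquiv.ofLinear (tvMap B u c) (tvMap B u (-c))
    (LinearMap.ext fun z => by
      have := tvMap_comp B hA u (-c) z
      rw [neg_neg] at this
      simpa using this)
    (LinearMap.ext fun z => by simpa using tvMap_comp B hA u c z)

lemma tv_apply (B : LinearMap.BilinForm F V) (hA : B.IsAlt) (u : V) (c : F) (z : V) :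
    tv B hA u c z = z + (c * B z u) • u := tvMap_apply B u c z

lemma tv_isom (B : LinearMap.BilinForm F V) (hA : B.IsAlt) (u : V) (c : F) (z z' : V) :
    B (tv B hA u c z) (tv B hA u c z') = B z z' := by
  rw [tv_apply, tv_apply]
  simp only [map_add, map_smul, LinearMap.add_apply, LinearMap.smul_apply, hA u, smul_eq_mul,
    mul_zero, add_zero]
  rw [swap_eq B hA z' u]
  ring

/-- One transvection moves `v` to `w` when `B v w ≠ 0`. -/
lemma move_one (B : LinearMap.BilinForm F V) (hA : B.IsAlt) {ι : Type*} (y : ι → V) (v w : V)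
    (hvw : B v w ≠ 0) (hy : ∀ a, B v (y a) = B w (y a)) :
    ∃ h : V ≃ₗ[F] V, (∀ z z', B (h z) (h z') = B z z') ∧ (∀ a, h (y a) = y a) ∧ h v = w := by
  refine ⟨tv B hA (v - w) (B v w)⁻¹, tv_isom B hA _ _, ?_, ?_⟩
  · intro a
    rw [tv_apply]
    have : B (y a) (v - w) = 0 := by
      rw [map_sub, swap_eq B hA v (y a), swap_eq B hA w (y a), hy a]; ring
    rw [this, mul_zero, zero_smul, add_zero]
  · rw [tv_apply]
    have : B v (v - w) = - B v w := by rw [map_sub, hA v]; ring
    rw [this, mul_neg, inv_mul_cancel₀ hvw]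
    simp

/-- Moving `v` to `w` fixing a family, when both avoid the span. -/
lemma move_two [FiniteDimensional F V] (B : LinearMap.BilinForm F V) (hB : B.Nondegenerate)
    (hA : B.IsAlt) {ι : Type*} (y : ι → V) (v w : V)
    (hv : v ∉ Submodule.span F (Set.range y)) (hw : w ∉ Submodule.span F (Set.range y))
    (hy : ∀ a, B v (y a) = B w (y a)) :
    ∃ h : V ≃ₗ[F] V, (∀ z z', B (h z) (h z') = B z z') ∧ (∀ a, h (y a) = y a) ∧ h v = w := by
  by_cases hvw : B v w = 0
  swap
  · exact move_one B hA y v w hvw hy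
  set X := Submodule.span F (Set.range y) with hX
  -- elements of X^⊥ detecting v, w
  have hdet : ∀ t, t ∉ X → ∃ z ∈ B.orthogonal X, B z t ≠ 0 := by
    intro t ht
    by_contra hcon
    push Not at hcon
    apply ht
    rw [← LinearMap.BilinForm.orthogonal_orthogonal hB hA.isRefl X]
    rw [LinearMap.BilinForm.mem_orthogonal_iff]
    exact hcon
  obtain ⟨z₁, hz₁, hz₁v⟩ := hdet v hv
  obtain ⟨z₂, hz₂, hz₂w⟩ := hdet w hw
  obtain ⟨z', hz', hz'v, hz'w⟩ : ∃ z' ∈ B.orthogonal X, B z' v ≠ 0 ∧ B z' w ≠ 0 := by
    by_cases h1 : B z₁ w = 0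
    · by_cases h2 : B z₂ v = 0
      · refine ⟨z₁ + z₂, Submodule.add_mem _ hz₁ hz₂, ?_, ?_⟩
        · rw [map_add, LinearMap.add_apply, h2, add_zero]; exact hz₁v
        · rw [map_add, LinearMap.add_apply, h1, zero_add]; exact hz₂w
      · exact ⟨z₂, hz₂, h2, hz₂w⟩
    · exact ⟨z₁, hz₁, hz₁v, h1⟩
  have hz'y : ∀ a, B z' (y a) = 0 := by
    intro a
    have := (LinearMap.BilinForm.mem_orthogonal_iff.1 hz') (y a) (Submodule.subset_span ⟨a, rfl⟩)
    rw [swap_eq B hA (y a) z', this, neg_zero]
  obtain ⟨z, hz⟩ : ∃ z, z = v + z' := ⟨_, rfl⟩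
  have hvz : B v z ≠ 0 := by
    rw [hz, map_add, hA v, zero_add, swap_eq B hA z' v]
    exact neg_ne_zero.2 hz'v
  have hzw : B z w ≠ 0 := by
    rw [hz, map_add, LinearMap.add_apply, hvw, zero_add]
    exact hz'w
  have hy1 : ∀ a, B v (y a) = B z (y a) := by
    intro a
    rw [hz, map_add, LinearMap.add_apply, hz'y a, add_zero]
  have hy2 : ∀ a, B z (y a) = B w (y a) := fun a => (hy1 a).symm.trans (hy a)
  obtain ⟨h₁, h₁i, h₁y, h₁v⟩ := move_one B hA y v z hvz hy1
  obtain ⟨h₂, h₂i, h₂y, h₂z⟩ := move_one B hA y z w hzw hy2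
  refine ⟨h₁.trans h₂, ?_, ?_, ?_⟩
  · intro a b
    simp only [LinearEquiv.trans_apply]
    rw [h₂i, h₁i]
  · intro a
    simp only [LinearEquiv.trans_apply]
    rw [h₁y, h₂y]
  · simp only [LinearEquiv.trans_apply]
    rw [h₁v, h₂z]

/-- Witt's lemma for families. -/
lemma witt_family [FiniteDimensional F V] (B : LinearMap.BilinForm F V) (hB : B.Nondegenerate)
    (hA : B.IsAlt) : ∀ (d : ℕ) (x y : Fin d → V), LinearIndependent F x → LinearIndependent F y →
      (∀ a b, B (x a) (x b) = B (y a) (y b)) →
      ∃ g : V ≃ₗ[F] V, (∀ u v, B (g u) (g v) = B u v) ∧ ∀ a, g (x a) = y a := by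
  intro d
  induction d with
  | zero =>
    intro x y _ _ _
    exact ⟨LinearEquiv.refl F V, fun _ _ => rfl, fun a => a.elim0⟩
  | succ d ih =>
    intro x y hx hy hxy
    have hx' : LinearIndependent F (fun a : Fin d => x a.castSucc) :=
      hx.comp Fin.castSucc (Fin.castSucc_injective d)
    have hy' : LinearIndependent F (fun a : Fin d => y a.castSucc) :=
      hy.comp Fin.castSucc (Fin.castSucc_injective d)
    obtain ⟨g₀, hg₀i, hg₀⟩ := ih (fun a => x a.castSucc) (fun a => y a.castSucc) hx' hy'
      (fun a b => hxy _ _)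
    -- the image family g₀ ∘ x is linearly independent
    have hgx : LinearIndependent F (fun a => g₀ (x a)) :=
      hx.map' g₀.toLinearMap (LinearEquiv.ker g₀)
    have hw : y (Fin.last d) ∉ Submodule.span F (Set.range (fun a : Fin d => y a.castSucc)) := by
      have := hy
      rw [← Fin.snoc_init_self y] at this
      rw [linearIndependent_finSnoc] at this
      exact this.2
    have hv : g₀ (x (Fin.last d)) ∉
        Submodule.span F (Set.range (fun a : Fin d => y a.castSucc)) := by
      have := hgx
      rw [← Fin.snoc_init_self (fun a => g₀ (x a))] at this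
      rw [linearIndependent_finSnoc] at this
      have h2 := this.2
      have : (Fin.init fun a => g₀ (x a)) = fun a : Fin d => y a.castSucc := by
        funext a
        simp only [Fin.init]
        exact hg₀ a
      rw [this] at h2
      exact h2
    have hyy : ∀ a : Fin d, B (g₀ (x (Fin.last d))) (y a.castSucc) =
        B (y (Fin.last d)) (y a.castSucc) := by
      intro a
      calc B (g₀ (x (Fin.last d))) (y a.castSucc)
          = B (g₀ (x (Fin.last d))) (g₀ (x a.castSucc)) := by rw [hg₀ a]
        _ = B (x (Fin.last d)) (x a.castSucc) := hg₀i _ _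
        _ = B (y (Fin.last d)) (y a.castSucc) := hxy _ _
    obtain ⟨h, hi, hfix, hmove⟩ := move_two B hB hA (fun a : Fin d => y a.castSucc) _ _ hv hw hyy
    refine ⟨g₀.trans h, ?_, ?_⟩
    · intro u v
      simp only [LinearEquiv.trans_apply]
      rw [hi, hg₀i]
    · intro a
      simp only [LinearEquiv.trans_apply]
      induction a using Fin.lastCases with
      | last => exact hmove
      | cast a => rw [hg₀ a]; exact hfix a

/-- Witt's Lemma for alternating forms. If B is a non-degenerate alternating bilinear form on a finite-dimensional vector space V (over any field) and φ is a linear equivalence between subspaces X and Y of V preserving B, then φ extends to a B-preserving linear automorphism of V. -/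
theorem result {F V : Type*} [Field F] [AddCommGroup V] [Module F V] [FiniteDimensional F V] (B : LinearMap.BilinForm F V) (hB : B.Nondegenerate) (hA : B.IsAlt) (X Y : Submodule F V) (φ : X ≃ₗ[F] Y) (hφ : ∀ x x' : X, B (φ x : V) (φ x' : V) = B (x : V) (x' : V)) : ∃ g : V ≃ₗ[F] V, (∀ u v : V, B (g u) (g v) = B u v) ∧ ∀ x : X, g (x : V) = (φ x : V) := by
  classical
  let bX := Module.finBasis F X
  have hx : LinearIndependent F (fun a => (bX a : V)) :=
    bX.linearIndependent.map' X.subtype (Submodule.ker_subtype X)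
  have hy : LinearIndependent F (fun a => (φ (bX a) : V)) := by
    have h1 : LinearIndependent F (fun a => φ (bX a)) :=
      bX.linearIndependent.map' φ.toLinearMap (LinearEquiv.ker φ)
    exact h1.map' Y.subtype (Submodule.ker_subtype Y)
  obtain ⟨g, hgi, hg⟩ := witt_family B hB hA _ (fun a => (bX a : V)) (fun a => (φ (bX a) : V))
    hx hy (fun a b => (hφ _ _).symm)
  refine ⟨g, hgi, ?_⟩
  have : g.toLinearMap ∘ₗ X.subtype = Y.subtype ∘ₗ φ.toLinearMap := by
    apply bX.ext
    intro a
    simpa using hg a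
  intro x
  exact LinearMap.congr_fun this x

end Cfsg.Agent.S0749
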