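import Cfsg.Statements.S0753
import Mathlib
set_option autoImplicit false
open Cfsg
namespace Cfsg.Agent.S0753

theorem result {F V : Type*} [Field F] [AddCommGroup V] [Module F V] (σ : F →+* F) (hσ : σ ≠ RingHom.id F) (B : V →ₛₗ[σ] V →ₗ[F] F) (hS : B.IsSymm) (h0 : ∀ v : V, B v v = 0) : B = 0 := by
  have hex : ∃ a : F, σ a ≠ a := by
    by_contra hcon
    push Not at hcon
    exact hσ (RingHom.ext hcon)
  obtain ⟨a, ha⟩ := hex
  have h1 : ∀ u v : V, B u v + B v u = 0 := by
    intro u v
    have := h0 (u + v)
    simp only [map_add, LinearMap.add_apply, h0, zero_add, add_zero] at this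
    rw [add_comm]; exact this
  have h2 : ∀ u v : V, σ (B u v) = - B u v := by
    intro u v
    rw [hS.eq]
    have := h1 u v
    exact eq_neg_of_add_eq_zero_right this
  ext u v
  simp only [LinearMap.zero_apply]
  have h3 := h2 u (a • v)
  rw [map_smul, smul_eq_mul, map_mul, h2 u v] at h3
  have h4 : (σ a - a) * B u v = 0 := by
    have : σ a * B u v = a * B u v := by
      have := h3
      linear_combination -this
    rw [sub_mul, this, sub_self]
  rcases mul_eq_zero.mp h4 with h | h
  · exact absurd (sub_eq_zero.mp h) ha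
  · exact h

end Cfsg.Agent.S0753
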