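import Cfsg.Statements.S0754
import Mathlib
set_option autoImplicit false
open Cfsg
namespace Cfsg.Agent.S0754

theorem result {F : Type*} [Field F] [Fintype F] {q : ℕ} (hF : Fintype.card F = q ^ 2) (μ : F) (hμ : μ ≠ 0) (hμq : μ ^ q = μ) : Nat.card {x : F // x ^ (q + 1) = μ} = q + 1 := by
  classical
  have hq2 : 2 ≤ q := by
    by_contra hlt
    push Not at hlt
    have h1 : 1 < Fintype.card F := Fintype.one_lt_card
    rw [hF] at h1
    interval_cases q <;> simp at h1
  have hcardU : Nat.card Fˣ = q ^ 2 - 1 := by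
    rw [Nat.card_eq_fintype_card, Fintype.card_units, hF]
  have hfac : q ^ 2 - 1 = (q - 1) * (q + 1) := by
    obtain ⟨k, rfl⟩ : ∃ k, q = k + 1 := ⟨q - 1, by omega⟩
    simp only [Nat.add_sub_cancel]
    have : (k + 1) ^ 2 = k * (k + 1 + 1) + 1 := by ring
    rw [this]; simp
  have hker1 : Nat.card (powMonoidHom (q + 1) : Fˣ →* Fˣ).ker = q + 1 := by
    rw [IsCyclic.card_powMonoidHom_ker, hcardU, hfac]
    exact Nat.gcd_eq_right (Dvd.intro_left _ rfl)
  have hrange : Nat.card (powMonoidHom (q + 1) : Fˣ →* Fˣ).range = q - 1 := by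
    rw [IsCyclic.card_powMonoidHom_range, hcardU, hfac, Nat.gcd_eq_right (Dvd.intro_left _ rfl)]
    exact Nat.mul_div_cancel _ (by omega)
  have hker2 : Nat.card (powMonoidHom (q - 1) : Fˣ →* Fˣ).ker = q - 1 := by
    rw [IsCyclic.card_powMonoidHom_ker, hcardU, hfac]
    exact Nat.gcd_eq_right (Dvd.intro _ rfl)
  have hle : (powMonoidHom (q + 1) : Fˣ →* Fˣ).range ≤ (powMonoidHom (q - 1) : Fˣ →* Fˣ).ker := by
    rintro _ ⟨x, rfl⟩
    rw [MonoidHom.mem_ker, powMonoidHom_apply, powMonoidHom_apply, ← pow_mul, mul_comm, ← hfac,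
      ← hcardU]
    exact pow_card_eq_one'
  have heq : (powMonoidHom (q + 1) : Fˣ →* Fˣ).range = (powMonoidHom (q - 1) : Fˣ →* Fˣ).ker := by
    apply Subgroup.eq_of_le_of_card_ge hle
    rw [hrange, hker2]
  -- μ as a unit
  let u : Fˣ := Units.mk0 μ hμ
  have hu : u ∈ (powMonoidHom (q - 1) : Fˣ →* Fˣ).ker := by
    rw [MonoidHom.mem_ker, powMonoidHom_apply]
    ext
    simp only [u, Units.val_pow_eq_pow_val, Units.val_mk0, Units.val_one]
    have : μ ^ (q - 1) * μ = 1 * μ := by
      rw [← pow_succ, one_mul]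
      have : q - 1 + 1 = q := by omega
      rw [this, hμq]
    exact mul_right_cancel₀ hμ this
  rw [← heq] at hu
  obtain ⟨x0, hx0⟩ := hu
  rw [powMonoidHom_apply] at hx0
  have hx0' : (x0 : F) ^ (q + 1) = μ := by
    have := congrArg Units.val hx0
    simpa [u] using this
  refine Eq.trans ?_ hker1
  apply Nat.card_congr
  refine Equiv.ofBijective (fun x => ⟨Units.mk0 x.1 (by
      intro h0
      have := x.2
      rw [h0, zero_pow (by omega)] at this
      exact hμ this.symm) / x0, ?_⟩) ⟨?_, ?_⟩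
  · rw [MonoidHom.mem_ker, powMonoidHom_apply, div_pow, hx0]
    ext
    simp [u, x.2, hμ]
  · intro x y hxy
    simp only [Subtype.mk.injEq] at hxy
    have := div_left_injective hxy
    have := congrArg Units.val this
    simp only [Units.val_mk0] at this
    exact Subtype.ext this
  · intro k
    refine ⟨⟨((k.1 * x0 : Fˣ) : F), ?_⟩, ?_⟩
    · have hk := k.2
      rw [MonoidHom.mem_ker, powMonoidHom_apply] at hk
      rw [← Units.val_pow_eq_pow_val, mul_pow, hk, one_mul, Units.val_pow_eq_pow_val, hx0']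
    · apply Subtype.ext
      simp

end Cfsg.Agent.S0754
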