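-- Statement S0755: orthonormal bases for Hermitian forms over finite fields.
import Cfsg.Statements.S0755
import Mathlib

set_option autoImplicit false
open Cfsg

namespace Cfsg.Agent.S0755

/-- Surjectivity of the norm onto the fixed field (elementary Hilbert 90 + counting). -/
lemma norm_surj {F : Type*} [Field F] [Finite F] (σ : F →+* F) (hσ : σ ≠ RingHom.id F)
    (hσ2 : ∀ a : F, σ (σ a) = a) (c : F) (hc : c ≠ 0) (hcσ : σ c = c) :
    ∃ a : F, a * σ a = c := by
  classical
  let σu : Fˣ →* Fˣ := Units.map (σ : F →* F)
  have hσu : ∀ a : Fˣ, ((σu a : Fˣ) : F) = σ (a : F) := fun a => rfl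
  have hσu2 : ∀ a : Fˣ, σu (σu a) = a := fun a => Units.ext (by simp [hσu, hσ2])
  let N : Fˣ →* Fˣ := MonoidHom.id Fˣ * σu
  let φ : Fˣ →* Fˣ := MonoidHom.id Fˣ / σu
  have hN : ∀ a, N a = a * σu a := fun a => rfl
  have hφ : ∀ a, φ a = a / σu a := fun a => rfl
  have h1 : N.range ≤ φ.ker := by
    rintro _ ⟨a, rfl⟩
    rw [MonoidHom.mem_ker, hφ, hN, map_mul, hσu2, mul_comm a, div_self']
  have h2 : φ.range = N.ker := by
    apply le_antisymm
    · rintro _ ⟨b, rfl⟩
      rw [MonoidHom.mem_ker, hN, hφ, map_div, hσu2]
      rw [div_mul_div_comm, mul_comm, div_self']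
    · intro a ha
      rw [MonoidHom.mem_ker, hN] at ha
      have haF : (a : F) * σ (a : F) = 1 := by
        have := congrArg (fun u : Fˣ => (u : F)) ha
        simpa [hσu] using this
      -- find c with c + a σ c ≠ 0
      obtain ⟨c, hc⟩ : ∃ c : F, c + (a : F) * σ c ≠ 0 := by
        by_contra hcon
        push Not at hcon
        have ha1 : (a : F) = -1 := by
          have := hcon 1
          rw [map_one, mul_one] at this
          exact (eq_neg_of_add_eq_zero_right this)
        apply hσ
        ext x
        have := hcon x
        rw [ha1] at this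
        simp only [RingHom.id_apply]
        linear_combination -this
      let b : Fˣ := Units.mk0 _ hc
      refine ⟨b, ?_⟩
      rw [hφ]
      rw [div_eq_iff_eq_mul]
      apply Units.ext
      simp only [Units.val_mul, hσu, b, Units.val_mk0, map_add, map_mul, hσ2]
      have h3 : σ (a : F) = (a : F)⁻¹ := by
        have hane : (a : F) ≠ 0 := a.ne_zero
        field_simp
        rw [mul_comm]; exact haF
      rw [h3]
      have hane : (a : F) ≠ 0 := a.ne_zero
      field_simp
      ring
  have c1 := Subgroup.card_mul_index N.ker
  have c2 := Subgroup.card_mul_index φ.ker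
  rw [Subgroup.index_ker] at c1 c2
  rw [h2] at c2
  have hpos : 0 < Nat.card N.ker := Nat.card_pos
  have c3 : Nat.card N.range = Nat.card φ.ker := by
    have : Nat.card N.ker * Nat.card N.range = Nat.card N.ker * Nat.card φ.ker := by
      rw [c1, mul_comm, c2]
    exact Nat.eq_of_mul_eq_mul_left hpos this
  have h4 : N.range = φ.ker := Subgroup.eq_of_le_of_card_ge h1 c3.ge
  have hcu : Units.mk0 c hc ∈ φ.ker := by
    rw [MonoidHom.mem_ker, hφ, div_eq_one]
    apply Units.ext
    simp [hσu, hcσ]
  rw [← h4] at hcu
  obtain ⟨a, ha⟩ := hcu
  refine ⟨(a : F), ?_⟩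
  have := congrArg (fun u : Fˣ => (u : F)) ha
  simpa [hN, hσu] using this

variable {F V : Type*} [Field F] [AddCommGroup V] [Module F V]

/-- An orthonormal family is linearly independent. -/
lemma li_of_orthonormal (σ : F →+* F) (B : V →ₛₗ[σ] V →ₗ[F] F) {k : ℕ} (v : Fin k → V)
    (hv : ∀ i j, B (v i) (v j) = if i = j then 1 else 0) : LinearIndependent F v := by
  classical
  rw [Fintype.linearIndependent_iff]
  intro g hg j
  have := congrArg (fun x => B (v j) x) hg
  simpa [map_sum, map_smul, hv] using this

/-- Classification of Hermitian forms over finite fields: if σ is a non-identity involutive automorphism of the finite field F and B is a non-degenerate conjugate-symmetric σ-sesquilinear form on the finite-dimensional space V, then V has a B-orthonormal basis. -/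
theorem result {F V : Type*} [Field F] [Finite F] [AddCommGroup V] [Module F V] [FiniteDimensional F V] (σ : F →+* F) (hσ : σ ≠ RingHom.id F) (hσ2 : ∀ a : F, σ (σ a) = a) (B : V →ₛₗ[σ] V →ₗ[F] F) (hS : B.IsSymm) (hB : B.Nondegenerate) : ∃ b : Module.Basis (Fin (Module.finrank F V)) F V, ∀ i j, B (b i) (b j) = if i = j then 1 else 0 := by
  classical
  obtain ⟨n, hn⟩ : ∃ n, n = Module.finrank F V := ⟨_, rfl⟩
  have hsymm : ∀ x y, σ (B x y) = B y x := hS.eq
  have key : ∀ k, k ≤ n → ∃ v : Fin k → V, ∀ i j, B (v i) (v j) = if i = j then 1 else 0 := by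
    intro k
    induction k with
    | zero => intro _; exact ⟨Fin.elim0, fun i => i.elim0⟩
    | succ k ih =>
      intro hk
      obtain ⟨v, hv⟩ := ih (by omega)
      have hli := li_of_orthonormal σ B v hv
      -- projection
      let proj : V → V := fun z => ∑ i, (B (v i) z) • v i
      have hprojperp : ∀ z j, B (v j) (z - proj z) = 0 := by
        intro z j
        simp only [proj, map_sub, map_sum, map_smul, smul_eq_mul, hv, mul_ite, mul_one, mul_zero,
          Finset.sum_ite_eq, Finset.mem_univ, if_true, sub_self]
      -- a vector outside the span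
      have hspan : Submodule.span F (Set.range v) ≠ ⊤ := by
        intro htop
        have h1 := finrank_span_eq_card hli
        rw [htop, finrank_top, Fintype.card_fin] at h1
        omega
      obtain ⟨w, hw⟩ : ∃ w, w ∉ Submodule.span F (Set.range v) := by
        by_contra hcon
        push Not at hcon
        exact hspan (eq_top_iff.2 fun x _ => hcon x)
      have hprojmem : ∀ z, proj z ∈ Submodule.span F (Set.range v) := by
        intro z
        apply Submodule.sum_mem
        intro i _
        exact Submodule.smul_mem _ _ (Submodule.subset_span ⟨i, rfl⟩)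
      obtain ⟨u₀, hu₀⟩ : ∃ u₀, u₀ = w - proj w := ⟨_, rfl⟩
      have hu₀ne : u₀ ≠ 0 := by
        intro h0
        rw [hu₀, sub_eq_zero] at h0
        exact hw (h0 ▸ hprojmem w)
      have hu₀perp : ∀ j, B (v j) u₀ = 0 := fun j => hu₀ ▸ hprojperp w j
      -- there is an anisotropic vector in the perp
      obtain ⟨u, huperp, huu⟩ : ∃ u, (∀ j, B (v j) u = 0) ∧ B u u ≠ 0 := by
        by_contra hcon
        push Not at hcon
        -- B vanishes on the perp
        have hzero : ∀ u u', (∀ j, B (v j) u = 0) → (∀ j, B (v j) u' = 0) → B u u' = 0 := by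
          intro u u' hu hu'
          obtain ⟨a, ha⟩ : ∃ a : F, σ a ≠ a := by
            by_contra h
            push Not at h
            exact hσ (RingHom.ext h)
          have hsum : ∀ t : F, B (u + t • u') (u + t • u') = 0 := by
            intro t
            apply hcon
            intro j
            rw [map_add, map_smul, hu j, hu' j, smul_zero, add_zero]
          have e1 : ∀ t : F, t * B u u' + σ t * B u' u = 0 := by
            intro t
            have := hsum t
            simp only [map_add, LinearMap.add_apply, map_smulₛₗ, LinearMap.smul_apply, map_smul,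
              smul_eq_mul] at this
            rw [hcon u hu, hcon u' hu'] at this
            linear_combination this
          have e2 := e1 1
          have e3 := e1 a
          rw [map_one, one_mul, one_mul] at e2
          have e4 : (a - σ a) * B u u' = 0 := by
            linear_combination e3 - σ a * e2
          rcases mul_eq_zero.1 e4 with h | h
          · exact absurd (sub_eq_zero.1 h).symm ha
          · exact h
        apply hu₀ne
        apply hB.1
        intro z
        have hz : z = proj z + (z - proj z) := by abel
        rw [hz, map_add]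
        have h1 : B u₀ (z - proj z) = 0 := hzero _ _ hu₀perp (hprojperp z)
        have h2 : B u₀ (proj z) = 0 := by
          simp only [proj, map_sum, map_smul, smul_eq_mul]
          apply Finset.sum_eq_zero
          intro i _
          rw [← hsymm (v i) u₀, hu₀perp i, map_zero, mul_zero]
        rw [h1, h2, add_zero]
      -- normalise
      have hcfix : σ (B u u) = B u u := hsymm u u
      have hcinv : σ (B u u)⁻¹ = (B u u)⁻¹ := by rw [map_inv₀, hcfix]
      obtain ⟨a, ha⟩ := norm_surj σ hσ hσ2 (B u u)⁻¹ (inv_ne_zero huu) hcinv
      obtain ⟨u', hu'⟩ : ∃ u', u' = a • u := ⟨_, rfl⟩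
      have hu'u' : B u' u' = 1 := by
        rw [hu']
        simp only [map_smulₛₗ, LinearMap.smul_apply, RingHom.id_apply, smul_eq_mul]
        rw [← mul_assoc, ha, inv_mul_cancel₀ huu]
      have hu'perp : ∀ j, B (v j) u' = 0 := by
        intro j
        rw [hu', map_smul, huperp j, smul_zero]
      have hu'perp' : ∀ j, B u' (v j) = 0 := by
        intro j
        rw [← hsymm (v j) u', hu'perp j, map_zero]
      refine ⟨Fin.snoc v u', ?_⟩
      intro i j
      induction i using Fin.lastCases with
      | last =>
        induction j using Fin.lastCases with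
        | last => simp [hu'u']
        | cast j =>
          have : Fin.last k ≠ j.castSucc := (Fin.castSucc_lt_last j).ne'
          simp [this, hu'perp']
      | cast i =>
        induction j using Fin.lastCases with
        | last =>
          have : i.castSucc ≠ Fin.last k := (Fin.castSucc_lt_last i).ne
          simp [this, hu'perp]
        | cast j => simp [hv i j]
  obtain ⟨v, hv⟩ := key n le_rfl
  have hli := li_of_orthonormal σ B v hv
  subst hn
  refine ⟨basisOfLinearIndependentOfCardEqFinrank' v hli (by simp), ?_⟩
  intro i j
  simp [hv]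

end Cfsg.Agent.S0755
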