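import Cfsg.Statements.S0756
import Mathlib
set_option autoImplicit false
open Cfsg
namespace Cfsg.Agent.S0756

open Polynomial

variable {F V : Type*} [Field F] [Fintype F] [AddCommGroup V] [Module F V]

theorem ringChar_ne_two (h2 : (2 : F) ≠ 0) : ringChar F ≠ 2 := by
  intro h
  apply h2
  have : ((2 : ℕ) : F) = 0 := by
    rw [← h]; exact ringChar.Nat.cast_ringChar
  simpa using this

/-- `a x² + c y² = 1` is solvable -/
theorem exists_rep_one (h2 : (2 : F) ≠ 0) (a c : F) (ha : a ≠ 0) (hc : c ≠ 0) :
    ∃ x y : F, a * x ^ 2 + c * y ^ 2 = 1 := by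
  have hodd : Fintype.card F % 2 = 1 := FiniteField.odd_card_of_char_ne_two (ringChar_ne_two h2)
  have hf : (C a * X ^ 2 : F[X]).degree = 2 := by
    rw [degree_C_mul ha]; simp
  have hg : (C c * X ^ 2 - 1 : F[X]).degree = 2 := by
    have h1 : (C c * X ^ 2 : F[X]).degree = 2 := by rw [degree_C_mul hc]; simp
    rw [degree_sub_eq_left_of_degree_lt]
    · exact h1
    · rw [h1]; simp
  obtain ⟨x, y, hxy⟩ := FiniteField.exists_root_sum_quadratic hf hg hodd
  refine ⟨x, y, ?_⟩
  simp at hxy
  linear_combination hxy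

/-- every nonzero element is `s²` or `α s²` -/
theorem exists_sq_or (h2 : (2 : F) ≠ 0) (α : F) (hα : ¬ IsSquare α) (a : F) (ha : a ≠ 0) :
    ∃ s : F, s ≠ 0 ∧ (a = s ^ 2 ∨ a = α * s ^ 2) := by
  classical
  have hα0 : α ≠ 0 := by
    rintro rfl
    exact hα ⟨0, by simp⟩
  by_cases hsq : IsSquare a
  · obtain ⟨s, hs⟩ := hsq
    refine ⟨s, ?_, Or.inl (by rw [hs]; ring)⟩
    rintro rfl
    simp at hs
    exact ha hs
  · have h1 : quadraticChar F a = -1 := quadraticChar_neg_one_iff_not_isSquare.mpr hsq
    have h2' : quadraticChar F α = -1 := quadraticChar_neg_one_iff_not_isSquare.mpr hα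
    have h3 : quadraticChar F (a * α⁻¹) = 1 := by
      rw [map_mul, h1]
      have : quadraticChar F α⁻¹ = -1 := by
        have hmul : quadraticChar F α * quadraticChar F α⁻¹ = 1 := by
          rw [← map_mul, mul_inv_cancel₀ hα0, map_one]
        rw [h2'] at hmul
        linarith
      rw [this]; norm_num
    have hne : a * α⁻¹ ≠ 0 := mul_ne_zero ha (inv_ne_zero hα0)
    obtain ⟨s, hs⟩ := (quadraticChar_one_iff_isSquare hne).mp h3
    refine ⟨s, ?_, Or.inr ?_⟩
    · rintro rfl
      simp at hs
      rcases hs with h | h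
      · exact ha h
      · exact hα0 h
    · have : a = α * (a * α⁻¹) := by field_simp
      rw [this, hs]; ring

/-- the main claim on orthogonal families -/
theorem claim (h2 : (2 : F) ≠ 0) (B : LinearMap.BilinForm F V) (hS : B.IsSymm) (α : F)
    (hα : ¬ IsSquare α) : ∀ (n : ℕ) (v : Fin (n + 1) → V),
    (∀ i j, i ≠ j → B (v i) (v j) = 0) → (∀ i, B (v i) (v i) ≠ 0) →
    ∃ b : Fin (n + 1) → V, (∀ i j, i ≠ j → B (b i) (b j) = 0) ∧
      (∀ i, i ≠ Fin.last n → B (b i) (b i) = 1) ∧
      (B (b (Fin.last n)) (b (Fin.last n)) = 1 ∨ B (b (Fin.last n)) (b (Fin.last n)) = α) ∧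
      (∀ u, (∀ i, B u (v i) = 0) → ∀ i, B u (b i) = 0) := by
  intro n
  induction n with
  | zero =>
    intro v _ hv
    obtain ⟨s, hs0, hs⟩ := exists_sq_or h2 α hα (B (v 0) (v 0)) (hv 0)
    have hsub : ∀ i j : Fin (0 + 1), i = j := fun i j => by
      rw [Fin.fin_one_eq_zero i, Fin.fin_one_eq_zero j]
    refine ⟨fun _ => s⁻¹ • v 0, ?_, ?_, ?_, ?_⟩
    · intro i j hij
      exact absurd (hsub i j) hij
    · intro i hi
      exact absurd (hsub i _) hi
    · simp only [map_smul, LinearMap.smul_apply, smul_eq_mul]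
      rcases hs with h | h
      · left; rw [h]; field_simp
      · right; rw [h]; field_simp
    · intro u hu i
      simp only [map_smul, smul_eq_mul]
      rw [hu 0, mul_zero]
  | succ n ih =>
    intro v hortho hv
    set a := B (v 0) (v 0) with ha
    set c := B (v 1) (v 1) with hc
    obtain ⟨x, y, hxy⟩ := exists_rep_one h2 a c (hv 0) (hv 1)
    have h01 : B (v 0) (v 1) = 0 := hortho 0 1 (by simp)
    have h10 : B (v 1) (v 0) = 0 := hortho 1 0 (by simp)
    let w0 : V := x • v 0 + y • v 1
    let w1 : V := (c * y) • v 0 - (a * x) • v 1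
    have hw00 : B w0 w0 = 1 := by
      simp only [w0, map_add, map_smul, LinearMap.add_apply, LinearMap.smul_apply, smul_eq_mul,
        h01, h10, ← ha, ← hc]
      linear_combination hxy
    have hw01 : B w0 w1 = 0 := by
      simp only [w0, w1, map_add, map_sub, map_smul, LinearMap.add_apply, LinearMap.sub_apply,
        LinearMap.smul_apply, smul_eq_mul, h01, h10, ← ha, ← hc]
      ring
    have hw11 : B w1 w1 = a * c := by
      simp only [w1, map_sub, map_smul, LinearMap.sub_apply,
        LinearMap.smul_apply, smul_eq_mul, h01, h10, ← ha, ← hc]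
      linear_combination (a * c) * hxy
    -- tail family
    let t : Fin (n + 1) → V := Fin.cons w1 (fun i => v i.succ.succ)
    have ht0 : t 0 = w1 := rfl
    have hts : ∀ i : Fin n, t i.succ = v i.succ.succ := fun i => by simp [t]
    have hv0s : ∀ i : Fin n, B (v 0) (v i.succ.succ) = 0 := fun i => hortho _ _ (by
      intro h; exact absurd h (Fin.succ_ne_zero _).symm)
    have hv1s : ∀ i : Fin n, B (v 1) (v i.succ.succ) = 0 := fun i => hortho _ _ (by
      intro h
      have : (1 : Fin (n + 2)) = Fin.succ 0 := rfl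
      rw [this] at h
      exact absurd (Fin.succ_injective _ h) (Fin.succ_ne_zero _).symm)
    have hw1s : ∀ i : Fin n, B w1 (v i.succ.succ) = 0 := fun i => by
      simp only [w1, map_sub, map_smul, LinearMap.sub_apply, LinearMap.smul_apply, smul_eq_mul,
        hv0s, hv1s]
      ring
    have hw0s : ∀ i : Fin n, B w0 (v i.succ.succ) = 0 := fun i => by
      simp only [w0, map_add, map_smul, LinearMap.add_apply, LinearMap.smul_apply, smul_eq_mul,
        hv0s, hv1s]
      ring
    have htortho : ∀ i j, i ≠ j → B (t i) (t j) = 0 := by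
      intro i j
      refine Fin.cases ?_ (fun i' => ?_) i <;> refine Fin.cases ?_ (fun j' => ?_) j
      · intro h; exact absurd rfl h
      · intro _; rw [ht0, hts]; exact hw1s j'
      · intro _; rw [ht0, hts, ← hS.eq]; exact hw1s i'
      · intro h
        rw [hts, hts]
        apply hortho
        intro h'
        exact h (by rw [Fin.succ_injective _ (Fin.succ_injective _ h')])
    have htne : ∀ i, B (t i) (t i) ≠ 0 := by
      intro i
      refine Fin.cases ?_ (fun i' => ?_) i
      · rw [ht0, hw11]; exact mul_ne_zero (hv 0) (hv 1)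
      · rw [hts]; exact hv _
    obtain ⟨b', hb1, hb2, hb3, hb4⟩ := ih t htortho htne
    have hw0t : ∀ i, B w0 (t i) = 0 := by
      intro i
      refine Fin.cases ?_ (fun i' => ?_) i
      · rw [ht0]; exact hw01
      · rw [hts]; exact hw0s i'
    have hw0b : ∀ i, B w0 (b' i) = 0 := hb4 w0 hw0t
    refine ⟨Fin.cons w0 b', ?_, ?_, ?_, ?_⟩
    · intro i j
      refine Fin.cases ?_ (fun i' => ?_) i <;> refine Fin.cases ?_ (fun j' => ?_) j
      · intro h; exact absurd rfl h
      · intro _; simp only [Fin.cons_zero, Fin.cons_succ]; exact hw0b j'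
      · intro _; simp only [Fin.cons_zero, Fin.cons_succ]; rw [← hS.eq]; exact hw0b i'
      · intro h
        simp only [Fin.cons_succ]
        exact hb1 _ _ (fun h' => h (by rw [h']))
    · intro i
      refine Fin.cases ?_ (fun i' => ?_) i
      · intro _; simp only [Fin.cons_zero]; exact hw00
      · intro h
        simp only [Fin.cons_succ]
        apply hb2
        intro h'
        apply h
        rw [h']; rfl
    · have : Fin.last (n + 1) = (Fin.last n).succ := rfl
      rw [this]
      simp only [Fin.cons_succ]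
      exact hb3
    · intro u hu i
      have hu0 : B u w0 = 0 := by
        simp only [w0, map_add, map_smul, smul_eq_mul, hu]
        ring
      have hu1 : B u w1 = 0 := by
        simp only [w1, map_sub, map_smul, smul_eq_mul, hu]
        ring
      have hut : ∀ i, B u (t i) = 0 := by
        intro i
        refine Fin.cases ?_ (fun i' => ?_) i
        · rw [ht0]; exact hu1
        · rw [hts]; exact hu _
      refine Fin.cases ?_ (fun i' => ?_) i
      · simp only [Fin.cons_zero]; exact hu0
      · simp only [Fin.cons_succ]; exact hb4 u hut i'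

theorem result {F V : Type*} [Field F] [Finite F] [AddCommGroup V] [Module F V] [FiniteDimensional F V] (h2 : (2 : F) ≠ 0) (B : LinearMap.BilinForm F V) (hS : B.IsSymm) (hB : B.Nondegenerate) {n : ℕ} (hn : Module.finrank F V = n + 1) (α : F) (hα : ¬ IsSquare α) : ∃ b : Module.Basis (Fin (n + 1)) F V, (∀ i j, i ≠ j → B (b i) (b j) = 0) ∧ (∀ i, i ≠ Fin.last n → B (b i) (b i) = 1) ∧ (B (b (Fin.last n)) (b (Fin.last n)) = 1 ∨ B (b (Fin.last n)) (b (Fin.last n)) = α) := by
  classical
  have hfin : Fintype F := Fintype.ofFinite F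
  have hinv : Invertible (2 : F) := invertibleOfNonzero h2
  obtain ⟨v0, hv0⟩ := LinearMap.BilinForm.exists_orthogonal_basis (LinearMap.BilinForm.isSymm_iff.mp hS)
  -- reindex to Fin (n+1)
  let v : Module.Basis (Fin (n + 1)) F V := v0.reindex (finCongr hn)
  have hvortho : ∀ i j, i ≠ j → B (v i) (v j) = 0 := by
    intro i j hij
    simp only [v, Module.Basis.reindex_apply]
    apply hv0
    intro h
    exact hij ((finCongr hn).symm.injective h)
  have hvne : ∀ i, B (v i) (v i) ≠ 0 := by
    intro i
    have hO : B.IsOrthoᵢ v := by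
      intro i j hij
      exact hvortho i j hij
    exact hO.not_isOrtho_basis_self_of_separatingLeft hB.1 i
  obtain ⟨b, hb1, hb2, hb3, -⟩ := claim h2 B hS α hα n v hvortho hvne
  have hbne : ∀ i, B (b i) (b i) ≠ 0 := by
    intro i
    by_cases hi : i = Fin.last n
    · rw [hi]
      rcases hb3 with h | h
      · rw [h]; exact one_ne_zero
      · rw [h]; rintro rfl; exact hα ⟨0, by simp⟩
    · rw [hb2 i hi]; exact one_ne_zero
  have hli : LinearIndependent F b := by
    apply LinearMap.BilinForm.linearIndependent_of_iIsOrtho (B := B)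
    · intro i j hij
      exact hb1 i j hij
    · exact hbne
  have hcard : Fintype.card (Fin (n + 1)) = Module.finrank F V := by
    rw [Fintype.card_fin, hn]
  refine ⟨basisOfLinearIndependentOfCardEqFinrank hli hcard, ?_⟩
  rw [coe_basisOfLinearIndependentOfCardEqFinrank]
  exact ⟨hb1, hb2, hb3⟩

end Cfsg.Agent.S0756
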