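import Cfsg.Statements.S0757
import Mathlib
set_option autoImplicit false
open Cfsg
namespace Cfsg.Agent.S0757

open QuadraticMap in
theorem polar_wss {F : Type*} [Field F] {ι : Type*} [Fintype ι] (w : ι → F) (x y : ι → F) :
    QuadraticMap.polar (QuadraticMap.weightedSumSquares F w) x y = 2 * ∑ k, w k * (x k * y k) := by
  simp only [QuadraticMap.polar, QuadraticMap.weightedSumSquares_apply, smul_eq_mul, Pi.add_apply]
  rw [← Finset.sum_sub_distrib, ← Finset.sum_sub_distrib, Finset.mul_sum]
  apply Finset.sum_congr rfl
  intro k _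
  ring

theorem not_equiv_of_prod {F : Type*} [Field F] (h2 : (2 : F) ≠ 0) {ι : Type*} [Fintype ι] [DecidableEq ι]
    (w : ι → F) (hα : ¬ IsSquare (∏ i, w i)) :
    ¬ (QuadraticMap.weightedSumSquares F (fun _ : ι => (1 : F))).Equivalent
      (QuadraticMap.weightedSumSquares F w) := by
  rintro ⟨f⟩
  have hf : ∀ x, QuadraticMap.weightedSumSquares F w (f x) =
      QuadraticMap.weightedSumSquares F (fun _ : ι => (1 : F)) x := fun x => f.map_app x
  have hpol : ∀ x y : ι → F, ∑ k, w k * (f x k * f y k) = ∑ k, x k * y k := by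
    intro x y
    have h1 := polar_wss w (f x) (f y)
    have h2' := polar_wss (fun _ : ι => (1 : F)) x y
    have h3 : QuadraticMap.polar (QuadraticMap.weightedSumSquares F w) (f x) (f y) =
        QuadraticMap.polar (QuadraticMap.weightedSumSquares F (fun _ : ι => (1 : F))) x y := by
      simp only [QuadraticMap.polar]
      rw [← map_add, hf, hf, hf]
    rw [h1, h2'] at h3
    have := mul_left_cancel₀ h2 h3
    simpa using this
  let M : Matrix ι ι F := Matrix.of (fun k i => f (Pi.single i 1) k)
  have hM : M.transpose * Matrix.diagonal w * M = 1 := by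
    ext i j
    rw [Matrix.mul_apply]
    simp only [Matrix.mul_diagonal, Matrix.transpose_apply, M, Matrix.of_apply]
    have := hpol (Pi.single i 1) (Pi.single j 1)
    rw [Matrix.one_apply]
    have e : ∑ k, (Pi.single i (1 : F) : ι → F) k * (Pi.single j (1 : F) : ι → F) k = if i = j then 1 else 0 := by
      simp [Pi.single_apply, eq_comm]
    rw [e] at this
    rw [← this]
    apply Finset.sum_congr rfl
    intro k _
    ring
  have hdet := congrArg Matrix.det hM
  rw [Matrix.det_mul, Matrix.det_mul, Matrix.det_transpose, Matrix.det_diagonal, Matrix.det_one] at hdet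
  apply hα
  have hd : M.det ≠ 0 := by
    intro h0
    rw [h0] at hdet
    simp at hdet
  refine ⟨(M.det)⁻¹, ?_⟩
  field_simp
  linear_combination hdet

theorem result {F : Type*} [Field F] (h2 : (2 : F) ≠ 0) (n : ℕ) (α : F) (hα : ¬ IsSquare α) : ¬ (QuadraticMap.weightedSumSquares F (fun _ : Fin (n + 1) => (1 : F))).Equivalent (QuadraticMap.weightedSumSquares F (fun i : Fin (n + 1) => if i = Fin.last n then α else (1 : F))) := by
  apply not_equiv_of_prod h2
  rw [Finset.prod_ite_eq']
  simpa using hα

end Cfsg.Agent.S0757
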