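import Cfsg.Statements.S0758
import Mathlib
set_option autoImplicit false
open Cfsg
namespace Cfsg.Agent.S0758

theorem iso_iff {F : Type*} [Field F] (β : F) :
    (∃ x y : F, (x ≠ 0 ∨ y ≠ 0) ∧ x ^ 2 + β * y ^ 2 = 0) ↔ IsSquare (-β) := by
  constructor
  · rintro ⟨x, y, hxy, h⟩
    have hy : y ≠ 0 := by
      rcases hxy with hx | hy
      · intro hy
        rw [hy] at h
        simp at h
        exact hx h
      · exact hy
    refine ⟨x / y, ?_⟩
    field_simp
    linear_combination -h
  · rintro ⟨r, hr⟩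
    refine ⟨r, 1, Or.inr one_ne_zero, ?_⟩
    linear_combination -hr

theorem result {F : Type*} [Field F] [Fintype F] (h2 : (2 : F) ≠ 0) (α : F) (hα : ¬ IsSquare α) : ((∃ x y : F, (x ≠ 0 ∨ y ≠ 0) ∧ x ^ 2 + y ^ 2 = 0) ↔ Fintype.card F % 4 = 1) ∧ ((∃ x y : F, (x ≠ 0 ∨ y ≠ 0) ∧ x ^ 2 + α * y ^ 2 = 0) ↔ Fintype.card F % 4 = 3) := by
  classical
  have hch : ringChar F ≠ 2 := by
    intro h
    apply h2
    have : ((2 : ℕ) : F) = 0 := by
      rw [← h]; exact ringChar.Nat.cast_ringChar
    simpa using this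
  have hodd : Fintype.card F % 2 = 1 := FiniteField.odd_card_of_char_ne_two hch
  have hα0 : α ≠ 0 := by
    rintro rfl
    exact hα ⟨0, by simp⟩
  have hm1 : IsSquare (-1 : F) ↔ Fintype.card F % 4 ≠ 3 := FiniteField.isSquare_neg_one_iff
  constructor
  · have := iso_iff (1 : F)
    simp only [one_mul] at this
    rw [this, hm1]
    omega
  · rw [iso_iff α]
    have hχ : quadraticChar F (-α) = quadraticChar F (-1) * quadraticChar F α := by
      rw [← map_mul]; simp
    have hχα : quadraticChar F α = -1 := quadraticChar_neg_one_iff_not_isSquare.mpr hα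
    have hnα : -α ≠ 0 := neg_ne_zero.mpr hα0
    rw [← quadraticChar_one_iff_isSquare hnα, hχ, hχα]
    have h1 : (-1 : F) ≠ 0 := by simp
    rcases quadraticChar_dichotomy h1 with h | h
    · rw [h]
      have : IsSquare (-1 : F) := (quadraticChar_one_iff_isSquare h1).mp h
      have := hm1.mp this
      constructor
      · intro hh; norm_num at hh
      · intro hh; exact absurd hh this
    · rw [h]
      have : ¬ IsSquare (-1 : F) := quadraticChar_neg_one_iff_not_isSquare.mp h
      rw [hm1] at this
      push Not at this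
      simp [this]

end Cfsg.Agent.S0758
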