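-- Statement S0759: the type of the orthonormal form in even dimension.
import Cfsg.Statements.S0759
import Mathlib
import Cfsg.Agent.Lib.Helper9_QType

set_option autoImplicit false
open Cfsg

namespace Cfsg.Agent.S0759

open Module

/-- Type of the orthonormal form: over a finite field of odd order q and for m ≥ 1, the quadratic form Σ_(i<2m) x_i² on F^(2m) admits an m-dimensional subspace on which it vanishes identically if and only if it is not the case that q ≡ 3 (mod 4) and m is odd. -/
theorem result {F : Type*} [Field F] [Fintype F] (h2 : (2 : F) ≠ 0) (m : ℕ) (hm : 1 ≤ m) : (∃ W : Submodule F (Fin (2 * m) → F), Module.finrank F W = m ∧ ∀ w ∈ W, ∑ i, w i ^ 2 = 0) ↔ ¬ (Fintype.card F % 4 = 3 ∧ Odd m) := by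
  classical
  set B : LinearMap.BilinForm F (Fin (2 * m) → F) := Matrix.toBilin' 1 with hBdef
  have hBa : ∀ x y : Fin (2 * m) → F, B x y = ∑ i, x i * y i := by
    intro x y
    rw [hBdef, Matrix.toBilin'_apply']
    simp [dotProduct]
  have hmat : LinearMap.BilinForm.toMatrix (Pi.basisFun F (Fin (2 * m))) B = 1 := by
    rw [LinearMap.BilinForm.toMatrix_basisFun, hBdef, LinearMap.BilinForm.toMatrix'_toBilin']
  have hB : B.Nondegenerate := by
    apply LinearMap.BilinForm.nondegenerate_of_det_ne_zero B (Pi.basisFun F (Fin (2 * m)))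
    rw [hmat, Matrix.det_one]
    exact one_ne_zero
  have hS : B.IsSymm := by
    refine ⟨fun x y => ?_⟩
    simp only [RingHom.id_apply, hBa]
    exact Finset.sum_congr rfl fun i _ => mul_comm _ _
  have hV : finrank F (Fin (2 * m) → F) = 2 * m := by simp
  have key := Cfsg.Agent.Helper9QType.bilin_type_iff h2 m hm hV B hB hS (Pi.basisFun F (Fin (2 * m)))
  rw [hmat, Matrix.det_one, mul_one] at key
  have hti : (∃ W : Submodule F (Fin (2 * m) → F), Module.finrank F W = m ∧ ∀ w ∈ W, ∑ i, w i ^ 2 = 0) ↔
      (∃ X : Submodule F (Fin (2 * m) → F), finrank F X = m ∧ ∀ x ∈ X, ∀ y ∈ X, B x y = 0) := by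
    constructor
    · rintro ⟨W, hW, h⟩
      refine ⟨W, hW, fun x hx y hy => ?_⟩
      have h1 := h (x + y) (W.add_mem hx hy)
      have h3 := h x hx
      have h4 := h y hy
      have h5 : 2 * B x y = 0 := by
        rw [hBa]
        have : ∑ i, (x + y) i ^ 2 = ∑ i, x i ^ 2 + ∑ i, y i ^ 2 + 2 * ∑ i, x i * y i := by
          rw [Finset.mul_sum, ← Finset.sum_add_distrib, ← Finset.sum_add_distrib]
          apply Finset.sum_congr rfl
          intro i _
          simp only [Pi.add_apply]
          ring
        rw [this, h3, h4] at h1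
        linear_combination h1
      exact (mul_eq_zero.1 h5).resolve_left h2
    · rintro ⟨X, hX, h⟩
      refine ⟨X, hX, fun w hw => ?_⟩
      have := h w hw w hw
      rw [hBa] at this
      rw [← this]
      exact Finset.sum_congr rfl fun i _ => by ring
  rw [hti, key]
  rcases Nat.even_or_odd m with he | ho
  · rw [he.neg_one_pow]
    constructor
    · intro _ h
      exact (Nat.not_even_iff_odd.2 h.2) he
    · intro _
      exact ⟨1, by ring⟩
  · rw [ho.neg_one_pow, FiniteField.isSquare_neg_one_iff]
    constructor
    · intro h h'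
      exact h h'.1
    · intro h h'
      exact h ⟨h', ho⟩

end Cfsg.Agent.S0759
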