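import Cfsg.Statements.S0761
import Mathlib
set_option autoImplicit false
open Cfsg
namespace Cfsg.Agent.S0761

theorem result {F V : Type*} [Field F] [AddCommGroup V] [Module F V] [FiniteDimensional F V] (B : LinearMap.BilinForm F V) (hB : B.Nondegenerate) (hform : B.IsAlt ∨ (B.IsSymm ∧ (2 : F) ≠ 0)) (x : V) (Z : Submodule F V) (hxZ : x ∉ Z) (hx : B x x = 0) (hxz : ∀ z ∈ Z, B x z = 0) (hZ : ∀ z ∈ Z, ∀ z' ∈ Z, B z z' = 0) : ∃ y : V, B y y = 0 ∧ B x y = 1 ∧ ∀ z ∈ Z, B z y = 0 := by
  obtain ⟨f, hfx, hfZ⟩ := Submodule.exists_le_ker_of_notMem hxZ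
  let φ : Module.Dual F V := (f x)⁻¹ • f
  have hφx : φ x = 1 := by
    simp [φ, hfx]
  have hφZ : ∀ z ∈ Z, φ z = 0 := by
    intro z hz
    have : f z = 0 := hfZ hz
    simp [φ, this]
  let y0 : V := (B.flip.toDual hB.flip).symm φ
  have hy0 : ∀ v, B v y0 = φ v := by
    intro v
    have := LinearMap.BilinForm.apply_toDual_symm_apply (B := B.flip) (hB := hB.flip) φ v
    rw [LinearMap.BilinForm.flip_apply] at this
    exact this
  rcases hform with halt | ⟨hsym, h2⟩
  · refine ⟨y0, halt y0, ?_, ?_⟩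
    · rw [hy0, hφx]
    · intro z hz
      rw [hy0, hφZ z hz]
  · let c : F := - B y0 y0 / 2
    refine ⟨y0 + c • x, ?_, ?_, ?_⟩
    · have h1 : B y0 x = 1 := by
        have := hsym.eq y0 x
        rw [this, hy0, hφx]
      simp only [map_add, map_smul, LinearMap.add_apply, LinearMap.smul_apply, smul_eq_mul, hx,
        hy0 x, hφx, h1, c]
      field_simp
      ring
    · simp only [map_add, map_smul, smul_eq_mul, hx, hy0 x, hφx]
      ring
    · intro z hz
      have h1 : B z x = 0 := by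
        have := hsym.eq z x
        rw [this, hxz z hz]
      simp only [map_add, map_smul, smul_eq_mul, h1, hy0 z, hφZ z hz]
      ring

end Cfsg.Agent.S0761
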