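import Cfsg.Statements.S0763
import Mathlib
set_option autoImplicit false
open Cfsg
namespace Cfsg.Agent.S0763

variable {F V : Type*} [Field F] [CharP F 2] [AddCommGroup V] [Module F V]

theorem polar_self_zero (Q : QuadraticForm F V) (x : V) : QuadraticMap.polar ⇑Q x x = 0 := by
  rw [QuadraticMap.polar_self, two_nsmul]
  exact CharTwo.add_self_eq_zero _

theorem li_of_polar_ne_zero (Q : QuadraticForm F V) (v w : V)
    (h : QuadraticMap.polar ⇑Q v w ≠ 0) : LinearIndependent F ![v, w] := by
  rw [LinearIndependent.pair_iff]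
  intro a b hab
  have h1 : QuadraticMap.polar ⇑Q v (a • v + b • w) = 0 := by
    rw [hab]; simp [QuadraticMap.polar]
  have h2 : QuadraticMap.polar ⇑Q (a • v + b • w) w = 0 := by
    rw [hab]; simp [QuadraticMap.polar]
  rw [QuadraticMap.polar_add_right, QuadraticMap.polar_smul_right, QuadraticMap.polar_smul_right,
    polar_self_zero, smul_zero, zero_add, smul_eq_mul] at h1
  rw [QuadraticMap.polar_add_left, QuadraticMap.polar_smul_left, QuadraticMap.polar_smul_left,
    polar_self_zero, smul_zero, add_zero, smul_eq_mul] at h2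
  exact ⟨(mul_eq_zero.mp h2).resolve_right h, (mul_eq_zero.mp h1).resolve_right h⟩

theorem exists_polar_one (Q : QuadraticForm F V) (hQ : (QuadraticMap.polarBilin Q).Nondegenerate)
    (v : V) (hv : v ≠ 0) : ∃ w, QuadraticMap.polar ⇑Q v w = 1 := by
  have : ∃ w1, QuadraticMap.polar ⇑Q v w1 ≠ 0 := by
    by_contra hcon
    push Not at hcon
    apply hv
    apply hQ.1 v
    intro y
    rw [QuadraticMap.polarBilin_apply_apply]
    exact hcon y
  obtain ⟨w1, hw1⟩ := this
  refine ⟨(QuadraticMap.polar ⇑Q v w1)⁻¹ • w1, ?_⟩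
  rw [QuadraticMap.polar_smul_right, smul_eq_mul, inv_mul_cancel₀ hw1]

theorem result {F V : Type*} [Field F] [Finite F] [CharP F 2] [AddCommGroup V] [Module F V] (Q : QuadraticForm F V) (h2 : Module.finrank F V = 2) (hQ : (QuadraticMap.polarBilin Q).Nondegenerate) : (∃ v w : V, LinearIndependent F ![v, w] ∧ Q v = 0 ∧ Q w = 0 ∧ QuadraticMap.polar Q v w = 1) ∨ (∃ (v w : V) (μ : F), LinearIndependent F ![v, w] ∧ (∀ x : F, x ^ 2 + x + μ ≠ 0) ∧ Q v = 1 ∧ Q w = μ ∧ QuadraticMap.polar Q v w = 1) := by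
  classical
  have hfin : Fintype F := Fintype.ofFinite F
  have hch : ringChar F = 2 := (ringChar.eq F 2).symm ▸ rfl
  by_cases hiso : ∃ v : V, v ≠ 0 ∧ Q v = 0
  · left
    obtain ⟨v, hv, hQv⟩ := hiso
    obtain ⟨w2, hw2⟩ := exists_polar_one Q hQ v hv
    refine ⟨v, w2 + Q w2 • v, ?_, hQv, ?_, ?_⟩
    · apply li_of_polar_ne_zero Q
      rw [QuadraticMap.polar_add_right, QuadraticMap.polar_smul_right, polar_self_zero, hw2]
      simp
    · rw [QuadraticMap.map_add (⇑Q) w2, QuadraticMap.map_smul, hQv, QuadraticMap.polar_smul_right,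
        QuadraticMap.polar_comm (⇑Q) w2 v, hw2]
      simp only [smul_eq_mul, mul_zero, add_zero, mul_one]
      exact CharTwo.add_self_eq_zero _
    · rw [QuadraticMap.polar_add_right, QuadraticMap.polar_smul_right, polar_self_zero, hw2]
      simp
  · right
    push Not at hiso
    have hnt : Nontrivial V := Module.nontrivial_of_finrank_pos (R := F) (by omega)
    obtain ⟨v0, hv0⟩ := exists_ne (0 : V)
    have hQv0 : Q v0 ≠ 0 := hiso v0 hv0
    obtain ⟨s, hs⟩ := FiniteField.isSquare_of_char_two hch (Q v0)⁻¹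
    have hs0 : s ≠ 0 := by
      rintro rfl
      simp at hs
      exact hQv0 hs
    have hv : s • v0 ≠ 0 := smul_ne_zero hs0 hv0
    have hQv : Q (s • v0) = 1 := by
      rw [QuadraticMap.map_smul, ← hs, smul_eq_mul, inv_mul_cancel₀ hQv0]
    obtain ⟨w, hw⟩ := exists_polar_one Q hQ (s • v0) hv
    have hli : LinearIndependent F ![s • v0, w] :=
      li_of_polar_ne_zero Q _ _ (by rw [hw]; exact one_ne_zero)
    refine ⟨s • v0, w, Q w, hli, ?_, hQv, rfl, hw⟩
    intro x hx
    have hne : x • (s • v0) + w ≠ 0 := by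
      intro h0
      rw [LinearIndependent.pair_iff] at hli
      have := (hli x 1 (by rw [one_smul]; exact h0)).2
      exact one_ne_zero this
    apply hiso _ hne
    rw [QuadraticMap.map_add (⇑Q) (x • (s • v0)) w, QuadraticMap.map_smul, hQv,
      QuadraticMap.polar_smul_left, hw]
    simp only [smul_eq_mul, mul_one]
    linear_combination hx

end Cfsg.Agent.S0763
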