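import Cfsg.Statements.S0766
import Mathlib
import Cfsg.Agent.Lib.Helper1_Symp
set_option autoImplicit false
open Cfsg
namespace Cfsg.Agent.S0766

open Cfsg.Agent.Lib.Helper1_Symp Matrix

variable {F : Type*} [Field F] {m : ℕ}

/-- the set of symplectic transvections, as elements of the symplectic group -/
abbrev TS (m : ℕ) (F : Type*) [Field F] : Set (Matrix.symplecticGroup (Fin m) F) :=
  {A : Matrix.symplecticGroup (Fin m) F | ∃ (w : Fin m ⊕ Fin m → F) (c : F),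
    (A : Matrix (Fin m ⊕ Fin m) (Fin m ⊕ Fin m) F) = Cfsg.sympTransvection m w c}

def tv (w : Fin m ⊕ Fin m → F) (c : F) : Matrix.symplecticGroup (Fin m) F :=
  ⟨sympTransvection m w c, sympTransvection_mem w c⟩

theorem tv_mem (w : Fin m ⊕ Fin m → F) (c : F) : tv w c ∈ Subgroup.closure (TS m F) :=
  Subgroup.subset_closure ⟨w, c, rfl⟩

theorem step1 (u u' : Fin m ⊕ Fin m → F) (h : sympForm m F u u' ≠ 0) :
    ∃ A ∈ Subgroup.closure (TS m F),
      (A : Matrix (Fin m ⊕ Fin m) (Fin m ⊕ Fin m) F) *ᵥ u = u' := by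
  refine ⟨tv (u - u') (sympForm m F u u')⁻¹, tv_mem _ _, ?_⟩
  show sympTransvection m (u - u') (sympForm m F u u')⁻¹ *ᵥ u = u'
  rw [sympTransvection_mulVec, sympForm_sub_right, sympForm_self, zero_sub, mul_neg,
    inv_mul_cancel₀ h]
  module

theorem comp_reach {x y z : Fin m ⊕ Fin m → F}
    (h1 : ∃ A ∈ Subgroup.closure (TS m F), (A : Matrix (Fin m ⊕ Fin m) (Fin m ⊕ Fin m) F) *ᵥ x = y)
    (h2 : ∃ A ∈ Subgroup.closure (TS m F), (A : Matrix (Fin m ⊕ Fin m) (Fin m ⊕ Fin m) F) *ᵥ y = z) :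
    ∃ A ∈ Subgroup.closure (TS m F), (A : Matrix (Fin m ⊕ Fin m) (Fin m ⊕ Fin m) F) *ᵥ x = z := by
  obtain ⟨A, hA, hAx⟩ := h1
  obtain ⟨B, hB, hBy⟩ := h2
  refine ⟨B * A, Subgroup.mul_mem _ hB hA, ?_⟩
  show (B.1 * A.1) *ᵥ x = z
  rw [← Matrix.mulVec_mulVec, hAx, hBy]

theorem stage1 (u v u' v' : Fin m ⊕ Fin m → F) (h : sympForm m F u v = 1)
    (h' : sympForm m F u' v' = 1) :
    ∃ A ∈ Subgroup.closure (TS m F),
      (A : Matrix (Fin m ⊕ Fin m) (Fin m ⊕ Fin m) F) *ᵥ u = u' := by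
  by_cases h0 : sympForm m F u u' = 0
  · -- find z
    have key : ∃ z, sympForm m F u z ≠ 0 ∧ sympForm m F z u' ≠ 0 := by
      by_cases h1 : sympForm m F v u' = 0
      · by_cases h2 : sympForm m F u v' = 0
        · refine ⟨v + v', ?_, ?_⟩
          · rw [sympForm_add_right, h, h2]; simp
          · rw [sympForm_add_left, h1, sympForm_swap v' u', h']; simp
        · refine ⟨v', h2, ?_⟩
          rw [sympForm_swap v' u', h']; simp
      · exact ⟨v, by rw [h]; simp, h1⟩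
    obtain ⟨z, hz1, hz2⟩ := key
    exact comp_reach (step1 u z hz1) (step1 z u' hz2)
  · exact step1 u u' h0

theorem pairstep (u v v' : Fin m ⊕ Fin m → F) (h : sympForm m F u v = 1)
    (h' : sympForm m F u v' = 1) (hne : sympForm m F v v' ≠ 0) :
    ∃ A ∈ Subgroup.closure (TS m F),
      (A : Matrix (Fin m ⊕ Fin m) (Fin m ⊕ Fin m) F) *ᵥ u = u ∧
      (A : Matrix (Fin m ⊕ Fin m) (Fin m ⊕ Fin m) F) *ᵥ v = v' := by
  refine ⟨tv (v - v') (sympForm m F v v')⁻¹, tv_mem _ _, ?_, ?_⟩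
  · show sympTransvection m (v - v') (sympForm m F v v')⁻¹ *ᵥ u = u
    rw [sympTransvection_mulVec, sympForm_sub_right, h, h']
    simp
  · show sympTransvection m (v - v') (sympForm m F v v')⁻¹ *ᵥ v = v'
    rw [sympTransvection_mulVec, sympForm_sub_right, sympForm_self, zero_sub, mul_neg,
      inv_mul_cancel₀ hne]
    module

theorem comp_pair {u x y z : Fin m ⊕ Fin m → F}
    (h1 : ∃ A ∈ Subgroup.closure (TS m F), (A : Matrix (Fin m ⊕ Fin m) (Fin m ⊕ Fin m) F) *ᵥ u = u ∧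
      (A : Matrix (Fin m ⊕ Fin m) (Fin m ⊕ Fin m) F) *ᵥ x = y)
    (h2 : ∃ A ∈ Subgroup.closure (TS m F), (A : Matrix (Fin m ⊕ Fin m) (Fin m ⊕ Fin m) F) *ᵥ u = u ∧
      (A : Matrix (Fin m ⊕ Fin m) (Fin m ⊕ Fin m) F) *ᵥ y = z) :
    ∃ A ∈ Subgroup.closure (TS m F), (A : Matrix (Fin m ⊕ Fin m) (Fin m ⊕ Fin m) F) *ᵥ u = u ∧
      (A : Matrix (Fin m ⊕ Fin m) (Fin m ⊕ Fin m) F) *ᵥ x = z := by
  obtain ⟨A, hA, hAu, hAx⟩ := h1
  obtain ⟨B, hB, hBu, hBy⟩ := h2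
  refine ⟨B * A, Subgroup.mul_mem _ hB hA, ?_, ?_⟩
  · show (B.1 * A.1) *ᵥ u = u
    rw [← Matrix.mulVec_mulVec, hAu, hBu]
  · show (B.1 * A.1) *ᵥ x = z
    rw [← Matrix.mulVec_mulVec, hAx, hBy]

theorem stage2 (u v v' : Fin m ⊕ Fin m → F) (h : sympForm m F u v = 1)
    (h' : sympForm m F u v' = 1) :
    ∃ A ∈ Subgroup.closure (TS m F),
      (A : Matrix (Fin m ⊕ Fin m) (Fin m ⊕ Fin m) F) *ᵥ u = u ∧
      (A : Matrix (Fin m ⊕ Fin m) (Fin m ⊕ Fin m) F) *ᵥ v = v' := by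
  by_cases h0 : sympForm m F v v' = 0
  · have e1 : sympForm m F u (u + v) = 1 := by
      rw [sympForm_add_right, sympForm_self, h, zero_add]
    have e2 : sympForm m F v (u + v) ≠ 0 := by
      rw [sympForm_add_right, sympForm_self, sympForm_swap v u, h]; simp
    have e3 : sympForm m F (u + v) v' ≠ 0 := by
      rw [sympForm_add_left, h', h0]; simp
    exact comp_pair (pairstep u v (u + v) h e1 e2) (pairstep u (u + v) v' e1 h' e3)
  · exact pairstep u v v' h h' h0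

theorem result {F : Type*} [Field F] (m : ℕ) (u v u' v' : Fin m ⊕ Fin m → F) (h : Cfsg.sympForm m F u v = 1) (h' : Cfsg.sympForm m F u' v' = 1) : ∃ A ∈ Subgroup.closure {A : Matrix.symplecticGroup (Fin m) F | ∃ (w : Fin m ⊕ Fin m → F) (c : F), (A : Matrix (Fin m ⊕ Fin m) (Fin m ⊕ Fin m) F) = Cfsg.sympTransvection m w c}, (A : Matrix (Fin m ⊕ Fin m) (Fin m ⊕ Fin m) F).mulVec u = u' ∧ (A : Matrix (Fin m ⊕ Fin m) (Fin m ⊕ Fin m) F).mulVec v = v' := by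
  obtain ⟨A, hA, hAu⟩ := stage1 u v u' v' h h'
  have hAv : sympForm m F u' (A.1 *ᵥ v) = 1 := by
    rw [← hAu, (mem_symplecticGroup_iff_preserves A.1).mp A.2, h]
  obtain ⟨B, hB, hBu, hBv⟩ := stage2 u' (A.1 *ᵥ v) v' hAv h'
  refine ⟨B * A, Subgroup.mul_mem _ hB hA, ?_, ?_⟩
  · show (B.1 * A.1) *ᵥ u = u'
    rw [← Matrix.mulVec_mulVec, hAu, hBu]
  · show (B.1 * A.1) *ᵥ v = v'
    rw [← Matrix.mulVec_mulVec, hBv]

end Cfsg.Agent.S0766
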