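import Cfsg.Statements.S0768
import Mathlib
import Cfsg.Agent.Lib.Helper1_Symp3
set_option autoImplicit false
open Cfsg
namespace Cfsg.Agent.S0768

open Cfsg.Agent.Lib.Helper1_Symp Cfsg.Agent.Lib.Helper1_Symp2 Cfsg.Agent.Lib.Helper1_Symp3 Matrix
open scoped LinearAlgebra.Projectivization Pointwise

variable {F : Type*} [Field F] {m : ℕ}

/-- a symplectic matrix as an element of `spGL` -/
noncomputable def toG (A : Matrix.symplecticGroup (Fin m) F) : ↥(spGL m F) :=
  ⟨Matrix.GeneralLinearGroup.mkOfDetNeZero A.1 (SymplecticGroup.symplectic_det A.2).ne_zero, by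
    intro u v
    exact (mem_symplecticGroup_iff_preserves A.1).mp A.2 u v⟩

theorem toG_smul (A : Matrix.symplecticGroup (Fin m) F) (x : Fin m ⊕ Fin m → F) (hx : x ≠ 0)
    (hAx : A.1 *ᵥ x ≠ 0) :
    toG A • Projectivization.mk F x hx = Projectivization.mk F (A.1 *ᵥ x) hAx := rfl

theorem mulVec_ne_zero (A : Matrix.symplecticGroup (Fin m) F) (x : Fin m ⊕ Fin m → F)
    (hx : x ≠ 0) : A.1 *ᵥ x ≠ 0 := by
  intro h
  obtain ⟨w, hw⟩ := exists_partner x hx
  have := (mem_symplecticGroup_iff_preserves A.1).mp A.2 x w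
  rw [h, sympForm_zero_left, hw] at this
  exact zero_ne_one this

theorem mk_smul_eq (x : Fin m ⊕ Fin m → F) (hx : x ≠ 0) (c : F) (hc : c ≠ 0) :
    Projectivization.mk F (c • x) (smul_ne_zero hc hx) = Projectivization.mk F x hx := by
  rw [Projectivization.mk_eq_mk_iff']
  exact ⟨c, rfl⟩

/-- pair transitivity, with scalars -/
theorem exists_fix_map (x y z : Fin m ⊕ Fin m → F) (hy : sympForm m F x y ≠ 0)
    (hz : sympForm m F x z ≠ 0) :
    ∃ A : Matrix.symplecticGroup (Fin m) F, A.1 *ᵥ x = x ∧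
      A.1 *ᵥ ((sympForm m F x y)⁻¹ • y) = (sympForm m F x z)⁻¹ • z := by
  have h1 : sympForm m F x ((sympForm m F x y)⁻¹ • y) = 1 := by
    rw [sympForm_smul_right, inv_mul_cancel₀ hy]
  have h2 : sympForm m F x ((sympForm m F x z)⁻¹ • z) = 1 := by
    rw [sympForm_smul_right, inv_mul_cancel₀ hz]
  obtain ⟨A, -, hA1, hA2, -⟩ := exists_closure_map_pair (∅ : Set (Fin m ⊕ Fin m → F)) x _ x _
    (by intro t ht; exact absurd ht (Set.notMem_empty t))
    (by intro t ht; exact absurd ht (Set.notMem_empty t))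
    (by intro t ht; exact absurd ht (Set.notMem_empty t))
    (by intro t ht; exact absurd ht (Set.notMem_empty t)) h1 h2
  exact ⟨A, hA1, hA2⟩

theorem pretrans (hm : 1 ≤ m) : MulAction.IsPretransitive ↥(spGL m F) (ℙ F (Fin m ⊕ Fin m → F)) := by
  constructor
  intro a b
  induction a using Projectivization.ind with | _ x hx =>
  induction b using Projectivization.ind with | _ y hy =>
  obtain ⟨x', hx'⟩ := exists_partner x hx
  obtain ⟨y', hy'⟩ := exists_partner y hy
  obtain ⟨A, -, hA1, -, -⟩ := exists_closure_map_pair (∅ : Set (Fin m ⊕ Fin m → F)) x x' y y'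
    (by intro t ht; exact absurd ht (Set.notMem_empty t))
    (by intro t ht; exact absurd ht (Set.notMem_empty t))
    (by intro t ht; exact absurd ht (Set.notMem_empty t))
    (by intro t ht; exact absurd ht (Set.notMem_empty t)) hx' hy'
  refine ⟨toG A, ?_⟩
  rw [toG_smul A x hx (mulVec_ne_zero A x hx)]
  congr 1

/-- Fact 1 -/
theorem fact1 {B : Set (ℙ F (Fin m ⊕ Fin m → F))} (hB : MulAction.IsBlock ↥(spGL m F) B)
    (x y z : Fin m ⊕ Fin m → F) (hx : x ≠ 0) (hy : y ≠ 0) (hz : z ≠ 0)
    (hxB : Projectivization.mk F x hx ∈ B) (hyB : Projectivization.mk F y hy ∈ B)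
    (hxy : sympForm m F x y ≠ 0) (hxz : sympForm m F x z ≠ 0) :
    Projectivization.mk F z hz ∈ B := by
  obtain ⟨A, hA1, hA2⟩ := exists_fix_map x y z hxy hxz
  have hfix : toG A • Projectivization.mk F x hx ∈ B := by
    rw [toG_smul A x hx (mulVec_ne_zero A x hx)]
    have : Projectivization.mk F (A.1 *ᵥ x) (mulVec_ne_zero A x hx) = Projectivization.mk F x hx := by
      congr 1
    rw [this]; exact hxB
  have hBB : toG A • B = B := hB.smul_eq_of_mem hxB hfix
  have hy' : (sympForm m F x y)⁻¹ • y ≠ 0 := smul_ne_zero (inv_ne_zero hxy) hy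
  have hz' : (sympForm m F x z)⁻¹ • z ≠ 0 := smul_ne_zero (inv_ne_zero hxz) hz
  have hyB' : Projectivization.mk F ((sympForm m F x y)⁻¹ • y) hy' ∈ B := by
    rw [mk_smul_eq y hy _ (inv_ne_zero hxy)]; exact hyB
  have := Set.smul_mem_smul_set (a := toG A) hyB'
  rw [hBB, toG_smul A _ hy' (mulVec_ne_zero A _ hy')] at this
  have e : Projectivization.mk F (A.1 *ᵥ ((sympForm m F x y)⁻¹ • y)) (mulVec_ne_zero A _ hy') =
      Projectivization.mk F ((sympForm m F x z)⁻¹ • z) hz' := by
    congr 1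
  rw [e, mk_smul_eq z hz _ (inv_ne_zero hxz)] at this
  exact this

theorem result {F : Type*} [Field F] [Finite F] (m : ℕ) (hm : 1 ≤ m) : MulAction.IsPreprimitive ↥(Cfsg.spGL m F) (ℙ F (Fin m ⊕ Fin m → F)) := by
  classical
  have hpt := pretrans (F := F) hm
  -- base point
  let i0 : Fin m := ⟨0, by omega⟩
  let u0 : Fin m ⊕ Fin m → F := Pi.single (Sum.inl i0) 1
  have hu0 : u0 ≠ 0 := by
    intro h
    have := congrFun h (Sum.inl i0)
    simp [u0] at this
  apply MulAction.IsPreprimitive.of_isTrivialBlock_base (Projectivization.mk F u0 hu0)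
  intro B haB hB
  by_cases hsub : B.Subsingleton
  · exact Or.inl hsub
  right
  rw [Set.not_subsingleton_iff] at hsub
  obtain ⟨b, hbB, hba⟩ : ∃ b ∈ B, b ≠ Projectivization.mk F u0 hu0 := by
    obtain ⟨p, hp, p', hp', hne⟩ := hsub
    by_cases h : p = Projectivization.mk F u0 hu0
    · exact ⟨p', hp', fun h' => hne (h.trans h'.symm)⟩
    · exact ⟨p, hp, h⟩
  induction b using Projectivization.ind with | _ w hw =>
  -- find a point of B non-orthogonal to u0
  have hex : ∃ y, ∃ hy : y ≠ 0, Projectivization.mk F y hy ∈ B ∧ sympForm m F u0 y ≠ 0 := by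
    by_cases h0 : sympForm m F u0 w = 0
    · have hind : ∀ c : F, c • u0 ≠ w := by
        intro c hc
        apply hba
        rw [Projectivization.mk_eq_mk_iff']
        exact ⟨c, hc⟩
      obtain ⟨z, hz1, hz2⟩ := exists_orth_nonorth u0 w hu0 hw hind
      -- transvection along z
      let A : Matrix.symplecticGroup (Fin m) F := tv z 1
      have hAw : A.1 *ᵥ w = w := by
        show sympTransvection m z 1 *ᵥ w = w
        rw [sympTransvection_mulVec, hz1]; simp
      have hAu : A.1 *ᵥ u0 = u0 + (sympForm m F u0 z) • z := by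
        show sympTransvection m z 1 *ᵥ u0 = _
        rw [sympTransvection_mulVec, one_mul]
      have hfix : toG A • Projectivization.mk F w hw ∈ B := by
        rw [toG_smul A w hw (mulVec_ne_zero A w hw)]
        have : Projectivization.mk F (A.1 *ᵥ w) (mulVec_ne_zero A w hw) = Projectivization.mk F w hw := by
          congr 1
        rw [this]; exact hbB
      have hBB : toG A • B = B := hB.smul_eq_of_mem hbB hfix
      have := Set.smul_mem_smul_set (a := toG A) haB
      rw [hBB, toG_smul A u0 hu0 (mulVec_ne_zero A u0 hu0)] at this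
      refine ⟨A.1 *ᵥ u0, mulVec_ne_zero A u0 hu0, this, ?_⟩
      rw [hAu, sympForm_add_right, sympForm_self, sympForm_smul_right, zero_add]
      exact mul_ne_zero hz2 hz2
    · exact ⟨w, hw, hbB, h0⟩
  obtain ⟨y, hy, hyB, hu0y⟩ := hex
  rw [Set.eq_univ_iff_forall]
  intro c
  induction c using Projectivization.ind with | _ z hz =>
  by_cases hu0z : sympForm m F u0 z = 0
  · obtain ⟨t, ht1, ht2⟩ := exists_common_nonorth u0 z hu0 hz
    have ht0 : t ≠ 0 := by
      rintro rfl
      exact ht1 (sympForm_zero_right _)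
    have htB : Projectivization.mk F t ht0 ∈ B := fact1 hB u0 y t hu0 hy ht0 haB hyB hu0y ht1
    have htu : sympForm m F t u0 ≠ 0 := by
      rw [sympForm_swap]; exact neg_ne_zero.mpr ht1
    have htz : sympForm m F t z ≠ 0 := by
      rw [sympForm_swap]; exact neg_ne_zero.mpr ht2
    exact fact1 hB t u0 z ht0 hu0 hz htB haB htu htz
  · exact fact1 hB u0 y z hu0 hy hz haB hyB hu0y hu0z

end Cfsg.Agent.S0768
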