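import Cfsg.Statements.S0769
import Mathlib
set_option autoImplicit false
open Cfsg
namespace Cfsg.Agent.S0769

open Matrix

theorem card_cell {F : Type*} [Field F] [Fintype F] {n : ℕ} (i j : Fin n) :
    Nat.card {x : F // (i < j → x = 0) ∧ (i = j → x ≠ 0)} =
      (if j = i then Fintype.card F - 1 else 1) * (if j < i then Fintype.card F else 1) := by
  classical
  rcases lt_trichotomy i j with h | h | h
  · have h1 : ¬ j = i := fun e => by rw [e] at h; exact lt_irrefl _ h
    have h2 : ¬ j < i := not_lt.mpr h.le
    rw [if_neg h1, if_neg h2, mul_one]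
    have : {x : F // (i < j → x = 0) ∧ (i = j → x ≠ 0)} ≃ Unit :=
      { toFun := fun _ => (), invFun := fun _ => ⟨0, fun _ => rfl, fun e => absurd e.symm h1⟩,
        left_inv := fun x => Subtype.ext (x.2.1 h).symm, right_inv := fun _ => rfl }
    rw [Nat.card_congr this]; simp
  · subst h
    rw [if_pos rfl, if_neg (lt_irrefl _), mul_one]
    have : {x : F // (i < i → x = 0) ∧ (i = i → x ≠ 0)} ≃ Fˣ :=
      { toFun := fun x => Units.mk0 x.1 (x.2.2 rfl),
        invFun := fun u => ⟨u.1, fun h => absurd h (lt_irrefl _), fun _ => u.ne_zero⟩,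
        left_inv := fun x => Subtype.ext rfl, right_inv := fun u => Units.ext rfl }
    rw [Nat.card_congr this, Nat.card_eq_fintype_card, Fintype.card_units]
  · have h1 : ¬ j = i := fun e => by rw [e] at h; exact lt_irrefl _ h
    rw [if_neg h1, if_pos h, one_mul]
    have : {x : F // (i < j → x = 0) ∧ (i = j → x ≠ 0)} ≃ F :=
      { toFun := fun x => x.1,
        invFun := fun x => ⟨x, fun h' => absurd h' (not_lt.mpr h.le), fun e => absurd e.symm h1⟩,
        left_inv := fun x => Subtype.ext rfl, right_inv := fun _ => rfl }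
    rw [Nat.card_congr this, Nat.card_eq_fintype_card]

theorem result {F : Type*} [Field F] [Fintype F] {q : ℕ} (hF : Fintype.card F = q) (n : ℕ) : Nat.card {g : Matrix.GeneralLinearGroup (Fin n) F // ∀ i j : Fin n, i < j → (g : Matrix (Fin n) (Fin n) F) i j = 0} = q ^ (n * (n - 1) / 2) * (q - 1) ^ n := by
  classical
  -- Step A
  have eA : {g : Matrix.GeneralLinearGroup (Fin n) F // ∀ i j : Fin n, i < j → (g : Matrix (Fin n) (Fin n) F) i j = 0} ≃
      {M : Fin n → Fin n → F // ∀ i j, (i < j → M i j = 0) ∧ (i = j → M i j ≠ 0)} :=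
    { toFun := fun g => ⟨fun i j => (g.1 : Matrix (Fin n) (Fin n) F) i j, by
        intro i j
        refine ⟨g.2 i j, ?_⟩
        rintro rfl
        have hdet : (g.1 : Matrix (Fin n) (Fin n) F).det ≠ 0 := by
          have := g.1.isUnit
          have := (Matrix.isUnit_iff_isUnit_det _).mp this
          exact this.ne_zero
        have htri : (g.1 : Matrix (Fin n) (Fin n) F).BlockTriangular (⇑OrderDual.toDual) := by
          intro a b hab
          exact g.2 a b hab
        rw [Matrix.det_of_lowerTriangular _ htri] at hdet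
        exact fun h0 => hdet (Finset.prod_eq_zero (Finset.mem_univ i) h0)⟩,
      invFun := fun M => ⟨Matrix.GeneralLinearGroup.mkOfDetNeZero (Matrix.of M.1) (by
          have htri : (Matrix.of M.1).BlockTriangular (⇑OrderDual.toDual) := by
            intro a b hab
            exact (M.2 a b).1 hab
          rw [Matrix.det_of_lowerTriangular _ htri]
          exact Finset.prod_ne_zero_iff.mpr (fun i _ => (M.2 i i).2 rfl)), by
          intro i j hij
          exact (M.2 i j).1 hij⟩,
      left_inv := fun g => by
        apply Subtype.ext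
        apply Units.ext
        rfl
      right_inv := fun M => by
        apply Subtype.ext
        rfl }
  rw [Nat.card_congr eA]
  have eB : {M : Fin n → Fin n → F // ∀ i j, (i < j → M i j = 0) ∧ (i = j → M i j ≠ 0)} ≃
      (∀ i : Fin n, ∀ j : Fin n, {x : F // (i < j → x = 0) ∧ (i = j → x ≠ 0)}) :=
    { toFun := fun M i j => ⟨M.1 i j, M.2 i j⟩,
      invFun := fun N => ⟨fun i j => (N i j).1, fun i j => (N i j).2⟩,
      left_inv := fun M => rfl,
      right_inv := fun N => rfl }
  rw [Nat.card_congr eB, Nat.card_pi]
  simp only [Nat.card_pi, card_cell, hF]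
  have hrow : ∀ i : Fin n, ∏ j : Fin n, ((if j = i then q - 1 else 1) * (if j < i then q else 1)) =
      (q - 1) * q ^ (i : ℕ) := by
    intro i
    rw [Finset.prod_mul_distrib, Finset.prod_ite_eq' , if_pos (Finset.mem_univ i)]
    congr 1
    rw [← Finset.prod_filter, Finset.prod_const]
    congr 1
    have : Finset.filter (fun j => j < i) Finset.univ = Finset.Iio i := by
      ext j; simp
    rw [this, Fin.card_Iio]
  simp only [hrow]
  rw [Finset.prod_mul_distrib, Finset.prod_const, Finset.prod_pow_eq_pow_sum, Finset.card_univ,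
    Fintype.card_fin, Fin.sum_univ_eq_sum_range (fun i => i) n, Finset.sum_range_id, mul_comm]

end Cfsg.Agent.S0769
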