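import Cfsg.Statements.S0770
import Mathlib
set_option autoImplicit false
open Cfsg
namespace Cfsg.Agent.S0770

open Matrix

variable {F : Type*} [Field F] {n : ℕ}

/-- the diagonal torus -/
abbrev D (n : ℕ) (F : Type*) [Field F] : Subgroup (Matrix.GeneralLinearGroup (Fin n) F) :=
  (Units.map (Matrix.diagonalRingHom (Fin n) F).toMonoidHom).range

theorem mem_D_iff (h : Matrix.GeneralLinearGroup (Fin n) F) :
    h ∈ D n F ↔ ∃ d : Fin n → F, (∀ i, d i ≠ 0) ∧ (h : Matrix (Fin n) (Fin n) F) = Matrix.diagonal d := by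
  constructor
  · rintro ⟨u, rfl⟩
    refine ⟨u.1, ?_, rfl⟩
    intro i
    have := Pi.isUnit_iff.mp u.isUnit i
    exact this.ne_zero
  · rintro ⟨d, hd, hh⟩
    have hu : IsUnit d := Pi.isUnit_iff.mpr (fun i => (hd i).isUnit)
    refine ⟨hu.unit, ?_⟩
    apply Units.ext
    rw [hh]
    rfl

theorem coe_mul_inv (g : Matrix.GeneralLinearGroup (Fin n) F) :
    (g : Matrix (Fin n) (Fin n) F) * ((g⁻¹ : Matrix.GeneralLinearGroup (Fin n) F) : Matrix (Fin n) (Fin n) F) = 1 := by
  rw [← Units.val_mul, mul_inv_cancel]; rfl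

theorem coe_inv_mul (g : Matrix.GeneralLinearGroup (Fin n) F) :
    ((g⁻¹ : Matrix.GeneralLinearGroup (Fin n) F) : Matrix (Fin n) (Fin n) F) * (g : Matrix (Fin n) (Fin n) F) = 1 := by
  rw [← Units.val_mul, inv_mul_cancel]; rfl

/-- GL element with a given nonvanishing diagonal -/
noncomputable def diagGL (d : Fin n → F) (hd : ∀ i, d i ≠ 0) : Matrix.GeneralLinearGroup (Fin n) F :=
  Matrix.GeneralLinearGroup.mkOfDetNeZero (Matrix.diagonal d) (by
    rw [Matrix.det_diagonal]; exact Finset.prod_ne_zero_iff.mpr (fun i _ => hd i))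

theorem diagGL_mem (d : Fin n → F) (hd : ∀ i, d i ≠ 0) : diagGL d hd ∈ D n F :=
  (mem_D_iff _).mpr ⟨d, hd, rfl⟩

theorem forward (hF : ∃ a : F, a ≠ 0 ∧ a ≠ 1) (g : Matrix.GeneralLinearGroup (Fin n) F)
    (hg : g ∈ Subgroup.normalizer (D n F : Set (Matrix.GeneralLinearGroup (Fin n) F))) :
    ∀ i : Fin n, ∃! j : Fin n, (g : Matrix (Fin n) (Fin n) F) i j ≠ 0 := by
  obtain ⟨a, ha0, ha1⟩ := hF
  intro i
  have hex : ∃ j, (g : Matrix (Fin n) (Fin n) F) i j ≠ 0 := by
    by_contra hcon
    push Not at hcon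
    have := congrFun (congrFun (coe_mul_inv g) i) i
    rw [Matrix.mul_apply, Matrix.one_apply_eq] at this
    simp [hcon] at this
  obtain ⟨j, hj⟩ := hex
  refine ⟨j, hj, ?_⟩
  intro j' hj'
  by_contra hne
  -- torus element with a at position j
  let d : Fin n → F := fun k => if k = j then a else 1
  have hd : ∀ k, d k ≠ 0 := by
    intro k; simp only [d]; split_ifs <;> simp [ha0]
  have hmem := (Subgroup.mem_normalizer_iff.mp hg (diagGL d hd)).mp (diagGL_mem d hd)
  obtain ⟨e, -, he⟩ := (mem_D_iff _).mp hmem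
  have hmat : (g : Matrix (Fin n) (Fin n) F) * Matrix.diagonal d = Matrix.diagonal e * (g : Matrix (Fin n) (Fin n) F) := by
    have h1 : ((g * diagGL d hd * g⁻¹ : Matrix.GeneralLinearGroup (Fin n) F) : Matrix (Fin n) (Fin n) F) =
        (g : Matrix (Fin n) (Fin n) F) * Matrix.diagonal d * ((g⁻¹ : Matrix.GeneralLinearGroup (Fin n) F) : Matrix (Fin n) (Fin n) F) := rfl
    rw [h1] at he
    have := congrArg (fun X => X * (g : Matrix (Fin n) (Fin n) F)) he
    simp only [Matrix.mul_assoc, coe_inv_mul, Matrix.mul_one] at this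
    exact this
  have e1 := congrFun (congrFun hmat i) j
  have e2 := congrFun (congrFun hmat i) j'
  rw [Matrix.mul_diagonal, Matrix.diagonal_mul] at e1 e2
  simp only [d, if_true, if_neg hne] at e1 e2
  have h1 : e i = a := by
    have : (g : Matrix (Fin n) (Fin n) F) i j * (a - e i) = 0 := by linear_combination e1
    rcases mul_eq_zero.mp this with h | h
    · exact absurd h hj
    · exact (sub_eq_zero.mp h).symm
  have h2 : e i = 1 := by
    have : (g : Matrix (Fin n) (Fin n) F) i j' * (1 - e i) = 0 := by linear_combination e2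
    rcases mul_eq_zero.mp this with h | h
    · exact absurd h hj'
    · exact (sub_eq_zero.mp h).symm
  exact ha1 (h1.symm.trans h2)

theorem backward (g : Matrix.GeneralLinearGroup (Fin n) F)
    (hg : ∀ i : Fin n, ∃! j : Fin n, (g : Matrix (Fin n) (Fin n) F) i j ≠ 0) :
    g ∈ Subgroup.normalizer (D n F : Set (Matrix.GeneralLinearGroup (Fin n) F)) := by
  classical
  choose σ hσ hσu using hg
  have hzero : ∀ i j, j ≠ σ i → (g : Matrix (Fin n) (Fin n) F) i j = 0 := by
    intro i j hj
    by_contra h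
    exact hj (hσu i j h)
  -- the key commutation: g * diag d = diag (d ∘ σ) * g
  have hcomm : ∀ d : Fin n → F, (g : Matrix (Fin n) (Fin n) F) * Matrix.diagonal d =
      Matrix.diagonal (d ∘ σ) * (g : Matrix (Fin n) (Fin n) F) := by
    intro d
    ext i j
    rw [Matrix.mul_diagonal, Matrix.diagonal_mul]
    by_cases hj : j = σ i
    · rw [hj, Function.comp_apply, mul_comm]
    · rw [hzero i j hj]; simp
  -- σ is injective
  have hinj : Function.Injective σ := by
    intro i i' hii
    by_contra hne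
    -- (g * g⁻¹) i k = g i (σ i) * g⁻¹ (σ i) k
    have hrow : ∀ i k, (g : Matrix (Fin n) (Fin n) F) i (σ i) *
        ((g⁻¹ : Matrix.GeneralLinearGroup (Fin n) F) : Matrix (Fin n) (Fin n) F) (σ i) k =
        if i = k then 1 else 0 := by
      intro i k
      have := congrFun (congrFun (coe_mul_inv g) i) k
      rw [Matrix.mul_apply, Matrix.one_apply] at this
      rw [← this]
      symm
      apply Finset.sum_eq_single (σ i)
      · intro j _ hj
        rw [hzero i j hj, zero_mul]
      · intro h; exact absurd (Finset.mem_univ _) h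
    have h1 := hrow i i
    have h2 := hrow i' i
    rw [if_pos rfl] at h1
    rw [if_neg (Ne.symm hne), ← hii] at h2
    have hz : ((g⁻¹ : Matrix.GeneralLinearGroup (Fin n) F) : Matrix (Fin n) (Fin n) F) (σ i) i = 0 := by
      rcases mul_eq_zero.mp h2 with h | h
      · rw [hii] at h; exact absurd h (hσ i')
      · exact h
    rw [hz, mul_zero] at h1
    exact zero_ne_one h1
  have hbij : Function.Bijective σ := ⟨hinj, Finite.injective_iff_surjective.mp hinj⟩
  let τ := Equiv.ofBijective σ hbij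
  rw [Subgroup.mem_normalizer_iff]
  intro h
  constructor
  · intro hh
    obtain ⟨d, hd, hhd⟩ := (mem_D_iff h).mp hh
    rw [mem_D_iff]
    refine ⟨d ∘ σ, fun i => hd _, ?_⟩
    have h1 : ((g * h * g⁻¹ : Matrix.GeneralLinearGroup (Fin n) F) : Matrix (Fin n) (Fin n) F) =
        (g : Matrix (Fin n) (Fin n) F) * (h : Matrix (Fin n) (Fin n) F) * ((g⁻¹ : Matrix.GeneralLinearGroup (Fin n) F) : Matrix (Fin n) (Fin n) F) := rfl
    rw [h1, hhd, hcomm, Matrix.mul_assoc, coe_mul_inv, Matrix.mul_one]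
  · intro hh
    obtain ⟨e, he, hhe⟩ := (mem_D_iff _).mp hh
    rw [mem_D_iff]
    refine ⟨e ∘ τ.symm, fun i => he _, ?_⟩
    have h1 : ((g * h * g⁻¹ : Matrix.GeneralLinearGroup (Fin n) F) : Matrix (Fin n) (Fin n) F) =
        (g : Matrix (Fin n) (Fin n) F) * (h : Matrix (Fin n) (Fin n) F) * ((g⁻¹ : Matrix.GeneralLinearGroup (Fin n) F) : Matrix (Fin n) (Fin n) F) := rfl
    rw [h1] at hhe
    -- g * h = diag e * g = g * diag (e ∘ τ.symm)
    have h2 : (g : Matrix (Fin n) (Fin n) F) * (h : Matrix (Fin n) (Fin n) F) =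
        Matrix.diagonal e * (g : Matrix (Fin n) (Fin n) F) := by
      have := congrArg (fun X => X * (g : Matrix (Fin n) (Fin n) F)) hhe
      simp only [Matrix.mul_assoc, coe_inv_mul, Matrix.mul_one] at this
      exact this
    have h3 : Matrix.diagonal e * (g : Matrix (Fin n) (Fin n) F) =
        (g : Matrix (Fin n) (Fin n) F) * Matrix.diagonal (e ∘ τ.symm) := by
      rw [hcomm]
      congr 2
      funext i
      simp only [Function.comp_apply]
      congr 1
      exact (τ.symm_apply_apply i).symm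
    rw [h3] at h2
    have := congrArg (fun X => ((g⁻¹ : Matrix.GeneralLinearGroup (Fin n) F) : Matrix (Fin n) (Fin n) F) * X) h2
    simp only [← Matrix.mul_assoc, coe_inv_mul, Matrix.one_mul] at this
    exact this

theorem result {F : Type*} [Field F] (hF : ∃ a : F, a ≠ 0 ∧ a ≠ 1) (n : ℕ) (g : Matrix.GeneralLinearGroup (Fin n) F) : g ∈ Subgroup.normalizer ((Units.map (Matrix.diagonalRingHom (Fin n) F).toMonoidHom).range : Subgroup (Matrix.GeneralLinearGroup (Fin n) F)) ↔ ∀ i : Fin n, ∃! j : Fin n, (g : Matrix (Fin n) (Fin n) F) i j ≠ 0 :=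
  ⟨forward hF g, backward g⟩

end Cfsg.Agent.S0770
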