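import Cfsg.Statements.S0773
import Mathlib
import Cfsg.Agent.S5631
import Cfsg.Agent.Lib.Helper9_BlockGL

set_option autoImplicit false
open Cfsg

namespace Cfsg.Agent.S0773

open Matrix Cfsg.Agent.Helper9

variable {F : Type*} [Field F]

/-- the stabiliser in `SL` of a proper non-zero subspace is maximal in `SL`. -/
theorem stab_max {n : ℕ} (W : Submodule F (Fin n → F))
    (M : Subgroup (GL (Fin n) F))
    (hHM : Cfsg.Geo.subspaceStabilizer W ⊓ Cfsg.Geo.specialLinear (Fin n) F ≤ M)
    (hMK : M ≤ Cfsg.Geo.specialLinear (Fin n) F) (hM : M ≠ Cfsg.Geo.specialLinear (Fin n) F) :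
    M = Cfsg.Geo.subspaceStabilizer W ⊓ Cfsg.Geo.specialLinear (Fin n) F := by
  classical
  by_contra hMH
  have hlt : Cfsg.Geo.subspaceStabilizer W ⊓ Cfsg.Geo.specialLinear (Fin n) F < M :=
    lt_of_le_of_ne hHM (Ne.symm hMH)
  obtain ⟨g, hgM, hgH⟩ := SetLike.exists_of_lt hlt
  have hgW : g ∉ Cfsg.Geo.subspaceStabilizer W := fun h => hgH ⟨h, hMK hgM⟩
  have hall := Cfsg.Agent.S5631.all_transv_mem W M hHM g hgM hgW
  apply hM
  apply le_antisymm hMK
  refine le_trans specialLinear_le_closure_transvSet ?_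
  rw [Subgroup.closure_le]
  rintro x ⟨f, y, h, rfl⟩
  exact hall f y h

/-- the stabiliser determines the subspace (one inclusion-type step). -/
theorem stab_aux {n : ℕ} (W₁ W₂ : Submodule F (Fin n → F)) (h1 : W₁ ≠ ⊥) (h1' : W₁ ≠ ⊤)
    (h2 : W₂ ≠ ⊥)
    (hS : Cfsg.Geo.subspaceStabilizer W₁ = Cfsg.Geo.subspaceStabilizer W₂)
    (hlt : W₁ ⊓ W₂ < W₁) : False := by
  classical
  set X := W₁ ⊓ W₂ with hX
  by_cases hX0 : X = ⊥
  · obtain ⟨g, _, hg1, hg2⟩ := exists_SL_stab_not_stab_disjoint W₁ W₂ hX0 h1 h2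
    rw [hS] at hg1
    exact hg2 hg1
  · have hXtop : X ≠ ⊤ := fun h => h1' (top_le_iff.1 (h ▸ inf_le_left))
    -- the stabiliser of `W₁` also stabilises `X`
    have hle : Cfsg.Geo.subspaceStabilizer W₁ ⊓ Cfsg.Geo.specialLinear (Fin n) F ≤
        Cfsg.Geo.subspaceStabilizer X ⊓ Cfsg.Geo.specialLinear (Fin n) F := by
      rintro g ⟨hg1, hg⟩
      refine ⟨?_, hg⟩
      have hg2 : g ∈ Cfsg.Geo.subspaceStabilizer W₂ := hS ▸ hg1
      have hg1' : g ∈ Cfsg.Geo.subspaceStabilizer W₁ := hg1
      show g ∈ Cfsg.Geo.subspaceStabilizer X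
      rw [mem_stab_iff] at hg1' hg2 ⊢
      intro v
      rw [hX, Submodule.mem_inf, Submodule.mem_inf, ← hg1' v, ← hg2 v]
    have hne : Cfsg.Geo.subspaceStabilizer X ⊓ Cfsg.Geo.specialLinear (Fin n) F ≠
        Cfsg.Geo.specialLinear (Fin n) F := by
      intro h
      obtain ⟨g, hg1, hg2⟩ := exists_SL_not_stab X hX0 hXtop
      rw [← h] at hg1
      exact hg2 hg1.1
    have heq := stab_max W₁ _ hle inf_le_right hne
    obtain ⟨g, hg, hg1, hg2⟩ := exists_SL_stab_not_stab_nested X W₁ hlt h1'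
    have : g ∈ Cfsg.Geo.subspaceStabilizer W₁ ⊓ Cfsg.Geo.specialLinear (Fin n) F := by
      rw [← heq]
      exact ⟨hg1, hg⟩
    exact hg2 this.1

theorem stab_injective {n : ℕ} (W₁ W₂ : Submodule F (Fin n → F)) (h1 : W₁ ≠ ⊥) (h1' : W₁ ≠ ⊤)
    (h2 : W₂ ≠ ⊥) (h2' : W₂ ≠ ⊤)
    (hS : Cfsg.Geo.subspaceStabilizer W₁ = Cfsg.Geo.subspaceStabilizer W₂) : W₁ = W₂ := by
  by_contra hne
  by_cases hlt : W₁ ⊓ W₂ = W₁
  · have hlt2 : W₂ ⊓ W₁ < W₂ := by
      refine lt_of_le_of_ne inf_le_left ?_
      intro h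
      apply hne
      rw [inf_comm] at h
      rw [← hlt]
      nth_rewrite 2 [← h]
      rfl
    exact stab_aux W₂ W₁ h2 h2' h1 hS.symm hlt2
  · exact stab_aux W₁ W₂ h1 h1' h2 hS (lt_of_le_of_ne inf_le_left hlt)

/-- the coordinate subspace spanned by the first `k` basis vectors. -/
def coordSub (n k : ℕ) (F : Type*) [Field F] : Submodule F (Fin n → F) where
  carrier := {v : Fin n → F | ∀ i : Fin n, k ≤ (i : ℕ) → v i = 0}
  add_mem' := by
    intro a b ha hb i hi
    simp only [Pi.add_apply, ha i hi, hb i hi, add_zero]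
  zero_mem' := by
    intro i _
    rfl
  smul_mem' := by
    intro c a ha i hi
    simp only [Pi.smul_apply, ha i hi, smul_zero]

theorem mem_coordSub (n k : ℕ) (v : Fin n → F) :
    v ∈ coordSub n k F ↔ ∀ i : Fin n, k ≤ (i : ℕ) → v i = 0 := Iff.rfl

theorem coordSub_ne_bot (n k : ℕ) (hk0 : 0 < k) (hkn : k < n) : coordSub n k F ≠ ⊥ := by
  intro h
  have hmem : (Pi.single (⟨0, by omega⟩ : Fin n) 1 : Fin n → F) ∈ coordSub n k F := by
    rw [mem_coordSub]
    intro i hi
    rw [Pi.single_apply, if_neg]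
    intro hh
    rw [hh] at hi
    simp at hi
    omega
  rw [h, Submodule.mem_bot] at hmem
  have := congrFun hmem ⟨0, by omega⟩
  simp at this

theorem coordSub_ne_top (n k : ℕ) (hkn : k < n) : coordSub n k F ≠ ⊤ := by
  intro h
  have hmem : (Pi.single (⟨k, hkn⟩ : Fin n) 1 : Fin n → F) ∈ coordSub n k F := by
    rw [h]; exact Submodule.mem_top
  rw [mem_coordSub] at hmem
  have := hmem ⟨k, hkn⟩ (le_refl _)
  simp at this

theorem card_coordSub [Fintype F] (n k : ℕ) (hk : k ≤ n) :
    Nat.card (coordSub n k F) = Fintype.card F ^ k := by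
  classical
  have e : coordSub n k F ≃ ({i : Fin n // (i : ℕ) < k} → F) :=
    { toFun := fun v i => v.1 i.1
      invFun := fun w => ⟨fun i => if h : (i : ℕ) < k then w ⟨i, h⟩ else 0, by
        intro i hi
        show (if h : (i : ℕ) < k then w ⟨i, h⟩ else 0) = 0
        rw [dif_neg (by omega)]⟩
      left_inv := by
        intro v
        apply Subtype.ext
        funext i
        by_cases h : (i : ℕ) < k
        · simp [h]
        · simp only [h, dite_false]
          exact (v.2 i (by omega)).symm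
      right_inv := by
        intro w
        funext i
        simp [i.2] }
  rw [Nat.card_congr e, Nat.card_fun, Nat.card_eq_fintype_card, Nat.card_eq_fintype_card,
    Fintype.card_subtype, Fin.card_filter_val_lt]
  congr 1
  omega

/-- inverse transpose, followed by reversal of the coordinates. -/
noncomputable def phi (n : ℕ) : GL (Fin n) F →* GL (Fin n) F where
  toFun g := ⟨((g⁻¹ : GL (Fin n) F) : Matrix (Fin n) (Fin n) F)ᵀ.submatrix Fin.revPerm Fin.revPerm,
    (g : Matrix (Fin n) (Fin n) F)ᵀ.submatrix Fin.revPerm Fin.revPerm, by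
      rw [Matrix.submatrix_mul_equiv, ← Matrix.transpose_mul, ← Units.val_mul, mul_inv_cancel]
      simp, by
      rw [Matrix.submatrix_mul_equiv, ← Matrix.transpose_mul, ← Units.val_mul, inv_mul_cancel]
      simp⟩
  map_one' := by
    apply Units.ext
    simp
  map_mul' := by
    intro g h
    apply Units.ext
    simp only [Units.val_mul]
    rw [Matrix.submatrix_mul_equiv, ← Matrix.transpose_mul, ← Units.val_mul, _root_.mul_inv_rev]

theorem phi_apply (n : ℕ) (g : GL (Fin n) F) (i j : Fin n) :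
    (phi n g : Matrix (Fin n) (Fin n) F) i j =
      ((g⁻¹ : GL (Fin n) F) : Matrix (Fin n) (Fin n) F) (Fin.rev j) (Fin.rev i) := rfl

theorem phi_phi (n : ℕ) (g : GL (Fin n) F) : phi n (phi n g) = g := by
  apply Units.ext
  ext i j
  rw [phi_apply]
  show (g : Matrix (Fin n) (Fin n) F)ᵀ.submatrix Fin.revPerm Fin.revPerm (Fin.rev j) (Fin.rev i) = _
  simp

theorem phi_mem [Fintype F] (n k : ℕ) (hk : k ≤ n) (g : GL (Fin n) F)
    (hg : g ∈ Cfsg.stabilizing (Cfsg.glToMat (Fin n) F) {v : Fin n → F | ∀ i : Fin n, k ≤ (i : ℕ) → v i = 0}) :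
    phi n g ∈ Cfsg.stabilizing (Cfsg.glToMat (Fin n) F)
      {v : Fin n → F | ∀ i : Fin n, n - k ≤ (i : ℕ) → v i = 0} := by
  have hg' := (Cfsg.stabilizing (Cfsg.glToMat (Fin n) F)
    {v : Fin n → F | ∀ i : Fin n, k ≤ (i : ℕ) → v i = 0}).inv_mem hg
  rw [Cfsg.Agent.Helper9BlockGL.mem_stabilizing_iff] at hg' ⊢
  intro i hi j hj
  rw [phi_apply]
  apply hg'
  · rw [Fin.val_rev]; omega
  · rw [Fin.val_rev]; omega

/-- The stabilisers in GL_n(F), F finite, of the coordinate subspaces of dimensions k and n − k are isomorphic groups, but when 2k ≠ n (and 0 < k < n) no element of GL_n conjugates one onto the other. -/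
theorem result {F : Type*} [Field F] [Finite F] (n k : ℕ) (hk0 : 0 < k) (hkn : k < n) (h2 : 2 * k ≠ n) : Nonempty (↥(Cfsg.stabilizing (Cfsg.glToMat (Fin n) F) {v : Fin n → F | ∀ i : Fin n, k ≤ (i : ℕ) → v i = 0}) ≃* ↥(Cfsg.stabilizing (Cfsg.glToMat (Fin n) F) {v : Fin n → F | ∀ i : Fin n, n - k ≤ (i : ℕ) → v i = 0})) ∧ ∀ g : Matrix.GeneralLinearGroup (Fin n) F, (Cfsg.stabilizing (Cfsg.glToMat (Fin n) F) {v : Fin n → F | ∀ i : Fin n, k ≤ (i : ℕ) → v i = 0}).map (MulAut.conj g).toMonoidHom ≠ Cfsg.stabilizing (Cfsg.glToMat (Fin n) F) {v : Fin n → F | ∀ i : Fin n, n - k ≤ (i : ℕ) → v i = 0} := by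
  classical
  letI : Fintype F := Fintype.ofFinite F
  refine ⟨⟨?_⟩, ?_⟩
  · have hk' : n - (n - k) = k := by omega
    exact
      { toFun := fun g => ⟨phi n g.1, phi_mem n k hkn.le g.1 g.2⟩
        invFun := fun g => ⟨phi n g.1, by
          have := phi_mem n (n - k) (by omega) g.1 g.2
          rw [hk'] at this
          exact this⟩
        left_inv := by
          intro g
          apply Subtype.ext
          exact phi_phi n g.1
        right_inv := by
          intro g
          apply Subtype.ext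
          exact phi_phi n g.1
        map_mul' := by
          intro g h
          apply Subtype.ext
          exact map_mul (phi n) g.1 h.1 }
  · intro g hconj
    have hP1 : Cfsg.stabilizing (Cfsg.glToMat (Fin n) F) {v : Fin n → F | ∀ i : Fin n, k ≤ (i : ℕ) → v i = 0} =
        Cfsg.Geo.subspaceStabilizer (coordSub n k F) := rfl
    have hP2 : Cfsg.stabilizing (Cfsg.glToMat (Fin n) F) {v : Fin n → F | ∀ i : Fin n, n - k ≤ (i : ℕ) → v i = 0} =
        Cfsg.Geo.subspaceStabilizer (coordSub n (n - k) F) := rfl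
    rw [hP1, hP2] at hconj
    -- the image subspace
    set U : Submodule F (Fin n → F) :=
      (coordSub n k F).map (Matrix.mulVecLin (g : Matrix (Fin n) (Fin n) F)) with hU
    have hginv : ∀ v : Fin n → F, ((g⁻¹ : GL (Fin n) F) : Matrix (Fin n) (Fin n) F) *ᵥ
        ((g : Matrix (Fin n) (Fin n) F) *ᵥ v) = v := by
      intro v
      rw [Matrix.mulVec_mulVec, ← Units.val_mul, inv_mul_cancel, Units.val_one, Matrix.one_mulVec]
    have hginv' : ∀ v : Fin n → F, (g : Matrix (Fin n) (Fin n) F) *ᵥ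
        (((g⁻¹ : GL (Fin n) F) : Matrix (Fin n) (Fin n) F) *ᵥ v) = v := by
      intro v
      rw [Matrix.mulVec_mulVec, ← Units.val_mul, mul_inv_cancel, Units.val_one, Matrix.one_mulVec]
    have hmemU : ∀ v, v ∈ U ↔ ((g⁻¹ : GL (Fin n) F) : Matrix (Fin n) (Fin n) F) *ᵥ v ∈ coordSub n k F := by
      intro v
      rw [hU, Submodule.mem_map]
      constructor
      · rintro ⟨w, hw, rfl⟩
        rw [Matrix.mulVecLin_apply, hginv]
        exact hw
      · intro h
        exact ⟨_, h, by rw [Matrix.mulVecLin_apply, hginv']⟩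
    have hstabU : Cfsg.Geo.subspaceStabilizer U =
        (Cfsg.Geo.subspaceStabilizer (coordSub n k F)).map (MulAut.conj g).toMonoidHom := by
      ext h
      rw [Subgroup.mem_map]
      constructor
      · intro hh
        refine ⟨g⁻¹ * h * g, ?_, ?_⟩
        · rw [mem_stab_iff] at hh ⊢
          intro v
          have := hh ((g : Matrix (Fin n) (Fin n) F) *ᵥ v)
          rw [hmemU, hmemU, hginv] at this
          rw [this]
          simp only [Units.val_mul, Matrix.mulVec_mulVec, mul_assoc]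
        · simp only [MulEquiv.coe_toMonoidHom, MulAut.conj_apply]
          group
      · rintro ⟨x, hx, rfl⟩
        simp only [MulEquiv.coe_toMonoidHom, MulAut.conj_apply]
        rw [mem_stab_iff] at hx ⊢
        intro v
        rw [hmemU, hmemU, hx]
        simp only [Units.val_mul, Matrix.mulVec_mulVec, mul_assoc]
        have : ((g⁻¹ : GL (Fin n) F) : Matrix (Fin n) (Fin n) F) *
            ((g : Matrix (Fin n) (Fin n) F) * ((x : Matrix (Fin n) (Fin n) F) *
              ((g⁻¹ : GL (Fin n) F) : Matrix (Fin n) (Fin n) F))) =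
            (x : Matrix (Fin n) (Fin n) F) * ((g⁻¹ : GL (Fin n) F) : Matrix (Fin n) (Fin n) F) := by
          rw [← mul_assoc, ← Units.val_mul, inv_mul_cancel, Units.val_one, one_mul]
        rw [this]
    have hcardU : Nat.card U = Nat.card (coordSub n k F) := by
      symm
      apply Nat.card_congr
      refine Equiv.ofBijective (fun v => ⟨Matrix.mulVecLin (g : Matrix (Fin n) (Fin n) F) v.1,
        Submodule.mem_map_of_mem v.2⟩) ⟨?_, ?_⟩
      · intro a b hab
        apply Subtype.ext
        have := congrArg Subtype.val hab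
        simp only [Matrix.mulVecLin_apply] at this
        have h2 := congrArg (fun u => ((g⁻¹ : GL (Fin n) F) : Matrix (Fin n) (Fin n) F) *ᵥ u) this
        simp only [hginv] at h2
        exact h2
      · rintro ⟨u, hu⟩
        obtain ⟨w, hw, rfl⟩ := Submodule.mem_map.1 hu
        exact ⟨⟨w, hw⟩, rfl⟩
    have hU0 : U ≠ ⊥ := by
      intro h
      have h1 : Nat.card U = 1 := by rw [h]; simp
      rw [hcardU, card_coordSub n k hkn.le] at h1
      have : 1 < Fintype.card F := Fintype.one_lt_card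
      have := Nat.one_lt_pow (by omega : k ≠ 0) this
      omega
    have hUtop : U ≠ ⊤ := by
      intro h
      have h1 : Nat.card U = Fintype.card F ^ n := by
        rw [h]
        rw [Nat.card_congr (Submodule.topEquiv (R := F) (M := Fin n → F)).toEquiv, Nat.card_fun,
          Nat.card_eq_fintype_card, Nat.card_eq_fintype_card, Fintype.card_fin]
      rw [hcardU, card_coordSub n k hkn.le] at h1
      have : 1 < Fintype.card F := Fintype.one_lt_card
      have := Nat.pow_right_injective (by omega : 2 ≤ Fintype.card F) h1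
      omega
    have hEq : U = coordSub n (n - k) F := by
      apply stab_injective U _ hU0 hUtop (coordSub_ne_bot n (n - k) (by omega) (by omega))
        (coordSub_ne_top n (n - k) (by omega))
      rw [hstabU, hconj]
    have hc : Nat.card U = Nat.card (coordSub n (n - k) F) := by rw [hEq]
    rw [hcardU, card_coordSub n k hkn.le, card_coordSub n (n - k) (by omega)] at hc
    have : 1 < Fintype.card F := Fintype.one_lt_card
    have := Nat.pow_right_injective (by omega : 2 ≤ Fintype.card F) hc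
    omega

end Cfsg.Agent.S0773
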