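import Cfsg.Statements.S0774
import Mathlib
import Cfsg.Agent.Lib.Helper9_CFrames

set_option autoImplicit false
open Cfsg

namespace Cfsg.Agent.S0774

open Matrix Cfsg.Agent.Lib.Helper1_Symp Cfsg.Agent.Helper9Sp Cfsg.Agent.Helper9Frames
  Cfsg.Agent.Helper9CFrames

variable {F : Type*} [Field F] {m : ℕ}

/-- The coordinate flag member `⟨e_0, …, e_k⟩`. -/
def flagSub (m : ℕ) (F : Type*) [Field F] (k : ℕ) : Submodule F (Fin m ⊕ Fin m → F) where
  carrier := {v | (∀ i : Fin m, k < (i : ℕ) → v (Sum.inl i) = 0) ∧ ∀ i : Fin m, v (Sum.inr i) = 0}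
  add_mem' := by
    rintro a b ⟨ha1, ha2⟩ ⟨hb1, hb2⟩
    refine ⟨fun i hi => ?_, fun i => ?_⟩
    · simp [ha1 i hi, hb1 i hi]
    · simp [ha2 i, hb2 i]
  zero_mem' := ⟨fun i _ => rfl, fun i => rfl⟩
  smul_mem' := by
    rintro c a ⟨ha1, ha2⟩
    refine ⟨fun i hi => ?_, fun i => ?_⟩
    · simp [ha1 i hi]
    · simp [ha2 i]

theorem mem_flagSub (k : ℕ) (v : Fin m ⊕ Fin m → F) :
    v ∈ flagSub m F k ↔
      (∀ i : Fin m, k < (i : ℕ) → v (Sum.inl i) = 0) ∧ ∀ i : Fin m, v (Sum.inr i) = 0 :=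
  Iff.rfl

theorem flagSub_mono {a b : ℕ} (h : a ≤ b) : flagSub m F a ≤ flagSub m F b := by
  rintro v ⟨h1, h2⟩
  exact ⟨fun i hi => h1 i (lt_of_le_of_lt h hi), h2⟩

theorem flagSub_iso (b : ℕ) (x : Fin m ⊕ Fin m → F) (hx : x ∈ flagSub m F b)
    (y : Fin m ⊕ Fin m → F) (hy : y ∈ flagSub m F b) : sympForm m F x y = 0 := by
  rw [sympForm_eq]
  apply Finset.sum_eq_zero
  intro i _
  rw [hx.2 i, hy.2 i]
  ring

theorem e_mem_flagSub (a : Fin m) : Cfsg.Agent.S0765.e (F := F) a ∈ flagSub m F a.val := by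
  refine ⟨fun i hi => ?_, fun i => ?_⟩
  · unfold Cfsg.Agent.S0765.e
    rw [Pi.single_apply, if_neg]
    intro h
    have : i = a := Sum.inl.inj h
    rw [this] at hi
    exact lt_irrefl _ hi
  · unfold Cfsg.Agent.S0765.e
    rw [Pi.single_apply, if_neg]
    exact Sum.inr_ne_inl

theorem card_flagSub [Fintype F] (b : ℕ) (hb : b < m) :
    Nat.card (flagSub m F b) = Fintype.card F ^ (b + 1) := by
  classical
  have e : flagSub m F b ≃ (Fin (b + 1) → F) :=
    { toFun := fun v i => v.1 (Sum.inl ⟨i.val, by omega⟩)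
      invFun := fun t => ⟨fun s => Sum.elim
          (fun i : Fin m => if h : i.val < b + 1 then t ⟨i.val, h⟩ else 0) (fun _ => 0) s, by
        refine ⟨fun i hi => ?_, fun i => rfl⟩
        show (if h : i.val < b + 1 then t ⟨i.val, h⟩ else 0) = 0
        rw [dif_neg (by omega)]⟩
      left_inv := by
        rintro ⟨v, hv1, hv2⟩
        apply Subtype.ext
        funext s
        rcases s with i | i
        · show (if h : i.val < b + 1 then v (Sum.inl ⟨i.val, _⟩) else 0) = v (Sum.inl i)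
          by_cases h : i.val < b + 1
          · rw [dif_pos h]
          · rw [dif_neg h, hv1 i (by omega)]
        · exact (hv2 i).symm
      right_inv := by
        intro t
        funext i
        show (if h : i.val < b + 1 then t ⟨i.val, h⟩ else 0) = t i
        rw [dif_pos i.2] }
  rw [Nat.card_congr e, Nat.card_fun, Nat.card_eq_fintype_card (α := F),
    Nat.card_eq_fintype_card (α := Fin (b + 1)), Fintype.card_fin]

theorem flag_admissible [Fintype F] : Admissible (flagSub m F) m (fun i => i + 1) where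
  mono := fun a b hab _ => flagSub_mono hab
  iso := fun b _ => flagSub_iso b
  card := fun b hb => card_flagSub b hb

theorem expand (v : Fin m ⊕ Fin m → F) (hv : ∀ i : Fin m, v (Sum.inr i) = 0) :
    v = ∑ i : Fin m, v (Sum.inl i) • Cfsg.Agent.S0765.e (F := F) i := by
  classical
  funext s
  rw [Finset.sum_apply]
  rcases s with j | j
  · simp [Cfsg.Agent.S0765.e, Pi.single_apply, Finset.sum_ite_eq]
  · simp [Cfsg.Agent.S0765.e, hv j]

theorem mem_iff (g : Matrix.symplecticGroup (Fin m) F) [Fintype F] :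
    g ∈ (⨅ k : Fin m, Cfsg.stabilizing (Cfsg.spToMat m F)
      {v : Fin m ⊕ Fin m → F | (∀ i : Fin m, (k : ℕ) < (i : ℕ) → v (Sum.inl i) = 0) ∧
        ∀ i : Fin m, v (Sum.inr i) = 0}) ↔
    ∀ a : Fin m, a.val < m → (g * 1).1 *ᵥ Cfsg.Agent.S0765.e a ∈ flagSub m F a.val := by
  rw [Subgroup.mem_iInf, mul_one]
  constructor
  · intro h a _
    exact ((h a) (Cfsg.Agent.S0765.e a)).1 (e_mem_flagSub a)
  · intro h k
    have hsub : ∀ v ∈ flagSub m F k.val, g.1 *ᵥ v ∈ flagSub m F k.val := by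
      intro v hv
      rw [expand v hv.2, Matrix.mulVec_sum]
      apply Submodule.sum_mem
      intro i _
      rw [Matrix.mulVec_smul]
      by_cases hik : k.val < i.val
      · rw [hv.1 i hik, zero_smul]
        exact Submodule.zero_mem _
      · apply Submodule.smul_mem
        exact flagSub_mono (by omega) (h i i.2)
    exact stab_iff_of_le (flagSub m F k.val) g.1 (symp_mulVec_injective g) hsub

theorem sum_odd' (n : ℕ) : ∑ i ∈ Finset.range n, (2 * (n - i) - 1) = n ^ 2 := by
  have h1 : ∀ j ∈ Finset.range n, (2 * (n - j) - 1) = (fun i => 2 * i + 1) (n - 1 - j) := by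
    intro j hj
    have hj' := Finset.mem_range.1 hj
    simp only
    omega
  rw [Finset.sum_congr rfl h1, Finset.sum_range_reflect (fun i => 2 * i + 1) n,
    Cfsg.Agent.S0245.sum_odd]

/-- Borel subgroup of the symplectic group: the elements of Sp_2m(q) stabilising each of the totally isotropic coordinate subspaces ⟨e_0, ..., e_k⟩ (k < m) form a subgroup of order q^(m²) (q − 1)^m. -/
theorem result {F : Type*} [Field F] [Fintype F] {q : ℕ} (hF : Fintype.card F = q) (m : ℕ) : Nat.card ↥(⨅ k : Fin m, Cfsg.stabilizing (Cfsg.spToMat m F) {v : Fin m ⊕ Fin m → F | (∀ i : Fin m, (k : ℕ) < (i : ℕ) → v (Sum.inl i) = 0) ∧ ∀ i : Fin m, v (Sum.inr i) = 0}) = q ^ (m ^ 2) * (q - 1) ^ m := by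
  classical
  rw [card_of_char (flagSub m F) m _ 1 (fun g => mem_iff g),
    card_cfr (flagSub m F) m (fun i => i + 1) flag_admissible m le_rfl, hF]
  have h1 : ∀ i ∈ Finset.range m, term q m m (fun i => i + 1) i =
      (q - 1) * q ^ (2 * (m - i) - 1) := by
    intro i hi
    have hi' := Finset.mem_range.1 hi
    unfold term
    rw [if_pos hi']
    have : i + 1 - i = 1 := by omega
    rw [this, pow_one]
  rw [Finset.prod_congr rfl h1, Finset.prod_mul_distrib, Finset.prod_const, Finset.card_range,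
    Finset.prod_pow_eq_pow_sum, sum_odd', mul_comm]

end Cfsg.Agent.S0774
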