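import Cfsg.Statements.S0775
import Mathlib
import Cfsg.Agent.Lib.Helper9_CFrames
import Cfsg.Agent.S0774

set_option autoImplicit false
open Cfsg

namespace Cfsg.Agent.S0775

open Matrix Cfsg.Agent.Lib.Helper1_Symp Cfsg.Agent.Helper9Sp Cfsg.Agent.Helper9Frames
  Cfsg.Agent.Helper9CFrames

variable {F : Type*} [Field F] {m : ℕ}

theorem gauss_half (k : ℕ) :
    k * (k + 1) / 2 = (∑ i ∈ Finset.range k, i) + k ∧
      2 * (∑ i ∈ Finset.range k, i) + k = k ^ 2 := by
  have h1 := Finset.sum_range_id_mul_two (k + 1)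
  rw [Finset.sum_range_succ, Nat.add_sub_cancel] at h1
  set T := ∑ i ∈ Finset.range k, i
  constructor
  · apply Nat.div_eq_of_eq_mul_left (by norm_num)
    linarith
  · nlinarith

theorem prod_fin_sub (q k : ℕ) :
    ∏ i : Fin k, (q ^ k - q ^ (i : ℕ)) =
      q ^ (∑ i ∈ Finset.range k, i) * ∏ i ∈ Finset.range k, (q ^ (k - i) - 1) := by
  rw [Fin.prod_univ_eq_prod_range (fun i => q ^ k - q ^ i) k, ← Finset.prod_pow_eq_pow_sum,
    ← Finset.prod_mul_distrib]
  apply Finset.prod_congr rfl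
  intro i hi
  have hi' := Finset.mem_range.1 hi
  rw [Nat.mul_sub, mul_one, ← pow_add]
  congr 2
  omega

theorem arith (q k n : ℕ) :
    ∏ i ∈ Finset.range (k + n), term q (k + n) k (fun _ => k) i =
      q ^ (k * (k + 1) / 2 + 2 * k * n) *
        (q ^ (n ^ 2) * ∏ i ∈ Finset.range n, (q ^ (2 * (i + 1)) - 1)) *
          ∏ i : Fin k, (q ^ k - q ^ (i : ℕ)) := by
  have hterm : ∀ i ∈ Finset.range (k + n), term q (k + n) k (fun _ => k) i =
      (if i < k then q ^ (k - i) - 1 else q ^ (2 * (k + n - i)) - 1) *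
        q ^ (2 * (k + n - i) - 1) := by
    intro i _
    unfold term
    split_ifs <;> rfl
  rw [Finset.prod_congr rfl hterm, Finset.prod_mul_distrib, Finset.prod_pow_eq_pow_sum,
    Cfsg.Agent.S0774.sum_odd', Finset.prod_range_add]
  have h1 : ∀ i ∈ Finset.range k,
      (if i < k then q ^ (k - i) - 1 else q ^ (2 * (k + n - i)) - 1) = q ^ (k - i) - 1 := by
    intro i hi
    rw [if_pos (Finset.mem_range.1 hi)]
  have h2 : ∀ x ∈ Finset.range n,
      (if k + x < k then q ^ (k - (k + x)) - 1 else q ^ (2 * (k + n - (k + x))) - 1) =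
        (fun i => q ^ (2 * (i + 1)) - 1) (n - 1 - x) := by
    intro x hx
    have hx' := Finset.mem_range.1 hx
    rw [if_neg (by omega)]
    simp only
    congr 2
    omega
  rw [Finset.prod_congr rfl h1, Finset.prod_congr rfl h2,
    Finset.prod_range_reflect (fun i => q ^ (2 * (i + 1)) - 1) n, prod_fin_sub]
  obtain ⟨g1, g2⟩ := gauss_half k
  set T := ∑ i ∈ Finset.range k, i
  have hexp : (k + n) ^ 2 = (k * (k + 1) / 2 + 2 * k * n) + n ^ 2 + T := by
    rw [g1]
    nlinarith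
  rw [hexp, pow_add, pow_add]
  ring

theorem mem_stab_iff (S : Set (Fin m ⊕ Fin m → F)) (g : Matrix.symplecticGroup (Fin m) F) :
    g ∈ Cfsg.stabilizing (Cfsg.spToMat m F) S ↔ ∀ v, v ∈ S ↔ g.1 *ᵥ v ∈ S :=
  Iff.rfl

theorem e_li (k : ℕ) (hk : k ≤ m) (A₀ : Matrix.symplecticGroup (Fin m) F) :
    LinearIndependent F
      (fun a : Fin k => A₀.1 *ᵥ Cfsg.Agent.S0765.e (F := F) (Fin.castLE hk a)) := by
  classical
  have h0 : LinearIndependent F (fun s : Fin m ⊕ Fin m => (Pi.single s 1 : Fin m ⊕ Fin m → F)) := by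
    have := (Pi.basisFun F (Fin m ⊕ Fin m)).linearIndependent
    convert this using 1
    funext s
    simp [Pi.basisFun_apply]
  have h1 : LinearIndependent F (fun a : Fin k =>
      (Pi.single (Sum.inl (Fin.castLE hk a)) 1 : Fin m ⊕ Fin m → F)) :=
    h0.comp (fun a : Fin k => Sum.inl (Fin.castLE hk a))
      (fun a b hab => Fin.castLE_injective hk (Sum.inl.inj hab))
  have h2 := h1.map' (Matrix.mulVecLin A₀.1) (by
    rw [LinearMap.ker_eq_bot]
    exact symp_mulVec_injective A₀)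
  exact h2

/-- Maximal parabolics of the symplectic group: if W is a k-dimensional subspace of F^(2m) on which the symplectic form vanishes identically, its stabiliser in Sp_2m(q) has order q^(k(k+1)/2 + 2k(m−k)) · |Sp_(2m−2k)(q)| · |GL_k(q)|. -/
theorem result {F : Type*} [Field F] [Fintype F] {q : ℕ} (hF : Fintype.card F = q) (m k : ℕ) (hk : k ≤ m) (W : Submodule F (Fin m ⊕ Fin m → F)) (hWk : Module.finrank F W = k) (hW : ∀ u ∈ W, ∀ v ∈ W, Cfsg.sympForm m F u v = 0) : Nat.card ↥(Cfsg.stabilizing (Cfsg.spToMat m F) (W : Set (Fin m ⊕ Fin m → F))) = q ^ (k * (k + 1) / 2 + 2 * k * (m - k)) * (q ^ ((m - k) ^ 2) * ∏ i ∈ Finset.range (m - k), (q ^ (2 * (i + 1)) - 1)) * ∏ i : Fin k, (q ^ k - q ^ (i : ℕ)) := by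
  classical
  have hq2 : 2 ≤ q := hF ▸ Fintype.one_lt_card
  obtain ⟨n, rfl⟩ := Nat.exists_eq_add_of_le hk
  rw [Nat.add_sub_cancel_left]
  have hcardW : Nat.card W = Fintype.card F ^ k := by
    rw [Nat.card_eq_fintype_card, Module.card_eq_pow_finrank (K := F), hWk]
  have hadm : Admissible (fun _ => W) k (fun _ => k) :=
    ⟨fun _ _ _ _ => le_rfl, fun _ _ => hW, fun _ _ => hcardW⟩
  have hcount := card_cfr (fun _ => W) k (fun _ => k) hadm (k + n) le_rfl
  rw [hF] at hcount
  have hpos : 0 < Nat.card (CFr (fun _ => W) k (k + n)) := by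
    rw [hcount]
    apply Finset.prod_pos
    intro i hi
    have hi' := Finset.mem_range.1 hi
    unfold term
    dsimp only
    split_ifs with h
    · apply Nat.mul_pos
      · exact Nat.sub_pos_of_lt (Nat.one_lt_pow (by omega) (by omega))
      · exact pow_pos (by omega) _
    · apply Nat.mul_pos
      · exact Nat.sub_pos_of_lt (Nat.one_lt_pow (by omega) (by omega))
      · exact pow_pos (by omega) _
  obtain ⟨c⟩ := (Nat.card_pos_iff.1 hpos).1
  obtain ⟨A₀, hA₀⟩ := Cfsg.Agent.S0245.toFrame_surjective ⟨c.1, c.2.1⟩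
  have hA₀W : ∀ a : Fin (k + n), a.val < k → A₀.1 *ᵥ Cfsg.Agent.S0765.e a ∈ W := by
    intro a ha
    have h3 := c.2.2 a ha
    have h4 : (Cfsg.Agent.S0245.toFrame A₀).1 = c.1 := congrArg Subtype.val hA₀
    rw [← h4] at h3
    exact h3
  have hli := e_li k hk A₀
  have hspan : Submodule.span F (Set.range
      (fun a : Fin k => A₀.1 *ᵥ Cfsg.Agent.S0765.e (F := F) (Fin.castLE hk a))) = W := by
    apply Submodule.eq_of_le_of_finrank_eq
    · rw [Submodule.span_le]
      rintro _ ⟨a, rfl⟩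
      exact hA₀W _ (by simp)
    · rw [finrank_span_eq_card hli, Fintype.card_fin, hWk]
  have hchar : ∀ g, g ∈ Cfsg.stabilizing (Cfsg.spToMat (k + n) F)
      (W : Set (Fin (k + n) ⊕ Fin (k + n) → F)) ↔ ∀ a : Fin (k + n), a.val < k →
        (g * A₀).1 *ᵥ Cfsg.Agent.S0765.e a ∈ (fun _ : ℕ => W) a.val := by
    intro g
    rw [mem_stab_iff]
    have hmul : ∀ v, (g * A₀).1 *ᵥ v = g.1 *ᵥ (A₀.1 *ᵥ v) := by
      intro v
      rw [Matrix.mulVec_mulVec]
      rfl
    constructor
    · intro h a ha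
      show (g * A₀).1 *ᵥ Cfsg.Agent.S0765.e a ∈ W
      rw [hmul]
      exact (h _).1 (hA₀W a ha)
    · intro h
      have hsub : ∀ v ∈ W, g.1 *ᵥ v ∈ W := by
        have hle' : Submodule.span F (Set.range
            (fun a : Fin k => A₀.1 *ᵥ Cfsg.Agent.S0765.e (F := F) (Fin.castLE hk a))) ≤
              W.comap (Matrix.mulVecLin g.1) := by
          rw [Submodule.span_le]
          rintro _ ⟨a, rfl⟩
          show g.1 *ᵥ (A₀.1 *ᵥ Cfsg.Agent.S0765.e (Fin.castLE hk a)) ∈ W
          rw [← hmul]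
          exact h (Fin.castLE hk a) (by simp)
        have hle : W ≤ W.comap (Matrix.mulVecLin g.1) := by
          rw [hspan] at hle'
          exact hle'
        intro v hv
        exact hle hv
      exact stab_iff_of_le W g.1 (symp_mulVec_injective g) hsub
  rw [card_of_char (fun _ => W) k _ A₀ hchar, hcount, arith]

end Cfsg.Agent.S0775
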