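import Cfsg.Statements.S0776
import Mathlib
import Cfsg.Agent.Lib.Helper9_SpStab

set_option autoImplicit false
open Cfsg

namespace Cfsg.Agent.S0776

open Cfsg.Agent.Helper9SpStab Cfsg.Agent.Lib.Helper1_Symp

/-- Build an element of the symplectic group from a form-preserving matrix. -/
def mkSp {F : Type*} [Field F] {j : ℕ} (M : Matrix (Fin j ⊕ Fin j) (Fin j ⊕ Fin j) F)
    (hpres : ∀ x y, sympForm j F (M.mulVec x) (M.mulVec y) = sympForm j F x y) :
    Matrix.symplecticGroup (Fin j) F :=
  ⟨M, (mem_symplecticGroup_iff_preserves M).2 hpres⟩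

/-- If W ≤ F^(2m) is a 2k-dimensional subspace on which the symplectic form is non-degenerate, then the stabiliser of W in Sp_2m(F) is isomorphic to Sp_2k(F) × Sp_(2m−2k)(F). -/
theorem result {F : Type*} [Field F] (m k : ℕ) (hk : k ≤ m) (W : Submodule F (Fin m ⊕ Fin m → F)) (hWk : Module.finrank F W = 2 * k) (hW : ∀ u ∈ W, (∀ v ∈ W, Cfsg.sympForm m F u v = 0) → u = 0) : Nonempty (↥(Cfsg.stabilizing (Cfsg.spToMat m F) (W : Set (Fin m ⊕ Fin m → F))) ≃* Matrix.symplecticGroup (Fin k) F × Matrix.symplecticGroup (Fin (m - k)) F) := by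
  classical
  obtain ⟨w, hw, hwW⟩ := exists_SF_basis W hW k (by rw [hWk])
  have hfr := finrank_perp w hw
  obtain ⟨u, hu, huP⟩ := exists_SF_basis (perp w) (perp_nondeg w hw) (m - k) (by omega)
  have huw : ∀ b, coords w (u b) = 0 := fun b => (mem_perp w _).1 (huP b)
  have hkl : k + (m - k) = m := by omega
  let G := Cfsg.stabilizing (Cfsg.spToMat m F) (W : Set (Fin m ⊕ Fin m → F))
  let Mat : G → Matrix (Fin m ⊕ Fin m) (Fin m ⊕ Fin m) F := fun g => (g.1 : Matrix _ _ F)
  have hMat_mul : ∀ g g' : G, Mat (g * g') = Mat g * Mat g' := fun g g' => rfl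
  have hpres : ∀ g : G, ∀ x y, sympForm m F ((Mat g).mulVec x) ((Mat g).mulVec y) =
      sympForm m F x y := fun g => (mem_symplecticGroup_iff_preserves _).1 g.1.2
  have hstab : ∀ g : G, ∀ v, v ∈ W ↔ (Mat g).mulVec v ∈ W := fun g v => g.2 v
  have hmemW := mem_W_iff w u hw hu huw hkl W hWk hwW
  have hinv : ∀ g : G, ∀ x, (Mat g).mulVec ((Mat g⁻¹).mulVec x) = x := by
    intro g x
    rw [Matrix.mulVec_mulVec, ← hMat_mul, mul_inv_cancel]
    show (1 : Matrix _ _ F).mulVec x = x
    rw [Matrix.one_mulVec]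
  have hadapt : ∀ g : G, Adapted w u (Mat g) := by
    intro g
    constructor
    · intro b
      exact (hmemW _).1 ((hstab g _).1 (hwW b))
    · intro b
      rw [coords_eq_zero_iff]
      intro a
      have h1 : (Mat g⁻¹).mulVec (w a) ∈ W := (hstab g⁻¹ _).1 (hwW a)
      rw [← hinv g (w a), hpres g, sympForm_swap, neg_eq_zero]
      exact (coords_eq_zero_iff u _).1 ((hmemW _).1 h1) b
  have hpA := fun g : G => (adapted_pres w u hw hu huw hkl (Mat g) (hadapt g) (hpres g)).1
  have hpB := fun g : G => (adapted_pres w u hw hu huw hkl (Mat g) (hadapt g) (hpres g)).2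
  let Ψ : G → Matrix.symplecticGroup (Fin k) F × Matrix.symplecticGroup (Fin (m - k)) F := fun g =>
    (mkSp (blk w (Mat g)) (hpA g), mkSp (blk u (Mat g)) (hpB g))
  have hΨmul : ∀ g g', Ψ (g * g') = Ψ g * Ψ g' := by
    intro g g'
    have h1 := adapted_mul w u hw hu huw hkl (Mat g) (Mat g') (hadapt g) (hadapt g')
    apply Prod.ext
    · apply Subtype.ext
      show blk w (Mat (g * g')) = blk w (Mat g) * blk w (Mat g')
      rw [hMat_mul, h1.1]
    · apply Subtype.ext
      show blk u (Mat (g * g')) = blk u (Mat g) * blk u (Mat g')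
      rw [hMat_mul, h1.2]
  have hΨinj : Function.Injective Ψ := by
    intro g g' h
    have hA : blk w (Mat g) = blk w (Mat g') := congrArg (fun z => (z.1.1 : Matrix _ _ F)) h
    have hB : blk u (Mat g) = blk u (Mat g') := congrArg (fun z => (z.2.1 : Matrix _ _ F)) h
    have hM : Mat g = Mat g' := by
      apply mat_ext
      intro x
      rw [decomp w u hw hu huw hkl x, adapted_apply w u hw hu huw hkl _ (hadapt g),
        adapted_apply w u hw hu huw hkl _ (hadapt g'), hA, hB]
    exact Subtype.ext (Subtype.ext hM)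
  have hΨsurj : Function.Surjective Ψ := by
    rintro ⟨A, B⟩
    set MA : Matrix (Fin k ⊕ Fin k) (Fin k ⊕ Fin k) F := A.1 with hMA
    set MB : Matrix (Fin (m - k) ⊕ Fin (m - k)) (Fin (m - k) ⊕ Fin (m - k)) F := B.1 with hMB
    have hApres := (mem_symplecticGroup_iff_preserves MA).1 A.2
    have hBpres := (mem_symplecticGroup_iff_preserves MB).1 B.2
    let L : (Fin m ⊕ Fin m → F) →ₗ[F] (Fin m ⊕ Fin m → F) :=
      (combL w) ∘ₗ MA.mulVecLin ∘ₗ coordsL w + (combL u) ∘ₗ MB.mulVecLin ∘ₗ coordsL u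
    let M : Matrix (Fin m ⊕ Fin m) (Fin m ⊕ Fin m) F := LinearMap.toMatrix' L
    have hM : ∀ x, M.mulVec x = comb w (MA.mulVec (coords w x)) + comb u (MB.mulVec (coords u x)) := by
      intro x
      show (LinearMap.toMatrix' L).mulVec x = _
      rw [LinearMap.toMatrix'_mulVec]
      rfl
    have hMpres : ∀ x y, sympForm m F (M.mulVec x) (M.mulVec y) = sympForm m F x y := by
      intro x y
      rw [hM, hM, symp_decomp w u hw hu huw, hApres, hBpres, ← symp_decomp w u hw hu huw,
        ← decomp w u hw hu huw hkl, ← decomp w u hw hu huw hkl]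
    have hMBinj : Function.Injective MB.mulVec := by
      intro d d' hdd
      rw [← sub_eq_zero]
      apply symp_nondeg
      intro z
      rw [← hBpres, Matrix.mulVec_sub, hdd, sub_self, sympForm_zero_left]
    have hMstab : ∀ v, v ∈ W ↔ M.mulVec v ∈ W := by
      intro v
      rw [hmemW, hmemW, hM, (coords_comb2 w u hw hu huw _ _).2]
      constructor
      · intro h; rw [h, Matrix.mulVec_zero]
      · intro h
        apply hMBinj
        rw [h, Matrix.mulVec_zero]
    let g₀ : Matrix.symplecticGroup (Fin m) F := mkSp M hMpres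
    have hg₀mem : g₀ ∈ G := hMstab
    refine ⟨⟨g₀, hg₀mem⟩, ?_⟩
    have hMatg : Mat ⟨g₀, hg₀mem⟩ = M := rfl
    have hgw := gram_of_isSF w hw
    have hgu := gram_of_isSF u hu
    apply Prod.ext
    · apply Subtype.ext
      show blk w (Mat ⟨g₀, hg₀mem⟩) = MA
      rw [hMatg]
      apply mat_ext
      intro c
      have h1 := coords_mulVec_comb M w w c
      have h2 := hM (comb w c)
      rw [coords_comb w hw, coords_u_comb_w w u huw, Matrix.mulVec_zero, comb_zero, add_zero] at h2
      rw [h2, coords_comb w hw] at h1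
      exact h1.symm
    · apply Subtype.ext
      show blk u (Mat ⟨g₀, hg₀mem⟩) = MB
      rw [hMatg]
      apply mat_ext
      intro d
      have h1 := coords_mulVec_comb M u u d
      have h2 := hM (comb u d)
      rw [coords_comb u hu, coords_w_comb_u w u huw, Matrix.mulVec_zero, comb_zero, zero_add] at h2
      rw [h2, coords_comb u hu] at h1
      exact h1.symm
  exact ⟨MulEquiv.ofBijective (MonoidHom.mk' Ψ hΨmul) ⟨hΨinj, hΨsurj⟩⟩

end Cfsg.Agent.S0776
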