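import Cfsg.Statements.S0778
import Mathlib
set_option autoImplicit false
open Cfsg
namespace Cfsg.Agent.S0778

open Matrix

variable {F : Type*} [Field F] {m : ℕ}

theorem block_mem (A : Matrix.GeneralLinearGroup (Fin m) F) :
    fromBlocks (A : Matrix (Fin m) (Fin m) F) 0 0 ((A⁻¹ : Matrix.GeneralLinearGroup (Fin m) F) : Matrix (Fin m) (Fin m) F)ᵀ
      ∈ Matrix.symplecticGroup (Fin m) F := by
  rw [SymplecticGroup.fromBlocks_mem_iff]
  refine ⟨by simp, by simp, ?_⟩
  rw [← Matrix.transpose_mul]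
  have : ((A⁻¹ : Matrix.GeneralLinearGroup (Fin m) F) : Matrix (Fin m) (Fin m) F) * (A : Matrix (Fin m) (Fin m) F) = 1 := by
    rw [← Units.val_mul, inv_mul_cancel]; rfl
  rw [this]
  simp

/-- the embedding of GL_m as the Levi factor -/
def φ : Matrix.GeneralLinearGroup (Fin m) F →* Matrix.symplecticGroup (Fin m) F where
  toFun A := ⟨_, block_mem A⟩
  map_one' := by
    apply Subtype.ext
    simp
  map_mul' A B := by
    apply Subtype.ext
    show fromBlocks _ _ _ _ = fromBlocks _ _ _ _ * fromBlocks _ _ _ _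
    rw [Matrix.fromBlocks_multiply]
    simp [Matrix.transpose_mul]

theorem φ_coe (A : Matrix.GeneralLinearGroup (Fin m) F) :
    ((φ A : Matrix.symplecticGroup (Fin m) F) : Matrix (Fin m ⊕ Fin m) (Fin m ⊕ Fin m) F) =
      fromBlocks (A : Matrix (Fin m) (Fin m) F) 0 0 ((A⁻¹ : Matrix.GeneralLinearGroup (Fin m) F) : Matrix (Fin m) (Fin m) F)ᵀ := rfl

theorem φ_injective : Function.Injective (φ : Matrix.GeneralLinearGroup (Fin m) F →* _) := by
  intro A B h
  have h1 := congrArg (fun X : Matrix.symplecticGroup (Fin m) F => (X : Matrix (Fin m ⊕ Fin m) (Fin m ⊕ Fin m) F)) h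
  simp only [φ_coe] at h1
  have := (Matrix.fromBlocks_inj.mp h1).1
  exact Units.ext this

theorem mulVec_block_inl (A D : Matrix (Fin m) (Fin m) F) (v : Fin m ⊕ Fin m → F) (i : Fin m) :
    (fromBlocks A 0 0 D *ᵥ v) (Sum.inl i) = (A *ᵥ (fun j => v (Sum.inl j))) i := by
  simp [Matrix.mulVec, dotProduct, Fintype.sum_sum_type]

theorem mulVec_block_inr (A D : Matrix (Fin m) (Fin m) F) (v : Fin m ⊕ Fin m → F) (i : Fin m) :
    (fromBlocks A 0 0 D *ᵥ v) (Sum.inr i) = (D *ᵥ (fun j => v (Sum.inr j))) i := by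
  simp [Matrix.mulVec, dotProduct, Fintype.sum_sum_type]

theorem range_eq : (φ : Matrix.GeneralLinearGroup (Fin m) F →* _).range =
    Cfsg.stabilizing (Cfsg.spToMat m F) {v : Fin m ⊕ Fin m → F | ∀ i : Fin m, v (Sum.inr i) = 0} ⊓
    Cfsg.stabilizing (Cfsg.spToMat m F) {v : Fin m ⊕ Fin m → F | ∀ i : Fin m, v (Sum.inl i) = 0} := by
  apply le_antisymm
  · rintro _ ⟨A, rfl⟩
    have hAi : (A : Matrix (Fin m) (Fin m) F) * ((A⁻¹ : Matrix.GeneralLinearGroup (Fin m) F) : Matrix (Fin m) (Fin m) F) = 1 := by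
      rw [← Units.val_mul, mul_inv_cancel]; rfl
    have hiA : ((A⁻¹ : Matrix.GeneralLinearGroup (Fin m) F) : Matrix (Fin m) (Fin m) F) * (A : Matrix (Fin m) (Fin m) F) = 1 := by
      rw [← Units.val_mul, inv_mul_cancel]; rfl
    constructor
    · intro v
      show (∀ i, v (Sum.inr i) = 0) ↔ ∀ i, ((φ A).1 *ᵥ v) (Sum.inr i) = 0
      rw [φ_coe]
      simp only [mulVec_block_inr]
      constructor
      · intro h i
        have : (fun j => v (Sum.inr j)) = 0 := funext h
        rw [this]; simp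
      · intro h
        have h0 : ((A⁻¹ : Matrix.GeneralLinearGroup (Fin m) F) : Matrix (Fin m) (Fin m) F)ᵀ *ᵥ (fun j => v (Sum.inr j)) = 0 := funext h
        have := congrArg (fun w => (A : Matrix (Fin m) (Fin m) F)ᵀ *ᵥ w) h0
        simp only [Matrix.mulVec_mulVec, ← Matrix.transpose_mul, hiA, Matrix.transpose_one,
          Matrix.one_mulVec, Matrix.mulVec_zero] at this
        intro i
        exact congrFun this i
    · intro v
      show (∀ i, v (Sum.inl i) = 0) ↔ ∀ i, ((φ A).1 *ᵥ v) (Sum.inl i) = 0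
      rw [φ_coe]
      simp only [mulVec_block_inl]
      constructor
      · intro h i
        have : (fun j => v (Sum.inl j)) = 0 := funext h
        rw [this]; simp
      · intro h
        have h0 : (A : Matrix (Fin m) (Fin m) F) *ᵥ (fun j => v (Sum.inl j)) = 0 := funext h
        have := congrArg (fun w => ((A⁻¹ : Matrix.GeneralLinearGroup (Fin m) F) : Matrix (Fin m) (Fin m) F) *ᵥ w) h0
        simp only [Matrix.mulVec_mulVec, hiA, Matrix.one_mulVec, Matrix.mulVec_zero] at this
        intro i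
        exact congrFun this i
  · rintro g ⟨h1, h2⟩
    have hC : ∀ i j, g.1 (Sum.inr i) (Sum.inl j) = 0 := by
      intro i j
      have hv : (Pi.single (Sum.inl j) 1 : Fin m ⊕ Fin m → F) ∈ {v : Fin m ⊕ Fin m → F | ∀ i : Fin m, v (Sum.inr i) = 0} := by
        intro i; simp
      have := (h1 _).mp hv i
      simpa [Matrix.mulVec_single_one] using this
    have hB : ∀ i j, g.1 (Sum.inl i) (Sum.inr j) = 0 := by
      intro i j
      have hv : (Pi.single (Sum.inr j) 1 : Fin m ⊕ Fin m → F) ∈ {v : Fin m ⊕ Fin m → F | ∀ i : Fin m, v (Sum.inl i) = 0} := by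
        intro i; simp
      have := (h2 _).mp hv i
      simpa [Matrix.mulVec_single_one] using this
    have hg : g.1 = fromBlocks g.1.toBlocks₁₁ 0 0 g.1.toBlocks₂₂ := by
      conv_lhs => rw [← Matrix.fromBlocks_toBlocks g.1]
      congr 1
      · ext i j; exact hB i j
      · ext i j; exact hC i j
    have hmem := g.2
    rw [hg, SymplecticGroup.fromBlocks_mem_iff] at hmem
    have hAD : g.1.toBlocks₁₁ᵀ * g.1.toBlocks₂₂ = 1 := by
      have := hmem.2.2
      simpa using this
    have hdet : g.1.toBlocks₁₁.det ≠ 0 := by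
      intro h0
      have := congrArg Matrix.det hAD
      rw [Matrix.det_mul, Matrix.det_transpose, h0, zero_mul, Matrix.det_one] at this
      exact zero_ne_one this
    refine ⟨Matrix.GeneralLinearGroup.mkOfDetNeZero g.1.toBlocks₁₁ hdet, ?_⟩
    apply Subtype.ext
    rw [φ_coe]
    conv_rhs => rw [hg]
    congr 1
    rw [Matrix.coe_units_inv]
    show (g.1.toBlocks₁₁)⁻¹ᵀ = _
    rw [Matrix.transpose_nonsing_inv]
    exact Matrix.inv_eq_right_inv hAD

theorem result {F : Type*} [Field F] (m : ℕ) : Nonempty (↥(Cfsg.stabilizing (Cfsg.spToMat m F) {v : Fin m ⊕ Fin m → F | ∀ i : Fin m, v (Sum.inr i) = 0} ⊓ Cfsg.stabilizing (Cfsg.spToMat m F) {v : Fin m ⊕ Fin m → F | ∀ i : Fin m, v (Sum.inl i) = 0}) ≃* Matrix.GeneralLinearGroup (Fin m) F) := by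
  refine ⟨MulEquiv.symm ?_⟩
  exact (MonoidHom.ofInjective φ_injective).trans (MulEquiv.subgroupCongr range_eq)

end Cfsg.Agent.S0778
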