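import Cfsg.Statements.S0779
import Mathlib
import Cfsg.Agent.Lib.Helper1_Herm
set_option autoImplicit false
open Cfsg
namespace Cfsg.Agent.S0779

open Cfsg.Agent.Lib.Helper1_Herm Matrix

theorem result {F : Type*} [Field F] [Fintype F] {q : ℕ} (hF : Fintype.card F = q ^ 2) (n : ℕ) (v : Fin n → F) (hv : v ≠ 0) (hv0 : Cfsg.hermForm n F q v v = 0) (c : F) : (∀ x y : Fin n → F, Cfsg.hermForm n F q ((Cfsg.unitaryTransvection n q v c).mulVec x) ((Cfsg.unitaryTransvection n q v c).mulVec y) = Cfsg.hermForm n F q x y) ↔ (c = 0 ∨ c ^ (q - 1) = -1) := by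
  classical
  have hq2 := two_le_q hF
  have hkey : (c ^ q + c = 0) ↔ (c = 0 ∨ c ^ (q - 1) = -1) := by
    have : c ^ q + c = c * (c ^ (q - 1) + 1) := by
      have hq : q = (q - 1) + 1 := by omega
      conv_lhs => rw [hq, pow_succ]
      ring
    rw [this, mul_eq_zero]
    constructor
    · rintro (h | h)
      · exact Or.inl h
      · exact Or.inr (eq_neg_of_add_eq_zero_left h)
    · rintro (h | h)
      · exact Or.inl h
      · right; rw [h]; ring
  rw [← hkey]
  constructor
  · intro h
    obtain ⟨i, hi⟩ : ∃ i, v i ≠ 0 := by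
      by_contra hcon
      push Not at hcon
      exact hv (funext hcon)
    have := h (Pi.single i 1) (Pi.single i 1)
    rw [hermForm_unitaryTransvection hF v hv0] at this
    have h1 : hermForm n F q (Pi.single i 1) v = v i ^ q := by
      simp [hermForm, Pi.single_apply]
    have h2 : hermForm n F q v (Pi.single i 1) = v i := by
      unfold hermForm
      rw [Finset.sum_eq_single i]
      · simp
      · intro j _ hj
        have hq0 : q ≠ 0 := by omega
        simp [Pi.single_apply, hj, hq0]
      · intro h; exact absurd (Finset.mem_univ i) h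
    rw [h1, h2] at this
    have hne : v i ^ q * v i ≠ 0 := mul_ne_zero (pow_ne_zero _ hi) hi
    have h3 : (c ^ q + c) * (v i ^ q * v i) = 0 := by
      have := this
      linear_combination this
    rcases mul_eq_zero.mp h3 with h | h
    · exact h
    · exact absurd h hne
  · intro h x y
    rw [hermForm_unitaryTransvection hF v hv0, h, zero_mul, add_zero]

end Cfsg.Agent.S0779
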