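import Cfsg.Statements.S0783
import Mathlib
import Cfsg.Agent.Lib.Helper9_SUCenter

set_option autoImplicit false
open Cfsg

namespace Cfsg.Agent.S0783

open Cfsg.Agent.Helper9HermCount Cfsg.Agent.Helper9GUOrder Cfsg.Agent.Helper9SUOrder
  Cfsg.Agent.Helper9SUCenter

variable {F : Type*} [Field F] [Fintype F] [DecidableEq F] {q : ℕ} {n : ℕ}

/-- The norm-one group. -/
abbrev U1 (F : Type*) [Field F] (q : ℕ) : Subgroup Fˣ := (powMonoidHom (q + 1) : Fˣ →* Fˣ).ker

lemma mem_U1 (u : Fˣ) : u ∈ U1 F q ↔ (u : F) ^ (q + 1) = 1 := by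
  rw [MonoidHom.mem_ker, powMonoidHom_apply, Units.ext_iff]
  simp

lemma card_U1 (hF : Fintype.card F = q ^ 2) : Nat.card (U1 F q) = q + 1 := by
  have hq := q_ge_two hF
  have := IsCyclic.card_powMonoidHom_ker Fˣ (q + 1)
  rw [this, Nat.card_units, Nat.card_eq_fintype_card, hF]
  apply Nat.gcd_eq_right
  refine ⟨q - 1, ?_⟩
  obtain ⟨k, rfl⟩ : ∃ k, q = k + 1 := ⟨q - 1, by omega⟩
  simp only [Nat.add_sub_cancel]
  have : (k + 1) ^ 2 = (k + 1 + 1) * k + 1 := by ring
  rw [this, Nat.add_sub_cancel]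

/-- The determinant, as a map onto the norm-one group. -/
noncomputable def detU (hF : Fintype.card F = q ^ 2) (n : ℕ) : GU n F q →* U1 F q :=
  (detGU n F q).codRestrict (U1 F q) (fun g => by
    rw [mem_U1, detGU_val]
    exact det_pow_eq_one hF _ ((mem_GU_iff g.1).1 g.2))

lemma detU_surj (hF : Fintype.card F = q ^ 2) (hn : 1 ≤ n) : Function.Surjective (detU hF n) := by
  intro u
  obtain ⟨g, hg⟩ := (detGU_range hF hn u.1).2 ((mem_U1 u.1).1 u.2)
  exact ⟨g, Subtype.ext hg⟩

/-- Scalar elements of `GU`. -/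
noncomputable def scalarGU (n : ℕ) (u : U1 F q) : GU n F q :=
  ⟨Matrix.GeneralLinearGroup.scalar (Fin n) u.1, by
    rw [mem_GU_iff]
    intro x y
    rw [Matrix.GeneralLinearGroup.coe_scalar, Matrix.scalar_apply]
    exact diag_pres _ (fun _ => (mem_U1 u.1).1 u.2) x y⟩

lemma scalarGU_center (u : U1 F q) : scalarGU n u ∈ Subgroup.center (GU n F q) := by
  rw [Subgroup.mem_center_iff]
  intro h
  apply Subtype.ext
  exact (Matrix.GeneralLinearGroup.scalar_commute u.1 h.1).symm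

lemma detU_scalarGU (hF : Fintype.card F = q ^ 2) (u : U1 F q) :
    detU hF n (scalarGU n u) = u ^ n := by
  apply Subtype.ext
  show Matrix.GeneralLinearGroup.det (Matrix.GeneralLinearGroup.scalar (Fin n) u.1) = _
  rw [Matrix.GeneralLinearGroup.det_scalar, Fintype.card_fin]
  rfl

lemma center_det (hF : Fintype.card F = q ^ 2) (hn : 1 ≤ n) (z : GU n F q)
    (hz : z ∈ Subgroup.center (GU n F q)) : ∃ u : U1 F q, detU hF n z = u ^ n := by
  have hq := q_ge_two hF
  have hcomm : ∀ M, IsSUMat n q M →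
      M * (z.1 : Matrix (Fin n) (Fin n) F) = (z.1 : Matrix (Fin n) (Fin n) F) * M := by
    intro M hM
    have := (Subgroup.mem_center_iff.1 hz) (suToGU n F q (mkSU M hM))
    have h2 := congrArg (fun g : GU n F q => ((g.1 : Matrix.GeneralLinearGroup (Fin n) F) :
      Matrix (Fin n) (Fin n) F)) this
    exact h2
  have hsc := center_scalar hF hn _ hcomm
  set mu : F := (z.1 : Matrix (Fin n) (Fin n) F) ⟨0, hn⟩ ⟨0, hn⟩ with hmu
  have hpres := (mem_GU_iff z.1).1 z.2
  rw [hsc] at hpres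
  have hmu1 : mu ^ (q + 1) = 1 := by
    have := gu_entry (by omega : q ≠ 0) _ hpres ⟨0, hn⟩ ⟨0, hn⟩
    rw [if_pos rfl, Finset.sum_eq_single ⟨0, hn⟩] at this
    · simpa [pow_succ'] using this
    · intro r _ hr
      simp [hr]
    · intro h; exact absurd (Finset.mem_univ _) h
  have hmu0 : mu ≠ 0 := by
    intro h0
    rw [h0, zero_pow (Nat.succ_ne_zero q)] at hmu1
    exact zero_ne_one hmu1
  refine ⟨⟨Units.mk0 mu hmu0, (mem_U1 _).2 hmu1⟩, ?_⟩
  apply Subtype.ext
  apply Units.ext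
  show ((z.1 : Matrix.GeneralLinearGroup (Fin n) F) : Matrix (Fin n) (Fin n) F).det = _
  rw [hsc, Matrix.det_smul, Matrix.det_one, Fintype.card_fin, mul_one]
  simp

theorem result {F : Type*} [Field F] [Fintype F] {q : ℕ} (hF : Fintype.card F = q ^ 2) (n : ℕ) (hn : 2 ≤ n) : ∃ φ : ↥(Cfsg.GU n F q) →* Multiplicative (ZMod (Nat.gcd n (q + 1))), Function.Surjective φ ∧ φ.ker = (Matrix.GeneralLinearGroup.det : Matrix.GeneralLinearGroup (Fin n) F →* Fˣ).ker.subgroupOf (Cfsg.GU n F q) ⊔ Subgroup.center ↥(Cfsg.GU n F q) := by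
  classical
  have hn1 : 1 ≤ n := by omega
  let R : Subgroup (U1 F q) := (powMonoidHom n : U1 F q →* U1 F q).range
  have hcardQ : Nat.card (U1 F q ⧸ R) = Nat.gcd n (q + 1) := by
    rw [← Subgroup.index_eq_card, IsCyclic.index_powMonoidHom_range, card_U1 hF, Nat.gcd_comm]
  have hdpos : Nat.gcd n (q + 1) ≠ 0 := by
    intro h
    have := Nat.gcd_eq_zero_iff.1 h
    omega
  haveI : NeZero (Nat.gcd n (q + 1)) := ⟨hdpos⟩
  haveI : IsCyclic (U1 F q ⧸ R) :=
    isCyclic_of_surjective (QuotientGroup.mk' R) (QuotientGroup.mk'_surjective R)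
  have hcard2 : Nat.card (U1 F q ⧸ R) = Nat.card (Multiplicative (ZMod (Nat.gcd n (q + 1)))) := by
    rw [hcardQ, Nat.card_eq_fintype_card, Fintype.card_multiplicative, ZMod.card]
  let e : (U1 F q ⧸ R) ≃* Multiplicative (ZMod (Nat.gcd n (q + 1))) := mulEquivOfCyclicCardEq hcard2
  let φ : GU n F q →* Multiplicative (ZMod (Nat.gcd n (q + 1))) :=
    e.toMonoidHom.comp ((QuotientGroup.mk' R).comp (detU hF n))
  have hφker : ∀ g, g ∈ φ.ker ↔ ∃ u : U1 F q, detU hF n g = u ^ n := by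
    intro g
    rw [MonoidHom.mem_ker]
    show e (QuotientGroup.mk' R (detU hF n g)) = 1 ↔ _
    rw [MulEquiv.map_eq_one_iff, QuotientGroup.mk'_apply, QuotientGroup.eq_one_iff]
    constructor
    · rintro ⟨u, hu⟩
      exact ⟨u, hu.symm⟩
    · rintro ⟨u, hu⟩
      exact ⟨u, hu.symm⟩
  refine ⟨φ, ?_, ?_⟩
  · exact e.surjective.comp ((QuotientGroup.mk'_surjective R).comp (detU_surj hF hn1))
  · apply le_antisymm
    · intro g hg
      obtain ⟨u, hu⟩ := (hφker g).1 hg
      have h1 : g = (g * (scalarGU n u)⁻¹) * scalarGU n u := by group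
      rw [h1]
      apply Subgroup.mul_mem_sup
      · rw [Subgroup.mem_subgroupOf, MonoidHom.mem_ker]
        have h2 : detU hF n (g * (scalarGU n u)⁻¹) = 1 := by
          rw [map_mul, map_inv, detU_scalarGU, hu, mul_inv_cancel]
        have h3 := congrArg (fun x : U1 F q => (x : Fˣ)) h2
        exact h3
      · exact scalarGU_center u
    · apply sup_le
      · intro g hg
        rw [Subgroup.mem_subgroupOf, MonoidHom.mem_ker] at hg
        rw [hφker]
        refine ⟨1, ?_⟩
        rw [one_pow]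
        apply Subtype.ext
        exact hg
      · intro z hz
        rw [hφker]
        exact center_det hF hn1 z hz

end Cfsg.Agent.S0783
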