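import Cfsg.Statements.S0785
import Mathlib
import Cfsg.Agent.Lib.Helper1_Orth
set_option autoImplicit false
open Cfsg
namespace Cfsg.Agent.S0785

open Cfsg.Agent.Lib.Helper1_Orth Matrix

variable {F : Type*} [Field F] {ι : Type} [Fintype ι] [DecidableEq ι]

theorem mem_isometryGroup_iff (Q : (ι → F) → F) (g : Matrix.GeneralLinearGroup ι F) :
    g ∈ isometryGroup F Q ↔ ∀ x, Q ((g : Matrix ι ι F) *ᵥ x) = Q x := by
  constructor
  · intro h x
    exact h x x
  · intro h x _
    exact h x

theorem det_sq_of_isometry (Q : QuadraticForm F (ι → F)) (hQ : (QuadraticMap.polarBilin Q).Nondegenerate)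
    (g : Matrix ι ι F) (hg : ∀ x, Q (g *ᵥ x) = Q x) : g.det * g.det = 1 := by
  set B : LinearMap.BilinForm F (ι → F) := QuadraticMap.polarBilin Q with hB
  have hcomp : B.comp (Matrix.toLin' g) (Matrix.toLin' g) = B := by
    refine LinearMap.ext₂ (fun x y => ?_)
    simp only [LinearMap.BilinForm.comp_apply, Matrix.toLin'_apply, hB,
      QuadraticMap.polarBilin_apply_apply, QuadraticMap.polar]
    rw [← Matrix.mulVec_add, hg, hg, hg]
  have hM := LinearMap.BilinForm.toMatrix'_comp B (Matrix.toLin' g) (Matrix.toLin' g)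
  rw [hcomp, LinearMap.toMatrix'_toLin'] at hM
  have hdet := congrArg Matrix.det hM
  rw [Matrix.det_mul, Matrix.det_mul, Matrix.det_transpose] at hdet
  have hne : (LinearMap.BilinForm.toMatrix' B).det ≠ 0 := by
    rw [← Matrix.nondegenerate_iff_det_ne_zero, LinearMap.BilinForm.nondegenerate_toMatrix'_iff]
    exact hQ
  have : (g.det * g.det - 1) * (LinearMap.BilinForm.toMatrix' B).det = 0 := by
    linear_combination -hdet
  rcases mul_eq_zero.mp this with h | h
  · exact sub_eq_zero.mp h
  · exact absurd h hne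

theorem result {F : Type*} [Field F] {n : ℕ} (Q : QuadraticForm F (Fin n → F)) (hQ : (QuadraticMap.polarBilin Q).Nondegenerate) : (∀ g : ↥(Cfsg.isometryGroup F ⇑Q), ((g : Matrix.GeneralLinearGroup (Fin n) F) : Matrix (Fin n) (Fin n) F).det = 1 ∨ ((g : Matrix.GeneralLinearGroup (Fin n) F) : Matrix (Fin n) (Fin n) F).det = -1) ∧ ((∃ v, Q v ≠ 0) → ∃ g : ↥(Cfsg.isometryGroup F ⇑Q), ((g : Matrix.GeneralLinearGroup (Fin n) F) : Matrix (Fin n) (Fin n) F).det = -1) := by
  constructor
  · intro g
    have h := det_sq_of_isometry Q hQ _ ((mem_isometryGroup_iff (⇑Q) g.1).mp g.2)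
    have : (((g : Matrix.GeneralLinearGroup (Fin n) F) : Matrix (Fin n) (Fin n) F).det - 1) *
        (((g : Matrix.GeneralLinearGroup (Fin n) F) : Matrix (Fin n) (Fin n) F).det + 1) = 0 := by
      linear_combination h
    rcases mul_eq_zero.mp this with h | h
    · exact Or.inl (sub_eq_zero.mp h)
    · exact Or.inr (eq_neg_of_add_eq_zero_left h)
  · rintro ⟨v, hv⟩
    have hdet : (reflectionMatrix (⇑Q) v).det = -1 := reflection_det Q v hv
    have hne : (reflectionMatrix (⇑Q) v).det ≠ 0 := by rw [hdet]; simp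
    let g : Matrix.GeneralLinearGroup (Fin n) F :=
      Matrix.GeneralLinearGroup.mkOfDetNeZero (reflectionMatrix (⇑Q) v) hne
    have hg : g ∈ isometryGroup F ⇑Q := by
      rw [mem_isometryGroup_iff]
      intro x
      exact reflection_isometry Q v hv x
    exact ⟨⟨g, hg⟩, hdet⟩

end Cfsg.Agent.S0785
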