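import Cfsg.Statements.S0793
import Mathlib
import Cfsg.Agent.Lib.Helper1_Orth
set_option autoImplicit false
open Cfsg
namespace Cfsg.Agent.S0793

open Cfsg.Agent.Lib.Helper1_Orth Matrix

variable {F : Type*} [Field F] {ι : Type} [Fintype ι] [DecidableEq ι]

theorem siegel_isometry (Q : QuadraticForm F (ι → F)) (u v : ι → F) (hu : Q u = 0) (hv : Q v = 0)
    (huv : QuadraticMap.polar ⇑Q u v = 0) (c : F) (x : ι → F) :
    Q (siegelMatrix ⇑Q u v c *ᵥ x) = Q x := by
  rw [siegelMatrix_mulVec]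
  have hvu : QuadraticMap.polar ⇑Q v u = 0 := by rw [QuadraticMap.polar_comm]; exact huv
  have hw : c • (QuadraticMap.polar ⇑Q u x • v - QuadraticMap.polar ⇑Q v x • u) =
      (c * QuadraticMap.polar ⇑Q u x) • v + (-(c * QuadraticMap.polar ⇑Q v x)) • u := by
    module
  rw [hw, QuadraticMap.map_add (⇑Q) x, QuadraticMap.map_add (⇑Q) (_ • v) (_ • u)]
  simp only [QuadraticMap.map_smul, QuadraticMap.polar_add_right, QuadraticMap.polar_smul_right,
    QuadraticMap.polar_smul_left, hu, hv, hvu, smul_eq_mul]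
  rw [QuadraticMap.polar_comm (⇑Q) x v, QuadraticMap.polar_comm (⇑Q) x u]
  ring

theorem siegel_polar_u (Q : QuadraticForm F (ι → F)) (u v : ι → F) (hu : Q u = 0)
    (huv : QuadraticMap.polar ⇑Q u v = 0) (c : F) (x : ι → F) :
    QuadraticMap.polar ⇑Q u (siegelMatrix ⇑Q u v c *ᵥ x) = QuadraticMap.polar ⇑Q u x := by
  rw [siegelMatrix_mulVec]
  have huu : QuadraticMap.polar ⇑Q u u = 0 := by rw [QuadraticMap.polar_self, hu]; simp
  simp only [QuadraticMap.polar_add_right, QuadraticMap.polar_smul_right,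
    QuadraticMap.polar_sub_right, huv, huu, smul_eq_mul]
  ring

theorem siegel_polar_v (Q : QuadraticForm F (ι → F)) (u v : ι → F) (hv : Q v = 0)
    (huv : QuadraticMap.polar ⇑Q u v = 0) (c : F) (x : ι → F) :
    QuadraticMap.polar ⇑Q v (siegelMatrix ⇑Q u v c *ᵥ x) = QuadraticMap.polar ⇑Q v x := by
  rw [siegelMatrix_mulVec]
  have hvv : QuadraticMap.polar ⇑Q v v = 0 := by rw [QuadraticMap.polar_self, hv]; simp
  have hvu : QuadraticMap.polar ⇑Q v u = 0 := by rw [QuadraticMap.polar_comm]; exact huv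
  simp only [QuadraticMap.polar_add_right, QuadraticMap.polar_smul_right,
    QuadraticMap.polar_sub_right, hvu, hvv, smul_eq_mul]
  ring

theorem result {F : Type*} [Field F] {n : ℕ} (Q : QuadraticForm F (Fin n → F)) (u v : Fin n → F) (hu : Q u = 0) (hv : Q v = 0) (huv : QuadraticMap.polar ⇑Q u v = 0) : (∀ c x, Q ((Cfsg.siegelMatrix ⇑Q u v c).mulVec x) = Q x) ∧ (∀ c, (Cfsg.siegelMatrix ⇑Q u v c).mulVec u = u ∧ (Cfsg.siegelMatrix ⇑Q u v c).mulVec v = v) ∧ ∀ c d, Cfsg.siegelMatrix ⇑Q u v c * Cfsg.siegelMatrix ⇑Q u v d = Cfsg.siegelMatrix ⇑Q u v (c + d) := by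
  have huu : QuadraticMap.polar ⇑Q u u = 0 := by rw [QuadraticMap.polar_self, hu]; simp
  have hvv : QuadraticMap.polar ⇑Q v v = 0 := by rw [QuadraticMap.polar_self, hv]; simp
  have hvu : QuadraticMap.polar ⇑Q v u = 0 := by rw [QuadraticMap.polar_comm]; exact huv
  refine ⟨fun c x => siegel_isometry Q u v hu hv huv c x, ?_, ?_⟩
  · intro c
    constructor
    · rw [siegelMatrix_mulVec, huu, hvu]; simp
    · rw [siegelMatrix_mulVec, huv, hvv]; simp
  · intro c d
    apply Matrix.mulVec_injective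
    funext x
    rw [← Matrix.mulVec_mulVec, siegelMatrix_mulVec Q u v c, siegel_polar_u Q u v hu huv,
      siegel_polar_v Q u v hv huv, siegelMatrix_mulVec, siegelMatrix_mulVec]
    module

end Cfsg.Agent.S0793
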