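import Cfsg.Statements.S0796
import Mathlib
import Cfsg.Agent.Lib.Helper1_MinNormal
set_option autoImplicit false
open Cfsg
namespace Cfsg.Agent.S0796

open Cfsg.Agent.Lib.Helper1_MinNormal

theorem result {G X : Type*} [Group G] [Finite G] [MulAction G X] [FaithfulSMul G X] (hprim : MulAction.IsPreprimitive G X) (x : X) (A : Subgroup G) (hA : A ≤ MulAction.stabilizer G x) (hAn : (A.subgroupOf (MulAction.stabilizer G x)).Normal) (hgen : Subgroup.normalClosure (A : Set G) = ⊤) (K : Subgroup G) [K.Normal] (hK : K ≠ ⊥) : ∃ (B : Subgroup A) (_ : B.Normal), Nonempty (G ⧸ K ≃* A ⧸ B) := by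
  have htrans : MulAction.IsPretransitive K X := isPretransitive_of_normal hprim K hK
  -- every g is k * h
  have hfac : ∀ g : G, ∃ k ∈ K, ∃ h ∈ MulAction.stabilizer G x, g = k * h := by
    intro g
    obtain ⟨k, hk⟩ := MulAction.exists_smul_eq K x (g • x)
    refine ⟨k.1, k.2, k.1⁻¹ * g, ?_, by group⟩
    rw [MulAction.mem_stabilizer_iff, mul_smul]
    have : (k : G) • x = g • x := hk
    rw [← this, inv_smul_smul]
  have hconjA : ∀ h ∈ MulAction.stabilizer G x, ∀ a ∈ A, h * a * h⁻¹ ∈ A := by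
    intro h hh a ha
    have := hAn.conj_mem ⟨a, hA ha⟩ (by rw [Subgroup.mem_subgroupOf]; exact ha) ⟨h, hh⟩
    rw [Subgroup.mem_subgroupOf] at this
    exact this
  have hle : Subgroup.normalClosure (A : Set G) ≤ K ⊔ A := by
    rw [Subgroup.normalClosure]
    apply (Subgroup.closure_le _).mpr
    intro y hy
    rw [Group.mem_conjugatesOfSet_iff] at hy
    obtain ⟨a, ha, hconj⟩ := hy
    rw [isConj_iff] at hconj
    obtain ⟨g, rfl⟩ := hconj
    obtain ⟨k, hk, h, hh, rfl⟩ := hfac g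
    have ha' := hconjA h hh a ha
    have : k * h * a * (k * h)⁻¹ = (k * ((h * a * h⁻¹) * k⁻¹ * (h * a * h⁻¹)⁻¹)) * (h * a * h⁻¹) := by
      group
    show k * h * a * (k * h)⁻¹ ∈ K ⊔ A
    rw [this]
    apply Subgroup.mul_mem
    · apply Subgroup.mem_sup_left
      apply Subgroup.mul_mem _ hk
      exact Subgroup.Normal.conj_mem inferInstance _ (Subgroup.inv_mem _ hk) _
    · exact Subgroup.mem_sup_right ha'
  have htop : K ⊔ A = ⊤ := by
    rw [eq_top_iff, ← hgen]; exact hle
  let φ : A →* G ⧸ K := (QuotientGroup.mk' K).comp A.subtype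
  have hsurj : Function.Surjective φ := by
    intro y
    obtain ⟨g, rfl⟩ := QuotientGroup.mk_surjective y
    have hg : g ∈ K ⊔ A := by rw [htop]; trivial
    rw [← SetLike.mem_coe, Subgroup.normal_mul] at hg
    obtain ⟨k, hk, a, ha, rfl⟩ := hg
    refine ⟨⟨a, ha⟩, ?_⟩
    show (QuotientGroup.mk a : G ⧸ K) = QuotientGroup.mk (k * a)
    rw [QuotientGroup.eq]
    have : a⁻¹ * (k * a) = a⁻¹ * k * a⁻¹⁻¹ := by group
    rw [this]
    exact Subgroup.Normal.conj_mem inferInstance _ hk _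
  exact ⟨φ.ker, inferInstance, ⟨(QuotientGroup.quotientKerEquivOfSurjective φ hsurj).symm⟩⟩

end Cfsg.Agent.S0796
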