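import Cfsg.Statements.S0800
import Mathlib
set_option autoImplicit false
open Cfsg
namespace Cfsg.Agent.S0800

open Matrix Polynomial

variable {F : Type*} [Field F]

/-- if charpoly divides `P`, then `P(M) = 0` -/
theorem aeval_eq_zero_of_charpoly_dvd (M : Matrix (Fin 2) (Fin 2) F) (P : F[X])
    (h : M.charpoly ∣ P) : aeval M P = 0 := by
  obtain ⟨r, hr⟩ := h
  rw [hr, map_mul, Matrix.aeval_self_charpoly, zero_mul]

/-- if charpoly divides `X^k - 1`, then `M^k = 1` -/
theorem pow_eq_one_of_charpoly_dvd (M : Matrix (Fin 2) (Fin 2) F) (k : ℕ)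
    (h : M.charpoly ∣ (X ^ k - 1 : F[X])) : M ^ k = 1 := by
  have := aeval_eq_zero_of_charpoly_dvd M _ h
  simp only [map_sub, map_pow, aeval_X, map_one] at this
  exact sub_eq_zero.mp this

/-- two distinct roots of `X^k - 1` which are the roots of a monic quadratic -/
theorem quad_dvd {K : Type*} [Field K] (lam lam' : K) (hne : lam ≠ lam') (k : ℕ)
    (h1 : lam ^ k = 1) (h2 : lam' ^ k = 1) :
    ((X - C lam) * (X - C lam') : K[X]) ∣ X ^ k - 1 := by
  apply IsCoprime.mul_dvd
  · exact Polynomial.isCoprime_X_sub_C_of_isUnit_sub (sub_ne_zero.mpr hne).isUnit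
  · rw [Polynomial.dvd_iff_isRoot]; simp [h1]
  · rw [Polynomial.dvd_iff_isRoot]; simp [h2]

theorem result {F : Type*} [Field F] [Fintype F] {q : ℕ} (hF : Fintype.card F = q) (p : ℕ) [Fact p.Prime] [CharP F p] (g : Matrix.SpecialLinearGroup (Fin 2) F) (hg : Nat.Coprime (orderOf g) p) : orderOf g ∣ q - 1 ∨ orderOf g ∣ q + 1 := by
  classical
  have hp : p.Prime := Fact.out
  obtain ⟨k, -, hqk⟩ := FiniteField.card F p
  rw [hF] at hqk
  set M : Matrix (Fin 2) (Fin 2) F := (g : Matrix (Fin 2) (Fin 2) F) with hM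
  have hdet : M.det = 1 := g.2
  set τ : F := M.trace with hτ
  have hχ : M.charpoly = X ^ 2 - C τ * X + 1 := by
    rw [Matrix.charpoly_fin_two, hdet, ← hτ]; simp
  have hpowg : ∀ j : ℕ, M ^ j = 1 → orderOf g ∣ j := by
    intro j hj
    apply orderOf_dvd_of_pow_eq_one
    apply Subtype.ext
    rw [Matrix.SpecialLinearGroup.coe_pow]
    exact hj
  let K := AlgebraicClosure F
  have hcharK : CharP K p := charP_of_injective_algebraMap (algebraMap F K).injective p
  set τ' : K := algebraMap F K τ with hτ'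
  have hχK : (M.charpoly).map (algebraMap F K) = X ^ 2 - C τ' * X + 1 := by
    rw [hχ]; simp [τ']
  have hdeg : ((M.charpoly).map (algebraMap F K)).degree ≠ 0 := by
    rw [hχK]
    have : (X ^ 2 - C τ' * X + 1 : K[X]).degree = 2 := by
      compute_degree!
    rw [this]; norm_num
  obtain ⟨lam, hlam⟩ := IsAlgClosed.exists_root ((M.charpoly).map (algebraMap F K)) hdeg
  rw [hχK] at hlam
  have hlam_eq : lam ^ 2 - τ' * lam + 1 = 0 := by
    simpa using hlam
  set lam' : K := τ' - lam with hlam'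
  have hprod : lam * lam' = 1 := by
    rw [hlam']; linear_combination -hlam_eq
  have hlam0 : lam ≠ 0 := by
    intro h; rw [h, zero_mul] at hprod; exact zero_ne_one hprod
  have hfac : (X ^ 2 - C τ' * X + 1 : K[X]) = (X - C lam) * (X - C lam') := by
    have h1 : (C τ' : K[X]) = C lam + C lam' := by rw [← C_add, hlam']; congr 1; ring
    have h2 : (1 : K[X]) = C lam * C lam' := by rw [← C_mul, hprod]; simp
    rw [h1]
    nth_rewrite 1 [h2]
    ring
  -- τ'^q = τ'
  have hτq : τ' ^ q = τ' := by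
    rw [hτ', ← map_pow, ← hF, FiniteField.pow_card]
  -- Frobenius
  have hfrob : (lam ^ q) ^ 2 - τ' * lam ^ q + 1 = 0 := by
    have h : (lam ^ 2 - τ' * lam + 1) ^ q = 0 := by
      rw [hlam_eq, zero_pow (by rw [hqk]; exact pow_ne_zero _ hp.ne_zero)]
    have e : (lam ^ 2 - τ' * lam + 1) ^ q = (lam ^ q) ^ 2 - τ' ^ q * lam ^ q + 1 := by
      rw [hqk, add_pow_char_pow, sub_pow_char_pow, one_pow, mul_pow]
      ring
    rw [e, hτq] at h
    exact h
  have hcases : (lam ^ q - lam) * (lam ^ q - lam') = 0 := by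
    rw [hlam']; linear_combination hfrob - hlam_eq
  have hdvd_back : ∀ j : ℕ, ((X - C lam) * (X - C lam') : K[X]) ∣ X ^ j - 1 → M ^ j = 1 := by
    intro j hj
    apply pow_eq_one_of_charpoly_dvd
    rw [← hfac, ← hχK] at hj
    have : (X ^ j - 1 : K[X]) = (X ^ j - 1 : F[X]).map (algebraMap F K) := by simp
    rw [this] at hj
    exact (Polynomial.map_dvd_map' (algebraMap F K)).mp hj
  have hq1 : 1 ≤ q := by rw [← hF]; exact Fintype.card_pos
  by_cases hne : lam = lam'
  · -- repeated root: lam^2 = 1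
    have hl2 : lam ^ 2 = 1 := by rw [sq]; nth_rewrite 2 [hne]; exact hprod
    have hτ2 : τ' = 2 * lam := by rw [hlam'] at hne; linear_combination -hne
    have hτsq : τ ^ 2 = 4 := by
      apply (algebraMap F K).injective
      rw [map_pow, ← hτ', hτ2, mul_pow, hl2]
      have : (algebraMap F K) 4 = 4 := map_ofNat (algebraMap F K) 4
      rw [this]; norm_num
    -- (X^2-1)^2 = charpoly * (X^2 + τ X + 1)
    have hpoly : M.charpoly ∣ ((X ^ 2 - 1) ^ 2 : F[X]) := by
      refine ⟨X ^ 2 + C τ * X + 1, ?_⟩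
      rw [hχ]
      have hc : (C τ : F[X]) ^ 2 = 4 := by rw [← C_pow, hτsq]; exact map_ofNat C 4
      linear_combination ((X : F[X]) ^ 2) * hc
    have hN2 : (M ^ 2 - 1) ^ 2 = 0 := by
      have := aeval_eq_zero_of_charpoly_dvd M _ hpoly
      simpa using this
    have hNp : (M ^ 2 - 1) ^ p = 0 := by
      have h2p : 2 ≤ p := hp.two_le
      have : p = 2 + (p - 2) := by omega
      rw [this, pow_add, hN2, zero_mul]
    have hM2p : M ^ (2 * p) = 1 := by
      have hcharM : CharP (Matrix (Fin 2) (Fin 2) F) p := inferInstance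
      have e : M ^ 2 = 1 + (M ^ 2 - 1) := by abel
      rw [pow_mul, e, add_pow_char_of_commute p (Commute.one_left _), hNp, one_pow, add_zero]
    have hdvd := hpowg _ hM2p
    have h2 : orderOf g ∣ 2 := (Nat.Coprime.dvd_mul_right hg).mp hdvd
    left
    by_cases hp2 : p = 2
    · rw [hp2] at hg
      have : orderOf g = 1 := Nat.Coprime.eq_one_of_dvd hg h2
      rw [this]; exact one_dvd _
    · have hodd : Odd p := hp.odd_of_ne_two hp2
      have : Odd q := by rw [hqk]; exact hodd.pow
      have h2q : 2 ∣ q - 1 := by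
        obtain ⟨r, hr⟩ := this
        exact ⟨r, by omega⟩
      exact dvd_trans h2 h2q
  · have hne' : lam ≠ lam' := hne
    rcases mul_eq_zero.mp hcases with h | h
    · left
      have h1 : lam ^ (q - 1) = 1 := by
        have : lam ^ (q - 1) * lam = 1 * lam := by
          rw [← pow_succ, Nat.sub_add_cancel hq1, one_mul]; exact sub_eq_zero.mp h
        exact mul_right_cancel₀ hlam0 this
      have h2 : lam' ^ (q - 1) = 1 := by
        have : lam' = lam⁻¹ := eq_inv_of_mul_eq_one_right hprod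
        rw [this, inv_pow, h1, inv_one]
      exact hpowg _ (hdvd_back _ (quad_dvd lam lam' hne' _ h1 h2))
    · right
      have h1 : lam ^ (q + 1) = 1 := by
        rw [pow_succ, sub_eq_zero.mp h, mul_comm]; exact hprod
      have h2 : lam' ^ (q + 1) = 1 := by
        have : lam' = lam⁻¹ := eq_inv_of_mul_eq_one_right hprod
        rw [this, inv_pow, h1, inv_one]
      exact hpowg _ (hdvd_back _ (quad_dvd lam lam' hne' _ h1 h2))

end Cfsg.Agent.S0800
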