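import Cfsg.Statements.S0803
import Cfsg.Agent.Lib.Helper4_PSL2S4

set_option autoImplicit false
open Cfsg

namespace Cfsg.Agent.S0803


/-- PSL_2(q) has a subgroup isomorphic to S_4 iff q² ≡ 1 (mod 16). -/
theorem result {F : Type*} [Field F] [Fintype F] {q : ℕ} (hF : Fintype.card F = q) : (∃ H : Subgroup (Matrix.ProjectiveSpecialLinearGroup (Fin 2) F), Nonempty (H ≃* Equiv.Perm (Fin 4))) ↔ q ^ 2 % 16 = 1 := by
  exact Cfsg.Agent.Lib.Helper4_PSL2S4.S0803_main hF

end Cfsg.Agent.S0803
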