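import Mathlib
import Cfsg.Statements.S0819
import Cfsg.Agent.Lib.Helper9_GF4

set_option autoImplicit false
open Cfsg

namespace Cfsg.Agent.S0819

open Cfsg.Agent.Helper9GF4 Matrix

/-! ### index level recurrences -/

/-- coefficients of `g^n` on `g^2, g, 1` when `g^3 = a g^2 + b g + 1` (index form) -/
def seq3I (i j : Fin 4) : ℕ → Fin 4 × Fin 4 × Fin 4
  | 0 => (0, 0, 1)
  | n + 1 => (addT (mulT i (seq3I i j n).1) (seq3I i j n).2.1,
      addT (mulT j (seq3I i j n).1) (seq3I i j n).2.2, (seq3I i j n).1)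

/-- coefficients of `g^n` on `g, 1` when `g^2 = u g + v` (index form) -/
def seq2I (i j : Fin 4) : ℕ → Fin 4 × Fin 4
  | 0 => (0, 1)
  | n + 1 => (addT (mulT i (seq2I i j n).1) (seq2I i j n).2, mulT j (seq2I i j n).1)

theorem dec3 : ∀ i j : Fin 4, (seq3I i j 15).1 = 0 → (seq3I i j 15).2.1 = 0 →
    ((seq3I i j 5).1 = 0 ∧ (seq3I i j 5).2.1 = 0) ∨
    ((seq3I i j 3).1 = 0 ∧ (seq3I i j 3).2.1 = 0) := by
  decide +kernel

theorem dec2 : ∀ i j : Fin 4, (seq2I i j 15).1 = 0 →
    (seq2I i j 5).1 = 0 ∨ (seq2I i j 3).1 = 0 := by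
  decide +kernel

section field

variable {F : Type*} [Field F]

/-- coefficients of `g^n` on `g^2, g, 1` when `g^3 = a g^2 + b g + c` -/
def seq3 (a b c : F) : ℕ → F × F × F
  | 0 => (0, 0, 1)
  | n + 1 => (a * (seq3 a b c n).1 + (seq3 a b c n).2.1,
      b * (seq3 a b c n).1 + (seq3 a b c n).2.2, c * (seq3 a b c n).1)

/-- coefficients of `g^n` on `g, 1` when `g^2 = u g + v` -/
def seq2 (u v : F) : ℕ → F × F
  | 0 => (0, 1)
  | n + 1 => (u * (seq2 u v n).1 + (seq2 u v n).2, v * (seq2 u v n).1)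

theorem seq3_el {ω : F} (h2 : (2 : F) = 0) (hω : ω ^ 2 + ω + 1 = 0) (i j : Fin 4) (n : ℕ) :
    seq3 (el ω i) (el ω j) 1 n =
      (el ω (seq3I i j n).1, el ω (seq3I i j n).2.1, el ω (seq3I i j n).2.2) := by
  induction n with
  | zero => rfl
  | succ n ih =>
    simp only [seq3, seq3I, ih, el_mul h2 hω, el_add h2 hω, one_mul]

theorem seq2_el {ω : F} (h2 : (2 : F) = 0) (hω : ω ^ 2 + ω + 1 = 0) (i j : Fin 4) (n : ℕ) :
    seq2 (el ω i) (el ω j) n = (el ω (seq2I i j n).1, el ω (seq2I i j n).2) := by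
  induction n with
  | zero => rfl
  | succ n ih =>
    simp only [seq2, seq2I, ih, el_mul h2 hω, el_add h2 hω]

variable (M : Matrix (Fin 3) (Fin 3) F)

theorem pow_eq3 {a b c : F} (h : M ^ 3 = a • M ^ 2 + b • M + c • (1 : Matrix (Fin 3) (Fin 3) F))
    (n : ℕ) : M ^ n = (seq3 a b c n).1 • M ^ 2 + (seq3 a b c n).2.1 • M +
      (seq3 a b c n).2.2 • (1 : Matrix (Fin 3) (Fin 3) F) := by
  induction n with
  | zero => simp [seq3]
  | succ n ih =>
    rw [pow_succ, ih]
    simp only [add_mul, smul_mul_assoc, one_mul, seq3]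
    rw [← pow_succ, ← pow_two, show 2 + 1 = 3 from rfl, h]
    module

theorem pow_eq2 {u v : F} (h : M ^ 2 = u • M + v • (1 : Matrix (Fin 3) (Fin 3) F))
    (n : ℕ) : M ^ n = (seq2 u v n).1 • M + (seq2 u v n).2 • (1 : Matrix (Fin 3) (Fin 3) F) := by
  induction n with
  | zero => simp [seq2]
  | succ n ih =>
    rw [pow_succ, ih]
    simp only [add_mul, smul_mul_assoc, one_mul, seq2]
    rw [← pow_two, h]
    module

/-- Cayley-Hamilton for 3 x 3 matrices -/
theorem cayley3 : M ^ 3 = (M 0 0 + M 1 1 + M 2 2) • M ^ 2 +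
    (-(M 0 0 * M 1 1 - M 0 1 * M 1 0 + (M 0 0 * M 2 2 - M 0 2 * M 2 0) +
      (M 1 1 * M 2 2 - M 1 2 * M 2 1))) • M + M.det • (1 : Matrix (Fin 3) (Fin 3) F) := by
  ext i j
  fin_cases i <;> fin_cases j <;>
    simp [pow_succ, Matrix.mul_apply, Fin.sum_univ_three, Matrix.det_fin_three] <;> ring


theorem exists_omega [Fintype F] (hF : Fintype.card F = 4) : ∃ ω : F, ω ^ 2 + ω + 1 = 0 := by
  classical
  -- an element different from 0 and 1
  have : ∃ x : F, x ≠ 0 ∧ x ≠ 1 := by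
    by_contra hne
    push Not at hne
    have hsub : (Finset.univ : Finset F) ⊆ {0, 1} := by
      intro x _
      by_cases hx : x = 0
      · simp [hx]
      · simp [hne x hx]
    have := Finset.card_le_card hsub
    rw [Finset.card_univ, hF] at this
    have h2 : ({0, 1} : Finset F).card ≤ 2 := Finset.card_insert_le _ _
    omega
  obtain ⟨x, hx0, hx1⟩ := this
  refine ⟨x, ?_⟩
  have hcard : Fintype.card Fˣ = 3 := by rw [Fintype.card_units, hF]
  have hx3 : x ^ 3 = 1 := by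
    have := pow_card_eq_one (x := Units.mk0 x hx0)
    rw [hcard] at this
    have := congrArg Units.val this
    simpa using this
  have hfac : (x - 1) * (x ^ 2 + x + 1) = 0 := by linear_combination hx3
  rcases mul_eq_zero.mp hfac with h | h
  · exact absurd (sub_eq_zero.mp h) hx1
  · exact h

theorem core [Fintype F] (hF : Fintype.card F = 4) (hdet : M.det = 1) (lam : F)
    (h15 : M ^ 15 = lam • (1 : Matrix (Fin 3) (Fin 3) F)) :
    (∃ μ : F, M ^ 5 = μ • (1 : Matrix (Fin 3) (Fin 3) F)) ∨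
      (∃ μ : F, M ^ 3 = μ • (1 : Matrix (Fin 3) (Fin 3) F)) := by
  have h2 := two_eq_zero hF
  obtain ⟨ω, hω⟩ := exists_omega hF
  have hidx : ∀ a : F, ∃ i, a = el ω i := fun a => ⟨idx hF hω a, (el_idx hF hω a).symm⟩
  by_cases hdep : ∃ u v : F, M ^ 2 = u • M + v • (1 : Matrix (Fin 3) (Fin 3) F)
  · obtain ⟨u, v, huv⟩ := hdep
    obtain ⟨i, rfl⟩ := hidx u
    obtain ⟨j, rfl⟩ := hidx v
    have hP := pow_eq2 M huv
    by_cases hp : (seq2 (el ω i) (el ω j) 15).1 = 0
    · have hI : (seq2I i j 15).1 = 0 := by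
        rw [seq2_el h2 hω] at hp
        exact (el_eq_zero_iff h2 hω _).mp hp
      rcases dec2 i j hI with h5 | h3
      · left
        refine ⟨(seq2 (el ω i) (el ω j) 5).2, ?_⟩
        have := hP 5
        rw [seq2_el h2 hω] at this ⊢
        simp only at this ⊢
        rw [this, h5]
        simp [el_zero]
      · right
        refine ⟨(seq2 (el ω i) (el ω j) 3).2, ?_⟩
        have := hP 3
        rw [seq2_el h2 hω] at this ⊢
        simp only at this ⊢
        rw [this, h3]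
        simp [el_zero]
    · right
      have h1 := hP 15
      rw [h15] at h1
      set p := (seq2 (el ω i) (el ω j) 15).1 with hpdef
      set q := (seq2 (el ω i) (el ω j) 15).2 with hqdef
      have hM : M = (p⁻¹ * (lam - q)) • (1 : Matrix (Fin 3) (Fin 3) F) := by
        have e1 : p • M = (lam - q) • (1 : Matrix (Fin 3) (Fin 3) F) := by
          rw [sub_smul, h1]; abel
        calc M = p⁻¹ • (p • M) := by rw [smul_smul, inv_mul_cancel₀ hp, one_smul]
          _ = _ := by rw [e1, smul_smul]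
      refine ⟨(p⁻¹ * (lam - q)) ^ 3, ?_⟩
      conv_lhs => rw [hM]
      rw [smul_pow, one_pow]
  · have hCH := cayley3 M
    rw [hdet] at hCH
    obtain ⟨i, hi⟩ := hidx (M 0 0 + M 1 1 + M 2 2)
    obtain ⟨j, hj⟩ := hidx (-(M 0 0 * M 1 1 - M 0 1 * M 1 0 + (M 0 0 * M 2 2 - M 0 2 * M 2 0) +
      (M 1 1 * M 2 2 - M 1 2 * M 2 1)))
    rw [hi, hj] at hCH
    have hP := pow_eq3 M hCH
    have h1 := hP 15
    rw [h15] at h1
    set α := (seq3 (el ω i) (el ω j) 1 15).1 with hαdef
    set β := (seq3 (el ω i) (el ω j) 1 15).2.1 with hβdef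
    set γ := (seq3 (el ω i) (el ω j) 1 15).2.2 with hγdef
    have hα : α = 0 := by
      by_contra hα
      apply hdep
      have e1 : α • M ^ 2 = (-β) • M + (lam - γ) • (1 : Matrix (Fin 3) (Fin 3) F) := by
        rw [sub_smul, h1, neg_smul]; abel
      refine ⟨α⁻¹ * -β, α⁻¹ * (lam - γ), ?_⟩
      calc M ^ 2 = α⁻¹ • (α • M ^ 2) := by rw [smul_smul, inv_mul_cancel₀ hα, one_smul]
        _ = _ := by rw [e1, smul_add, smul_smul, smul_smul]
    have hβ : β = 0 := by
      by_contra hβ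
      apply hdep
      rw [hα, zero_smul, zero_add] at h1
      have e1 : β • M = (lam - γ) • (1 : Matrix (Fin 3) (Fin 3) F) := by
        rw [sub_smul, h1]; abel
      have hM : M = (β⁻¹ * (lam - γ)) • (1 : Matrix (Fin 3) (Fin 3) F) := by
        calc M = β⁻¹ • (β • M) := by rw [smul_smul, inv_mul_cancel₀ hβ, one_smul]
          _ = _ := by rw [e1, smul_smul]
      refine ⟨β⁻¹ * (lam - γ), 0, ?_⟩
      rw [zero_smul, add_zero, pow_two]
      nth_rewrite 1 [hM]
      rw [smul_mul_assoc, one_mul]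
    have hαI : (seq3I i j 15).1 = 0 := by
      rw [hαdef, seq3_el h2 hω] at hα
      exact (el_eq_zero_iff h2 hω _).mp hα
    have hβI : (seq3I i j 15).2.1 = 0 := by
      rw [hβdef, seq3_el h2 hω] at hβ
      exact (el_eq_zero_iff h2 hω _).mp hβ
    rcases dec3 i j hαI hβI with ⟨h5a, h5b⟩ | ⟨h3a, h3b⟩
    · left
      refine ⟨(seq3 (el ω i) (el ω j) 1 5).2.2, ?_⟩
      have := hP 5
      rw [seq3_el h2 hω] at this ⊢
      simp only at this ⊢
      rw [this, h5a, h5b]
      simp [el_zero]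
    · right
      refine ⟨(seq3 (el ω i) (el ω j) 1 3).2.2, ?_⟩
      have := hP 3
      rw [seq3_el h2 hω] at this ⊢
      simp only at this ⊢
      rw [this, h3a, h3b]
      simp [el_zero]

end field


theorem scalar_mem_center {F : Type*} [Field F] (A : Matrix.SpecialLinearGroup (Fin 3) F)
    (n : ℕ) (μ : F) (h : (A : Matrix (Fin 3) (Fin 3) F) ^ n = μ • (1 : Matrix (Fin 3) (Fin 3) F)) :
    A ^ n ∈ Subgroup.center (Matrix.SpecialLinearGroup (Fin 3) F) := by
  rw [Matrix.SpecialLinearGroup.mem_center_iff]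
  refine ⟨μ, ?_, ?_⟩
  · have h1 := congrArg Matrix.det h
    rw [Matrix.det_pow, A.2, one_pow, Matrix.det_smul, Matrix.det_one, mul_one] at h1
    simpa using h1.symm
  · rw [Matrix.SpecialLinearGroup.coe_pow, h, Matrix.smul_one_eq_diagonal]
    rfl

theorem result {F : Type*} [Field F] [Fintype F] (hF : Fintype.card F = 4) (g : Matrix.ProjectiveSpecialLinearGroup (Fin 3) F) : orderOf g ≠ 15 := by
  intro h15
  obtain ⟨A, rfl⟩ := QuotientGroup.mk_surjective g
  have hpow : (QuotientGroup.mk A : Matrix.ProjectiveSpecialLinearGroup (Fin 3) F) ^ 15 = 1 := by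
    rw [← h15]; exact pow_orderOf_eq_one _
  have hmem : A ^ 15 ∈ Subgroup.center (Matrix.SpecialLinearGroup (Fin 3) F) := by
    rw [← QuotientGroup.eq_one_iff, QuotientGroup.mk_pow]
    exact hpow
  obtain ⟨r, _, hr⟩ := Matrix.SpecialLinearGroup.mem_center_iff.mp hmem
  have hM15 : (A : Matrix (Fin 3) (Fin 3) F) ^ 15 = r • (1 : Matrix (Fin 3) (Fin 3) F) := by
    rw [← Matrix.SpecialLinearGroup.coe_pow, ← hr, Matrix.smul_one_eq_diagonal]
    rfl
  rcases core A.1 hF A.2 r hM15 with ⟨μ, h5⟩ | ⟨μ, h3⟩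
  · have hc := scalar_mem_center A 5 μ h5
    have h1 : (QuotientGroup.mk A : Matrix.ProjectiveSpecialLinearGroup (Fin 3) F) ^ 5 = 1 := by
      rw [← QuotientGroup.mk_pow, QuotientGroup.eq_one_iff]
      exact hc
    have := orderOf_dvd_of_pow_eq_one h1
    rw [h15] at this
    omega
  · have hc := scalar_mem_center A 3 μ h3
    have h1 : (QuotientGroup.mk A : Matrix.ProjectiveSpecialLinearGroup (Fin 3) F) ^ 3 = 1 := by
      rw [← QuotientGroup.mk_pow, QuotientGroup.eq_one_iff]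
      exact hc
    have := orderOf_dvd_of_pow_eq_one h1
    rw [h15] at this
    omega

end Cfsg.Agent.S0819
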