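import Cfsg.Statements.S0820
import Mathlib
import Cfsg.Agent.S2579
import Cfsg.Agent.S0273

set_option autoImplicit false
open Cfsg

namespace Cfsg.Agent.S0820

open Matrix

/-- an involution of `PSL₃(4)` lifts to a transvection of `SL₃(4)`. -/
theorem exists_lift {F : Type*} [Field F] [Fintype F] (hF : Fintype.card F = 4)
    (x : Matrix.ProjectiveSpecialLinearGroup (Fin 3) F) (hx : orderOf x = 2) :
    ∃ a : Matrix.SpecialLinearGroup (Fin 3) F,
      (a : Matrix.ProjectiveSpecialLinearGroup (Fin 3) F) = x ∧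
      Cfsg.IsTransvection (a : Matrix (Fin 3) (Fin 3) F) := by
  classical
  have h2 : (2 : F) = 0 := by
    have h4 : ((4 : ℕ) : F) = 0 := by
      rw [← hF]; exact FiniteField.cast_card_eq_zero F
    have : (2 : F) * 2 = 0 := by
      have : ((4 : ℕ) : F) = 2 * 2 := by norm_num
      rw [← this]; exact h4
    rcases mul_eq_zero.1 this with h | h <;> exact h
  obtain ⟨a, rfl⟩ := QuotientGroup.mk_surjective x
  have hx2 : (a : Matrix.ProjectiveSpecialLinearGroup (Fin 3) F) ^ 2 = 1 := by
    rw [← hx]; exact pow_orderOf_eq_one _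
  have ha2 : a ^ 2 ∈ Subgroup.center (Matrix.SpecialLinearGroup (Fin 3) F) := by
    rw [← QuotientGroup.eq_one_iff]
    exact hx2
  obtain ⟨r, hr, hra⟩ := Matrix.SpecialLinearGroup.mem_center_iff.1 ha2
  simp only [Fintype.card_fin] at hr
  -- the central element `scalar r`
  set z : Matrix.SpecialLinearGroup (Fin 3) F := ⟨Matrix.scalar (Fin 3) r, by
    rw [Matrix.scalar_apply, Matrix.det_diagonal]
    simp [hr]⟩ with hz
  have hzc : z ∈ Subgroup.center (Matrix.SpecialLinearGroup (Fin 3) F) := by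
    rw [Matrix.SpecialLinearGroup.mem_center_iff]
    exact ⟨r, by simpa using hr, rfl⟩
  have hcomm : a * z = z * a := (Subgroup.mem_center_iff.1 hzc a)
  obtain ⟨a', ha'⟩ : ∃ a' : Matrix.SpecialLinearGroup (Fin 3) F, a' = a * z := ⟨_, rfl⟩
  have hsq : a' * a' = 1 := by
    have h1 : a' * a' = a ^ 2 * (z * z) := by
      rw [ha', pow_two]
      calc a * z * (a * z) = a * (z * a) * z := by group
        _ = a * (a * z) * z := by rw [hcomm]
        _ = a * a * (z * z) := by group
    rw [h1]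
    apply Subtype.ext
    rw [Matrix.SpecialLinearGroup.coe_mul, ← hra, Matrix.SpecialLinearGroup.coe_mul]
    show Matrix.scalar (Fin 3) r * (Matrix.scalar (Fin 3) r * Matrix.scalar (Fin 3) r) = 1
    rw [← map_mul, ← map_mul, ← pow_two, ← pow_succ', hr, map_one]
  have himg : (a' : Matrix.ProjectiveSpecialLinearGroup (Fin 3) F) = (a : Matrix.ProjectiveSpecialLinearGroup (Fin 3) F) := by
    rw [ha']
    show ((a * z : Matrix.SpecialLinearGroup (Fin 3) F) :
      Matrix.SpecialLinearGroup (Fin 3) F ⧸ Subgroup.center (Matrix.SpecialLinearGroup (Fin 3) F)) = a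
    rw [QuotientGroup.mk_mul, (QuotientGroup.eq_one_iff z).2 hzc, mul_one]
  refine ⟨a', himg, ?_⟩
  have hne : a' ≠ 1 := by
    intro h
    rw [h] at himg
    have : orderOf (a : Matrix.ProjectiveSpecialLinearGroup (Fin 3) F) = 1 := by
      rw [← himg]
      exact orderOf_eq_one_iff.2 rfl
    omega
  set N : Matrix (Fin 3) (Fin 3) F := (a' : Matrix (Fin 3) (Fin 3) F) - 1 with hN
  have hNN : N * N = 0 := by
    have h1 : (a' : Matrix (Fin 3) (Fin 3) F) * (a' : Matrix (Fin 3) (Fin 3) F) = 1 := by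
      have := congrArg Subtype.val hsq
      simpa using this
    rw [hN, sub_mul, mul_sub, mul_sub, h1, mul_one, one_mul, one_mul]
    have : (1 : Matrix (Fin 3) (Fin 3) F) - ↑a' - (↑a' - 1) = (2 : F) • ((1 : Matrix (Fin 3) (Fin 3) F) - ↑a') := by
      rw [two_smul]; abel
    rw [this, h2, zero_smul]
  have hN0 : N ≠ 0 := by
    intro h
    apply hne
    apply Subtype.ext
    rw [hN, sub_eq_zero] at h
    exact h
  refine ⟨?_, hNN⟩
  have h1 : N.rank ≠ 0 := Cfsg.Agent.S0273.rank_ne_zero_of_ne_zero N hN0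
  have h3 : N.rank + N.rank ≤ Fintype.card (Fin 3) := Matrix.rank_add_rank_le_card_of_mul_eq_zero hNN
  rw [Fintype.card_fin] at h3
  show N.rank = 1
  omega

/-- Any two elements of order 2 of PSL_3(4) are conjugate. -/
theorem result {F : Type*} [Field F] [Fintype F] (hF : Fintype.card F = 4) (x y : Matrix.ProjectiveSpecialLinearGroup (Fin 3) F) (hx : orderOf x = 2) (hy : orderOf y = 2) : IsConj x y := by
  obtain ⟨a, rfl, ha⟩ := exists_lift hF x hx
  obtain ⟨b, rfl, hb⟩ := exists_lift hF y hy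
  have h := Cfsg.Agent.S2579.result (le_refl 3) a b ha hb
  obtain ⟨c, hc⟩ := isConj_iff.1 h
  rw [isConj_iff]
  refine ⟨(c : Matrix.ProjectiveSpecialLinearGroup (Fin 3) F), ?_⟩
  rw [← hc]
  rfl

end Cfsg.Agent.S0820
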