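import Cfsg.Statements.S0823
import Mathlib
import Cfsg.Agent.S0286

set_option autoImplicit false
open Cfsg

namespace Cfsg.Agent.S0823

open Matrix

abbrev I3 := Unit ⊕ (Fin 1 ⊕ Fin 1)

def ix : I3 → Fin 3
  | .inl _ => 0
  | .inr (.inl _) => 1
  | .inr (.inr _) => 2

def D0 : Matrix (Fin 4) (Fin 3) (ZMod 3) := !![2, 2, 1; 0, 2, 0; 0, 0, 1; 1, 2, 1]
def E0 : Matrix (Fin 3) (Fin 4) (ZMod 3) := !![1, 0, 0, 2; 1, 0, 1, 1; 2, 2, 0, 2]

/-- The permutation action on the sum-zero hyperplane of `F_3^4`, in suitable coordinates. -/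
def core (σ : Equiv.Perm (Fin 4)) : Matrix (Fin 3) (Fin 3) (ZMod 3) :=
  fun i j => ∑ k : Fin 4, E0 i (σ k) * D0 k j

/-- The rotation attached to a permutation. -/
def psi0 (σ : Equiv.Perm (Fin 4)) : Matrix I3 I3 (ZMod 3) :=
  fun a b => (core σ).det * core σ (ix a) (ix b)

set_option maxRecDepth 100000 in
theorem psi0_mul : ∀ σ τ : Equiv.Perm (Fin 4), psi0 (σ * τ) = psi0 σ * psi0 τ := by
  decide +kernel

set_option maxRecDepth 100000 in
theorem psi0_one : psi0 1 = 1 := by decide +kernel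

set_option maxRecDepth 100000 in
theorem psi0_det : ∀ σ : Equiv.Perm (Fin 4), (psi0 σ).det = 1 := by decide +kernel

set_option maxRecDepth 100000 in
theorem psi0_iso : ∀ σ : Equiv.Perm (Fin 4), ∀ v : I3 → ZMod 3,
    Cfsg.quadFormOdd 1 (ZMod 3) (psi0 σ *ᵥ v) = Cfsg.quadFormOdd 1 (ZMod 3) v := by
  decide +kernel

set_option maxRecDepth 100000 in
theorem psi0_inj : ∀ σ : Equiv.Perm (Fin 4), psi0 σ = 1 → σ = 1 := by decide +kernel

variable {F : Type*} [Field F]

theorem quad_map (e : ZMod 3 →+* F) (w : I3 → ZMod 3) :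
    Cfsg.quadFormOdd 1 F (fun i => e (w i)) = e (Cfsg.quadFormOdd 1 (ZMod 3) w) := by
  unfold Cfsg.quadFormOdd
  simp [map_add, map_pow, map_mul]

/-- The rotation over `F`. -/
def PsiGL (e : ZMod 3 →+* F) (σ : Equiv.Perm (Fin 4)) : Matrix.GeneralLinearGroup I3 F where
  val := (psi0 σ).map e
  inv := (psi0 σ⁻¹).map e
  val_inv := by
    rw [← Matrix.map_mul, ← psi0_mul, mul_inv_cancel, psi0_one, Matrix.map_one _ (map_zero e)
      (map_one e)]
  inv_val := by
    rw [← Matrix.map_mul, ← psi0_mul, inv_mul_cancel, psi0_one, Matrix.map_one _ (map_zero e)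
      (map_one e)]

theorem PsiGL_mul (e : ZMod 3 →+* F) (σ τ : Equiv.Perm (Fin 4)) :
    PsiGL e (σ * τ) = PsiGL e σ * PsiGL e τ := by
  apply Units.ext
  show (psi0 (σ * τ)).map e = (psi0 σ).map e * (psi0 τ).map e
  rw [psi0_mul, Matrix.map_mul]

theorem PsiGL_mem (e : ZMod 3 ≃+* F) (σ : Equiv.Perm (Fin 4)) :
    PsiGL e.toRingHom σ ∈ Cfsg.isometryGroup F (Cfsg.quadFormOdd 1 F) := by
  intro u _
  show Cfsg.quadFormOdd 1 F ((psi0 σ).map e.toRingHom *ᵥ u) = Cfsg.quadFormOdd 1 F u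
  set u₀ : I3 → ZMod 3 := fun i => e.symm (u i) with hu₀
  have hu : u = fun i => e.toRingHom (u₀ i) := by
    funext i
    simp [hu₀]
  have h1 : (psi0 σ).map e.toRingHom *ᵥ u = fun i => e.toRingHom ((psi0 σ *ᵥ u₀) i) := by
    funext i
    rw [hu]
    exact (RingHom.map_mulVec e.toRingHom (psi0 σ) u₀ i).symm
  rw [h1, quad_map, psi0_iso, ← quad_map, ← hu]

theorem PsiGL_det (e : ZMod 3 →+* F) (σ : Equiv.Perm (Fin 4)) :
    Matrix.GeneralLinearGroup.det (PsiGL e σ) = 1 := by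
  apply Units.ext
  show ((psi0 σ).map e).det = 1
  have := RingHom.map_det e (psi0 σ)
  rw [psi0_det, map_one] at this
  rw [this]
  rfl

/-- SO_3(3) is isomorphic to the symmetric group S_4. -/
theorem result {F : Type*} [Field F] [Fintype F] (hF : Fintype.card F = 3) : Nonempty (↥(Cfsg.specialIsometryGroup F (Cfsg.quadFormOdd 1 F)) ≃* Equiv.Perm (Fin 4)) := by
  classical
  let e : ZMod 3 ≃+* F := ZMod.ringEquivOfPrime F Nat.prime_three hF
  -- the homomorphism
  let Ψ₀ : Equiv.Perm (Fin 4) →* Matrix.GeneralLinearGroup I3 F :=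
    MonoidHom.mk' (PsiGL e.toRingHom) (PsiGL_mul e.toRingHom)
  let Ψ₁ : Equiv.Perm (Fin 4) →* ↥(Cfsg.isometryGroup F (Cfsg.quadFormOdd 1 F)) :=
    Ψ₀.codRestrict _ (PsiGL_mem e)
  let Ψ₂ : Equiv.Perm (Fin 4) →* ↥(Cfsg.specialIsometryGroup F (Cfsg.quadFormOdd 1 F)) :=
    Ψ₁.codRestrict _ (by
      intro σ
      show (Matrix.GeneralLinearGroup.det.comp
        (Cfsg.isometryGroup F (Cfsg.quadFormOdd 1 F)).subtype) (Ψ₁ σ) = 1
      exact PsiGL_det e.toRingHom σ)
  have hinj : Function.Injective Ψ₂ := by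
    rw [injective_iff_map_eq_one]
    intro σ hσ
    have h1 : (PsiGL e.toRingHom σ : Matrix.GeneralLinearGroup I3 F) = 1 := by
      have := congrArg (fun x : ↥(Cfsg.specialIsometryGroup F (Cfsg.quadFormOdd 1 F)) =>
        ((x : ↥(Cfsg.isometryGroup F (Cfsg.quadFormOdd 1 F))) : Matrix.GeneralLinearGroup I3 F)) hσ
      exact this
    have h2 : (psi0 σ).map e.toRingHom = 1 := congrArg Units.val h1
    apply psi0_inj
    have h3 : (psi0 σ).map e.toRingHom = (1 : Matrix I3 I3 (ZMod 3)).map e.toRingHom := by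
      rw [h2, Matrix.map_one _ (map_zero _) (map_one _)]
    exact Matrix.map_injective e.injective h3
  -- cardinalities
  have hO : Nat.card (Cfsg.isometryGroup F (Cfsg.quadFormOdd 1 F)) = 48 := by
    rw [Cfsg.Agent.S0286.result hF (by decide) 1]
    norm_num
  have hne : Cfsg.specialIsometryGroup F (Cfsg.quadFormOdd 1 F) ≠ ⊤ := by
    intro htop
    have hneg : (-1 : Matrix.GeneralLinearGroup I3 F) ∈
        Cfsg.isometryGroup F (Cfsg.quadFormOdd 1 F) := by
      intro u _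
      show Cfsg.quadFormOdd 1 F ((-1 : Matrix I3 I3 F) *ᵥ u) = Cfsg.quadFormOdd 1 F u
      rw [Matrix.neg_mulVec, Matrix.one_mulVec]
      unfold Cfsg.quadFormOdd
      simp
    have hmem : (⟨-1, hneg⟩ : ↥(Cfsg.isometryGroup F (Cfsg.quadFormOdd 1 F))) ∈
        Cfsg.specialIsometryGroup F (Cfsg.quadFormOdd 1 F) := by
      rw [htop]
      exact Subgroup.mem_top _
    have hdet : Matrix.GeneralLinearGroup.det (-1 : Matrix.GeneralLinearGroup I3 F) = 1 := hmem
    have h2 := congrArg Units.val hdet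
    have h3 : ((-1 : Matrix I3 I3 F)).det = 1 := h2
    rw [Matrix.det_neg, Matrix.det_one] at h3
    have hc : Fintype.card I3 = 3 := by simp
    rw [hc] at h3
    have h4 : (2 : F) = 0 := by linear_combination (-1 : F) * h3
    have hchar : CharP F 3 := by
      have := e.toRingHom
      exact (RingHom.charP_iff e.toRingHom e.injective 3).1 inferInstance
    have h5 : (3 : F) = 0 := by exact_mod_cast CharP.cast_eq_zero F 3
    have : (1 : F) = 0 := by linear_combination h5 - h4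
    exact one_ne_zero this
  have hidx : 2 ≤ (Cfsg.specialIsometryGroup F (Cfsg.quadFormOdd 1 F)).index := by
    have h0 : (Cfsg.specialIsometryGroup F (Cfsg.quadFormOdd 1 F)).index ≠ 0 :=
      Subgroup.index_ne_zero_of_finite
    have h1 : (Cfsg.specialIsometryGroup F (Cfsg.quadFormOdd 1 F)).index ≠ 1 :=
      fun h => hne (Subgroup.index_eq_one.1 h)
    omega
  have hmul := Subgroup.card_mul_index (Cfsg.specialIsometryGroup F (Cfsg.quadFormOdd 1 F))
  rw [hO] at hmul
  have hle : Nat.card (Cfsg.specialIsometryGroup F (Cfsg.quadFormOdd 1 F)) ≤ 24 := by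
    nlinarith
  have hge : 24 ≤ Nat.card (Cfsg.specialIsometryGroup F (Cfsg.quadFormOdd 1 F)) := by
    have := Nat.card_le_card_of_injective Ψ₂ hinj
    rwa [Nat.card_perm, Nat.card_eq_fintype_card, Fintype.card_fin] at this
  have hbij : Function.Bijective Ψ₂ := by
    rw [Nat.bijective_iff_injective_and_card]
    refine ⟨hinj, ?_⟩
    rw [Nat.card_perm, Nat.card_eq_fintype_card, Fintype.card_fin]
    have : Nat.factorial 4 = 24 := rfl
    omega
  exact ⟨(MulEquiv.ofBijective Ψ₂ hbij).symm⟩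

end Cfsg.Agent.S0823
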