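import Cfsg.Statements.S0824
import Mathlib
import Cfsg.Agent.S0288

set_option autoImplicit false
open Cfsg

namespace Cfsg.Agent.S0824

open Cfsg.Agent.Helper9OrthCount Cfsg.Agent.Helper9AnisoPlane Matrix

variable {F : Type*} [Field F]

/-- The index type of the four-dimensional space. -/
abbrev I4 : Type := (Fin 1 ⊕ Fin 1) ⊕ Fin 2

lemma mem_iso (g : Matrix.GeneralLinearGroup I4 F) :
    g ∈ isometryGroup F (quadFormMinus 1 F 1 1) ↔
      ∀ v, quadFormMinus 1 F 1 1 ((g : Matrix I4 I4 F).mulVec v) = quadFormMinus 1 F 1 1 v :=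
  ⟨fun h v => h v v, fun h v _ => h v⟩

lemma inv_mulVec_cancel (g : Matrix.GeneralLinearGroup I4 F) (v : I4 → F) :
    ((g⁻¹ : Matrix.GeneralLinearGroup I4 F) : Matrix I4 I4 F).mulVec ((g : Matrix I4 I4 F).mulVec v) = v := by
  rw [Matrix.mulVec_mulVec, ← Units.val_mul, inv_mul_cancel, Units.val_one, Matrix.one_mulVec]

/-- Non-zero singular vectors. -/
def Sing (F : Type*) [Field F] : Type _ := {v : I4 → F // v ≠ 0 ∧ quadFormMinus 1 F 1 1 v = 0}

instance : MulAction (isometryGroup F (quadFormMinus 1 F 1 1)) (Sing F) where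
  smul g v := ⟨((g.1 : Matrix.GeneralLinearGroup I4 F) : Matrix I4 I4 F).mulVec v.1, by
    constructor
    · intro h0
      apply v.2.1
      rw [← inv_mulVec_cancel g.1 v.1, h0, Matrix.mulVec_zero]
    · rw [(mem_iso g.1).1 g.2, v.2.2]⟩
  one_smul v := by
    apply Subtype.ext
    show ((1 : Matrix.GeneralLinearGroup I4 F) : Matrix I4 I4 F).mulVec v.1 = v.1
    simp
  mul_smul g g' v := by
    apply Subtype.ext
    show ((g.1 * g'.1 : Matrix.GeneralLinearGroup I4 F) : Matrix I4 I4 F).mulVec v.1 =
      (g.1 : Matrix I4 I4 F).mulVec ((g'.1 : Matrix I4 I4 F).mulVec v.1)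
    rw [Matrix.mulVec_mulVec]; rfl

lemma smul_val (g : isometryGroup F (quadFormMinus 1 F 1 1)) (v : Sing F) :
    (g • v).1 = ((g.1 : Matrix.GeneralLinearGroup I4 F) : Matrix I4 I4 F).mulVec v.1 := rfl

/-- O⁻_4(2) ≅ S_5: the isometry group of the form x y + z_1² + z_1 z_2 + z_2² over the field with 2 elements is isomorphic to the symmetric group on 5 letters. -/
theorem result {F : Type*} [Field F] [Fintype F] (hF : Fintype.card F = 2) : Nonempty (↥(Cfsg.isometryGroup F (Cfsg.quadFormMinus 1 F 1 1)) ≃* Equiv.Perm (Fin 5)) := by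
  classical
  -- the field has two elements
  have h01 : ∀ x : F, x = 0 ∨ x = 1 := by
    intro x
    by_cases hx : x = 0
    · exact Or.inl hx
    · right
      have hcard : Fintype.card Fˣ = 1 := by rw [Fintype.card_units, hF]
      have hsub : Subsingleton Fˣ := Fintype.card_le_one_iff_subsingleton.1 (le_of_eq hcard)
      have := hsub.elim (Units.mk0 x hx) 1
      simpa using congrArg Units.val this
  have h2 : (2 : F) = 0 := by
    rcases h01 (1 + 1) with h | h
    · rw [← h]; norm_num
    · exfalso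
      have : (1 : F) = 0 := by linear_combination h
      exact one_ne_zero this
  have h11 : (1 : F) + 1 = 0 := by rw [← h2]; norm_num
  have hab : ∀ z₁ z₂ : F, z₁ ^ 2 + 1 * z₁ * z₂ + 1 * z₂ ^ 2 = 0 → z₁ = 0 ∧ z₂ = 0 := by
    intro z₁ z₂ h
    rcases h01 z₁ with h1 | h1 <;> rcases h01 z₂ with h2' | h2'
    · exact ⟨h1, h2'⟩
    · rw [h1, h2'] at h; simp at h
    · rw [h1, h2'] at h; simp at h
    · rw [h1, h2'] at h
      exfalso
      have : (1 : F) = 0 := by linear_combination h - h11
      exact one_ne_zero this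
  have hani : Aniso (1 : F) 1 := hab
  let G := isometryGroup F (quadFormMinus 1 F 1 1)
  have hcardG : Nat.card G = 120 := by
    have := Cfsg.Agent.S0288.result hF 2 (by norm_num) 1 1 hab
    simpa using this
  -- the number of singular vectors
  have h0 : Nc (stdQ (Cfsg.Agent.S0288.QC (1 : F) 1) 0) 0 = 1 := by
    rw [Nc_congr Cfsg.Agent.S0288.tau.toEquiv (stdQ (Cfsg.Agent.S0288.QC (1 : F) 1) 0) (nrm 1 1)
      (Cfsg.Agent.S0288.tau_nrm 1 1) 0]
    unfold Nc
    rw [Nat.card_eq_one_iff_unique]
    refine ⟨⟨fun z z' => ?_⟩, ⟨⟨0, by simp [nrm]⟩⟩⟩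
    apply Subtype.ext
    rw [nrm_eq_zero hani _ z.2, nrm_eq_zero hani _ z'.2]
  have hN0 : Nat.card {v : I4 → F // quadFormMinus 1 F 1 1 v = 0} = 6 := by
    have h1 := N0_std (Cfsg.Agent.S0288.QC (1 : F) 1) h0 0
    have hσ : ∀ z, quadFormMinus 1 F 1 1 (Cfsg.Agent.S0288.sigma 1 z) =
        stdQ (Cfsg.Agent.S0288.QC (1 : F) 1) 1 z := by
      intro z
      have h1 : ∀ i, Cfsg.Agent.S0288.sigma 1 z (Sum.inl (Sum.inl i)) = z.1 i := fun i => rfl
      have h2 : ∀ i, Cfsg.Agent.S0288.sigma 1 z (Sum.inl (Sum.inr i)) = z.2.2 i := fun i => rfl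
      have h3 : ∀ j, Cfsg.Agent.S0288.sigma 1 z (Sum.inr j) = z.2.1 j := fun j => rfl
      simp only [quadFormMinus, stdQ, Cfsg.Agent.S0288.QC_apply, h1, h2, h3]
      ring
    have h2' := Nc_congr (Cfsg.Agent.S0288.sigma 1).toEquiv
      (stdQ (Cfsg.Agent.S0288.QC (1 : F) 1) 1) (quadFormMinus 1 F 1 1) hσ 0
    unfold Nc at h2' h1
    rw [← h2', h1, hF, Nat.card_eq_fintype_card, Fintype.card_fun, Fintype.card_fin, hF]
    norm_num
  have hSing : Nat.card (Sing F) = 5 := by
    have : Nat.card {v : I4 → F // quadFormMinus 1 F 1 1 v = 0} = Nat.card (Sing F) + 1 := by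
      unfold Sing
      simp only [Nat.card_eq_fintype_card, Fintype.card_subtype]
      have hmem : (0 : I4 → F) ∈ Finset.univ.filter (fun v : I4 → F => quadFormMinus 1 F 1 1 v = 0) := by
        simp [quadFormMinus]
      rw [← Finset.card_erase_add_one hmem]
      congr 2
      ext x
      simp
    omega
  haveI : Finite (Sing F) := Nat.finite_of_card_ne_zero (by rw [hSing]; norm_num)
  haveI : Fintype (Sing F) := Fintype.ofFinite _
  -- the permutation representation
  let φ : G →* Equiv.Perm (Sing F) := MulAction.toPermHom G (Sing F)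
  have hφinj : Function.Injective φ := by
    rw [injective_iff_map_eq_one]
    intro g hg
    have hfix : ∀ v : Sing F, ((g.1 : Matrix.GeneralLinearGroup I4 F) : Matrix I4 I4 F).mulVec v.1 = v.1 := by
      intro v
      have := congrArg (fun σ : Equiv.Perm (Sing F) => (σ v).1) hg
      exact this
    -- standard vectors
    let e : I4 → F := Pi.single (Sum.inl (Sum.inl 0)) 1
    let f : I4 → F := Pi.single (Sum.inl (Sum.inr 0)) 1
    have hQe : quadFormMinus 1 F 1 1 e = 0 := by simp [quadFormMinus, e]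
    have hQf : quadFormMinus 1 F 1 1 f = 0 := by simp [quadFormMinus, f]
    have he0 : e ≠ 0 := by
      intro h; have := congrFun h (Sum.inl (Sum.inl 0)); simp [e] at this
    have hf0 : f ≠ 0 := by
      intro h; have := congrFun h (Sum.inl (Sum.inr 0)); simp [f] at this
    have hge := hfix ⟨e, he0, hQe⟩
    have hgf := hfix ⟨f, hf0, hQf⟩
    have hgc : ∀ j : Fin 2, ((g.1 : Matrix.GeneralLinearGroup I4 F) : Matrix I4 I4 F).mulVec
        (Pi.single (Sum.inr j) 1) = Pi.single (Sum.inr j) 1 := by
      intro j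
      let c : I4 → F := Pi.single (Sum.inr j) 1
      have hQv : quadFormMinus 1 F 1 1 (e + f + c) = 0 := by
        fin_cases j
        · simp [quadFormMinus, e, f, c]
          exact h11
        · simp [quadFormMinus, e, f, c]
          exact h11
      have hv0 : e + f + c ≠ 0 := by
        intro h; have := congrFun h (Sum.inl (Sum.inl 0)); simp [e, f, c] at this
      have hgv := hfix ⟨e + f + c, hv0, hQv⟩
      simp only [Matrix.mulVec_add, hge, hgf] at hgv
      exact add_left_cancel hgv
    apply Subtype.ext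
    apply Units.ext
    show ((g.1 : Matrix.GeneralLinearGroup I4 F) : Matrix I4 I4 F) = 1
    ext i t
    have hcol : ((g.1 : Matrix.GeneralLinearGroup I4 F) : Matrix I4 I4 F).mulVec (Pi.single t 1) =
        Pi.single t 1 := by
      rcases t with (t | t) | j
      · rw [Subsingleton.elim t 0]; exact hge
      · rw [Subsingleton.elim t 0]; exact hgf
      · exact hgc j
    have := congrFun hcol i
    rw [Matrix.mulVec_single_one] at this
    rw [Matrix.one_apply]
    simpa [Pi.single_apply, eq_comm] using this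
  have hφbij : Function.Bijective φ := by
    haveI : Finite G := Nat.finite_of_card_ne_zero (by rw [hcardG]; norm_num)
    apply hφinj.bijective_of_nat_card_le
    rw [hcardG, Nat.card_eq_fintype_card, Fintype.card_perm, ← Nat.card_eq_fintype_card, hSing]
    decide
  have eS : Sing F ≃ Fin 5 := Finite.equivFinOfCardEq hSing
  exact ⟨(MulEquiv.ofBijective φ hφbij).trans eS.permCongrHom⟩

end Cfsg.Agent.S0824
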