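-- Statement S0832: a totally singular (m-1)-subspace of the hyperbolic quadric lies in exactly two
-- totally singular m-subspaces.
import Cfsg.Statements.S0832
import Mathlib
import Cfsg.Agent.Lib.Helper9_QType
import Cfsg.Agent.Lib.Helper4_QF11
import Cfsg.Agent.Lib.Helper4_TotSing2

set_option autoImplicit false
open Cfsg

namespace Cfsg.Agent.S0832

open QuadraticMap Module Cfsg.Agent.Helper9QType

variable {F V : Type*} [Field F] [AddCommGroup V] [Module F V]

lemma finrank_sup_span [FiniteDimensional F V] (U : Submodule F V) (w : V) (hw : w ∉ U) :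
    finrank F ↥(U ⊔ Submodule.span F {w}) = finrank F U + 1 := by
  have hw0 : w ≠ 0 := fun h => hw (h ▸ U.zero_mem)
  have hdisj : Disjoint U (Submodule.span F {w}) :=
    (Submodule.disjoint_span_singleton' hw0).2 hw
  have h1 := Submodule.finrank_sup_add_finrank_inf_eq U (Submodule.span F {w})
  rw [hdisj.eq_bot, finrank_bot, add_zero, finrank_span_singleton hw0] at h1
  exact h1

lemma eq_sup_span [FiniteDimensional F V] (U W : Submodule F V) (hUW : U ≤ W)
    (hdim : finrank F W = finrank F U + 1) (w : V) (hwW : w ∈ W) (hwU : w ∉ U) :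
    U ⊔ Submodule.span F {w} = W := by
  apply Submodule.eq_of_le_of_finrank_eq
  · exact sup_le hUW ((Submodule.span_singleton_le_iff_mem w W).2 hwW)
  · rw [finrank_sup_span U w hwU, hdim]

/-- `Q` vanishes on `U + ⟨w⟩` when `U` is totally singular, `Q w = 0`, and `w ⊥ U`. -/
lemma ts_sup_span (Q : QuadraticForm F V) (U : Submodule F V) (hU : ∀ u ∈ U, Q u = 0) (w : V)
    (hw : Q w = 0) (hp : ∀ u ∈ U, polar Q u w = 0) :
    ∀ x ∈ U ⊔ Submodule.span F {w}, Q x = 0 := by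
  intro x hx
  obtain ⟨u, hu, y, hy, rfl⟩ := Submodule.mem_sup.1 hx
  obtain ⟨a, rfl⟩ := Submodule.mem_span_singleton.1 hy
  rw [QuadraticMap.map_add (⇑Q) u (a • w), hU u hu, QuadraticMap.map_smul, hw, polar_smul_right,
    hp u hu]
  simp

/-- abstract version -/
theorem two_max [FiniteDimensional F V] (Q : QuadraticForm F V)
    (hQ : (polarBilin Q).Nondegenerate) (m : ℕ) (hV : finrank F V = 2 * m)
    (E : Submodule F V) (hEdim : finrank F E = m) (hE : ∀ w ∈ E, Q w = 0)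
    (U : Submodule F V) (hUdim : finrank F U + 1 = m) (hU : ∀ u ∈ U, Q u = 0) :
    ∃ W₁ W₂ : Submodule F V, W₁ ≠ W₂ ∧ ∀ W : Submodule F V,
      (finrank F W = m ∧ (∀ w ∈ W, Q w = 0) ∧ U ≤ W) ↔ (W = W₁ ∨ W = W₂) := by
  classical
  have hrefl : (polarBilin Q).IsRefl := by
    intro x y h
    rw [polarBilin_apply_apply] at h ⊢
    rw [polar_comm]; exact h
  set Up := LinearMap.BilinForm.orthogonal (polarBilin Q) U with hUp
  have hmemUp : ∀ x, x ∈ Up ↔ ∀ u ∈ U, polar Q u x = 0 := by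
    intro x
    rw [hUp, LinearMap.BilinForm.mem_orthogonal_iff]
    rfl
  -- U is not maximal
  obtain ⟨W', hUW', hW', hne⟩ : ∃ W' : Submodule F V, U ≤ W' ∧ (∀ w ∈ W', Q w = 0) ∧ W' ≠ U := by
    by_contra hcon
    push Not at hcon
    have := Cfsg.Agent.S0760.le_of_max Q hQ U E hU hE (fun W h1 h2 => hcon W h1 h2)
    omega
  obtain ⟨w₁, hw₁W', hw₁U⟩ := SetLike.exists_of_lt (lt_of_le_of_ne hUW' (Ne.symm hne))
  have hQw₁ : Q w₁ = 0 := hW' w₁ hw₁W'
  have hw₁p : ∀ u ∈ U, polar Q u w₁ = 0 := fun u hu =>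
    polar_zero_of_ts Q W' hW' u w₁ (hUW' hu) hw₁W'
  -- a partner
  obtain ⟨w₂, hw₂p, hw₁₂⟩ : ∃ w₂, (∀ u ∈ U, polar Q u w₂ = 0) ∧ polar Q w₁ w₂ ≠ 0 := by
    by_contra hcon
    push Not at hcon
    apply hw₁U
    rw [← LinearMap.BilinForm.orthogonal_orthogonal hQ hrefl U]
    rw [LinearMap.BilinForm.mem_orthogonal_iff]
    intro x hx
    show polarBilin Q x w₁ = 0
    rw [polarBilin_apply_apply, polar_comm]
    exact hcon x ((hmemUp x).1 hx)
  obtain ⟨p, hp⟩ : ∃ p, p = polar Q w₁ w₂ := ⟨_, rfl⟩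
  have hp0 : p ≠ 0 := hp ▸ hw₁₂
  have hself : polar Q w₁ w₁ = 0 := by
    rw [polar_self, hQw₁]; simp
  obtain ⟨w₃, hw₃⟩ : ∃ w₃, w₃ = w₂ - (Q w₂ / p) • w₁ := ⟨_, rfl⟩
  have hw₁₃ : polar Q w₁ w₃ = p := by
    rw [hw₃, polar_sub_right, polar_smul_right, hself, hp]; simp
  have hQw₃ : Q w₃ = 0 := by
    have : w₃ = w₂ + (-(Q w₂ / p)) • w₁ := by rw [hw₃, neg_smul, sub_eq_add_neg]
    rw [this, QuadraticMap.map_add (⇑Q) w₂ _, QuadraticMap.map_smul, hQw₁, polar_smul_right,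
      polar_comm, ← hp]
    simp only [smul_eq_mul, mul_zero, add_zero]
    field_simp
    ring
  have hw₃p : ∀ u ∈ U, polar Q u w₃ = 0 := by
    intro u hu
    rw [hw₃, polar_sub_right, polar_smul_right, hw₂p u hu, hw₁p u hu]; simp
  have hw₃U : w₃ ∉ U := by
    intro h
    have := hw₁p w₃ h
    rw [polar_comm, hw₁₃] at this
    exact hp0 this
  set W₁ := U ⊔ Submodule.span F {w₁} with hW₁
  set W₂ := U ⊔ Submodule.span F {w₃} with hW₂
  have hW₁ts := ts_sup_span Q U hU w₁ hQw₁ hw₁p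
  have hW₂ts := ts_sup_span Q U hU w₃ hQw₃ hw₃p
  have hW₁dim : finrank F W₁ = m := by rw [hW₁, finrank_sup_span U w₁ hw₁U]; exact hUdim
  have hW₂dim : finrank F W₂ = m := by rw [hW₂, finrank_sup_span U w₃ hw₃U]; exact hUdim
  -- polar of w₁ against W₁ vanishes
  have hw₁W₁ : ∀ x ∈ W₁, polar Q w₁ x = 0 := by
    intro x hx
    obtain ⟨u, hu, y, hy, rfl⟩ := Submodule.mem_sup.1 hx
    obtain ⟨a, rfl⟩ := Submodule.mem_span_singleton.1 hy
    rw [polar_add_right, polar_smul_right, hself, polar_comm, hw₁p u hu]; simp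
  have hw₃W₁ : w₃ ∉ W₁ := by
    intro h
    have := hw₁W₁ w₃ h
    rw [hw₁₃] at this
    exact hp0 this
  have hne12 : W₁ ≠ W₂ := by
    intro h
    apply hw₃W₁
    rw [h, hW₂]
    exact Submodule.mem_sup_right (Submodule.mem_span_singleton_self w₃)
  -- Up = W₁ + ⟨w₃⟩
  have hUpdim : finrank F Up = m + 1 := by
    have := LinearMap.BilinForm.finrank_orthogonal hQ U
    rw [← hUp] at this
    omega
  have hW₁Up : W₁ ≤ Up := by
    intro x hx
    rw [hmemUp]
    intro u hu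
    obtain ⟨u', hu', y, hy, rfl⟩ := Submodule.mem_sup.1 hx
    obtain ⟨a, rfl⟩ := Submodule.mem_span_singleton.1 hy
    rw [polar_add_right, polar_smul_right, hw₁p u hu, polar_zero_of_ts Q U hU u u' hu hu']; simp
  have hT : W₁ ⊔ Submodule.span F {w₃} = Up := by
    apply Submodule.eq_of_le_of_finrank_eq
    · refine sup_le hW₁Up ((Submodule.span_singleton_le_iff_mem w₃ Up).2 ?_)
      rw [hmemUp]; exact hw₃p
    · rw [finrank_sup_span W₁ w₃ hw₃W₁, hW₁dim, hUpdim]
  refine ⟨W₁, W₂, hne12, fun W => ⟨?_, ?_⟩⟩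
  · rintro ⟨hWdim, hWts, hUW⟩
    have hlt : U < W := by
      refine lt_of_le_of_ne hUW ?_
      intro h
      rw [← h] at hWdim
      omega
    obtain ⟨w, hwW, hwU⟩ := SetLike.exists_of_lt hlt
    have hwUp : w ∈ Up := by
      rw [hmemUp]
      intro u hu
      exact polar_zero_of_ts Q W hWts u w (hUW hu) hwW
    rw [← hT] at hwUp
    obtain ⟨x, hx, y, hy, hxy⟩ := Submodule.mem_sup.1 hwUp
    obtain ⟨b, rfl⟩ := Submodule.mem_span_singleton.1 hy
    obtain ⟨u, hu, z, hz, rfl⟩ := Submodule.mem_sup.1 hx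
    obtain ⟨a, rfl⟩ := Submodule.mem_span_singleton.1 hz
    have hQw := hWts w hwW
    have hWeq : U ⊔ Submodule.span F {w} = W :=
      eq_sup_span U W hUW (by omega) w hwW hwU
    have hab : a * b * p = 0 := by
      rw [← hxy, QuadraticMap.map_add (⇑Q) (u + a • w₁) (b • w₃), hW₁ts _ hx,
        QuadraticMap.map_smul, hQw₃, polar_smul_right, polar_add_left, polar_smul_left,
        hw₃p u hu, hw₁₃] at hQw
      simp only [smul_eq_mul, mul_zero, add_zero, zero_add] at hQw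
      linear_combination hQw
    rcases mul_eq_zero.1 hab with h | h
    · rcases mul_eq_zero.1 h with ha | hb
      · -- a = 0 : w ∈ W₂
        right
        have hwW₂ : w ∈ W₂ := by
          rw [← hxy, ha, zero_smul, add_zero, hW₂]
          exact Submodule.add_mem _ (Submodule.mem_sup_left hu)
            (Submodule.mem_sup_right (Submodule.smul_mem _ _ (Submodule.mem_span_singleton_self w₃)))
        rw [← hWeq]
        exact eq_sup_span U W₂ le_sup_left (by omega) w hwW₂ hwU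
      · left
        have hwW₁ : w ∈ W₁ := by
          rw [← hxy, hb, zero_smul, add_zero]
          exact hx
        rw [← hWeq]
        exact eq_sup_span U W₁ le_sup_left (by omega) w hwW₁ hwU
    · exact absurd h hp0
  · rintro (rfl | rfl)
    · exact ⟨hW₁dim, hW₁ts, le_sup_left⟩
    · exact ⟨hW₂dim, hW₂ts, le_sup_left⟩

/-- For the form Σ x_i y_i on F^(2m) over a finite field, m ≥ 1: an (m−1)-dimensional subspace on which the form vanishes is contained in exactly two m-dimensional subspaces on which it vanishes. -/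
theorem result {F : Type*} [Field F] [Finite F] (m : ℕ) (hm : 1 ≤ m) (U : Submodule F (Fin m ⊕ Fin m → F)) (hU : Module.finrank F U + 1 = m ∧ ∀ u ∈ U, Cfsg.quadFormPlus m F u = 0) : Nat.card {W : Submodule F (Fin m ⊕ Fin m → F) // Module.finrank F W = m ∧ (∀ w ∈ W, Cfsg.quadFormPlus m F w = 0) ∧ U ≤ W} = 2 := by
  classical
  open Cfsg.Agent.Lib.Helper4_QF11 Cfsg.Agent.Lib.Helper4_Gram1 in
  have hcoe : ∀ v, Cfsg.quadFormPlus m F v = QT (Tm F m) v := by
    intro v
    rw [QT_apply, qplus_eq]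
  have hQ : (polarBilin (Cfsg.Agent.Lib.Helper4_QF11.QT (Cfsg.Agent.Lib.Helper4_Gram1.Tm F m))).Nondegenerate := by
    apply Cfsg.Agent.Lib.Helper4_QF11.QT_nondeg
    rw [Cfsg.Agent.Lib.Helper4_Gram1.Tm_add, Cfsg.Agent.Lib.Helper4_Gram1.det_hyp]
    exact pow_ne_zero _ (neg_ne_zero.2 one_ne_zero)
  obtain ⟨E, hE, hEdim⟩ := Cfsg.Agent.Lib.Helper4_TotSing2.part1 (F := F) m
  have hV : finrank F (Fin m ⊕ Fin m → F) = 2 * m := by
    rw [Module.finrank_fintype_fun_eq_card, Fintype.card_sum, Fintype.card_fin]; ring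
  obtain ⟨W₁, W₂, hne, hiff⟩ := two_max (Cfsg.Agent.Lib.Helper4_QF11.QT (Cfsg.Agent.Lib.Helper4_Gram1.Tm F m))
    hQ m hV E hEdim (fun w hw => by rw [← hcoe]; exact hE w hw) U hU.1
    (fun u hu => by rw [← hcoe]; exact hU.2 u hu)
  have hiff' : ∀ W : Submodule F (Fin m ⊕ Fin m → F),
      (Module.finrank F W = m ∧ (∀ w ∈ W, Cfsg.quadFormPlus m F w = 0) ∧ U ≤ W) ↔ (W = W₁ ∨ W = W₂) := by
    intro W
    rw [← hiff W]
    simp only [hcoe]
  rw [Nat.card_eq_two_iff]
  refine ⟨⟨W₁, (hiff' W₁).2 (Or.inl rfl)⟩, ⟨W₂, (hiff' W₂).2 (Or.inr rfl)⟩, ?_, ?_⟩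
  · intro h
    exact hne (congrArg Subtype.val h)
  · ext ⟨W, hW⟩
    simp only [Set.mem_insert_iff, Set.mem_singleton_iff, Set.mem_univ, iff_true, Subtype.mk.injEq]
    exact (hiff' W).1 hW

end Cfsg.Agent.S0832
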