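-- Statement S0828: the generalised quadrangle of Sp_4(q).
import Cfsg.Statements.S0828
import Mathlib
import Cfsg.Agent.Lib.Helper9_Sp
import Cfsg.Agent.S0832

set_option autoImplicit false
open Cfsg

namespace Cfsg.Agent.S0828

open Module Cfsg.Agent.Lib.Helper1_Symp Cfsg.Agent.Helper9Sp Cfsg.Agent.S0832

variable {F : Type*} [Field F]

/-- totally isotropic -/
def TI (W : Submodule F (Fin 2 ⊕ Fin 2 → F)) : Prop :=
  ∀ u ∈ W, ∀ v ∈ W, Cfsg.sympForm 2 F u v = 0

lemma ti_pair (v w : Fin 2 ⊕ Fin 2 → F) (h : Cfsg.sympForm 2 F v w = 0) :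
    TI (Submodule.span F {v} ⊔ Submodule.span F {w}) := by
  intro x hx y hy
  obtain ⟨x₁, hx₁, x₂, hx₂, rfl⟩ := Submodule.mem_sup.1 hx
  obtain ⟨y₁, hy₁, y₂, hy₂, rfl⟩ := Submodule.mem_sup.1 hy
  obtain ⟨a, rfl⟩ := Submodule.mem_span_singleton.1 hx₁
  obtain ⟨b, rfl⟩ := Submodule.mem_span_singleton.1 hx₂
  obtain ⟨c, rfl⟩ := Submodule.mem_span_singleton.1 hy₁
  obtain ⟨d, rfl⟩ := Submodule.mem_span_singleton.1 hy₂
  have h' : Cfsg.sympForm 2 F w v = 0 := by rw [sympForm_swap, h, neg_zero]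
  simp only [sympForm_add_left, sympForm_add_right, sympForm_smul_left, sympForm_smul_right,
    sympForm_self, h, h', mul_zero, add_zero]

lemma finrank_pair (v w : Fin 2 ⊕ Fin 2 → F) (hv : v ≠ 0) (hw : w ∉ Submodule.span F {v}) :
    finrank F ↥(Submodule.span F {v} ⊔ Submodule.span F {w}) = 2 := by
  rw [finrank_sup_span _ w hw, finrank_span_singleton hv]

lemma eq_pair (W : Submodule F (Fin 2 ⊕ Fin 2 → F)) (hW : finrank F W = 2)
    (v w : Fin 2 ⊕ Fin 2 → F) (hv : v ≠ 0) (hvW : v ∈ W) (hwW : w ∈ W)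
    (hw : w ∉ Submodule.span F {v}) :
    W = Submodule.span F {v} ⊔ Submodule.span F {w} := by
  symm
  apply eq_sup_span _ W ((Submodule.span_singleton_le_iff_mem v W).2 hvW) _ w hwW hw
  rw [hW, finrank_span_singleton hv]

section counting

variable [Fintype F]

open Classical in
lemma card_filter_mem {q : ℕ} (hF : Fintype.card F = q) (W : Submodule F (Fin 2 ⊕ Fin 2 → F)) :
    (Finset.univ.filter (fun x => x ∈ W)).card = q ^ finrank F W := by
  rw [← Fintype.card_subtype, ← hF]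
  exact Module.card_eq_pow_finrank (K := F) (V := W)

open Classical in
lemma card_filter_sdiff {q : ℕ} (hF : Fintype.card F = q)
    (W S : Submodule F (Fin 2 ⊕ Fin 2 → F)) (hSW : S ≤ W) :
    (Finset.univ.filter (fun x => x ∈ W ∧ x ∉ S)).card = q ^ finrank F W - q ^ finrank F S := by
  have : Finset.univ.filter (fun x => x ∈ W ∧ x ∉ S) =
      Finset.univ.filter (fun x => x ∈ W) \ Finset.univ.filter (fun x => x ∈ S) := by
    ext x
    simp
  rw [this, Finset.card_sdiff_of_subset, card_filter_mem hF, card_filter_mem hF]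
  intro x hx
  simp only [Finset.mem_filter, Finset.mem_univ, true_and] at hx ⊢
  exact hSW hx

/-- the perp of a nonzero vector -/
lemma finrank_ker (v : Fin 2 ⊕ Fin 2 → F) (hv : v ≠ 0) :
    finrank F (LinearMap.ker (symB 2 F v)) = 3 := by
  have h1 := LinearMap.finrank_range_add_finrank_ker (symB 2 F v)
  have hsurj : LinearMap.range (symB 2 F v) = ⊤ := by
    rw [LinearMap.range_eq_top]
    obtain ⟨w, hw⟩ := exists_form_ne_zero v hv
    intro c
    refine ⟨(c / Cfsg.sympForm 2 F v w) • w, ?_⟩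
    rw [map_smul, symB_apply, smul_eq_mul, div_mul_cancel₀ _ hw]
  rw [hsurj, finrank_top, Module.finrank_self, Module.finrank_fintype_fun_eq_card] at h1
  simp only [Fintype.card_sum, Fintype.card_fin] at h1
  omega

lemma arith2 (q c : ℕ) (hq : 2 ≤ q) (h : q ^ 3 - q = c * (q ^ 2 - q)) : c = q + 1 := by
  obtain ⟨r, rfl⟩ : ∃ r, q = r + 2 := ⟨q - 2, by omega⟩
  have e1 : (r + 2) ^ 2 - (r + 2) = r ^ 2 + 3 * r + 2 := by
    apply Nat.sub_eq_of_eq_add; ring
  have e2 : (r + 2) ^ 3 - (r + 2) = (r + 2 + 1) * (r ^ 2 + 3 * r + 2) := by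
    apply Nat.sub_eq_of_eq_add; ring
  rw [e1, e2] at h
  have hpos : 0 < r ^ 2 + 3 * r + 2 := by positivity
  exact (Nat.eq_of_mul_eq_mul_right hpos h).symm

lemma arith1 (q c : ℕ) (hq : 2 ≤ q) (h : (q ^ 4 - 1) * (q + 1) = c * (q ^ 2 - 1)) :
    c = (q + 1) * (q ^ 2 + 1) := by
  obtain ⟨r, rfl⟩ : ∃ r, q = r + 2 := ⟨q - 2, by omega⟩
  have e1 : (r + 2) ^ 2 - 1 = r ^ 2 + 4 * r + 3 := by
    apply Nat.sub_eq_of_eq_add; ring
  have e2 : (r + 2) ^ 4 - 1 = ((r + 2) ^ 2 + 1) * (r ^ 2 + 4 * r + 3) := by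
    apply Nat.sub_eq_of_eq_add; ring
  rw [e1, e2] at h
  have hpos : 0 < r ^ 2 + 4 * r + 3 := by positivity
  have h' : ((r + 2 + 1) * ((r + 2) ^ 2 + 1)) * (r ^ 2 + 4 * r + 3) = c * (r ^ 2 + 4 * r + 3) := by
    rw [← h]; ring
  exact (Nat.eq_of_mul_eq_mul_right hpos h').symm

/-- The symplectic generalised quadrangle over a field with q elements: the number of 2-dimensional subspaces of F^4 on which the symplectic form vanishes is (q + 1)(q² + 1), and every non-zero vector lies in exactly q + 1 of them. -/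
theorem result {F : Type*} [Field F] [Fintype F] {q : ℕ} (hF : Fintype.card F = q) : Nat.card {W : Submodule F (Fin 2 ⊕ Fin 2 → F) // Module.finrank F W = 2 ∧ ∀ u ∈ W, ∀ v ∈ W, Cfsg.sympForm 2 F u v = 0} = (q + 1) * (q ^ 2 + 1) ∧ ∀ v : Fin 2 ⊕ Fin 2 → F, v ≠ 0 → Nat.card {W : Submodule F (Fin 2 ⊕ Fin 2 → F) // Module.finrank F W = 2 ∧ v ∈ W ∧ ∀ u ∈ W, ∀ w ∈ W, Cfsg.sympForm 2 F u w = 0} = q + 1 := by
  classical
  have hq2 : 2 ≤ q := hF ▸ Fintype.one_lt_card
  have part2 : ∀ v : Fin 2 ⊕ Fin 2 → F, v ≠ 0 →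
      (Finset.univ.filter (fun W : Submodule F (Fin 2 ⊕ Fin 2 → F) =>
        finrank F W = 2 ∧ v ∈ W ∧ TI W)).card = q + 1 := by
    intro v hv
    set t := Finset.univ.filter (fun W : Submodule F (Fin 2 ⊕ Fin 2 → F) =>
        finrank F W = 2 ∧ v ∈ W ∧ TI W) with ht
    set s := Finset.univ.filter (fun w : Fin 2 ⊕ Fin 2 → F =>
        w ∈ LinearMap.ker (symB 2 F v) ∧ w ∉ Submodule.span F {v}) with hs
    have hdc := Finset.sum_card_bipartiteAbove_eq_sum_card_bipartiteBelow
      (fun (w : Fin 2 ⊕ Fin 2 → F) (W : Submodule F (Fin 2 ⊕ Fin 2 → F)) => w ∈ W) (s := s) (t := t)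
    have hL : ∀ w ∈ s, (Finset.bipartiteAbove
        (fun (w : Fin 2 ⊕ Fin 2 → F) (W : Submodule F (Fin 2 ⊕ Fin 2 → F)) => w ∈ W) t w).card = 1 := by
      intro w hw
      rw [hs, Finset.mem_filter] at hw
      have hw1 : Cfsg.sympForm 2 F v w = 0 := by
        have := hw.2.1
        rwa [LinearMap.mem_ker, symB_apply] at this
      rw [Finset.card_eq_one]
      refine ⟨Submodule.span F {v} ⊔ Submodule.span F {w}, ?_⟩
      ext W
      simp only [Finset.bipartiteAbove, Finset.mem_filter, Finset.mem_singleton, ht,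
        Finset.mem_univ, true_and]
      constructor
      · rintro ⟨⟨hW2, hvW, _⟩, hwW⟩
        exact eq_pair W hW2 v w hv hvW hwW hw.2.2
      · rintro rfl
        exact ⟨⟨finrank_pair v w hv hw.2.2,
          Submodule.mem_sup_left (Submodule.mem_span_singleton_self v), ti_pair v w hw1⟩,
          Submodule.mem_sup_right (Submodule.mem_span_singleton_self w)⟩
    have hR : ∀ W ∈ t, (Finset.bipartiteBelow
        (fun (w : Fin 2 ⊕ Fin 2 → F) (W : Submodule F (Fin 2 ⊕ Fin 2 → F)) => w ∈ W) s W).card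
          = q ^ 2 - q := by
      intro W hW
      rw [ht, Finset.mem_filter] at hW
      obtain ⟨_, hW2, hvW, hTI⟩ := hW
      have : Finset.bipartiteBelow
          (fun (w : Fin 2 ⊕ Fin 2 → F) (W : Submodule F (Fin 2 ⊕ Fin 2 → F)) => w ∈ W) s W =
          Finset.univ.filter (fun x => x ∈ W ∧ x ∉ Submodule.span F {v}) := by
        ext w
        simp only [Finset.bipartiteBelow, Finset.mem_filter, hs, Finset.mem_univ, true_and]
        constructor
        · rintro ⟨⟨_, h2⟩, h3⟩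
          exact ⟨h3, h2⟩
        · rintro ⟨h3, h2⟩
          refine ⟨⟨?_, h2⟩, h3⟩
          rw [LinearMap.mem_ker, symB_apply]
          exact hTI v hvW w h3
      rw [this, card_filter_sdiff hF W _ ((Submodule.span_singleton_le_iff_mem v W).2 hvW), hW2,
        finrank_span_singleton hv, pow_one]
    rw [Finset.sum_congr rfl hL, Finset.sum_congr rfl hR] at hdc
    simp only [Finset.sum_const, smul_eq_mul, mul_one] at hdc
    have hs_card : s.card = q ^ 3 - q := by
      rw [hs, card_filter_sdiff hF (LinearMap.ker (symB 2 F v)) (Submodule.span F {v}) ?_,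
        finrank_ker v hv, finrank_span_singleton hv, pow_one]
      rw [Submodule.span_singleton_le_iff_mem, LinearMap.mem_ker, symB_apply, sympForm_self]
    rw [hs_card] at hdc
    exact arith2 q t.card hq2 hdc
  have part1 : (Finset.univ.filter (fun W : Submodule F (Fin 2 ⊕ Fin 2 → F) =>
        finrank F W = 2 ∧ TI W)).card = (q + 1) * (q ^ 2 + 1) := by
    set t := Finset.univ.filter (fun W : Submodule F (Fin 2 ⊕ Fin 2 → F) =>
        finrank F W = 2 ∧ TI W) with ht
    set s := Finset.univ.filter (fun w : Fin 2 ⊕ Fin 2 → F =>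
        w ∈ (⊤ : Submodule F (Fin 2 ⊕ Fin 2 → F)) ∧ w ∉ (⊥ : Submodule F (Fin 2 ⊕ Fin 2 → F)))
      with hs
    have hdc := Finset.sum_card_bipartiteAbove_eq_sum_card_bipartiteBelow
      (fun (w : Fin 2 ⊕ Fin 2 → F) (W : Submodule F (Fin 2 ⊕ Fin 2 → F)) => w ∈ W) (s := s) (t := t)
    have hL : ∀ w ∈ s, (Finset.bipartiteAbove
        (fun (w : Fin 2 ⊕ Fin 2 → F) (W : Submodule F (Fin 2 ⊕ Fin 2 → F)) => w ∈ W) t w).card
          = q + 1 := by
      intro w hw
      rw [hs, Finset.mem_filter] at hw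
      have hw0 : w ≠ 0 := fun h => hw.2.2 (by rw [h]; exact Submodule.zero_mem _)
      rw [← part2 w hw0]
      congr 1
      ext W
      simp only [Finset.bipartiteAbove, Finset.mem_filter, ht, Finset.mem_univ, true_and]
      tauto
    have hR : ∀ W ∈ t, (Finset.bipartiteBelow
        (fun (w : Fin 2 ⊕ Fin 2 → F) (W : Submodule F (Fin 2 ⊕ Fin 2 → F)) => w ∈ W) s W).card
          = q ^ 2 - 1 := by
      intro W hW
      rw [ht, Finset.mem_filter] at hW
      obtain ⟨_, hW2, hTI⟩ := hW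
      have : Finset.bipartiteBelow
          (fun (w : Fin 2 ⊕ Fin 2 → F) (W : Submodule F (Fin 2 ⊕ Fin 2 → F)) => w ∈ W) s W =
          Finset.univ.filter (fun x => x ∈ W ∧ x ∉ (⊥ : Submodule F (Fin 2 ⊕ Fin 2 → F))) := by
        ext w
        simp only [Finset.bipartiteBelow, Finset.mem_filter, hs, Finset.mem_univ, true_and,
          Submodule.mem_top]
        tauto
      rw [this, card_filter_sdiff hF W ⊥ bot_le, hW2, finrank_bot, pow_zero]
    rw [Finset.sum_congr rfl hL, Finset.sum_congr rfl hR] at hdc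
    simp only [Finset.sum_const, smul_eq_mul] at hdc
    have hs_card : s.card = q ^ 4 - 1 := by
      rw [hs, card_filter_sdiff hF ⊤ ⊥ bot_le, finrank_top, finrank_bot, pow_zero,
        Module.finrank_fintype_fun_eq_card]
      simp
    rw [hs_card] at hdc
    exact arith1 q t.card hq2 hdc
  constructor
  · show Nat.card {W : Submodule F (Fin 2 ⊕ Fin 2 → F) // finrank F W = 2 ∧ TI W} = _
    rw [Nat.card_eq_fintype_card, Fintype.card_subtype]
    exact part1
  · intro v hv
    show Nat.card {W : Submodule F (Fin 2 ⊕ Fin 2 → F) // finrank F W = 2 ∧ v ∈ W ∧ TI W} = _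
    rw [Nat.card_eq_fintype_card, Fintype.card_subtype]
    exact part2 v hv

end counting

end Cfsg.Agent.S0828
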