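import Cfsg.Statements.S0829
import Mathlib
import Cfsg.Agent.Lib.Helper9_HermLines
import Cfsg.Agent.S0285

set_option autoImplicit false
open Cfsg

namespace Cfsg.Agent.S0829

open Cfsg.Agent.Helper9HermCount Cfsg.Agent.Helper9HermLines

/-- The unitary quadrangle of PSU_4(q): with |F| = q², the number of 2-dimensional subspaces of F^4 on which the Hermitian form Σ x_i y_i^q vanishes is (q + 1)(q³ + 1). -/
theorem result {F : Type*} [Field F] [Fintype F] {q : ℕ} (hF : Fintype.card F = q ^ 2) : Nat.card {W : Submodule F (Fin 4 → F) // Module.finrank F W = 2 ∧ ∀ u ∈ W, ∀ v ∈ W, Cfsg.hermForm 4 F q u v = 0} = (q + 1) * (q ^ 3 + 1) := by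
  classical
  have hq := q_ge_two hF
  have hA4 : A F q 4 0 = (q ^ 4 - 1) * (q ^ 3 + 1) + 1 := by
    have := Cfsg.Agent.S0285.result hF 4
    rw [if_pos (by decide : Even 4)] at this
    exact this
  have hA2 : A F q 2 0 = (q ^ 2 - 1) * (q + 1) + 1 := by
    have := Cfsg.Agent.S0285.result hF 2
    rw [if_pos (by decide : Even 2)] at this
    simp only [show 2 - 1 = 1 from rfl, pow_one] at this
    exact this
  have hE := card_TI2 hF (n := 4) (by norm_num)
  rw [hA4, show 4 - 2 = 2 from rfl, hA2, Nat.add_sub_cancel] at hE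
  change Nat.card (TI2 F 4 q) = _
  have h1 : 1 ≤ q ^ 2 := Nat.one_le_pow _ _ (by omega)
  have h2 : 1 ≤ q ^ 4 := Nat.one_le_pow _ _ (by omega)
  have h3 : 1 ≤ (q ^ 2) ^ 2 := Nat.one_le_pow _ _ (by positivity)
  have h4 : q ^ 2 ≤ (q ^ 2) ^ 2 := by nlinarith
  have hc0 : 0 < ((q ^ 2) ^ 2 - 1) * ((q ^ 2) ^ 2 - q ^ 2) := by
    have hm : 4 ≤ q ^ 2 := by nlinarith
    have hm2 : q ^ 2 * 4 ≤ (q ^ 2) ^ 2 := by
      rw [pow_two (q ^ 2)]; exact Nat.mul_le_mul_left _ hm
    apply Nat.mul_pos <;> omega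
  apply Nat.eq_of_mul_eq_mul_right hc0
  zify [h1, h2, h3, h4] at hE ⊢
  linear_combination hE

end Cfsg.Agent.S0829
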