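import Cfsg.Statements.S0830
import Mathlib
import Cfsg.Agent.Lib.Helper9_HermLines
import Cfsg.Agent.S0285

set_option autoImplicit false
open Cfsg

namespace Cfsg.Agent.S0830

open Cfsg.Agent.Helper9HermCount Cfsg.Agent.Helper9HermLines

/-- The unitary quadrangle of PSU_5(q): with |F| = q², the number of 2-dimensional subspaces of F^5 on which the Hermitian form vanishes is (q³ + 1)(q⁵ + 1). -/
theorem result {F : Type*} [Field F] [Fintype F] {q : ℕ} (hF : Fintype.card F = q ^ 2) : Nat.card {W : Submodule F (Fin 5 → F) // Module.finrank F W = 2 ∧ ∀ u ∈ W, ∀ v ∈ W, Cfsg.hermForm 5 F q u v = 0} = (q ^ 3 + 1) * (q ^ 5 + 1) := by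
  classical
  have hq := q_ge_two hF
  have hA5 : A F q 5 0 = (q ^ 5 + 1) * (q ^ 4 - 1) + 1 := by
    have := Cfsg.Agent.S0285.result hF 5
    rw [if_neg (by decide : ¬ Even 5)] at this
    exact this
  have hA3 : A F q 3 0 = (q ^ 3 + 1) * (q ^ 2 - 1) + 1 := by
    have := Cfsg.Agent.S0285.result hF 3
    rw [if_neg (by decide : ¬ Even 3)] at this
    exact this
  have hE := card_TI2 hF (n := 5) (by norm_num)
  rw [hA5, show 5 - 2 = 3 from rfl, hA3, Nat.add_sub_cancel] at hE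
  change Nat.card (TI2 F 5 q) = _
  have h1 : 1 ≤ q ^ 2 := Nat.one_le_pow _ _ (by omega)
  have h2 : 1 ≤ q ^ 4 := Nat.one_le_pow _ _ (by omega)
  have h3 : 1 ≤ (q ^ 2) ^ 2 := Nat.one_le_pow _ _ (by positivity)
  have h4 : q ^ 2 ≤ (q ^ 2) ^ 2 := by nlinarith
  have hc0 : 0 < ((q ^ 2) ^ 2 - 1) * ((q ^ 2) ^ 2 - q ^ 2) := by
    have hm : 4 ≤ q ^ 2 := by nlinarith
    have hm2 : q ^ 2 * 4 ≤ (q ^ 2) ^ 2 := by
      rw [pow_two (q ^ 2)]; exact Nat.mul_le_mul_left _ hm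
    apply Nat.mul_pos <;> omega
  apply Nat.eq_of_mul_eq_mul_right hc0
  zify [h1, h2, h3, h4] at hE ⊢
  linear_combination hE

end Cfsg.Agent.S0830
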