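-- Statement S0831: the two families of maximal totally singular subspaces of the hyperbolic quadric.
import Cfsg.Statements.S0831
import Mathlib
import Cfsg.Agent.S0832

set_option autoImplicit false
open Cfsg

namespace Cfsg.Agent.S0831

open QuadraticMap Module Cfsg.Agent.Helper9QType Cfsg.Agent.S0832

variable {F V : Type*} [Field F] [AddCommGroup V] [Module F V]

/-- a totally singular subspace has at most half the dimension -/
lemma ts_le [FiniteDimensional F V] (Q : QuadraticForm F V) (hQ : (polarBilin Q).Nondegenerate)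
    (U : Submodule F V) (hU : ∀ u ∈ U, Q u = 0) : 2 * finrank F U ≤ finrank F V := by
  have hsub : U ≤ LinearMap.BilinForm.orthogonal (polarBilin Q) U := by
    intro w hw
    rw [LinearMap.BilinForm.mem_orthogonal_iff]
    intro d hd
    exact polar_zero_of_ts Q U hU d w hd hw
  have e1 := Submodule.finrank_mono hsub
  have e2 := LinearMap.BilinForm.finrank_orthogonal hQ U
  have e3 : finrank F U ≤ finrank F V := Submodule.finrank_le U
  omega

lemma adj_case [FiniteDimensional F V] (Q : QuadraticForm F V)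
    (hQ : (polarBilin Q).Nondegenerate) (m : ℕ) (hV : finrank F V = 2 * m)
    (W X U : Submodule F V) (hW : finrank F W = m) (hWts : ∀ w ∈ W, Q w = 0)
    (hXts : ∀ w ∈ X, Q w = 0) (hUts : ∀ w ∈ U, Q w = 0)
    (hadj : finrank F ↥(W ⊓ X) + 1 = m) (u : V) (huU : u ∈ U) (huW : u ∈ W) (huX : u ∉ X) :
    finrank F ↥(U ⊓ W) = finrank F ↥(U ⊓ X) + 1 := by
  set H := W ⊓ X with hH
  have huH : u ∉ H := fun h => huX h.2
  have hWeq : H ⊔ Submodule.span F {u} = W :=
    eq_sup_span H W inf_le_left (by omega) u huW huH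
  -- U ⊓ X ≤ W
  have hUXW : U ⊓ X ≤ W := by
    intro x hx
    by_contra hxW
    have hperp : ∀ w ∈ W, polar Q w x = 0 := by
      intro w hw
      rw [← hWeq] at hw
      obtain ⟨h, hh, y, hy, rfl⟩ := Submodule.mem_sup.1 hw
      obtain ⟨a, rfl⟩ := Submodule.mem_span_singleton.1 hy
      rw [polar_add_left, polar_smul_left, polar_zero_of_ts Q X hXts h x hh.2 hx.2,
        polar_zero_of_ts Q U hUts u x huU hx.1]
      simp
    have hts := ts_sup_span Q W hWts x (hUts x hx.1) hperp
    have hdim := finrank_sup_span W x hxW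
    have := ts_le Q hQ _ hts
    omega
  have hUX : U ⊓ X = U ⊓ H := by
    apply le_antisymm
    · intro x hx
      exact ⟨hx.1, hUXW hx, hx.2⟩
    · intro x hx
      exact ⟨hx.1, hx.2.2⟩
  rw [hUX]
  -- finrank (U ⊓ W) = finrank (U ⊓ H) + 1
  have hAH : (U ⊓ W) ⊓ H = U ⊓ H := by
    apply le_antisymm
    · intro x hx
      exact ⟨hx.1.1, hx.2⟩
    · intro x hx
      exact ⟨⟨hx.1, hx.2.1⟩, hx.2⟩
  have e1 := Submodule.finrank_sup_add_finrank_inf_eq (U ⊓ W) H
  rw [hAH] at e1
  have e2 : finrank F ↥((U ⊓ W) ⊔ H) ≤ finrank F W :=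
    Submodule.finrank_mono (sup_le inf_le_right inf_le_left)
  have hlt : U ⊓ H < U ⊓ W := by
    refine lt_of_le_of_ne (inf_le_inf_left U inf_le_left) ?_
    intro h
    have : u ∈ U ⊓ H := by rw [h]; exact ⟨huU, huW⟩
    exact huH this.2
  have e3 := Submodule.finrank_lt_finrank_of_lt hlt
  omega

/-- adjacent maximal totally singular subspaces: intersections with a third differ by exactly one -/
theorem adjacent_step [FiniteDimensional F V] (Q : QuadraticForm F V)
    (hQ : (polarBilin Q).Nondegenerate) (m : ℕ) (hV : finrank F V = 2 * m)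
    (W X U : Submodule F V) (hW : finrank F W = m) (hWts : ∀ w ∈ W, Q w = 0)
    (hX : finrank F X = m) (hXts : ∀ w ∈ X, Q w = 0)
    (hU : finrank F U = m) (hUts : ∀ w ∈ U, Q w = 0)
    (hadj : finrank F ↥(W ⊓ X) + 1 = m) :
    (finrank F ↥(U ⊓ W) = finrank F ↥(U ⊓ X) + 1) ∨
      (finrank F ↥(U ⊓ X) = finrank F ↥(U ⊓ W) + 1) := by
  classical
  set H := W ⊓ X with hH
  have hHts : ∀ h ∈ H, Q h = 0 := fun h hh => hWts h hh.1
  obtain ⟨W₁, W₂, hne, hiff⟩ := two_max Q hQ m hV W hW hWts H hadj hHts
  have hWX : W ≠ X := by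
    intro h
    rw [hH, ← h, inf_idem] at hadj
    omega
  have key : ∀ T : Submodule F V, finrank F T = m → (∀ w ∈ T, Q w = 0) → H ≤ T →
      T = W ∨ T = X := by
    intro T hT hTts hHT
    have h1 := (hiff T).1 ⟨hT, hTts, hHT⟩
    have h2 := (hiff W).1 ⟨hW, hWts, inf_le_left⟩
    have h3 := (hiff X).1 ⟨hX, hXts, inf_le_right⟩
    rcases h1 with rfl | rfl <;> rcases h2 with h2 | h2 <;> rcases h3 with h3 | h3
    · exact Or.inl h2.symm
    · exact Or.inl h2.symm
    · exact Or.inr h3.symm
    · exact absurd (h2.trans h3.symm) hWX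
    · exact absurd (h2.trans h3.symm) hWX
    · exact Or.inr h3.symm
    · exact Or.inl h2.symm
    · exact Or.inl h2.symm
  set Hp := LinearMap.BilinForm.orthogonal (polarBilin Q) H with hHp
  have hmemHp : ∀ x, x ∈ Hp ↔ ∀ h ∈ H, polar Q h x = 0 := by
    intro x
    rw [hHp, LinearMap.BilinForm.mem_orthogonal_iff]
    rfl
  have hHpdim : finrank F Hp = m + 1 := by
    have := LinearMap.BilinForm.finrank_orthogonal hQ H
    rw [← hHp] at this
    omega
  have hge : finrank F ↥(U ⊓ H) + 1 ≤ finrank F ↥(U ⊓ Hp) := by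
    have e1 := Submodule.finrank_sup_add_finrank_inf_eq U Hp
    have hsup : U ⊔ Hp ≤ LinearMap.BilinForm.orthogonal (polarBilin Q) (U ⊓ H) := by
      apply sup_le
      · intro x hx
        rw [LinearMap.BilinForm.mem_orthogonal_iff]
        intro n hn
        exact polar_zero_of_ts Q U hUts n x hn.1 hx
      · intro x hx
        rw [LinearMap.BilinForm.mem_orthogonal_iff]
        intro n hn
        exact (hmemHp x).1 hx n hn.2
    have e2 := LinearMap.BilinForm.finrank_orthogonal hQ (U ⊓ H)
    have e3 := Submodule.finrank_mono hsup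
    have e4 : finrank F ↥(U ⊓ H) ≤ finrank F V := Submodule.finrank_le _
    omega
  obtain ⟨u, hu, huH⟩ : ∃ u ∈ U ⊓ Hp, u ∉ H := by
    by_contra hcon
    push Not at hcon
    have hle : U ⊓ Hp ≤ U ⊓ H := fun x hx => ⟨hx.1, hcon x hx⟩
    have := Submodule.finrank_mono hle
    omega
  have hTdim : finrank F ↥(H ⊔ Submodule.span F {u}) = m := by
    rw [finrank_sup_span H u huH]; exact hadj
  have hTts := ts_sup_span Q H hHts u (hUts u hu.1) (fun h hh => (hmemHp u).1 hu.2 h hh)
  have huT : u ∈ H ⊔ Submodule.span F {u} :=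
    Submodule.mem_sup_right (Submodule.mem_span_singleton_self u)
  rcases key _ hTdim hTts le_sup_left with hT | hT
  · left
    rw [hT] at huT
    exact adj_case Q hQ m hV W X U hW hWts hXts hUts hadj u hu.1 huT (fun h => huH ⟨huT, h⟩)
  · right
    rw [hT] at huT
    have hadj' : finrank F ↥(X ⊓ W) + 1 = m := by rw [inf_comm]; exact hadj
    exact adj_case Q hQ m hV X W U hX hXts hWts hUts hadj' u hu.1 huT (fun h => huH ⟨h, huT⟩)

/-- chain step: move `W` one step towards `X` -/
theorem chain_step [FiniteDimensional F V] (Q : QuadraticForm F V)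
    (hQ : (polarBilin Q).Nondegenerate) (m : ℕ) (hV : finrank F V = 2 * m)
    (W X : Submodule F V) (hW : finrank F W = m) (hWts : ∀ w ∈ W, Q w = 0)
    (hX : finrank F X = m) (hXts : ∀ w ∈ X, Q w = 0) (hWX : W ≠ X) :
    ∃ W' : Submodule F V, finrank F W' = m ∧ (∀ w ∈ W', Q w = 0) ∧
      finrank F ↥(W ⊓ W') + 1 = m ∧ finrank F ↥(W' ⊓ X) = finrank F ↥(W ⊓ X) + 1 := by
  classical
  -- pick x ∈ X \ W
  obtain ⟨x, hxX, hxW⟩ : ∃ x ∈ X, x ∉ W := by
    by_contra hcon
    push Not at hcon
    exact hWX (Submodule.eq_of_le_of_finrank_eq hcon (by rw [hX, hW])).symm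
  -- W is its own perp
  have hWperp : LinearMap.BilinForm.orthogonal (polarBilin Q) W = W := by
    symm
    apply Submodule.eq_of_le_of_finrank_eq
    · intro w hw
      rw [LinearMap.BilinForm.mem_orthogonal_iff]
      intro d hd
      exact polar_zero_of_ts Q W hWts d w hd hw
    · rw [LinearMap.BilinForm.finrank_orthogonal hQ W, hW, hV]; omega
  obtain ⟨w₀, hw₀W, hw₀x⟩ : ∃ w₀ ∈ W, polar Q w₀ x ≠ 0 := by
    by_contra hcon
    push Not at hcon
    apply hxW
    rw [← hWperp, LinearMap.BilinForm.mem_orthogonal_iff]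
    intro w hw
    exact hcon w hw
  set H : Submodule F V := W ⊓ LinearMap.ker (polarBilin Q x) with hH
  have hmemH : ∀ y, y ∈ H ↔ y ∈ W ∧ polar Q x y = 0 := by
    intro y
    rw [hH, Submodule.mem_inf, LinearMap.mem_ker, polarBilin_apply_apply]
  have hw₀H : w₀ ∉ H := by
    intro h
    have := ((hmemH w₀).1 h).2
    rw [polar_comm] at this
    exact hw₀x this
  have hWH : H ⊔ Submodule.span F {w₀} = W := by
    apply le_antisymm
    · exact sup_le inf_le_left ((Submodule.span_singleton_le_iff_mem w₀ W).2 hw₀W)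
    · intro w hw
      have hdec : w = (w - (polar Q x w / polar Q x w₀) • w₀) + (polar Q x w / polar Q x w₀) • w₀ := by
        abel
      rw [hdec]
      apply Submodule.add_mem
      · apply Submodule.mem_sup_left
        rw [hmemH]
        refine ⟨W.sub_mem hw (W.smul_mem _ hw₀W), ?_⟩
        rw [polar_sub_right, polar_smul_right]
        have : polar Q x w₀ ≠ 0 := by rw [polar_comm]; exact hw₀x
        simp only [smul_eq_mul]
        field_simp
        ring
      · exact Submodule.mem_sup_right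
          (Submodule.smul_mem _ _ (Submodule.mem_span_singleton_self w₀))
  have hHdim : finrank F H + 1 = m := by
    have := finrank_sup_span H w₀ hw₀H
    rw [hWH, hW] at this
    omega
  have hxH : x ∉ H := fun h => hxW ((hmemH x).1 h).1
  have hHts : ∀ h ∈ H, Q h = 0 := fun h hh => hWts h ((hmemH h).1 hh).1
  refine ⟨H ⊔ Submodule.span F {x}, ?_, ?_, ?_, ?_⟩
  · rw [finrank_sup_span H x hxH]; exact hHdim
  · apply ts_sup_span Q H hHts x (hXts x hxX)
    intro h hh
    rw [polar_comm]
    exact ((hmemH h).1 hh).2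
  · set W' := H ⊔ Submodule.span F {x} with hW'
    have hW'dim : finrank F W' = m := by rw [hW', finrank_sup_span H x hxH]; exact hHdim
    have hle : H ≤ W ⊓ W' := le_inf inf_le_left le_sup_left
    have e1 := Submodule.finrank_mono hle
    have hlt : W ⊓ W' < W := by
      refine lt_of_le_of_ne inf_le_left ?_
      intro h
      have hWW' : W ≤ W' := by rw [← h]; exact inf_le_right
      have := Submodule.eq_of_le_of_finrank_eq hWW' (by rw [hW, hW'dim])
      apply hxW
      rw [this]
      exact Submodule.mem_sup_right (Submodule.mem_span_singleton_self x)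
    have e2 := Submodule.finrank_lt_finrank_of_lt hlt
    omega
  · set W' := H ⊔ Submodule.span F {x} with hW'
    have hW'dim : finrank F W' = m := by rw [hW', finrank_sup_span H x hxH]; exact hHdim
    have hW'ts : ∀ w ∈ W', Q w = 0 := by
      apply ts_sup_span Q H hHts x (hXts x hxX)
      intro h hh
      rw [polar_comm]
      exact ((hmemH h).1 hh).2
    have hadj : finrank F ↥(W ⊓ W') + 1 = m := by
      have hle : H ≤ W ⊓ W' := le_inf inf_le_left le_sup_left
      have e1 := Submodule.finrank_mono hle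
      have hlt : W ⊓ W' < W := by
        refine lt_of_le_of_ne inf_le_left ?_
        intro h
        have hWW' : W ≤ W' := by rw [← h]; exact inf_le_right
        have := Submodule.eq_of_le_of_finrank_eq hWW' (by rw [hW, hW'dim])
        apply hxW
        rw [this]
        exact Submodule.mem_sup_right (Submodule.mem_span_singleton_self x)
      have e2 := Submodule.finrank_lt_finrank_of_lt hlt
      omega
    have hstep := adjacent_step Q hQ m hV W W' X hW hWts hW'dim hW'ts hX hXts hadj
    have hlt : X ⊓ W < X ⊓ W' := by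
      refine lt_of_le_of_ne ?_ ?_
      · intro y hy
        refine ⟨hy.1, Submodule.mem_sup_left ?_⟩
        rw [hmemH]
        exact ⟨hy.2, polar_zero_of_ts Q X hXts x y hxX hy.1⟩
      · intro h
        have : x ∈ X ⊓ W := by
          rw [h]
          exact ⟨hxX, Submodule.mem_sup_right (Submodule.mem_span_singleton_self x)⟩
        exact hxW this.2
    have e := Submodule.finrank_lt_finrank_of_lt hlt
    rw [inf_comm W' X, inf_comm W X]
    omega

/-- the parity statement, abstractly -/
theorem parity [FiniteDimensional F V] (Q : QuadraticForm F V)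
    (hQ : (polarBilin Q).Nondegenerate) (m : ℕ) (hV : finrank F V = 2 * m) :
    ∀ (d : ℕ) (U W X : Submodule F V), finrank F U = m → (∀ w ∈ U, Q w = 0) →
      finrank F W = m → (∀ w ∈ W, Q w = 0) → finrank F X = m → (∀ w ∈ X, Q w = 0) →
      m - finrank F ↥(W ⊓ X) = d →
      Even ((m - finrank F ↥(U ⊓ W)) + (m - finrank F ↥(W ⊓ X)) + (m - finrank F ↥(U ⊓ X))) := by
  intro d
  induction d with
  | zero =>
    intro U W X hU hUts hW hWts hX hXts hd
    have h1 : finrank F ↥(W ⊓ X) ≤ m := hW ▸ Submodule.finrank_mono inf_le_left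
    have hWX : W ⊓ X = W :=
      Submodule.eq_of_le_of_finrank_eq inf_le_left (by rw [hW]; omega)
    have hle : W ≤ X := by rw [← hWX]; exact inf_le_right
    have heq : W = X := Submodule.eq_of_le_of_finrank_eq hle (by rw [hW, hX])
    subst heq
    rw [inf_idem, hW]
    rw [Nat.even_iff]
    omega
  | succ d ih =>
    intro U W X hU hUts hW hWts hX hXts hd
    have hWX : W ≠ X := by
      intro h
      subst h
      rw [inf_idem, hW] at hd
      omega
    obtain ⟨W', hW', hW'ts, hadj, hstep⟩ := chain_step Q hQ m hV W X hW hWts hX hXts hWX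
    have h1 : finrank F ↥(W ⊓ X) ≤ m := hW ▸ Submodule.finrank_mono inf_le_left
    have h2 : finrank F ↥(W' ⊓ X) ≤ m := hW' ▸ Submodule.finrank_mono inf_le_left
    have h3 : finrank F ↥(U ⊓ W) ≤ m := hU ▸ Submodule.finrank_mono inf_le_left
    have h4 : finrank F ↥(U ⊓ W') ≤ m := hU ▸ Submodule.finrank_mono inf_le_left
    have h5 : finrank F ↥(U ⊓ X) ≤ m := hU ▸ Submodule.finrank_mono inf_le_left
    have hih := ih U W' X hU hUts hW' hW'ts hX hXts (by omega)
    have hadjU := adjacent_step Q hQ m hV W W' U hW hWts hW' hW'ts hU hUts hadj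
    rw [Nat.even_iff] at hih ⊢
    omega

/-- The two families of maximal totally singular subspaces of the hyperbolic quadric: for the form Σ x_i y_i on F^(2m), m ≥ 1, and m-dimensional subspaces U, W, X on which it vanishes, the parities of m − dim(U ∩ W), m − dim(W ∩ X) and m − dim(U ∩ X) sum to an even number (so 'even codimension of the intersection' is an equivalence relation), and there exist two such subspaces meeting in codimension 1 (so there are exactly two classes). -/
theorem result {F : Type*} [Field F] (m : ℕ) (hm : 1 ≤ m) : (∀ U W X : Submodule F (Fin m ⊕ Fin m → F), (Module.finrank F U = m ∧ ∀ w ∈ U, Cfsg.quadFormPlus m F w = 0) → (Module.finrank F W = m ∧ ∀ w ∈ W, Cfsg.quadFormPlus m F w = 0) → (Module.finrank F X = m ∧ ∀ w ∈ X, Cfsg.quadFormPlus m F w = 0) → Even ((m - Module.finrank F ↥(U ⊓ W)) + (m - Module.finrank F ↥(W ⊓ X)) + (m - Module.finrank F ↥(U ⊓ X)))) ∧ ∃ U W : Submodule F (Fin m ⊕ Fin m → F), (Module.finrank F U = m ∧ ∀ w ∈ U, Cfsg.quadFormPlus m F w = 0) ∧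 (Module.finrank F W = m ∧ ∀ w ∈ W, Cfsg.quadFormPlus m F w = 0) ∧ Module.finrank F ↥(U ⊓ W) + 1 = m := by
  classical
  have hcoe : ∀ v, Cfsg.quadFormPlus m F v =
      Cfsg.Agent.Lib.Helper4_QF11.QT (Cfsg.Agent.Lib.Helper4_Gram1.Tm F m) v := by
    intro v
    rw [Cfsg.Agent.Lib.Helper4_QF11.QT_apply, Cfsg.Agent.Lib.Helper4_Gram1.qplus_eq]
  have hQ : (polarBilin (Cfsg.Agent.Lib.Helper4_QF11.QT (Cfsg.Agent.Lib.Helper4_Gram1.Tm F m))).Nondegenerate := by
    apply Cfsg.Agent.Lib.Helper4_QF11.QT_nondeg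
    rw [Cfsg.Agent.Lib.Helper4_Gram1.Tm_add, Cfsg.Agent.Lib.Helper4_Gram1.det_hyp]
    exact pow_ne_zero _ (neg_ne_zero.2 one_ne_zero)
  have hV : finrank F (Fin m ⊕ Fin m → F) = 2 * m := by
    rw [Module.finrank_fintype_fun_eq_card, Fintype.card_sum, Fintype.card_fin]; ring
  constructor
  · intro U W X hU hW hX
    exact parity _ hQ m hV _ U W X hU.1 (fun w hw => by rw [← hcoe]; exact hU.2 w hw)
      hW.1 (fun w hw => by rw [← hcoe]; exact hW.2 w hw)
      hX.1 (fun w hw => by rw [← hcoe]; exact hX.2 w hw) rfl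
  · obtain ⟨E, hE, hEdim⟩ := Cfsg.Agent.Lib.Helper4_TotSing2.part1 (F := F) m
    have hEts : ∀ w ∈ E, Cfsg.Agent.Lib.Helper4_QF11.QT (Cfsg.Agent.Lib.Helper4_Gram1.Tm F m) w = 0 :=
      fun w hw => by rw [← hcoe]; exact hE w hw
    -- a hyperplane of E
    obtain ⟨f, hf⟩ := exists_linearIndependent_of_le_finrank (R := F) (M := E)
      (n := m - 1) (by rw [hEdim]; omega)
    have hf' : LinearIndependent F (fun i => (f i : Fin m ⊕ Fin m → F)) :=
      hf.map' E.subtype (Submodule.ker_subtype E)
    set H := Submodule.span F (Set.range fun i => (f i : Fin m ⊕ Fin m → F)) with hH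
    have hHE : H ≤ E := by
      rw [hH, Submodule.span_le]
      rintro _ ⟨i, rfl⟩
      exact (f i).2
    have hHdim : finrank F H + 1 = m := by
      rw [hH, finrank_span_eq_card hf', Fintype.card_fin]; omega
    obtain ⟨W₁, W₂, hne, hiff⟩ := two_max _ hQ m hV E hEdim hEts H hHdim
      (fun h hh => hEts h (hHE hh))
    have h1 := (hiff W₁).2 (Or.inl rfl)
    have h2 := (hiff W₂).2 (Or.inr rfl)
    refine ⟨W₁, W₂, ⟨h1.1, fun w hw => by rw [hcoe]; exact h1.2.1 w hw⟩,
      ⟨h2.1, fun w hw => by rw [hcoe]; exact h2.2.1 w hw⟩, ?_⟩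
    have hle : H ≤ W₁ ⊓ W₂ := le_inf h1.2.2 h2.2.2
    have e1 := Submodule.finrank_mono hle
    have hlt : W₁ ⊓ W₂ < W₁ := by
      refine lt_of_le_of_ne inf_le_left ?_
      intro h
      have hWW' : W₁ ≤ W₂ := by rw [← h]; exact inf_le_right
      exact hne (Submodule.eq_of_le_of_finrank_eq hWW' (by rw [h1.1, h2.1]))
    have e2 := Submodule.finrank_lt_finrank_of_lt hlt
    rw [h1.1] at e2
    omega

end Cfsg.Agent.S0831
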