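-- Statement S0833: tensor product of two alternating forms.
import Cfsg.Statements.S0833
import Mathlib
import Cfsg.Agent.S0752

set_option autoImplicit false
open Cfsg
open scoped TensorProduct

namespace Cfsg.Agent.S0833

/-- A Lagrangian subspace for a nondegenerate alternating form. -/
lemma exists_lagrangian {F U : Type*} [Field F] [AddCommGroup U] [Module F U]
    [FiniteDimensional F U] (B : LinearMap.BilinForm F U) (h : B.Nondegenerate) (hA : B.IsAlt)
    (k : ℕ) (hU : Module.finrank F U = 2 * k) :
    ∃ L : Submodule F U, Module.finrank F L = k ∧ ∀ x ∈ L, ∀ y ∈ L, B x y = 0 := by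
  classical
  obtain ⟨m, k', b, h1, h2, h3, h4⟩ := Cfsg.Agent.S0752.result B hA
  have hk' : k' = 0 := by
    by_contra hne
    have hpos : 0 < k' := Nat.pos_of_ne_zero hne
    have := h.1 (b (Sum.inr ⟨0, hpos⟩)) (h4 ⟨0, hpos⟩)
    exact b.ne_zero _ this
  have hcard : Module.finrank F U = m + m + k' := by
    rw [Module.finrank_eq_card_basis b]
    simp
  have hm : m = k := by omega
  subst hm
  let e : Fin m → U := fun i => b (Sum.inl (Sum.inl i))
  have hli : LinearIndependent F e :=
    b.linearIndependent.comp (fun i => Sum.inl (Sum.inl i))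
      (fun i j hij => Sum.inl_injective (Sum.inl_injective hij))
  refine ⟨Submodule.span F (Set.range e), ?_, ?_⟩
  · rw [finrank_span_eq_card hli]; simp
  · intro x hx y hy
    induction hx using Submodule.span_induction with
    | mem x hx =>
      obtain ⟨i, rfl⟩ := hx
      induction hy using Submodule.span_induction with
      | mem y hy =>
        obtain ⟨j, rfl⟩ := hy
        exact h2 i j
      | zero => simp
      | add y z _ _ hy hz => rw [map_add, hy, hz, add_zero]
      | smul c y _ hy => rw [map_smul, hy, smul_zero]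
    | zero => simp
    | add x z _ _ hx hz => rw [map_add, LinearMap.add_apply, hx, hz, add_zero]
    | smul c x _ hx => rw [map_smul, LinearMap.smul_apply, hx, smul_zero]

/-- If B₁, B₂ are non-degenerate alternating forms on U (dim 2k) and W (dim 2l), then B₁ ⊗ B₂ on U ⊗ W is symmetric, non-degenerate, and vanishes identically on some subspace of dimension 2kl (half of dim U ⊗ W). -/
theorem result {F U W : Type*} [Field F] [Fintype F] [AddCommGroup U] [Module F U] [FiniteDimensional F U] [AddCommGroup W] [Module F W] [FiniteDimensional F W] (B₁ : LinearMap.BilinForm F U) (B₂ : LinearMap.BilinForm F W) (h₁ : B₁.Nondegenerate) (h₂ : B₂.Nondegenerate) (hA₁ : B₁.IsAlt) (hA₂ : B₂.IsAlt) (k l : ℕ) (hU : Module.finrank F U = 2 * k) (hW : Module.finrank F W = 2 * l) : (B₁.tmul B₂).IsSymm ∧ (B₁.tmul B₂).Nondegenerate ∧ (∃ X : Submodule F (TensorProduct F U W), Module.finrank F X = 2 * k * l ∧ ∀ x ∈ X, ∀ y ∈ X, (B₁.tmul B₂) x y = 0) := by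
  classical
  have hpure : ∀ u w u' w', (B₁.tmul B₂) (u ⊗ₜ[F] w) (u' ⊗ₜ[F] w') = B₂ w w' * B₁ u u' := by
    intro u w u' w'
    exact LinearMap.BilinForm.tensorDistrib_tmul F F B₁ B₂ u w u' w'
  have hsymm : (B₁.tmul B₂).IsSymm := by
    rw [LinearMap.isSymm_iff_eq_flip]
    apply TensorProduct.ext'
    intro u w
    apply TensorProduct.ext'
    intro u' w'
    rw [LinearMap.flip_apply, hpure, hpure]
    rw [← hA₁.neg_eq u u', ← hA₂.neg_eq w w']
    ring
  have key : (B₁.tmul B₂ : U ⊗[F] W →ₗ[F] (U ⊗[F] W →ₗ[F] F)) =
      (TensorProduct.dualDistribEquiv F U W).toLinearMap ∘ₗ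
        (TensorProduct.congr (B₁.toDual h₁) (B₂.toDual h₂)).toLinearMap := by
    apply TensorProduct.ext'
    intro u w
    apply TensorProduct.ext'
    intro u' w'
    rw [hpure]
    simp [TensorProduct.dualDistribEquiv, TensorProduct.dualDistribEquivOfBasis,
      LinearMap.BilinForm.toDual_def, mul_comm]
  have hsepL : (B₁.tmul B₂).SeparatingLeft := by
    intro x hx
    have h0 : (B₁.tmul B₂) x = 0 := LinearMap.ext hx
    rw [key] at h0
    have h1 : (TensorProduct.dualDistribEquiv F U W)
        ((TensorProduct.congr (B₁.toDual h₁) (B₂.toDual h₂)) x) = 0 := h0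
    rw [LinearEquiv.map_eq_zero_iff, LinearEquiv.map_eq_zero_iff] at h1
    exact h1
  refine ⟨hsymm, ⟨hsepL, ?_⟩, ?_⟩
  · intro y hy
    apply hsepL y
    intro x
    have := hsymm.eq y x
    simp only [RingHom.id_apply] at this
    rw [this]
    exact hy x
  · obtain ⟨L, hL, hL0⟩ := exists_lagrangian B₁ h₁ hA₁ k hU
    have hinj : Function.Injective (LinearMap.rTensor W L.subtype) :=
      Module.Flat.rTensor_preserves_injective_linearMap _ (Submodule.injective_subtype L)
    refine ⟨LinearMap.range (LinearMap.rTensor W L.subtype), ?_, ?_⟩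
    · rw [LinearMap.finrank_range_of_inj hinj, Module.finrank_tensorProduct, hL, hW]
      ring
    · rintro _ ⟨x, rfl⟩ _ ⟨y, rfl⟩
      induction x using TensorProduct.induction_on with
      | zero => simp
      | tmul a w =>
        induction y using TensorProduct.induction_on with
        | zero => simp
        | tmul a' w' =>
          simp only [LinearMap.rTensor_tmul, Submodule.subtype_apply]
          rw [hpure, hL0 _ a.2 _ a'.2, mul_zero]
        | add y z hy hz => rw [map_add, map_add, hy, hz, add_zero]
      | add x z hx hz => rw [map_add, map_add, LinearMap.add_apply, hx, hz, add_zero]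

end Cfsg.Agent.S0833
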