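-- Statement S0834: tensor product of two even-dimensional symmetric forms is of plus type.
import Cfsg.Statements.S0834
import Mathlib
import Cfsg.Agent.Lib.Helper9_QType

set_option autoImplicit false
open Cfsg
open scoped TensorProduct

namespace Cfsg.Agent.S0834

open Module

variable {F U W : Type*} [Field F] [AddCommGroup U] [Module F U] [AddCommGroup W] [Module F W]

lemma tmul_pure (B₁ : LinearMap.BilinForm F U) (B₂ : LinearMap.BilinForm F W) (u : U) (w : W)
    (u' : U) (w' : W) : (B₁.tmul B₂) (u ⊗ₜ[F] w) (u' ⊗ₜ[F] w') = B₂ w w' * B₁ u u' :=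
  LinearMap.BilinForm.tensorDistrib_tmul F F B₁ B₂ u w u' w'

/-- tensor product of nondegenerate symmetric forms is nondegenerate -/
lemma tmul_nondeg [FiniteDimensional F U] [FiniteDimensional F W]
    (B₁ : LinearMap.BilinForm F U) (B₂ : LinearMap.BilinForm F W)
    (h₁ : B₁.Nondegenerate) (h₂ : B₂.Nondegenerate) (hS₁ : B₁.IsSymm) (hS₂ : B₂.IsSymm) :
    (B₁.tmul B₂).Nondegenerate := by
  have key : (B₁.tmul B₂ : U ⊗[F] W →ₗ[F] (U ⊗[F] W →ₗ[F] F)) =
      (TensorProduct.dualDistribEquiv F U W).toLinearMap ∘ₗ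
        (TensorProduct.congr (B₁.toDual h₁) (B₂.toDual h₂)).toLinearMap := by
    apply TensorProduct.ext'
    intro u w
    apply TensorProduct.ext'
    intro u' w'
    rw [tmul_pure]
    simp [TensorProduct.dualDistribEquiv, TensorProduct.dualDistribEquivOfBasis,
      LinearMap.BilinForm.toDual_def, mul_comm]
  have hsepL : (B₁.tmul B₂).SeparatingLeft := by
    intro x hx
    have h0 : (B₁.tmul B₂) x = 0 := LinearMap.ext hx
    rw [key] at h0
    have h1 : (TensorProduct.dualDistribEquiv F U W)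
        ((TensorProduct.congr (B₁.toDual h₁) (B₂.toDual h₂)) x) = 0 := h0
    rw [LinearEquiv.map_eq_zero_iff, LinearEquiv.map_eq_zero_iff] at h1
    exact h1
  have hsymm : LinearMap.IsSymm (B₁.tmul B₂) :=
    LinearMap.IsSymm.tmul (LinearMap.BilinForm.isSymm_iff.1 hS₁)
      (LinearMap.BilinForm.isSymm_iff.1 hS₂)
  refine ⟨hsepL, ?_⟩
  intro y hy
  apply hsepL y
  intro x
  have := hsymm.eq y x
  simp only [RingHom.id_apply] at this
  rw [this]
  exact hy x

lemma tmul_symm (B₁ : LinearMap.BilinForm F U) (B₂ : LinearMap.BilinForm F W)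
    (hS₁ : B₁.IsSymm) (hS₂ : B₂.IsSymm) :
    LinearMap.BilinForm.IsSymm (B₁.tmul B₂ : LinearMap.BilinForm F (U ⊗[F] W)) :=
  LinearMap.BilinForm.isSymm_iff.2 (LinearMap.IsSymm.tmul (LinearMap.BilinForm.isSymm_iff.1 hS₁)
      (LinearMap.BilinForm.isSymm_iff.1 hS₂))

/-- Gram matrix of the tensor form in the tensor basis is the Kronecker product -/
lemma toMatrix_tmul {ι κ : Type*} [Fintype ι] [Fintype κ] [DecidableEq ι] [DecidableEq κ]
    (B₁ : LinearMap.BilinForm F U) (B₂ : LinearMap.BilinForm F W)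
    (b₁ : Module.Basis ι F U) (b₂ : Module.Basis κ F W) :
    LinearMap.BilinForm.toMatrix (b₁.tensorProduct b₂) (B₁.tmul B₂) =
      Matrix.kroneckerMap (fun x y => x * y) (LinearMap.BilinForm.toMatrix b₁ B₁)
        (LinearMap.BilinForm.toMatrix b₂ B₂) := by
  ext ⟨i, j⟩ ⟨i', j'⟩
  rw [LinearMap.BilinForm.toMatrix_apply, Module.Basis.tensorProduct_apply,
    Module.Basis.tensorProduct_apply, tmul_pure, Matrix.kroneckerMap_apply,
    LinearMap.BilinForm.toMatrix_apply, LinearMap.BilinForm.toMatrix_apply, mul_comm]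

lemma det_tmul {ι κ : Type*} [Fintype ι] [Fintype κ] [DecidableEq ι] [DecidableEq κ]
    (B₁ : LinearMap.BilinForm F U) (B₂ : LinearMap.BilinForm F W)
    (b₁ : Module.Basis ι F U) (b₂ : Module.Basis κ F W) :
    (LinearMap.BilinForm.toMatrix (b₁.tensorProduct b₂) (B₁.tmul B₂)).det =
      (LinearMap.BilinForm.toMatrix b₁ B₁).det ^ Fintype.card κ *
        (LinearMap.BilinForm.toMatrix b₂ B₂).det ^ Fintype.card ι := by
  rw [toMatrix_tmul, Matrix.det_kronecker]

/-- Over a finite field with 2 ≠ 0: if B₁ on U (dim 2k, k ≥ 1) and B₂ on W (dim 2l, l ≥ 1) are non-degenerate symmetric forms admitting no totally isotropic subspaces of dimensions k, resp. l (minus type), then B₁ ⊗ B₂ admits a totally isotropic subspace of dimension 2kl (plus type). -/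
theorem result {F U W : Type*} [Field F] [Fintype F] [AddCommGroup U] [Module F U] [FiniteDimensional F U] [AddCommGroup W] [Module F W] [FiniteDimensional F W] (h2 : (2 : F) ≠ 0) (B₁ : LinearMap.BilinForm F U) (B₂ : LinearMap.BilinForm F W) (h₁ : B₁.Nondegenerate) (h₂ : B₂.Nondegenerate) (hS₁ : B₁.IsSymm) (hS₂ : B₂.IsSymm) (k l : ℕ) (hk : 1 ≤ k) (hl : 1 ≤ l) (hU : Module.finrank F U = 2 * k) (hW : Module.finrank F W = 2 * l) (hm₁ : ¬ (∃ X : Submodule F (U), Module.finrank F X = k ∧ ∀ x ∈ X, ∀ y ∈ X, (B₁) x y = 0)) (hm₂ : ¬ (∃ X : Submodule F (W), Module.finrank F X = l ∧ ∀ x ∈ X, ∀ y ∈ X, (B₂) x y = 0)) : (∃ X : Submodule F (TensorProduct F U W), Module.finrank F X = 2 * k * l ∧ ∀ x ∈ X, ∀ y ∈ X, (B₁.tmul B₂) x y = 0) := by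
  classical
  let b₁ := Module.finBasis F U
  let b₂ := Module.finBasis F W
  have hV : finrank F (U ⊗[F] W) = 2 * (2 * k * l) := by
    rw [Module.finrank_tensorProduct, hU, hW]; ring
  have hm : 1 ≤ 2 * k * l := by
    have : 1 ≤ k * l := Nat.mul_pos hk hl
    nlinarith
  have key := Cfsg.Agent.Helper9QType.bilin_type_iff h2 (2 * k * l) hm hV (B₁.tmul B₂)
    (tmul_nondeg B₁ B₂ h₁ h₂ hS₁ hS₂) (tmul_symm B₁ B₂ hS₁ hS₂) (b₁.tensorProduct b₂)
  rw [key, det_tmul]
  simp only [Fintype.card_fin, hU, hW]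
  refine ⟨(LinearMap.BilinForm.toMatrix b₁ B₁).det ^ l * (LinearMap.BilinForm.toMatrix b₂ B₂).det ^ k, ?_⟩
  have e : (-1 : F) ^ (2 * k * l) = 1 := by
    rw [mul_assoc, pow_mul]; simp
  rw [e]
  ring

end Cfsg.Agent.S0834
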