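-- Statement S0835: minus type ⊗ odd-dimensional is of minus type.
import Cfsg.Statements.S0835
import Mathlib
import Cfsg.Agent.S0834

set_option autoImplicit false
open Cfsg
open scoped TensorProduct

namespace Cfsg.Agent.S0835

open Module Cfsg.Agent.S0834 Cfsg.Agent.Lib.Helper4_Gram1

/-- Over a finite field with 2 ≠ 0: if B₁ on U (dim 2k, k ≥ 1) is non-degenerate symmetric of minus type (no totally isotropic k-subspace) and B₂ on W (dim 2l + 1) is non-degenerate symmetric, then B₁ ⊗ B₂ (dimension 2k(2l+1)) admits no totally isotropic subspace of dimension k(2l+1) (minus type). -/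
theorem result {F U W : Type*} [Field F] [Fintype F] [AddCommGroup U] [Module F U] [FiniteDimensional F U] [AddCommGroup W] [Module F W] [FiniteDimensional F W] (h2 : (2 : F) ≠ 0) (B₁ : LinearMap.BilinForm F U) (B₂ : LinearMap.BilinForm F W) (h₁ : B₁.Nondegenerate) (h₂ : B₂.Nondegenerate) (hS₁ : B₁.IsSymm) (hS₂ : B₂.IsSymm) (k l : ℕ) (hk : 1 ≤ k) (hU : Module.finrank F U = 2 * k) (hW : Module.finrank F W = 2 * l + 1) (hm₁ : ¬ (∃ X : Submodule F (U), Module.finrank F X = k ∧ ∀ x ∈ X, ∀ y ∈ X, (B₁) x y = 0)) : ¬ (∃ X : Submodule F (TensorProduct F U W), Module.finrank F X = k * (2 * l + 1) ∧ ∀ x ∈ X, ∀ y ∈ X, (B₁.tmul B₂) x y = 0) := by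
  classical
  let b₁ := Module.finBasis F U
  let b₂ := Module.finBasis F W
  have hV : finrank F (U ⊗[F] W) = 2 * (k * (2 * l + 1)) := by
    rw [Module.finrank_tensorProduct, hU, hW]; ring
  have hm : 1 ≤ k * (2 * l + 1) := Nat.mul_pos hk (by omega)
  have key := Cfsg.Agent.Helper9QType.bilin_type_iff h2 (k * (2 * l + 1)) hm hV (B₁.tmul B₂)
    (tmul_nondeg B₁ B₂ h₁ h₂ hS₁ hS₂) (tmul_symm B₁ B₂ hS₁ hS₂) (b₁.tensorProduct b₂)
  have key₁ := Cfsg.Agent.Helper9QType.bilin_type_iff h2 k hk hU B₁ h₁ hS₁ b₁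
  rw [key₁] at hm₁
  rw [key, det_tmul]
  simp only [Fintype.card_fin, hU, hW]
  obtain ⟨d₁, hd₁⟩ : ∃ d₁, d₁ = (LinearMap.BilinForm.toMatrix b₁ B₁).det := ⟨_, rfl⟩
  obtain ⟨d₂, hd₂⟩ : ∃ d₂, d₂ = (LinearMap.BilinForm.toMatrix b₂ B₂).det := ⟨_, rfl⟩
  have hd₁0 : d₁ ≠ 0 := hd₁ ▸ (LinearMap.BilinForm.nondegenerate_iff_det_ne_zero b₁).1 h₁
  have hd₂0 : d₂ ≠ 0 := hd₂ ▸ (LinearMap.BilinForm.nondegenerate_iff_det_ne_zero b₂).1 h₂
  rw [← hd₁] at hm₁ ⊢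
  rw [← hd₂]
  have e : (-1 : F) ^ (k * (2 * l + 1)) * (d₁ ^ (2 * l + 1) * d₂ ^ (2 * k)) =
      ((((-1) ^ k * d₁) ^ l) * d₂ ^ k) ^ 2 * ((-1) ^ k * d₁) := by
    rw [pow_mul]
    ring
  rw [e, isSquare_mul_sq]
  · exact hm₁
  · exact mul_ne_zero (pow_ne_zero _ (mul_ne_zero (pow_ne_zero _ (neg_ne_zero.2 one_ne_zero)) hd₁0))
      (pow_ne_zero _ hd₂0)

end Cfsg.Agent.S0835
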