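import Cfsg.Statements.S0836
import Mathlib
set_option autoImplicit false
set_option linter.unusedSimpArgs false
open Cfsg
namespace Cfsg.Agent.S0836

open Matrix
open scoped commutatorElement

variable {F : Type*} [Field F] {n : ℕ}

theorem comm_id (i j k : Fin n) (hij : i ≠ j) (hik : i ≠ k) (hjk : j ≠ k) (c : F) :
    transvection i k c * transvection k j 1 * transvection i k (-c) * transvection k j (-1) =
      transvection i j c := by
  simp only [transvection, Matrix.add_mul, Matrix.mul_add, Matrix.one_mul, Matrix.mul_one,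
    single_mul_single_same, single_mul_single_of_ne _ _ _ _ hik.symm,
    single_mul_single_of_ne _ _ _ _ hij.symm, single_mul_single_of_ne _ _ _ _ hjk,
    single_mul_single_of_ne _ _ _ _ hjk.symm, single_mul_single_of_ne _ _ _ _ hik,
    Matrix.zero_mul, Matrix.mul_zero, add_zero, zero_add, mul_one, one_mul]
  rw [mul_neg, mul_one, neg_mul_neg, mul_one, ← single_neg, ← single_neg, ← single_neg]
  abel

/-- transvection as an element of SL -/
def tvSL (i j : Fin n) (h : i ≠ j) (c : F) : Matrix.SpecialLinearGroup (Fin n) F :=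
  ⟨transvection i j c, det_transvection_of_ne i j h c⟩

theorem tvSL_inv (i j : Fin n) (h : i ≠ j) (c : F) : (tvSL i j h c)⁻¹ = tvSL i j h (-c) := by
  apply inv_eq_of_mul_eq_one_right
  apply Subtype.ext
  show transvection i j c * transvection i j (-c) = 1
  rw [transvection_mul_transvection_same i j h, add_neg_cancel, transvection_zero]

theorem case_three (hn : 3 ≤ n) (i j : Fin n) (hij : i ≠ j) (c : F)
    (t : Matrix.SpecialLinearGroup (Fin n) F)
    (ht : (t : Matrix (Fin n) (Fin n) F) = Matrix.transvection i j c) :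
    t ∈ commutatorSet (Matrix.SpecialLinearGroup (Fin n) F) := by
  classical
  obtain ⟨k, hk⟩ : ∃ k : Fin n, k ∉ ({i, j} : Finset (Fin n)) := by
    by_contra hcon
    push Not at hcon
    have : (Finset.univ : Finset (Fin n)) ⊆ {i, j} := fun k _ => hcon k
    have h1 := Finset.card_le_card this
    have h2 : ({i, j} : Finset (Fin n)).card ≤ 2 := Finset.card_le_two
    rw [Finset.card_univ, Fintype.card_fin] at h1
    omega
  simp only [Finset.mem_insert, Finset.mem_singleton, not_or] at hk
  have hik : i ≠ k := fun h => hk.1 h.symm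
  have hjk : j ≠ k := fun h => hk.2 h.symm
  refine ⟨tvSL i k hik c, tvSL k j hjk.symm 1, ?_⟩
  rw [commutatorElement_def, tvSL_inv, tvSL_inv]
  apply Subtype.ext
  rw [ht]
  exact comm_id i j k hij hik hjk c

theorem case_two (x : F) (hx : x ≠ 0) (hx2 : x ^ 2 ≠ 1) (i j : Fin 2) (hij : i ≠ j) (c : F)
    (t : Matrix.SpecialLinearGroup (Fin 2) F)
    (ht : (t : Matrix (Fin 2) (Fin 2) F) = Matrix.transvection i j c) :
    t ∈ commutatorSet (Matrix.SpecialLinearGroup (Fin 2) F) := by
  have hx21 : x ^ 2 - 1 ≠ 0 := sub_ne_zero.mpr hx2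
  -- diagonal element with entry x at i and x⁻¹ at j
  let D : Matrix (Fin 2) (Fin 2) F := Matrix.diagonal (fun k => if k = i then x else x⁻¹)
  let D' : Matrix (Fin 2) (Fin 2) F := Matrix.diagonal (fun k => if k = i then x⁻¹ else x)
  have hdet : D.det = 1 := by
    simp only [D, Matrix.det_diagonal, Fin.prod_univ_two]
    fin_cases i <;> fin_cases j <;> simp_all
  have hdet' : D'.det = 1 := by
    simp only [D', Matrix.det_diagonal, Fin.prod_univ_two]
    fin_cases i <;> fin_cases j <;> simp_all
  let d : Matrix.SpecialLinearGroup (Fin 2) F := ⟨D, hdet⟩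
  let d' : Matrix.SpecialLinearGroup (Fin 2) F := ⟨D', hdet'⟩
  have hdd' : d⁻¹ = d' := by
    apply inv_eq_of_mul_eq_one_right
    apply Subtype.ext
    show D * D' = 1
    simp only [D, D', Matrix.diagonal_mul_diagonal]
    rw [← Matrix.diagonal_one]
    congr 1
    funext k
    by_cases hk : k = i <;> simp [hk, hx]
  refine ⟨d, tvSL i j hij (c / (x ^ 2 - 1)), ?_⟩
  rw [commutatorElement_def, tvSL_inv, hdd']
  apply Subtype.ext
  rw [ht]
  show D * transvection i j (c / (x ^ 2 - 1)) * D' * transvection i j (-(c / (x ^ 2 - 1))) =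
    transvection i j c
  have hconj : D * transvection i j (c / (x ^ 2 - 1)) * D' =
      transvection i j (x ^ 2 * (c / (x ^ 2 - 1))) := by
    simp only [transvection, Matrix.mul_add, Matrix.add_mul, Matrix.mul_one]
    congr 1
    · simp only [D, D', Matrix.diagonal_mul_diagonal]
      rw [← Matrix.diagonal_one]
      congr 1
      funext k
      by_cases hk : k = i <;> simp [hk, hx]
    · ext a b
      simp only [D, D', Matrix.mul_apply, Matrix.diagonal_apply, Matrix.single_apply,
        Fin.sum_univ_two]
      fin_cases i <;> fin_cases j <;> fin_cases a <;> fin_cases b <;> simp_all <;> ring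
  rw [hconj, transvection_mul_transvection_same i j hij]
  congr 1
  field_simp
  ring

theorem result {F : Type*} [Field F] (n : ℕ) (hn : 3 ≤ n ∨ (n = 2 ∧ ∃ x : F, x ≠ 0 ∧ x ^ 2 ≠ 1)) (i j : Fin n) (hij : i ≠ j) (c : F) (t : Matrix.SpecialLinearGroup (Fin n) F) (ht : (t : Matrix (Fin n) (Fin n) F) = Matrix.transvection i j c) : t ∈ commutatorSet (Matrix.SpecialLinearGroup (Fin n) F) := by
  rcases hn with hn | ⟨rfl, x, hx, hx2⟩
  · exact case_three hn i j hij c t ht
  · exact case_two x hx hx2 i j hij c t ht

end Cfsg.Agent.S0836
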