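import Cfsg.Statements.S0837
import Mathlib
import Cfsg.Agent.Lib.Helper9_GUStab

set_option autoImplicit false
open Cfsg

namespace Cfsg.Agent.S0837

open Cfsg.Agent.Helper9HermCount Cfsg.Agent.Helper9GUOrder Cfsg.Agent.Helper9GUStab

/-- If W ≤ F^n (|F| = q²) is a k-dimensional subspace on which the Hermitian form Σ x_i y_i^q is non-degenerate, then the stabiliser of W in GU_n(q) is isomorphic to GU_k(q) × GU_(n−k)(q). -/
theorem result {F : Type*} [Field F] [Fintype F] {q : ℕ} (hF : Fintype.card F = q ^ 2) (n k : ℕ) (hk : k ≤ n) (W : Submodule F (Fin n → F)) (hWk : Module.finrank F W = k) (hW : ∀ u ∈ W, (∀ v ∈ W, Cfsg.hermForm n F q u v = 0) → u = 0) : Nonempty (↥((Cfsg.stabilizing (Cfsg.glToMat (Fin n) F) (W : Set (Fin n → F))).subgroupOf (Cfsg.GU n F q)) ≃* ↥(Cfsg.GU k F q) × ↥(Cfsg.GU (n - k) F q)) := by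
  classical
  have hq := q_ge_two hF
  have hq0 : q ≠ 0 := by omega
  obtain ⟨w, hw, hwW⟩ := exists_ON_basis hF W hW k (by rw [hWk])
  obtain ⟨u, hu, huw⟩ := complete_frame hF w hw (n - k) (by omega)
  have hkm : k + (n - k) = n := by omega
  -- abbreviations
  let G := (Cfsg.stabilizing (Cfsg.glToMat (Fin n) F) (W : Set (Fin n → F))).subgroupOf (Cfsg.GU n F q)
  let Mat : G → Matrix (Fin n) (Fin n) F := fun g =>
    ((g.1.1 : Matrix.GeneralLinearGroup (Fin n) F) : Matrix (Fin n) (Fin n) F)
  have hMat_mul : ∀ g g' : G, Mat (g * g') = Mat g * Mat g' := fun g g' => rfl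
  have hpres : ∀ g : G, ∀ x y, hermForm n F q ((Mat g).mulVec x) ((Mat g).mulVec y) =
      hermForm n F q x y := fun g => (mem_GU_iff g.1.1).1 g.1.2
  have hstab : ∀ g : G, ∀ v, v ∈ W ↔ (Mat g).mulVec v ∈ W := fun g v =>
    (Subgroup.mem_subgroupOf.1 g.2) v
  have hmemW := mem_W_iff hF w u hw hu huw hkm W hWk hwW
  have hinv : ∀ g : G, ∀ x, (Mat g).mulVec ((Mat g⁻¹).mulVec x) = x := by
    intro g x
    rw [Matrix.mulVec_mulVec, ← hMat_mul, mul_inv_cancel]
    show (1 : Matrix (Fin n) (Fin n) F).mulVec x = x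
    rw [Matrix.one_mulVec]
  have hadapt : ∀ g : G, Adapted w u q (Mat g) := by
    intro g
    constructor
    · intro j
      exact (hmemW _).1 ((hstab g _).1 (hwW j))
    · intro j
      funext i
      show hermForm n F q ((Mat g).mulVec (u j)) (w i) = 0
      have h1 : (Mat g⁻¹).mulVec (w i) ∈ W := (hstab g⁻¹ _).1 (hwW i)
      rw [← hinv g (w i), hpres g]
      apply herm_perp_symm hF
      exact congrFun ((hmemW _).1 h1) j
  have hpA := fun g : G => (adapted_pres hF w u hw hu huw hkm (Mat g) (hadapt g) (hpres g)).1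
  have hpB := fun g : G => (adapted_pres hF w u hw hu huw hkm (Mat g) (hadapt g) (hpres g)).2
  let Ψ : G → GU k F q × GU (n - k) F q := fun g =>
    (mkGU hq0 (blkA w q (Mat g)) (hpA g), mkGU hq0 (blkA u q (Mat g)) (hpB g))
  have hΨmul : ∀ g g', Ψ (g * g') = Ψ g * Ψ g' := by
    intro g g'
    have h1 := adapted_mul hF w u hw hu huw hkm (Mat g) (Mat g') (hadapt g) (hadapt g')
    apply Prod.ext
    · apply GU_ext
      show ((mkGU hq0 (blkA w q (Mat (g * g'))) (hpA (g * g'))).1 : Matrix.GeneralLinearGroup _ F).1 =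
        ((mkGU hq0 (blkA w q (Mat g)) (hpA g)).1 : Matrix.GeneralLinearGroup _ F).1 *
          ((mkGU hq0 (blkA w q (Mat g')) (hpA g')).1 : Matrix.GeneralLinearGroup _ F).1
      rw [mkGU_val, mkGU_val, mkGU_val, hMat_mul, h1.1]
    · apply GU_ext
      show ((mkGU hq0 (blkA u q (Mat (g * g'))) (hpB (g * g'))).1 : Matrix.GeneralLinearGroup _ F).1 =
        ((mkGU hq0 (blkA u q (Mat g)) (hpB g)).1 : Matrix.GeneralLinearGroup _ F).1 *
          ((mkGU hq0 (blkA u q (Mat g')) (hpB g')).1 : Matrix.GeneralLinearGroup _ F).1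
      rw [mkGU_val, mkGU_val, mkGU_val, hMat_mul, h1.2]
  have hΨinj : Function.Injective Ψ := by
    intro g g' h
    have hA : blkA w q (Mat g) = blkA w q (Mat g') := by
      have := congrArg (fun z : GU k F q × GU (n - k) F q =>
        ((z.1.1 : Matrix.GeneralLinearGroup _ F) : Matrix (Fin k) (Fin k) F)) h
      simp only [Ψ, mkGU_val] at this
      exact this
    have hB : blkA u q (Mat g) = blkA u q (Mat g') := by
      have := congrArg (fun z : GU k F q × GU (n - k) F q =>
        ((z.2.1 : Matrix.GeneralLinearGroup _ F) : Matrix (Fin (n - k)) (Fin (n - k)) F)) h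
      simp only [Ψ, mkGU_val] at this
      exact this
    have hM : Mat g = Mat g' := by
      apply mat_ext
      intro x
      rw [decomp hF w u hw hu huw hkm x, adapted_apply hF w u hw hu huw hkm _ (hadapt g),
        adapted_apply hF w u hw hu huw hkm _ (hadapt g'), hA, hB]
    exact Subtype.ext (GU_ext _ _ hM)
  have hΨsurj : Function.Surjective Ψ := by
    rintro ⟨A, B⟩
    set MA : Matrix (Fin k) (Fin k) F :=
      ((A.1 : Matrix.GeneralLinearGroup (Fin k) F) : Matrix (Fin k) (Fin k) F) with hMA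
    set MB : Matrix (Fin (n - k)) (Fin (n - k)) F :=
      ((B.1 : Matrix.GeneralLinearGroup (Fin (n - k)) F) : Matrix (Fin (n - k)) (Fin (n - k)) F) with hMB
    have hApres := (mem_GU_iff A.1).1 A.2
    have hBpres := (mem_GU_iff B.1).1 B.2
    let L : (Fin n → F) →ₗ[F] (Fin n → F) :=
      (Fintype.linearCombination F w) ∘ₗ MA.mulVecLin ∘ₗ coordsL q w +
        (Fintype.linearCombination F u) ∘ₗ MB.mulVecLin ∘ₗ coordsL q u
    let M : Matrix (Fin n) (Fin n) F := LinearMap.toMatrix' L
    have hM : ∀ x, M.mulVec x = comb w (MA.mulVec (coords q w x)) + comb u (MB.mulVec (coords q u x)) := by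
      intro x
      show (LinearMap.toMatrix' L).mulVec x = _
      rw [LinearMap.toMatrix'_mulVec]
      show Fintype.linearCombination F w (MA.mulVec (coordsL q w x)) +
        Fintype.linearCombination F u (MB.mulVec (coordsL q u x)) = _
      rw [comb_eq, comb_eq, coordsL_apply, coordsL_apply]
    have hMpres : ∀ x y, hermForm n F q (M.mulVec x) (M.mulVec y) = hermForm n F q x y := by
      intro x y
      rw [hM, hM, herm_decomp hF w u hw hu huw, hApres, hBpres, ← herm_decomp hF w u hw hu huw,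
        ← decomp hF w u hw hu huw hkm, ← decomp hF w u hw hu huw hkm]
    have hMBinj : Function.Injective MB.mulVec :=
      Matrix.mulVec_injective_iff_isUnit.2 (Units.isUnit B.1)
    have hMstab : ∀ v, v ∈ W ↔ M.mulVec v ∈ W := by
      intro v
      rw [hmemW, hmemW, hM, (coords_comb hF w u hw hu huw _ _).2]
      constructor
      · intro h; rw [h, Matrix.mulVec_zero]
      · intro h
        apply hMBinj
        rw [h, Matrix.mulVec_zero]
    let g₀ : GU n F q := mkGU hq0 M hMpres
    have hg₀ : ((g₀.1 : Matrix.GeneralLinearGroup (Fin n) F) : Matrix (Fin n) (Fin n) F) = M :=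
      mkGU_val hq0 M hMpres
    have hg₀mem : g₀ ∈ G := by
      rw [Subgroup.mem_subgroupOf]
      intro v
      show v ∈ W ↔ ((g₀.1 : Matrix.GeneralLinearGroup (Fin n) F) : Matrix (Fin n) (Fin n) F).mulVec v ∈ W
      rw [hg₀]
      exact hMstab v
    have hw' : ∀ i j, hermForm n F q (w i) (w j) = if i = j then 1 else 0 := hw
    have hu' : ∀ i j, hermForm n F q (u i) (u j) = if i = j then 1 else 0 := hu
    refine ⟨⟨g₀, hg₀mem⟩, ?_⟩
    have hMatg : Mat ⟨g₀, hg₀mem⟩ = M := hg₀
    apply Prod.ext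
    · apply GU_ext
      show ((mkGU hq0 (blkA w q (Mat ⟨g₀, hg₀mem⟩)) (hpA ⟨g₀, hg₀mem⟩)).1 :
        Matrix.GeneralLinearGroup _ F).1 = MA
      rw [mkGU_val, hMatg]
      ext i j
      show hermForm n F q (M.mulVec (w j)) (w i) = MA i j
      have h1 := congrFun (coords_comb hF w u hw hu huw (MA.mulVec (coords q w (w j)))
        (MB.mulVec (coords q u (w j)))).1 i
      rw [← hM] at h1
      rw [show hermForm n F q (M.mulVec (w j)) (w i) = coords q w (M.mulVec (w j)) i from rfl, h1]
      have h2 : coords q w (w j) = Pi.single j 1 := by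
        funext l
        simp only [coords, hw', Pi.single_apply, eq_comm]
      rw [h2, Matrix.mulVec_single_one]
      rfl
    · apply GU_ext
      show ((mkGU hq0 (blkA u q (Mat ⟨g₀, hg₀mem⟩)) (hpB ⟨g₀, hg₀mem⟩)).1 :
        Matrix.GeneralLinearGroup _ F).1 = MB
      rw [mkGU_val, hMatg]
      ext i j
      show hermForm n F q (M.mulVec (u j)) (u i) = MB i j
      have h1 := congrFun (coords_comb hF w u hw hu huw (MA.mulVec (coords q w (u j)))
        (MB.mulVec (coords q u (u j)))).2 i
      rw [← hM] at h1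
      rw [show hermForm n F q (M.mulVec (u j)) (u i) = coords q u (M.mulVec (u j)) i from rfl, h1]
      have h2 : coords q u (u j) = Pi.single j 1 := by
        funext l
        simp only [coords, hu', Pi.single_apply, eq_comm]
      rw [h2, Matrix.mulVec_single_one]
      rfl
  exact ⟨MulEquiv.ofBijective (MonoidHom.mk' Ψ hΨmul) ⟨hΨinj, hΨsurj⟩⟩

end Cfsg.Agent.S0837
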