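-- Statement S0838: odd-dimensional quadratic forms over finite fields of odd order are similar.
import Cfsg.Statements.S0838
import Mathlib
import Cfsg.Agent.Lib.Helper4_QF10

set_option autoImplicit false
open Cfsg

namespace Cfsg.Agent.S0838

open Cfsg.Agent.Lib.Helper4_QF10 QuadraticMap

variable {F : Type*} [Field F]

lemma polar_smul_form {n : ℕ} (Q : QuadraticForm F (Fin n → F)) (c : F) (u v : Fin n → F) :
    polar (c • Q) u v = c * polar Q u v := by
  simp only [polar, QuadraticMap.smul_apply, smul_eq_mul]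
  ring

lemma disc_smul {n : ℕ} (Q : QuadraticForm F (Fin n → F)) (c : F) :
    disc (c • Q) = c ^ n * disc Q := by
  unfold disc
  have : (Matrix.of fun i j : Fin n => polar (⇑(c • Q)) (Pi.single i 1) (Pi.single j 1)) =
      c • (Matrix.of fun i j : Fin n => polar (⇑Q) (Pi.single i 1) (Pi.single j 1)) := by
    ext i j
    simp only [Matrix.of_apply, Matrix.smul_apply, smul_eq_mul]
    exact polar_smul_form Q c _ _
  rw [this, Matrix.det_smul, Fintype.card_fin]

lemma nondeg_smul {n : ℕ} (Q : QuadraticForm F (Fin n → F)) (c : F) (hc : c ≠ 0)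
    (h : (polarBilin Q).Nondegenerate) : (polarBilin (c • Q)).Nondegenerate := by
  constructor
  · intro x hx
    apply h.1 x
    intro y
    have := hx y
    simp only [polarBilin_apply_apply] at this ⊢
    rw [polar_smul_form] at this
    exact (mul_eq_zero.1 this).resolve_left hc
  · intro y hy
    apply h.2 y
    intro x
    have := hy x
    simp only [polarBilin_apply_apply] at this ⊢
    rw [polar_smul_form] at this
    exact (mul_eq_zero.1 this).resolve_left hc

/-- nondegenerate forms have nonzero discriminant -/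
lemma disc_ne_zero {n : ℕ} (Q : QuadraticForm F (Fin n → F))
    (h : (polarBilin Q).Nondegenerate) : disc Q ≠ 0 := by
  classical
  intro h0
  unfold disc at h0
  -- singular Gram matrix gives a radical vector
  obtain ⟨v, hv, hMv⟩ := Matrix.exists_mulVec_eq_zero_iff.2 h0
  apply hv
  apply h.2 v
  intro x
  rw [polarBilin_apply_apply]
  -- expand x and v in the standard basis
  have hx : x = ∑ i, x i • (Pi.single i 1 : Fin n → F) := by
    funext k
    simp [Finset.sum_apply, Pi.single_apply]
  have hvv : v = ∑ j, v j • (Pi.single j 1 : Fin n → F) := by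
    funext k
    simp [Finset.sum_apply, Pi.single_apply]
  have key : ∀ i, polarBilin Q (Pi.single i 1) v = 0 := by
    intro i
    conv_lhs => rw [hvv]
    simp only [map_sum, map_smul, smul_eq_mul, polarBilin_apply_apply]
    have := congrFun hMv i
    simp only [Matrix.mulVec, dotProduct, Matrix.of_apply, Pi.zero_apply] at this
    rw [← this]
    apply Finset.sum_congr rfl
    intro j _
    ring
  rw [← polarBilin_apply_apply, hx, map_sum, LinearMap.sum_apply]
  apply Finset.sum_eq_zero
  intro i _
  rw [map_smul, LinearMap.smul_apply, key i, smul_zero]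

/-- Over a finite field with 2 ≠ 0 and n odd: two quadratic forms Q₁, Q₂ on F^n with non-degenerate polar forms are similar — there are an invertible linear map g and a scalar c ≠ 0 with Q₂ (g v) = c · Q₁ v for all v. -/
theorem result {F : Type*} [Field F] [Fintype F] (h2 : (2 : F) ≠ 0) {n : ℕ} (hn : Odd n) (Q₁ Q₂ : QuadraticForm F (Fin n → F)) (h₁ : (QuadraticMap.polarBilin Q₁).Nondegenerate) (h₂ : (QuadraticMap.polarBilin Q₂).Nondegenerate) : ∃ (g : (Fin n → F) ≃ₗ[F] (Fin n → F)) (c : F), c ≠ 0 ∧ ∀ v, Q₂ (g v) = c * Q₁ v := by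
  have hd₁ := disc_ne_zero Q₁ h₁
  have hd₂ := disc_ne_zero Q₂ h₂
  obtain ⟨c, hc⟩ : ∃ c, c = disc Q₁ * disc Q₂ := ⟨_, rfl⟩
  have hc0 : c ≠ 0 := by rw [hc]; exact mul_ne_zero hd₁ hd₂
  obtain ⟨k, hk⟩ := hn
  subst hk
  have hsq : IsSquare (disc (c • Q₁) * disc Q₂) := by
    rw [disc_smul]
    refine ⟨c ^ (k + 1), ?_⟩
    rw [hc]
    ring
  obtain ⟨g, hg⟩ := backward h2 (c • Q₁) Q₂ (nondeg_smul Q₁ c hc0 h₁) h₂ hsq
  refine ⟨g, c, hc0, fun v => ?_⟩
  rw [hg v]
  rfl

end Cfsg.Agent.S0838
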