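import Cfsg.Statements.S0839
import Mathlib
set_option autoImplicit false
open Cfsg
namespace Cfsg.Agent.S0839

open Matrix
open scoped LinearAlgebra.Projectivization

variable {F : Type*} [Field F] {ι : Type} [Fintype ι] [DecidableEq ι]

/-- a rank-one matrix is a column times a row -/
theorem exists_vecMulVec_of_rank_one (N : Matrix ι ι F) (hN : N.rank = 1) :
    ∃ a b : ι → F, a ≠ 0 ∧ N = Matrix.vecMulVec a b := by
  unfold Matrix.rank at hN
  obtain ⟨⟨a, ha⟩, ha0, hspan⟩ := finrank_eq_one_iff'.mp hN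
  have ha0' : a ≠ 0 := by
    intro h; apply ha0; exact Subtype.ext h
  have hcol : ∀ j : ι, ∃ c : F, c • a = N *ᵥ (Pi.single j 1) := by
    intro j
    obtain ⟨c, hc⟩ := hspan ⟨N *ᵥ (Pi.single j 1), ⟨Pi.single j 1, rfl⟩⟩
    exact ⟨c, congrArg Subtype.val hc⟩
  choose c hc using hcol
  refine ⟨a, c, ha0', ?_⟩
  ext i j
  have := congrFun (hc j) i
  rw [Matrix.mulVec_single_one] at this
  simp only [Pi.smul_apply, smul_eq_mul, Matrix.col_apply] at this
  rw [Matrix.vecMulVec_apply, mul_comm, this]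

theorem result {F : Type*} [Field F] (n : ℕ) (t : Matrix.SpecialLinearGroup (Fin (n + 2)) F) (ht : Cfsg.IsTransvection (t : Matrix (Fin (n + 2)) (Fin (n + 2)) F)) : ∃ (g : Matrix.SpecialLinearGroup (Fin (n + 2)) F) (v : Fin (n + 2) → F), v 0 = 0 ∧ ((g⁻¹ * t * g : Matrix.SpecialLinearGroup (Fin (n + 2)) F) : Matrix (Fin (n + 2)) (Fin (n + 2)) F) = 1 + Matrix.vecMulVec v (Pi.single 0 1) := by
  obtain ⟨hrank, hsq⟩ := ht
  obtain ⟨a, b, ha0, hN⟩ := exists_vecMulVec_of_rank_one _ hrank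
  have hb0 : b ≠ 0 := by
    rintro rfl
    rw [hN] at hrank
    simp at hrank
  have hba : b ⬝ᵥ a = 0 := by
    rw [hN, Matrix.vecMulVec_mul_vecMulVec] at hsq
    by_contra hne
    have : Matrix.vecMulVec a b = 0 := by
      have := congrArg (fun M => (b ⬝ᵥ a)⁻¹ • M) hsq
      simpa [smul_smul, inv_mul_cancel₀ hne] using this
    rw [this] at hN
    rw [hN] at hrank
    simp at hrank
  have ht1 : (t : Matrix (Fin (n + 2)) (Fin (n + 2)) F) = 1 + Matrix.vecMulVec a b := by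
    rw [← hN]; abel
  -- transitivity on points
  have he0 : (Pi.single 0 1 : Fin (n + 2) → F) ≠ 0 := by
    intro h
    have := congrFun h 0
    simp at this
  have htrans : MulAction.IsPretransitive (Matrix.SpecialLinearGroup (Fin (n + 2)) F)
      (ℙ F (Fin (n + 2) → F)) :=
    (Projectivization.prePrimitive_SL (ι := Fin (n + 2)) (K := F)).toIsPretransitive
  obtain ⟨h, hh⟩ := MulAction.exists_smul_eq (Matrix.SpecialLinearGroup (Fin (n + 2)) F)
    (Projectivization.mk F (Pi.single 0 1 : Fin (n + 2) → F) he0) (Projectivization.mk F b hb0)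
  rw [Projectivization.smul_mk, Projectivization.mk_eq_mk_iff] at hh
  obtain ⟨μ, hμ⟩ := hh
  have hμ' : (μ : F) • b = h.1 *ᵥ (Pi.single 0 1) := hμ
  -- the conjugating element
  let g : Matrix.SpecialLinearGroup (Fin (n + 2)) F := (h⁻¹).transpose
  have hginv : g⁻¹ = h.transpose := by
    apply inv_eq_of_mul_eq_one_right
    apply Subtype.ext
    show (h⁻¹).1ᵀ * h.1ᵀ = 1
    rw [← Matrix.transpose_mul]
    have : h.1 * (h⁻¹).1 = ((h * h⁻¹ : Matrix.SpecialLinearGroup (Fin (n + 2)) F) : Matrix _ _ F) := rfl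
    rw [this, mul_inv_cancel]
    simp
  have hinvb : (h⁻¹).1 *ᵥ b = (μ : F)⁻¹ • (Pi.single 0 1 : Fin (n + 2) → F) := by
    have h1 : (h⁻¹).1 *ᵥ (h.1 *ᵥ (Pi.single 0 1)) = (Pi.single 0 1 : Fin (n + 2) → F) := by
      rw [Matrix.mulVec_mulVec]
      have : (h⁻¹).1 * h.1 = ((h⁻¹ * h : Matrix.SpecialLinearGroup (Fin (n + 2)) F) : Matrix _ _ F) := rfl
      rw [this, inv_mul_cancel, Matrix.SpecialLinearGroup.coe_one, Matrix.one_mulVec]
    rw [← hμ', Matrix.mulVec_smul] at h1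
    rw [← h1, smul_smul, inv_mul_cancel₀ μ.ne_zero, one_smul]
  refine ⟨g, (μ : F)⁻¹ • (h.1ᵀ *ᵥ a), ?_, ?_⟩
  · simp only [Pi.smul_apply, smul_eq_mul]
    have : (h.1ᵀ *ᵥ a) 0 = (h.1 *ᵥ (Pi.single 0 1)) ⬝ᵥ a := by
      rw [Matrix.mulVec_single_one]
      simp [Matrix.mulVec, dotProduct, Matrix.transpose_apply]
    rw [this, ← hμ', smul_dotProduct, hba]
    simp
  · rw [hginv]
    show h.1ᵀ * t.1 * (h⁻¹).1ᵀ = _
    rw [ht1, Matrix.mul_add, Matrix.add_mul, Matrix.mul_one, Matrix.mul_vecMulVec,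
      Matrix.vecMulVec_mul, Matrix.vecMul_transpose, hinvb]
    congr 1
    · rw [← Matrix.transpose_mul]
      have : (h⁻¹).1 * h.1 = ((h⁻¹ * h : Matrix.SpecialLinearGroup (Fin (n + 2)) F) : Matrix _ _ F) := rfl
      rw [this, inv_mul_cancel]
      simp
    · rw [Matrix.vecMulVec_smul, Matrix.smul_vecMulVec]

end Cfsg.Agent.S0839
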