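import Cfsg.Statements.S0840
import Cfsg.Agent.Lib.Helper2_ClassFn
import Cfsg.Agent.Lib.Helper2_CharBasic
import Cfsg.Agent.Lib.Helper2_CharOrtho
import Cfsg.Agent.Lib.Helper2_Clifford
import Cfsg.Agent.Lib.Helper2_CharMore
import Cfsg.Agent.Lib.Helper2_CharNorm
import Cfsg.Agent.Lib.Helper2_CharValues
import Cfsg.Agent.Lib.Helper2_CharComplete
import Cfsg.Agent.Lib.Helper2_CharInd
import Cfsg.Agent.Lib.Helper2_CharTable
import Cfsg.Agent.Lib.Helper2_CharFrob
import Cfsg.Agent.Lib.Helper2_CharDeg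
import Cfsg.Agent.Lib.Helper2_CharSum
import Cfsg.Agent.Lib.Helper2_CharExtra
import Cfsg.Agent.Lib.Helper2_CharCentral

set_option autoImplicit false
open scoped ComplexConjugate
open Cfsg

namespace Cfsg.Agent.S0840

open Cfsg.Agent.Lib.Helper2_ClassFn Cfsg.Agent.Lib.Helper2_CharBasic Cfsg.Agent.Lib.Helper2_CharOrtho Cfsg.Agent.Lib.Helper2_Clifford Cfsg.Agent.Lib.Helper2_CharMore Cfsg.Agent.Lib.Helper2_CharNorm Cfsg.Agent.Lib.Helper2_CharValues Cfsg.Agent.Lib.Helper2_CharComplete Cfsg.Agent.Lib.Helper2_CharInd Cfsg.Agent.Lib.Helper2_CharTable Cfsg.Agent.Lib.Helper2_CharFrob Cfsg.Agent.Lib.Helper2_CharDeg Cfsg.Agent.Lib.Helper2_CharSum Cfsg.Agent.Lib.Helper2_CharExtra Cfsg.Agent.Lib.Helper2_CharCentral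
open scoped Pointwise


/-- Class multiplication coefficients from the character table: for elements a, b, c of a finite group G, the number of ordered pairs (x, y) with x conjugate to a, y conjugate to b and x * y = c equals the product of the sizes of the conjugacy classes of a and b, divided by the order of G, times the sum over the irreducible characters χ of χ a * χ b * conj (χ c) / χ 1. -/
theorem result {G : Type*} [Group G] [Finite G] (a b c : G) : (Nat.card {p : G × G // IsConj a p.1 ∧ IsConj b p.2 ∧ p.1 * p.2 = c} : ℂ) = (Nat.card {x : G // IsConj a x} : ℂ) * (Nat.card {x : G // IsConj b x} : ℂ) / (Nat.card G : ℂ) * ∑ᶠ χ : Cfsg.IrrCharacter G, (χ : G → ℂ) a * (χ : G → ℂ) b * conj ((χ : G → ℂ) c) / (χ : G → ℂ) 1 := by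
  classical
  have := Fintype.ofFinite G
  rw [finsum_irr_eq_sum (fun χ : G → ℂ => χ a * χ b * (starRingEnd ℂ) (χ c) / χ 1)]
  have hG : (Nat.card G : ℂ) ≠ 0 := card_ne_zero_complex
  set A := Finset.univ.filter (fun x : G => IsConj x a) with hA
  set B := Finset.univ.filter (fun x : G => IsConj x b) with hB
  have hcA : Nat.card {x : G // IsConj a x} = A.card := by
    rw [Nat.card_eq_fintype_card, Fintype.card_subtype]
    congr 1
    ext x
    rw [hA, Finset.mem_filter, Finset.mem_filter]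
    exact and_congr_right fun _ => isConj_comm
  have hcB : Nat.card {x : G // IsConj b x} = B.card := by
    rw [Nat.card_eq_fintype_card, Fintype.card_subtype]
    congr 1
    ext x
    rw [hB, Finset.mem_filter, Finset.mem_filter]
    exact and_congr_right fun _ => isConj_comm
  have hL : (Nat.card {p : G × G // IsConj a p.1 ∧ IsConj b p.2 ∧ p.1 * p.2 = c} : ℂ)
      = ∑ x ∈ A, ∑ y ∈ B, if x * y = c then (1 : ℂ) else 0 := by
    rw [Nat.card_eq_fintype_card, Fintype.card_subtype, Finset.card_filter]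
    push_cast
    rw [Fintype.sum_prod_type, hA, Finset.sum_filter]
    refine Finset.sum_congr rfl fun x _ => ?_
    by_cases h1 : IsConj x a
    · rw [if_pos h1, hB, Finset.sum_filter]
      refine Finset.sum_congr rfl fun y _ => ?_
      by_cases h2 : IsConj y b
      · rw [if_pos h2]
        by_cases h3 : x * y = c
        · rw [if_pos h3, if_pos ⟨h1.symm, h2.symm, h3⟩]
        · rw [if_neg h3, if_neg (fun h => h3 h.2.2)]
      · rw [if_neg h2, if_neg (fun h => h2 h.2.1.symm)]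
    · rw [if_neg h1]
      apply Finset.sum_eq_zero
      intro y _
      rw [if_neg (fun h => h1 h.1.symm)]
  have h2 : ∀ x y : G, (if x * y = c then (1 : ℂ) else 0)
      = (Nat.card G : ℂ)⁻¹ * ∑ χ ∈ irrFinset G, χ (x * y * c⁻¹) * χ 1 := by
    intro x y
    rw [sum_irr_mul_deg]
    by_cases h : x * y = c
    · rw [if_pos h, if_pos (by rw [h, mul_inv_cancel]), inv_mul_cancel₀ hG]
    · rw [if_neg h, if_neg (fun h' => h (mul_inv_eq_one.mp h')), mul_zero]
  have hkey : ∀ χ ∈ irrFinset G, ∑ x ∈ A, ∑ y ∈ B, χ (x * y * c⁻¹)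
      = (A.card : ℂ) * (B.card : ℂ) * χ a * χ b * (starRingEnd ℂ) (χ c) / (χ 1 * χ 1) := by
    intro χ hχ
    have hirr := mem_irrFinset.mp hχ
    have hc := IsIrrCharacter.isCharacter hirr
    have hcf := IsCharacter.isClassFunction hc
    have h10 : χ 1 ≠ 0 := IsIrrCharacter.apply_one_ne_zero hirr
    have hin : ∀ x : G, ∑ y ∈ B, χ (x * y * c⁻¹)
        = (B.card : ℂ) * χ b * χ (x * c⁻¹) / χ 1 := by
      intro x
      have e1 : ∀ y : G, χ (x * y * c⁻¹) = χ (y * (c⁻¹ * x)) := by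
        intro y
        have := hcf (x * y * c⁻¹) x⁻¹
        rw [← this]
        congr 1
        group
      simp_rw [e1]
      rw [hB, sum_class_mul hirr b (c⁻¹ * x)]
      have e2 : χ (c⁻¹ * x) = χ (x * c⁻¹) := by
        have := hcf (c⁻¹ * x) x
        rw [← this]
        congr 1
        group
      rw [e2]
    simp_rw [hin]
    rw [← Finset.sum_div, ← Finset.mul_sum, hA, sum_class_mul hirr a c⁻¹,
      IsCharacter.apply_inv hc]
    field_simp
  rw [hL]
  simp_rw [h2]
  have h3 : ∑ x ∈ A, ∑ y ∈ B, (Nat.card G : ℂ)⁻¹ * ∑ χ ∈ irrFinset G, χ (x * y * c⁻¹) * χ 1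
      = (Nat.card G : ℂ)⁻¹ * ∑ χ ∈ irrFinset G, (∑ x ∈ A, ∑ y ∈ B, χ (x * y * c⁻¹)) * χ 1 := by
    simp_rw [← Finset.mul_sum]
    congr 1
    calc ∑ x ∈ A, ∑ y ∈ B, ∑ χ ∈ irrFinset G, χ (x * y * c⁻¹) * χ 1
        = ∑ x ∈ A, ∑ χ ∈ irrFinset G, ∑ y ∈ B, χ (x * y * c⁻¹) * χ 1 :=
          Finset.sum_congr rfl (fun x _ => Finset.sum_comm)
      _ = ∑ χ ∈ irrFinset G, ∑ x ∈ A, ∑ y ∈ B, χ (x * y * c⁻¹) * χ 1 := Finset.sum_comm
      _ = ∑ χ ∈ irrFinset G, (∑ x ∈ A, ∑ y ∈ B, χ (x * y * c⁻¹)) * χ 1 := by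
          refine Finset.sum_congr rfl fun χ _ => ?_
          rw [Finset.sum_mul]
          refine Finset.sum_congr rfl fun x _ => ?_
          rw [Finset.sum_mul]
  rw [h3, hcA, hcB, Finset.mul_sum, Finset.mul_sum]
  refine Finset.sum_congr rfl fun χ hχ => ?_
  rw [hkey χ hχ]
  have h10 : χ 1 ≠ 0 := IsIrrCharacter.apply_one_ne_zero (mem_irrFinset.mp hχ)
  field_simp

end Cfsg.Agent.S0840
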