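import Cfsg.Statements.S0842
import Cfsg.Agent.Lib.Lead_Coprime

set_option autoImplicit false
open Cfsg

namespace Cfsg.Agent.S0842

open Cfsg.Agent.Lib in
theorem core {G : Type*} [Group G] [Finite G] (S : Sylow 2 G) (D : Subgroup G)
    (hDS : D ≤ (S : Subgroup G)) (hSD : (S : Subgroup G) ≤ Subgroup.normalizer (D : Set G))
    (hDc : IsCyclic D)
    (hTc : IsCyclic ↥((S : Subgroup G) ⊓ Subgroup.centralizer (D : Set G)))
    (hidx : ((S : Subgroup G) ⊓ Subgroup.centralizer (D : Set G)).relIndex (S : Subgroup G) = 2)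
    (hTeven : Even (Nat.card ↥((S : Subgroup G) ⊓ Subgroup.centralizer (D : Set G)))) :
    ∃ K : Subgroup G, Odd (Nat.card K) ∧ K ≤ Subgroup.centralizer (D : Set G) ∧
      Subgroup.normalizer (D : Set G) ≤ Subgroup.normalizer (K : Set G) ∧
      K ⊔ (S : Subgroup G) = Subgroup.normalizer (D : Set G) ∧
      K ⊔ ((S : Subgroup G) ⊓ Subgroup.centralizer (D : Set G)) = Subgroup.centralizer (D : Set G) ∧
      ((Subgroup.centralizer (D : Set G)).subgroupOf (Subgroup.normalizer (D : Set G))).index = 2 := by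
  haveI : Fact (Nat.Prime 2) := ⟨Nat.prime_two⟩
  set N := Subgroup.normalizer (D : Set G) with hN
  set C := Subgroup.centralizer (D : Set G) with hC
  set T := (S : Subgroup G) ⊓ C with hT
  have hCN : C ≤ N := Subgroup.centralizer_le_normalizer _
  have hTS : T ≤ (S : Subgroup G) := inf_le_left
  have hTC : T ≤ C := inf_le_right
  -- N normalizes C
  have hNC : N ≤ Subgroup.normalizer (C : Set G) := by
    intro g hg
    have key : ∀ g ∈ N, ∀ y ∈ C, g * y * g⁻¹ ∈ C := by
      intro g hg y hy
      rw [hC, Subgroup.mem_centralizer_iff]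
      intro d hd
      have hd' : g⁻¹ * d * g ∈ D := by
        have := (Subgroup.mem_normalizer_iff.mp (N.inv_mem hg) d).mp hd
        simpa using this
      have h1 := Subgroup.mem_centralizer_iff.mp hy _ hd'
      calc d * (g * y * g⁻¹) = g * ((g⁻¹ * d * g) * y) * g⁻¹ := by group
        _ = g * (y * (g⁻¹ * d * g)) * g⁻¹ := by rw [h1]
        _ = g * y * g⁻¹ * d := by group
    exact Lead_Coprime.mem_normalizer_of_conj_mem (key g hg) (fun y hy => by
      have := key g⁻¹ (N.inv_mem hg) y hy
      simpa using this)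
  -- index of C in N is a power of 2
  obtain ⟨k, hk⟩ := IsPGroup.iff_card.mp (S.isPGroup'.to_le hDS)
  have hrel : C.relIndex N ∣ 2 ^ k := by
    have key := Subgroup.card_dvd_of_injective _
      (QuotientGroup.kerLift_injective D.normalizerMonoidHom)
    rw [Subgroup.normalizerMonoidHom_ker, ← Subgroup.index, ← Subgroup.relIndex] at key
    refine key.trans ?_
    rw [hDc.card_mulAut, hk]
    rcases Nat.eq_zero_or_pos k with h0 | h0
    · rw [h0]; simp
    · rw [Nat.totient_prime_pow Nat.prime_two h0]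
      simp only [Nat.add_one_sub_one, mul_one]
      exact pow_dvd_pow 2 (Nat.sub_le k 1)
  -- C.relIndex (S ⊔ C) = 2
  have hSNC : (S : Subgroup G) ≤ Subgroup.normalizer (C : Set G) := hSD.trans hNC
  have h2 : C.relIndex ((S : Subgroup G) ⊔ C) = 2 := by
    rw [Lead_Coprime.relIndex_sup_of_le_normalizer _ _ hSNC, ← Subgroup.inf_relIndex_right,
      inf_comm]
    exact hidx
  have hSCN : (S : Subgroup G) ⊔ C ≤ N := sup_le hSD hCN
  have h3 : ((S : Subgroup G) ⊔ C).relIndex N = 1 := by
    have ha : ((S : Subgroup G) ⊔ C).relIndex N ∣ 2 ^ k := by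
      refine Dvd.dvd.trans ?_ hrel
      exact Dvd.intro_left _ (Subgroup.relIndex_mul_relIndex C _ N le_sup_right hSCN)
    have hb : ((S : Subgroup G) ⊔ C).relIndex N ∣ (S : Subgroup G).index :=
      (Subgroup.relIndex_dvd_of_le_left N le_sup_left).trans (Subgroup.relIndex_dvd_index_of_le hSD)
    have hodd : Nat.Coprime (2 ^ k) (S : Subgroup G).index :=
      Nat.Coprime.pow_left k ((Nat.Prime.coprime_iff_not_dvd Nat.prime_two).mpr S.not_dvd_index)
    exact Nat.eq_one_of_dvd_coprimes hodd ha hb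
  have hNeq : (S : Subgroup G) ⊔ C = N :=
    le_antisymm hSCN (Subgroup.relIndex_eq_one.mp h3)
  have hidxN : C.relIndex N = 2 := by rw [← hNeq]; exact h2
  -- T has odd index in C
  have hToddidx : ¬ 2 ∣ T.relIndex C := by
    have e1 : C.relIndex N * Nat.card C = Nat.card N := by
      rw [mul_comm, ← Lead_SZ.card_subgroupOf_of_le hCN]
      exact Subgroup.card_mul_index (C.subgroupOf N)
    have e2 : T.relIndex (S : Subgroup G) * Nat.card T = Nat.card (S : Subgroup G) := by
      rw [mul_comm, ← Lead_SZ.card_subgroupOf_of_le hTS]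
      exact Subgroup.card_mul_index (T.subgroupOf (S : Subgroup G))
    have e3 : (S : Subgroup G).relIndex N * Nat.card (S : Subgroup G) = Nat.card N := by
      rw [mul_comm, ← Lead_SZ.card_subgroupOf_of_le hSD]
      exact Subgroup.card_mul_index ((S : Subgroup G).subgroupOf N)
    have e4 : T.relIndex C * Nat.card T = Nat.card C := by
      rw [mul_comm, ← Lead_SZ.card_subgroupOf_of_le hTC]
      exact Subgroup.card_mul_index (T.subgroupOf C)
    rw [hidxN] at e1
    rw [hidx] at e2
    have hTpos : 0 < Nat.card T := Nat.card_pos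
    have e5 : T.relIndex C = (S : Subgroup G).relIndex N := by
      have : 2 * (T.relIndex C * Nat.card T) = 2 * ((S : Subgroup G).relIndex N * Nat.card T) := by
        rw [e4, e1, ← e3, ← e2]; ring
      have := Nat.eq_of_mul_eq_mul_left (by norm_num) this
      exact Nat.eq_of_mul_eq_mul_right hTpos this
    rw [e5]
    intro h
    exact S.not_dvd_index (h.trans (Subgroup.relIndex_dvd_index_of_le hSD))
  -- Sylow 2-subgroup of C
  have hTp : IsPGroup 2 (T.subgroupOf C) :=
    (S.isPGroup'.to_le hTS).comap_of_injective C.subtype (Subgroup.subtype_injective _)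
  let P : Sylow 2 ↥C := hTp.toSylow hToddidx
  have hPcoe : (P : Subgroup ↥C) = T.subgroupOf C := IsPGroup.toSylow_coe _ _
  have hPc : IsCyclic ↥(P : Subgroup ↥C) := by
    rw [hPcoe]
    exact (Subgroup.subgroupOfEquivOfLe hTC).symm.isCyclic.mp hTc
  have hTdvd : Nat.card T ∣ Nat.card C := Subgroup.card_dvd_of_le hTC
  have h2C : 2 ∣ Nat.card C := (even_iff_two_dvd.mp hTeven).trans hTdvd
  have hmin : (Nat.card ↥C).minFac = 2 := (Nat.minFac_eq_two_iff _).mpr h2C
  have hcompl := IsCyclic.isComplement' hmin hPc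
  set K₀ : Subgroup ↥C := (MonoidHom.transferSylow P (hPc.normalizer_le_centralizer hmin)).ker with hK₀
  have hK₀n : K₀.Normal := MonoidHom.normal_ker _
  have hcard := hcompl.card_mul_card
  have hPcard : Nat.card (P : Subgroup ↥C) = Nat.card T := by
    rw [hPcoe]; exact Lead_SZ.card_subgroupOf_of_le hTC
  have hK₀card : Nat.card K₀ = T.relIndex C := by
    have e4 : T.relIndex C * Nat.card T = Nat.card C := by
      rw [mul_comm, ← Lead_SZ.card_subgroupOf_of_le hTC]
      exact Subgroup.card_mul_index (T.subgroupOf C)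
    rw [hPcard, ← e4] at hcard
    exact Nat.eq_of_mul_eq_mul_right Nat.card_pos hcard
  have hK₀odd : Odd (Nat.card K₀) := by
    rw [hK₀card, ← Nat.not_even_iff_odd, even_iff_two_dvd]; exact hToddidx
  -- characterization of K₀
  have hchar : ∀ x : ↥C, x ∈ K₀ ↔ Odd (orderOf x) := by
    intro x
    constructor
    · intro hx
      have h1 : orderOf (⟨x, hx⟩ : K₀) ∣ Nat.card K₀ := orderOf_dvd_natCard _
      rw [Subgroup.orderOf_mk] at h1
      exact hK₀odd.of_dvd_nat h1
    · intro hx
      have hidxK : K₀.index = Nat.card (P : Subgroup ↥C) := hcompl.symm.index_eq_card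
      obtain ⟨j, hj⟩ := IsPGroup.iff_card.mp P.isPGroup'
      have h1 : orderOf (QuotientGroup.mk' K₀ x) ∣ orderOf x := orderOf_map_dvd _ x
      have h2 : orderOf (QuotientGroup.mk' K₀ x) ∣ 2 ^ j := by
        rw [← hj, ← hidxK]; exact orderOf_dvd_natCard _
      have h3 : orderOf (QuotientGroup.mk' K₀ x) = 1 := by
        have hcop : Nat.Coprime (orderOf x) (2 ^ j) :=
          Nat.Coprime.pow_right j (Nat.coprime_two_right.mpr hx)
        exact Nat.eq_one_of_dvd_coprimes hcop h1 h2
      rw [orderOf_eq_one_iff] at h3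
      exact (QuotientGroup.eq_one_iff x).mp h3
  refine ⟨K₀.map C.subtype, ?_, Subgroup.map_subtype_le _, ?_, ?_, ?_, hidxN⟩
  · rw [Subgroup.card_map_of_injective (Subgroup.subtype_injective _)]; exact hK₀odd
  · -- N normalizes K
    intro g hg
    have key : ∀ g ∈ N, ∀ y ∈ K₀.map C.subtype, g * y * g⁻¹ ∈ K₀.map C.subtype := by
      intro g hg y hy
      obtain ⟨y₀, hy₀, rfl⟩ := hy
      have hmem : g * (y₀ : G) * g⁻¹ ∈ C :=
        (Subgroup.mem_normalizer_iff.mp (hNC hg) _).mp y₀.2
      refine ⟨⟨g * (y₀ : G) * g⁻¹, hmem⟩, ?_, rfl⟩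
      rw [SetLike.mem_coe, hchar]
      have h1 := (hchar y₀).mp hy₀
      have h2 : orderOf (⟨g * (y₀ : G) * g⁻¹, hmem⟩ : ↥C) = orderOf y₀ := by
        rw [← Subgroup.orderOf_coe, ← Subgroup.orderOf_coe]
        exact MulEquiv.orderOf_eq (MulAut.conj g) (y₀ : G)
      rw [h2]; exact h1
    exact Lead_Coprime.mem_normalizer_of_conj_mem (key g hg) (fun y hy => by
      have := key g⁻¹ (N.inv_mem hg) y hy
      simpa using this)
  · -- K ⊔ S = N
    have hKT : K₀.map C.subtype ⊔ T = C := by
      have h1 := hcompl.sup_eq_top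
      have h2 := congrArg (Subgroup.map C.subtype) h1
      rw [Subgroup.map_sup, hPcoe, Subgroup.subgroupOf_map_subtype, ← MonoidHom.range_eq_map,
        Subgroup.range_subtype, inf_eq_left.mpr hTC] at h2
      exact h2
    rw [← hNeq]
    apply le_antisymm
    · exact sup_le ((Subgroup.map_subtype_le _).trans le_sup_right) le_sup_left
    · refine sup_le le_sup_right ?_
      exact hKT.ge.trans (sup_le le_sup_left (hTS.trans le_sup_right))
  · have h1 := hcompl.sup_eq_top
    have h2 := congrArg (Subgroup.map C.subtype) h1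
    rw [Subgroup.map_sup, hPcoe, Subgroup.subgroupOf_map_subtype, ← MonoidHom.range_eq_map,
      Subgroup.range_subtype, inf_eq_left.mpr hTC] at h2
    exact h2

namespace Quat

open QuaternionGroup
open scoped commutatorElement

variable {m : ℕ}

theorem inv_a (i : ZMod (2 * m)) : (a i : QuaternionGroup m)⁻¹ = a (-i) := rfl

theorem inv_xa (i : ZMod (2 * m)) : (xa i : QuaternionGroup m)⁻¹ = xa ((m : ZMod (2 * m)) + i) := rfl

theorem two_m : ((m : ZMod (2 * m)) + m) = 0 := by
  have : ((2 * m : ℕ) : ZMod (2 * m)) = 0 := ZMod.natCast_self _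
  push_cast at this
  rw [← this]; ring

theorem a_pow' (j : ZMod (2 * m)) (t : ℕ) : (a j : QuaternionGroup m) ^ t = a ((t : ZMod (2 * m)) * j) := by
  induction t with
  | zero => simp
  | succ t ih => rw [pow_succ, ih, a_mul_a]; congr 1; push_cast; ring

theorem a_two_mul_mem [NeZero m] (k : ZMod (2 * m)) :
    (a (2 * k) : QuaternionGroup m) ∈ Subgroup.zpowers (a 2 : QuaternionGroup m) := by
  refine ⟨(k.val : ℤ), ?_⟩
  simp only [zpow_natCast]
  rw [a_pow', ZMod.natCast_zmod_val, mul_comm]

theorem a_mem [NeZero m] (k : ZMod (2 * m)) :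
    (a k : QuaternionGroup m) ∈ Subgroup.zpowers (a 1 : QuaternionGroup m) := by
  refine ⟨(k.val : ℤ), ?_⟩
  simp only [zpow_natCast]
  rw [a_pow', ZMod.natCast_zmod_val, mul_one]

theorem commutator_eq [NeZero m] :
    commutator (QuaternionGroup m) = Subgroup.zpowers (a 2 : QuaternionGroup m) := by
  have h2m := two_m (m := m)
  apply le_antisymm
  · rw [commutator_def, Subgroup.commutator_le]
    rintro (i | i) _ (j | j) _
    · have : ⁅(a i : QuaternionGroup m), a j⁆ = a (2 * 0) := by
        simp only [commutatorElement_def, inv_a, a_mul_a]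
        congr 1; ring
      rw [this]; exact a_two_mul_mem _
    · have : ⁅(a i : QuaternionGroup m), xa j⁆ = a (2 * i) := by
        simp only [commutatorElement_def, inv_a, inv_xa, a_mul_xa, xa_mul_a, xa_mul_xa]
        congr 1
        linear_combination h2m
      rw [this]; exact a_two_mul_mem _
    · have : ⁅(xa i : QuaternionGroup m), a j⁆ = a (2 * (-j)) := by
        simp only [commutatorElement_def, inv_a, inv_xa, a_mul_xa, xa_mul_a, xa_mul_xa, a_mul_a]
        congr 1
        linear_combination h2m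
      rw [this]; exact a_two_mul_mem _
    · have : ⁅(xa i : QuaternionGroup m), xa j⁆ = a (2 * (j - i)) := by
        simp only [commutatorElement_def, inv_a, inv_xa, a_mul_xa, xa_mul_a, xa_mul_xa, a_mul_a]
        congr 1
        linear_combination h2m
      rw [this]; exact a_two_mul_mem _
  · rw [Subgroup.zpowers_le]
    have : (a 2 : QuaternionGroup m) = ⁅(a 1 : QuaternionGroup m), xa 0⁆ := by
      simp only [commutatorElement_def, inv_a, inv_xa, a_mul_xa, xa_mul_a, xa_mul_xa]
      congr 1
      linear_combination -h2m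
    rw [this]
    exact Subgroup.commutator_mem_commutator (Subgroup.mem_top _) (Subgroup.mem_top _)

theorem comm_a2_iff [NeZero m] (h4 : (4 : ZMod (2 * m)) ≠ 0) (g : QuaternionGroup m) :
    g * a 2 = a 2 * g ↔ g ∈ Subgroup.zpowers (a 1 : QuaternionGroup m) := by
  rcases g with i | i
  · simp only [a_mul_a]
    constructor
    · intro _; exact a_mem i
    · intro _; congr 1; ring
  · simp only [xa_mul_a, a_mul_xa]
    constructor
    · intro h
      exfalso
      have h1 : i + 2 = i - 2 := by injection h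
      apply h4
      linear_combination h1
    · rintro ⟨t, ht⟩
      exfalso
      have : ∀ t : ℤ, ∃ j, (a 1 : QuaternionGroup m) ^ t = a j := by
        intro t
        induction t using Int.induction_on with
        | zero => exact ⟨0, by simp⟩
        | succ t ih =>
          obtain ⟨j, hj⟩ := ih
          exact ⟨j + 1, by rw [zpow_add_one, hj, a_mul_a]⟩
        | pred t ih =>
          obtain ⟨j, hj⟩ := ih
          exact ⟨j + -1, by rw [zpow_sub_one, hj, inv_a, a_mul_a]⟩
      obtain ⟨j, hj⟩ := this t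
      simp only at ht
      rw [hj] at ht
      exact absurd ht (by simp)

end Quat

/-- Suppose a Sylow 2-subgroup S of the finite group G is generalized quaternion of order at least 16, and let D be the commutator subgroup of S, C its centralizer and N its normalizer in G. Then there is a subgroup K of odd order, contained in C and normalized by N, with K ⊔ S = N and K ⊔ (S ⊓ C) = C, and C has index 2 in N. -/
theorem result {G : Type*} [Group G] [Finite G] (S : Sylow 2 G) (n : ℕ) (e : (S : Subgroup G) ≃* QuaternionGroup (2 ^ (n + 2))) (D : Subgroup G) (hD : D = ⁅(S : Subgroup G), (S : Subgroup G)⁆) : ∃ K : Subgroup G, Odd (Nat.card K) ∧ K ≤ Subgroup.centralizer (D : Set G) ∧ Subgroup.normalizer (D : Set G) ≤ Subgroup.normalizer (K : Set G) ∧ K ⊔ (S : Subgroup G) = Subgroup.normalizer (D : Set G) ∧ K ⊔ ((S : Subgroup G) ⊓ Subgroup.centralizer (D : Set G)) = Subgroup.centralizer (D : Set G) ∧ ((Subgroup.centralizer (D : Set G)).subgroupOf (Subgroup.normalizer (D : Set G))).index = 2 := by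
  subst hD
  haveI : NeZero (2 ^ (n + 2)) := ⟨by positivity⟩
  have hm4 : 4 ≤ 2 ^ (n + 2) := by
    calc 4 = 2 ^ 2 := by norm_num
      _ ≤ 2 ^ (n + 2) := Nat.pow_le_pow_right (by norm_num) (by omega)
  have h4 : (4 : ZMod (2 * 2 ^ (n + 2))) ≠ 0 := by
    intro h
    have h1 : (2 * 2 ^ (n + 2)) ∣ 4 :=
      (ZMod.natCast_eq_zero_iff 4 (2 * 2 ^ (n + 2))).mp (by exact_mod_cast h)
    have := Nat.le_of_dvd (by norm_num) h1
    omega
  obtain ⟨d₀, hd₀⟩ : ∃ d₀ : ↥(S : Subgroup G), e d₀ = QuaternionGroup.a 2 := e.surjective _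
  obtain ⟨u₀, hu₀⟩ : ∃ u₀ : ↥(S : Subgroup G), e u₀ = QuaternionGroup.a 1 := e.surjective _
  have hc1 : commutator ↥(S : Subgroup G) = Subgroup.zpowers d₀ := by
    have h1 : (commutator ↥(S : Subgroup G)).map e.toMonoidHom =
        commutator (QuaternionGroup (2 ^ (n + 2))) := by
      rw [commutator_def, Subgroup.map_commutator, commutator_def,
        Subgroup.map_top_of_surjective _ e.surjective]
    have h2 : (Subgroup.zpowers d₀).map e.toMonoidHom = Subgroup.zpowers (QuaternionGroup.a 2) := by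
      rw [MonoidHom.map_zpowers]
      congr 1
    apply Subgroup.map_injective (f := e.toMonoidHom) e.injective
    rw [h1, h2, Quat.commutator_eq]
  have hD : ⁅(S : Subgroup G), (S : Subgroup G)⁆ = Subgroup.zpowers (d₀ : G) := by
    rw [← Subgroup.map_subtype_commutator, hc1, MonoidHom.map_zpowers]
    rfl
  have hT : (S : Subgroup G) ⊓ Subgroup.centralizer ((⁅(S : Subgroup G), (S : Subgroup G)⁆ : Subgroup G) : Set G)
      = Subgroup.zpowers (u₀ : G) := by
    ext x
    rw [Subgroup.mem_inf, hD]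
    constructor
    · rintro ⟨hxS, hxC⟩
      have hcomm : (d₀ : G) * x = x * d₀ :=
        Subgroup.mem_centralizer_iff.mp hxC _ (Subgroup.mem_zpowers _)
      have h1 : (⟨x, hxS⟩ : ↥(S : Subgroup G)) * d₀ = d₀ * ⟨x, hxS⟩ := Subtype.ext hcomm.symm
      have h2 := congrArg e h1
      rw [map_mul, map_mul, hd₀] at h2
      obtain ⟨t, ht⟩ := (Quat.comm_a2_iff h4 (e ⟨x, hxS⟩)).mp h2
      refine ⟨t, ?_⟩
      have h3 : u₀ ^ t = ⟨x, hxS⟩ := by
        apply e.injective
        rw [map_zpow, hu₀]; exact ht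
      have h4' := congrArg (Subtype.val) h3
      simpa using h4'
    · rintro ⟨t, rfl⟩
      have hmem : (u₀ : G) ^ t ∈ (S : Subgroup G) := Subgroup.zpow_mem _ u₀.2 t
      refine ⟨hmem, ?_⟩
      have h1 : (QuaternionGroup.a 1 : QuaternionGroup (2 ^ (n + 2))) ^ t * QuaternionGroup.a 2 =
          QuaternionGroup.a 2 * QuaternionGroup.a 1 ^ t :=
        (Quat.comm_a2_iff h4 _).mpr ⟨t, rfl⟩
      have h2 : u₀ ^ t * d₀ = d₀ * u₀ ^ t := by
        apply e.injective
        rw [map_mul, map_mul, map_zpow, hu₀, hd₀]; exact h1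
      have h3 : (u₀ : G) ^ t * (d₀ : G) = (d₀ : G) * (u₀ : G) ^ t := by
        have := congrArg (Subtype.val) h2
        simpa using this
      rw [Subgroup.mem_centralizer_iff]
      rintro _ ⟨s, rfl⟩
      have hc : Commute ((u₀ : G) ^ t) (d₀ : G) := h3
      exact ((hc.zpow_right s).eq).symm
  have hDS : ⁅(S : Subgroup G), (S : Subgroup G)⁆ ≤ (S : Subgroup G) := by
    rw [hD, Subgroup.zpowers_le]; exact d₀.2
  have hSD : (S : Subgroup G) ≤ Subgroup.normalizer ((⁅(S : Subgroup G), (S : Subgroup G)⁆ : Subgroup G) : Set G) :=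
    Cfsg.Agent.Lib.Lead_Coprime.le_normalizer_commutator _ _ _ Subgroup.le_normalizer Subgroup.le_normalizer
  have hDc : IsCyclic ↥(⁅(S : Subgroup G), (S : Subgroup G)⁆ : Subgroup G) := by
    rw [hD]; infer_instance
  have hTc : IsCyclic ↥((S : Subgroup G) ⊓ Subgroup.centralizer ((⁅(S : Subgroup G), (S : Subgroup G)⁆ : Subgroup G) : Set G)) := by
    rw [hT]; infer_instance
  have hTcard : Nat.card ↥((S : Subgroup G) ⊓ Subgroup.centralizer ((⁅(S : Subgroup G), (S : Subgroup G)⁆ : Subgroup G) : Set G))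
      = 2 * 2 ^ (n + 2) := by
    rw [hT, Nat.card_zpowers, Subgroup.orderOf_coe, ← e.orderOf_eq, hu₀, QuaternionGroup.orderOf_a_one]
  have hScard : Nat.card ↥(S : Subgroup G) = 4 * 2 ^ (n + 2) := by
    rw [Nat.card_congr e.toEquiv, Nat.card_eq_fintype_card, QuaternionGroup.card]
  have hidx : ((S : Subgroup G) ⊓ Subgroup.centralizer ((⁅(S : Subgroup G), (S : Subgroup G)⁆ : Subgroup G) : Set G)).relIndex (S : Subgroup G) = 2 := by
    have e2 := Subgroup.card_mul_index (((S : Subgroup G) ⊓ Subgroup.centralizer ((⁅(S : Subgroup G), (S : Subgroup G)⁆ : Subgroup G) : Set G)).subgroupOf (S : Subgroup G))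
    rw [Cfsg.Agent.Lib.Lead_SZ.card_subgroupOf_of_le inf_le_left, hTcard, hScard] at e2
    have : (2 * 2 ^ (n + 2)) * 2 = 4 * 2 ^ (n + 2) := by ring
    rw [← this] at e2
    exact Nat.eq_of_mul_eq_mul_left (by positivity) e2
  have hTeven : Even (Nat.card ↥((S : Subgroup G) ⊓ Subgroup.centralizer ((⁅(S : Subgroup G), (S : Subgroup G)⁆ : Subgroup G) : Set G))) := by
    rw [hTcard]; exact even_two_mul _
  exact core S _ hDS hSD hDc hTc hidx hTeven

end Cfsg.Agent.S0842
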