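import Cfsg.Statements.S0843
import Cfsg.Agent.S0842

set_option autoImplicit false
open Cfsg

namespace Cfsg.Agent.S0843

theorem pow_card_sub {X : Type*} [Group X] [Finite X] (A : Subgroup X) (x : X) (hx : x ∈ A) :
    x ^ Nat.card A = 1 := by
  have h := pow_card_eq_one' (G := A) (x := ⟨x, hx⟩)
  have h3 : (((⟨x, hx⟩ : A) ^ Nat.card A : A) : X) = ((1 : A) : X) := congrArg Subtype.val h
  rw [Subgroup.coe_pow] at h3
  exact h3

theorem cyc_le {X : Type*} [Group X] [Finite X] [IsCyclic X] (A B : Subgroup X)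
    (h : Nat.card A ∣ Nat.card B) : A ≤ B := by
  classical
  haveI := Fintype.ofFinite X
  have hB : ∀ x : X, x ^ Nat.card B = 1 → x ∈ B := by
    have h1 : (Finset.univ.filter (fun a : X => a ^ Nat.card B = 1)).card ≤ Nat.card B :=
      IsCyclic.card_pow_eq_one_le (Nat.card_pos)
    have h2 : (B : Set X).toFinset ⊆ Finset.univ.filter (fun a : X => a ^ Nat.card B = 1) := by
      intro x hx
      rw [Set.mem_toFinset, SetLike.mem_coe] at hx
      rw [Finset.mem_filter]
      exact ⟨Finset.mem_univ _, pow_card_sub B x hx⟩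
    have h3 : (B : Set X).toFinset.card = Nat.card B := by
      rw [Set.toFinset_card, Nat.card_eq_fintype_card]; rfl
    have h4 : (B : Set X).toFinset = Finset.univ.filter (fun a : X => a ^ Nat.card B = 1) :=
      Finset.eq_of_subset_of_card_le h2 (by rw [h3]; exact h1)
    intro x hx
    have : x ∈ (B : Set X).toFinset := by
      rw [h4, Finset.mem_filter]; exact ⟨Finset.mem_univ _, hx⟩
    rwa [Set.mem_toFinset, SetLike.mem_coe] at this
  intro x hx
  apply hB
  obtain ⟨k, hk⟩ := h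
  rw [hk, pow_mul, pow_card_sub A x hx, one_pow]

/-- Suppose a Sylow 2-subgroup S of the finite group G is generalized quaternion of order at least 16; let D be the commutator subgroup of S and X the set of elements of the centralizer of D whose order is divisible by the order of D. Then D is contained in the cyclic subgroup generated by any element of X; an element of G conjugating some element of X into the centralizer of D normalizes D; and the normalizer of D maps X to itself under conjugation. -/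
theorem result {G : Type*} [Group G] [Finite G] (S : Sylow 2 G) (n : ℕ) (e : (S : Subgroup G) ≃* QuaternionGroup (2 ^ (n + 2))) (D : Subgroup G) (hD : D = ⁅(S : Subgroup G), (S : Subgroup G)⁆) : (∀ y : G, y ∈ Subgroup.centralizer (D : Set G) → Nat.card D ∣ orderOf y → D ≤ Subgroup.zpowers y) ∧ (∀ g y : G, y ∈ Subgroup.centralizer (D : Set G) → Nat.card D ∣ orderOf y → g * y * g⁻¹ ∈ Subgroup.centralizer (D : Set G) → g ∈ Subgroup.normalizer (D : Set G)) ∧ (∀ g y : G, g ∈ Subgroup.normalizer (D : Set G) → y ∈ Subgroup.centralizer (D : Set G) → Nat.card D ∣ orderOf y → g * y * g⁻¹ ∈ Subgroup.centralizer (D : Set G) ∧ Nat.card D ∣ orderOf (g * y * g⁻¹)) := by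
  subst hD
  haveI : Fact (Nat.Prime 2) := ⟨Nat.prime_two⟩
  haveI : NeZero (2 ^ (n + 2)) := ⟨by positivity⟩
  have hm4 : 4 ≤ 2 ^ (n + 2) := by
    calc 4 = 2 ^ 2 := by norm_num
      _ ≤ 2 ^ (n + 2) := Nat.pow_le_pow_right (by norm_num) (by omega)
  have h4 : (4 : ZMod (2 * 2 ^ (n + 2))) ≠ 0 := by
    intro h
    have h1 : (2 * 2 ^ (n + 2)) ∣ 4 :=
      (ZMod.natCast_eq_zero_iff 4 (2 * 2 ^ (n + 2))).mp (by exact_mod_cast h)
    have := Nat.le_of_dvd (by norm_num) h1
    omega
  obtain ⟨d₀, hd₀⟩ : ∃ d₀ : ↥(S : Subgroup G), e d₀ = QuaternionGroup.a 2 := e.surjective _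
  obtain ⟨u₀, hu₀⟩ : ∃ u₀ : ↥(S : Subgroup G), e u₀ = QuaternionGroup.a 1 := e.surjective _
  have hc1 : commutator ↥(S : Subgroup G) = Subgroup.zpowers d₀ := by
    have h1 : (commutator ↥(S : Subgroup G)).map e.toMonoidHom =
        commutator (QuaternionGroup (2 ^ (n + 2))) := by
      rw [commutator_def, Subgroup.map_commutator, commutator_def,
        Subgroup.map_top_of_surjective _ e.surjective]
    have h2 : (Subgroup.zpowers d₀).map e.toMonoidHom = Subgroup.zpowers (QuaternionGroup.a 2) := by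
      rw [MonoidHom.map_zpowers]
      congr 1
    apply Subgroup.map_injective (f := e.toMonoidHom) e.injective
    rw [h1, h2, Cfsg.Agent.S0842.Quat.commutator_eq]
  have hD : ⁅(S : Subgroup G), (S : Subgroup G)⁆ = Subgroup.zpowers (d₀ : G) := by
    rw [← Subgroup.map_subtype_commutator, hc1, MonoidHom.map_zpowers]
    rfl
  have hT : (S : Subgroup G) ⊓ Subgroup.centralizer ((⁅(S : Subgroup G), (S : Subgroup G)⁆ : Subgroup G) : Set G)
      = Subgroup.zpowers (u₀ : G) := by
    ext x
    rw [Subgroup.mem_inf, hD]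
    constructor
    · rintro ⟨hxS, hxC⟩
      have hcomm : (d₀ : G) * x = x * d₀ :=
        Subgroup.mem_centralizer_iff.mp hxC _ (Subgroup.mem_zpowers _)
      have h1 : (⟨x, hxS⟩ : ↥(S : Subgroup G)) * d₀ = d₀ * ⟨x, hxS⟩ := Subtype.ext hcomm.symm
      have h2 := congrArg e h1
      rw [map_mul, map_mul, hd₀] at h2
      obtain ⟨t, ht⟩ := (Cfsg.Agent.S0842.Quat.comm_a2_iff h4 (e ⟨x, hxS⟩)).mp h2
      refine ⟨t, ?_⟩
      have h3 : u₀ ^ t = ⟨x, hxS⟩ := by
        apply e.injective
        rw [map_zpow, hu₀]; exact ht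
      have h4' := congrArg (Subtype.val) h3
      simpa using h4'
    · rintro ⟨t, rfl⟩
      have hmem : (u₀ : G) ^ t ∈ (S : Subgroup G) := Subgroup.zpow_mem _ u₀.2 t
      refine ⟨hmem, ?_⟩
      have h1 : (QuaternionGroup.a 1 : QuaternionGroup (2 ^ (n + 2))) ^ t * QuaternionGroup.a 2 =
          QuaternionGroup.a 2 * QuaternionGroup.a 1 ^ t :=
        (Cfsg.Agent.S0842.Quat.comm_a2_iff h4 _).mpr ⟨t, rfl⟩
      have h2 : u₀ ^ t * d₀ = d₀ * u₀ ^ t := by
        apply e.injective
        rw [map_mul, map_mul, map_zpow, hu₀, hd₀]; exact h1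
      have h3 : (u₀ : G) ^ t * (d₀ : G) = (d₀ : G) * (u₀ : G) ^ t := by
        have := congrArg (Subtype.val) h2
        simpa using this
      rw [Subgroup.mem_centralizer_iff]
      rintro _ ⟨s, rfl⟩
      have hc : Commute ((u₀ : G) ^ t) (d₀ : G) := h3
      exact ((hc.zpow_right s).eq).symm
  obtain ⟨K, hKodd, hKC, hNK, hKS, hKT, hidx⟩ := Cfsg.Agent.S0842.result S n e _ rfl
  set D := ⁅(S : Subgroup G), (S : Subgroup G)⁆ with hDdef
  set C := Subgroup.centralizer (D : Set G) with hC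
  set T := (S : Subgroup G) ⊓ C with hTdef
  have hDS : D ≤ (S : Subgroup G) := by
    rw [hD, Subgroup.zpowers_le]; exact d₀.2
  have hDC : D ≤ C := by
    rw [hD]
    intro x hx
    rw [hC, hD, Subgroup.mem_centralizer_iff]
    rintro _ ⟨s, rfl⟩
    obtain ⟨t, rfl⟩ := hx
    exact ((Commute.refl (d₀ : G)).zpow_zpow s t).eq
  have hDT : D ≤ T := le_inf hDS hDC
  have hT2 : IsPGroup 2 T := S.2.to_le inf_le_left
  have hD2 : IsPGroup 2 D := S.2.to_le hDS
  have hTC : T ≤ C := inf_le_right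
  have hCN : C ≤ Subgroup.normalizer (D : Set G) := Subgroup.centralizer_le_normalizer _
  have hcop : (Nat.card T).Coprime (Nat.card K) := by
    obtain ⟨k, hk⟩ := hT2.exists_card_eq
    rw [hk]
    apply Nat.Coprime.pow_left
    rw [Nat.coprime_two_left]
    exact hKodd
  have hcardC : Nat.card C = Nat.card K * Nat.card T := by
    rw [← hKT]
    exact Cfsg.Agent.Lib.Lead_Coprime.card_sup_of_normalizer K T
      (hTC.trans (hCN.trans hNK)) hcop
  have hTidx : ¬ 2 ∣ (T.subgroupOf C).index := by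
    have h1 := Subgroup.card_mul_index (T.subgroupOf C)
    rw [Cfsg.Agent.Lib.Lead_SZ.card_subgroupOf_of_le hTC, hcardC, mul_comm] at h1
    have h2 : (T.subgroupOf C).index = Nat.card K :=
      Nat.eq_of_mul_eq_mul_right Nat.card_pos h1
    rw [h2]
    exact fun h => (Nat.not_even_iff_odd.mpr hKodd) (even_iff_two_dvd.mpr h)
  have part1 : ∀ y : G, y ∈ C → Nat.card D ∣ orderOf y → D ≤ Subgroup.zpowers y := by
    intro y hy hdvd
    have hyo_pos : 0 < orderOf y := orderOf_pos y
    obtain ⟨a, r, hr, hyo⟩ := Nat.exists_eq_two_pow_mul_odd hyo_pos.ne'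
    have ho2 : orderOf (y ^ r) = 2 ^ a := by
      rw [orderOf_pow' y (by rintro rfl; simp at hr), hyo]
      have : Nat.gcd (2 ^ a * r) r = r := Nat.gcd_eq_right (Dvd.intro_left _ rfl)
      rw [this]
      exact Nat.mul_div_cancel _ (Nat.pos_of_ne_zero (by rintro rfl; simp at hr))
    have hy2C : y ^ r ∈ C := Subgroup.pow_mem _ hy r
    have hTc2 : IsPGroup 2 (T.subgroupOf C) := hT2.comap_subtype
    let Tc : Sylow 2 C := hTc2.toSylow hTidx
    have hY2 : IsPGroup 2 (Subgroup.zpowers (⟨y ^ r, hy2C⟩ : C)) := by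
      apply IsPGroup.of_card (n := a)
      rw [Nat.card_zpowers, Subgroup.orderOf_mk, ho2]
    obtain ⟨Q, hQ⟩ := hY2.exists_le_sylow
    obtain ⟨c, hc⟩ := MulAction.exists_smul_eq C Tc Q
    have hmem : (⟨y ^ r, hy2C⟩ : C) ∈ (c • Tc : Sylow 2 C) := by
      rw [hc]; exact hQ (Subgroup.mem_zpowers _)
    have hmem' : (⟨y ^ r, hy2C⟩ : C) ∈ ((c • Tc : Sylow 2 C) : Subgroup C) := hmem
    rw [Sylow.coe_subgroup_smul, Subgroup.mem_smul_pointwise_iff_exists] at hmem'
    replace hmem := hmem'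
    obtain ⟨t, htT, hteq⟩ := hmem
    rw [MulAut.smul_def, MulAut.conj_apply] at hteq
    have htT' : (t : G) ∈ T := by
      have : t ∈ T.subgroupOf C := htT
      exact Subgroup.mem_subgroupOf.mp this
    have hteq' : (c : G) * (t : G) * (c : G)⁻¹ = y ^ r := by
      have := congrArg Subtype.val hteq
      simpa using this
    -- the cyclic group X
    set u : G := (c : G) * (u₀ : G) * (c : G)⁻¹ with hu
    have hconj_zpow : ∀ k : ℤ, (c : G) * (u₀ : G) ^ k * (c : G)⁻¹ = u ^ k := by
      intro k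
      rw [hu, conj_zpow]
    have hDX : D ≤ Subgroup.zpowers u := by
      intro d hd
      have hdT : d ∈ T := hDT hd
      rw [hT] at hdT
      obtain ⟨k, hk⟩ := hdT
      simp only at hk
      have hcd : (c : G) * d * (c : G)⁻¹ = d := by
        have h1 := Subgroup.mem_centralizer_iff.mp c.2 d hd
        rw [← h1, mul_inv_cancel_right]
      refine ⟨k, ?_⟩
      simp only
      rw [← hconj_zpow, hk, hcd]
    have hyX : y ^ r ∈ Subgroup.zpowers u := by
      rw [hT] at htT'
      obtain ⟨k, hk⟩ := htT'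
      simp only at hk
      refine ⟨k, ?_⟩
      simp only
      rw [← hconj_zpow, hk, hteq']
    have hYX : Subgroup.zpowers (y ^ r) ≤ Subgroup.zpowers u := by
      rw [Subgroup.zpowers_le]; exact hyX
    have hcard : Nat.card D ∣ Nat.card (Subgroup.zpowers (y ^ r)) := by
      rw [Nat.card_zpowers, ho2]
      obtain ⟨b, hb⟩ := hD2.exists_card_eq
      rw [hb] at hdvd ⊢
      rw [hyo] at hdvd
      apply Nat.Coprime.dvd_of_dvd_mul_right _ hdvd
      apply Nat.Coprime.pow_left
      rw [Nat.coprime_two_left]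
      exact hr
    have hle := cyc_le (D.subgroupOf (Subgroup.zpowers u))
      ((Subgroup.zpowers (y ^ r)).subgroupOf (Subgroup.zpowers u))
      (by rw [Cfsg.Agent.Lib.Lead_SZ.card_subgroupOf_of_le hDX,
            Cfsg.Agent.Lib.Lead_SZ.card_subgroupOf_of_le hYX]; exact hcard)
    intro d hd
    have h1 : (⟨d, hDX hd⟩ : Subgroup.zpowers u) ∈ D.subgroupOf (Subgroup.zpowers u) :=
      Subgroup.mem_subgroupOf.mpr hd
    have h2 := Subgroup.mem_subgroupOf.mp (hle h1)
    have h3 : Subgroup.zpowers (y ^ r) ≤ Subgroup.zpowers y := by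
      rw [Subgroup.zpowers_le]; exact Subgroup.pow_mem _ (Subgroup.mem_zpowers y) r
    exact h3 h2
  have hord : ∀ g y : G, orderOf (g * y * g⁻¹) = orderOf y := by
    intro g y
    have := MulEquiv.orderOf_eq (MulAut.conj g) y
    rwa [MulAut.conj_apply] at this
  refine ⟨part1, ?_, ?_⟩
  · intro g y hy hdvd hgy
    have h1 : D ≤ Subgroup.zpowers y := part1 y hy hdvd
    have h2 : D ≤ Subgroup.zpowers (g * y * g⁻¹) := part1 _ hgy (by rw [hord]; exact hdvd)
    set D' := D.map (MulAut.conj g).toMonoidHom with hD'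
    have h3 : D' ≤ Subgroup.zpowers (g * y * g⁻¹) := by
      rintro _ ⟨d, hd, rfl⟩
      obtain ⟨k, hk⟩ := h1 hd
      simp only at hk
      refine ⟨k, ?_⟩
      simp only [MulEquiv.coe_toMonoidHom, MulAut.conj_apply]
      rw [← hk, conj_zpow]
    have hcardD' : Nat.card D' = Nat.card D :=
      Subgroup.card_map_of_injective (MulAut.conj g).injective
    have hle1 := cyc_le (D.subgroupOf (Subgroup.zpowers (g * y * g⁻¹)))
      (D'.subgroupOf (Subgroup.zpowers (g * y * g⁻¹)))
      (by rw [Cfsg.Agent.Lib.Lead_SZ.card_subgroupOf_of_le h2,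
            Cfsg.Agent.Lib.Lead_SZ.card_subgroupOf_of_le h3, hcardD'])
    have hle2 := cyc_le (D'.subgroupOf (Subgroup.zpowers (g * y * g⁻¹)))
      (D.subgroupOf (Subgroup.zpowers (g * y * g⁻¹)))
      (by rw [Cfsg.Agent.Lib.Lead_SZ.card_subgroupOf_of_le h2,
            Cfsg.Agent.Lib.Lead_SZ.card_subgroupOf_of_le h3, hcardD'])
    have hDD' : D ≤ D' := by
      intro d hd
      have : (⟨d, h2 hd⟩ : Subgroup.zpowers (g * y * g⁻¹)) ∈
          D.subgroupOf (Subgroup.zpowers (g * y * g⁻¹)) := Subgroup.mem_subgroupOf.mpr hd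
      exact Subgroup.mem_subgroupOf.mp (hle1 this)
    have hD'D : D' ≤ D := by
      intro d hd
      have : (⟨d, h3 hd⟩ : Subgroup.zpowers (g * y * g⁻¹)) ∈
          D'.subgroupOf (Subgroup.zpowers (g * y * g⁻¹)) := Subgroup.mem_subgroupOf.mpr hd
      exact Subgroup.mem_subgroupOf.mp (hle2 this)
    apply Cfsg.Agent.Lib.Lead_Coprime.mem_normalizer_of_conj_mem
    · intro d hd
      apply hD'D
      exact ⟨d, hd, by simp [MulAut.conj_apply]⟩
    · intro d hd
      obtain ⟨d', hd', hdd'⟩ := hDD' hd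
      simp only [MulEquiv.coe_toMonoidHom, MulAut.conj_apply] at hdd'
      rw [← hdd']
      have : g⁻¹ * (g * d' * g⁻¹) * g = d' := by group
      rw [this]; exact hd'
  · intro g y hg hy hdvd
    refine ⟨?_, by rw [hord]; exact hdvd⟩
    rw [hC, Subgroup.mem_centralizer_iff]
    intro d hd
    have hd' : g⁻¹ * d * g ∈ D := by
      have := (Subgroup.mem_normalizer_iff.mp hg (g⁻¹ * d * g))
      rw [this]
      have e1 : g * (g⁻¹ * d * g) * g⁻¹ = d := by group
      rw [e1]; exact hd
    have h1 := Subgroup.mem_centralizer_iff.mp hy _ hd'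
    calc d * (g * y * g⁻¹) = g * ((g⁻¹ * d * g) * y) * g⁻¹ := by group
      _ = g * (y * (g⁻¹ * d * g)) * g⁻¹ := by rw [h1]
      _ = g * y * g⁻¹ * d := by group

end Cfsg.Agent.S0843
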