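import Cfsg.Statements.S0849
import Cfsg.Agent.Lib.Helper2_ClassFn
import Cfsg.Agent.Lib.Helper2_CharBasic
import Cfsg.Agent.Lib.Helper2_CharOrtho
import Cfsg.Agent.Lib.Helper2_Clifford
import Cfsg.Agent.Lib.Helper2_CharMore
import Cfsg.Agent.Lib.Helper2_CharNorm
import Cfsg.Agent.Lib.Helper2_CharValues
import Cfsg.Agent.Lib.Helper2_CharComplete
import Cfsg.Agent.Lib.Helper2_CharInd
import Cfsg.Agent.Lib.Helper2_CharTable
import Cfsg.Agent.Lib.Helper2_CharFrob
import Cfsg.Agent.Lib.Helper2_CharDeg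
import Cfsg.Agent.Lib.Helper2_CharSum
import Cfsg.Agent.Lib.Helper2_CharExtra
import Cfsg.Agent.Lib.Helper2_CharCentral
import Cfsg.Agent.Lib.Helper2_PermChar
import Cfsg.Agent.Lib.Helper2_FrobSchur
import Cfsg.Agent.Lib.Helper2_CliffordCorr
import Cfsg.Agent.Lib.Helper2_CharKernel
import Cfsg.Agent.Lib.Helper2_CyclicTI
import Cfsg.Agent.Lib.Helper2_CharGalois
import Cfsg.Agent.Lib.Helper2_CharInt
import Cfsg.Agent.Lib.Helper2_CharBurnside
import Cfsg.Agent.Lib.Helper2_CharCenter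
import Cfsg.Agent.Lib.Helper2_Ito

set_option autoImplicit false
open Cfsg

namespace Cfsg.Agent.S0849

open Cfsg.Agent.Lib.Helper2_ClassFn Cfsg.Agent.Lib.Helper2_CharBasic Cfsg.Agent.Lib.Helper2_CharOrtho Cfsg.Agent.Lib.Helper2_Clifford Cfsg.Agent.Lib.Helper2_CharMore Cfsg.Agent.Lib.Helper2_CharNorm Cfsg.Agent.Lib.Helper2_CharValues Cfsg.Agent.Lib.Helper2_CharComplete Cfsg.Agent.Lib.Helper2_CharInd Cfsg.Agent.Lib.Helper2_CharTable Cfsg.Agent.Lib.Helper2_CharFrob Cfsg.Agent.Lib.Helper2_CharDeg Cfsg.Agent.Lib.Helper2_CharSum Cfsg.Agent.Lib.Helper2_CharExtra Cfsg.Agent.Lib.Helper2_CharCentral Cfsg.Agent.Lib.Helper2_PermChar Cfsg.Agent.Lib.Helper2_FrobSchur Cfsg.Agent.Lib.Helper2_CliffordCorr Cfsg.Agent.Lib.Helper2_CharKernel Cfsg.Agent.Lib.Helper2_CyclicTI Cfsg.Agent.Lib.Helper2_CharGalois Cfsg.Agent.Lib.Helper2_CharInt Cfsg.Agent.Lib.Helper2_CharBurnside Cfsg.Agent.Lib.Helper2_CharCenter Cfsg.Agent.Lib.Helper2_Ito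
open scoped Pointwise


/-- Let H be a subgroup of a finite group G and S a subset of H that is mapped to itself under conjugation by H, is disjoint from its conjugate by any element outside H, and is closed under inverses. Let φ be a class function of H vanishing on H away from S, and let u, v be involutions of G. Then the sum of the induced function of φ over all products a * b with a conjugate to u and b conjugate to v equals the index of H times the sum of φ (a * b) over such pairs with a and b in H. -/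
theorem result {G : Type*} [Group G] [Fintype G] (H : Subgroup G) (S : Set G) (hSH : S ⊆ H) (hHS : ∀ h ∈ H, ∀ s ∈ S, h * s * h⁻¹ ∈ S) (hTI : ∀ g : G, g ∉ H → ∀ s ∈ S, g * s * g⁻¹ ∉ S) (hinv : ∀ s ∈ S, s⁻¹ ∈ S) (φ : H → ℂ) (hφ : Cfsg.IsClassFunction H φ) (hφS : ∀ x : H, (x : G) ∉ S → φ x = 0) (u v : G) (hu : orderOf u = 2) (hv : orderOf v = 2) : ∑ᶠ p ∈ {p : G × G | IsConj u p.1 ∧ IsConj v p.2}, Cfsg.indFun H φ (p.1 * p.2) = (H.index : ℂ) * ∑ᶠ p ∈ {p : H × H | IsConj u (p.1 : G) ∧ IsConj v (p.2 : G)}, φ (p.1 * p.2) := by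
  classical
  haveI : Fintype H := Fintype.ofFinite _
  set PG : Finset (G × G) := Finset.univ.filter (fun p : G × G => IsConj u p.1 ∧ IsConj v p.2)
    with hPG
  set PH : Finset (H × H) :=
    Finset.univ.filter (fun p : H × H => IsConj u (p.1 : G) ∧ IsConj v (p.2 : G)) with hPH
  have e1 : ∑ᶠ p ∈ {p : G × G | IsConj u p.1 ∧ IsConj v p.2}, indFun H φ (p.1 * p.2)
      = ∑ p ∈ PG, indFun H φ (p.1 * p.2) := by
    rw [finsum_mem_eq_finite_toFinset_sum _ (Set.toFinite _)]
    apply Finset.sum_congr _ (fun _ _ => rfl)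
    ext p
    simp [hPG]
  have e2 : ∑ᶠ p ∈ {p : H × H | IsConj u (p.1 : G) ∧ IsConj v (p.2 : G)}, φ (p.1 * p.2)
      = ∑ p ∈ PH, φ (p.1 * p.2) := by
    rw [finsum_mem_eq_finite_toFinset_sum _ (Set.toFinite _)]
    apply Finset.sum_congr _ (fun _ _ => rfl)
    ext p
    simp [hPH]
  rw [e1, e2]
  -- involutions
  have hinvol : ∀ w a : G, orderOf w = 2 → IsConj w a → a * a = 1 := by
    intro w a hw hc
    obtain ⟨c, rfl⟩ := isConj_iff.mp hc
    have hw2 : w * w = 1 := by
      have := pow_orderOf_eq_one w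
      rw [hw, pow_two] at this
      exact this
    calc c * w * c⁻¹ * (c * w * c⁻¹) = c * (w * w) * c⁻¹ := by group
      _ = 1 := by rw [hw2]; group
  -- conjugation invariance of the sum
  have hconj : ∀ x : G, ∑ p ∈ PG, extendByZero H φ (x⁻¹ * (p.1 * p.2) * x)
      = ∑ p ∈ PG, extendByZero H φ (p.1 * p.2) := by
    intro x
    refine Finset.sum_bij (fun p _ => (x⁻¹ * p.1 * x, x⁻¹ * p.2 * x)) ?_ ?_ ?_ ?_
    · intro p hp
      simp only [hPG, Finset.mem_filter, Finset.mem_univ, true_and] at hp ⊢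
      refine ⟨hp.1.trans ?_, hp.2.trans ?_⟩
      · exact isConj_iff.mpr ⟨x⁻¹, by group⟩
      · exact isConj_iff.mpr ⟨x⁻¹, by group⟩
    · intro p _ q _ h
      simp only [Prod.mk.injEq] at h
      ext
      · have := h.1
        have h3 : x * (x⁻¹ * p.1 * x) * x⁻¹ = x * (x⁻¹ * q.1 * x) * x⁻¹ := by rw [this]
        simpa [mul_assoc] using h3
      · have := h.2
        have h3 : x * (x⁻¹ * p.2 * x) * x⁻¹ = x * (x⁻¹ * q.2 * x) * x⁻¹ := by rw [this]
        simpa [mul_assoc] using h3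
    · intro q hq
      simp only [hPG, Finset.mem_filter, Finset.mem_univ, true_and] at hq
      refine ⟨(x * q.1 * x⁻¹, x * q.2 * x⁻¹), ?_, ?_⟩
      · simp only [hPG, Finset.mem_filter, Finset.mem_univ, true_and]
        refine ⟨hq.1.trans ?_, hq.2.trans ?_⟩
        · exact isConj_iff.mpr ⟨x, rfl⟩
        · exact isConj_iff.mpr ⟨x, rfl⟩
      · ext <;> simp [mul_assoc]
    · intro p _
      congr 1
      group
  have h1 : ∑ p ∈ PG, indFun H φ (p.1 * p.2)
      = (H.index : ℂ) * ∑ p ∈ PG, extendByZero H φ (p.1 * p.2) := by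
    simp only [indFun_apply]
    rw [← Finset.mul_sum, Finset.sum_comm]
    simp only [hconj, Finset.sum_const, Finset.card_univ, nsmul_eq_mul]
    have hc : (Fintype.card G : ℂ) = (Nat.card H : ℂ) * (H.index : ℂ) := by
      rw [← Nat.card_eq_fintype_card, ← H.card_mul_index]; push_cast; ring
    rw [hc]
    have := card_subgroup_ne_zero H
    field_simp
  rw [h1]
  congr 1
  -- reduce to pairs in H
  have hvan : ∀ p ∈ PG, ¬ (p.1 ∈ H ∧ p.2 ∈ H) → extendByZero H φ (p.1 * p.2) = 0 := by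
    intro p hp hnot
    simp only [hPG, Finset.mem_filter, Finset.mem_univ, true_and] at hp
    by_cases hmem : p.1 * p.2 ∈ H
    · rw [extendByZero_of_mem H φ hmem]
      by_cases hs : p.1 * p.2 ∈ S
      · exfalso
        apply hnot
        have ha2 := hinvol u p.1 hu hp.1
        have hb2 := hinvol v p.2 hv hp.2
        have hainv : p.1⁻¹ = p.1 := inv_eq_of_mul_eq_one_right ha2
        have hbinv : p.2⁻¹ = p.2 := inv_eq_of_mul_eq_one_right hb2
        have haH : p.1 ∈ H := by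
          by_contra haH
          apply hTI p.1 haH (p.1 * p.2) hs
          have : p.1 * (p.1 * p.2) * p.1⁻¹ = (p.1 * p.2)⁻¹ := by
            rw [mul_inv_rev, hainv, hbinv, ← mul_assoc, ha2, one_mul]
          rw [this]
          exact hinv _ hs
        refine ⟨haH, ?_⟩
        have : p.2 = p.1⁻¹ * (p.1 * p.2) := by group
        rw [this]
        exact H.mul_mem (H.inv_mem haH) hmem
      · exact hφS _ hs
    · exact extendByZero_of_not_mem H φ hmem
  rw [← Finset.sum_filter_add_sum_filter_not PG (fun p => p.1 ∈ H ∧ p.2 ∈ H)]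
  have hz : ∑ p ∈ PG.filter (fun p => ¬ (p.1 ∈ H ∧ p.2 ∈ H)), extendByZero H φ (p.1 * p.2) = 0 := by
    apply Finset.sum_eq_zero
    intro p hp
    exact hvan p (Finset.mem_filter.mp hp).1 (Finset.mem_filter.mp hp).2
  rw [hz, add_zero]
  symm
  refine Finset.sum_bij (fun q _ => ((q.1 : G), (q.2 : G))) ?_ ?_ ?_ ?_
  · intro q hq
    simp only [hPH, Finset.mem_filter, Finset.mem_univ, true_and] at hq
    simp only [hPG, Finset.mem_filter, Finset.mem_univ, true_and]
    exact ⟨hq, q.1.2, q.2.2⟩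
  · intro q _ q' _ h
    simp only [Prod.mk.injEq] at h
    ext
    · exact h.1
    · exact h.2
  · intro p hp
    simp only [hPG, Finset.mem_filter, Finset.mem_univ, true_and] at hp
    refine ⟨(⟨p.1, hp.2.1⟩, ⟨p.2, hp.2.2⟩), ?_, rfl⟩
    simp only [hPH, Finset.mem_filter, Finset.mem_univ, true_and]
    exact hp.1
  · intro q _
    have : ((q.1 : G) * (q.2 : G)) = ((q.1 * q.2 : H) : G) := rfl
    simp only
    rw [this, extendByZero_coe]

end Cfsg.Agent.S0849
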