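import Cfsg.Statements.S0850
import Mathlib

set_option autoImplicit false
open Cfsg

namespace Cfsg.Agent.S0850

theorem ext_of_mem {G : Type*} [Group G] (H : Subgroup G) (θ : H → ℂ) {g : G} (hg : g ∈ H) :
    extendByZero H θ g = θ ⟨g, hg⟩ := by
  unfold extendByZero
  exact Subtype.val_injective.extend_apply θ 0 ⟨g, hg⟩

theorem ext_of_not_mem {G : Type*} [Group G] (H : Subgroup G) (θ : H → ℂ) {g : G} (hg : g ∉ H) :
    extendByZero H θ g = 0 := by
  unfold extendByZero
  rw [Function.extend_apply']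
  · rfl
  · rintro ⟨a, rfl⟩
    exact hg a.2

/-- A nontrivial fixed point of an element of prime order `p` normalizing a subgroup of order
divisible by `p`. -/
theorem exists_fixed {G : Type*} [Group G] [Finite G] (K : Subgroup G) (y : G) (p : ℕ)
    [hp : Fact p.Prime] (hyN : y ∈ Subgroup.normalizer (K : Set G)) (hyo : orderOf y = p)
    (hpK : p ∣ Nat.card K) : ∃ z ∈ K, z ≠ 1 ∧ y * z * y⁻¹ = z := by
  classical
  let P := Subgroup.zpowers y
  have hPN : P ≤ Subgroup.normalizer (K : Set G) := (Subgroup.zpowers_le).mpr hyN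
  letI : MulAction P K :=
    { smul := fun h k => ⟨h * k * (h : G)⁻¹, (Subgroup.mem_normalizer_iff.mp (hPN h.2) k).mp k.2⟩
      one_smul := fun k => by
        apply Subtype.ext
        change ((1 : P) : G) * k * ((1 : P) : G)⁻¹ = k
        simp
      mul_smul := fun a b k => by
        apply Subtype.ext
        change ((a * b : P) : G) * k * ((a * b : P) : G)⁻¹ = (a : G) * ((b : G) * k * (b : G)⁻¹) * (a : G)⁻¹
        simp [mul_assoc] }
  have hsmul : ∀ (h : P) (k : K), ((h • k : K) : G) = h * k * (h : G)⁻¹ := fun _ _ => rfl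
  have hP : IsPGroup p P := by
    apply IsPGroup.of_card (n := 1)
    rw [pow_one, Nat.card_zpowers, hyo]
  have hmod := hP.card_modEq_card_fixedPoints K
  have hdvd : p ∣ Nat.card (MulAction.fixedPoints P K) :=
    (Nat.modEq_zero_iff_dvd).mp (hmod.symm.trans ((Nat.modEq_zero_iff_dvd).mpr hpK))
  have hone : (1 : K) ∈ MulAction.fixedPoints P K := by
    intro h
    apply Subtype.ext
    rw [hsmul]
    simp
  have hcard : 1 < Nat.card (MulAction.fixedPoints P K) := by
    have hpos : 0 < Nat.card (MulAction.fixedPoints P K) := by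
      haveI : Nonempty (MulAction.fixedPoints P K) := ⟨⟨1, hone⟩⟩
      exact Nat.card_pos
    exact lt_of_lt_of_le hp.out.one_lt (Nat.le_of_dvd hpos hdvd)
  rw [Finite.one_lt_card_iff_nontrivial] at hcard
  obtain ⟨z, hz⟩ := exists_ne (⟨1, hone⟩ : MulAction.fixedPoints P K)
  refine ⟨(z : K), (z : K).2, ?_, ?_⟩
  · intro h
    apply hz
    apply Subtype.ext
    apply Subtype.ext
    exact h
  · have := z.2 ⟨y, Subgroup.mem_zpowers y⟩
    have h2 := congrArg (Subtype.val) this
    rw [hsmul] at h2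
    exact h2

theorem part1 {G : Type*} [Group G] [Fintype G] (K : Subgroup G)
    (hTI : ∀ g : G, g ∉ Subgroup.normalizer (K : Set G) → ∀ k ∈ K, g * k * g⁻¹ ∈ K → k = 1)
    (hC : ∀ k ∈ K, k ≠ 1 → Subgroup.centralizer ({k} : Set G) ≤ K) :
    ∀ x ∈ Subgroup.normalizer (K : Set G), x ∉ K → ∀ g : G, g * x * g⁻¹ ∉ K := by
  classical
  intro x hxN hxK g hgx
  by_cases hg : g ∈ Subgroup.normalizer (K : Set G)
  · apply hxK
    have := (Subgroup.mem_normalizer_iff.mp (inv_mem hg) (g * x * g⁻¹)).mp hgx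
    simpa [mul_assoc] using this
  · have hx1 : x ≠ 1 := fun h => hxK (h ▸ K.one_mem)
    obtain ⟨p, hp, hpx⟩ := Nat.exists_prime_and_dvd (n := orderOf x) (by
      intro h; exact hx1 (orderOf_eq_one_iff.mp h))
    haveI := Fact.mk hp
    set y := x ^ (orderOf x / p) with hy
    have hyo : orderOf y = p := orderOf_pow_orderOf_div (orderOf_pos x).ne' hpx
    have hyN : y ∈ Subgroup.normalizer (K : Set G) := pow_mem hxN _
    have hconj : g * y * g⁻¹ = (g * x * g⁻¹) ^ (orderOf x / p) := by
      rw [hy, conj_pow]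
    have hgy : g * y * g⁻¹ ∈ K := by rw [hconj]; exact pow_mem hgx _
    have hy1 : y ≠ 1 := by
      intro h
      rw [h, orderOf_one] at hyo
      exact hp.one_lt.ne hyo
    have hyK : y ∉ K := fun h => hy1 (hTI g hg y h hgy)
    have hko : orderOf (g * y * g⁻¹) = p := by
      have := MulEquiv.orderOf_eq (MulAut.conj g) y
      rw [MulAut.conj_apply] at this
      rw [this, hyo]
    have hpK : p ∣ Nat.card K := by
      have h1 : orderOf (⟨g * y * g⁻¹, hgy⟩ : K) ∣ Nat.card K := orderOf_dvd_natCard _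
      rwa [Subgroup.orderOf_mk, hko] at h1
    obtain ⟨z, hzK, hz1, hz⟩ := exists_fixed K y p hyN hyo hpK
    have hk1 : g * y * g⁻¹ ≠ 1 := by
      intro h
      rw [h, orderOf_one] at hko
      exact hp.one_lt.ne hko
    have hzc : g * z * g⁻¹ ∈ Subgroup.centralizer ({g * y * g⁻¹} : Set G) := by
      rw [Subgroup.mem_centralizer_iff]
      intro k hk
      rw [Set.mem_singleton_iff] at hk
      subst hk
      have h3 : y * z = z * y := by
        have := congrArg (· * y) hz
        simpa [mul_assoc] using this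
      calc g * y * g⁻¹ * (g * z * g⁻¹) = g * (y * z) * g⁻¹ := by group
        _ = g * (z * y) * g⁻¹ := by rw [h3]
        _ = g * z * g⁻¹ * (g * y * g⁻¹) := by group
    exact hz1 (hTI g hg z hzK (hC _ hgy hk1 hzc))

theorem result {G : Type*} [Group G] [Fintype G] (K : Subgroup G) (hTI : ∀ g : G, g ∉ Subgroup.normalizer (K : Set G) → ∀ k ∈ K, g * k * g⁻¹ ∈ K → k = 1) (hlt : K < Subgroup.normalizer (K : Set G)) (hC : ∀ k ∈ K, k ≠ 1 → Subgroup.centralizer ({k} : Set G) ≤ K) : (∀ x ∈ Subgroup.normalizer (K : Set G), x ∉ K → ∀ g : G, g * x * g⁻¹ ∉ K) ∧ ∀ (ϑ : Subgroup.normalizer (K : Set G) → ℂ), Cfsg.IsClassFunction (Subgroup.normalizer (K : Set G)) ϑ → (∀ x : Subgroup.normalizer (K : Set G), (x : G) ∉ K → ϑ x = 0) → ϑ 1 = 0 → ∀ x : Subgroup.normalizer (K : Set G), Cfsg.indFun (Subgroup.normalizer (K : Set G)) ϑ x = ϑ x := by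
  classical
  have h1 := part1 K hTI hC
  refine ⟨h1, ?_⟩
  generalize hN : Subgroup.normalizer (K : Set G) = N at *
  intro ϑ hcf hvan hone x
  unfold indFun
  have hNpos : (Nat.card N : ℂ) ≠ 0 := by
    have : 0 < Nat.card N := Nat.card_pos
    exact_mod_cast this.ne'
  by_cases hx : (x : G) ∈ K ∧ (x : G) ≠ 1
  · obtain ⟨hxK, hx1⟩ := hx
    have hterm : ∀ g : G, extendByZero N ϑ (g⁻¹ * x * g) = if g ∈ N then ϑ x else 0 := by
      intro g
      by_cases hg : g ∈ N
      · rw [if_pos hg]
        have hmem : g⁻¹ * x * g ∈ N := N.mul_mem (N.mul_mem (N.inv_mem hg) x.2) hg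
        rw [ext_of_mem N ϑ hmem]
        have := hcf x (⟨g, hg⟩⁻¹ : N)
        rw [← this]
        congr 1
        apply Subtype.ext
        simp
      · rw [if_neg hg]
        by_cases hmem : g⁻¹ * x * g ∈ N
        · rw [ext_of_mem N ϑ hmem]
          apply hvan
          intro hk
          apply hx1
          have hg' : g⁻¹ ∉ N := fun h => hg (by simpa using N.inv_mem h)
          apply hTI g⁻¹ hg' x hxK
          simpa using hk
        · exact ext_of_not_mem N ϑ hmem
    rw [Finset.sum_congr rfl (fun g _ => hterm g)]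
    rw [Finset.sum_ite, Finset.sum_const, Finset.sum_const_zero, add_zero, nsmul_eq_mul]
    have hcard : ((Finset.univ.filter (fun g : G => g ∈ N)).card : ℂ) = (Nat.card N : ℂ) := by
      congr 1
      rw [Nat.card_eq_fintype_card, Fintype.card_subtype]
    rw [hcard, ← mul_assoc, inv_mul_cancel₀ hNpos, one_mul]
  · have hθx : ϑ x = 0 := by
      by_cases hxK : (x : G) ∈ K
      · have : (x : G) = 1 := by
          by_contra h
          exact hx ⟨hxK, h⟩
        have hx' : x = 1 := Subtype.ext this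
        rw [hx', hone]
      · exact hvan x hxK
    rw [hθx]
    have hterm : ∀ g : G, extendByZero N ϑ (g⁻¹ * x * g) = 0 := by
      intro g
      by_cases hmem : g⁻¹ * x * g ∈ N
      · rw [ext_of_mem N ϑ hmem]
        by_cases hxK : (x : G) ∈ K
        · have : (x : G) = 1 := by
            by_contra h
            exact hx ⟨hxK, h⟩
          have : (⟨g⁻¹ * x * g, hmem⟩ : N) = 1 := by
            apply Subtype.ext
            simp [this]
          rw [this, hone]
        · apply hvan
          have := h1 x x.2 hxK g⁻¹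
          simpa using this
      · exact ext_of_not_mem N ϑ hmem
    rw [Finset.sum_congr rfl (fun g _ => hterm g), Finset.sum_const_zero, mul_zero]

end Cfsg.Agent.S0850
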