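import Cfsg.Statements.S4456
import Cfsg.Agent.Lib.Helper2_ClassFn
import Cfsg.Agent.Lib.Helper2_CharBasic
import Cfsg.Agent.Lib.Helper2_CharOrtho
import Cfsg.Agent.Lib.Helper2_Clifford
import Cfsg.Agent.Lib.Helper2_CharMore
import Cfsg.Agent.Lib.Helper2_CharNorm
import Cfsg.Agent.Lib.Helper2_CharValues
import Cfsg.Agent.Lib.Helper2_CharComplete
import Cfsg.Agent.Lib.Helper2_CharInd
import Cfsg.Agent.Lib.Helper2_CharTable
import Cfsg.Agent.Lib.Helper2_CharFrob
import Cfsg.Agent.Lib.Helper2_CharDeg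
import Cfsg.Agent.Lib.Helper2_CharSum
import Cfsg.Agent.Lib.Helper2_CharExtra
import Cfsg.Agent.Lib.Helper2_CharCentral
import Cfsg.Agent.Lib.Helper2_PermChar
import Cfsg.Agent.Lib.Helper2_FrobSchur
import Cfsg.Agent.Lib.Helper2_CliffordCorr
import Cfsg.Agent.Lib.Helper2_CharKernel
import Cfsg.Agent.Lib.Helper2_CyclicTI
import Cfsg.Agent.Lib.Helper2_CharGalois
import Cfsg.Agent.Lib.Helper2_CharInt
import Cfsg.Agent.Lib.Helper2_CharBurnside
import Cfsg.Agent.Lib.Helper2_CharCenter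
import Cfsg.Agent.Lib.Helper2_Ito
import Cfsg.Agent.Lib.Helper2_Gallagher
import Cfsg.Agent.Lib.Helper2_Artin
import Cfsg.Agent.Lib.Helper2_MGroup
import Cfsg.Agent.Lib.Helper2_RepEquiv
import Cfsg.Agent.Lib.Helper2_CyclicExt
import Cfsg.Agent.Lib.Helper2_Extraspecial
import Cfsg.Agent.Lib.Helper2_ProjLift
import Cfsg.Agent.Lib.Helper2_CentralExt
import Cfsg.Agent.Lib.Helper2_SylowExt
import Cfsg.Agent.Lib.Helper2_DetChar
import Cfsg.Agent.Lib.Helper2_LinExt
import Cfsg.Agent.Lib.Helper2_DetExt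
import Cfsg.Agent.Lib.Helper2_GallagherExt
import Cfsg.Agent.Lib.Helper2_PermInd
import Cfsg.Agent.Lib.Helper2_QuasiElem
import Cfsg.Agent.Lib.Helper2_BrauerInd
import Cfsg.Agent.Lib.Helper2_BrauerThm
import Cfsg.Agent.Lib.Helper2_NilDecomp
import Cfsg.Agent.Lib.Helper2_DefectZero
import Cfsg.Agent.Lib.Helper2_CharGalois2
import Cfsg.Agent.Lib.Helper2_CosetAvg
import Cfsg.Agent.Lib.Helper2_Thompson
import Cfsg.Agent.S0154
import Cfsg.Agent.Lib.Helper3_PResidual

set_option autoImplicit false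
open Cfsg

namespace Cfsg.Agent.S4456

open Cfsg.Agent.Lib.Helper2_ClassFn Cfsg.Agent.Lib.Helper2_CharBasic Cfsg.Agent.Lib.Helper2_CharOrtho Cfsg.Agent.Lib.Helper2_Clifford Cfsg.Agent.Lib.Helper2_CharMore Cfsg.Agent.Lib.Helper2_CharNorm Cfsg.Agent.Lib.Helper2_CharValues Cfsg.Agent.Lib.Helper2_CharComplete Cfsg.Agent.Lib.Helper2_CharInd Cfsg.Agent.Lib.Helper2_CharTable Cfsg.Agent.Lib.Helper2_CharFrob Cfsg.Agent.Lib.Helper2_CharDeg Cfsg.Agent.Lib.Helper2_CharSum Cfsg.Agent.Lib.Helper2_CharExtra Cfsg.Agent.Lib.Helper2_CharCentral Cfsg.Agent.Lib.Helper2_PermChar Cfsg.Agent.Lib.Helper2_FrobSchur Cfsg.Agent.Lib.Helper2_CliffordCorr Cfsg.Agent.Lib.Helper2_CharKernel Cfsg.Agent.Lib.Helper2_CyclicTI Cfsg.Agent.Lib.Helper2_CharGalois Cfsg.Agent.Lib.Helper2_CharInt Cfsg.Agent.Lib.Helper2_CharBurnside Cfsg.Agent.Lib.Helper2_CharCenter Cfsg.Agent.Lib.Helper2_Ito Cfsg.Agent.Lib.Helper2_Gallagher Cfsg.Agent.Lib.Helper2_Artin Cfsg.Agent.Lib.Helper2_MGroup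 Cfsg.Agent.Lib.Helper2_RepEquiv Cfsg.Agent.Lib.Helper2_CyclicExt Cfsg.Agent.Lib.Helper2_Extraspecial Cfsg.Agent.Lib.Helper2_ProjLift Cfsg.Agent.Lib.Helper2_CentralExt Cfsg.Agent.Lib.Helper2_SylowExt Cfsg.Agent.Lib.Helper2_DetChar Cfsg.Agent.Lib.Helper2_LinExt Cfsg.Agent.Lib.Helper2_DetExt Cfsg.Agent.Lib.Helper2_GallagherExt Cfsg.Agent.Lib.Helper2_PermInd Cfsg.Agent.Lib.Helper2_QuasiElem Cfsg.Agent.Lib.Helper2_BrauerInd Cfsg.Agent.Lib.Helper2_BrauerThm Cfsg.Agent.Lib.Helper2_NilDecomp Cfsg.Agent.Lib.Helper2_DefectZero Cfsg.Agent.Lib.Helper2_CharGalois2 Cfsg.Agent.Lib.Helper2_CosetAvg Cfsg.Agent.Lib.Helper2_Thompson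
open scoped Pointwise
open Cfsg.Agent.Lib.Helper3_PResidual

theorem not_dvd_card_ker_pow {A : Type*} [CommGroup A] [Finite A] (p : ℕ) [hp : Fact p.Prime]
    (m : ℕ) (hm : m.Coprime p) : ¬ p ∣ Nat.card ((powMonoidHom m : A →* A).ker) := by
  intro hdvd
  obtain ⟨x, hx⟩ := exists_prime_orderOf_dvd_card' p hdvd
  have hxm : x ^ m = 1 := by
    apply Subtype.ext
    rw [Subgroup.coe_pow, Subgroup.coe_one]
    have := x.2
    rw [MonoidHom.mem_ker, powMonoidHom_apply] at this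
    exact this
  have : p ∣ m := by
    rw [← hx]
    exact orderOf_dvd_of_pow_eq_one hxm
  have h1 : p ∣ Nat.gcd m p := Nat.dvd_gcd this dvd_rfl
  rw [hm] at h1
  exact hp.out.one_lt.ne' (Nat.dvd_one.mp h1)

theorem mem_ker_pow_iff {A : Type*} [CommGroup A] [Finite A] (p : ℕ) [hp : Fact p.Prime] (x : A) :
    x ∈ (powMonoidHom (Nat.card A / p ^ (Nat.card A).factorization p) : A →* A).ker
      ↔ ¬ p ∣ orderOf x := by
  have hA0 : Nat.card A ≠ 0 := Nat.card_pos.ne'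
  have hmp : (Nat.card A / p ^ (Nat.card A).factorization p).Coprime p :=
    (Nat.coprime_ordCompl hp.out hA0).symm
  have hfac : p ^ (Nat.card A).factorization p * (Nat.card A / p ^ (Nat.card A).factorization p)
      = Nat.card A := Nat.ordProj_mul_ordCompl_eq_self (Nat.card A) p
  rw [MonoidHom.mem_ker, powMonoidHom_apply]
  constructor
  · intro h hdvd
    have h2 : p ∣ (Nat.card A / p ^ (Nat.card A).factorization p) :=
      hdvd.trans (orderOf_dvd_of_pow_eq_one h)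
    have h1 : p ∣ Nat.gcd (Nat.card A / p ^ (Nat.card A).factorization p) p :=
      Nat.dvd_gcd h2 dvd_rfl
    rw [hmp] at h1
    exact hp.out.one_lt.ne' (Nat.dvd_one.mp h1)
  · intro h
    have hcop : (orderOf x).Coprime p :=
      ((Nat.Prime.coprime_iff_not_dvd hp.out).mpr h).symm
    have h1 : orderOf x ∣ p ^ (Nat.card A).factorization p
        * (Nat.card A / p ^ (Nat.card A).factorization p) := by
      rw [hfac]; exact orderOf_dvd_natCard x
    exact orderOf_dvd_iff_pow_eq_one.mp ((Nat.Coprime.pow_right _ hcop).dvd_of_dvd_mul_left h1)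

theorem exists_coprime_part (A : Type*) [CommGroup A] [Finite A] (p : ℕ) [hp : Fact p.Prime] :
    ∃ B' : Subgroup A, (∀ x : A, x ∈ B' ↔ ¬ p ∣ orderOf x) ∧ ¬ p ∣ Nat.card B' := by
  refine ⟨(powMonoidHom (Nat.card A / p ^ (Nat.card A).factorization p) : A →* A).ker,
    fun x => mem_ker_pow_iff p x, not_dvd_card_ker_pow p _ ?_⟩
  exact (Nat.coprime_ordCompl hp.out Nat.card_pos.ne').symm


/-- Let p be a prime and G a finite group such that p divides the degree of every irreducible character of G of degree greater than one. Then G has a normal p-complement: a normal subgroup of order prime to p whose index is a power of p. -/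
theorem result {G : Type*} [Group G] [Finite G] (p : ℕ) (hp : p.Prime) (hdeg : ∀ χ : Cfsg.IrrCharacter G, Cfsg.charDegree (χ : G → ℂ) ≠ 1 → p ∣ Cfsg.charDegree (χ : G → ℂ)) : ∃ N : Subgroup G, N.Normal ∧ (Nat.card N).Coprime p ∧ ∃ k : ℕ, N.index = p ^ k := by
  classical
  haveI : Fact p.Prime := ⟨hp⟩
  haveI := Fintype.ofFinite G
  have hcong := thompson_congruence (G := G) p hp
  haveI hM : (pResidual p G).Normal := pResidual_normal p G
  have hK : IsPGroup p (G ⧸ pResidual p G) :=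
    isPGroup_quotient_of_coprime_mem p _ (fun g hg => mem_pResidual_of_coprime p g hg)
  obtain ⟨a, ha⟩ := IsPGroup.iff_card.mp hK
  refine ⟨pResidual p G, hM, ?_, a, by rw [Subgroup.index, ha]⟩
  let e : (G →* ℂˣ) → IrrCharacter G :=
    fun ω => ⟨fun g => ((ω g : ℂˣ) : ℂ), isIrrCharacter_of_hom ω⟩
  have he_inj : Function.Injective e := by
    intro ω ω' h
    exact coeFnHom_injective G (congrArg Subtype.val h)
  haveI : Finite (G →* ℂˣ) := Finite.of_injective e he_inj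
  obtain ⟨B', hmem, hcardB'⟩ := exists_coprime_part (G →* ℂˣ) p
  have hdeg1 : ∀ ω : G →* ℂˣ, Cfsg.charDegree ((e ω : IrrCharacter G) : G → ℂ) = 1 := by
    intro ω
    apply charDegree_eq
    change ((ω 1 : ℂˣ) : ℂ) = ((1 : ℕ) : ℂ)
    rw [map_one]; simp
  have hdet : ∀ ω : G →* ℂˣ, Cfsg.detOrder ((e ω : IrrCharacter G) : G → ℂ) = orderOf ω := by
    intro ω
    unfold Cfsg.detOrder
    change orderOf (detChar (fun g => ((ω g : ℂˣ) : ℂ))) = _
    rw [detChar_hom, orderOf_coe]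
  have hbij : (∑ᶠ χ ∈ {χ : Cfsg.IrrCharacter G | ¬ p ∣ Cfsg.charDegree (χ : G → ℂ) ∧
      ¬ p ∣ Cfsg.detOrder (χ : G → ℂ)}, (Cfsg.charDegree (χ : G → ℂ) : ℤ) ^ 2)
      = ∑ᶠ ω ∈ (B' : Set (G →* ℂˣ)), (1 : ℤ) := by
    symm
    apply finsum_mem_eq_of_bijOn e
    · refine ⟨?_, ?_, ?_⟩
      · intro ω hω
        refine ⟨?_, ?_⟩
        · rw [hdeg1]
          intro h
          exact hp.one_lt.ne' (Nat.dvd_one.mp h)
        · rw [hdet]
          exact (hmem ω).mp hω
      · exact he_inj.injOn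
      · intro χ hχ
        have h1 : Cfsg.charDegree (χ : G → ℂ) = 1 := by
          by_contra hne
          exact hχ.1 (hdeg χ hne)
        obtain ⟨n, hn0, hn⟩ := IsIrrCharacter.apply_one χ.2
        rw [charDegree_eq hn] at h1
        rw [h1] at hn
        obtain ⟨ω, hω⟩ := Cfsg.Agent.S0154.exists_hom_of_degree_one χ.1 χ.2 (by rw [hn]; simp)
        have hχe : e ω = χ := Subtype.ext hω.symm
        refine ⟨ω, ?_, hχe⟩
        rw [SetLike.mem_coe, hmem, ← hdet, hχe]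
        exact hχ.2
    · intro ω hω
      rw [hdeg1]
      simp
  rw [hbij, finsum_mem_eq_finite_toFinset_sum _ (Set.toFinite _)] at hcong
  simp only [Finset.sum_const, nsmul_eq_mul, mul_one] at hcong
  have hcard : (Set.toFinite (B' : Set (G →* ℂˣ))).toFinset.card = Nat.card B' := by
    rw [← Set.ncard_eq_toFinset_card _ (Set.toFinite _)]
    exact (Nat.card_coe_set_eq _).symm
  rw [hcard, Int.natCast_modEq_iff] at hcong
  rw [Nat.coprime_comm, Nat.Prime.coprime_iff_not_dvd hp]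
  intro h
  apply hcardB'
  exact (Nat.modEq_zero_iff_dvd.mp ((hcong.symm.trans (Nat.modEq_zero_iff_dvd.mpr h))))

end Cfsg.Agent.S4456
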