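import Cfsg.Statements.S0855
import Cfsg.Agent.Lib.Helper2_ClassFn
import Cfsg.Agent.Lib.Helper2_CharBasic
import Cfsg.Agent.Lib.Helper2_CharOrtho
import Cfsg.Agent.Lib.Helper2_Clifford
import Cfsg.Agent.Lib.Helper2_CharMore
import Cfsg.Agent.Lib.Helper2_CharNorm
import Cfsg.Agent.Lib.Helper2_CharValues
import Cfsg.Agent.Lib.Helper2_CharComplete
import Cfsg.Agent.Lib.Helper2_CharInd
import Cfsg.Agent.Lib.Helper2_CharTable
import Cfsg.Agent.Lib.Helper2_CharFrob
import Cfsg.Agent.Lib.Helper2_CharDeg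
import Cfsg.Agent.Lib.Helper2_CharSum
import Cfsg.Agent.Lib.Helper2_CharExtra
import Cfsg.Agent.Lib.Helper2_CharCentral
import Cfsg.Agent.Lib.Helper2_PermChar
import Cfsg.Agent.Lib.Helper2_FrobSchur
import Cfsg.Agent.Lib.Helper2_CliffordCorr
import Cfsg.Agent.Lib.Helper2_CharKernel
import Cfsg.Agent.Lib.Helper2_CyclicTI
import Cfsg.Agent.Lib.Helper2_CharGalois
import Cfsg.Agent.Lib.Helper2_CharInt
import Cfsg.Agent.Lib.Helper2_CharBurnside
import Cfsg.Agent.Lib.Helper2_CharCenter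
import Cfsg.Agent.Lib.Helper2_Ito
import Cfsg.Agent.Lib.Helper2_Gallagher
import Cfsg.Agent.Lib.Helper2_Artin
import Cfsg.Agent.Lib.Helper2_MGroup
import Cfsg.Agent.Lib.Helper2_RepEquiv
import Cfsg.Agent.Lib.Helper2_CyclicExt
import Cfsg.Agent.Lib.Helper2_Extraspecial
import Cfsg.Agent.Lib.Helper2_ProjLift
import Cfsg.Agent.Lib.Helper2_CentralExt
import Cfsg.Agent.Lib.Helper2_SylowExt
import Cfsg.Agent.Lib.Helper2_DetChar
import Cfsg.Agent.Lib.Helper2_LinExt
import Cfsg.Agent.Lib.Helper2_DetExt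
import Cfsg.Agent.Lib.Helper2_GallagherExt
import Cfsg.Agent.Lib.Helper2_PermInd
import Cfsg.Agent.Lib.Helper2_QuasiElem
import Cfsg.Agent.Lib.Helper2_BrauerInd
import Cfsg.Agent.Lib.Helper2_BrauerThm
import Cfsg.Agent.Lib.Helper2_NilDecomp
import Cfsg.Agent.Lib.Helper2_DefectZero
import Cfsg.Agent.Lib.Helper2_CharGalois2
import Cfsg.Agent.Lib.Helper2_CosetAvg
import Cfsg.Agent.Lib.Helper2_Thompson
import Cfsg.Agent.S0154
import Cfsg.Agent.S4456

set_option autoImplicit false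
open Cfsg

namespace Cfsg.Agent.S0855

open Cfsg.Agent.Lib.Helper2_ClassFn Cfsg.Agent.Lib.Helper2_CharBasic Cfsg.Agent.Lib.Helper2_CharOrtho Cfsg.Agent.Lib.Helper2_Clifford Cfsg.Agent.Lib.Helper2_CharMore Cfsg.Agent.Lib.Helper2_CharNorm Cfsg.Agent.Lib.Helper2_CharValues Cfsg.Agent.Lib.Helper2_CharComplete Cfsg.Agent.Lib.Helper2_CharInd Cfsg.Agent.Lib.Helper2_CharTable Cfsg.Agent.Lib.Helper2_CharFrob Cfsg.Agent.Lib.Helper2_CharDeg Cfsg.Agent.Lib.Helper2_CharSum Cfsg.Agent.Lib.Helper2_CharExtra Cfsg.Agent.Lib.Helper2_CharCentral Cfsg.Agent.Lib.Helper2_PermChar Cfsg.Agent.Lib.Helper2_FrobSchur Cfsg.Agent.Lib.Helper2_CliffordCorr Cfsg.Agent.Lib.Helper2_CharKernel Cfsg.Agent.Lib.Helper2_CyclicTI Cfsg.Agent.Lib.Helper2_CharGalois Cfsg.Agent.Lib.Helper2_CharInt Cfsg.Agent.Lib.Helper2_CharBurnside Cfsg.Agent.Lib.Helper2_CharCenter Cfsg.Agent.Lib.Helper2_Ito Cfsg.Agent.Lib.Helper2_Gallagher Cfsg.Agent.Lib.Helper2_Artin Cfsg.Agent.Lib.Helper2_MGroup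 Cfsg.Agent.Lib.Helper2_RepEquiv Cfsg.Agent.Lib.Helper2_CyclicExt Cfsg.Agent.Lib.Helper2_Extraspecial Cfsg.Agent.Lib.Helper2_ProjLift Cfsg.Agent.Lib.Helper2_CentralExt Cfsg.Agent.Lib.Helper2_SylowExt Cfsg.Agent.Lib.Helper2_DetChar Cfsg.Agent.Lib.Helper2_LinExt Cfsg.Agent.Lib.Helper2_DetExt Cfsg.Agent.Lib.Helper2_GallagherExt Cfsg.Agent.Lib.Helper2_PermInd Cfsg.Agent.Lib.Helper2_QuasiElem Cfsg.Agent.Lib.Helper2_BrauerInd Cfsg.Agent.Lib.Helper2_BrauerThm Cfsg.Agent.Lib.Helper2_NilDecomp Cfsg.Agent.Lib.Helper2_DefectZero Cfsg.Agent.Lib.Helper2_CharGalois2 Cfsg.Agent.Lib.Helper2_CosetAvg Cfsg.Agent.Lib.Helper2_Thompson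
open scoped Pointwise
theorem abelian_of_all_linear {H : Type*} [Group H] [Finite H]
    (h : ∀ θ : H → ℂ, IsIrrCharacter H θ → θ 1 = 1) : ∀ a b : H, a * b = b * a := by
  classical
  haveI := Fintype.ofFinite H
  have h1 := sum_irr_mul_deg (G := H) 1
  rw [if_pos rfl] at h1
  have h2 : ∑ χ ∈ irrFinset H, χ 1 * χ 1 = ((irrFinset H).card : ℂ) := by
    rw [Finset.sum_congr rfl (g := fun _ => (1 : ℂ))]
    · simp
    · intro χ hχ
      rw [h χ (mem_irrFinset.mp hχ)]; ring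
  have h3 : (irrFinset H).card = Nat.card H := by
    rw [h2] at h1; exact_mod_cast h1
  have h4 := Cfsg.Agent.S0154.result (G := H)
  have h5 : Nat.card {χ : Cfsg.IrrCharacter H // (χ : H → ℂ) 1 = 1} = Nat.card (IrrCharacter H) := by
    apply Nat.card_congr
    exact Equiv.subtypeUnivEquiv (fun χ => h χ.1 χ.2)
  rw [h5, card_irr, h3] at h4
  have h6 := (commutator H).card_mul_index
  rw [← h4] at h6
  have h7 : Nat.card (commutator H) = 1 := by
    have hpos : 0 < Nat.card H := Nat.card_pos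
    exact Nat.eq_of_mul_eq_mul_right hpos (by rw [h6, one_mul])
  have h8 : commutator H = ⊥ := Subgroup.card_eq_one.mp h7
  intro a b
  have hmem : a * b * a⁻¹ * b⁻¹ ∈ commutator H := by
    rw [commutator_def]
    have := Subgroup.commutator_mem_commutator (Subgroup.mem_top a) (Subgroup.mem_top b)
    rwa [commutatorElement_def] at this
  rw [h8, Subgroup.mem_bot] at hmem
  have : a * b = (a * b * a⁻¹ * b⁻¹) * (b * a) := by group
  rw [this, hmem, one_mul]

theorem constituent_degree_dvd {G : Type*} [Group G] [Fintype G] (N : Subgroup G) [hN : N.Normal]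
    [Fintype N] {χ : G → ℂ} (hχ : IsIrrCharacter G χ) {θ : N → ℂ} (hθ : IsIrrCharacter N θ)
    (hcon : classInner (fun n : N => χ n) θ ≠ 0) (n d : ℕ) (hn : χ 1 = n) (hd : θ 1 = d) :
    d ∣ n := by
  classical
  have h := clifford N hχ hθ hcon
  obtain ⟨e, he⟩ := IsCharacter.classInner_nat
    (IsCharacter.restrict (IsIrrCharacter.isCharacter hχ) N) (IsIrrCharacter.isCharacter hθ)
  have h1 := congrFun h 1
  simp only [Pi.smul_apply, smul_eq_mul, Finset.sum_apply] at h1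
  rw [Subgroup.coe_one, hn, he] at h1
  have h2 : ∑ ψ ∈ Finset.univ.image (conjFn N θ), ψ 1
      = ((Finset.univ.image (conjFn N θ)).card : ℂ) * d := by
    rw [Finset.sum_congr rfl (g := fun _ => (d : ℂ))]
    · simp
    · intro ψ hψ
      obtain ⟨g, -, rfl⟩ := Finset.mem_image.mp hψ
      rw [conjFn_apply]
      have : (⟨g * ((1 : N) : G) * g⁻¹, hN.conj_mem ((1 : N) : G) (1 : N).2 g⟩ : N) = 1 := by
        apply Subtype.ext; simp
      rw [this, hd]
  rw [h2] at h1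
  have h3 : n = e * ((Finset.univ.image (conjFn N θ)).card * d) := by exact_mod_cast h1
  rw [h3, ← mul_assoc]
  exact Dvd.intro_left _ rfl


/-- For a finite group G and a prime p: every irreducible character of G has degree a power of p if and only if G has an abelian normal subgroup whose order is prime to p and whose index is a power of p. -/
theorem result {G : Type*} [Group G] [Finite G] (p : ℕ) (hp : p.Prime) : (∀ χ : Cfsg.IrrCharacter G, ∃ k : ℕ, (χ : G → ℂ) 1 = (p : ℂ) ^ k) ↔ ∃ A : Subgroup G, A.Normal ∧ (∀ a ∈ A, ∀ b ∈ A, a * b = b * a) ∧ Nat.Coprime (Nat.card A) p ∧ ∃ k : ℕ, A.index = p ^ k := by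
  classical
  haveI := Fintype.ofFinite G
  constructor
  · intro hall
    have hdeg : ∀ χ : Cfsg.IrrCharacter G, Cfsg.charDegree (χ : G → ℂ) ≠ 1 →
        p ∣ Cfsg.charDegree (χ : G → ℂ) := by
      intro χ hne
      obtain ⟨k, hk⟩ := hall χ
      have hk' : (χ : G → ℂ) 1 = ((p ^ k : ℕ) : ℂ) := by rw [hk]; push_cast; rfl
      rw [charDegree_eq hk'] at hne ⊢
      have hk0 : k ≠ 0 := by
        rintro rfl
        exact hne (pow_zero p)
      exact dvd_pow_self p hk0
    obtain ⟨N, hN, hcop, k, hk⟩ := Cfsg.Agent.S4456.result p hp hdeg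
    refine ⟨N, hN, ?_, hcop, k, hk⟩
    have hlin : ∀ θ : N → ℂ, IsIrrCharacter N θ → θ 1 = 1 := by
      intro θ hθ
      obtain ⟨d, hd0, hd⟩ := IsIrrCharacter.apply_one hθ
      have hΦ : IsCharacter G (indFun N θ) := IsCharacter.indFun (IsIrrCharacter.isCharacter hθ)
      have hne : indFun N θ ≠ 0 := by
        intro h0
        have := congrFun h0 1
        rw [indFun_one, hd] at this
        simp only [Pi.zero_apply, mul_eq_zero, Nat.cast_eq_zero] at this
        rcases this with h | h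
        · exact Subgroup.index_ne_zero_of_finite h
        · exact hd0.ne' h
      obtain ⟨χ, hχ, c, hc0, hc⟩ := IsCharacter.exists_constituent hΦ hne
      have hcon : classInner (fun n : N => χ n) θ ≠ 0 := by
        rw [frobenius_reciprocity N θ χ (IsCharacter.isClassFunction (IsIrrCharacter.isCharacter hχ))] at hc
        rw [← classInner_conj_symm, hc]
        simp [hc0.ne']
      obtain ⟨j, hj⟩ := hall ⟨χ, hχ⟩
      have hj' : χ 1 = ((p ^ j : ℕ) : ℂ) := by
        change χ 1 = _ at hj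
        rw [hj]; push_cast; rfl
      have hdvd1 := constituent_degree_dvd N hχ hθ hcon (p ^ j) d hj' hd
      have hdvd2 : d ∣ Nat.card N := degree_dvd_card hθ d hd
      have hd1 : d = 1 := by
        have h1 : d ∣ Nat.gcd (Nat.card N) (p ^ j) := Nat.dvd_gcd hdvd2 hdvd1
        have h2 : Nat.gcd (Nat.card N) (p ^ j) = 1 := Nat.Coprime.pow_right j hcop
        rw [h2] at h1
        exact Nat.dvd_one.mp h1
      rw [hd, hd1]; simp
    have hab := abelian_of_all_linear hlin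
    intro a ha b hb
    have := hab ⟨a, ha⟩ ⟨b, hb⟩
    exact congrArg Subtype.val this
  · rintro ⟨A, hA, hab, hcop, k, hk⟩ χ
    obtain ⟨n, hn0, hn⟩ := IsIrrCharacter.apply_one χ.2
    have hdvd := ito χ.2 A hab n hn
    rw [hk] at hdvd
    obtain ⟨j, _, hj⟩ := (Nat.dvd_prime_pow hp).mp hdvd
    refine ⟨j, ?_⟩
    rw [hn, hj]; push_cast; rfl

end Cfsg.Agent.S0855
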