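import Cfsg.Statements.S0856
import Cfsg.Agent.Lib.Helper2_ClassFn
import Cfsg.Agent.Lib.Helper2_CharBasic
import Cfsg.Agent.Lib.Helper2_CharOrtho
import Cfsg.Agent.Lib.Helper2_Clifford
import Cfsg.Agent.Lib.Helper2_CharMore
import Cfsg.Agent.Lib.Helper2_CharNorm
import Cfsg.Agent.Lib.Helper2_CharValues
import Cfsg.Agent.Lib.Helper2_CharComplete
import Cfsg.Agent.Lib.Helper2_CharInd
import Cfsg.Agent.Lib.Helper2_CharTable
import Cfsg.Agent.Lib.Helper2_CharFrob
import Cfsg.Agent.Lib.Helper2_CharDeg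
import Cfsg.Agent.Lib.Helper2_CharSum
import Cfsg.Agent.Lib.Helper2_CharExtra
import Cfsg.Agent.Lib.Helper2_CharCentral
import Cfsg.Agent.Lib.Helper2_PermChar
import Cfsg.Agent.Lib.Helper2_FrobSchur
import Cfsg.Agent.Lib.Helper2_CliffordCorr
import Cfsg.Agent.Lib.Helper2_CharKernel
import Cfsg.Agent.Lib.Helper2_CyclicTI
import Cfsg.Agent.Lib.Helper2_CharGalois
import Cfsg.Agent.Lib.Helper2_CharInt
import Cfsg.Agent.Lib.Helper2_CharBurnside
import Cfsg.Agent.Lib.Helper2_CharCenter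
import Cfsg.Agent.Lib.Helper2_Ito
import Cfsg.Agent.Lib.Helper2_Gallagher

set_option autoImplicit false
open Cfsg

namespace Cfsg.Agent.S0856

open Cfsg.Agent.Lib.Helper2_ClassFn Cfsg.Agent.Lib.Helper2_CharBasic Cfsg.Agent.Lib.Helper2_CharOrtho Cfsg.Agent.Lib.Helper2_Clifford Cfsg.Agent.Lib.Helper2_CharMore Cfsg.Agent.Lib.Helper2_CharNorm Cfsg.Agent.Lib.Helper2_CharValues Cfsg.Agent.Lib.Helper2_CharComplete Cfsg.Agent.Lib.Helper2_CharInd Cfsg.Agent.Lib.Helper2_CharTable Cfsg.Agent.Lib.Helper2_CharFrob Cfsg.Agent.Lib.Helper2_CharDeg Cfsg.Agent.Lib.Helper2_CharSum Cfsg.Agent.Lib.Helper2_CharExtra Cfsg.Agent.Lib.Helper2_CharCentral Cfsg.Agent.Lib.Helper2_PermChar Cfsg.Agent.Lib.Helper2_FrobSchur Cfsg.Agent.Lib.Helper2_CliffordCorr Cfsg.Agent.Lib.Helper2_CharKernel Cfsg.Agent.Lib.Helper2_CyclicTI Cfsg.Agent.Lib.Helper2_CharGalois Cfsg.Agent.Lib.Helper2_CharInt Cfsg.Agent.Lib.Helper2_CharBurnside Cfsg.Agent.Lib.Helper2_CharCenter Cfsg.Agent.Lib.Helper2_Ito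 Cfsg.Agent.Lib.Helper2_Gallagher
open scoped Pointwise
/-- slack lemma: a nonnegative "Gram matrix" with diagonal at least one and the minimal possible
weighted sum is the identity matrix -/
theorem eq_delta_of_sum_eq {ι : Type*} [DecidableEq ι] (B : Finset ι) (d : ι → ℝ) (c : ι → ι → ℝ)
    (hdpos : ∀ i ∈ B, 0 < d i) (hc : ∀ i ∈ B, ∀ j ∈ B, 0 ≤ c i j) (hcd : ∀ i ∈ B, 1 ≤ c i i)
    (hkey : ∑ i ∈ B, ∑ j ∈ B, d i * d j * c i j = ∑ i ∈ B, d i * d i) :
    ∀ i ∈ B, ∀ j ∈ B, c i j = if i = j then 1 else 0 := by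
  have hslack : ∑ γ ∈ B, ∑ γ' ∈ B, d γ * d γ' * (c γ γ' - if γ = γ' then 1 else 0) = 0 := by
    have : ∀ γ ∈ B, ∑ γ' ∈ B, d γ * d γ' * (c γ γ' - if γ = γ' then 1 else 0)
        = (∑ γ' ∈ B, d γ * d γ' * c γ γ') - d γ * d γ := by
      intro γ hγ
      simp_rw [mul_sub]
      rw [Finset.sum_sub_distrib]
      congr 1
      simp [Finset.sum_ite_eq, hγ]
    rw [Finset.sum_congr rfl this, Finset.sum_sub_distrib, hkey, sub_self]
  have hterm_nonneg : ∀ γ ∈ B, ∀ γ' ∈ B,
      0 ≤ d γ * d γ' * (c γ γ' - if γ = γ' then 1 else 0) := by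
    intro γ hγ γ' hγ'
    apply mul_nonneg (mul_nonneg (hdpos γ hγ).le (hdpos γ' hγ').le)
    by_cases h : γ = γ'
    · subst h
      rw [if_pos rfl]
      linarith [hcd γ hγ]
    · rw [if_neg h, sub_zero]
      exact hc γ hγ γ' hγ'
  intro γ hγ γ' hγ'
  have h1 := (Finset.sum_eq_zero_iff_of_nonneg
    (fun γ hγ => Finset.sum_nonneg (fun γ' hγ' => hterm_nonneg γ hγ γ' hγ'))).mp hslack γ hγ
  have h2 := (Finset.sum_eq_zero_iff_of_nonneg
    (fun γ' hγ' => hterm_nonneg γ hγ γ' hγ')).mp h1 γ' hγ'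
  rcases mul_eq_zero.mp h2 with h | h
  · rcases mul_eq_zero.mp h with h | h
    · exact absurd h (hdpos γ hγ).ne'
    · exact absurd h (hdpos γ' hγ').ne'
  · linarith

section Aux

variable {G : Type*} [Group G] [Fintype G] (N : Subgroup G) [hN : N.Normal]

omit hN in
/-- inducing a product with a restricted class function -/
theorem indFun_mul_res (φ : N → ℂ) {χ : G → ℂ} (hχ : IsClassFunction G χ) :
    indFun N (φ * fun n : N => χ n) = indFun N φ * χ := by
  ext g
  rw [Pi.mul_apply, indFun_apply, indFun_apply, mul_assoc, Finset.sum_mul]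
  congr 1
  refine Finset.sum_congr rfl fun x _ => ?_
  by_cases hx : x⁻¹ * g * x ∈ N
  · rw [extendByZero_of_mem N _ hx, extendByZero_of_mem N _ hx, Pi.mul_apply]
    simp only
    rw [IsClassFunction.inv_conj hχ]
  · rw [extendByZero_of_not_mem N _ hx, extendByZero_of_not_mem N _ hx, zero_mul]

variable [Fintype N]

/-- For invariant `ϑ`, the induced function restricts to `[G:N] ϑ`. -/
theorem ind_res_of_inv' {ϑ : N → ℂ}
    (hinv : ∀ (g : G) (n : N), ϑ ⟨g * n * g⁻¹, hN.conj_mem (n : G) n.2 g⟩ = ϑ n) :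
    (fun n : N => indFun N ϑ n) = (N.index : ℂ) • ϑ := by
  have hinv' : ∀ g : G, conjFn N ϑ g = ϑ := by
    intro g; ext n; exact hinv g n
  rw [restrict_indFun_normal]
  simp only [hinv', Finset.sum_const, Finset.card_univ]
  have hc : (Fintype.card G : ℂ) = (Nat.card N : ℂ) * (N.index : ℂ) := by
    rw [← Nat.card_eq_fintype_card, ← N.card_mul_index]; push_cast; ring
  ext n
  show (Nat.card N : ℂ)⁻¹ * ((Fintype.card G) • ϑ n) = N.index * ϑ n
  rw [nsmul_eq_mul, hc]
  have := card_subgroup_ne_zero N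
  field_simp

/-- Inner product of the induced function with itself, for invariant `ϑ`. -/
theorem ind_inner_self' {ϑ : N → ℂ} (hϑ : IsIrrCharacter N ϑ)
    (hinv : ∀ (g : G) (n : N), ϑ ⟨g * n * g⁻¹, hN.conj_mem (n : G) n.2 g⟩ = ϑ n) :
    classInner (indFun N ϑ) (indFun N ϑ) = (N.index : ℂ) := by
  rw [frobenius_reciprocity N ϑ _ (indFun_isClassFunction N ϑ), ind_res_of_inv' N hinv,
    classInner_smul_right, classInner_irr_self hϑ]
  simp

end Aux


/-- Let N be a normal subgroup of the finite group G and φ, ϑ irreducible characters of N that are invariant under conjugation by G, such that the pointwise product φ * ϑ is irreducible and ϑ is the restriction of an irreducible character χ of G. Then multiplication by χ is a bijection from the set of irreducible characters of G having nonzero inner product with the function induced from φ onto the set of those having nonzero inner product with the function induced from φ * ϑ. -/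
theorem result {G : Type*} [Group G] [Fintype G] (N : Subgroup G) [hN : N.Normal] (φ ϑ : N → ℂ) (hφ : Cfsg.IsIrrCharacter N φ) (hϑ : Cfsg.IsIrrCharacter N ϑ) (hφinv : ∀ (g : G) (n : N), φ ⟨g * n * g⁻¹, hN.conj_mem (n : G) n.2 g⟩ = φ n) (hϑinv : ∀ (g : G) (n : N), ϑ ⟨g * n * g⁻¹, hN.conj_mem (n : G) n.2 g⟩ = ϑ n) (hprod : Cfsg.IsIrrCharacter N (φ * ϑ)) (χ : G → ℂ) (hχ : Cfsg.IsIrrCharacter G χ) (hext : ∀ n : N, χ n = ϑ n) : Set.BijOn (fun β : G → ℂ => β * χ) {β : G → ℂ | Cfsg.IsIrrCharacter G β ∧ Cfsg.classInner (Cfsg.indFun N φ) β ≠ 0} {ψ : G → ℂ | Cfsg.IsIrrCharacter G ψ ∧ Cfsg.classInner (Cfsg.indFun N (φ * ϑ)) ψ ≠ 0} := by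
  classical
  haveI : Fintype N := Fintype.ofFinite _
  have hχc := IsIrrCharacter.isCharacter hχ
  have hχcf := IsCharacter.isClassFunction hχc
  have hϑres : (fun n : N => χ n) = ϑ := funext hext
  set Φ := indFun N φ with hΦ
  have hΦc : IsCharacter G Φ := IsCharacter.indFun (IsIrrCharacter.isCharacter hφ)
  have hΨ : indFun N (φ * ϑ) = Φ * χ := by
    rw [← hϑres]; exact indFun_mul_res N φ hχcf
  have hprodinv : ∀ (g : G) (n : N),
      (φ * ϑ) ⟨g * n * g⁻¹, hN.conj_mem (n : G) n.2 g⟩ = (φ * ϑ) n := by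
    intro g n
    simp only [Pi.mul_apply, hφinv g n, hϑinv g n]
  set B := irrFinset G with hB
  -- multiplicities
  have he : ∀ β ∈ B, ∃ e : ℕ, classInner Φ β = e := fun β hβ =>
    IsCharacter.classInner_irr_nat hΦc (mem_irrFinset.mp hβ)
  set A := B.filter (fun β => classInner Φ β ≠ 0) with hA
  have hexp : Φ = ∑ β ∈ A, classInner Φ β • β := by
    have h1 := expansion_of_mem_span (IsCharacter.mem_span hΦc)
    rw [hA, Finset.sum_filter]
    conv_lhs => rw [h1]
    refine Finset.sum_congr rfl fun β _ => ?_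
    split_ifs with h
    · rfl
    · push Not at h
      rw [h, zero_smul]
  have hexpΨ : Φ * χ = ∑ β ∈ A, classInner Φ β • (β * χ) := by
    conv_lhs => rw [hexp]
    rw [Finset.sum_mul]
    refine Finset.sum_congr rfl fun β _ => ?_
    rw [smul_mul_assoc]
  have hAsub : ∀ β ∈ A, β ∈ B := fun β hβ => (Finset.mem_filter.mp hβ).1
  have hchar : ∀ β ∈ A, IsCharacter G (β * χ) := fun β hβ =>
    IsCharacter.mul (IsIrrCharacter.isCharacter (mem_irrFinset.mp (hAsub β hβ))) hχc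
  -- real data
  set c : (G → ℂ) → (G → ℂ) → ℝ := fun γ γ' => (classInner (γ * χ) (γ' * χ)).re with hcdef
  set d : (G → ℂ) → ℝ := fun γ => (classInner Φ γ).re with hddef
  have hcnat : ∀ γ ∈ A, ∀ γ' ∈ A, ∃ k : ℕ, classInner (γ * χ) (γ' * χ) = k :=
    fun γ hγ γ' hγ' => IsCharacter.classInner_nat (hchar γ hγ) (hchar γ' hγ')
  have hcv : ∀ γ ∈ A, ∀ γ' ∈ A, classInner (γ * χ) (γ' * χ) = (c γ γ' : ℂ) := by
    intro γ hγ γ' hγ'
    obtain ⟨k, hk⟩ := hcnat γ hγ γ' hγ'
    simp only [hcdef, hk, Complex.natCast_re, Complex.ofReal_natCast]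
  have hdv : ∀ γ ∈ A, classInner Φ γ = (d γ : ℂ) := by
    intro γ hγ
    obtain ⟨k, hk⟩ := he γ (hAsub γ hγ)
    simp only [hddef, hk, Complex.natCast_re, Complex.ofReal_natCast]
  have hdpos : ∀ γ ∈ A, 0 < d γ := by
    intro γ hγ
    obtain ⟨k, hk⟩ := he γ (hAsub γ hγ)
    have hne := (Finset.mem_filter.mp hγ).2
    simp only [hddef, hk, Complex.natCast_re]
    have : k ≠ 0 := by
      intro h0; apply hne; rw [hk, h0]; simp
    exact_mod_cast Nat.pos_of_ne_zero this
  have hcnonneg : ∀ γ ∈ A, ∀ γ' ∈ A, 0 ≤ c γ γ' := by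
    intro γ hγ γ' hγ'
    obtain ⟨k, hk⟩ := hcnat γ hγ γ' hγ'
    simp only [hcdef, hk, Complex.natCast_re]
    exact Nat.cast_nonneg k
  have hcdiag : ∀ γ ∈ A, 1 ≤ c γ γ := by
    intro γ hγ
    obtain ⟨k, hk⟩ := hcnat γ hγ γ hγ
    simp only [hcdef, hk, Complex.natCast_re]
    have hk0 : k ≠ 0 := by
      intro h0
      rw [h0, Nat.cast_zero] at hk
      have h1 := classInner_self_eq_zero.mp hk
      have h2 := congrFun h1 1
      simp only [Pi.mul_apply, Pi.zero_apply] at h2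
      rcases mul_eq_zero.mp h2 with h | h
      · exact IsIrrCharacter.apply_one_ne_zero (mem_irrFinset.mp (hAsub γ hγ)) h
      · exact IsIrrCharacter.apply_one_ne_zero hχ h
    exact_mod_cast Nat.one_le_iff_ne_zero.mpr hk0
  have hkey : ∑ γ ∈ A, ∑ γ' ∈ A, d γ * d γ' * c γ γ' = ∑ γ ∈ A, d γ * d γ := by
    have h1 := ind_inner_self' N hprod hprodinv
    rw [hΨ, hexpΨ, classInner_sum_left] at h1
    simp_rw [classInner_sum_right, classInner_smul_left, classInner_smul_right] at h1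
    have h2 : ∑ γ ∈ A, ∑ γ' ∈ A, classInner Φ γ *
        ((starRingEnd ℂ) (classInner Φ γ') * classInner (γ * χ) (γ' * χ))
        = ((∑ γ ∈ A, ∑ γ' ∈ A, d γ * d γ' * c γ γ' : ℝ) : ℂ) := by
      push_cast
      refine Finset.sum_congr rfl fun γ hγ => Finset.sum_congr rfl fun γ' hγ' => ?_
      rw [hcv γ hγ γ' hγ', hdv γ hγ, hdv γ' hγ', Complex.conj_ofReal]
      ring
    rw [h2] at h1
    have h3 := ind_inner_self' N hφ hφinv
    rw [← hΦ] at h3
    conv at h3 => lhs; rw [hexp]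
    rw [classInner_sum_left] at h3
    simp_rw [classInner_sum_right, classInner_smul_left, classInner_smul_right] at h3
    have h4 : ∑ γ ∈ A, ∑ γ' ∈ A, classInner Φ γ *
        ((starRingEnd ℂ) (classInner Φ γ') * classInner γ γ')
        = ((∑ γ ∈ A, d γ * d γ : ℝ) : ℂ) := by
      push_cast
      refine Finset.sum_congr rfl fun γ hγ => ?_
      rw [Finset.sum_eq_single γ]
      · rw [classInner_irr_self (mem_irrFinset.mp (hAsub γ hγ)), hdv γ hγ, Complex.conj_ofReal]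
        ring
      · intro γ' hγ' hne
        rw [classInner_irr_of_ne (mem_irrFinset.mp (hAsub γ hγ))
          (mem_irrFinset.mp (hAsub γ' hγ')) (Ne.symm hne)]
        ring
      · intro h; exact absurd hγ h
    rw [h4] at h3
    rw [← h3] at h1
    exact_mod_cast h1
  have hdelta := eq_delta_of_sum_eq A d c hdpos hcnonneg hcdiag hkey
  have hirr : ∀ β ∈ A, IsIrrCharacter G (β * χ) := by
    intro β hβ
    apply IsCharacter.isIrr_of_norm_one (hchar β hβ)
    rw [hcv β hβ β hβ, hdelta β hβ β hβ, if_pos rfl]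
    simp
  have hΨinner : ∀ ψ : G → ℂ, classInner (indFun N (φ * ϑ)) ψ
      = ∑ β ∈ A, classInner Φ β * classInner (β * χ) ψ := by
    intro ψ
    rw [hΨ, hexpΨ, classInner_sum_left]
    simp_rw [classInner_smul_left]
  have hmemA : ∀ β : G → ℂ, IsIrrCharacter G β → classInner Φ β ≠ 0 → β ∈ A := by
    intro β hβ hne
    exact Finset.mem_filter.mpr ⟨mem_irrFinset.mpr hβ, hne⟩
  refine ⟨?_, ?_, ?_⟩
  · -- maps to
    rintro β ⟨hβ, hne⟩
    have hβA := hmemA β hβ hne
    refine ⟨hirr β hβA, ?_⟩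
    rw [hΨinner, Finset.sum_eq_single β]
    · rw [hcv β hβA β hβA, hdelta β hβA β hβA, if_pos rfl]
      simpa using hne
    · intro β' hβ' hne'
      rw [hcv β' hβ' β hβA, hdelta β' hβ' β hβA, if_neg hne']
      simp
    · intro h; exact absurd hβA h
  · -- injective
    rintro β ⟨hβ, hne⟩ β' ⟨hβ', hne'⟩ heq
    have hβA := hmemA β hβ hne
    have hβ'A := hmemA β' hβ' hne'
    simp only at heq
    have h1 := hcv β hβA β' hβ'A
    rw [← heq, hcv β hβA β hβA, hdelta β hβA β hβA, if_pos rfl, hdelta β hβA β' hβ'A] at h1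
    by_contra hne2
    rw [if_neg hne2] at h1
    norm_num at h1
  · -- surjective
    rintro ψ ⟨hψ, hne⟩
    rw [hΨinner] at hne
    obtain ⟨β, hβA, hne2⟩ := Finset.exists_ne_zero_of_sum_ne_zero hne
    have hβ := mem_irrFinset.mp (hAsub β hβA)
    refine ⟨β, ⟨hβ, (Finset.mem_filter.mp hβA).2⟩, ?_⟩
    simp only
    by_contra hne3
    apply hne2
    rw [classInner_irr_of_ne (hirr β hβA) hψ hne3, mul_zero]

end Cfsg.Agent.S0856
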