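import Cfsg.Statements.S0860
import Cfsg.Agent.Lib.Helper2_ClassFn
import Cfsg.Agent.Lib.Helper2_CharBasic
import Cfsg.Agent.Lib.Helper2_CharOrtho
import Cfsg.Agent.Lib.Helper2_Clifford
import Cfsg.Agent.Lib.Helper2_CharMore
import Cfsg.Agent.Lib.Helper2_CharNorm
import Cfsg.Agent.Lib.Helper2_CharValues
import Cfsg.Agent.Lib.Helper2_CharComplete
import Cfsg.Agent.Lib.Helper2_CharInd
import Cfsg.Agent.Lib.Helper2_CharTable
import Cfsg.Agent.Lib.Helper2_CharFrob
import Cfsg.Agent.Lib.Helper2_CharDeg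
import Cfsg.Agent.Lib.Helper2_CharSum
import Cfsg.Agent.Lib.Helper2_CharExtra
import Cfsg.Agent.Lib.Helper2_CharCentral
import Cfsg.Agent.S0160

set_option autoImplicit false
open Cfsg

namespace Cfsg.Agent.S0860

open Cfsg.Agent.Lib.Helper2_ClassFn Cfsg.Agent.Lib.Helper2_CharBasic Cfsg.Agent.Lib.Helper2_CharOrtho Cfsg.Agent.Lib.Helper2_Clifford Cfsg.Agent.Lib.Helper2_CharMore Cfsg.Agent.Lib.Helper2_CharNorm Cfsg.Agent.Lib.Helper2_CharValues Cfsg.Agent.Lib.Helper2_CharComplete Cfsg.Agent.Lib.Helper2_CharInd Cfsg.Agent.Lib.Helper2_CharTable Cfsg.Agent.Lib.Helper2_CharFrob Cfsg.Agent.Lib.Helper2_CharDeg Cfsg.Agent.Lib.Helper2_CharSum Cfsg.Agent.Lib.Helper2_CharExtra Cfsg.Agent.Lib.Helper2_CharCentral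
open scoped Pointwise


/-- Let a group A act on the set of irreducible characters and on the set of conjugacy classes of a finite group G in such a way that (a • χ) evaluated on the class a • C equals χ evaluated on C, for all a, χ and C. Then every element of A fixes exactly as many irreducible characters as it fixes conjugacy classes. -/
theorem result {G : Type*} [Group G] [Finite G] {A : Type*} [Group A] [MulAction A (Cfsg.IrrCharacter G)] [MulAction A (ConjClasses G)] (hcompat : ∀ (a : A) (χ : Cfsg.IrrCharacter G) (g g' : G), ConjClasses.mk g' = a • ConjClasses.mk g → ((a • χ : Cfsg.IrrCharacter G) : G → ℂ) g' = (χ : G → ℂ) g) (a : A) : Nat.card {χ : Cfsg.IrrCharacter G // a • χ = χ} = Nat.card {C : ConjClasses G // a • C = C} := by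
  classical
  have := Fintype.ofFinite G
  have : Fintype (IrrCharacter G) := Fintype.ofFinite _
  have hG := card_ne_zero_complex (G := G)
  have hrep : ∀ g : G, ∃ r : G, ConjClasses.mk g = a • ConjClasses.mk r := by
    intro g
    obtain ⟨r, hr⟩ := ConjClasses.mk_surjective (a⁻¹ • ConjClasses.mk g)
    exact ⟨r, by rw [hr, smul_inv_smul]⟩
  choose r hr using hrep
  have hval : ∀ (χ : IrrCharacter G) (g : G),
      ((a • χ : IrrCharacter G) : G → ℂ) g = (χ : G → ℂ) (r g) :=
    fun χ g => hcompat a χ (r g) g (hr g)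
  have hL : (Nat.card {χ : IrrCharacter G // a • χ = χ} : ℂ)
      = ∑ χ : IrrCharacter G, classInner ((a • χ : IrrCharacter G) : G → ℂ) (χ : G → ℂ) := by
    rw [Nat.card_eq_fintype_card, Fintype.card_subtype, Finset.card_filter]
    push_cast
    refine Finset.sum_congr rfl fun χ _ => ?_
    rw [classInner_irr (a • χ).2 χ.2]
    exact if_congr Subtype.ext_iff rfl rfl
  have hR : (Nat.card {C : ConjClasses G // a • C = C} : ℂ)
      = ∑ C : ConjClasses G, if a⁻¹ • C = C then (1 : ℂ) else 0 := by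
    rw [Nat.card_eq_fintype_card, Fintype.card_subtype, Finset.card_filter]
    push_cast
    refine Finset.sum_congr rfl fun C _ => ?_
    exact if_congr (inv_smul_eq_iff.trans eq_comm).symm rfl rfl
  have hsumχ : ∀ F : (G → ℂ) → ℂ, ∑ χ : IrrCharacter G, F (χ : G → ℂ) = ∑ ψ ∈ irrFinset G, F ψ := by
    intro F
    rw [← finsum_irr_eq_sum F, finsum_eq_sum_of_fintype]
  have key : ∑ χ : IrrCharacter G, classInner ((a • χ : IrrCharacter G) : G → ℂ) (χ : G → ℂ)
      = ∑ C : ConjClasses G, if a⁻¹ • C = C then (1 : ℂ) else 0 := by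
    simp only [classInner_def, hval]
    rw [← Finset.mul_sum, Finset.sum_comm]
    have h1 : ∀ g : G, ∑ χ : IrrCharacter G, (χ : G → ℂ) (r g) * (starRingEnd ℂ) ((χ : G → ℂ) g)
        = if IsConj (r g) g then (Nat.card G : ℂ) /
          ((Finset.univ.filter (fun x : G => IsConj x g)).card : ℂ) else 0 := by
      intro g
      rw [hsumχ (fun ψ => ψ (r g) * (starRingEnd ℂ) (ψ g)), second_orthogonality]
    simp_rw [h1]
    rw [Finset.mul_sum, ← Cfsg.Agent.S0160.sum_over_classes
      (fun C => if a⁻¹ • C = C then (1 : ℂ) else 0)]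
    refine Finset.sum_congr rfl fun g _ => ?_
    have hiff : IsConj (r g) g ↔ a⁻¹ • ConjClasses.mk g = ConjClasses.mk g := by
      rw [← ConjClasses.mk_eq_mk_iff_isConj, hr g, inv_smul_smul, ← hr g]
    by_cases hc : IsConj (r g) g
    · rw [if_pos hc, if_pos (hiff.mp hc)]
      field_simp
    · rw [if_neg hc, if_neg (fun h => hc (hiff.mpr h))]
      simp
  have : (Nat.card {χ : IrrCharacter G // a • χ = χ} : ℂ)
      = (Nat.card {C : ConjClasses G // a • C = C} : ℂ) := by
    rw [hL, hR, key]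
  exact_mod_cast this

end Cfsg.Agent.S0860
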