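import Cfsg.Statements.S0861
import Cfsg.Agent.Lib.Helper2_ClassFn
import Cfsg.Agent.Lib.Helper2_CharBasic
import Cfsg.Agent.Lib.Helper2_CharOrtho
import Cfsg.Agent.Lib.Helper2_Clifford
import Cfsg.Agent.Lib.Helper2_CharMore
import Cfsg.Agent.Lib.Helper2_CharNorm
import Cfsg.Agent.Lib.Helper2_CharValues
import Cfsg.Agent.Lib.Helper2_CharComplete
import Cfsg.Agent.Lib.Helper2_CharInd
import Cfsg.Agent.Lib.Helper2_CharTable
import Cfsg.Agent.Lib.Helper2_CharFrob
import Cfsg.Agent.Lib.Helper2_CharDeg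
import Cfsg.Agent.Lib.Helper2_CharSum
import Cfsg.Agent.Lib.Helper2_CharExtra
import Cfsg.Agent.Lib.Helper2_CharCentral
import Cfsg.Agent.Lib.Helper2_PermChar
import Cfsg.Agent.Lib.Helper2_FrobSchur
import Cfsg.Agent.Lib.Helper2_CliffordCorr
import Cfsg.Agent.Lib.Helper2_CharKernel
import Cfsg.Agent.Lib.Helper2_CyclicTI
import Cfsg.Agent.Lib.Helper2_CharGalois
import Cfsg.Agent.Lib.Helper2_CharInt
import Cfsg.Agent.Lib.Helper2_CharBurnside
import Cfsg.Agent.Lib.Helper2_CharCenter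
import Cfsg.Agent.Lib.Helper2_Ito
import Cfsg.Agent.S0154

set_option autoImplicit false
open Cfsg

namespace Cfsg.Agent.S0861

open Cfsg.Agent.Lib.Helper2_ClassFn Cfsg.Agent.Lib.Helper2_CharBasic Cfsg.Agent.Lib.Helper2_CharOrtho Cfsg.Agent.Lib.Helper2_Clifford Cfsg.Agent.Lib.Helper2_CharMore Cfsg.Agent.Lib.Helper2_CharNorm Cfsg.Agent.Lib.Helper2_CharValues Cfsg.Agent.Lib.Helper2_CharComplete Cfsg.Agent.Lib.Helper2_CharInd Cfsg.Agent.Lib.Helper2_CharTable Cfsg.Agent.Lib.Helper2_CharFrob Cfsg.Agent.Lib.Helper2_CharDeg Cfsg.Agent.Lib.Helper2_CharSum Cfsg.Agent.Lib.Helper2_CharExtra Cfsg.Agent.Lib.Helper2_CharCentral Cfsg.Agent.Lib.Helper2_PermChar Cfsg.Agent.Lib.Helper2_FrobSchur Cfsg.Agent.Lib.Helper2_CliffordCorr Cfsg.Agent.Lib.Helper2_CharKernel Cfsg.Agent.Lib.Helper2_CyclicTI Cfsg.Agent.Lib.Helper2_CharGalois Cfsg.Agent.Lib.Helper2_CharInt Cfsg.Agent.Lib.Helper2_CharBurnside Cfsg.Agent.Lib.Helper2_CharCenter Cfsg.Agent.Lib.Helper2_Ito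
open scoped Pointwise
open commutatorElement

open Polynomial in
/-- A vanishing sum of `p`-power roots of unity has length divisible by `p`. -/
theorem vanishing_sum_dvd (p j : ℕ) [hp : Fact p.Prime] (ζ : ℂ)
    (hζ : IsPrimitiveRoot ζ (p ^ (j + 1))) (l : List ℕ) (h : powSum l ζ = 0) : p ∣ l.length := by
  have hpos : 0 < p ^ (j + 1) := pow_pos hp.out.pos _
  set Q : Polynomial ℤ := (l.map (fun a => (X : Polynomial ℤ) ^ a)).sum with hQdef
  have hQ : aeval ζ Q = powSum l ζ := by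
    rw [hQdef]
    unfold powSum
    rw [map_list_sum, List.map_map]
    congr 1
    apply List.map_congr_left
    intro a _
    simp
  have hQ1 : Q.eval 1 = (l.length : ℤ) := by
    rw [hQdef]
    clear hQ hQdef h
    induction l with
    | nil => simp
    | cons a l ih =>
      rw [List.map_cons, List.sum_cons, eval_add, ih, List.length_cons]
      simp
      ring
  have hdvd : cyclotomic (p ^ (j + 1)) ℤ ∣ Q := by
    rw [cyclotomic_eq_minpoly hζ hpos]
    exact minpoly.isIntegrallyClosed_dvd (hζ.isIntegral hpos) (by rw [hQ, h])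
  obtain ⟨B, hB⟩ := hdvd
  have h2 := congrArg (eval 1) hB
  rw [eval_mul, eval_one_cyclotomic_prime_pow, hQ1] at h2
  have : (p : ℤ) ∣ (l.length : ℤ) := ⟨B.eval 1, h2⟩
  exact_mod_cast this

/-- A finite group all of whose irreducible characters are linear is abelian. -/
theorem comm_of_all_linear {Q : Type*} [Group Q] [Fintype Q]
    (h : ∀ β : Q → ℂ, IsIrrCharacter Q β → β 1 = 1) (a b : Q) : a * b = b * a := by
  classical
  have h1 := Cfsg.Agent.S0154.result (G := Q)
  have h2 : Nat.card {χ : Cfsg.IrrCharacter Q // (χ : Q → ℂ) 1 = 1} = Nat.card (IrrCharacter Q) := by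
    apply Nat.card_congr
    exact Equiv.subtypeUnivEquiv (fun χ => h χ.1 χ.2)
  have h3 : ((irrFinset Q).card : ℂ) = (Nat.card Q : ℂ) := by
    have h4 := sum_irr_mul_deg (1 : Q)
    rw [if_pos rfl] at h4
    rw [← h4]
    rw [Finset.sum_congr rfl (fun χ hχ => by rw [h χ (mem_irrFinset.mp hχ), mul_one])]
    simp
  have h5 : (irrFinset Q).card = Nat.card Q := by exact_mod_cast h3
  rw [h2, card_irr, h5] at h1
  have h6 : commutator Q = ⊥ := by
    have h7 := Subgroup.card_mul_index (commutator Q)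
    rw [← h1] at h7
    have hpos : 0 < Nat.card Q := Nat.card_pos
    have h8 : Nat.card (commutator Q) = 1 := by
      have : Nat.card (commutator Q) * Nat.card Q = 1 * Nat.card Q := by rw [h7, one_mul]
      exact Nat.eq_of_mul_eq_mul_right hpos this
    exact Subgroup.card_eq_one.mp h8
  have h9 : ⁅a, b⁆ ∈ commutator Q := by
    rw [commutator_def]
    exact Subgroup.commutator_mem_commutator (Subgroup.mem_top a) (Subgroup.mem_top b)
  rw [h6, Subgroup.mem_bot] at h9
  exact commutatorElement_eq_one_iff_mul_comm.mp h9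


/-- Let P be a normal abelian Sylow p-subgroup of the finite group G and suppose some element g of P has centralizer exactly P. Then the number of irreducible characters of G is at most the order of P, and if equality holds then G / P is abelian (the commutator subgroup lies in P). -/
theorem result {G : Type*} [Group G] [Finite G] (p : ℕ) [Fact p.Prime] (P : Sylow p G) [(P : Subgroup G).Normal] (hab : ∀ a ∈ P, ∀ b ∈ P, a * b = b * a) (g : G) (hg : g ∈ P) (hC : Subgroup.centralizer ({g} : Set G) = P) : Nat.card (Cfsg.IrrCharacter G) ≤ Nat.card P ∧ (Nat.card (Cfsg.IrrCharacter G) = Nat.card P → commutator G ≤ P) := by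
  classical
  haveI := Fintype.ofFinite G
  rw [card_irr]
  set N := orderOf g with hNdef
  have hN : 0 < N := orderOf_pos g
  have : NeZero N := ⟨hN.ne'⟩
  set ζ := Complex.exp (2 * Real.pi * Complex.I / N) with hζ
  have hprim : IsPrimitiveRoot ζ N := Complex.isPrimitiveRoot_exp N hN.ne'
  set R := primitiveRoots N ℂ with hR
  have hζR : ζ ∈ R := (mem_primitiveRoots hN).mpr hprim
  have hRpos : (0 : ℝ) < R.card := by
    exact_mod_cast Finset.card_pos.mpr ⟨ζ, hζR⟩
  have hLex : ∀ χ : G → ℂ, ∃ l : List ℕ, IsIrrCharacter G χ →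
      ∀ k : ℕ, χ (g ^ k) = powSum l (ζ ^ k) := by
    intro χ
    by_cases hχ : IsIrrCharacter G χ
    · obtain ⟨l, hl⟩ := char_pow_list (IsIrrCharacter.isCharacter hχ) g N hN (pow_orderOf_eq_one g)
      exact ⟨l, fun _ => hl⟩
    · exact ⟨[], fun h => absurd h hχ⟩
  choose L hL using hLex
  -- the order of `g` is a power of `p`
  obtain ⟨j, hj⟩ : ∃ j, N = p ^ j := by
    obtain ⟨j, hj⟩ := (IsPGroup.iff_orderOf.mp P.isPGroup') ⟨g, hg⟩
    refine ⟨j, ?_⟩
    rw [← hj, hNdef]
    exact (Subgroup.orderOf_mk g hg).symm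
  -- nonvanishing at `g`
  have hnv : ∀ χ : G → ℂ, IsIrrCharacter G χ → χ g ≠ 0 := by
    intro χ hχ h0
    obtain ⟨n, hn0, hn⟩ := IsIrrCharacter.apply_one hχ
    have hdvd : n ∣ (P : Subgroup G).index := ito hχ (P : Subgroup G) hab n hn
    have hnp : ¬ p ∣ n := fun h => (Sylow.not_dvd_index P) (h.trans hdvd)
    have hl0 := hL χ hχ 0
    rw [pow_zero, pow_zero, powSum_one, hn] at hl0
    have hlen : (L χ).length = n := by exact_mod_cast hl0.symm
    have hl1 := hL χ hχ 1
    rw [pow_one, pow_one, h0] at hl1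
    cases j with
    | zero =>
      rw [pow_zero] at hj
      have hg1 : g = 1 := orderOf_eq_one_iff.mp (hNdef ▸ hj)
      rw [hg1] at h0
      exact IsIrrCharacter.apply_one_ne_zero hχ h0
    | succ j =>
      apply hnp
      rw [← hlen]
      exact vanishing_sum_dvd p j ζ (hj ▸ hprim) (L χ) hl1.symm
  -- (a) lower bounds
  have ha : ∀ χ ∈ irrFinset G, (R.card : ℝ) ≤ ∑ μ ∈ R, ‖powSum (L χ) μ‖ ^ 2 := by
    intro χ hχm
    have hχ := mem_irrFinset.mp hχm
    apply sum_primitive_ge N hN (L χ)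
    refine ⟨ζ, hζR, ?_⟩
    have := hL χ hχ 1
    rw [pow_one, pow_one] at this
    rw [← this]
    exact hnv χ hχ
  -- powers of `g` coprime to the order have the same centralizer
  have hcent : ∀ k : ℕ, k.Coprime N →
      Subgroup.centralizer ({g ^ k} : Set G) = Subgroup.centralizer ({g} : Set G) := by
    intro k hk
    obtain ⟨m, hm⟩ := exists_pow_eq_self_of_coprime hk (x := g)
    ext x
    rw [Subgroup.mem_centralizer_singleton_iff, Subgroup.mem_centralizer_singleton_iff]
    constructor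
    · intro h
      have h1 : Commute x (g ^ k) := h
      have h2 := h1.pow_right m
      rw [hm] at h2
      exact h2
    · intro h
      have h1 : Commute x g := h
      exact h1.pow_right k
  -- (b) column sums
  have hb : ∀ μ ∈ R, ∑ χ ∈ irrFinset G, ‖powSum (L χ) μ‖ ^ 2 = (Nat.card P : ℝ) := by
    intro μ hμ
    have hμprim : IsPrimitiveRoot μ N := (mem_primitiveRoots hN).mp hμ
    obtain ⟨k, -, hk⟩ := hprim.eq_pow_of_pow_eq_one hμprim.pow_eq_one
    have hcop : k.Coprime N := by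
      rw [← hk] at hμprim
      exact (hprim.pow_iff_coprime hN k).mp hμprim
    have h1 : ∀ χ ∈ irrFinset G, ‖powSum (L χ) μ‖ ^ 2 = ‖χ (g ^ k)‖ ^ 2 := by
      intro χ hχm
      rw [hL χ (mem_irrFinset.mp hχm) k, hk]
    rw [Finset.sum_congr rfl h1]
    have h2 := second_orthogonality' (g ^ k) (g ^ k)
    rw [if_pos (IsConj.refl _), hcent k hcop, hC] at h2
    have h3 : ∀ χ : G → ℂ, χ (g ^ k) * (starRingEnd ℂ) (χ (g ^ k)) = ((‖χ (g ^ k)‖ ^ 2 : ℝ) : ℂ) := by
      intro χ
      rw [Complex.mul_conj, Complex.normSq_eq_norm_sq]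
    simp_rw [h3] at h2
    rw [← Complex.ofReal_sum] at h2
    have h4 : ((Nat.card (P : Subgroup G) : ℝ) : ℂ) = (Nat.card (P : Subgroup G) : ℂ) := by
      push_cast; rfl
    rw [← h4] at h2
    exact_mod_cast h2
  have hc : ∑ χ ∈ irrFinset G, ∑ μ ∈ R, ‖powSum (L χ) μ‖ ^ 2
      = (R.card : ℝ) * (Nat.card P : ℝ) := by
    rw [Finset.sum_comm, Finset.sum_congr rfl hb, Finset.sum_const, nsmul_eq_mul]
  have hd : ((irrFinset G).card : ℝ) * (R.card : ℝ)
      ≤ ∑ χ ∈ irrFinset G, ∑ μ ∈ R, ‖powSum (L χ) μ‖ ^ 2 := by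
    calc ((irrFinset G).card : ℝ) * (R.card : ℝ) = ∑ χ ∈ irrFinset G, (R.card : ℝ) := by
          rw [Finset.sum_const, nsmul_eq_mul]
      _ ≤ _ := Finset.sum_le_sum ha
  have hle : ((irrFinset G).card : ℝ) ≤ (Nat.card P : ℝ) := by
    rw [hc, mul_comm (R.card : ℝ)] at hd
    exact le_of_mul_le_mul_right hd hRpos
  refine ⟨by exact_mod_cast hle, ?_⟩
  intro heq
  -- every `S_χ` equals `|R|`
  have hsum0 : ∑ χ ∈ irrFinset G, ((∑ μ ∈ R, ‖powSum (L χ) μ‖ ^ 2) - (R.card : ℝ)) = 0 := by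
    rw [Finset.sum_sub_distrib, hc, Finset.sum_const, nsmul_eq_mul, heq]
    ring
  have heach := (Finset.sum_eq_zero_iff_of_nonneg
    (fun χ hχ => sub_nonneg.mpr (ha χ hχ))).mp hsum0
  -- characters with `P` in the kernel are linear
  have hlin : ∀ χ : G → ℂ, IsIrrCharacter G χ → (∀ x ∈ (P : Subgroup G), χ x = χ 1) → χ 1 = 1 := by
    intro χ hχ hker
    have h1 := heach χ (mem_irrFinset.mpr hχ)
    have h2 : ∀ μ ∈ R, ‖powSum (L χ) μ‖ ^ 2 = ‖χ 1‖ ^ 2 := by
      intro μ hμ
      have hμprim : IsPrimitiveRoot μ N := (mem_primitiveRoots hN).mp hμ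
      obtain ⟨k, -, hk⟩ := hprim.eq_pow_of_pow_eq_one hμprim.pow_eq_one
      rw [← hk, ← hL χ hχ k, hker _ ((P : Subgroup G).pow_mem hg k)]
    rw [Finset.sum_congr rfl h2, Finset.sum_const, nsmul_eq_mul] at h1
    obtain ⟨n, hn0, hn⟩ := IsIrrCharacter.apply_one hχ
    rw [hn, Complex.norm_natCast] at h1
    have h3 : (n : ℝ) ^ 2 = 1 := by
      have : (R.card : ℝ) * ((n : ℝ) ^ 2 - 1) = 0 := by linarith
      rcases mul_eq_zero.mp this with h | h
      · exact absurd h hRpos.ne'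
      · linarith
    have h4 : n ^ 2 = 1 := by exact_mod_cast h3
    have h5 : n = 1 := by
      rcases Nat.pow_eq_one.mp h4 with h | h
      · exact h
      · omega
    rw [hn, h5]; simp
  -- the quotient is abelian
  have hQcomm : ∀ a b : G ⧸ (P : Subgroup G), a * b = b * a := by
    haveI : Fintype (G ⧸ (P : Subgroup G)) := Fintype.ofFinite _
    apply comm_of_all_linear
    intro β hβ
    have hinfl := IsIrrCharacter.comp_surjective hβ (QuotientGroup.mk' (P : Subgroup G))
      (QuotientGroup.mk'_surjective _)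
    have h1 := hlin _ hinfl (by
      intro x hx
      show β ((x : G ⧸ (P : Subgroup G))) = β (((1 : G) : G ⧸ (P : Subgroup G)))
      rw [(QuotientGroup.eq_one_iff x).mpr hx, QuotientGroup.mk_one])
    simpa using h1
  rw [commutator_def, Subgroup.commutator_le]
  intro a _ b _
  have h1 := hQcomm (a : G ⧸ (P : Subgroup G)) (b : G ⧸ (P : Subgroup G))
  have h2 : ((⁅a, b⁆ : G) : G ⧸ (P : Subgroup G)) = 1 := by
    rw [commutatorElement_def, QuotientGroup.mk_mul, QuotientGroup.mk_mul, QuotientGroup.mk_mul,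
      QuotientGroup.mk_inv, QuotientGroup.mk_inv, h1]
    group
  exact (QuotientGroup.eq_one_iff _).mp h2

end Cfsg.Agent.S0861
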