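import Cfsg.Statements.S0864
import Cfsg.Agent.Lib.Helper2_ClassFn
import Cfsg.Agent.Lib.Helper2_CharBasic
import Cfsg.Agent.Lib.Helper2_CharOrtho
import Cfsg.Agent.Lib.Helper2_Clifford
import Cfsg.Agent.Lib.Helper2_CharMore
import Cfsg.Agent.Lib.Helper2_CharNorm
import Cfsg.Agent.Lib.Helper2_CharValues
import Cfsg.Agent.Lib.Helper2_CharComplete
import Cfsg.Agent.Lib.Helper2_CharInd
import Cfsg.Agent.Lib.Helper2_CharTable
import Cfsg.Agent.Lib.Helper2_CharFrob
import Cfsg.Agent.Lib.Helper2_CharDeg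
import Cfsg.Agent.Lib.Helper2_CharSum
import Cfsg.Agent.Lib.Helper2_CharExtra
import Cfsg.Agent.Lib.Helper2_CharCentral
import Cfsg.Agent.Lib.Helper2_PermChar
import Cfsg.Agent.Lib.Helper2_FrobSchur
import Cfsg.Agent.Lib.Helper2_CliffordCorr
import Cfsg.Agent.Lib.Helper2_CharKernel
import Cfsg.Agent.Lib.Helper2_CyclicTI
import Cfsg.Agent.Lib.Helper2_CharGalois
import Cfsg.Agent.Lib.Helper2_CharInt
import Cfsg.Agent.Lib.Helper2_CharBurnside
import Cfsg.Agent.Lib.Helper2_CharCenter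
import Cfsg.Agent.Lib.Helper2_Ito
import Cfsg.Agent.Lib.Helper2_Gallagher
import Cfsg.Agent.Lib.Helper2_Artin
import Cfsg.Agent.Lib.Helper2_MGroup
import Cfsg.Agent.Lib.Helper2_RepEquiv
import Cfsg.Agent.Lib.Helper2_CyclicExt
import Cfsg.Agent.Lib.Helper2_Extraspecial
import Cfsg.Agent.Lib.Helper2_ProjLift
import Cfsg.Agent.Lib.Helper2_CentralExt
import Cfsg.Agent.Lib.Helper2_SylowExt
import Cfsg.Agent.Lib.Helper2_DetChar
import Cfsg.Agent.Lib.Helper2_LinExt

set_option autoImplicit false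
open Cfsg

namespace Cfsg.Agent.S0864

open Cfsg.Agent.Lib.Helper2_ClassFn Cfsg.Agent.Lib.Helper2_CharBasic Cfsg.Agent.Lib.Helper2_CharOrtho Cfsg.Agent.Lib.Helper2_Clifford Cfsg.Agent.Lib.Helper2_CharMore Cfsg.Agent.Lib.Helper2_CharNorm Cfsg.Agent.Lib.Helper2_CharValues Cfsg.Agent.Lib.Helper2_CharComplete Cfsg.Agent.Lib.Helper2_CharInd Cfsg.Agent.Lib.Helper2_CharTable Cfsg.Agent.Lib.Helper2_CharFrob Cfsg.Agent.Lib.Helper2_CharDeg Cfsg.Agent.Lib.Helper2_CharSum Cfsg.Agent.Lib.Helper2_CharExtra Cfsg.Agent.Lib.Helper2_CharCentral Cfsg.Agent.Lib.Helper2_PermChar Cfsg.Agent.Lib.Helper2_FrobSchur Cfsg.Agent.Lib.Helper2_CliffordCorr Cfsg.Agent.Lib.Helper2_CharKernel Cfsg.Agent.Lib.Helper2_CyclicTI Cfsg.Agent.Lib.Helper2_CharGalois Cfsg.Agent.Lib.Helper2_CharInt Cfsg.Agent.Lib.Helper2_CharBurnside Cfsg.Agent.Lib.Helper2_CharCenter Cfsg.Agent.Lib.Helper2_Ito Cfsg.Agent.Lib.Helper2_Gallagher Cfsg.Agent.Lib.Helper2_Artin Cfsg.Agent.Lib.Helper2_MGroup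 Cfsg.Agent.Lib.Helper2_RepEquiv Cfsg.Agent.Lib.Helper2_CyclicExt Cfsg.Agent.Lib.Helper2_Extraspecial Cfsg.Agent.Lib.Helper2_ProjLift Cfsg.Agent.Lib.Helper2_CentralExt Cfsg.Agent.Lib.Helper2_SylowExt Cfsg.Agent.Lib.Helper2_DetChar Cfsg.Agent.Lib.Helper2_LinExt
open scoped Pointwise


/-- Let N be a normal subgroup of the finite group G and λ a character of N of degree 1 invariant under conjugation by G. Suppose that for every prime p dividing the order of λ (in the group of functions under pointwise multiplication) there is a subgroup H containing N, of index prime to p and with the index of N in H a power of p, together with a character of H of degree 1 restricting to λ. Then λ is the restriction of a character of G of degree 1. -/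
theorem result {G : Type*} [Group G] [Finite G] (N : Subgroup G) [hN : N.Normal] (lam : N → ℂ) (hlam : Cfsg.IsCharacter N lam ∧ lam 1 = 1) (hinv : ∀ (g : G) (n : N), lam ⟨g * n * g⁻¹, hN.conj_mem (n : G) n.2 g⟩ = lam n) (hsyl : ∀ p : ℕ, p.Prime → p ∣ orderOf lam → ∃ (H : Subgroup G) (hNH : N ≤ H) (ν : H → ℂ), Nat.Coprime H.index p ∧ (∃ k : ℕ, N.relIndex H = p ^ k) ∧ Cfsg.IsCharacter H ν ∧ ν 1 = 1 ∧ ∀ n : N, ν ⟨(n : G), hNH n.2⟩ = lam n) : ∃ μ : G → ℂ, Cfsg.IsCharacter G μ ∧ μ 1 = 1 ∧ ∀ n : N, μ n = lam n := by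
  classical
  haveI := Fintype.ofFinite G
  obtain ⟨ω, rfl⟩ := exists_hom_of_linear hlam
  have hinvω : ∀ (g : G) (n : N), ω ⟨g * n * g⁻¹, hN.conj_mem (n : G) n.2 g⟩ = ω n :=
    fun g n => Units.ext (hinv g n)
  have hirr : IsIrrCharacter N (fun n => ((ω n : ℂˣ) : ℂ)) := isIrrCharacter_of_hom ω
  suffices hloc : ∀ p : ℕ, p.Prime → ∃ (P : Subgroup G) (hNP : N ≤ P) (η : P → ℂ),
      Nat.Coprime P.index p ∧ IsIrrCharacter P η ∧
        ∀ n : N, η ⟨(n : G), hNP n.2⟩ = ((ω n : ℂˣ) : ℂ) by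
    obtain ⟨χ, hχ, hχres⟩ := exists_extension_of_sylow N _ hirr hinv hloc
    refine ⟨χ, IsIrrCharacter.isCharacter hχ, ?_, hχres⟩
    have := hχres 1
    simpa using this
  intro p hp
  by_cases hpd : p ∣ orderOf (fun n => ((ω n : ℂˣ) : ℂ))
  · obtain ⟨H, hNH, ν, hcop, -, hν, hν1, hνres⟩ := hsyl p hp hpd
    obtain ⟨ων, rfl⟩ := exists_hom_of_linear ⟨hν, hν1⟩
    exact ⟨H, hNH, _, hcop, isIrrCharacter_of_hom ων, hνres⟩
  · rw [orderOf_coe] at hpd
    haveI : Fact p.Prime := ⟨hp⟩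
    obtain S : Sylow p (G ⧸ N) := default
    set P := (S : Subgroup (G ⧸ N)).comap (QuotientGroup.mk' N) with hP
    have hNP : N ≤ P := by
      intro n hn
      rw [hP, Subgroup.mem_comap]
      have : QuotientGroup.mk' N n = 1 := (QuotientGroup.eq_one_iff n).mpr hn
      rw [this]; exact Subgroup.one_mem _
    have hidx : P.index = (S : Subgroup (G ⧸ N)).index :=
      Subgroup.index_comap_of_surjective _ (QuotientGroup.mk'_surjective N)
    have hcopP : Nat.Coprime P.index p := by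
      rw [hidx]
      exact (Nat.Coprime.symm ((Nat.Prime.coprime_iff_not_dvd hp).mpr S.not_dvd_index))
    have hrel : ∃ k, N.relIndex P = p ^ k := by
      obtain ⟨k, hk⟩ := IsPGroup.iff_card.mp S.2
      refine ⟨k, ?_⟩
      have h1 := Subgroup.relIndex_mul_index hNP
      have h2 := Subgroup.card_mul_index (S : Subgroup (G ⧸ N))
      rw [Subgroup.index_eq_card N, ← h2, hidx] at h1
      have h3 : (S : Subgroup (G ⧸ N)).index ≠ 0 := Subgroup.index_ne_zero_of_finite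
      have h4 := Nat.eq_of_mul_eq_mul_right (Nat.pos_of_ne_zero h3) h1
      rw [h4]; exact hk
    obtain ⟨k, hk⟩ := hrel
    have hcop' : Nat.Coprime (N.relIndex P) (orderOf ω) := by
      rw [hk]; exact Nat.Coprime.pow_left k ((Nat.Prime.coprime_iff_not_dvd hp).mpr hpd)
    obtain ⟨μ, hμ⟩ := exists_linear_extension_subgroup N P hNP ω hinvω hcop'
    exact ⟨P, hNP, fun x => ((μ x : ℂˣ) : ℂ), hcopP, isIrrCharacter_of_hom μ,
      fun n => by simp only [hμ]⟩

end Cfsg.Agent.S0864
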