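import Cfsg.Statements.S0868
import Cfsg.Agent.Lib.Helper2_ClassFn
import Cfsg.Agent.Lib.Helper2_CharBasic
import Cfsg.Agent.Lib.Helper2_CharOrtho
import Cfsg.Agent.Lib.Helper2_Clifford
import Cfsg.Agent.Lib.Helper2_CharMore
import Cfsg.Agent.Lib.Helper2_CharNorm
import Cfsg.Agent.Lib.Helper2_CharValues
import Cfsg.Agent.Lib.Helper2_CharComplete
import Cfsg.Agent.Lib.Helper2_CharInd
import Cfsg.Agent.Lib.Helper2_CharTable
import Cfsg.Agent.Lib.Helper2_CharFrob
import Cfsg.Agent.Lib.Helper2_CharDeg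
import Cfsg.Agent.Lib.Helper2_CharSum
import Cfsg.Agent.Lib.Helper2_CharExtra
import Cfsg.Agent.Lib.Helper2_CharCentral
import Cfsg.Agent.Lib.Helper2_PermChar
import Cfsg.Agent.Lib.Helper2_FrobSchur
import Cfsg.Agent.Lib.Helper2_CliffordCorr
import Cfsg.Agent.Lib.Helper2_CharKernel
import Cfsg.Agent.Lib.Helper2_CyclicTI
import Cfsg.Agent.Lib.Helper2_CharGalois
import Cfsg.Agent.Lib.Helper2_CharInt
import Cfsg.Agent.Lib.Helper2_CharBurnside
import Cfsg.Agent.Lib.Helper2_CharCenter
import Cfsg.Agent.Lib.Helper2_Ito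
import Cfsg.Agent.Lib.Helper2_Gallagher
import Cfsg.Agent.S1488

set_option autoImplicit false
open scoped ComplexConjugate
open Cfsg

namespace Cfsg.Agent.S0868

open Cfsg.Agent.Lib.Helper2_ClassFn Cfsg.Agent.Lib.Helper2_CharBasic Cfsg.Agent.Lib.Helper2_CharOrtho Cfsg.Agent.Lib.Helper2_Clifford Cfsg.Agent.Lib.Helper2_CharMore Cfsg.Agent.Lib.Helper2_CharNorm Cfsg.Agent.Lib.Helper2_CharValues Cfsg.Agent.Lib.Helper2_CharComplete Cfsg.Agent.Lib.Helper2_CharInd Cfsg.Agent.Lib.Helper2_CharTable Cfsg.Agent.Lib.Helper2_CharFrob Cfsg.Agent.Lib.Helper2_CharDeg Cfsg.Agent.Lib.Helper2_CharSum Cfsg.Agent.Lib.Helper2_CharExtra Cfsg.Agent.Lib.Helper2_CharCentral Cfsg.Agent.Lib.Helper2_PermChar Cfsg.Agent.Lib.Helper2_FrobSchur Cfsg.Agent.Lib.Helper2_CliffordCorr Cfsg.Agent.Lib.Helper2_CharKernel Cfsg.Agent.Lib.Helper2_CyclicTI Cfsg.Agent.Lib.Helper2_CharGalois Cfsg.Agent.Lib.Helper2_CharInt Cfsg.Agent.Lib.Helper2_CharBurnside Cfsg.Agent.Lib.Helper2_CharCenter Cfsg.Agent.Lib.Helper2_Ito Cfsg.Agent.Lib.Helper2_Gallagher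
open scoped Pointwise
section Aux

variable {G : Type*} [Group G] [Fintype G] (N : Subgroup G) [hN : N.Normal] [Fintype N]

/-- the coset average -/
noncomputable def cosetAvg (F : G → ℂ) : G → ℂ :=
  fun g => (Nat.card N : ℂ)⁻¹ * ∑ n : N, F ((n : G) * g)

/-- coset averages of class functions are invariant under right translation by `N` -/
theorem cosetAvg_mul_right (F : G → ℂ) (g : G) (m : G) (hm : m ∈ N) :
    cosetAvg N F (g * m) = cosetAvg N F g := by
  unfold cosetAvg
  congr 1
  have hmem : g * m * g⁻¹ ∈ N := hN.conj_mem m hm g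
  refine Fintype.sum_equiv (Equiv.mulRight (⟨g * m * g⁻¹, hmem⟩ : N)) _ _ fun n => ?_
  simp only [Equiv.coe_mulRight, Subgroup.coe_mul]
  congr 1
  group

theorem cosetAvg_conj {F : G → ℂ} (hF : IsClassFunction G F) (g x : G) :
    cosetAvg N F (x * g * x⁻¹) = cosetAvg N F g := by
  unfold cosetAvg
  congr 1
  refine Fintype.sum_equiv (MulAut.conjNormal x⁻¹ : N ≃* N).toEquiv _ _ fun n => ?_
  have h1 : ((MulAut.conjNormal x⁻¹ : N ≃* N) n : G) = x⁻¹ * n * x := by
    simp [MulAut.conjNormal_apply]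
  simp only [MulEquiv.toEquiv_eq_coe, MulEquiv.coe_toEquiv]
  rw [h1]
  have h2 : (n : G) * (x * g * x⁻¹) = x * (x⁻¹ * n * x * g) * x⁻¹ := by group
  rw [h2, hF]

variable [Fintype (G ⧸ N)]

/-- the coset average descends to the quotient -/
theorem exists_descend {F : G → ℂ} (hF : IsClassFunction G F) :
    ∃ f : G ⧸ N → ℂ, IsClassFunction (G ⧸ N) f ∧ ∀ g : G, f (g : G ⧸ N) = cosetAvg N F g := by
  have hwd : ∀ a b : G, (QuotientGroup.leftRel N) a b → cosetAvg N F a = cosetAvg N F b := by
    intro a b hab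
    rw [QuotientGroup.leftRel_apply] at hab
    have : b = a * (a⁻¹ * b) := by group
    rw [this, cosetAvg_mul_right N F a _ hab]
  refine ⟨fun q => Quotient.liftOn' q (cosetAvg N F) hwd, ?_, fun g => rfl⟩
  intro q x
  induction q using QuotientGroup.induction_on with
  | H g =>
  induction x using QuotientGroup.induction_on with
  | H x =>
  show cosetAvg N F (x * g * x⁻¹) = cosetAvg N F g
  exact cosetAvg_conj N hF g x

/-- inner products of the descended function -/
theorem classInner_descend (F : G → ℂ) (f : G ⧸ N → ℂ)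
    (hf : ∀ g : G, f (g : G ⧸ N) = cosetAvg N F g) (β : G ⧸ N → ℂ) :
    classInner f β = classInner F (infl N β) := by
  rw [classInner_def, classInner_def]
  have h1 := Cfsg.Agent.S1488.sum_comp_surjective (QuotientGroup.mk' N)
    (QuotientGroup.mk'_surjective N) (fun q => f q * (starRingEnd ℂ) (β q))
  rw [QuotientGroup.ker_mk'] at h1
  have hNne := card_subgroup_ne_zero N
  have hG : (Nat.card G : ℂ) = (Nat.card N : ℂ) * (Nat.card (G ⧸ N) : ℂ) := by
    rw [← Subgroup.index_eq_card, ← N.card_mul_index]; push_cast; ring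
  have hQne : (Nat.card (G ⧸ N) : ℂ) ≠ 0 := card_ne_zero_complex
  have h2 : ∑ x : G, f ((QuotientGroup.mk' N) x) * (starRingEnd ℂ) (β ((QuotientGroup.mk' N) x))
      = ∑ x : G, F x * (starRingEnd ℂ) (infl N β x) := by
    simp only [QuotientGroup.mk'_apply, hf]
    unfold cosetAvg
    simp_rw [mul_assoc, Finset.sum_mul]
    rw [← Finset.mul_sum, Finset.sum_comm]
    have h3 : ∀ n : N, ∑ x : G, F ((n : G) * x) * (starRingEnd ℂ) (β (x : G ⧸ N))
        = ∑ x : G, F x * (starRingEnd ℂ) (infl N β x) := by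
      intro n
      refine Fintype.sum_equiv (Equiv.mulLeft (n : G)) _ _ fun x => ?_
      simp only [Equiv.coe_mulLeft, infl_apply]
      congr 2
      rw [QuotientGroup.mk_mul, (QuotientGroup.eq_one_iff (n : G)).mpr n.2, one_mul]
    rw [Finset.sum_congr rfl (fun n _ => h3 n), Finset.sum_const, Finset.card_univ,
      nsmul_eq_mul, ← Nat.card_eq_fintype_card]
    field_simp
  rw [h2] at h1
  rw [h1, hG]
  field_simp

end Aux


/-- Let N be a normal subgroup of the finite group G, χ an irreducible character of G whose restriction ϑ to N is irreducible, and ψ an irreducible character of G. Define η on G by η g = (1 / order of N) * Σ over n in N of ψ (n * g) * conj (χ (n * g)). Then: if the restriction of ψ to N has nonzero inner product with ϑ, η is an irreducible character of G; if that inner product is zero, η vanishes identically; and if ψ = χ then η is identically 1. -/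
theorem result {G : Type*} [Group G] [Fintype G] (N : Subgroup G) [N.Normal] [Fintype N] (χ : G → ℂ) (hχ : Cfsg.IsIrrCharacter G χ) (hχN : Cfsg.IsIrrCharacter N (fun n : N => χ n)) (ψ : G → ℂ) (hψ : Cfsg.IsIrrCharacter G ψ) (η : G → ℂ) (hη : η = fun g => (Nat.card N : ℂ)⁻¹ * ∑ n : N, ψ ((n : G) * g) * conj (χ ((n : G) * g))) : (Cfsg.classInner (fun n : N => ψ n) (fun n : N => χ n) ≠ 0 → Cfsg.IsIrrCharacter G η) ∧ (Cfsg.classInner (fun n : N => ψ n) (fun n : N => χ n) = 0 → η = 0) ∧ (ψ = χ → η = fun _ => 1) := by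
  classical
  haveI : Fintype (G ⧸ N) := Fintype.ofFinite _
  have hχc := IsIrrCharacter.isCharacter hχ
  have hχcf := IsCharacter.isClassFunction hχc
  have hψc := IsIrrCharacter.isCharacter hψ
  have hψcf := IsCharacter.isClassFunction hψc
  set F : G → ℂ := fun x => ψ x * conj (χ x) with hF
  have hFcf : IsClassFunction G F := by
    intro g h
    simp only [hF]
    rw [hψcf, hχcf]
  have hηF : η = cosetAvg N F := by rw [hη]; rfl
  obtain ⟨f, hfcf, hf⟩ := exists_descend N hFcf
  have hηf : ∀ g : G, η g = f (g : G ⧸ N) := by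
    intro g; rw [hf, hηF]
  -- inner products of `f`
  have hinner : ∀ β : G ⧸ N → ℂ, IsIrrCharacter (G ⧸ N) β →
      classInner f β = classInner ψ (infl N β * χ) := by
    intro β hβ
    rw [classInner_descend N F f hf β, classInner_def, classInner_def]
    congr 1
    refine Finset.sum_congr rfl fun x _ => ?_
    simp only [hF, Pi.mul_apply, map_mul]
    have h1 : (starRingEnd ℂ) (χ x) * (starRingEnd ℂ) (infl N β x)
        = (starRingEnd ℂ) (infl N β x) * (starRingEnd ℂ) (χ x) := mul_comm _ _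
    rw [mul_assoc, h1]
  have hirrprod : ∀ β : G ⧸ N → ℂ, IsIrrCharacter (G ⧸ N) β →
      IsIrrCharacter G (infl N β * χ) := by
    intro β hβ
    apply IsCharacter.isIrr_of_norm_one
      (IsCharacter.mul (IsCharacter.infl N (IsIrrCharacter.isCharacter hβ)) hχc)
    rw [gallagher N hχ hχN hβ hβ, if_pos rfl]
  have hexp := IsClassFunction.expansion hfcf
  -- if `ψ = β₀ χ` then `η = infl β₀`
  have hcase : ∀ β₀ : G ⧸ N → ℂ, IsIrrCharacter (G ⧸ N) β₀ → ψ = infl N β₀ * χ →
      η = infl N β₀ := by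
    intro β₀ hβ₀ hψeq
    have hfβ : f = β₀ := by
      rw [hexp, Finset.sum_eq_single β₀]
      · rw [hinner β₀ hβ₀, hψeq, gallagher N hχ hχN hβ₀ hβ₀, if_pos rfl, one_smul]
      · intro β hβ hne
        rw [hinner β (mem_irrFinset.mp hβ), hψeq,
          gallagher N hχ hχN hβ₀ (mem_irrFinset.mp hβ), if_neg (Ne.symm hne), zero_smul]
      · intro h
        exact absurd (mem_irrFinset.mpr hβ₀) h
    ext g
    rw [hηf, hfβ]
    rfl
  refine ⟨?_, ?_, ?_⟩
  · intro hcon
    -- `ψ` is a constituent of the induced character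
    have h1 : classInner (indFun N (fun n : N => χ n)) ψ ≠ 0 := by
      rw [frobenius_reciprocity N _ ψ hψcf, ← classInner_conj_symm]
      intro h0
      apply hcon
      have := congrArg (starRingEnd ℂ) h0
      simpa using this
    rw [gallagher_decomp N hχcf, classInner_sum_left] at h1
    obtain ⟨β₀, hβ₀m, hne⟩ := Finset.exists_ne_zero_of_sum_ne_zero h1
    have hβ₀ := mem_irrFinset.mp hβ₀m
    rw [classInner_smul_left] at hne
    have hne' := right_ne_zero_of_mul hne
    have hψeq : ψ = infl N β₀ * χ := by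
      by_contra hne2
      exact hne' (classInner_irr_of_ne (hirrprod β₀ hβ₀) hψ (fun h => hne2 h.symm))
    rw [hcase β₀ hβ₀ hψeq]
    exact IsIrrCharacter.infl N hβ₀
  · intro hzero
    have hf0 : f = 0 := by
      rw [hexp]
      apply Finset.sum_eq_zero
      intro β hβm
      have hβ := mem_irrFinset.mp hβm
      rw [hinner β hβ]
      have : classInner ψ (infl N β * χ) = 0 := by
        by_contra hne
        have hψeq : ψ = infl N β * χ := by
          by_contra hne2
          exact hne (classInner_irr_of_ne hψ (hirrprod β hβ) hne2)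
        apply IsIrrCharacter.apply_one_ne_zero hβ
        have h2 : (fun n : N => ψ n) = β 1 • (fun n : N => χ n) := by
          ext n
          rw [hψeq]
          simp only [Pi.mul_apply, Pi.smul_apply, smul_eq_mul, infl_apply]
          rw [(QuotientGroup.eq_one_iff (n : G)).mpr n.2]
        rw [h2, classInner_smul_left, classInner_irr_self hχN, mul_one] at hzero
        exact hzero
      rw [this, zero_smul]
    ext g
    rw [hηf, hf0]
    rfl
  · intro hψχ
    have h1 : IsIrrCharacter (G ⧸ N) (fun _ => (1 : ℂ)) := isIrrCharacter_one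
    have h2 : ψ = infl N (fun _ => (1 : ℂ)) * χ := by
      rw [hψχ]
      ext g
      simp [infl_apply]
    rw [hcase _ h1 h2]
    rfl

end Cfsg.Agent.S0868
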