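import Cfsg.Statements.S0869
import Mathlib
set_option autoImplicit false
open Cfsg
namespace Cfsg.Agent.S0869

theorem result {S : Type*} [Finite S] [Nonempty S] (R : AddSubgroup (S → ℤ)) (hmul : ∀ f ∈ R, ∀ g ∈ R, f * g ∈ R) (h1 : (1 : S → ℤ) ∉ R) : ∃ (x : S) (p : ℕ), p.Prime ∧ ∀ f ∈ R, (p : ℤ) ∣ f x := by
  classical
  have hfin : Fintype S := Fintype.ofFinite S
  by_contra hcon
  push Not at hcon
  -- for every x there is f ∈ R with f x = 1
  have key : ∀ x : S, ∃ f ∈ R, f x = 1 := by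
    intro x
    let I : AddSubgroup ℤ := R.map (Pi.evalAddMonoidHom (fun _ : S => ℤ) x)
    obtain ⟨d, hd⟩ := Int.subgroup_cyclic I
    have hmemI : ∀ f ∈ R, f x ∈ I := fun f hf => ⟨f, hf, rfl⟩
    have hdvd : ∀ f ∈ R, d ∣ f x := by
      intro f hf
      have := hmemI f hf
      rw [hd, AddSubgroup.mem_closure_singleton] at this
      obtain ⟨k, hk⟩ := this
      exact ⟨k, by rw [← hk]; simp [mul_comm]⟩
    -- d.natAbs = 1
    have hd1 : d.natAbs = 1 := by
      by_contra hne
      obtain ⟨p, hp, hpd⟩ : ∃ p : ℕ, p.Prime ∧ p ∣ d.natAbs := by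
        by_cases h0 : d.natAbs = 0
        · exact ⟨2, Nat.prime_two, by rw [h0]; exact dvd_zero 2⟩
        · exact Nat.exists_prime_and_dvd hne
      obtain ⟨f, hf, hpf⟩ := hcon x p hp
      apply hpf
      have h2 : (p : ℤ) ∣ d := by
        rw [← Int.natAbs_dvd_natAbs]
        simpa using hpd
      exact dvd_trans h2 (hdvd f hf)
    have hdI : d ∈ I := by
      rw [hd]; exact AddSubgroup.subset_closure rfl
    obtain ⟨f, hf, hfx⟩ := hdI
    have hfx' : f x = d := hfx
    rcases Int.natAbs_eq d with h | h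
    · exact ⟨f, hf, by rw [hfx', h, hd1]; rfl⟩
    · refine ⟨-f, R.neg_mem hf, ?_⟩
      rw [Pi.neg_apply, hfx', h, hd1]; simp
  choose F hFR hFx using key
  -- product expansion
  have hprod : ∀ T : Finset S, ∃ r ∈ R, ∏ x ∈ T, (1 - F x) = 1 - r := by
    intro T
    induction T using Finset.induction_on with
    | empty => exact ⟨0, R.zero_mem, by simp⟩
    | insert a T ha ih =>
      obtain ⟨r, hr, hrT⟩ := ih
      refine ⟨r + F a - F a * r, ?_, ?_⟩
      · exact R.sub_mem (R.add_mem hr (hFR a)) (hmul _ (hFR a) _ hr)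
      · rw [Finset.prod_insert ha, hrT]
        ring
  obtain ⟨r, hr, hrS⟩ := hprod Finset.univ
  have hzero : ∏ x : S, (1 - F x) = 0 := by
    funext y
    rw [Finset.prod_apply]
    apply Finset.prod_eq_zero (Finset.mem_univ y)
    simp [hFx y]
  rw [hzero] at hrS
  have : r = 1 := by
    have := sub_eq_zero.mp hrS.symm
    exact this.symm
  exact h1 (this ▸ hr)

end Cfsg.Agent.S0869
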