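import Cfsg.Statements.S0873
import Mathlib
import Cfsg.Agent.Lib.Helper2_CharBasic
set_option autoImplicit false
open Cfsg
namespace Cfsg.Agent.S0873

open Cfsg.Agent.Lib.Helper2_CharBasic

/-- A character of degree one is multiplicative. -/
theorem mul_of_degree_one {G : Type*} [Group G] (ρ : Representation ℂ G (Fin 1 → ℂ)) (g h : G) :
    ρ.character (g * h) = ρ.character g * ρ.character h := by
  rw [← trace_mat, ← trace_mat, ← trace_mat, mat_mul]
  simp [Matrix.trace, Matrix.mul_apply]

theorem linear_mul {G : Type*} [Group G] (lam : G → ℂ) (hlam : IsCharacter G lam ∧ lam 1 = 1)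
    (g h : G) : lam (g * h) = lam g * lam h := by
  obtain ⟨⟨n, ρ, rfl⟩, h1⟩ := hlam
  have hn : n = 1 := by
    rw [Representation.char_one] at h1
    simp only [Module.finrank_fintype_fun_eq_card, Fintype.card_fin] at h1
    exact_mod_cast h1
  subst hn
  exact mul_of_degree_one ρ g h

theorem result {G : Type*} [Group G] [Finite G] (p : ℕ) [Fact p.Prime] (C P : Subgroup G) [hC : C.Normal] (hP : IsPGroup p P) (hcop : Nat.Coprime (Nat.card C) p) (hCP : C ⊔ P = ⊤) (lam : C → ℂ) (hlam : Cfsg.IsCharacter C lam ∧ lam 1 = 1) (hinv : ∀ (g : G) (c : C), lam ⟨g * c * g⁻¹, hC.conj_mem (c : G) c.2 g⟩ = lam c) (hker : ∀ c : C, (c : G) ∈ Subgroup.centralizer (P : Set G) → lam c = 1) : lam = fun _ => 1 := by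
  classical
  have hmul := linear_mul lam hlam
  have h1 : lam 1 = 1 := hlam.2
  have hunit : ∀ c : C, lam c * lam c⁻¹ = 1 := by
    intro c; rw [← hmul, mul_inv_cancel, h1]
  funext c
  -- the fibre of lam through c
  let T := {y : C // lam y = lam c}
  -- action of P on T by conjugation
  let act : MulAction ↥P T :=
    { smul := fun x y => ⟨⟨(x : G) * (y.1 : G) * (x : G)⁻¹, hC.conj_mem _ y.1.2 _⟩, by
        rw [hinv (x : G) y.1]; exact y.2⟩
      one_smul := by
        intro y
        apply Subtype.ext
        apply Subtype.ext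
        show ((1 : P) : G) * (y.1 : G) * ((1 : P) : G)⁻¹ = (y.1 : G)
        simp
      mul_smul := by
        intro x x' y
        apply Subtype.ext
        apply Subtype.ext
        show ((x * x' : P) : G) * (y.1 : G) * ((x * x' : P) : G)⁻¹ =
          (x : G) * ((x' : G) * (y.1 : G) * (x' : G)⁻¹) * (x : G)⁻¹
        simp only [Subgroup.coe_mul, mul_inv_rev]
        group }
  -- the kernel
  let K : Subgroup C :=
    { carrier := {y | lam y = 1}
      mul_mem' := by
        intro a b ha hb
        show lam (a * b) = 1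
        rw [hmul, ha, hb, mul_one]
      one_mem' := h1
      inv_mem' := by
        intro a ha
        show lam a⁻¹ = 1
        have := hunit a
        rw [ha, one_mul] at this
        exact this }
  have hTK : Nat.card T = Nat.card K := by
    apply Nat.card_congr
    refine
      { toFun := fun y => ⟨c⁻¹ * y.1, ?_⟩
        invFun := fun k => ⟨c * k.1, ?_⟩
        left_inv := fun y => by apply Subtype.ext; simp
        right_inv := fun k => by apply Subtype.ext; simp }
    · show lam (c⁻¹ * y.1) = 1
      rw [hmul, y.2, mul_comm]; exact hunit c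
    · show lam (c * k.1) = lam c
      rw [hmul, k.2, mul_one]
  have hnd : ¬ p ∣ Nat.card T := by
    rw [hTK]
    intro hdvd
    have hKC : Nat.card K ∣ Nat.card C := Subgroup.card_subgroup_dvd_card K
    have : p ∣ Nat.card C := dvd_trans hdvd hKC
    have hp : p.Prime := Fact.out
    exact (Nat.Prime.coprime_iff_not_dvd hp).mp hcop.symm this
  obtain ⟨y, hy⟩ := hP.nonempty_fixed_point_of_prime_not_dvd_card T hnd
  rw [← y.2]
  apply hker
  rw [Subgroup.mem_centralizer_iff]
  intro x hx
  have := hy ⟨x, hx⟩
  have h2 := congrArg (fun t : T => ((t.1 : C) : G)) this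
  have h3 : x * (y.1 : G) * x⁻¹ = (y.1 : G) := h2
  calc x * (y.1 : G) = x * (y.1 : G) * x⁻¹ * x := by group
    _ = (y.1 : G) * x := by rw [h3]

end Cfsg.Agent.S0873
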