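import Cfsg.Statements.S0875
import Cfsg.Agent.Lib.Helper2_ClassFn
import Cfsg.Agent.Lib.Helper2_CharBasic
import Cfsg.Agent.Lib.Helper2_CharOrtho
import Cfsg.Agent.Lib.Helper2_Clifford
import Cfsg.Agent.Lib.Helper2_CharMore
import Cfsg.Agent.Lib.Helper2_CharNorm
import Cfsg.Agent.Lib.Helper2_CharValues
import Cfsg.Agent.Lib.Helper2_CharComplete
import Cfsg.Agent.Lib.Helper2_CharInd
import Cfsg.Agent.Lib.Helper2_CharTable
import Cfsg.Agent.Lib.Helper2_CharFrob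
import Cfsg.Agent.Lib.Helper2_CharDeg
import Cfsg.Agent.Lib.Helper2_CharSum
import Cfsg.Agent.Lib.Helper2_CharExtra
import Cfsg.Agent.Lib.Helper2_CharCentral
import Cfsg.Agent.Lib.Helper2_PermChar
import Cfsg.Agent.Lib.Helper2_FrobSchur
import Cfsg.Agent.Lib.Helper2_CliffordCorr
import Cfsg.Agent.Lib.Helper2_CharKernel
import Cfsg.Agent.Lib.Helper2_CyclicTI
import Cfsg.Agent.Lib.Helper2_CharGalois
import Cfsg.Agent.Lib.Helper2_CharInt
import Cfsg.Agent.Lib.Helper2_CharBurnside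
import Cfsg.Agent.Lib.Helper2_CharCenter
import Cfsg.Agent.Lib.Helper2_Ito
import Cfsg.Agent.Lib.Helper2_Gallagher
import Cfsg.Agent.Lib.Helper2_Artin
import Cfsg.Agent.Lib.Helper2_MGroup
import Cfsg.Agent.Lib.Helper2_RepEquiv
import Cfsg.Agent.Lib.Helper2_CyclicExt
import Cfsg.Agent.Lib.Helper2_Extraspecial
import Cfsg.Agent.Lib.Helper2_ProjLift
import Cfsg.Agent.Lib.Helper2_CentralExt
import Cfsg.Agent.Lib.Helper2_SylowExt
import Cfsg.Agent.Lib.Helper2_DetChar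
import Cfsg.Agent.Lib.Helper2_LinExt
import Cfsg.Agent.Lib.Helper2_DetExt
import Cfsg.Agent.Lib.Helper2_GallagherExt
import Cfsg.Agent.Lib.Helper2_PermInd
import Cfsg.Agent.Lib.Helper2_QuasiElem
import Cfsg.Agent.Lib.Helper2_BrauerInd
import Cfsg.Agent.Lib.Helper2_BrauerThm
import Cfsg.Agent.Lib.Helper2_NilDecomp
import Cfsg.Agent.Lib.Helper2_DefectZero
import Cfsg.Agent.Lib.Helper2_CharGalois2
import Cfsg.Agent.Lib.Helper2_CosetAvg
import Cfsg.Agent.Lib.Helper2_Thompson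
import Cfsg.Agent.Lib.Helper2_ItoSolv
import Cfsg.Agent.Lib.Helper2_ItoPSolv
import Cfsg.Agent.Lib.Helper2_GaloisConj
import Cfsg.Agent.Lib.Helper2_AbelInertia
import Cfsg.Agent.Lib.Helper2_Gagola
import Cfsg.Agent.Lib.Helper2_GoingDown
import Cfsg.Agent.Lib.Helper2_RelMGroup
import Cfsg.Agent.Lib.Helper2_Gagola2
import Cfsg.Agent.Lib.Helper2_Gagola3
import Cfsg.Agent.Lib.Helper2_Dade
import Cfsg.Agent.Lib.Helper2_PiSection

set_option autoImplicit false
open Cfsg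

namespace Cfsg.Agent.S0875

open Cfsg.Agent.Lib.Helper2_ClassFn Cfsg.Agent.Lib.Helper2_CharBasic Cfsg.Agent.Lib.Helper2_CharOrtho Cfsg.Agent.Lib.Helper2_Clifford Cfsg.Agent.Lib.Helper2_CharMore Cfsg.Agent.Lib.Helper2_CharNorm Cfsg.Agent.Lib.Helper2_CharValues Cfsg.Agent.Lib.Helper2_CharComplete Cfsg.Agent.Lib.Helper2_CharInd Cfsg.Agent.Lib.Helper2_CharTable Cfsg.Agent.Lib.Helper2_CharFrob Cfsg.Agent.Lib.Helper2_CharDeg Cfsg.Agent.Lib.Helper2_CharSum Cfsg.Agent.Lib.Helper2_CharExtra Cfsg.Agent.Lib.Helper2_CharCentral Cfsg.Agent.Lib.Helper2_PermChar Cfsg.Agent.Lib.Helper2_FrobSchur Cfsg.Agent.Lib.Helper2_CliffordCorr Cfsg.Agent.Lib.Helper2_CharKernel Cfsg.Agent.Lib.Helper2_CyclicTI Cfsg.Agent.Lib.Helper2_CharGalois Cfsg.Agent.Lib.Helper2_CharInt Cfsg.Agent.Lib.Helper2_CharBurnside Cfsg.Agent.Lib.Helper2_CharCenter Cfsg.Agent.Lib.Helper2_Ito Cfsg.Agent.Lib.Helper2_Gallagher Cfsg.Agent.Lib.Helper2_Artin Cfsg.Agent.Lib.Helper2_MGroup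 Cfsg.Agent.Lib.Helper2_RepEquiv Cfsg.Agent.Lib.Helper2_CyclicExt Cfsg.Agent.Lib.Helper2_Extraspecial Cfsg.Agent.Lib.Helper2_ProjLift Cfsg.Agent.Lib.Helper2_CentralExt Cfsg.Agent.Lib.Helper2_SylowExt Cfsg.Agent.Lib.Helper2_DetChar Cfsg.Agent.Lib.Helper2_LinExt Cfsg.Agent.Lib.Helper2_DetExt Cfsg.Agent.Lib.Helper2_GallagherExt Cfsg.Agent.Lib.Helper2_PermInd Cfsg.Agent.Lib.Helper2_QuasiElem Cfsg.Agent.Lib.Helper2_BrauerInd Cfsg.Agent.Lib.Helper2_BrauerThm Cfsg.Agent.Lib.Helper2_NilDecomp Cfsg.Agent.Lib.Helper2_DefectZero Cfsg.Agent.Lib.Helper2_CharGalois2 Cfsg.Agent.Lib.Helper2_CosetAvg Cfsg.Agent.Lib.Helper2_Thompson Cfsg.Agent.Lib.Helper2_ItoSolv Cfsg.Agent.Lib.Helper2_ItoPSolv Cfsg.Agent.Lib.Helper2_GaloisConj Cfsg.Agent.Lib.Helper2_AbelInertia Cfsg.Agent.Lib.Helper2_Gagola Cfsg.Agent.Lib.Helper2_GoingDown Cfsg.Agent.Lib.Helper2_RelMGroup Cfsg.Agent.Lib.Helper2_Gagola2 Cfsg.Agent.Lib.Helper2_Gagola3 Cfsg.Agent.Lib.Helper2_Dade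 Cfsg.Agent.Lib.Helper2_PiSection
open scoped Pointwise


/-- Let G be a finite group of order m * n with m and n coprime, and g an element whose order is coprime to m. Every x in G factors uniquely as x = u * v with u, v commuting, the order of u coprime to n and the order of v coprime to m; let ϑ be the function on G equal to n at those x whose factor v is conjugate to g and equal to 0 elsewhere. Then ϑ is a linear combination of the irreducible characters of G with algebraic-integer coefficients. -/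
theorem result {G : Type*} [Group G] [Fintype G] (m n : ℕ) (hmn : Nat.card G = m * n) (hcop : Nat.Coprime m n) (g : G) (hg : Nat.Coprime (orderOf g) m) (ϑ : G → ℂ) (hϑ1 : ∀ x : G, (∃ v : G, IsConj v g ∧ (∃ u : G, x = u * v ∧ Commute u v ∧ Nat.Coprime (orderOf u) n ∧ Nat.Coprime (orderOf v) m)) → ϑ x = n) (hϑ0 : ∀ x : G, (¬ ∃ v : G, IsConj v g ∧ (∃ u : G, x = u * v ∧ Commute u v ∧ Nat.Coprime (orderOf u) n ∧ Nat.Coprime (orderOf v) m)) → ϑ x = 0) : ∃ c : Cfsg.IrrCharacter G → ℂ, (∀ χ, c χ ∈ Cfsg.AlgInt) ∧ ϑ = ∑ᶠ χ : Cfsg.IrrCharacter G, c χ • (χ : G → ℂ) := by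
  classical
  have hpos : 0 < m * n := by rw [← hmn]; exact Nat.card_pos
  obtain ⟨r, hm, hn, hr⟩ := exists_crt_exp m n hcop hpos
  obtain ⟨t, ht⟩ := hn
  have hrt : r = n * t + 1 := by omega
  have hpowG : ∀ z : G, z ^ (m * n) = 1 := by
    intro z
    rw [← hmn]
    exact pow_card_eq_one'
  have key1 : ∀ x : G, IsConj (x ^ r) g → ϑ x = n := by
    intro x hx
    apply hϑ1
    refine ⟨x ^ r, hx, x * (x ^ r)⁻¹, by group, ?_, ?_, ?_⟩
    · have h1 : Commute x (x ^ r) := (Commute.refl x).pow_right r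
      exact (h1.mul_left ((Commute.refl (x ^ r)).inv_left))
    · have h0 : x * (x ^ r)⁻¹ = (x ^ (n * t))⁻¹ := by
        rw [hrt, pow_succ]; group
      have h1 : (x * (x ^ r)⁻¹) ^ m = 1 := by
        rw [h0, inv_pow, ← pow_mul, show n * t * m = (m * n) * t by ring, pow_mul, hpowG, one_pow,
          inv_one]
      exact Nat.Coprime.coprime_dvd_left (orderOf_dvd_of_pow_eq_one h1) hcop
    · have : orderOf (x ^ r) = orderOf g := by
        obtain ⟨c, hc⟩ := isConj_iff.mp hx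
        rw [← hc]
        have := orderOf_injective (MulAut.conj c).toMonoidHom (MulAut.conj c).injective (x ^ r)
        simpa using this.symm
      rw [this]; exact hg
  have key0 : ∀ x : G, ¬ IsConj (x ^ r) g → ϑ x = 0 := by
    intro x hx
    apply hϑ0
    rintro ⟨v, hv, u, hxuv, hcomm, hu, hv'⟩
    apply hx
    have hu1 : orderOf u ∣ m := by
      have h1 : orderOf u ∣ m * n := orderOf_dvd_of_pow_eq_one (hpowG u)
      exact Nat.Coprime.dvd_of_dvd_mul_right hu h1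
    have hv1 : orderOf v ∣ n := by
      have h1 : orderOf v ∣ m * n := orderOf_dvd_of_pow_eq_one (hpowG v)
      exact Nat.Coprime.dvd_of_dvd_mul_left hv' h1
    have hur : u ^ r = 1 := orderOf_dvd_iff_pow_eq_one.mp (dvd_trans hu1 hm)
    have hvr : v ^ r = v := by
      rw [hrt, pow_succ, pow_mul, orderOf_dvd_iff_pow_eq_one.mp hv1, one_pow, one_mul]
    rw [hxuv, hcomm.mul_pow, hur, hvr, one_mul]
    exact hv
  have hcf := classFn_of_pow r g (n : ℂ) ϑ key1 key0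
  have hR := pi_section_rint' m n r hmn hcop hm ⟨t, ht⟩ hr g ϑ key1 key0
  exact RInt.exists_coeff hcf hR

end Cfsg.Agent.S0875
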