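import Cfsg.Statements.S0878
import Mathlib

set_option autoImplicit false
open Cfsg

namespace Cfsg.Agent.S0878

theorem result {G Ω : Type*} [Group G] [Finite G] [MulAction G Ω] [Fintype Ω] (hZ : Cfsg.IsZassenhausGroup G Ω) (a : Ω) (H : Subgroup G) (hHa : H ≤ MulAction.stabilizer G a) (hHcard : Nat.card H + 1 = Fintype.card Ω) (hHfix : ∀ u ∈ H, u ≠ 1 → ∀ c : Ω, u • c = c → c = a) : (∀ g : G, g ∉ MulAction.stabilizer G a → ∀ u ∈ H, g * u * g⁻¹ ∈ H → u = 1) ∧ Subgroup.normalizer (H : Set G) = MulAction.stabilizer G a := by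
  classical
  have : Fintype G := Fintype.ofFinite G
  obtain ⟨hfaith, h2, h3, ⟨g0, hg0, a0, b0, hab0, hga0, hgb0⟩, _⟩ := hZ
  have h2iff : ∀ a b c d : Ω, a ≠ b → c ≠ d → ∃ g : G, g • a = c ∧ g • b = d :=
    fun a b c d h h' => MulAction.is_two_pretransitive_iff.mp h2 h h'
  -- claim 1
  have claim1 : ∀ g : G, g ∉ MulAction.stabilizer G a → ∀ u ∈ H, g * u * g⁻¹ ∈ H → u = 1 := by
    intro g hg u hu hy
    by_contra hu1
    have hy1 : g * u * g⁻¹ ≠ 1 := by
      intro h
      apply hu1
      have : u = g⁻¹ * (g * u * g⁻¹) * g := by group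
      rw [this, h]; group
    have hua : u • a = a := MulAction.mem_stabilizer_iff.mp (hHa hu)
    have hfa : (g * u * g⁻¹) • (g • a) = g • a := by
      rw [mul_smul, mul_smul, inv_smul_smul, hua]
    exact hg (MulAction.mem_stabilizer_iff.mpr (hHfix _ hy hy1 _ hfa))
  -- at least three points
  have hcard3 : 3 ≤ Fintype.card Ω := by
    obtain ⟨c, hc⟩ : ∃ c : Ω, g0 • c ≠ c := by
      by_contra hcon
      push Not at hcon
      apply hg0
      apply hfaith.eq_of_smul_eq_smul
      intro c
      rw [hcon c, one_smul]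
    have hca : c ≠ a0 := fun h => hc (by rw [h]; exact hga0)
    have hcb : c ≠ b0 := fun h => hc (by rw [h]; exact hgb0)
    have h3' : ({a0, b0, c} : Finset Ω).card = 3 := by
      rw [Finset.card_insert_of_notMem, Finset.card_insert_of_notMem, Finset.card_singleton]
      · simpa using (Ne.symm hcb)
      · simp [hab0, Ne.symm hca]
    rw [← h3']
    exact Finset.card_le_univ _
  set n := Fintype.card Ω with hn
  -- the finsets
  let A : Finset G := Finset.univ.filter (fun g => g • a = a)
  let Eb : Ω → Finset G := fun b => Finset.univ.filter (fun g => g • a = a ∧ g • b = b)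
  let F : Finset G :=
    Finset.univ.filter (fun g => g • a = a ∧ (g = 1 ∨ ∀ c : Ω, g • c = c → c = a))
  let Hs : Finset G := Finset.univ.filter (fun g => g ∈ H)
  have memA : ∀ g, g ∈ A ↔ g • a = a := fun g => by simp [A]
  have memEb : ∀ b g, g ∈ Eb b ↔ g • a = a ∧ g • b = b := fun b g => by simp [Eb]
  have memF : ∀ g, g ∈ F ↔ g • a = a ∧ (g = 1 ∨ ∀ c : Ω, g • c = c → c = a) :=
    fun g => by simp [F]
  have memHs : ∀ g, g ∈ Hs ↔ g ∈ H := fun g => by simp [Hs]
  -- step (ii)
  have step2 : ∀ b : Ω, b ≠ a → A.card = (n - 1) * (Eb b).card := by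
    intro b hb
    have hmaps : (A : Set G).MapsTo (fun g => g • b) (Finset.univ.erase a : Finset Ω) := by
      intro g hg
      have hga : g • a = a := (memA g).mp hg
      simp only [Finset.coe_erase, Finset.coe_univ, Set.mem_sdiff, Set.mem_univ,
        Set.mem_singleton_iff, true_and]
      intro h
      apply hb
      have : g • b = g • a := by rw [h, hga]
      exact MulAction.injective g this
    rw [Finset.card_eq_sum_card_fiberwise hmaps]
    have hfib : ∀ c ∈ (Finset.univ.erase a : Finset Ω),
        (A.filter (fun g => g • b = c)).card = (Eb b).card := by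
      intro c hc
      have hca : c ≠ a := Finset.ne_of_mem_erase hc
      obtain ⟨k, hka, hkb⟩ := h2iff a b a c (Ne.symm hb) (Ne.symm hca)
      have : A.filter (fun g => g • b = c) = (Eb b).image (fun g => k * g) := by
        ext g
        simp only [Finset.mem_filter, Finset.mem_image, memA, memEb]
        constructor
        · rintro ⟨hga, hgb⟩
          refine ⟨k⁻¹ * g, ⟨?_, ?_⟩, by group⟩
          · rw [mul_smul, hga, inv_smul_eq_iff, hka]
          · rw [mul_smul, hgb, inv_smul_eq_iff, hkb]
        · rintro ⟨g', ⟨hga, hgb⟩, rfl⟩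
          exact ⟨by rw [mul_smul, hga, hka], by rw [mul_smul, hgb, hkb]⟩
      rw [this, Finset.card_image_of_injective _ (mul_right_injective k)]
    rw [Finset.sum_congr rfl hfib, Finset.sum_const, smul_eq_mul,
      Finset.card_erase_of_mem (Finset.mem_univ a), Finset.card_univ]
  -- a second point
  obtain ⟨b1, hb1⟩ := Fintype.exists_ne_of_one_lt_card (by omega : 1 < Fintype.card Ω) a
  set e := (Eb b1).card with he
  have hn1 : 0 < n - 1 := by omega
  have hEcard : ∀ b : Ω, b ≠ a → (Eb b).card = e := by
    intro b hb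
    have h1 := step2 b hb
    have h2' := step2 b1 hb1
    rw [h1] at h2'
    exact Nat.eq_of_mul_eq_mul_left hn1 h2'
  have he1 : 1 ≤ e := by
    rw [he, Nat.one_le_iff_ne_zero, Finset.card_ne_zero]
    exact ⟨1, (memEb b1 1).mpr ⟨one_smul _ _, one_smul _ _⟩⟩
  -- step (iii)
  have hunion : A = F ∪ (Finset.univ.erase a).biUnion (fun b => (Eb b).erase 1) := by
    ext g
    simp only [Finset.mem_union, Finset.mem_biUnion, Finset.mem_erase, Finset.mem_univ,
      and_true, memA, memF, memEb]
    constructor
    · intro hga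
      by_cases hfix : ∃ b : Ω, b ≠ a ∧ g • b = b
      · obtain ⟨b, hb, hgb⟩ := hfix
        by_cases hg1 : g = 1
        · left; exact ⟨hga, Or.inl hg1⟩
        · right; exact ⟨b, hb, hg1, hga, hgb⟩
      · left
        push Not at hfix
        refine ⟨hga, Or.inr ?_⟩
        intro c hc
        by_contra hca
        exact hfix c hca hc
    · rintro (⟨hga, _⟩ | ⟨b, _, _, hga, _⟩)
      · exact hga
      · exact hga
  have hdisj1 : Disjoint F ((Finset.univ.erase a).biUnion (fun b => (Eb b).erase 1)) := by
    rw [Finset.disjoint_left]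
    intro g hgF hgU
    simp only [Finset.mem_biUnion, Finset.mem_erase, Finset.mem_univ, and_true, memEb] at hgU
    obtain ⟨b, hb, hg1, _, hgb⟩ := hgU
    rcases ((memF g).mp hgF).2 with h | h
    · exact hg1 h
    · exact hb (h b hgb)
  have hdisj2 : ((Finset.univ.erase a : Finset Ω) : Set Ω).PairwiseDisjoint
      (fun b => (Eb b).erase 1) := by
    intro b hb c hc hbc
    simp only [Finset.coe_erase, Finset.coe_univ, Set.mem_sdiff, Set.mem_univ,
      Set.mem_singleton_iff, true_and] at hb hc
    show Disjoint ((Eb b).erase 1) ((Eb c).erase 1)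
    rw [Finset.disjoint_left]
    intro g hg1 hg2
    simp only [Finset.mem_erase, memEb] at hg1 hg2
    exact hg1.1 (h3 g a b c (Ne.symm hb) hbc (Ne.symm hc) hg1.2.1 hg1.2.2 hg2.2.2)
  have hFcard : F.card = n - 1 := by
    have h1 : A.card = F.card + (n - 1) * (e - 1) := by
      rw [hunion, Finset.card_union_of_disjoint hdisj1, Finset.card_biUnion hdisj2]
      congr 1
      have : ∀ b ∈ (Finset.univ.erase a : Finset Ω), ((Eb b).erase 1).card = e - 1 := by
        intro b hb
        rw [Finset.card_erase_of_mem ((memEb b 1).mpr ⟨one_smul _ _, one_smul _ _⟩),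
          hEcard b (Finset.ne_of_mem_erase hb)]
      rw [Finset.sum_congr rfl this, Finset.sum_const, smul_eq_mul,
        Finset.card_erase_of_mem (Finset.mem_univ a), Finset.card_univ]
    rw [step2 b1 hb1, ← he] at h1
    obtain ⟨e', he'⟩ : ∃ e', e = e' + 1 := ⟨e - 1, by omega⟩
    rw [he', Nat.add_sub_cancel, Nat.mul_succ] at h1
    omega
  -- step (iv)
  have hHsF : Hs = F := by
    apply Finset.eq_of_subset_of_card_le
    · intro u hu
      have huH := (memHs u).mp hu
      rw [memF]
      refine ⟨MulAction.mem_stabilizer_iff.mp (hHa huH), ?_⟩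
      by_cases hu1 : u = 1
      · exact Or.inl hu1
      · exact Or.inr (hHfix u huH hu1)
    · rw [hFcard]
      have : Hs.card = Nat.card H := by
        rw [Nat.card_eq_fintype_card]
        exact (Fintype.card_subtype _).symm
      rw [this]
      omega
  have hFconj : ∀ g : G, g • a = a → ∀ x ∈ F, g * x * g⁻¹ ∈ F := by
    intro g hga x hx
    obtain ⟨hxa, hx'⟩ := (memF x).mp hx
    rw [memF]
    have hga' : g⁻¹ • a = a := by rw [inv_smul_eq_iff, hga]
    refine ⟨by rw [mul_smul, mul_smul, hga', hxa, hga], ?_⟩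
    rcases hx' with rfl | hx'
    · left; group
    · right
      intro c hc
      have h1 : x • (g⁻¹ • c) = g⁻¹ • c := by
        rw [mul_smul, mul_smul] at hc
        rw [eq_inv_smul_iff]
        exact hc
      have h2' := hx' _ h1
      rw [inv_smul_eq_iff, hga] at h2'
      exact h2'
  have hHconj : ∀ g : G, g • a = a → ∀ x ∈ H, g * x * g⁻¹ ∈ H := by
    intro g hga x hx
    rw [← memHs, hHsF]
    apply hFconj g hga
    rw [← hHsF, memHs]
    exact hx
  refine ⟨claim1, ?_⟩
  apply le_antisymm
  · intro g hg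
    by_contra hga
    have h1 : 1 < Nat.card H := by omega
    obtain ⟨⟨u, hu⟩, hu1⟩ := Subgroup.ne_bot_iff_exists_ne_one.mp
      (H.one_lt_card_iff_ne_bot.mp h1)
    have := claim1 g hga u hu ((hg u).mp hu)
    exact hu1 (Subtype.ext this)
  · intro g hg x
    have hga : g • a = a := MulAction.mem_stabilizer_iff.mp hg
    have hga' : g⁻¹ • a = a := by rw [inv_smul_eq_iff, hga]
    constructor
    · intro hx
      exact hHconj g hga x hx
    · intro hx
      have := hHconj g⁻¹ hga' _ hx
      simpa [mul_assoc] using this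

end Cfsg.Agent.S0878
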