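import Cfsg.Statements.S0879
import Mathlib

set_option autoImplicit false
open Cfsg

namespace Cfsg.Agent.S0879

theorem result {G Ω : Type*} [Group G] [Finite G] [MulAction G Ω] [Fintype Ω] (hZ : Cfsg.IsZassenhausGroup G Ω) {a b : Ω} (hab : a ≠ b) : (∀ g : G, g ∉ Subgroup.normalizer ((MulAction.stabilizer G a ⊓ MulAction.stabilizer G b : Subgroup G) : Set G) → ∀ x ∈ (MulAction.stabilizer G a ⊓ MulAction.stabilizer G b : Subgroup G), g * x * g⁻¹ ∈ (MulAction.stabilizer G a ⊓ MulAction.stabilizer G b : Subgroup G) → x = 1) ∧ ((MulAction.stabilizer G a ⊓ MulAction.stabilizer G b : Subgroup G).subgroupOf (Subgroup.normalizer ((MulAction.stabilizer G a ⊓ MulAction.stabilizer G b : Subgroup G) : Set G))).index = 2 := by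
  classical
  obtain ⟨hfaith, h2, h3, ⟨g0, hg0, a0, b0, hab0, hga0, hgb0⟩, _⟩ := hZ
  set E : Subgroup G := MulAction.stabilizer G a ⊓ MulAction.stabilizer G b with hE
  have memE : ∀ x : G, x ∈ E ↔ x • a = a ∧ x • b = b := by
    intro x
    rw [hE, Subgroup.mem_inf, MulAction.mem_stabilizer_iff, MulAction.mem_stabilizer_iff]
  -- fixed points of nonidentity elements of E
  have hfixE : ∀ x ∈ E, x ≠ 1 → ∀ c : Ω, x • c = c → c = a ∨ c = b := by
    intro x hx hx1 c hc
    by_contra hcon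
    push Not at hcon
    exact hx1 (h3 x a b c hab (Ne.symm hcon.2) (Ne.symm hcon.1) ((memE x).mp hx).1
      ((memE x).mp hx).2 hc)
  -- the predicate: g preserves {a, b}
  let P : G → Prop := fun g => (g • a = a ∧ g • b = b) ∨ (g • a = b ∧ g • b = a)
  have hPinv : ∀ g, P g → P g⁻¹ := by
    rintro g (⟨h1, h2'⟩ | ⟨h1, h2'⟩)
    · left
      exact ⟨by rw [inv_smul_eq_iff, h1], by rw [inv_smul_eq_iff, h2']⟩
    · right
      exact ⟨by rw [inv_smul_eq_iff, h2'], by rw [inv_smul_eq_iff, h1]⟩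
  have hPconj : ∀ g, P g → ∀ x ∈ E, g * x * g⁻¹ ∈ E := by
    intro g hP x hx
    obtain ⟨hxa, hxb⟩ := (memE x).mp hx
    rw [memE]
    rcases hP with ⟨h1, h2'⟩ | ⟨h1, h2'⟩
    · constructor
      · rw [mul_smul, mul_smul, inv_smul_eq_iff.mpr h1.symm, hxa, h1]
      · rw [mul_smul, mul_smul, inv_smul_eq_iff.mpr h2'.symm, hxb, h2']
    · constructor
      · rw [mul_smul, mul_smul, inv_smul_eq_iff.mpr h2'.symm, hxb, h2']
      · rw [mul_smul, mul_smul, inv_smul_eq_iff.mpr h1.symm, hxa, h1]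
  have hPnorm : ∀ g, P g → g ∈ Subgroup.normalizer (E : Set G) := by
    intro g hP x
    constructor
    · intro hx
      exact hPconj g hP x hx
    · intro hx
      have := hPconj g⁻¹ (hPinv g hP) _ hx
      simpa [mul_assoc] using this
  have hconvP : ∀ g : G, ∀ x ∈ E, x ≠ 1 → g * x * g⁻¹ ∈ E → P g := by
    intro g x hx hx1 hy
    obtain ⟨hxa, hxb⟩ := (memE x).mp hx
    have hy1 : g * x * g⁻¹ ≠ 1 := by
      intro h
      apply hx1
      have : x = g⁻¹ * (g * x * g⁻¹) * g := by group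
      rw [this, h]; group
    have hfa : (g * x * g⁻¹) • (g • a) = g • a := by
      rw [mul_smul, mul_smul, inv_smul_smul, hxa]
    have hfb : (g * x * g⁻¹) • (g • b) = g • b := by
      rw [mul_smul, mul_smul, inv_smul_smul, hxb]
    have h1 := hfixE _ hy hy1 _ hfa
    have h2' := hfixE _ hy hy1 _ hfb
    have hne : g • a ≠ g • b := fun h => hab (MulAction.injective g h)
    rcases h1 with h1 | h1 <;> rcases h2' with h2' | h2'
    · exact (hne (h1.trans h2'.symm)).elim
    · exact Or.inl ⟨h1, h2'⟩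
    · exact Or.inr ⟨h1, h2'⟩
    · exact (hne (h1.trans h2'.symm)).elim
  -- E is nontrivial
  have h2iff : ∀ a b c d : Ω, a ≠ b → c ≠ d → ∃ g : G, g • a = c ∧ g • b = d :=
    fun a b c d h h' => MulAction.is_two_pretransitive_iff.mp h2 h h'
  obtain ⟨k, hka, hkb⟩ := h2iff _ _ _ _ hab0 hab
  have hx0E : k * g0 * k⁻¹ ∈ E := by
    rw [memE]
    constructor
    · rw [mul_smul, mul_smul, inv_smul_eq_iff.mpr hka.symm, hga0, hka]
    · rw [mul_smul, mul_smul, inv_smul_eq_iff.mpr hkb.symm, hgb0, hkb]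
  have hx01 : k * g0 * k⁻¹ ≠ 1 := by
    intro h
    apply hg0
    have : g0 = k⁻¹ * (k * g0 * k⁻¹) * k := by group
    rw [this, h]; group
  have hnormP : ∀ g, g ∈ Subgroup.normalizer (E : Set G) → P g := by
    intro g hg
    exact hconvP g _ hx0E hx01 ((hg _).mp hx0E)
  refine ⟨?_, ?_⟩
  · intro g hg x hx hy
    by_contra hx1
    exact hg (hPnorm g (hconvP g x hx hx1 hy))
  · obtain ⟨s, hsa, hsb⟩ := h2iff _ _ _ _ hab (Ne.symm hab)
    have hsP : P s := Or.inr ⟨hsa, hsb⟩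
    rw [Subgroup.index_eq_two_iff]
    refine ⟨⟨s, hPnorm s hsP⟩, ?_⟩
    rintro ⟨g, hg⟩
    rw [Subgroup.mem_subgroupOf, Subgroup.mem_subgroupOf]
    show Xor (g * s ∈ E) (g ∈ E)
    rcases hnormP g hg with ⟨h1, h2'⟩ | ⟨h1, h2'⟩
    · right
      refine ⟨(memE g).mpr ⟨h1, h2'⟩, ?_⟩
      intro h
      have := ((memE _).mp h).1
      rw [mul_smul, hsa, h2'] at this
      exact hab this.symm
    · left
      refine ⟨(memE _).mpr ⟨by rw [mul_smul, hsa, h2'], by rw [mul_smul, hsb, h1]⟩, ?_⟩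
      intro h
      have := ((memE g).mp h).1
      rw [h1] at this
      exact hab this.symm

end Cfsg.Agent.S0879
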