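import Cfsg.Statements.S0893
import Cfsg.Agent.Lib.Helper2_ClassFn
import Cfsg.Agent.Lib.Helper2_CharBasic
import Cfsg.Agent.Lib.Helper2_CharOrtho
import Cfsg.Agent.Lib.Helper2_Clifford
import Cfsg.Agent.Lib.Helper2_CharMore
import Cfsg.Agent.Lib.Helper2_CharNorm
import Cfsg.Agent.Lib.Helper2_CharValues
import Cfsg.Agent.Lib.Helper2_CharComplete
import Cfsg.Agent.Lib.Helper2_CharInd
import Cfsg.Agent.Lib.Helper2_CharTable
import Cfsg.Agent.Lib.Helper2_CharFrob
import Cfsg.Agent.Lib.Helper2_CharDeg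
import Cfsg.Agent.Lib.Helper2_CharSum
import Cfsg.Agent.Lib.Helper2_CharExtra
import Cfsg.Agent.Lib.Helper2_CharCentral
import Cfsg.Agent.Lib.Helper2_PermChar
import Cfsg.Agent.Lib.Helper2_FrobSchur
import Cfsg.Agent.Lib.Helper2_CliffordCorr
import Cfsg.Agent.Lib.Helper2_CharKernel
import Cfsg.Agent.Lib.Helper2_CyclicTI
import Cfsg.Agent.Lib.Helper2_CharGalois
import Cfsg.Agent.Lib.Helper2_CharInt
import Cfsg.Agent.Lib.Helper2_CharBurnside
import Cfsg.Agent.Lib.Helper2_CharCenter
import Cfsg.Agent.Lib.Helper2_Ito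
import Cfsg.Agent.Lib.Helper2_Gallagher
import Cfsg.Agent.Lib.Helper2_Artin
import Cfsg.Agent.Lib.Helper2_MGroup
import Cfsg.Agent.Lib.Helper2_RepEquiv
import Cfsg.Agent.Lib.Helper2_CyclicExt
import Cfsg.Agent.Lib.Helper2_Extraspecial
import Cfsg.Agent.S0154

set_option autoImplicit false
open Cfsg

namespace Cfsg.Agent.S0893

open Cfsg.Agent.Lib.Helper2_ClassFn Cfsg.Agent.Lib.Helper2_CharBasic Cfsg.Agent.Lib.Helper2_CharOrtho Cfsg.Agent.Lib.Helper2_Clifford Cfsg.Agent.Lib.Helper2_CharMore Cfsg.Agent.Lib.Helper2_CharNorm Cfsg.Agent.Lib.Helper2_CharValues Cfsg.Agent.Lib.Helper2_CharComplete Cfsg.Agent.Lib.Helper2_CharInd Cfsg.Agent.Lib.Helper2_CharTable Cfsg.Agent.Lib.Helper2_CharFrob Cfsg.Agent.Lib.Helper2_CharDeg Cfsg.Agent.Lib.Helper2_CharSum Cfsg.Agent.Lib.Helper2_CharExtra Cfsg.Agent.Lib.Helper2_CharCentral Cfsg.Agent.Lib.Helper2_PermChar Cfsg.Agent.Lib.Helper2_FrobSchur Cfsg.Agent.Lib.Helper2_CliffordCorr Cfsg.Agent.Lib.Helper2_CharKernel Cfsg.Agent.Lib.Helper2_CyclicTI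 Cfsg.Agent.Lib.Helper2_CharGalois Cfsg.Agent.Lib.Helper2_CharInt Cfsg.Agent.Lib.Helper2_CharBurnside Cfsg.Agent.Lib.Helper2_CharCenter Cfsg.Agent.Lib.Helper2_Ito Cfsg.Agent.Lib.Helper2_Gallagher Cfsg.Agent.Lib.Helper2_Artin Cfsg.Agent.Lib.Helper2_MGroup Cfsg.Agent.Lib.Helper2_RepEquiv Cfsg.Agent.Lib.Helper2_CyclicExt Cfsg.Agent.Lib.Helper2_Extraspecial
open scoped Pointwise
open scoped ComplexConjugate

/-- A character vanishing at the identity is zero. -/
theorem eq_zero_of_apply_one {G : Type*} [Group G] {φ : G → ℂ} (h : IsCharacter G φ)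
    (h1 : φ 1 = 0) : φ = 0 := by
  obtain ⟨m, ρ, rfl⟩ := h
  rw [Representation.char_one] at h1
  simp only [Module.finrank_fintype_fun_eq_card, Fintype.card_fin] at h1
  have hm : m = 0 := by exact_mod_cast h1
  subst hm
  ext g
  have : ρ g = 0 := Subsingleton.elim _ _
  simp [Representation.character, this]

/-- A character of degree one is multiplicative. -/
theorem mul_of_isCharacter_one {G : Type*} [Group G] {φ : G → ℂ} (h : IsCharacter G φ)
    (h1 : φ 1 = 1) (a b : G) : φ (a * b) = φ a * φ b := by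
  obtain ⟨m, ρ, rfl⟩ := h
  rw [Representation.char_one] at h1
  simp only [Module.finrank_fintype_fun_eq_card, Fintype.card_fin] at h1
  have hm : m = 1 := by exact_mod_cast h1
  subst hm
  exact Cfsg.Agent.S0154.mul_of_degree_one ρ a b


/-- Let P be an extraspecial p-group of order p ^ (2 * n + 1), A an abelian subgroup of order p ^ (n + 1), and λ a character of A of degree 1 that is not identically 1 on the elements of A lying in the centre of P. Then the function induced from λ to P is an irreducible character of P and vanishes at every element outside the centre. -/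
theorem result {P : Type*} [Group P] [Fintype P] (p n : ℕ) [Fact p.Prime] (hP : Cfsg.IsExtraspecial p P) (hcard : Nat.card P = p ^ (2 * n + 1)) (A : Subgroup P) (hab : ∀ a ∈ A, ∀ b ∈ A, a * b = b * a) (hA : Nat.card A = p ^ (n + 1)) (lam : A → ℂ) (hlam : Cfsg.IsCharacter A lam ∧ lam 1 = 1) (hZ : ∃ a : A, (a : P) ∈ Subgroup.center P ∧ lam a ≠ 1) : Cfsg.IsIrrCharacter P (Cfsg.indFun A lam) ∧ ∀ x : P, x ∉ Subgroup.center P → Cfsg.indFun A lam x = 0 := by
  classical
  have hp : p.Prime := Fact.out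
  haveI : Fintype A := Fintype.ofFinite _
  obtain ⟨a₀, ha₀Z, ha₀⟩ := hZ
  have hmul := mul_of_isCharacter_one hlam.1 hlam.2
  set ψ := Cfsg.indFun A lam with hψ
  have hψc : IsCharacter P ψ := IsCharacter.indFun hlam.1
  have hidx : A.index = p ^ n := by
    have h1 := Subgroup.card_mul_index A
    rw [hA, hcard] at h1
    have : p ^ (n + 1) * A.index = p ^ (n + 1) * p ^ n := by rw [h1]; ring
    exact Nat.eq_of_mul_eq_mul_left (pow_pos hp.pos _) this
  have hψ1 : ψ 1 = (p : ℂ) ^ n := by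
    rw [hψ, indFun_one, hlam.2, mul_one, hidx]
    push_cast; rfl
  have hψne : ψ ≠ 0 := by
    intro h
    rw [h] at hψ1
    simp only [Pi.zero_apply] at hψ1
    exact (pow_ne_zero n (by exact_mod_cast hp.ne_zero : (p : ℂ) ≠ 0)) hψ1.symm
  obtain ⟨χ, hχ, k, hk0, hk⟩ := IsCharacter.exists_constituent hψc hψne
  have hχcf := IsCharacter.isClassFunction (IsIrrCharacter.isCharacter hχ)
  have hfrob := frobenius_reciprocity A lam χ hχcf
  rw [← hψ, hk, classInner_def] at hfrob
  have hχ1 := IsIrrCharacter.apply_one_ne_zero hχ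
  -- the key relation
  have hkey : χ (a₀ : P) ≠ χ 1 := by
    intro heq
    apply ha₀
    set S := ∑ a : A, lam a * conj (χ a) with hS
    have hS0 : S ≠ 0 := by
      intro h0
      rw [h0, mul_zero] at hfrob
      have : (k : ℂ) ≠ 0 := by exact_mod_cast hk0.ne'
      exact this hfrob
    have h1 : S = lam a₀ * S := by
      have h0 : S = ∑ a : A, lam (a₀ * a) * conj (χ ((a₀ * a : A) : P)) := by
        rw [hS]
        exact (Equiv.sum_comp (Equiv.mulLeft a₀) (fun a : A => lam a * conj (χ a))).symm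
      refine h0.trans ?_
      rw [hS, Finset.mul_sum]
      refine Finset.sum_congr rfl fun a _ => ?_
      have h2 := apply_central_mul hχ (a₀ : P)
        (fun g => (Subgroup.mem_center_iff.mp ha₀Z g).symm) (a : P)
      rw [hmul, Subgroup.coe_mul, h2, heq]
      field_simp
    have h3 : (lam a₀ - 1) * S = 0 := by rw [sub_mul, one_mul, ← h1, sub_self]
    rcases mul_eq_zero.mp h3 with h | h
    · exact sub_eq_zero.mp h
    · exact absurd h hS0
  have hdeg := degree_of_central_ne p hP n hcard hχ (a₀ : P) ha₀Z hkey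
  have hvan := vanish_off_center p hP hχ (a₀ : P) ha₀Z hkey
  -- ψ = χ
  have hsub : IsCharacter P (ψ - χ) := IsCharacter.sub_constituent hψc hχ (by
    rw [hk]; exact_mod_cast hk0.ne')
  have hzero : ψ - χ = 0 := by
    apply eq_zero_of_apply_one hsub
    rw [Pi.sub_apply, hψ1, hdeg, sub_self]
  have heq : ψ = χ := sub_eq_zero.mp hzero
  rw [heq]
  exact ⟨hχ, hvan⟩

end Cfsg.Agent.S0893
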