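import Cfsg.Statements.S0900
import Cfsg.Agent.Lib.Helper2_ClassFn
import Cfsg.Agent.Lib.Helper2_CharBasic
import Cfsg.Agent.Lib.Helper2_CharOrtho
import Cfsg.Agent.Lib.Helper2_Clifford
import Cfsg.Agent.Lib.Helper2_CharMore
import Cfsg.Agent.Lib.Helper2_CharNorm
import Cfsg.Agent.Lib.Helper2_CharValues
import Cfsg.Agent.Lib.Helper2_CharComplete
import Cfsg.Agent.Lib.Helper2_CharInd
import Cfsg.Agent.Lib.Helper2_CharTable
import Cfsg.Agent.Lib.Helper2_CharFrob
import Cfsg.Agent.Lib.Helper2_CharDeg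
import Cfsg.Agent.Lib.Helper2_CharSum
import Cfsg.Agent.Lib.Helper2_CharExtra
import Cfsg.Agent.Lib.Helper2_CharCentral
import Cfsg.Agent.Lib.Helper2_PermChar
import Cfsg.Agent.Lib.Helper2_FrobSchur
import Cfsg.Agent.Lib.Helper2_CliffordCorr
import Cfsg.Agent.Lib.Helper2_CharKernel
import Cfsg.Agent.Lib.Helper2_CyclicTI
import Cfsg.Agent.Lib.Helper2_CharGalois
import Cfsg.Agent.Lib.Helper2_CharInt
import Cfsg.Agent.Lib.Helper2_CharBurnside
import Cfsg.Agent.Lib.Helper2_CharCenter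
import Cfsg.Agent.Lib.Helper2_Ito

set_option autoImplicit false
open Cfsg

namespace Cfsg.Agent.S0900

open Cfsg.Agent.Lib.Helper2_ClassFn Cfsg.Agent.Lib.Helper2_CharBasic Cfsg.Agent.Lib.Helper2_CharOrtho Cfsg.Agent.Lib.Helper2_Clifford Cfsg.Agent.Lib.Helper2_CharMore Cfsg.Agent.Lib.Helper2_CharNorm Cfsg.Agent.Lib.Helper2_CharValues Cfsg.Agent.Lib.Helper2_CharComplete Cfsg.Agent.Lib.Helper2_CharInd Cfsg.Agent.Lib.Helper2_CharTable Cfsg.Agent.Lib.Helper2_CharFrob Cfsg.Agent.Lib.Helper2_CharDeg Cfsg.Agent.Lib.Helper2_CharSum Cfsg.Agent.Lib.Helper2_CharExtra Cfsg.Agent.Lib.Helper2_CharCentral Cfsg.Agent.Lib.Helper2_PermChar Cfsg.Agent.Lib.Helper2_FrobSchur Cfsg.Agent.Lib.Helper2_CliffordCorr Cfsg.Agent.Lib.Helper2_CharKernel Cfsg.Agent.Lib.Helper2_CyclicTI Cfsg.Agent.Lib.Helper2_CharGalois Cfsg.Agent.Lib.Helper2_CharInt Cfsg.Agent.Lib.Helper2_CharBurnside Cfsg.Agent.Lib.Helper2_CharCenter Cfsg.Agent.Lib.Helper2_Ito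
open scoped Pointwise
section Aux

variable {G : Type*} [Group G] [Fintype G] (N : Subgroup G) [hN : N.Normal] [Fintype N]

/-- For invariant `ϑ`, the restriction of `χ` is a natural multiple of `ϑ`. -/
theorem res_of_inv {χ : G → ℂ} (hχ : IsIrrCharacter G χ) {ϑ : N → ℂ} (hϑ : IsIrrCharacter N ϑ)
    (hcon : classInner (fun n : N => χ n) ϑ ≠ 0)
    (hinv : ∀ (g : G) (n : N), ϑ ⟨g * n * g⁻¹, hN.conj_mem (n : G) n.2 g⟩ = ϑ n) :
    ∃ e : ℕ, e ≠ 0 ∧ (fun n : N => χ n) = (e : ℂ) • ϑ := by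
  have hinv' : ∀ g : G, conjFn N ϑ g = ϑ := by
    intro g; ext n; exact hinv g n
  have h1 := restrict_eq_smul_of_invariant N hχ hϑ hinv' hcon
  obtain ⟨e, he⟩ := IsCharacter.classInner_irr_nat
    (IsCharacter.restrict (IsIrrCharacter.isCharacter hχ) N) hϑ
  refine ⟨e, ?_, ?_⟩
  · intro h0
    apply hcon
    rw [he, h0]; simp
  · rw [← he]; exact h1

/-- For invariant `ϑ`, the induced function restricts to `[G:N] ϑ`. -/
theorem ind_res_of_inv {ϑ : N → ℂ}
    (hinv : ∀ (g : G) (n : N), ϑ ⟨g * n * g⁻¹, hN.conj_mem (n : G) n.2 g⟩ = ϑ n) :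
    (fun n : N => indFun N ϑ n) = (N.index : ℂ) • ϑ := by
  have hinv' : ∀ g : G, conjFn N ϑ g = ϑ := by
    intro g; ext n; exact hinv g n
  rw [restrict_indFun_normal]
  simp only [hinv', Finset.sum_const, Finset.card_univ]
  have hc : (Fintype.card G : ℂ) = (Nat.card N : ℂ) * (N.index : ℂ) := by
    rw [← Nat.card_eq_fintype_card, ← N.card_mul_index]; push_cast; ring
  ext n
  show (Nat.card N : ℂ)⁻¹ * ((Fintype.card G) • ϑ n) = N.index * ϑ n
  rw [nsmul_eq_mul, hc]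
  have := card_subgroup_ne_zero N
  field_simp

/-- Inner product of the induced function with itself, for invariant `ϑ`. -/
theorem ind_inner_self {ϑ : N → ℂ} (hϑ : IsIrrCharacter N ϑ)
    (hinv : ∀ (g : G) (n : N), ϑ ⟨g * n * g⁻¹, hN.conj_mem (n : G) n.2 g⟩ = ϑ n) :
    classInner (indFun N ϑ) (indFun N ϑ) = (N.index : ℂ) := by
  rw [frobenius_reciprocity N ϑ _ (indFun_isClassFunction N ϑ), ind_res_of_inv N hinv,
    classInner_smul_right, classInner_irr_self hϑ]
  simp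

theorem ind_inner_chi {χ : G → ℂ} (hχ : IsIrrCharacter G χ) {ϑ : N → ℂ}
    (hϑ : IsIrrCharacter N ϑ) (e : ℕ) (he : (fun n : N => χ n) = (e : ℂ) • ϑ) :
    classInner (indFun N ϑ) χ = e := by
  rw [frobenius_reciprocity N ϑ χ (IsCharacter.isClassFunction (IsIrrCharacter.isCharacter hχ)),
    he, classInner_smul_right, classInner_irr_self hϑ]
  simp

open Classical in
/-- splitting the norm sum -/
theorem sum_norm_split (χ : G → ℂ) :
    ∑ g : G, ‖χ g‖ ^ 2 = ∑ n : N, ‖χ n‖ ^ 2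
      + ∑ g ∈ Finset.univ.filter (fun g : G => g ∉ N), ‖χ g‖ ^ 2 := by
  rw [← Finset.sum_filter_add_sum_filter_not Finset.univ (fun g : G => g ∈ N)]
  congr 1
  rw [← Finset.sum_subtype (Finset.univ.filter (fun g : G => g ∈ N)) (p := fun g => g ∈ N)
    (by intro x; simp) (fun g => ‖χ g‖ ^ 2)]

theorem sum_norm_res {χ : G → ℂ} {ϑ : N → ℂ} (hϑ : IsIrrCharacter N ϑ) (e : ℕ)
    (he : (fun n : N => χ n) = (e : ℂ) • ϑ) :
    ∑ n : N, ‖χ n‖ ^ 2 = (e : ℝ) ^ 2 * (Nat.card N : ℝ) := by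
  have h1 : ∀ n : N, ‖χ n‖ ^ 2 = (e : ℝ) ^ 2 * ‖ϑ n‖ ^ 2 := by
    intro n
    have := congrFun he n
    simp only [Pi.smul_apply, smul_eq_mul] at this
    rw [this, norm_mul, Complex.norm_natCast, mul_pow]
  rw [Finset.sum_congr rfl (fun n _ => h1 n), ← Finset.mul_sum, sum_norm_sq_eq_card hϑ]

end Aux


/-- Let N be a normal subgroup of the finite group G, χ an irreducible character of G and ϑ an irreducible character of N having nonzero inner product with the restriction of χ. Consider: (a) the restriction of χ to N is e • ϑ for a natural number e with e ^ 2 equal to the index of N; (b) χ vanishes outside N and ϑ is invariant under conjugation by G; (c) ϑ is invariant and every irreducible character of G having nonzero inner product with the function induced from ϑ equals χ. Then (a) ↔ (b) and (a) ↔ (c). -/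
theorem result {G : Type*} [Group G] [Fintype G] (N : Subgroup G) [hN : N.Normal] [Fintype N] (χ : G → ℂ) (hχ : Cfsg.IsIrrCharacter G χ) (ϑ : N → ℂ) (hϑ : Cfsg.IsIrrCharacter N ϑ) (hcon : Cfsg.classInner (fun n : N => χ n) ϑ ≠ 0) : ((∃ e : ℕ, (fun n : N => χ n) = (e : ℂ) • ϑ ∧ e ^ 2 = N.index) ↔ ((∀ g : G, g ∉ N → χ g = 0) ∧ ∀ (g : G) (n : N), ϑ ⟨g * n * g⁻¹, hN.conj_mem (n : G) n.2 g⟩ = ϑ n)) ∧ ((∃ e : ℕ, (fun n : N => χ n) = (e : ℂ) • ϑ ∧ e ^ 2 = N.index) ↔ (∀ (g : G) (n : N), ϑ ⟨g * n * g⁻¹, hN.conj_mem (n : G) n.2 g⟩ = ϑ n ∧ ∀ ψ : G → ℂ, Cfsg.IsIrrCharacter G ψ → Cfsg.classInner (Cfsg.indFun N ϑ) ψ ≠ 0 → ψ = χ)) := by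
  classical
  have hχc := IsIrrCharacter.isCharacter hχ
  have hχcf := IsCharacter.isClassFunction hχc
  have hNpos : (0 : ℝ) < Nat.card N := by exact_mod_cast Nat.card_pos
  have hcard : (Nat.card G : ℝ) = (Nat.card N : ℝ) * (N.index : ℝ) := by
    rw [← N.card_mul_index]; push_cast; ring
  -- (a) → invariance
  have ha_inv : (∃ e : ℕ, (fun n : N => χ n) = (e : ℂ) • ϑ ∧ e ^ 2 = N.index) →
      ∀ (g : G) (n : N), ϑ ⟨g * n * g⁻¹, hN.conj_mem (n : G) n.2 g⟩ = ϑ n := by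
    rintro ⟨e, he, he2⟩ g n
    have he0 : (e : ℂ) ≠ 0 := by
      intro h
      have : e = 0 := by exact_mod_cast h
      rw [this] at he2
      exact Subgroup.index_ne_zero_of_finite (H := N) (by rw [← he2]; simp)
    have h1 := congrFun he ⟨g * n * g⁻¹, hN.conj_mem (n : G) n.2 g⟩
    have h2 := congrFun he n
    simp only [Pi.smul_apply, smul_eq_mul] at h1 h2
    rw [hχcf] at h1
    rw [h2] at h1
    exact (mul_left_cancel₀ he0 h1).symm
  refine ⟨⟨?_, ?_⟩, ⟨?_, ?_⟩⟩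
  · -- (a) → (b)
    intro ha
    refine ⟨?_, ha_inv ha⟩
    obtain ⟨e, he, he2⟩ := ha
    have h1 := sum_norm_sq_eq_card hχ
    rw [sum_norm_split N χ, sum_norm_res N hϑ e he, hcard] at h1
    have he2' : (e : ℝ) ^ 2 = (N.index : ℝ) := by exact_mod_cast he2
    rw [he2'] at h1
    have h2 : ∑ g ∈ Finset.univ.filter (fun g : G => g ∉ N), ‖χ g‖ ^ 2 = 0 := by linarith
    intro g hg
    have h3 := (Finset.sum_eq_zero_iff_of_nonneg (fun g _ => sq_nonneg ‖χ g‖)).mp h2 g
      (Finset.mem_filter.mpr ⟨Finset.mem_univ _, hg⟩)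
    have h4 : ‖χ g‖ = 0 := by
      rcases pow_eq_zero_iff (two_ne_zero) |>.mp h3 with h
      exact h
    exact norm_eq_zero.mp h4
  · -- (b) → (a)
    rintro ⟨hvan, hinv⟩
    obtain ⟨e, he0, he⟩ := res_of_inv N hχ hϑ hcon hinv
    refine ⟨e, he, ?_⟩
    have h1 := sum_norm_sq_eq_card hχ
    rw [sum_norm_split N χ, sum_norm_res N hϑ e he, hcard] at h1
    have h2 : ∑ g ∈ Finset.univ.filter (fun g : G => g ∉ N), ‖χ g‖ ^ 2 = 0 := by
      apply Finset.sum_eq_zero
      intro g hg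
      rw [hvan g (Finset.mem_filter.mp hg).2]; simp
    rw [h2, add_zero, mul_comm] at h1
    have h3 : (e : ℝ) ^ 2 = (N.index : ℝ) := mul_left_cancel₀ hNpos.ne' h1
    exact_mod_cast h3
  · -- (a) → (c)
    intro ha
    have hinv := ha_inv ha
    obtain ⟨e, he, he2⟩ := ha
    intro g n
    refine ⟨hinv g n, ?_⟩
    intro ψ hψ hψne
    -- `Φ = e χ`
    have h1 := ind_inner_self N hϑ hinv
    have h2 := ind_inner_chi N hχ hϑ e he
    have he2' : (N.index : ℂ) = (e : ℂ) ^ 2 := by exact_mod_cast he2.symm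
    have h3 : classInner (indFun N ϑ - (e : ℂ) • χ) (indFun N ϑ - (e : ℂ) • χ) = 0 := by
      rw [classInner_sub_left, classInner_sub_right, classInner_sub_right, h1,
        classInner_smul_right, classInner_smul_left, classInner_smul_left, classInner_smul_right,
        h2, classInner_irr_self hχ, he2']
      have h4 : classInner χ (indFun N ϑ) = e := by
        rw [← classInner_conj_symm, h2]; simp
      rw [h4]
      simp only [Complex.conj_natCast]
      ring
    have h5 : indFun N ϑ = (e : ℂ) • χ := sub_eq_zero.mp (classInner_self_eq_zero.mp h3)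
    rw [h5, classInner_smul_left] at hψne
    by_contra hne
    apply hψne
    rw [classInner_irr_of_ne hχ hψ (fun h => hne h.symm), mul_zero]
  · -- (c) → (a)
    intro hc
    have hinv : ∀ (g : G) (n : N), ϑ ⟨g * n * g⁻¹, hN.conj_mem (n : G) n.2 g⟩ = ϑ n :=
      fun g n => (hc g n).1
    have honly : ∀ ψ : G → ℂ, IsIrrCharacter G ψ → classInner (indFun N ϑ) ψ ≠ 0 → ψ = χ :=
      (hc 1 1).2
    obtain ⟨e, he0, he⟩ := res_of_inv N hχ hϑ hcon hinv
    refine ⟨e, he, ?_⟩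
    have h1 := ind_inner_self N hϑ hinv
    have h2 := ind_inner_chi N hχ hϑ e he
    have hΦ : IsCharacter G (indFun N ϑ) := IsCharacter.indFun (IsIrrCharacter.isCharacter hϑ)
    have hexp := expansion_of_mem_span (IsCharacter.mem_span hΦ)
    have h3 : indFun N ϑ = (e : ℂ) • χ := by
      rw [hexp, Finset.sum_eq_single χ]
      · rw [h2]
      · intro ψ hψ hne
        have : classInner (indFun N ϑ) ψ = 0 := by
          by_contra h0
          exact hne (honly ψ (mem_irrFinset.mp hψ) h0)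
        rw [this, zero_smul]
      · intro h
        exact absurd (mem_irrFinset.mpr hχ) h
    rw [h3, classInner_smul_left, classInner_smul_right, classInner_irr_self hχ] at h1
    simp only [Complex.conj_natCast, mul_one] at h1
    have : ((e ^ 2 : ℕ) : ℂ) = (N.index : ℂ) := by
      rw [← h1]; push_cast; ring
    exact_mod_cast this

end Cfsg.Agent.S0900
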