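import Cfsg.Statements.S0901
import Cfsg.Agent.Lib.Helper2_ClassFn
import Cfsg.Agent.Lib.Helper2_CharBasic
import Cfsg.Agent.Lib.Helper2_CharOrtho
import Cfsg.Agent.Lib.Helper2_Clifford
import Cfsg.Agent.Lib.Helper2_CharMore
import Cfsg.Agent.Lib.Helper2_CharNorm
import Cfsg.Agent.Lib.Helper2_CharValues
import Cfsg.Agent.Lib.Helper2_CharComplete
import Cfsg.Agent.Lib.Helper2_CharInd
import Cfsg.Agent.Lib.Helper2_CharTable
import Cfsg.Agent.Lib.Helper2_CharFrob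
import Cfsg.Agent.Lib.Helper2_CharDeg
import Cfsg.Agent.Lib.Helper2_CharSum
import Cfsg.Agent.Lib.Helper2_CharExtra
import Cfsg.Agent.Lib.Helper2_CharCentral
import Cfsg.Agent.Lib.Helper2_PermChar
import Cfsg.Agent.Lib.Helper2_FrobSchur
import Cfsg.Agent.Lib.Helper2_CliffordCorr
import Cfsg.Agent.Lib.Helper2_CharKernel
import Cfsg.Agent.Lib.Helper2_CyclicTI
import Cfsg.Agent.Lib.Helper2_CharGalois
import Cfsg.Agent.Lib.Helper2_CharInt
import Cfsg.Agent.Lib.Helper2_CharBurnside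
import Cfsg.Agent.Lib.Helper2_CharCenter
import Cfsg.Agent.Lib.Helper2_Ito
import Cfsg.Agent.Lib.Helper2_Gallagher
import Cfsg.Agent.Lib.Helper2_Artin
import Cfsg.Agent.Lib.Helper2_MGroup
import Cfsg.Agent.Lib.Helper2_RepEquiv
import Cfsg.Agent.Lib.Helper2_CyclicExt
import Cfsg.Agent.Lib.Helper2_Extraspecial
import Cfsg.Agent.Lib.Helper2_ProjLift
import Cfsg.Agent.Lib.Helper2_CentralExt
import Cfsg.Agent.Lib.Helper2_SylowExt
import Cfsg.Agent.Lib.Helper2_DetChar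
import Cfsg.Agent.Lib.Helper2_LinExt
import Cfsg.Agent.Lib.Helper2_DetExt
import Cfsg.Agent.Lib.Helper2_GallagherExt
import Cfsg.Agent.Lib.Helper2_PermInd
import Cfsg.Agent.Lib.Helper2_QuasiElem
import Cfsg.Agent.Lib.Helper2_BrauerInd
import Cfsg.Agent.Lib.Helper2_BrauerThm
import Cfsg.Agent.Lib.Helper2_NilDecomp
import Cfsg.Agent.Lib.Helper2_DefectZero
import Cfsg.Agent.Lib.Helper2_CharGalois2
import Cfsg.Agent.Lib.Helper2_CosetAvg
import Cfsg.Agent.Lib.Helper2_Thompson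
import Cfsg.Agent.Lib.Helper2_ItoSolv
import Cfsg.Agent.Lib.Helper2_ItoPSolv
import Cfsg.Agent.Lib.Helper2_GaloisConj
import Cfsg.Agent.Lib.Helper2_AbelInertia
import Cfsg.Agent.Lib.Helper2_Gagola
import Cfsg.Agent.Lib.Helper2_GoingDown
import Cfsg.Agent.Lib.Helper2_RelMGroup
import Cfsg.Agent.Lib.Helper2_Gagola2
import Cfsg.Agent.Lib.Helper2_Gagola3
import Cfsg.Agent.Lib.Helper2_Dade
import Cfsg.Agent.Lib.Helper2_PiSection
import Cfsg.Agent.Lib.Helper2_ModM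
import Cfsg.Agent.Lib.Helper2_HallCompl
import Cfsg.Agent.Lib.Helper2_PRegular
import Cfsg.Agent.Lib.Helper2_SelfCent
import Cfsg.Agent.Lib.Helper2_Blocks
import Cfsg.Agent.Lib.Helper2_BlockOrtho
import Cfsg.Agent.Lib.Helper2_BlockRank
import Cfsg.Agent.Lib.Helper2_BlockMore
import Cfsg.Agent.Lib.Helper2_BlockNormal
import Cfsg.Agent.Lib.Helper2_BlockKer
import Cfsg.Agent.Lib.Helper2_BlockIndep
import Cfsg.Agent.Lib.Helper2_DefectGroup
import Cfsg.Agent.Lib.Helper2_DefectPCore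
import Cfsg.Agent.Lib.Helper2_MinMax
import Cfsg.Agent.Lib.Helper2_InducedBlock
import Cfsg.Agent.Lib.Helper2_BrauerMap
import Cfsg.Agent.Lib.Helper2_InducedDefect
import Cfsg.Agent.Lib.Helper2_BrauerFirst
import Cfsg.Agent.Lib.Helper2_BlockCover
import Cfsg.Agent.Lib.Helper2_BlockConj
import Cfsg.Agent.Lib.Helper2_BrauerConverse

set_option autoImplicit false
open Cfsg

namespace Cfsg.Agent.S0901

open Cfsg.Agent.Lib.Helper2_ClassFn Cfsg.Agent.Lib.Helper2_CharBasic Cfsg.Agent.Lib.Helper2_CharOrtho Cfsg.Agent.Lib.Helper2_Clifford Cfsg.Agent.Lib.Helper2_CharMore Cfsg.Agent.Lib.Helper2_CharNorm Cfsg.Agent.Lib.Helper2_CharValues Cfsg.Agent.Lib.Helper2_CharComplete Cfsg.Agent.Lib.Helper2_CharInd Cfsg.Agent.Lib.Helper2_CharTable Cfsg.Agent.Lib.Helper2_CharFrob Cfsg.Agent.Lib.Helper2_CharDeg Cfsg.Agent.Lib.Helper2_CharSum Cfsg.Agent.Lib.Helper2_CharExtra Cfsg.Agent.Lib.Helper2_CharCentral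 Cfsg.Agent.Lib.Helper2_PermChar Cfsg.Agent.Lib.Helper2_FrobSchur Cfsg.Agent.Lib.Helper2_CliffordCorr Cfsg.Agent.Lib.Helper2_CharKernel Cfsg.Agent.Lib.Helper2_CyclicTI Cfsg.Agent.Lib.Helper2_CharGalois Cfsg.Agent.Lib.Helper2_CharInt Cfsg.Agent.Lib.Helper2_CharBurnside Cfsg.Agent.Lib.Helper2_CharCenter Cfsg.Agent.Lib.Helper2_Ito Cfsg.Agent.Lib.Helper2_Gallagher Cfsg.Agent.Lib.Helper2_Artin Cfsg.Agent.Lib.Helper2_MGroup Cfsg.Agent.Lib.Helper2_RepEquiv Cfsg.Agent.Lib.Helper2_CyclicExt Cfsg.Agent.Lib.Helper2_Extraspecial Cfsg.Agent.Lib.Helper2_ProjLift Cfsg.Agent.Lib.Helper2_CentralExt Cfsg.Agent.Lib.Helper2_SylowExt Cfsg.Agent.Lib.Helper2_DetChar Cfsg.Agent.Lib.Helper2_LinExt Cfsg.Agent.Lib.Helper2_DetExt Cfsg.Agent.Lib.Helper2_GallagherExt Cfsg.Agent.Lib.Helper2_PermInd Cfsg.Agent.Lib.Helper2_QuasiElem Cfsg.Agent.Lib.Helper2_BrauerInd Cfsg.Agent.Lib.Helper2_BrauerThm Cfsg.Agent.Lib.Helper2_NilDecomp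 Cfsg.Agent.Lib.Helper2_DefectZero Cfsg.Agent.Lib.Helper2_CharGalois2 Cfsg.Agent.Lib.Helper2_CosetAvg Cfsg.Agent.Lib.Helper2_Thompson Cfsg.Agent.Lib.Helper2_ItoSolv Cfsg.Agent.Lib.Helper2_ItoPSolv Cfsg.Agent.Lib.Helper2_GaloisConj Cfsg.Agent.Lib.Helper2_AbelInertia Cfsg.Agent.Lib.Helper2_Gagola Cfsg.Agent.Lib.Helper2_GoingDown Cfsg.Agent.Lib.Helper2_RelMGroup Cfsg.Agent.Lib.Helper2_Gagola2 Cfsg.Agent.Lib.Helper2_Gagola3 Cfsg.Agent.Lib.Helper2_Dade Cfsg.Agent.Lib.Helper2_PiSection Cfsg.Agent.Lib.Helper2_ModM Cfsg.Agent.Lib.Helper2_HallCompl Cfsg.Agent.Lib.Helper2_PRegular Cfsg.Agent.Lib.Helper2_SelfCent Cfsg.Agent.Lib.Helper2_Blocks Cfsg.Agent.Lib.Helper2_BlockOrtho Cfsg.Agent.Lib.Helper2_BlockRank Cfsg.Agent.Lib.Helper2_BlockMore Cfsg.Agent.Lib.Helper2_BlockNormal Cfsg.Agent.Lib.Helper2_BlockKer Cfsg.Agent.Lib.Helper2_BlockIndep Cfsg.Agent.Lib.Helper2_DefectGroup Cfsg.Agent.Lib.Helper2_DefectPCore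 Cfsg.Agent.Lib.Helper2_MinMax Cfsg.Agent.Lib.Helper2_InducedBlock Cfsg.Agent.Lib.Helper2_BrauerMap Cfsg.Agent.Lib.Helper2_InducedDefect Cfsg.Agent.Lib.Helper2_BrauerFirst Cfsg.Agent.Lib.Helper2_BlockCover Cfsg.Agent.Lib.Helper2_BlockConj Cfsg.Agent.Lib.Helper2_BrauerConverse
open scoped Pointwise
open Cfsg Polynomial

theorem nat_not_mem {p : ℕ} {M : Ideal AlgInt} (hM : IsPModular p M) (n : ℕ)
    (hn : n.Coprime p) : (n : AlgInt) ∉ M := by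
  intro h2
  have hone : (1 : AlgInt) ∈ M := by
    have hbez := Nat.gcd_eq_gcd_ab n p
    rw [Nat.Coprime.gcd_eq_one hn] at hbez
    have hbez' : (1 : AlgInt) = (n : AlgInt) * ((n.gcdA p : ℤ) : AlgInt) +
        (p : AlgInt) * ((n.gcdB p : ℤ) : AlgInt) := by
      have := congrArg (fun z : ℤ => (z : AlgInt)) hbez
      simpa using this
    rw [hbez']
    exact M.add_mem (M.mul_mem_right _ h2) (M.mul_mem_right _ hM.2.2)
  exact one_not_mem hM.2.1 hone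

theorem part1 {p : ℕ} {M : Ideal AlgInt} (hM : IsPModular p M) (ε₁ ε₂ : AlgInt) (m₁ m₂ : ℕ)
    (h1 : ¬ p ∣ m₁) (e1 : (ε₁ : ℂ) ^ m₁ = 1) (h2 : ¬ p ∣ m₂) (e2 : (ε₂ : ℂ) ^ m₂ = 1)
    (hmem : ε₁ - ε₂ ∈ M) : ε₁ = ε₂ := by
  by_contra hne
  set m := m₁ * m₂ with hmdef
  have hm : ¬ p ∣ m := (Nat.Prime.dvd_mul hM.1).not.mpr (not_or.mpr ⟨h1, h2⟩)
  have e1' : ε₁ ^ m = 1 := Subtype.ext (by push_cast; rw [hmdef, pow_mul, e1, one_pow])
  have e2' : ε₂ ^ m = 1 :=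
    Subtype.ext (by push_cast; rw [hmdef, mul_comm, pow_mul, e2, one_pow])
  have hmpos : 0 < m := Nat.pos_of_ne_zero (fun h => hm (h ▸ dvd_zero p))
  set η := ε₁ * ε₂ ^ (m - 1) with hη
  have hε₂ : ε₂ * ε₂ ^ (m - 1) = 1 := by
    rw [← pow_succ', Nat.sub_add_cancel hmpos, e2']
  have hηm : η ^ m = 1 := by
    rw [hη, mul_pow, e1', one_mul, ← pow_mul, mul_comm, pow_mul, e2', one_pow]
  have hη1 : η ≠ 1 := by
    intro h
    apply hne
    calc ε₁ = ε₁ * (ε₂ * ε₂ ^ (m - 1)) := by rw [hε₂, mul_one]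
      _ = (ε₁ * ε₂ ^ (m - 1)) * ε₂ := by ring
      _ = ε₂ := by rw [← hη, h, one_mul]
  have hηM : η - 1 ∈ M := by
    have : η - 1 = ε₂ ^ (m - 1) * (ε₁ - ε₂) := by
      rw [mul_sub, mul_comm _ ε₂, hε₂, hη]; ring
    rw [this]; exact M.mul_mem_left _ hmem
  have hS : (∑ j ∈ Finset.range m, η ^ j) = 0 := by
    have := geom_sum_mul η m
    rw [hηm, sub_self] at this
    rcases mul_eq_zero.mp this with h | h
    · exact h
    · exact absurd (sub_eq_zero.mp h) hη1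
  have hmM : (m : AlgInt) ∈ M := by
    have : (m : AlgInt) = ∑ j ∈ Finset.range m, (1 - η ^ j) := by
      rw [Finset.sum_sub_distrib, hS, sub_zero]; simp
    rw [this]
    refine M.sum_mem fun j _ => ?_
    have hd : (1 - η) ∣ (1 - η ^ j) := by
      have := sub_dvd_pow_sub_pow (1 : AlgInt) η j
      rwa [one_pow] at this
    obtain ⟨c, hc⟩ := hd
    rw [hc]
    have h1η : (1 - η) ∈ M := by
      have := M.neg_mem hηM
      rwa [neg_sub] at this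
    exact M.mul_mem_right _ h1η
  have hcop : m.Coprime p := Nat.Coprime.symm ((Nat.Prime.coprime_iff_not_dvd hM.1).mpr hm)
  exact nat_not_mem hM m hcop hmM

theorem exists_pow_eq_one_of_integral {p : ℕ} [hp : Fact p.Prime] {k : Type*} [Field k]
    [CharP k p] (x : k) (hx0 : x ≠ 0) (hint1 : IsIntegral ℤ x) :
    ∃ m : ℕ, 0 < m ∧ ¬ p ∣ m ∧ x ^ m = 1 := by
  have hex : ∃ i j : ℕ, i < j ∧ x ^ i = x ^ j := by
    letI : Algebra (ZMod p) k := ZMod.algebra _ p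
    have hint2 : IsIntegral (ZMod p) x := by
      obtain ⟨f, hf, hfx⟩ := hint1
      refine ⟨f.map (Int.castRingHom (ZMod p)), hf.map _, ?_⟩
      rw [Polynomial.eval₂_map]
      have : (algebraMap (ZMod p) k).comp (Int.castRingHom (ZMod p)) = algebraMap ℤ k :=
        RingHom.ext_int _ _
      rw [this]
      exact hfx
    have hfg := hint2.fg_adjoin_singleton
    haveI : Module.Finite (ZMod p) (Algebra.adjoin (ZMod p) {x}) :=
      Module.Finite.of_fg hfg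
    haveI : Finite (Algebra.adjoin (ZMod p) {x}) := Module.finite_of_finite (ZMod p)
    have hxmem : x ∈ Algebra.adjoin (ZMod p) {x} := Algebra.self_mem_adjoin_singleton (ZMod p) x
    have hninj : ¬ Function.Injective
        (fun i : ℕ => (⟨x ^ i, Subalgebra.pow_mem _ hxmem i⟩ :
          Algebra.adjoin (ZMod p) {x})) := not_injective_infinite_finite _
    unfold Function.Injective at hninj
    push Not at hninj
    obtain ⟨i, j, hij, hne⟩ := hninj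
    have hij' : x ^ i = x ^ j := congrArg Subtype.val hij
    rcases lt_or_gt_of_ne hne with h | h
    · exact ⟨i, j, h, hij'⟩
    · exact ⟨j, i, h, hij'.symm⟩
  obtain ⟨i, j, hij, hpow⟩ := hex
  have hs : x ^ (j - i) = 1 := by
    have h1 : x ^ i * x ^ (j - i) = x ^ i * 1 := by
      rw [← pow_add, Nat.add_sub_cancel' hij.le, mul_one, hpow]
    exact mul_left_cancel₀ (pow_ne_zero i hx0) h1
  have hs0 : j - i ≠ 0 := by omega
  obtain ⟨e, m, hpm, hsm⟩ := Nat.exists_eq_pow_mul_and_not_dvd hs0 p hp.out.one_lt.ne'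
  have hm0 : 0 < m := Nat.pos_of_ne_zero (fun h => hpm (h ▸ dvd_zero p))
  refine ⟨m, hm0, hpm, ?_⟩
  have h2 : (x ^ m - 1) ^ (p ^ e) = 0 := by
    rw [sub_pow_char_pow, one_pow, ← pow_mul, mul_comm, ← hsm, hs, sub_self]
  have h3 : x ^ m - 1 = 0 := (pow_eq_zero_iff (pow_pos hp.out.pos e).ne').mp h2
  exact sub_eq_zero.mp h3

theorem exists_pow_sub_one_mem {p : ℕ} [hp : Fact p.Prime] {M : Ideal AlgInt}
    (hM : IsPModular p M) (a : AlgInt) (ha : a ∉ M) :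
    ∃ m : ℕ, 0 < m ∧ ¬ p ∣ m ∧ a ^ m - 1 ∈ M := by
  haveI := hM.2.1
  letI : Field (AlgInt ⧸ M) := Ideal.Quotient.field M
  have hp0 : ((p : ℕ) : AlgInt ⧸ M) = 0 := by
    have := Ideal.Quotient.eq_zero_iff_mem.mpr hM.2.2
    simpa using this
  haveI : CharP (AlgInt ⧸ M) p := (CharP.charP_iff_prime_eq_zero hM.1).mpr hp0
  have hā0 : Ideal.Quotient.mk M a ≠ 0 := fun h => ha (Ideal.Quotient.eq_zero_iff_mem.mp h)
  have hint0 : IsIntegral ℤ a := Algebra.IsIntegral.isIntegral a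
  have hint1 : IsIntegral ℤ (Ideal.Quotient.mk M a) := by
    obtain ⟨f, hf, hfa⟩ := hint0
    refine ⟨f, hf, ?_⟩
    have h1 : (algebraMap ℤ (AlgInt ⧸ M)) = (Ideal.Quotient.mk M).comp (algebraMap ℤ AlgInt) :=
      RingHom.ext_int _ _
    rw [h1, ← Polynomial.hom_eval₂, hfa, map_zero]
  obtain ⟨m, hm0, hpm, hm⟩ := exists_pow_eq_one_of_integral (p := p) _ hā0 hint1
  refine ⟨m, hm0, hpm, ?_⟩
  apply Ideal.Quotient.eq_zero_iff_mem.mp
  rw [map_sub, map_pow, map_one, hm, sub_self]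

theorem part2 {p : ℕ} [hp : Fact p.Prime] {M : Ideal AlgInt}
    (hM : IsPModular p M) (a : AlgInt) (ha : a ∉ M) :
    ∃ ε : AlgInt, (∃ m : ℕ, ¬ p ∣ m ∧ (ε : ℂ) ^ m = 1) ∧ a - ε ∈ M := by
  classical
  obtain ⟨m, hm0, hpm, hmem⟩ := exists_pow_sub_one_mem hM a ha
  have hprim : IsPrimitiveRoot (Complex.exp (2 * Real.pi * Complex.I / m)) m :=
    Complex.isPrimitiveRoot_exp m hm0.ne'
  have hfac := X_pow_sub_one_eq_prod hm0 hprim
  have hev := congrArg (Polynomial.eval (a : ℂ)) hfac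
  rw [Polynomial.eval_prod] at hev
  simp only [eval_sub, eval_pow, eval_X, eval_one, eval_C] at hev
  have hint : ∀ ζ ∈ nthRootsFinset m (1 : ℂ), IsIntegral ℤ ζ := by
    intro ζ hζ
    have h1 : ζ ^ m = 1 := (mem_nthRootsFinset hm0 1).mp hζ
    exact IsIntegral.of_pow hm0 (h1 ▸ isIntegral_one)
  have hprod : (∏ ζ ∈ (nthRootsFinset m (1 : ℂ)).attach,
      (a - (⟨ζ.1, hint ζ.1 ζ.2⟩ : AlgInt))) = a ^ m - 1 := by
    apply Subtype.ext
    push_cast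
    rw [hev]
    exact Finset.prod_attach (nthRootsFinset m (1 : ℂ)) (fun ζ => (a : ℂ) - ζ)
  rw [← hprod] at hmem
  haveI := hM.2.1.isPrime
  obtain ⟨ζ, _, hζ⟩ := Ideal.IsPrime.prod_mem_iff.mp hmem
  refine ⟨⟨ζ.1, hint ζ.1 ζ.2⟩, ⟨m, hpm, ?_⟩, hζ⟩
  exact (mem_nthRootsFinset hm0 1).mp ζ.2


/-- Let M be a maximal ideal of the ring of algebraic integers containing the prime p, and let U be the set of complex roots of unity of order prime to p. Then reduction modulo M is injective on U, and every algebraic integer not in M is congruent modulo M to an element of U (so U maps bijectively onto the nonzero residues). -/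
theorem result (p : ℕ) [Fact p.Prime] (M : Ideal Cfsg.AlgInt) (hM : Cfsg.IsPModular p M) : (∀ ε₁ ε₂ : Cfsg.AlgInt, (∃ m : ℕ, ¬ p ∣ m ∧ (ε₁ : ℂ) ^ m = 1) → (∃ m : ℕ, ¬ p ∣ m ∧ (ε₂ : ℂ) ^ m = 1) → ε₁ - ε₂ ∈ M → ε₁ = ε₂) ∧ (∀ a : Cfsg.AlgInt, a ∉ M → ∃ ε : Cfsg.AlgInt, (∃ m : ℕ, ¬ p ∣ m ∧ (ε : ℂ) ^ m = 1) ∧ a - ε ∈ M) := by
  constructor
  · rintro ε₁ ε₂ ⟨m₁, h1, e1⟩ ⟨m₂, h2, e2⟩ hmem
    exact part1 hM ε₁ ε₂ m₁ m₂ h1 e1 h2 e2 hmem
  · intro a ha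
    exact part2 hM a ha

end Cfsg.Agent.S0901
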