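import Cfsg.Statements.S0903
import Cfsg.Agent.Lib.Helper2_ClassFn
import Cfsg.Agent.Lib.Helper2_CharBasic
import Cfsg.Agent.Lib.Helper2_CharOrtho
import Cfsg.Agent.Lib.Helper2_Clifford
import Cfsg.Agent.Lib.Helper2_CharMore
import Cfsg.Agent.Lib.Helper2_CharNorm
import Cfsg.Agent.Lib.Helper2_CharValues
import Cfsg.Agent.Lib.Helper2_CharComplete
import Cfsg.Agent.Lib.Helper2_CharInd
import Cfsg.Agent.Lib.Helper2_CharTable
import Cfsg.Agent.Lib.Helper2_CharFrob
import Cfsg.Agent.Lib.Helper2_CharDeg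
import Cfsg.Agent.Lib.Helper2_CharSum
import Cfsg.Agent.Lib.Helper2_CharExtra
import Cfsg.Agent.Lib.Helper2_CharCentral
import Cfsg.Agent.Lib.Helper2_PermChar
import Cfsg.Agent.Lib.Helper2_FrobSchur
import Cfsg.Agent.Lib.Helper2_CliffordCorr
import Cfsg.Agent.Lib.Helper2_CharKernel
import Cfsg.Agent.Lib.Helper2_CyclicTI
import Cfsg.Agent.Lib.Helper2_CharGalois
import Cfsg.Agent.Lib.Helper2_CharInt
import Cfsg.Agent.Lib.Helper2_CharBurnside
import Cfsg.Agent.Lib.Helper2_CharCenter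
import Cfsg.Agent.Lib.Helper2_Ito

set_option autoImplicit false
open Cfsg

namespace Cfsg.Agent.S0903

open Cfsg.Agent.Lib.Helper2_ClassFn Cfsg.Agent.Lib.Helper2_CharBasic Cfsg.Agent.Lib.Helper2_CharOrtho Cfsg.Agent.Lib.Helper2_Clifford Cfsg.Agent.Lib.Helper2_CharMore Cfsg.Agent.Lib.Helper2_CharNorm Cfsg.Agent.Lib.Helper2_CharValues Cfsg.Agent.Lib.Helper2_CharComplete Cfsg.Agent.Lib.Helper2_CharInd Cfsg.Agent.Lib.Helper2_CharTable Cfsg.Agent.Lib.Helper2_CharFrob Cfsg.Agent.Lib.Helper2_CharDeg Cfsg.Agent.Lib.Helper2_CharSum Cfsg.Agent.Lib.Helper2_CharExtra Cfsg.Agent.Lib.Helper2_CharCentral Cfsg.Agent.Lib.Helper2_PermChar Cfsg.Agent.Lib.Helper2_FrobSchur Cfsg.Agent.Lib.Helper2_CliffordCorr Cfsg.Agent.Lib.Helper2_CharKernel Cfsg.Agent.Lib.Helper2_CyclicTI Cfsg.Agent.Lib.Helper2_CharGalois Cfsg.Agent.Lib.Helper2_CharInt Cfsg.Agent.Lib.Helper2_CharBurnside Cfsg.Agent.Lib.Helper2_CharCenter Cfsg.Agent.Lib.Helper2_Ito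
open scoped Pointwise
/-- the conjugation action of `P` on pairs from two classes with prescribed product -/
def pairAction {G : Type*} [Group G] (P : Subgroup G) (c : G)
    (hc : c ∈ Subgroup.centralizer (P : Set G)) (g h : G) :
    MulAction P {xy : G × G // IsConj g xy.1 ∧ IsConj h xy.2 ∧ xy.1 * xy.2 = c} where
  smul t xy := ⟨((t : G) * xy.1.1 * (t : G)⁻¹, (t : G) * xy.1.2 * (t : G)⁻¹),
    xy.2.1.trans (isConj_iff.mpr ⟨t, rfl⟩), xy.2.2.1.trans (isConj_iff.mpr ⟨t, rfl⟩), by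
      have h1 := xy.2.2.2
      have h2 := Subgroup.mem_centralizer_iff.mp hc (t : G) t.2
      calc (t : G) * xy.1.1 * (t : G)⁻¹ * ((t : G) * xy.1.2 * (t : G)⁻¹)
          = (t : G) * (xy.1.1 * xy.1.2) * (t : G)⁻¹ := by group
        _ = (t : G) * c * (t : G)⁻¹ := by rw [h1]
        _ = c := by rw [h2]; group⟩
  one_smul xy := by
    apply Subtype.ext
    apply Prod.ext
    · show ((1 : P) : G) * xy.1.1 * ((1 : P) : G)⁻¹ = xy.1.1
      simp
    · show ((1 : P) : G) * xy.1.2 * ((1 : P) : G)⁻¹ = xy.1.2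
      simp
  mul_smul s t xy := by
    apply Subtype.ext
    apply Prod.ext
    · show ((s * t : P) : G) * xy.1.1 * ((s * t : P) : G)⁻¹
        = (s : G) * ((t : G) * xy.1.1 * (t : G)⁻¹) * (s : G)⁻¹
      push_cast
      group
    · show ((s * t : P) : G) * xy.1.2 * ((s * t : P) : G)⁻¹
        = (s : G) * ((t : G) * xy.1.2 * (t : G)⁻¹) * (s : G)⁻¹
      push_cast
      group


/-- Let P be a p-subgroup of the finite group G, let c centralize P and let g, h ∈ G. The number of pairs (x, y) with x conjugate to g, y conjugate to h and x * y = c is congruent modulo p to the number of such pairs in which x and y both centralize P. (This is why the Brauer map on class sums is multiplicative.) -/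
theorem result {G : Type*} [Group G] [Finite G] (p : ℕ) [Fact p.Prime] (P : Subgroup G) (hP : IsPGroup p P) (c : G) (hc : c ∈ Subgroup.centralizer (P : Set G)) (g h : G) : Nat.card {xy : G × G // IsConj g xy.1 ∧ IsConj h xy.2 ∧ xy.1 * xy.2 = c} ≡ Nat.card {xy : G × G // IsConj g xy.1 ∧ IsConj h xy.2 ∧ xy.1 * xy.2 = c ∧ xy.1 ∈ Subgroup.centralizer (P : Set G) ∧ xy.2 ∈ Subgroup.centralizer (P : Set G)} [MOD p] := by
  classical
  letI := pairAction P c hc g h
  have h1 := hP.card_modEq_card_fixedPoints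
    {xy : G × G // IsConj g xy.1 ∧ IsConj h xy.2 ∧ xy.1 * xy.2 = c}
  refine h1.trans ?_
  have hsmul : ∀ (t : P) (xy : {xy : G × G // IsConj g xy.1 ∧ IsConj h xy.2 ∧ xy.1 * xy.2 = c}),
      (t • xy).1 = ((t : G) * xy.1.1 * (t : G)⁻¹, (t : G) * xy.1.2 * (t : G)⁻¹) := fun t xy => rfl
  have hcong : Nat.card (MulAction.fixedPoints P
      {xy : G × G // IsConj g xy.1 ∧ IsConj h xy.2 ∧ xy.1 * xy.2 = c})
      = Nat.card {xy : G × G // IsConj g xy.1 ∧ IsConj h xy.2 ∧ xy.1 * xy.2 = c ∧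
        xy.1 ∈ Subgroup.centralizer (P : Set G) ∧ xy.2 ∈ Subgroup.centralizer (P : Set G)} := by
    apply Nat.card_congr
    refine ⟨fun z => ⟨z.1.1, z.1.2.1, z.1.2.2.1, z.1.2.2.2, ?_, ?_⟩,
      fun w => ⟨⟨w.1, w.2.1, w.2.2.1, w.2.2.2.1⟩, ?_⟩, ?_, ?_⟩
    · rw [Subgroup.mem_centralizer_iff]
      intro t ht
      have := z.2 ⟨t, ht⟩
      have h2 := congrArg (fun q => q.1.1) this
      simp only [hsmul] at h2
      have h3 : t * z.1.1.1 * t⁻¹ = z.1.1.1 := h2
      calc t * z.1.1.1 = t * z.1.1.1 * t⁻¹ * t := by group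
        _ = z.1.1.1 * t := by rw [h3]
    · rw [Subgroup.mem_centralizer_iff]
      intro t ht
      have := z.2 ⟨t, ht⟩
      have h2 := congrArg (fun q => q.1.2) this
      simp only [hsmul] at h2
      have h3 : t * z.1.1.2 * t⁻¹ = z.1.1.2 := h2
      calc t * z.1.1.2 = t * z.1.1.2 * t⁻¹ * t := by group
        _ = z.1.1.2 * t := by rw [h3]
    · intro t
      apply Subtype.ext
      rw [hsmul]
      have hx := Subgroup.mem_centralizer_iff.mp w.2.2.2.2.1 (t : G) t.2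
      have hy := Subgroup.mem_centralizer_iff.mp w.2.2.2.2.2 (t : G) t.2
      apply Prod.ext
      · show (t : G) * w.1.1 * (t : G)⁻¹ = w.1.1
        rw [hx]; group
      · show (t : G) * w.1.2 * (t : G)⁻¹ = w.1.2
        rw [hy]; group
    · intro z
      rfl
    · intro w
      rfl
  rw [hcong]

end Cfsg.Agent.S0903
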