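import Mathlib
import Cfsg.Statements.S0905
import Cfsg.Agent.Lib.Helper7_AugNil
import Cfsg.Agent.Lib.Helper7_PCore

set_option autoImplicit false

open Cfsg

namespace Cfsg.Agent.S0905


/-- Let F be a field of characteristic p and let g be an element of the finite group G no conjugate of which centralizes O_p(G). Then the class sum of g is a nilpotent element of the group algebra F[G]. -/
theorem result {G : Type*} [Group G] [Finite G] (p : ℕ) [Fact p.Prime] (F : Type*) [Field F] [CharP F p] (g : G) (hg : ∀ x : G, IsConj g x → x ∉ Subgroup.centralizer (Cfsg.pCore p G : Set G)) : IsNilpotent (∑ᶠ x ∈ ConjClasses.carrier (ConjClasses.mk g), MonoidAlgebra.single x (1 : F) : MonoidAlgebra F G) := by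
  classical
  haveI hN : (Cfsg.pCore p G).Normal := Cfsg.Agent.Lib.Helper7_PCore.pCore_normal p
  have hP : IsPGroup p (Cfsg.pCore p G) := Cfsg.Agent.Lib.Helper7_PCore.pCore_isPGroup p
  have hfin : (ConjClasses.carrier (ConjClasses.mk g)).Finite := Set.toFinite _
  rw [finsum_mem_eq_finite_toFinset_sum _ hfin]
  have hmem : ∀ x, x ∈ hfin.toFinset ↔ IsConj g x := by
    intro x
    rw [Set.Finite.mem_toFinset, ConjClasses.mem_carrier_iff_mk_eq, ConjClasses.mk_eq_mk_iff_isConj]
    exact ⟨IsConj.symm, IsConj.symm⟩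
  have hsum : ∑ x ∈ hfin.toFinset, MonoidAlgebra.single x (1 : F) =
      ∑ x ∈ hfin.toFinset, MonoidAlgebra.of F G x := by
    refine Finset.sum_congr rfl fun x _ => ?_
    rw [MonoidAlgebra.of_apply]
  rw [hsum]
  apply Cfsg.Agent.Lib.Helper7_AugNil.isNilpotent_of_mem F p (Cfsg.pCore p G) hP
  apply Cfsg.Agent.Lib.Helper7_AugNil.sum_mem_of_stable F p (Cfsg.pCore p G) hP
  · intro x hx y _
    rw [hmem] at hx ⊢
    exact hx.trans (isConj_iff.mpr ⟨y, rfl⟩)
  · intro x hx
    rw [hmem] at hx
    have := hg x hx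
    rw [Subgroup.mem_centralizer_iff] at this
    push Not at this
    obtain ⟨y, hy, hne⟩ := this
    refine ⟨y, hy, fun h => hne ?_⟩
    calc y * x = (y * x * y⁻¹) * y := by group
      _ = x * y := by rw [h]

end Cfsg.Agent.S0905
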