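import Mathlib
import Cfsg.Statements.S0916
import Cfsg.Agent.Lib.Helper7_Basic

set_option autoImplicit false

open Cfsg

namespace Cfsg.Agent.S0916

open scoped Pointwise
open Cfsg.Agent.Lib

/-- Two subgroups of `H` of order the full `p`-part of `|H|` are conjugate by an element of `H`. -/
theorem conj_of_card {G : Type*} [Group G] [Finite G] (p : ℕ) [Fact p.Prime] (H Q₁ Q₂ : Subgroup G)
    (h1 : Q₁ ≤ H) (h2 : Q₂ ≤ H)
    (hc1 : Nat.card Q₁ = p ^ (Nat.card H).factorization p)
    (hc2 : Nat.card Q₂ = p ^ (Nat.card H).factorization p) :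
    ∃ u ∈ H, ∀ x, x ∈ Q₂ ↔ u⁻¹ * x * u ∈ Q₁ := by
  have e1 : Nat.card (Q₁.subgroupOf H) = p ^ (Nat.card H).factorization p := by
    rw [← hc1]; exact Nat.card_congr (Subgroup.subgroupOfEquivOfLe h1).toEquiv
  have e2 : Nat.card (Q₂.subgroupOf H) = p ^ (Nat.card H).factorization p := by
    rw [← hc2]; exact Nat.card_congr (Subgroup.subgroupOfEquivOfLe h2).toEquiv
  let S₁ : Sylow p H := Sylow.ofCard (Q₁.subgroupOf H) e1
  let S₂ : Sylow p H := Sylow.ofCard (Q₂.subgroupOf H) e2
  obtain ⟨u, hu⟩ := MulAction.exists_smul_eq H S₁ S₂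
  refine ⟨u, u.2, fun x => ?_⟩
  constructor
  · intro hx
    have hxH : x ∈ H := h2 hx
    have h3 : (⟨x, hxH⟩ : H) ∈ S₂ := by
      show (⟨x, hxH⟩ : H) ∈ Q₂.subgroupOf H
      rw [Subgroup.mem_subgroupOf]; exact hx
    rw [← hu, Helper7_Basic.mem_smul_sylow] at h3
    have h4 : (u⁻¹ * ⟨x, hxH⟩ * u : H) ∈ Q₁.subgroupOf H := h3
    rw [Subgroup.mem_subgroupOf] at h4
    simpa using h4
  · intro hx
    have hxH : x ∈ H := by
      have h3 := H.mul_mem (H.mul_mem u.2 (h1 hx)) (H.inv_mem u.2)
      simpa [mul_assoc] using h3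
    have h4 : (⟨x, hxH⟩ : H) ∈ u • S₁ := by
      rw [Helper7_Basic.mem_smul_sylow]
      show _ ∈ Q₁.subgroupOf H
      rw [Subgroup.mem_subgroupOf]; simpa using hx
    rw [hu] at h4
    have h5 : (⟨x, hxH⟩ : H) ∈ Q₂.subgroupOf H := h4
    rw [Subgroup.mem_subgroupOf] at h5
    exact h5

/-- centralizers of conjugate elements have the same order -/
theorem card_centralizer_conj {G : Type*} [Group G] (s g : G) :
    Nat.card (Subgroup.centralizer ({s * g * s⁻¹} : Set G)) =
      Nat.card (Subgroup.centralizer ({g} : Set G)) := by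
  apply Nat.card_congr
  refine
    { toFun := fun x => ⟨s⁻¹ * x * s, ?_⟩
      invFun := fun y => ⟨s * y * s⁻¹, ?_⟩
      left_inv := ?_
      right_inv := ?_ }
  · have hx := x.2
    rw [Subgroup.mem_centralizer_singleton_iff] at hx ⊢
    have : s⁻¹ * (↑x * (s * g * s⁻¹)) * s = s⁻¹ * ((s * g * s⁻¹) * ↑x) * s := by rw [hx]
    simpa [mul_assoc] using this
  · have hy := y.2
    rw [Subgroup.mem_centralizer_singleton_iff] at hy ⊢
    have : s * (↑y * g) * s⁻¹ = s * (g * ↑y) * s⁻¹ := by rw [hy]
    simpa [mul_assoc] using this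
  · intro x; apply Subtype.ext; simp [mul_assoc]
  · intro y; apply Subtype.ext; simp [mul_assoc]

/-- data from a Sylow subgroup of a centralizer mapping onto `P` -/
theorem sylow_data {G : Type*} [Group G] [Finite G] (p : ℕ) [Fact p.Prime] (P H : Subgroup G)
    (S : Sylow p H) (hS : (S : Subgroup H).map H.subtype = P) :
    P ≤ H ∧ Nat.card P = p ^ (Nat.card H).factorization p := by
  constructor
  · rw [← hS]; exact Subgroup.map_subtype_le _
  · rw [← hS, Subgroup.card_map_of_injective H.subtype_injective]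
    exact S.card_eq_multiplicity

/-- If `P` is a Sylow `p`-subgroup of `H ⊓ N(P)` then it is a Sylow `p`-subgroup of `H`. -/
theorem sylow_of_sylow_normalizer {G : Type*} [Group G] [Finite G] (p : ℕ) [Fact p.Prime]
    (P H : Subgroup G) (hP : IsPGroup p P)
    (S : Sylow p (H ⊓ Subgroup.normalizer (P : Set G) : Subgroup G))
    (hS : (S : Subgroup ↥(H ⊓ Subgroup.normalizer (P : Set G))).map
      (H ⊓ Subgroup.normalizer (P : Set G)).subtype = P) :
    ∃ Q : Sylow p H, (Q : Subgroup H).map H.subtype = P := by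
  have hPM : P ≤ H ⊓ Subgroup.normalizer (P : Set G) := by
    intro x hx
    rw [← hS] at hx
    obtain ⟨y, -, rfl⟩ := hx
    exact y.2
  have hPC : P ≤ H := hPM.trans inf_le_left
  have hPH' : IsPGroup p (P.subgroupOf H) := hP.comap_subtype
  obtain ⟨Q, hQ⟩ := hPH'.exists_le_sylow
  refine ⟨Q, ?_⟩
  have hQ'p : IsPGroup p ((Q : Subgroup _).map H.subtype) := Q.2.map _
  have hPQ' : P ≤ (Q : Subgroup _).map H.subtype := by
    intro x hx
    refine ⟨⟨x, hPC hx⟩, hQ ?_, rfl⟩
    exact hx
  have hQ'C : (Q : Subgroup _).map H.subtype ≤ H := Subgroup.map_subtype_le _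
  have hRp : IsPGroup p ((Q : Subgroup _).map H.subtype ⊓ Subgroup.normalizer (P : Set G) : Subgroup G) :=
    hQ'p.to_le inf_le_left
  have hRM : (Q : Subgroup _).map H.subtype ⊓ Subgroup.normalizer (P : Set G) ≤
      H ⊓ Subgroup.normalizer (P : Set G) := le_inf (inf_le_left.trans hQ'C) inf_le_right
  have hPR : P ≤ (Q : Subgroup _).map H.subtype ⊓ Subgroup.normalizer (P : Set G) :=
    le_inf hPQ' Subgroup.le_normalizer
  have hSR : (S : Subgroup _) ≤ ((Q : Subgroup _).map H.subtype ⊓
      Subgroup.normalizer (P : Set G)).subgroupOf (H ⊓ Subgroup.normalizer (P : Set G)) := by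
    intro y hy
    rw [Subgroup.mem_subgroupOf]
    apply hPR
    have h7 : (y : G) ∈ (S : Subgroup _).map (H ⊓ Subgroup.normalizer (P : Set G)).subtype :=
      ⟨y, hy, rfl⟩
    rw [hS] at h7
    exact h7
  have hRS := S.is_maximal' (hRp.comap_subtype) hSR
  have hRP : (Q : Subgroup _).map H.subtype ⊓ Subgroup.normalizer (P : Set G) = P := by
    conv_rhs => rw [← hS, ← hRS]
    exact (Subgroup.map_subgroupOf_eq_of_le hRM).symm
  by_contra hne
  have hlt : P.subgroupOf ((Q : Subgroup _).map H.subtype) < ⊤ := by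
    rw [lt_top_iff_ne_top, Ne, Subgroup.subgroupOf_eq_top]
    intro hle
    exact hne (le_antisymm hle hPQ')
  haveI hnil : Group.IsNilpotent ((Q : Subgroup _).map H.subtype) := hQ'p.isNilpotent
  have hnc := Group.normalizerCondition_of_isNilpotent (G := ((Q : Subgroup _).map H.subtype))
    (P.subgroupOf _) hlt
  obtain ⟨y, hyN, hyP⟩ := SetLike.exists_of_lt hnc
  apply hyP
  rw [Subgroup.mem_subgroupOf]
  have hyR : (y : G) ∈ (Q : Subgroup _).map H.subtype ⊓ Subgroup.normalizer (P : Set G) := by
    refine Subgroup.mem_inf.mpr ⟨y.2, ?_⟩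
    rw [Subgroup.mem_normalizer_iff] at hyN ⊢
    intro h
    constructor
    · intro hh
      have := (hyN ⟨h, hPQ' hh⟩).mp (by rw [Subgroup.mem_subgroupOf]; exact hh)
      rw [Subgroup.mem_subgroupOf] at this
      simpa using this
    · intro hh
      have hhQ : h ∈ (Q : Subgroup _).map H.subtype := by
        have h6 := Subgroup.mul_mem _ (Subgroup.mul_mem _ (Subgroup.inv_mem _ y.2) (hPQ' hh)) y.2
        simpa [mul_assoc] using h6
      have := (hyN ⟨h, hhQ⟩).mpr (by rw [Subgroup.mem_subgroupOf]; simpa using hh)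
      rw [Subgroup.mem_subgroupOf] at this
      exact this
  rw [hRP] at hyR
  exact hyR

/-- Let P be a p-subgroup of the finite group G, C its centralizer and N its normalizer. Say that a conjugacy class (of G, or of N) has defect group P when P is a Sylow p-subgroup of the centralizer (in G, respectively in N) of some element of the class. Then: (i) if the class of g in G has defect group P, the elements of that class lying in C form a single N-class, again with defect group P; (ii) every N-class with defect group P arises this way from exactly one G-class with defect group P. -/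
theorem result {G : Type*} [Group G] [Finite G] (p : ℕ) [Fact p.Prime] (P : Subgroup G) (hP : IsPGroup p P) : (∀ g : G, (∃ S : Sylow p (Subgroup.centralizer ({g} : Set G)), (S : Subgroup (Subgroup.centralizer ({g} : Set G))).map (Subgroup.centralizer ({g} : Set G)).subtype = P) → (∃ c : G, IsConj g c ∧ c ∈ Subgroup.centralizer (P : Set G)) ∧ (∀ c₁ c₂ : G, IsConj g c₁ → IsConj g c₂ → c₁ ∈ Subgroup.centralizer (P : Set G) → c₂ ∈ Subgroup.centralizer (P : Set G) → ∃ n ∈ Subgroup.normalizer (P : Set G), n * c₁ * n⁻¹ = c₂)) ∧ (∀ c : G, c ∈ Subgroup.centralizer (P : Set G) → (∃ S : Sylow p (Subgroup.centralizer ({c} : Set G) ⊓ Subgroup.normalizer (P : Set G) : Subgroup G), (S : Subgroup ↥(Subgroup.centralizer ({c} : Set G) ⊓ Subgroup.normalizer (P : Set G))).map (Subgroup.centralizer ({c} : Set G) ⊓ Subgroup.normalizer (P : Set G)).subtype = P) → ∃ S : Sylow p (Subgroup.centralizer ({c} : Set G)), (S : Subgroup (Subgroup.centralizer ({c} : Set G))).map (Subgroup.centralizer ({c} : Set G)).subtype = P)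 := by
  classical
  constructor
  · intro g ⟨S, hS⟩
    obtain ⟨hPle, hPc⟩ := sylow_data p P _ S hS
    have hgC : g ∈ Subgroup.centralizer (P : Set G) := by
      rw [Subgroup.mem_centralizer_iff]
      intro x hx
      have := hPle hx
      rw [Subgroup.mem_centralizer_singleton_iff] at this
      exact this
    refine ⟨⟨g, IsConj.refl g, hgC⟩, ?_⟩
    intro c₁ c₂ h1 h2 hc1 hc2
    obtain ⟨t, ht⟩ := isConj_iff.mp (h1.symm.trans h2)
    obtain ⟨s, hs⟩ := isConj_iff.mp h2
    have hcard : Nat.card (Subgroup.centralizer ({c₂} : Set G)) =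
        Nat.card (Subgroup.centralizer ({g} : Set G)) := by
      rw [← hs]; exact card_centralizer_conj s g
    have hP2 : P ≤ Subgroup.centralizer ({c₂} : Set G) := by
      intro x hx
      rw [Subgroup.mem_centralizer_singleton_iff]
      rw [Subgroup.mem_centralizer_iff] at hc2
      exact hc2 x hx
    have hQ2 : MulAut.conj t • P ≤ Subgroup.centralizer ({c₂} : Set G) := by
      intro x hx
      rw [Helper7_Basic.mem_conj_smul] at hx
      rw [Subgroup.mem_centralizer_singleton_iff]
      rw [Subgroup.mem_centralizer_iff] at hc1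
      have h3 := hc1 _ hx
      rw [← ht]
      have h4 : t * (t⁻¹ * x * t * c₁) * t⁻¹ = t * (c₁ * (t⁻¹ * x * t)) * t⁻¹ := by rw [h3]
      simpa [mul_assoc] using h4
    have hQc : Nat.card (MulAut.conj t • P : Subgroup G) = Nat.card P :=
      Nat.card_congr (Subgroup.equivSMul (MulAut.conj t) P).toEquiv.symm
    obtain ⟨u, hu, huP⟩ := conj_of_card p (Subgroup.centralizer ({c₂} : Set G)) (MulAut.conj t • P) P
      hQ2 hP2 (by rw [hQc, hPc, hcard]) (by rw [hPc, hcard])
    refine ⟨u * t, ?_, ?_⟩
    · have h5 : (u * t)⁻¹ ∈ Subgroup.normalizer (P : Set G) := by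
        rw [Subgroup.mem_normalizer_iff]
        intro x
        rw [huP x, Helper7_Basic.mem_conj_smul]
        simp [mul_assoc]
      simpa using Subgroup.inv_mem _ h5
    · rw [Subgroup.mem_centralizer_singleton_iff] at hu
      rw [mul_inv_rev]
      have : u * t * c₁ * (t⁻¹ * u⁻¹) = u * (t * c₁ * t⁻¹) * u⁻¹ := by simp [mul_assoc]
      rw [this, ht, hu]; simp
  · intro c hc ⟨S, hS⟩
    exact sylow_of_sylow_normalizer p P _ hP S hS

end Cfsg.Agent.S0916
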