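import Mathlib
import Cfsg.Statements.S0932
import Cfsg.Agent.Lib.Helper7_Basic
import Cfsg.Agent.Lib.Helper2_ClassFn

set_option autoImplicit false

open Cfsg

namespace Cfsg.Agent.S0932


/-- Let H be a subgroup of the finite group G and ξ a character of H. For every g ∈ G, the sum of ξ h / ξ 1 over the elements h ∈ H that are conjugate in G to g equals the central character at g of the character of G induced from ξ (class size times value divided by degree). -/
theorem result {G : Type*} [Group G] [Fintype G] (H : Subgroup G) (ξ : H → ℂ) (hξ : Cfsg.IsCharacter H ξ) (g : G) : Cfsg.inducedCentralChar H ξ g = Cfsg.centralChar (Cfsg.indFun H ξ) g := by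
  classical
  letI : Fintype H := Fintype.ofFinite H
  have hδc : IsClassFunction G (fun x => if IsConj g x then (1 : ℂ) else 0) := by
    intro x h
    have : IsConj g (h * x * h⁻¹) ↔ IsConj g x := by
      constructor
      · intro h1; exact h1.trans (isConj_iff.mpr ⟨h⁻¹, by group⟩)
      · intro h1; exact h1.trans (isConj_iff.mpr ⟨h, rfl⟩)
    simp only [this]
  have hfr := Cfsg.Agent.Lib.Helper2_ClassFn.frobenius_reciprocity H ξ _ hδc
  unfold classInner at hfr
  have hL : ∑ x : G, indFun H ξ x * (starRingEnd ℂ) (if IsConj g x then (1 : ℂ) else 0) =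
      ((Subgroup.centralizer ({g} : Set G)).index : ℂ) * indFun H ξ g := by
    have h1 : ∀ x : G, indFun H ξ x * (starRingEnd ℂ) (if IsConj g x then (1 : ℂ) else 0) =
        if IsConj g x then indFun H ξ g else 0 := by
      intro x
      by_cases hx : IsConj g x
      · obtain ⟨t, ht⟩ := isConj_iff.mp hx
        simp only [if_pos hx, map_one, mul_one]
        rw [← ht]; exact Cfsg.Agent.Lib.Helper2_ClassFn.indFun_isClassFunction H ξ g t
      · rw [if_neg hx, if_neg hx, map_zero, mul_zero]
    simp only [h1]
    rw [Finset.sum_ite, Finset.sum_const_zero, add_zero, Finset.sum_const, nsmul_eq_mul]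
    congr 2
    rw [← Cfsg.Agent.Lib.Helper7_Basic.card_conj_class g, Nat.card_eq_fintype_card,
      Fintype.card_subtype]
    congr 1
    apply Finset.filter_congr
    intro x _
    exact isConj_comm
  have hR : ∑ h : H, ξ h * (starRingEnd ℂ) (if IsConj g (h : G) then (1 : ℂ) else 0) =
      ∑ h : H, if IsConj g (h : G) then ξ h else 0 := by
    apply Finset.sum_congr rfl
    intro h _
    by_cases hx : IsConj g (h : G)
    · rw [if_pos hx, if_pos hx, map_one, mul_one]
    · rw [if_neg hx, if_neg hx, map_zero, mul_zero]
  rw [hL, hR] at hfr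
  have hind : inducedCentralChar H ξ g = (∑ h : H, if IsConj g (h : G) then ξ h else 0) / ξ 1 := by
    unfold inducedCentralChar
    rw [finsum_mem_def, finsum_eq_sum_of_fintype, Finset.sum_div]
    apply Finset.sum_congr rfl
    intro h _
    by_cases hx : IsConj g (h : G)
    · rw [Set.indicator_of_mem (show h ∈ {h : H | IsConj g (h : G)} from hx), if_pos hx]
    · rw [Set.indicator_of_notMem (show h ∉ {h : H | IsConj g (h : G)} from hx), if_neg hx, zero_div]
  rw [hind]
  unfold centralChar
  rw [Cfsg.Agent.Lib.Helper2_ClassFn.indFun_one]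
  have hH : (Nat.card H : ℂ) ≠ 0 := Cfsg.Agent.Lib.Helper2_ClassFn.card_subgroup_ne_zero H
  have hidx : (H.index : ℂ) ≠ 0 := by
    have : H.index ≠ 0 := Subgroup.index_ne_zero_of_finite
    exact_mod_cast this
  have hG : (Nat.card G : ℂ) = (Nat.card H : ℂ) * (H.index : ℂ) := by
    rw [← H.card_mul_index]; push_cast; ring
  have hkey : ((Subgroup.centralizer ({g} : Set G)).index : ℂ) * indFun H ξ g =
      (H.index : ℂ) * ∑ h : H, if IsConj g (h : G) then ξ h else 0 := by
    rw [hG] at hfr
    field_simp at hfr
    linear_combination hfr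
  rw [hkey, mul_div_mul_left _ _ hidx]

end Cfsg.Agent.S0932
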