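import Mathlib
import Cfsg.Statements.S0943
import Cfsg.Agent.Lib.Helper2_CharMore

set_option autoImplicit false
open Cfsg
open Cfsg.Agent.Lib.Helper2_CharMore

namespace Cfsg.Agent.S0943

open Classical in
/-- class sum operator -/
noncomputable def classSum {G : Type*} [Group G] [Fintype G] {V : Type*} [AddCommGroup V]
    [Module ℂ V] (ρ : Representation ℂ G V) (u : G) : V →ₗ[ℂ] V :=
  ∑ x ∈ Finset.univ.filter (fun x : G => IsConj u x), ρ x

theorem classSum_comm {G : Type*} [Group G] [Fintype G] {V : Type*} [AddCommGroup V]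
    [Module ℂ V] (ρ : Representation ℂ G V) (u g : G) :
    classSum ρ u ∘ₗ ρ g = ρ g ∘ₗ classSum ρ u := by
  classical
  unfold classSum
  change (∑ x ∈ Finset.univ.filter (fun x : G => IsConj u x), ρ x) * ρ g
    = ρ g * ∑ x ∈ Finset.univ.filter (fun x : G => IsConj u x), ρ x
  rw [Finset.sum_mul, Finset.mul_sum]
  refine Finset.sum_bij (fun x _ => g⁻¹ * x * g) ?_ ?_ ?_ ?_
  · intro x hx
    simp only [Finset.mem_filter, Finset.mem_univ, true_and] at hx ⊢
    exact hx.trans (isConj_iff.mpr ⟨g⁻¹, by simp⟩)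
  · intro x _ y _ h
    simpa using h
  · intro y hy
    simp only [Finset.mem_filter, Finset.mem_univ, true_and] at hy
    refine ⟨g * y * g⁻¹, ?_, by group⟩
    simp only [Finset.mem_filter, Finset.mem_univ, true_and]
    exact hy.trans (isConj_iff.mpr ⟨g, rfl⟩)
  · intro x _
    change ρ x * ρ g = ρ g * ρ (g⁻¹ * x * g)
    rw [← map_mul, ← map_mul]
    congr 1
    group

/-- Let χ be an irreducible character of the finite group G and u, v ∈ G. If χ (x * y) = χ (u * v) whenever x is conjugate to u and y is conjugate to v, then χ u * χ v = χ 1 * χ (u * v). (Multiply the class sums of u and v and apply the central character of χ.) -/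
theorem result {G : Type*} [Group G] [Finite G] (χ : Cfsg.IrrCharacter G) (u v : G) (hc : ∀ x y : G, IsConj u x → IsConj v y → (χ : G → ℂ) (x * y) = (χ : G → ℂ) (u * v)) : (χ : G → ℂ) u * (χ : G → ℂ) v = (χ : G → ℂ) 1 * (χ : G → ℂ) (u * v) := by
  classical
  have := Fintype.ofFinite G
  obtain ⟨χ, n, ρ, hirr, rfl⟩ := χ
  change ∀ x y : G, IsConj u x → IsConj v y → ρ.character (x * y) = ρ.character (u * v) at hc
  change ρ.character u * ρ.character v = ρ.character 1 * ρ.character (u * v)
  obtain ⟨cu, hcu⟩ := schur_scalar ρ hirr (classSum ρ u) (classSum_comm ρ u)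
  obtain ⟨cv, hcv⟩ := schur_scalar ρ hirr (classSum ρ v) (classSum_comm ρ v)
  set Cu := (Finset.univ.filter (fun x : G => IsConj u x)) with hCu
  set Cv := (Finset.univ.filter (fun x : G => IsConj v x)) with hCv
  have hclass : ∀ w x : G, IsConj w x → ρ.character x = ρ.character w := by
    intro w x h
    obtain ⟨c, rfl⟩ := isConj_iff.mp h
    exact Representation.char_conj ρ w c
  -- traces of class sums
  have htr : ∀ w : G, LinearMap.trace ℂ _ (classSum ρ w)
      = ((Finset.univ.filter (fun x : G => IsConj w x)).card : ℂ) * ρ.character w := by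
    intro w
    unfold classSum
    rw [map_sum, Finset.sum_congr rfl (g := fun _ => ρ.character w), Finset.sum_const,
      nsmul_eq_mul]
    intro x hx
    exact hclass w x (Finset.mem_filter.mp hx).2
  have hn : LinearMap.trace ℂ (Fin n → ℂ) LinearMap.id = ρ.character 1 := by
    rw [Representation.char_one, LinearMap.trace_id]
  have h1 : (Cu.card : ℂ) * ρ.character u = cu * ρ.character 1 := by
    rw [← htr u, hcu, map_smul, hn, smul_eq_mul]
  have h2 : (Cv.card : ℂ) * ρ.character v = cv * ρ.character 1 := by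
    rw [← htr v, hcv, map_smul, hn, smul_eq_mul]
  -- trace of the product
  have h3 : LinearMap.trace ℂ _ (classSum ρ u * classSum ρ v)
      = (Cu.card : ℂ) * (Cv.card : ℂ) * ρ.character (u * v) := by
    unfold classSum
    rw [Finset.sum_mul_sum, map_sum]
    rw [Finset.sum_congr rfl (g := fun _ => (Cv.card : ℂ) * ρ.character (u * v))]
    · rw [Finset.sum_const, nsmul_eq_mul]; ring
    · intro x hx
      rw [map_sum, Finset.sum_congr rfl (g := fun _ => ρ.character (u * v)), Finset.sum_const,
        nsmul_eq_mul]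
      intro y hy
      rw [← map_mul]
      exact hc x y (Finset.mem_filter.mp hx).2 (Finset.mem_filter.mp hy).2
  have h4 : LinearMap.trace ℂ _ (classSum ρ u * classSum ρ v) = cu * cv * ρ.character 1 := by
    rw [hcu, hcv, smul_mul_smul_comm, map_smul]
    have : (LinearMap.id : (Fin n → ℂ) →ₗ[ℂ] (Fin n → ℂ)) * LinearMap.id = LinearMap.id := rfl
    rw [this, hn, smul_eq_mul]
  have hCu0 : (Cu.card : ℂ) ≠ 0 := by
    have : 0 < Cu.card := Finset.card_pos.mpr ⟨u, Finset.mem_filter.mpr ⟨Finset.mem_univ _, IsConj.refl u⟩⟩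
    exact_mod_cast this.ne'
  have hCv0 : (Cv.card : ℂ) ≠ 0 := by
    have : 0 < Cv.card := Finset.card_pos.mpr ⟨v, Finset.mem_filter.mpr ⟨Finset.mem_univ _, IsConj.refl v⟩⟩
    exact_mod_cast this.ne'
  have h5 : (Cu.card : ℂ) * (Cv.card : ℂ) * (ρ.character u * ρ.character v)
      = (Cu.card : ℂ) * (Cv.card : ℂ) * (ρ.character 1 * ρ.character (u * v)) := by
    calc (Cu.card : ℂ) * (Cv.card : ℂ) * (ρ.character u * ρ.character v)
        = ((Cu.card : ℂ) * ρ.character u) * ((Cv.card : ℂ) * ρ.character v) := by ring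
      _ = (cu * cv * ρ.character 1) * ρ.character 1 := by rw [h1, h2]; ring
      _ = (Cu.card : ℂ) * (Cv.card : ℂ) * (ρ.character 1 * ρ.character (u * v)) := by
          rw [← h4, h3]; ring
  exact mul_left_cancel₀ (mul_ne_zero hCu0 hCv0) h5

end Cfsg.Agent.S0943
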