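import Mathlib
import Cfsg.Statements.S0944

set_option autoImplicit false
open Cfsg

namespace Cfsg.Agent.S0944

/-- trace of an involution on a f.d. complex space -/
theorem trace_involution {V : Type*} [AddCommGroup V] [Module ℂ V] [FiniteDimensional ℂ V]
    (T : V →ₗ[ℂ] V) (hT : T * T = 1) :
    ∃ a : ℕ, LinearMap.trace ℂ V T = 2 * (a : ℂ) - (Module.finrank ℂ V : ℂ) := by
  set P : V →ₗ[ℂ] V := (2 : ℂ)⁻¹ • (1 + T) with hP
  have hidem : IsIdempotentElem P := by
    unfold IsIdempotentElem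
    rw [hP, smul_mul_smul_comm, add_mul, mul_add, mul_add, hT, mul_one, one_mul, mul_one]
    rw [show (1 : V →ₗ[ℂ] V) + T + (T + 1) = (2 : ℂ) • (1 + T) by rw [two_smul]; abel]
    rw [smul_smul]
    norm_num
  have htr := (LinearMap.IsIdempotentElem.isProj_range P hidem).trace
  refine ⟨Module.finrank ℂ (LinearMap.range P), ?_⟩
  rw [← htr, hP, map_smul, map_add, LinearMap.trace_one, smul_eq_mul]
  ring

/-- Let χ be an irreducible character of the finite group G and u an involution. Then χ u is a rational integer n with n ≡ χ 1 (mod 2). -/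
theorem result {G : Type*} [Group G] [Finite G] (χ : Cfsg.IrrCharacter G) (u : G) (hu : orderOf u = 2) : ∃ n : ℤ, (χ : G → ℂ) u = (n : ℂ) ∧ (2 : ℤ) ∣ (Cfsg.charDegree (χ : G → ℂ) : ℤ) - n := by
  obtain ⟨χ, n, ρ, -, rfl⟩ := χ
  have hT : ρ u * ρ u = 1 := by
    rw [← map_mul, ← sq, ← hu, pow_orderOf_eq_one, map_one]
  obtain ⟨a, ha⟩ := trace_involution (ρ u) hT
  have hfin : Module.finrank ℂ (Fin n → ℂ) = n := by simp
  rw [hfin] at ha
  refine ⟨2 * (a : ℤ) - n, ?_, ?_⟩
  · change ρ.character u = _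
    unfold Representation.character
    rw [ha]; push_cast; ring
  · have hdeg : Cfsg.charDegree (ρ.character) = n := by
      unfold Cfsg.charDegree
      rw [Representation.char_one, hfin]
      simp
    change (2 : ℤ) ∣ (Cfsg.charDegree (ρ.character) : ℤ) - _
    rw [hdeg]
    exact ⟨(n : ℤ) - a, by ring⟩

end Cfsg.Agent.S0944
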