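import Mathlib
import Cfsg.Statements.S4620
import Cfsg.Agent.Lib.Helper7_Basic
import Cfsg.Agent.Lib.Helper7_PCore
import Cfsg.Agent.Lib.Helper5_PPrime
import Cfsg.Agent.Lib.Helper4_PIrred2
import Cfsg.Agent.Lib.Helper3_Transport

set_option autoImplicit false
open scoped Pointwise
open Cfsg

namespace Cfsg.Agent.S4620

open Cfsg.Agent.Lib

/-- a `p`-element normalizing a Sylow `p`-subgroup lies in it -/
theorem mem_sylow_of_mem_normalizer {H : Type*} [Group H] {p : ℕ} [Fact p.Prime] (R : Sylow p H)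
    (y : H) (hy : IsPGroup p (Subgroup.zpowers y))
    (hn : y ∈ Subgroup.normalizer ((R : Subgroup H) : Set H)) : y ∈ R := by
  have hle : Subgroup.zpowers y ≤ Subgroup.normalizer ((R : Subgroup H) : Set H) := by
    rw [Subgroup.zpowers_le]; exact hn
  have h1 : IsPGroup p ((R : Subgroup H) ⊔ Subgroup.zpowers y : Subgroup H) :=
    R.isPGroup'.to_sup_of_normal_left' hy hle
  have h2 := R.is_maximal' h1 le_sup_left
  have h3 : Subgroup.zpowers y ≤ (R : Subgroup H) := by
    rw [← h2]; exact le_sup_right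
  exact h3 (Subgroup.mem_zpowers y)

/-- two subgroups normalizing each other and meeting trivially commute elementwise -/
theorem commute_of_inf_eq_bot {G : Type*} [Group G] (A B : Subgroup G)
    (hA : A ≤ Subgroup.normalizer (B : Set G)) (hB : B ≤ Subgroup.normalizer (A : Set G))
    (h : A ⊓ B = ⊥) {a b : G} (ha : a ∈ A) (hb : b ∈ B) : a * b = b * a := by
  have h1 : a * b * a⁻¹ * b⁻¹ ∈ A ⊓ B := by
    constructor
    · have h2 : b * a⁻¹ * b⁻¹ ∈ A := (Subgroup.mem_normalizer_iff.mp (hB hb) a⁻¹).mp (A.inv_mem ha)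
      have h3 := A.mul_mem ha h2
      have h4 : a * (b * a⁻¹ * b⁻¹) = a * b * a⁻¹ * b⁻¹ := by group
      rw [h4] at h3
      exact h3
    · have h2 : a * b * a⁻¹ ∈ B := (Subgroup.mem_normalizer_iff.mp (hA ha) b).mp hb
      exact B.mul_mem h2 (B.inv_mem hb)
  rw [h, Subgroup.mem_bot] at h1
  have h2 : a * b * a⁻¹ = b := mul_inv_eq_one.mp h1
  exact mul_inv_eq_iff_eq_mul.mp h2

/-- the `p'`-core is characteristic -/
theorem pPrimeCore_char (p : ℕ) (A : Type*) [Group A] : (pPrimeCore p A).Characteristic :=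
  Subgroup.characteristic_iff_map_eq.mpr
    (fun e => Cfsg.Agent.Lib.Helper3_Transport.pPrimeCore_map_equiv p e)

/-- the cores of a normal subgroup of a group with trivial cores are trivial -/
theorem pPrimeCore_normal_eq_bot {H : Type*} [Group H] [Finite H] (p : ℕ) [Fact p.Prime]
    (hOp' : Cfsg.pPrimeCore p H = ⊥) (N : Subgroup H) [hN : N.Normal] :
    Cfsg.pPrimeCore p ↥N = ⊥ := by
  haveI := pPrimeCore_char p ↥N
  have hn : ((pPrimeCore p ↥N).map N.subtype).Normal := ConjAct.normal_of_characteristic_of_normal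
  have hc : (Nat.card ↥((pPrimeCore p ↥N).map N.subtype)).Coprime p := by
    rw [← Nat.card_congr ((pPrimeCore p ↥N).equivMapOfInjective _ N.subtype_injective).toEquiv]
    exact Helper5_PPrime.pPrimeCore_coprime p ↥N
  have h1 := Helper5_PPrime.le_pPrimeCore (p := p) ((pPrimeCore p ↥N).map N.subtype) hc
  rw [hOp', le_bot_iff] at h1
  exact (Subgroup.map_eq_bot_iff_of_injective _ N.subtype_injective).mp h1

theorem pCore_normal_eq_bot {H : Type*} [Group H] [Finite H] (p : ℕ) [Fact p.Prime]
    (hOp : Cfsg.pCore p H = ⊥) (N : Subgroup H) [hN : N.Normal] :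
    Cfsg.pCore p ↥N = ⊥ := by
  rw [Helper4_PIrred2.pCore_subgroupOf_normal N, hOp, Subgroup.bot_subgroupOf]

/-- an element of prime order is a nontrivial `p`-element lying in some Sylow `p`-subgroup -/
theorem exists_sylow_of_orderOf {H : Type*} [Group H] [Finite H] {p : ℕ} [hp : Fact p.Prime] (y : H)
    (hy : orderOf y = p) :
    y ≠ 1 ∧ IsPGroup p (Subgroup.zpowers y) ∧ ∃ R : Sylow p H, y ∈ R := by
  have hyp : IsPGroup p (Subgroup.zpowers y) := by
    apply IsPGroup.of_card (n := 1)
    rw [Nat.card_zpowers, hy, pow_one]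
  refine ⟨?_, hyp, ?_⟩
  · intro h
    rw [h, orderOf_one] at hy
    exact hp.out.one_lt.ne hy
  · obtain ⟨R, hR⟩ := hyp.exists_le_sylow
    exact ⟨R, hR (Subgroup.mem_zpowers y)⟩

theorem conj_smul_le_of_normal {G : Type*} [Group G] (N T : Subgroup G) [hN : N.Normal]
    (hTN : T ≤ N) (h : G) : MulAut.conj h • T ≤ N := by
  intro z hz
  rw [Helper7_Basic.mem_conj_smul] at hz
  have h1 := hN.conj_mem _ (hTN hz) h
  have h2 : h * (h⁻¹ * z * h) * h⁻¹ = z := by group
  rw [h2] at h1
  exact h1

theorem le_normalizer_conj_smul {G : Type*} [Group G] (N T : Subgroup G) [hN : N.Normal]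
    (hNT : N ≤ Subgroup.normalizer (T : Set G)) (h : G) :
    N ≤ Subgroup.normalizer ((MulAut.conj h • T : Subgroup G) : Set G) := by
  intro n hn
  rw [Subgroup.mem_normalizer_iff]
  intro z
  rw [Helper7_Basic.mem_conj_smul, Helper7_Basic.mem_conj_smul]
  have hm : h⁻¹ * n * h ∈ N := by
    have h1 := hN.conj_mem n hn h⁻¹
    rw [inv_inv] at h1
    exact h1
  have h1 := Subgroup.mem_normalizer_iff.mp (hNT hm) (h⁻¹ * z * h)
  have h2 : h⁻¹ * n * h * (h⁻¹ * z * h) * (h⁻¹ * n * h)⁻¹ = h⁻¹ * (n * z * n⁻¹) * h := by group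
  rw [h2] at h1
  exact h1

/-- Let H be a finite group with no nontrivial normal p-subgroup and no nontrivial normal subgroup of order prime to p, whose Sylow p-subgroup P is nontrivial and a trivial-intersection set (P meets its conjugates by elements outside N_H(P) trivially). Then H has a unique minimal normal subgroup N; N is non-abelian simple with trivial centralizer in H (so H embeds in Aut(N)), and a Sylow p-subgroup of N is again a nontrivial trivial-intersection set in N. -/
theorem result {H : Type*} [Group H] [Finite H] (p : ℕ) [Fact p.Prime] (hOp : Cfsg.pCore p H = ⊥) (hOp' : Cfsg.pPrimeCore p H = ⊥) (P : Sylow p H) (hP1 : (P : Subgroup H) ≠ ⊥)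
    (hTI : ∀ g : H, g ∉ Subgroup.normalizer ((P : Subgroup H) : Set H) → (P : Subgroup H) ⊓ (MulAut.conj g • (P : Subgroup H)) = ⊥) :
    ∃ N : Subgroup H, N.Normal ∧ N ≠ ⊥ ∧ (∀ K : Subgroup H, K.Normal → K ≠ ⊥ → N ≤ K) ∧
      IsSimpleGroup N ∧ ¬ IsMulCommutative N ∧ Subgroup.centralizer (N : Set H) = ⊥ ∧
      ∀ Q : Sylow p N, (Q : Subgroup N) ≠ ⊥ ∧
        ∀ n : N, n ∉ Subgroup.normalizer ((Q : Subgroup N) : Set N) → (Q : Subgroup N) ⊓ (MulAut.conj n • (Q : Subgroup N)) = ⊥ := by
  classical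
  have hp : p.Prime := Fact.out
  have hsm : ∀ (g : H) (R : Sylow p H),
      g • R = R ↔ g ∈ Subgroup.normalizer ((R : Subgroup H) : Set H) :=
    fun g R => Sylow.smul_eq_iff_mem_normalizer
  -- uniqueness of the Sylow subgroup containing a nontrivial `p`-element
  have hU : ∀ (R₁ R₂ : Sylow p H) (x : H), x ≠ 1 → x ∈ R₁ → x ∈ R₂ → R₁ = R₂ := by
    intro R₁ R₂ x hx1 h1 h2
    obtain ⟨a, rfl⟩ := MulAction.exists_smul_eq H P R₁
    obtain ⟨b, rfl⟩ := MulAction.exists_smul_eq H P R₂
    rw [Helper7_Basic.mem_smul_sylow] at h1 h2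
    by_contra hne
    have hg : b⁻¹ * a ∉ Subgroup.normalizer ((P : Subgroup H) : Set H) := by
      intro hg
      apply hne
      have h3 := (hsm _ _).mpr hg
      rw [mul_smul, inv_smul_eq_iff] at h3
      exact h3
    have h3 := hTI _ hg
    have h4 : b⁻¹ * x * b ∈ (P : Subgroup H) ⊓ (MulAut.conj (b⁻¹ * a) • (P : Subgroup H)) := by
      refine Subgroup.mem_inf.mpr ⟨h2, ?_⟩
      rw [Helper7_Basic.mem_conj_smul]
      have h5 : (b⁻¹ * a)⁻¹ * (b⁻¹ * x * b) * (b⁻¹ * a) = a⁻¹ * x * a := by group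
      rw [h5]; exact h1
    rw [h3, Subgroup.mem_bot] at h4
    apply hx1
    have h5 : x = b * (b⁻¹ * x * b) * b⁻¹ := by group
    rw [h5, h4]; group
  have hN1 : ∀ (R : Sylow p H) (g x : H), x ∈ R → x ≠ 1 → g * x * g⁻¹ ∈ R →
      g ∈ Subgroup.normalizer ((R : Subgroup H) : Set H) := by
    intro R g x hx hx1 hgx
    rw [← hsm]
    apply hU (g • R) R (g * x * g⁻¹)
    · intro h; exact hx1 (conj_eq_one_iff.mp h)
    · rw [Helper7_Basic.mem_smul_sylow]
      have h5 : g⁻¹ * (g * x * g⁻¹) * g = x := by group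
      rw [h5]; exact hx
    · exact hgx
  -- a nontrivial normal subgroup normalizes no Sylow `p`-subgroup
  have hL1 : ∀ (K : Subgroup H), K.Normal → K ≠ ⊥ → ∀ R : Sylow p H,
      K ≤ Subgroup.normalizer ((R : Subgroup H) : Set H) → False := by
    intro K hK hK1 R hKR
    have hpK : p ∣ Nat.card K := by
      by_contra hnd
      have hc : (Nat.card K).Coprime p :=
        Nat.Coprime.symm ((Nat.Prime.coprime_iff_not_dvd hp).mpr hnd)
      have h1 := Helper5_PPrime.le_pPrimeCore (p := p) K hc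
      rw [hOp'] at h1
      exact hK1 (le_bot_iff.mp h1)
    obtain ⟨y, hy⟩ := exists_prime_orderOf_dvd_card' p hpK
    have hall : ∀ R' : Sylow p H, K ≤ Subgroup.normalizer ((R' : Subgroup H) : Set H) := by
      intro R' k hk
      obtain ⟨h, rfl⟩ := MulAction.exists_smul_eq H R R'
      rw [← hsm]
      have h1 : h⁻¹ * k * h ∈ K := by
        have h2 := hK.conj_mem k hk h⁻¹
        simpa using h2
      have h2 := (hsm _ _).mpr (hKR h1)
      calc k • h • R = (h * (h⁻¹ * k * h)) • R := by
            rw [← mul_smul]; congr 1; group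
        _ = h • R := by rw [mul_smul, h2]
    have hyo : orderOf (y : H) = p := by rw [Subgroup.orderOf_coe, hy]
    have hyp : IsPGroup p (Subgroup.zpowers (y : H)) := by
      apply IsPGroup.of_card (n := 1)
      rw [Nat.card_zpowers, hyo, pow_one]
    have hyall : ∀ R' : Sylow p H, (y : H) ∈ R' :=
      fun R' => mem_sylow_of_mem_normalizer R' y hyp (hall R' y.2)
    let T : Subgroup H := ⨅ R' : Sylow p H, (R' : Subgroup H)
    have hTn : T.Normal := by
      constructor
      intro n hn g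
      rw [Subgroup.mem_iInf] at hn ⊢
      intro R'
      have h1 := (Helper7_Basic.mem_smul_sylow g⁻¹ n R').mp (hn (g⁻¹ • R'))
      rw [inv_inv] at h1
      exact h1
    have hTp : IsPGroup p T := R.isPGroup'.to_le (iInf_le _ R)
    have hTle := Helper7_PCore.le_pCore hTn hTp
    rw [hOp] at hTle
    have h1 : (y : H) ∈ T := Subgroup.mem_iInf.mpr hyall
    have h2 : (y : H) = 1 := Subgroup.mem_bot.mp (hTle h1)
    rw [h2, orderOf_one] at hyo
    exact hp.one_lt.ne hyo
  -- the minimal normal subgroup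
  have htop : (⊤ : Subgroup H) ≠ ⊥ := fun h => hP1 (by rw [eq_bot_iff, ← h]; exact le_top)
  obtain ⟨N, -, hNmin⟩ := (Set.toFinite {K : Subgroup H | K.Normal ∧ K ≠ ⊥}).exists_le_minimal
    (a := ⊤) ⟨inferInstance, htop⟩
  obtain ⟨hNn, hNne⟩ := hNmin.prop
  haveI := hNn
  have hpN : p ∣ Nat.card N := by
    by_contra hnd
    have hc : (Nat.card N).Coprime p :=
      Nat.Coprime.symm ((Nat.Prime.coprime_iff_not_dvd hp).mpr hnd)
    have h1 := Helper5_PPrime.le_pPrimeCore (p := p) N hc
    rw [hOp'] at h1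
    exact hNne (le_bot_iff.mp h1)
  obtain ⟨x, hx⟩ := exists_prime_orderOf_dvd_card' p hpN
  have hxo : orderOf (x : H) = p := by rw [Subgroup.orderOf_coe, hx]
  obtain ⟨hx1, hxp, R, hxR⟩ := exists_sylow_of_orderOf (x : H) hxo
  -- uniqueness
  have hUniq : ∀ K : Subgroup H, K.Normal → K ≠ ⊥ → N ≤ K := by
    intro K hK hK1
    haveI := hK
    by_cases hNK : N ⊓ K = ⊥
    · exfalso
      apply hL1 K hK hK1 R
      intro k hk
      have hc : (x : H) * k = k * x :=
        Subgroup.commute_of_normal_of_disjoint N K hNn hK (disjoint_iff.mpr hNK) x k x.2 hk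
      apply hN1 R k x hxR hx1
      rw [← hc, mul_inv_cancel_right]
      exact hxR
    · have hmem : N ⊓ K ∈ {K : Subgroup H | K.Normal ∧ K ≠ ⊥} := ⟨inferInstance, hNK⟩
      exact (hNmin.le_of_le hmem inf_le_left).trans inf_le_right
  -- minimal `N`-invariant subgroups of `N` are all of `N`
  have hC : ∀ T₀ : Subgroup H, T₀ ≠ ⊥ → T₀ ≤ N → N ≤ Subgroup.normalizer (T₀ : Set H) →
      T₀ = N := by
    intro T₀ hT₀1 hT₀N hNT₀
    obtain ⟨T, hTT₀, hTmin⟩ := (Set.toFinite {T : Subgroup H | T ≠ ⊥ ∧ T ≤ N ∧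
      N ≤ Subgroup.normalizer (T : Set H)}).exists_le_minimal (a := T₀) ⟨hT₀1, hT₀N, hNT₀⟩
    obtain ⟨hT1, hTN, hNT⟩ := hTmin.prop
    suffices h : T = N by
      exact le_antisymm hT₀N (h ▸ hTT₀)
    by_contra hTne
    have hpT : p ∣ Nat.card T := by
      by_contra hnd
      have hc : (Nat.card T).Coprime p :=
        Nat.Coprime.symm ((Nat.Prime.coprime_iff_not_dvd hp).mpr hnd)
      haveI : (T.subgroupOf N).Normal := (Subgroup.normal_subgroupOf_iff_le_normalizer hTN).mpr hNT
      have hc' : (Nat.card (T.subgroupOf N)).Coprime p := by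
        rw [Nat.card_congr (Subgroup.subgroupOfEquivOfLe hTN).toEquiv]; exact hc
      have h1 := Helper5_PPrime.le_pPrimeCore (p := p) (T.subgroupOf N) hc'
      rw [pPrimeCore_normal_eq_bot p hOp' N, le_bot_iff, Subgroup.subgroupOf_eq_bot] at h1
      have h2 := disjoint_iff.mp h1
      rw [inf_eq_left.mpr hTN] at h2
      exact hT1 h2
    obtain ⟨y, hy⟩ := exists_prime_orderOf_dvd_card' p hpT
    have hyo : orderOf (y : H) = p := by rw [Subgroup.orderOf_coe, hy]
    obtain ⟨hy1, hyp, Ry, hyR⟩ := exists_sylow_of_orderOf (y : H) hyo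
    -- `T` is not normal in `H`
    have hnotnormal : ∃ h₀ : H, MulAut.conj h₀ • T ≠ T := by
      by_contra hall
      push Not at hall
      have hTn : T.Normal := by
        constructor
        intro n hn g
        rw [← hall g, Helper7_Basic.mem_conj_smul]
        have h5 : g⁻¹ * (g * n * g⁻¹) * g = n := by group
        rw [h5]; exact hn
      exact hTne (le_antisymm hTN (hUniq T hTn hT1))
    obtain ⟨h₀, hh₀⟩ := hnotnormal
    have hcomm : ∀ h : H, MulAut.conj h • T ≠ T → ∀ s ∈ MulAut.conj h • T, ∀ t ∈ T,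
        s * t = t * s := by
      intro h hh s hs t ht
      have hTh_le : MulAut.conj h • T ≤ N := conj_smul_le_of_normal N T hTN h
      have hN_Th : N ≤ Subgroup.normalizer ((MulAut.conj h • T : Subgroup H) : Set H) :=
        le_normalizer_conj_smul N T hNT h
      have hinf : MulAut.conj h • T ⊓ T = ⊥ := by
        by_contra hne
        have hmem : MulAut.conj h • T ⊓ T ∈ {T : Subgroup H | T ≠ ⊥ ∧ T ≤ N ∧
            N ≤ Subgroup.normalizer (T : Set H)} := by
          refine ⟨hne, inf_le_right.trans hTN, ?_⟩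
          exact (le_inf hN_Th hNT).trans Subgroup.inf_normalizer_le_normalizer_inf
        have hle : T ≤ MulAut.conj h • T ⊓ T := hTmin.le_of_le hmem inf_le_right
        have hle2 : T ≤ MulAut.conj h • T := hle.trans inf_le_left
        apply hh
        symm
        apply Subgroup.eq_of_le_of_card_ge hle2
        rw [← Nat.card_congr (Subgroup.equivSMul (MulAut.conj h) T).toEquiv]
      exact commute_of_inf_eq_bot _ _ (hTh_le.trans hNT) (hTN.trans hN_Th) hinf hs ht
    have hT_le : T ≤ Subgroup.normalizer ((Ry : Subgroup H) : Set H) := by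
      have h5 : h₀⁻¹ * (h₀ * y * h₀⁻¹) * h₀ = y := by group
      have hy' : h₀ * y * h₀⁻¹ ∈ MulAut.conj h₀ • T := by
        rw [Helper7_Basic.mem_conj_smul, h5]; exact y.2
      have hy'1 : h₀ * y * h₀⁻¹ ≠ 1 := fun h => hy1 (conj_eq_one_iff.mp h)
      have hy'R : h₀ * y * h₀⁻¹ ∈ h₀ • Ry := by
        rw [Helper7_Basic.mem_smul_sylow, h5]; exact hyR
      have hT' : T ≤ Subgroup.normalizer (((h₀ • Ry : Sylow p H) : Subgroup H) : Set H) := by
        intro t ht
        have hc := hcomm h₀ hh₀ _ hy' t ht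
        apply hN1 (h₀ • Ry) t (h₀ * y * h₀⁻¹) hy'R hy'1
        rw [← hc, mul_inv_cancel_right]
        exact hy'R
      have hyR' : (y : H) ∈ h₀ • Ry := mem_sylow_of_mem_normalizer _ _ hyp (hT' y.2)
      have h6 : h₀ • Ry = Ry := hU _ _ y hy1 hyR' hyR
      rw [h6] at hT'
      exact hT'
    have hconjN : ∀ h : H, MulAut.conj h • T ≤
        Subgroup.normalizer ((Ry : Subgroup H) : Set H) := by
      intro h
      by_cases hh : MulAut.conj h • T = T
      · rw [hh]
        exact hT_le
      · intro s hs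
        have hc := hcomm h hh s hs y y.2
        apply hN1 Ry s y hyR hy1
        rw [hc, mul_inv_cancel_right]
        exact hyR
    have hncl : Subgroup.normalClosure (T : Set H) ≤
        Subgroup.normalizer ((Ry : Subgroup H) : Set H) := by
      unfold Subgroup.normalClosure
      rw [Subgroup.closure_le]
      intro a ha
      obtain ⟨b, hb, hab⟩ := Group.mem_conjugatesOfSet_iff.mp ha
      obtain ⟨c, hc⟩ := isConj_iff.mp hab
      apply hconjN c
      rw [Helper7_Basic.mem_conj_smul, ← hc]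
      have h5 : c⁻¹ * (c * b * c⁻¹) * c = b := by group
      rw [h5]; exact hb
    have hncl1 : Subgroup.normalClosure (T : Set H) ≠ ⊥ := by
      intro h
      apply hT1
      rw [eq_bot_iff, ← h]
      exact Subgroup.le_normalClosure
    exact hL1 _ Subgroup.normalClosure_normal hncl1 Ry hncl
  have hsimple : IsSimpleGroup N := by
    haveI : Nontrivial N := (Subgroup.nontrivial_iff_ne_bot N).mpr hNne
    refine { toNontrivial := inferInstance, eq_bot_or_eq_top_of_normal := ?_ }
    intro S hS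
    by_cases hS1 : S = ⊥
    · left; exact hS1
    · right
      have h1 : S.map N.subtype = N := by
        apply hC
        · intro h; exact hS1 ((Subgroup.map_eq_bot_iff_of_injective _ N.subtype_injective).mp h)
        · exact Subgroup.map_subtype_le S
        · have h2 := Subgroup.le_normalizer_map (H := S) N.subtype
          rw [Subgroup.normalizer_eq_top, ← MonoidHom.range_eq_map, Subgroup.range_subtype] at h2
          exact h2
      rw [eq_top_iff]
      intro n _
      have hn : (n : H) ∈ S.map N.subtype := by rw [h1]; exact n.2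
      obtain ⟨s, hs, hsn⟩ := hn
      have h3 : s = n := Subtype.ext hsn
      rw [← h3]; exact hs
  have hnonab : ¬ IsMulCommutative N := by
    intro hcomm
    obtain ⟨Q⟩ : Nonempty (Sylow p N) := inferInstance
    have hQn : (Q : Subgroup N).Normal := by
      constructor
      intro n hn g
      have h1 : g * n * g⁻¹ = n := by
        rw [hcomm.is_comm.comm g n, mul_inv_cancel_right]
      rw [h1]; exact hn
    have h1 := Helper7_PCore.le_pCore hQn Q.isPGroup'
    rw [pCore_normal_eq_bot p hOp N, le_bot_iff] at h1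
    exact Q.ne_bot_of_dvd_card hpN h1
  have hcent : Subgroup.centralizer (N : Set H) = ⊥ := by
    by_contra hne
    have hCn : (Subgroup.centralizer (N : Set H)).Normal := inferInstance
    have hle := hUniq _ hCn hne
    apply hnonab
    constructor; constructor
    intro a b
    apply Subtype.ext
    have h2 := Subgroup.mem_centralizer_iff.mp (hle a.2) b b.2
    exact h2.symm
  refine ⟨N, hNn, hNne, hUniq, hsimple, hnonab, hcent, ?_⟩
  intro Q
  refine ⟨Q.ne_bot_of_dvd_card hpN, ?_⟩
  intro n hn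
  by_contra hne
  apply hn
  obtain ⟨z, hz, hz1⟩ : ∃ z ∈ (Q : Subgroup N) ⊓ MulAut.conj n • (Q : Subgroup N), z ≠ 1 := by
    by_contra hall
    push Not at hall
    apply hne
    rw [eq_bot_iff]
    intro z hz
    rw [Subgroup.mem_bot]
    exact hall z hz
  obtain ⟨hzQ, hzQn⟩ := Subgroup.mem_inf.mp hz
  rw [Helper7_Basic.mem_conj_smul] at hzQn
  have hQp : IsPGroup p ((Q : Subgroup N).map N.subtype) := Q.isPGroup'.map _
  obtain ⟨R', hR'⟩ := hQp.exists_le_sylow
  have hQeq : (R' : Subgroup H).subgroupOf N = Q := by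
    apply Q.is_maximal' (R'.isPGroup'.comap_subtype)
    intro w hw
    show (w : H) ∈ (R' : Subgroup H)
    exact hR' (Subgroup.mem_map_of_mem N.subtype hw)
  have hzR : (z : H) ∈ R' := hR' (Subgroup.mem_map_of_mem N.subtype hzQ)
  have hzR2 : (n : H)⁻¹ * z * n ∈ R' := by
    have h1 : ((n⁻¹ * z * n : ↥N) : H) ∈ (R' : Subgroup H) :=
      hR' (Subgroup.mem_map_of_mem N.subtype hzQn)
    rw [Subgroup.coe_mul, Subgroup.coe_mul, Subgroup.coe_inv] at h1
    exact h1
  have hz1' : (z : H) ≠ 1 := fun h => hz1 (Subtype.ext h)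
  have hnN : (n : H)⁻¹ ∈ Subgroup.normalizer ((R' : Subgroup H) : Set H) := by
    apply hN1 R' _ z hzR hz1'
    rw [inv_inv]; exact hzR2
  have hnN' : (n : H) ∈ Subgroup.normalizer ((R' : Subgroup H) : Set H) := by
    have h1 := Subgroup.inv_mem _ hnN
    rwa [inv_inv] at h1
  apply Subgroup.mem_normalizer_fintype
  intro w hw
  have hw' : w ∈ (R' : Subgroup H).subgroupOf N := by rw [hQeq]; exact hw
  rw [Subgroup.mem_subgroupOf] at hw'
  have h3 := (Subgroup.mem_normalizer_iff.mp hnN' w).mp hw'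
  have h4 : n * w * n⁻¹ ∈ (R' : Subgroup H).subgroupOf N := by
    rw [Subgroup.mem_subgroupOf]; simpa using h3
  rw [hQeq] at h4; exact h4

end Cfsg.Agent.S4620
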