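import Mathlib
import Cfsg.Statements.S0945
import Cfsg.Agent.Lib.Helper7_Basic
import Cfsg.Agent.Lib.Helper7_OmegaAut
import Cfsg.Agent.S4620

set_option autoImplicit false

open Cfsg

namespace Cfsg.Agent.S0945

open Cfsg.Agent.Lib

/-- at most two solutions of `2 • u = 0` in `ZMod (2 ^ m)` -/
theorem card_two_torsion_zmod (m : ℕ) :
    Nat.card {u : ZMod (2 ^ m) // 2 • u = 0} ≤ 2 := by
  classical
  haveI : NeZero (2 ^ m) := ⟨by positivity⟩
  rw [Nat.card_eq_fintype_card, Fintype.card_subtype]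
  exact IsAddCyclic.card_nsmul_eq_zero_le (α := ZMod (2 ^ m)) (by norm_num)

/-- at most four solutions of `2 • y = 0` in `ZMod (2 ^ m) × ZMod (2 ^ m)` -/
theorem card_two_torsion (m : ℕ) :
    Nat.card {y : ZMod (2 ^ m) × ZMod (2 ^ m) // 2 • y = 0} ≤ 4 := by
  haveI : NeZero (2 ^ m) := ⟨by positivity⟩
  have h1 := card_two_torsion_zmod m
  have h2 : Nat.card ({u : ZMod (2 ^ m) // 2 • u = 0} × {u : ZMod (2 ^ m) // 2 • u = 0}) ≤ 4 := by
    rw [Nat.card_prod]
    calc _ ≤ 2 * 2 := Nat.mul_le_mul h1 h1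
      _ = 4 := by norm_num
  refine le_trans (Nat.card_le_card_of_injective
    (fun y : {y : ZMod (2 ^ m) × ZMod (2 ^ m) // 2 • y = 0} =>
      ((⟨y.1.1, by have := y.2; rw [Prod.ext_iff] at this; exact this.1⟩,
        ⟨y.1.2, by have := y.2; rw [Prod.ext_iff] at this; exact this.2⟩) :
        {u : ZMod (2 ^ m) // 2 • u = 0} × {u : ZMod (2 ^ m) // 2 • u = 0})) ?_) h2
  intro y y' h
  rw [Prod.ext_iff] at h
  apply Subtype.ext
  apply Prod.ext
  · exact congrArg Subtype.val h.1
  · exact congrArg Subtype.val h.2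

section grp
variable {G : Type*} [Group G] [Finite G]

/-- an odd-order element normalizing an abelian `2`-group and centralizing its involutions
centralizes it -/
theorem odd_centralizes (P : Subgroup G) (hP : IsPGroup 2 P)
    (hab : ∀ x ∈ P, ∀ y ∈ P, x * y = y * x)
    (g : G) (hodd : (orderOf g).Coprime 2) (hgN : g ∈ Subgroup.normalizer (P : Set G))
    (hW : ∀ x ∈ P, x ^ 2 = 1 → g * x = x * g) : g ∈ Subgroup.centralizer (P : Set G) := by
  haveI : Fact (Nat.Prime 2) := ⟨Nat.prime_two⟩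
  apply Helper7_OmegaAut.mem_centralizer_of_omega g hodd P hP hgN
  intro a ha h
  rcases h with h | ⟨-, h4⟩
  · exact hW a ha h
  · have hga : g * a * g⁻¹ ∈ P := (Subgroup.mem_normalizer_iff.mp hgN a).mp ha
    have hwP : a⁻¹ * (g * a * g⁻¹) ∈ P := P.mul_mem (P.inv_mem ha) hga
    have ha2 : g * a ^ 2 = a ^ 2 * g :=
      hW (a ^ 2) (P.pow_mem ha 2) (by rw [← pow_mul]; exact h4)
    have hw2 : (a⁻¹ * (g * a * g⁻¹)) ^ 2 = 1 := by
      have hc : (g * a * g⁻¹) * a⁻¹ = a⁻¹ * (g * a * g⁻¹) := hab _ hga _ (P.inv_mem ha)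
      calc (a⁻¹ * (g * a * g⁻¹)) ^ 2
          = a⁻¹ * ((g * a * g⁻¹) * a⁻¹) * (g * a * g⁻¹) := by rw [pow_two]; group
        _ = a⁻¹ * (a⁻¹ * (g * a * g⁻¹)) * (g * a * g⁻¹) := by rw [hc]
        _ = (a ^ 2)⁻¹ * (g * a ^ 2) * g⁻¹ := by simp only [pow_two]; group
        _ = 1 := by rw [ha2]; group
    have hgw : g * (a⁻¹ * (g * a * g⁻¹)) = (a⁻¹ * (g * a * g⁻¹)) * g := hW _ hwP hw2
    have hgx : g * a * g⁻¹ = a * (a⁻¹ * (g * a * g⁻¹)) := by group
    have hw1 := Helper7_OmegaAut.eq_one_of_conj_eq_mul (p := 2) g a _ hgx hgw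
      ⟨1, by simpa using hw2⟩ hodd
    rw [hw1, mul_one] at hgx
    exact eq_mul_of_mul_inv_eq hgx

/-- reduce to the odd part -/
theorem decomp (P : Sylow 2 G) (hab : ∀ x ∈ (P : Subgroup G), ∀ y ∈ (P : Subgroup G), x * y = y * x)
    (g : G) (hgN : g ∈ Subgroup.normalizer ((P : Subgroup G) : Set G)) :
    ∃ k : ℕ, (orderOf (g ^ 2 ^ k)).Coprime 2 ∧
      (g ^ 2 ^ k ∈ Subgroup.centralizer ((P : Subgroup G) : Set G) →
        g ∈ Subgroup.centralizer ((P : Subgroup G) : Set G)) := by
  haveI : Fact (Nat.Prime 2) := ⟨Nat.prime_two⟩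
  obtain ⟨k, r, hr, hn⟩ := Nat.exists_eq_two_pow_mul_odd (orderOf_pos g).ne'
  have hr2 : Nat.Coprime 2 r :=
    (Nat.Prime.coprime_iff_not_dvd Nat.prime_two).mpr hr.not_two_dvd_nat
  have hrpos : 0 < r := hr.pos
  refine ⟨k, ?_, ?_⟩
  · rw [orderOf_pow, hn, Nat.gcd_eq_right (Dvd.intro _ rfl),
      Nat.mul_div_cancel_left _ (by positivity)]
    exact hr2.symm
  · intro h1
    have ho : orderOf (g ^ r) = 2 ^ k := by
      rw [orderOf_pow, hn, Nat.gcd_eq_right (Dvd.intro_left _ rfl),
        Nat.mul_div_cancel _ hrpos]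
    have h2 : g ^ r ∈ (P : Subgroup G) := by
      apply Cfsg.Agent.S4620.mem_sylow_of_mem_normalizer P (g ^ r) ?_ (Subgroup.pow_mem _ hgN r)
      apply IsPGroup.of_card (n := k)
      rw [Nat.card_zpowers, ho]
    have h3 : g ^ r ∈ Subgroup.centralizer ((P : Subgroup G) : Set G) := by
      rw [Subgroup.mem_centralizer_iff]
      intro x hx
      exact hab x hx _ h2
    have hco : IsCoprime ((2 ^ k : ℕ) : ℤ) (r : ℤ) :=
      Nat.isCoprime_iff_coprime.mpr (Nat.Coprime.pow_left k hr2)
    obtain ⟨u, v, huv⟩ := hco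
    have hg : g = (g ^ 2 ^ k) ^ u * (g ^ r) ^ v := by
      calc g = g ^ (1 : ℤ) := (zpow_one g).symm
        _ = g ^ (u * ((2 ^ k : ℕ) : ℤ) + v * (r : ℤ)) := by rw [huv]
        _ = (g ^ ((2 ^ k : ℕ) : ℤ)) ^ u * (g ^ (r : ℤ)) ^ v := by
            rw [zpow_add, mul_comm u, mul_comm v, zpow_mul, zpow_mul]
        _ = (g ^ 2 ^ k) ^ u * (g ^ r) ^ v := by rw [zpow_natCast, zpow_natCast]
    rw [hg]
    exact Subgroup.mul_mem _ (Subgroup.zpow_mem _ h1 u) (Subgroup.zpow_mem _ h3 v)

/-- an odd-order element of `N(P)` fixing one involution of `P` fixes all of them, when there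
are at most `4` elements of square one. -/
theorem fix_all (P : Subgroup G) (hab : ∀ x ∈ P, ∀ y ∈ P, x * y = y * x) (hcard : Nat.card {x : G // x ∈ P ∧ x ^ 2 = 1} ≤ 4)
    (g : G) (hodd : (orderOf g).Coprime 2) (hgN : g ∈ Subgroup.normalizer (P : Set G))
    (t : G) (htP : t ∈ P) (ht2 : t ^ 2 = 1) (ht1 : t ≠ 1) (hgt : g * t = t * g) :
    ∀ s ∈ P, s ^ 2 = 1 → g * s = s * g := by
  classical
  intro s hsP hs2
  by_cases hs1 : s = 1
  · simp [hs1]
  by_cases hst : s = t
  · rw [hst]; exact hgt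
  have hs'P : g * s * g⁻¹ ∈ P := (Subgroup.mem_normalizer_iff.mp hgN s).mp hsP
  have hs'2 : (g * s * g⁻¹) ^ 2 = 1 := by rw [conj_pow, hs2]; group
  have hs'1 : g * s * g⁻¹ ≠ 1 := by
    intro h; apply hs1
    have : s = g⁻¹ * (g * s * g⁻¹) * g := by group
    rw [this, h]; group
  have hgt' : g * t * g⁻¹ = t := by rw [hgt]; group
  have hs't : g * s * g⁻¹ ≠ t := by
    intro h; apply hst
    calc s = g⁻¹ * (g * s * g⁻¹) * g := by group
      _ = g⁻¹ * t * g := by rw [h]
      _ = g⁻¹ * (g * t * g⁻¹) * g := by rw [hgt']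
      _ = t := by group
  have htinv : t⁻¹ = t := by
    rw [inv_eq_iff_mul_eq_one, ← pow_two]; exact ht2
  have key : g * s * g⁻¹ = s ∨ g * s * g⁻¹ = t * s := by
    by_contra hcon
    push Not at hcon
    have hsub : ((({1, t, s, t * s, g * s * g⁻¹} : Finset G)) : Set G) ⊆
        {x : G | x ∈ P ∧ x ^ 2 = 1} := by
      intro x hx
      simp only [Finset.coe_insert, Finset.coe_singleton, Set.mem_insert_iff,
        Set.mem_singleton_iff] at hx
      rcases hx with rfl | rfl | rfl | rfl | rfl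
      · exact ⟨P.one_mem, one_pow 2⟩
      · exact ⟨htP, ht2⟩
      · exact ⟨hsP, hs2⟩
      · refine ⟨P.mul_mem htP hsP, ?_⟩
        have hts : (t * s) ^ 2 = t * (s * t) * s := by rw [pow_two]; group
        rw [hts, hab s hsP t htP]
        calc t * (t * s) * s = t ^ 2 * s ^ 2 := by rw [pow_two, pow_two]; group
          _ = 1 := by rw [ht2, hs2, one_mul]
      · exact ⟨hs'P, hs'2⟩
    have h5 : ({1, t, s, t * s, g * s * g⁻¹} : Finset G).card = 5 := by
      rw [Finset.card_insert_of_notMem, Finset.card_insert_of_notMem,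
        Finset.card_insert_of_notMem, Finset.card_insert_of_notMem, Finset.card_singleton]
      · simp only [Finset.mem_singleton]; exact fun h => hcon.2 h.symm
      · simp only [Finset.mem_insert, Finset.mem_singleton, not_or]
        refine ⟨fun h => ht1 ?_, fun h => hcon.1 h.symm⟩
        have := mul_right_cancel (a := 1) (b := s) (c := t) (by rw [one_mul]; exact h)
        exact this.symm
      · simp only [Finset.mem_insert, Finset.mem_singleton, not_or]
        refine ⟨fun h => hst h.symm, fun h => hs1 ?_, fun h => hs't h.symm⟩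
        have := mul_left_cancel (a := t) (b := 1) (c := s) (by rw [mul_one]; exact h)
        exact this.symm
      · simp only [Finset.mem_insert, Finset.mem_singleton, not_or]
        refine ⟨fun h => ht1 h.symm, fun h => hs1 h.symm, fun h => hst ?_, fun h => hs'1 h.symm⟩
        have : s = t⁻¹ := eq_inv_of_mul_eq_one_right h.symm
        rw [this, htinv]
    have h6 := Set.ncard_le_ncard hsub (Set.toFinite _)
    rw [Set.ncard_coe_finset, h5] at h6
    have h7 : ({x : G | x ∈ P ∧ x ^ 2 = 1} : Set G).ncard =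
        Nat.card {x : G // x ∈ P ∧ x ^ 2 = 1} := rfl
    omega
  rcases key with h | h
  · exact eq_mul_of_mul_inv_eq h
  · have h2 : g ^ 2 * s * (g ^ 2)⁻¹ = s := by
      calc g ^ 2 * s * (g ^ 2)⁻¹ = g * (g * s * g⁻¹) * g⁻¹ := by simp only [pow_two]; group
        _ = g * (t * s) * g⁻¹ := by rw [h]
        _ = (g * t * g⁻¹) * (g * s * g⁻¹) := by group
        _ = t * (t * s) := by rw [hgt', h]
        _ = s := by rw [← mul_assoc, ← pow_two, ht2, one_mul]
    have hg2 : Commute (g ^ 2) s := eq_mul_of_mul_inv_eq h2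
    obtain ⟨m, hm⟩ := exists_pow_eq_self_of_coprime (x := g) (n := 2) hodd.symm
    have hc : Commute g s := by rw [← hm]; exact hg2.pow_left m
    exact hc.eq

end grp

/-- conjugation action of `N(P)` on the elements of `P` of square one -/
@[reducible] def actW {G : Type*} [Group G] (P : Subgroup G) :
    MulAction (Subgroup.normalizer (P : Set G)) {x : G // x ∈ P ∧ x ^ 2 = 1} where
  smul g x := ⟨(g : G) * x * (g : G)⁻¹, (Subgroup.mem_normalizer_iff.mp g.2 x).mp x.2.1, by
    rw [conj_pow, x.2.2]; group⟩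
  one_smul x := by
    apply Subtype.ext
    show ((1 : Subgroup.normalizer (P : Set G)) : G) * x *
      ((1 : Subgroup.normalizer (P : Set G)) : G)⁻¹ = x
    simp
  mul_smul g h x := by
    apply Subtype.ext
    show ((g * h : Subgroup.normalizer (P : Set G)) : G) * x *
      ((g * h : Subgroup.normalizer (P : Set G)) : G)⁻¹ = (g : G) * ((h : G) * x * (h : G)⁻¹) * (g : G)⁻¹
    simp [mul_assoc]

/-- Let P be a Sylow 2-subgroup of the finite group G isomorphic to Z/2^m × Z/2^m with m ≥ 1. Then (i) the index of C_G(P) in N_G(P) is 1 or 3, and (ii) if it is not 1, then for every z ≠ 1 in P, C_G(z) ∩ N_G(P) = C_G(P). -/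
theorem result {G : Type*} [Group G] [Finite G] (P : Sylow 2 G) (m : ℕ) (hm : 1 ≤ m) (e : (P : Subgroup G) ≃* Multiplicative (ZMod (2 ^ m) × ZMod (2 ^ m))) : ((Subgroup.centralizer (P : Set G)).relIndex (Subgroup.normalizer (P : Set G)) = 1 ∨ (Subgroup.centralizer (P : Set G)).relIndex (Subgroup.normalizer (P : Set G)) = 3) ∧ ((Subgroup.centralizer (P : Set G)).relIndex (Subgroup.normalizer (P : Set G)) ≠ 1 → ∀ z ∈ (P : Subgroup G), z ≠ 1 → Subgroup.centralizer ({z} : Set G) ⊓ Subgroup.normalizer (P : Set G) = Subgroup.centralizer (P : Set G)) := by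
  classical
  haveI : Fact (Nat.Prime 2) := ⟨Nat.prime_two⟩
  haveI : NeZero (2 ^ m) := ⟨by positivity⟩
  have hab : ∀ x ∈ (P : Subgroup G), ∀ y ∈ (P : Subgroup G), x * y = y * x := by
    intro x hx y hy
    have h := e.injective (a₁ := ⟨x, hx⟩ * ⟨y, hy⟩) (a₂ := ⟨y, hy⟩ * ⟨x, hx⟩)
      (by rw [map_mul, map_mul, mul_comm])
    exact congrArg Subtype.val h
  have hcard : Nat.card {x : G // x ∈ (P : Subgroup G) ∧ x ^ 2 = 1} ≤ 4 := by
    refine le_trans (Nat.card_le_card_of_injective
      (fun x : {x : G // x ∈ (P : Subgroup G) ∧ x ^ 2 = 1} =>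
        (⟨Multiplicative.toAdd (e ⟨x.1, x.2.1⟩), ?_⟩ :
          {y : ZMod (2 ^ m) × ZMod (2 ^ m) // 2 • y = 0})) ?_) (card_two_torsion m)
    · have h1 : (e ⟨x.1, x.2.1⟩) ^ 2 = 1 := by
        rw [← map_pow]
        have : (⟨x.1, x.2.1⟩ : (P : Subgroup G)) ^ 2 = 1 := by
          apply Subtype.ext
          simpa using x.2.2
        rw [this, map_one]
      exact congrArg Multiplicative.toAdd h1
    · intro x y h
      have h1 : Multiplicative.toAdd (e ⟨x.1, x.2.1⟩) = Multiplicative.toAdd (e ⟨y.1, y.2.1⟩) :=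
        congrArg Subtype.val h
      have h2 := e.injective (Multiplicative.toAdd.injective h1)
      apply Subtype.ext
      exact congrArg (fun w : (P : Subgroup G) => (w : G)) h2
  have hK : ∀ g ∈ Subgroup.normalizer ((P : Subgroup G) : Set G),
      (∀ x ∈ (P : Subgroup G), x ^ 2 = 1 → g * x = x * g) →
      g ∈ Subgroup.centralizer ((P : Subgroup G) : Set G) := by
    intro g hg h
    obtain ⟨k, hk1, hk2⟩ := decomp P hab g hg
    apply hk2
    apply odd_centralizes (P : Subgroup G) P.isPGroup' hab (g ^ 2 ^ k) hk1 (Subgroup.pow_mem _ hg _)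
    intro x hx hx2
    exact ((show Commute g x from h x hx hx2).pow_left _).eq
  have hCN : Subgroup.centralizer ((P : Subgroup G) : Set G) ≤
      Subgroup.normalizer ((P : Subgroup G) : Set G) := by
    intro g hg
    rw [Subgroup.mem_centralizer_iff] at hg
    rw [Subgroup.mem_normalizer_iff]
    intro x
    constructor
    · intro hx
      have : g * x * g⁻¹ = x := by rw [← hg x hx]; group
      rw [this]; exact hx
    · intro hx
      have h1 := hg _ hx
      have : x = g * x * g⁻¹ := by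
        calc x = g⁻¹ * (g * x * g⁻¹ * g) := by group
          _ = g⁻¹ * (g * (g * x * g⁻¹)) := by rw [h1]
          _ = g * x * g⁻¹ := by group
      rw [this]; exact hx
  have hPC : (P : Subgroup G) ≤ Subgroup.centralizer ((P : Subgroup G) : Set G) := by
    intro x hx
    rw [Subgroup.mem_centralizer_iff]
    intro y hy
    exact hab y hy x hx
  constructor
  · letI := actW (P : Subgroup G)
    have hker : (MulAction.toPermHom (Subgroup.normalizer ((P : Subgroup G) : Set G))
        {x : G // x ∈ (P : Subgroup G) ∧ x ^ 2 = 1}).ker =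
        (Subgroup.centralizer ((P : Subgroup G) : Set G)).subgroupOf
          (Subgroup.normalizer ((P : Subgroup G) : Set G)) := by
      ext g
      rw [MonoidHom.mem_ker, Subgroup.mem_subgroupOf]
      constructor
      · intro h
        apply hK g g.2
        intro x hx hx2
        have h1 := congrArg (fun σ => ((σ ⟨x, hx, hx2⟩ : {x : G // x ∈ (P : Subgroup G) ∧ x ^ 2 = 1}) : G)) h
        have h2 : (g : G) * x * (g : G)⁻¹ = x := h1
        exact eq_mul_of_mul_inv_eq h2
      · intro h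
        rw [Subgroup.mem_centralizer_iff] at h
        ext x
        show (g : G) * x * (g : G)⁻¹ = x
        rw [← h x x.2.1]; group
    have h1 : (Subgroup.centralizer ((P : Subgroup G) : Set G)).relIndex
        (Subgroup.normalizer ((P : Subgroup G) : Set G)) ∣ 24 := by
      rw [Subgroup.relIndex, ← hker, Subgroup.index_ker]
      refine dvd_trans (Subgroup.card_subgroup_dvd_card _) ?_
      rw [Nat.card_perm]
      exact dvd_trans (Nat.factorial_dvd_factorial hcard) (by decide)
    have h2 : ¬ 2 ∣ (Subgroup.centralizer ((P : Subgroup G) : Set G)).relIndex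
        (Subgroup.normalizer ((P : Subgroup G) : Set G)) := by
      intro h
      have h3 := Subgroup.relIndex_dvd_of_le_left (Subgroup.normalizer ((P : Subgroup G) : Set G)) hPC
      have h4 := Subgroup.relIndex_mul_index (hPC.trans hCN)
      apply P.not_dvd_index
      rw [← h4]
      exact dvd_mul_of_dvd_left (dvd_trans h h3) _
    have h3 : (Subgroup.centralizer ((P : Subgroup G) : Set G)).relIndex
        (Subgroup.normalizer ((P : Subgroup G) : Set G)) ∣ 3 := by
      have hc : Nat.Coprime ((Subgroup.centralizer ((P : Subgroup G) : Set G)).relIndex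
        (Subgroup.normalizer ((P : Subgroup G) : Set G))) 8 := by
        have : Nat.Coprime 2 ((Subgroup.centralizer ((P : Subgroup G) : Set G)).relIndex
          (Subgroup.normalizer ((P : Subgroup G) : Set G))) :=
          (Nat.Prime.coprime_iff_not_dvd Nat.prime_two).mpr h2
        exact (Nat.Coprime.pow_left 3 this).symm
      exact hc.dvd_of_dvd_mul_left (by simpa using h1)
    exact (Nat.dvd_prime Nat.prime_three).mp h3
  · intro _ z hz hz1
    apply le_antisymm
    · intro g hg
      obtain ⟨hgz, hgN⟩ := Subgroup.mem_inf.mp hg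
      rw [Subgroup.mem_centralizer_singleton_iff] at hgz
      -- an involution in ⟨z⟩
      obtain ⟨j, hj⟩ := (IsPGroup.iff_orderOf.mp P.isPGroup') ⟨z, hz⟩
      have hoz : orderOf z = 2 ^ j := by
        rw [← hj]; exact (Subgroup.orderOf_mk z hz).symm
      have hj1 : j ≠ 0 := by
        intro h0
        rw [h0, pow_zero, orderOf_eq_one_iff] at hoz
        exact hz1 hoz
      obtain ⟨i, rfl⟩ := Nat.exists_eq_succ_of_ne_zero hj1
      have ht2 : (z ^ 2 ^ i) ^ 2 = 1 := by
        rw [← pow_mul, ← pow_succ, ← hoz]; exact pow_orderOf_eq_one z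
      have ht1 : z ^ 2 ^ i ≠ 1 := by
        apply pow_ne_one_of_lt_orderOf (by positivity)
        rw [hoz]; exact Nat.pow_lt_pow_right (by norm_num) (Nat.lt_succ_self i)
      have htP : z ^ 2 ^ i ∈ (P : Subgroup G) := Subgroup.pow_mem _ hz _
      obtain ⟨k, hk1, hk2⟩ := decomp P hab g hgN
      apply hk2
      apply odd_centralizes (P : Subgroup G) P.isPGroup' hab (g ^ 2 ^ k) hk1 (Subgroup.pow_mem _ hgN _)
      apply fix_all (P : Subgroup G) hab hcard (g ^ 2 ^ k) hk1 (Subgroup.pow_mem _ hgN _) (z ^ 2 ^ i)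
        htP ht2 ht1
      have hc : Commute g z := hgz
      exact ((hc.pow_left _).pow_right _).eq
    · refine le_inf ?_ hCN
      exact Subgroup.centralizer_le (Set.singleton_subset_iff.mpr hz)

end Cfsg.Agent.S0945
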