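import Cfsg.Statements.S0946
import Mathlib
import Cfsg.Agent.Lib.Helper7_OmegaAut
import Cfsg.Agent.Lib.Helper5_Sylow

set_option autoImplicit false
open Cfsg

namespace Cfsg.Agent.S0946

open Subgroup

section ZModFacts

variable (m : ℕ)

theorem zmod_pow_smul (c : ZMod (2 ^ m)) : (2 ^ m) • c = 0 := by
  rw [nsmul_eq_mul]
  have : ((2 ^ m : ℕ) : ZMod (2 ^ m)) = 0 := ZMod.natCast_self _
  rw [this, zero_mul]

theorem zmod_two_smul (hm : 1 ≤ m) (c : ZMod (2 ^ m)) (hc : 2 • c = 0) :
    c = 0 ∨ c = ((2 ^ (m - 1) : ℕ) : ZMod (2 ^ m)) := by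
  haveI : NeZero (2 ^ m) := ⟨by positivity⟩
  obtain ⟨k, rfl⟩ : ∃ k, m = k + 1 := ⟨m - 1, by omega⟩
  have h1 : c = ((c.val : ℕ) : ZMod (2 ^ (k + 1))) := (ZMod.natCast_zmod_val c).symm
  have h2 : ((2 * c.val : ℕ) : ZMod (2 ^ (k + 1))) = 0 := by
    push_cast
    rw [ZMod.natCast_zmod_val, ← hc, two_nsmul, two_mul]
  rw [ZMod.natCast_eq_zero_iff] at h2
  have h2' : 2 * 2 ^ k ∣ 2 * c.val := by
    have : 2 * 2 ^ k = 2 ^ (k + 1) := by ring
    rw [this]; exact h2
  have h3 : 2 ^ k ∣ c.val := (Nat.mul_dvd_mul_iff_left (by norm_num)).mp h2'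
  obtain ⟨j, hj⟩ := h3
  have h4 : c.val < 2 ^ k * 2 := by
    have := ZMod.val_lt c
    have h0 : 2 ^ k * 2 = 2 ^ (k + 1) := by ring
    rw [h0]; exact this
  have h5 : j < 2 := by
    by_contra h
    push_neg at h
    have : 2 ^ k * 2 ≤ 2 ^ k * j := Nat.mul_le_mul_left _ h
    omega
  rw [h1, hj]
  interval_cases j
  · left; simp
  · right; simp

theorem half_ne_zero (hm : 1 ≤ m) : ((2 ^ (m - 1) : ℕ) : ZMod (2 ^ m)) ≠ 0 := by
  rw [Ne, ZMod.natCast_eq_zero_iff]
  intro h
  have h1 := Nat.le_of_dvd (by positivity) h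
  have h2 : 2 ^ (m - 1) < 2 ^ m := Nat.pow_lt_pow_right (by norm_num) (by omega)
  omega

end ZModFacts

section Structure

variable {G : Type*} [Group G]

/-- The facts about a homocyclic group of rank two that we use. -/
structure Homo (P : Subgroup G) (m : ℕ) : Prop where
  comm : ∀ x ∈ P, ∀ y ∈ P, x * y = y * x
  pow : ∀ x ∈ P, x ^ (2 ^ m) = 1
  invol : ∃ u ∈ P, ∃ v ∈ P, u ≠ 1 ∧ v ≠ 1 ∧ u ≠ v ∧ u * v ≠ 1 ∧
    ∀ x ∈ P, x ^ 2 = 1 → x = 1 ∨ x = u ∨ x = v ∨ x = u * v

theorem homo_of_equiv (P : Subgroup G) (m : ℕ) (hm : 1 ≤ m)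
    (e : P ≃* Multiplicative (ZMod (2 ^ m) × ZMod (2 ^ m))) : Homo P m := by
  set h : ZMod (2 ^ m) := ((2 ^ (m - 1) : ℕ) : ZMod (2 ^ m)) with hh
  have hh0 : h ≠ 0 := half_ne_zero m hm
  refine ⟨?_, ?_, ?_⟩
  · intro x hx y hy
    have : (⟨x, hx⟩ : P) * ⟨y, hy⟩ = ⟨y, hy⟩ * ⟨x, hx⟩ := by
      apply e.injective
      rw [map_mul, map_mul, mul_comm]
    exact congrArg Subtype.val this
  · intro x hx
    have : (⟨x, hx⟩ : P) ^ (2 ^ m) = 1 := by
      apply e.injective
      rw [map_pow, map_one]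
      apply Multiplicative.toAdd.injective
      rw [toAdd_pow, toAdd_one]
      ext
      · simp only [Prod.smul_fst, Prod.fst_zero]; exact zmod_pow_smul m _
      · simp only [Prod.smul_snd, Prod.snd_zero]; exact zmod_pow_smul m _
    exact congrArg Subtype.val this
  · set u : P := e.symm (Multiplicative.ofAdd (h, 0)) with hu
    set v : P := e.symm (Multiplicative.ofAdd (0, h)) with hv
    have hu1 : u ≠ 1 := by
      rw [hu, Ne, MulEquiv.map_eq_one_iff]
      intro h1
      have := congrArg (fun z => (Multiplicative.toAdd z).1) h1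
      simp at this
      exact hh0 this
    have hv1 : v ≠ 1 := by
      rw [hv, Ne, MulEquiv.map_eq_one_iff]
      intro h1
      have := congrArg (fun z => (Multiplicative.toAdd z).2) h1
      simp at this
      exact hh0 this
    have huv : u ≠ v := by
      rw [hu, hv, Ne, EmbeddingLike.apply_eq_iff_eq]
      intro h1
      have := congrArg (fun z => (Multiplicative.toAdd z).1) h1
      simp at this
      exact hh0 this
    have huv1 : u * v ≠ 1 := by
      rw [hu, hv, ← map_mul, Ne, MulEquiv.map_eq_one_iff]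
      intro h1
      have := congrArg (fun z => (Multiplicative.toAdd z).1) h1
      simp at this
      exact hh0 this
    refine ⟨u, u.2, v, v.2, ?_, ?_, ?_, ?_, ?_⟩
    · intro h1; apply hu1; exact Subtype.ext h1
    · intro h1; apply hv1; exact Subtype.ext h1
    · intro h1; apply huv; exact Subtype.ext h1
    · intro h1; apply huv1; exact Subtype.ext h1
    · intro x hx hx2
      have h1 : (e ⟨x, hx⟩) ^ 2 = 1 := by
        rw [← map_pow]
        have : (⟨x, hx⟩ : P) ^ 2 = 1 := Subtype.ext hx2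
        rw [this, map_one]
      set a := Multiplicative.toAdd (e ⟨x, hx⟩) with ha
      have h2 : 2 • a = 0 := by
        have := congrArg Multiplicative.toAdd h1
        rwa [toAdd_pow, toAdd_one] at this
      have h3 : 2 • a.1 = 0 := by
        have := congrArg Prod.fst h2
        simpa using this
      have h4 : 2 • a.2 = 0 := by
        have := congrArg Prod.snd h2
        simpa using this
      have hx' : (⟨x, hx⟩ : P) = e.symm (Multiplicative.ofAdd a) := by
        rw [ha, ofAdd_toAdd, MulEquiv.symm_apply_apply]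
      have key : ∀ b : ZMod (2 ^ m) × ZMod (2 ^ m), a = b → x = (e.symm (Multiplicative.ofAdd b) : P) := by
        intro b hb
        rw [← hb, ← hx']
      rcases zmod_two_smul m hm a.1 h3 with h5 | h5 <;> rcases zmod_two_smul m hm a.2 h4 with h6 | h6
      · left
        have := key (0, 0) (Prod.ext h5 h6)
        rw [this]
        have : (Multiplicative.ofAdd ((0, 0) : ZMod (2 ^ m) × ZMod (2 ^ m))) = 1 := rfl
        rw [this, map_one]; rfl
      · right; right; left
        exact key (0, h) (Prod.ext h5 h6)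
      · right; left
        exact key (h, 0) (Prod.ext h5 h6)
      · right; right; right
        have := key (h, h) (Prod.ext h5 h6)
        rw [this, hu, hv]
        rw [← Subgroup.coe_mul, ← map_mul]
        congr 2
        rw [← ofAdd_add]
        simp

end Structure

section Main

variable {G : Type*} [Group G] [Finite G]

/-- An odd order element normalizing `P` and fixing its involutions centralizes `P`. -/
theorem centralizes (P : Subgroup G) (m : ℕ) (hP : Homo P m) (g : G)
    (hgN : g ∈ normalizer (P : Set G)) (hodd : (orderOf g).Coprime 2)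
    (hfix : ∀ x ∈ P, x ^ 2 = 1 → g * x * g⁻¹ = x) : ∀ x ∈ P, g * x * g⁻¹ = x := by
  have hgP : ∀ y ∈ P, g * y * g⁻¹ ∈ P := fun y hy => (mem_normalizer_iff.mp hgN y).mp hy
  have claim : ∀ i, i ≤ m → ∀ x ∈ P, g * x ^ (2 ^ (m - i)) * g⁻¹ = x ^ (2 ^ (m - i)) := by
    intro i
    induction i with
    | zero =>
      intro _ x hx
      rw [Nat.sub_zero, hP.pow x hx]; group
    | succ i ih =>
      intro hi x hx
      set u := x ^ (2 ^ (m - (i + 1))) with hu
      have huP : u ∈ P := pow_mem hx _
      have hu2 : u ^ 2 = x ^ (2 ^ (m - i)) := by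
        rw [hu, ← pow_mul, ← pow_succ]; congr 2; omega
      have hfix2 : g * u ^ 2 * g⁻¹ = u ^ 2 := by rw [hu2]; exact ih (by omega) x hx
      set c := u⁻¹ * (g * u * g⁻¹) with hc
      have hcP : c ∈ P := mul_mem (inv_mem huP) (hgP u huP)
      have hc2 : c ^ 2 = 1 := by
        have hcomm : Commute u⁻¹ (g * u * g⁻¹) := hP.comm _ (inv_mem huP) _ (hgP u huP)
        rw [hc, hcomm.mul_pow, conj_pow, hfix2, inv_pow, inv_mul_cancel]
      have hgc := hfix c hcP hc2
      have hguc : g * u * g⁻¹ = u * c := by rw [hc]; group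
      have hgc' : g * c = c * g := by
        calc g * c = g * c * g⁻¹ * g := by group
          _ = c * g := by rw [hgc]
      have := Cfsg.Agent.Lib.Helper7_OmegaAut.eq_one_of_conj_eq_mul (p := 2) g u c hguc hgc'
        ⟨1, by rwa [pow_one]⟩ hodd
      rw [hguc, this, mul_one]
  intro x hx
  have := claim m le_rfl x hx
  simpa using this

/-- From an element of `N(P) \ C(P)` to one of odd order, when `P` is an abelian Sylow subgroup. -/
theorem exists_odd (P : Sylow 2 G) (hab : ∀ x ∈ P, ∀ y ∈ P, x * y = y * x) (g : G)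
    (hgN : g ∈ normalizer ((P : Subgroup G) : Set G))
    (hgC : g ∉ centralizer ((P : Subgroup G) : Set G)) :
    ∃ g' ∈ normalizer ((P : Subgroup G) : Set G), (orderOf g').Coprime 2 ∧
      g' ∉ centralizer ((P : Subgroup G) : Set G) := by
  haveI : Fact (Nat.Prime 2) := ⟨Nat.prime_two⟩
  obtain ⟨a, r, hr, ho⟩ := Nat.exists_eq_two_pow_mul_odd (orderOf_pos g).ne'
  refine ⟨g ^ (2 ^ a), pow_mem hgN _, ?_, ?_⟩
  · have h1 : (g ^ (2 ^ a)) ^ r = 1 := by rw [← pow_mul, ← ho, pow_orderOf_eq_one]
    have h2 := orderOf_dvd_of_pow_eq_one h1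
    exact Nat.Coprime.coprime_dvd_left h2 (Nat.coprime_two_right.mpr hr)
  · intro hC
    apply hgC
    -- the 2-part lies in P
    have h1 : (g ^ r) ^ (2 ^ a) = 1 := by
      rw [← pow_mul, mul_comm, ← ho, pow_orderOf_eq_one]
    have h2 : IsPGroup 2 (zpowers (g ^ r)) := by
      have h3 := orderOf_dvd_of_pow_eq_one h1
      obtain ⟨j, -, hj⟩ := (Nat.dvd_prime_pow Nat.prime_two).mp h3
      apply IsPGroup.of_card (n := j)
      rw [Nat.card_zpowers, hj]
    have h3 : zpowers (g ^ r) ≤ normalizer ((P : Subgroup G) : Set G) :=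
      (zpowers_le).mpr (pow_mem hgN r)
    have h4 : IsPGroup 2 (zpowers (g ^ r) ⊔ (P : Subgroup G) : Subgroup G) :=
      IsPGroup.to_sup_of_normal_right' h2 P.isPGroup' h3
    have h5 : zpowers (g ^ r) ⊔ (P : Subgroup G) = P := P.is_maximal' h4 le_sup_right
    have h6 : g ^ r ∈ (P : Subgroup G) := by
      rw [← h5]; exact mem_sup_left (mem_zpowers _)
    have h7 : g ^ r ∈ centralizer ((P : Subgroup G) : Set G) := by
      rw [mem_centralizer_iff]
      intro y hy
      exact hab y hy _ h6
    -- Bezout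
    have hcop : Nat.Coprime (2 ^ a) r := Nat.Coprime.pow_left a (Nat.coprime_two_left.mpr hr)
    have hb := Nat.gcd_eq_gcd_ab (2 ^ a) r
    rw [hcop, Nat.cast_one] at hb
    have h8 : g = (g ^ (2 ^ a)) ^ (Nat.gcdA (2 ^ a) r) * (g ^ r) ^ (Nat.gcdB (2 ^ a) r) := by
      rw [← zpow_natCast g (2 ^ a), ← zpow_natCast g r, ← zpow_mul, ← zpow_mul, ← zpow_add, ← hb,
        zpow_one]
    rw [h8]
    exact mul_mem (zpow_mem hC _) (zpow_mem h7 _)

end Main

/-- Let P be a Sylow 2-subgroup of the finite group G isomorphic to Z/2^m × Z/2^m with m ≥ 1. Then either P has a normal complement in G, or all involutions of G are conjugate. -/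
theorem result {G : Type*} [Group G] [Finite G] (P : Sylow 2 G) (m : ℕ) (hm : 1 ≤ m) (e : (P : Subgroup G) ≃* Multiplicative (ZMod (2 ^ m) × ZMod (2 ^ m))) : (∃ N : Subgroup G, N.Normal ∧ Subgroup.IsComplement' N (P : Subgroup G)) ∨ ∀ s t : G, orderOf s = 2 → orderOf t = 2 → IsConj s t := by
  haveI : Fact (Nat.Prime 2) := ⟨Nat.prime_two⟩
  have hH := homo_of_equiv (P : Subgroup G) m hm e
  by_cases hNC : normalizer ((P : Subgroup G) : Set G) ≤ centralizer ((P : Subgroup G) : Set G)
  · left
    exact ⟨_, inferInstance, MonoidHom.ker_transferSylow_isComplement' P hNC⟩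
  · right
    obtain ⟨g₀, hg₀N, hg₀C⟩ := SetLike.not_le_iff_exists.mp hNC
    obtain ⟨g, hgN, hodd, hgC⟩ := exists_odd P hH.comm g₀ hg₀N hg₀C
    have hgP : ∀ y ∈ (P : Subgroup G), g * y * g⁻¹ ∈ (P : Subgroup G) :=
      fun y hy => (mem_normalizer_iff.mp hgN y).mp hy
    -- g moves some involution
    have hmove : ∃ t ∈ (P : Subgroup G), t ^ 2 = 1 ∧ g * t * g⁻¹ ≠ t := by
      by_contra hcon
      push_neg at hcon
      apply hgC
      rw [mem_centralizer_iff]
      intro y hy
      have := centralizes (P : Subgroup G) m hH g hgN hodd hcon y hy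
      calc y * g = g * y * g⁻¹ * g := by rw [this]
        _ = g * y := by group
    obtain ⟨t, htP, ht2, htg⟩ := hmove
    obtain ⟨u, huP, v, hvP, hu1, hv1, huv, huv1, hinv⟩ := hH.invol
    -- conjugation facts
    have hcinj : ∀ y y' : G, g * y * g⁻¹ = g * y' * g⁻¹ → y = y' := by
      intro y y' h
      exact mul_left_cancel (mul_right_cancel h)
    have hO2 : ∀ y : G, g * (g * y * g⁻¹) * g⁻¹ = y → g * y * g⁻¹ = y := by
      intro y hy
      obtain ⟨k, hk⟩ := exists_pow_eq_self_of_coprime (x := g) (n := 2) hodd.symm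
      have h1 : ∀ j : ℕ, (g ^ 2) ^ j * y * ((g ^ 2) ^ j)⁻¹ = y := by
        intro j
        induction j with
        | zero => simp
        | succ j ih =>
          calc (g ^ 2) ^ (j + 1) * y * ((g ^ 2) ^ (j + 1))⁻¹
              = (g ^ 2) ^ j * (g * (g * y * g⁻¹) * g⁻¹) * ((g ^ 2) ^ j)⁻¹ := by
                rw [pow_succ]
                simp only [pow_succ, pow_zero, one_mul, mul_inv_rev, mul_assoc]
            _ = y := by rw [hy, ih]
      have := h1 k
      rwa [hk] at this
    set t' := g * t * g⁻¹ with ht'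
    set t'' := g * t' * g⁻¹ with ht''
    have ht'P : t' ∈ (P : Subgroup G) := hgP t htP
    have ht''P : t'' ∈ (P : Subgroup G) := hgP t' ht'P
    have ht'2 : t' ^ 2 = 1 := by rw [ht', conj_pow, ht2]; group
    have ht''2 : t'' ^ 2 = 1 := by rw [ht'', conj_pow, ht'2]; group
    have hne1 : t'' ≠ t' := fun h => htg (hcinj _ _ h)
    have hne2 : t'' ≠ t := fun h => htg (hO2 t h)
    have ht1 : t ≠ 1 := by
      intro h; apply htg; rw [ht', h]; group
    have ht'1 : t' ≠ 1 := by
      intro h; apply ht1; apply hcinj t 1; rw [← ht', h]; group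
    have ht''1 : t'' ≠ 1 := by
      intro h; apply ht'1; apply hcinj t' 1; rw [← ht'', h]; group
    -- every involution of P is one of t, t', t''
    have hall : ∀ s ∈ (P : Subgroup G), s ^ 2 = 1 → s ≠ 1 → s = t ∨ s = t' ∨ s = t'' := by
      intro s hsP hs2 hs1
      have e1 := (hinv t htP ht2).resolve_left ht1
      have e2 := (hinv t' ht'P ht'2).resolve_left ht'1
      have e3 := (hinv t'' ht''P ht''2).resolve_left ht''1
      have e4 := (hinv s hsP hs2).resolve_left hs1
      have hne0 : t' ≠ t := htg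
      rcases e1 with e1 | e1 | e1 <;> rcases e2 with e2 | e2 | e2 <;>
        rcases e3 with e3 | e3 | e3 <;> rcases e4 with e4 | e4 | e4 <;>
        first
          | (left; rw [e4, e1]; done)
          | (right; left; rw [e4, e2]; done)
          | (right; right; rw [e4, e3]; done)
          | (exfalso; apply hne0; rw [e1, e2]; done)
          | (exfalso; apply hne1; rw [e2, e3]; done)
          | (exfalso; apply hne2; rw [e1, e3]; done)
    have hconjP : ∀ s ∈ (P : Subgroup G), s ^ 2 = 1 → s ≠ 1 → IsConj t s := by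
      intro s hsP hs2 hs1
      rcases hall s hsP hs2 hs1 with h | h | h
      · rw [h]
      · rw [h, isConj_iff]; exact ⟨g, rfl⟩
      · rw [h, isConj_iff]
        refine ⟨g * g, ?_⟩
        rw [ht'', ht']; group
    have hconj : ∀ s : G, orderOf s = 2 → IsConj t s := by
      intro s hs
      have hs2 : s ^ 2 = 1 := by rw [← hs, pow_orderOf_eq_one]
      have hs1 : s ≠ 1 := by
        intro h; rw [h, orderOf_one] at hs; omega
      have hp : IsPGroup 2 (zpowers s) := by
        apply IsPGroup.of_card (n := 1)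
        rw [Nat.card_zpowers, hs, pow_one]
      obtain ⟨h, hh⟩ := Cfsg.Agent.Lib.Helper5_Sylow.exists_conj_le_sylow hp P
      have h1 : h * s * h⁻¹ ∈ (P : Subgroup G) := hh ⟨s, mem_zpowers s, by simp⟩
      have h2 : (h * s * h⁻¹) ^ 2 = 1 := by rw [conj_pow, hs2]; group
      have h3 : h * s * h⁻¹ ≠ 1 := by
        intro h4
        apply hs1
        have : s = h⁻¹ * (h * s * h⁻¹) * h := by group
        rw [this, h4]; group
      have h4 := hconjP _ h1 h2 h3
      refine h4.trans ?_
      rw [isConj_comm, isConj_iff]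
      exact ⟨h, rfl⟩
    intro s s' hs hs'
    exact (hconj s hs).symm.trans (hconj s' hs')

end Cfsg.Agent.S0946
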