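import Cfsg.Statements.S0950
import Mathlib
import Cfsg.Agent.Lib.Helper7_NPC

set_option autoImplicit false
open Cfsg

namespace Cfsg.Agent.S0950

open Subgroup

theorem q8_a : ∀ u : QuaternionGroup 2, u ^ 4 = 1 := by decide

theorem q8_b : ∀ u v : QuaternionGroup 2, u ^ 2 = 1 → v ^ 2 = 1 → u ≠ 1 → v ≠ 1 → u = v := by
  decide

theorem q8_c : ∀ u v w : QuaternionGroup 2, u ^ 2 ≠ 1 → v ^ 2 ≠ 1 → w ^ 2 ≠ 1 → v ≠ u → v ≠ u⁻¹ →
    w ≠ u → w ≠ u⁻¹ → w ≠ v → w ≠ v⁻¹ → w = u * v ∨ w = (u * v)⁻¹ := by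
  decide

theorem q8_d : ∀ u v w : QuaternionGroup 2, u ^ 2 ≠ 1 → v ^ 2 ≠ 1 → v ≠ u → v ≠ u⁻¹ →
    w = 1 ∨ w = u ∨ w = u ^ 2 ∨ w = u ^ 3 ∨ w = v ∨ w = u * v ∨ w = u ^ 2 * v ∨ w = u ^ 3 * v := by
  decide

section

variable {G : Type*} [Group G]

/-- The first-order facts about the quaternion group of order 8 that we use. -/
structure Q8Like (S : Subgroup G) : Prop where
  pow4 : ∀ u ∈ S, u ^ 4 = 1
  inv_unique : ∀ u ∈ S, ∀ v ∈ S, u ^ 2 = 1 → v ^ 2 = 1 → u ≠ 1 → v ≠ 1 → u = v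
  third : ∀ u ∈ S, ∀ v ∈ S, ∀ w ∈ S, u ^ 2 ≠ 1 → v ^ 2 ≠ 1 → w ^ 2 ≠ 1 → v ≠ u → v ≠ u⁻¹ →
    w ≠ u → w ≠ u⁻¹ → w ≠ v → w ≠ v⁻¹ → w = u * v ∨ w = (u * v)⁻¹
  gen : ∀ u ∈ S, ∀ v ∈ S, ∀ w ∈ S, u ^ 2 ≠ 1 → v ^ 2 ≠ 1 → v ≠ u → v ≠ u⁻¹ →
    w = 1 ∨ w = u ∨ w = u ^ 2 ∨ w = u ^ 3 ∨ w = v ∨ w = u * v ∨ w = u ^ 2 * v ∨ w = u ^ 3 * v

theorem q8Like_of_equiv (S : Subgroup G) (e : S ≃* QuaternionGroup 2) : Q8Like S := by
  refine ⟨?_, ?_, ?_, ?_⟩
  · intro u hu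
    have := q8_a (e ⟨u, hu⟩)
    rw [← map_pow, MulEquiv.map_eq_one_iff] at this
    simpa [Subtype.ext_iff] using this
  · intro u hu v hv
    have := q8_b (e ⟨u, hu⟩) (e ⟨v, hv⟩)
    simp only [← map_pow, MulEquiv.map_eq_one_iff, ne_eq, EmbeddingLike.apply_eq_iff_eq] at this
    simpa [Subtype.ext_iff] using this
  · intro u hu v hv w hw
    have := q8_c (e ⟨u, hu⟩) (e ⟨v, hv⟩) (e ⟨w, hw⟩)
    simp only [← map_pow, ← map_mul, ← map_inv, MulEquiv.map_eq_one_iff, ne_eq,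
      EmbeddingLike.apply_eq_iff_eq] at this
    simpa [Subtype.ext_iff] using this
  · intro u hu v hv w hw h1 h2 h3 h4
    have := q8_d (e ⟨u, hu⟩) (e ⟨v, hv⟩) (e ⟨w, hw⟩)
    simp only [← map_pow, ← map_mul, ← map_inv, MulEquiv.map_eq_one_iff, ne_eq,
      EmbeddingLike.apply_eq_iff_eq] at this
    have h5 := this (by simpa [Subtype.ext_iff] using h1) (by simpa [Subtype.ext_iff] using h2)
      (by simpa [Subtype.ext_iff] using h3) (by simpa [Subtype.ext_iff] using h4)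
    simpa [Subtype.ext_iff] using h5

end

section Main

variable {G : Type*} [Group G] [Finite G]

theorem conj_comp (n m : G) : ((MulAut.conj n).toMonoidHom.comp (MulAut.conj m).toMonoidHom) =
    (MulAut.conj (n * m)).toMonoidHom := by
  ext y
  simp [mul_assoc]

theorem main (S : Subgroup G) (hS : Q8Like S) (Q : Subgroup G) (hQ : Q ≤ S) (g : G)
    (hgN : g ∈ normalizer (Q : Set G)) (hodd : (orderOf g).Coprime 2)
    (hgC : g ∉ centralizer (Q : Set G))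
    (A B : Subgroup G) (hA : A ≤ S) (hB : B ≤ S) (hA4 : Nat.card A = 4) (hB4 : Nat.card B = 4) :
    ∃ n ∈ normalizer (S : Set G), B = A.map (MulAut.conj n).toMonoidHom := by
  have hgQ : ∀ y ∈ Q, g * y * g⁻¹ ∈ Q := fun y hy => (mem_normalizer_iff.mp hgN y).mp hy
  -- odd order fact
  have hO : ∀ k : ℕ, Nat.Coprime k (orderOf g) → ∀ y : G, g ^ k * y * (g ^ k)⁻¹ = y →
      g * y * g⁻¹ = y := by
    intro k hk y hy
    obtain ⟨m, hm⟩ := exists_pow_eq_self_of_coprime (x := g) (n := k) hk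
    have h1 : ∀ j : ℕ, (g ^ k) ^ j * y * ((g ^ k) ^ j)⁻¹ = y := by
      intro j
      induction j with
      | zero => simp
      | succ j ih =>
        calc (g ^ k) ^ (j + 1) * y * ((g ^ k) ^ (j + 1))⁻¹
            = (g ^ k) ^ j * (g ^ k * y * (g ^ k)⁻¹) * ((g ^ k) ^ j)⁻¹ := by rw [pow_succ]; group
          _ = y := by rw [hy, ih]
    have := h1 m
    rwa [hm] at this
  have hc2 : Nat.Coprime 2 (orderOf g) := hodd.symm
  have hc4 : Nat.Coprime 4 (orderOf g) := by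
    have : (4 : ℕ) = 2 ^ 2 := rfl
    rw [this]; exact Nat.Coprime.pow_left 2 hc2
  have hO2 : ∀ y : G, g * (g * y * g⁻¹) * g⁻¹ = y → g * y * g⁻¹ = y := by
    intro y hy
    apply hO 2 hc2
    have h0 : g ^ 2 * y * (g ^ 2)⁻¹ = g * (g * y * g⁻¹) * g⁻¹ := by
      simp only [pow_succ, pow_zero, one_mul, mul_inv_rev, mul_assoc]
    rw [h0, hy]
  have hO4 : ∀ y : G, g * (g * (g * (g * y * g⁻¹) * g⁻¹) * g⁻¹) * g⁻¹ = y → g * y * g⁻¹ = y := by
    intro y hy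
    apply hO 4 hc4
    have h0 : g ^ 4 * y * (g ^ 4)⁻¹ = g * (g * (g * (g * y * g⁻¹) * g⁻¹) * g⁻¹) * g⁻¹ := by
      simp only [pow_succ, pow_zero, one_mul, mul_inv_rev, mul_assoc]
    rw [h0, hy]
  have hcpow : ∀ (y : G) (k : ℕ), (g * y * g⁻¹) ^ k = g * y ^ k * g⁻¹ := fun y k => conj_pow
  have hcinv : ∀ y : G, (g * y * g⁻¹)⁻¹ = g * y⁻¹ * g⁻¹ := fun y => by group
  have hcinj : ∀ y y' : G, g * y * g⁻¹ = g * y' * g⁻¹ → y = y' := by
    intro y y' h
    have := mul_right_cancel h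
    exact mul_left_cancel this
  have hc1 : ∀ y : G, g * y * g⁻¹ = 1 → y = 1 := by
    intro y h
    apply hcinj
    rw [h]; group
  -- get x
  obtain ⟨x, hxQ, hx⟩ : ∃ x ∈ Q, g * x * g⁻¹ ≠ x := by
    by_contra hcon
    push_neg at hcon
    apply hgC
    rw [mem_centralizer_iff]
    intro y hy
    have := hcon y hy
    calc y * g = g * y * g⁻¹ * g := by rw [this]
      _ = g * y := by group
  have hxS : x ∈ S := hQ hxQ
  have hx'Q : g * x * g⁻¹ ∈ Q := hgQ x hxQ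
  have hx'S : g * x * g⁻¹ ∈ S := hQ hx'Q
  have hx2 : x ^ 2 ≠ 1 := by
    intro h
    apply hx
    apply hS.inv_unique _ hx'S _ hxS _ h
    · intro h1; apply hx; rw [hc1 x h1]; group
    · intro h1; apply hx; rw [h1]; group
    · rw [hcpow, h]; group
  have hx'2 : (g * x * g⁻¹) ^ 2 ≠ 1 := by
    rw [hcpow]; intro h; exact hx2 (hc1 _ h)
  have hx'inv : g * x * g⁻¹ ≠ x⁻¹ := by
    intro h
    apply hx
    apply hO2
    rw [h, ← hcinv, h, inv_inv]
  -- Q = S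
  have hSQ : S ≤ Q := by
    intro w hw
    rcases hS.gen x hxS _ hx'S w hw hx2 hx'2 hx hx'inv with h | h | h | h | h | h | h | h <;>
      rw [h]
    · exact one_mem _
    · exact hxQ
    · exact pow_mem hxQ _
    · exact pow_mem hxQ _
    · exact hx'Q
    · exact mul_mem hxQ hx'Q
    · exact mul_mem (pow_mem hxQ _) hx'Q
    · exact mul_mem (pow_mem hxQ _) hx'Q
  have hQS : Q = S := le_antisymm hQ hSQ
  subst hQS
  -- third element
  have hx''Q : g * (g * x * g⁻¹) * g⁻¹ ∈ Q := hgQ _ hx'Q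
  have hx''2 : (g * (g * x * g⁻¹) * g⁻¹) ^ 2 ≠ 1 := by
    rw [hcpow]; intro h; exact hx'2 (hc1 _ h)
  have h1 : g * (g * x * g⁻¹) * g⁻¹ ≠ x := fun h => hx (hO2 x h)
  have h2 : g * (g * x * g⁻¹) * g⁻¹ ≠ x⁻¹ := by
    intro h
    apply hx
    apply hO4
    rw [h, ← hcinv, ← hcinv, h, inv_inv]
  have h3 : g * (g * x * g⁻¹) * g⁻¹ ≠ g * x * g⁻¹ := fun h => hx (hcinj _ _ h)
  have h4 : g * (g * x * g⁻¹) * g⁻¹ ≠ (g * x * g⁻¹)⁻¹ := by
    intro h
    apply hx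
    apply hcinj
    apply hO2
    rw [h, ← hcinv, h, inv_inv]
  have h5 := hS.third x hxQ _ hx'Q _ hx''Q hx2 hx'2 hx''2 hx hx'inv h1 h2 h3 h4
  -- subgroups of order four
  have key : ∀ A : Subgroup G, A ≤ Q → Nat.card A = 4 →
      ∃ i : ℕ, A = (zpowers x).map (MulAut.conj (g ^ i)).toMonoidHom := by
    intro A hA hA4
    have hfin : (A : Set G).Finite := Set.toFinite _
    obtain ⟨k, hkA, hk⟩ : ∃ k ∈ (A : Set G), k ∉ ({1, x ^ 2} : Set G) := by
      apply Set.exists_mem_notMem_of_ncard_lt_ncard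
      · have h6 : ({1, x ^ 2} : Set G).ncard ≤ 2 := Set.ncard_insert_le _ _ |>.trans (by simp)
        have h7 : (A : Set G).ncard = 4 := by
          rw [← hA4]; rfl
        omega
      · exact Set.toFinite _
    simp only [Set.mem_insert_iff, Set.mem_singleton_iff, not_or] at hk
    have hkQ : k ∈ Q := hA hkA
    have hk2 : k ^ 2 ≠ 1 := by
      intro h
      apply hk.2
      apply hS.inv_unique k hkQ _ (pow_mem hxQ 2) h _ hk.1 hx2
      rw [← pow_mul]; exact hS.pow4 x hxQ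
    have hk4 : orderOf k = 4 := by
      have h6 : orderOf k ∣ 2 ^ 2 := orderOf_dvd_of_pow_eq_one (hS.pow4 k hkQ)
      obtain ⟨j, hj, hj'⟩ := (Nat.dvd_prime_pow Nat.prime_two).mp h6
      interval_cases j
      · exfalso; apply hk.1; rw [pow_zero, orderOf_eq_one_iff] at hj'; exact hj'
      · exfalso; apply hk2; rw [pow_one] at hj'; rw [← hj', pow_orderOf_eq_one]
      · exact hj'
    have hAk : A = zpowers k := by
      symm
      apply Subgroup.eq_of_le_of_card_ge ((zpowers_le).mpr hkA)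
      rw [Nat.card_zpowers, hk4, hA4]
    have hz1 : ∀ u : G, zpowers u⁻¹ = zpowers u := fun u => zpowers_inv
    have hm1 : (zpowers x).map (MulAut.conj (g ^ 1)).toMonoidHom = zpowers (g * x * g⁻¹) := by
      rw [MonoidHom.map_zpowers]; simp
    have hm2 : (zpowers x).map (MulAut.conj (g ^ 2)).toMonoidHom
        = zpowers (g * (g * x * g⁻¹) * g⁻¹) := by
      rw [MonoidHom.map_zpowers]
      congr 1
      simp only [MulEquiv.coe_toMonoidHom, MulAut.conj_apply]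
      simp only [pow_succ, pow_zero, one_mul, mul_inv_rev, mul_assoc]
    by_cases e1 : k = x
    · exact ⟨0, by rw [hAk, e1]; simp⟩
    by_cases e2 : k = x⁻¹
    · exact ⟨0, by rw [hAk, e2, hz1]; simp⟩
    by_cases e3 : k = g * x * g⁻¹
    · exact ⟨1, by rw [hAk, e3, hm1]⟩
    by_cases e4 : k = (g * x * g⁻¹)⁻¹
    · exact ⟨1, by rw [hAk, e4, hz1, hm1]⟩
    have h6 := hS.third x hxQ _ hx'Q k hkQ hx2 hx'2 hk2 hx hx'inv e1 e2 e3 e4
    refine ⟨2, ?_⟩
    rw [hAk, hm2]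
    rcases h6 with h6 | h6 <;> rcases h5 with h5 | h5
    · rw [h6, h5]
    · rw [h6, h5, hz1]
    · rw [h6, h5, hz1]
    · rw [h6, h5]
  obtain ⟨i, hi⟩ := key A hA hA4
  obtain ⟨j, hj⟩ := key B hB hB4
  refine ⟨g ^ j * (g ^ i)⁻¹, mul_mem (pow_mem hgN j) (inv_mem (pow_mem hgN i)), ?_⟩
  rw [hi, hj, Subgroup.map_map, conj_comp]
  congr 3
  group

end Main

/-- Let S be a Sylow 2-subgroup of the finite group G that is isomorphic to the quaternion group of order 8, and suppose S has no normal complement in G. Then any two subgroups of order 4 of S are conjugate by an element of the normalizer of S. -/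
theorem result {G : Type*} [Group G] [Finite G] (S : Sylow 2 G) (e : (S : Subgroup G) ≃* QuaternionGroup 2) (hnc : ∀ N : Subgroup G, N.Normal → ¬ Subgroup.IsComplement' N (S : Subgroup G)) (A B : Subgroup G) (hA : A ≤ S) (hB : B ≤ S) (hA4 : Nat.card A = 4) (hB4 : Nat.card B = 4) : ∃ n ∈ Subgroup.normalizer ((S : Subgroup G) : Set G), B = A.map (MulAut.conj n).toMonoidHom := by
  haveI : Fact (Nat.Prime 2) := ⟨Nat.prime_two⟩
  have h1 : ¬ Cfsg.Agent.Lib.Helper7_NPC.NPC 2 G := by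
    intro h
    obtain ⟨N, hN, hc⟩ := (Cfsg.Agent.Lib.Helper7_NPC.exists_complement_iff_npc S).mpr h
    exact hnc N hN hc
  have h2 : ¬ Cfsg.Agent.Lib.Helper7_NPC.FrobHyp 2 G :=
    fun h => h1 (Cfsg.Agent.Lib.Helper7_NPC.npc_of_frobHyp h)
  have h3 : ¬ ∀ Q : Subgroup G, Q ≤ (S : Subgroup G) → ∀ g ∈ normalizer (Q : Set G),
      Nat.Coprime (orderOf g) 2 → g ∈ centralizer (Q : Set G) :=
    fun h => h2 (Cfsg.Agent.Lib.Helper7_NPC.frobHyp_of_sylow S h)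
  push_neg at h3
  obtain ⟨Q, hQ, g, hgN, hodd, hgC⟩ := h3
  exact main (S : Subgroup G) (q8Like_of_equiv _ e) Q hQ g hgN hodd hgC A B hA hB hA4 hB4

end Cfsg.Agent.S0950
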