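import Cfsg.Statements.S0957
import Mathlib

set_option autoImplicit false
open Cfsg

namespace Cfsg.Agent.S0957

theorem div_dvd_div_aux {a b c : ℕ} (hcb : c ∣ b) (hba : b ∣ a) (hb : 0 < b) : a / b ∣ a / c := by
  obtain ⟨l, rfl⟩ := hcb
  obtain ⟨m, rfl⟩ := hba
  have hc : 0 < c := Nat.pos_of_mul_pos_right hb
  rw [Nat.mul_div_cancel_left _ hb, mul_assoc, Nat.mul_div_cancel_left _ hc]
  exact Dvd.intro_left l rfl

/-- Let P be a Sylow p-subgroup of the finite group G, let g, h ∈ G and let p ^ d be the order of a Sylow p-subgroup of the centralizer of g. Then the number of pairs (y, z) with y conjugate to g, z conjugate to h and z * y⁻¹ ∈ P is divisible by the order of P divided by p ^ d. -/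
theorem result {G : Type*} [Group G] [Finite G] (p : ℕ) [Fact p.Prime] (P : Sylow p G) (g h : G) (S : Sylow p (Subgroup.centralizer ({g} : Set G))) : Nat.card P / Nat.card S ∣ Nat.card {yz : G × G // IsConj g yz.1 ∧ IsConj h yz.2 ∧ yz.2 * yz.1⁻¹ ∈ (P : Subgroup G)} := by
  classical
  letI act : MulAction (P : Subgroup G) {yz : G × G // IsConj g yz.1 ∧ IsConj h yz.2 ∧ yz.2 * yz.1⁻¹ ∈ (P : Subgroup G)} :=
    { smul := fun x yz => ⟨((x:G) * yz.1.1 * (x:G)⁻¹, (x:G) * yz.1.2 * (x:G)⁻¹), by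
        obtain ⟨⟨y, z⟩, h1, h2, h3⟩ := yz
        refine ⟨?_, ?_, ?_⟩
        · exact h1.trans (isConj_iff.mpr ⟨x, rfl⟩)
        · exact h2.trans (isConj_iff.mpr ⟨x, rfl⟩)
        · have : (x:G) * z * (x:G)⁻¹ * ((x:G) * y * (x:G)⁻¹)⁻¹ = (x:G) * (z * y⁻¹) * (x:G)⁻¹ := by group
          simp only
          rw [this]
          exact (P : Subgroup G).mul_mem ((P : Subgroup G).mul_mem x.2 h3) ((P : Subgroup G).inv_mem x.2)⟩
      one_smul := by
        rintro ⟨⟨y, z⟩, h1, h2, h3⟩
        apply Subtype.ext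
        show (((1 : (P : Subgroup G)) : G) * y * ((1 : (P : Subgroup G)) : G)⁻¹, ((1 : (P : Subgroup G)) : G) * z * ((1 : (P : Subgroup G)) : G)⁻¹) = (y, z)
        simp
      mul_smul := by
        rintro a b ⟨⟨y, z⟩, h1, h2, h3⟩
        apply Subtype.ext
        show (((a * b : (P : Subgroup G)) : G) * y * ((a * b : (P : Subgroup G)) : G)⁻¹, ((a * b : (P : Subgroup G)) : G) * z * ((a * b : (P : Subgroup G)) : G)⁻¹) = ((a : G) * ((b : G) * y * (b : G)⁻¹) * (a : G)⁻¹, (a : G) * ((b : G) * z * (b : G)⁻¹) * (a : G)⁻¹)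
        simp [mul_assoc] }
  have hsmul : ∀ (x : (P : Subgroup G)) (yz : {yz : G × G // IsConj g yz.1 ∧ IsConj h yz.2 ∧ yz.2 * yz.1⁻¹ ∈ (P : Subgroup G)}),
      (x • yz).1 = ((x:G) * yz.1.1 * (x:G)⁻¹, (x:G) * yz.1.2 * (x:G)⁻¹) := fun _ _ => rfl
  have e := MulAction.selfEquivSigmaOrbitsQuotientStabilizer (P : Subgroup G) {yz : G × G // IsConj g yz.1 ∧ IsConj h yz.2 ∧ yz.2 * yz.1⁻¹ ∈ (P : Subgroup G)}
  letI : Fintype (Quotient (MulAction.orbitRel (P : Subgroup G) {yz : G × G // IsConj g yz.1 ∧ IsConj h yz.2 ∧ yz.2 * yz.1⁻¹ ∈ (P : Subgroup G)})) := Fintype.ofFinite _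
  rw [Nat.card_congr e, Nat.card_sigma]
  apply Finset.dvd_sum
  intro ω _
  set x := ω.out with hx
  -- stabilizer
  set H : Subgroup (P : Subgroup G) := MulAction.stabilizer (P : Subgroup G) x with hH
  have hidx : Nat.card ((P : Subgroup G) ⧸ H) = H.index := rfl
  rw [hidx]
  have hPH : H.index * Nat.card H = Nat.card (P : Subgroup G) := H.index_mul_card
  -- |H| ∣ |S|
  obtain ⟨c, hc⟩ := isConj_iff.mp x.2.1
  -- K = conj by c⁻¹ of image of H in G
  set K : Subgroup G := (H.map (P : Subgroup G).subtype).map (MulAut.conj c⁻¹).toMonoidHom with hK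
  have hKcard : Nat.card K = Nat.card H := by
    rw [hK, Subgroup.card_map_of_injective (MulAut.conj c⁻¹).injective,
      Subgroup.card_map_of_injective (Subgroup.subtype_injective _)]
  have hKle : K ≤ Subgroup.centralizer ({g} : Set G) := by
    rintro k ⟨k', ⟨a, ha, rfl⟩, rfl⟩
    have ha' : a • x = x := ha
    have h1 : (a : G) * x.1.1 * (a : G)⁻¹ = x.1.1 := by
      have := congrArg (fun t => t.1.1) ha'
      simpa [hsmul] using this
    rw [Subgroup.mem_centralizer_iff]
    intro t ht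
    rw [Set.mem_singleton_iff] at ht
    subst ht
    simp only [MulEquiv.coe_toMonoidHom, MulAut.conj_apply, Subgroup.coe_subtype, inv_inv]
    rw [← hc] at h1
    have h2 : (a : G) * (c * t * c⁻¹) = (c * t * c⁻¹) * (a : G) := by
      calc (a : G) * (c * t * c⁻¹) = ((a : G) * (c * t * c⁻¹) * (a : G)⁻¹) * (a : G) := by group
        _ = (c * t * c⁻¹) * (a : G) := by rw [h1]
    calc t * (c⁻¹ * (a : G) * c) = c⁻¹ * ((c * t * c⁻¹) * (a : G)) * c := by group
      _ = c⁻¹ * ((a : G) * (c * t * c⁻¹)) * c := by rw [h2]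
      _ = c⁻¹ * (a : G) * c * t := by group
  have hPp : IsPGroup p (P : Subgroup G) := P.isPGroup'
  have hHp : IsPGroup p H := hPp.to_subgroup H
  have hKp : IsPGroup p K := by
    rw [hK]
    exact (hHp.map _).map _
  have hK'p : IsPGroup p (K.subgroupOf (Subgroup.centralizer ({g} : Set G))) :=
    hKp.comap_of_injective _ (Subgroup.subtype_injective _)  
  obtain ⟨Q, hQ⟩ := hK'p.exists_le_sylow
  have hQS : Nat.card Q = Nat.card S := by
    rw [Sylow.card_eq_multiplicity Q, Sylow.card_eq_multiplicity S]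
  have hHS : Nat.card H ∣ Nat.card S := by
    rw [← hKcard, ← hQS]
    have h1 : Nat.card (K.subgroupOf (Subgroup.centralizer ({g} : Set G))) = Nat.card K :=
      Nat.card_congr (Subgroup.subgroupOfEquivOfLe hKle).toEquiv
    rw [← h1]
    exact Subgroup.card_dvd_of_le hQ
  -- |S| ∣ |P|
  have hSp : IsPGroup p ((S : Subgroup (Subgroup.centralizer ({g} : Set G))).map (Subgroup.centralizer ({g} : Set G)).subtype) :=
    S.isPGroup'.map _
  obtain ⟨P', hP'⟩ := hSp.exists_le_sylow
  have hSP : Nat.card S ∣ Nat.card (P : Subgroup G) := by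
    have h1 : Nat.card ((S : Subgroup (Subgroup.centralizer ({g} : Set G))).map (Subgroup.centralizer ({g} : Set G)).subtype) = Nat.card S :=
      Subgroup.card_map_of_injective (Subgroup.subtype_injective _)
    have h2 : Nat.card (P' : Subgroup G) = Nat.card (P : Subgroup G) := by
      rw [Sylow.card_eq_multiplicity P', Sylow.card_eq_multiplicity P]
    rw [← h1, ← h2]
    exact Subgroup.card_dvd_of_le hP'
  have hidx2 : H.index = Nat.card (P : Subgroup G) / Nat.card H := by
    rw [← hPH, Nat.mul_div_cancel _ Nat.card_pos]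
  rw [hidx2]
  exact div_dvd_div_aux hHS hSP Nat.card_pos

end Cfsg.Agent.S0957
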