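import Cfsg.Statements.S0961
import Cfsg.Agent.Lib.Helper2_ClassFn
import Cfsg.Agent.Lib.Helper2_CharBasic
import Cfsg.Agent.Lib.Helper2_CharOrtho
import Cfsg.Agent.Lib.Helper2_Clifford
import Cfsg.Agent.Lib.Helper2_CharMore
import Cfsg.Agent.Lib.Helper2_CharNorm
import Cfsg.Agent.Lib.Helper2_CharValues
import Cfsg.Agent.Lib.Helper2_CharComplete
import Cfsg.Agent.Lib.Helper2_CharInd
import Cfsg.Agent.Lib.Helper2_CharTable
import Cfsg.Agent.Lib.Helper2_CharFrob
import Cfsg.Agent.Lib.Helper2_CharDeg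
import Cfsg.Agent.Lib.Helper2_CharSum
import Cfsg.Agent.Lib.Helper2_CharExtra
import Cfsg.Agent.Lib.Helper2_CharCentral
import Cfsg.Agent.Lib.Helper2_PermChar
import Cfsg.Agent.Lib.Helper2_FrobSchur
import Cfsg.Agent.Lib.Helper2_CliffordCorr
import Cfsg.Agent.Lib.Helper2_CharKernel
import Cfsg.Agent.Lib.Helper2_CyclicTI
import Cfsg.Agent.Lib.Helper2_CharGalois
import Cfsg.Agent.Lib.Helper2_CharInt
import Cfsg.Agent.Lib.Helper2_CharBurnside
import Cfsg.Agent.Lib.Helper2_CharCenter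
import Cfsg.Agent.Lib.Helper2_Ito
import Cfsg.Agent.Lib.Helper2_Gallagher
import Cfsg.Agent.Lib.Helper2_Artin
import Cfsg.Agent.Lib.Helper2_MGroup
import Cfsg.Agent.Lib.Helper2_RepEquiv
import Cfsg.Agent.Lib.Helper2_CyclicExt
import Cfsg.Agent.Lib.Helper2_Extraspecial
import Cfsg.Agent.Lib.Helper2_ProjLift
import Cfsg.Agent.Lib.Helper2_CentralExt
import Cfsg.Agent.Lib.Helper2_SylowExt
import Cfsg.Agent.Lib.Helper2_DetChar
import Cfsg.Agent.Lib.Helper2_LinExt
import Cfsg.Agent.Lib.Helper2_DetExt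
import Cfsg.Agent.Lib.Helper2_GallagherExt
import Cfsg.Agent.Lib.Helper2_PermInd
import Cfsg.Agent.Lib.Helper2_QuasiElem
import Cfsg.Agent.Lib.Helper2_BrauerInd
import Cfsg.Agent.Lib.Helper2_BrauerThm
import Cfsg.Agent.Lib.Helper2_NilDecomp
import Cfsg.Agent.Lib.Helper2_DefectZero
import Cfsg.Agent.Lib.Helper2_CharGalois2
import Cfsg.Agent.Lib.Helper2_CosetAvg
import Cfsg.Agent.Lib.Helper2_Thompson
import Cfsg.Agent.Lib.Helper2_ItoSolv
import Cfsg.Agent.Lib.Helper2_ItoPSolv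
import Cfsg.Agent.Lib.Helper2_GaloisConj
import Cfsg.Agent.Lib.Helper2_AbelInertia
import Cfsg.Agent.Lib.Helper2_Gagola
import Cfsg.Agent.Lib.Helper2_GoingDown
import Cfsg.Agent.Lib.Helper2_RelMGroup
import Cfsg.Agent.Lib.Helper2_Gagola2
import Cfsg.Agent.Lib.Helper2_Gagola3

set_option autoImplicit false
open Cfsg

namespace Cfsg.Agent.S0961

open Cfsg.Agent.Lib.Helper2_ClassFn Cfsg.Agent.Lib.Helper2_CharBasic Cfsg.Agent.Lib.Helper2_CharOrtho Cfsg.Agent.Lib.Helper2_Clifford Cfsg.Agent.Lib.Helper2_CharMore Cfsg.Agent.Lib.Helper2_CharNorm Cfsg.Agent.Lib.Helper2_CharValues Cfsg.Agent.Lib.Helper2_CharComplete Cfsg.Agent.Lib.Helper2_CharInd Cfsg.Agent.Lib.Helper2_CharTable Cfsg.Agent.Lib.Helper2_CharFrob Cfsg.Agent.Lib.Helper2_CharDeg Cfsg.Agent.Lib.Helper2_CharSum Cfsg.Agent.Lib.Helper2_CharExtra Cfsg.Agent.Lib.Helper2_CharCentral Cfsg.Agent.Lib.Helper2_PermChar Cfsg.Agent.Lib.Helper2_FrobSchur Cfsg.Agent.Lib.Helper2_CliffordCorr Cfsg.Agent.Lib.Helper2_CharKernel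 Cfsg.Agent.Lib.Helper2_CyclicTI Cfsg.Agent.Lib.Helper2_CharGalois Cfsg.Agent.Lib.Helper2_CharInt Cfsg.Agent.Lib.Helper2_CharBurnside Cfsg.Agent.Lib.Helper2_CharCenter Cfsg.Agent.Lib.Helper2_Ito Cfsg.Agent.Lib.Helper2_Gallagher Cfsg.Agent.Lib.Helper2_Artin Cfsg.Agent.Lib.Helper2_MGroup Cfsg.Agent.Lib.Helper2_RepEquiv Cfsg.Agent.Lib.Helper2_CyclicExt Cfsg.Agent.Lib.Helper2_Extraspecial Cfsg.Agent.Lib.Helper2_ProjLift Cfsg.Agent.Lib.Helper2_CentralExt Cfsg.Agent.Lib.Helper2_SylowExt Cfsg.Agent.Lib.Helper2_DetChar Cfsg.Agent.Lib.Helper2_LinExt Cfsg.Agent.Lib.Helper2_DetExt Cfsg.Agent.Lib.Helper2_GallagherExt Cfsg.Agent.Lib.Helper2_PermInd Cfsg.Agent.Lib.Helper2_QuasiElem Cfsg.Agent.Lib.Helper2_BrauerInd Cfsg.Agent.Lib.Helper2_BrauerThm Cfsg.Agent.Lib.Helper2_NilDecomp Cfsg.Agent.Lib.Helper2_DefectZero Cfsg.Agent.Lib.Helper2_CharGalois2 Cfsg.Agent.Lib.Helper2_CosetAvg Cfsg.Agent.Lib.Helper2_Thompson Cfsg.Agent.Lib.Helper2_ItoSolv Cfsg.Agent.Lib.Helper2_ItoPSolv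 Cfsg.Agent.Lib.Helper2_GaloisConj Cfsg.Agent.Lib.Helper2_AbelInertia Cfsg.Agent.Lib.Helper2_Gagola Cfsg.Agent.Lib.Helper2_GoingDown Cfsg.Agent.Lib.Helper2_RelMGroup Cfsg.Agent.Lib.Helper2_Gagola2 Cfsg.Agent.Lib.Helper2_Gagola3
open scoped Pointwise
open scoped ComplexConjugate

theorem regPart_scaled_res {G : Type*} [Group G] [Fintype G] {χ : G → ℂ} (hχ : IsIrrCharacter G χ)
    (p a : ℕ) (hp : p.Prime) (ha : a = (Nat.card G).factorization p) (E : Subgroup G) (q : ℕ)
    (hq : q.Prime) (hE : IsElementary q E) :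
    IsGeneralizedCharacter E (fun e : E => ((p ^ a : ℕ) : ℂ) * regPart p χ e) := by
  classical
  haveI : Fact p.Prime := ⟨hp⟩
  haveI : Fintype E := Fintype.ofFinite _
  haveI : Group.IsNilpotent E := IsElementary.nilpotent hq hE
  have hχc := IsIrrCharacter.isCharacter hχ
  have hχcf := IsCharacter.isClassFunction hχc
  have hθcf : IsClassFunction G (regPart p χ) := regPart_isClassFunction hχcf
  have hθEcf : IsClassFunction E (fun e : E => ((p ^ a : ℕ) : ℂ) * regPart p χ e) := by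
    intro g h
    simp only
    rw [Subgroup.coe_mul, Subgroup.coe_mul, Subgroup.coe_inv, hθcf (g : G) (h : G)]
  obtain ⟨P, Q, hcard, hQp, hmem, hcomm⟩ := nilpotent_p_decomp (E := E) p
  obtain ⟨j, hj⟩ := IsPGroup.iff_card.mp P.2
  haveI : Fintype Q := Fintype.ofFinite _
  -- p ^ j divides p ^ a
  have hja : j ≤ a := by
    have h1 : p ^ j ∣ Nat.card G := by
      rw [← hj]
      have h2 : Nat.card (P : Subgroup E) ∣ Nat.card E := Subgroup.card_subgroup_dvd_card _
      have h3 : Nat.card E ∣ Nat.card G := Subgroup.card_subgroup_dvd_card E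
      exact dvd_trans h2 h3
    rw [ha]
    exact (hp.pow_dvd_iff_le_factorization Nat.card_pos.ne').mp h1
  apply Cfsg.Agent.Lib.Helper2_CharComplete.isGeneralizedCharacter_of_classInner_int hθEcf
  intro ψ hψ
  have hψc := IsIrrCharacter.isCharacter hψ
  set SQ : ℂ := ∑ y : Q, χ ((y : E) : G) * conj (ψ (y : E)) with hSQ
  have claim1 : ∑ e : E, regPart p χ (e : G) * conj (ψ e) = SQ := by
    have h1 : ∀ e : E, regPart p χ (e : G) * conj (ψ e)
        = if e ∈ Q then χ (e : G) * conj (ψ e) else 0 := by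
      intro e
      have hord : orderOf (e : G) = orderOf e := Subgroup.orderOf_coe e
      by_cases he : e ∈ Q
      · rw [if_pos he, regPart_of_not_dvd]
        rw [hord]; exact (hmem e).mp he
      · rw [if_neg he, regPart_of_dvd, zero_mul]
        rw [hord]
        by_contra hnd
        exact he ((hmem e).mpr hnd)
    rw [Finset.sum_congr rfl (fun e _ => h1 e), ← Finset.sum_filter,
      ← Finset.sum_subtype_eq_sum_filter]
    have h2 : (Finset.univ : Finset E).subtype (fun e => e ∈ Q) = (Finset.univ : Finset Q) := by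
      ext y; simp
    rw [h2]
  have hE0 : (Nat.card E : ℂ) ≠ 0 := by exact_mod_cast Nat.card_pos.ne'
  have hQ0 : (Nat.card Q : ℂ) ≠ 0 := by exact_mod_cast Nat.card_pos.ne'
  have hP0 : (Nat.card (P : Subgroup E) : ℂ) ≠ 0 := by exact_mod_cast Nat.card_pos.ne'
  have hcardC : (Nat.card (P : Subgroup E) : ℂ) * (Nat.card Q : ℂ) = (Nat.card E : ℂ) := by
    exact_mod_cast hcard
  have hr : classInner (fun e : E => ((p ^ a : ℕ) : ℂ) * regPart p χ e) ψ
      = ((p ^ a : ℕ) : ℂ) * ((Nat.card E : ℂ)⁻¹ * SQ) := by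
    rw [classInner_def, ← claim1, Finset.mul_sum, Finset.mul_sum, Finset.mul_sum]
    refine Finset.sum_congr rfl fun e _ => ?_
    ring
  obtain ⟨N, hN⟩ := IsCharacter.classInner_nat
    (IsCharacter.restrict (IsCharacter.restrict hχc E) Q) (IsCharacter.restrict hψc Q)
  have hSQN : SQ = (N : ℂ) * (Nat.card Q : ℂ) := by
    rw [classInner_def] at hN
    have : (Nat.card Q : ℂ)⁻¹ * SQ = N := hN
    rw [← this]
    field_simp
  refine ⟨((p ^ (a - j) * N : ℕ) : ℤ), ?_⟩
  rw [hr, hSQN, ← hcardC, hj]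
  have hpa : ((p ^ a : ℕ) : ℂ) = ((p ^ j : ℕ) : ℂ) * ((p ^ (a - j) : ℕ) : ℂ) := by
    rw [← Nat.cast_mul, ← pow_add, Nat.add_sub_cancel' hja]
  rw [hpa]
  have hpj0 : ((p ^ j : ℕ) : ℂ) ≠ 0 := by
    exact_mod_cast (pow_pos hp.pos j).ne'
  push_cast
  push_cast at hpj0
  field_simp



/-- Let χ be an irreducible character of the finite group G and let p ^ a be the largest power of the prime p dividing the order of G. Then the function equal to p ^ a * χ x at elements x of order prime to p and to 0 elsewhere is a generalized character (a difference of characters). -/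
theorem result {G : Type*} [Group G] [Finite G] (p : ℕ) [Fact p.Prime] (χ : Cfsg.IrrCharacter G) : Cfsg.IsGeneralizedCharacter G (fun x : G => if p ∣ orderOf x then 0 else ((p ^ (Nat.card G).factorization p : ℕ) : ℂ) * (χ : G → ℂ) x) := by
  classical
  haveI := Fintype.ofFinite G
  have hp : p.Prime := Fact.out
  obtain ⟨χ, hχ⟩ := χ
  have hχcf := IsCharacter.isClassFunction (IsIrrCharacter.isCharacter hχ)
  have heq : (fun x : G => if p ∣ orderOf x then 0
      else ((p ^ (Nat.card G).factorization p : ℕ) : ℂ) * χ x)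
      = fun x : G => ((p ^ (Nat.card G).factorization p : ℕ) : ℂ) * regPart p χ x := by
    funext x
    by_cases h : p ∣ orderOf x
    · rw [if_pos h, regPart_of_dvd h, mul_zero]
    · rw [if_neg h, regPart_of_not_dvd h]
  change IsGeneralizedCharacter G (fun x : G => if p ∣ orderOf x then 0
      else ((p ^ (Nat.card G).factorization p : ℕ) : ℂ) * χ x)
  rw [heq]
  apply brauer_characterization
  · intro g h
    simp only
    rw [regPart_isClassFunction hχcf g h]
  · intro E q hq hE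
    exact regPart_scaled_res hχ p _ hp rfl E q hq hE

end Cfsg.Agent.S0961
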