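import Cfsg.Statements.S4866
import Cfsg.Agent.Lib.Helper2_ClassFn
import Cfsg.Agent.Lib.Helper2_CharBasic
import Cfsg.Agent.Lib.Helper2_CharOrtho
import Cfsg.Agent.Lib.Helper2_Clifford
import Cfsg.Agent.Lib.Helper2_CharMore
import Cfsg.Agent.Lib.Helper2_CharNorm
import Cfsg.Agent.Lib.Helper2_CharValues
import Cfsg.Agent.Lib.Helper2_CharComplete
import Cfsg.Agent.Lib.Helper2_CharInd
import Cfsg.Agent.Lib.Helper2_CharTable
import Cfsg.Agent.Lib.Helper2_CharFrob
import Cfsg.Agent.Lib.Helper2_CharDeg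
import Cfsg.Agent.Lib.Helper2_CharSum
import Cfsg.Agent.Lib.Helper2_CharExtra
import Cfsg.Agent.Lib.Helper2_CharCentral
import Cfsg.Agent.Lib.Helper2_PermChar
import Cfsg.Agent.Lib.Helper2_FrobSchur
import Cfsg.Agent.Lib.Helper2_CliffordCorr
import Cfsg.Agent.Lib.Helper2_CharKernel
import Cfsg.Agent.Lib.Helper2_CyclicTI
import Cfsg.Agent.Lib.Helper2_CharGalois
import Cfsg.Agent.Lib.Helper2_CharInt
import Cfsg.Agent.Lib.Helper2_CharBurnside
import Cfsg.Agent.Lib.Helper2_CharCenter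
import Cfsg.Agent.Lib.Helper2_Ito
import Cfsg.Agent.Lib.Helper2_Gallagher
import Cfsg.Agent.Lib.Helper2_Artin
import Cfsg.Agent.Lib.Helper2_MGroup
import Cfsg.Agent.Lib.Helper2_RepEquiv
import Cfsg.Agent.Lib.Helper2_CyclicExt
import Cfsg.Agent.Lib.Helper2_Extraspecial
import Cfsg.Agent.Lib.Helper2_ProjLift
import Cfsg.Agent.Lib.Helper2_CentralExt
import Cfsg.Agent.Lib.Helper2_SylowExt
import Cfsg.Agent.Lib.Helper2_DetChar
import Cfsg.Agent.Lib.Helper2_LinExt
import Cfsg.Agent.Lib.Helper2_DetExt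
import Cfsg.Agent.Lib.Helper2_GallagherExt
import Cfsg.Agent.Lib.Helper2_PermInd
import Cfsg.Agent.Lib.Helper2_QuasiElem
import Cfsg.Agent.Lib.Helper2_BrauerInd
import Cfsg.Agent.Lib.Helper2_BrauerThm
import Cfsg.Agent.Lib.Helper2_NilDecomp
import Cfsg.Agent.Lib.Helper2_DefectZero
import Cfsg.Agent.Lib.Helper2_CharGalois2
import Cfsg.Agent.Lib.Helper2_CosetAvg
import Cfsg.Agent.Lib.Helper2_Thompson
import Cfsg.Agent.Lib.Helper2_ItoSolv
import Cfsg.Agent.Lib.Helper2_ItoPSolv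
import Cfsg.Agent.Lib.Helper2_GaloisConj
import Cfsg.Agent.Lib.Helper2_AbelInertia
import Cfsg.Agent.Lib.Helper2_Gagola
import Cfsg.Agent.Lib.Helper2_GoingDown
import Cfsg.Agent.Lib.Helper2_RelMGroup
import Cfsg.Agent.Lib.Helper2_Gagola2
import Cfsg.Agent.Lib.Helper2_Gagola3

set_option autoImplicit false
open Cfsg

namespace Cfsg.Agent.S4866

open Cfsg.Agent.Lib.Helper2_ClassFn Cfsg.Agent.Lib.Helper2_CharBasic Cfsg.Agent.Lib.Helper2_CharOrtho Cfsg.Agent.Lib.Helper2_Clifford Cfsg.Agent.Lib.Helper2_CharMore Cfsg.Agent.Lib.Helper2_CharNorm Cfsg.Agent.Lib.Helper2_CharValues Cfsg.Agent.Lib.Helper2_CharComplete Cfsg.Agent.Lib.Helper2_CharInd Cfsg.Agent.Lib.Helper2_CharTable Cfsg.Agent.Lib.Helper2_CharFrob Cfsg.Agent.Lib.Helper2_CharDeg Cfsg.Agent.Lib.Helper2_CharSum Cfsg.Agent.Lib.Helper2_CharExtra Cfsg.Agent.Lib.Helper2_CharCentral Cfsg.Agent.Lib.Helper2_PermChar Cfsg.Agent.Lib.Helper2_FrobSchur Cfsg.Agent.Lib.Helper2_CliffordCorr Cfsg.Agent.Lib.Helper2_CharKernel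 Cfsg.Agent.Lib.Helper2_CyclicTI Cfsg.Agent.Lib.Helper2_CharGalois Cfsg.Agent.Lib.Helper2_CharInt Cfsg.Agent.Lib.Helper2_CharBurnside Cfsg.Agent.Lib.Helper2_CharCenter Cfsg.Agent.Lib.Helper2_Ito Cfsg.Agent.Lib.Helper2_Gallagher Cfsg.Agent.Lib.Helper2_Artin Cfsg.Agent.Lib.Helper2_MGroup Cfsg.Agent.Lib.Helper2_RepEquiv Cfsg.Agent.Lib.Helper2_CyclicExt Cfsg.Agent.Lib.Helper2_Extraspecial Cfsg.Agent.Lib.Helper2_ProjLift Cfsg.Agent.Lib.Helper2_CentralExt Cfsg.Agent.Lib.Helper2_SylowExt Cfsg.Agent.Lib.Helper2_DetChar Cfsg.Agent.Lib.Helper2_LinExt Cfsg.Agent.Lib.Helper2_DetExt Cfsg.Agent.Lib.Helper2_GallagherExt Cfsg.Agent.Lib.Helper2_PermInd Cfsg.Agent.Lib.Helper2_QuasiElem Cfsg.Agent.Lib.Helper2_BrauerInd Cfsg.Agent.Lib.Helper2_BrauerThm Cfsg.Agent.Lib.Helper2_NilDecomp Cfsg.Agent.Lib.Helper2_DefectZero Cfsg.Agent.Lib.Helper2_CharGalois2 Cfsg.Agent.Lib.Helper2_CosetAvg Cfsg.Agent.Lib.Helper2_Thompson Cfsg.Agent.Lib.Helper2_ItoSolv Cfsg.Agent.Lib.Helper2_ItoPSolv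 Cfsg.Agent.Lib.Helper2_GaloisConj Cfsg.Agent.Lib.Helper2_AbelInertia Cfsg.Agent.Lib.Helper2_Gagola Cfsg.Agent.Lib.Helper2_GoingDown Cfsg.Agent.Lib.Helper2_RelMGroup Cfsg.Agent.Lib.Helper2_Gagola2 Cfsg.Agent.Lib.Helper2_Gagola3
open scoped Pointwise
section General

variable {K : Type*} [Group K] [Fintype K]

open Classical in
theorem sum_conj_indicator (a b : K) :
    ∑ u : K, (if u * a * u⁻¹ = b then (1 : ℂ) else 0)
      = if IsConj a b then (Nat.card (Subgroup.centralizer ({a} : Set K)) : ℂ) else 0 := by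
  split_ifs with hc
  · obtain ⟨u₀, hu₀⟩ := isConj_iff.mp hc
    rw [Finset.sum_boole]
    congr 1
    rw [← Fintype.card_subtype, ← Nat.card_eq_fintype_card]
    apply Nat.card_congr
    exact
      { toFun := fun u => ⟨u₀⁻¹ * u.1, by
          rw [Subgroup.mem_centralizer_singleton_iff]
          have h1 : u.1 * a * u.1⁻¹ = u₀ * a * u₀⁻¹ := u.2.trans hu₀.symm
          have h2 : a = u₀⁻¹ * (u.1 * a * u.1⁻¹) * u₀ := by rw [h1]; group
          calc u₀⁻¹ * u.1 * a = u₀⁻¹ * (u.1 * a * u.1⁻¹) * u₀ * (u₀⁻¹ * u.1) := by group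
            _ = a * (u₀⁻¹ * u.1) := by rw [← h2]⟩
        invFun := fun c => ⟨u₀ * c.1, by
          have hc' := Subgroup.mem_centralizer_singleton_iff.mp c.2
          calc u₀ * c.1 * a * (u₀ * c.1)⁻¹ = u₀ * (c.1 * a) * c.1⁻¹ * u₀⁻¹ := by group
            _ = u₀ * (a * c.1) * c.1⁻¹ * u₀⁻¹ := by rw [hc']
            _ = u₀ * a * u₀⁻¹ := by group
            _ = b := hu₀⟩
        left_inv := fun u => by simp
        right_inv := fun c => by simp }
  · apply Finset.sum_eq_zero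
    intro u _
    rw [if_neg]
    intro h
    exact hc (isConj_iff.mpr ⟨u, h⟩)

open Classical in
theorem card_fixed_irr_twist (τ : K → K)
    (hτ : ∀ χ : K → ℂ, IsIrrCharacter K χ → IsIrrCharacter K (fun x => χ (τ x))) :
    ((Finset.filter (fun χ : K → ℂ => (fun x => χ (τ x)) = χ) (irrFinset K)).card : ℂ)
        * (Nat.card K : ℂ)
      = ∑ k : K, ∑ u : K, if u * τ k * u⁻¹ = k then (1 : ℂ) else 0 := by
  have h1 : ∀ χ ∈ irrFinset K, classInner (fun x => χ (τ x)) χ
      = if (fun x => χ (τ x)) = χ then 1 else 0 := by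
    intro χ hχ
    exact classInner_irr (hτ χ (mem_irrFinset.mp hχ)) (mem_irrFinset.mp hχ)
  have h2 : ((Finset.filter (fun χ : K → ℂ => (fun x => χ (τ x)) = χ) (irrFinset K)).card : ℂ)
      = ∑ χ ∈ irrFinset K, classInner (fun x => χ (τ x)) χ := by
    rw [Finset.sum_congr rfl h1, Finset.sum_ite, Finset.sum_const_zero, add_zero,
      Finset.sum_const, nsmul_eq_mul, mul_one]
  rw [h2]
  simp only [classInner_def]
  rw [← Finset.mul_sum, Finset.sum_comm]
  have hK0 : (Nat.card K : ℂ) ≠ 0 := card_ne_zero_complex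
  rw [mul_comm, ← mul_assoc, mul_inv_cancel₀ hK0, one_mul]
  refine Finset.sum_congr rfl fun k _ => ?_
  rw [second_orthogonality' (τ k) k, sum_conj_indicator]

end General

section Main

variable {G : Type*} [Group G] [Fintype G] (K : Subgroup G) [hK : K.Normal] [Fintype ↥K]

omit [Fintype G] [Fintype ↥K] in
noncomputable def tw (g : G) : ↥K → ↥K := fun k => (MulAut.conjNormal g k)⁻¹

omit [Fintype G] [Fintype ↥K] in
theorem tw_coe (g : G) (k : ↥K) : ((tw K g k : ↥K) : G) = g * (k : G)⁻¹ * g⁻¹ := by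
  unfold tw
  rw [Subgroup.coe_inv, MulAut.conjNormal_apply]
  group

theorem tw_irr (g : G) (χ : ↥K → ℂ) (hχ : IsIrrCharacter ↥K χ) :
    IsIrrCharacter ↥K (fun x => χ (tw K g x)) := by
  have h1 := IsIrrCharacter.comp_mulEquiv hχ (MulAut.conjNormal g : ↥K ≃* ↥K)
  have h2 := IsIrrCharacter.conj h1
  convert h2 using 1
  funext k
  unfold tw
  exact IsCharacter.apply_inv (IsIrrCharacter.isCharacter hχ) _

open Classical in
theorem triple_sum :
    ∑ g : G, ∑ k : ↥K, ∑ u : ↥K, (@ite ℂ (u * tw K g k * u⁻¹ = k)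
        (Classical.propDecidable _) (1 : ℂ) 0)
      = (Nat.card ↥K : ℂ) * ∑ k : ↥K, ∑ h : G,
          if h * (k : G)⁻¹ * h⁻¹ = k then (1 : ℂ) else 0 := by
  rw [Finset.sum_comm, Finset.mul_sum]
  refine Finset.sum_congr rfl fun k _ => ?_
  rw [Finset.sum_comm]
  have h2 : ∀ u : ↥K, ∑ g : G, (@ite ℂ (u * tw K g k * u⁻¹ = k)
        (Classical.propDecidable _) (1 : ℂ) 0)
      = ∑ h : G, if h * (k : G)⁻¹ * h⁻¹ = k then (1 : ℂ) else 0 := by
    intro u
    refine Fintype.sum_equiv (Equiv.mulLeft (u : G)) _ _ fun g => ?_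
    show (@ite ℂ (u * tw K g k * u⁻¹ = k) (Classical.propDecidable _) (1 : ℂ) 0)
      = if (u : G) * g * (k : G)⁻¹ * ((u : G) * g)⁻¹ = k then (1 : ℂ) else 0
    have hiff : (u * tw K g k * u⁻¹ = k)
        ↔ ((u : G) * g * (k : G)⁻¹ * ((u : G) * g)⁻¹ = k) := by
      rw [← Subtype.coe_inj, Subgroup.coe_mul, Subgroup.coe_mul, Subgroup.coe_inv, tw_coe]
      have e : (u : G) * (g * (k : G)⁻¹ * g⁻¹) * (u : G)⁻¹
          = (u : G) * g * (k : G)⁻¹ * ((u : G) * g)⁻¹ := by group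
      rw [e]
    by_cases hc : u * tw K g k * u⁻¹ = k
    · rw [if_pos hc, if_pos (hiff.mp hc)]
    · rw [if_neg hc, if_neg (fun h => hc (hiff.mpr h))]
  rw [Finset.sum_congr rfl (fun u _ => h2 u), Finset.sum_const, Finset.card_univ, nsmul_eq_mul,
    Nat.card_eq_fintype_card]

omit [Fintype G] [Fintype ↥K] in
theorem real_of_real (hodd : Odd K.index) (k : ↥K) (h : G) (hh : h * (k : G)⁻¹ * h⁻¹ = k) :
    IsConj k k⁻¹ := by
  obtain ⟨t, ht⟩ := hodd
  have hinv : h * (k : G) * h⁻¹ = (k : G)⁻¹ := by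
    have : (h * (k : G)⁻¹ * h⁻¹)⁻¹ = (k : G)⁻¹ := by rw [hh]
    rw [← this]
    group
  have key : ∀ j : ℕ, h ^ (2 * j + 1) * (k : G) * (h ^ (2 * j + 1))⁻¹ = (k : G)⁻¹ := by
    intro j
    induction j with
    | zero => simpa using hinv
    | succ j ih =>
      have e : h ^ (2 * (j + 1) + 1) = h * h * h ^ (2 * j + 1) := by
        rw [show 2 * (j + 1) + 1 = 2 + (2 * j + 1) by ring, pow_add, pow_two]
      rw [e]
      calc h * h * h ^ (2 * j + 1) * (k : G) * (h * h * h ^ (2 * j + 1))⁻¹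
          = h * (h * (h ^ (2 * j + 1) * (k : G) * (h ^ (2 * j + 1))⁻¹) * h⁻¹) * h⁻¹ := by group
        _ = h * (h * (k : G)⁻¹ * h⁻¹) * h⁻¹ := by rw [ih]
        _ = h * (k : G) * h⁻¹ := by rw [hh]
        _ = (k : G)⁻¹ := hinv
  have hmem : h ^ K.index ∈ K := K.pow_index_mem h
  rw [ht] at hmem
  rw [isConj_iff]
  refine ⟨⟨h ^ (2 * t + 1), hmem⟩, ?_⟩
  apply Subtype.ext
  rw [Subgroup.coe_mul, Subgroup.coe_mul, Subgroup.coe_inv, Subgroup.coe_inv]
  exact key t

open Classical in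
theorem pair_sum (hodd : Odd K.index) (k : ↥K) :
    ∑ h : G, (if h * (k : G)⁻¹ * h⁻¹ = k then (1 : ℂ) else 0)
      = if IsConj k k⁻¹ then ∑ g : G, (if g * (k : G) * g⁻¹ = k then (1 : ℂ) else 0)
          else 0 := by
  split_ifs with hr
  · obtain ⟨u, hu⟩ := isConj_iff.mp hr
    have hu' : (u : G) * k * (u : G)⁻¹ = (k : G)⁻¹ := by
      have := congrArg Subtype.val hu
      simpa using this
    symm
    refine Fintype.sum_equiv (Equiv.mulRight (u : G)) _ _ fun g => ?_
    show (if g * (k : G) * g⁻¹ = k then (1 : ℂ) else 0)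
      = if (g * u) * (k : G)⁻¹ * (g * u)⁻¹ = k then (1 : ℂ) else 0
    have hiff : (g * (k : G) * g⁻¹ = k) ↔ ((g * u) * (k : G)⁻¹ * (g * u)⁻¹ = k) := by
      have e : (g * u) * (k : G)⁻¹ * (g * u)⁻¹ = g * ((u : G) * k * (u : G)⁻¹)⁻¹ * g⁻¹ := by
        group
      rw [e, hu', inv_inv]
    by_cases hc : g * (k : G) * g⁻¹ = k
    · rw [if_pos hc, if_pos (hiff.mp hc)]
    · rw [if_neg hc, if_neg (fun h => hc (hiff.mpr h))]
  · apply Finset.sum_eq_zero
    intro h _
    rw [if_neg]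
    intro hh
    exact hr (real_of_real K hodd k h hh)

omit [Fintype ↥K] in
theorem fixed_iff (hodd : Odd K.index) (g : G) {θ : ↥K → ℂ} (hθ : IsIrrCharacter ↥K θ) :
    ((∀ k : ↥K, (θ k).im = 0) ∧ (fun k => θ (MulAut.conjNormal g⁻¹ k)) = θ)
      ↔ (fun k => θ (tw K g k)) = θ := by
  have hθc := IsIrrCharacter.isCharacter hθ
  have hcf := IsCharacter.isClassFunction hθc
  have htw : ∀ k : ↥K, θ (tw K g k) = (starRingEnd ℂ) (θ (MulAut.conjNormal g k)) := by
    intro k
    unfold tw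
    exact IsCharacter.apply_inv hθc _
  have hcancel : ∀ k : ↥K, MulAut.conjNormal g⁻¹ (MulAut.conjNormal g k) = k := by
    intro k
    rw [map_inv]
    exact (MulAut.conjNormal g : ↥K ≃* ↥K).symm_apply_apply k
  have hcancel' : ∀ k : ↥K, MulAut.conjNormal g (MulAut.conjNormal g⁻¹ k) = k := by
    intro k
    rw [map_inv]
    exact (MulAut.conjNormal g : ↥K ≃* ↥K).apply_symm_apply k
  constructor
  · rintro ⟨hreal, hfix⟩
    funext k
    rw [htw]
    have h1 : θ (MulAut.conjNormal g k) = θ k := by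
      have := congrFun hfix (MulAut.conjNormal g k)
      rw [hcancel] at this
      exact this.symm
    rw [h1]
    exact Complex.conj_eq_iff_im.mpr (hreal k)
  · intro h
    have h1 : ∀ k : ↥K, θ (MulAut.conjNormal g k) = (starRingEnd ℂ) (θ k) := by
      intro k
      have := congrFun h k
      rw [htw] at this
      rw [← this, Complex.conj_conj]
    obtain ⟨t, ht⟩ := hodd
    have key : ∀ (j : ℕ) (k : ↥K),
        θ (MulAut.conjNormal (g ^ (2 * j + 1)) k) = (starRingEnd ℂ) (θ k) := by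
      intro j
      induction j with
      | zero =>
        intro k
        simpa using h1 k
      | succ j ih =>
        intro k
        have e : g ^ (2 * (j + 1) + 1) = g * g * g ^ (2 * j + 1) := by
          rw [show 2 * (j + 1) + 1 = 2 + (2 * j + 1) by ring, pow_add, pow_two]
        rw [e, map_mul, map_mul]
        change θ (MulAut.conjNormal g (MulAut.conjNormal g
          (MulAut.conjNormal (g ^ (2 * j + 1)) k))) = _
        rw [h1, h1, Complex.conj_conj, ih]
    have hmem : g ^ K.index ∈ K := K.pow_index_mem g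
    rw [ht] at hmem
    have hreal : ∀ k : ↥K, (θ k).im = 0 := by
      intro k
      apply Complex.conj_eq_iff_im.mp
      rw [← key t k]
      have : MulAut.conjNormal (g ^ (2 * t + 1)) k
          = (⟨g ^ (2 * t + 1), hmem⟩ : ↥K) * k * (⟨g ^ (2 * t + 1), hmem⟩ : ↥K)⁻¹ := by
        apply Subtype.ext
        rw [MulAut.conjNormal_apply]
        rfl
      rw [this]
      exact hcf k _
    refine ⟨hreal, ?_⟩
    funext k
    have h2 := h1 (MulAut.conjNormal g⁻¹ k)
    rw [hcancel'] at h2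
    have h3 : θ (MulAut.conjNormal g⁻¹ k) = (starRingEnd ℂ) (θ k) := by
      rw [h2, Complex.conj_conj]
    rw [h3]
    exact Complex.conj_eq_iff_im.mpr (hreal k)

end Main


section Orbits

variable {G : Type*} [Group G] [Fintype G] (K : Subgroup G) [hK : K.Normal] [Fintype ↥K]

abbrev RealIrr := {θ : Cfsg.IrrCharacter ↥K // ∀ k : ↥K, ((θ : ↥K → ℂ) k).im = 0}

abbrev RealEl := {x : ↥K // IsConj x x⁻¹}

omit [Fintype G] [Fintype ↥K] in
@[instance_reducible] noncomputable def actX : MulAction G (RealIrr K) where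
  smul g θ := ⟨⟨fun k => θ.1.1 (MulAut.conjNormal g⁻¹ k),
    IsIrrCharacter.comp_mulEquiv θ.1.2 (MulAut.conjNormal g⁻¹ : ↥K ≃* ↥K)⟩, fun k => θ.2 _⟩
  one_smul θ := by
    apply Subtype.ext
    apply Subtype.ext
    funext k
    change θ.1.1 (MulAut.conjNormal (1 : G)⁻¹ k) = θ.1.1 k
    rw [inv_one, map_one]
    rfl
  mul_smul g h θ := by
    apply Subtype.ext
    apply Subtype.ext
    funext k
    change θ.1.1 (MulAut.conjNormal (g * h)⁻¹ k)
      = θ.1.1 (MulAut.conjNormal h⁻¹ (MulAut.conjNormal g⁻¹ k))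
    rw [mul_inv_rev, map_mul]
    rfl

omit [Fintype G] [Fintype ↥K] in
@[instance_reducible] noncomputable def actY : MulAction G (RealEl K) where
  smul g x := ⟨MulAut.conjNormal g x.1, by
    have := (MulAut.conjNormal g : ↥K ≃* ↥K).toMonoidHom.map_isConj x.2
    simpa using this⟩
  one_smul x := by
    apply Subtype.ext
    change MulAut.conjNormal (1 : G) x.1 = x.1
    rw [map_one]
    rfl
  mul_smul g h x := by
    apply Subtype.ext
    change MulAut.conjNormal (g * h) x.1 = MulAut.conjNormal g (MulAut.conjNormal h x.1)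
    rw [map_mul]
    rfl

open Classical in
theorem lhs_count (hodd : Odd K.index) :
    (Nat.card (Quot (fun θ η : RealIrr K => ∃ g : G, ∀ k k' : ↥K,
        (k' : G) = g * (k : G) * g⁻¹ → (η.1 : ↥K → ℂ) k' = (θ.1 : ↥K → ℂ) k)) : ℂ)
        * (Nat.card G : ℂ)
      = ∑ g : G, ((Finset.filter (fun χ : ↥K → ℂ => (fun x => χ (tw K g x)) = χ)
          (irrFinset ↥K)).card : ℂ) := by
  letI := actX K
  haveI : Fintype (RealIrr K) := Fintype.ofFinite _
  have hrel : ∀ θ η : RealIrr K, (∃ g : G, ∀ k k' : ↥K,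
        (k' : G) = g * (k : G) * g⁻¹ → (η.1 : ↥K → ℂ) k' = (θ.1 : ↥K → ℂ) k)
      ↔ (MulAction.orbitRel G (RealIrr K)).r θ η := by
    intro θ η
    rw [MulAction.orbitRel_apply, MulAction.mem_orbit_iff]
    constructor
    · rintro ⟨g, hg⟩
      refine ⟨g⁻¹, ?_⟩
      apply Subtype.ext
      apply Subtype.ext
      funext k
      change η.1.1 (MulAut.conjNormal (g⁻¹)⁻¹ k) = θ.1.1 k
      rw [inv_inv]
      exact hg k _ (MulAut.conjNormal_apply g k)
    · rintro ⟨g, hg⟩
      refine ⟨g⁻¹, ?_⟩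
      intro k k' hk'
      rw [← hg]
      change η.1.1 k' = η.1.1 (MulAut.conjNormal g⁻¹ k)
      apply congrArg
      apply Subtype.ext
      rw [hk', MulAut.conjNormal_apply]
  have e1 : Quot (fun θ η : RealIrr K => ∃ g : G, ∀ k k' : ↥K,
        (k' : G) = g * (k : G) * g⁻¹ → (η.1 : ↥K → ℂ) k' = (θ.1 : ↥K → ℂ) k)
      ≃ Quotient (MulAction.orbitRel G (RealIrr K)) := Quot.congrRight hrel
  rw [Nat.card_congr e1]
  haveI : Fintype (Quotient (MulAction.orbitRel G (RealIrr K))) := Fintype.ofFinite _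
  have hB := MulAction.sum_card_fixedBy_eq_card_orbits_mul_card_group G (RealIrr K)
  rw [Nat.card_eq_fintype_card, Nat.card_eq_fintype_card, ← Nat.cast_mul]
  change ((Fintype.card (Quotient (MulAction.orbitRel G (RealIrr K))) * Fintype.card G : ℕ) : ℂ) = _
  rw [← hB, Nat.cast_sum]
  refine Finset.sum_congr rfl fun g _ => ?_
  congr 1
  rw [← Nat.card_eq_fintype_card, ← Nat.card_eq_finsetCard]
  apply Nat.card_congr
  exact
    { toFun := fun θ => ⟨θ.1.1.1, Finset.mem_filter.mpr ⟨mem_irrFinset.mpr θ.1.1.2,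
        (fixed_iff K hodd g θ.1.1.2).mp ⟨θ.1.2, by
          have h := θ.2
          rw [MulAction.mem_fixedBy] at h
          exact congrArg (fun x : RealIrr K => x.1.1) h⟩⟩⟩
      invFun := fun χ => ⟨⟨⟨χ.1, mem_irrFinset.mp (Finset.mem_filter.mp χ.2).1⟩,
          ((fixed_iff K hodd g (mem_irrFinset.mp (Finset.mem_filter.mp χ.2).1)).mpr
            (Finset.mem_filter.mp χ.2).2).1⟩, by
          rw [MulAction.mem_fixedBy]
          apply Subtype.ext
          apply Subtype.ext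
          exact ((fixed_iff K hodd g (mem_irrFinset.mp (Finset.mem_filter.mp χ.2).1)).mpr
            (Finset.mem_filter.mp χ.2).2).2⟩
      left_inv := fun θ => rfl
      right_inv := fun χ => rfl }

open Classical in
theorem rhs_count :
    (Nat.card (Quot (fun x y : RealEl K => ∃ g : G, (y.1 : G) = g * x.1 * g⁻¹)) : ℂ)
        * (Nat.card G : ℂ)
      = ∑ g : G, ∑ k : ↥K, if IsConj k k⁻¹
          then (if g * (k : G) * g⁻¹ = k then (1 : ℂ) else 0) else 0 := by
  letI := actY K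
  haveI : Fintype (RealEl K) := Fintype.ofFinite _
  have hrel : ∀ x y : RealEl K, (∃ g : G, (y.1 : G) = g * x.1 * g⁻¹)
      ↔ (MulAction.orbitRel G (RealEl K)).r y x := by
    intro x y
    rw [MulAction.orbitRel_apply, MulAction.mem_orbit_iff]
    constructor
    · rintro ⟨g, hg⟩
      refine ⟨g, ?_⟩
      apply Subtype.ext
      apply Subtype.ext
      change ((MulAut.conjNormal g x.1 : ↥K) : G) = y.1
      rw [MulAut.conjNormal_apply, hg]
    · rintro ⟨g, hg⟩
      refine ⟨g, ?_⟩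
      rw [← hg]
      exact MulAut.conjNormal_apply g x.1
  have hrel' : ∀ x y : RealEl K, (∃ g : G, (y.1 : G) = g * x.1 * g⁻¹)
      ↔ (MulAction.orbitRel G (RealEl K)).r x y := by
    intro x y
    rw [hrel]
    exact ⟨fun h => (MulAction.orbitRel G (RealEl K)).symm h,
      fun h => (MulAction.orbitRel G (RealEl K)).symm h⟩
  have e1 : Quot (fun x y : RealEl K => ∃ g : G, (y.1 : G) = g * x.1 * g⁻¹)
      ≃ Quotient (MulAction.orbitRel G (RealEl K)) := Quot.congrRight hrel'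
  rw [Nat.card_congr e1]
  haveI : Fintype (Quotient (MulAction.orbitRel G (RealEl K))) := Fintype.ofFinite _
  have hB := MulAction.sum_card_fixedBy_eq_card_orbits_mul_card_group G (RealEl K)
  rw [Nat.card_eq_fintype_card, Nat.card_eq_fintype_card, ← Nat.cast_mul]
  change ((Fintype.card (Quotient (MulAction.orbitRel G (RealEl K))) * Fintype.card G : ℕ) : ℂ) = _
  rw [← hB, Nat.cast_sum]
  refine Finset.sum_congr rfl fun g _ => ?_
  rw [← Finset.sum_filter, Finset.sum_boole]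
  congr 1
  rw [← Nat.card_eq_fintype_card, ← Nat.card_eq_finsetCard]
  apply Nat.card_congr
  exact
    { toFun := fun x => ⟨x.1.1, Finset.mem_filter.mpr ⟨Finset.mem_filter.mpr
        ⟨Finset.mem_univ _, x.1.2⟩, by
          have h := x.2
          rw [MulAction.mem_fixedBy] at h
          have h2 : (((g • x.1 : RealEl K).1 : ↥K) : G) = ((x.1.1 : ↥K) : G) :=
            congrArg (fun y : RealEl K => ((y.1 : ↥K) : G)) h
          exact (MulAut.conjNormal_apply g x.1.1).symm.trans h2⟩⟩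
      invFun := fun k => ⟨⟨k.1, (Finset.mem_filter.mp (Finset.mem_filter.mp k.2).1).2⟩, by
          rw [MulAction.mem_fixedBy]
          apply Subtype.ext
          apply Subtype.ext
          change ((MulAut.conjNormal g k.1 : ↥K) : G) = k.1
          rw [MulAut.conjNormal_apply]
          exact (Finset.mem_filter.mp k.2).2⟩
      left_inv := fun x => rfl
      right_inv := fun k => rfl }

end Orbits



/-- Let K be a normal subgroup of odd index in the finite group G. Then G has as many orbits on the real-valued irreducible complex characters of K (acting by conjugation) as it has orbits on the conjugacy classes of K that are real in K; equivalently, the number of G-orbits of real-valued irreducible characters of K equals the number of G-conjugacy classes of elements of K that are conjugate in K to their inverses. -/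
theorem result {G : Type*} [Group G] [Finite G] (K : Subgroup G) [K.Normal] (hodd : Odd K.index) : Nat.card (Quot (fun θ η : {θ : Cfsg.IrrCharacter ↥K // (∀ k : ↥K, ((θ : ↥K → ℂ) k).im = 0)} => ∃ g : G, ∀ k k' : ↥K, (k' : G) = g * (k : G) * g⁻¹ → (η.1 : ↥K → ℂ) k' = (θ.1 : ↥K → ℂ) k)) = Nat.card (Quot (fun x y : {x : ↥K // IsConj x x⁻¹} => ∃ g : G, (y.1 : G) = g * x.1 * g⁻¹)) := by
  classical
  haveI := Fintype.ofFinite G
  haveI : Fintype ↥K := Fintype.ofFinite _
  have hL := lhs_count K hodd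
  have hR := rhs_count K
  have hG0 : (Nat.card G : ℂ) ≠ 0 := card_ne_zero_complex
  have hK0 : (Nat.card ↥K : ℂ) ≠ 0 := card_ne_zero_complex
  have h1 := fun g : G => card_fixed_irr_twist (tw K g) (tw_irr K g)
  have h2 : (Nat.card (Quot (fun θ η : RealIrr K => ∃ g : G, ∀ k k' : ↥K,
        (k' : G) = g * (k : G) * g⁻¹ → (η.1 : ↥K → ℂ) k' = (θ.1 : ↥K → ℂ) k)) : ℂ)
        * (Nat.card G : ℂ) * (Nat.card ↥K : ℂ)
      = (Nat.card (Quot (fun x y : RealEl K => ∃ g : G, (y.1 : G) = g * x.1 * g⁻¹)) : ℂ)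
        * (Nat.card G : ℂ) * (Nat.card ↥K : ℂ) := by
    rw [hL, hR, Finset.sum_mul, Finset.sum_congr rfl (fun g _ => h1 g), triple_sum K,
      Finset.sum_congr rfl (fun k _ => pair_sum K hodd k), mul_comm]
    congr 1
    rw [Finset.sum_comm]
    refine Finset.sum_congr rfl fun k _ => ?_
    split_ifs with hr
    · rfl
    · rw [Finset.sum_const_zero]
  have h3 := mul_right_cancel₀ hK0 h2
  have h4 := mul_right_cancel₀ hG0 h3
  exact_mod_cast h4

end Cfsg.Agent.S4866
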