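import Cfsg.Statements.S0963
import Cfsg.Agent.Lib.Helper2_ClassFn
import Cfsg.Agent.Lib.Helper2_CharBasic
import Cfsg.Agent.Lib.Helper2_CharOrtho
import Cfsg.Agent.Lib.Helper2_Clifford
import Cfsg.Agent.Lib.Helper2_CharMore
import Cfsg.Agent.Lib.Helper2_CharNorm
import Cfsg.Agent.Lib.Helper2_CharValues
import Cfsg.Agent.Lib.Helper2_CharComplete
import Cfsg.Agent.Lib.Helper2_CharInd
import Cfsg.Agent.Lib.Helper2_CharTable
import Cfsg.Agent.Lib.Helper2_CharFrob
import Cfsg.Agent.Lib.Helper2_CharDeg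
import Cfsg.Agent.Lib.Helper2_CharSum
import Cfsg.Agent.Lib.Helper2_CharExtra
import Cfsg.Agent.Lib.Helper2_CharCentral
import Cfsg.Agent.Lib.Helper2_PermChar
import Cfsg.Agent.Lib.Helper2_FrobSchur
import Cfsg.Agent.Lib.Helper2_CliffordCorr
import Cfsg.Agent.Lib.Helper2_CharKernel
import Cfsg.Agent.Lib.Helper2_CyclicTI
import Cfsg.Agent.Lib.Helper2_CharGalois
import Cfsg.Agent.Lib.Helper2_CharInt
import Cfsg.Agent.Lib.Helper2_CharBurnside
import Cfsg.Agent.Lib.Helper2_CharCenter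
import Cfsg.Agent.Lib.Helper2_Ito
import Cfsg.Agent.Lib.Helper2_Gallagher
import Cfsg.Agent.Lib.Helper2_Artin
import Cfsg.Agent.Lib.Helper2_MGroup
import Cfsg.Agent.Lib.Helper2_RepEquiv
import Cfsg.Agent.Lib.Helper2_CyclicExt
import Cfsg.Agent.Lib.Helper2_Extraspecial
import Cfsg.Agent.Lib.Helper2_ProjLift
import Cfsg.Agent.Lib.Helper2_CentralExt
import Cfsg.Agent.Lib.Helper2_SylowExt
import Cfsg.Agent.Lib.Helper2_DetChar
import Cfsg.Agent.Lib.Helper2_LinExt
import Cfsg.Agent.Lib.Helper2_DetExt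
import Cfsg.Agent.Lib.Helper2_GallagherExt
import Cfsg.Agent.Lib.Helper2_PermInd
import Cfsg.Agent.Lib.Helper2_QuasiElem
import Cfsg.Agent.Lib.Helper2_BrauerInd
import Cfsg.Agent.Lib.Helper2_BrauerThm
import Cfsg.Agent.Lib.Helper2_NilDecomp
import Cfsg.Agent.Lib.Helper2_DefectZero
import Cfsg.Agent.Lib.Helper2_CharGalois2
import Cfsg.Agent.Lib.Helper2_CosetAvg
import Cfsg.Agent.Lib.Helper2_Thompson
import Cfsg.Agent.Lib.Helper2_ItoSolv
import Cfsg.Agent.Lib.Helper2_ItoPSolv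
import Cfsg.Agent.Lib.Helper2_GaloisConj
import Cfsg.Agent.Lib.Helper2_AbelInertia
import Cfsg.Agent.Lib.Helper2_Gagola
import Cfsg.Agent.Lib.Helper2_GoingDown
import Cfsg.Agent.Lib.Helper2_RelMGroup
import Cfsg.Agent.Lib.Helper2_Gagola2
import Cfsg.Agent.Lib.Helper2_Gagola3
import Cfsg.Agent.S4866

set_option autoImplicit false
open Cfsg

namespace Cfsg.Agent.S0963

open Cfsg.Agent.Lib.Helper2_ClassFn Cfsg.Agent.Lib.Helper2_CharBasic Cfsg.Agent.Lib.Helper2_CharOrtho Cfsg.Agent.Lib.Helper2_Clifford Cfsg.Agent.Lib.Helper2_CharMore Cfsg.Agent.Lib.Helper2_CharNorm Cfsg.Agent.Lib.Helper2_CharValues Cfsg.Agent.Lib.Helper2_CharComplete Cfsg.Agent.Lib.Helper2_CharInd Cfsg.Agent.Lib.Helper2_CharTable Cfsg.Agent.Lib.Helper2_CharFrob Cfsg.Agent.Lib.Helper2_CharDeg Cfsg.Agent.Lib.Helper2_CharSum Cfsg.Agent.Lib.Helper2_CharExtra Cfsg.Agent.Lib.Helper2_CharCentral Cfsg.Agent.Lib.Helper2_PermChar Cfsg.Agent.Lib.Helper2_FrobSchur Cfsg.Agent.Lib.Helper2_CliffordCorr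 Cfsg.Agent.Lib.Helper2_CharKernel Cfsg.Agent.Lib.Helper2_CyclicTI Cfsg.Agent.Lib.Helper2_CharGalois Cfsg.Agent.Lib.Helper2_CharInt Cfsg.Agent.Lib.Helper2_CharBurnside Cfsg.Agent.Lib.Helper2_CharCenter Cfsg.Agent.Lib.Helper2_Ito Cfsg.Agent.Lib.Helper2_Gallagher Cfsg.Agent.Lib.Helper2_Artin Cfsg.Agent.Lib.Helper2_MGroup Cfsg.Agent.Lib.Helper2_RepEquiv Cfsg.Agent.Lib.Helper2_CyclicExt Cfsg.Agent.Lib.Helper2_Extraspecial Cfsg.Agent.Lib.Helper2_ProjLift Cfsg.Agent.Lib.Helper2_CentralExt Cfsg.Agent.Lib.Helper2_SylowExt Cfsg.Agent.Lib.Helper2_DetChar Cfsg.Agent.Lib.Helper2_LinExt Cfsg.Agent.Lib.Helper2_DetExt Cfsg.Agent.Lib.Helper2_GallagherExt Cfsg.Agent.Lib.Helper2_PermInd Cfsg.Agent.Lib.Helper2_QuasiElem Cfsg.Agent.Lib.Helper2_BrauerInd Cfsg.Agent.Lib.Helper2_BrauerThm Cfsg.Agent.Lib.Helper2_NilDecomp Cfsg.Agent.Lib.Helper2_DefectZero Cfsg.Agent.Lib.Helper2_CharGalois2 Cfsg.Agent.Lib.Helper2_CosetAvg Cfsg.Agent.Lib.Helper2_Thompson Cfsg.Agent.Lib.Helper2_ItoSolv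 Cfsg.Agent.Lib.Helper2_ItoPSolv Cfsg.Agent.Lib.Helper2_GaloisConj Cfsg.Agent.Lib.Helper2_AbelInertia Cfsg.Agent.Lib.Helper2_Gagola Cfsg.Agent.Lib.Helper2_GoingDown Cfsg.Agent.Lib.Helper2_RelMGroup Cfsg.Agent.Lib.Helper2_Gagola2 Cfsg.Agent.Lib.Helper2_Gagola3
open scoped Pointwise
open Classical in
theorem orbit_data {G : Type*} [Group G] [Fintype G] (N : Subgroup G) [hN : N.Normal] [Fintype N]
    {θ : N → ℂ} (hθ : IsIrrCharacter N θ) :
    ∃ (k : ℕ) (O : Finset (N → ℂ)), θ ∈ O ∧ (∀ ψ ∈ O, ∃ g : G, ψ = conjFn N θ g) ∧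
      k * O.card = Nat.card G ∧
      (∀ n : N, ∑ x : G, conjFn N θ x n = (k : ℂ) * ∑ ψ ∈ O, ψ n) ∧
      (∀ χ : G → ℂ, IsIrrCharacter G χ → classInner (fun n : N => χ n) θ ≠ 0 →
        (fun n : N => χ n) = classInner (fun n : N => χ n) θ • ∑ ψ ∈ O, ψ) := by
  refine ⟨(Finset.univ.filter (fun x : G => conjFn N θ x = θ)).card,
    Finset.univ.image (conjFn N θ), ?_, ?_, ?_, ?_, ?_⟩
  · exact Finset.mem_image.mpr ⟨1, Finset.mem_univ _, conjFn_one N θ⟩
  · intro ψ hψ
    obtain ⟨g, _, rfl⟩ := Finset.mem_image.mp hψ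
    exact ⟨g, rfl⟩
  · have h1 := sum_conjFn N θ (fun _ => (1 : ℕ))
    simp only [Finset.sum_const, Finset.card_univ, smul_eq_mul, mul_one] at h1
    rw [Nat.card_eq_fintype_card, h1]
    congr!
  · intro n
    have h1 := sum_conjFn N θ (fun ψ => ψ n)
    rw [h1, nsmul_eq_mul]
    congr!
  · intro χ hχ hc
    exact clifford N hχ hθ hc



/-- Let N be a normal subgroup of the finite group G, χ an irreducible character of G and θ an irreducible character of N. Then θ occurs in the restriction of χ to N if and only if, for every n ∈ N, the central character of χ at n (class size in G times χ n over χ 1) equals the sum of θ m / θ 1 over the elements m of N conjugate in G to n. -/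
theorem result {G : Type*} [Group G] [Fintype G] (N : Subgroup G) [N.Normal] [Fintype N] (χ : Cfsg.IrrCharacter G) (θ : Cfsg.IrrCharacter N) : Cfsg.classInner (fun n : N => (χ : G → ℂ) n) (θ : N → ℂ) ≠ 0 ↔ ∀ n : N, Cfsg.centralChar (χ : G → ℂ) (n : G) = Cfsg.inducedCentralChar N (θ : N → ℂ) (n : G) := by
  classical
  obtain ⟨χ, hχ⟩ := χ
  obtain ⟨θ, hθ⟩ := θ
  change classInner (fun n : N => χ n) θ ≠ 0 ↔
    ∀ n : N, Cfsg.centralChar χ (n : G) = Cfsg.inducedCentralChar N θ (n : G)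
  obtain ⟨k, O, hθO, hOconj, hktN, hsum1', hcliff⟩ := orbit_data N hθ
  set S : N → ℂ := ∑ ψ ∈ O, ψ with hS
  have hsum1 : ∀ n : N, ∑ x : G, conjFn N θ x n = (k : ℂ) * S n := by
    intro n
    rw [hsum1' n, hS, Finset.sum_apply]
  have hθ10 : θ 1 ≠ 0 := IsIrrCharacter.apply_one_ne_zero hθ
  have hχ10 : χ 1 ≠ 0 := IsIrrCharacter.apply_one_ne_zero hχ
  have hS1 : S 1 = (O.card : ℂ) * θ 1 := by
    rw [hS, Finset.sum_apply, Finset.sum_congr rfl (g := fun _ => θ 1), Finset.sum_const,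
      nsmul_eq_mul]
    intro ψ hψ
    obtain ⟨g, rfl⟩ := hOconj ψ hψ
    rw [conjFn_apply]
    congr 1
    apply Subtype.ext
    simp
  have hkt : (k : ℂ) * (O.card : ℂ) = (Nat.card G : ℂ) := by exact_mod_cast hktN
  have hC0 : ∀ n : N, (Nat.card (Subgroup.centralizer ({(n : G)} : Set G)) : ℂ) ≠ 0 := by
    intro n
    exact_mod_cast Nat.card_pos.ne'
  have hind : ∀ n : N, Cfsg.inducedCentralChar N θ (n : G)
      = (k : ℂ) * S n / ((Nat.card (Subgroup.centralizer ({(n : G)} : Set G)) : ℂ) * θ 1) := by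
    intro n
    unfold Cfsg.inducedCentralChar
    have hset : {h : N | IsConj (n : G) (h : G)}
        = ↑(Finset.univ.filter (fun h : N => IsConj (n : G) (h : G))) := by
      ext h
      simp
    rw [hset, finsum_mem_coe_finset, ← Finset.sum_div]
    have h2 : (Nat.card (Subgroup.centralizer ({(n : G)} : Set G)) : ℂ)
        * ∑ h ∈ Finset.univ.filter (fun h : N => IsConj (n : G) (h : G)), θ h
        = ∑ x : G, conjFn N θ x n := by
      have h3 : ∀ x : G, conjFn N θ x n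
          = ∑ h : N, if x * (n : G) * x⁻¹ = (h : G) then θ h else 0 := by
        intro x
        rw [Finset.sum_eq_single ⟨x * n * x⁻¹, ‹N.Normal›.conj_mem n n.2 x⟩]
        · rw [if_pos rfl, conjFn_apply]
        · intro h _ hne
          rw [if_neg]
          intro heq
          apply hne
          exact Subtype.ext heq.symm
        · intro h
          exact absurd (Finset.mem_univ _) h
      rw [Finset.sum_congr rfl (fun x _ => h3 x), Finset.sum_comm]
      have h4 : ∀ h : N, ∑ x : G, (if x * (n : G) * x⁻¹ = (h : G) then θ h else 0)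
          = θ h * (if IsConj (n : G) (h : G)
            then (Nat.card (Subgroup.centralizer ({(n : G)} : Set G)) : ℂ) else 0) := by
        intro h
        have h5 := Cfsg.Agent.S4866.sum_conj_indicator (n : G) (h : G)
        have h6 : ∑ x : G, (if x * (n : G) * x⁻¹ = (h : G) then θ h else 0)
            = θ h * ∑ x : G, (if x * (n : G) * x⁻¹ = (h : G) then (1 : ℂ) else 0) := by
          rw [Finset.mul_sum]
          refine Finset.sum_congr rfl fun x _ => ?_
          split_ifs <;> simp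
        rw [h6, h5]
      rw [Finset.sum_congr rfl (fun h _ => h4 h), Finset.mul_sum, Finset.sum_filter]
      refine Finset.sum_congr rfl fun h _ => ?_
      split_ifs <;> ring
    rw [hsum1] at h2
    rw [← h2]
    have := hC0 n
    field_simp
  have hcent : ∀ n : N, Cfsg.centralChar χ (n : G)
      = (Nat.card G : ℂ) * χ n
        / ((Nat.card (Subgroup.centralizer ({(n : G)} : Set G)) : ℂ) * χ 1) := by
    intro n
    unfold Cfsg.centralChar
    have h1 := Subgroup.card_mul_index (Subgroup.centralizer ({(n : G)} : Set G))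
    have h2 : (Nat.card (Subgroup.centralizer ({(n : G)} : Set G)) : ℂ)
        * ((Subgroup.centralizer ({(n : G)} : Set G)).index : ℂ) = (Nat.card G : ℂ) := by
      exact_mod_cast h1
    rw [← h2]
    have := hC0 n
    field_simp
  have hO0 : (O.card : ℂ) ≠ 0 := by
    have : 0 < O.card := Finset.card_pos.mpr ⟨θ, hθO⟩
    exact_mod_cast this.ne'
  have hk0 : (k : ℂ) ≠ 0 := by
    intro h0
    rw [h0, zero_mul] at hkt
    exact card_ne_zero_complex hkt.symm
  constructor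
  · intro hc n
    have hcl := hcliff χ hχ hc
    have hn := congrFun hcl n
    have h1 := congrFun hcl 1
    simp only [Pi.smul_apply, smul_eq_mul] at hn h1
    rw [Subgroup.coe_one] at h1
    rw [hcent, hind, hn, h1, hS1, ← hkt]
    have := hC0 n
    field_simp
  · intro hall
    have hval : ∀ n : N, χ n = (χ 1 * (k : ℂ) / ((Nat.card G : ℂ) * θ 1)) * S n := by
      intro n
      have h1 := hall n
      rw [hcent, hind] at h1
      have hG0 : (Nat.card G : ℂ) ≠ 0 := card_ne_zero_complex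
      have := hC0 n
      field_simp at h1 ⊢
      linear_combination h1
    have hSθ : classInner S θ = 1 := by
      rw [hS, classInner_sum_left, Finset.sum_eq_single θ]
      · exact classInner_irr_self hθ
      · intro ψ hψ hne
        obtain ⟨g, rfl⟩ := hOconj ψ hψ
        exact classInner_irr_of_ne (IsIrrCharacter.conjFn hθ g) hθ hne
      · intro h
        exact absurd hθO h
    have hfun : (fun n : N => χ n) = (χ 1 * (k : ℂ) / ((Nat.card G : ℂ) * θ 1)) • S := by
      funext n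
      rw [Pi.smul_apply, smul_eq_mul]
      exact hval n
    rw [hfun, classInner_smul_left, hSθ, mul_one]
    have hG0 : (Nat.card G : ℂ) ≠ 0 := card_ne_zero_complex
    exact div_ne_zero (mul_ne_zero hχ10 hk0) (mul_ne_zero hG0 hθ10)

end Cfsg.Agent.S0963
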