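import Cfsg.Statements.S0967
import Cfsg.Agent.Lib.Helper2_ClassFn
import Cfsg.Agent.Lib.Helper2_CharBasic
import Cfsg.Agent.Lib.Helper2_CharOrtho
import Cfsg.Agent.Lib.Helper2_Clifford
import Cfsg.Agent.Lib.Helper2_CharMore
import Cfsg.Agent.Lib.Helper2_CharNorm
import Cfsg.Agent.Lib.Helper2_CharValues
import Cfsg.Agent.Lib.Helper2_CharComplete
import Cfsg.Agent.Lib.Helper2_CharInd
import Cfsg.Agent.Lib.Helper2_CharTable
import Cfsg.Agent.Lib.Helper2_CharFrob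
import Cfsg.Agent.Lib.Helper2_CharDeg
import Cfsg.Agent.Lib.Helper2_CharSum
import Cfsg.Agent.Lib.Helper2_CharExtra
import Cfsg.Agent.Lib.Helper2_CharCentral
import Cfsg.Agent.Lib.Helper2_PermChar
import Cfsg.Agent.Lib.Helper2_FrobSchur
import Cfsg.Agent.Lib.Helper2_CliffordCorr
import Cfsg.Agent.Lib.Helper2_CharKernel
import Cfsg.Agent.Lib.Helper2_CyclicTI
import Cfsg.Agent.Lib.Helper2_CharGalois
import Cfsg.Agent.Lib.Helper2_CharInt
import Cfsg.Agent.Lib.Helper2_CharBurnside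
import Cfsg.Agent.Lib.Helper2_CharCenter
import Cfsg.Agent.Lib.Helper2_Ito
import Cfsg.Agent.Lib.Helper2_Gallagher
import Cfsg.Agent.Lib.Helper2_Artin
import Cfsg.Agent.Lib.Helper2_MGroup
import Cfsg.Agent.Lib.Helper2_RepEquiv
import Cfsg.Agent.Lib.Helper2_CyclicExt
import Cfsg.Agent.Lib.Helper2_Extraspecial
import Cfsg.Agent.Lib.Helper2_ProjLift
import Cfsg.Agent.Lib.Helper2_CentralExt
import Cfsg.Agent.Lib.Helper2_SylowExt
import Cfsg.Agent.Lib.Helper2_DetChar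
import Cfsg.Agent.Lib.Helper2_LinExt
import Cfsg.Agent.Lib.Helper2_DetExt
import Cfsg.Agent.Lib.Helper2_GallagherExt
import Cfsg.Agent.Lib.Helper2_PermInd
import Cfsg.Agent.Lib.Helper2_QuasiElem
import Cfsg.Agent.Lib.Helper2_BrauerInd
import Cfsg.Agent.Lib.Helper2_BrauerThm
import Cfsg.Agent.Lib.Helper2_NilDecomp
import Cfsg.Agent.Lib.Helper2_DefectZero
import Cfsg.Agent.Lib.Helper2_CharGalois2
import Cfsg.Agent.Lib.Helper2_CosetAvg
import Cfsg.Agent.Lib.Helper2_Thompson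
import Cfsg.Agent.Lib.Helper2_ItoSolv
import Cfsg.Agent.Lib.Helper2_ItoPSolv
import Cfsg.Agent.Lib.Helper2_GaloisConj
import Cfsg.Agent.Lib.Helper2_AbelInertia
import Cfsg.Agent.Lib.Helper2_Gagola
import Cfsg.Agent.Lib.Helper2_GoingDown
import Cfsg.Agent.Lib.Helper2_RelMGroup
import Cfsg.Agent.Lib.Helper2_Gagola2
import Cfsg.Agent.Lib.Helper2_Gagola3
import Cfsg.Agent.Lib.Helper2_Dade
import Cfsg.Agent.Lib.Helper2_PiSection
import Cfsg.Agent.Lib.Helper2_ModM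
import Cfsg.Agent.Lib.Helper2_HallCompl
import Cfsg.Agent.Lib.Helper2_PRegular
import Cfsg.Agent.Lib.Helper2_SelfCent
import Cfsg.Agent.Lib.Helper2_Blocks
import Cfsg.Agent.Lib.Helper2_BlockOrtho
import Cfsg.Agent.Lib.Helper2_BlockRank
import Cfsg.Agent.Lib.Helper2_BlockMore
import Cfsg.Agent.Lib.Helper2_BlockNormal
import Cfsg.Agent.Lib.Helper2_BlockKer
import Cfsg.Agent.Lib.Helper2_BlockIndep
import Cfsg.Agent.Lib.Helper2_DefectGroup
import Cfsg.Agent.Lib.Helper2_DefectPCore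
import Cfsg.Agent.Lib.Helper2_MinMax
import Cfsg.Agent.Lib.Helper2_InducedBlock
import Cfsg.Agent.Lib.Helper2_BrauerMap
import Cfsg.Agent.Lib.Helper2_InducedDefect
import Cfsg.Agent.Lib.Helper2_BrauerFirst
import Cfsg.Agent.Lib.Helper2_BlockCover
import Cfsg.Agent.S4567

set_option autoImplicit false
open Cfsg

namespace Cfsg.Agent.S0967

open Cfsg.Agent.Lib.Helper2_ClassFn Cfsg.Agent.Lib.Helper2_CharBasic Cfsg.Agent.Lib.Helper2_CharOrtho Cfsg.Agent.Lib.Helper2_Clifford Cfsg.Agent.Lib.Helper2_CharMore Cfsg.Agent.Lib.Helper2_CharNorm Cfsg.Agent.Lib.Helper2_CharValues Cfsg.Agent.Lib.Helper2_CharComplete Cfsg.Agent.Lib.Helper2_CharInd Cfsg.Agent.Lib.Helper2_CharTable Cfsg.Agent.Lib.Helper2_CharFrob Cfsg.Agent.Lib.Helper2_CharDeg Cfsg.Agent.Lib.Helper2_CharSum Cfsg.Agent.Lib.Helper2_CharExtra Cfsg.Agent.Lib.Helper2_CharCentral Cfsg.Agent.Lib.Helper2_PermChar Cfsg.Agent.Lib.Helper2_FrobSchur Cfsg.Agent.Lib.Helper2_CliffordCorr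 Cfsg.Agent.Lib.Helper2_CharKernel Cfsg.Agent.Lib.Helper2_CyclicTI Cfsg.Agent.Lib.Helper2_CharGalois Cfsg.Agent.Lib.Helper2_CharInt Cfsg.Agent.Lib.Helper2_CharBurnside Cfsg.Agent.Lib.Helper2_CharCenter Cfsg.Agent.Lib.Helper2_Ito Cfsg.Agent.Lib.Helper2_Gallagher Cfsg.Agent.Lib.Helper2_Artin Cfsg.Agent.Lib.Helper2_MGroup Cfsg.Agent.Lib.Helper2_RepEquiv Cfsg.Agent.Lib.Helper2_CyclicExt Cfsg.Agent.Lib.Helper2_Extraspecial Cfsg.Agent.Lib.Helper2_ProjLift Cfsg.Agent.Lib.Helper2_CentralExt Cfsg.Agent.Lib.Helper2_SylowExt Cfsg.Agent.Lib.Helper2_DetChar Cfsg.Agent.Lib.Helper2_LinExt Cfsg.Agent.Lib.Helper2_DetExt Cfsg.Agent.Lib.Helper2_GallagherExt Cfsg.Agent.Lib.Helper2_PermInd Cfsg.Agent.Lib.Helper2_QuasiElem Cfsg.Agent.Lib.Helper2_BrauerInd Cfsg.Agent.Lib.Helper2_BrauerThm Cfsg.Agent.Lib.Helper2_NilDecomp Cfsg.Agent.Lib.Helper2_DefectZero Cfsg.Agent.Lib.Helper2_CharGalois2 Cfsg.Agent.Lib.Helper2_CosetAvg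 Cfsg.Agent.Lib.Helper2_Thompson Cfsg.Agent.Lib.Helper2_ItoSolv Cfsg.Agent.Lib.Helper2_ItoPSolv Cfsg.Agent.Lib.Helper2_GaloisConj Cfsg.Agent.Lib.Helper2_AbelInertia Cfsg.Agent.Lib.Helper2_Gagola Cfsg.Agent.Lib.Helper2_GoingDown Cfsg.Agent.Lib.Helper2_RelMGroup Cfsg.Agent.Lib.Helper2_Gagola2 Cfsg.Agent.Lib.Helper2_Gagola3 Cfsg.Agent.Lib.Helper2_Dade Cfsg.Agent.Lib.Helper2_PiSection Cfsg.Agent.Lib.Helper2_ModM Cfsg.Agent.Lib.Helper2_HallCompl Cfsg.Agent.Lib.Helper2_PRegular Cfsg.Agent.Lib.Helper2_SelfCent Cfsg.Agent.Lib.Helper2_Blocks Cfsg.Agent.Lib.Helper2_BlockOrtho Cfsg.Agent.Lib.Helper2_BlockRank Cfsg.Agent.Lib.Helper2_BlockMore Cfsg.Agent.Lib.Helper2_BlockNormal Cfsg.Agent.Lib.Helper2_BlockKer Cfsg.Agent.Lib.Helper2_BlockIndep Cfsg.Agent.Lib.Helper2_DefectGroup Cfsg.Agent.Lib.Helper2_DefectPCore Cfsg.Agent.Lib.Helper2_MinMax Cfsg.Agent.Lib.Helper2_InducedBlock Cfsg.Agent.Lib.Helper2_BrauerMap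 Cfsg.Agent.Lib.Helper2_InducedDefect Cfsg.Agent.Lib.Helper2_BrauerFirst Cfsg.Agent.Lib.Helper2_BlockCover
open scoped Pointwise
open Cfsg

theorem om_inflate {G : Type*} [Group G] [Fintype G] (N : Subgroup G) [N.Normal]
    [Fintype (G ⧸ N)] [DecidableEq (G ⧸ N)]
    (χ : G ⧸ N → ℂ) (hχ : IsClassFunction (G ⧸ N) χ) (q : G ⧸ N) :
    om (χ ∘ (QuotientGroup.mk : G → G ⧸ N))
      (fun g => (if IsConj ((g : G ⧸ N)) q then (1 : ℂ) else 0) / (Nat.card N : ℂ))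
      = centralChar χ q := by
  classical
  unfold om centralChar
  have h1 : (χ ∘ (QuotientGroup.mk : G → G ⧸ N)) 1 = χ 1 := by
    simp only [Function.comp, QuotientGroup.mk_one]
  rw [h1]
  congr 1
  have h2 := Cfsg.Agent.S4567.sum_comp_mk N
    (fun q' : G ⧸ N => (if IsConj q' q then (1 : ℂ) else 0) / (Nat.card N : ℂ) * χ q')
  simp only [Function.comp]
  rw [h2]
  have hN0 : (Nat.card N : ℂ) ≠ 0 := by
    have : 0 < Nat.card N := Nat.card_pos
    exact_mod_cast this.ne'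
  rw [Finset.mul_sum]
  have h3 : ∀ q' : G ⧸ N, (Nat.card N : ℂ) *
      ((if IsConj q' q then (1 : ℂ) else 0) / (Nat.card N : ℂ) * χ q')
      = if IsConj q' q then χ q else 0 := by
    intro q'
    by_cases h : IsConj q' q
    · rw [if_pos h, if_pos h]
      obtain ⟨c, hc⟩ := isConj_iff.mp h
      rw [← hc, hχ]
      field_simp
    · rw [if_neg h, if_neg h]
      simp
  rw [Finset.sum_congr rfl (fun q' _ => h3 q'), ← Finset.sum_filter, Finset.sum_const,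
    nsmul_eq_mul, index_centralizer_eq]
  congr!


/-- Let N be a normal subgroup of the finite group G of order prime to p and fix a maximal ideal M of the algebraic integers containing p. If χ is an irreducible character of G ⧸ N and ψ lies in the block of its inflation χ ∘ (quotient map), then ψ is itself inflated from an irreducible character ψ' of G ⧸ N lying in the block of χ. (Over a normal p'-subgroup, blocks of the quotient are whole blocks of G.) -/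
theorem result {G : Type*} [Group G] [Finite G] (p : ℕ) [Fact p.Prime] (M : Ideal Cfsg.AlgInt) (hM : Cfsg.IsPModular p M) (N : Subgroup G) [N.Normal] (hN : ¬ p ∣ Nat.card N) (χ : Cfsg.IrrCharacter (G ⧸ N)) (ψ : Cfsg.IrrCharacter G) (hψ : ψ ∈ Cfsg.blockOf M ((χ : G ⧸ N → ℂ) ∘ QuotientGroup.mk)) : ∃ ψ' : Cfsg.IrrCharacter (G ⧸ N), (ψ : G → ℂ) = (ψ' : G ⧸ N → ℂ) ∘ QuotientGroup.mk ∧ Cfsg.SameBlock M (χ : G ⧸ N → ℂ) (ψ' : G ⧸ N → ℂ) := by
  classical
  haveI : Fintype G := Fintype.ofFinite G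
  haveI : Fintype (G ⧸ N) := Fintype.ofFinite _
  have hp := hM.1
  have hMmax := hM.2.1
  have hχinf : IsIrrCharacter G ((χ : G ⧸ N → ℂ) ∘ (QuotientGroup.mk : G → G ⧸ N)) :=
    IsIrrCharacter.comp_surjective χ.2 (QuotientGroup.mk' N) (QuotientGroup.mk'_surjective N)
  have hSame : SameBlock M ((χ : G ⧸ N → ℂ) ∘ (QuotientGroup.mk : G → G ⧸ N)) (ψ : G → ℂ) := hψ
  have hker : ∀ n ∈ N, ((χ : G ⧸ N → ℂ) ∘ (QuotientGroup.mk : G → G ⧸ N)) n
      = ((χ : G ⧸ N → ℂ) ∘ (QuotientGroup.mk : G → G ⧸ N)) 1 := by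
    intro n hn
    simp only [Function.comp]
    rw [(QuotientGroup.eq_one_iff n).mpr hn, QuotientGroup.mk_one]
  have hcop : (Nat.card N).Coprime p :=
    Nat.Coprime.symm ((Nat.Prime.coprime_iff_not_dvd hp).mpr hN)
  have hψker := trivial_on_of_sameBlock hM N hcop hχinf ψ.2 hSame hker
  obtain ⟨ψ', hψ'irr, hψ'⟩ := IsIrrCharacter.deflate ψ.2 N hψker
  have hψeq : (ψ : G → ℂ) = ψ' ∘ (QuotientGroup.mk : G → G ⧸ N) :=
    funext fun g => (hψ' g).symm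
  refine ⟨⟨ψ', hψ'irr⟩, hψeq, ?_⟩
  intro q
  have hzcf : IsClassFunction G
      (fun g : G => (if IsConj ((g : G ⧸ N)) q then (1 : ℂ) else 0) / (Nat.card N : ℂ)) := by
    intro g h
    simp only
    have : IsConj ((h * g * h⁻¹ : G) : G ⧸ N) q ↔ IsConj ((g : G ⧸ N)) q := by
      have hc : IsConj ((g : G ⧸ N)) ((h * g * h⁻¹ : G) : G ⧸ N) :=
        isConj_iff.mpr ⟨(h : G ⧸ N), by simp⟩
      exact ⟨fun h1 => hc.trans h1, fun h1 => hc.symm.trans h1⟩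
    rw [if_congr this rfl rfl]
  have hzR : ∀ g : G, MemLocalRing M
      ((if IsConj ((g : G ⧸ N)) q then (1 : ℂ) else 0) / (Nat.card N : ℂ)) := by
    intro g
    rw [div_eq_mul_inv]
    refine memLocalRing_mul hMmax ?_ (memLocalRing_natCast_inv hM _ hcop)
    split_ifs
    · exact memLocalRing_one hMmax
    · exact memLocalRing_zero hMmax
  have key := om_sub_mem hMmax (IsCharacter.isClassFunction (IsIrrCharacter.isCharacter hχinf))
    (IsCharacter.isClassFunction (IsIrrCharacter.isCharacter ψ.2))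
    hSame hzcf hzR
  rw [om_inflate N _ (IsCharacter.isClassFunction (IsIrrCharacter.isCharacter χ.2)) q] at key
  rw [hψeq, om_inflate N _ (IsCharacter.isClassFunction (IsIrrCharacter.isCharacter hψ'irr)) q] at key
  exact key

end Cfsg.Agent.S0967
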