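import Cfsg.Statements.S0985
import Mathlib

set_option autoImplicit false
open Cfsg

namespace Cfsg.Agent.S0985

/-- If a group acts on a finite set with a fixed point `x₀` and every other orbit has size
divisible by `n`, then the size of the set is `1` modulo `n`. -/
theorem card_modEq_one_of_orbits {P α : Type*} [Group P] [MulAction P α] [Finite α] (n : ℕ)
    (x₀ : α) (hfix : ∀ g : P, g • x₀ = x₀)
    (h : ∀ x : α, x ≠ x₀ → n ∣ Nat.card (MulAction.orbit P x)) : Nat.card α ≡ 1 [MOD n] := by
  classical
  have : Fintype (MulAction.orbitRel.Quotient P α) := Fintype.ofFinite _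
  have e := MulAction.selfEquivSigmaOrbits' P α
  rw [Nat.card_congr e, Nat.card_sigma]
  set ω₀ : MulAction.orbitRel.Quotient P α := Quotient.mk'' x₀ with hω₀
  rw [← Finset.add_sum_erase _ _ (Finset.mem_univ ω₀)]
  have h0 : Nat.card ω₀.orbit = 1 := by
    rw [hω₀, MulAction.orbitRel.Quotient.orbit_mk]
    have : MulAction.orbit P x₀ = {x₀} := by
      ext y
      constructor
      · rintro ⟨g, rfl⟩
        exact hfix g
      · rintro rfl
        exact MulAction.mem_orbit_self _
    rw [this]
    simp
  have h1 : n ∣ ∑ ω ∈ (Finset.univ.erase ω₀), Nat.card ω.orbit := by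
    apply Finset.dvd_sum
    intro ω hω
    have hne : ω ≠ ω₀ := (Finset.mem_erase.mp hω).1
    induction ω using Quotient.inductionOn' with
    | h x =>
      have hx : x ≠ x₀ := by
        rintro rfl
        exact hne rfl
      have := h x hx
      rwa [← MulAction.orbitRel.Quotient.orbit_mk] at this
  rw [h0]
  exact (Nat.modEq_zero_iff_dvd.mpr h1).add_left 1

/-- If the number of Sylow p-subgroups of a finite group is not congruent to 1 modulo p^k, then there are two distinct Sylow p-subgroups P and R such that the index of P ∩ R in P is at most p^(k-1). -/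
theorem result {G : Type*} [Group G] [Finite G] (p k : ℕ) [Fact p.Prime] (h : ¬ Nat.card (Sylow p G) ≡ 1 [MOD p ^ k]) : ∃ P R : Sylow p G, P ≠ R ∧ ((R : Subgroup G).subgroupOf (P : Subgroup G)).index ≤ p ^ (k - 1) := by
  have hp := (Fact.out : p.Prime)
  obtain ⟨P⟩ : Nonempty (Sylow p G) := Sylow.nonempty
  by_contra hcon
  push Not at hcon
  apply h
  rcases Nat.eq_zero_or_pos k with hk | hk
  · subst hk
    rw [pow_zero]
    exact Nat.modEq_one
  refine card_modEq_one_of_orbits (P := (P : Subgroup G)) (p ^ k) P ?_ ?_
  · intro g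
    rw [Subgroup.smul_def, Sylow.smul_eq_iff_mem_normalizer]
    exact Subgroup.le_normalizer g.2
  · intro R hR
    have hidx : Nat.card (MulAction.orbit (P : Subgroup G) R) =
        ((R : Subgroup G).subgroupOf (P : Subgroup G)).index := by
      rw [Nat.card_coe_set_eq, ← MulAction.index_stabilizer]
      congr 1
      have h1 : MulAction.stabilizer (P : Subgroup G) R =
          (Subgroup.normalizer (R : Set G)).subgroupOf (P : Subgroup G) := by
        ext g
        rw [MulAction.mem_stabilizer_iff, Subgroup.smul_def, Sylow.smul_eq_iff_mem_normalizer,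
          Subgroup.mem_subgroupOf]
      rw [h1, ← Subgroup.inf_subgroupOf_left, P.2.inf_normalizer_sylow R,
        Subgroup.inf_subgroupOf_left]
    rw [hidx]
    have hlt := hcon P R hR.symm
    obtain ⟨n, hn⟩ := P.2.index ((R : Subgroup G).subgroupOf (P : Subgroup G))
    rw [hn] at hlt ⊢
    have hkn : k - 1 < n := (Nat.pow_lt_pow_iff_right hp.one_lt).mp hlt
    exact pow_dvd_pow p (by omega)

end Cfsg.Agent.S0985
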