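import Mathlib
import Cfsg.Statements.S0986
import Cfsg.Agent.Lib.Helper7_Basic
import Cfsg.Agent.Lib.Helper5_Sylow

set_option autoImplicit false
open Cfsg

namespace Cfsg.Agent.S0986

open Subgroup
open scoped Pointwise
open Cfsg.Agent.Lib.Helper7_Basic

variable {G : Type*} [Group G] [Finite G]

/-- a normal `p`-subgroup lies in every Sylow `p`-subgroup -/
theorem normal_le_sylow {p : ℕ} [Fact p.Prime] (D : Subgroup G) [hn : D.Normal] (hD : IsPGroup p D)
    (S : Sylow p G) : D ≤ S := by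
  obtain ⟨S₀, hS₀⟩ := hD.exists_le_sylow
  obtain ⟨g, hg⟩ := MulAction.exists_smul_eq G S₀ S
  intro x hx
  have h1 : g⁻¹ * x * g ∈ D := by
    have := hn.conj_mem x hx g⁻¹
    simpa using this
  have h2 : x ∈ g • S₀ := (mem_smul_sylow g x S₀).mpr (hS₀ h1)
  rw [hg] at h2
  exact h2

/-- a `p`-subgroup is no bigger than a Sylow `p`-subgroup -/
theorem card_le_sylow {p : ℕ} [Fact p.Prime] (R : Subgroup G) (hR : IsPGroup p R) (S : Sylow p G) :
    Nat.card R ≤ Nat.card (S : Subgroup G) := by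
  obtain ⟨S₁, hS₁⟩ := hR.exists_le_sylow
  calc Nat.card R ≤ Nat.card (S₁ : Subgroup G) := Subgroup.card_le_of_le hS₁
    _ = Nat.card (S : Subgroup G) := by
      rw [Sylow.card_eq_multiplicity, Sylow.card_eq_multiplicity]

theorem main (p : ℕ) [Fact p.Prime] (P Q : Sylow p G) (hPQ : P ≠ Q) (D : Subgroup G)
    (hD : D = (P : Subgroup G) ⊓ (Q : Subgroup G))
    (hmax : ∀ P' Q' : Sylow p G, P' ≠ Q' →
      Nat.card ↥((P' : Subgroup G) ⊓ (Q' : Subgroup G)) ≤ Nat.card D)
    (N : Subgroup G) (hN : N = normalizer (D : Set G)) :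
    1 < Nat.card (Sylow p ↥N) ∧
    (∀ S T : Sylow p ↥N, S ≠ T → (S : Subgroup ↥N) ⊓ (T : Subgroup ↥N) = D.subgroupOf N) ∧
    ∀ S : Sylow p ↥N, ∃! T : Sylow p G, (S : Subgroup ↥N).map N.subtype ≤ (T : Subgroup G) := by
  have hDP : D ≤ P := by rw [hD]; exact inf_le_left
  have hDQ : D ≤ Q := by rw [hD]; exact inf_le_right
  have hDp : IsPGroup p D := P.isPGroup'.to_le hDP
  have hDN : D ≤ N := by rw [hN]; exact le_normalizer
  have hDneP : D ≠ P := by
    intro h
    apply hPQ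
    have hle : (P : Subgroup G) ≤ Q := by rw [← h]; exact hDQ
    exact Sylow.ext (P.is_maximal' Q.isPGroup' hle).symm
  have hDneQ : D ≠ Q := by
    intro h
    apply hPQ
    have hle : (Q : Subgroup G) ≤ P := by rw [← h]; exact hDP
    exact Sylow.ext (Q.is_maximal' P.isPGroup' hle)
  have hltP : D < (P : Subgroup G) ⊓ N := by
    rw [hN]
    exact Cfsg.Agent.Lib.Helper5_Sylow.lt_inf_normalizer P.isPGroup' (lt_of_le_of_ne hDP hDneP)
  have hltQ : D < (Q : Subgroup G) ⊓ N := by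
    rw [hN]
    exact Cfsg.Agent.Lib.Helper5_Sylow.lt_inf_normalizer Q.isPGroup' (lt_of_le_of_ne hDQ hDneQ)
  haveI hDn : (D.subgroupOf N).Normal := by
    rw [hN]; infer_instance
  have hDS : ∀ S : Sylow p ↥N, D.subgroupOf N ≤ S := fun S =>
    normal_le_sylow (D.subgroupOf N) hDp.comap_subtype S
  have hcardD : Nat.card (D.subgroupOf N) = Nat.card D :=
    Nat.card_congr (Subgroup.subgroupOfEquivOfLe hDN).toEquiv
  -- every Sylow subgroup of `N` is bigger than `D`
  have hbig : ∀ S : Sylow p ↥N, Nat.card D < Nat.card ((S : Subgroup ↥N).map N.subtype) := by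
    intro S
    rw [Subgroup.card_map_of_injective (Subgroup.subtype_injective N)]
    have h1 : Nat.card (((P : Subgroup G) ⊓ N).subgroupOf N) ≤ Nat.card (S : Subgroup ↥N) :=
      card_le_sylow _ ((P.isPGroup'.to_le inf_le_left).comap_subtype) S
    have h2 : Nat.card (((P : Subgroup G) ⊓ N).subgroupOf N) = Nat.card ↥((P : Subgroup G) ⊓ N) :=
      Nat.card_congr (Subgroup.subgroupOfEquivOfLe inf_le_right).toEquiv
    have h3 := Cfsg.Agent.Lib.Helper5_Sylow.card_lt_of_lt hltP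
    omega
  -- a Sylow subgroup of `N` lies in at most one Sylow subgroup of `G`
  have huniq : ∀ (S : Sylow p ↥N) (T₁ T₂ : Sylow p G),
      (S : Subgroup ↥N).map N.subtype ≤ T₁ → (S : Subgroup ↥N).map N.subtype ≤ T₂ → T₁ = T₂ := by
    intro S T₁ T₂ h1 h2
    by_contra hne
    have h3 := hmax T₁ T₂ hne
    have h4 := Subgroup.card_le_of_le (le_inf h1 h2)
    have h5 := hbig S
    omega
  -- if `R ≤ N` is a `p`-subgroup in a Sylow subgroup `T` of `G` bigger than `D`...
  have hkey : ∀ (T : Sylow p G) (P' : Sylow p G), D < (P' : Subgroup G) ⊓ N →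
      (P' : Subgroup G) ⊓ N ≤ T → T = P' := by
    intro T P' hlt hle
    by_contra hne
    have h3 := hmax T P' hne
    have h4 : (P' : Subgroup G) ⊓ N ≤ (T : Subgroup G) ⊓ (P' : Subgroup G) := le_inf hle inf_le_left
    have h5 := Subgroup.card_le_of_le h4
    have h6 := Cfsg.Agent.Lib.Helper5_Sylow.card_lt_of_lt hlt
    omega
  refine ⟨?_, ?_, ?_⟩
  · -- more than one Sylow subgroup
    obtain ⟨S₁, hS₁⟩ := ((P.isPGroup'.to_le (inf_le_left : (P : Subgroup G) ⊓ N ≤ P)).comap_subtype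
      (K := N)).exists_le_sylow
    obtain ⟨S₂, hS₂⟩ := ((Q.isPGroup'.to_le (inf_le_left : (Q : Subgroup G) ⊓ N ≤ Q)).comap_subtype
      (K := N)).exists_le_sylow
    rw [Finite.one_lt_card_iff_nontrivial]
    refine ⟨⟨S₁, S₂, ?_⟩⟩
    intro h12
    obtain ⟨T₀, hT₀⟩ := (S₁.isPGroup'.map N.subtype).exists_le_sylow
    have hP' : (P : Subgroup G) ⊓ N ≤ T₀ := by
      intro x hx
      apply hT₀
      exact ⟨⟨x, hx.2⟩, hS₁ (mem_subgroupOf.mpr hx), rfl⟩
    have hQ' : (Q : Subgroup G) ⊓ N ≤ T₀ := by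
      intro x hx
      apply hT₀
      rw [h12]
      exact ⟨⟨x, hx.2⟩, hS₂ (mem_subgroupOf.mpr hx), rfl⟩
    have e1 := hkey T₀ P hltP hP'
    have e2 := hkey T₀ Q hltQ hQ'
    exact hPQ (e1.symm.trans e2)
  · intro S T hST
    apply le_antisymm
    · -- `S ⊓ T ≤ D`
      obtain ⟨T₁, hT₁⟩ := (S.isPGroup'.map N.subtype).exists_le_sylow
      obtain ⟨T₂, hT₂⟩ := (T.isPGroup'.map N.subtype).exists_le_sylow
      have hne : T₁ ≠ T₂ := by
        intro h12
        apply hST
        -- both equal `(T₁ ⊓ N).subgroupOf N`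
        have hp : IsPGroup p (((T₁ : Subgroup G) ⊓ N).subgroupOf N) :=
          (T₁.isPGroup'.to_le inf_le_left).comap_subtype
        have hS' : (S : Subgroup ↥N) ≤ ((T₁ : Subgroup G) ⊓ N).subgroupOf N := by
          intro x hx
          rw [mem_subgroupOf]
          exact Subgroup.mem_inf.mpr ⟨hT₁ ⟨x, hx, rfl⟩, x.2⟩
        have hT' : (T : Subgroup ↥N) ≤ ((T₁ : Subgroup G) ⊓ N).subgroupOf N := by
          intro x hx
          rw [mem_subgroupOf]
          refine Subgroup.mem_inf.mpr ⟨?_, x.2⟩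
          rw [h12]
          exact hT₂ ⟨x, hx, rfl⟩
        have e1 := S.is_maximal' hp hS'
        have e2 := T.is_maximal' hp hT'
        exact Sylow.ext (e1.symm.trans e2)
      have h3 := hmax T₁ T₂ hne
      have hle : ((S : Subgroup ↥N) ⊓ (T : Subgroup ↥N)).map N.subtype ≤
          (T₁ : Subgroup G) ⊓ (T₂ : Subgroup G) := by
        rintro _ ⟨x, hx, rfl⟩
        exact Subgroup.mem_inf.mpr ⟨hT₁ ⟨x, hx.1, rfl⟩, hT₂ ⟨x, hx.2, rfl⟩⟩
      have h4 := Subgroup.card_le_of_le hle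
      rw [Subgroup.card_map_of_injective (Subgroup.subtype_injective N)] at h4
      have h5 : D.subgroupOf N ≤ (S : Subgroup ↥N) ⊓ (T : Subgroup ↥N) := le_inf (hDS S) (hDS T)
      have h6 : D.subgroupOf N = (S : Subgroup ↥N) ⊓ (T : Subgroup ↥N) :=
        Subgroup.eq_of_le_of_card_ge h5 (by rw [hcardD]; omega)
      rw [h6]
    · exact le_inf (hDS S) (hDS T)
  · intro S
    obtain ⟨T, hT⟩ := (S.isPGroup'.map N.subtype).exists_le_sylow
    exact ⟨T, hT, fun T' hT' => huniq S T' T hT' hT⟩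

/-- Let P and Q be distinct Sylow p-subgroups of a finite group G chosen so that the order of P ∩ Q is as large as possible among intersections of two distinct Sylow p-subgroups, and let N be the normalizer of P ∩ Q. Then N has more than one Sylow p-subgroup, any two distinct Sylow p-subgroups of N intersect exactly in P ∩ Q, and each Sylow p-subgroup of N lies in exactly one Sylow p-subgroup of G. -/
theorem result {G : Type*} [Group G] [Finite G] (p : ℕ) [Fact p.Prime] (P Q : Sylow p G) (hPQ : P ≠ Q) (hmax : ∀ P' Q' : Sylow p G, P' ≠ Q' → Nat.card ↥((P' : Subgroup G) ⊓ (Q' : Subgroup G)) ≤ Nat.card ↥((P : Subgroup G) ⊓ (Q : Subgroup G))) : 1 < Nat.card (Sylow p ↥(Subgroup.normalizer (((P : Subgroup G) ⊓ (Q : Subgroup G) : Subgroup G) : Set G))) ∧ (∀ S T : Sylow p ↥(Subgroup.normalizer (((P : Subgroup G) ⊓ (Q : Subgroup G) : Subgroup G) : Set G)), S ≠ T → (S : Subgroup _) ⊓ (T : Subgroup _) = ((P : Subgroup G) ⊓ (Q : Subgroup G)).subgroupOf (Subgroup.normalizer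 (((P : Subgroup G) ⊓ (Q : Subgroup G) : Subgroup G) : Set G))) ∧ ∀ S : Sylow p ↥(Subgroup.normalizer (((P : Subgroup G) ⊓ (Q : Subgroup G) : Subgroup G) : Set G)), ∃! T : Sylow p G, (S : Subgroup _).map (Subgroup.normalizer (((P : Subgroup G) ⊓ (Q : Subgroup G) : Subgroup G) : Set G)).subtype ≤ (T : Subgroup G) := by
  exact main p P Q hPQ _ rfl hmax _ rfl

end Cfsg.Agent.S0986
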