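import Mathlib
import Cfsg.Statements.S0987
import Cfsg.Agent.Lib.Helper7_SmallSimple

set_option autoImplicit false
open Cfsg

namespace Cfsg.Agent.S0987

open Subgroup
open Cfsg.Agent.Lib.Helper7_SmallSimple

/-- If a finite group has order pqr for primes p < q < r, then its Sylow r-subgroups are normal. -/
theorem result {G : Type*} [Group G] [Finite G] (p q r : ℕ) (hp : p.Prime) (hq : q.Prime) [Fact r.Prime] (hpq : p < q) (hqr : q < r) (hG : Nat.card G = p * q * r) (R : Sylow r G) : (R : Subgroup G).Normal := by
  have hr : r.Prime := Fact.out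
  haveI : Fact q.Prime := ⟨hq⟩
  have hrp : ¬ r ∣ p := fun h => by
    have := (Nat.prime_dvd_prime_iff_eq hr hp).mp h; omega
  have hrq : ¬ r ∣ q := fun h => by
    have := (Nat.prime_dvd_prime_iff_eq hr hq).mp h; omega
  have hrpq : ¬ r ∣ p * q := fun h => by
    rcases (Nat.Prime.dvd_mul hr).mp h with h | h
    · exact hrp h
    · exact hrq h
  have hR : Nat.card (R : Subgroup G) = r := by
    have := card_sylow_eq R 1 (p * q) (by rw [hG]; ring) hrpq
    simpa using this
  have hidx : (R : Subgroup G).index = p * q := by
    have h2 : Nat.card (R : Subgroup G) * (R : Subgroup G).index = Nat.card G :=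
      Subgroup.card_mul_index _
    rw [hR, hG, mul_comm (p * q) r] at h2
    exact Nat.eq_of_mul_eq_mul_left hr.pos h2
  have hdvd : Nat.card (Sylow r G) ∣ p * q := by
    have h1 := Sylow.card_dvd_index R
    rwa [hidx] at h1
  have hmod : Nat.card (Sylow r G) ≡ 1 [MOD r] := card_sylow_modEq_one r G
  have hmod' : ∀ n : ℕ, 1 < n → n < r → ¬ n ≡ 1 [MOD r] := by
    intro n h1 h2 h
    unfold Nat.ModEq at h
    rw [Nat.mod_eq_of_lt h2, Nat.mod_eq_of_lt hr.one_lt] at h
    omega
  rcases dvd_prime_mul_prime hp hq hdvd with h | h | h | h
  · -- unique Sylow subgroup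
    have hn : (normalizer ((R : Subgroup G) : Set G)).index = 1 := by
      have := Sylow.card_eq_index_normalizer R
      rw [h] at this
      exact this.symm
    rw [← normalizer_eq_top_iff]
    exact Subgroup.index_eq_one.mp hn
  · exfalso; rw [h] at hmod; exact hmod' p hp.one_lt (by omega) hmod
  · exfalso; rw [h] at hmod; exact hmod' q hq.one_lt hqr hmod
  · exfalso
    -- `N(R) = R`
    have hN : Nat.card (normalizer ((R : Subgroup G) : Set G)) = r := by
      have := card_normalizer_mul R
      rw [h, hG, mul_comm (p * q) r] at this
      exact Nat.eq_of_mul_eq_mul_right (Nat.mul_pos hp.pos hq.pos) this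
    have hNR : normalizer ((R : Subgroup G) : Set G) = R := by
      symm
      apply Subgroup.eq_of_le_of_card_ge le_normalizer
      rw [hN, hR]
    haveI : IsCyclic (R : Subgroup G) := isCyclic_of_card_prime _ hR
    have hNC : normalizer ((R : Subgroup G) : Set G) ≤ centralizer ((R : Subgroup G) : Set G) := by
      rw [hNR]; exact Subgroup.le_centralizer _
    -- Burnside's normal complement
    have hc := MonoidHom.ker_transferSylow_isComplement' R hNC
    set K := (MonoidHom.transferSylow R hNC).ker with hK
    haveI hKn : K.Normal := MonoidHom.normal_ker _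
    have hKcard : Nat.card K = p * q := by
      have := hc.card_mul_card
      rw [hR, hG] at this
      exact Nat.eq_of_mul_eq_mul_right hr.pos this
    have hKidx : K.index = r := by
      have := Subgroup.card_mul_index K
      rw [hKcard, hG] at this
      exact Nat.eq_of_mul_eq_mul_left (Nat.mul_pos hp.pos hq.pos) this
    have hqp : ¬ q ∣ p := fun h => by
      have := (Nat.prime_dvd_prime_iff_eq hq hp).mp h; omega
    -- Sylow `q`-subgroups of `G` lie in `K`, and `K` has only one
    have hQK : ∀ Q : Sylow q G, (Q : Subgroup G) ≤ K := by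
      intro Q
      apply le_of_coprime_index
      have hQ : Nat.card (Q : Subgroup G) = q := by
        have hqpr : ¬ q ∣ p * r := fun h => by
          rcases (Nat.Prime.dvd_mul hq).mp h with h | h
          · exact hqp h
          · have := (Nat.prime_dvd_prime_iff_eq hq hr).mp h; omega
        have := card_sylow_eq Q 1 (p * r) (by rw [hG]; ring) hqpr
        simpa using this
      rw [hQ, hKidx]
      exact (Nat.coprime_primes hq hr).mpr (by omega)
    have hsub : Subsingleton (Sylow q K) := by
      obtain ⟨Q'⟩ : Nonempty (Sylow q K) := inferInstance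
      have hQ' : Nat.card (Q' : Subgroup K) = q := by
        have := card_sylow_eq Q' 1 p (by rw [hKcard]; ring) hqp
        simpa using this
      have hidx' : (Q' : Subgroup K).index = p := by
        have h2 := Subgroup.card_mul_index (Q' : Subgroup K)
        rw [hQ', hKcard, mul_comm p q] at h2
        exact Nat.eq_of_mul_eq_mul_left hq.pos h2
      have hd := Sylow.card_dvd_index Q'
      rw [hidx'] at hd
      have hm : Nat.card (Sylow q K) ≡ 1 [MOD q] := card_sylow_modEq_one q K
      have h1 : Nat.card (Sylow q K) = 1 := by
        rcases (Nat.dvd_prime hp).mp hd with h | h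
        · exact h
        · exfalso
          rw [h] at hm
          unfold Nat.ModEq at hm
          rw [Nat.mod_eq_of_lt hpq, Nat.mod_eq_of_lt hq.one_lt] at hm
          have := hp.one_lt
          omega
      exact (Nat.card_eq_one_iff_unique.mp h1).1
    haveI : Subsingleton (Sylow q G) := by
      constructor
      intro Q₁ Q₂
      have := Subsingleton.elim (Q₁.subtype (hQK Q₁)) (Q₂.subtype (hQK Q₂))
      exact Sylow.subtype_injective this
    obtain ⟨Q⟩ : Nonempty (Sylow q G) := inferInstance
    haveI hQn : (Q : Subgroup G).Normal := Sylow.normal_of_subsingleton Q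
    have hQ : Nat.card (Q : Subgroup G) = q := by
      have hqpr : ¬ q ∣ p * r := fun h => by
        rcases (Nat.Prime.dvd_mul hq).mp h with h | h
        · exact hqp h
        · have := (Nat.prime_dvd_prime_iff_eq hq hr).mp h; omega
      have := card_sylow_eq Q 1 (p * r) (by rw [hG]; ring) hqpr
      simpa using this
    haveI : IsCyclic (Q : Subgroup G) := isCyclic_of_card_prime _ hQ
    -- `R` centralizes `Q`
    have h1 := relIndex_dvd_totient (Q : Subgroup G)
    rw [hQ, Nat.totient_prime hq, normalizer_eq_top, relIndex_top_right] at h1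
    haveI : (centralizer ((Q : Subgroup G) : Set G)).Normal := inferInstance
    have hRC : (R : Subgroup G) ≤ centralizer ((Q : Subgroup G) : Set G) := by
      apply le_of_coprime_index
      rw [hR]
      have hpos : 0 < q - 1 := by have := hq.one_lt; omega
      have hle := Nat.le_of_dvd hpos h1
      have hipos : 0 < (centralizer ((Q : Subgroup G) : Set G)).index := Nat.pos_of_dvd_of_pos h1 hpos
      rw [Nat.Prime.coprime_iff_not_dvd hr]
      intro hd
      have := Nat.le_of_dvd hipos hd
      omega
    have hQC : (Q : Subgroup G) ≤ centralizer ((R : Subgroup G) : Set G) :=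
      Subgroup.le_centralizer_iff.mp hRC
    have hQN : (Q : Subgroup G) ≤ normalizer ((R : Subgroup G) : Set G) :=
      hQC.trans (centralizer_le_normalizer _)
    have := Subgroup.card_dvd_of_le hQN
    rw [hQ, hN] at this
    have := (Nat.prime_dvd_prime_iff_eq hq hr).mp this
    omega

end Cfsg.Agent.S0987
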