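import Mathlib
import Cfsg.Statements.S0988
import Cfsg.Agent.S0144
import Cfsg.Agent.Lib.Helper7_SmallSimple
import Cfsg.Agent.Lib.Helper7_SmallSimple2

set_option autoImplicit false
open Cfsg

namespace Cfsg.Agent.S0988

open Subgroup
open Cfsg.Agent.Lib.Helper7_SmallSimple
open Cfsg.Agent.Lib.Helper7_SmallSimple2

variable {G : Type*} [Group G] [Finite G]

/-- A simple group has no cyclic Sylow subgroup for the smallest prime divisor. -/
theorem not_isCyclic_minFac [IsSimpleGroup G] {s : ℕ} [Fact s.Prime]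
    (hs : (Nat.card G).minFac = s) (S : Sylow s G) (h1 : 1 < Nat.card (S : Subgroup G))
    (h2 : Nat.card (S : Subgroup G) < Nat.card G) : ¬ IsCyclic (S : Subgroup G) := by
  intro hc
  have := IsCyclic.normalizer_le_centralizer hs (P := S) hc
  exact not_normalizer_le_centralizer S h1 h2 this

/-- the last step: order `12 r` -/
theorem final [IsSimpleGroup G] (r : ℕ) (hr : r.Prime) (h5 : 5 ≤ r) (hG : Nat.card G = 12 * r) :
    Nat.card G = 60 := by
  haveI : Fact r.Prime := ⟨hr⟩
  obtain ⟨R⟩ : Nonempty (Sylow r G) := inferInstance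
  have hr12 : ¬ r ∣ 12 := by
    intro h
    have h12 : (12 : ℕ) = 2 ^ 2 * 3 := by norm_num
    rw [h12] at h
    rcases (Nat.Prime.dvd_mul hr).mp h with h | h
    · have := Nat.le_of_dvd (by norm_num) (hr.dvd_of_dvd_pow h); omega
    · have := Nat.le_of_dvd (by norm_num) h; omega
  have hR : Nat.card (R : Subgroup G) = r := by
    have := card_sylow_eq R 1 12 (by rw [hG]; ring) hr12
    simpa using this
  have hn1 : Nat.card (Sylow r G) ≠ 1 := card_sylow_ne_one R (by omega) (by rw [hR, hG]; omega)
  have hdvd : Nat.card (Sylow r G) ∣ 12 := by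
    have h1 := Sylow.card_dvd_index R
    have h2 : Nat.card (R : Subgroup G) * (R : Subgroup G).index = Nat.card G :=
      Subgroup.card_mul_index _
    rw [hR, hG, mul_comm 12 r] at h2
    have : (R : Subgroup G).index = 12 := Nat.eq_of_mul_eq_mul_left hr.pos h2
    rwa [this] at h1
  have hmod : Nat.card (Sylow r G) ≡ 1 [MOD r] := card_sylow_modEq_one r G
  have hpos : 0 < Nat.card (Sylow r G) := Nat.card_pos
  have hd : r ∣ Nat.card (Sylow r G) - 1 := (Nat.modEq_iff_dvd' hpos).mp hmod.symm
  have hle : Nat.card (Sylow r G) ≤ 12 := Nat.le_of_dvd (by norm_num) hdvd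
  have hcases : (Nat.card (Sylow r G) = 6 ∧ r = 5) ∨ (Nat.card (Sylow r G) = 12 ∧ r = 11) := by
    interval_cases hn : Nat.card (Sylow r G)
    · omega
    · have := Nat.le_of_dvd (by norm_num) hd; omega
    · have := Nat.le_of_dvd (by norm_num) hd; omega
    · have := Nat.le_of_dvd (by norm_num) hd; omega
    · exfalso; revert hdvd; decide
    · left
      have := Nat.le_of_dvd (by norm_num) hd
      exact ⟨rfl, by omega⟩
    · exfalso; revert hdvd; decide
    · exfalso; revert hdvd; decide
    · exfalso; revert hdvd; decide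
    · exfalso; revert hdvd; decide
    · exfalso; revert hdvd; decide
    · right
      have hle' := Nat.le_of_dvd (by norm_num) hd
      refine ⟨rfl, ?_⟩
      have h11 : r ∣ 11 := hd
      have := (Nat.prime_dvd_prime_iff_eq hr (by norm_num)).mp h11
      exact this
  rcases hcases with ⟨_, h⟩ | ⟨hn, h⟩
  · rw [hG, h]
  · exfalso
    have hN : Nat.card (normalizer ((R : Subgroup G) : Set G)) = r := by
      have := card_normalizer_mul R
      rw [hn, hG, mul_comm 12 r] at this
      exact Nat.eq_of_mul_eq_mul_right (by norm_num) this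
    have hNR : normalizer ((R : Subgroup G) : Set G) = R := by
      symm
      apply Subgroup.eq_of_le_of_card_ge le_normalizer
      rw [hN, hR]
    haveI : IsCyclic (R : Subgroup G) := isCyclic_of_card_prime _ hR
    have hNC : normalizer ((R : Subgroup G) : Set G) ≤ centralizer ((R : Subgroup G) : Set G) := by
      rw [hNR]; exact Subgroup.le_centralizer _
    exact not_normalizer_le_centralizer R (by omega) (by rw [hR, hG]; omega) hNC

/-- the key step: the squared prime is `2` and one of the others is `3`. -/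
theorem key [IsSimpleGroup G] (p q r : ℕ) (hp : p.Prime) (hq : q.Prime) (hr : r.Prime)
    (hpq : p < q) (hpr : p < r) (hG : Nat.card G = p ^ 2 * q * r) :
    p = 2 ∧ (q = 3 ∨ r = 3) := by
  haveI : Fact p.Prime := ⟨hp⟩
  obtain ⟨P⟩ : Nonempty (Sylow p G) := inferInstance
  have hpqr : ¬ p ∣ q * r := by
    intro h
    rcases (Nat.Prime.dvd_mul hp).mp h with h | h
    · have := (Nat.prime_dvd_prime_iff_eq hp hq).mp h; omega
    · have := (Nat.prime_dvd_prime_iff_eq hp hr).mp h; omega
  have hP : Nat.card (P : Subgroup G) = p ^ 2 :=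
    card_sylow_eq P 2 (q * r) (by rw [hG]; ring) hpqr
  have hp2 := hp.two_le
  have hq2 := hq.two_le
  have hr2 := hr.two_le
  have hPlt : Nat.card (P : Subgroup G) < Nat.card G := by
    rw [hP, hG, mul_assoc]
    have : 1 < q * r := by nlinarith
    have hpp : 0 < p ^ 2 := by positivity
    nlinarith
  have hP1 : 1 < Nat.card (P : Subgroup G) := by rw [hP]; nlinarith
  have hidx : (P : Subgroup G).index = q * r := by
    have h2 : Nat.card (P : Subgroup G) * (P : Subgroup G).index = Nat.card G :=
      Subgroup.card_mul_index _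
    rw [hP, hG, mul_assoc] at h2
    exact Nat.eq_of_mul_eq_mul_left (by positivity) h2
  haveI hPc : IsMulCommutative ↥(P : Subgroup G) :=
    IsPGroup.isMulCommutative_of_card_eq_prime_sq (p := p) hP
  -- `c = |N(P) : C(P)|`
  have hc1 : (centralizer ((P : Subgroup G) : Set G)).relIndex
      (normalizer ((P : Subgroup G) : Set G)) ≠ 1 := by
    intro h
    exact not_normalizer_le_centralizer P hP1 hPlt (relIndex_eq_one.mp h)
  have hcd : (centralizer ((P : Subgroup G) : Set G)).relIndex
      (normalizer ((P : Subgroup G) : Set G)) ∣ q * r := by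
    have h1 := relIndex_dvd_relIndex (P : Subgroup G)
    have h2 : (P : Subgroup G).relIndex (normalizer ((P : Subgroup G) : Set G)) ∣
        (P : Subgroup G).index := Subgroup.relIndex_dvd_index_of_le le_normalizer
    rw [hidx] at h2
    exact h1.trans h2
  obtain ⟨ℓ, hℓ, hℓc⟩ := Nat.exists_prime_and_dvd hc1
  haveI : Fact ℓ.Prime := ⟨hℓ⟩
  have hℓqr : ℓ = q ∨ ℓ = r := by
    rcases (Nat.Prime.dvd_mul hℓ).mp (hℓc.trans hcd) with h | h
    · left; exact (Nat.prime_dvd_prime_iff_eq hℓ hq).mp h
    · right; exact (Nat.prime_dvd_prime_iff_eq hℓ hr).mp h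
  have hpℓ : p < ℓ := by rcases hℓqr with h | h <;> omega
  -- an `ℓ`-element of `N(P)` outside `C(P)`
  have hex : ∃ x : G, x ∈ normalizer ((P : Subgroup G) : Set G) ∧
      x ∉ centralizer ((P : Subgroup G) : Set G) ∧ ∃ k : ℕ, orderOf x = ℓ ^ k := by
    by_contra hcon
    obtain ⟨N, hN⟩ : ∃ N : Subgroup G, N = normalizer ((P : Subgroup G) : Set G) := ⟨_, rfl⟩
    rw [← hN] at hcon hℓc
    obtain ⟨L⟩ : Nonempty (Sylow ℓ ↥N) := inferInstance
    have hLC : (↑L : Subgroup ↥N).map N.subtype ≤
        centralizer ((P : Subgroup G) : Set G) := by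
      rintro _ ⟨y, hy, rfl⟩
      by_contra hyC
      apply hcon
      refine ⟨y, y.2, hyC, ?_⟩
      obtain ⟨k, hk⟩ := (IsPGroup.iff_orderOf.mp L.isPGroup') ⟨y, hy⟩
      refine ⟨k, ?_⟩
      rw [← hk, Subgroup.orderOf_mk]
      exact (Subgroup.orderOf_coe y)
    have h1 := relIndex_dvd_of_le_left N hLC
    have h2 : ((↑L : Subgroup ↥N).map N.subtype).relIndex N = (↑L : Subgroup ↥N).index := by
      unfold Subgroup.relIndex Subgroup.subgroupOf
      rw [Subgroup.comap_map_eq_self_of_injective (Subgroup.subtype_injective _)]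
    rw [h2] at h1
    exact L.not_dvd_index (hℓc.trans h1)
  obtain ⟨x, hxN, hxC, k, hxo⟩ := hex
  have hmod := card_modEq_card_centralizer (P : Subgroup G) x hxN k hxo
  rw [hP] at hmod
  have hdd : Nat.card ((P : Subgroup G) ⊓ centralizer ({x} : Set G) : Subgroup G) ∣ p ^ 2 := by
    rw [← hP]; exact Subgroup.card_dvd_of_le inf_le_left
  obtain ⟨j, hj, hdj⟩ := (Nat.dvd_prime_pow hp).mp hdd
  have hpm1 : ¬ ℓ ∣ p - 1 := by
    intro h
    have := Nat.le_of_dvd (by omega) h
    omega
  have hℓp : ¬ ℓ ∣ p := by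
    intro h
    have := (Nat.prime_dvd_prime_iff_eq hℓ hp).mp h
    omega
  have hℓp1 : ℓ ∣ p + 1 → p = 2 ∧ ℓ = 3 := by
    intro h
    have hle := Nat.le_of_dvd (by omega) h
    have hℓe : ℓ = p + 1 := by omega
    have hp2' : p = 2 := by
      rcases Nat.even_or_odd p with he | ho
      · exact (Nat.Prime.even_iff hp).mp he
      · exfalso
        have : Even ℓ := by rw [hℓe]; exact Odd.add_one ho
        have := (Nat.Prime.even_iff hℓ).mp this
        omega
    exact ⟨hp2', by omega⟩
  have hfinal : p = 2 ∧ ℓ = 3 := by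
    interval_cases j
    · -- trivial centralizer: `ℓ ∣ p² - 1`
      rw [hdj, pow_zero] at hmod
      have hd : ℓ ∣ p ^ 2 - 1 := (Nat.modEq_iff_dvd' (by nlinarith)).mp hmod.symm
      have he : p ^ 2 - 1 = (p - 1) * (p + 1) := by
        obtain ⟨m, rfl⟩ : ∃ m, p = m + 1 := ⟨p - 1, by omega⟩
        simp only [Nat.add_sub_cancel]
        ring_nf
        omega
      rw [he] at hd
      rcases (Nat.Prime.dvd_mul hℓ).mp hd with h | h
      · exact absurd h hpm1
      · exact hℓp1 h
    · exfalso
      rw [hdj, pow_one] at hmod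
      have hd : ℓ ∣ p ^ 2 - p := (Nat.modEq_iff_dvd' (by nlinarith)).mp hmod.symm
      have he : p ^ 2 - p = p * (p - 1) := by
        obtain ⟨m, rfl⟩ : ∃ m, p = m + 1 := ⟨p - 1, by omega⟩
        simp only [Nat.add_sub_cancel]
        have : (m + 1) ^ 2 = (m + 1) * m + (m + 1) := by ring
        omega
      rw [he] at hd
      rcases (Nat.Prime.dvd_mul hℓ).mp hd with h | h
      · exact hℓp h
      · exact hpm1 h
    · exfalso
      apply hxC
      have h3 : (P : Subgroup G) ⊓ centralizer ({x} : Set G) = P :=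
        Subgroup.eq_of_le_of_card_ge inf_le_left (by rw [hdj, hP])
      rw [Subgroup.mem_centralizer_iff]
      intro y hy
      have hy' : y ∈ (P : Subgroup G) ⊓ centralizer ({x} : Set G) := by rw [h3]; exact hy
      exact (mem_centralizer_singleton_iff.mp hy'.2)
  refine ⟨hfinal.1, ?_⟩
  rcases hℓqr with h | h
  · left; rw [← h]; exact hfinal.2
  · right; rw [← h]; exact hfinal.2

/-- If a finite simple group has order p^2 * q * r with p, q and r prime, then its order is 60. -/
theorem result {G : Type*} [Group G] [Finite G] [IsSimpleGroup G] (p q r : ℕ) (hp : p.Prime) (hq : q.Prime) (hr : r.Prime) (hG : Nat.card G = p ^ 2 * q * r) : Nat.card G = 60 := by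
  haveI : Fact p.Prime := ⟨hp⟩
  haveI : Fact q.Prime := ⟨hq⟩
  haveI : Fact r.Prime := ⟨hr⟩
  have hp2 := hp.two_le
  have hq2 := hq.two_le
  have hr2 := hr.two_le
  -- not solvable
  have hns : ¬ Group.IsSolvable G := by
    intro hs
    have h1 := card_eq_of_isSolvable hs p (by rw [hG]; exact ⟨p * q * r, by ring⟩)
    rw [hG] at h1
    have : p * (p * q * r) = p * 1 := by rw [mul_one]; nlinarith
    have h2 := Nat.eq_of_mul_eq_mul_left hp.pos this
    have : 1 < p * q * r := by
      have : 4 ≤ p * q := by nlinarith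
      nlinarith
    omega
  have hpq : p ≠ q := by
    rintro rfl
    exact hns (Cfsg.Agent.S0144.result p r 3 1 hp hr (by rw [hG]; ring))
  have hpr : p ≠ r := by
    rintro rfl
    exact hns (Cfsg.Agent.S0144.result p q 3 1 hp hq (by rw [hG]; ring))
  have hqr : q ≠ r := by
    rintro rfl
    exact hns (Cfsg.Agent.S0144.result p q 2 2 hp hq (by rw [hG]; ring))
  -- the smallest prime divisor is `p`
  have hcard1 : Nat.card G ≠ 1 := by
    rw [hG]
    have : 4 ≤ p ^ 2 := by nlinarith
    have : 4 ≤ p ^ 2 * q := by nlinarith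
    intro h
    nlinarith
  have hs := Nat.minFac_prime hcard1
  have hsd : (Nat.card G).minFac ∣ p ^ 2 * q * r := by rw [← hG]; exact Nat.minFac_dvd _
  have hGlt : ∀ t : ℕ, t = q ∨ t = r → t < Nat.card G := by
    intro t ht
    rw [hG]
    have h4 : 4 ≤ p ^ 2 := by nlinarith
    rcases ht with rfl | rfl
    · have : 4 * t ≤ p ^ 2 * t := Nat.mul_le_mul_right _ h4
      nlinarith
    · have : 4 ≤ p ^ 2 * q := by nlinarith
      have : 4 * t ≤ p ^ 2 * q * t := Nat.mul_le_mul_right _ this
      omega
  have hmin : (Nat.card G).minFac = p := by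
    rcases (Nat.Prime.dvd_mul hs).mp hsd with h | h
    · rcases (Nat.Prime.dvd_mul hs).mp h with h | h
      · exact (Nat.prime_dvd_prime_iff_eq hs hp).mp (hs.dvd_of_dvd_pow h)
      · exfalso
        have hsq := (Nat.prime_dvd_prime_iff_eq hs hq).mp h
        obtain ⟨S⟩ : Nonempty (Sylow q G) := inferInstance
        have hS : Nat.card (S : Subgroup G) = q := by
          have hnd : ¬ q ∣ p ^ 2 * r := by
            intro h
            rcases (Nat.Prime.dvd_mul hq).mp h with h | h
            · exact hpq ((Nat.prime_dvd_prime_iff_eq hq hp).mp (hq.dvd_of_dvd_pow h)).symm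
            · exact hqr ((Nat.prime_dvd_prime_iff_eq hq hr).mp h)
          have := card_sylow_eq S 1 (p ^ 2 * r) (by rw [hG]; ring) hnd
          simpa using this
        have hcyc : IsCyclic (S : Subgroup G) := isCyclic_of_card_prime _ hS
        exact not_isCyclic_minFac hsq S (by omega) (by rw [hS]; exact hGlt q (Or.inl rfl)) hcyc
    · exfalso
      have hsr := (Nat.prime_dvd_prime_iff_eq hs hr).mp h
      obtain ⟨S⟩ : Nonempty (Sylow r G) := inferInstance
      have hS : Nat.card (S : Subgroup G) = r := by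
        have hnd : ¬ r ∣ p ^ 2 * q := by
          intro h
          rcases (Nat.Prime.dvd_mul hr).mp h with h | h
          · exact hpr ((Nat.prime_dvd_prime_iff_eq hr hp).mp (hr.dvd_of_dvd_pow h)).symm
          · exact hqr ((Nat.prime_dvd_prime_iff_eq hr hq).mp h).symm
        have := card_sylow_eq S 1 (p ^ 2 * q) (by rw [hG]; ring) hnd
        simpa using this
      have hcyc : IsCyclic (S : Subgroup G) := isCyclic_of_card_prime _ hS
      exact not_isCyclic_minFac hsr S (by omega) (by rw [hS]; exact hGlt r (Or.inr rfl)) hcyc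
  have hpq' : p < q := by
    have : p ≤ q := by
      rw [← hmin]
      exact Nat.minFac_le_of_dvd hq2 (by rw [hG]; exact ⟨p ^ 2 * r, by ring⟩)
    omega
  have hpr' : p < r := by
    have : p ≤ r := by
      rw [← hmin]
      exact Nat.minFac_le_of_dvd hr2 (by rw [hG]; exact ⟨p ^ 2 * q, by ring⟩)
    omega
  obtain ⟨hp2', h3⟩ := key p q r hp hq hr hpq' hpr' hG
  subst hp2'
  rcases h3 with rfl | rfl
  · -- `q = 3`
    have h5 : 5 ≤ r := by
      by_contra hlt
      have h4 : r ≤ 4 := by omega
      interval_cases r <;>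
        first | omega | exact absurd rfl hqr | exact absurd hr (by norm_num)
    exact final r hr h5 (by rw [hG]; ring)
  · have h5 : 5 ≤ q := by
      by_contra hlt
      have h4 : q ≤ 4 := by omega
      interval_cases q <;>
        first | omega | exact absurd rfl hqr | exact absurd hq (by norm_num)
    exact final q hq h5 (by rw [hG]; ring)

end Cfsg.Agent.S0988
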