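import Mathlib
import Cfsg.Statements.S0989
import Cfsg.Agent.Lib.Helper7_Basic
import Cfsg.Agent.Lib.Helper7_SmallSimple
import Cfsg.Agent.Lib.Helper7_SmallSimple3

set_option autoImplicit false
open Cfsg

namespace Cfsg.Agent.S0989

open Cfsg.Agent.Lib.Helper7_Basic Cfsg.Agent.Lib.Helper7_SmallSimple
  Cfsg.Agent.Lib.Helper7_SmallSimple3

/-- In the symmetric group on p or p + 1 letters, p a prime, the normalizer of a Sylow p-subgroup has order p * (p - 1). -/
theorem result {α : Type*} [Fintype α] [DecidableEq α] (p : ℕ) [Fact p.Prime] (hα : Fintype.card α = p ∨ Fintype.card α = p + 1) (P : Sylow p (Equiv.Perm α)) : Nat.card ↥(Subgroup.normalizer ((P : Subgroup (Equiv.Perm α)) : Set (Equiv.Perm α))) = p * (p - 1) := by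
  have hp : p.Prime := Fact.out
  have hG : Nat.card (Equiv.Perm α) = (Fintype.card α).factorial := by
    rw [Nat.card_eq_fintype_card, Fintype.card_perm]
  have hpm : ¬ p ∣ (p - 1).factorial := by
    rw [hp.dvd_factorial]; have := hp.pos; omega
  have hp1 : p - 1 + 1 = p := by have := hp.pos; omega
  obtain ⟨m, hm, hpm'⟩ : ∃ m, Nat.card (Equiv.Perm α) = p ^ 1 * m ∧ ¬ p ∣ m := by
    rcases hα with h | h
    · refine ⟨(p - 1).factorial, ?_, hpm⟩
      rw [hG, h, pow_one]
      conv_lhs => rw [← hp1]
      rw [Nat.factorial_succ, hp1]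
    · refine ⟨(p + 1) * (p - 1).factorial, ?_, ?_⟩
      · rw [hG, h, pow_one, Nat.factorial_succ]
        conv_lhs => rw [← hp1]
        rw [Nat.factorial_succ, hp1]; ring
      · intro hd
        rcases (Nat.Prime.dvd_mul hp).mp hd with h1 | h1
        · have : p ∣ 1 := (Nat.dvd_add_right (dvd_refl p)).mp h1
          exact hp.one_lt.ne' (Nat.dvd_one.mp this)
        · exact hpm h1
  have hcardQ : ∀ Q : Sylow p (Equiv.Perm α), Nat.card (Q : Subgroup (Equiv.Perm α)) = p := by
    intro Q
    have := card_sylow_eq Q 1 m hm hpm'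
    rwa [pow_one] at this
  -- cycle types
  have hct : ∀ g : Equiv.Perm α, orderOf g = p ↔ g.cycleType = {p} := by
    intro g
    constructor
    · intro hg
      obtain ⟨k, hk⟩ := Equiv.Perm.cycleType_prime_order (σ := g) (hg ▸ hp)
      rw [hg] at hk
      apply Equiv.Perm.cycleType_of_card_le_mem_cycleType_add_two
      · rcases hα with h | h <;> omega
      · rw [hk, Multiset.mem_replicate]; exact ⟨Nat.succ_ne_zero k, rfl⟩
    · intro hg
      rw [← Equiv.Perm.lcm_cycleType, hg, Multiset.lcm_singleton]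
      exact normalize_eq p
  -- an element of order p
  obtain ⟨σ, hσ⟩ : ∃ σ : Equiv.Perm α, orderOf σ = p := by
    apply exists_prime_orderOf_dvd_card' p
    rw [hm, pow_one]; exact dvd_mul_right _ _
  have hcent : Nat.card (Subgroup.centralizer ({σ} : Set (Equiv.Perm α))) = p := by
    rw [Equiv.Perm.nat_card_centralizer, (hct σ).mp hσ]
    have h1 : (Fintype.card α - p).factorial = 1 := by
      rcases hα with h | h
      · rw [h, Nat.sub_self]; rfl
      · rw [h, Nat.add_sub_cancel_left]; rfl
    simp [h1]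
  have hclass : Nat.card {g : Equiv.Perm α // orderOf g = p}
      = (Subgroup.centralizer ({σ} : Set (Equiv.Perm α))).index := by
    rw [← card_conj_class]
    apply Nat.card_congr
    refine Equiv.subtypeEquivRight (fun y => ?_)
    rw [Equiv.Perm.isConj_iff_cycleType_eq, (hct σ).mp hσ, hct]
  have h1 := Subgroup.card_mul_index (Subgroup.centralizer ({σ} : Set (Equiv.Perm α)))
  rw [hcent, ← hclass, card_orderOf_eq_prime p hcardQ] at h1
  have h2 := card_normalizer_mul P
  rw [← h1] at h2
  have hnp : 0 < Nat.card (Sylow p (Equiv.Perm α)) := Nat.card_pos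
  have h3 : Nat.card ↥(Subgroup.normalizer ((P : Subgroup (Equiv.Perm α)) : Set (Equiv.Perm α)))
      * Nat.card (Sylow p (Equiv.Perm α)) = (p * (p - 1)) * Nat.card (Sylow p (Equiv.Perm α)) := by
    rw [h2]; ring
  exact Nat.eq_of_mul_eq_mul_right hnp h3

end Cfsg.Agent.S0989
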