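import Mathlib
import Cfsg.Statements.S0990
import Cfsg.Agent.Lib.Helper7_SmallSimple2

set_option autoImplicit false
open Cfsg

namespace Cfsg.Agent.S0990

/-- Sylow p-subgroups of the symmetric group for odd p. -/
theorem result {α : Type*} [Fintype α] [DecidableEq α] (hα : 2 ≤ Fintype.card α) (p : ℕ) [Fact p.Prime] (hp : p ≠ 2) (P : Sylow p (Equiv.Perm α)) : (P : Subgroup (Equiv.Perm α)) ≤ alternatingGroup α ∧ 2 * Nat.card ↥(Subgroup.normalizer ((((P : Subgroup (Equiv.Perm α)).subgroupOf (alternatingGroup α) : Subgroup ↥(alternatingGroup α)) : Set ↥(alternatingGroup α)))) = Nat.card ↥(Subgroup.normalizer ((P : Subgroup (Equiv.Perm α)) : Set (Equiv.Perm α))) := by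
  have hpp : p.Prime := Fact.out
  have hodd : Odd p := hpp.odd_of_ne_two hp
  have hPA : (P : Subgroup (Equiv.Perm α)) ≤ alternatingGroup α := by
    intro σ hσ
    rw [Equiv.Perm.mem_alternatingGroup]
    obtain ⟨k, hk⟩ := (IsPGroup.iff_orderOf.mp P.2) ⟨σ, hσ⟩
    rw [Subgroup.orderOf_mk] at hk
    have h1 : Equiv.Perm.sign σ ^ (p ^ k) = 1 := by
      rw [← map_pow, ← hk, pow_orderOf_eq_one, map_one]
    rcases Int.units_eq_one_or (Equiv.Perm.sign σ) with h | h
    · exact h
    · rw [h, Odd.neg_one_pow (hodd.pow)] at h1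
      exact absurd h1 (by decide)
  refine ⟨hPA, ?_⟩
  obtain ⟨N, hN⟩ : ∃ N, N = Subgroup.normalizer ((P : Subgroup (Equiv.Perm α)) : Set (Equiv.Perm α)) :=
    ⟨_, rfl⟩
  rw [← hN]
  -- normalizer of the subgroupOf
  have hnorm : Subgroup.normalizer ((((P : Subgroup (Equiv.Perm α)).subgroupOf (alternatingGroup α) :
      Subgroup ↥(alternatingGroup α)) : Set ↥(alternatingGroup α))) = N.subgroupOf (alternatingGroup α) := by
    ext x
    rw [Subgroup.mem_subgroupOf, hN, Subgroup.mem_normalizer_iff, Subgroup.mem_normalizer_iff]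
    constructor
    · intro h a
      constructor
      · intro ha
        have := (h ⟨a, hPA ha⟩).mp (Subgroup.mem_subgroupOf.mpr ha)
        exact Subgroup.mem_subgroupOf.mp this
      · intro ha
        have haA : a ∈ alternatingGroup α := by
          have h1 := hPA ha
          have : a = (x : Equiv.Perm α)⁻¹ * ((x : Equiv.Perm α) * a * (x : Equiv.Perm α)⁻¹) * (x : Equiv.Perm α) := by group
          rw [this]
          exact Subgroup.mul_mem _ (Subgroup.mul_mem _ (Subgroup.inv_mem _ x.2) h1) x.2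
        have := (h ⟨a, haA⟩).mpr (Subgroup.mem_subgroupOf.mpr ha)
        exact Subgroup.mem_subgroupOf.mp this
    · intro h a
      rw [Subgroup.mem_subgroupOf, Subgroup.mem_subgroupOf]
      exact h a
  rw [hnorm]
  haveI : Nontrivial α := Fintype.one_lt_card_iff_nontrivial.mp (by omega)
  have hfr : N ⊔ alternatingGroup α = ⊤ := by
    rw [hN]; exact Sylow.normalizer_sup_eq_top' P hPA
  have h2 : (alternatingGroup α).relIndex N = 2 := by
    rw [← Subgroup.relIndex_sup_right, hfr, Subgroup.relIndex_top_right,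
      alternatingGroup.index_eq_two]
  have h3 : Nat.card ↥(N.subgroupOf (alternatingGroup α)) = Nat.card ↥(N ⊓ alternatingGroup α) := by
    rw [← Subgroup.inf_subgroupOf_right]
    exact Nat.card_congr (Subgroup.subgroupOfEquivOfLe inf_le_right).toEquiv
  have h4 := Cfsg.Agent.Lib.Helper7_SmallSimple2.card_mul_relIndex
    (inf_le_left : N ⊓ alternatingGroup α ≤ N)
  rw [inf_comm, Subgroup.inf_relIndex_right, h2, inf_comm] at h4
  rw [h3, ← h4, mul_comm]

end Cfsg.Agent.S0990
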