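import Mathlib
import Cfsg.Statements.S0991

set_option autoImplicit false
open Cfsg

namespace Cfsg.Agent.S0991

theorem result {G : Type*} [Group G] [Finite G] [IsSimpleGroup G] (hG : ¬ IsMulCommutative G) (H : Subgroup G) (hH : H ≠ ⊤) : ∃ f : G →* ↥(alternatingGroup (Fin H.index)), Function.Injective f := by
  classical
  have hcard : Nat.card (G ⧸ H) = H.index := rfl
  let e : G ⧸ H ≃ Fin H.index := Finite.equivFinOfCardEq hcard
  let φ : G →* Equiv.Perm (G ⧸ H) := MulAction.toPermHom G (G ⧸ H)
  let f : G →* Equiv.Perm (Fin H.index) := (Equiv.permCongrHom e).toMonoidHom.comp φ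
  have hφker : φ.ker = ⊥ := by
    rcases (Subgroup.Normal.eq_bot_or_eq_top (MonoidHom.normal_ker φ)) with h | h
    · exact h
    · exfalso
      apply hH
      rw [eq_top_iff]
      intro g _
      have hg : g ∈ φ.ker := by rw [h]; trivial
      rw [MonoidHom.mem_ker] at hg
      have h2 : φ g (QuotientGroup.mk 1 : G ⧸ H) = (QuotientGroup.mk 1 : G ⧸ H) := by
        rw [hg]; rfl
      have h3 : φ g (QuotientGroup.mk 1 : G ⧸ H) = (QuotientGroup.mk (g * 1) : G ⧸ H) := rfl
      rw [h3, mul_one] at h2
      have h4 := QuotientGroup.eq.mp h2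
      simpa using h4
  have hφinj : Function.Injective φ := (MonoidHom.ker_eq_bot_iff φ).mp hφker
  have hfinj : Function.Injective f := by
    intro a b hab
    apply hφinj
    exact (Equiv.permCongrHom e).injective hab
  -- sign ∘ f trivial
  let s : G →* ℤˣ := Equiv.Perm.sign.comp f
  have hsker : s.ker = ⊤ := by
    rcases (Subgroup.Normal.eq_bot_or_eq_top (MonoidHom.normal_ker s)) with h | h
    · exfalso
      apply hG
      have hsinj : Function.Injective s := (MonoidHom.ker_eq_bot_iff s).mp h
      rw [isMulCommutative_iff]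
      intro a b
      apply hsinj
      rw [map_mul, map_mul, mul_comm]
    · exact h
  have hmem : ∀ g : G, f g ∈ alternatingGroup (Fin H.index) := by
    intro g
    rw [Equiv.Perm.mem_alternatingGroup]
    have hg : g ∈ s.ker := by rw [hsker]; trivial
    rw [MonoidHom.mem_ker] at hg
    exact hg
  refine ⟨f.codRestrict (alternatingGroup (Fin H.index)) hmem, ?_⟩
  intro a b hab
  apply hfinj
  have := congrArg Subtype.val hab
  exact this

end Cfsg.Agent.S0991
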