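import Cfsg.Statements.S0992
import Mathlib
import Cfsg.Agent.Lib.Helper9_Klein

set_option autoImplicit false
open Cfsg

namespace Cfsg.Agent.S0992

/-- automorphisms of a group permute its non-identity elements -/
def autPerm (H : Type*) [Group H] : MulAut H →* Equiv.Perm {x : H // x ≠ 1} where
  toFun σ := σ.toEquiv.subtypeEquiv (fun x => by
    show x ≠ 1 ↔ σ x ≠ 1
    rw [Ne, Ne, map_eq_one_iff σ σ.injective])
  map_one' := by
    ext x
    rfl
  map_mul' σ τ := by
    ext x
    rfl

lemma autPerm_injective (H : Type*) [Group H] : Function.Injective (autPerm H) := by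
  rw [injective_iff_map_eq_one]
  intro σ hσ
  ext x
  by_cases hx : x = 1
  · rw [hx, map_one]; rfl
  · have := congrArg (fun f : Equiv.Perm {x : H // x ≠ 1} => ((f ⟨x, hx⟩ : {x : H // x ≠ 1}) : H)) hσ
    exact this

/-- Let G be a non-abelian finite simple group of even order not divisible by 8, and T a Sylow 2-subgroup. Then T is a Klein four-group and the centralizer of T has index 3 in the normalizer of T. -/
theorem result {G : Type*} [Group G] [Finite G] [IsSimpleGroup G] (hG : ¬ IsMulCommutative G) (h2 : Even (Nat.card G)) (h8 : ¬ 8 ∣ Nat.card G) (T : Sylow 2 G) : IsKleinFour ↥(T : Subgroup G) ∧ (Subgroup.centralizer ((T : Subgroup G) : Set G)).relIndex (Subgroup.normalizer ((T : Subgroup G) : Set G)) = 3 := by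
  classical
  have : Fact (Nat.Prime 2) := ⟨Nat.prime_two⟩
  have h2' : 2 ∣ Nat.card G := even_iff_two_dvd.1 h2
  -- no normal complement
  have hnocompl : ¬ Subgroup.normalizer ((T : Subgroup G) : Set G)
      ≤ Subgroup.centralizer ((T : Subgroup G) : Set G) := by
    intro hNC
    have hcompl := MonoidHom.ker_transferSylow_isComplement' T hNC
    have hcard := hcompl.card_mul_card
    rcases (MonoidHom.normal_ker (MonoidHom.transferSylow T hNC)).eq_bot_or_eq_top with h | h
    · rw [h, Subgroup.card_bot, one_mul] at hcard
      have htop : (T : Subgroup G) = ⊤ := Subgroup.eq_top_of_card_eq _ hcard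
      -- G is a 2-group of order at most 4, hence abelian
      obtain ⟨k, hk⟩ := T.isPGroup'.exists_card_eq
      rw [hcard] at hk
      have hk3 : k < 3 := by
        by_contra hk3
        push Not at hk3
        apply h8
        rw [hk]
        exact pow_dvd_pow 2 hk3
      apply hG
      interval_cases k
      · have : Subsingleton G := (Nat.card_eq_one_iff_unique.1 (by simpa using hk)).1
        exact ⟨⟨fun a b => Subsingleton.elim _ _⟩⟩
      · have : IsCyclic G := isCyclic_of_prime_card (p := 2) (by simpa using hk)
        exact IsCyclic.isMulCommutative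
      · exact IsPGroup.isMulCommutative_of_card_eq_prime_sq (p := 2) hk
    · rw [h, Subgroup.card_top] at hcard
      have hT1 : Nat.card (T : Subgroup G) = 1 := by
        have hpos : 0 < Nat.card G := Nat.card_pos
        exact Nat.eq_of_mul_eq_mul_left hpos (by rw [hcard, mul_one])
      have := T.card_eq_multiplicity
      rw [hT1] at this
      have h3 : Nat.factorization (Nat.card G) 2 = 0 := by
        by_contra hne
        have : 2 ^ 1 ≤ 2 ^ Nat.factorization (Nat.card G) 2 :=
          Nat.pow_le_pow_right (by norm_num) (Nat.one_le_iff_ne_zero.2 hne)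
        omega
      rw [Nat.factorization_eq_zero_iff] at h3
      rcases h3 with h3 | h3 | h3
      · exact h3 Nat.prime_two
      · exact h3 h2'
      · exact (Nat.card_pos (α := G)).ne' h3
  -- the order of T
  obtain ⟨k, hk⟩ := T.isPGroup'.exists_card_eq
  have hk3 : k < 3 := by
    by_contra hk3
    push Not at hk3
    apply h8
    exact (pow_dvd_pow 2 hk3).trans (hk ▸ Subgroup.card_subgroup_dvd_card _)
  have hncyc : ¬ IsCyclic (T : Subgroup G) := by
    intro hc
    have hmin : (Nat.card G).minFac = 2 := by
      rw [Nat.minFac_eq_two_iff]; exact h2'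
    exact hnocompl (IsCyclic.normalizer_le_centralizer hmin hc)
  have hk2 : k = 2 := by
    interval_cases k
    · exfalso
      apply hncyc
      have : Subsingleton (T : Subgroup G) := (Nat.card_eq_one_iff_unique.1 (by simpa using hk)).1
      infer_instance
    · exfalso
      exact hncyc (isCyclic_of_prime_card (p := 2) (by simpa using hk))
    · rfl
  rw [hk2] at hk
  have hKlein : IsKleinFour (T : Subgroup G) := by
    refine ⟨by rw [hk]; norm_num, ?_⟩
    -- exponent two
    have hexp : Monoid.exponent (T : Subgroup G) ∣ 4 := by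
      have := Group.exponent_dvd_nat_card (G := (T : Subgroup G))
      rwa [hk] at this
    have hne4 : Monoid.exponent (T : Subgroup G) ≠ 4 := by
      intro h4
      apply hncyc
      have hcomm : IsMulCommutative (T : Subgroup G) :=
        IsPGroup.isMulCommutative_of_card_eq_prime_sq (p := 2) hk
      let _ : CommGroup (T : Subgroup G) := { (inferInstance : Group (T : Subgroup G)) with
        mul_comm := hcomm.is_comm.comm }
      rw [IsCyclic.iff_exponent_eq_card, h4, hk]
      norm_num
    have hne1 : Monoid.exponent (T : Subgroup G) ≠ 1 := by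
      intro h1
      have := Monoid.exp_eq_one_iff.1 h1
      have hc1 : Nat.card (T : Subgroup G) = 1 := Nat.card_eq_one_iff_unique.2 ⟨this, ⟨1⟩⟩
      rw [hk] at hc1
      norm_num at hc1
    have hle : Monoid.exponent (T : Subgroup G) ≤ 4 := Nat.le_of_dvd (by norm_num) hexp
    interval_cases hh : Monoid.exponent (T : Subgroup G)
    · norm_num at hexp
    · exact absurd rfl hne1
    · rfl
    · norm_num at hexp
    · exact absurd rfl hne4
  refine ⟨hKlein, ?_⟩
  -- the index
  set N := Subgroup.normalizer ((T : Subgroup G) : Set G) with hN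
  set C := Subgroup.centralizer ((T : Subgroup G) : Set G) with hC
  have hne1 : C.relIndex N ≠ 1 := by
    intro h
    exact hnocompl (Subgroup.relIndex_eq_one.1 h)
  have hTC : (T : Subgroup G) ≤ C := by
    intro x hx
    rw [hC, Subgroup.mem_centralizer_iff]
    intro y hy
    exact Cfsg.Agent.Helper9Klein.comm_of_mem T hKlein hy hx
  have hCN : C ≤ N := Subgroup.centralizer_le_normalizer _
  have hodd : ¬ 2 ∣ C.relIndex N := by
    intro hdvd
    have h1 : (T : Subgroup G).relIndex C * C.relIndex N = (T : Subgroup G).relIndex N :=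
      Subgroup.relIndex_mul_relIndex _ _ _ hTC hCN
    have h3 : (T : Subgroup G).relIndex N * N.index = (T : Subgroup G).index :=
      Subgroup.relIndex_mul_index (hTC.trans hCN)
    have h4 : ¬ 2 ∣ (T : Subgroup G).index := Sylow.not_dvd_index T
    apply h4
    rw [← h3, ← h1]
    exact Dvd.dvd.mul_right (Dvd.dvd.mul_left hdvd _) _
  have hdvd6 : C.relIndex N ∣ 6 := by
    have key := Subgroup.card_dvd_of_injective _
      (QuotientGroup.kerLift_injective (T : Subgroup G).normalizerMonoidHom)
    rw [Subgroup.normalizerMonoidHom_ker, ← Subgroup.index, ← Subgroup.relIndex] at key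
    refine key.trans ?_
    have h1 := Subgroup.card_dvd_of_injective _ (autPerm_injective (T : Subgroup G))
    have hfin : Finite {x : (T : Subgroup G) // x ≠ 1} := inferInstance
    have : Fintype {x : (T : Subgroup G) // x ≠ 1} := Fintype.ofFinite _
    rw [Nat.card_eq_fintype_card (α := Equiv.Perm {x : (T : Subgroup G) // x ≠ 1}),
      Fintype.card_perm, ← Nat.card_eq_fintype_card,
      Cfsg.Agent.Helper9Klein.card_nonid T hKlein] at h1
    exact h1
  have hle : C.relIndex N ≤ 6 := Nat.le_of_dvd (by norm_num) hdvd6
  interval_cases hh : C.relIndex N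
  · norm_num at hdvd6
  · exact absurd rfl hne1
  · exact absurd (dvd_refl 2) hodd
  · rfl
  · exact absurd (by norm_num : 2 ∣ 4) hodd
  · norm_num at hdvd6
  · exact absurd (by norm_num : 2 ∣ 6) hodd

end Cfsg.Agent.S0992
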