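import Mathlib
import Cfsg.Statements.S0994
import Cfsg.Agent.Lib.Helper7_SmallSimple

set_option autoImplicit false
open Cfsg

namespace Cfsg.Agent.S0994

open Subgroup
open Cfsg.Agent.Lib.Helper7_SmallSimple

/-- No finite simple group has order 1188 = 2^2 * 3^3 * 11. -/
theorem result {G : Type*} [Group G] [Finite G] [IsSimpleGroup G] : Nat.card G ≠ 1188 := by
  intro hG
  haveI : Fact (Nat.Prime 11) := ⟨by norm_num⟩
  obtain ⟨P⟩ : Nonempty (Sylow 11 G) := inferInstance
  have hP : Nat.card (P : Subgroup G) = 11 := by
    have := card_sylow_eq P 1 108 (by rw [hG]; norm_num) (by norm_num)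
    simpa using this
  have hn1 : Nat.card (Sylow 11 G) ≠ 1 := card_sylow_ne_one P (by omega) (by omega)
  have hdvd : Nat.card (Sylow 11 G) ∣ 108 := by
    have h1 := Sylow.card_dvd_index P
    have h2 : Nat.card (P : Subgroup G) * (P : Subgroup G).index = Nat.card G :=
      Subgroup.card_mul_index _
    rw [hP, hG] at h2
    have : (P : Subgroup G).index = 108 := by omega
    rwa [this] at h1
  have hmod : Nat.card (Sylow 11 G) ≡ 1 [MOD 11] := card_sylow_modEq_one 11 G
  have hn : Nat.card (Sylow 11 G) = 12 := by
    have hle : Nat.card (Sylow 11 G) ≤ 108 := Nat.le_of_dvd (by norm_num) hdvd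
    have hpos : 0 < Nat.card (Sylow 11 G) := Nat.card_pos
    unfold Nat.ModEq at hmod
    interval_cases h : Nat.card (Sylow 11 G) <;> omega
  -- the normalizer has order 99
  have hN : Nat.card (normalizer ((P : Subgroup G) : Set G)) = 99 := by
    have := card_normalizer_mul P
    rw [hn, hG] at this
    omega
  haveI : IsCyclic (P : Subgroup G) := isCyclic_of_card_prime _ hP
  have h1 := relIndex_dvd_totient (P : Subgroup G)
  have h2 := relIndex_dvd_relIndex (P : Subgroup G)
  rw [hP, Nat.totient_prime (by norm_num)] at h1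
  have h3 := card_mul_relIndex_normalizer (P : Subgroup G)
  rw [hP, hN] at h3
  have h4 : (P : Subgroup G).relIndex (normalizer ((P : Subgroup G) : Set G)) = 9 := by omega
  rw [h4] at h2
  have h5 : (centralizer ((P : Subgroup G) : Set G)).relIndex
      (normalizer ((P : Subgroup G) : Set G)) = 1 := by
    have := Nat.dvd_gcd h1 h2
    simpa using this
  exact not_normalizer_le_centralizer P (by omega) (by omega) (relIndex_eq_one.mp h5)

end Cfsg.Agent.S0994
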