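import Mathlib
import Cfsg.Statements.S0995
import Cfsg.Agent.Lib.Helper7_Basic
import Cfsg.Agent.Lib.Helper7_SmallSimple

set_option autoImplicit false
open Cfsg

namespace Cfsg.Agent.S0995

open scoped Pointwise
open Cfsg.Agent.Lib.Helper7_Basic Cfsg.Agent.Lib.Helper7_SmallSimple

/-- fiber counting: if all fibers of `f` have `k` elements then `|α| = |β| * k`. -/
theorem card_eq_mul_of_fiber {α β : Type*} [Finite α] [Finite β] (f : α → β) (k : ℕ)
    (h : ∀ b, Nat.card {a // f a = b} = k) : Nat.card α = Nat.card β * k := by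
  classical
  letI : Fintype β := Fintype.ofFinite β
  rw [Nat.card_congr (Equiv.sigmaFiberEquiv f).symm, Nat.card_sigma]
  simp only [h, Finset.sum_const, Finset.card_univ, smul_eq_mul, Nat.card_eq_fintype_card]

variable {G : Type*} [Group G]

theorem centralizer_eq_of_mem_zpowers {a b : G} (hab : a ∈ Subgroup.zpowers b)
    (hba : b ∈ Subgroup.zpowers a) :
    Subgroup.centralizer ({a} : Set G) = Subgroup.centralizer ({b} : Set G) := by
  have key : ∀ a b : G, a ∈ Subgroup.zpowers b →
      Subgroup.centralizer ({b} : Set G) ≤ Subgroup.centralizer ({a} : Set G) := by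
    intro a b hab x hx
    rw [Subgroup.mem_centralizer_singleton_iff] at hx ⊢
    obtain ⟨k, rfl⟩ := Subgroup.mem_zpowers_iff.mp hab
    exact (Commute.zpow_right (show Commute x b from hx) k).eq
  exact le_antisymm (key b a hba) (key a b hab)

/-- in a cyclic group of prime order every nontrivial element is a generator -/
theorem mem_zpowers_of_prime {p : ℕ} [Fact p.Prime] {a b : G} (hb : orderOf b = p)
    (hab : a ∈ Subgroup.zpowers b) (ha : a ≠ 1) : b ∈ Subgroup.zpowers a := by
  have hp : p.Prime := Fact.out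
  have hle : Subgroup.zpowers a ≤ Subgroup.zpowers b := by
    rw [Subgroup.zpowers_le]; exact hab
  haveI : Finite (Subgroup.zpowers b) := by
    apply Nat.finite_of_card_ne_zero
    rw [Nat.card_zpowers, hb]; exact hp.ne_zero
  have hcard : Nat.card (Subgroup.zpowers a) ∣ p := by
    rw [← hb, ← Nat.card_zpowers b]
    exact Subgroup.card_dvd_of_le hle
  have h1 : Nat.card (Subgroup.zpowers a) = p := by
    rcases (Nat.dvd_prime hp).mp hcard with h | h
    · exfalso
      rw [Nat.card_zpowers, orderOf_eq_one_iff] at h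
      exact ha h
    · exact h
  have := Subgroup.eq_of_le_of_card_ge hle (by rw [h1, Nat.card_zpowers, hb])
  rw [this]
  exact Subgroup.mem_zpowers b

/-- Let G be a finite perfect group containing an element z of prime order p whose centralizer is the cyclic group it generates. -/
theorem result {G : Type*} [Group G] [Finite G] (hperf : commutator G = ⊤) (p : ℕ) [Fact p.Prime] (z : G) (hz : orderOf z = p) (hC : Subgroup.centralizer ({z} : Set G) = Subgroup.zpowers z) : ∃ n t : ℕ, t = Nat.card {c : ConjClasses G // ∃ g : G, ConjClasses.mk g = c ∧ orderOf g = p} ∧ t ∣ p - 1 ∧ Nat.card (Sylow p G) = 1 + n * p ∧ Nat.card G * t = (p - 1) * p * (1 + n * p) := by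
  classical
  have hp : p.Prime := Fact.out
  have hzP : IsPGroup p (Subgroup.zpowers z) :=
    IsPGroup.of_card (n := 1) (by rw [Nat.card_zpowers, hz, pow_one])
  obtain ⟨S, hS⟩ := hzP.exists_le_sylow
  have hzS : z ∈ S := hS (Subgroup.mem_zpowers z)
  have hz1 : z ≠ 1 := by
    rintro rfl
    rw [orderOf_one] at hz
    exact hp.one_lt.ne hz
  -- Step 1 : S = ⟨z⟩
  have hSz : (S : Subgroup G) = Subgroup.zpowers z := by
    haveI : Nontrivial (S : Subgroup G) :=
      ⟨⟨⟨z, hzS⟩, 1, fun h => hz1 (congrArg Subtype.val h)⟩⟩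
    haveI := IsPGroup.center_nontrivial S.2
    obtain ⟨c, hc1⟩ := exists_ne (1 : Subgroup.center (S : Subgroup G))
    have hc1' : ((c : (S : Subgroup G)) : G) ≠ 1 := by
      intro h
      apply hc1
      apply Subtype.ext
      apply Subtype.ext
      exact h
    have hcz : ((c : (S : Subgroup G)) : G) ∈ Subgroup.zpowers z := by
      rw [← hC, Subgroup.mem_centralizer_singleton_iff]
      have := Subgroup.mem_center_iff.mp c.2 ⟨z, hzS⟩
      exact (congrArg Subtype.val this).symm
    have hzc := mem_zpowers_of_prime hz hcz hc1'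
    have hcent := centralizer_eq_of_mem_zpowers hcz hzc
    apply le_antisymm _ hS
    rw [← hC, ← hcent]
    intro s hs
    rw [Subgroup.mem_centralizer_singleton_iff]
    have := Subgroup.mem_center_iff.mp c.2 ⟨s, hs⟩
    exact (congrArg Subtype.val this)
  have hScard : Nat.card (S : Subgroup G) = p := by rw [hSz, Nat.card_zpowers, hz]
  -- Step 2 : every element of order p is conjugate to a generator of ⟨z⟩
  have F1 : ∀ g : G, orderOf g = p → ∃ h : G, h⁻¹ * g * h ∈ Subgroup.zpowers z ∧
      z ∈ Subgroup.zpowers (h⁻¹ * g * h) := by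
    intro g hg
    have hgP : IsPGroup p (Subgroup.zpowers g) :=
      IsPGroup.of_card (n := 1) (by rw [Nat.card_zpowers, hg, pow_one])
    obtain ⟨Q, hQ⟩ := hgP.exists_le_sylow
    obtain ⟨h, rfl⟩ := MulAction.exists_smul_eq G S Q
    have h1 : g ∈ h • S := hQ (Subgroup.mem_zpowers g)
    rw [mem_smul_sylow] at h1
    have h1' : h⁻¹ * g * h ∈ (S : Subgroup G) := h1
    rw [hSz] at h1'
    refine ⟨h, h1', mem_zpowers_of_prime hz h1' ?_⟩
    intro h2
    have : g = 1 := by
      have := congrArg (fun x => h * x * h⁻¹) h2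
      simpa [mul_assoc] using this
    rw [this, orderOf_one] at hg
    exact hp.one_lt.ne hg
  set k := (Subgroup.zpowers z).index with hk
  have hkp : k * p = Nat.card G := by
    have := Subgroup.index_mul_card (Subgroup.zpowers z)
    rwa [Nat.card_zpowers, hz] at this
  have hclass : ∀ g : G, orderOf g = p → Nat.card {y : G // IsConj y g} = k := by
    intro g hg
    obtain ⟨h, h1, h2⟩ := F1 g hg
    have hconj : IsConj g (h⁻¹ * g * h) := by
      rw [isConj_iff]; exact ⟨h⁻¹, by simp⟩
    have e : {y : G // IsConj y g} ≃ {y : G // IsConj y (h⁻¹ * g * h)} :=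
      Equiv.subtypeEquivRight (fun y => ⟨fun hy => hy.trans hconj, fun hy => hy.trans hconj.symm⟩)
    rw [Nat.card_congr e, card_conj_class, centralizer_eq_of_mem_zpowers h1 h2, hC]
  have hcardQ : ∀ Q : Sylow p G, Nat.card (Q : Subgroup G) = p := fun Q =>
    ((Sylow.card_eq_multiplicity Q).trans (Sylow.card_eq_multiplicity S).symm).trans hScard
  have F2 : ∀ g : G, orderOf g = p → ∃ Q : Sylow p G, (Q : Subgroup G) = Subgroup.zpowers g := by
    intro g hg
    have hgP : IsPGroup p (Subgroup.zpowers g) :=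
      IsPGroup.of_card (n := 1) (by rw [Nat.card_zpowers, hg, pow_one])
    obtain ⟨Q, hQ⟩ := hgP.exists_le_sylow
    refine ⟨Q, (Subgroup.eq_of_le_of_card_ge hQ ?_).symm⟩
    rw [hcardQ, Nat.card_zpowers, hg]
  have hB : Nat.card {g : G // orderOf g = p} =
      Nat.card {c : ConjClasses G // ∃ g : G, ConjClasses.mk g = c ∧ orderOf g = p} * k := by
    apply card_eq_mul_of_fiber (fun g : {g : G // orderOf g = p} =>
      (⟨ConjClasses.mk g.1, g.1, rfl, g.2⟩ :
        {c : ConjClasses G // ∃ g : G, ConjClasses.mk g = c ∧ orderOf g = p}))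
    rintro ⟨c, g₀, rfl, hg₀⟩
    rw [← hclass g₀ hg₀]
    apply Nat.card_congr
    refine ⟨fun a => ⟨a.1.1, ?_⟩, fun y => ⟨⟨y.1, ?_⟩, ?_⟩, ?_, ?_⟩
    · have := congrArg Subtype.val a.2
      exact ConjClasses.mk_eq_mk_iff_isConj.mp this
    · obtain ⟨c, hc⟩ := isConj_iff.mp y.2
      have := orderOf_conj' c y.1
      rw [hc] at this
      rw [← this]; exact hg₀
    · apply Subtype.ext
      exact ConjClasses.mk_eq_mk_iff_isConj.mpr y.2
    · intro a; rfl
    · intro y; rfl
  have hA : Nat.card {g : G // orderOf g = p} = Nat.card (Sylow p G) * (p - 1) := by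
    apply card_eq_mul_of_fiber (fun g : {g : G // orderOf g = p} => Classical.choose (F2 g.1 g.2))
    intro Q
    have hQ1 : ((Q : Subgroup G) : Set G) \ {1} = {g : G | g ∈ Q ∧ g ≠ 1} := by
      ext g; simp
    have : Nat.card {g : G // g ∈ Q ∧ g ≠ 1} = p - 1 := by
      have h1 := Set.ncard_sdiff_singleton_of_mem (s := ((Q : Subgroup G) : Set G)) (a := 1)
        (Subgroup.one_mem _)
      rw [hQ1] at h1
      have h2 : ((Q : Subgroup G) : Set G).ncard = p := by
        rw [← Nat.card_coe_set_eq]; exact hcardQ Q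
      rw [h2] at h1
      rw [← h1, ← Nat.card_coe_set_eq]; rfl
    rw [← this]
    have hord : ∀ y : {g : G // g ∈ Q ∧ g ≠ 1}, orderOf y.1 = p := by
      intro y
      have h1 : orderOf y.1 ∣ p := by
        have := orderOf_dvd_natCard (⟨y.1, y.2.1⟩ : (Q : Subgroup G))
        rwa [← Subgroup.orderOf_coe, hcardQ Q] at this
      rcases (Nat.dvd_prime hp).mp h1 with h | h
      · exact absurd (orderOf_eq_one_iff.mp h) y.2.2
      · exact h
    apply Nat.card_congr
    refine ⟨fun a => ⟨a.1.1, ?_, ?_⟩, fun y => ⟨⟨y.1, ?_⟩, ?_⟩, ?_, ?_⟩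
    · have h1 := Classical.choose_spec (F2 a.1.1 a.1.2)
      have h2 : a.1.1 ∈ ((Classical.choose (F2 a.1.1 a.1.2) : Sylow p G) : Subgroup G) := by
        rw [h1]; exact Subgroup.mem_zpowers _
      have h3 := a.2
      rw [h3] at h2
      exact h2
    · intro h
      have := a.1.2
      rw [h, orderOf_one] at this
      exact hp.one_lt.ne this
    · exact hord y
    · have h1 := Classical.choose_spec (F2 y.1 (hord y))
      apply Sylow.ext
      rw [h1]
      apply Subgroup.eq_of_le_of_card_ge
      · rw [Subgroup.zpowers_le]; exact y.2.1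
      · rw [hcardQ, Nat.card_zpowers, hord y]
    · intro a; rfl
    · intro y; rfl
  obtain ⟨n, hn⟩ : ∃ n, Nat.card (Sylow p G) = 1 + n * p := by
    have h1 : Nat.card (Sylow p G) ≡ 1 [MOD p] := card_sylow_modEq_one p G
    have h2 : Nat.card (Sylow p G) % p = 1 := by
      rw [h1, Nat.mod_eq_of_lt hp.one_lt]
    refine ⟨Nat.card (Sylow p G) / p, ?_⟩
    have := Nat.div_add_mod (Nat.card (Sylow p G)) p
    rw [h2] at this
    rw [mul_comm, add_comm]; exact this.symm
  have hAB : Nat.card {c : ConjClasses G // ∃ g : G, ConjClasses.mk g = c ∧ orderOf g = p} * k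
      = Nat.card (Sylow p G) * (p - 1) := hB.symm.trans hA
  have hmain : Nat.card G *
      Nat.card {c : ConjClasses G // ∃ g : G, ConjClasses.mk g = c ∧ orderOf g = p}
      = (p - 1) * p * Nat.card (Sylow p G) := by
    rw [← hkp]
    generalize Nat.card {c : ConjClasses G // ∃ g : G, ConjClasses.mk g = c ∧ orderOf g = p} = t
      at hAB ⊢
    calc k * p * t = (t * k) * p := by ring
      _ = (Nat.card (Sylow p G) * (p - 1)) * p := by rw [hAB]
      _ = _ := by ring
  refine ⟨n, _, rfl, ?_, hn, ?_⟩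
  · have h1 := card_normalizer_mul S
    obtain ⟨j, hj⟩ : p ∣ Nat.card (Subgroup.normalizer ((S : Subgroup G) : Set G)) := by
      have := Subgroup.card_dvd_of_le (Subgroup.le_normalizer (H := (S : Subgroup G)))
      rwa [hScard] at this
    rw [hj] at h1
    rw [← h1] at hmain
    have hnp : 0 < Nat.card (Sylow p G) := Nat.card_pos
    have h2 : (j * Nat.card {c : ConjClasses G // ∃ g : G, ConjClasses.mk g = c ∧ orderOf g = p})
        * (p * Nat.card (Sylow p G)) = (p - 1) * (p * Nat.card (Sylow p G)) := by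
      rw [← mul_assoc (p - 1)]
      rw [← hmain]; ring
    have h3 := Nat.eq_of_mul_eq_mul_right (Nat.mul_pos hp.pos hnp) h2
    exact ⟨j, by rw [← h3, mul_comm]⟩
  · rw [← hn]; exact hmain

end Cfsg.Agent.S0995
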