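import Cfsg.Statements.S1006
import Mathlib
import Cfsg.Agent.Lib.Helper6_G168a

set_option autoImplicit false
open Cfsg

namespace Cfsg.Agent.S1006

open Subgroup Cfsg.Agent.Lib.Helper6_G168

theorem not_conj_inv {G : Type*} [Group G] [Finite G] [IsSimpleGroup G] (h : Nat.card G = 168)
    (x : G) (hx : orderOf x = 7) : ¬ IsConj x x⁻¹ := by
  intro hconj
  obtain ⟨c, hc⟩ := isConj_iff.mp hconj
  have hc' : c⁻¹ * x * c = x⁻¹ := by
    have h1 : x = c⁻¹ * x⁻¹ * c := by rw [← hc]; group
    calc c⁻¹ * x * c = (c⁻¹ * x⁻¹ * c)⁻¹ := by group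
      _ = x⁻¹ := by rw [← h1]
  have e : 7 ^ (Nat.card G).factorization 7 = 7 := by
    have P0 : Sylow 7 G := default
    rw [← Sylow.card_eq_multiplicity P0, card_sylow7 h P0]
  let P : Sylow 7 G := Sylow.ofCard (zpowers x) (by rw [Nat.card_zpowers, hx, e])
  have hPz : (P : Subgroup G) = zpowers x := rfl
  -- `c` normalizes `P`
  have hcN : c ∈ normalizer ((P : Subgroup G) : Set G) := by
    rw [hPz, mem_normalizer_iff]
    intro n
    constructor
    · intro hn
      obtain ⟨k, rfl⟩ := mem_zpowers_iff.mp hn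
      have : c * x ^ k * c⁻¹ = (c * x * c⁻¹) ^ k := by
        rw [← MulAut.conj_apply, map_zpow, MulAut.conj_apply]
      rw [this, hc, inv_zpow, ← zpow_neg]
      exact zpow_mem (mem_zpowers x) _
    · intro hn
      obtain ⟨k, hk⟩ := mem_zpowers_iff.mp hn
      have h2 : n = c⁻¹ * x ^ k * c := by rw [hk]; group
      have : c⁻¹ * x ^ k * c = (c⁻¹ * x * c) ^ k := by
        have := map_zpow (MulAut.conj c⁻¹) x k
        simp only [MulAut.conj_apply, inv_inv] at this
        exact this
      rw [h2, this, hc', inv_zpow, ← zpow_neg]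
      exact zpow_mem (mem_zpowers x) _
  have ho21 : orderOf c ∣ 21 := by
    have := Subgroup.orderOf_dvd_natCard _ hcN
    rwa [card_normalizer7 h P] at this
  -- `c ^ 2` centralizes `x`
  have hc2 : c ^ 2 ∈ centralizer ({x} : Set G) := by
    rw [mem_centralizer_singleton_iff]
    have h3 : c ^ 2 * x * (c ^ 2)⁻¹ = x := by
      calc c ^ 2 * x * (c ^ 2)⁻¹ = c * (c * x * c⁻¹) * c⁻¹ := by
            rw [pow_two, mul_inv_rev]; simp only [mul_assoc]
        _ = c * x⁻¹ * c⁻¹ := by rw [hc]
        _ = (c * x * c⁻¹)⁻¹ := by group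
        _ = x := by rw [hc, inv_inv]
    calc c ^ 2 * x = c ^ 2 * x * (c ^ 2)⁻¹ * c ^ 2 := by group
      _ = x * c ^ 2 := by rw [h3]
  have ho14 : orderOf c ∣ 14 := by
    have h4 : orderOf (c ^ 2) ∣ 7 := by
      have := Subgroup.orderOf_dvd_natCard _ hc2
      rwa [cent7 h x hx] at this
    apply orderOf_dvd_of_pow_eq_one
    have : (c ^ 2) ^ 7 = 1 := orderOf_dvd_iff_pow_eq_one.mp h4
    rw [← pow_mul] at this
    exact this
  have ho7 : orderOf c ∣ 7 := by
    have := Nat.dvd_gcd ho21 ho14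
    simpa using this
  have hc7 : c ^ 7 = 1 := orderOf_dvd_iff_pow_eq_one.mp ho7
  have hcc : c ∈ centralizer ({x} : Set G) := by
    have : c = (c ^ 2) ^ 4 := by
      rw [← pow_mul]
      have : c ^ (2 * 4) = c ^ 7 * c := by rw [← pow_succ]
      rw [this, hc7, one_mul]
    rw [this]
    exact pow_mem hc2 4
  rw [mem_centralizer_singleton_iff] at hcc
  have hxx : x = x⁻¹ := by
    calc x = c * x * c⁻¹ := by rw [hcc]; group
      _ = x⁻¹ := hc
  have hx2 : x ^ 2 = 1 := by
    rw [pow_two]
    nth_rw 2 [hxx]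
    exact mul_inv_cancel x
  have := orderOf_dvd_of_pow_eq_one hx2
  rw [hx] at this
  omega

/-- In a simple group of order 168 there are 56 elements of order 3, all conjugate; 42 elements of order 4, all conjugate; and 48 elements of order 7 falling into two conjugacy classes of size 24, an element of order 7 not being conjugate to its inverse. -/
theorem result {G : Type*} [Group G] [Finite G] [IsSimpleGroup G] (h : Nat.card G = 168) : Nat.card {g : G // orderOf g = 3} = 56 ∧ (∀ s t : G, orderOf s = 3 → orderOf t = 3 → IsConj s t) ∧ Nat.card {g : G // orderOf g = 4} = 42 ∧ (∀ s t : G, orderOf s = 4 → orderOf t = 4 → IsConj s t) ∧ Nat.card {g : G // orderOf g = 7} = 48 ∧ ∀ x : G, orderOf x = 7 → Nat.card {g : G // IsConj x g} = 24 ∧ ¬ IsConj x x⁻¹ := by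
  refine ⟨card_order3 h, conj_order3 h, card_order4 h, conj_order4 h, card_order7 h, ?_⟩
  intro x hx
  refine ⟨?_, not_conj_inv h x hx⟩
  have := card_conj_mul x
  rw [cent7 h x hx, h] at this
  omega

end Cfsg.Agent.S1006
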