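import Cfsg.Statements.S1009
import Mathlib

set_option autoImplicit false
open Cfsg

namespace Cfsg.Agent.S1009

open scoped Pointwise

lemma mem_smul_sylow {G : Type*} [Group G] {p : ℕ} (g x : G) (R : Sylow p G) :
    x ∈ ((g • R : Sylow p G) : Subgroup G) ↔ g⁻¹ * x * g ∈ (R : Subgroup G) := by
  rw [Sylow.coe_subgroup_smul, Subgroup.mem_pointwise_smul_iff_inv_smul_mem, MulAut.smul_def,
    ← map_inv, MulAut.conj_apply, inv_inv]

/-- Brodkey's Theorem: if a finite group has abelian Sylow p-subgroups, then there are two Sylow p-subgroups whose intersection equals the intersection of all Sylow p-subgroups. -/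
theorem result {G : Type*} [Group G] [Finite G] (p : ℕ) [Fact p.Prime] (hab : ∀ P : Sylow p G, IsMulCommutative ↥(P : Subgroup G)) : ∃ P Q : Sylow p G, (P : Subgroup G) ⊓ (Q : Subgroup G) = ⨅ R : Sylow p G, (R : Subgroup G) := by
  classical
  obtain ⟨⟨P, Q⟩, hmin⟩ := Finite.exists_min (fun x : Sylow p G × Sylow p G =>
    Nat.card ((x.1 : Subgroup G) ⊓ (x.2 : Subgroup G) : Subgroup G))
  refine ⟨P, Q, ?_⟩
  set D := (P : Subgroup G) ⊓ (Q : Subgroup G) with hD
  have hminD : ∀ P' Q' : Sylow p G, (P' : Subgroup G) ⊓ (Q' : Subgroup G) ≤ D →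
      (P' : Subgroup G) ⊓ (Q' : Subgroup G) = D := by
    intro P' Q' hle
    exact Subgroup.eq_of_le_of_card_ge hle (hmin (P', Q'))
  set N := Subgroup.normalizer (D : Set G) with hN
  have hnorm : ∀ S : Sylow p G, D ≤ (S : Subgroup G) → (S : Subgroup G) ≤ N := by
    intro S hDS x hx
    rw [hN, Subgroup.mem_normalizer_iff]
    intro d
    have hcomm : ∀ d ∈ (S : Subgroup G), x * d * x⁻¹ = d := by
      intro d hd
      have h1 := (hab S).is_comm.comm ⟨x, hx⟩ ⟨d, hd⟩
      have h2 : x * d = d * x := congrArg Subtype.val h1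
      rw [h2, mul_inv_cancel_right]
    constructor
    · intro hd
      rw [hcomm d (hDS hd)]
      exact hd
    · intro hd
      have h3 := hcomm _ (hDS hd)
      have h4 : x * d * x⁻¹ = d := by
        have h5 : x⁻¹ * (x * (x * d * x⁻¹) * x⁻¹) * x = x⁻¹ * (x * d * x⁻¹) * x := by rw [h3]
        simpa [mul_assoc] using h5
      rw [← h4]
      exact hd
  have hPN : (P : Subgroup G) ≤ N := hnorm P inf_le_left
  have hQN : (Q : Subgroup G) ≤ N := hnorm Q inf_le_right
  have key : ∀ R : Sylow p G, D ≤ (R : Subgroup G) := by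
    intro R
    have hpg : IsPGroup p (((R : Subgroup G) ⊓ N).subgroupOf N) := by
      have h1 : IsPGroup p ((R : Subgroup G) ⊓ N : Subgroup G) := R.isPGroup'.to_le inf_le_left
      exact h1.comap_subtype
    obtain ⟨S, hS⟩ := hpg.exists_le_sylow
    obtain ⟨n, hn⟩ := MulAction.exists_smul_eq N (P.subtype hPN) S
    have hle : (((n : G)⁻¹ • R : Sylow p G) : Subgroup G) ⊓ (Q : Subgroup G) ≤ D := by
      intro x hx
      obtain ⟨hx1, hx2⟩ := Subgroup.mem_inf.1 hx
      rw [mem_smul_sylow, inv_inv] at hx1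
      have hxN : x ∈ N := hQN hx2
      have hy : (n * ⟨x, hxN⟩ * n⁻¹ : N) ∈ ((R : Subgroup G) ⊓ N).subgroupOf N := by
        rw [Subgroup.mem_subgroupOf]
        refine Subgroup.mem_inf.2 ⟨?_, (n * ⟨x, hxN⟩ * n⁻¹ : N).2⟩
        simpa using hx1
      have hy2 := hS hy
      rw [← hn, mem_smul_sylow] at hy2
      have hy3 : (⟨x, hxN⟩ : N) ∈ ((P.subtype hPN : Sylow p N) : Subgroup N) := by
        simpa [mul_assoc] using hy2
      rw [Sylow.coe_subtype, Subgroup.mem_subgroupOf] at hy3
      exact Subgroup.mem_inf.2 ⟨hy3, hx2⟩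
    have heq := hminD _ _ hle
    intro d hd
    have hnN : (n : G) ∈ Subgroup.normalizer (D : Set G) := n.2
    have hnN' : ((n : G)⁻¹) ∈ Subgroup.normalizer (D : Set G) := Subgroup.inv_mem _ hnN
    have hd' : (n : G)⁻¹ * d * (n : G) ∈ D := by
      have := (Subgroup.mem_normalizer_iff.1 hnN' d).1 hd
      simpa using this
    rw [← heq] at hd'
    have hd2 := (Subgroup.mem_inf.1 hd').1
    rw [mem_smul_sylow, inv_inv] at hd2
    simpa [mul_assoc] using hd2
  apply le_antisymm
  · exact le_iInf key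
  · exact le_inf (iInf_le _ P) (iInf_le _ Q)

end Cfsg.Agent.S1009
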