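import Cfsg.Statements.S1013
import Mathlib
import Cfsg.Agent.Lib.Helper1_Simple
import Cfsg.Agent.Lib.Helper1_MinNormal

set_option autoImplicit false
open Cfsg

namespace Cfsg.Agent.S1013

/-- Let G be a transitive permutation group of prime degree p having more than one Sylow p-subgroup, and suppose a Sylow p-subgroup P has prime index in its normalizer. Then G is simple. -/
theorem result {α : Type*} [Fintype α] [DecidableEq α] {p : ℕ} [Fact p.Prime] (hα : Fintype.card α = p) (G : Subgroup (Equiv.Perm α)) [MulAction.IsPretransitive ↥G α] (P : Sylow p ↥G) (hn : 1 < Nat.card (Sylow p ↥G)) (ht : (((P : Subgroup ↥G).subgroupOf (Subgroup.normalizer ((P : Subgroup ↥G) : Set ↥G))).index).Prime) : IsSimpleGroup ↥G := by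
  have hp := (Fact.out : p.Prime)
  have hFinG : Finite G := inferInstance
  have hαcard : Nat.card α = p := by rw [Nat.card_eq_fintype_card, hα]
  have hne : Nonempty α := by
    rw [← Fintype.card_pos_iff, hα]; exact hp.pos
  obtain ⟨a⟩ := hne
  -- p ∣ card of any transitive subgroup
  have hdvd_of_trans : ∀ (H : Subgroup G), MulAction.IsPretransitive H α → p ∣ Nat.card H := by
    intro H hH
    have h1 : (MulAction.stabilizer H a).index = Nat.card α :=
      MulAction.index_stabilizer_of_transitive (G := H) (x := a)
    rw [← hαcard, ← h1]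
    exact Subgroup.index_dvd_card _
  have hpG : p ∣ Nat.card G := by
    have h1 : (MulAction.stabilizer G a).index = Nat.card α :=
      MulAction.index_stabilizer_of_transitive (G := G) (x := a)
    rw [← hαcard, ← h1]
    exact Subgroup.index_dvd_card _
  have hGfact : Nat.card G ∣ p.factorial := by
    have := Subgroup.card_subgroup_dvd_card G
    rwa [Nat.card_eq_fintype_card (α := Equiv.Perm α), Fintype.card_perm, hα] at this
  have hp2 : ¬ p ^ 2 ∣ Nat.card G := by
    intro h
    have h1 : p ^ 2 ∣ p.factorial := dvd_trans h hGfact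
    have h2 : p.factorial = p * (p - 1).factorial := by
      have : p = (p - 1) + 1 := by have := hp.pos; omega
      conv_lhs => rw [this]
      rw [Nat.factorial_succ, ← this]
    rw [h2, pow_two] at h1
    have h3 : p ∣ (p - 1).factorial := Nat.dvd_of_mul_dvd_mul_left hp.pos h1
    have h4 := (hp.dvd_factorial).mp h3
    have := hp.pos
    omega
  have hPcard : Nat.card P = p := by
    obtain ⟨k, hk⟩ := IsPGroup.iff_card.mp P.2
    have h1 : p ∣ Nat.card P := P.dvd_card_of_dvd_card hpG
    have hk1 : k ≠ 0 := by
      rintro rfl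
      rw [hk, pow_zero] at h1
      exact hp.one_lt.ne' (Nat.dvd_one.mp h1)
    have hk2 : k < 2 := by
      by_contra hcon
      apply hp2
      have h2 : p ^ 2 ∣ p ^ k := pow_dvd_pow p (by omega)
      rw [← hk] at h2
      exact dvd_trans h2 (Subgroup.card_subgroup_dvd_card _)
    have : k = 1 := by omega
    rw [hk, this, pow_one]
  have hprim : MulAction.IsPreprimitive G α :=
    MulAction.IsPreprimitive.of_prime_card (hαcard ▸ hp)
  have ha : ∀ N : Subgroup G, N.Normal → N ≠ ⊥ → p ∣ Nat.card N := by
    intro N hN hN1
    have := Cfsg.Agent.Lib.Helper1_MinNormal.isPretransitive_of_normal hprim N hN1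
    exact hdvd_of_trans N this
  have hb : Nat.card (Subgroup.normalizer ((P : Subgroup G) : Set G)) =
      p * ((P : Subgroup ↥G).subgroupOf (Subgroup.normalizer ((P : Subgroup ↥G) : Set ↥G))).index := by
    have h1 := Subgroup.relIndex_mul_relIndex ⊥ (P : Subgroup G)
      (Subgroup.normalizer ((P : Subgroup G) : Set G)) bot_le Subgroup.le_normalizer
    rw [Subgroup.relIndex_bot_left, Subgroup.relIndex_bot_left] at h1
    rw [← h1]
    congr 1
  have hc : Subgroup.normalizer ((P : Subgroup G) : Set G) ≠ ⊤ := by
    intro h
    have h1 : Nat.card (Sylow p G) = (Subgroup.normalizer ((P : Subgroup G) : Set G)).index :=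
      P.card_eq_index_normalizer
    rw [h, Subgroup.index_top] at h1
    omega
  exact Cfsg.Agent.Lib.Helper1_Simple.simple_of_sylow p P hPcard ha _ ht hb hc

end Cfsg.Agent.S1013
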