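import Mathlib
import Cfsg.Statements.S1014
import Cfsg.Agent.Lib.Helper7_SmallSimple
import Cfsg.Agent.Lib.Helper7_SmallSimple2

set_option autoImplicit false
open Cfsg

namespace Cfsg.Agent.S1014

open Subgroup
open Cfsg.Agent.Lib.Helper7_SmallSimple
open Cfsg.Agent.Lib.Helper7_SmallSimple2

/-- No finite simple group has order 1104 = 2^4 * 3 * 23. -/
theorem result {G : Type*} [Group G] [Finite G] [IsSimpleGroup G] : Nat.card G ≠ 1104 := by
  intro hG
  haveI : Fact (Nat.Prime 23) := ⟨by norm_num⟩
  obtain ⟨P⟩ : Nonempty (Sylow 23 G) := inferInstance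
  have hP : Nat.card (P : Subgroup G) = 23 := by
    have := card_sylow_eq P 1 48 (by rw [hG]; norm_num) (by norm_num)
    simpa using this
  have hn1 : Nat.card (Sylow 23 G) ≠ 1 := card_sylow_ne_one P (by omega) (by omega)
  have hdvd : Nat.card (Sylow 23 G) ∣ 48 := by
    have h1 := Sylow.card_dvd_index P
    have h2 : Nat.card (P : Subgroup G) * (P : Subgroup G).index = Nat.card G :=
      Subgroup.card_mul_index _
    rw [hP, hG] at h2
    have : (P : Subgroup G).index = 48 := by omega
    rwa [this] at h1
  have hmod : Nat.card (Sylow 23 G) ≡ 1 [MOD 23] := card_sylow_modEq_one 23 G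
  have hn : Nat.card (Sylow 23 G) = 24 := by
    have hle : Nat.card (Sylow 23 G) ≤ 48 := Nat.le_of_dvd (by norm_num) hdvd
    have hpos : 0 < Nat.card (Sylow 23 G) := Nat.card_pos
    unfold Nat.ModEq at hmod
    interval_cases h : Nat.card (Sylow 23 G) <;> omega
  have hN : Nat.card (normalizer ((P : Subgroup G) : Set G)) = 46 := by
    have := card_normalizer_mul P
    rw [hn, hG] at this
    omega
  haveI : IsCyclic (P : Subgroup G) := isCyclic_of_card_prime _ hP
  have h1 := relIndex_dvd_totient (P : Subgroup G)
  have h2 := relIndex_dvd_relIndex (P : Subgroup G)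
  rw [hP, Nat.totient_prime (by norm_num)] at h1
  have h3 := card_mul_relIndex_normalizer (P : Subgroup G)
  rw [hP, hN] at h3
  have h4 : (P : Subgroup G).relIndex (normalizer ((P : Subgroup G) : Set G)) = 2 := by omega
  rw [h4] at h2
  have hCN : centralizer ((P : Subgroup G) : Set G) ≤ normalizer ((P : Subgroup G) : Set G) :=
    centralizer_le_normalizer _
  have h5 : (centralizer ((P : Subgroup G) : Set G)).relIndex
      (normalizer ((P : Subgroup G) : Set G)) ≠ 1 := by
    intro h
    exact not_normalizer_le_centralizer P (by omega) (by omega) (relIndex_eq_one.mp h)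
  have h6 : (centralizer ((P : Subgroup G) : Set G)).relIndex
      (normalizer ((P : Subgroup G) : Set G)) = 2 := by
    rcases (Nat.dvd_prime Nat.prime_two).mp h2 with h | h
    · exact absurd h h5
    · exact h
  have hC : Nat.card (centralizer ((P : Subgroup G) : Set G)) = 23 := by
    have := card_mul_relIndex hCN
    rw [h6, hN] at this
    omega
  -- an involution of `N(P)`
  haveI : Fact (Nat.Prime 2) := ⟨Nat.prime_two⟩
  obtain ⟨x, hx⟩ := exists_prime_orderOf_dvd_card' (G := ↥(normalizer ((P : Subgroup G) : Set G))) 2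
    (by rw [hN]; norm_num)
  have hxo : orderOf (x : G) = 2 := by rw [Subgroup.orderOf_coe, hx]
  have hxC := mem_centralizer_of_involution P hP hn (by norm_num) (x : G) hxo x.2
  have := Subgroup.orderOf_dvd_natCard _ hxC
  rw [hxo, hC] at this
  revert this
  decide

end Cfsg.Agent.S1014
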