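import Mathlib
import Cfsg.Statements.S1015
import Cfsg.Agent.Lib.Helper7_SmallSimple

set_option autoImplicit false
open Cfsg

namespace Cfsg.Agent.S1015

open Subgroup
open Cfsg.Agent.Lib.Helper7_SmallSimple

/-- No finite simple group has order 1200 = 2^4 * 3 * 5^2. -/
theorem result {G : Type*} [Group G] [Finite G] [IsSimpleGroup G] : Nat.card G ≠ 1200 := by
  intro hG
  haveI : Fact (Nat.Prime 5) := ⟨by norm_num⟩
  obtain ⟨P⟩ : Nonempty (Sylow 5 G) := inferInstance
  have hcard : ∀ P : Sylow 5 G, Nat.card (P : Subgroup G) = 25 := by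
    intro P
    have := card_sylow_eq P 2 48 (by rw [hG]; norm_num) (by norm_num)
    simpa using this
  have hP := hcard P
  have hn1 : Nat.card (Sylow 5 G) ≠ 1 := card_sylow_ne_one P (by omega) (by omega)
  have hdvd : Nat.card (Sylow 5 G) ∣ 48 := by
    have h1 := Sylow.card_dvd_index P
    have h2 : Nat.card (P : Subgroup G) * (P : Subgroup G).index = Nat.card G :=
      Subgroup.card_mul_index _
    rw [hP, hG] at h2
    have : (P : Subgroup G).index = 48 := by omega
    rwa [this] at h1
  have hmod : Nat.card (Sylow 5 G) ≡ 1 [MOD 5] := card_sylow_modEq_one 5 G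
  have hn : Nat.card (Sylow 5 G) = 6 ∨ Nat.card (Sylow 5 G) = 16 := by
    have hle : Nat.card (Sylow 5 G) ≤ 48 := Nat.le_of_dvd (by norm_num) hdvd
    have hpos : 0 < Nat.card (Sylow 5 G) := Nat.card_pos
    unfold Nat.ModEq at hmod
    interval_cases h : Nat.card (Sylow 5 G) <;> omega
  -- a proper subgroup has index at least 10
  have hidx : ∀ H : Subgroup G, H ≠ ⊤ → 8 < H.index := by
    intro H hH
    by_contra hle
    have h1 := card_dvd_factorial_index H hH
    have h2 : (H.index).factorial ∣ (8).factorial := Nat.factorial_dvd_factorial (by omega)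
    have h3 := h1.trans h2
    rw [hG] at h3
    revert h3
    decide
  rcases hn with hn | hn
  · -- `n_5 = 6`
    have hNtop : normalizer ((P : Subgroup G) : Set G) ≠ ⊤ := by
      intro h
      have := card_sylow_eq_index P
      rw [h, Subgroup.index_top] at this
      exact hn1 this
    have := hidx _ hNtop
    rw [← card_sylow_eq_index P, hn] at this
    omega
  · -- `n_5 = 16`
    have hnt : Nontrivial (Sylow 5 G) := by
      rw [← Finite.one_lt_card_iff_nontrivial]; omega
    obtain ⟨Q, hQP⟩ := exists_ne P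
    have h1 := card_le_mul_card_inf P Q hQP
    rw [hP, hn] at h1
    have hD25 : Nat.card ((P : Subgroup G) ⊓ (Q : Subgroup G) : Subgroup G) ∣ 25 := by
      rw [← hP]; exact Subgroup.card_dvd_of_le inf_le_left
    have hDne : Nat.card ((P : Subgroup G) ⊓ (Q : Subgroup G) : Subgroup G) ≠ 25 := by
      intro h
      have h2 : (P : Subgroup G) ⊓ (Q : Subgroup G) = P :=
        Subgroup.eq_of_le_of_card_ge inf_le_left (by rw [h, hP])
      have h3 : (P : Subgroup G) ≤ Q := by rw [← h2]; exact inf_le_right
      exact hQP (Sylow.ext (P.is_maximal' Q.isPGroup' h3))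
    have hD : Nat.card ((P : Subgroup G) ⊓ (Q : Subgroup G) : Subgroup G) = 5 := by
      have hle : Nat.card ((P : Subgroup G) ⊓ (Q : Subgroup G) : Subgroup G) ≤ 25 :=
        Nat.le_of_dvd (by norm_num) hD25
      have hpos : 0 < Nat.card ((P : Subgroup G) ⊓ (Q : Subgroup G) : Subgroup G) := Nat.card_pos
      interval_cases h : Nat.card ((P : Subgroup G) ⊓ (Q : Subgroup G) : Subgroup G) <;> omega
    -- `P` and `Q` are abelian, so they normalize `D`
    have hab : ∀ R : Sylow 5 G, (P : Subgroup G) ⊓ (Q : Subgroup G) ≤ R →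
        (R : Subgroup G) ≤ normalizer (((P : Subgroup G) ⊓ (Q : Subgroup G) : Subgroup G) : Set G) := by
      intro R hDR
      have hc' : IsMulCommutative ↥(R : Subgroup G) :=
        IsPGroup.isMulCommutative_of_card_eq_prime_sq (p := 5) (by rw [hcard R]; norm_num)
      have hc : ∀ a b : ↥(R : Subgroup G), a * b = b * a := hc'.is_comm.comm
      have h2 : (R : Subgroup G) ≤ centralizer (((P : Subgroup G) ⊓ (Q : Subgroup G) : Subgroup G) : Set G) := by
        intro x hx
        rw [Subgroup.mem_centralizer_iff]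
        intro y hy
        have := hc ⟨y, hDR hy⟩ ⟨x, hx⟩
        exact congrArg Subtype.val this
      exact h2.trans (centralizer_le_normalizer _)
    obtain ⟨M, hM⟩ : ∃ M : Subgroup G,
      M = normalizer (((P : Subgroup G) ⊓ (Q : Subgroup G) : Subgroup G) : Set G) := ⟨_, rfl⟩
    have hPM : (P : Subgroup G) ≤ M := by rw [hM]; exact hab P inf_le_left
    have hQM : (Q : Subgroup G) ≤ M := by rw [hM]; exact hab Q inf_le_right
    have hMtop : M ≠ ⊤ := by
      intro h
      rw [hM] at h
      have hDn : ((P : Subgroup G) ⊓ (Q : Subgroup G)).Normal := normalizer_eq_top_iff.mp h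
      rcases hDn.eq_bot_or_eq_top with h | h
      · rw [h, Subgroup.card_bot] at hD; omega
      · rw [h, Subgroup.card_top, hG] at hD; omega
    have h8 := hidx M hMtop
    -- Sylow counting in `M`
    have hne' : P.subtype hPM ≠ Q.subtype hQM := fun h => hQP (Sylow.subtype_injective h).symm
    have hnt' : Nontrivial (Sylow 5 ↥M) := ⟨⟨_, _, hne'⟩⟩
    have hgt := Finite.one_lt_card_iff_nontrivial.mpr hnt'
    have hmod' := card_sylow_modEq_one 5 ↥M
    have h6 : 6 ≤ Nat.card (Sylow 5 ↥M) := by
      unfold Nat.ModEq at hmod'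
      omega
    have hd := Sylow.card_dvd_index (P.subtype hPM)
    have hcP : Nat.card (↑(P.subtype hPM) : Subgroup ↥M) = 25 := by
      rw [Sylow.coe_subtype, ← hP]
      exact Nat.card_congr (Subgroup.subgroupOfEquivOfLe hPM).toEquiv
    have hmul := Subgroup.card_mul_index (↑(P.subtype hPM) : Subgroup ↥M)
    rw [hcP] at hmul
    have hipos : 0 < (↑(P.subtype hPM) : Subgroup ↥M).index := by
      apply Nat.pos_of_ne_zero
      intro h0
      rw [h0, mul_zero] at hmul
      have : 0 < Nat.card ↥M := Nat.card_pos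
      omega
    have hile := Nat.le_of_dvd hipos hd
    have hMG := Subgroup.card_mul_index M
    rw [hG] at hMG
    have hM150 : 150 ≤ Nat.card ↥M := by omega
    nlinarith

end Cfsg.Agent.S1015
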