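import Mathlib
import Cfsg.Statements.S1018
import Cfsg.Agent.Lib.Helper7_Basic
import Cfsg.Agent.Lib.Helper6_Sylow

set_option autoImplicit false
open Cfsg

namespace Cfsg.Agent.S1018

open scoped Pointwise
open Cfsg.Agent.Lib.Helper7_Basic

variable {G : Type*} [Group G]

/-- a nontrivial element of a subgroup of prime order generates it -/
theorem zpowers_eq_of_mem [Finite G] {p : ℕ} [Fact p.Prime] (H : Subgroup G) (hH : Nat.card H = p)
    {w : G} (hw : w ∈ H) (hw1 : w ≠ 1) : Subgroup.zpowers w = H := by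
  have hp : p.Prime := Fact.out
  have h1 : orderOf w ∣ p := by
    have := orderOf_dvd_natCard (⟨w, hw⟩ : H)
    rwa [← Subgroup.orderOf_coe, hH] at this
  have h2 : orderOf w = p := by
    rcases (Nat.dvd_prime hp).mp h1 with h | h
    · exact absurd (orderOf_eq_one_iff.mp h) hw1
    · exact h
  apply Subgroup.eq_of_le_of_card_ge
  · rw [Subgroup.zpowers_le]; exact hw
  · rw [hH, Nat.card_zpowers, h2]

/-- a `p`-element normalizing a Sylow `p`-subgroup lies in it -/
theorem mem_of_mem_normalizer [Finite G] {p : ℕ} [Fact p.Prime] (P : Sylow p G) {v : G} {k : ℕ}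
    (hv : v ^ (p ^ k) = 1)
    (hvN : v ∈ Subgroup.normalizer ((P : Subgroup G) : Set G)) : v ∈ P := by
  have hQ : IsPGroup p (Subgroup.zpowers v) := by
    obtain ⟨j, -, hj⟩ := (Nat.dvd_prime_pow Fact.out).mp (orderOf_dvd_of_pow_eq_one hv)
    exact IsPGroup.of_card (n := j) (by rw [Nat.card_zpowers, hj])
  have : Subgroup.zpowers v ⊓ Subgroup.normalizer ((P : Subgroup G) : Set G)
      = Subgroup.zpowers v ⊓ P := hQ.inf_normalizer_sylow P
  have h1 : v ∈ Subgroup.zpowers v ⊓ Subgroup.normalizer ((P : Subgroup G) : Set G) :=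
    ⟨Subgroup.mem_zpowers v, hvN⟩
  rw [this] at h1
  exact h1.2

theorem mem_fixedBy_iff (N : Subgroup G) (y g : G) :
    (g : G ⧸ N) ∈ MulAction.fixedBy (G ⧸ N) y ↔ g⁻¹ * y * g ∈ N := by
  rw [MulAction.mem_fixedBy, MulAction.Quotient.smul_mk, eq_comm, QuotientGroup.eq, smul_eq_mul,
    mul_assoc]

/-- Sylow subgroup of order p: fixed cosets of the normalizer. -/
theorem result {G : Type*} [Group G] [Finite G] (p : ℕ) [Fact p.Prime] (P : Sylow p G) (hP : Nat.card ↥(P : Subgroup G) = p) : (∀ y : G, orderOf y = p → Nat.card (MulAction.fixedBy (G ⧸ Subgroup.normalizer ((P : Subgroup G) : Set G)) y) = 1) ∧ ∀ x : G, x ∈ Subgroup.normalizer ((P : Subgroup G) : Set G) → x ∉ Subgroup.centralizer ((P : Subgroup G) : Set G) → Nat.card (MulAction.fixedBy (G ⧸ Subgroup.normalizer ((P : Subgroup G) : Set G)) x) ≤ Nat.card (MulAction.orbitRel.Quotient ↥(P : Subgroup G) (G ⧸ Subgroup.normalizer ((P : Subgroup G) : Set G))) := by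
  classical
  have hp : p.Prime := Fact.out
  obtain ⟨N, hN⟩ : ∃ N, N = Subgroup.normalizer ((P : Subgroup G) : Set G) := ⟨_, rfl⟩
  rw [← hN]
  have hPN : (P : Subgroup G) ≤ N := hN ▸ Subgroup.le_normalizer
  have hpow : ∀ w ∈ P, w ^ p = 1 := by
    intro w hw
    have := orderOf_dvd_natCard (⟨w, hw⟩ : (P : Subgroup G))
    rw [← Subgroup.orderOf_coe, hP] at this
    exact orderOf_dvd_iff_pow_eq_one.mp this
  constructor
  · intro y hy
    have hy1 : y ≠ 1 := by
      rintro rfl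
      rw [orderOf_one] at hy
      exact hp.one_lt.ne hy
    have hmemP : ∀ g : G, g⁻¹ * y * g ∈ N → g⁻¹ * y * g ∈ P ∧ g⁻¹ * y * g ≠ 1 := by
      intro g hg
      constructor
      · apply mem_of_mem_normalizer P (k := 1) _ (hN ▸ hg)
        have : g⁻¹ * y * g = g⁻¹ * y * g⁻¹⁻¹ := by rw [inv_inv]
        rw [pow_one, this, conj_pow, ← hy, pow_orderOf_eq_one]
        simp
      · intro h
        apply hy1
        have := congrArg (fun t => g * t * g⁻¹) h
        simpa [mul_assoc] using this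
    rw [Nat.card_eq_one_iff_unique]
    constructor
    · constructor
      rintro ⟨ω₁, h₁⟩ ⟨ω₂, h₂⟩
      apply Subtype.ext
      induction ω₁ using QuotientGroup.induction_on with | H g₁ => ?_
      induction ω₂ using QuotientGroup.induction_on with | H g₂ => ?_
      rw [mem_fixedBy_iff] at h₁ h₂
      obtain ⟨hv₁, hv₁'⟩ := hmemP g₁ h₁
      obtain ⟨hv₂, hv₂'⟩ := hmemP g₂ h₂
      change ((g₁ : G) : G ⧸ N) = ((g₂ : G) : G ⧸ N)
      rw [eq_comm, QuotientGroup.eq, hN]
      apply Cfsg.Agent.Lib.Helper6_Sylow.mem_normalizer_of_conj_le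
      intro a ha
      rw [← zpowers_eq_of_mem (P : Subgroup G) hP hv₁ hv₁'] at ha
      obtain ⟨k, rfl⟩ := Subgroup.mem_zpowers_iff.mp ha
      have h3 : g₂⁻¹ * g₁ * (g₁⁻¹ * y * g₁) * (g₂⁻¹ * g₁)⁻¹ = g₂⁻¹ * y * g₂ := by group
      rw [← conj_zpow, h3]
      exact Subgroup.zpow_mem _ hv₂ k
    · have hyP : IsPGroup p (Subgroup.zpowers y) :=
        IsPGroup.of_card (n := 1) (by rw [Nat.card_zpowers, hy, pow_one])
      obtain ⟨Q, hQ⟩ := hyP.exists_le_sylow
      obtain ⟨g, rfl⟩ := MulAction.exists_smul_eq G P Q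
      have h1 : y ∈ g • P := hQ (Subgroup.mem_zpowers y)
      rw [mem_smul_sylow] at h1
      exact ⟨⟨(g : G ⧸ N), (mem_fixedBy_iff N y g).mpr (hPN h1)⟩⟩
  · intro x hxN hxC
    haveI : Finite (MulAction.orbitRel.Quotient ↥(P : Subgroup G) (G ⧸ N)) := Quotient.finite _
    apply Nat.card_le_card_of_injective (fun ω : MulAction.fixedBy (G ⧸ N) x =>
      (Quotient.mk'' ω.1 : MulAction.orbitRel.Quotient ↥(P : Subgroup G) (G ⧸ N)))
    rintro ⟨ω₁, h₁⟩ ⟨ω₂, h₂⟩ h
    apply Subtype.ext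
    have h' : ω₁ ∈ MulAction.orbit ↥(P : Subgroup G) ω₂ := by
      rw [← MulAction.orbitRel_apply]; exact Quotient.exact h
    obtain ⟨⟨u, hu⟩, rfl⟩ := h'
    induction ω₂ using QuotientGroup.induction_on with | H g => ?_
    change ((u * g : G) : G ⧸ N) = ((g : G) : G ⧸ N)
    have h₁' : ((u * g : G) : G ⧸ N) ∈ MulAction.fixedBy (G ⧸ N) x := h₁
    rw [mem_fixedBy_iff] at h₁' h₂
    obtain ⟨w, hw⟩ : ∃ w, w = u⁻¹ * (x * u * x⁻¹) := ⟨_, rfl⟩
    have hxu : x * u * x⁻¹ ∈ P := (Subgroup.mem_normalizer_iff.mp (hN ▸ hxN) u).mp hu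
    have hwP : w ∈ P := by
      rw [hw]; exact Subgroup.mul_mem _ (Subgroup.inv_mem _ hu) hxu
    have hgw : g⁻¹ * w * g ∈ N := by
      have : g⁻¹ * w * g = ((u * g)⁻¹ * x * (u * g)) * (g⁻¹ * x * g)⁻¹ := by rw [hw]; group
      rw [this]
      exact Subgroup.mul_mem _ h₁' (Subgroup.inv_mem _ h₂)
    have hgwP : g⁻¹ * w * g ∈ P := by
      apply mem_of_mem_normalizer P (k := 1) _ (hN ▸ hgw)
      have : g⁻¹ * w * g = g⁻¹ * w * g⁻¹⁻¹ := by rw [inv_inv]
      rw [pow_one, this, conj_pow, hpow w hwP]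
      simp
    by_cases hw1 : w = 1
    · by_cases hu1 : u = 1
      · rw [hu1, one_mul]
      · exfalso
        apply hxC
        have hcomm : x * u = u * x := by
          rw [hw1] at hw
          have : u * 1 = u * (u⁻¹ * (x * u * x⁻¹)) := by rw [← hw]
          rw [mul_one, mul_inv_cancel_left] at this
          calc x * u = (x * u * x⁻¹) * x := by group
            _ = u * x := by rw [← this]
        rw [Subgroup.mem_centralizer_iff]
        intro a ha
        rw [SetLike.mem_coe, ← zpowers_eq_of_mem (P : Subgroup G) hP hu hu1] at ha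
        obtain ⟨k, rfl⟩ := Subgroup.mem_zpowers_iff.mp ha
        exact ((Commute.zpow_right (show Commute x u from hcomm) k)).eq.symm
    · have hgN : g⁻¹ ∈ N := by
        rw [hN]
        apply Cfsg.Agent.Lib.Helper6_Sylow.mem_normalizer_of_conj_le
        intro a ha
        rw [← zpowers_eq_of_mem (P : Subgroup G) hP hwP hw1] at ha
        obtain ⟨k, rfl⟩ := Subgroup.mem_zpowers_iff.mp ha
        rw [← conj_zpow]
        have : g⁻¹ * w * g⁻¹⁻¹ = g⁻¹ * w * g := by rw [inv_inv]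
        rw [this]
        exact Subgroup.zpow_mem _ hgwP k
      rw [eq_comm, QuotientGroup.eq]
      have : g⁻¹ * (u * g) = g⁻¹ * u * g⁻¹⁻¹ := by rw [inv_inv]; group
      rw [this]
      exact Subgroup.mul_mem _ (Subgroup.mul_mem _ hgN (hPN hu)) (Subgroup.inv_mem _ hgN)

end Cfsg.Agent.S1018
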