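import Mathlib
import Cfsg.Statements.S1019
import Cfsg.Agent.Lib.Helper2_Count

set_option autoImplicit false
open Cfsg

namespace Cfsg.Agent.S1019

open Cfsg.Agent.Lib.Helper2_Count

theorem result {G : Type*} [Group G] [Finite G] (H : Subgroup G) (x : G) (hx : x ∈ H) : Nat.card (MulAction.fixedBy (G ⧸ H) x) * Nat.card {g : G // IsConj x g} = H.index * Nat.card {g : G // IsConj x g ∧ g ∈ H} := by
  classical
  haveI : Finite (ConjAct G) := Finite.of_equiv G ConjAct.toConjAct.toEquiv
  -- instance 1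
  have h1 := card_orbit_preimage (G := G) (X := G ⧸ H) ((1 : G) : G ⧸ H)
    (MulAction.fixedBy (G ⧸ H) x) (by rw [MulAction.orbit_eq_univ]; exact Set.subset_univ _)
  rw [MulAction.stabilizer_quotient] at h1
  -- instance 2
  have h2 := card_orbit_preimage (G := ConjAct G) (X := G) x {y | IsConj x y ∧ y ∈ H}
    (by
      intro y hy
      rw [ConjAct.mem_orbit_conjAct]
      exact hy.1.symm)
  -- instance 3
  have h3 := card_orbit_preimage (G := ConjAct G) (X := G) x {y | IsConj x y}
    (by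
      intro y hy
      rw [ConjAct.mem_orbit_conjAct]
      exact (show IsConj x y from hy).symm)
  set c := Nat.card (MulAction.stabilizer (ConjAct G) x) with hc
  -- T ≃ T'
  have hT : Nat.card {g : G // g • ((1 : G) : G ⧸ H) ∈ MulAction.fixedBy (G ⧸ H) x}
      = Nat.card {g : ConjAct G // g • x ∈ {y | IsConj x y ∧ y ∈ H}} := by
    apply Nat.card_congr
    refine
      { toFun := fun g => ⟨ConjAct.toConjAct g.1⁻¹, ?_⟩
        invFun := fun g => ⟨(ConjAct.ofConjAct g.1)⁻¹, ?_⟩
        left_inv := ?_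
        right_inv := ?_ }
    · have hg := g.2
      rw [MulAction.mem_fixedBy] at hg
      have hg' : ((x * (g.1 * 1) : G) : G ⧸ H) = ((g.1 * 1 : G) : G ⧸ H) := hg
      rw [mul_one] at hg'
      have h4 := QuotientGroup.eq.mp hg'
      show IsConj x (ConjAct.toConjAct g.1⁻¹ • x) ∧ ConjAct.toConjAct g.1⁻¹ • x ∈ H
      rw [ConjAct.smul_def]
      simp only [ConjAct.ofConjAct_toConjAct, inv_inv]
      refine ⟨?_, ?_⟩
      · rw [isConj_iff]
        exact ⟨g.1⁻¹, by simp⟩
      · have h5 := H.inv_mem h4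
        have h6 : ((x * g.1)⁻¹ * g.1)⁻¹ = g.1⁻¹ * x * g.1 := by group
        rwa [h6] at h5
    · have hg := g.2
      have hg2 : g.1 • x ∈ H := hg.2
      rw [ConjAct.smul_def] at hg2
      rw [MulAction.mem_fixedBy]
      show ((x * ((ConjAct.ofConjAct g.1)⁻¹ * 1) : G) : G ⧸ H) = (((ConjAct.ofConjAct g.1)⁻¹ * 1 : G) : G ⧸ H)
      rw [mul_one]
      apply QuotientGroup.eq.mpr
      have h5 := H.inv_mem hg2
      have h6 : (ConjAct.ofConjAct g.1 * x * (ConjAct.ofConjAct g.1)⁻¹)⁻¹
          = (x * (ConjAct.ofConjAct g.1)⁻¹)⁻¹ * (ConjAct.ofConjAct g.1)⁻¹ := by group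
      rwa [h6] at h5
    · intro g
      apply Subtype.ext
      simp
    · intro g
      apply Subtype.ext
      simp
  have hall : Nat.card {g : ConjAct G // g • x ∈ {y | IsConj x y}} = Nat.card G := by
    have : ∀ g : ConjAct G, g • x ∈ {y | IsConj x y} := by
      intro g
      show IsConj x (g • x)
      rw [ConjAct.smul_def, isConj_iff]
      exact ⟨ConjAct.ofConjAct g, rfl⟩
    rw [Nat.card_congr (Equiv.subtypeUnivEquiv this)]
    exact Nat.card_congr ConjAct.ofConjAct.toEquiv
  have hidx : H.index * Nat.card H = Nat.card G := H.index_mul_card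
  have hHpos : 0 < Nat.card H := Nat.card_pos
  have hcpos : 0 < c := Nat.card_pos
  -- combine
  have e1 : Nat.card H * Nat.card (MulAction.fixedBy (G ⧸ H) x)
      = c * Nat.card {y | IsConj x y ∧ y ∈ H} := by rw [← h1, hT, h2]
  have e3 : Nat.card G = c * Nat.card {y | IsConj x y} := by rw [← hall, h3]
  have hYa : Nat.card {y | IsConj x y} = Nat.card {g : G // IsConj x g} := rfl
  have hYb : Nat.card {y | IsConj x y ∧ y ∈ H} = Nat.card {g : G // IsConj x g ∧ g ∈ H} := rfl
  rw [hYa] at e3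
  rw [hYb] at e1
  have : (Nat.card H * c) * (Nat.card (MulAction.fixedBy (G ⧸ H) x) * Nat.card {g : G // IsConj x g})
      = (Nat.card H * c) * (H.index * Nat.card {g : G // IsConj x g ∧ g ∈ H}) := by
    calc (Nat.card H * c) * (Nat.card (MulAction.fixedBy (G ⧸ H) x) * Nat.card {g : G // IsConj x g})
        = (Nat.card H * Nat.card (MulAction.fixedBy (G ⧸ H) x)) * (c * Nat.card {g : G // IsConj x g}) := by ring
      _ = (c * Nat.card {g : G // IsConj x g ∧ g ∈ H}) * Nat.card G := by rw [e1, ← e3]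
      _ = (c * Nat.card {g : G // IsConj x g ∧ g ∈ H}) * (H.index * Nat.card H) := by rw [hidx]
      _ = (Nat.card H * c) * (H.index * Nat.card {g : G // IsConj x g ∧ g ∈ H}) := by ring
  exact Nat.eq_of_mul_eq_mul_left (Nat.mul_pos hHpos hcpos) this

end Cfsg.Agent.S1019
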