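import Mathlib
import Cfsg.Statements.S1024

set_option autoImplicit false
open Cfsg

namespace Cfsg.Agent.S1024

open Cfsg.Lie

set_option maxRecDepth 100000 in
theorem neg_facts (D : Cfsg.Lie.ChevalleyDatum) (hD : D ∈ [Cfsg.Lie.chevG2, Cfsg.Lie.chevB2, Cfsg.Lie.chevD4, Cfsg.Lie.chevF4, Cfsg.Lie.chevE6, Cfsg.Lie.chevE7, Cfsg.Lie.chevE8]) :
    ∀ r < D.nroots, D.negIdx.getD r 0 < D.nroots ∧ D.negIdx.getD r 0 ≠ r := by
  simp only [List.mem_cons, List.mem_nil_iff, or_false] at hD
  rcases hD with rfl | rfl | rfl | rfl | rfl | rfl | rfl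
  all_goals decide

theorem chainCoeff_pos (D : Cfsg.Lie.ChevalleyDatum) (r s u : ℕ) :
    ∀ km ∈ D.chainCoeff r s u, km.1 ≠ 0 := by
  intro km hkm
  unfold ChevalleyDatum.chainCoeff at hkm
  rw [List.mem_flatMap] at hkm
  obtain ⟨e, _, he⟩ := hkm
  rw [List.mem_map] at he
  obtain ⟨q, _, hq⟩ := he
  rw [← hq]
  exact Nat.succ_ne_zero _

theorem xMat_zero {F : Type*} [Field F] (D : Cfsg.Lie.ChevalleyDatum) (r : Fin D.nroots) :
    D.xMat F r 0 = 1 := by
  ext row col
  rw [Matrix.one_apply]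
  rcases col with i | s
  · rcases row with i' | u
    · simp only [ChevalleyDatum.xMat, Matrix.of_apply]
      by_cases h : i' = i
      · simp [h]
      · simp [h]
    · simp only [ChevalleyDatum.xMat, Matrix.of_apply]
      simp
  · by_cases hsr : s = r
    · rcases row with i | u
      · simp [ChevalleyDatum.xMat, Matrix.of_apply, hsr]
      · subst hsr
        by_cases hu : u = s
        · simp [ChevalleyDatum.xMat, Matrix.of_apply, hu]
        · simp [ChevalleyDatum.xMat, Matrix.of_apply, hu]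
    · by_cases hneg : s.val = D.negIdx.getD r.val 0
      · rcases row with i | u
        · simp [ChevalleyDatum.xMat, Matrix.of_apply, hsr, hneg]
        · by_cases hu : u = s
          · simp [ChevalleyDatum.xMat, Matrix.of_apply, hsr, hneg, hu]
          · simp [ChevalleyDatum.xMat, Matrix.of_apply, hsr, hneg, hu]
      · rcases row with i | u
        · simp [ChevalleyDatum.xMat, Matrix.of_apply, hsr, hneg]
        · have hsum : ((D.chainCoeff r.val s.val u.val).map fun km => ((km.2 : ℤ) : F) * (0 : F) ^ km.1).sum = 0 := by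
            apply List.sum_eq_zero
            intro x hx
            rw [List.mem_map] at hx
            obtain ⟨km, hkm, rfl⟩ := hx
            rw [zero_pow (chainCoeff_pos D _ _ _ km hkm), mul_zero]
          simp only [ChevalleyDatum.xMat, Matrix.of_apply, hsr, hneg, if_false, hsum, add_zero]
          by_cases hu : u = s
          · simp [hu]
          · simp [hu]

theorem result {F : Type*} [Field F] (D : Cfsg.Lie.ChevalleyDatum) (hD : D ∈ [Cfsg.Lie.chevG2, Cfsg.Lie.chevB2, Cfsg.Lie.chevD4, Cfsg.Lie.chevF4, Cfsg.Lie.chevE6, Cfsg.Lie.chevE7, Cfsg.Lie.chevE8]) (r : ℕ) (hr : r < D.nroots) (t : F) :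
    D.x F r t = 1 ↔ t = 0 := by
  obtain ⟨hneg1, hneg2⟩ := neg_facts D hD r hr
  unfold ChevalleyDatum.x
  rw [dif_pos hr]
  constructor
  · intro h
    have h1 := congrFun (congrFun h (Sum.inr ⟨r, hr⟩)) (Sum.inr ⟨D.negIdx.getD r 0, hneg1⟩)
    have hne : (⟨D.negIdx.getD r 0, hneg1⟩ : Fin D.nroots) ≠ ⟨r, hr⟩ := by
      intro h2
      exact hneg2 (Fin.mk.inj_iff.mp h2)
    have hne' : (⟨r, hr⟩ : Fin D.nroots) ≠ ⟨D.negIdx.getD r 0, hneg1⟩ := fun h2 => hne h2.symm
    rw [Matrix.one_apply] at h1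
    simp only [ChevalleyDatum.xMat, Matrix.of_apply, hne, hne', if_false, if_true, Sum.inr.injEq] at h1
    simpa using h1
  · intro h
    rw [h]
    exact xMat_zero D ⟨r, hr⟩

end Cfsg.Agent.S1024
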