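import Cfsg.Statements.S1029
import Mathlib
import Cfsg.Agent.Lib.Helper9_ChevTri

set_option autoImplicit false
open Cfsg

namespace Cfsg.Agent.S1029

open Cfsg.Lie Cfsg.Agent.Helper9ChevTri Subgroup

section lev

variable {F : Type*} [Field F] (D : Cfsg.Lie.ChevalleyDatum)

/-- `A` has level at least `k`: its entries vanish unless the column key exceeds the row key by
at least `k`. -/
def Lev (k : ℤ) (A : Matrix D.Idx D.Idx F) : Prop :=
  ∀ i j : D.Idx, key D j - key D i < k → A i j = 0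

theorem lev_mono {a b : ℤ} (hab : a ≤ b) {A : Matrix D.Idx D.Idx F} (h : Lev D b A) :
    Lev D a A :=
  fun i j hij => h i j (lt_of_lt_of_le hij hab)

theorem lev_add {k : ℤ} {A B : Matrix D.Idx D.Idx F} (hA : Lev D k A) (hB : Lev D k B) :
    Lev D k (A + B) := by
  intro i j hij
  rw [Matrix.add_apply, hA i j hij, hB i j hij, add_zero]

theorem lev_neg {k : ℤ} {A : Matrix D.Idx D.Idx F} (hA : Lev D k A) : Lev D k (-A) := by
  intro i j hij
  rw [Matrix.neg_apply, hA i j hij, neg_zero]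

theorem lev_sub {k : ℤ} {A B : Matrix D.Idx D.Idx F} (hA : Lev D k A) (hB : Lev D k B) :
    Lev D k (A - B) := by
  intro i j hij
  rw [Matrix.sub_apply, hA i j hij, hB i j hij, sub_zero]

theorem lev_mul {a b : ℤ} {A B : Matrix D.Idx D.Idx F} (hA : Lev D a A) (hB : Lev D b B) :
    Lev D (a + b) (A * B) := by
  intro i j hij
  rw [Matrix.mul_apply]
  apply Finset.sum_eq_zero
  intro l _
  by_cases h : key D l - key D i < a
  · rw [hA i l h, zero_mul]
  · have h' : key D j - key D l < b := by omega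
    rw [hB l j h', mul_zero]

theorem key_bounds (x : D.Idx) :
    -((2 * D.nroots + D.rank : ℕ) : ℤ) ≤ key D x ∧ key D x ≤ 0 := by
  rcases x with c | s
  · simp only [key]
    have := c.2
    constructor <;> omega
  · simp only [key, keyN]
    have := s.2
    split_ifs <;> constructor <;> omega

theorem lev_big {A : Matrix D.Idx D.Idx F}
    (hA : Lev D (((2 * D.nroots + D.rank : ℕ) : ℤ) + 1) A) : A = 0 := by
  ext i j
  rw [Matrix.zero_apply]
  apply hA
  have h1 := key_bounds D i
  have h2 := key_bounds D j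
  omega

theorem lev_one_of_tri {M : Matrix D.Idx D.Idx F} (h1 : M.BlockTriangular (key D))
    (h2 : ∀ i, M i i = 1) : Lev D 1 (M - 1) := by
  intro i j hij
  rw [Matrix.sub_apply]
  by_cases h : i = j
  · subst h
    rw [h2, Matrix.one_apply_eq, sub_self]
  · have hne : key D j ≠ key D i := fun e => h (key_inj D e).symm
    have hlt : key D j < key D i := by omega
    rw [h1 hlt, Matrix.one_apply_ne h, sub_zero]

/-- the matrix of an element of `U` -/
def mat (u : ↥(D.posUnipotent F)) : Matrix D.Idx D.Idx F :=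
  ((u : GL D.Idx F) : Matrix D.Idx D.Idx F)

theorem mat_mul (u v : ↥(D.posUnipotent F)) : mat D (u * v) = mat D u * mat D v := by
  simp only [mat, Subgroup.coe_mul, Units.val_mul]

theorem mat_one : mat D (1 : ↥(D.posUnipotent F)) = 1 := by
  simp only [mat, Subgroup.coe_one, Units.val_one]

theorem mat_mul_inv (u : ↥(D.posUnipotent F)) : mat D u * mat D u⁻¹ = 1 := by
  rw [← mat_mul, mul_inv_cancel, mat_one]

theorem mat_inj (u : ↥(D.posUnipotent F)) (h : mat D u = 1) : u = 1 := by
  apply Subtype.ext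
  apply Units.ext
  exact h

theorem lev1 (hD : D ∈ [Cfsg.Lie.chevG2, Cfsg.Lie.chevB2, Cfsg.Lie.chevD4, Cfsg.Lie.chevF4, Cfsg.Lie.chevE6, Cfsg.Lie.chevE7, Cfsg.Lie.chevE8])
    (u : ↥(D.posUnipotent F)) : Lev D 1 (mat D u - 1) := by
  obtain ⟨h1, h2⟩ := U_tri D hD (u : GL D.Idx F) u.2
  exact lev_one_of_tri D h1 h2

/-- the central series -/
def Hk (hD : D ∈ [Cfsg.Lie.chevG2, Cfsg.Lie.chevB2, Cfsg.Lie.chevD4, Cfsg.Lie.chevF4, Cfsg.Lie.chevE6, Cfsg.Lie.chevE7, Cfsg.Lie.chevE8])
    (k : ℕ) : Subgroup ↥(D.posUnipotent F) where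
  carrier := {u | Lev D ((k : ℤ) + 1) (mat D u - 1)}
  one_mem' := by
    show Lev D _ _
    rw [mat_one, sub_self]
    intro i j _
    rfl
  mul_mem' := by
    intro a b ha hb
    show Lev D _ _
    have ha' : Lev D ((k : ℤ) + 1) (mat D a - 1) := ha
    have hb' : Lev D ((k : ℤ) + 1) (mat D b - 1) := hb
    have e : mat D (a * b) - 1 =
        (mat D a - 1) + (mat D b - 1) + (mat D a - 1) * (mat D b - 1) := by
      rw [mat_mul]
      noncomm_ring
    rw [e]
    refine lev_add D (lev_add D ha' hb') (lev_mono D ?_ (lev_mul D ha' hb'))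
    omega
  inv_mem' := by
    intro a ha
    show Lev D _ _
    have ha' : Lev D ((k : ℤ) + 1) (mat D a - 1) := ha
    have h1 : Lev D 1 (mat D a⁻¹ - 1) := lev1 D hD a⁻¹
    have e : mat D a⁻¹ - 1 = -(mat D a - 1) - (mat D a - 1) * (mat D a⁻¹ - 1) := by
      have h2 : (mat D a - 1) * (mat D a⁻¹ - 1) =
          mat D a * mat D a⁻¹ - mat D a - mat D a⁻¹ + 1 := by noncomm_ring
      rw [h2, mat_mul_inv]
      abel
    rw [e]
    refine lev_sub D (lev_neg D ha') (lev_mono D ?_ (lev_mul D ha' h1))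
    omega

end lev

/-- `U` is a nilpotent group (the subgroups generated by root subgroups of height at least `m` form a central series). -/
theorem result {F : Type*} [Field F] (D : Cfsg.Lie.ChevalleyDatum) (hD : D ∈ [Cfsg.Lie.chevG2, Cfsg.Lie.chevB2, Cfsg.Lie.chevD4, Cfsg.Lie.chevF4, Cfsg.Lie.chevE6, Cfsg.Lie.chevE7, Cfsg.Lie.chevE8]) : Group.IsNilpotent (D.posUnipotent F) := by
  rw [Subgroup.nilpotent_iff_finite_descending_central_series]
  refine ⟨2 * D.nroots + D.rank, Hk D hD, ⟨?_, ?_⟩, ?_⟩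
  · rw [eq_top_iff]
    intro u _
    show Lev D _ _
    exact lev_mono D (by norm_num) (lev1 D hD u)
  · intro x n hx g
    rw [commutatorElement_def]
    show Lev D _ _
    have hx' : Lev D ((n : ℤ) + 1) (mat D x - 1) := hx
    have hg1 := lev1 D hD g
    have hw1 := lev1 D hD (x⁻¹ * g⁻¹)
    have e : mat D (x * g * x⁻¹ * g⁻¹) - 1 =
        ((mat D x - 1) * (mat D g - 1) - (mat D g - 1) * (mat D x - 1)) +
          ((mat D x - 1) * (mat D g - 1) - (mat D g - 1) * (mat D x - 1)) *
            (mat D (x⁻¹ * g⁻¹) - 1) := by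
      have hX := mat_mul_inv D x
      have hG := mat_mul_inv D g
      have h1 : mat D g * mat D x * (mat D x⁻¹ * mat D g⁻¹) = 1 := by
        calc mat D g * mat D x * (mat D x⁻¹ * mat D g⁻¹)
            = mat D g * (mat D x * mat D x⁻¹) * mat D g⁻¹ := by simp only [mul_assoc]
          _ = 1 := by rw [hX, mul_one, hG]
      have h2 : mat D (x * g * x⁻¹ * g⁻¹) - 1 =
          (mat D x * mat D g - mat D g * mat D x) * (mat D x⁻¹ * mat D g⁻¹) := by
        rw [sub_mul, h1, ← mul_assoc, mat_mul, mat_mul, mat_mul]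
      rw [h2, mat_mul]
      noncomm_ring
    rw [e]
    have hE : Lev D ((n : ℤ) + 1 + 1)
        ((mat D x - 1) * (mat D g - 1) - (mat D g - 1) * (mat D x - 1)) := by
      refine lev_sub D (lev_mul D hx' hg1) (lev_mono D ?_ (lev_mul D hg1 hx'))
      omega
    apply lev_mono D (b := (n : ℤ) + 1 + 1)
    · push_cast
      omega
    · refine lev_add D hE (lev_mono D ?_ (lev_mul D hE hw1))
      omega
  · rw [eq_bot_iff]
    intro u hu
    have hu' : Lev D (((2 * D.nroots + D.rank : ℕ) : ℤ) + 1) (mat D u - 1) := hu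
    have h0 : mat D u - 1 = 0 := lev_big D hu'
    rw [Subgroup.mem_bot]
    exact mat_inj D u (sub_eq_zero.mp h0)

end Cfsg.Agent.S1029
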