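import Mathlib
import Cfsg.Statements.S1041

set_option autoImplicit false
open Cfsg

namespace Cfsg.Agent.S1041

open Cfsg.Lie

set_option maxRecDepth 100000 in
theorem pos_or_neg (D : Cfsg.Lie.ChevalleyDatum) (hD : D ∈ [Cfsg.Lie.chevG2, Cfsg.Lie.chevB2, Cfsg.Lie.chevD4, Cfsg.Lie.chevF4, Cfsg.Lie.chevE6, Cfsg.Lie.chevE7, Cfsg.Lie.chevE8]) :
    ∀ r < D.nroots, D.IsPosRoot r ∨ D.IsNegRoot r := by
  simp only [List.mem_cons, List.mem_nil_iff, or_false] at hD
  rcases hD with rfl | rfl | rfl | rfl | rfl | rfl | rfl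
  all_goals decide

theorem result {F : Type*} [Field F] (D : Cfsg.Lie.ChevalleyDatum) (hD : D ∈ [Cfsg.Lie.chevG2, Cfsg.Lie.chevB2, Cfsg.Lie.chevD4, Cfsg.Lie.chevF4, Cfsg.Lie.chevE6, Cfsg.Lie.chevE7, Cfsg.Lie.chevE8]) : D.posUnipotent F ⊔ D.negUnipotent F = D.group F := by
  have hpn := pos_or_neg D hD
  apply le_antisymm
  · apply sup_le
    · unfold ChevalleyDatum.posUnipotent ChevalleyDatum.group
      apply Subgroup.closure_mono
      rintro g ⟨r, t, hr, hg⟩
      refine ⟨⟨r, hr.1⟩, t, ?_⟩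
      rw [hg]
      unfold ChevalleyDatum.x
      rw [dif_pos hr.1]
    · unfold ChevalleyDatum.negUnipotent ChevalleyDatum.group
      apply Subgroup.closure_mono
      rintro g ⟨r, t, hr, hg⟩
      refine ⟨⟨r, hr.1⟩, t, ?_⟩
      rw [hg]
      unfold ChevalleyDatum.x
      rw [dif_pos hr.1]
  · unfold ChevalleyDatum.group
    rw [Subgroup.closure_le]
    rintro g ⟨r, t, hg⟩
    have hx : (g : Matrix D.Idx D.Idx F) = D.x F r.val t := by
      rw [hg]
      unfold ChevalleyDatum.x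
      rw [dif_pos r.2]
    rcases hpn r.val r.2 with h | h
    · apply (le_sup_left : D.posUnipotent F ≤ _)
      unfold ChevalleyDatum.posUnipotent
      apply Subgroup.subset_closure
      exact ⟨r.val, t, h, hx⟩
    · apply (le_sup_right : D.negUnipotent F ≤ _)
      unfold ChevalleyDatum.negUnipotent
      apply Subgroup.subset_closure
      exact ⟨r.val, t, h, hx⟩

end Cfsg.Agent.S1041
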