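import Cfsg.Statements.S1043
import Mathlib
import Cfsg.Agent.Lib.Helper9_ChevTri
import Cfsg.Agent.S1024

set_option autoImplicit false
open Cfsg

namespace Cfsg.Agent.S1043

open Cfsg.Lie Cfsg.Agent.Helper9ChevTri

section aux

variable {F : Type*} [Field F] (D : Cfsg.Lie.ChevalleyDatum)

theorem x_mem_group (g : GL D.Idx F) (r : ℕ) (hr : r < D.nroots) (t : F)
    (hg : (g : Matrix D.Idx D.Idx F) = D.x F r t) : g ∈ D.group F := by
  unfold ChevalleyDatum.group
  apply Subgroup.subset_closure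
  refine ⟨⟨r, hr⟩, t, ?_⟩
  rw [hg]
  unfold ChevalleyDatum.x
  rw [dif_pos hr]

theorem wordMat_cons (p : ℕ × F) (w : List (ℕ × F)) :
    D.wordMat F (p :: w) = D.x F p.1 p.2 * D.wordMat F w := by
  simp only [ChevalleyDatum.wordMat, List.map_cons, List.prod_cons]

theorem wordMat_nil : D.wordMat F ([] : List (ℕ × F)) = 1 := by
  simp only [ChevalleyDatum.wordMat, List.map_nil, List.prod_nil]

theorem wordMat_append (w w' : List (ℕ × F)) :
    D.wordMat F (w ++ w') = D.wordMat F w * D.wordMat F w' := by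
  simp only [ChevalleyDatum.wordMat, List.map_append, List.prod_append]

theorem word_mem_group : ∀ (w : List (ℕ × F)), (∀ p ∈ w, p.1 < D.nroots) →
    ∀ g : GL D.Idx F, (g : Matrix D.Idx D.Idx F) = D.wordMat F w → g ∈ D.group F := by
  intro w
  induction w with
  | nil =>
    intro _ g hg
    rw [wordMat_nil] at hg
    have h1 : g = 1 := Units.ext hg
    rw [h1]
    exact one_mem _
  | cons p w ih =>
    intro hw g hg
    rw [wordMat_cons] at hg
    have hu : IsUnit ((D.x F p.1 p.2 * D.wordMat F w).det) := by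
      rw [← hg]
      exact (Matrix.isUnit_iff_isUnit_det _).mp g.isUnit
    rw [Matrix.det_mul] at hu
    have hA : IsUnit (D.x F p.1 p.2) :=
      (Matrix.isUnit_iff_isUnit_det _).mpr (isUnit_of_mul_isUnit_left hu)
    have hB : IsUnit (D.wordMat F w) :=
      (Matrix.isUnit_iff_isUnit_det _).mpr (isUnit_of_mul_isUnit_right hu)
    have hgAB : g = hA.unit * hB.unit := by
      apply Units.ext
      rw [Units.val_mul, IsUnit.unit_spec, IsUnit.unit_spec]
      exact hg
    rw [hgAB]
    apply mul_mem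
    · exact x_mem_group D hA.unit p.1 (hw p (by simp)) p.2 (IsUnit.unit_spec hA)
    · exact ih (fun q hq => hw q (List.mem_cons_of_mem _ hq)) hB.unit (IsUnit.unit_spec hB)

theorem nMat_eq (r : ℕ) (a : F) :
    D.nMat F r a = D.x F r a * D.x F (D.neg r) (-a⁻¹) * D.x F r a := by
  simp only [ChevalleyDatum.nMat, ChevalleyDatum.nWord, wordMat_cons, wordMat_nil, mul_one,
    mul_assoc]

theorem hMat_eq (r : ℕ) (a : F) : D.hMat F r a = D.nMat F r a * D.nMat F r (-1) := by
  simp only [ChevalleyDatum.hMat, ChevalleyDatum.hWord, ChevalleyDatum.nMat, wordMat_append]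

end aux

/-- `B ≤ G`, `N ≤ G` and `B ⊔ N = G` for the Chevalley group `G` generated by all root elements. -/
theorem result {F : Type*} [Field F] (D : Cfsg.Lie.ChevalleyDatum) (hD : D ∈ [Cfsg.Lie.chevG2, Cfsg.Lie.chevB2, Cfsg.Lie.chevD4, Cfsg.Lie.chevF4, Cfsg.Lie.chevE6, Cfsg.Lie.chevE7, Cfsg.Lie.chevE8]) :
    D.borelSubgroup F ≤ D.group F ∧ D.monomialSubgroup F ≤ D.group F ∧ D.borelSubgroup F ⊔ D.monomialSubgroup F = D.group F := by
  have hnegr : ∀ r < D.nroots, D.neg r < D.nroots := fun r hr => (tab_neg D hD r hr).1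
  have hU : D.posUnipotent F ≤ D.group F := by
    unfold ChevalleyDatum.posUnipotent
    rw [Subgroup.closure_le]
    rintro g ⟨r, t, hr, hg⟩
    exact x_mem_group D g r hr.1 t hg
  have hH : D.diagonalSubgroup F ≤ D.group F := by
    unfold ChevalleyDatum.diagonalSubgroup
    rw [Subgroup.closure_le]
    rintro g ⟨r, t, hr, _, hg⟩
    refine word_mem_group D (D.hWord r t) ?_ g hg
    intro p hp
    simp only [ChevalleyDatum.hWord, ChevalleyDatum.nWord, List.mem_append, List.mem_cons,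
      List.mem_nil_iff, or_false] at hp
    rcases hp with (rfl | rfl | rfl) | (rfl | rfl | rfl)
    all_goals first | exact hr | exact hnegr r hr
  have hN : D.monomialSubgroup F ≤ D.group F := by
    unfold ChevalleyDatum.monomialSubgroup
    apply sup_le hH
    rw [Subgroup.closure_le]
    rintro g ⟨r, hr, hg⟩
    refine word_mem_group D (D.nWord r 1) ?_ g hg
    intro p hp
    simp only [ChevalleyDatum.nWord, List.mem_cons, List.mem_nil_iff, or_false] at hp
    rcases hp with rfl | rfl | rfl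
    all_goals first | exact hr | exact hnegr r hr
  have hB : D.borelSubgroup F ≤ D.group F := by
    unfold ChevalleyDatum.borelSubgroup
    exact sup_le hU hH
  refine ⟨hB, hN, le_antisymm (sup_le hB hN) ?_⟩
  have hUB : D.posUnipotent F ≤ D.borelSubgroup F ⊔ D.monomialSubgroup F := by
    unfold ChevalleyDatum.borelSubgroup
    exact le_sup_of_le_left le_sup_left
  have hHN : D.diagonalSubgroup F ≤ D.monomialSubgroup F := by
    unfold ChevalleyDatum.monomialSubgroup
    exact le_sup_left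
  unfold ChevalleyDatum.group
  rw [Subgroup.closure_le]
  rintro g ⟨r, t, hg⟩
  have hxr : (g : Matrix D.Idx D.Idx F) = D.x F r.val t := by
    rw [hg]
    unfold ChevalleyDatum.x
    rw [dif_pos r.2]
  by_cases hp : D.IsPosRoot r.val
  · apply hUB
    unfold ChevalleyDatum.posUnipotent
    exact Subgroup.subset_closure ⟨r.val, t, hp, hxr⟩
  · obtain ⟨hr', -, hn3⟩ := tab_neg D hD r.val r.2
    obtain ⟨hpos', hnn⟩ := hn3 hp
    by_cases ht : t = 0
    · have h1 : g = 1 := by
        apply Units.ext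
        rw [hg, ht, Cfsg.Agent.S1024.xMat_zero]
        rfl
      rw [h1]
      exact one_mem _
    · have hc0 : (-t⁻¹ : F) ≠ 0 := neg_ne_zero.mpr (inv_ne_zero ht)
      have hct : -(-t⁻¹ : F)⁻¹ = t := by rw [inv_neg, neg_neg, inv_inv]
      have e1 : (-(-1 : F)⁻¹) = 1 := by simp
      have e2 : (-(1 : F)⁻¹) = -1 := by simp
      obtain ⟨X, hX⟩ : ∃ X : GL D.Idx F, (X : Matrix D.Idx D.Idx F) = D.x F (D.neg r.val) (-t⁻¹) :=
        ⟨(x_isUnit D hD (D.neg r.val) (-t⁻¹)).unit, IsUnit.unit_spec _⟩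
      obtain ⟨Y1, hY1⟩ : ∃ X : GL D.Idx F, (X : Matrix D.Idx D.Idx F) = D.x F (D.neg r.val) 1 :=
        ⟨(x_isUnit D hD (D.neg r.val) 1).unit, IsUnit.unit_spec _⟩
      obtain ⟨Ym, hYm⟩ : ∃ X : GL D.Idx F, (X : Matrix D.Idx D.Idx F) = D.x F (D.neg r.val) (-1) :=
        ⟨(x_isUnit D hD (D.neg r.val) (-1)).unit, IsUnit.unit_spec _⟩
      obtain ⟨Z1, hZ1⟩ : ∃ X : GL D.Idx F, (X : Matrix D.Idx D.Idx F) = D.x F r.val 1 :=
        ⟨(x_isUnit D hD r.val 1).unit, IsUnit.unit_spec _⟩
      obtain ⟨Zm, hZm⟩ : ∃ X : GL D.Idx F, (X : Matrix D.Idx D.Idx F) = D.x F r.val (-1) :=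
        ⟨(x_isUnit D hD r.val (-1)).unit, IsUnit.unit_spec _⟩
      have hnc : ((X * g * X : GL D.Idx F) : Matrix D.Idx D.Idx F) =
          D.nMat F (D.neg r.val) (-t⁻¹) := by
        rw [nMat_eq, Units.val_mul, Units.val_mul, hX, hxr, hnn, hct]
      have hn1 : ((Y1 * Zm * Y1 : GL D.Idx F) : Matrix D.Idx D.Idx F) =
          D.nMat F (D.neg r.val) 1 := by
        rw [nMat_eq, Units.val_mul, Units.val_mul, hY1, hZm, hnn, e2]
      have hnm : ((Ym * Z1 * Ym : GL D.Idx F) : Matrix D.Idx D.Idx F) =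
          D.nMat F (D.neg r.val) (-1) := by
        rw [nMat_eq, Units.val_mul, Units.val_mul, hYm, hZ1, hnn, e1]
      have hhc : ((X * g * X * (Ym * Z1 * Ym) : GL D.Idx F) : Matrix D.Idx D.Idx F) =
          D.hMat F (D.neg r.val) (-t⁻¹) := by
        rw [hMat_eq, Units.val_mul, hnc, hnm]
      have hh1 : ((Y1 * Zm * Y1 * (Ym * Z1 * Ym) : GL D.Idx F) : Matrix D.Idx D.Idx F) =
          D.hMat F (D.neg r.val) 1 := by
        rw [hMat_eq, Units.val_mul, hn1, hnm]
      have mhc : X * g * X * (Ym * Z1 * Ym) ∈ D.monomialSubgroup F := by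
        apply hHN
        unfold ChevalleyDatum.diagonalSubgroup
        exact Subgroup.subset_closure ⟨D.neg r.val, -t⁻¹, hr', hc0, hhc⟩
      have mh1 : Y1 * Zm * Y1 * (Ym * Z1 * Ym) ∈ D.monomialSubgroup F := by
        apply hHN
        unfold ChevalleyDatum.diagonalSubgroup
        exact Subgroup.subset_closure ⟨D.neg r.val, 1, hr', one_ne_zero, hh1⟩
      have mn1 : Y1 * Zm * Y1 ∈ D.monomialSubgroup F := by
        unfold ChevalleyDatum.monomialSubgroup
        exact (le_sup_right : Subgroup.closure _ ≤ D.diagonalSubgroup F ⊔ _)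
          (Subgroup.subset_closure ⟨D.neg r.val, hr', hn1⟩)
      have mnm : Ym * Z1 * Ym ∈ D.monomialSubgroup F := by
        have h5 := mul_mem (inv_mem mn1) mh1
        rwa [inv_mul_cancel_left] at h5
      have mnc : X * g * X ∈ D.monomialSubgroup F := by
        have h5 := mul_mem mhc (inv_mem mnm)
        rwa [mul_inv_cancel_right] at h5
      have mX : X ∈ D.borelSubgroup F ⊔ D.monomialSubgroup F := by
        apply hUB
        unfold ChevalleyDatum.posUnipotent
        exact Subgroup.subset_closure ⟨D.neg r.val, -t⁻¹, hpos', hX⟩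
      have mnc' : X * g * X ∈ D.borelSubgroup F ⊔ D.monomialSubgroup F :=
        (le_sup_right : D.monomialSubgroup F ≤ _) mnc
      have h6 : g = X⁻¹ * (X * g * X) * X⁻¹ := by group
      rw [h6]
      exact mul_mem (mul_mem (inv_mem mX) mnc') (inv_mem mX)

end Cfsg.Agent.S1043
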