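import Mathlib
import Cfsg.Statements.S1080

set_option autoImplicit false
open Cfsg

namespace Cfsg.Agent.S1080

open Cfsg.Lie Matrix

/-- Entrywise application of a ring hom to `x_r(t)` gives `x_r(f t)`. -/
theorem xMat_map {F : Type*} [Field F] (D : Cfsg.Lie.ChevalleyDatum) (f : F →+* F)
    (r : Fin D.nroots) (t : F) (row col : D.Idx) :
    f (D.xMat F r t row col) = D.xMat F r (f t) row col := by
  rcases col with i | s
  · rcases row with i' | u
    · simp only [ChevalleyDatum.xMat, Matrix.of_apply]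
      split_ifs <;> simp
    · simp only [ChevalleyDatum.xMat, Matrix.of_apply]
      split_ifs <;> simp
  · rcases row with i | u
    · simp only [ChevalleyDatum.xMat, Matrix.of_apply]
      split_ifs <;> simp
    · simp only [ChevalleyDatum.xMat, Matrix.of_apply]
      split_ifs
      all_goals try simp
      all_goals
        rw [map_list_sum, List.map_map]
        congr 1
        apply List.map_congr_left
        intro km _
        simp

theorem result {F : Type*} [Field F] (D : Cfsg.Lie.ChevalleyDatum) (hD : D ∈ [Cfsg.Lie.chevG2, Cfsg.Lie.chevB2, Cfsg.Lie.chevD4, Cfsg.Lie.chevF4, Cfsg.Lie.chevE6, Cfsg.Lie.chevE7, Cfsg.Lie.chevE8]) (f : F ≃+* F) :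
    ∃ α : ↥(D.group F) ≃* ↥(D.group F), ∀ (g : ↥(D.group F)) (r : ℕ) (t : F), r < D.nroots →
      ((g : GL D.Idx F) : Matrix D.Idx D.Idx F) = D.x F r t → ((α g : GL D.Idx F) : Matrix D.Idx D.Idx F) = D.x F r (f t) := by
  classical
  let φ : GL D.Idx F →* GL D.Idx F := GeneralLinearGroup.map (f : F →+* F)
  let ψ : GL D.Idx F →* GL D.Idx F := GeneralLinearGroup.map (f.symm : F →+* F)
  have hφψ : ∀ g, φ (ψ g) = g := by
    intro g
    apply Units.ext
    ext i j
    simp [φ, ψ, GeneralLinearGroup.map_apply]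
  have hψφ : ∀ g, ψ (φ g) = g := by
    intro g
    apply Units.ext
    ext i j
    simp [φ, ψ, GeneralLinearGroup.map_apply]
  have hgen : ∀ (h : F →+* F) (g : GL D.Idx F) (r : Fin D.nroots) (t : F),
      (g : Matrix D.Idx D.Idx F) = D.xMat F r t →
      ((GeneralLinearGroup.map h g : GL D.Idx F) : Matrix D.Idx D.Idx F) = D.xMat F r (h t) := by
    intro h g r t hg
    ext i j
    rw [GeneralLinearGroup.map_apply, hg, xMat_map]
  have hmem : ∀ (h : F →+* F), D.group F ≤ (D.group F).comap (GeneralLinearGroup.map h) := by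
    intro h
    unfold ChevalleyDatum.group
    rw [Subgroup.closure_le]
    rintro g ⟨r, t, hg⟩
    rw [SetLike.mem_coe, Subgroup.mem_comap]
    apply Subgroup.subset_closure
    exact ⟨r, h t, hgen h g r t hg⟩
  let α : ↥(D.group F) ≃* ↥(D.group F) :=
    { toFun := fun g => ⟨φ g.1, hmem _ g.2⟩
      invFun := fun g => ⟨ψ g.1, hmem _ g.2⟩
      left_inv := fun g => Subtype.ext (hψφ g.1)
      right_inv := fun g => Subtype.ext (hφψ g.1)
      map_mul' := fun a b => Subtype.ext (map_mul φ a.1 b.1) }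
  refine ⟨α, ?_⟩
  intro g r t hr hg
  unfold ChevalleyDatum.x at hg ⊢
  rw [dif_pos hr] at hg ⊢
  exact hgen (f : F →+* F) g.1 ⟨r, hr⟩ t hg

end Cfsg.Agent.S1080
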