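import Cfsg.Statements.S1092
import Cfsg.Agent.Lib.Helper8_CoxOrder
import Cfsg.Agent.Lib.Helper8_CoxB2Data
import Cfsg.Agent.Lib.Helper8_CoxB2States
import Cfsg.Agent.Lib.Helper8_CoxB2Seg0
import Cfsg.Agent.Lib.Helper8_CoxG2Data
import Cfsg.Agent.Lib.Helper8_CoxG2States
import Cfsg.Agent.Lib.Helper8_CoxG2Seg0
import Cfsg.Agent.Lib.Helper8_CoxD4Data
import Cfsg.Agent.Lib.Helper8_CoxD4States
import Cfsg.Agent.Lib.Helper8_CoxD4Seg0
import Cfsg.Agent.Lib.Helper8_CoxF4Data
import Cfsg.Agent.Lib.Helper8_CoxF4States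
import Cfsg.Agent.Lib.Helper8_CoxF4Seg0

set_option autoImplicit false
open Cfsg

namespace Cfsg.Agent.S1092

open Cfsg.Agent.H8CE

section B2

open Cfsg.Agent.H8CoxB2

set_option maxRecDepth 100000 in
theorem hrelsB2 : rels = (List.finRange 2).flatMap fun i => (List.finRange 2).map fun j =>
    (List.replicate ((CoxeterMatrix.B 2 : CoxeterMatrix (Fin 2)) i j) [(i : ℕ), (j : ℕ)]).flatten := by
  decide +kernel

theorem hsubsB2 : subs = [] := by decide

theorem hInvB2 (G : Type) [Group G] (H : Subgroup G) (gen : ℕ → G) (h1 : ∀ x, gen x * gen x = 1)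
    (h2 : ∀ w ∈ rels, wprod gen w = 1) (h3' : ∀ w ∈ ([] : List (List ℕ)), wprod gen w ∈ H) :
    Inv H gen dp dx st1 := by
  have h3 : ∀ w ∈ subs, wprod gen w ∈ H := by rw [hsubsB2]; exact h3'
  have i0 : Inv H gen dp dx st0 := inv_init H gen dp dx 3
  have i1 := inv_seg h1 Cfsg.Agent.H8CoxB2.rels Cfsg.Agent.H8CoxB2.subs Cfsg.Agent.H8CoxB2.nr Cfsg.Agent.H8CoxB2.fuel Cfsg.Agent.H8CoxB2.cs h2 h3 Cfsg.Agent.H8CoxB2.chunks0 i0 Cfsg.Agent.H8CoxB2.seg0
  exact i1

set_option maxRecDepth 1000000 in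
theorem hinvolB2 : checkInvol pt 8 2 = true := by decide +kernel

set_option maxRecDepth 1000000 in
theorem hwordsB2 : rels.all (checkWord pt 8 2) = true := by decide +kernel

set_option maxRecDepth 1000000 in
theorem htransB2 : checkTrans pt bp bx 8 2 = true := by decide +kernel

set_option maxRecDepth 1000000 in
theorem htableB2 : checkTable st1 fuel canon pt 8 2 = true := by decide +kernel

theorem cardB2 : Nat.card (CoxeterMatrix.B 2 : CoxeterMatrix (Fin 2)).Group = 8 :=
  coxeter_card _ 8 rels hrelsB2 dp dx canon bp bx fuel pt st1 (by norm_num) hinvolB2 hwordsB2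
    htransB2 hInvB2 htableB2

end B2

section G2

open Cfsg.Agent.H8CoxG2

set_option maxRecDepth 100000 in
theorem hrelsG2 : rels = (List.finRange 2).flatMap fun i => (List.finRange 2).map fun j =>
    (List.replicate ((CoxeterMatrix.G₂ : CoxeterMatrix (Fin 2)) i j) [(i : ℕ), (j : ℕ)]).flatten := by
  decide +kernel

theorem hsubsG2 : subs = [] := by decide

theorem hInvG2 (G : Type) [Group G] (H : Subgroup G) (gen : ℕ → G) (h1 : ∀ x, gen x * gen x = 1)
    (h2 : ∀ w ∈ rels, wprod gen w = 1) (h3' : ∀ w ∈ ([] : List (List ℕ)), wprod gen w ∈ H) :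
    Inv H gen dp dx st1 := by
  have h3 : ∀ w ∈ subs, wprod gen w ∈ H := by rw [hsubsG2]; exact h3'
  have i0 : Inv H gen dp dx st0 := inv_init H gen dp dx 3
  have i1 := inv_seg h1 Cfsg.Agent.H8CoxG2.rels Cfsg.Agent.H8CoxG2.subs Cfsg.Agent.H8CoxG2.nr Cfsg.Agent.H8CoxG2.fuel Cfsg.Agent.H8CoxG2.cs h2 h3 Cfsg.Agent.H8CoxG2.chunks0 i0 Cfsg.Agent.H8CoxG2.seg0
  exact i1

set_option maxRecDepth 1000000 in
theorem hinvolG2 : checkInvol pt 12 2 = true := by decide +kernel

set_option maxRecDepth 1000000 in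
theorem hwordsG2 : rels.all (checkWord pt 12 2) = true := by decide +kernel

set_option maxRecDepth 1000000 in
theorem htransG2 : checkTrans pt bp bx 12 2 = true := by decide +kernel

set_option maxRecDepth 1000000 in
theorem htableG2 : checkTable st1 fuel canon pt 12 2 = true := by decide +kernel

theorem cardG2 : Nat.card (CoxeterMatrix.G₂ : CoxeterMatrix (Fin 2)).Group = 12 :=
  coxeter_card _ 12 rels hrelsG2 dp dx canon bp bx fuel pt st1 (by norm_num) hinvolG2 hwordsG2
    htransG2 hInvG2 htableG2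

end G2

section D4

open Cfsg.Agent.H8CoxD4

set_option maxRecDepth 100000 in
theorem hrelsD4 : rels = (List.finRange 4).flatMap fun i => (List.finRange 4).map fun j =>
    (List.replicate ((Cfsg.Lie.coxeterD4 : CoxeterMatrix (Fin 4)) i j) [(i : ℕ), (j : ℕ)]).flatten := by
  decide +kernel

theorem hsubsD4 : subs = [] := by decide

theorem hInvD4 (G : Type) [Group G] (H : Subgroup G) (gen : ℕ → G) (h1 : ∀ x, gen x * gen x = 1)
    (h2 : ∀ w ∈ rels, wprod gen w = 1) (h3' : ∀ w ∈ ([] : List (List ℕ)), wprod gen w ∈ H) :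
    Inv H gen dp dx st1 := by
  have h3 : ∀ w ∈ subs, wprod gen w ∈ H := by rw [hsubsD4]; exact h3'
  have i0 : Inv H gen dp dx st0 := inv_init H gen dp dx 5
  have i1 := inv_seg h1 Cfsg.Agent.H8CoxD4.rels Cfsg.Agent.H8CoxD4.subs Cfsg.Agent.H8CoxD4.nr Cfsg.Agent.H8CoxD4.fuel Cfsg.Agent.H8CoxD4.cs h2 h3 Cfsg.Agent.H8CoxD4.chunks0 i0 Cfsg.Agent.H8CoxD4.seg0
  exact i1

set_option maxRecDepth 1000000 in
theorem hinvolD4 : checkInvol pt 192 4 = true := by decide +kernel

set_option maxRecDepth 1000000 in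
theorem hwordsD4 : rels.all (checkWord pt 192 4) = true := by decide +kernel

set_option maxRecDepth 1000000 in
theorem htransD4 : checkTrans pt bp bx 192 4 = true := by decide +kernel

set_option maxRecDepth 1000000 in
theorem htableD4 : checkTable st1 fuel canon pt 192 4 = true := by decide +kernel

theorem cardD4 : Nat.card (Cfsg.Lie.coxeterD4 : CoxeterMatrix (Fin 4)).Group = 192 :=
  coxeter_card _ 192 rels hrelsD4 dp dx canon bp bx fuel pt st1 (by norm_num) hinvolD4 hwordsD4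
    htransD4 hInvD4 htableD4

end D4

section F4

open Cfsg.Agent.H8CoxF4

set_option maxRecDepth 100000 in
theorem hrelsF4 : rels = (List.finRange 4).flatMap fun i => (List.finRange 4).map fun j =>
    (List.replicate ((CoxeterMatrix.F₄ : CoxeterMatrix (Fin 4)) i j) [(i : ℕ), (j : ℕ)]).flatten := by
  decide +kernel

theorem hsubsF4 : subs = [] := by decide

theorem hInvF4 (G : Type) [Group G] (H : Subgroup G) (gen : ℕ → G) (h1 : ∀ x, gen x * gen x = 1)
    (h2 : ∀ w ∈ rels, wprod gen w = 1) (h3' : ∀ w ∈ ([] : List (List ℕ)), wprod gen w ∈ H) :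
    Inv H gen dp dx st1 := by
  have h3 : ∀ w ∈ subs, wprod gen w ∈ H := by rw [hsubsF4]; exact h3'
  have i0 : Inv H gen dp dx st0 := inv_init H gen dp dx 5
  have i1 := inv_seg h1 Cfsg.Agent.H8CoxF4.rels Cfsg.Agent.H8CoxF4.subs Cfsg.Agent.H8CoxF4.nr Cfsg.Agent.H8CoxF4.fuel Cfsg.Agent.H8CoxF4.cs h2 h3 Cfsg.Agent.H8CoxF4.chunks0 i0 Cfsg.Agent.H8CoxF4.seg0
  exact i1

set_option maxRecDepth 1000000 in
theorem hinvolF4 : checkInvol pt 1152 4 = true := by decide +kernel

set_option maxRecDepth 1000000 in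
theorem hwordsF4 : rels.all (checkWord pt 1152 4) = true := by decide +kernel

set_option maxRecDepth 1000000 in
theorem htransF4 : checkTrans pt bp bx 1152 4 = true := by decide +kernel

set_option maxRecDepth 1000000 in
theorem htableF4 : checkTable st1 fuel canon pt 1152 4 = true := by decide +kernel

theorem cardF4 : Nat.card (CoxeterMatrix.F₄ : CoxeterMatrix (Fin 4)).Group = 1152 :=
  coxeter_card _ 1152 rels hrelsF4 dp dx canon bp bx fuel pt st1 (by norm_num) hinvolF4 hwordsF4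
    htransF4 hInvF4 htableF4

end F4

/-- orders of the Coxeter groups of types B₂, G₂, D₄, F₄ -/
theorem result (p : (Σ n : ℕ, CoxeterMatrix (Fin n)) × ℕ)
    (hp : p ∈ [(⟨2, CoxeterMatrix.B 2⟩, 8), (⟨2, CoxeterMatrix.G₂⟩, 12), (⟨4, Cfsg.Lie.coxeterD4⟩, 192), (⟨4, CoxeterMatrix.F₄⟩, 1152)]) :
    Nat.card p.1.2.Group = p.2 := by
  simp only [List.mem_cons, List.mem_nil_iff, or_false] at hp
  rcases hp with rfl | rfl | rfl | rfl
  · exact cardB2
  · exact cardG2
  · exact cardD4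
  · exact cardF4

end Cfsg.Agent.S1092
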