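import Cfsg.Statements.S1093
import Cfsg.Agent.Lib.Helper8_CoxOrder
import Cfsg.Agent.Lib.Helper8_CoxChain
import Cfsg.Agent.Lib.Helper8_CoxD5Data
import Cfsg.Agent.Lib.Helper8_CoxD5States
import Cfsg.Agent.Lib.Helper8_CoxD5Seg0
import Cfsg.Agent.Lib.Helper8_CoxE6Data
import Cfsg.Agent.Lib.Helper8_CoxE6States
import Cfsg.Agent.Lib.Helper8_CoxE6Seg0
import Cfsg.Agent.Lib.Helper8_CoxE7Data
import Cfsg.Agent.Lib.Helper8_CoxE7States
import Cfsg.Agent.Lib.Helper8_CoxE7Seg0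
import Cfsg.Agent.Lib.Helper8_CoxE8Data
import Cfsg.Agent.Lib.Helper8_CoxE8States
import Cfsg.Agent.Lib.Helper8_CoxE8Seg0

set_option autoImplicit false
open Cfsg

namespace Cfsg.Agent.S1093

open Cfsg.Agent.H8CE

set_option backward.isDefEq.respectTransparency false in
/-- the Coxeter matrix of the parabolic subgroup of type `D₅` on the first five nodes of `E₆` -/
def coxD5 : CoxeterMatrix (Fin 5) where
  M := !![1, 2, 3, 2, 2;
          2, 1, 2, 3, 2;
          3, 2, 1, 3, 2;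
          2, 3, 3, 1, 3;
          2, 2, 2, 3, 1]

section D5

open Cfsg.Agent.H8CoxD5

set_option maxRecDepth 100000 in
theorem hrelsD5 : rels = (List.finRange 5).flatMap fun i => (List.finRange 5).map fun j =>
    (List.replicate ((coxD5 : CoxeterMatrix (Fin 5)) i j) [(i : ℕ), (j : ℕ)]).flatten := by
  decide +kernel

theorem hsubsD5 : subs = [] := by decide

theorem hInvD5 (G : Type) [Group G] (H : Subgroup G) (gen : ℕ → G) (h1 : ∀ x, gen x * gen x = 1)
    (h2 : ∀ w ∈ rels, wprod gen w = 1) (h3' : ∀ w ∈ ([] : List (List ℕ)), wprod gen w ∈ H) :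
    Inv H gen dp dx st2 := by
  have h3 : ∀ w ∈ subs, wprod gen w ∈ H := by rw [hsubsD5]; exact h3'
  have i0 : Inv H gen dp dx st0 := inv_init H gen dp dx 6
  have i1 := inv_seg h1 Cfsg.Agent.H8CoxD5.rels Cfsg.Agent.H8CoxD5.subs Cfsg.Agent.H8CoxD5.nr Cfsg.Agent.H8CoxD5.fuel Cfsg.Agent.H8CoxD5.cs h2 h3 Cfsg.Agent.H8CoxD5.chunks0 i0 Cfsg.Agent.H8CoxD5.seg0
  have i2 := inv_seg h1 Cfsg.Agent.H8CoxD5.rels Cfsg.Agent.H8CoxD5.subs Cfsg.Agent.H8CoxD5.nr Cfsg.Agent.H8CoxD5.fuel Cfsg.Agent.H8CoxD5.cs h2 h3 Cfsg.Agent.H8CoxD5.chunks1 i1 Cfsg.Agent.H8CoxD5.seg1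
  exact i2

set_option maxRecDepth 1000000 in
theorem hinvolD5 : checkInvol pt 1920 5 = true := by decide +kernel

set_option maxRecDepth 1000000 in
theorem hwordsD5 : rels.all (checkWord pt 1920 5) = true := by decide +kernel

set_option maxRecDepth 1000000 in
theorem htransD5 : checkTrans pt bp bx 1920 5 = true := by decide +kernel

set_option maxRecDepth 1000000 in
theorem htableD5 : checkTable st2 fuel canon pt 1920 5 = true := by decide +kernel

theorem cardD5 : Nat.card coxD5.Group = 1920 :=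
  coxeter_card _ 1920 rels hrelsD5 dp dx canon bp bx fuel pt st2 (by norm_num) hinvolD5 hwordsD5
    htransD5 hInvD5 htableD5

end D5

section E6

open Cfsg.Agent.H8CoxE6

set_option maxRecDepth 100000 in
theorem hrelsE6 : rels = (List.finRange 6).flatMap fun i => (List.finRange 6).map fun j =>
    (List.replicate ((CoxeterMatrix.E₆ : CoxeterMatrix (Fin 6)) i j) [(i : ℕ), (j : ℕ)]).flatten := by
  decide +kernel

theorem hsubsE6 : subs = (List.range 5).map fun j => [j] := by decide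

theorem hInvE6 (G : Type) [Group G] (H : Subgroup G) (gen : ℕ → G) (h1 : ∀ x, gen x * gen x = 1)
    (h2 : ∀ w ∈ rels, wprod gen w = 1) (h3 : ∀ w ∈ subs, wprod gen w ∈ H) :
    Inv H gen dp dx st1 := by
  have i0 : Inv H gen dp dx st0 := inv_init H gen dp dx 7
  have i1 := inv_seg h1 Cfsg.Agent.H8CoxE6.rels Cfsg.Agent.H8CoxE6.subs Cfsg.Agent.H8CoxE6.nr Cfsg.Agent.H8CoxE6.fuel Cfsg.Agent.H8CoxE6.cs h2 h3 Cfsg.Agent.H8CoxE6.chunks0 i0 Cfsg.Agent.H8CoxE6.seg0
  exact i1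

set_option maxRecDepth 1000000 in
theorem hinvolE6 : checkInvol pt 27 6 = true := by decide +kernel

set_option maxRecDepth 1000000 in
theorem hwordsE6 : rels.all (checkWord pt 27 6) = true := by decide +kernel

set_option maxRecDepth 1000000 in
theorem htransE6 : checkTrans pt bp bx 27 6 = true := by decide +kernel

set_option maxRecDepth 1000000 in
theorem htableE6 : checkTable st1 fuel canon pt 27 6 = true := by decide +kernel

set_option maxRecDepth 1000000 in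
theorem hsub0E6 : (List.range 5).all (fun j => Nat.beq (dig (nth pt j) 0) 0) = true := by
  decide +kernel

def levelsE6 : List (ℕ × List (ℕ × ℕ) × List ℕ) :=
  [(0, [(0, 5), (1, 4), (2, 3), (3, 1), (3, 2), (4, 2), (5, 0), (6, 0), (6, 3), (8, 3), (9, 4), (10, 2), (10, 4), (11, 5), (12, 4), (13, 5), (15, 3), (15, 5), (17, 1), (17, 5), (19, 5), (20, 4), (21, 4), (23, 3), (24, 2), (25, 0)], [0, 1, 2, 3, 4]), (1, [(1, 4), (2, 3), (3, 1), (3, 2), (4, 2), (5, 0), (6, 0), (6, 3), (8, 3), (9, 4), (10, 2), (10, 4), (12, 4), (15, 3), (17, 1)], [0, 1, 2, 3]), (2, [(2, 3), (3, 1), (3, 2), (4, 2), (5, 0), (6, 0), (6, 3), (8, 3), (10, 2)], [0, 1, 2]), (3, [(3, 1), (3, 2), (4, 2), (5, 0), (6, 0)], [0]), (5, [(5, 0)], [])]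

set_option maxRecDepth 1000000 in
theorem hchainE6 : 27 * 1920 ≤ chainLB pt 27 6 (List.range 6) levelsE6 := by decide +kernel

theorem hsubE6 : ∀ i j : Fin 5, (coxD5 : CoxeterMatrix (Fin 5)) i j =
    (CoxeterMatrix.E₆ : CoxeterMatrix (Fin 6)) (Fin.castLE (by norm_num) i) (Fin.castLE (by norm_num) j) := by
  intro i j
  fin_cases i <;> fin_cases j <;> rfl

theorem cardE6 : Nat.card (CoxeterMatrix.E₆ : CoxeterMatrix (Fin 6)).Group = 51840 := by
  have h := coxeter_step (CoxeterMatrix.E₆ : CoxeterMatrix (Fin 6)) (coxD5 : CoxeterMatrix (Fin 5)) (by norm_num)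
    hsubE6 1920 (by norm_num) cardD5 27 rels subs hrelsE6 hsubsE6 dp dx canon bp bx fuel pt
    st1 (by norm_num) hinvolE6 hwordsE6 htransE6 hsub0E6 hInvE6 htableE6
    levelsE6 hchainE6
  rw [h]

end E6

section E7

open Cfsg.Agent.H8CoxE7

set_option maxRecDepth 100000 in
theorem hrelsE7 : rels = (List.finRange 7).flatMap fun i => (List.finRange 7).map fun j =>
    (List.replicate ((CoxeterMatrix.E₇ : CoxeterMatrix (Fin 7)) i j) [(i : ℕ), (j : ℕ)]).flatten := by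
  decide +kernel

theorem hsubsE7 : subs = (List.range 6).map fun j => [j] := by decide

theorem hInvE7 (G : Type) [Group G] (H : Subgroup G) (gen : ℕ → G) (h1 : ∀ x, gen x * gen x = 1)
    (h2 : ∀ w ∈ rels, wprod gen w = 1) (h3 : ∀ w ∈ subs, wprod gen w ∈ H) :
    Inv H gen dp dx st1 := by
  have i0 : Inv H gen dp dx st0 := inv_init H gen dp dx 8
  have i1 := inv_seg h1 Cfsg.Agent.H8CoxE7.rels Cfsg.Agent.H8CoxE7.subs Cfsg.Agent.H8CoxE7.nr Cfsg.Agent.H8CoxE7.fuel Cfsg.Agent.H8CoxE7.cs h2 h3 Cfsg.Agent.H8CoxE7.chunks0 i0 Cfsg.Agent.H8CoxE7.seg0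
  exact i1

set_option maxRecDepth 1000000 in
theorem hinvolE7 : checkInvol pt 56 7 = true := by decide +kernel

set_option maxRecDepth 1000000 in
theorem hwordsE7 : rels.all (checkWord pt 56 7) = true := by decide +kernel

set_option maxRecDepth 1000000 in
theorem htransE7 : checkTrans pt bp bx 56 7 = true := by decide +kernel

set_option maxRecDepth 1000000 in
theorem htableE7 : checkTable st1 fuel canon pt 56 7 = true := by decide +kernel

set_option maxRecDepth 1000000 in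
theorem hsub0E7 : (List.range 6).all (fun j => Nat.beq (dig (nth pt j) 0) 0) = true := by
  decide +kernel

def levelsE7 : List (ℕ × List (ℕ × ℕ) × List ℕ) :=
  [(0, [(0, 6), (1, 5), (2, 4), (3, 3), (4, 1), (4, 2), (5, 2), (6, 0), (7, 0), (7, 3), (9, 3), (10, 4), (11, 2), (11, 4), (12, 5), (13, 4), (14, 5), (15, 6), (16, 3), (16, 5), (17, 6), (19, 1), (19, 5), (20, 6), (22, 5), (23, 4), (23, 6), (25, 4), (25, 6), (26, 6), (28, 3), (28, 6), (30, 5), (31, 2), (31, 6), (32, 5), (34, 0), (34, 6), (35, 5), (37, 6), (38, 5), (39, 4), (40, 5), (41, 4), (43, 4), (44, 3), (45, 3), (46, 1), (47, 1), (47, 2), (49, 2), (51, 3), (52, 4), (53, 5), (54, 6)], [0, 1, 2, 3, 4, 5]), (1, [(1, 5), (2, 4), (3, 3), (4, 1), (4, 2), (5, 2), (6, 0), (7, 0), (7, 3), (9, 3), (10, 4), (11, 2), (11, 4), (12, 5), (13, 4), (14, 5), (16, 3), (16, 5), (19, 1), (19, 5), (22, 5), (23, 4), (25, 4), (28, 3), (31, 2), (34, 0)], [0, 1, 2, 3, 4]), (2, [(2, 4), (3,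 3), (4, 1), (4, 2), (5, 2), (6, 0), (7, 0), (7, 3), (9, 3), (10, 4), (11, 2), (11, 4), (13, 4), (16, 3), (19, 1)], [0, 1, 2, 3]), (3, [(3, 3), (4, 1), (4, 2), (5, 2), (6, 0), (7, 0), (7, 3), (9, 3), (11, 2)], [0, 1, 2]), (4, [(4, 1), (4, 2), (5, 2), (6, 0), (7, 0)], [0]), (6, [(6, 0)], [])]

set_option maxRecDepth 1000000 in
theorem hchainE7 : 56 * 51840 ≤ chainLB pt 56 7 (List.range 7) levelsE7 := by decide +kernel

theorem hsubE7 : ∀ i j : Fin 6, (CoxeterMatrix.E₆ : CoxeterMatrix (Fin 6)) i j =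
    (CoxeterMatrix.E₇ : CoxeterMatrix (Fin 7)) (Fin.castLE (by norm_num) i) (Fin.castLE (by norm_num) j) := by
  intro i j
  fin_cases i <;> fin_cases j <;> rfl

theorem cardE7 : Nat.card (CoxeterMatrix.E₇ : CoxeterMatrix (Fin 7)).Group = 2903040 := by
  have h := coxeter_step (CoxeterMatrix.E₇ : CoxeterMatrix (Fin 7)) (CoxeterMatrix.E₆ : CoxeterMatrix (Fin 6)) (by norm_num)
    hsubE7 51840 (by norm_num) cardE6 56 rels subs hrelsE7 hsubsE7 dp dx canon bp bx fuel pt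
    st1 (by norm_num) hinvolE7 hwordsE7 htransE7 hsub0E7 hInvE7 htableE7
    levelsE7 hchainE7
  rw [h]

end E7

section E8

open Cfsg.Agent.H8CoxE8

set_option maxRecDepth 100000 in
theorem hrelsE8 : rels = (List.finRange 8).flatMap fun i => (List.finRange 8).map fun j =>
    (List.replicate ((CoxeterMatrix.E₈ : CoxeterMatrix (Fin 8)) i j) [(i : ℕ), (j : ℕ)]).flatten := by
  decide +kernel

theorem hsubsE8 : subs = (List.range 7).map fun j => [j] := by decide

theorem hInvE8 (G : Type) [Group G] (H : Subgroup G) (gen : ℕ → G) (h1 : ∀ x, gen x * gen x = 1)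
    (h2 : ∀ w ∈ rels, wprod gen w = 1) (h3 : ∀ w ∈ subs, wprod gen w ∈ H) :
    Inv H gen dp dx st1 := by
  have i0 : Inv H gen dp dx st0 := inv_init H gen dp dx 9
  have i1 := inv_seg h1 Cfsg.Agent.H8CoxE8.rels Cfsg.Agent.H8CoxE8.subs Cfsg.Agent.H8CoxE8.nr Cfsg.Agent.H8CoxE8.fuel Cfsg.Agent.H8CoxE8.cs h2 h3 Cfsg.Agent.H8CoxE8.chunks0 i0 Cfsg.Agent.H8CoxE8.seg0
  exact i1

set_option maxRecDepth 1000000 in
theorem hinvolE8 : checkInvol pt 240 8 = true := by decide +kernel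

set_option maxRecDepth 1000000 in
theorem hwordsE8 : rels.all (checkWord pt 240 8) = true := by decide +kernel

set_option maxRecDepth 1000000 in
theorem htransE8 : checkTrans pt bp bx 240 8 = true := by decide +kernel

set_option maxRecDepth 1000000 in
theorem htableE8 : checkTable st1 fuel canon pt 240 8 = true := by decide +kernel

set_option maxRecDepth 1000000 in
theorem hsub0E8 : (List.range 7).all (fun j => Nat.beq (dig (nth pt j) 0) 0) = true := by
  decide +kernel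

def levelsE8 : List (ℕ × List (ℕ × ℕ) × List ℕ) :=
  [(0, [(0, 7), (1, 6), (2, 5), (3, 4), (4, 3), (5, 1), (5, 2), (6, 2), (7, 0), (8, 0), (8, 3), (10, 3), (11, 4), (12, 2), (12, 4), (13, 5), (14, 4), (15, 5), (16, 6), (17, 3), (17, 5), (18, 6), (19, 7), (20, 1), (20, 5), (21, 6), (22, 7), (24, 5), (25, 4), (25, 6), (26, 7), (28, 4), (28, 6), (29, 6), (30, 7), (32, 3), (32, 6), (33, 7), (34, 5), (34, 7), (36, 2), (36, 6), (37, 5), (37, 7), (39, 7), (41, 0), (41, 6), (42, 5), (42, 7), (43, 7), (45, 6), (46, 6), (47, 5), (47, 7), (48, 4), (48, 7), (50, 6), (52, 5), (52, 7), (53, 4), (53, 7), (55, 7), (56, 6), (58, 4), (58, 7), (60, 3), (60, 7), (61, 6), (62, 6), (64, 3), (64, 7), (65, 6), (66, 1), (66, 7), (67, 6), (69, 5), (70, 1), (70, 2), (70, 7), (71, 6), (73, 7), (74, 6), (75, 5), (77, 2), (77, 7), (78, 7), (79, 6), (80, 5), (81, 6), (82, 5), (84, 3), (84, 7), (85, 6), (86, 6), (87, 5), (89, 5), (90, 4), (91, 4), (91, 7),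 (92, 6), (93, 5), (94, 5), (95, 4), (96, 4), (98, 5), (98, 7), (99, 6), (100, 5), (101, 4), (102, 4), (104, 3), (105, 6), (105, 7), (106, 6), (107, 5), (108, 4), (109, 3), (110, 3), (111, 2), (112, 7), (113, 6), (114, 5), (115, 4), (116, 3), (117, 2), (118, 1), (119, 0), (120, 6), (121, 5), (122, 4), (123, 3), (124, 1), (124, 2), (125, 0), (128, 5), (129, 4), (130, 3), (131, 1), (131, 2), (132, 2), (133, 0), (135, 4), (136, 3), (137, 1), (137, 2), (138, 2), (139, 0), (140, 0), (142, 3), (143, 1), (143, 2), (144, 2), (145, 0), (146, 0), (146, 3), (149, 1), (149, 2), (150, 2), (151, 0), (152, 0), (152, 3), (154, 3), (156, 2), (157, 0), (158, 0), (158, 3), (160, 3), (161, 4), (162, 2), (163, 0), (163, 3), (165, 3), (166, 4), (167, 2), (167, 4), (170, 3), (171, 4), (172, 2), (172, 4), (173, 5), (174, 4), (176, 2), (176, 4), (177, 5), (178, 4), (179, 5), (181, 3), (182, 4), (183, 5), (184, 6), (185, 3), (185, 5), (187, 1), (188,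 3), (188, 5), (189, 6), (191, 1), (191, 5), (194, 1), (194, 5), (195, 6), (197, 5), (198, 4), (199, 5), (200, 4), (200, 6), (202, 4), (204, 4), (204, 6), (205, 6), (207, 3), (208, 3), (208, 6), (210, 5), (211, 2), (212, 2), (212, 6), (213, 5), (215, 0), (216, 0), (216, 6), (217, 5), (220, 6), (221, 5), (222, 4), (223, 5), (224, 4), (226, 4), (227, 3), (228, 3), (229, 1), (230, 1), (230, 2), (232, 2), (234, 3), (235, 4), (236, 5), (237, 6), (238, 7)], [0, 1, 2, 3, 4, 5, 6]), (1, [(1, 6), (2, 5), (3, 4), (4, 3), (5, 1), (5, 2), (6, 2), (7, 0), (8, 0), (8, 3), (10, 3), (11, 4), (12, 2), (12, 4), (13, 5), (14, 4), (15, 5), (16, 6), (17, 3), (17, 5), (18, 6), (20, 1), (20, 5), (21, 6), (24, 5), (25, 4), (25, 6), (28, 4), (28, 6), (29, 6), (32, 3), (32, 6), (34, 5), (36, 2), (36, 6), (37, 5), (41, 0), (41, 6), (42, 5), (46, 6), (47, 5), (48, 4), (52, 5), (53, 4), (58, 4), (60, 3), (64, 3), (66, 1), (70, 1), (70, 2), (77, 2), (84,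 3), (91, 4), (98, 5), (105, 6)], [0, 1, 2, 3, 4, 5]), (2, [(2, 5), (3, 4), (4, 3), (5, 1), (5, 2), (6, 2), (7, 0), (8, 0), (8, 3), (10, 3), (11, 4), (12, 2), (12, 4), (13, 5), (14, 4), (15, 5), (17, 3), (17, 5), (20, 1), (20, 5), (24, 5), (25, 4), (28, 4), (32, 3), (36, 2), (41, 0)], [0, 1, 2, 3, 4]), (3, [(3, 4), (4, 3), (5, 1), (5, 2), (6, 2), (7, 0), (8, 0), (8, 3), (10, 3), (11, 4), (12, 2), (12, 4), (14, 4), (17, 3), (20, 1)], [0, 1, 2, 3]), (4, [(4, 3), (5, 1), (5, 2), (6, 2), (7, 0), (8, 0), (8, 3), (10, 3), (12, 2)], [0, 1, 2]), (5, [(5, 1), (5, 2), (6, 2), (7, 0), (8, 0)], [0]), (7, [(7, 0)], [])]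

set_option maxRecDepth 1000000 in
theorem hchainE8 : 240 * 2903040 ≤ chainLB pt 240 8 (List.range 8) levelsE8 := by decide +kernel

theorem hsubE8 : ∀ i j : Fin 7, (CoxeterMatrix.E₇ : CoxeterMatrix (Fin 7)) i j =
    (CoxeterMatrix.E₈ : CoxeterMatrix (Fin 8)) (Fin.castLE (by norm_num) i) (Fin.castLE (by norm_num) j) := by
  intro i j
  fin_cases i <;> fin_cases j <;> rfl

theorem cardE8 : Nat.card (CoxeterMatrix.E₈ : CoxeterMatrix (Fin 8)).Group = 696729600 := by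
  have h := coxeter_step (CoxeterMatrix.E₈ : CoxeterMatrix (Fin 8)) (CoxeterMatrix.E₇ : CoxeterMatrix (Fin 7)) (by norm_num)
    hsubE8 2903040 (by norm_num) cardE7 240 rels subs hrelsE8 hsubsE8 dp dx canon bp bx fuel pt
    st1 (by norm_num) hinvolE8 hwordsE8 htransE8 hsub0E8 hInvE8 htableE8
    levelsE8 hchainE8
  rw [h]

end E8

/-- `|W(E₆)| = 51840`, `|W(E₇)| = 2903040`, `|W(E₈)| = 696729600` for Mathlib's presented Coxeter groups. -/
theorem result (p : (Σ n : ℕ, CoxeterMatrix (Fin n)) × ℕ)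
    (hp : p ∈ [(⟨6, CoxeterMatrix.E₆⟩, 51840), (⟨7, CoxeterMatrix.E₇⟩, 2903040), (⟨8, CoxeterMatrix.E₈⟩, 696729600)]) :
    Nat.card p.1.2.Group = p.2 := by
  simp only [List.mem_cons, List.mem_nil_iff, or_false] at hp
  rcases hp with rfl | rfl | rfl
  · exact cardE6
  · exact cardE7
  · exact cardE8

end Cfsg.Agent.S1093
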