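import Cfsg.Statements.S1094
import Cfsg.Agent.S1092
import Cfsg.Agent.S1093
import Cfsg.Agent.Lib.Helper8_CoxFaithful

set_option autoImplicit false
open Cfsg

namespace Cfsg.Agent.S1094

open Cfsg.Agent.H8CE

section B2

def levelsB2 : List (ℕ × List (ℕ × ℕ) × List ℕ) :=
  [(0, [(0, 0), (0, 1), (1, 1), (2, 0), (3, 0), (4, 1), (5, 1)], [])]

set_option maxRecDepth 1000000 in
theorem hchainB2 : 8 ≤ chainLB Cfsg.Agent.H8CoxB2.pt 8 2 (List.range 2) levelsB2 := by decide +kernel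

set_option maxRecDepth 1000000 in
theorem hordB2 : ordCheck Cfsg.Agent.H8CoxB2.pt 8 2 4 = true := by decide +kernel

theorem orderB2 : orderOf ((List.finRange 2).map (CoxeterMatrix.B 2 : CoxeterMatrix (Fin 2)).simple).prod = 4 :=
  coxeter_orderOf _ 8 8 (by norm_num) Cfsg.Agent.S1092.cardB2 Cfsg.Agent.H8CoxB2.rels Cfsg.Agent.S1092.hrelsB2
    Cfsg.Agent.H8CoxB2.pt Cfsg.Agent.S1092.hinvolB2 Cfsg.Agent.S1092.hwordsB2 levelsB2 hchainB2 4 (by norm_num) hordB2

end B2

section G2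

def levelsG2 : List (ℕ × List (ℕ × ℕ) × List ℕ) :=
  [(0, [(0, 0), (0, 1), (1, 1), (2, 0), (3, 0), (4, 1), (5, 1), (6, 0), (7, 0), (8, 1), (9, 1)], [])]

set_option maxRecDepth 1000000 in
theorem hchainG2 : 12 ≤ chainLB Cfsg.Agent.H8CoxG2.pt 12 2 (List.range 2) levelsG2 := by decide +kernel

set_option maxRecDepth 1000000 in
theorem hordG2 : ordCheck Cfsg.Agent.H8CoxG2.pt 12 2 6 = true := by decide +kernel

theorem orderG2 : orderOf ((List.finRange 2).map (CoxeterMatrix.G₂ : CoxeterMatrix (Fin 2)).simple).prod = 6 :=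
  coxeter_orderOf _ 12 12 (by norm_num) Cfsg.Agent.S1092.cardG2 Cfsg.Agent.H8CoxG2.rels Cfsg.Agent.S1092.hrelsG2
    Cfsg.Agent.H8CoxG2.pt Cfsg.Agent.S1092.hinvolG2 Cfsg.Agent.S1092.hwordsG2 levelsG2 hchainG2 6 (by norm_num) hordG2

end G2

section D4

def levelsD4 : List (ℕ × List (ℕ × ℕ) × List ℕ) :=
  [(0, [(0, 0), (0, 1), (0, 2), (0, 3), (1, 1), (1, 2), (1, 3), (2, 0), (2, 2), (2, 3), (3, 1), (3, 3), (4, 1), (5, 0), (5, 2), (5, 3), (6, 1), (6, 3), (7, 1), (8, 2), (8, 3), (9, 1), (9, 3), (10, 1), (11, 0), (11, 3), (12, 1), (13, 0), (13, 2), (14, 2), (14, 3), (15, 1), (15, 3), (16, 1), (17, 0), (17, 3), (18, 1), (19, 0), (19, 2), (20, 1), (20, 3), (21, 1), (22, 0), (22, 3), (23, 1), (24, 0), (24, 2), (25, 3), (26, 1), (27, 0), (27, 2), (28, 2), (30, 1), (30, 3), (31, 1), (32, 0), (32, 3), (33, 1), (34, 0), (34, 2), (35, 3), (36, 1), (37, 0), (37, 2), (38, 2), (40, 0), (40, 3), (41, 1), (42, 0), (42, 2), (43, 3), (44, 1), (45, 0), (45,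 2), (46, 2), (48, 1), (49, 0), (49, 2), (50, 2), (52, 1), (53, 0), (53, 3), (54, 1), (55, 0), (55, 2), (56, 3), (57, 1), (58, 0), (58, 2), (59, 2), (61, 1), (62, 0), (62, 2), (63, 2), (65, 1), (66, 3), (67, 1), (68, 0), (68, 2), (69, 2), (71, 1), (72, 0), (72, 2), (73, 2), (75, 1), (76, 0), (76, 2), (77, 2), (79, 1), (80, 3), (81, 3), (82, 1), (83, 0), (83, 2), (84, 2), (86, 1), (87, 0), (87, 2), (88, 2), (90, 1), (91, 0), (91, 2), (92, 2), (94, 1), (95, 3), (96, 1), (97, 0), (97, 2), (98, 2), (100, 1), (101, 0), (101, 2), (102, 2), (104, 1), (105, 3), (106, 2), (108, 1), (109, 3), (111, 1), (112, 0), (112, 2), (113, 2), (115, 1), (116, 0), (116, 2), (117, 2), (119, 1), (120, 3), (121, 2), (123, 1), (124, 3), (126, 0), (126, 2), (127, 2), (129, 1), (130, 3), (131, 2), (133, 1), (134, 3), (136, 1), (137, 3), (139, 0), (139, 2), (140, 2), (142, 1), (143, 3), (144, 2), (146, 1), (147, 3), (149, 1), (150, 3), (152, 2), (154, 1), (155, 3), (157,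 1), (158, 3), (160, 3), (162, 2), (164, 1), (165, 3), (167, 1), (168, 3), (170, 3), (172, 1), (173, 3), (175, 3), (178, 1), (179, 3), (181, 3), (184, 3), (187, 3)], [])]

set_option maxRecDepth 1000000 in
theorem hchainD4 : 192 ≤ chainLB Cfsg.Agent.H8CoxD4.pt 192 4 (List.range 4) levelsD4 := by decide +kernel

set_option maxRecDepth 1000000 in
theorem hordD4 : ordCheck Cfsg.Agent.H8CoxD4.pt 192 4 6 = true := by decide +kernel

theorem orderD4 : orderOf ((List.finRange 4).map (Cfsg.Lie.coxeterD4 : CoxeterMatrix (Fin 4)).simple).prod = 6 :=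
  coxeter_orderOf _ 192 192 (by norm_num) Cfsg.Agent.S1092.cardD4 Cfsg.Agent.H8CoxD4.rels Cfsg.Agent.S1092.hrelsD4
    Cfsg.Agent.H8CoxD4.pt Cfsg.Agent.S1092.hinvolD4 Cfsg.Agent.S1092.hwordsD4 levelsD4 hchainD4 6 (by norm_num) hordD4

end D4

section F4

def levelsF4 : List (ℕ × List (ℕ × ℕ) × List ℕ) :=
  [(0, [(0, 0), (0, 1), (0, 2), (0, 3), (1, 1), (1, 2), (1, 3), (2, 0), (2, 2), (2, 3), (3, 1), (3, 3), (4, 2), (5, 0), (5, 2), (5, 3), (6, 1), (6, 3), (7, 2), (8, 2), (8, 3), (9, 1), (9, 3), (10, 2), (11, 0), (11, 2), (11, 3), (12, 2), (13, 1), (14, 2), (14, 3), (15, 1), (15, 3), (16, 2), (17, 0), (17, 2), (17, 3), (18, 2), (19, 1), (20, 1), (20, 3), (21, 2), (22, 0), (22, 2), (22, 3), (23, 2), (24, 1), (25, 2), (25, 3), (26, 3), (27, 2), (28, 1), (29, 0), (29, 2), (30, 1), (30, 3), (31, 2), (32, 0), (32, 2), (32, 3), (33, 2), (34, 1), (35, 2), (35, 3), (36, 3), (37, 2), (38, 1), (39, 0), (39, 2), (40, 0), (40, 2), (40, 3), (41, 2), (42,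 1), (43, 2), (43, 3), (44, 3), (45, 2), (46, 1), (47, 0), (47, 2), (48, 1), (48, 3), (49, 2), (50, 2), (51, 1), (52, 0), (52, 2), (53, 2), (54, 3), (55, 0), (55, 2), (55, 3), (56, 2), (57, 1), (58, 2), (58, 3), (59, 3), (60, 2), (61, 1), (62, 0), (62, 2), (63, 1), (63, 3), (64, 2), (65, 2), (66, 1), (67, 0), (67, 2), (68, 2), (69, 3), (70, 2), (70, 3), (71, 3), (72, 2), (73, 1), (74, 0), (74, 2), (75, 1), (75, 3), (76, 2), (77, 2), (78, 1), (79, 0), (79, 2), (80, 2), (81, 3), (82, 2), (82, 3), (83, 2), (84, 1), (85, 1), (86, 0), (86, 2), (87, 2), (88, 3), (89, 1), (89, 3), (91, 2), (91, 3), (92, 3), (93, 2), (94, 1), (95, 0), (95, 2), (96, 1), (96, 3), (97, 2), (98, 2), (99, 1), (100, 0), (100, 2), (101, 2), (102, 3), (103, 2), (103, 3), (104, 2), (105, 1), (106, 1), (107, 0), (107, 2), (108, 2), (109, 3), (110, 1), (110, 3), (112, 1), (112, 3), (113, 2), (114, 2), (115, 1), (116, 0), (116, 2), (117, 2), (118, 3), (119, 2), (119, 3), (120,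 2), (121, 1), (122, 1), (123, 0), (123, 2), (124, 2), (125, 3), (126, 1), (126, 3), (128, 3), (129, 2), (130, 1), (131, 0), (131, 2), (132, 0), (132, 2), (133, 2), (134, 3), (135, 1), (135, 3), (137, 2), (137, 3), (139, 1), (139, 3), (140, 2), (141, 2), (142, 1), (143, 0), (143, 2), (144, 2), (145, 3), (146, 2), (146, 3), (147, 2), (148, 1), (149, 1), (150, 0), (150, 2), (151, 2), (152, 3), (153, 1), (153, 3), (155, 3), (156, 2), (157, 1), (158, 0), (158, 2), (159, 0), (159, 2), (160, 2), (161, 3), (162, 1), (162, 3), (164, 2), (164, 3), (166, 2), (166, 3), (167, 2), (168, 1), (169, 1), (170, 0), (170, 2), (171, 2), (172, 3), (173, 1), (173, 3), (175, 3), (176, 2), (177, 1), (178, 0), (178, 2), (179, 0), (179, 2), (180, 2), (181, 3), (182, 1), (182, 3), (184, 2), (184, 3), (186, 2), (187, 1), (188, 0), (188, 2), (189, 2), (190, 3), (191, 2), (192, 3), (193, 1), (193, 3), (195, 2), (195, 3), (197, 3), (198, 2), (199, 2), (199, 3), (200, 2),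 (201, 1), (202, 1), (203, 0), (203, 2), (204, 2), (205, 3), (206, 1), (206, 3), (208, 3), (209, 2), (210, 1), (211, 0), (211, 2), (212, 0), (212, 2), (213, 2), (214, 3), (215, 1), (215, 3), (217, 2), (217, 3), (219, 2), (220, 1), (221, 0), (221, 2), (222, 2), (223, 3), (224, 2), (225, 3), (226, 1), (226, 3), (228, 2), (228, 3), (230, 3), (231, 2), (232, 3), (233, 2), (234, 1), (235, 0), (235, 2), (236, 0), (236, 2), (237, 2), (238, 3), (239, 1), (239, 3), (241, 2), (241, 3), (243, 2), (244, 1), (245, 0), (245, 2), (246, 2), (247, 3), (248, 2), (249, 3), (250, 1), (250, 3), (252, 2), (252, 3), (254, 3), (255, 2), (256, 1), (257, 0), (257, 2), (258, 2), (259, 3), (260, 1), (260, 3), (262, 1), (262, 3), (264, 2), (264, 3), (266, 3), (267, 2), (268, 2), (269, 1), (270, 3), (271, 2), (272, 1), (273, 0), (273, 2), (274, 0), (274, 2), (275, 2), (276, 3), (277, 1), (277, 3), (279, 2), (279, 3), (281, 2), (282, 1), (283, 0), (283, 2), (284, 2), (285,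 3), (286, 2), (287, 3), (288, 1), (288, 3), (290, 2), (290, 3), (292, 3), (293, 2), (294, 1), (295, 0), (295, 2), (296, 2), (297, 3), (298, 1), (298, 3), (300, 1), (300, 3), (302, 2), (302, 3), (304, 3), (305, 2), (306, 2), (307, 1), (308, 2), (309, 1), (310, 0), (310, 2), (311, 2), (312, 3), (313, 2), (314, 3), (315, 1), (315, 3), (317, 2), (317, 3), (319, 3), (320, 2), (321, 1), (322, 0), (322, 2), (323, 2), (324, 3), (325, 1), (325, 3), (327, 1), (327, 3), (329, 2), (329, 3), (331, 3), (332, 2), (333, 2), (334, 1), (335, 0), (335, 2), (336, 2), (337, 3), (338, 1), (338, 3), (340, 2), (340, 3), (342, 2), (342, 3), (344, 3), (345, 2), (346, 2), (347, 1), (348, 1), (349, 0), (350, 2), (351, 1), (352, 0), (352, 2), (353, 2), (354, 3), (355, 2), (356, 3), (357, 1), (357, 3), (359, 2), (359, 3), (361, 3), (362, 2), (363, 1), (364, 0), (364, 2), (365, 2), (366, 3), (367, 1), (367, 3), (369, 1), (369, 3), (371, 2), (371, 3), (373, 3), (374, 2),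 (375, 2), (376, 1), (377, 0), (377, 2), (378, 2), (379, 3), (380, 1), (380, 3), (382, 2), (382, 3), (384, 2), (384, 3), (386, 3), (387, 2), (388, 2), (389, 1), (390, 1), (391, 0), (392, 1), (393, 0), (393, 2), (394, 2), (395, 3), (396, 1), (396, 3), (398, 1), (398, 3), (400, 2), (400, 3), (402, 3), (403, 2), (404, 2), (405, 1), (406, 0), (406, 2), (407, 2), (408, 3), (409, 1), (409, 3), (411, 2), (411, 3), (413, 2), (413, 3), (415, 3), (416, 2), (417, 2), (418, 1), (419, 1), (420, 0), (421, 2), (422, 3), (423, 1), (423, 3), (425, 2), (425, 3), (427, 3), (428, 2), (429, 3), (430, 2), (431, 2), (432, 1), (433, 1), (434, 0), (435, 0), (435, 2), (437, 1), (438, 0), (438, 2), (439, 2), (440, 3), (441, 1), (441, 3), (443, 1), (443, 3), (445, 2), (445, 3), (447, 3), (448, 2), (449, 2), (450, 1), (451, 0), (451, 2), (452, 2), (453, 3), (454, 1), (454, 3), (456, 2), (456, 3), (458, 2), (458, 3), (460, 3), (461, 2), (462, 2), (463, 1), (464, 1), (465,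 0), (466, 2), (467, 3), (468, 1), (468, 3), (470, 2), (470, 3), (472, 3), (473, 2), (474, 3), (475, 2), (476, 2), (477, 1), (478, 1), (479, 0), (480, 0), (480, 2), (482, 0), (482, 2), (483, 2), (484, 3), (485, 1), (485, 3), (487, 2), (487, 3), (489, 2), (489, 3), (491, 3), (492, 2), (493, 2), (494, 1), (495, 1), (496, 0), (497, 2), (498, 3), (499, 1), (499, 3), (501, 2), (501, 3), (503, 3), (504, 2), (505, 3), (506, 2), (507, 2), (508, 1), (509, 1), (510, 0), (511, 0), (511, 2), (513, 1), (513, 3), (515, 2), (515, 3), (517, 3), (518, 2), (519, 2), (520, 1), (521, 2), (522, 1), (523, 1), (524, 0), (525, 0), (525, 2), (527, 2), (529, 0), (529, 2), (530, 2), (531, 3), (532, 1), (532, 3), (534, 2), (534, 3), (536, 2), (536, 3), (538, 3), (539, 2), (540, 2), (541, 1), (542, 1), (543, 0), (544, 2), (545, 3), (546, 1), (546, 3), (548, 2), (548, 3), (550, 3), (551, 2), (552, 3), (553, 2), (554, 2), (555, 1), (556, 1), (557, 0), (558, 0), (558, 2),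 (560, 1), (560, 3), (562, 2), (562, 3), (564, 3), (565, 2), (566, 2), (567, 1), (568, 2), (569, 1), (570, 1), (571, 0), (572, 0), (572, 2), (574, 2), (576, 2), (577, 3), (578, 1), (578, 3), (580, 2), (580, 3), (582, 3), (583, 2), (584, 3), (585, 2), (586, 2), (587, 1), (588, 1), (589, 0), (590, 0), (590, 2), (592, 1), (592, 3), (594, 2), (594, 3), (596, 3), (597, 2), (598, 2), (599, 1), (600, 2), (601, 1), (602, 1), (603, 0), (604, 0), (604, 2), (606, 2), (608, 2), (608, 3), (610, 3), (611, 2), (612, 2), (613, 1), (614, 1), (615, 0), (616, 1), (617, 0), (618, 0), (618, 2), (620, 2), (622, 1), (623, 2), (624, 3), (625, 1), (625, 3), (627, 2), (627, 3), (629, 3), (630, 2), (631, 3), (632, 2), (633, 2), (634, 1), (635, 1), (636, 0), (637, 0), (637, 2), (639, 1), (639, 3), (641, 2), (641, 3), (643, 3), (644, 2), (645, 2), (646, 1), (647, 2), (648, 1), (649, 1), (650, 0), (651, 0), (651, 2), (653, 2), (655, 2), (655, 3), (657, 3), (658, 2), (659,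 2), (660, 1), (661, 1), (662, 0), (663, 1), (664, 0), (665, 0), (665, 2), (667, 2), (669, 1), (670, 1), (670, 3), (672, 2), (672, 3), (674, 3), (675, 2), (676, 2), (677, 1), (678, 2), (679, 1), (680, 1), (681, 0), (682, 0), (682, 2), (684, 2), (686, 2), (686, 3), (688, 3), (689, 2), (690, 2), (691, 1), (692, 1), (693, 0), (694, 1), (695, 0), (696, 0), (696, 2), (698, 2), (700, 1), (701, 3), (702, 2), (703, 2), (704, 1), (705, 1), (706, 0), (707, 0), (707, 2), (709, 0), (709, 2), (711, 2), (713, 1), (714, 2), (715, 1), (715, 3), (717, 2), (717, 3), (719, 3), (720, 2), (721, 2), (722, 1), (723, 2), (724, 1), (725, 1), (726, 0), (727, 0), (727, 2), (729, 2), (731, 2), (731, 3), (733, 3), (734, 2), (735, 2), (736, 1), (737, 1), (738, 0), (739, 1), (740, 0), (741, 0), (741, 2), (743, 2), (745, 1), (746, 3), (747, 2), (748, 2), (749, 1), (750, 1), (751, 0), (752, 0), (752, 2), (754, 0), (754, 2), (756, 2), (758, 1), (759, 2), (760, 2), (760, 3),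 (762, 3), (763, 2), (764, 2), (765, 1), (766, 1), (767, 0), (768, 1), (769, 0), (770, 0), (770, 2), (772, 2), (774, 1), (775, 3), (776, 2), (777, 2), (778, 1), (779, 1), (780, 0), (781, 0), (781, 2), (783, 0), (783, 2), (785, 2), (787, 1), (788, 2), (789, 2), (790, 1), (791, 1), (792, 0), (793, 0), (793, 2), (795, 2), (797, 2), (799, 1), (800, 2), (801, 3), (802, 2), (802, 3), (804, 3), (805, 2), (806, 2), (807, 1), (808, 1), (809, 0), (810, 1), (811, 0), (812, 0), (812, 2), (814, 2), (816, 1), (817, 3), (818, 2), (819, 2), (820, 1), (821, 1), (822, 0), (823, 0), (823, 2), (825, 0), (825, 2), (827, 2), (829, 1), (830, 2), (831, 2), (832, 1), (833, 1), (834, 0), (835, 0), (835, 2), (837, 2), (839, 2), (841, 1), (842, 2), (843, 3), (844, 3), (845, 2), (846, 2), (847, 1), (848, 1), (849, 0), (850, 0), (850, 2), (852, 0), (852, 2), (854, 2), (856, 1), (857, 2), (858, 2), (859, 1), (860, 1), (861, 0), (862, 0), (862, 2), (864, 2), (866, 2), (868,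 1), (869, 2), (870, 3), (871, 1), (872, 0), (873, 0), (873, 2), (875, 2), (877, 1), (878, 1), (879, 2), (880, 3), (882, 3), (883, 2), (884, 2), (885, 1), (886, 1), (887, 0), (888, 0), (888, 2), (890, 0), (890, 2), (892, 2), (894, 1), (895, 2), (896, 2), (897, 1), (898, 1), (899, 0), (900, 0), (900, 2), (902, 2), (904, 2), (906, 1), (907, 2), (908, 3), (909, 1), (910, 0), (911, 0), (911, 2), (913, 2), (915, 1), (916, 1), (917, 2), (918, 3), (920, 2), (921, 1), (922, 1), (923, 0), (924, 0), (924, 2), (926, 2), (928, 2), (930, 1), (931, 2), (932, 3), (933, 1), (934, 0), (935, 0), (935, 2), (937, 2), (939, 1), (940, 1), (941, 2), (942, 3), (944, 0), (944, 2), (946, 2), (948, 1), (949, 2), (950, 2), (951, 3), (953, 2), (954, 1), (955, 1), (956, 0), (957, 0), (957, 2), (959, 2), (961, 2), (963, 1), (964, 2), (965, 3), (966, 1), (967, 0), (968, 0), (968, 2), (970, 2), (972, 1), (973, 1), (974, 2), (975, 3), (977, 0), (977, 2), (979, 2), (981, 1),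 (982, 2), (983, 2), (984, 3), (986, 1), (987, 0), (988, 0), (988, 2), (990, 2), (992, 1), (993, 1), (994, 2), (995, 3), (997, 0), (997, 2), (999, 2), (1001, 1), (1002, 2), (1003, 2), (1004, 3), (1006, 2), (1008, 1), (1009, 2), (1010, 3), (1011, 3), (1013, 1), (1014, 0), (1015, 0), (1015, 2), (1017, 2), (1019, 1), (1020, 1), (1021, 2), (1022, 3), (1024, 0), (1024, 2), (1026, 2), (1028, 1), (1029, 2), (1030, 2), (1031, 3), (1033, 2), (1035, 1), (1036, 2), (1037, 3), (1038, 3), (1040, 0), (1040, 2), (1042, 2), (1044, 1), (1045, 2), (1046, 2), (1047, 3), (1049, 2), (1051, 1), (1052, 2), (1053, 3), (1054, 3), (1056, 1), (1057, 2), (1058, 3), (1061, 0), (1061, 2), (1063, 2), (1065, 1), (1066, 2), (1067, 2), (1068, 3), (1070, 2), (1072, 1), (1073, 2), (1074, 3), (1075, 3), (1077, 1), (1078, 2), (1079, 3), (1082, 2), (1084, 1), (1085, 2), (1086, 3), (1087, 3), (1089, 1), (1090, 2), (1091, 3), (1094, 2), (1095, 3), (1097, 2), (1099, 1), (1100, 2),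 (1101, 3), (1102, 3), (1104, 1), (1105, 2), (1106, 3), (1109, 2), (1110, 3), (1112, 1), (1113, 2), (1114, 3), (1117, 2), (1118, 3), (1120, 3), (1122, 1), (1123, 2), (1124, 3), (1127, 2), (1128, 3), (1130, 3), (1132, 2), (1133, 3), (1135, 3), (1138, 2), (1139, 3), (1141, 3), (1144, 3), (1147, 3)], [])]

set_option maxRecDepth 1000000 in
theorem hchainF4 : 1152 ≤ chainLB Cfsg.Agent.H8CoxF4.pt 1152 4 (List.range 4) levelsF4 := by decide +kernel

set_option maxRecDepth 1000000 in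
theorem hordF4 : ordCheck Cfsg.Agent.H8CoxF4.pt 1152 4 12 = true := by decide +kernel

theorem orderF4 : orderOf ((List.finRange 4).map (CoxeterMatrix.F₄ : CoxeterMatrix (Fin 4)).simple).prod = 12 :=
  coxeter_orderOf _ 1152 1152 (by norm_num) Cfsg.Agent.S1092.cardF4 Cfsg.Agent.H8CoxF4.rels Cfsg.Agent.S1092.hrelsF4
    Cfsg.Agent.H8CoxF4.pt Cfsg.Agent.S1092.hinvolF4 Cfsg.Agent.S1092.hwordsF4 levelsF4 hchainF4 12 (by norm_num) hordF4

end F4

section E6

theorem hchainE6 : 51840 ≤ chainLB Cfsg.Agent.H8CoxE6.pt 27 6 (List.range 6) Cfsg.Agent.S1093.levelsE6 :=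
  le_trans (by norm_num) Cfsg.Agent.S1093.hchainE6

set_option maxRecDepth 1000000 in
theorem hordE6 : ordCheck Cfsg.Agent.H8CoxE6.pt 27 6 12 = true := by decide +kernel

theorem orderE6 : orderOf ((List.finRange 6).map (CoxeterMatrix.E₆ : CoxeterMatrix (Fin 6)).simple).prod = 12 :=
  coxeter_orderOf _ 27 51840 (by norm_num) Cfsg.Agent.S1093.cardE6 Cfsg.Agent.H8CoxE6.rels Cfsg.Agent.S1093.hrelsE6
    Cfsg.Agent.H8CoxE6.pt Cfsg.Agent.S1093.hinvolE6 Cfsg.Agent.S1093.hwordsE6 Cfsg.Agent.S1093.levelsE6 hchainE6 12 (by norm_num) hordE6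

end E6

section E7

theorem hchainE7 : 2903040 ≤ chainLB Cfsg.Agent.H8CoxE7.pt 56 7 (List.range 7) Cfsg.Agent.S1093.levelsE7 :=
  le_trans (by norm_num) Cfsg.Agent.S1093.hchainE7

set_option maxRecDepth 1000000 in
theorem hordE7 : ordCheck Cfsg.Agent.H8CoxE7.pt 56 7 18 = true := by decide +kernel

theorem orderE7 : orderOf ((List.finRange 7).map (CoxeterMatrix.E₇ : CoxeterMatrix (Fin 7)).simple).prod = 18 :=
  coxeter_orderOf _ 56 2903040 (by norm_num) Cfsg.Agent.S1093.cardE7 Cfsg.Agent.H8CoxE7.rels Cfsg.Agent.S1093.hrelsE7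
    Cfsg.Agent.H8CoxE7.pt Cfsg.Agent.S1093.hinvolE7 Cfsg.Agent.S1093.hwordsE7 Cfsg.Agent.S1093.levelsE7 hchainE7 18 (by norm_num) hordE7

end E7

section E8

theorem hchainE8 : 696729600 ≤ chainLB Cfsg.Agent.H8CoxE8.pt 240 8 (List.range 8) Cfsg.Agent.S1093.levelsE8 :=
  le_trans (by norm_num) Cfsg.Agent.S1093.hchainE8

set_option maxRecDepth 1000000 in
theorem hordE8 : ordCheck Cfsg.Agent.H8CoxE8.pt 240 8 30 = true := by decide +kernel

theorem orderE8 : orderOf ((List.finRange 8).map (CoxeterMatrix.E₈ : CoxeterMatrix (Fin 8)).simple).prod = 30 :=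
  coxeter_orderOf _ 240 696729600 (by norm_num) Cfsg.Agent.S1093.cardE8 Cfsg.Agent.H8CoxE8.rels Cfsg.Agent.S1093.hrelsE8
    Cfsg.Agent.H8CoxE8.pt Cfsg.Agent.S1093.hinvolE8 Cfsg.Agent.S1093.hwordsE8 Cfsg.Agent.S1093.levelsE8 hchainE8 30 (by norm_num) hordE8

end E8

/-- the Coxeter numbers -/
theorem result (p : (Σ n : ℕ, CoxeterMatrix (Fin n)) × ℕ)
    (hp : p ∈ [(⟨2, CoxeterMatrix.B 2⟩, 4), (⟨2, CoxeterMatrix.G₂⟩, 6), (⟨4, Cfsg.Lie.coxeterD4⟩, 6), (⟨4, CoxeterMatrix.F₄⟩, 12),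
      (⟨6, CoxeterMatrix.E₆⟩, 12), (⟨7, CoxeterMatrix.E₇⟩, 18), (⟨8, CoxeterMatrix.E₈⟩, 30)]) :
    orderOf ((List.finRange p.1.1).map p.1.2.simple).prod = p.2 := by
  simp only [List.mem_cons, List.mem_nil_iff, or_false] at hp
  rcases hp with rfl | rfl | rfl | rfl | rfl | rfl | rfl
  · exact orderB2
  · exact orderG2
  · exact orderD4
  · exact orderF4
  · exact orderE6
  · exact orderE7
  · exact orderE8

end Cfsg.Agent.S1094
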