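import Cfsg.Statements.S1118
import Mathlib
import Cfsg.Agent.Lib.Helper5_RankOne

set_option autoImplicit false
open Cfsg

namespace Cfsg.Agent.S1118

open Cfsg.Agent.Lib.Helper5_RankOne

/-- In the rank-one set-up (`G` finite and doubly transitive on `Ω`, `t` an involution moving `a`, `Q` normal in `G_a` with `G_a = Q D`, `Q ⊓ D = 1` for the two-point stabiliser `D = G_a ⊓ G_{t • a}`, `|Q|` even, `|D|` odd), the normaliser of a subset of `Q` containing a non-identity element lies in `G_a`; consequently `N_G(Q) = N_G(G_a) = G_a`. -/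
theorem result {G Ω : Type*} [Group G] [Finite G] [MulAction G Ω] {a : Ω} {t : G} {Q : Subgroup G}
    (hS : Cfsg.IsRankOneSetup G Ω a t Q) :
    (∀ X : Set G, X ⊆ (Q : Set G) → (∃ x ∈ X, x ≠ 1) → Subgroup.normalizer X ≤ MulAction.stabilizer G a) ∧
      Subgroup.normalizer (Q : Set G) = MulAction.stabilizer G a ∧
      Subgroup.normalizer (MulAction.stabilizer G a : Set G) = MulAction.stabilizer G a := by
  have hN1 : ∀ X : Set G, X ⊆ (Q : Set G) → (∃ x ∈ X, x ≠ 1) →
      Subgroup.normalizer X ≤ MulAction.stabilizer G a := by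
    rintro X hXQ ⟨x, hxX, hx1⟩ g hg
    rw [Subgroup.mem_set_normalizer_iff] at hg
    have h1 : g * x * g⁻¹ ∈ X := (hg x).mp hxX
    have h2 : g * x * g⁻¹ ≠ 1 := by
      intro h
      apply hx1
      have : x = g⁻¹ * (g * x * g⁻¹) * g := by group
      rw [this, h]; group
    have h3 : (g * x * g⁻¹) • (g • a) = g • a := by
      rw [mul_smul, mul_smul, ← mul_smul g⁻¹, inv_mul_cancel, one_smul, RO.smul_mem hS (hXQ hxX)]
    exact MulAction.mem_stabilizer_iff.mpr (RO.fix_eq hS (hXQ h1) h2 h3)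
  obtain ⟨s, hsQ, hs1, -⟩ := RO.exists_ne_one hS
  refine ⟨hN1, le_antisymm (hN1 _ subset_rfl ⟨s, hsQ, hs1⟩) ?_, le_antisymm ?_ ?_⟩
  · intro g hg
    rw [Subgroup.mem_set_normalizer_iff]
    intro n
    constructor
    · exact fun hn => hS.conj_mem g hg n hn
    · intro hn
      have := hS.conj_mem g⁻¹ (inv_mem hg) _ hn
      have e : g⁻¹ * (g * n * g⁻¹) * g⁻¹⁻¹ = n := by group
      rwa [e] at this
  · intro g hg
    rw [Subgroup.mem_set_normalizer_iff] at hg
    have h1 : g * s * g⁻¹ ∈ MulAction.stabilizer G a := (hg s).mp (hS.le hsQ)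
    have h2 : s • (g⁻¹ • a) = g⁻¹ • a := by
      have := MulAction.mem_stabilizer_iff.mp h1
      calc s • g⁻¹ • a = (g⁻¹ * (g * s * g⁻¹)) • a := by
            rw [← mul_smul]; congr 1; group
        _ = g⁻¹ • a := by rw [mul_smul, this]
    have h3 := RO.fix_eq hS hsQ hs1 h2
    rw [MulAction.mem_stabilizer_iff]
    have := congrArg (fun c => g • c) h3
    simp only [← mul_smul, mul_inv_cancel, one_smul] at this
    exact this.symm
  · exact Subgroup.le_normalizer

end Cfsg.Agent.S1118
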