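import Cfsg.Statements.S1120
import Mathlib
import Cfsg.Agent.Lib.Helper5_RankOne

set_option autoImplicit false
open Cfsg

namespace Cfsg.Agent.S1120

open Cfsg.Agent.Lib.Helper5_RankOne

/-- In the rank-one set-up (`G` finite and doubly transitive on `Ω`, `t` an involution moving `a`, `Q` normal in `G_a` with `G_a = Q D`, `Q ⊓ D = 1` for the two-point stabiliser `D = G_a ⊓ G_{t • a}`, `|Q|` even, `|D|` odd), if `G` has 2-rank at least 2 then `O_{2'}(G)` equals the normal core of `G_a`. -/
theorem result {G Ω : Type*} [Group G] [Finite G] [MulAction G Ω] {a : Ω} {t : G} {Q : Subgroup G}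
    (hS : Cfsg.IsRankOneSetup G Ω a t Q)
    (h2 : ∃ x y : G, x ≠ 1 ∧ y ≠ 1 ∧ x ≠ y ∧ x * x = 1 ∧ y * y = 1 ∧ x * y = y * x) :
    Cfsg.pPrimeCore 2 G = (MulAction.stabilizer G a).normalCore := by
  unfold Cfsg.pPrimeCore
  apply le_antisymm
  · apply sSup_le
    rintro N ⟨hNn, hNc⟩
    haveI := hNn
    rw [Subgroup.normal_le_normalCore]
    apply RO.odd_normal_le hS h2 N
    rw [← Nat.not_even_iff_odd, even_iff_two_dvd]
    intro h
    have := Nat.Coprime.eq_one_of_dvd hNc.symm h
    omega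
  · apply le_sSup
    refine ⟨inferInstance, ?_⟩
    exact (Odd.coprime_two_left (RO.odd_card_normalCore hS)).symm

end Cfsg.Agent.S1120
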