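import Cfsg.Statements.S1122
import Mathlib
import Cfsg.Agent.Lib.Helper5_RankOne

set_option autoImplicit false
open Cfsg

namespace Cfsg.Agent.S1122

open Cfsg.Agent.Lib.Helper5_RankOne

/-- In the rank-one set-up (`G` finite and doubly transitive on `Ω`, `t` an involution moving `a`, `Q` normal in `G_a` with `G_a = Q D`, `Q ⊓ D = 1` for the two-point stabiliser `D = G_a ⊓ G_{t • a}`, `|Q|` even, `|D|` odd), with `K` the set of elements of `D` inverted by `t`: `|K|` is the number of involutions of `G_a`, and for each involution `s` of `G_a` the `K`-conjugates of `s` are all the involutions of `G_a`. -/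
theorem result {G Ω : Type*} [Group G] [Finite G] [MulAction G Ω] {a : Ω} {t : G} {Q : Subgroup G}
    (hS : Cfsg.IsRankOneSetup G Ω a t Q) :
    Nat.card (Cfsg.invertedBy (MulAction.stabilizer G a ⊓ MulAction.stabilizer G (t • a)) t) = Nat.card (Cfsg.involutionsIn (MulAction.stabilizer G a : Set G)) ∧
      ∀ s ∈ Cfsg.involutionsIn (MulAction.stabilizer G a : Set G), ∀ s' ∈ Cfsg.involutionsIn (MulAction.stabilizer G a : Set G),
        ∃ k ∈ Cfsg.invertedBy (MulAction.stabilizer G a ⊓ MulAction.stabilizer G (t • a)) t, k⁻¹ * s * k = s' := by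
  refine ⟨?_, fun s hs s' hs' => RO.K_surj hS hs hs'⟩
  obtain ⟨s₀, hs₀Q, hs₀1, hs₀2⟩ := RO.exists_ne_one hS
  have hs₀ : s₀ ∈ Cfsg.involutionsIn (MulAction.stabilizer G a : Set G) := ⟨hS.le hs₀Q, hs₀1, hs₀2⟩
  apply Nat.card_congr
  refine Equiv.ofBijective (fun k : Cfsg.invertedBy (MulAction.stabilizer G a ⊓ MulAction.stabilizer G (t • a)) t =>
    (⟨(k : G)⁻¹ * s₀ * (k : G), ?_⟩ : Cfsg.involutionsIn (MulAction.stabilizer G a : Set G))) ⟨?_, ?_⟩
  · have hkG := (Subgroup.mem_inf.mp k.2.1).1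
    refine ⟨mul_mem (mul_mem (inv_mem hkG) (hS.le hs₀Q)) hkG, ?_, ?_⟩
    · intro h
      apply hs₀1
      have : s₀ = (k : G) * ((k : G)⁻¹ * s₀ * (k : G)) * (k : G)⁻¹ := by group
      rw [this, h]; group
    · have : ((k : G)⁻¹ * s₀ * (k : G)) * ((k : G)⁻¹ * s₀ * (k : G)) = (k : G)⁻¹ * (s₀ * s₀) * (k : G) := by
        group
      rw [this, hs₀2]; group
  · intro k k' he
    exact Subtype.ext (RO.K_inj hS hs₀ k.2 k'.2 (congrArg Subtype.val he))
  · rintro ⟨s', hs'⟩
    obtain ⟨k, hk, hks⟩ := RO.K_surj hS hs₀ hs'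
    exact ⟨⟨k, hk⟩, Subtype.ext hks⟩

end Cfsg.Agent.S1122
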