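import Cfsg.Statements.S1127
import Mathlib
import Cfsg.Agent.Lib.Helper5_RankOne
import Cfsg.Agent.S1124

set_option autoImplicit false
open Cfsg

namespace Cfsg.Agent.S1127

open Cfsg.Agent.Lib.Helper5_RankOne

/-- In the rank-one set-up (`G` finite and doubly transitive on `Ω`, `t` an involution moving `a`, `Q` normal in `G_a` with `G_a = Q D`, `Q ⊓ D = 1` for the two-point stabiliser `D = G_a ⊓ G_{t • a}`, `|Q|` even, `|D|` odd): if `s` is an involution of `G_a` and `r ∈ Q` satisfy `t s t = r⁻¹ t r`, then `C_D(t) = C_D(s)`; moreover `C_D(t) ⊓ C_D(K) = C_D(I ∩ G_a)`, where `K` is the set of elements of `D` inverted by `t` and `I ∩ G_a` the set of involutions of `G_a`. -/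
theorem result {G Ω : Type*} [Group G] [Finite G] [MulAction G Ω] {a : Ω} {t : G} {Q : Subgroup G}
    (hS : Cfsg.IsRankOneSetup G Ω a t Q) :
    (∀ s r : G, s ∈ Cfsg.involutionsIn (MulAction.stabilizer G a : Set G) → r ∈ Q → t * s * t = r⁻¹ * t * r →
        (MulAction.stabilizer G a ⊓ MulAction.stabilizer G (t • a)) ⊓ Subgroup.centralizer {t} = (MulAction.stabilizer G a ⊓ MulAction.stabilizer G (t • a)) ⊓ Subgroup.centralizer {s}) ∧
      (MulAction.stabilizer G a ⊓ MulAction.stabilizer G (t • a)) ⊓ Subgroup.centralizer {t} ⊓ Subgroup.centralizer (Cfsg.invertedBy (MulAction.stabilizer G a ⊓ MulAction.stabilizer G (t • a)) t) =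
        (MulAction.stabilizer G a ⊓ MulAction.stabilizer G (t • a)) ⊓ Subgroup.centralizer (Cfsg.involutionsIn (MulAction.stabilizer G a : Set G)) := by
  classical
  have htinv : t⁻¹ = t := RO.t_inv hS
  have hot : orderOf t = 2 := by
    haveI : Fact (Nat.Prime 2) := ⟨Nat.prime_two⟩
    exact orderOf_eq_prime (by rw [pow_two]; exact hS.mul_self) hS.ne_one
  have hnorm : ∀ x ∈ MulAction.stabilizer G a ⊓ MulAction.stabilizer G (t • a),
      t * x * t⁻¹ ∈ MulAction.stabilizer G a ⊓ MulAction.stabilizer G (t • a) := by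
    intro x hx
    rw [htinv]; exact RO.t_mem_D hS hx
  have h24 := (Cfsg.Agent.S1124.result t hot _ hS.odd_card hnorm).2.1
  have hKpos : 0 < Nat.card (Cfsg.invertedBy (MulAction.stabilizer G a ⊓ MulAction.stabilizer G (t • a)) t) := by
    haveI : Nonempty (Cfsg.invertedBy (MulAction.stabilizer G a ⊓ MulAction.stabilizer G (t • a)) t) :=
      ⟨⟨1, one_mem _, by simp⟩⟩
    exact Nat.card_pos
  have part1 : ∀ s r : G, s ∈ Cfsg.involutionsIn (MulAction.stabilizer G a : Set G) → r ∈ Q →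
      t * s * t = r⁻¹ * t * r →
      (MulAction.stabilizer G a ⊓ MulAction.stabilizer G (t • a)) ⊓ Subgroup.centralizer {t} =
        (MulAction.stabilizer G a ⊓ MulAction.stabilizer G (t • a)) ⊓ Subgroup.centralizer {s} := by
    intro s r hs hr he
    apply Subgroup.eq_of_le_of_card_ge
    · intro d hd
      obtain ⟨hdD, hdt⟩ := Subgroup.mem_inf.mp hd
      refine Subgroup.mem_inf.mpr ⟨hdD, ?_⟩
      rw [Subgroup.mem_centralizer_iff]
      intro y hy
      rw [Set.mem_singleton_iff] at hy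
      rw [hy]
      exact RO.comm_s_of_comm_t hS hs hr he hdD (Subgroup.mem_centralizer_iff.mp hdt t rfl)
    · have h1 := RO.card_D_eq hS hs
      rw [h24] at h1
      exact le_of_eq (Nat.eq_of_mul_eq_mul_right hKpos h1).symm
  refine ⟨part1, ?_⟩
  obtain ⟨⟨s₀, r₀⟩, ⟨hs₀, hr₀, he₀⟩, -⟩ := RO.sr_unique hS
  simp only at hs₀ hr₀ he₀
  have hts := part1 s₀ r₀ hs₀ hr₀ he₀
  ext d
  constructor
  · intro hd
    obtain ⟨hd1, hdK⟩ := Subgroup.mem_inf.mp hd
    have hdD := (Subgroup.mem_inf.mp hd1).1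
    have hds : d ∈ (MulAction.stabilizer G a ⊓ MulAction.stabilizer G (t • a)) ⊓ Subgroup.centralizer {s₀} := by
      rw [← hts]; exact hd1
    have hds' : s₀ * d = d * s₀ := Subgroup.mem_centralizer_iff.mp (Subgroup.mem_inf.mp hds).2 s₀ rfl
    refine Subgroup.mem_inf.mpr ⟨hdD, ?_⟩
    rw [Subgroup.mem_centralizer_iff]
    intro s' hs'
    obtain ⟨k, hk, hks⟩ := RO.K_surj hS hs₀ hs'
    have hdk : k * d = d * k := Subgroup.mem_centralizer_iff.mp hdK k hk
    have hdk' : k⁻¹ * d = d * k⁻¹ := by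
      calc k⁻¹ * d = k⁻¹ * (d * k) * k⁻¹ := by group
        _ = k⁻¹ * (k * d) * k⁻¹ := by rw [hdk]
        _ = d * k⁻¹ := by group
    rw [← hks]
    calc k⁻¹ * s₀ * k * d = k⁻¹ * s₀ * (k * d) := by group
      _ = k⁻¹ * s₀ * (d * k) := by rw [hdk]
      _ = k⁻¹ * (s₀ * d) * k := by group
      _ = k⁻¹ * (d * s₀) * k := by rw [hds']
      _ = (k⁻¹ * d) * s₀ * k := by group
      _ = (d * k⁻¹) * s₀ * k := by rw [hdk']
      _ = d * (k⁻¹ * s₀ * k) := by group
  · intro hd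
    obtain ⟨hdD, hdI⟩ := Subgroup.mem_inf.mp hd
    have hda := (Subgroup.mem_inf.mp hdD).1
    have hcomm : ∀ s' ∈ Cfsg.involutionsIn (MulAction.stabilizer G a : Set G), s' * d = d * s' :=
      fun s' hs' => Subgroup.mem_centralizer_iff.mp hdI s' hs'
    have hds : d ∈ (MulAction.stabilizer G a ⊓ MulAction.stabilizer G (t • a)) ⊓ Subgroup.centralizer {s₀} := by
      refine Subgroup.mem_inf.mpr ⟨hdD, ?_⟩
      rw [Subgroup.mem_centralizer_iff]
      intro y hy
      rw [Set.mem_singleton_iff] at hy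
      rw [hy]; exact hcomm s₀ hs₀
    rw [← hts] at hds
    have hdt : t * d = d * t := Subgroup.mem_centralizer_iff.mp (Subgroup.mem_inf.mp hds).2 t rfl
    refine Subgroup.mem_inf.mpr ⟨hds, ?_⟩
    rw [Subgroup.mem_centralizer_iff]
    intro k hk
    obtain ⟨hkD, hkt⟩ := hk
    have hk' : d * k * d⁻¹ ∈ Cfsg.invertedBy (MulAction.stabilizer G a ⊓ MulAction.stabilizer G (t • a)) t := by
      refine ⟨mul_mem (mul_mem hdD hkD) (inv_mem hdD), ?_⟩
      have hdt' : t * d⁻¹ = d⁻¹ * t := by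
        calc t * d⁻¹ = d⁻¹ * (d * t) * d⁻¹ := by group
          _ = d⁻¹ * (t * d) * d⁻¹ := by rw [hdt]
          _ = d⁻¹ * t := by group
      calc t * (d * k * d⁻¹) * t⁻¹ = (t * d) * k * d⁻¹ * t⁻¹ := by group
        _ = (d * t) * k * d⁻¹ * t⁻¹ := by rw [hdt]
        _ = d * (t * k * t⁻¹) * (t * d⁻¹) * t⁻¹ := by group
        _ = d * k⁻¹ * (d⁻¹ * t) * t⁻¹ := by rw [hkt, hdt']
        _ = (d * k * d⁻¹)⁻¹ := by group
    have hsk : k⁻¹ * s₀ * k ∈ Cfsg.involutionsIn (MulAction.stabilizer G a : Set G) := by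
      have := RO.conj_mem_invol hS hs₀ (inv_mem (Subgroup.mem_inf.mp hkD).1)
      rwa [inv_inv] at this
    have h1 : (d * k * d⁻¹)⁻¹ * s₀ * (d * k * d⁻¹) = k⁻¹ * s₀ * k := by
      have e1 : d⁻¹ * s₀ * d = s₀ := by
        calc d⁻¹ * s₀ * d = d⁻¹ * (s₀ * d) := by group
          _ = d⁻¹ * (d * s₀) := by rw [hcomm s₀ hs₀]
          _ = s₀ := by group
      have e2 : d * (k⁻¹ * s₀ * k) * d⁻¹ = k⁻¹ * s₀ * k := by
        calc d * (k⁻¹ * s₀ * k) * d⁻¹ = (d * (k⁻¹ * s₀ * k)) * d⁻¹ := by group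
          _ = ((k⁻¹ * s₀ * k) * d) * d⁻¹ := by rw [hcomm _ hsk]
          _ = k⁻¹ * s₀ * k := by group
      calc (d * k * d⁻¹)⁻¹ * s₀ * (d * k * d⁻¹) = d * (k⁻¹ * (d⁻¹ * s₀ * d) * k) * d⁻¹ := by group
        _ = d * (k⁻¹ * s₀ * k) * d⁻¹ := by rw [e1]
        _ = k⁻¹ * s₀ * k := e2
    have h2 := RO.K_inj hS hs₀ hk' ⟨hkD, hkt⟩ h1
    calc k * d = (d * k * d⁻¹) * d := by rw [h2]
      _ = d * k := by group

end Cfsg.Agent.S1127
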