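import Cfsg.Statements.S1140
import Mathlib


set_option autoImplicit false
open Cfsg

namespace Cfsg.Agent.S1140

/-- For a finite field `F` of characteristic 2, the automorphisms of `F`, viewed as additive maps `F → F`, are linearly independent over `F` (acting on values) every additive endomorphism of `F` is an `F`-linear combination of them, and every biadditive map `F → F → F` is an `F`-combination of the maps `(x, y) ↦ σ(x) τ(y)`. -/
theorem result {F : Type*} [Field F] [Fintype F] [CharP F 2] :
    LinearIndependent F (fun σ : F ≃+* F => ((σ : F →+* F) : F → F)) ∧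
      (∀ f : F →+ F, ∃ (s : Finset (F ≃+* F)) (c : (F ≃+* F) → F), ∀ x : F, f x = ∑ σ ∈ s, c σ * σ x) ∧
      ∀ B : F →+ F →+ F, ∃ (s : Finset ((F ≃+* F) × (F ≃+* F))) (c : (F ≃+* F) × (F ≃+* F) → F),
        ∀ x y : F, B x y = ∑ p ∈ s, c p * (p.1 x * p.2 y) := by
  classical
  letI : Algebra (ZMod 2) F := ZMod.algebra F 2
  haveI : Finite (F ≃+* F) :=
    Finite.of_injective (fun σ : F ≃+* F => (σ : F → F)) (fun a b h => RingEquiv.ext (congrFun h))
  letI : Fintype (F ≃+* F) := Fintype.ofFinite _
  haveI : Nonempty (F ≃+* F) := ⟨RingEquiv.refl F⟩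
  -- Part 1
  have h1 : LinearIndependent F (fun σ : F ≃+* F => ((σ : F →+* F) : F → F)) := by
    have := linearIndependent_monoidHom F F
    exact this.comp (fun σ : F ≃+* F => ((σ : F →+* F) : F →* F)) (fun a b h => by
      ext x; exact DFunLike.congr_fun h x)
  -- the equiv with AlgHoms
  let toAlg : (F ≃+* F) → (F →ₐ[ZMod 2] F) := fun σ =>
    { (σ : F →+* F) with
      commutes' := fun r => by
        have : (σ : F →+* F).comp (algebraMap (ZMod 2) F) = algebraMap (ZMod 2) F :=
          Subsingleton.elim _ _
        exact RingHom.congr_fun this r }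
  have toAlg_apply : ∀ σ x, toAlg σ x = σ x := fun _ _ => rfl
  have toAlg_bij : Function.Bijective toAlg := by
    constructor
    · intro a b h
      ext x
      have := DFunLike.congr_fun h x
      simpa [toAlg_apply] using this
    · intro φ
      have hb : Function.Bijective φ :=
        Finite.injective_iff_bijective.mp φ.toRingHom.injective
      refine ⟨RingEquiv.ofBijective φ.toRingHom hb, ?_⟩
      ext x; rfl
  have hcard : Fintype.card (F ≃+* F) = Module.finrank F (F →ₗ[ZMod 2] F) := by
    rw [Module.finrank_linearMap_self, Fintype.card_congr (Equiv.ofBijective toAlg toAlg_bij)]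
    exact FiniteField.card_algHom_of_finrank_dvd (dvd_refl _)
  let w : (F ≃+* F) → (F →ₗ[ZMod 2] F) := fun σ => (toAlg σ).toLinearMap
  have hw : LinearIndependent F w := by
    have := linearIndependent_toLinearMap (ZMod 2) F F
    exact this.comp toAlg toAlg_bij.1
  let b : Module.Basis (F ≃+* F) F (F →ₗ[ZMod 2] F) :=
    basisOfLinearIndependentOfCardEqFinrank hw hcard
  have hb : ∀ σ x, b σ x = σ x := by
    intro σ x
    have : (b : (F ≃+* F) → (F →ₗ[ZMod 2] F)) = w :=
      coe_basisOfLinearIndependentOfCardEqFinrank hw hcard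
    rw [this]
    rfl
  have key : ∀ (f : F →+ F) (x : F),
      f x = ∑ σ, (b.repr (f.toZModLinearMap 2) σ) * σ x := by
    intro f x
    have h2 := LinearMap.congr_fun (b.sum_repr (f.toZModLinearMap 2)) x
    rw [LinearMap.sum_apply] at h2
    simp only [LinearMap.smul_apply, smul_eq_mul, hb] at h2
    exact h2.symm
  refine ⟨h1, ?_, ?_⟩
  · intro f
    exact ⟨Finset.univ, fun σ => b.repr (f.toZModLinearMap 2) σ, fun x => key f x⟩
  · intro B
    -- coefficient maps
    let fτ : (F ≃+* F) → (F →+ F) := fun τ =>
      { toFun := fun x => b.repr ((B x).toZModLinearMap 2) τ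
        map_zero' := by
          have : (B 0).toZModLinearMap 2 = 0 := by
            ext y; simp
          rw [this]; simp
        map_add' := fun x y => by
          have : (B (x + y)).toZModLinearMap 2 = (B x).toZModLinearMap 2 + (B y).toZModLinearMap 2 := by
            ext z; simp
          rw [this]; simp }
    have hf : ∀ τ x, fτ τ x = b.repr ((B x).toZModLinearMap 2) τ := fun _ _ => rfl
    refine ⟨Finset.univ, fun p => b.repr ((fτ p.2).toZModLinearMap 2) p.1, fun x y => ?_⟩
    rw [key (B x) y]
    rw [← Finset.univ_product_univ, Finset.sum_product_right]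
    refine Finset.sum_congr rfl (fun τ _ => ?_)
    rw [← hf, key (fτ τ) x, Finset.sum_mul]
    refine Finset.sum_congr rfl (fun σ _ => ?_)
    ring

end Cfsg.Agent.S1140
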