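import Mathlib
import Cfsg.Statements.S1160
import Cfsg.Agent.S0126
import Cfsg.Agent.S0015
import Cfsg.Agent.Lib.Helper7_Fpf2

set_option autoImplicit false

open Cfsg

namespace Cfsg.Agent.S1160

open Cfsg.Agent.Lib.Helper7_Fpf

section Trace

variable {P E : Type*} [Group P] [AddCommGroup E] [DistribMulAction P E]

/-- the trace operator of an element -/
def T (p : ℕ) (u : P) (e : E) : E := ∑ k ∈ Finset.range p, u ^ k • e

theorem T_fixed (p : ℕ) (u : P) (hu : u ^ p = 1) (e : E) : u • T p u e = T p u e := by
  unfold T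
  rw [Finset.smul_sum]
  have h1 : ∑ k ∈ Finset.range p, u • u ^ k • e = ∑ k ∈ Finset.range p, u ^ (k + 1) • e := by
    refine Finset.sum_congr rfl fun k _ => ?_
    rw [smul_smul, pow_succ']
  rw [h1]
  have h2 := Finset.sum_range_succ' (fun k => u ^ k • e) p
  have h3 := Finset.sum_range_succ (fun k => u ^ k • e) p
  rw [h3] at h2
  simp only [hu, pow_zero] at h2
  exact (add_right_cancel h2).symm

theorem pow_fixed (u : P) (e : E) (h : u • e = e) (k : ℕ) : u ^ k • e = e := by
  induction k with
  | zero => simp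
  | succ k ih => rw [pow_succ, mul_smul, h, ih]

theorem T_of_fixed (p : ℕ) (u : P) (e : E) (h : u • e = e) : T p u e = p • e := by
  unfold T
  rw [Finset.sum_congr rfl (fun k _ => pow_fixed u e h k), Finset.sum_const, Finset.card_range]

theorem T_comm (p : ℕ) (u y : P) (h : y * u = u * y) (e : E) : y • T p u e = T p u (y • e) := by
  unfold T
  rw [Finset.smul_sum]
  refine Finset.sum_congr rfl fun k _ => ?_
  have hc : y * u ^ k = u ^ k * y := (Commute.pow_right (show Commute y u from h) k).eq
  rw [smul_smul, hc, mul_smul]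

theorem T_add (p : ℕ) (u : P) (e₁ e₂ : E) : T p u (e₁ + e₂) = T p u e₁ + T p u e₂ := by
  unfold T
  rw [← Finset.sum_add_distrib]
  refine Finset.sum_congr rfl fun k _ => ?_
  rw [smul_add]

theorem T_sub (p : ℕ) (u : P) (e₁ e₂ : E) : T p u (e₁ - e₂) = T p u e₁ - T p u e₂ := by
  unfold T
  rw [← Finset.sum_sub_distrib]
  refine Finset.sum_congr rfl fun k _ => ?_
  rw [smul_sub]

/-- the multiplicative version of an additive action -/
@[reducible] def mulAct (P E : Type*) [Group P] [AddCommGroup E] [DistribMulAction P E] :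
    MulDistribMulAction P (Multiplicative E) where
  smul g x := Multiplicative.ofAdd (g • Multiplicative.toAdd x)
  one_smul x := by
    show Multiplicative.ofAdd ((1 : P) • Multiplicative.toAdd x) = x
    rw [one_smul]; rfl
  mul_smul g h x := by
    show Multiplicative.ofAdd ((g * h) • Multiplicative.toAdd x) =
      Multiplicative.ofAdd (g • Multiplicative.toAdd (Multiplicative.ofAdd (h • Multiplicative.toAdd x)))
    rw [mul_smul]; rfl
  smul_mul g x y := by
    show Multiplicative.ofAdd (g • (Multiplicative.toAdd x + Multiplicative.toAdd y)) =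
      Multiplicative.ofAdd (g • Multiplicative.toAdd x) * Multiplicative.ofAdd (g • Multiplicative.toAdd y)
    rw [smul_add]; rfl
  smul_one g := by
    show Multiplicative.ofAdd (g • (0 : E)) = 1
    rw [smul_zero]; rfl

end Trace

/-- Let `p ≠ 2` be prime and `P` a finite `p`-group acting faithfully by additive automorphisms on a finite elementary abelian `q`-group `E` (`q` prime), such that `|P_a|` is the same for all `a ≠ 0`. Then `P` is cyclic and every non-identity element of `P` fixes only `0`. -/
theorem result {P E : Type*} [Group P] [Finite P]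
    [AddCommGroup E] [Finite E] [DistribMulAction P E] [FaithfulSMul P E]
    {p q : ℕ} [Fact p.Prime] (hp2 : p ≠ 2) (hP : IsPGroup p P) (hq : q.Prime) (hE : ∀ e : E, q • e = 0)
    (hconst : ∀ a b : E, a ≠ 0 → b ≠ 0 →
      Nat.card (MulAction.stabilizer P a) = Nat.card (MulAction.stabilizer P b)) :
    IsCyclic P ∧ ∀ g : P, g ≠ 1 → ∀ a : E, g • a = a → a = 0 := by
  classical
  have hpp : p.Prime := Fact.out
  have hpodd : Odd p := hpp.odd_of_ne_two hp2
  -- P trivial as soon as it acts trivially
  have htrivial : (∀ g : P, ∀ a : E, g • a = a) →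
      IsCyclic P ∧ ∀ g : P, g ≠ 1 → ∀ a : E, g • a = a → a = 0 := by
    intro hall
    have hP1 : ∀ g : P, g = 1 := by
      intro g
      apply FaithfulSMul.eq_of_smul_eq_smul (α := E)
      intro a
      rw [hall g a, one_smul]
    constructor
    · haveI : Subsingleton P := ⟨fun a b => by rw [hP1 a, hP1 b]⟩
      exact isCyclic_of_subsingleton
    · intro g hg
      exact absurd (hP1 g) hg
  by_cases hEtriv : ∀ e : E, e = 0
  · exact htrivial (fun g a => by rw [hEtriv (g • a), hEtriv a])
  push Not at hEtriv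
  obtain ⟨e₀, he₀⟩ := hEtriv
  have hstab : ∀ a b : E, a ≠ 0 → b ≠ 0 →
      MulAction.stabilizer P a ≤ MulAction.stabilizer P b →
      MulAction.stabilizer P a = MulAction.stabilizer P b := fun a b ha hb hle =>
    Subgroup.eq_of_le_of_card_ge hle (hconst a b ha hb).symm.le
  by_cases hqp : q = p
  · -- equal characteristic: a global fixed point
    subst hqp
    apply htrivial
    have hmod := hP.card_modEq_card_fixedPoints E
    have hdvd : q ∣ Nat.card E := by
      have h1 : addOrderOf e₀ = q := addOrderOf_eq_prime (hE e₀) he₀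
      rw [← h1]
      exact addOrderOf_dvd_natCard e₀
    have hdvd2 : q ∣ Nat.card (MulAction.fixedPoints P E) := by
      rw [← Nat.modEq_zero_iff_dvd] at hdvd ⊢
      exact hmod.symm.trans hdvd
    haveI : Nonempty (MulAction.fixedPoints P E) := ⟨⟨0, fun g => smul_zero g⟩⟩
    obtain ⟨a, haf, ha0⟩ : ∃ a ∈ MulAction.fixedPoints P E, a ≠ 0 := by
      by_contra hno
      push Not at hno
      have hsub : Subsingleton (MulAction.fixedPoints P E) :=
        ⟨fun x y => Subtype.ext (by rw [hno x.1 x.2, hno y.1 y.2])⟩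
      have hle := Nat.le_of_dvd Nat.card_pos hdvd2
      have := Finite.card_le_one_iff_subsingleton.mpr hsub
      have := hpp.two_le
      omega
    intro g b
    by_cases hb0 : b = 0
    · rw [hb0, smul_zero]
    have htop : MulAction.stabilizer P a = ⊤ := by
      rw [eq_top_iff]
      intro h _
      exact haf h
    have := hstab b a hb0 ha0 (by rw [htop]; exact le_top)
    have hg : g ∈ MulAction.stabilizer P b := by rw [this, htop]; exact Subgroup.mem_top g
    exact hg
  -- coprime characteristic
  have hpinj : ∀ e : E, p • e = 0 → e = 0 := by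
    intro e he
    have h1 : addOrderOf e ∣ p := addOrderOf_dvd_of_nsmul_eq_zero he
    have h2 : addOrderOf e ∣ q := addOrderOf_dvd_of_nsmul_eq_zero (hE e)
    have hcop : Nat.Coprime p q := (Nat.coprime_primes hpp hq).mpr (Ne.symm hqp)
    have h3 : addOrderOf e ∣ 1 := by
      have := Nat.dvd_gcd h1 h2
      rwa [hcop.gcd_eq_one] at this
    exact AddMonoid.addOrderOf_eq_one_iff.mp (Nat.dvd_one.mp h3)
  -- central elements of order p are fixed-point-free
  have hcent : ∀ z : P, z ∈ Subgroup.center P → z ≠ 1 → z ^ p = 1 →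
      ∀ a : E, z • a = a → a = 0 := by
    intro z hzc hz1 hzp a hza
    by_contra ha0
    obtain ⟨b₀, hb₀⟩ : ∃ b₀ : E, z • b₀ ≠ b₀ := by
      by_contra hall
      push Not at hall
      apply hz1
      apply FaithfulSMul.eq_of_smul_eq_smul (α := E)
      intro x
      rw [hall x, one_smul]
    have hzcomm : ∀ g : P, g * z = z * g := fun g => Subgroup.mem_center_iff.mp hzc g
    have hb0 : z • b₀ - b₀ ≠ 0 := sub_ne_zero.mpr hb₀
    have hTb : T p z (z • b₀ - b₀) = 0 := by
      rw [T_sub, ← T_comm p z z rfl b₀, T_fixed p z hzp, sub_self]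
    have hbfix : z • (z • b₀ - b₀) ≠ z • b₀ - b₀ := by
      intro hfix
      apply hb0
      apply hpinj
      rw [← T_of_fixed p z _ hfix, hTb]
    have hab0 : a + (z • b₀ - b₀) ≠ 0 := by
      intro h0
      apply hbfix
      have : z • b₀ - b₀ = -a := by
        rw [eq_neg_iff_add_eq_zero, add_comm]; exact h0
      rw [this, smul_neg, hza]
    have key : MulAction.stabilizer P (a + (z • b₀ - b₀)) ≤ MulAction.stabilizer P a := by
      intro g hg
      rw [MulAction.mem_stabilizer_iff] at hg ⊢
      have h1 : g • a - a = (z • b₀ - b₀) - g • (z • b₀ - b₀) := by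
        rw [sub_eq_sub_iff_add_eq_add, ← smul_add, hg, add_comm]
      have h2 : z • (g • a - a) = g • a - a := by
        rw [smul_sub, hza, smul_smul, ← hzcomm g, mul_smul, hza]
      have h3 : T p z ((z • b₀ - b₀) - g • (z • b₀ - b₀)) = 0 := by
        rw [T_sub, ← T_comm p z g (hzcomm g), hTb, smul_zero, sub_zero]
      have h4 : p • (g • a - a) = 0 := by
        rw [← T_of_fixed p z _ h2, h1, h3]
      exact sub_eq_zero.mp (hpinj _ h4)
    have heq := hstab _ a hab0 ha0 key
    have hzmem : z ∈ MulAction.stabilizer P (a + (z • b₀ - b₀)) := by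
      rw [heq]; exact hza
    rw [MulAction.mem_stabilizer_iff, smul_add, hza] at hzmem
    exact hbfix (add_left_cancel hzmem)
  -- P is cyclic
  have hcyc : IsCyclic P := by
    by_contra hnc
    obtain ⟨U, hUn, hUe, hUcard⟩ := Cfsg.Agent.S0126.result hp2 hP hnc
    haveI := hUn
    haveI hnil : Group.IsNilpotent P := hP.isNilpotent
    have hp1 := hpp.one_lt
    have hUne : U ≠ ⊥ := by
      intro h
      rw [h, Subgroup.card_bot] at hUcard
      have : 1 < p ^ 2 := Nat.one_lt_pow (by norm_num) hp1
      omega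
    obtain ⟨z, hzU, hzc, hz1⟩ := Cfsg.Agent.S0015.normal_inf_center_ne_bot U hUne
    have hzp : z ^ p = 1 := hUe.2 z hzU
    have hzfpf := hcent z hzc hz1 hzp
    have hUcomm : ∀ x ∈ U, ∀ y ∈ U, x * y = y * x := by
      intro x hx y hy
      have hle := Subgroup.le_centralizer_iff_isMulCommutative.mpr hUe.1
      exact Subgroup.mem_centralizer_iff.mp (hle hy) x hx
    -- subgroups generated by two elements
    have hcardz : ∀ w ∈ U, w ≠ 1 → Nat.card (Subgroup.zpowers w) = p := by
      intro w hw hw1
      rw [Nat.card_zpowers]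
      exact orderOf_eq_prime (hUe.2 w hw) hw1
    have hsup : ∀ w ∈ U, w ≠ 1 → ∀ y ∈ U, y ∉ Subgroup.zpowers w →
        Subgroup.zpowers w ⊔ Subgroup.zpowers y = U := by
      intro w hw hw1 y hy hyw
      have hK : Subgroup.zpowers w ⊔ Subgroup.zpowers y ≤ U :=
        sup_le ((Subgroup.zpowers_le).mpr hw) ((Subgroup.zpowers_le).mpr hy)
      have hdvd : Nat.card ↥(Subgroup.zpowers w ⊔ Subgroup.zpowers y) ∣ p ^ 2 := by
        rw [← hUcard]; exact Subgroup.card_dvd_of_le hK
      obtain ⟨i, hi, hci⟩ := (Nat.dvd_prime_pow hpp).mp hdvd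
      have hi2 : i = 2 := by
        by_contra hne
        have hi1 : i ≤ 1 := by omega
        have hle : Nat.card ↥(Subgroup.zpowers w ⊔ Subgroup.zpowers y) ≤
            Nat.card ↥(Subgroup.zpowers w) := by
          rw [hci, hcardz w hw hw1]
          calc p ^ i ≤ p ^ 1 := Nat.pow_le_pow_right hpp.pos hi1
            _ = p := pow_one p
        have heq : Subgroup.zpowers w = Subgroup.zpowers w ⊔ Subgroup.zpowers y :=
          Subgroup.eq_of_le_of_card_ge le_sup_left hle
        apply hyw
        rw [heq]
        exact Subgroup.mem_sup_right (Subgroup.mem_zpowers y)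
      apply Subgroup.eq_of_le_of_card_ge hK
      rw [hUcard, hci, hi2]
    have hfix0 : ∀ w ∈ U, w ≠ 1 → ∀ y ∈ U, y ∉ Subgroup.zpowers w →
        ∀ e : E, w • e = e → y • e = e → e = 0 := by
      intro w hw hw1 y hy hyw e h1 h2
      apply hzfpf
      have hle : Subgroup.zpowers w ⊔ Subgroup.zpowers y ≤ MulAction.stabilizer P e :=
        sup_le ((Subgroup.zpowers_le).mpr h1) ((Subgroup.zpowers_le).mpr h2)
      have := hle (by rw [hsup w hw hw1 y hy hyw]; exact hzU)
      exact this
    have hzpeq : ∀ w ∈ U, w ≠ 1 → ∀ y ∈ Subgroup.zpowers w, y ≠ 1 →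
        Subgroup.zpowers y = Subgroup.zpowers w := by
      intro w hw hw1 y hy hy1
      have hyU : y ∈ U := ((Subgroup.zpowers_le).mpr hw) hy
      apply Subgroup.eq_of_le_of_card_ge ((Subgroup.zpowers_le).mpr hy)
      rw [hcardz w hw hw1, hcardz y hyU hy1]
    -- an element of U with a fixed vector
    have hexu : ∃ u ∈ U, u ≠ 1 ∧ ∃ a : E, a ≠ 0 ∧ u • a = a := by
      by_contra hno
      push Not at hno
      letI : MulDistribMulAction P (Multiplicative E) := mulAct P E
      have hf : Fpf ↥U (Multiplicative E) := by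
        intro a ha x hx
        by_contra hx1
        have h1 := hno a.1 a.2 (fun h => ha (Subtype.ext h)) (Multiplicative.toAdd x)
          (fun h => hx1 (by
            have : x = Multiplicative.ofAdd (Multiplicative.toAdd x) := rfl
            rw [this, h]; rfl))
        exact h1 (congrArg Multiplicative.toAdd hx)
      haveI : Nontrivial (Multiplicative E) :=
        ⟨⟨Multiplicative.ofAdd e₀, 1, fun h => he₀ (congrArg Multiplicative.toAdd h)⟩⟩
      have hz1' : (⟨z, hzU⟩ : ↥U) ≠ 1 := fun h => hz1 (congrArg Subtype.val h)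
      obtain ⟨y, hy⟩ : ∃ y : ↥U, y ∉ Subgroup.zpowers (⟨z, hzU⟩ : ↥U) := by
        by_contra hall
        push Not at hall
        have htop : Subgroup.zpowers (⟨z, hzU⟩ : ↥U) = ⊤ := by
          rw [eq_top_iff]; intro y _; exact hall y
        have hc := Nat.card_zpowers (⟨z, hzU⟩ : ↥U)
        rw [htop, Subgroup.card_top, hUcard] at hc
        have hord : orderOf (⟨z, hzU⟩ : ↥U) = p := by
          apply orderOf_eq_prime _ hz1'
          apply Subtype.ext
          rw [Subgroup.coe_pow]
          exact hzp
        rw [hord] at hc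
        nlinarith
      have hcomm : (⟨z, hzU⟩ : ↥U) * y = y * ⟨z, hzU⟩ := by
        apply Subtype.ext
        exact hUcomm z hzU y.1 y.2
      have hzp' : (⟨z, hzU⟩ : ↥U) ^ p = 1 := by
        apply Subtype.ext
        rw [Subgroup.coe_pow]
        exact hzp
      have hyp' : y ^ p = 1 := by
        apply Subtype.ext
        rw [Subgroup.coe_pow]
        exact hUe.2 y.1 y.2
      exact hy (Cfsg.Agent.Lib.Helper7_Fpf2.no_rank_two hf p _ y hcomm hzp' hyp' hz1')
    obtain ⟨u, huU, hu1, a, ha0, hua⟩ := hexu
    have hup : u ^ p = 1 := hUe.2 u huU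
    have hzpow_fix : ∀ k : ℤ, (u ^ k) • a = a := by
      intro k
      have : u ^ k ∈ MulAction.stabilizer P a :=
        Subgroup.zpow_mem _ (MulAction.mem_stabilizer_iff.mpr hua) k
      exact this
    -- a conjugate of u outside ⟨u⟩
    obtain ⟨g, hg⟩ : ∃ g : P, g * u * g⁻¹ ∉ Subgroup.zpowers u := by
      by_contra hall
      push Not at hall
      haveI : (Subgroup.zpowers u).Normal := ⟨fun w hw g => by
        obtain ⟨k, rfl⟩ := Subgroup.mem_zpowers_iff.mp hw
        rw [← conj_zpow]
        exact Subgroup.zpow_mem _ (hall g) k⟩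
      have hne : Subgroup.zpowers u ≠ ⊥ := by
        rw [Ne, Subgroup.zpowers_eq_bot]; exact hu1
      obtain ⟨c, hcz, hcc, hc1⟩ :=
        Cfsg.Agent.S0015.normal_inf_center_ne_bot (Subgroup.zpowers u) hne
      obtain ⟨k, rfl⟩ := Subgroup.mem_zpowers_iff.mp hcz
      have hcp : (u ^ k) ^ p = 1 := by
        rw [← zpow_natCast, ← zpow_mul, mul_comm, zpow_mul, zpow_natCast, hup, one_zpow]
      exact ha0 (hcent _ hcc hc1 hcp a (hzpow_fix k))
    have hu'U : g * u * g⁻¹ ∈ U := hUn.conj_mem u huU g
    have hb0 : g • a ≠ 0 := by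
      intro h
      apply ha0
      have := congrArg (fun e => g⁻¹ • e) h
      simpa using this
    have hu'b : (g * u * g⁻¹) • (g • a) = g • a := by
      rw [smul_smul, inv_mul_cancel_right, mul_smul, hua]
    have hu'1 : g * u * g⁻¹ ≠ 1 := by
      intro h
      apply hg
      rw [h]; exact Subgroup.one_mem _
    have hT0 : ∀ y ∈ U, y ∉ Subgroup.zpowers u → ∀ e : E, y • e = e → T p u e = 0 := by
      intro y hyU hy e hye
      apply hfix0 u huU hu1 y hyU hy
      · exact T_fixed p u hup e
      · rw [T_comm p u y (hUcomm y hyU u huU) e, hye]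
    have hTfix : ∀ w ∈ Subgroup.zpowers u, w ≠ 1 → ∀ e : E, w • e = e → T p u e = p • e := by
      intro w hw hw1 e hwe
      apply T_of_fixed
      have h1 : u ∈ Subgroup.zpowers w := by
        rw [hzpeq u huU hu1 w hw hw1]; exact Subgroup.mem_zpowers u
      have hle : Subgroup.zpowers w ≤ MulAction.stabilizer P e := (Subgroup.zpowers_le).mpr hwe
      exact hle h1
    have hab_ne : a ≠ g • a := by
      intro h
      apply ha0
      apply hfix0 u huU hu1 _ hu'U hg a hua
      have := hu'b
      rw [← h] at this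
      exact this
    -- the stabilizer of a + g • a
    have key : MulAction.stabilizer P (a + g • a) ≤ MulAction.stabilizer P a := by
      intro h hh
      rw [MulAction.mem_stabilizer_iff] at hh ⊢
      have hu₁U : h * u * h⁻¹ ∈ U := hUn.conj_mem u huU h
      have hu₂U : h * (g * u * g⁻¹) * h⁻¹ ∈ U := hUn.conj_mem _ hu'U h
      have hu₁1 : h * u * h⁻¹ ≠ 1 := by
        intro h0
        apply hu1
        have : u = h⁻¹ * (h * u * h⁻¹) * h := by group
        rw [this, h0]; group
      have hu₂1 : h * (g * u * g⁻¹) * h⁻¹ ≠ 1 := by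
        intro h0
        apply hu'1
        have : g * u * g⁻¹ = h⁻¹ * (h * (g * u * g⁻¹) * h⁻¹) * h := by group
        rw [this, h0]; group
      have h1 : (h * u * h⁻¹) • (h • a) = h • a := by
        rw [smul_smul, inv_mul_cancel_right, mul_smul, hua]
      have h2 : (h * (g * u * g⁻¹) * h⁻¹) • (h • (g • a)) = h • (g • a) := by
        rw [smul_smul, inv_mul_cancel_right, mul_smul, hu'b]
      have hTa : T p u a = p • a := T_of_fixed p u a hua
      have hTb : T p u (g • a) = 0 := hT0 _ hu'U hg _ hu'b
      have hsum : T p u (h • a) + T p u (h • (g • a)) = p • a := by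
        rw [← T_add, ← smul_add, hh, T_add, hTa, hTb, add_zero]
      have hnotboth : h * u * h⁻¹ ∈ Subgroup.zpowers u →
          h * (g * u * g⁻¹) * h⁻¹ ∈ Subgroup.zpowers u → False := by
        intro hc1 hc2
        have heq := hzpeq u huU hu1 _ hc1 hu₁1
        rw [← heq] at hc2
        obtain ⟨k, hk⟩ := Subgroup.mem_zpowers_iff.mp hc2
        apply hg
        rw [Subgroup.mem_zpowers_iff]
        refine ⟨k, ?_⟩
        have e1 : (h * u * h⁻¹) ^ k = h * u ^ k * h⁻¹ := by rw [conj_zpow]
        rw [e1] at hk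
        have : u ^ k = h⁻¹ * (h * u ^ k * h⁻¹) * h := by group
        rw [this, hk]; group
      by_cases hc1 : h * u * h⁻¹ ∈ Subgroup.zpowers u
      · have hc2 : h * (g * u * g⁻¹) * h⁻¹ ∉ Subgroup.zpowers u := fun hc2 => hnotboth hc1 hc2
        rw [hTfix _ hc1 hu₁1 _ h1, hT0 _ hu₂U hc2 _ h2, add_zero] at hsum
        have : p • (h • a - a) = 0 := by rw [smul_sub, hsum, sub_self]
        exact sub_eq_zero.mp (hpinj _ this)
      · rw [hT0 _ hu₁U hc1 _ h1, zero_add] at hsum
        by_cases hc2 : h * (g * u * g⁻¹) * h⁻¹ ∈ Subgroup.zpowers u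
        · exfalso
          rw [hTfix _ hc2 hu₂1 _ h2] at hsum
          have hba : h • (g • a) = a := by
            have : p • (h • (g • a) - a) = 0 := by rw [smul_sub, hsum, sub_self]
            exact sub_eq_zero.mp (hpinj _ this)
          have hab : h • a = g • a := by
            rw [smul_add, hba] at hh
            have : h • a + a = g • a + a := by rw [hh, add_comm]
            exact add_right_cancel this
          have hpow : ∀ n : ℕ, h ^ (2 * n) • a = a ∧ h ^ (2 * n + 1) • a = g • a := by
            intro n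
            induction n with
            | zero => simp [hab]
            | succ n ih =>
              have e1 : h ^ (2 * (n + 1)) • a = a := by
                rw [show 2 * (n + 1) = (2 * n + 1) + 1 by ring, pow_succ', mul_smul, ih.2, hba]
              refine ⟨e1, ?_⟩
              rw [pow_succ', mul_smul, e1, hab]
          obtain ⟨k, hk⟩ := hP h
          obtain ⟨n, hn⟩ := hpodd.pow (n := k)
          have := (hpow n).2
          rw [← hn, hk, one_smul] at this
          exact hab_ne this
        · exfalso
          rw [hT0 _ hu₂U hc2 _ h2] at hsum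
          exact ha0 (hpinj a hsum.symm)
    have hab0 : a + g • a ≠ 0 := by
      intro h0
      apply hb0
      apply hfix0 u huU hu1 _ hu'U hg _ _ hu'b
      have : g • a = -a := by
        rw [eq_neg_iff_add_eq_zero, add_comm]; exact h0
      rw [this, smul_neg, hua]
    have heq := hstab _ a hab0 ha0 key
    have humem : u ∈ MulAction.stabilizer P (a + g • a) := by
      rw [heq]; exact hua
    rw [MulAction.mem_stabilizer_iff, smul_add, hua] at humem
    exact hb0 (hfix0 u huU hu1 _ hu'U hg _ (add_left_cancel humem) hu'b)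
  refine ⟨hcyc, ?_⟩
  intro g hg1 a hga
  by_contra ha0
  have hcomm : ∀ x y : P, x * y = y * x := by
    intro x y
    obtain ⟨g₀, hg₀⟩ := hcyc.exists_generator
    obtain ⟨i, rfl⟩ := Subgroup.mem_zpowers_iff.mp (hg₀ x)
    obtain ⟨j, rfl⟩ := Subgroup.mem_zpowers_iff.mp (hg₀ y)
    rw [← zpow_add, ← zpow_add, add_comm]
  have hex : ∃ k, g ^ p ^ k = 1 := hP g
  have hk0 : Nat.find hex ≠ 0 := by
    intro h0
    have := Nat.find_spec hex
    rw [h0, pow_zero, pow_one] at this
    exact hg1 this
  obtain ⟨m, hm⟩ := Nat.exists_eq_succ_of_ne_zero hk0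
  have hc1 : g ^ p ^ m ≠ 1 := by
    intro h
    have := Nat.find_min' hex h
    omega
  have hcp : (g ^ p ^ m) ^ p = 1 := by
    rw [← pow_mul, ← pow_succ]
    have := Nat.find_spec hex
    rwa [hm] at this
  have hcc : g ^ p ^ m ∈ Subgroup.center P := by
    rw [Subgroup.mem_center_iff]
    intro h
    exact hcomm h _
  exact ha0 (hcent _ hcc hc1 hcp a (pow_fixed g a hga _))

end Cfsg.Agent.S1160
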