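import Cfsg.Statements.S1166
import Cfsg.Agent.Lib.Helper9_RankOne
import Mathlib

set_option autoImplicit false
open Cfsg

namespace Cfsg.Agent.S1166

/-- In the rank-one set-up (`G` finite and doubly transitive on `Ω`, `t` an involution moving `a`, `Q` normal in `G_a` with `G_a = Q D`, `Q ⊓ D = 1` for the two-point stabiliser `D = G_a ⊓ G_{t • a}`, `|Q|` even, `|D|` odd), with `t x t = g_x h_x t f_x` and `t y t = g_y h_y t f_y` (`g, f ∈ Q`, `h ∈ D`) for `x, y ∈ Q ∖ 1` with `x y ≠ 1`: then `z = f_x g_y ≠ 1`, and if `t z t = g_z h_z t f_z` and `t (x y) t = g' h' t f'` then `f' = (t h_y t)⁻¹ f_z (t h_y t) f_y` and `h' = h_x h_z h_y` (H6). -/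
theorem result {G Ω : Type*} [Group G] [Finite G] [MulAction G Ω] {a : Ω} {t : G} {Q : Subgroup G}
    (hS : Cfsg.IsRankOneSetup G Ω a t Q)
    (x y gx hx fx gy hy fy : G) (hxQ : x ∈ Q) (hx1 : x ≠ 1) (hyQ : y ∈ Q) (hy1 : y ≠ 1) (hxy : x * y ≠ 1)
    (hgx : gx ∈ Q) (hhx : hx ∈ (MulAction.stabilizer G a ⊓ MulAction.stabilizer G (t • a))) (hfx : fx ∈ Q) (ex : t * x * t = gx * hx * t * fx)
    (hgy : gy ∈ Q) (hhy : hy ∈ (MulAction.stabilizer G a ⊓ MulAction.stabilizer G (t • a))) (hfy : fy ∈ Q) (ey : t * y * t = gy * hy * t * fy) :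
    fx * gy ≠ 1 ∧
      ∀ gz hz fz g' h' f' : G, gz ∈ Q → hz ∈ (MulAction.stabilizer G a ⊓ MulAction.stabilizer G (t • a)) → fz ∈ Q → t * (fx * gy) * t = gz * hz * t * fz →
        g' ∈ Q → h' ∈ (MulAction.stabilizer G a ⊓ MulAction.stabilizer G (t • a)) → f' ∈ Q → t * (x * y) * t = g' * h' * t * f' →
          f' = (t * hy * t)⁻¹ * fz * (t * hy * t) * fy ∧ h' = hx * hz * hy := by
  have ht := hS.mul_self
  have hti := Cfsg.Agent.Helper9RO.t_inv hS
  have htt := Cfsg.Agent.Helper9RO.tt_mul hS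
  have hx_eq : x = t * (gx * hx * t * fx) * t := by
    rw [← ex]; simp only [mul_assoc, htt, ht, mul_one]
  have hy_eq : y = t * (gy * hy * t * fy) * t := by
    rw [← ey]; simp only [mul_assoc, htt, ht, mul_one]
  have hprod : t * (x * y) * t = gx * hx * t * (fx * gy) * hy * t * fy := by
    rw [hx_eq, hy_eq]
    simp only [mul_assoc, htt, ht, mul_one]
  have he := Cfsg.Agent.Helper9RO.conj_D hS hhy
  refine ⟨?_, ?_⟩
  · intro hz
    have hw : t * (x * y) * t = gx * hx * (t * hy * t) * fy := by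
      rw [hprod, hz]
      simp only [mul_assoc, mul_one]
    have hmem : t * (x * y) * t ∈ MulAction.stabilizer G a := by
      rw [hw]
      exact mul_mem (mul_mem (mul_mem (hS.le hgx) hhx.1) he.1) (hS.le hfy)
    have hxy2 : x * y ∈ MulAction.stabilizer G (t • a) := by
      rw [MulAction.mem_stabilizer_iff] at hmem ⊢
      have h1 : (x * y) • t • a = t • (t * (x * y) * t) • a := by
        rw [← mul_smul, ← mul_smul]
        congr 1
        simp only [mul_assoc, htt]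
      rw [h1, hmem]
    have h2 : x * y ∈ Q ⊓ MulAction.stabilizer G (t • a) := ⟨mul_mem hxQ hyQ, hxy2⟩
    rw [hS.inf_eq_bot] at h2
    exact hxy (Subgroup.mem_bot.mp h2)
  · intro gz hz fz g' h' f' hgz hhz hfz ez hg' hh' hf' e'
    have hz_eq : fx * gy = t * (gz * hz * t * fz) * t := by
      rw [← ez]; simp only [mul_assoc, htt, ht, mul_one]
    have hQ1 : gx * (hx * gz * hx⁻¹) ∈ Q :=
      mul_mem hgx (Cfsg.Agent.Helper9RO.Q_conj hS hhx hgz)
    have hD1 : hx * hz * hy ∈ MulAction.stabilizer G a ⊓ MulAction.stabilizer G (t • a) :=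
      mul_mem (mul_mem hhx hhz) hhy
    have hQ2 : (t * hy * t)⁻¹ * fz * (t * hy * t) * fy ∈ Q :=
      mul_mem (Cfsg.Agent.Helper9RO.Q_conj' hS he hfz) hfy
    have e₂ : g' * h' * t * f' = (gx * (hx * gz * hx⁻¹)) * (hx * hz * hy) * t *
        ((t * hy * t)⁻¹ * fz * (t * hy * t) * fy) := by
      rw [← e', hprod, hz_eq]
      simp only [mul_assoc, mul_inv_rev, hti, htt, ht, mul_one, one_mul, inv_mul_cancel_left,
        mul_inv_cancel_left, inv_inv]
    obtain ⟨-, h2, h3⟩ := Cfsg.Agent.Helper9RO.unique_form hS hg' hh' hf' hQ1 hD1 hQ2 e₂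
    exact ⟨h3, h2⟩

end Cfsg.Agent.S1166
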