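import Cfsg.Statements.S1168
import Mathlib
import Cfsg.Agent.S1140

set_option autoImplicit false
open Cfsg

namespace Cfsg.Agent.S1168

/-- For a finite field `F` of characteristic 2: if `q : F → F` is quadratic over the prime field, i.e. `(x, y) ↦ q (x + y) + q x + q y` is additive in each variable, then `q x = Σ c_{σ,τ} σ(x) τ(x)` for some coefficients indexed by pairs of field automorphisms. -/
theorem result {F : Type*} [Field F] [Fintype F] [CharP F 2]
    (q : F → F)
    (hq : ∀ x y z : F, q (x + y + z) + q (x + y) + q (x + z) + q (y + z) + q x + q y + q z = 0) :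
    ∃ (s : Finset ((F ≃+* F) × (F ≃+* F))) (c : (F ≃+* F) × (F ≃+* F) → F),
      ∀ x : F, q x = ∑ p ∈ s, c p * (p.1 x * p.2 x) := by
  classical
  letI : Algebra (ZMod 2) F := ZMod.algebra F 2
  have htwo : (2 : F) = 0 := CharTwo.two_eq_zero
  have h2 : ∀ a : F, a + a = 0 := CharTwo.add_self_eq_zero
  have q0 : q 0 = 0 := by
    have := hq 0 0 0
    simp only [add_zero] at this
    linear_combination this - 3 * q 0 * htwo
  have hc01 : ∀ c : ZMod 2, c = 0 ∨ c = 1 := by decide
  let P : F → F → F := fun x y => q (x + y) + q x + q y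
  have hP : ∀ x y, P x y = q (x + y) + q x + q y := fun _ _ => rfl
  have Psymm : ∀ x y, P x y = P y x := by
    intro x y; simp only [hP, add_comm x y]; ring
  have PH1 : ∀ x y z, P (x + y) z = P x z + P y z := by
    intro x y z
    simp only [hP]
    linear_combination (hq x y z) - (q (x + z) + q (y + z) + q x + q y + q z) * htwo
  have PH2 : ∀ (c : ZMod 2) x y, P (c • x) y = c • P x y := by
    intro c x y
    rcases hc01 c with rfl | rfl
    · simp only [zero_smul, hP, zero_add, q0]
      linear_combination (q y) * htwo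
    · simp only [one_smul]
  let B₁ : F →ₗ[ZMod 2] F →ₗ[ZMod 2] F :=
    LinearMap.mk₂ (ZMod 2) P PH1 PH2
      (fun m n₁ n₂ => by rw [Psymm m, PH1, Psymm n₁, Psymm n₂])
      (fun c m n => by rw [Psymm m, PH2, Psymm n])
  have hB₁ : ∀ x y, B₁ x y = P x y := fun _ _ => rfl
  let e := Module.finBasis (ZMod 2) F
  let cf : Fin (Module.finrank (ZMod 2) F) → Fin (Module.finrank (ZMod 2) F) → F := fun i j =>
    if i < j then P (e i) (e j) else if i = j then q (e i) else 0
  let β : F →ₗ[ZMod 2] F →ₗ[ZMod 2] F :=
    e.constr (ZMod 2) (fun i => e.constr (ZMod 2) (fun j => cf i j))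
  have hβ : ∀ i j, β (e i) (e j) = cf i j := by
    intro i j
    simp only [β, Module.Basis.constr_basis]
  have hB : B₁ = β + β.flip := by
    refine LinearMap.ext_basis e e (fun i j => ?_)
    rw [hB₁, LinearMap.add_apply, LinearMap.add_apply, LinearMap.flip_apply, hβ, hβ]
    simp only [cf]
    rcases lt_trichotomy i j with h | h | h
    · rw [if_pos h, if_neg (not_lt.mpr h.le), if_neg (ne_of_gt h), add_zero]
    · subst h
      have hz : P (e i) (e i) = 0 := by rw [hP, h2 (e i), q0, zero_add, h2]
      rw [hz, h2]
    · rw [if_neg (not_lt.mpr h.le), if_neg (ne_of_gt h), if_pos h, zero_add, Psymm]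
  have hPβ : ∀ x y, P x y = β x y + β y x := by
    intro x y
    have := LinearMap.congr_fun (LinearMap.congr_fun hB x) y
    rw [hB₁, LinearMap.add_apply, LinearMap.add_apply, LinearMap.flip_apply] at this
    exact this
  let d : F → F := fun x => q x + β x x
  have hd : ∀ x y, d (x + y) = d x + d y := by
    intro x y
    have h1 := hPβ x y
    rw [hP] at h1
    simp only [d, map_add, LinearMap.add_apply]
    linear_combination h1 + (β x y + β y x - q x - q y) * htwo
  let D : F →ₗ[ZMod 2] F := (AddMonoidHom.mk' d hd).toZModLinearMap 2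
  have hD : D = 0 := by
    refine e.ext (fun i => ?_)
    show d (e i) = 0
    simp only [d]
    rw [hβ]
    simp only [cf, lt_irrefl, ↓reduceIte]
    exact h2 _
  have hqβ : ∀ x, q x = β x x := by
    intro x
    have : d x = 0 := by
      have := LinearMap.congr_fun hD x
      exact this
    simp only [d] at this
    linear_combination this - (β x x) * htwo
  let βA : F →+ F →+ F :=
    { toFun := fun x => (β x).toAddMonoidHom
      map_zero' := by ext; simp
      map_add' := fun x y => by ext; simp }
  obtain ⟨s, c, hsc⟩ := Cfsg.Agent.S1140.result.2.2 βA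
  refine ⟨s, c, fun x => ?_⟩
  rw [hqβ x]
  exact hsc x x

end Cfsg.Agent.S1168
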