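import Cfsg.Statements.S1176
import Mathlib


set_option autoImplicit false
open Cfsg

namespace Cfsg.Agent.S1176

open scoped commutatorElement

/-- Let x₀ be an involution of the finite group G and D its conjugacy class. Assume (a) for each x ∈ D the subgroup W(x) generated by the members of D commuting with x is a 2-group of nilpotency class at most 2, and (b) the product of two distinct commuting members of D again lies in D. Then for all x, y ∈ D, if xy has even order greater than 2, its order is 4. -/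
theorem result {G : Type*} [Group G] [Finite G] (x₀ : G) (hx₀ : orderOf x₀ = 2) (ha : ∀ x : G, IsConj x₀ x → IsPGroup 2 ↥(Subgroup.closure {y : G | IsConj x₀ y ∧ Commute y x}) ∧ ⁅⁅Subgroup.closure {y : G | IsConj x₀ y ∧ Commute y x}, Subgroup.closure {y : G | IsConj x₀ y ∧ Commute y x}⁆, Subgroup.closure {y : G | IsConj x₀ y ∧ Commute y x}⁆ = ⊥) (hb : ∀ x y : G, IsConj x₀ x → IsConj x₀ y → x ≠ y → Commute x y → IsConj x₀ (x * y)) (x y : G) (hx : IsConj x₀ x) (hy : IsConj x₀ y) (heven : Even (orderOf (x * y))) (hgt : 2 < orderOf (x * y)) : orderOf (x * y) = 4 := by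
  classical
  have hx₀2 : x₀ ^ 2 = 1 := by rw [← hx₀]; exact pow_orderOf_eq_one x₀
  have hsq : ∀ u : G, IsConj x₀ u → u * u = 1 := by
    intro u hu
    obtain ⟨c, hc⟩ := isConj_iff.mp hu
    rw [← hc]
    have : c * x₀ * c⁻¹ * (c * x₀ * c⁻¹) = c * (x₀ ^ 2) * c⁻¹ := by rw [pow_two]; group
    rw [this, hx₀2]; group
  have hxx := hsq x hx
  have hyy := hsq y hy
  have hxinv : x⁻¹ = x := inv_eq_of_mul_eq_one_left hxx
  have hyinv : y⁻¹ = y := inv_eq_of_mul_eq_one_left hyy
  set r := x * y with hr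
  obtain ⟨m, hm⟩ := heven
  have hm2 : 2 ≤ m := by omega
  have hrinv : r⁻¹ = y * x := by rw [hr, mul_inv_rev, hxinv, hyinv]
  have hxrx : x * r * x⁻¹ = r⁻¹ := by
    rw [hrinv, hxinv, hr]
    calc x * (x * y) * x = (x * x) * y * x := by group
      _ = y * x := by rw [hxx, one_mul]
  have hyry : y * r * y⁻¹ = r⁻¹ := by
    rw [hrinv, hyinv, hr]
    calc y * (x * y) * y = y * x * (y * y) := by group
      _ = y * x := by rw [hyy, mul_one]
  have hxrk : ∀ k : ℕ, x * r ^ k * x⁻¹ = (r ^ k)⁻¹ := by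
    intro k
    rw [← conj_pow, hxrx, inv_pow]
  have hyrk : ∀ k : ℕ, y * r ^ k * y⁻¹ = (r ^ k)⁻¹ := by
    intro k
    rw [← conj_pow, hyry, inv_pow]
  set z := r ^ m with hz
  have hz1 : z ≠ 1 := by
    apply pow_ne_one_of_lt_orderOf (by omega)
    omega
  have hzz : z * z = 1 := by
    rw [hz, ← pow_add, ← hm]
    exact pow_orderOf_eq_one r
  have hzinv : z⁻¹ = z := inv_eq_of_mul_eq_one_left hzz
  have hxz : x * z * x⁻¹ = z := by rw [hz, hxrk, ← hz, hzinv]
  have hyz : y * z * y⁻¹ = z := by rw [hz, hyrk, ← hz, hzinv]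
  have hcxz : x * z = z * x := by
    calc x * z = (x * z * x⁻¹) * x := by group
      _ = z * x := by rw [hxz]
  have hcyz : y * z = z * y := by
    calc y * z = (y * z * y⁻¹) * y := by group
      _ = z * y := by rw [hyz]
  -- x * z is conjugate to x₀
  have hxzD : IsConj x₀ (x * z) := by
    rcases Nat.even_or_odd' m with ⟨j, hj | hj⟩
    · -- m = 2j
      refine hx.trans (isConj_iff.mpr ⟨(r ^ j)⁻¹, ?_⟩)
      rw [inv_inv]
      have h1 : x * r ^ j = (r ^ j)⁻¹ * x := by
        have := hxrk j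
        calc x * r ^ j = (x * r ^ j * x⁻¹) * x := by group
          _ = (r ^ j)⁻¹ * x := by rw [this]
      have h2 : (r ^ j)⁻¹ * x = x * r ^ j := h1.symm
      rw [h2, hz, hj, two_mul, pow_add]
      group
    · -- m = 2j+1
      refine hy.trans (isConj_iff.mpr ⟨(r ^ j)⁻¹, ?_⟩)
      rw [inv_inv]
      have h1 : y * r ^ j = (r ^ j)⁻¹ * y := by
        have := hyrk j
        calc y * r ^ j = (y * r ^ j * y⁻¹) * y := by group
          _ = (r ^ j)⁻¹ * y := by rw [this]
      have h2 : (r ^ j)⁻¹ * y = y * r ^ j := h1.symm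
      rw [h2, hz, hj]
      have hxr : x * r = y := by rw [hr, ← mul_assoc, hxx, one_mul]
      have h3 : x * r ^ (2 * j + 1) = y * r ^ j * r ^ j := by
        have : r ^ (2 * j + 1) = r * (r ^ j * r ^ j) := by
          rw [← pow_add, ← pow_succ']
          congr 1
          omega
        calc x * r ^ (2 * j + 1) = x * (r * (r ^ j * r ^ j)) := by rw [this]
          _ = (x * r) * (r ^ j * r ^ j) := (mul_assoc x r _).symm
          _ = y * (r ^ j * r ^ j) := by rw [hxr]
          _ = y * r ^ j * r ^ j := (mul_assoc y _ _).symm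
      rw [h3]
  have hzD : IsConj x₀ z := by
    have hne : x ≠ x * z := by
      intro h
      apply hz1
      have : x * 1 = x * z := by rw [mul_one]; exact h
      exact (mul_left_cancel this).symm
    have hcomm : Commute x (x * z) := by
      show x * (x * z) = x * z * x
      rw [mul_assoc, hcxz]
    have := hb x (x * z) hx hxzD hne hcomm
    rwa [← mul_assoc, hxx, one_mul] at this
  obtain ⟨_, hcl⟩ := ha z hzD
  set L := Subgroup.closure {y' : G | IsConj x₀ y' ∧ Commute y' z} with hL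
  have hxL : x ∈ L := Subgroup.subset_closure ⟨hx, hcxz⟩
  have hyL : y ∈ L := Subgroup.subset_closure ⟨hy, hcyz⟩
  have hc1 : ⁅⁅x, y⁆, x⁆ ∈ ⁅⁅L, L⁆, L⁆ :=
    Subgroup.commutator_mem_commutator (Subgroup.commutator_mem_commutator hxL hyL) hxL
  rw [hcl, Subgroup.mem_bot] at hc1
  have hr4 : r ^ 4 = 1 := by
    have e1 : ⁅x, y⁆ = r ^ 2 := by
      rw [commutatorElement_def, hxinv, hyinv, hr, pow_two]
      group
    rw [e1, commutatorElement_def] at hc1
    have e2 : r ^ 2 * x * (r ^ 2)⁻¹ * x⁻¹ = r ^ 2 * (x * (r ^ 2)⁻¹ * x⁻¹) := by group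
    have e3 : x * (r ^ 2)⁻¹ * x⁻¹ = r ^ 2 := by
      have := hxrk 2
      have h4 : x * (r ^ 2)⁻¹ * x⁻¹ = (x * r ^ 2 * x⁻¹)⁻¹ := by group
      rw [h4, this, inv_inv]
    rw [e2, e3, ← pow_add] at hc1
    exact hc1
  have hdvd : orderOf r ∣ 4 := orderOf_dvd_of_pow_eq_one hr4
  have hle : orderOf r ≤ 4 := Nat.le_of_dvd (by norm_num) hdvd
  interval_cases h : orderOf r
  · omega
  · rfl

end Cfsg.Agent.S1176
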