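import Mathlib
import Cfsg.Statements.S1177
import Cfsg.Agent.Lib.Helper2_Conj

set_option autoImplicit false
open Cfsg
open scoped Pointwise

namespace Cfsg.Agent.S1177

open Cfsg.Agent.Lib.Helper2_Conj

theorem result {G : Type*} [Group G] [Finite G] (A : Subgroup G) (hA : Cfsg.IsElementaryAbelian 2 A) (hA1 : A ≠ ⊥) (hTI : ∀ g : G, A.map (MulAut.conj g).toMonoidHom ⊓ A = ⊥ ∨ A.map (MulAut.conj g).toMonoidHom = A) (hb : ∀ g : G, (∀ a ∈ A, ∀ b ∈ A.map (MulAut.conj g).toMonoidHom, a * b = b * a) → A.map (MulAut.conj g).toMonoidHom = A) (a : G) (ha : a ∈ A) (ha1 : a ≠ 1) (g : G) (hg : A.map (MulAut.conj g).toMonoidHom ≤ Subgroup.centralizer ({a} : Set G)) : A.map (MulAut.conj g).toMonoidHom = A := by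
  obtain ⟨hAc, hAe⟩ := hA
  have hAcomm : ∀ x ∈ A, ∀ y ∈ A, x * y = y * x := by
    intro x hx y hy
    have := (isMulCommutative_iff.mp hAc) ⟨x, hx⟩ ⟨y, hy⟩
    exact congrArg Subtype.val this
  set B := A.map (MulAut.conj g).toMonoidHom with hB
  have hBcomm : ∀ x ∈ B, ∀ y ∈ B, x * y = y * x := by
    intro x hx y hy
    rw [hB, mem_conj] at hx hy
    have h := hAcomm _ hx _ hy
    calc x * y = g * ((g⁻¹ * x * g) * (g⁻¹ * y * g)) * g⁻¹ := by group
      _ = g * ((g⁻¹ * y * g) * (g⁻¹ * x * g)) * g⁻¹ := by rw [h]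
      _ = y * x := by group
  have hA2 : IsPGroup 2 A := by
    intro x
    refine ⟨1, ?_⟩
    apply Subtype.ext
    simp [hAe x x.2]
  have hB2 : IsPGroup 2 B := hA2.map _
  -- Step 1: B normalizes A
  have hBN : B ≤ Subgroup.normalizer (A : Set G) := by
    intro b hbB
    apply mem_normalizer_of_conj_eq_self
    rcases hTI b with h | h
    · exfalso
      have hba : b * a * b⁻¹ = a := by
        have h1 := hg hbB
        rw [Subgroup.mem_centralizer_iff] at h1
        have h2 := h1 a rfl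
        rw [← h2]; group
      have : a ∈ A.map (MulAut.conj b).toMonoidHom ⊓ A :=
        ⟨by rw [← hba]; exact conj_mem_conj A b a ha, ha⟩
      rw [h] at this
      exact ha1 (Subgroup.mem_bot.mp this)
    · exact h
  rcases hTI g with hAB | h
  swap
  · exact h
  -- now B ⊓ A = ⊥
  set X : Subgroup G := A ⊔ B with hX
  have hX2 : IsPGroup 2 X := by
    have := IsPGroup.to_sup_of_normal_right' hB2 hA2 hBN
    rwa [sup_comm] at this
  set A₀ : Subgroup G := A ⊓ Subgroup.centralizer (B : Set G) with hA₀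
  set Y : Subgroup G := A₀ ⊔ B with hY
  have hYB : Y ≤ Subgroup.centralizer (B : Set G) := by
    apply sup_le inf_le_right
    intro b hbB
    rw [Subgroup.mem_centralizer_iff]
    intro y hy
    exact hBcomm y hy b hbB
  have hYX : Y ≤ X := sup_le (inf_le_left.trans le_sup_left) le_sup_right
  have hBY : B ≤ Y := le_sup_right
  have key : Y = X := by
    apply eq_of_self_normalizing_in_pgroup hX2 hYX
    intro x hxX hxN
    have hcoe := Subgroup.coe_mul_of_right_le_normalizer_left A B hBN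
    have hx' : x ∈ ((A ⊔ B : Subgroup G) : Set G) := hxX
    rw [hcoe] at hx'
    obtain ⟨a', ha', b, hbB, rfl⟩ := hx'
    have ha'N : a' ∈ Subgroup.normalizer (Y : Set G) := by
      have h1 : b⁻¹ ∈ Subgroup.normalizer (Y : Set G) :=
        Subgroup.le_normalizer (inv_mem (hBY hbB))
      have h2 := mul_mem hxN h1
      simpa using h2
    -- conj a' B ≤ Y
    have hB'Y : B.map (MulAut.conj a').toMonoidHom ≤ Y := by
      intro y hy
      rw [mem_conj] at hy
      have h1 : a'⁻¹ * y * a' ∈ Y := hBY hy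
      rw [Subgroup.mem_normalizer_iff] at ha'N
      have h2 := (ha'N _).mp h1
      have h3 : a' * (a'⁻¹ * y * a') * a'⁻¹ = y := by group
      rwa [h3] at h2
    -- so conj (g⁻¹ a' g) A commutes with A
    have hcomm : ∀ a₁ ∈ A, ∀ c ∈ A.map (MulAut.conj (g⁻¹ * a' * g)).toMonoidHom,
        a₁ * c = c * a₁ := by
      intro a₁ ha₁ c hc
      have hc' : g * c * g⁻¹ ∈ B.map (MulAut.conj a').toMonoidHom := by
        rw [hB, conj_conj, mem_conj]
        rw [mem_conj] at hc
        have : (a' * g)⁻¹ * (g * c * g⁻¹) * (a' * g) = (g⁻¹ * a' * g)⁻¹ * c * (g⁻¹ * a' * g) := by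
          group
        rwa [this]
      have ha₁' : g * a₁ * g⁻¹ ∈ B := conj_mem_conj A g a₁ ha₁
      have h1 := hYB (hB'Y hc')
      rw [Subgroup.mem_centralizer_iff] at h1
      have h2 := h1 _ ha₁'
      -- (g a₁ g⁻¹) (g c g⁻¹) = (g c g⁻¹) (g a₁ g⁻¹)
      calc a₁ * c = g⁻¹ * ((g * a₁ * g⁻¹) * (g * c * g⁻¹)) * g := by group
        _ = g⁻¹ * ((g * c * g⁻¹) * (g * a₁ * g⁻¹)) * g := by rw [h2]
        _ = c * a₁ := by group
    have h1 := hb _ hcomm
    have ha'B : B.map (MulAut.conj a').toMonoidHom = B := by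
      rw [hB, conj_conj]
      have : a' * g = g * (g⁻¹ * a' * g) := by group
      rw [this, ← conj_conj, h1]
    have ha'NB := mem_normalizer_of_conj_eq_self B a' ha'B
    have ha'C : a' ∈ Subgroup.centralizer (B : Set G) := by
      rw [Subgroup.mem_centralizer_iff]
      intro b₁ hb₁
      have h2 : a' * b₁ * a'⁻¹ * b₁⁻¹ ∈ B := by
        rw [Subgroup.mem_normalizer_iff] at ha'NB
        exact mul_mem ((ha'NB b₁).mp hb₁) (inv_mem hb₁)
      have h3 : a' * b₁ * a'⁻¹ * b₁⁻¹ ∈ A := by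
        have hb₁N := hBN hb₁
        rw [Subgroup.mem_normalizer_iff] at hb₁N
        have := (hb₁N a'⁻¹).mp (inv_mem ha')
        have h4 := mul_mem ha' this
        have h5 : a' * (b₁ * a'⁻¹ * b₁⁻¹) = a' * b₁ * a'⁻¹ * b₁⁻¹ := by group
        rwa [h5] at h4
      have h4 : a' * b₁ * a'⁻¹ * b₁⁻¹ ∈ B ⊓ A := ⟨h2, h3⟩
      rw [hAB, Subgroup.mem_bot] at h4
      have h5 : b₁ * a' = (a' * b₁ * a'⁻¹ * b₁⁻¹)⁻¹ * (a' * b₁) := by group
      rw [h5, h4]; simp
    have : a' ∈ A₀ := ⟨ha', ha'C⟩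
    exact mul_mem ((le_sup_left : A₀ ≤ Y) this) (hBY hbB)
  apply hb g
  intro a₁ ha₁ b hbB
  have h1 : a₁ ∈ Y := by rw [key]; exact (le_sup_left : A ≤ X) ha₁
  have h2 := hYB h1
  rw [Subgroup.mem_centralizer_iff] at h2
  exact (h2 b hbB).symm

end Cfsg.Agent.S1177
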