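import Mathlib
import Cfsg.Statements.S1178

set_option autoImplicit false
open Cfsg
open scoped Pointwise

namespace Cfsg.Agent.S1178

lemma mem_conj {G : Type*} [Group G] (A : Subgroup G) (g x : G) :
    x ∈ A.map (MulAut.conj g).toMonoidHom ↔ g⁻¹ * x * g ∈ A := by
  constructor
  · rintro ⟨a, ha, rfl⟩
    simpa [MulAut.conj_apply, mul_assoc] using ha
  · intro h
    refine ⟨g⁻¹ * x * g, h, ?_⟩
    simp [MulAut.conj_apply, mul_assoc]

lemma conj_conj {G : Type*} [Group G] (A : Subgroup G) (g h : G) :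
    (A.map (MulAut.conj g).toMonoidHom).map (MulAut.conj h).toMonoidHom
      = A.map (MulAut.conj (h * g)).toMonoidHom := by
  ext x
  simp only [mem_conj]
  have : g⁻¹ * (h⁻¹ * x * h) * g = (h * g)⁻¹ * x * (h * g) := by group
  rw [this]

lemma conj_one {G : Type*} [Group G] (A : Subgroup G) :
    A.map (MulAut.conj (1 : G)).toMonoidHom = A := by
  ext x; simp

lemma mem_smul_sylow {G : Type*} [Group G] {p : ℕ} (S : Sylow p G) (h x : G) :
    x ∈ ((h • S : Sylow p G) : Subgroup G) ↔ h⁻¹ * x * h ∈ (S : Subgroup G) := by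
  rw [Sylow.coe_subgroup_smul, Subgroup.mem_pointwise_smul_iff_inv_smul_mem]
  simp [MulAut.smul_def, mul_assoc]

/-- Let A be a subgroup of a Sylow 2-subgroup S of the finite group G which is weakly closed in S. If a conjugate g A g⁻¹ commutes elementwise with A, then g A g⁻¹ = A. -/
theorem result {G : Type*} [Group G] [Finite G] (S : Sylow 2 G) (A : Subgroup G) (hW : Cfsg.IsWeaklyClosed A (S : Subgroup G)) (g : G) (hc : ∀ a ∈ A, ∀ b ∈ A.map (MulAut.conj g).toMonoidHom, a * b = b * a) : A.map (MulAut.conj g).toMonoidHom = A := by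
  obtain ⟨hAS, hwc⟩ := hW
  set B := A.map (MulAut.conj g).toMonoidHom with hB
  have hA2 : IsPGroup 2 A := S.isPGroup'.to_le hAS
  have hB2 : IsPGroup 2 B := hA2.map _
  have hAB : A ≤ Subgroup.normalizer (B : Set G) := by
    intro a ha
    rw [Subgroup.mem_normalizer_iff]
    intro b
    constructor
    · intro hb
      have := hc a ha b hb
      rw [this, mul_inv_cancel_right]; exact hb
    · intro hb
      have h1 := hc a ha _ hb
      -- a * (a b a⁻¹) = (a b a⁻¹) * a  ⇒ a b = b a... recover b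
      have : b = a⁻¹ * (a * b * a⁻¹) * a := by group
      rw [this]
      have h2 : a⁻¹ * (a * b * a⁻¹) * a = a * b * a⁻¹ := by
        rw [mul_assoc, ← h1]; group
      rw [h2]; exact hb
  have hsup : IsPGroup 2 (A ⊔ B : Subgroup G) := IsPGroup.to_sup_of_normal_right' hA2 hB2 hAB
  obtain ⟨Q, hQ⟩ := hsup.exists_le_sylow
  obtain ⟨h, hh⟩ := MulAction.exists_smul_eq G S Q
  -- A^{h⁻¹} ≤ S
  have h1 : A.map (MulAut.conj h⁻¹).toMonoidHom ≤ S := by
    intro x hx
    rw [mem_conj] at hx
    have : h⁻¹⁻¹ * x * h⁻¹ ∈ (Q : Subgroup G) := hQ (Subgroup.mem_sup_left hx)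
    rw [← hh, mem_smul_sylow] at this
    simpa [mul_assoc] using this
  have h2 : A.map (MulAut.conj (h⁻¹ * g)).toMonoidHom ≤ S := by
    rw [← conj_conj]
    intro x hx
    rw [mem_conj] at hx
    have : h⁻¹⁻¹ * x * h⁻¹ ∈ (Q : Subgroup G) := hQ (Subgroup.mem_sup_right hx)
    rw [← hh, mem_smul_sylow] at this
    simpa [mul_assoc] using this
  have e1 := hwc _ h1
  have e2 := hwc _ h2
  have e3 : A.map (MulAut.conj h).toMonoidHom = A := by
    have := congrArg (fun X => X.map (MulAut.conj h).toMonoidHom) e1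
    simp only [conj_conj, mul_inv_cancel, conj_one] at this
    exact this.symm
  have := congrArg (fun X => X.map (MulAut.conj h).toMonoidHom) e2
  simp only [conj_conj, mul_inv_cancel_left] at this
  rw [hB, this, e3]

end Cfsg.Agent.S1178
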