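import Mathlib
import Cfsg.Statements.S1180
import Cfsg.Agent.Lib.Helper2_Isolated

set_option autoImplicit false
open Cfsg
open scoped Pointwise

namespace Cfsg.Agent.S1180

open Cfsg.Agent.Lib.Helper2_Isolated

lemma mem_smul_sylow {G : Type*} [Group G] {p : ℕ} (S : Sylow p G) (h x : G) :
    x ∈ ((h • S : Sylow p G) : Subgroup G) ↔ h⁻¹ * x * h ∈ (S : Subgroup G) := by
  rw [Sylow.coe_subgroup_smul, Subgroup.mem_pointwise_smul_iff_inv_smul_mem]
  simp [MulAut.smul_def, mul_assoc]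

lemma isPGroup_zpowers_of_orderOf_two {K : Type*} [Group K] (x : K) (hx : orderOf x = 2) :
    IsPGroup 2 (Subgroup.zpowers x) := by
  apply IsPGroup.of_card (n := 1)
  rw [Nat.card_zpowers, hx]; rfl

/-- Let z be an isolated involution of the finite group G and H a subgroup containing z. Then every conjugate g z g⁻¹ that lies in H is conjugate to z by an element of H. -/
theorem result {G : Type*} [Group G] [Finite G] (z : G) (hz : Cfsg.IsIsolatedInvolution z) (H : Subgroup G) (hzH : z ∈ H) (g : G) (hg : g * z * g⁻¹ ∈ H) : ∃ h ∈ H, h * z * h⁻¹ = g * z * g⁻¹ := by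
  have : Fact (Nat.Prime 2) := ⟨Nat.prime_two⟩
  set z' := g * z * g⁻¹ with hz'
  have ho : orderOf (⟨z, hzH⟩ : H) = 2 := by rw [Subgroup.orderOf_mk]; exact hz.1
  have ho' : orderOf (⟨z', hg⟩ : H) = 2 := by
    rw [Subgroup.orderOf_mk]; exact (conj hz g).1
  obtain ⟨P, hP⟩ := (isPGroup_zpowers_of_orderOf_two _ ho).exists_le_sylow
  obtain ⟨P', hP'⟩ := (isPGroup_zpowers_of_orderOf_two _ ho').exists_le_sylow
  obtain ⟨h, hh⟩ := MulAction.exists_smul_eq H P P'
  have h1 : (⟨z', hg⟩ : H) ∈ (P' : Subgroup H) := hP' (Subgroup.mem_zpowers _)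
  rw [← hh, mem_smul_sylow] at h1
  have h0 : (⟨z, hzH⟩ : H) ∈ (P : Subgroup H) := hP (Subgroup.mem_zpowers _)
  set S : Subgroup G := (P : Subgroup H).map H.subtype with hS
  have hS2 : IsPGroup 2 S := P.isPGroup'.map _
  have hzS : z ∈ S := ⟨_, h0, rfl⟩
  have hz'S : ((h : G)⁻¹ * g) * z * ((h : G)⁻¹ * g)⁻¹ ∈ S := by
    refine ⟨_, h1, ?_⟩
    simp only [Subgroup.coe_subtype, Subgroup.coe_mul, InvMemClass.coe_inv]
    rw [hz']; group
  have := conj_eq_of_mem_two_group hz S hS2 hzS _ hz'S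
  refine ⟨h, h.2, ?_⟩
  calc (h : G) * z * (h : G)⁻¹ = (h : G) * (((h : G)⁻¹ * g) * z * ((h : G)⁻¹ * g)⁻¹) * (h : G)⁻¹ := by
        rw [this]
    _ = z' := by rw [hz']; group

end Cfsg.Agent.S1180
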