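import Mathlib
import Cfsg.Statements.S1181
import Cfsg.Agent.Lib.Helper2_Isolated

set_option autoImplicit false
open Cfsg

namespace Cfsg.Agent.S1181

open Cfsg.Agent.Lib.Helper2_Isolated

/-- Let z be an isolated involution of the finite group G and N a normal subgroup with z ∉ N. Then the centralizer of zN in G/N is the image of C_G(z), and zN is an isolated involution of G/N. -/
theorem result {G : Type*} [Group G] [Finite G] (z : G) (hz : Cfsg.IsIsolatedInvolution z) (N : Subgroup G) [N.Normal] (hzN : z ∉ N) : Subgroup.centralizer ({(QuotientGroup.mk z : G ⧸ N)} : Set (G ⧸ N)) = (Subgroup.centralizer ({z} : Set G)).map (QuotientGroup.mk' N) ∧ Cfsg.IsIsolatedInvolution (QuotientGroup.mk z : G ⧸ N) := by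
  have hzz : z * z = 1 := sq_eq_one hz
  have hzinv : z⁻¹ = z := inv_eq hz
  have hzz' : (QuotientGroup.mk z : G ⧸ N) * QuotientGroup.mk z = 1 := by
    rw [← QuotientGroup.mk_mul, hzz]; rfl
  have httG : ∀ g : G, g * z * g⁻¹ * (g * z * g⁻¹) = 1 := by
    intro g
    calc g * z * g⁻¹ * (g * z * g⁻¹) = g * (z * z) * g⁻¹ := by group
      _ = 1 := by rw [hzz]; group
  constructor
  · apply le_antisymm
    · intro q hq
      obtain ⟨g, rfl⟩ := QuotientGroup.mk_surjective q
      rw [Subgroup.mem_centralizer_iff] at hq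
      have h1 : (QuotientGroup.mk z : G ⧸ N) * QuotientGroup.mk g = QuotientGroup.mk g * QuotientGroup.mk z :=
        hq _ rfl
      -- r = g z g⁻¹ z ∈ N
      have hrN : g * z * g⁻¹ * z ∈ N := by
        rw [← QuotientGroup.eq_one_iff]
        simp only [QuotientGroup.mk_mul, QuotientGroup.mk_inv]
        rw [← h1]
        calc (QuotientGroup.mk z : G ⧸ N) * QuotientGroup.mk g * (QuotientGroup.mk g)⁻¹ * QuotientGroup.mk z
            = (QuotientGroup.mk z : G ⧸ N) * QuotientGroup.mk z := by group
          _ = 1 := hzz'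
      obtain ⟨j, _, hk⟩ := exists_pow_conj hz g
      set k := (g * z * g⁻¹ * z) ^ (j + 1) with hkdef
      have hkN : k ∈ N := N.pow_mem hrN _
      -- k⁻¹ g ∈ C(z)
      have hc : k⁻¹ * g ∈ Subgroup.centralizer ({z} : Set G) := by
        rw [Subgroup.mem_centralizer_iff]
        intro y hy
        rw [Set.mem_singleton_iff] at hy
        rw [hy]
        calc z * (k⁻¹ * g) = k⁻¹ * (k * z * k⁻¹) * g := by group
          _ = k⁻¹ * (g * z * g⁻¹) * g := by rw [hk]
          _ = k⁻¹ * g * z := by group
      refine ⟨k⁻¹ * g, hc, ?_⟩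
      rw [QuotientGroup.mk'_apply, QuotientGroup.mk_mul, QuotientGroup.mk_inv]
      have : (QuotientGroup.mk k : G ⧸ N) = 1 := (QuotientGroup.eq_one_iff k).mpr hkN
      rw [this, inv_one, one_mul]
    · rintro q ⟨c, hc0, rfl⟩
      have hc : c ∈ Subgroup.centralizer ({z} : Set G) := hc0
      rw [Subgroup.mem_centralizer_iff] at hc ⊢
      intro y hy
      rw [Set.mem_singleton_iff] at hy
      rw [hy, QuotientGroup.mk'_apply, ← QuotientGroup.mk_mul, ← QuotientGroup.mk_mul, hc z rfl]
  · have hq1 : (QuotientGroup.mk z : G ⧸ N) ≠ 1 := by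
      intro h
      rw [QuotientGroup.eq_one_iff] at h
      exact hzN h
    have hq2 : (QuotientGroup.mk z : G ⧸ N) ^ 2 = 1 := by
      rw [pow_two]; exact hzz'
    refine ⟨orderOf_eq_prime hq2 hq1, ?_⟩
    intro q hq
    obtain ⟨g, rfl⟩ := QuotientGroup.mk_surjective q
    -- r² ∈ N where r = g z g⁻¹ z
    set r := g * z * g⁻¹ * z with hr
    have hq' : (QuotientGroup.mk z : G ⧸ N) * QuotientGroup.mk (g * z * g⁻¹)
        = QuotientGroup.mk (g * z * g⁻¹) * QuotientGroup.mk z := by
      have := hq.eq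
      simpa only [QuotientGroup.mk_mul, QuotientGroup.mk_inv] using this
    have hr2 : r ^ 2 ∈ N := by
      rw [← QuotientGroup.eq_one_iff, QuotientGroup.mk_pow, hr, QuotientGroup.mk_mul, pow_two]
      have htt : (QuotientGroup.mk (g * z * g⁻¹) : G ⧸ N) * QuotientGroup.mk (g * z * g⁻¹) = 1 := by
        rw [← QuotientGroup.mk_mul, httG g]; rfl
      calc (QuotientGroup.mk (g * z * g⁻¹) : G ⧸ N) * QuotientGroup.mk z *
            (QuotientGroup.mk (g * z * g⁻¹) * QuotientGroup.mk z)
          = QuotientGroup.mk (g * z * g⁻¹) * (QuotientGroup.mk z * QuotientGroup.mk (g * z * g⁻¹))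
              * QuotientGroup.mk z := by group
        _ = QuotientGroup.mk (g * z * g⁻¹) * (QuotientGroup.mk (g * z * g⁻¹) * QuotientGroup.mk z)
              * QuotientGroup.mk z := by rw [hq']
        _ = (QuotientGroup.mk (g * z * g⁻¹) * QuotientGroup.mk (g * z * g⁻¹)) *
              (QuotientGroup.mk z * QuotientGroup.mk z) := by group
        _ = 1 := by rw [htt, hzz', one_mul]
    obtain ⟨j, hj0⟩ := odd_orderOf_conj_mul hz g
    have hj : orderOf r = 2 * j + 1 := hj0
    have hrN : r ∈ N := by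
      have : r = (r ^ 2) ^ (j + 1) := by
        rw [← pow_mul]
        have : 2 * (j + 1) = orderOf r + 1 := by omega
        rw [this, pow_succ, pow_orderOf_eq_one, one_mul]
      rw [this]; exact N.pow_mem hr2 _
    -- hence image of g z g⁻¹ equals image of z
    have : (QuotientGroup.mk (g * z * g⁻¹) : G ⧸ N) = QuotientGroup.mk z := by
      rw [QuotientGroup.eq]
      have htinv : (g * z * g⁻¹)⁻¹ = g * z * g⁻¹ := inv_eq_of_mul_eq_one_left (httG g)
      rw [htinv]
      exact hrN
    simpa only [QuotientGroup.mk_mul, QuotientGroup.mk_inv] using this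

end Cfsg.Agent.S1181
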