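import Mathlib
import Cfsg.Statements.S1182
import Cfsg.Agent.S1180

set_option autoImplicit false
open Cfsg
open scoped Pointwise

namespace Cfsg.Agent.S1182

/-- Let z be an isolated involution of the finite group G and H a subgroup normalized by z. If x, y ∈ H both commute with z and y = h x h⁻¹ for some h ∈ H, then y = c x c⁻¹ for some c ∈ H commuting with z. -/
theorem result {G : Type*} [Group G] [Finite G] (z : G) (hz : Cfsg.IsIsolatedInvolution z) (H : Subgroup G) (hzH : z ∈ Subgroup.normalizer (H : Set G)) (x y : G) (hx : x ∈ H) (hy : y ∈ H) (hxz : Commute x z) (hyz : Commute y z) (h : G) (hh : h ∈ H) (hconj : h * x * h⁻¹ = y) : ∃ c ∈ H, Commute c z ∧ c * x * c⁻¹ = y := by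
  set Z := Subgroup.zpowers z with hZ
  have hZN : Z ≤ Subgroup.normalizer (H : Set G) := Subgroup.zpowers_le.mpr hzH
  set M : Subgroup G := (H ⊔ Z) ⊓ Subgroup.centralizer ({y} : Set G) with hM
  have hzM : z ∈ M := by
    refine Subgroup.mem_inf.mpr ⟨Subgroup.mem_sup_right (Subgroup.mem_zpowers z), ?_⟩
    rw [Subgroup.mem_centralizer_iff]
    intro w hw
    rw [Set.mem_singleton_iff] at hw
    rw [hw]; exact hyz.eq
  have hz'M : h * z * h⁻¹ ∈ M := by
    refine Subgroup.mem_inf.mpr ⟨?_, ?_⟩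
    · exact Subgroup.mul_mem _ (Subgroup.mul_mem _ (Subgroup.mem_sup_left hh)
        (Subgroup.mem_sup_right (Subgroup.mem_zpowers z))) (Subgroup.inv_mem _ (Subgroup.mem_sup_left hh))
    · rw [Subgroup.mem_centralizer_iff]
      intro w hw
      rw [Set.mem_singleton_iff] at hw
      rw [hw, ← hconj]
      have := hxz.eq
      calc h * x * h⁻¹ * (h * z * h⁻¹) = h * (x * z) * h⁻¹ := by group
        _ = h * (z * x) * h⁻¹ := by rw [this]
        _ = h * z * h⁻¹ * (h * x * h⁻¹) := by group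
  obtain ⟨m, hmM, hm⟩ := Cfsg.Agent.S1180.result z hz M hzM h hz'M
  obtain ⟨hm1, hm2⟩ := Subgroup.mem_inf.mp hmM
  rw [← SetLike.mem_coe, Subgroup.coe_mul_of_right_le_normalizer_left H Z hZN, Set.mem_mul] at hm1
  obtain ⟨k, hk, w, hw, rfl⟩ := hm1
  have hk' : k ∈ H := hk
  have hw' : w ∈ Z := hw
  -- w commutes with z and y
  obtain ⟨i, rfl⟩ := Subgroup.mem_zpowers_iff.mp hw'
  have hwz : Commute (z ^ i) z := (Commute.refl z).zpow_left i
  have hwy : Commute (z ^ i) y := (hyz.symm).zpow_left i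
  rw [Subgroup.mem_centralizer_iff] at hm2
  have hm2' : y * (k * z ^ i) = k * z ^ i * y := hm2 y rfl
  have hky : Commute k y := by
    show k * y = y * k
    have e : k = (k * z ^ i) * (z ^ i)⁻¹ := by group
    calc k * y = (k * z ^ i) * (z ^ i)⁻¹ * y := by rw [← e]
      _ = (k * z ^ i) * (y * (z ^ i)⁻¹) := by rw [mul_assoc, (hwy.inv_left).eq]
      _ = (k * z ^ i * y) * (z ^ i)⁻¹ := by group
      _ = (y * (k * z ^ i)) * (z ^ i)⁻¹ := by rw [hm2']
      _ = y * k := by group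
  have hkz : k * z * k⁻¹ = h * z * h⁻¹ := by
    rw [← hm]
    have := hwz.eq
    calc k * z * k⁻¹ = k * (z * z ^ i) * (z ^ i)⁻¹ * k⁻¹ := by group
      _ = k * (z ^ i * z) * (z ^ i)⁻¹ * k⁻¹ := by rw [this]
      _ = k * z ^ i * z * (k * z ^ i)⁻¹ := by group
  refine ⟨k⁻¹ * h, H.mul_mem (H.inv_mem hk') hh, ?_, ?_⟩
  · show k⁻¹ * h * z = z * (k⁻¹ * h)
    calc k⁻¹ * h * z = k⁻¹ * (h * z * h⁻¹) * h := by group
      _ = k⁻¹ * (k * z * k⁻¹) * h := by rw [hkz]
      _ = z * (k⁻¹ * h) := by group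
  · calc k⁻¹ * h * x * (k⁻¹ * h)⁻¹ = k⁻¹ * (h * x * h⁻¹) * k := by group
      _ = k⁻¹ * y * k := by rw [hconj]
      _ = k⁻¹ * (k * y) := by rw [mul_assoc, ← hky.eq]
      _ = y := by group

end Cfsg.Agent.S1182
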