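import Mathlib
import Cfsg.Statements.S1183
import Cfsg.Agent.S0077
import Cfsg.Agent.Lib.Helper3_PResidual
import Cfsg.Agent.Lib.Helper5_Sylow

set_option autoImplicit false
open Cfsg

namespace Cfsg.Agent.S1183

open Subgroup
open Cfsg.Agent.Lib.Helper3_PResidual

/-- `O^p(X) = X` iff a Sylow `p`-subgroup lies in the derived subgroup. -/
theorem pResidual_eq_top_iff {X : Type*} [Group X] [Finite X] {p : ℕ} [Fact p.Prime]
    (P : Sylow p X) : Cfsg.pResidual p X = ⊤ ↔ (P : Subgroup X) ≤ commutator X := by
  have hp : p.Prime := Fact.out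
  constructor
  · intro h s hs
    -- the `p'`-part of `|X|`
    obtain ⟨k, m, hm, hkm⟩ := Nat.exists_eq_pow_mul_and_not_dvd (Nat.card_pos (α := X)).ne' p
      hp.one_lt.ne'
    have hcop : (p ^ k).Coprime m := Nat.Coprime.pow_left k ((Nat.Prime.coprime_iff_not_dvd hp).mpr hm)
    -- every element maps to an element killed by `m`
    have hall : Cfsg.pResidual p X ≤
        (MonoidHom.ker (powMonoidHom m : Abelianization X →* Abelianization X)).comap
          Abelianization.of := by
      unfold Cfsg.pResidual
      rw [Subgroup.closure_le]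
      intro g hg
      have hg' : (orderOf g).Coprime p := hg
      have h1 : orderOf g ∣ p ^ k * m := by rw [← hkm]; exact orderOf_dvd_natCard g
      have h2 : orderOf g ∣ m := (Nat.Coprime.pow_right k hg').dvd_of_dvd_mul_left h1
      show Abelianization.of g ∈ MonoidHom.ker (powMonoidHom m)
      rw [MonoidHom.mem_ker, powMonoidHom_apply, ← map_pow, orderOf_dvd_iff_pow_eq_one.mp h2,
        map_one]
    have hs1 : (Abelianization.of s) ^ m = 1 := by
      have : s ∈ Cfsg.pResidual p X := by rw [h]; trivial
      have := hall this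
      rwa [Subgroup.mem_comap, MonoidHom.mem_ker, powMonoidHom_apply] at this
    have hs2 : (Abelianization.of s) ^ (p ^ k) = 1 := by
      have h1 : orderOf s ∣ p ^ k := by
        obtain ⟨j, hj⟩ := (IsPGroup.iff_orderOf.mp P.isPGroup') ⟨s, hs⟩
        have hj' : orderOf s = p ^ j := by rw [← hj, Subgroup.orderOf_mk]
        have h2 : p ^ j ∣ p ^ k * m := by rw [← hkm, ← hj']; exact orderOf_dvd_natCard s
        have h3 : p ^ j ∣ p ^ k := (Nat.Coprime.pow_left j ((Nat.Prime.coprime_iff_not_dvd hp).mpr hm)).dvd_of_dvd_mul_right h2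
        rw [hj']; exact h3
      rw [← map_pow, orderOf_dvd_iff_pow_eq_one.mp h1, map_one]
    have hs3 : Abelianization.of s = 1 := by
      have h1 : orderOf (Abelianization.of s) ∣ Nat.gcd (p ^ k) m :=
        Nat.dvd_gcd (orderOf_dvd_of_pow_eq_one hs2) (orderOf_dvd_of_pow_eq_one hs1)
      rw [hcop.gcd_eq_one, Nat.dvd_one, orderOf_eq_one_iff] at h1
      exact h1
    have : s ∈ MonoidHom.ker (Abelianization.of : X →* Abelianization X) := hs3
    rwa [Abelianization.ker_of] at this
  · intro h
    haveI := pResidual_normal p X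
    have hK : IsPGroup p (X ⧸ Cfsg.pResidual p X) :=
      isPGroup_quotient_of_coprime_mem p _ (fun g hg => mem_pResidual_of_coprime p g hg)
    have htop := sup_eq_top_of_index_coprime p (P : Subgroup X) (Cfsg.pResidual p X)
      P.not_dvd_index hK
    -- the quotient is a `p`-group equal to its own derived subgroup
    have hQ : commutator (X ⧸ Cfsg.pResidual p X) = ⊤ := by
      rw [eq_top_iff]
      intro q _
      obtain ⟨x, rfl⟩ := QuotientGroup.mk_surjective q
      obtain ⟨r, hr, m, hm, rfl⟩ := exists_mul_pResidual p (P : Subgroup X) P.not_dvd_index x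
      have h1 : ((r * m : X) : X ⧸ Cfsg.pResidual p X) = (r : X ⧸ Cfsg.pResidual p X) := by
        rw [QuotientGroup.mk_mul, (QuotientGroup.eq_one_iff m).mpr hm, mul_one]
      rw [h1]
      have h2 : r ∈ commutator X := h hr
      have h3 : (commutator X).map (QuotientGroup.mk' (Cfsg.pResidual p X)) ≤
          commutator (X ⧸ Cfsg.pResidual p X) := by
        rw [commutator_def, Subgroup.map_commutator, commutator_def]
        exact Subgroup.commutator_mono le_top le_top
      exact h3 ⟨r, h2, rfl⟩
    have hsub : Subsingleton (X ⧸ Cfsg.pResidual p X) := by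
      by_contra hns
      rw [not_subsingleton_iff_nontrivial] at hns
      haveI : Group.IsNilpotent (X ⧸ Cfsg.pResidual p X) := hK.isNilpotent
      have := Group.IsSolvable.commutator_lt_top_of_nontrivial (X ⧸ Cfsg.pResidual p X)
      rw [hQ] at this
      exact lt_irrefl _ this
    rw [eq_top_iff]
    intro x _
    have : (x : X ⧸ Cfsg.pResidual p X) = 1 := Subsingleton.elim _ _
    exact (QuotientGroup.eq_one_iff x).mp this

section Main

variable {G : Type*} [Group G] [Finite G]

theorem exists_sylow_central (z : G) (hz : Cfsg.IsIsolatedInvolution z) :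
    ∃ S : Sylow 2 G, z ∈ (S : Subgroup G) ∧
      (S : Subgroup G) ≤ centralizer ({z} : Set G) := by
  have hZp : IsPGroup 2 (zpowers z) := by
    apply IsPGroup.of_card (n := 1)
    rw [Nat.card_zpowers, hz.1, pow_one]
  obtain ⟨S, hS⟩ := hZp.exists_le_sylow
  have hzS : z ∈ (S : Subgroup G) := hS (mem_zpowers z)
  refine ⟨S, hzS, ?_⟩
  by_contra hle
  have hlt : (S : Subgroup G) ⊓ centralizer ({z} : Set G) < S := by
    refine lt_of_le_of_ne inf_le_left ?_
    intro h
    apply hle
    rw [← h]; exact inf_le_right
  have h1 := Cfsg.Agent.Lib.Helper5_Sylow.lt_inf_normalizer S.isPGroup' hlt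
  obtain ⟨s, hs, hsT⟩ := SetLike.exists_of_lt h1
  have hzT : z ∈ (S : Subgroup G) ⊓ centralizer ({z} : Set G) :=
    Subgroup.mem_inf.mpr ⟨hzS, mem_centralizer_singleton_iff.mpr rfl⟩
  have h2 : s * z * s⁻¹ ∈ (S : Subgroup G) ⊓ centralizer ({z} : Set G) :=
    (mem_normalizer_iff.mp hs.2 z).mp hzT
  have h3 : s * z * s⁻¹ * z = z * (s * z * s⁻¹) := mem_centralizer_singleton_iff.mp h2.2
  have h4 : s * z * s⁻¹ = z := hz.2 s h3.symm
  apply hsT
  refine Subgroup.mem_inf.mpr ⟨hs.1, mem_centralizer_singleton_iff.mpr ?_⟩
  calc s * z = (s * z * s⁻¹) * s := by group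
    _ = z * s := by rw [h4]

omit [Finite G] in
theorem normalizer_zpowers_eq (z : G) (hz : orderOf z = 2) :
    normalizer ((zpowers z : Subgroup G) : Set G) = centralizer ({z} : Set G) := by
  apply le_antisymm
  · intro n hn
    have h1 : n * z * n⁻¹ ∈ zpowers z := (mem_normalizer_iff.mp hn z).mp (mem_zpowers z)
    obtain ⟨k, hk⟩ := Subgroup.mem_zpowers_iff.mp h1
    have hz2 : z ^ (2 : ℤ) = 1 := by
      have := pow_orderOf_eq_one z
      rw [hz] at this
      exact_mod_cast this
    have hne : n * z * n⁻¹ ≠ 1 := by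
      intro h
      have : z = 1 := by
        have h' : n⁻¹ * (n * z * n⁻¹) * n = n⁻¹ * 1 * n := by rw [h]
        simpa [mul_assoc] using h'
      rw [this, orderOf_one] at hz
      omega
    have hzk : z ^ k = z := by
      rcases Int.emod_two_eq_zero_or_one k with h0 | h0
      · exfalso
        apply hne
        rw [← hk]
        have : k = 2 * (k / 2) := by omega
        rw [this, zpow_mul, hz2, one_zpow]
      · have : k = 2 * (k / 2) + 1 := by omega
        rw [this, zpow_add, zpow_mul, hz2, one_zpow, one_mul, zpow_one]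
    rw [hzk] at hk
    rw [mem_centralizer_singleton_iff]
    calc n * z = (n * z * n⁻¹) * n := by group
      _ = z * n := by rw [← hk]
  · intro n hn
    have h1 : n * z = z * n := mem_centralizer_singleton_iff.mp hn
    rw [mem_normalizer_iff]
    intro y
    have hc : ∀ w ∈ zpowers z, n * w * n⁻¹ = w := by
      intro w hw
      obtain ⟨k, rfl⟩ := Subgroup.mem_zpowers_iff.mp hw
      have : Commute n (z ^ k) := (show Commute n z from h1).zpow_right k
      rw [this.eq]; group
    constructor
    · intro hy
      rw [hc y hy]; exact hy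
    · intro hy
      have h2 := hc _ hy
      have h3 : n⁻¹ * (n * (n * y * n⁻¹) * n⁻¹) * n = n⁻¹ * (n * y * n⁻¹) * n := by rw [h2]
      have h4 : n * y * n⁻¹ = y := by
        have e1 : n⁻¹ * (n * (n * y * n⁻¹) * n⁻¹) * n = n * y * n⁻¹ := by group
        have e2 : n⁻¹ * (n * y * n⁻¹) * n = y := by group
        rw [e1, e2] at h3
        exact h3
      rw [← h4]; exact hy

end Main

/-- Let z be an isolated involution of the finite group G and C = C_G(z). Then the subgroup of G generated by its elements of odd order is all of G if and only if the subgroup of C generated by its elements of odd order is all of C. -/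
theorem result {G : Type*} [Group G] [Finite G] (z : G) (hz : Cfsg.IsIsolatedInvolution z) : Cfsg.pResidual 2 G = ⊤ ↔ Cfsg.pResidual 2 ↥(Subgroup.centralizer ({z} : Set G)) = ⊤ := by
  obtain ⟨S, hzS, hSC⟩ := exists_sylow_central z hz
  have hZ : zpowers z ≤ centralizer ((S : Subgroup G) : Set G) := by
    rw [Subgroup.zpowers_le]
    rw [Subgroup.mem_centralizer_iff]
    intro s hs
    exact mem_centralizer_singleton_iff.mp (hSC hs)
  have hW : Cfsg.IsWeaklyClosed (zpowers z) (S : Subgroup G) := by
    refine ⟨by rw [Subgroup.zpowers_le]; exact hzS, ?_⟩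
    intro g hg
    rw [MonoidHom.map_zpowers] at hg ⊢
    have h1 : g * z * g⁻¹ ∈ (S : Subgroup G) := hg (mem_zpowers _)
    have h2 : g * z * g⁻¹ * z = z * (g * z * g⁻¹) := mem_centralizer_singleton_iff.mp (hSC h1)
    have h3 : g * z * g⁻¹ = z := hz.2 g h2.symm
    show zpowers (g * z * g⁻¹) = zpowers z
    rw [h3]
  have key := Cfsg.Agent.S0077.result S (zpowers z) hZ hW
  rw [normalizer_zpowers_eq z hz.1] at key
  rw [pResidual_eq_top_iff S, pResidual_eq_top_iff (S.subtype hSC)]
  have hmap : (commutator ↥(centralizer ({z} : Set G))).map (centralizer ({z} : Set G)).subtype =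
      ⁅centralizer ({z} : Set G), centralizer ({z} : Set G)⁆ := by
    rw [commutator_def, Subgroup.map_commutator, ← MonoidHom.range_eq_map, Subgroup.range_subtype]
  constructor
  · intro h
    have h1 : (S : Subgroup G) ≤ ⁅centralizer ({z} : Set G), centralizer ({z} : Set G)⁆ := by
      have : (S : Subgroup G) ≤ commutator G ⊓ (S : Subgroup G) := le_inf h le_rfl
      rw [key] at this
      exact this.trans inf_le_left
    intro x hx
    rw [Sylow.coe_subtype, mem_subgroupOf] at hx
    have h2 := h1 hx
    rw [← hmap] at h2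
    obtain ⟨y, hy, hyx⟩ := h2
    have : y = x := Subtype.ext hyx
    rw [← this]; exact hy
  · intro h
    have h1 : (S : Subgroup G) ≤ ⁅centralizer ({z} : Set G), centralizer ({z} : Set G)⁆ := by
      intro s hs
      rw [← hmap]
      refine ⟨⟨s, hSC hs⟩, h ?_, rfl⟩
      rw [Sylow.coe_subtype, mem_subgroupOf]
      exact hs
    have : (S : Subgroup G) ≤ ⁅centralizer ({z} : Set G), centralizer ({z} : Set G)⁆ ⊓
        (S : Subgroup G) := le_inf h1 le_rfl
    rw [← key] at this
    exact this.trans inf_le_left

end Cfsg.Agent.S1183
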