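import Mathlib
import Cfsg.Statements.S1184
import Cfsg.Agent.S1180

set_option autoImplicit false
open Cfsg

namespace Cfsg.Agent.S1184

open Cfsg.Agent.Lib.Helper2_Isolated

/-- Let z be an isolated involution of the finite group G. If s and t are distinct conjugates of z, then st does not commute with z. -/
theorem result {G : Type*} [Group G] [Finite G] (z : G) (hz : Cfsg.IsIsolatedInvolution z) (g h : G) (hne : g * z * g⁻¹ ≠ h * z * h⁻¹) : ¬ Commute (g * z * g⁻¹ * (h * z * h⁻¹)) z := by
  intro hcomm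
  set s := g * z * g⁻¹ with hs
  set t := h * z * h⁻¹ with ht
  set r := s * t with hr
  have hzz : z * z = 1 := sq_eq_one hz
  have hss : s * s = 1 := by
    rw [hs]
    calc g * z * g⁻¹ * (g * z * g⁻¹) = g * (z * z) * g⁻¹ := by group
      _ = 1 := by rw [hzz]; group
  have htt : t * t = 1 := by
    rw [ht]
    calc h * z * h⁻¹ * (h * z * h⁻¹) = h * (z * z) * h⁻¹ := by group
      _ = 1 := by rw [hzz]; group
  have hsinv : s⁻¹ = s := inv_eq_of_mul_eq_one_left hss
  have htinv : t⁻¹ = t := inv_eq_of_mul_eq_one_left htt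
  have hrinv : r⁻¹ = t * s := by rw [hr, mul_inv_rev, hsinv, htinv]
  have hsr : s * r * s⁻¹ = r⁻¹ := by
    rw [hrinv, hsinv, hr]
    calc s * (s * t) * s = (s * s) * t * s := by group
      _ = t * s := by rw [hss, one_mul]
  have hsr' : s * r⁻¹ * s⁻¹ = r := by
    rw [hrinv, hsinv, hr]
    calc s * (t * s) * s = s * t * (s * s) := by group
      _ = s * t := by rw [hss, mul_one]
  set N := Subgroup.normalizer ({r, r⁻¹} : Set G) with hN
  have hsN : s ∈ N := by
    rw [hN, Subgroup.mem_set_normalizer_iff]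
    intro x
    simp only [Set.mem_insert_iff, Set.mem_singleton_iff]
    constructor
    · rintro (rfl | rfl)
      · right; exact hsr
      · left; exact hsr'
    · rintro (hx | hx)
      · right
        calc x = s⁻¹ * (s * x * s⁻¹) * s := by group
          _ = s⁻¹ * r * s := by rw [hx]
          _ = s * r * s⁻¹ := by rw [hsinv]
          _ = r⁻¹ := hsr
      · left
        calc x = s⁻¹ * (s * x * s⁻¹) * s := by group
          _ = s⁻¹ * r⁻¹ * s := by rw [hx]
          _ = s * r⁻¹ * s⁻¹ := by rw [hsinv]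
          _ = r := hsr'
  have hzr : z * r = r * z := hcomm.eq.symm
  have hzr' : z * r⁻¹ = r⁻¹ * z := ((show Commute z r from hzr).inv_right).eq
  have hzN : z ∈ N := by
    rw [hN, Subgroup.mem_set_normalizer_iff]
    intro x
    have e1 : z * r * z⁻¹ = r := by rw [hzr]; group
    have e2 : z * r⁻¹ * z⁻¹ = r⁻¹ := by rw [hzr']; group
    simp only [Set.mem_insert_iff, Set.mem_singleton_iff]
    constructor
    · rintro (rfl | rfl)
      · left; exact e1
      · right; exact e2
    · have hzinv : z⁻¹ = z := inv_eq hz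
      rintro (hx | hx)
      · left
        calc x = z⁻¹ * (z * x * z⁻¹) * z := by group
          _ = z⁻¹ * r * z := by rw [hx]
          _ = z * r * z⁻¹ := by rw [hzinv]
          _ = r := e1
      · right
        calc x = z⁻¹ * (z * x * z⁻¹) * z := by group
          _ = z⁻¹ * r⁻¹ * z := by rw [hx]
          _ = z * r⁻¹ * z⁻¹ := by rw [hzinv]
          _ = r⁻¹ := e2
  obtain ⟨n, hnN, hn⟩ := Cfsg.Agent.S1180.result z hz N hzN g hsN
  -- n z n⁻¹ = s commutes with r
  have hn' : n⁻¹ * r * n = r ∨ n⁻¹ * r * n = r⁻¹ := by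
    rw [hN, Subgroup.mem_set_normalizer_iff''] at hnN
    have := (hnN r).mp (by simp)
    simpa using this
  have hn2 : n * z * n⁻¹ = s := hn
  have hsr2 : s * r = r * s := by
    rw [← hn2]
    rcases hn' with h1 | h1
    · calc n * z * n⁻¹ * r = n * (z * (n⁻¹ * r * n)) * n⁻¹ := by group
        _ = n * ((n⁻¹ * r * n) * z) * n⁻¹ := by rw [h1, hzr]
        _ = r * (n * z * n⁻¹) := by group
    · calc n * z * n⁻¹ * r = n * (z * (n⁻¹ * r * n)) * n⁻¹ := by group
        _ = n * ((n⁻¹ * r * n) * z) * n⁻¹ := by rw [h1, hzr']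
        _ = r * (n * z * n⁻¹) := by group
  -- hence s and t commute
  have hst : s * t = t * s := by
    have h1 : s * r * s⁻¹ = r := by rw [hsr2]; group
    rw [hsr] at h1
    rw [← hrinv, h1]
  -- t is a conjugate of s commuting with s
  have hsiso : Cfsg.IsIsolatedInvolution s := conj hz g
  have : (h * g⁻¹) * s * (h * g⁻¹)⁻¹ = t := by rw [hs, ht]; group
  have h2 := hsiso.2 (h * g⁻¹) (by rw [this]; exact hst)
  rw [this] at h2
  exact hne h2.symm

end Cfsg.Agent.S1184
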