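import Mathlib
import Cfsg.Statements.S1185
import Cfsg.Agent.Lib.Helper2_Isolated

set_option autoImplicit false
open Cfsg

namespace Cfsg.Agent.S1185

open Cfsg.Agent.Lib.Helper2_Isolated

/-- Let z be an isolated involution of the finite group G with centralizer C. Then for every g ∈ G there is exactly one element k in the coset gC that has odd order and is inverted by z. -/
theorem result {G : Type*} [Group G] [Finite G] (z : G) (hz : Cfsg.IsIsolatedInvolution z) (g : G) : ∃! k : G, (Odd (orderOf k) ∧ z * k * z⁻¹ = k⁻¹) ∧ g⁻¹ * k ∈ Subgroup.centralizer ({z} : Set G) := by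
  set t := g * z * g⁻¹ with ht
  set r := t * z with hr
  have hzz : z * z = 1 := sq_eq_one hz
  have hzinv : z⁻¹ = z := inv_eq hz
  have htt : t * t = 1 := by
    rw [ht]
    calc g * z * g⁻¹ * (g * z * g⁻¹) = g * (z * z) * g⁻¹ := by group
      _ = 1 := by rw [hzz]; group
  have htinv : t⁻¹ = t := inv_eq_of_mul_eq_one_left htt
  have hrinv : r⁻¹ = z * t := by rw [hr, mul_inv_rev, hzinv, htinv]
  have hsc : SemiconjBy z r r⁻¹ := by
    show z * r = r⁻¹ * z
    rw [hrinv, hr]; group
  have hodd : Odd (orderOf r) := odd_orderOf_conj_mul hz g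
  obtain ⟨j, hj⟩ := hodd
  -- characterisation of membership in the coset
  have hcoset : ∀ k : G, g⁻¹ * k ∈ Subgroup.centralizer ({z} : Set G) ↔ k * z * k⁻¹ = t := by
    intro k
    rw [Subgroup.mem_centralizer_iff]
    constructor
    · intro h
      have h1 := h z rfl
      rw [ht]
      calc k * z * k⁻¹ = g * ((g⁻¹ * k) * z) * k⁻¹ := by group
        _ = g * (z * (g⁻¹ * k)) * k⁻¹ := by rw [h1]
        _ = g * z * g⁻¹ := by group
    · intro h y hy
      rw [Set.mem_singleton_iff] at hy
      rw [hy]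
      calc z * (g⁻¹ * k) = g⁻¹ * (g * z * g⁻¹) * k := by group
        _ = g⁻¹ * (k * z * k⁻¹) * k := by rw [h]
        _ = g⁻¹ * k * z := by group
  -- for inverted k, k z k⁻¹ = k² z
  have hinv : ∀ k : G, z * k * z⁻¹ = k⁻¹ → k * z * k⁻¹ = k ^ 2 * z := by
    intro k hk
    have h1 : z * k⁻¹ = k * z := by
      have : z * k⁻¹ * z⁻¹ = k := by
        have := congrArg (·⁻¹) hk
        simp only [mul_inv_rev, inv_inv] at this
        rw [← mul_assoc] at this
        exact this
      calc z * k⁻¹ = (z * k⁻¹ * z⁻¹) * z := by group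
        _ = k * z := by rw [this]
    calc k * z * k⁻¹ = k * (z * k⁻¹) := by group
      _ = k * (k * z) := by rw [h1]
      _ = k ^ 2 * z := by rw [pow_two]; group
  refine ⟨r ^ (j + 1), ⟨⟨?_, ?_⟩, ?_⟩, ?_⟩
  · -- odd order
    have hd : orderOf (r ^ (j + 1)) ∣ orderOf r := orderOf_pow_dvd (j + 1)
    have : Odd (orderOf r) := ⟨j, hj⟩
    exact Odd.of_dvd_nat this hd
  · have h1 : z * r ^ (j + 1) = r⁻¹ ^ (j + 1) * z := (hsc.pow_right (j + 1)).eq
    rw [h1, inv_pow]; group
  · rw [hcoset, hinv]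
    · rw [← pow_mul]
      have : (j + 1) * 2 = orderOf r + 1 := by omega
      rw [this, pow_succ, pow_orderOf_eq_one, one_mul, hr, mul_assoc, hzz, mul_one]
    · have h1 : z * r ^ (j + 1) = r⁻¹ ^ (j + 1) * z := (hsc.pow_right (j + 1)).eq
      rw [h1, inv_pow]; group
  · rintro k' ⟨⟨hk'odd, hk'inv⟩, hk'C⟩
    rw [hcoset, hinv k' hk'inv] at hk'C
    have hk2 : k' ^ 2 = r := by
      rw [hr]
      calc k' ^ 2 = (k' ^ 2 * z) * z := by rw [mul_assoc, hzz, mul_one]
        _ = t * z := by rw [hk'C]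
    have hord : orderOf r = orderOf k' := by
      rw [← hk2]
      exact Nat.Coprime.orderOf_pow (Nat.coprime_two_right.mpr hk'odd)
    have h3 : k' = k' ^ (orderOf k' + 1) := by
      rw [pow_succ, pow_orderOf_eq_one, one_mul]
    have h4 : (k' ^ 2) ^ (j + 1) = k' := by
      rw [← pow_mul]
      have : 2 * (j + 1) = orderOf k' + 1 := by omega
      rw [this]; exact h3.symm
    rw [hk2] at h4
    exact h4.symm

end Cfsg.Agent.S1185
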