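import Mathlib
import Cfsg.Statements.S1922
import Cfsg.Agent.Lib.Helper7_Basic
import Cfsg.Agent.Lib.Helper7_DirectFactor

set_option autoImplicit false
open Cfsg

namespace Cfsg.Agent.S1922

open Subgroup Cfsg.Agent.Lib.Helper7_Basic

/-- parity of a finite set carrying an involution -/
theorem ncard_modEq_fixed {α : Type*} [Finite α] (X : Set α) (c : α → α)
    (hmaps : ∀ s ∈ X, c s ∈ X) (hinv : ∀ s ∈ X, c (c s) = s) :
    X.ncard ≡ {s | s ∈ X ∧ c s = s}.ncard [MOD 2] := by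
  classical
  haveI : Fintype X := Fintype.ofFinite X
  let f : Function.End X := fun s => ⟨c s.1, hmaps s.1 s.2⟩
  have hf : f ^ 2 ^ 1 = 1 := by
    rw [pow_one, pow_two]
    funext s
    apply Subtype.ext
    exact hinv s.1 s.2
  have := Equiv.Perm.card_fixedPoints_modEq (p := 2) (n := 1) hf
  rw [← Nat.card_eq_fintype_card, ← Nat.card_eq_fintype_card, Nat.card_coe_set_eq] at this
  refine this.trans (Nat.ModEq.of_dvd (dvd_refl 2) ?_)
  have hEq : ∀ a b : ℕ, a = b → a ≡ b [MOD 2] := fun a b h => h ▸ Nat.ModEq.refl a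
  apply hEq
  rw [← Nat.card_coe_set_eq]
  apply Nat.card_congr
  exact ⟨fun a => ⟨a.1.1, a.1.2, congrArg Subtype.val a.2⟩,
    fun b => ⟨⟨b.1, b.2.1⟩, Subtype.ext b.2.2⟩, fun _ => rfl, fun _ => rfl⟩

variable {G : Type*} [Group G]

theorem mem_map_conj (H : Subgroup G) (a g : G) :
    a ∈ H.map (MulAut.conj g).toMonoidHom ↔ g⁻¹ * a * g ∈ H := by
  rw [Subgroup.mem_map]
  constructor
  · rintro ⟨h, hh, rfl⟩
    simp only [MulEquiv.toMonoidHom_eq_coe, MonoidHom.coe_coe, MulAut.conj_apply]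
    have : g⁻¹ * (g * h * g⁻¹) * g = h := by group
    rw [this]; exact hh
  · intro h
    refine ⟨_, h, ?_⟩
    simp only [MulEquiv.toMonoidHom_eq_coe, MonoidHom.coe_coe, MulAut.conj_apply]
    group

/-- `a` fixes exactly the coset `cH` -/
def U (H : Subgroup G) (a c : G) : Prop := ∀ g, g⁻¹ * a * g ∈ H ↔ c⁻¹ * g ∈ H

theorem U.conj {H : Subgroup G} {a c : G} (h : U H a c) (x : G) : U H (x * a * x⁻¹) (x * c) := by
  intro g
  have := h (x⁻¹ * g)
  have e1 : (x⁻¹ * g)⁻¹ * a * (x⁻¹ * g) = g⁻¹ * (x * a * x⁻¹) * g := by group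
  have e2 : c⁻¹ * (x⁻¹ * g) = (x * c)⁻¹ * g := by group
  rw [e1, e2] at this
  exact this

theorem U.fix_of_commute {H : Subgroup G} {a c b : G} (h : U H a c) (hb : b * a = a * b) :
    c⁻¹ * b * c ∈ H := by
  have h1 : c⁻¹ * a * c ∈ H := (h c).mpr (by rw [inv_mul_cancel]; exact H.one_mem)
  have h2 : (b * c)⁻¹ * a * (b * c) = c⁻¹ * a * c := by
    have : b⁻¹ * a * b = a := by rw [mul_assoc, ← hb, inv_mul_cancel_left]
    calc (b * c)⁻¹ * a * (b * c) = c⁻¹ * (b⁻¹ * a * b) * c := by group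
      _ = c⁻¹ * a * c := by rw [this]
  have h3 := (h (b * c)).mp (h2 ▸ h1)
  rwa [← mul_assoc] at h3

theorem U.same {H : Subgroup G} {a c c' : G} (h : U H a c) (hc' : c'⁻¹ * a * c' ∈ H) :
    c⁻¹ * c' ∈ H := (h c').mp hc'

/-- if `z` inverts `q` then `q⁻¹ z q = z q²` -/
theorem conj_of_inverts {z q : G} (hinv : z * q * z⁻¹ = q⁻¹) : q⁻¹ * z * q = z * (q * q) := by
  have : z * q = q⁻¹ * z := by
    have := congrArg (fun t => t * z) hinv
    simpa using this
  rw [← this]; group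

theorem inverts_pow {z q : G} (hinv : z * q * z⁻¹ = q⁻¹) (n : ℕ) :
    z * q ^ n * z⁻¹ = (q ^ n)⁻¹ := by
  rw [← conj_pow, hinv, inv_pow]

section main

variable {z : G} {H : Subgroup G}

theorem inv_of_order_two {a : G} (ha : orderOf a = 2) : a⁻¹ = a := by
  have : a * a = 1 := by rw [← pow_two, ← ha, pow_orderOf_eq_one]
  exact inv_eq_of_mul_eq_one_left this

theorem sq_of_order_two {a : G} (ha : orderOf a = 2) : a * a = 1 := by
  rw [← pow_two, ← ha, pow_orderOf_eq_one]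

theorem ne_one_of_order_two {a : G} (ha : orderOf a = 2) : a ≠ 1 := by
  rintro rfl
  rw [orderOf_one] at ha
  omega

theorem orderOf_of_isConj {a b : G} (h : IsConj a b) : orderOf b = orderOf a := by
  obtain ⟨c, hc⟩ := isConj_iff.mp h
  rw [← hc, orderOf_conj']

theorem U_z (h0 : ∀ g, g⁻¹ * z * g ∈ H ↔ g ∈ H) : U H z 1 := by
  intro g
  rw [h0 g, inv_one, one_mul]

theorem U_J (h0 : ∀ g, g⁻¹ * z * g ∈ H ↔ g ∈ H) (x : G) : U H (x * z * x⁻¹) x := by
  have := (U_z h0).conj x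
  rwa [mul_one] at this

theorem U_prod (h0 : ∀ g, g⁻¹ * z * g ∈ H ↔ g ∈ H)
    (h1 : ∀ t, IsConj z t → t ≠ z → t * z = z * t → ∀ g, g⁻¹ * (z * t) * g ∈ H ↔ g ∈ H)
    (x s' : G) (hs' : IsConj z s') (hne : s' ≠ x * z * x⁻¹)
    (hcomm : s' * (x * z * x⁻¹) = (x * z * x⁻¹) * s') : U H ((x * z * x⁻¹) * s') x := by
  have ht : IsConj z (x⁻¹ * s' * x) := by
    obtain ⟨c, hc⟩ := isConj_iff.mp hs'
    rw [isConj_iff]
    exact ⟨x⁻¹ * c, by rw [← hc]; group⟩
  have hne' : x⁻¹ * s' * x ≠ z := by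
    intro h
    apply hne
    rw [← h]; group
  have hc' : x⁻¹ * s' * x * z = z * (x⁻¹ * s' * x) := by
    have := congrArg (fun t => x⁻¹ * t * x) hcomm
    calc x⁻¹ * s' * x * z = x⁻¹ * (s' * (x * z * x⁻¹)) * x := by group
      _ = x⁻¹ * (x * z * x⁻¹ * s') * x := this
      _ = z * (x⁻¹ * s' * x) := by group
  have hU : U H (z * (x⁻¹ * s' * x)) 1 := by
    intro g
    rw [h1 _ ht hne' hc' g, inv_one, one_mul]
  have := hU.conj x
  rw [mul_one] at this
  have e : x * (z * (x⁻¹ * s' * x)) * x⁻¹ = x * z * x⁻¹ * s' := by group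
  rwa [e] at this

/-- the product of `z` with a conjugate having a different fixed point has odd order -/
theorem star [Finite G] (hz : orderOf z = 2) (h0 : ∀ g, g⁻¹ * z * g ∈ H ↔ g ∈ H)
    (h1 : ∀ t, IsConj z t → t ≠ z → t * z = z * t → ∀ g, g⁻¹ * (z * t) * g ∈ H ↔ g ∈ H)
    (x : G) (hx : x ∉ H) : Odd (orderOf (z * (x * z * x⁻¹))) := by
  by_contra hodd
  rw [Nat.not_odd_iff_even] at hodd
  obtain ⟨m, hm⟩ := hodd
  obtain ⟨z₂, hz₂⟩ : ∃ z₂, z₂ = x * z * x⁻¹ := ⟨_, rfl⟩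
  rw [← hz₂] at hm
  have hz₂o : orderOf z₂ = 2 := by rw [hz₂, orderOf_conj', hz]
  obtain ⟨r, hr⟩ : ∃ r, r = z * z₂ := ⟨_, rfl⟩
  rw [← hr] at hm
  have hzi := inv_of_order_two hz
  have hz₂i := inv_of_order_two hz₂o
  have hzz := sq_of_order_two hz
  have hz₂z₂ := sq_of_order_two hz₂o
  have hrinv : r⁻¹ = z₂ * z := by rw [hr, mul_inv_rev, hzi, hz₂i]
  have hinv1 : z * r * z⁻¹ = r⁻¹ := by
    rw [hrinv, hr, hzi, ← mul_assoc, hzz, one_mul]
  have hinv2 : z₂ * r * z₂⁻¹ = r⁻¹ := by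
    rw [hrinv, hr, hz₂i, mul_assoc, mul_assoc, hz₂z₂, mul_one]
  have hmpos : 0 < m := by
    have : 0 < orderOf r := orderOf_pos r
    omega
  obtain ⟨w, hw⟩ : ∃ w, w = r ^ m := ⟨_, rfl⟩
  have hw1 : w ≠ 1 := by
    rw [hw]
    exact pow_ne_one_of_lt_orderOf hmpos.ne' (by omega)
  have hww : w * w = 1 := by
    rw [hw, ← pow_add, ← hm, pow_orderOf_eq_one]
  have hwi : w⁻¹ = w := inv_eq_of_mul_eq_one_left hww
  have hwz : w * z = z * w := by
    have := inverts_pow hinv1 m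
    rw [← hw, hwi] at this
    have h2 := congrArg (fun t => t * z) this
    simp only [inv_mul_cancel_right] at h2
    exact h2.symm
  have hwz₂ : w * z₂ = z₂ * w := by
    have := inverts_pow hinv2 m
    rw [← hw, hwi] at this
    have h2 := congrArg (fun t => t * z₂) this
    simp only [inv_mul_cancel_right] at h2
    exact h2.symm
  -- t = z w is conjugate to z
  have ht : IsConj z (z * w) := by
    rcases Nat.even_or_odd' m with ⟨j, hj | hj⟩
    · have e : z * w = (r ^ j)⁻¹ * z * (r ^ j) := by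
        rw [conj_of_inverts (inverts_pow hinv1 j), hw, hj, ← pow_add, two_mul]
      rw [e, isConj_iff]
      exact ⟨(r ^ j)⁻¹, by rw [inv_inv]⟩
    · have e : z * w = (r ^ j)⁻¹ * z₂ * (r ^ j) := by
        rw [conj_of_inverts (inverts_pow hinv2 j), hw, hj, ← pow_add]
        have : z * r = z₂ := by rw [hr, ← mul_assoc, hzz, one_mul]
        rw [show 2 * j + 1 = 1 + (j + j) by ring, pow_add, pow_one, ← mul_assoc, this]
      rw [e, hz₂, isConj_iff]
      exact ⟨(r ^ j)⁻¹ * x, by group⟩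
  have hne : z * w ≠ z := by
    intro h
    apply hw1
    have := congrArg (fun t => z⁻¹ * t) h
    simpa using this
  have hc : z * w * z = z * (z * w) := by
    rw [mul_assoc, hwz]
  have hU : U H w 1 := by
    intro g
    have := h1 _ ht hne hc g
    have e : z * (z * w) = w := by rw [← mul_assoc, hzz, one_mul]
    rw [e] at this
    rw [this, inv_one, one_mul]
  have hfix := (U_J h0 x).fix_of_commute (b := w) (by rw [← hz₂]; exact hwz₂)
  have := hU.same hfix
  rw [inv_one, one_mul] at this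
  exact hx this

theorem z_mem (h0 : ∀ g, g⁻¹ * z * g ∈ H ↔ g ∈ H) : z ∈ H := by
  have := (h0 1).mpr H.one_mem
  simpa using this

theorem conj_not_mem (h0 : ∀ g, g⁻¹ * z * g ∈ H ↔ g ∈ H) {x : G} (hx : x ∉ H) :
    x * z * x⁻¹ ∉ H := by
  intro h
  have := (U_J h0 x 1).mp (by simpa using h)
  rw [mul_one] at this
  exact hx (by simpa using H.inv_mem this)

theorem surj [Finite G] (hz : orderOf z = 2) (h0 : ∀ g, g⁻¹ * z * g ∈ H ↔ g ∈ H)
    (h1 : ∀ t, IsConj z t → t ≠ z → t * z = z * t → ∀ g, g⁻¹ * (z * t) * g ∈ H ↔ g ∈ H)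
    (x : G) (hx : x ∉ H) : ∃ s, IsConj z s ∧ s ∉ H ∧ s * z * s⁻¹ = x * z * x⁻¹ := by
  obtain ⟨i, hi⟩ := star hz h0 h1 x hx
  have hnot := conj_not_mem h0 hx
  obtain ⟨z₂, hz₂⟩ : ∃ z₂, z₂ = x * z * x⁻¹ := ⟨_, rfl⟩
  rw [← hz₂] at hi hnot ⊢
  have hz₂o : orderOf z₂ = 2 := by rw [hz₂, orderOf_conj', hz]
  obtain ⟨r, hr⟩ : ∃ r, r = z * z₂ := ⟨_, rfl⟩
  rw [← hr] at hi
  have hzi := inv_of_order_two hz
  have hz₂i := inv_of_order_two hz₂o
  have hzz := sq_of_order_two hz
  have hrinv : r⁻¹ = z₂ * z := by rw [hr, mul_inv_rev, hzi, hz₂i]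
  have hinv1 : z * r * z⁻¹ = r⁻¹ := by
    rw [hrinv, hr, hzi, ← mul_assoc, hzz, one_mul]
  obtain ⟨y, hy⟩ : ∃ y, y = r ^ (i + 1) := ⟨_, rfl⟩
  have hyy : y * y = r := by
    rw [hy, ← pow_add, show i + 1 + (i + 1) = (2 * i + 1) + 1 by ring, ← hi, pow_succ,
      pow_orderOf_eq_one, one_mul]
  have hym : y ^ (2 * i + 1) = 1 := by
    rw [hy, ← pow_mul, mul_comm, pow_mul, ← hi, pow_orderOf_eq_one, one_pow]
  obtain ⟨v, hv⟩ : ∃ v, v = y ^ (i + 1) := ⟨_, rfl⟩
  have hvv : v * v = y := by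
    rw [hv, ← pow_add, show i + 1 + (i + 1) = (2 * i + 1) + 1 by ring, pow_succ, hym, one_mul]
  have hinvy : z * y * z⁻¹ = y⁻¹ := by rw [hy]; exact inverts_pow hinv1 _
  have hinvv : z * v * z⁻¹ = v⁻¹ := by rw [hv]; exact inverts_pow hinvy _
  have hs : v⁻¹ * z * v = z * y := by rw [conj_of_inverts hinvv, hvv]
  have hmain : (z * y) * z * (z * y)⁻¹ = z₂ := by
    have h2 : z * y * z = y⁻¹ := by
      have h3 := hinvy
      rw [hzi] at h3
      exact h3
    rw [h2, mul_inv_rev, hzi, ← mul_assoc, ← mul_inv_rev, hyy, hrinv, mul_assoc, hzz, mul_one]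
  refine ⟨z * y, ?_, ?_, hmain⟩
  · rw [← hs, isConj_iff]
    exact ⟨v⁻¹, by rw [inv_inv]⟩
  · intro hmem
    apply hnot
    rw [← hmain]
    exact H.mul_mem (H.mul_mem hmem (z_mem h0)) (H.inv_mem hmem)

theorem isConj_conj {a : G} (ha : IsConj z a) (c : G) : IsConj z (c * a * c⁻¹) := by
  obtain ⟨d, hd⟩ := isConj_iff.mp ha
  rw [isConj_iff]
  exact ⟨c * d, by rw [← hd]; group⟩

theorem odd_class [Finite G] (hz : orderOf z = 2) (h0 : ∀ g, g⁻¹ * z * g ∈ H ↔ g ∈ H)
    (h1 : ∀ t, IsConj z t → t ≠ z → t * z = z * t → ∀ g, g⁻¹ * (z * t) * g ∈ H ↔ g ∈ H)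
    (hH : H ≠ ⊤) : Odd ({s : G | IsConj z s}).ncard := by
  classical
  obtain ⟨x₀, hx₀⟩ := SetLike.exists_not_mem_of_ne_top H hH
  have hzi := inv_of_order_two hz
  have hzz := sq_of_order_two hz
  have hzH := z_mem h0
  -- involutions in the class
  have hJo : ∀ s, IsConj z s → orderOf s = 2 := fun s hs => (orderOf_of_isConj hs).trans hz
  have hJi : ∀ s, IsConj z s → s⁻¹ = s := fun s hs => inv_of_order_two (hJo s hs)
  have hJs : ∀ s, IsConj z s → s * s = 1 := fun s hs => sq_of_order_two (hJo s hs)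
  have hJx : ∀ s, IsConj z s → ∃ x, s = x * z * x⁻¹ := by
    intro s hs
    obtain ⟨c, hc⟩ := isConj_iff.mp hs
    exact ⟨c, hc.symm⟩
  obtain ⟨Sα, hSα⟩ : ∃ S : Set G, S = {s | IsConj z s ∧ s ∈ H} := ⟨_, rfl⟩
  obtain ⟨JJ, hJJ⟩ : ∃ S : Set G, S = {s | IsConj z s ∧ s ∉ H} := ⟨_, rfl⟩
  obtain ⟨Jβ, hJβ⟩ : ∃ S : Set G, S = {s | IsConj z s ∧ x₀⁻¹ * s * x₀ ∈ H} := ⟨_, rfl⟩
  obtain ⟨Xβ, hXβ⟩ : ∃ S : Set G, S = {s | IsConj z s ∧ x₀⁻¹ * s ∈ H} := ⟨_, rfl⟩
  -- (a)
  have ha : ({s : G | IsConj z s}).ncard = Sα.ncard + JJ.ncard := by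
    rw [← Set.ncard_union_eq _ (Set.toFinite _) (Set.toFinite _)]
    · congr 1
      ext s
      rw [hSα, hJJ]
      simp only [Set.mem_ofPred_eq, Set.mem_union]
      tauto
    · rw [Set.disjoint_left, hSα, hJJ]
      intro s h1 h2
      exact h2.2 h1.2
  -- (b)
  have hb : Even JJ.ncard := by
    have := ncard_modEq_fixed JJ (fun s => z * s * z⁻¹) ?_ ?_
    · have hempty : {s | s ∈ JJ ∧ (fun s => z * s * z⁻¹) s = s} = ∅ := by
        rw [Set.eq_empty_iff_forall_notMem]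
        rintro s ⟨hs, hfix⟩
        rw [hJJ] at hs
        obtain ⟨x, rfl⟩ := hJx s hs.1
        have hxH : x ∉ H := by
          intro hx
          exact hs.2 (H.mul_mem (H.mul_mem hx hzH) (H.inv_mem hx))
        have hodd := star hz h0 h1 x hxH
        have hcomm : z * (x * z * x⁻¹) = (x * z * x⁻¹) * z := by
          have := congrArg (fun t => t * z) hfix
          simpa using this
        have h2 : orderOf (z * (x * z * x⁻¹)) = 2 := by
          apply orderOf_eq_prime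
          · rw [pow_two]
            calc z * (x * z * x⁻¹) * (z * (x * z * x⁻¹))
                = z * ((x * z * x⁻¹) * z) * (x * z * x⁻¹) := by group
              _ = z * (z * (x * z * x⁻¹)) * (x * z * x⁻¹) := by rw [hcomm]
              _ = (z * z) * ((x * z * x⁻¹) * (x * z * x⁻¹)) := by group
              _ = 1 := by rw [hzz, hJs _ hs.1, one_mul]
          · intro h
            apply hs.2
            have : x * z * x⁻¹ = z⁻¹ := by
              have := congrArg (fun t => z⁻¹ * t) h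
              simpa using this
            rw [this]; exact H.inv_mem hzH
        rw [h2] at hodd
        exact absurd hodd (by decide)
      rw [hempty, Set.ncard_empty] at this
      exact (Nat.even_iff).mpr (by simpa [Nat.ModEq] using this)
    · intro s hs
      rw [hJJ] at hs ⊢
      refine ⟨isConj_conj hs.1 z, ?_⟩
      intro h
      apply hs.2
      have : s = z⁻¹ * (z * s * z⁻¹) * z := by group
      rw [this]
      exact H.mul_mem (H.mul_mem (H.inv_mem hzH) h) hzH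
    · intro s _
      change z * (z * s * z⁻¹) * z⁻¹ = s
      rw [hzi]
      calc z * (z * s * z) * z = (z * z) * s * (z * z) := by group
        _ = s := by rw [hzz, one_mul, mul_one]
  -- (c)
  have hc : Jβ.ncard = Sα.ncard := by
    have himg : Jβ = (fun s => x₀ * s * x₀⁻¹) '' Sα := by
      ext s
      rw [hJβ, hSα]
      constructor
      · rintro ⟨hs1, hs2⟩
        refine ⟨x₀⁻¹ * s * x₀, ⟨?_, hs2⟩, by group⟩
        have := isConj_conj hs1 x₀⁻¹
        rwa [inv_inv] at this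
      · rintro ⟨s', ⟨hs1, hs2⟩, rfl⟩
        refine ⟨isConj_conj hs1 x₀, ?_⟩
        have : x₀⁻¹ * (x₀ * s' * x₀⁻¹) * x₀ = s' := by group
        rw [this]; exact hs2
    rw [himg]
    apply Set.ncard_image_of_injective
    intro a b hab
    have := congrArg (fun t => x₀⁻¹ * t * x₀) hab
    simpa [mul_assoc] using this
  -- membership criterion
  have hcrit : ∀ s, IsConj z s → (s * z * s⁻¹ ∈ Jβ ↔ s ∈ Xβ) := by
    intro s hs
    rw [hJβ, hXβ]
    simp only [Set.mem_ofPred_eq]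
    constructor
    · rintro ⟨_, h2⟩
      refine ⟨hs, ?_⟩
      have := (U_J h0 s x₀).mp h2
      have h3 := H.inv_mem this
      rwa [mul_inv_rev, inv_inv] at h3
    · rintro ⟨_, h2⟩
      refine ⟨isConj_conj (IsConj.refl z) s, ?_⟩
      apply (U_J h0 s x₀).mpr
      have h3 := H.inv_mem h2
      rwa [mul_inv_rev, inv_inv] at h3
  have hXJJ : Xβ ⊆ JJ := by
    intro s hs
    rw [hXβ] at hs
    rw [hJJ]
    refine ⟨hs.1, fun h => hx₀ ?_⟩
    have := H.mul_mem h (H.inv_mem hs.2)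
    rw [mul_inv_rev, inv_inv, mul_inv_cancel_left] at this
    exact this
  have hJβJJ : Jβ ⊆ JJ := by
    intro s hs
    rw [hJβ] at hs
    rw [hJJ]
    refine ⟨hs.1, fun h => hx₀ ?_⟩
    obtain ⟨y, rfl⟩ := hJx s hs.1
    have h3 := (U_J h0 y x₀).mp hs.2
    have h4 := (U_J h0 y 1).mp (by simpa using h)
    rw [mul_one] at h4
    have := H.mul_mem (H.inv_mem h4) h3
    rwa [inv_inv, mul_inv_cancel_left] at this
  -- (d)
  have hmaps : Set.MapsTo (fun s => s * z * s⁻¹) JJ JJ := by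
    intro s hs
    rw [hJJ] at hs ⊢
    refine ⟨isConj_conj (IsConj.refl z) s, conj_not_mem h0 hs.2⟩
  have hsurj : Set.SurjOn (fun s => s * z * s⁻¹) JJ JJ := by
    intro s hs
    rw [hJJ] at hs
    obtain ⟨x, rfl⟩ := hJx s hs.1
    have hxH : x ∉ H := by
      intro hx
      exact hs.2 (H.mul_mem (H.mul_mem hx hzH) (H.inv_mem hx))
    obtain ⟨s', hs'1, hs'2, hs'3⟩ := surj hz h0 h1 x hxH
    exact ⟨s', by rw [hJJ]; exact ⟨hs'1, hs'2⟩, hs'3⟩
  have hbij := (Set.Finite.surjOn_iff_bijOn_of_mapsTo (Set.toFinite JJ) hmaps).mp hsurj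
  have hd : Jβ.ncard = Xβ.ncard := by
    have himg : Jβ = (fun s => s * z * s⁻¹) '' Xβ := by
      ext s
      constructor
      · intro hs
        obtain ⟨s', hs'1, hs'2⟩ := hsurj (hJβJJ hs)
        refine ⟨s', ?_, hs'2⟩
        rw [hJJ] at hs'1
        apply (hcrit s' hs'1.1).mp
        simp only at hs'2
        rw [hs'2]; exact hs
      · rintro ⟨s', hs', rfl⟩
        have h1' : IsConj z s' := by rw [hXβ] at hs'; exact hs'.1
        exact (hcrit s' h1').mpr hs'
    rw [himg]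
    exact Set.InjOn.ncard_image (hbij.injOn.mono hXJJ)
  -- (e)
  obtain ⟨s₀, hs₀1, hs₀2, hs₀3⟩ := surj hz h0 h1 x₀ hx₀
  have hs₀X : s₀ ∈ Xβ := by
    apply (hcrit s₀ hs₀1).mp
    rw [hs₀3, hJβ]
    refine ⟨isConj_conj (IsConj.refl z) x₀, ?_⟩
    have : x₀⁻¹ * (x₀ * z * x₀⁻¹) * x₀ = z := by group
    rw [this]; exact hzH
  have hs₀i := hJi s₀ hs₀1
  have hs₀s := hJs s₀ hs₀1
  have hs₀x : x₀⁻¹ * s₀ ∈ H := by rw [hXβ] at hs₀X; exact hs₀X.2
  have hs₀x' : s₀ * x₀ ∈ H := by
    have := H.inv_mem hs₀x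
    rwa [mul_inv_rev, inv_inv, hs₀i] at this
  have he : Odd Xβ.ncard := by
    have := ncard_modEq_fixed Xβ (fun s => s₀ * s * s₀⁻¹) ?_ ?_
    · have hsing : {s | s ∈ Xβ ∧ (fun s => s₀ * s * s₀⁻¹) s = s} = {s₀} := by
        ext s
        simp only [Set.mem_ofPred_eq, Set.mem_singleton_iff]
        constructor
        · rintro ⟨hs, hfix⟩
          by_contra hne
          have hsX := hs
          rw [hXβ] at hs
          obtain ⟨x, hx⟩ := hJx s₀ hs₀1
          have hcomm : s * (x * z * x⁻¹) = (x * z * x⁻¹) * s := by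
            rw [← hx]
            have := congrArg (fun t => t * s₀) hfix
            simp only [inv_mul_cancel_right] at this
            exact this.symm
          have hU := U_prod h0 h1 x s hs.1 (hx ▸ hne) hcomm
          rw [← hx] at hU
          have hsx : s * x₀ ∈ H := by
            have := H.inv_mem hs.2
            rwa [mul_inv_rev, inv_inv, hJi s hs.1] at this
          have hm1 : s₀ * s ∈ H := by
            have := H.mul_mem hs₀x' hs.2
            rwa [mul_assoc, mul_inv_cancel_left] at this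
          have hm2 : x₀⁻¹ * (s₀ * s) * x₀ ∈ H := by
            have := H.mul_mem hs₀x hsx
            have e : x₀⁻¹ * s₀ * (s * x₀) = x₀⁻¹ * (s₀ * s) * x₀ := by group
            rwa [e] at this
          have h3 := hU.same (c' := 1) (by simpa using hm1)
          have h4 := hU.same hm2
          rw [mul_one] at h3
          have := H.mul_mem (H.inv_mem h3) h4
          rw [inv_inv, mul_inv_cancel_left] at this
          exact hx₀ this
        · rintro rfl
          refine ⟨hs₀X, ?_⟩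
          change s * s * s⁻¹ = s
          rw [mul_inv_cancel_right]
      rw [hsing, Set.ncard_singleton] at this
      rw [Nat.odd_iff]
      exact this
    · intro s hs
      rw [hXβ] at hs ⊢
      refine ⟨isConj_conj hs.1 s₀, ?_⟩
      have hsx : s * x₀ ∈ H := by
        have := H.inv_mem hs.2
        rwa [mul_inv_rev, inv_inv, hJi s hs.1] at this
      have := H.mul_mem (H.mul_mem hs₀x hsx) hs₀x
      have e : x₀⁻¹ * s₀ * (s * x₀) * (x₀⁻¹ * s₀) = x₀⁻¹ * (s₀ * s * s₀⁻¹) := by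
        rw [hs₀i]; group
      rwa [e] at this
    · intro s _
      change s₀ * (s₀ * s * s₀⁻¹) * s₀⁻¹ = s
      rw [hs₀i]
      calc s₀ * (s₀ * s * s₀) * s₀ = (s₀ * s₀) * s * (s₀ * s₀) := by group
        _ = s := by rw [hs₀s, one_mul, mul_one]
  rw [ha, ← hc, hd]
  exact he.add_even hb

end main

/-- Aschbacher's criterion, equivalence of the two forms. -/
theorem result {G : Type*} [Group G] [Finite G] (z : G) (hz : orderOf z = 2) (H : Subgroup G) (hH : H ≠ ⊤)
    (h0 : ∀ g : G, z ∈ H.map (MulAut.conj g).toMonoidHom ↔ g ∈ H) :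
    (∀ t : G, IsConj z t → t ≠ z → t * z = z * t → ∀ g : G, z * t ∈ H.map (MulAut.conj g).toMonoidHom ↔ g ∈ H) ↔
      ((∃ P : Sylow 2 G, z ∈ (Subgroup.center ↥(P : Subgroup G)).map (P : Subgroup G).subtype) ∧
        ∀ t : G, IsConj z t → t ≠ z → t * z = z * t → Subgroup.centralizer ({z * t} : Set G) ≤ H) := by
  classical
  have h0' : ∀ g, g⁻¹ * z * g ∈ H ↔ g ∈ H := by
    intro g; rw [← mem_map_conj]; exact h0 g
  simp only [mem_map_conj]
  have hzH := z_mem h0'
  have hzi := inv_of_order_two hz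
  have hzz := sq_of_order_two hz
  have hCz : ∀ c, c * z = z * c → c ∈ H := by
    intro c hc
    apply (h0' c).mp
    rw [mul_assoc, ← hc, inv_mul_cancel_left]
    exact hzH
  constructor
  · intro h1
    constructor
    · have hodd := odd_class hz h0' h1 hH
      have hcard : ({s : G | IsConj z s}).ncard = (centralizer ({z} : Set G)).index := by
        rw [← card_conj_class, ← Nat.card_coe_set_eq]
        exact Nat.card_congr (Equiv.subtypeEquivRight (fun y => isConj_comm))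
      rw [hcard] at hodd
      have hb : ¬ 2 ∣ (centralizer ({z} : Set G)).index := by
        rw [← even_iff_two_dvd, Nat.not_even_iff_odd]; exact hodd
      obtain ⟨S, hSC, hzS⟩ := Cfsg.Agent.Lib.Helper7_DirectFactor.exists_sylow_le_centralizer
        (p := 2) z hb z (by rw [mem_centralizer_singleton_iff]) ⟨1, by rw [hz, pow_one]⟩
      refine ⟨S, ⟨z, hzS⟩, ?_, rfl⟩
      rw [SetLike.mem_coe, Subgroup.mem_center_iff]
      intro g
      apply Subtype.ext
      have := hSC g.2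
      rw [mem_centralizer_singleton_iff] at this
      exact this
    · intro t ht hne hc c hcc
      rw [mem_centralizer_singleton_iff] at hcc
      apply (h1 t ht hne hc c).mp
      rw [mul_assoc, ← hcc, inv_mul_cancel_left]
      have := (h1 t ht hne hc 1).mpr H.one_mem
      simpa using this
  · rintro ⟨⟨P, hzP⟩, h2⟩ t ht hne hc g
    obtain ⟨⟨z', hz'P⟩, hz'c, hz'⟩ := hzP
    have hz'z : z' = z := hz'
    subst hz'z
    have hPH : (P : Subgroup G) ≤ H := by
      intro a ha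
      apply hCz
      have := Subgroup.mem_center_iff.mp hz'c ⟨a, ha⟩
      exact congrArg Subtype.val this
    have htH : t ∈ H := hCz t hc
    have hto : orderOf t = 2 := (orderOf_of_isConj ht).trans hz
    have htt := sq_of_order_two hto
    have huu : (z' * t) * (z' * t) = 1 := by
      calc z' * t * (z' * t) = z' * (t * z') * t := by group
        _ = z' * (z' * t) * t := by rw [hc]
        _ = (z' * z') * (t * t) := by group
        _ = 1 := by rw [hzz, htt, one_mul]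
    constructor
    · intro hu
      -- a conjugate of u' in P
      have hu2 : (⟨g⁻¹ * (z' * t) * g, hu⟩ : H) ^ 2 ^ 1 = 1 := by
        apply Subtype.ext
        rw [pow_one, pow_two]
        change g⁻¹ * (z' * t) * g * (g⁻¹ * (z' * t) * g) = 1
        calc g⁻¹ * (z' * t) * g * (g⁻¹ * (z' * t) * g) = g⁻¹ * ((z' * t) * (z' * t)) * g := by group
          _ = 1 := by rw [huu]; group
      obtain ⟨j, -, hj⟩ := (Nat.dvd_prime_pow Nat.prime_two).mp (orderOf_dvd_of_pow_eq_one hu2)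
      obtain ⟨Q, hQ⟩ := pElement_mem_sylow (p := 2) (⟨g⁻¹ * (z' * t) * g, hu⟩ : H) ⟨j, hj⟩
      obtain ⟨h, rfl⟩ := MulAction.exists_smul_eq H (P.subtype hPH) Q
      rw [mem_smul_sylow] at hQ
      have hQ' : h⁻¹ * ⟨g⁻¹ * (z' * t) * g, hu⟩ * h ∈ ((P.subtype hPH : Sylow 2 _) : Subgroup _) :=
        hQ
      rw [Sylow.coe_subtype, Subgroup.mem_subgroupOf] at hQ'
      have hQ'' : (h : G)⁻¹ * (g⁻¹ * (z' * t) * g) * h ∈ (P : Subgroup G) := hQ'
      have hcomm := Subgroup.mem_center_iff.mp hz'c ⟨_, hQ''⟩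
      have hcomm' : (h : G)⁻¹ * (g⁻¹ * (z' * t) * g) * h * z' = z' * ((h : G)⁻¹ * (g⁻¹ * (z' * t) * g) * h) :=
        congrArg Subtype.val hcomm
      have hk : (g * h) * z' * (g * h)⁻¹ ∈ centralizer ({z' * t} : Set G) := by
        rw [mem_centralizer_singleton_iff]
        calc g * h * z' * (g * h)⁻¹ * (z' * t)
            = (g * h) * (z' * ((h : G)⁻¹ * (g⁻¹ * (z' * t) * g) * h)) * (g * h)⁻¹ := by group
          _ = (g * h) * ((h : G)⁻¹ * (g⁻¹ * (z' * t) * g) * h * z') * (g * h)⁻¹ := by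
              rw [hcomm']
          _ = z' * t * (g * h * z' * (g * h)⁻¹) := by group
      have hk' := h2 t ht hne hc hk
      have h3 := (h0' (g * h)⁻¹).mp (by rw [inv_inv]; exact hk')
      have h4 := H.inv_mem h3
      rw [inv_inv] at h4
      have := H.mul_mem h4 (H.inv_mem h.2)
      rwa [mul_inv_cancel_right] at this
    · intro hg
      exact H.mul_mem (H.mul_mem (H.inv_mem hg) (H.mul_mem hzH htH)) hg

end Cfsg.Agent.S1922
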