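import Mathlib
import Cfsg.Statements.S1186
import Cfsg.Agent.Lib.Helper7_Basic
import Cfsg.Agent.Lib.Helper7_SmallSimple3
import Cfsg.Agent.S1922

set_option autoImplicit false
open Cfsg

namespace Cfsg.Agent.S1186

open Subgroup Cfsg.Agent.Lib.Helper7_Basic Cfsg.Agent.Lib.Helper7_SmallSimple3
open Cfsg.Agent.S1922 (conj_of_inverts inverts_pow inv_of_order_two sq_of_order_two
  orderOf_of_isConj isConj_conj)

variable {G : Type*} [Group G]

/-- midpoint of two involutions whose product has odd order -/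
theorem midpoint {a b : G} (ha : a * a = 1) (hb : b * b = 1) (hodd : Odd (orderOf (a * b))) :
    ∃ y v : G, y ∈ zpowers (a * b) ∧ v ∈ zpowers (a * b) ∧ v⁻¹ * a * v = a * y ∧
      (a * y) * a * (a * y)⁻¹ = b := by
  obtain ⟨i, hi⟩ := hodd
  have hai : a⁻¹ = a := inv_eq_of_mul_eq_one_left ha
  have hbi : b⁻¹ = b := inv_eq_of_mul_eq_one_left hb
  obtain ⟨r, hr⟩ : ∃ r, r = a * b := ⟨_, rfl⟩
  rw [← hr] at hi ⊢
  have hrinv : r⁻¹ = b * a := by rw [hr, mul_inv_rev, hai, hbi]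
  have hinv1 : a * r * a⁻¹ = r⁻¹ := by
    rw [hrinv, hr, hai, ← mul_assoc, ha, one_mul]
  obtain ⟨y, hy⟩ : ∃ y, y = r ^ (i + 1) := ⟨_, rfl⟩
  have hyy : y * y = r := by
    rw [hy, ← pow_add, show i + 1 + (i + 1) = (2 * i + 1) + 1 by ring, ← hi, pow_succ,
      pow_orderOf_eq_one, one_mul]
  have hym : y ^ (2 * i + 1) = 1 := by
    rw [hy, ← pow_mul, mul_comm, pow_mul, ← hi, pow_orderOf_eq_one, one_pow]
  obtain ⟨v, hv⟩ : ∃ v, v = y ^ (i + 1) := ⟨_, rfl⟩
  have hvv : v * v = y := by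
    rw [hv, ← pow_add, show i + 1 + (i + 1) = (2 * i + 1) + 1 by ring, pow_succ, hym, one_mul]
  have hinvy : a * y * a⁻¹ = y⁻¹ := by rw [hy]; exact inverts_pow hinv1 _
  have hinvv : a * v * a⁻¹ = v⁻¹ := by rw [hv]; exact inverts_pow hinvy _
  have hs : v⁻¹ * a * v = a * y := by rw [conj_of_inverts hinvv, hvv]
  have hmain : (a * y) * a * (a * y)⁻¹ = b := by
    have h2 : a * y * a = y⁻¹ := by
      have h3 := hinvy
      rw [hai] at h3
      exact h3
    rw [h2, mul_inv_rev, hai, ← mul_assoc, ← mul_inv_rev, hyy, hrinv, mul_assoc, ha, mul_one]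
  have hyz : y ∈ zpowers r := by rw [hy]; exact Subgroup.pow_mem _ (Subgroup.mem_zpowers r) _
  have hvz : v ∈ zpowers r := by rw [hv]; exact Subgroup.pow_mem _ hyz _
  exact ⟨y, v, hyz, hvz, hs, hmain⟩

theorem iso_conj {z : G} (hz : Cfsg.IsIsolatedInvolution z) {a c : G} (ha : IsConj z a)
    (hc : IsConj z c) (hcomm : Commute a c) : c = a := by
  obtain ⟨x, rfl⟩ := isConj_iff.mp ha
  obtain ⟨y, rfl⟩ := isConj_iff.mp hc
  have h1 : Commute z ((x⁻¹ * y) * z * (x⁻¹ * y)⁻¹) := by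
    have h2 : x * z * x⁻¹ * (y * z * y⁻¹) = y * z * y⁻¹ * (x * z * x⁻¹) := hcomm.eq
    show z * ((x⁻¹ * y) * z * (x⁻¹ * y)⁻¹) = (x⁻¹ * y) * z * (x⁻¹ * y)⁻¹ * z
    calc z * ((x⁻¹ * y) * z * (x⁻¹ * y)⁻¹) = x⁻¹ * (x * z * x⁻¹ * (y * z * y⁻¹)) * x := by group
      _ = x⁻¹ * (y * z * y⁻¹ * (x * z * x⁻¹)) * x := by rw [h2]
      _ = (x⁻¹ * y) * z * (x⁻¹ * y)⁻¹ * z := by group
  have h3 := hz.2 _ h1
  calc y * z * y⁻¹ = x * ((x⁻¹ * y) * z * (x⁻¹ * y)⁻¹) * x⁻¹ := by group
    _ = x * z * x⁻¹ := by rw [h3]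

theorem odd_prod [Finite G] {z : G} (hz : Cfsg.IsIsolatedInvolution z) {a b : G} (ha : IsConj z a)
    (hb : IsConj z b) : Odd (orderOf (a * b)) := by
  by_contra hodd
  rw [Nat.not_odd_iff_even] at hodd
  obtain ⟨m, hm⟩ := hodd
  have hao : orderOf a = 2 := (orderOf_of_isConj ha).trans hz.1
  have hbo : orderOf b = 2 := (orderOf_of_isConj hb).trans hz.1
  obtain ⟨r, hr⟩ : ∃ r, r = a * b := ⟨_, rfl⟩
  rw [← hr] at hm
  have hai := inv_of_order_two hao
  have hbi := inv_of_order_two hbo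
  have haa := sq_of_order_two hao
  have hbb := sq_of_order_two hbo
  have hrinv : r⁻¹ = b * a := by rw [hr, mul_inv_rev, hai, hbi]
  have hinv1 : a * r * a⁻¹ = r⁻¹ := by
    rw [hrinv, hr, hai, ← mul_assoc, haa, one_mul]
  have hinv2 : b * r * b⁻¹ = r⁻¹ := by
    rw [hrinv, hr, hbi, mul_assoc, mul_assoc, hbb, mul_one]
  have hmpos : 0 < m := by
    have : 0 < orderOf r := orderOf_pos r
    omega
  obtain ⟨w, hw⟩ : ∃ w, w = r ^ m := ⟨_, rfl⟩
  have hw1 : w ≠ 1 := by
    rw [hw]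
    exact pow_ne_one_of_lt_orderOf hmpos.ne' (by omega)
  have hww : w * w = 1 := by
    rw [hw, ← pow_add, ← hm, pow_orderOf_eq_one]
  have hwi : w⁻¹ = w := inv_eq_of_mul_eq_one_left hww
  have hwa : w * a = a * w := by
    have := inverts_pow hinv1 m
    rw [← hw, hwi] at this
    have h2 := congrArg (fun t => t * a) this
    simp only [inv_mul_cancel_right] at h2
    exact h2.symm
  have ht : IsConj z (a * w) := by
    rcases Nat.even_or_odd' m with ⟨j, hj | hj⟩
    · have e : a * w = (r ^ j)⁻¹ * a * (r ^ j) := by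
        rw [conj_of_inverts (inverts_pow hinv1 j), hw, hj, ← pow_add, two_mul]
      rw [e]
      have := isConj_conj ha (r ^ j)⁻¹
      rwa [inv_inv] at this
    · have e : a * w = (r ^ j)⁻¹ * b * (r ^ j) := by
        rw [conj_of_inverts (inverts_pow hinv2 j), hw, hj, ← pow_add]
        have : a * r = b := by rw [hr, ← mul_assoc, haa, one_mul]
        rw [show 2 * j + 1 = 1 + (j + j) by ring, pow_add, pow_one, ← mul_assoc, this]
      rw [e]
      have := isConj_conj hb (r ^ j)⁻¹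
      rwa [inv_inv] at this
  have hc : Commute a (a * w) := by
    show a * (a * w) = a * w * a
    rw [mul_assoc, hwa]
  have := iso_conj hz ha ht hc
  apply hw1
  have h2 := congrArg (fun t => a⁻¹ * t) this
  simpa using h2

theorem exists_mid [Finite G] {z : G} (hz : Cfsg.IsIsolatedInvolution z) {a b : G}
    (ha : IsConj z a) (hb : IsConj z b) :
    ∃ c, IsConj z c ∧ c * a * c⁻¹ = b ∧ ∀ u, Commute u a → Commute u b → Commute u c := by
  have hao : orderOf a = 2 := (orderOf_of_isConj ha).trans hz.1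
  have hbo : orderOf b = 2 := (orderOf_of_isConj hb).trans hz.1
  obtain ⟨y, v, hy, hv, h1, h2⟩ := midpoint (sq_of_order_two hao) (sq_of_order_two hbo)
    (odd_prod hz ha hb)
  refine ⟨a * y, ?_, h2, ?_⟩
  · rw [← h1]
    have := isConj_conj ha v⁻¹
    rwa [inv_inv] at this
  · intro u hua hub
    apply Commute.mul_right hua
    obtain ⟨k, rfl⟩ := Subgroup.mem_zpowers_iff.mp hy
    exact Commute.zpow_right (hua.mul_right hub) k

theorem mid_unique [Finite G] {z : G} (hz : Cfsg.IsIsolatedInvolution z) {a c c' : G}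
    (ha : IsConj z a) (hc : IsConj z c) (hc' : IsConj z c')
    (h : c * a * c⁻¹ = c' * a * c'⁻¹) : c = c' := by
  have hsurj : Function.Surjective (fun c : {c : G // IsConj z c} =>
      (⟨c.1 * a * c.1⁻¹, isConj_conj ha c.1⟩ : {c : G // IsConj z c})) := by
    rintro ⟨b, hb⟩
    obtain ⟨c, hc1, hc2, -⟩ := exists_mid hz ha hb
    exact ⟨⟨c, hc1⟩, Subtype.ext hc2⟩
  have hinj := Finite.injective_iff_surjective.mpr hsurj
  have := hinj (a₁ := ⟨c, hc⟩) (a₂ := ⟨c', hc'⟩) (Subtype.ext h)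
  exact congrArg Subtype.val this

theorem card_omega [Finite G] {z : G} (hz : Cfsg.IsIsolatedInvolution z) (s : G)
    (hs : orderOf s = 2) (hsz : Commute s z) :
    Nat.card {a : G // IsConj z a} = Nat.card {a : G // IsConj z a ∧ Commute a s} *
      Nat.card {a : G // IsConj z a ∧ Commute a (s * z)} := by
  have hsi := inv_of_order_two hs
  have hss := sq_of_order_two hs
  have hex : ∀ a : {a : G // IsConj z a}, ∃ c : {a : G // IsConj z a ∧ Commute a s},
      c.1 * a.1 * c.1⁻¹ = s * a.1 * s⁻¹ := by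
    intro a
    obtain ⟨c, hc1, hc2, -⟩ := exists_mid hz a.2 (isConj_conj a.2 s)
    refine ⟨⟨c, hc1, ?_⟩, hc2⟩
    have hcc : c * c = 1 := sq_of_order_two ((orderOf_of_isConj hc1).trans hz.1)
    have hci : c⁻¹ = c := inv_eq_of_mul_eq_one_left hcc
    have h3 : (s * c * s⁻¹) * a.1 * (s * c * s⁻¹)⁻¹ = c * a.1 * c⁻¹ := by
      have e1 : s⁻¹ * a.1 * s = c * a.1 * c⁻¹ := by rw [hc2, hsi]
      calc (s * c * s⁻¹) * a.1 * (s * c * s⁻¹)⁻¹ = s * c * (s⁻¹ * a.1 * s) * c⁻¹ * s⁻¹ := by group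
        _ = s * c * (c * a.1 * c⁻¹) * c⁻¹ * s⁻¹ := by rw [e1]
        _ = s * (c * c) * a.1 * (c⁻¹ * c⁻¹) * s⁻¹ := by group
        _ = s * a.1 * s⁻¹ := by rw [hci, hcc, mul_one, mul_one]
        _ = c * a.1 * c⁻¹ := hc2.symm
    have := mid_unique hz a.2 (isConj_conj hc1 s) hc1 h3
    show c * s = s * c
    have h4 := congrArg (fun t => t * s) this
    simp only [inv_mul_cancel_right] at h4
    exact h4.symm
  apply card_eq_mul_of_fiber (fun a => Classical.choose (hex a))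
  intro f
  obtain ⟨g, hg1, hg2, hg3⟩ := exists_mid hz (IsConj.refl z) f.2.1
  have hgs : Commute s g := hg3 s hsz (f.2.2.symm)
  have hsf : s * f.1 = g * (s * z) * g⁻¹ := by
    rw [← hg2]
    calc s * (g * z * g⁻¹) = (s * g) * z * g⁻¹ := by group
      _ = (g * s) * z * g⁻¹ := by rw [hgs.eq]
      _ = g * (s * z) * g⁻¹ := by group
  -- the key equivalence
  have hkey : ∀ A : G, (f.1 * A * f.1⁻¹ = s * A * s⁻¹ ↔ A * (s * f.1) = (s * f.1) * A) := by
    intro A
    constructor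
    · intro h
      have h1 : f.1 * A = s * A * s⁻¹ * f.1 := by
        rw [← h]; group
      calc A * (s * f.1) = s * (s * A * s⁻¹ * f.1) := by
            rw [hsi]
            calc A * (s * f.1) = (s * s) * A * (s * f.1) := by rw [hss, one_mul]
              _ = s * (s * A * s * f.1) := by group
          _ = s * (f.1 * A) := by rw [h1]
          _ = s * f.1 * A := by group
    · intro h
      have h1 : f.1 * A = s⁻¹ * (A * (s * f.1)) := by rw [h]; group
      rw [h1, hsi]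
      group
  apply Nat.card_congr
  refine ⟨fun a => ⟨g⁻¹ * a.1.1 * g, ?_, ?_⟩, fun a' => ⟨⟨g * a'.1 * g⁻¹, ?_⟩, ?_⟩, ?_, ?_⟩
  · have := isConj_conj a.1.2 g⁻¹
    rwa [inv_inv] at this
  · have h1 := Classical.choose_spec (hex a.1)
    have h2 : Classical.choose (hex a.1) = f := a.2
    rw [h2] at h1
    have h3 := (hkey a.1.1).mp h1
    rw [hsf] at h3
    show g⁻¹ * a.1.1 * g * (s * z) = s * z * (g⁻¹ * a.1.1 * g)
    calc g⁻¹ * a.1.1 * g * (s * z) = g⁻¹ * (a.1.1 * (g * (s * z) * g⁻¹)) * g := by group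
      _ = g⁻¹ * (g * (s * z) * g⁻¹ * a.1.1) * g := by rw [h3]
      _ = s * z * (g⁻¹ * a.1.1 * g) := by group
  · exact isConj_conj a'.2.1 g
  · have h1 := Classical.choose_spec (hex ⟨g * a'.1 * g⁻¹, isConj_conj a'.2.1 g⟩)
    have h2 : f.1 * (g * a'.1 * g⁻¹) * f.1⁻¹ = s * (g * a'.1 * g⁻¹) * s⁻¹ := by
      apply (hkey _).mpr
      rw [hsf]
      have h3 : a'.1 * (s * z) = s * z * a'.1 := a'.2.2.eq
      calc g * a'.1 * g⁻¹ * (g * (s * z) * g⁻¹) = g * (a'.1 * (s * z)) * g⁻¹ := by group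
        _ = g * (s * z * a'.1) * g⁻¹ := by rw [h3]
        _ = g * (s * z) * g⁻¹ * (g * a'.1 * g⁻¹) := by group
    have h4 := mid_unique hz (isConj_conj a'.2.1 g)
      (Classical.choose (hex ⟨g * a'.1 * g⁻¹, isConj_conj a'.2.1 g⟩)).2.1 f.2.1 (h1.trans h2.symm)
    exact Subtype.ext h4
  · intro a
    apply Subtype.ext
    apply Subtype.ext
    show g * (g⁻¹ * a.1.1 * g) * g⁻¹ = a.1.1
    group
  · intro a'
    apply Subtype.ext
    show g⁻¹ * (g * a'.1 * g⁻¹) * g = a'.1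
    group

theorem card_K [Finite G] {z : G} (hz : Cfsg.IsIsolatedInvolution z) (u : G) (hu : Commute u z) :
    Nat.card {k : G // Odd (orderOf k) ∧ z * k * z⁻¹ = k⁻¹ ∧ Commute k u} =
      Nat.card {a : G // IsConj z a ∧ Commute a u} := by
  have hzi := inv_of_order_two hz.1
  have hzz := sq_of_order_two hz.1
  apply Nat.card_congr
  refine ⟨fun k => ⟨z * k.1, ?_, ?_⟩, fun a => ⟨z⁻¹ * a.1, ?_, ?_, ?_⟩, ?_, ?_⟩
  · obtain ⟨i, hi⟩ := k.2.1
    have hyy : k.1 ^ (i + 1) * k.1 ^ (i + 1) = k.1 := by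
      rw [← pow_add, show i + 1 + (i + 1) = (2 * i + 1) + 1 by ring, ← hi, pow_succ,
        pow_orderOf_eq_one, one_mul]
    have h1 := conj_of_inverts (inverts_pow k.2.2.1 (i + 1))
    rw [hyy] at h1
    rw [← h1]
    have := isConj_conj (IsConj.refl z) (k.1 ^ (i + 1))⁻¹
    rwa [inv_inv] at this
  · exact Commute.mul_left hu.symm k.2.2.2
  · rw [hzi]
    exact odd_prod hz (IsConj.refl z) a.2.1
  · have hai := inv_of_order_two ((orderOf_of_isConj a.2.1).trans hz.1)
    rw [mul_inv_rev, inv_inv, hai, hzi, ← mul_assoc, hzz, one_mul]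
  · exact Commute.mul_left (hu.symm.inv_left) a.2.2
  · intro k
    apply Subtype.ext
    show z⁻¹ * (z * k.1) = k.1
    rw [inv_mul_cancel_left]
  · intro a
    apply Subtype.ext
    show z * (z⁻¹ * a.1) = a.1
    rw [mul_inv_cancel_left]

/-- Let z be an isolated involution of the finite group G; order formula. -/
theorem result {G : Type*} [Group G] [Finite G] (z : G) (hz : Cfsg.IsIsolatedInvolution z) (s : G) (hs : orderOf s = 2) (hsz : Commute s z) : Nat.card G = Nat.card (Subgroup.centralizer ({z} : Set G)) * Nat.card {k : G // Odd (orderOf k) ∧ z * k * z⁻¹ = k⁻¹ ∧ Commute k (s * z)} * Nat.card {k : G // Odd (orderOf k) ∧ z * k * z⁻¹ = k⁻¹ ∧ Commute k s} := by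
  have h1 := Subgroup.card_mul_index (Subgroup.centralizer ({z} : Set G))
  have h2 : (Subgroup.centralizer ({z} : Set G)).index = Nat.card {a : G // IsConj z a} := by
    rw [← card_conj_class]
    exact Nat.card_congr (Equiv.subtypeEquivRight (fun y => isConj_comm))
  rw [h2, card_omega hz s hs hsz] at h1
  rw [card_K hz s hsz, card_K hz (s * z) (Commute.mul_left hsz (Commute.refl z)), ← h1]
  ring

end Cfsg.Agent.S1186
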