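import Cfsg.Statements.S1189
import Mathlib
import Cfsg.Agent.Lib.Helper5_QD

set_option autoImplicit false
open Cfsg

namespace Cfsg.Agent.S1189

open Cfsg.Agent.Lib.Helper5_QD Subgroup

/-- A quasi-dihedral 2-group has exactly two conjugacy classes of elements of order 2 and exactly two conjugacy classes of elements of order 4. -/
theorem result {S : Type*} [Group S] [Finite S] (hS : Cfsg.IsQuasiDihedral S) : Nat.card {C : ConjClasses S // ∃ t : S, orderOf t = 2 ∧ ConjClasses.mk t = C} = 2 ∧ Nat.card {C : ConjClasses S // ∃ t : S, orderOf t = 4 ∧ ConjClasses.mk t = C} = 2 := by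
  obtain ⟨L, x, y, h⟩ := exists_qd hS
  constructor
  · apply card_classes_eq_two (fun t => orderOf t = 2) (x ^ (4 * (L : ℤ))) y h.orderOf_z h.orderOf_y
    · rw [isConj_iff]
      rintro ⟨c, hc⟩
      have h1 : c * x ^ (4 * (L : ℤ)) * c⁻¹ = x ^ (4 * (L : ℤ)) := by
        rw [h.z_central c]; group
      rw [h1] at hc
      exact h.y_notin (hc ▸ zpow_mem (mem_zpowers x) _)
    · intro t ht
      rcases h.invol_cases t ht with rfl | ⟨k, rfl⟩
      · left; exact IsConj.refl _
      · right
        rw [isConj_iff]
        obtain ⟨s, hs⟩ := h.exists_conj_even 0 k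
        refine ⟨s, ?_⟩
        rw [zpow_zero, one_mul, zero_add] at hs
        exact hs
  · have hxy : orderOf (x * y) = 4 := by
      have := h.orderOf_y_odd 0
      rwa [mul_zero, zero_add, zpow_one] at this
    apply card_classes_eq_two (fun t => orderOf t = 4) (x ^ (2 * (L : ℤ))) (x * y) h.orderOf_w hxy
    · rw [isConj_iff]
      rintro ⟨c, hc⟩
      have h1 := h.conj_mem_zpowers c (2 * (L : ℤ))
      rw [hc] at h1
      have := h.xy_notin 1
      rw [zpow_one] at this
      exact this h1
    · intro t ht
      rcases h.order4_cases t ht with rfl | rfl | ⟨k, rfl⟩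
      · left; exact IsConj.refl _
      · left
        rw [isConj_iff]
        exact ⟨y, h.conj_w⟩
      · right
        rw [isConj_iff]
        obtain ⟨s, hs⟩ := h.exists_conj_even 1 k
        refine ⟨s, ?_⟩
        rw [zpow_one] at hs
        rw [hs]
        congr 2; ring

end Cfsg.Agent.S1189
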