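import Cfsg.Statements.S1190
import Mathlib
import Cfsg.Agent.Lib.Helper5_QD

set_option autoImplicit false
open Cfsg

namespace Cfsg.Agent.S1190

open Cfsg.Agent.Lib.Helper5_QD Subgroup

/-- In a quasi-dihedral 2-group S, any two Klein four-subgroups are conjugate, and every Klein four-subgroup T satisfies C_S(T) = T and |N_S(T) : T| = 2. -/
theorem result {S : Type*} [Group S] [Finite S] (hS : Cfsg.IsQuasiDihedral S) : (∀ T₁ T₂ : Subgroup S, IsKleinFour T₁ → IsKleinFour T₂ → ∃ s : S, T₁.map (MulAut.conj s).toMonoidHom = T₂) ∧ (∀ T : Subgroup S, IsKleinFour T → Subgroup.centralizer (T : Set S) = T ∧ T.relIndex (Subgroup.normalizer (T : Set S)) = 2) := by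
  obtain ⟨L, x, y, h⟩ := exists_qd hS
  constructor
  · intro T₁ T₂ hT₁ hT₂
    obtain ⟨k₁, rfl⟩ := h.exists_four T₁ hT₁
    obtain ⟨k₂, rfl⟩ := h.exists_four T₂ hT₂
    obtain ⟨s, hs⟩ := h.exists_conj_even (2 * k₁) (k₂ - k₁)
    have hs' : s * (x ^ (2 * k₁) * y) * s⁻¹ = x ^ (2 * k₂) * y := by
      rw [hs]; congr 2; ring
    have hz : s * x ^ (4 * (L : ℤ)) * s⁻¹ = x ^ (4 * (L : ℤ)) := by
      rw [h.z_central s]; group
    refine ⟨s, ?_⟩
    apply Subgroup.eq_of_le_of_card_ge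
    · rintro _ ⟨g, hg, rfl⟩
      simp only [MulEquiv.coe_toMonoidHom, MulAut.conj_apply]
      rcases ((h.rebase k₁).mem_four g).mp hg with rfl | rfl | rfl | rfl
      · simp
      · rw [hz]; exact ((h.rebase k₂).mem_four _).mpr (Or.inr (Or.inl rfl))
      · rw [hs']; exact ((h.rebase k₂).mem_four _).mpr (Or.inr (Or.inr (Or.inl rfl)))
      · have : s * (x ^ (4 * (L : ℤ)) * (x ^ (2 * k₁) * y)) * s⁻¹ =
            (s * x ^ (4 * (L : ℤ)) * s⁻¹) * (s * (x ^ (2 * k₁) * y) * s⁻¹) := by group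
        rw [this, hz, hs']
        exact ((h.rebase k₂).mem_four _).mpr (Or.inr (Or.inr (Or.inr rfl)))
    · rw [Subgroup.card_map_of_injective (MulAut.conj s).injective, (h.rebase k₁).card_four,
        (h.rebase k₂).card_four]
  · intro T hT
    obtain ⟨k, rfl⟩ := h.exists_four T hT
    exact ⟨(h.rebase k).centralizer_four, (h.rebase k).relIndex_normalizer_four⟩

end Cfsg.Agent.S1190
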