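import Cfsg.Statements.S1191
import Mathlib
import Cfsg.Agent.Lib.Helper5_QD

set_option autoImplicit false
open Cfsg

namespace Cfsg.Agent.S1191

open Cfsg.Agent.Lib.Helper5_QD Subgroup

/-- In a quasi-dihedral 2-group S, any two subgroups isomorphic to the quaternion group of order 8 are conjugate, and each such subgroup Q satisfies C_S(Q) = Z(Q) and |N_S(Q) : Q| = 2. -/
theorem result {S : Type*} [Group S] [Finite S] (hS : Cfsg.IsQuasiDihedral S) : (∀ Q₁ Q₂ : Subgroup S, Nonempty (Q₁ ≃* QuaternionGroup 2) → Nonempty (Q₂ ≃* QuaternionGroup 2) → ∃ s : S, Q₁.map (MulAut.conj s).toMonoidHom = Q₂) ∧ (∀ Q : Subgroup S, Nonempty (Q ≃* QuaternionGroup 2) → Subgroup.centralizer (Q : Set S) = (Subgroup.center Q).map Q.subtype ∧ Q.relIndex (Subgroup.normalizer (Q : Set S)) = 2) := by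
  obtain ⟨L, x, y, h⟩ := exists_qd hS
  constructor
  · intro Q₁ Q₂ hQ₁ hQ₂
    have hc₁ : Nat.card Q₁ = 8 := by
      obtain ⟨e⟩ := hQ₁
      rw [Nat.card_congr e.toEquiv, Nat.card_eq_fintype_card, QuaternionGroup.card]
    have hc₂ : Nat.card Q₂ = 8 := by
      obtain ⟨e⟩ := hQ₂
      rw [Nat.card_congr e.toEquiv, Nat.card_eq_fintype_card, QuaternionGroup.card]
    obtain ⟨k₁, rfl⟩ := h.exists_quat Q₁ hQ₁
    obtain ⟨k₂, rfl⟩ := h.exists_quat Q₂ hQ₂
    refine ⟨x ^ ((1 + 2 * (L : ℤ)) * (k₂ - k₁)), ?_⟩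
    apply Subgroup.eq_of_le_of_card_ge (h.map_conj_quat_le k₁ k₂)
    rw [Subgroup.card_map_of_injective (MulAut.conj _).injective, hc₁, hc₂]
  · intro Q hQ
    obtain ⟨k, rfl⟩ := h.exists_quat Q hQ
    refine ⟨?_, (h.rebase k).relIndex_normalizer_quat⟩
    ext g
    rw [(h.rebase k).mem_centralizer_quat]
    constructor
    · rintro (rfl | rfl)
      · exact one_mem _
      · refine ⟨⟨_, (h.rebase k).z_mem_quat⟩, ?_, rfl⟩
        rw [SetLike.mem_coe, Subgroup.mem_center_iff]
        intro q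
        apply Subtype.ext
        exact (h.rebase k).z_central q
    · rintro ⟨q, hq, rfl⟩
      rw [← (h.rebase k).mem_centralizer_quat, mem_centralizer_iff]
      intro t ht
      rw [SetLike.mem_coe, Subgroup.mem_center_iff] at hq
      have := hq ⟨t, ht⟩
      exact congrArg Subtype.val this

end Cfsg.Agent.S1191
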