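import Cfsg.Statements.S1192
import Mathlib
import Cfsg.Agent.Lib.Helper5_QD

set_option autoImplicit false
open Cfsg

namespace Cfsg.Agent.S1192

open Cfsg.Agent.Lib.Helper5_QD

/-- A quasi-dihedral group S of order 2^(n+1) has exactly three maximal subgroups; one is cyclic, one is isomorphic to the generalized quaternion group of order 2^n and one to the dihedral group of order 2^n. -/
theorem result {S : Type*} [Group S] [Finite S] (hS : Cfsg.IsQuasiDihedral S) (n : ℕ) (hn : Nat.card S = 2 ^ (n + 1)) : ∃ M₁ M₂ M₃ : Subgroup S, IsCoatom M₁ ∧ IsCoatom M₂ ∧ IsCoatom M₃ ∧ M₁ ≠ M₂ ∧ M₁ ≠ M₃ ∧ M₂ ≠ M₃ ∧ (∀ M : Subgroup S, IsCoatom M → M = M₁ ∨ M = M₂ ∨ M = M₃) ∧ IsCyclic M₁ ∧ Nonempty (M₂ ≃* QuaternionGroup (2 ^ (n - 2))) ∧ Nonempty (M₃ ≃* DihedralGroup (2 ^ (n - 1))) := by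
  obtain ⟨L, x, y, h⟩ := exists_qd hS
  obtain ⟨m, hm⟩ := h.pow2
  have hnm : n = m + 3 := by
    have h1 : 2 ^ (n + 1) = 2 ^ (m + 4) := by
      rw [← hn, h.card, hm]; ring
    have := Nat.pow_right_injective (le_refl 2) h1
    omega
  have h2L : 2 ^ (n - 2) = 2 * L := by
    rw [hnm, hm, show m + 3 - 2 = m + 1 by omega]; ring
  have h4L : 2 ^ (n - 1) = 4 * L := by
    rw [hnm, hm, show m + 3 - 1 = m + 2 by omega]; ring
  have hx1 : x ∉ h.Mt 1 := by
    intro hx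
    have := (h.zpow_mem_Mt 1 1).mp (by rw [zpow_one]; exact hx)
    exact absurd this (by decide)
  have hx0 : x ∉ h.Mt 0 := by
    intro hx
    have := (h.zpow_mem_Mt 0 1).mp (by rw [zpow_one]; exact hx)
    exact absurd this (by decide)
  have hy0 : y ∈ h.Mt 0 := Or.inr ⟨0, by simp⟩
  have hy1 : y ∉ h.Mt 1 := by
    intro hy
    have := (h.zpow_y_mem_Mt 1 0).mp (by rw [zpow_zero, one_mul]; exact hy)
    exact absurd this (by decide)
  refine ⟨Subgroup.zpowers x, h.Mt 1, h.Mt 0, QD.isCoatom_of_index_two h.index_zpowers,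
    QD.isCoatom_of_index_two (h.index_Mt 1), QD.isCoatom_of_index_two (h.index_Mt 0),
    ?_, ?_, ?_, ?_, inferInstance, ?_, ?_⟩
  · intro he
    exact hx1 (he ▸ Subgroup.mem_zpowers x)
  · intro he
    exact hx0 (he ▸ Subgroup.mem_zpowers x)
  · intro he
    exact hy1 (he ▸ hy0)
  · intro M hM
    exact h.index_two_cases M (h.index_two_of_isCoatom hM)
  · rw [h2L]; exact h.Mt_one_equiv
  · rw [h4L]; exact h.Mt_zero_equiv

end Cfsg.Agent.S1192
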