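import Cfsg.Statements.S1193
import Mathlib
import Cfsg.Agent.Lib.Helper5_QD
import Cfsg.Agent.Lib.Helper5_NoNormalFour

set_option autoImplicit false
open Cfsg

namespace Cfsg.Agent.S1193

open Cfsg.Agent.Lib.Helper5_QD

/-- Let S be quasi-dihedral of order 2^(n+1). Then S' = Φ(S) is cyclic of order 2^(n-1), the centre of S has order 2, and the subgroup generated by the involutions of S is dihedral of order 2^n. -/
theorem result {S : Type*} [Group S] [Finite S] (hS : Cfsg.IsQuasiDihedral S) (n : ℕ) (hn : Nat.card S = 2 ^ (n + 1)) : commutator S = frattini S ∧ IsCyclic (commutator S) ∧ Nat.card (commutator S) = 2 ^ (n - 1) ∧ Nat.card (Subgroup.center S) = 2 ∧ Nonempty (↥(Subgroup.closure {x : S | orderOf x = 2}) ≃* DihedralGroup (2 ^ (n - 1))) := by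
  obtain ⟨L, x, y, h⟩ := exists_qd hS
  obtain ⟨m, hm⟩ := h.pow2
  have hnm : n = m + 3 := by
    have h1 : 2 ^ (n + 1) = 2 ^ (m + 4) := by
      rw [← hn, h.card, hm]; ring
    have := Nat.pow_right_injective (le_refl 2) h1
    omega
  have h4L : 2 ^ (n - 1) = 4 * L := by
    rw [hnm, hm, show m + 3 - 1 = m + 2 by omega]; ring
  have hcomm := h.commutator_eq
  refine ⟨?_, ?_, ?_, ?_, ?_⟩
  · rw [hcomm, h.frattini_eq]
  · rw [hcomm]; infer_instance
  · rw [hcomm, Nat.card_zpowers, h.orderOf_sq, h4L]
  · have hz : Subgroup.center S = Subgroup.zpowers (x ^ (4 * (L : ℤ))) := by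
      ext g
      rw [h.mem_center_iff]
      constructor
      · rintro (rfl | rfl)
        · exact one_mem _
        · exact Subgroup.mem_zpowers _
      · rintro ⟨i, rfl⟩
        simp only
        rcases Cfsg.Agent.Lib.Helper5_NoNormalFour.zpow_invol _ h.z_sq i with hi | hi
        · left; exact hi
        · right; exact hi
    rw [hz, Nat.card_zpowers]
    haveI : Fact (Nat.Prime 2) := ⟨Nat.prime_two⟩
    apply orderOf_eq_prime
    · rw [pow_two]; exact h.z_sq
    · exact h.z_ne_one
  · rw [h.closure_invol, h4L]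
    exact h.Mt_zero_equiv

end Cfsg.Agent.S1193
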