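import Cfsg.Statements.S1194
import Mathlib
import Cfsg.Agent.Lib.Helper5_QD

set_option autoImplicit false
open Cfsg

namespace Cfsg.Agent.S1194

open Cfsg.Agent.Lib.Helper5_QD Subgroup

/-- In a quasi-dihedral 2-group S, every proper normal subgroup is either a maximal subgroup or a cyclic subgroup contained in the derived subgroup S'. -/
theorem result {S : Type*} [Group S] [Finite S] (hS : Cfsg.IsQuasiDihedral S) (N : Subgroup S) [N.Normal] (hN : N ≠ ⊤) : IsCoatom N ∨ (IsCyclic N ∧ N ≤ commutator S) := by
  obtain ⟨L, x, y, h⟩ := exists_qd hS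
  obtain ⟨m, hm⟩ := h.pow2
  have hNn : N.Normal := inferInstance
  by_cases hNx : N ≤ zpowers x
  · -- `N` is cyclic
    have hcyc : IsCyclic N := by
      have : IsCyclic (zpowers x) := inferInstance
      exact isCyclic_of_injective (Subgroup.inclusion hNx) (Subgroup.inclusion_injective hNx)
    by_cases hNF : N ≤ zpowers (x ^ 2)
    · right
      exact ⟨hcyc, by rw [h.commutator_eq]; exact hNF⟩
    · left
      rw [SetLike.not_le_iff_exists] at hNF
      obtain ⟨g, hgN, hgF⟩ := hNF
      obtain ⟨i, rfl⟩ := hNx hgN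
      simp only at hgN hgF
      have hodd : Odd i := by
        rw [← Int.not_even_iff_odd]
        rintro ⟨k, hk⟩
        apply hgF
        rw [h.mem_zpowers_sq]
        exact ⟨k, by rw [hk]; congr 1; ring⟩
      have hcop : IsCoprime i ((2 : ℤ) ^ (m + 3)) := by
        apply IsCoprime.pow_right
        obtain ⟨d, hd⟩ := hodd
        exact ⟨1, -d, by rw [hd]; ring⟩
      obtain ⟨s, t, hst⟩ := hcop
      have hxN : x ∈ N := by
        have h1 : x = (x ^ i) ^ s := by
          rw [← zpow_mul]
          have h2 : x ^ (1 : ℤ) = x ^ (i * s) := by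
            apply h.zpow_eq t
            rw [hm]
            push_cast
            have : (2 : ℤ) ^ (m + 3) = 8 * 2 ^ m := by ring
            rw [this] at hst
            linarith
          rw [← h2, zpow_one]
        rw [h1]
        exact zpow_mem hgN s
      have : N = zpowers x := le_antisymm hNx (zpowers_le.mpr hxN)
      rw [this]
      exact QD.isCoatom_of_index_two h.index_zpowers
  · left
    rw [SetLike.not_le_iff_exists] at hNx
    obtain ⟨g, hgN, hgx⟩ := hNx
    rcases h.cases g with ⟨i, rfl⟩ | ⟨i, rfl⟩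
    · exact absurd (zpow_mem (mem_zpowers x) i) hgx
    · -- conjugate by `x`
      have h1 : x * (x ^ i * y) * x⁻¹ ∈ N := hNn.conj_mem _ hgN x
      have h2 : x * (x ^ i * y) * x⁻¹ * (x ^ i * y)⁻¹ ∈ N := mul_mem h1 (inv_mem hgN)
      have h3 : x * (x ^ i * y) * x⁻¹ * (x ^ i * y)⁻¹ = x ^ (2 - 4 * (L : ℤ)) := by
        have e1 : x * (x ^ i * y) * x⁻¹ = x ^ (i + 2 - 4 * (L : ℤ)) * y := by
          have := h.mul_yx (1 + i) (-1)
          rw [zpow_add, zpow_one, zpow_neg_one] at this
          rw [← mul_assoc x (x ^ i) y, this]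
          congr 2; ring
        rw [e1, h.inv_y, h.mul_yy]
        apply h.zpow_eq (i - 2 * L * i)
        ring
      rw [h3] at h2
      have hx2 : ∀ k : ℤ, x ^ (2 * k) ∈ N := by
        intro k
        have h4 : x ^ (2 * k) = (x ^ (2 - 4 * (L : ℤ))) ^ ((2 * (L : ℤ) + 1) * k) := by
          rw [← zpow_mul]
          apply h.zpow_eq (L * k)
          ring
        rw [h4]
        exact zpow_mem h2 _
      have hle : h.Mt i ≤ N := by
        rintro g (⟨k, rfl⟩ | ⟨k, rfl⟩)
        · exact hx2 k
        · rw [zpow_add, mul_assoc]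
          exact mul_mem (hx2 k) hgN
      have hidx : N.index ∣ 2 := by
        rw [← h.index_Mt i]; exact Subgroup.index_dvd_of_le hle
      have h5 : N.index = 1 ∨ N.index = 2 := by
        have := Nat.le_of_dvd (by norm_num) hidx
        have h0 : N.index ≠ 0 := Subgroup.index_ne_zero_of_finite
        omega
      rcases h5 with h5 | h5
      · exact absurd (Subgroup.index_eq_one.mp h5) hN
      · exact QD.isCoatom_of_index_two h5

end Cfsg.Agent.S1194
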