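import Cfsg.Statements.S1195
import Mathlib
import Cfsg.Agent.Lib.Helper5_Wreath

set_option autoImplicit false
open Cfsg

namespace Cfsg.Agent.S1195

open Cfsg.Agent.Lib.Helper5_Wreath

/-- A wreathed 2-group has exactly three conjugacy classes of elements of order 2. -/
theorem result {S : Type*} [Group S] [Finite S] (hS : Cfsg.IsWreathed S) : Nat.card {C : ConjClasses S // ∃ t : S, orderOf t = 2 ∧ ConjClasses.mk t = C} = 3 := by
  obtain ⟨n, x, y, z, h⟩ := exists_wr hS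
  apply card_classes_eq_three (fun t => orderOf t = 2) (x ^ ((2 : ℤ) ^ (n - 1)))
    (x ^ ((2 : ℤ) ^ (n - 1)) * y ^ ((2 : ℤ) ^ (n - 1))) z
    (Wr.orderOf_of_sq h.A_sq h.A_ne_one) (Wr.orderOf_of_sq h.AB_sq h.AB_ne_one) h.oz
  · rw [isConj_iff]
    rintro ⟨c, hc⟩
    have h1 : c * x ^ ((2 : ℤ) ^ (n - 1)) * c⁻¹ =
        c * (x ^ ((2 : ℤ) ^ (n - 1)) * y ^ ((2 : ℤ) ^ (n - 1))) * c⁻¹ := by
      rw [hc, h.AB_central c, mul_inv_cancel_right]
    have h2 := mul_left_cancel (mul_right_cancel h1)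
    apply h.B_ne_one
    have h3 : y ^ ((2 : ℤ) ^ (n - 1)) = (x ^ ((2 : ℤ) ^ (n - 1)))⁻¹ *
        (x ^ ((2 : ℤ) ^ (n - 1)) * y ^ ((2 : ℤ) ^ (n - 1))) := by group
    rw [h3, ← h2]; group
  · exact h.not_conj_U_z _ h.A_mem_U _ h.z_notin_U
  · exact h.not_conj_U_z _ h.AB_mem_U _ h.z_notin_U
  · intro t ht
    obtain ⟨ht2, ht1⟩ := Wr.sq_of_orderOf ht
    rcases h.invol_cases t ht2 ht1 with rfl | rfl | rfl | ⟨a, rfl⟩
    · left; exact IsConj.refl _
    · left; exact isConj_iff.mpr ⟨z, h.conj_z_A⟩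
    · right; left; exact IsConj.refl _
    · right; right; exact h.conj_z_of_invol a

end Cfsg.Agent.S1195
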