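import Cfsg.Statements.S1196
import Mathlib
import Cfsg.Agent.Lib.Helper5_Wreath

set_option autoImplicit false
open Cfsg

namespace Cfsg.Agent.S1196

open Cfsg.Agent.Lib.Helper5_Wreath

/-- A wreathed 2-group S of order 2^(2n+1) has a unique commutative subgroup of order 2^(2n), and this subgroup is isomorphic to the direct product of two cyclic groups of order 2^n. -/
theorem result {S : Type*} [Group S] [Finite S] (hS : Cfsg.IsWreathed S) (n : ℕ) (hn : Nat.card S = 2 ^ (2 * n + 1)) : (∃! U : Subgroup S, IsMulCommutative U ∧ Nat.card U = 2 ^ (2 * n)) ∧ ∀ U : Subgroup S, IsMulCommutative U → Nat.card U = 2 ^ (2 * n) → Nonempty (U ≃* Multiplicative (ZMod (2 ^ n) × ZMod (2 ^ n))) := by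
  obtain ⟨m, x, y, z, h⟩ := exists_wr hS
  have hmn : m = n := by
    have h1 := h.card
    rw [hn] at h1
    have := Nat.pow_right_injective (le_refl 2) h1
    omega
  subst hmn
  have key : ∀ U : Subgroup S, IsMulCommutative U → Nat.card U = 2 ^ (2 * m) → U = h.U := by
    intro U hU hc
    apply h.abelian_index_two U
    · have h1 := Subgroup.card_mul_index U
      rw [hc, hn, pow_succ] at h1
      exact Nat.eq_of_mul_eq_mul_left (by positivity) h1
    · intro p hp q hq
      have := hU.is_comm.comm (⟨p, hp⟩ : U) ⟨q, hq⟩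
      exact congrArg Subtype.val this
  have hUc : IsMulCommutative h.U :=
    ⟨⟨fun p q => Subtype.ext (h.U_comm p.1 q.1 p.2 q.2)⟩⟩
  have hUcard : Nat.card h.U = 2 ^ (2 * m) := by
    rw [h.card_U, ← pow_add]; congr 1; omega
  refine ⟨⟨h.U, ⟨hUc, hUcard⟩, fun V hV => key V hV.1 hV.2⟩, ?_⟩
  intro U hU hc
  rw [key U hU hc]
  exact h.U_equiv

end Cfsg.Agent.S1196
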