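import Cfsg.Statements.S1201
import Mathlib
import Cfsg.Agent.Lib.Helper5_Wreath

set_option autoImplicit false
open Cfsg

namespace Cfsg.Agent.S1201

open Cfsg.Agent.Lib.Helper5_Wreath

/-- If X is a non-commutative subgroup of a wreathed 2-group S, then Z(X) ≤ Z(S). -/
theorem result {S : Type*} [Group S] [Finite S] (hS : Cfsg.IsWreathed S) (X : Subgroup S) (hX : ¬ IsMulCommutative X) : (Subgroup.center X).map X.subtype ≤ Subgroup.center S := by
  obtain ⟨n, x, y, z, h⟩ := exists_wr hS
  rintro _ ⟨⟨c, hcX⟩, hc', rfl⟩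
  have hc : (⟨c, hcX⟩ : ↥X) ∈ Subgroup.center ↥X := hc'
  rw [Subgroup.mem_center_iff] at hc
  have hcomm : ∀ p ∈ X, p * c = c * p := fun p hp => congrArg Subtype.val (hc ⟨p, hp⟩)
  simp only [Subgroup.coe_subtype]
  rcases h.cases c with ⟨a, b, rfl⟩ | ⟨a, b, rfl⟩
  · by_contra hno
    apply hX
    have hXU : ∀ p ∈ X, p ∈ h.U := by
      intro p hp
      by_contra hpU
      rcases h.cases p with ⟨e, f, rfl⟩ | ⟨e, f, rfl⟩
      · exact hpU ⟨e, f, rfl⟩
      · have h1 := hcomm _ hp
        obtain ⟨s, hs⟩ := (h.el_comm_elz_iff e f a b).mp h1.symm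
        apply hno
        rw [h.mem_center_iff]
        exact ⟨a, h.el_congr 0 (-s) (by ring) (by linarith)⟩
    refine ⟨⟨fun p q => Subtype.ext ?_⟩⟩
    obtain ⟨e, f, he⟩ := hXU p p.2
    obtain ⟨e', f', he'⟩ := hXU q q.2
    show (p : S) * q = q * p
    rw [he, he', h.mul_el, h.mul_el, add_comm e, add_comm f]
  · exfalso
    apply hX
    have hXU : ∀ p ∈ X, p ∈ h.U → p ∈ Subgroup.center S := by
      intro p hp hpU
      obtain ⟨e, f, rfl⟩ := hpU
      have h1 := hcomm _ hp
      obtain ⟨s, hs⟩ := (h.el_comm_elz_iff a b e f).mp h1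
      rw [h.mem_center_iff]
      exact ⟨e, h.el_congr 0 (-s) (by ring) (by linarith)⟩
    have key : ∀ p ∈ X, p ∈ Subgroup.center S ∨
        ∃ u ∈ Subgroup.center S, p = u * (x ^ a * y ^ b * z) := by
      intro p hp
      by_cases hpU : p ∈ h.U
      · left; exact hXU p hp hpU
      · right
        refine ⟨p * (x ^ a * y ^ b * z)⁻¹, hXU _ (mul_mem hp (inv_mem hcX)) ?_, by group⟩
        rw [Subgroup.mul_mem_iff_of_index_two h.index_U]
        exact iff_of_false hpU (fun hh => h.elz_notin_U a b (by simpa using inv_mem hh))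
    refine ⟨⟨fun p q => Subtype.ext ?_⟩⟩
    show (p : S) * q = q * p
    rcases key p p.2 with hp | ⟨u, hu, hp⟩
    · exact (Subgroup.mem_center_iff.mp hp q).symm
    · rcases key q q.2 with hq | ⟨v, hv, hq⟩
      · exact Subgroup.mem_center_iff.mp hq p
      · rw [hp, hq]
        have hu' := Subgroup.mem_center_iff.mp hu
        have hv' := Subgroup.mem_center_iff.mp hv
        calc u * (x ^ a * y ^ b * z) * (v * (x ^ a * y ^ b * z))
            = u * ((x ^ a * y ^ b * z) * v) * (x ^ a * y ^ b * z) := by group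
          _ = u * (v * (x ^ a * y ^ b * z)) * (x ^ a * y ^ b * z) := by
            rw [hv' (x ^ a * y ^ b * z)]
          _ = (u * v) * (x ^ a * y ^ b * z) * (x ^ a * y ^ b * z) := by group
          _ = (v * u) * (x ^ a * y ^ b * z) * (x ^ a * y ^ b * z) := by rw [hv' u]
          _ = v * ((x ^ a * y ^ b * z) * u) * (x ^ a * y ^ b * z) := by
            rw [hu' (x ^ a * y ^ b * z)]; group
          _ = v * (x ^ a * y ^ b * z) * (u * (x ^ a * y ^ b * z)) := by group

end Cfsg.Agent.S1201
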