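import Cfsg.Statements.S1204
import Mathlib
import Cfsg.Agent.Lib.Helper5_QDFusion

set_option autoImplicit false
open Cfsg

namespace Cfsg.Agent.S1204

open Cfsg.Agent.Lib.Helper5_QD Cfsg.Agent.Lib.Helper5_QDFusion

/-- Let G be a finite group with quasi-dihedral Sylow 2-subgroup S, T a Klein four-subgroup and Q a quaternion subgroup of order 8 of S, with |N_G(T) : C_G(T)| = 6 and |N_G(Q) : Q C_G(Q)| = 6. Then G has no subgroup of index 2, exactly one conjugacy class of involutions and exactly one conjugacy class of elements of order 4. -/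
theorem result {G : Type*} [Group G] [Finite G] (S : Sylow 2 G) (hS : Cfsg.IsQuasiDihedral (S : Subgroup G)) (T : Subgroup G) (hT : IsKleinFour T) (hTS : T ≤ S) (Q : Subgroup G) (hQS : Q ≤ S) (eQ : Q ≃* QuaternionGroup 2) (h₁ : (Subgroup.centralizer (T : Set G)).relIndex (Subgroup.normalizer (T : Set G)) = 6) (h₂ : (Q ⊔ Subgroup.centralizer (Q : Set G)).relIndex (Subgroup.normalizer (Q : Set G)) = 6) : (∀ H : Subgroup G, H.index ≠ 2) ∧ Nat.card {C : ConjClasses G // ∃ t : G, orderOf t = 2 ∧ ConjClasses.mk t = C} = 1 ∧ Nat.card {C : ConjClasses G // ∃ t : G, orderOf t = 4 ∧ ConjClasses.mk t = C} = 1 := by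
  obtain ⟨L, x, y, h⟩ := exists_qd hS
  rw [idxT_eq S h T hT hTS] at h₁
  rw [idxQ_eq S h Q hQS ⟨eQ⟩] at h₂
  have hzy := conj_z_y_of_six S h h₁
  have hwu := conj_w_u_of_six S h h₂
  have hinv : ∀ t : G, orderOf t = 2 → IsConj ((x ^ (4 * (L : ℤ)) : ↥(S : Subgroup G)) : G) t := by
    intro t ht
    rcases invol_conj S h t ht with h1 | h1
    · exact h1
    · exact hzy.trans h1
  have h4 : ∀ t : G, orderOf t = 4 → IsConj ((x ^ (2 * (L : ℤ)) : ↥(S : Subgroup G)) : G) t := by
    intro t ht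
    rcases order4_conj S h t ht with h1 | h1
    · exact h1
    · exact hwu.trans h1
  refine ⟨?_, card_classes_eq_one _ _ (orderOf_Z S h) hinv,
    card_classes_eq_one _ _ (q8gen S h).oW h4⟩
  intro H hH
  have hn : H.Normal := Subgroup.normal_of_index_eq_two hH
  have hW : ((x ^ (2 * (L : ℤ)) : ↥(S : Subgroup G)) : G) ∈ H := by
    rw [← XLXL_eq_W S h]; exact (Subgroup.mul_mem_iff_of_index_two hH).mpr Iff.rfl
  have hZ : ((x ^ (4 * (L : ℤ)) : ↥(S : Subgroup G)) : G) ∈ H := by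
    rw [← WW_eq_z S h]; exact (Subgroup.mul_mem_iff_of_index_two hH).mpr Iff.rfl
  have hY : (y : G) ∈ H := by
    obtain ⟨c, hc⟩ := isConj_iff.mp hzy
    rw [← hc]; exact hn.conj_mem _ hZ c
  have hU : ((x * y : ↥(S : Subgroup G)) : G) ∈ H := by
    obtain ⟨c, hc⟩ := isConj_iff.mp hwu
    rw [← hc]; exact hn.conj_mem _ hW c
  have hX : (x : G) ∈ H := by
    have : (x : G) = ((x * y : ↥(S : Subgroup G)) : G) * (y : G)⁻¹ := by rw [U_eq S h]; group
    rw [this]; exact mul_mem hU (inv_mem hY)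
  exact not_le_of_index_two S H hH (S_le_of_mem S h H hX hY)

end Cfsg.Agent.S1204
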