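import Cfsg.Statements.S1205
import Mathlib
import Cfsg.Agent.Lib.Helper5_QDIndex2

set_option autoImplicit false
open Cfsg

namespace Cfsg.Agent.S1205

open Cfsg.Agent.Lib.Helper5_QD Cfsg.Agent.Lib.Helper5_QDFusion Cfsg.Agent.Lib.Helper5_QDIndex2

/-- Let G be a finite group with quasi-dihedral Sylow 2-subgroup S, T a Klein four-subgroup and Q a quaternion subgroup of order 8 of S, with |N_G(T) : C_G(T)| = 2 and |N_G(Q) : Q C_G(Q)| = 6. Then G has a normal subgroup K of index 2 whose Sylow 2-subgroups are generalized quaternion and which has no subgroup of index 2; the centre of S is weakly closed in S; and G has exactly two classes of involutions and one class of elements of order 4. -/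
theorem result {G : Type*} [Group G] [Finite G] (S : Sylow 2 G) (hS : Cfsg.IsQuasiDihedral (S : Subgroup G)) (T : Subgroup G) (hT : IsKleinFour T) (hTS : T ≤ S) (Q : Subgroup G) (hQS : Q ≤ S) (eQ : Q ≃* QuaternionGroup 2) (h₁ : (Subgroup.centralizer (T : Set G)).relIndex (Subgroup.normalizer (T : Set G)) = 2) (h₂ : (Q ⊔ Subgroup.centralizer (Q : Set G)).relIndex (Subgroup.normalizer (Q : Set G)) = 6) : (∃ K : Subgroup G, K.Normal ∧ K.index = 2 ∧ (∀ P : Sylow 2 ↥K, ∃ m : ℕ, 1 ≤ m ∧ Nonempty ((P : Subgroup ↥K) ≃* QuaternionGroup (2 ^ m))) ∧ (∀ H : Subgroup ↥K, H.index ≠ 2)) ∧ Cfsg.IsWeaklyClosed ((Subgroup.center (S : Subgroup G)).map (S : Subgroup G).subtype) (S : Subgroup G) ∧ Nat.card {C : ConjClasses G // ∃ t : G, orderOf t = 2 ∧ ConjClasses.mk t = C} = 2 ∧ Nat.card {C : ConjClasses G // ∃ t : G, orderOf t = 4 ∧ ConjClasses.mk t = C} = 1 := by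
  obtain ⟨L, x, y, h⟩ := exists_qd hS
  rw [idxT_eq S h T hT hTS] at h₁
  rw [idxQ_eq S h Q hQS ⟨eQ⟩] at h₂
  have hzy := not_conj_z_y_of_two S h h₁
  have hwu := conj_w_u_of_six S h h₂
  obtain ⟨K, hK⟩ := exists_index_two_of_not_zy S h hzy
  have h4 : ∀ t : G, orderOf t = 4 → IsConj ((x ^ (2 * (L : ℤ)) : ↥(S : Subgroup G)) : G) t := by
    intro t ht
    rcases order4_conj S h t ht with h1 | h1
    · exact h1
    · exact hwu.trans h1
  refine ⟨⟨K, Subgroup.normal_of_index_eq_two hK, hK, ?_, ?_⟩, weakly_closed S h hzy, ?_, ?_⟩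
  · intro P
    obtain ⟨e1⟩ := sylow_equiv S h K hK 1 (KS_eq_Mt_one S h K hK hwu) P
    obtain ⟨e2⟩ := h.Mt_one_equiv
    obtain ⟨m, hm⟩ := h.pow2
    refine ⟨m + 1, by omega, ?_⟩
    have e3 : 2 * L = 2 ^ (m + 1) := by rw [hm, pow_succ]; ring
    rw [← e3]
    exact ⟨e1.trans e2⟩
  · intro H' hH'
    exact no_index_two_quat S h K hK hwu H' hH'
  · exact card_classes_eq_two (fun t => orderOf t = 2) _ _ (orderOf_Z S h) (orderOf_Y S h) hzy
      (invol_conj S h)
  · exact card_classes_eq_one _ _ (q8gen S h).oW h4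

end Cfsg.Agent.S1205
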