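import Cfsg.Statements.S1206
import Mathlib
import Cfsg.Agent.Lib.Helper5_QDIndex2

set_option autoImplicit false
open Cfsg

namespace Cfsg.Agent.S1206

open Cfsg.Agent.Lib.Helper5_QD Cfsg.Agent.Lib.Helper5_QDFusion Cfsg.Agent.Lib.Helper5_QDIndex2

/-- Let G be a finite group with quasi-dihedral Sylow 2-subgroup S, T a Klein four-subgroup and Q a quaternion subgroup of order 8 of S, with |N_G(T) : C_G(T)| = 6 and |N_G(Q) : Q C_G(Q)| = 2. Then G has a normal subgroup K of index 2 whose Sylow 2-subgroups are dihedral and which has no subgroup of index 2, and G has exactly one class of involutions and two classes of elements of order 4. -/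
theorem result {G : Type*} [Group G] [Finite G] (S : Sylow 2 G) (hS : Cfsg.IsQuasiDihedral (S : Subgroup G)) (T : Subgroup G) (hT : IsKleinFour T) (hTS : T ≤ S) (Q : Subgroup G) (hQS : Q ≤ S) (eQ : Q ≃* QuaternionGroup 2) (h₁ : (Subgroup.centralizer (T : Set G)).relIndex (Subgroup.normalizer (T : Set G)) = 6) (h₂ : (Q ⊔ Subgroup.centralizer (Q : Set G)).relIndex (Subgroup.normalizer (Q : Set G)) = 2) : (∃ K : Subgroup G, K.Normal ∧ K.index = 2 ∧ (∀ P : Sylow 2 ↥K, ∃ m : ℕ, Nonempty ((P : Subgroup ↥K) ≃* DihedralGroup m)) ∧ (∀ H : Subgroup ↥K, H.index ≠ 2)) ∧ Nat.card {C : ConjClasses G // ∃ t : G, orderOf t = 2 ∧ ConjClasses.mk t = C} = 1 ∧ Nat.card {C : ConjClasses G // ∃ t : G, orderOf t = 4 ∧ ConjClasses.mk t = C} = 2 := by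
  obtain ⟨L, x, y, h⟩ := exists_qd hS
  rw [idxT_eq S h T hT hTS] at h₁
  rw [idxQ_eq S h Q hQS ⟨eQ⟩] at h₂
  have hzy := conj_z_y_of_six S h h₁
  have hwu := not_conj_w_u_of_two S h h₂
  obtain ⟨K, hK⟩ := exists_index_two_of_not_wu S h hwu
  have hinv : ∀ t : G, orderOf t = 2 → IsConj ((x ^ (4 * (L : ℤ)) : ↥(S : Subgroup G)) : G) t := by
    intro t ht
    rcases invol_conj S h t ht with h1 | h1
    · exact h1
    · exact hzy.trans h1
  refine ⟨⟨K, Subgroup.normal_of_index_eq_two hK, hK, ?_, ?_⟩, ?_, ?_⟩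
  · intro P
    obtain ⟨e1⟩ := sylow_equiv S h K hK 0 (KS_eq_Mt_zero S h K hK hzy) P
    obtain ⟨e2⟩ := h.Mt_zero_equiv
    exact ⟨4 * L, ⟨e1.trans e2⟩⟩
  · intro H' hH'
    exact no_index_two_dih S h K hK hzy H' hH'
  · exact card_classes_eq_one _ _ (orderOf_Z S h) hinv
  · exact card_classes_eq_two (fun t => orderOf t = 4) _ _ (q8gen S h).oW (q8gen S h).oU hwu
      (order4_conj S h)

end Cfsg.Agent.S1206
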