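import Cfsg.Statements.S1211
import Mathlib
import Cfsg.Agent.Lib.Helper5_WreathFusion
import Cfsg.Agent.Lib.Helper5_QD

set_option autoImplicit false
open Cfsg

namespace Cfsg.Agent.S1211

open Cfsg.Agent.Lib.Helper5_Wreath Cfsg.Agent.Lib.Helper5_WreathFusion

/-- Let G be a finite group whose Sylow 2-subgroup S is wreathed of order 2^(2n+1), U the commutative subgroup of index 2 in S, Q a quaternion subgroup of order 8 of S and V = Q Z(S). If |N_G(U) : C_G(U)| = 6 and |N_G(V) : V C_G(V)| = 2, then G has a normal subgroup K of index 2 containing U (so U is a Sylow 2-subgroup of K) which has no subgroup of index 2, and G has exactly two classes of involutions. -/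
theorem result {G : Type*} [Group G] [Finite G] (S : Sylow 2 G) (hS : Cfsg.IsWreathed (S : Subgroup G)) (n : ℕ) (hn : Nat.card S = 2 ^ (2 * n + 1)) (U : Subgroup G) (hUS : U ≤ S) (hUab : IsMulCommutative U) (hUcard : Nat.card U = 2 ^ (2 * n)) (Q : Subgroup G) (hQS : Q ≤ S) (eQ : Q ≃* QuaternionGroup 2) (h₁ : (Subgroup.centralizer (U : Set G)).relIndex (Subgroup.normalizer (U : Set G)) = 6) (h₂ : ((Q ⊔ ((Subgroup.center (S : Subgroup G)).map (S : Subgroup G).subtype)) ⊔ Subgroup.centralizer ((Q ⊔ ((Subgroup.center (S : Subgroup G)).map (S : Subgroup G).subtype) : Subgroup G) : Set G)).relIndex (Subgroup.normalizer ((Q ⊔ ((Subgroup.center (S : Subgroup G)).map (S : Subgroup G).subtype) : Subgroup G) : Set G)) = 2) : (∃ K : Subgroup G, K.Normal ∧ K.index = 2 ∧ U ≤ K ∧ (∀ H : Subgroup ↥K, H.index ≠ 2)) ∧ Nat.card {C : ConjClasses G // ∃ t : G, orderOf t = 2 ∧ ConjClasses.mk t = C} = 2 := by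
  obtain ⟨m, x, y, z, h0⟩ := exists_wr hS
  have hmn : m = n := by
    have h1 := h0.card
    rw [hn] at h1
    have := Nat.pow_right_injective (le_refl 2) h1
    omega
  subst hmn
  have e' : Q.subgroupOf (S : Subgroup G) ≃* QuaternionGroup 2 :=
    (Subgroup.subgroupOfEquivOfLe hQS).trans eQ
  obtain ⟨c, hc⟩ := h0.quat8_std _ e'
  have h := h0.rebase c
  have hc' : Q.subgroupOf (S : Subgroup G) = h.Q8 := hc
  have hU : U = UG S h := UG_unique S h U hUS
    (fun a ha b hb => congrArg Subtype.val (hUab.is_comm.comm (⟨a, ha⟩ : U) ⟨b, hb⟩)) hUcard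
  have hQ : Q = Q8G S h := by
    rw [Q8G, ← hc', Subgroup.map_subgroupOf_eq_of_le hQS]
  have hV : Q ⊔ ((Subgroup.center (S : Subgroup G)).map (S : Subgroup G).subtype) =
      VG S h := by
    rw [VG_eq_sup S h, hQ]; rfl
  rw [hV] at h₂
  rw [hU] at h₁
  have hz := not_conj_z_of_two S h h₂
  obtain ⟨K, hK⟩ := exists_index_two_of_not_conj S h hz
  have hUK := UG_le_of_index_two_of_six S h h₁ K hK
  obtain ⟨ρ, hρK, hρN, hfpf⟩ := exists_fpf_of_six S h h₁ K hK
  refine ⟨⟨K, Subgroup.normal_of_index_eq_two hK, hK, hU ▸ hUK,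
    no_index_two_sub S h K hK hUK ρ hρK hρN hfpf⟩, ?_⟩
  have hAAB := conj_A_AB_of_six S h h₁
  have hoz : orderOf ((x ^ c * y ^ (-c) * z : ↥(S : Subgroup G)) : G) = 2 := by
    rw [Subgroup.orderOf_coe]; exact h.oz
  apply Cfsg.Agent.Lib.Helper5_QD.card_classes_eq_two (fun t : G => orderOf t = 2) _ _
    (orderOf_A S h) hoz (fun hc => hz _ (A_mem_TG S h) hc.symm)
  intro t ht
  rcases invol_conj S h t ht with h1 | h1 | h1
  · exact Or.inl h1
  · exact Or.inl (hAAB.trans h1)
  · exact Or.inr h1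

end Cfsg.Agent.S1211
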