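import Cfsg.Statements.S1212
import Mathlib
import Cfsg.Agent.Lib.Helper5_WreathNil

set_option autoImplicit false
open Cfsg

namespace Cfsg.Agent.S1212

open Cfsg.Agent.Lib.Helper5_Wreath Cfsg.Agent.Lib.Helper5_WreathFusion Cfsg.Agent.Lib.Helper5_WreathNil

/-- Let G be a finite group whose Sylow 2-subgroup S is wreathed of order 2^(2n+1), U the commutative subgroup of index 2 in S, Q a quaternion subgroup of order 8 of S and V = Q Z(S). If |N_G(U) : C_G(U)| = 2 and |N_G(V) : V C_G(V)| = 2, then G has a normal 2-complement and exactly three conjugacy classes of involutions. -/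
theorem result {G : Type*} [Group G] [Finite G] (S : Sylow 2 G) (hS : Cfsg.IsWreathed (S : Subgroup G)) (n : ℕ) (hn : Nat.card S = 2 ^ (2 * n + 1)) (U : Subgroup G) (hUS : U ≤ S) (hUab : IsMulCommutative U) (hUcard : Nat.card U = 2 ^ (2 * n)) (Q : Subgroup G) (hQS : Q ≤ S) (eQ : Q ≃* QuaternionGroup 2) (h₁ : (Subgroup.centralizer (U : Set G)).relIndex (Subgroup.normalizer (U : Set G)) = 2) (h₂ : ((Q ⊔ ((Subgroup.center (S : Subgroup G)).map (S : Subgroup G).subtype)) ⊔ Subgroup.centralizer ((Q ⊔ ((Subgroup.center (S : Subgroup G)).map (S : Subgroup G).subtype) : Subgroup G) : Set G)).relIndex (Subgroup.normalizer ((Q ⊔ ((Subgroup.center (S : Subgroup G)).map (S : Subgroup G).subtype) : Subgroup G) : Set G)) = 2) : Cfsg.HasNormalPComplement 2 G ∧ Nat.card {C : ConjClasses G // ∃ t : G, orderOf t = 2 ∧ ConjClasses.mk t = C} = 3 := by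
  obtain ⟨m, x, y, z, h0⟩ := exists_wr hS
  have hmn : m = n := by
    have h1 := h0.card
    rw [hn] at h1
    have := Nat.pow_right_injective (le_refl 2) h1
    omega
  subst hmn
  have e' : Q.subgroupOf (S : Subgroup G) ≃* QuaternionGroup 2 :=
    (Subgroup.subgroupOfEquivOfLe hQS).trans eQ
  obtain ⟨c, hc⟩ := h0.quat8_std _ e'
  have h := h0.rebase c
  have hc' : Q.subgroupOf (S : Subgroup G) = h.Q8 := hc
  have hU : U = UG S h := UG_unique S h U hUS
    (fun a ha b hb => congrArg Subtype.val (hUab.is_comm.comm (⟨a, ha⟩ : U) ⟨b, hb⟩)) hUcard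
  have hQ : Q = Q8G S h := by
    rw [Q8G, ← hc', Subgroup.map_subgroupOf_eq_of_le hQS]
  have hV : Q ⊔ ((Subgroup.center (S : Subgroup G)).map (S : Subgroup G).subtype) =
      VG S h := by
    rw [VG_eq_sup S h, hQ]; rfl
  rw [hV] at h₂
  rw [hU] at h₁
  exact ⟨hasNormalPComplement_of_two_two S h h₁ h₂, card_classes_of_two_two S h h₁ h₂⟩

end Cfsg.Agent.S1212
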