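import Cfsg.Statements.S1225
import Cfsg.Agent.S0223
import Cfsg.Agent.S1755

set_option autoImplicit false
open Cfsg

namespace Cfsg.Agent.S1225

open Cfsg.Agent.S0223 Cfsg.Agent.S1755

variable {G : Type*} [Group G]

theorem inv_eq_of_orderOf_two {a : G} (ha : orderOf a = 2) : a⁻¹ = a := by
  have h := sq_of_orderOf_two ha
  calc a⁻¹ = a⁻¹ * (a ^ 2) := by rw [h, mul_one]
    _ = a := by rw [pow_two]; group

/-- `a` inverts `a * b` -/
theorem conj_mul (a b : G) (ha : orderOf a = 2) (hb : orderOf b = 2) :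
    a * (a * b) * a⁻¹ = (a * b)⁻¹ := by
  rw [inv_eq_of_orderOf_two ha, mul_inv_rev, inv_eq_of_orderOf_two ha, inv_eq_of_orderOf_two hb]
  have h := sq_of_orderOf_two ha
  calc a * (a * b) * a = (a ^ 2) * b * a := by rw [pow_two]; group
    _ = b * a := by rw [h, one_mul]

theorem conj_mul' (a b : G) (ha : orderOf a = 2) (hb : orderOf b = 2) :
    b * (a * b) * b⁻¹ = (a * b)⁻¹ := by
  rw [inv_eq_of_orderOf_two hb, mul_inv_rev, inv_eq_of_orderOf_two ha, inv_eq_of_orderOf_two hb]
  have h := sq_of_orderOf_two hb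
  calc b * (a * b) * b = b * a * (b ^ 2) := by rw [pow_two]; group
    _ = b * a := by rw [h, mul_one]

theorem conj_pow_mul (a b : G) (ha : orderOf a = 2) (hb : orderOf b = 2) (k : ℕ) :
    a * (a * b) ^ k * a⁻¹ = ((a * b) ^ k)⁻¹ := by
  rw [← conj_pow, conj_mul a b ha hb, inv_pow]

theorem conj_pow_mul' (a b : G) (ha : orderOf a = 2) (hb : orderOf b = 2) (k : ℕ) :
    b * (a * b) ^ k * b⁻¹ = ((a * b) ^ k)⁻¹ := by
  rw [← conj_pow, conj_mul' a b ha hb, inv_pow]

/-- two involutions with product of odd order are conjugate by an involution -/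
theorem exists_invol_conj (a b : G) (ha : orderOf a = 2) (hb : orderOf b = 2)
    (hodd : Odd (orderOf (a * b))) :
    ∃ r : G, r * r = 1 ∧ r * a * r⁻¹ = b := by
  obtain ⟨k, hk⟩ := hodd
  set c := a * b with hc
  set x := c ^ k with hx
  have h1 : a * x * a⁻¹ = x⁻¹ := conj_pow_mul a b ha hb k
  have hainv : a⁻¹ = a := inv_eq_of_orderOf_two ha
  have hbinv : b⁻¹ = b := inv_eq_of_orderOf_two hb
  have h2 : x * x * c = 1 := by
    rw [hx, ← pow_add, ← pow_succ, ← two_mul, ← hk]
    exact pow_orderOf_eq_one c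
  have h3 : x * x = c⁻¹ := by
    calc x * x = x * x * c * c⁻¹ := by group
      _ = c⁻¹ := by rw [h2, one_mul]
  have hcinv : c⁻¹ = b * a := by
    rw [hc, mul_inv_rev, hainv, hbinv]
  have haa : a * a = 1 := by
    have := sq_of_orderOf_two ha
    rwa [pow_two] at this
  -- a x = x⁻¹ a
  have h4 : a * x = x⁻¹ * a := by
    calc a * x = (a * x * a⁻¹) * a := by group
      _ = x⁻¹ * a := by rw [h1]
  have h5 : a * x⁻¹ = x * a := by
    have : a * x⁻¹ * a⁻¹ = x := by
      calc a * x⁻¹ * a⁻¹ = (a * x * a⁻¹)⁻¹ := by group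
        _ = x := by rw [h1, inv_inv]
    calc a * x⁻¹ = (a * x⁻¹ * a⁻¹) * a := by group
      _ = x * a := by rw [this]
  refine ⟨x * a, ?_, ?_⟩
  · calc x * a * (x * a) = x * (a * x) * a := by group
      _ = x * (x⁻¹ * a) * a := by rw [h4]
      _ = a * a := by group
      _ = 1 := haa
  · calc x * a * a * (x * a)⁻¹ = x * (a * a) * a⁻¹ * x⁻¹ := by group
      _ = x * (a * x⁻¹) := by rw [haa, hainv]; group
      _ = x * (x * a) := by rw [h5]
      _ = (x * x) * a := by group
      _ = b * a * a := by rw [h3, hcinv]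
      _ = b * (a * a) := by group
      _ = b := by rw [haa, mul_one]

/-- in a group with strongly embedded `H`: if `a ∈ H`, `b` are involutions with product of even
order, then `b ∈ H`. -/
theorem mem_of_even [Finite G] (H : Subgroup G) (hH : Cfsg.IsStronglyEmbedded H)
    (a b : G) (ha : orderOf a = 2) (hb : orderOf b = 2) (haH : a ∈ H)
    (heven : Even (orderOf (a * b))) : b ∈ H := by
  have hcent := ((Cfsg.Agent.S0223.result H hH.1 hH.2.1).mp hH).1
  obtain ⟨k, hk⟩ := heven
  set c := a * b with hc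
  have hn0 : 0 < orderOf c := orderOf_pos c
  have hk0 : 0 < k := by omega
  set z := c ^ k with hz
  have hz1 : z ≠ 1 := pow_ne_one_of_lt_orderOf hk0.ne' (by omega)
  have hz2 : z ^ 2 = 1 := by
    rw [hz, ← pow_mul, mul_two, ← hk]; exact pow_orderOf_eq_one c
  have hzo : orderOf z = 2 := orderOf_eq_prime hz2 hz1
  have hzinv : z⁻¹ = z := inv_eq_of_orderOf_two hzo
  have h1 : a * z * a⁻¹ = z := by
    rw [hz, conj_pow_mul a b ha hb k, ← hz, hzinv]
  have h2 : b * z * b⁻¹ = z := by
    rw [hz, conj_pow_mul' a b ha hb k, ← hz, hzinv]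
  have hzH : z ∈ H := by
    apply hcent a haH ha
    rw [Subgroup.mem_centralizer_singleton_iff]
    calc z * a = (a * z * a⁻¹) * a := by rw [h1]
      _ = a * z := by group
  apply hcent z hzH hzo
  rw [Subgroup.mem_centralizer_singleton_iff]
  calc b * z = (b * z * b⁻¹) * b := by group
    _ = z * b := by rw [h2]


theorem part1 [Finite G] (H : Subgroup G) (hH : Cfsg.IsStronglyEmbedded H) (u : G)
    (hu : orderOf u = 2) (huH : u ∉ H) (s t : G) (hs : orderOf s = 2) (hsH : s ∈ H)
    (ht : orderOf t = 2) (htH : t ∈ H) :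
    ∃ d ∈ (H ⊓ H.map (MulAut.conj u).toMonoidHom), d * s * d⁻¹ = t := by
  obtain ⟨hcent, hfus⟩ := (Cfsg.Agent.S0223.result H hH.1 hH.2.1).mp hH
  have huinv : u⁻¹ = u := inv_eq_of_orderOf_two hu
  have huu : u * u = 1 := by
    have := sq_of_orderOf_two hu
    rwa [pow_two] at this
  set s₀ := u * s * u⁻¹ with hs₀
  have hs₀2 : orderOf s₀ = 2 := by rw [hs₀, orderOf_conj']; exact hs
  have hs₀H : s₀ ∉ H := by
    intro h
    apply no_invol_of_odd _ (hH.2.2 u huH) s₀ _ hs₀2
    refine Subgroup.mem_inf.mpr ⟨h, ?_⟩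
    rw [mem_map_conj]
    have e : u⁻¹ * s₀ * u = s := by rw [hs₀]; group
    rw [e]; exact hsH
  have hodd : Odd (orderOf (t * s₀)) := by
    rw [← Nat.not_even_iff_odd]
    intro heven
    exact hs₀H (mem_of_even H hH t s₀ ht hs₀2 htH heven)
  obtain ⟨r, hrr, hr⟩ := exists_invol_conj t s₀ ht hs₀2 hodd
  have hrinv : r⁻¹ = r := by
    calc r⁻¹ = r⁻¹ * (r * r) := by rw [hrr, mul_one]
      _ = r := by group
  set d := u * r with hd
  have hdts : d * t * d⁻¹ = s := by
    calc d * t * d⁻¹ = u * (r * t * r⁻¹) * u⁻¹ := by rw [hd]; group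
      _ = u * s₀ * u⁻¹ := by rw [hr]
      _ = (u * u) * s * (u * u)⁻¹ := by rw [hs₀]; group
      _ = s := by rw [huu]; group
  have hdH : d ∈ H := by
    obtain ⟨h, hhH, hh⟩ := hfus t htH s hsH ht hs (isConj_iff.mpr ⟨d, hdts⟩)
    have h1 : h⁻¹ * d ∈ Subgroup.centralizer ({t} : Set G) := by
      rw [Subgroup.mem_centralizer_singleton_iff]
      have e : h⁻¹ * d * t = h⁻¹ * (d * t * d⁻¹) * d := by group
      rw [e, hdts, ← hh]; group
    have h2 := hcent t htH ht h1
    have e : d = h * (h⁻¹ * d) := by group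
    rw [e]; exact H.mul_mem hhH h2
  have hdinv : d⁻¹ = r * u := by rw [hd, mul_inv_rev, hrinv, huinv]
  refine ⟨d⁻¹, Subgroup.mem_inf.mpr ⟨H.inv_mem hdH, ?_⟩, ?_⟩
  · rw [mem_map_conj]
    have e : u⁻¹ * d⁻¹ * u = d := by
      rw [hdinv, huinv, hd]
      calc u * (r * u) * u = u * r * (u * u) := by group
        _ = u * r := by rw [huu, mul_one]
    rw [e]; exact hdH
  · rw [inv_inv, ← hdts]; group

/-- Let H be a strongly embedded subgroup of the finite group G, u an involution outside H and D = H ∩ uHu⁻¹. Then any two involutions of H are conjugate by an element of D, and any two involutions of G are conjugate in G. -/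
theorem result {G : Type*} [Group G] [Finite G] (H : Subgroup G) (hH : Cfsg.IsStronglyEmbedded H) (u : G) (hu : orderOf u = 2) (huH : u ∉ H) (s t : G) (hs : orderOf s = 2) (hsH : s ∈ H) (ht : orderOf t = 2) (htH : t ∈ H) : (∃ d ∈ (H ⊓ H.map (MulAut.conj u).toMonoidHom), d * s * d⁻¹ = t) ∧ ∀ a b : G, orderOf a = 2 → orderOf b = 2 → IsConj a b := by
  refine ⟨part1 H hH u hu huH s t hs hsH ht htH, ?_⟩
  have key : ∀ a : G, orderOf a = 2 → IsConj t a := by
    intro a ha
    by_cases hodd : Odd (orderOf (t * a))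
    · obtain ⟨r, _, hr⟩ := exists_invol_conj t a ht ha hodd
      exact isConj_iff.mpr ⟨r, hr⟩
    · rw [Nat.not_odd_iff_even] at hodd
      have haH := mem_of_even H hH t a ht ha htH hodd
      obtain ⟨d, _, hd⟩ := part1 H hH u hu huH t a ht htH ha haH
      exact isConj_iff.mpr ⟨d, hd⟩
  intro a b ha hb
  exact (key a ha).symm.trans (key b hb)

end Cfsg.Agent.S1225
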