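import Cfsg.Statements.S1224
import Cfsg.Agent.S1225

set_option autoImplicit false
open Cfsg

namespace Cfsg.Agent.S1224

open Cfsg.Agent.S0223 Cfsg.Agent.S1755 Cfsg.Agent.S1225

variable {G : Type*} [Group G]

/-- the canonical involution of the dihedral group `⟨a, b⟩` conjugating `a` to `b`
(when `a * b` has odd order) -/
noncomputable def rr (a b : G) : G := (a * b) ^ (orderOf (a * b) / 2) * a

theorem rr_spec (a b : G) (ha : orderOf a = 2) (hb : orderOf b = 2)
    (hodd : Odd (orderOf (a * b))) :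
    rr a b * rr a b = 1 ∧ rr a b * a * (rr a b)⁻¹ = b := by
  obtain ⟨k, hk⟩ := hodd
  have hk2 : orderOf (a * b) / 2 = k := by omega
  unfold rr
  rw [hk2]
  set c := a * b with hc
  set x := c ^ k with hx
  have h1 : a * x * a⁻¹ = x⁻¹ := conj_pow_mul a b ha hb k
  have hainv : a⁻¹ = a := inv_eq_of_orderOf_two ha
  have hbinv : b⁻¹ = b := inv_eq_of_orderOf_two hb
  have h2 : x * x * c = 1 := by
    rw [hx, ← pow_add, ← pow_succ, ← two_mul, ← hk]
    exact pow_orderOf_eq_one c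
  have h3 : x * x = c⁻¹ := by
    calc x * x = x * x * c * c⁻¹ := by group
      _ = c⁻¹ := by rw [h2, one_mul]
  have hcinv : c⁻¹ = b * a := by
    rw [hc, mul_inv_rev, hainv, hbinv]
  have haa : a * a = 1 := by
    have := sq_of_orderOf_two ha
    rwa [pow_two] at this
  have h4 : a * x = x⁻¹ * a := by
    calc a * x = (a * x * a⁻¹) * a := by group
      _ = x⁻¹ * a := by rw [h1]
  have h5 : a * x⁻¹ = x * a := by
    have : a * x⁻¹ * a⁻¹ = x := by
      calc a * x⁻¹ * a⁻¹ = (a * x * a⁻¹)⁻¹ := by group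
        _ = x := by rw [h1, inv_inv]
    calc a * x⁻¹ = (a * x⁻¹ * a⁻¹) * a := by group
      _ = x * a := by rw [this]
  refine ⟨?_, ?_⟩
  · calc x * a * (x * a) = x * (a * x) * a := by group
      _ = x * (x⁻¹ * a) * a := by rw [h4]
      _ = a * a := by group
      _ = 1 := haa
  · calc x * a * a * (x * a)⁻¹ = x * (a * a) * a⁻¹ * x⁻¹ := by group
      _ = x * (a * x⁻¹) := by rw [haa, hainv]; group
      _ = x * (x * a) := by rw [h5]
      _ = (x * x) * a := by group
      _ = b * a * a := by rw [h3, hcinv]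
      _ = b * (a * a) := by group
      _ = b := by rw [haa, mul_one]

theorem rr_comm (a b c : G) (hca : c * a = a * c) (hcb : c * b = b * c) :
    c * rr a b = rr a b * c := by
  unfold rr
  have h1 : Commute c (a * b) := (show Commute c a from hca).mul_right (show Commute c b from hcb)
  have h2 : Commute c ((a * b) ^ (orderOf (a * b) / 2)) := h1.pow_right _
  exact (h2.mul_right (show Commute c a from hca))

/-- in a strongly embedded subgroup: an element conjugating one involution of `H` to another lies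
in `H` -/
theorem mem_of_conj [Finite G] (H : Subgroup G) (hH : Cfsg.IsStronglyEmbedded H)
    (t t' n : G) (ht : orderOf t = 2) (htH : t ∈ H) (ht' : orderOf t' = 2) (ht'H : t' ∈ H)
    (hn : n * t * n⁻¹ = t') : n ∈ H := by
  obtain ⟨hcent, hfus⟩ := (Cfsg.Agent.S0223.result H hH.1 hH.2.1).mp hH
  obtain ⟨h, hhH, hh⟩ := hfus t htH t' ht'H ht ht' (isConj_iff.mpr ⟨n, hn⟩)
  have h1 : h⁻¹ * n ∈ Subgroup.centralizer ({t} : Set G) := by
    rw [Subgroup.mem_centralizer_singleton_iff]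
    have e : h⁻¹ * n * t = h⁻¹ * (n * t * n⁻¹) * n := by group
    rw [e, hn, ← hh]; group
  have h2 := hcent t htH ht h1
  have e : n = h * (h⁻¹ * n) := by group
  rw [e]; exact H.mul_mem hhH h2


theorem smul_iff (H : Subgroup G) (g g' i : G) :
    i • (g : G ⧸ H) = (g' : G ⧸ H) ↔ g'⁻¹ * i * g ∈ H := by
  rw [MulAction.Quotient.smul_coe, smul_eq_mul, eq_comm, QuotientGroup.eq, ← mul_assoc]

/-- Let H be a strongly embedded subgroup of the finite group G and x ≠ y two cosets in G/H. Then the number of involutions i of G with i • x = y equals the number of involutions lying in H. -/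
theorem result {G : Type*} [Group G] [Finite G] (H : Subgroup G) (hH : Cfsg.IsStronglyEmbedded H) (x y : G ⧸ H) (hxy : x ≠ y) : Nat.card {i : G // orderOf i = 2 ∧ i • x = y} = Nat.card {t : G // orderOf t = 2 ∧ t ∈ H} := by
  classical
  obtain ⟨hcent, hfus⟩ := (Cfsg.Agent.S0223.result H hH.1 hH.2.1).mp hH
  obtain ⟨g, rfl⟩ := QuotientGroup.mk_surjective x
  obtain ⟨g', rfl⟩ := QuotientGroup.mk_surjective y
  have hh : g⁻¹ * g' ∉ H := by
    intro h
    apply hxy
    exact QuotientGroup.eq.mpr h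
  obtain ⟨t₀, ht₀H, ht₀⟩ := exists_invol_of_even H (Nat.not_odd_iff_even.mpr hH.2.1)
  set s₀ := g' * t₀ * g'⁻¹ with hs₀
  have hs₀2 : orderOf s₀ = 2 := by rw [hs₀, orderOf_conj']; exact ht₀
  -- key facts for t ∈ I ∩ H
  have hne : ∀ t : G, orderOf t = 2 → t ∈ H → g * t * g⁻¹ ≠ s₀ := by
    intro t ht htH heq
    apply hh
    apply mem_of_conj H hH t₀ t (g⁻¹ * g') ht₀ ht₀H ht htH
    have e : g⁻¹ * g' * t₀ * (g⁻¹ * g')⁻¹ = g⁻¹ * s₀ * g := by rw [hs₀]; group
    rw [e, ← heq]; group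
  have hodd : ∀ t : G, orderOf t = 2 → t ∈ H → Odd (orderOf (g * t * g⁻¹ * s₀)) := by
    intro t ht htH
    rw [← Nat.not_even_iff_odd]
    intro heven
    have e : g * t * g⁻¹ * s₀ = g * (t * (g⁻¹ * s₀ * g)) * g⁻¹ := by group
    rw [e, orderOf_conj'] at heven
    have h2 : orderOf (g⁻¹ * s₀ * g) = 2 := by
      have := orderOf_conj' g⁻¹ s₀
      rw [inv_inv] at this
      rw [this]; exact hs₀2
    have h3 := mem_of_even H hH t (g⁻¹ * s₀ * g) ht h2 htH heven
    apply hh
    apply mem_of_conj H hH t₀ (g⁻¹ * s₀ * g) (g⁻¹ * g') ht₀ ht₀H h2 h3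
    rw [hs₀]; group
  symm
  refine Nat.card_congr ?_
  refine
    { toFun := fun t => ⟨rr (g * t.1 * g⁻¹) s₀, ?_, ?_⟩
      invFun := fun i => ⟨g⁻¹ * (i.1 * s₀ * i.1⁻¹) * g, ?_, ?_⟩
      left_inv := ?_
      right_inv := ?_ }
  · -- order two
    obtain ⟨t, ht, htH⟩ := t
    have ha : orderOf (g * t * g⁻¹) = 2 := by rw [orderOf_conj']; exact ht
    obtain ⟨h1, h2⟩ := rr_spec (g * t * g⁻¹) s₀ ha hs₀2 (hodd t ht htH)
    apply orderOf_eq_prime
    · rw [pow_two]; exact h1
    · intro h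
      rw [h] at h2
      apply hne t ht htH
      rw [← h2]; group
  · -- maps x to y
    obtain ⟨t, ht, htH⟩ := t
    have ha : orderOf (g * t * g⁻¹) = 2 := by rw [orderOf_conj']; exact ht
    obtain ⟨h1, h2⟩ := rr_spec (g * t * g⁻¹) s₀ ha hs₀2 (hodd t ht htH)
    rw [smul_iff]
    apply mem_of_conj H hH t t₀ _ ht htH ht₀ ht₀H
    set r := rr (g * t * g⁻¹) s₀ with hr
    calc g'⁻¹ * r * g * t * (g'⁻¹ * r * g)⁻¹ = g'⁻¹ * (r * (g * t * g⁻¹) * r⁻¹) * g' := by group
      _ = g'⁻¹ * s₀ * g' := by rw [h2]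
      _ = t₀ := by rw [hs₀]; group
  · -- order two
    obtain ⟨i, hi, hixy⟩ := i
    have e : g⁻¹ * (i * s₀ * i⁻¹) * g = (g⁻¹ * i) * s₀ * (g⁻¹ * i)⁻¹ := by group
    show orderOf (g⁻¹ * (i * s₀ * i⁻¹) * g) = 2
    rw [e, orderOf_conj']; exact hs₀2
  · -- in H
    obtain ⟨i, hi, hixy⟩ := i
    rw [smul_iff] at hixy
    have hiinv : i⁻¹ = i := inv_eq_of_orderOf_two hi
    have h1 : g⁻¹ * i * g' ∈ H := by
      have := H.inv_mem hixy
      have e : (g'⁻¹ * i * g)⁻¹ = g⁻¹ * i * g' := by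
        rw [mul_inv_rev, mul_inv_rev, hiinv, inv_inv]; group
      rwa [e] at this
    have e : g⁻¹ * (i * s₀ * i⁻¹) * g = (g⁻¹ * i * g') * t₀ * (g⁻¹ * i * g')⁻¹ := by
      rw [hs₀]; group
    show g⁻¹ * (i * s₀ * i⁻¹) * g ∈ H
    rw [e]
    exact H.mul_mem (H.mul_mem h1 ht₀H) (H.inv_mem h1)
  · -- left inverse
    rintro ⟨t, ht, htH⟩
    apply Subtype.ext
    have ha : orderOf (g * t * g⁻¹) = 2 := by rw [orderOf_conj']; exact ht
    obtain ⟨h1, h2⟩ := rr_spec (g * t * g⁻¹) s₀ ha hs₀2 (hodd t ht htH)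
    show g⁻¹ * (rr (g * t * g⁻¹) s₀ * s₀ * (rr (g * t * g⁻¹) s₀)⁻¹) * g = t
    set r := rr (g * t * g⁻¹) s₀ with hr
    have h3 : r * s₀ * r⁻¹ = g * t * g⁻¹ := by
      rw [← h2]
      calc r * (r * (g * t * g⁻¹) * r⁻¹) * r⁻¹ = (r * r) * (g * t * g⁻¹) * (r * r)⁻¹ := by group
        _ = g * t * g⁻¹ := by rw [h1]; group
    rw [h3]; group
  · -- right inverse
    rintro ⟨i, hi, hixy⟩
    apply Subtype.ext
    have hixy' := hixy
    rw [smul_iff] at hixy'
    have hiinv : i⁻¹ = i := inv_eq_of_orderOf_two hi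
    have hii : i * i = 1 := by
      have := sq_of_orderOf_two hi
      rwa [pow_two] at this
    have h1 : g⁻¹ * i * g' ∈ H := by
      have := H.inv_mem hixy'
      have e : (g'⁻¹ * i * g)⁻¹ = g⁻¹ * i * g' := by
        rw [mul_inv_rev, mul_inv_rev, hiinv, inv_inv]; group
      rwa [e] at this
    set t := g⁻¹ * (i * s₀ * i⁻¹) * g with ht_def
    have ht : orderOf t = 2 := by
      have e : t = (g⁻¹ * i) * s₀ * (g⁻¹ * i)⁻¹ := by rw [ht_def]; group
      rw [e, orderOf_conj']; exact hs₀2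
    have htH : t ∈ H := by
      have e : t = (g⁻¹ * i * g') * t₀ * (g⁻¹ * i * g')⁻¹ := by
        rw [ht_def, hs₀]; group
      rw [e]
      exact H.mul_mem (H.mul_mem h1 ht₀H) (H.inv_mem h1)
    have ha_eq : g * t * g⁻¹ = i * s₀ * i⁻¹ := by rw [ht_def]; group
    have ha : orderOf (g * t * g⁻¹) = 2 := by rw [orderOf_conj']; exact ht
    obtain ⟨hr1, hr2⟩ := rr_spec (g * t * g⁻¹) s₀ ha hs₀2 (hodd t ht htH)
    show rr (g * t * g⁻¹) s₀ = i
    set a := g * t * g⁻¹ with ha_def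
    set r := rr a s₀ with hr
    have hrinv : r⁻¹ = r := by
      calc r⁻¹ = r⁻¹ * (r * r) := by rw [hr1, mul_one]
        _ = r := by group
    set c := r * i with hc
    -- i a i⁻¹ = s₀
    have hias : i * a * i⁻¹ = s₀ := by
      rw [ha_eq]
      calc i * (i * s₀ * i⁻¹) * i⁻¹ = (i * i) * s₀ * (i * i)⁻¹ := by group
        _ = s₀ := by rw [hii]; group
    have hrsa : r * s₀ * r⁻¹ = a := by
      rw [← hr2]
      calc r * (r * a * r⁻¹) * r⁻¹ = (r * r) * a * (r * r)⁻¹ := by group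
        _ = a := by rw [hr1]; group
    have hca : c * a = a * c := by
      have h : c * a * c⁻¹ = a := by
        calc c * a * c⁻¹ = r * (i * a * i⁻¹) * r⁻¹ := by rw [hc]; group
          _ = a := by rw [hias, hrsa]
      calc c * a = (c * a * c⁻¹) * c := by group
        _ = a * c := by rw [h]
    have hcs : c * s₀ = s₀ * c := by
      have h : c * s₀ * c⁻¹ = s₀ := by
        calc c * s₀ * c⁻¹ = r * (i * s₀ * i⁻¹) * r⁻¹ := by rw [hc]; group
          _ = s₀ := by rw [← ha_eq, hr2]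
      calc c * s₀ = (c * s₀ * c⁻¹) * c := by group
        _ = s₀ * c := by rw [h]
    have hcr : c * r = r * c := rr_comm a s₀ c hca hcs
    have hcinv : c⁻¹ = i * r := by rw [hc, mul_inv_rev, hiinv, hrinv]
    have hrcr : r * c * r⁻¹ = c⁻¹ := by
      rw [hcinv, hc, hrinv]
      calc r * (r * i) * r = (r * r) * i * r := by group
        _ = i * r := by rw [hr1, one_mul]
    have hcc : c * c = 1 := by
      have h : c = c⁻¹ := by
        calc c = (c * r) * r⁻¹ := by group
          _ = r * c * r⁻¹ := by rw [hcr]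
          _ = c⁻¹ := hrcr
      calc c * c = c * c⁻¹ := by rw [← h]
        _ = 1 := mul_inv_cancel c
    -- c lies in a conjugate of H ∩ H^h
    have hc1 : c = 1 := by
      by_contra hcne
      have hco : orderOf c = 2 := orderOf_eq_prime (by rw [pow_two]; exact hcc) hcne
      have h2 : orderOf (g⁻¹ * c * g) = 2 := by
        have := orderOf_conj' g⁻¹ c
        rw [inv_inv] at this
        rw [this]; exact hco
      apply no_invol_of_odd _ (hH.2.2 (g⁻¹ * g') hh) (g⁻¹ * c * g) _ h2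
      refine Subgroup.mem_inf.mpr ⟨?_, ?_⟩
      · -- g⁻¹ c g centralizes t
        apply hcent t htH ht
        rw [Subgroup.mem_centralizer_singleton_iff]
        calc g⁻¹ * c * g * t = g⁻¹ * (c * a) * g := by rw [ha_def]; group
          _ = g⁻¹ * (a * c) * g := by rw [hca]
          _ = t * (g⁻¹ * c * g) := by rw [ha_def]; group
      · rw [mem_map_conj]
        apply hcent t₀ ht₀H ht₀
        rw [Subgroup.mem_centralizer_singleton_iff]
        calc (g⁻¹ * g')⁻¹ * (g⁻¹ * c * g) * (g⁻¹ * g') * t₀ = g'⁻¹ * (c * s₀) * g' := by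
              rw [hs₀]; group
          _ = g'⁻¹ * (s₀ * c) * g' := by rw [hcs]
          _ = t₀ * ((g⁻¹ * g')⁻¹ * (g⁻¹ * c * g) * (g⁻¹ * g')) := by rw [hs₀]; group
    calc r = r * (i * i) := by rw [hii, mul_one]
      _ = c * i := by rw [hc]; group
      _ = i := by rw [hc1, one_mul]

end Cfsg.Agent.S1224
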