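import Cfsg.Statements.S1948
import Cfsg.Agent.S1907

set_option autoImplicit false
open Cfsg

namespace Cfsg.Agent.S1948

open Cfsg.Agent.Lib.Helper3_Conj Cfsg.Agent.Lib.Helper3_SylowRel
open Cfsg.Agent.Lib.Helper5_Residual Cfsg.Agent.Lib.Helper4_PCore Cfsg.Agent.Lib.Helper5_PPrime

variable {G : Type*} [Group G] [Finite G] {p : ℕ} [hp : Fact p.Prime]

/-- a `p`-element normalizing a Sylow `p`-subgroup lies in it -/
theorem mem_sylow_of_pelt (S : Sylow p G) (y : G)
    (hy : y ∈ Subgroup.normalizer ((S : Subgroup G) : Set G))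
    (hyp : IsPGroup p (Subgroup.zpowers y)) : y ∈ (S : Subgroup G) := by
  have h1 : IsPGroup p ↥((S : Subgroup G) ⊔ Subgroup.zpowers y) := by
    refine IsPGroup.to_sup_of_normal_left' S.2 hyp ?_
    rw [Subgroup.zpowers_le]; exact hy
  have h2 : (S : Subgroup G) ⊔ Subgroup.zpowers y = S := S.3 h1 le_sup_left
  rw [← h2]
  exact (le_sup_right : Subgroup.zpowers y ≤ _) (Subgroup.mem_zpowers y)

/-- central Sylow subgroup: the `p'`-elements form a subgroup of `p'`-order. -/
theorem exists_pprime_part (C Z : Subgroup G) (hZC : Z ≤ C) (hZp : IsPGroup p ↥Z)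
    (hcomm : ∀ z ∈ Z, ∀ c ∈ C, z * c = c * z)
    (hall : ∀ c ∈ C, IsPGroup p (Subgroup.zpowers c) → c ∈ Z) :
    ∃ T : Subgroup G, T ≤ C ∧ (Nat.card T).Coprime p ∧ C ≤ Z ⊔ T ∧
      ∀ c ∈ C, (orderOf c).Coprime p → c ∈ T := by
  set Z' : Subgroup ↥C := Z.subgroupOf C with hZ'
  have hZ'p : IsPGroup p ↥Z' := hZp.comap_subtype
  obtain ⟨P', hP'⟩ := hZ'p.exists_le_sylow
  have hP'Z : (P' : Subgroup ↥C) ≤ Z' := by
    intro x hx
    rw [hZ', Subgroup.mem_subgroupOf]
    apply hall _ x.2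
    have h1 : IsPGroup p (Subgroup.zpowers x) := P'.2.to_le (by rw [Subgroup.zpowers_le]; exact hx)
    have h2 : Subgroup.zpowers (x : G) = (Subgroup.zpowers x).map C.subtype := by
      rw [MonoidHom.map_zpowers]; rfl
    rw [h2]; exact h1.map _
  have hZ'eq : Z' = (P' : Subgroup ↥C) := le_antisymm hP' hP'Z
  have hZ'n : Z'.Normal := by
    constructor
    intro n hn g
    rw [hZ', Subgroup.mem_subgroupOf] at hn ⊢
    have h1 : ((g * n * g⁻¹ : ↥C) : G) = (n : G) := by
      push_cast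
      have := hcomm _ hn _ g.2
      calc (g : G) * n * (g : G)⁻¹ = ((n : G) * g) * (g : G)⁻¹ := by rw [this]
        _ = n := by group
    rw [h1]; exact hn
  have hcop : (Nat.card Z').Coprime Z'.index := by
    obtain ⟨k, hk⟩ := hZ'p.exists_card_eq
    rw [hk]
    apply Nat.Coprime.pow_left
    rw [Nat.Prime.coprime_iff_not_dvd hp.out, hZ'eq]
    exact P'.not_dvd_index
  obtain ⟨H, hH⟩ := Subgroup.exists_right_complement'_of_coprime hcop
  have hHcard : (Nat.card H).Coprime p := by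
    have h1 := hH.symm.index_eq_card
    rw [← h1, hZ'eq]
    exact ((Nat.Prime.coprime_iff_not_dvd hp.out).mpr P'.not_dvd_index).symm
  have hdecomp : ∀ x : ↥C, ∃ z ∈ Z', ∃ h ∈ H, x = z * h := by
    intro x
    have h1 : x ∈ ((Z' ⊔ H : Subgroup ↥C) : Set ↥C) := by
      rw [hH.sup_eq_top]; trivial
    rw [Subgroup.normal_mul, Set.mem_mul] at h1
    obtain ⟨z, hz, h, hh, rfl⟩ := h1
    exact ⟨z, hz, h, hh, rfl⟩
  refine ⟨H.map C.subtype, ?_, ?_, ?_, ?_⟩
  · rintro _ ⟨x, _, rfl⟩; exact x.2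
  · rw [Subgroup.card_map_of_injective C.subtype_injective]; exact hHcard
  · intro c hc
    obtain ⟨z, hz, h, hh, hx⟩ := hdecomp ⟨c, hc⟩
    have : c = (z : G) * (h : G) := by
      have := congrArg Subtype.val hx
      simpa using this
    rw [this]
    refine Subgroup.mul_mem _ (Subgroup.mem_sup_left ?_) (Subgroup.mem_sup_right ⟨h, hh, rfl⟩)
    exact Subgroup.mem_subgroupOf.mp hz
  · intro c hc hcop'
    obtain ⟨z, hz, h, hh, hx⟩ := hdecomp ⟨c, hc⟩
    set x : ↥C := ⟨c, hc⟩ with hxdef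
    set m := Nat.card H with hm
    have hhm : h ^ m = 1 := by
      have h3 : orderOf (⟨h, hh⟩ : H) ∣ Nat.card H := orderOf_dvd_natCard _
      rw [Subgroup.orderOf_mk] at h3
      exact orderOf_dvd_iff_pow_eq_one.mp h3
    have hzh : Commute z h := by
      have := hcomm _ (Subgroup.mem_subgroupOf.mp hz) _ h.2
      exact Subtype.ext (by push_cast; exact this)
    have hxm : x ^ m = z ^ m := by
      rw [hx, hzh.mul_pow, hhm, mul_one]
    have hox : orderOf x = orderOf c := by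
      rw [hxdef]; exact Subgroup.orderOf_mk c hc
    have h1 : (orderOf (x ^ m)).Coprime p :=
      Nat.Coprime.coprime_dvd_left (orderOf_pow_dvd m) (hox ▸ hcop')
    obtain ⟨k, hk⟩ := (IsPGroup.iff_orderOf.mp hZ'p) ⟨z, hz⟩
    rw [Subgroup.orderOf_mk] at hk
    have h2 : orderOf (z ^ m) ∣ p ^ k := hk ▸ orderOf_pow_dvd m
    have h3 : orderOf (z ^ m) = 1 := by
      rw [hxm] at h1
      exact Nat.eq_one_of_dvd_coprimes (Nat.Coprime.pow_right k h1) dvd_rfl h2
    rw [orderOf_eq_one_iff] at h3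
    have h4 : orderOf z ∣ m := orderOf_dvd_of_pow_eq_one h3
    have h5 : orderOf z = 1 := by
      have : (m).Coprime (p ^ k) := Nat.Coprime.pow_right k hHcard
      exact Nat.eq_one_of_dvd_coprimes this h4 (hk ▸ dvd_rfl)
    rw [orderOf_eq_one_iff] at h5
    rw [h5, one_mul] at hx
    refine ⟨h, hh, ?_⟩
    show ((h : ↥C) : G) = c
    rw [← hx]


/-- if `A` and `B` both normalize `M` and `A ⊔ B = ⊤`, then `M` is normal -/
theorem normal_of_sup_eq_top (A B M : Subgroup G) (hAB : A ⊔ B = ⊤)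
    (hA : ∀ a ∈ A, ∀ m ∈ M, a * m * a⁻¹ ∈ M) (hB : ∀ b ∈ B, ∀ m ∈ M, b * m * b⁻¹ ∈ M) :
    M.Normal := by
  rw [← Subgroup.normalizer_eq_top_iff, eq_top_iff, ← hAB]
  apply sup_le
  · intro a ha
    exact Cfsg.Agent.S1960.mem_normalizer_of_conj_le' M a (fun m hm => hA a ha m hm)
  · intro b hb
    exact Cfsg.Agent.S1960.mem_normalizer_of_conj_le' M b (fun m hm => hB b hb m hm)

theorem forward (S : Sylow p G)
    (hND : Subgroup.normalizer ((S : Subgroup G) : Set G) ⊔ Cfsg.pPrimeCore p G = ⊤) :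
    (S : Subgroup G) ≤ Cfsg.pPrimePCore p G ∧
      Subgroup.centralizer ((S : Subgroup G) : Set G) ≤ Cfsg.pPrimePCore p G := by
  haveI hDn := Cfsg.Agent.S1907.D_normal (G := G) (p := p)
  haveI hLn := Cfsg.Agent.S1907.K_normal (G := G) (p := p)
  set D := Cfsg.pPrimeCore p G with hD
  set L := Cfsg.pPrimePCore p G with hL
  set N := Subgroup.normalizer ((S : Subgroup G) : Set G) with hN
  set C := Subgroup.centralizer ((S : Subgroup G) : Set G) with hC
  have hCN : C ≤ N := Subgroup.centralizer_le_normalizer _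
  -- D ≤ L
  have hDL : D ≤ L := by
    intro d hd
    show (QuotientGroup.mk' D) d ∈ Cfsg.pCore p (G ⧸ D)
    have : (QuotientGroup.mk' D) d = 1 := by
      rw [QuotientGroup.mk'_apply, QuotientGroup.eq_one_iff]; exact hd
    rw [this]; exact Subgroup.one_mem _
  -- D ⊔ S is normal
  have hDSn : (D ⊔ (S : Subgroup G)).Normal := by
    apply normal_of_sup_eq_top N D _ hND
    · intro a ha m hm
      rw [← SetLike.mem_coe, Subgroup.normal_mul] at hm ⊢
      obtain ⟨d, hd, s, hs, rfl⟩ := Set.mem_mul.mp hm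
      refine Set.mem_mul.mpr ⟨a * d * a⁻¹, hDn.conj_mem d hd a, a * s * a⁻¹, ?_, by group⟩
      exact (Subgroup.mem_normalizer_iff.mp ha s).mp hs
    · intro b hb m hm
      exact Subgroup.mul_mem _ (Subgroup.mul_mem _ (Subgroup.mem_sup_left hb) hm)
        (Subgroup.inv_mem _ (Subgroup.mem_sup_left hb))
  have hDSL : D ⊔ (S : Subgroup G) ≤ L := by
    show D ⊔ (S : Subgroup G) ≤ (Cfsg.pCore p (G ⧸ D)).comap (QuotientGroup.mk' D)
    rw [← Subgroup.map_le_iff_le_comap]
    refine le_pCore _ (Subgroup.Normal.map hDSn _ (QuotientGroup.mk'_surjective D)) ?_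
    have heq : (D ⊔ (S : Subgroup G)).map (QuotientGroup.mk' D)
        = (S : Subgroup G).map (QuotientGroup.mk' D) := by
      apply le_antisymm
      · rintro _ ⟨y, hy, rfl⟩
        have hy : y ∈ ((D ⊔ (S : Subgroup G) : Subgroup G) : Set G) := hy
        rw [Subgroup.normal_mul] at hy
        obtain ⟨d, hd, s, hs, rfl⟩ := Set.mem_mul.mp hy
        refine ⟨s, hs, ?_⟩
        rw [map_mul]
        have : (QuotientGroup.mk' D) d = 1 := by
          rw [QuotientGroup.mk'_apply, QuotientGroup.eq_one_iff]; exact hd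
        rw [this, one_mul]
      · exact Subgroup.map_mono le_sup_right
    rw [heq]
    exact S.2.map _
  have hSL : (S : Subgroup G) ≤ L := le_sup_right.trans hDSL
  refine ⟨hSL, ?_⟩
  -- the p'-part of C
  set Z := (S : Subgroup G) ⊓ C with hZ
  obtain ⟨T, hTC, hTcop, hCle, hTall⟩ := exists_pprime_part (p := p) C Z inf_le_right
    (S.2.to_le inf_le_left)
    (by
      intro z hz c hc
      exact (Subgroup.mem_centralizer_iff.mp hc z hz.1))
    (by
      intro c hc hcp
      exact ⟨mem_sylow_of_pelt S c (hCN hc) hcp, hc⟩)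
  -- T is N-invariant
  have hTinv : ∀ n ∈ N, ∀ t ∈ T, n * t * n⁻¹ ∈ T := by
    intro n hn t ht
    apply hTall
    · rw [hC, Subgroup.mem_centralizer_iff]
      intro s hs
      have h1 : n⁻¹ * s * n ∈ (S : Subgroup G) := by
        have := (Subgroup.mem_normalizer_iff.mp (Subgroup.inv_mem _ hn) s).mp hs
        simpa using this
      have h2 := Subgroup.mem_centralizer_iff.mp (hTC ht) _ h1
      calc s * (n * t * n⁻¹) = n * ((n⁻¹ * s * n) * t) * n⁻¹ := by group
        _ = n * (t * (n⁻¹ * s * n)) * n⁻¹ := by rw [h2]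
        _ = n * t * n⁻¹ * s := by group
    · have h1 : orderOf (n * t * n⁻¹) = orderOf t := by
        have := (MulAut.conj n).orderOf_eq t
        simpa using this
      rw [h1]
      have h2 : orderOf t ∣ Nat.card T := by
        have := orderOf_dvd_natCard (⟨t, ht⟩ : T)
        rwa [Subgroup.orderOf_mk] at this
      exact Nat.Coprime.coprime_dvd_left h2 hTcop
  have hDTn : (D ⊔ T).Normal := by
    apply normal_of_sup_eq_top N D _ hND
    · intro a ha m hm
      rw [← SetLike.mem_coe, Subgroup.normal_mul] at hm ⊢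
      obtain ⟨d, hd, t, ht, rfl⟩ := Set.mem_mul.mp hm
      exact Set.mem_mul.mpr ⟨a * d * a⁻¹, hDn.conj_mem d hd a, a * t * a⁻¹, hTinv a ha t ht, by group⟩
    · intro b hb m hm
      exact Subgroup.mul_mem _ (Subgroup.mul_mem _ (Subgroup.mem_sup_left hb) hm)
        (Subgroup.inv_mem _ (Subgroup.mem_sup_left hb))
  have hDTcop : (Nat.card ↥(D ⊔ T)).Coprime p :=
    Nat.Coprime.coprime_dvd_left (card_sup_dvd_mul D T)
      (Nat.Coprime.mul_left (pPrimeCore_coprime p G) hTcop)
  have hTD : T ≤ D := le_sup_right.trans (le_pPrimeCore (D ⊔ T) hDTcop)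
  calc C ≤ Z ⊔ T := hCle
    _ ≤ L := sup_le (inf_le_left.trans hSL) (hTD.trans hDL)


/-- Let S be a Sylow p-subgroup of the finite group G. Then G = N_G(S)·O_{p'}(G) if and only if G is p-constrained and N_G(S) controls fusion in S, in the sense that whenever a subgroup Q of S has a conjugate g Q g⁻¹ inside S, the element g is a product n c with n normalizing S and c centralizing Q. -/
theorem result {G : Type*} [Group G] [Finite G] {p : ℕ} [Fact p.Prime] (S : Sylow p G) :
    Subgroup.normalizer ((S : Subgroup G) : Set G) ⊔ Cfsg.pPrimeCore p G = ⊤ ↔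
      (Cfsg.IsPConstrained p G ∧
        ∀ Q : Subgroup G, Q ≤ (S : Subgroup G) → ∀ g : G, Q.map (MulAut.conj g).toMonoidHom ≤ (S : Subgroup G) →
          ∃ n ∈ Subgroup.normalizer ((S : Subgroup G) : Set G), ∃ c ∈ Subgroup.centralizer (Q : Set G), g = n * c) := by
  haveI hDn := Cfsg.Agent.S1907.D_normal (G := G) (p := p)
  haveI hLn := Cfsg.Agent.S1907.K_normal (G := G) (p := p)
  constructor
  · intro hND
    obtain ⟨hSL, hCL⟩ := forward S hND
    constructor
    · intro P₀
      obtain ⟨l, hl⟩ := MulAction.exists_smul_eq ↥(Cfsg.pPrimePCore p G)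
        (sylowInfNormal S (Cfsg.pPrimePCore p G)) P₀
      intro c hc
      have h1 : (l : G)⁻¹ * c * l ∈ Subgroup.centralizer ((S : Subgroup G) : Set G) := by
        rw [Subgroup.mem_centralizer_iff]
        intro s hs
        have hmem : (l : G) * s * (l : G)⁻¹ ∈
            ((P₀ : Subgroup ↥(Cfsg.pPrimePCore p G)).map (Cfsg.pPrimePCore p G).subtype : Subgroup G) := by
          refine ⟨l * ⟨s, hSL hs⟩ * l⁻¹, ?_, by simp⟩
          rw [← hl]
          show l * ⟨s, hSL hs⟩ * l⁻¹ ∈ ((l • sylowInfNormal S (Cfsg.pPrimePCore p G) : Sylow p _) : Subgroup _)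
          rw [Sylow.coe_subgroup_smul, Subgroup.mem_pointwise_smul_iff_inv_smul_mem, MulAut.smul_def]
          have e : (MulAut.conj l)⁻¹ (l * ⟨s, hSL hs⟩ * l⁻¹) = ⟨s, hSL hs⟩ := by
            rw [← map_inv, MulAut.conj_apply]; group
          rw [e, coe_sylowInfNormal, Subgroup.mem_subgroupOf]
          exact hs
        have h2 := Subgroup.mem_centralizer_iff.mp hc _ hmem
        calc s * ((l : G)⁻¹ * c * l) = (l : G)⁻¹ * (((l : G) * s * (l : G)⁻¹) * c) * l := by group
          _ = (l : G)⁻¹ * (c * ((l : G) * s * (l : G)⁻¹)) * l := by rw [h2]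
          _ = (l : G)⁻¹ * c * l * s := by group
      have h2 := hCL h1
      have e : c = (l : G) * ((l : G)⁻¹ * c * l) * (l : G)⁻¹ := by group
      rw [e]
      exact Subgroup.mul_mem _ (Subgroup.mul_mem _ l.2 h2) (Subgroup.inv_mem _ l.2)
    · intro Q hQ g hg
      have hg' : g ∈ ((Subgroup.normalizer ((S : Subgroup G) : Set G) ⊔ Cfsg.pPrimeCore p G : Subgroup G) : Set G) := by
        rw [hND]; trivial
      rw [Subgroup.mul_normal] at hg'
      obtain ⟨n, hn, d, hd, rfl⟩ := Set.mem_mul.mp hg'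
      have hn : n ∈ Subgroup.normalizer ((S : Subgroup G) : Set G) := hn
      have hd : d ∈ Cfsg.pPrimeCore p G := hd
      refine ⟨n, hn, d, ?_, rfl⟩
      rw [Subgroup.mem_centralizer_iff]
      intro x hx
      have h1 : n * d * x * (n * d)⁻¹ ∈ (S : Subgroup G) := hg ⟨x, hx, by simp only [MulEquiv.coe_toMonoidHom, MulAut.conj_apply]⟩
      have h2 : d * x * d⁻¹ ∈ (S : Subgroup G) := by
        have := (Subgroup.mem_normalizer_iff.mp (Subgroup.inv_mem _ hn) _).mp h1
        have e : n⁻¹ * (n * d * x * (n * d)⁻¹) * n⁻¹⁻¹ = d * x * d⁻¹ := by group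
        rw [e] at this; exact this
      have h3 : d * x * d⁻¹ * x⁻¹ ∈ (S : Subgroup G) ⊓ Cfsg.pPrimeCore p G := by
        refine ⟨Subgroup.mul_mem _ h2 (Subgroup.inv_mem _ (hQ hx)), ?_⟩
        have h4 : x * d⁻¹ * x⁻¹ ∈ Cfsg.pPrimeCore p G := hDn.conj_mem _ (Subgroup.inv_mem _ hd) x
        have e : d * x * d⁻¹ * x⁻¹ = d * (x * d⁻¹ * x⁻¹) := by group
        rw [e]; exact Subgroup.mul_mem _ hd h4
      rw [Cfsg.Agent.S1907.inf_D (S : Subgroup G) S.2, Subgroup.mem_bot] at h3
      calc x * d = (d * x * d⁻¹ * x⁻¹)⁻¹ * (d * x) := by group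
        _ = d * x := by rw [h3, inv_one, one_mul]
  · rintro ⟨hpc, hctl⟩
    rw [eq_top_iff]
    intro g _
    obtain ⟨d, hdD, n, hnN, rfl⟩ := Cfsg.Agent.S1907.frattini S g
    have hH : ((S : Subgroup G) ⊓ Cfsg.pPrimePCore p G).map (MulAut.conj n).toMonoidHom ≤ (S : Subgroup G) := by
      rintro _ ⟨h, hh, rfl⟩
      exact ((Subgroup.mem_normalizer_iff.mp hnN h).mp hh).1
    obtain ⟨m, hm, c, hc, rfl⟩ := hctl _ inf_le_left n hH
    have hcL : c ∈ Cfsg.pPrimePCore p G := by
      have := hpc (sylowInfNormal S (Cfsg.pPrimePCore p G))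
      rw [map_sylowInfNormal] at this
      exact this hc
    have hc' := Cfsg.Agent.S1907.K_le S hcL
    have hHN : (S : Subgroup G) ⊓ Cfsg.pPrimePCore p G ≤ Subgroup.normalizer ((S : Subgroup G) : Set G) :=
      inf_le_left.trans Subgroup.le_normalizer
    have hle : ((S : Subgroup G) ⊓ Cfsg.pPrimePCore p G) ⊔ Cfsg.pPrimeCore p G ≤
        Subgroup.normalizer ((S : Subgroup G) : Set G) ⊔ Cfsg.pPrimeCore p G := sup_le_sup hHN le_rfl
    exact Subgroup.mul_mem _ (Subgroup.mem_sup_right hdD)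
      (Subgroup.mul_mem _ (Subgroup.mem_sup_left hm) (hle hc'))

end Cfsg.Agent.S1948
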