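import Cfsg.Statements.S1226
import Cfsg.Agent.S0223
import Cfsg.Agent.S1948
import Cfsg.Agent.S1755

set_option autoImplicit false
open Cfsg

namespace Cfsg.Agent.S1226

open Cfsg.Agent.S0223 Cfsg.Agent.S1755

/-- Let G be a finite group with a Sylow 2-subgroup T that is neither cyclic nor normal, such that the centralizer of every involution is an elementary abelian 2-group. Then N_G(T) is a strongly embedded subgroup of G. -/
theorem result {G : Type*} [Group G] [Finite G] (T : Sylow 2 G) (hnc : ¬ IsCyclic (T : Subgroup G)) (hnn : ¬ (T : Subgroup G).Normal) (hC : ∀ t : G, orderOf t = 2 → IsMulCommutative (Subgroup.centralizer ({t} : Set G)) ∧ ∀ c ∈ Subgroup.centralizer ({t} : Set G), c ^ 2 = 1) : Cfsg.IsStronglyEmbedded (Subgroup.normalizer ((T : Subgroup G) : Set G)) := by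
  classical
  haveI : Fact (Nat.Prime 2) := ⟨Nat.prime_two⟩
  set N := Subgroup.normalizer ((T : Subgroup G) : Set G) with hN
  have hTN : (T : Subgroup G) ≤ N := Subgroup.le_normalizer
  -- T nontrivial
  have hTne : (T : Subgroup G) ≠ ⊥ := by
    intro h
    apply hnc
    have : Subsingleton ↥(T : Subgroup G) := by rw [h]; infer_instance
    infer_instance
  have hTnt : Nontrivial ↥(T : Subgroup G) := (Subgroup.nontrivial_iff_ne_bot _).mpr hTne
  -- centralizers of involutions are 2-groups
  have hC2 : ∀ t : G, orderOf t = 2 → IsPGroup 2 ↥(Subgroup.centralizer ({t} : Set G)) := by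
    intro t ht c
    refine ⟨1, ?_⟩
    apply Subtype.ext
    have := (hC t ht).2 c c.2
    simpa using this
  -- a central involution of T
  have hZnt : Nontrivial ↥(Subgroup.center ↥(T : Subgroup G)) := T.2.center_nontrivial
  obtain ⟨z, hz⟩ := exists_involution (T.2.to_subgroup (Subgroup.center ↥(T : Subgroup G))) hZnt
  have hz' : orderOf ((z : ↥(T : Subgroup G)) : G) = 2 := by
    rw [Subgroup.orderOf_coe, Subgroup.orderOf_coe]; exact hz
  have hTCz : (T : Subgroup G) ≤ Subgroup.centralizer ({((z : ↥(T : Subgroup G)) : G)} : Set G) := by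
    intro c hc
    rw [Subgroup.mem_centralizer_singleton_iff]
    have := Subgroup.mem_center_iff.mp z.2 ⟨c, hc⟩
    exact congrArg Subtype.val this
  have hCzT : Subgroup.centralizer ({((z : ↥(T : Subgroup G)) : G)} : Set G) = T :=
    T.3 (hC2 _ hz') hTCz
  -- T is commutative
  have hTcomm : ∀ a ∈ (T : Subgroup G), ∀ b ∈ (T : Subgroup G), a * b = b * a := by
    intro a ha b hb
    have hcomm := (hC _ hz').1
    rw [← hCzT] at ha hb
    have := mul_comm' (⟨a, ha⟩ : ↥(Subgroup.centralizer ({((z : ↥(T : Subgroup G)) : G)} : Set G))) ⟨b, hb⟩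
    exact congrArg Subtype.val this
  -- centralizer of any involution of T is T
  have hCy : ∀ y ∈ (T : Subgroup G), orderOf y = 2 → Subgroup.centralizer ({y} : Set G) = T := by
    intro y hy hy2
    apply T.3 (hC2 y hy2)
    intro c hc
    rw [Subgroup.mem_centralizer_singleton_iff]
    exact hTcomm c hc y hy
  -- involutions of N lie in T
  have hNT : ∀ x ∈ N, orderOf x = 2 → x ∈ (T : Subgroup G) := by
    intro x hx hx2
    apply Cfsg.Agent.S1948.mem_sylow_of_pelt T x hx
    apply IsPGroup.of_card (n := 1)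
    rw [Nat.card_zpowers, hx2, pow_one]
  refine ⟨?_, ?_, ?_⟩
  · intro h
    apply hnn
    exact Subgroup.normalizer_eq_top_iff.mp h
  · have h1 := orderOf_dvd_natCard (⟨((z : ↥(T : Subgroup G)) : G), hTN (z : ↥(T : Subgroup G)).2⟩ : ↥N)
    rw [Subgroup.orderOf_mk, hz'] at h1
    exact even_iff_two_dvd.mpr h1
  · intro g hg
    by_contra hodd
    obtain ⟨x, hx, hx2⟩ := exists_invol_of_even _ hodd
    have hxN : x ∈ N := hx.1
    have hxT : x ∈ (T : Subgroup G) := hNT x hxN hx2
    have hx'N : g⁻¹ * x * g ∈ N := (mem_map_conj N g x).mp hx.2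
    have hx'2 : orderOf (g⁻¹ * x * g) = 2 := by
      have := orderOf_conj' g⁻¹ x
      rw [inv_inv] at this
      rw [this]; exact hx2
    have hx'T : g⁻¹ * x * g ∈ (T : Subgroup G) := hNT _ hx'N hx'2
    apply hg
    apply Cfsg.Agent.S1960.mem_normalizer_of_conj_le'
    intro c hc
    rw [← hCy x hxT hx2, Subgroup.mem_centralizer_singleton_iff]
    have h1 : c ∈ Subgroup.centralizer ({g⁻¹ * x * g} : Set G) := by
      rw [hCy _ hx'T hx'2]; exact hc
    rw [Subgroup.mem_centralizer_singleton_iff] at h1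
    calc g * c * g⁻¹ * x = g * (c * (g⁻¹ * x * g)) * g⁻¹ := by group
      _ = g * ((g⁻¹ * x * g) * c) * g⁻¹ := by rw [h1]
      _ = x * (g * c * g⁻¹) := by group

end Cfsg.Agent.S1226
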