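import Cfsg.Statements.S1227
import Mathlib
import Cfsg.Agent.Lib.Helper5_CIT

set_option autoImplicit false
open Cfsg

namespace Cfsg.Agent.S1227

open Cfsg.Agent.Lib.Helper5_CIT

/-- Let G be a finite group with a Sylow 2-subgroup T that is neither cyclic nor normal, such that the centralizer of every involution is an elementary abelian 2-group; put H = N_G(T), let u be an involution outside H and D = H ∩ uHu⁻¹. Then u inverts every element of D, |H| = |T|·(|T| − 1), and D is a complement to T in H. -/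
theorem result {G : Type*} [Group G] [Finite G] (T : Sylow 2 G) (hnc : ¬ IsCyclic (T : Subgroup G)) (hnn : ¬ (T : Subgroup G).Normal) (hC : ∀ t : G, orderOf t = 2 → IsMulCommutative (Subgroup.centralizer ({t} : Set G)) ∧ ∀ c ∈ Subgroup.centralizer ({t} : Set G), c ^ 2 = 1) (u : G) (hu : orderOf u = 2) (huH : u ∉ Subgroup.normalizer ((T : Subgroup G) : Set G)) : (∀ d ∈ Subgroup.normalizer ((T : Subgroup G) : Set G) ⊓ (Subgroup.normalizer ((T : Subgroup G) : Set G)).map (MulAut.conj u).toMonoidHom, u * d * u⁻¹ = d⁻¹) ∧ Nat.card (Subgroup.normalizer ((T : Subgroup G) : Set G)) = Nat.card T * (Nat.card T - 1) ∧ Subgroup.IsComplement' ((Subgroup.normalizer ((T : Subgroup G) : Set G) ⊓ (Subgroup.normalizer ((T : Subgroup G) : Set G)).map (MulAut.conj u).toMonoidHom).subgroupOf (Subgroup.normalizer ((T : Subgroup G) : Set G))) ((T : Subgroup G).subgroupOf (Subgroup.normalizer ((T : Subgroup G) : Set G))) := by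
  have h : Hyp T := ⟨hnc, hC⟩
  have hu1 : u ≠ 1 := by
    intro he
    rw [he, orderOf_one] at hu
    omega
  have hu2 : u * u = 1 := by
    rw [← pow_two, ← hu]; exact pow_orderOf_eq_one u
  have hcD := Hyp.card_Dg h hu1 hu2 huH
  have hcH := Hyp.card_H h hu1 hu2 huH
  refine ⟨fun d hd => Hyp.u_inverts h hu1 hu2 huH hd, ?_, ?_⟩
  · rw [hcH, hcD]
  · apply Subgroup.isComplement'_of_card_mul_and_disjoint
    · have e1 : Nat.card ((Hyp.Dg T u).subgroupOf (Subgroup.normalizer ((T : Subgroup G) : Set G))) =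
          Nat.card (Hyp.Dg T u) :=
        Nat.card_congr (Subgroup.subgroupOfEquivOfLe (Hyp.Dg_le T u)).toEquiv
      have e2 : Nat.card ((T : Subgroup G).subgroupOf (Subgroup.normalizer ((T : Subgroup G) : Set G))) =
          Nat.card (T : Subgroup G) :=
        Nat.card_congr (Subgroup.subgroupOfEquivOfLe Subgroup.le_normalizer).toEquiv
      have e1' : Nat.card ((Subgroup.normalizer ((T : Subgroup G) : Set G) ⊓ (Subgroup.normalizer ((T : Subgroup G) : Set G)).map (MulAut.conj u).toMonoidHom).subgroupOf (Subgroup.normalizer ((T : Subgroup G) : Set G))) =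
          Nat.card (Hyp.Dg T u) := e1
      rw [e1', e2, hcH, mul_comm]
    · rw [disjoint_iff, eq_bot_iff]
      intro x hx
      obtain ⟨hx1, hx2⟩ := Subgroup.mem_inf.mp hx
      rw [Subgroup.mem_subgroupOf] at hx1 hx2
      have h3 : (x : G) ∈ Hyp.Dg T u ⊓ (T : Subgroup G) := Subgroup.mem_inf.mpr ⟨hx1, hx2⟩
      rw [Hyp.Dg_inf_T h huH, Subgroup.mem_bot] at h3
      rw [Subgroup.mem_bot]
      exact Subtype.ext h3

end Cfsg.Agent.S1227
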