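import Cfsg.Statements.S1228
import Mathlib
import Cfsg.Agent.Lib.Helper5_CIT

set_option autoImplicit false
open Cfsg

namespace Cfsg.Agent.S1228

open Cfsg.Agent.Lib.Helper5_CIT

/-- Let G be a finite group with a Sylow 2-subgroup T that is neither cyclic nor normal, such that the centralizer of every involution is an elementary abelian 2-group; put H = N_G(T), let u be an involution outside H and D = H ∩ uHu⁻¹. Then N_G(D) = D ⊔ ⟨u⟩, and a coset gH is fixed by every element of D exactly when gH = H or gH = uH. -/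
theorem result {G : Type*} [Group G] [Finite G] (T : Sylow 2 G) (hnc : ¬ IsCyclic (T : Subgroup G)) (hnn : ¬ (T : Subgroup G).Normal) (hC : ∀ t : G, orderOf t = 2 → IsMulCommutative (Subgroup.centralizer ({t} : Set G)) ∧ ∀ c ∈ Subgroup.centralizer ({t} : Set G), c ^ 2 = 1) (u : G) (hu : orderOf u = 2) (huH : u ∉ Subgroup.normalizer ((T : Subgroup G) : Set G)) : Subgroup.normalizer ((Subgroup.normalizer ((T : Subgroup G) : Set G) ⊓ (Subgroup.normalizer ((T : Subgroup G) : Set G)).map (MulAut.conj u).toMonoidHom : Subgroup G) : Set G) = (Subgroup.normalizer ((T : Subgroup G) : Set G) ⊓ (Subgroup.normalizer ((T : Subgroup G) : Set G)).map (MulAut.conj u).toMonoidHom) ⊔ Subgroup.zpowers u ∧ ∀ g : G, ((∀ d ∈ Subgroup.normalizer ((T : Subgroup G) : Set G) ⊓ (Subgroup.normalizer ((T : Subgroup G) : Set G)).map (MulAut.conj u).toMonoidHom, d • (QuotientGroup.mk g : G ⧸ Subgroup.normalizer ((T : Subgroup G) : Set G)) = QuotientGroup.mk g) ↔ (QuotientGroup.mk g : G ⧸ Subgroup.normalizer ((T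 : Subgroup G) : Set G)) = QuotientGroup.mk 1 ∨ (QuotientGroup.mk g : G ⧸ Subgroup.normalizer ((T : Subgroup G) : Set G)) = QuotientGroup.mk u) := by
  have h : Hyp T := ⟨hnc, hC⟩
  have hu1 : u ≠ 1 := by
    intro he
    rw [he, orderOf_one] at hu
    omega
  have hu2 : u * u = 1 := by
    rw [← pow_two, ← hu]; exact pow_orderOf_eq_one u
  refine ⟨Hyp.normalizer_Dg_eq h hu1 hu2 huH, ?_⟩
  intro g
  have hmk : (QuotientGroup.mk u : G ⧸ Subgroup.normalizer ((T : Subgroup G) : Set G)) =
      u • (QuotientGroup.mk 1 : G ⧸ Subgroup.normalizer ((T : Subgroup G) : Set G)) := by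
    show _ = (QuotientGroup.mk (u * 1) : G ⧸ Subgroup.normalizer ((T : Subgroup G) : Set G))
    rw [mul_one]
  constructor
  · intro hfix
    rw [hmk]
    exact Hyp.fix_Dg h hu1 hu2 huH hfix
  · rintro (he | he) d hd
    · rw [he]; exact ((Hyp.mem_Dg_iff T u d).mp hd).1
    · rw [he, hmk]; exact ((Hyp.mem_Dg_iff T u d).mp hd).2

end Cfsg.Agent.S1228
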