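import Cfsg.Statements.S1229
import Mathlib
import Cfsg.Agent.Lib.Helper5_CIT

set_option autoImplicit false
open Cfsg

namespace Cfsg.Agent.S1229

open Cfsg.Agent.Lib.Helper5_CIT

/-- Let G be a finite group with a Sylow 2-subgroup T that is neither cyclic nor normal, such that the centralizer of every involution is an elementary abelian 2-group; put H = N_G(T) and X = G/H. Then G is triply transitive on X, an element fixing three distinct points of X is the identity, and T acts regularly on X minus the point H. -/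
theorem result {G : Type*} [Group G] [Finite G] (T : Sylow 2 G) (hnc : ¬ IsCyclic (T : Subgroup G)) (hnn : ¬ (T : Subgroup G).Normal) (hC : ∀ t : G, orderOf t = 2 → IsMulCommutative (Subgroup.centralizer ({t} : Set G)) ∧ ∀ c ∈ Subgroup.centralizer ({t} : Set G), c ^ 2 = 1) : (∀ x₁ x₂ x₃ y₁ y₂ y₃ : G ⧸ Subgroup.normalizer ((T : Subgroup G) : Set G), x₁ ≠ x₂ → x₁ ≠ x₃ → x₂ ≠ x₃ → y₁ ≠ y₂ → y₁ ≠ y₃ → y₂ ≠ y₃ → ∃ g : G, g • x₁ = y₁ ∧ g • x₂ = y₂ ∧ g • x₃ = y₃) ∧ (∀ g : G, ∀ x₁ x₂ x₃ : G ⧸ Subgroup.normalizer ((T : Subgroup G) : Set G), x₁ ≠ x₂ → x₁ ≠ x₃ → x₂ ≠ x₃ → g • x₁ = x₁ → g • x₂ = x₂ → g • x₃ = x₃ → g = 1) ∧ (∀ x y : G ⧸ Subgroup.normalizer ((T : Subgroup G) : Set G), x ≠ QuotientGroup.mk 1 → y ≠ QuotientGroup.mk 1 → ∃! t : G, t ∈ T ∧ t • x = y) := by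
  have h : Hyp T := ⟨hnc, hC⟩
  obtain ⟨u, hu1, hu2, huH⟩ := Hyp.exists_invol_notin h hnn
  obtain ⟨s₀, hs₀, hs₀1⟩ := Hyp.exists_T_ne_one h
  refine ⟨?_, ?_, ?_⟩
  · intro x₁ x₂ x₃ y₁ y₂ y₃ hx12 hx13 hx23 hy12 hy13 hy23
    obtain ⟨g, hg1, hg2, hg3⟩ := Hyp.std_triple h hu1 hu2 huH hs₀ hs₀1 hx12 hx13 hx23
    obtain ⟨g', hg'1, hg'2, hg'3⟩ := Hyp.std_triple h hu1 hu2 huH hs₀ hs₀1 hy12 hy13 hy23
    refine ⟨g'⁻¹ * g, ?_, ?_, ?_⟩
    · rw [mul_smul, hg1, ← hg'1, inv_smul_smul]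
    · rw [mul_smul, hg2, ← hg'2, inv_smul_smul]
    · rw [mul_smul, hg3, ← hg'3, inv_smul_smul]
  · intro g x₁ x₂ x₃ hx12 hx13 hx23 h1 h2 h3
    obtain ⟨g₀, hg1, hg2, hg3⟩ := Hyp.std_triple h hu1 hu2 huH hs₀ hs₀1 hx12 hx13 hx23
    have key : ∀ x y : G ⧸ Subgroup.normalizer ((T : Subgroup G) : Set G), g • x = x → g₀ • x = y →
        (g₀ * g * g₀⁻¹) • y = y := by
      intro x y hx hy
      rw [← hy, mul_smul, mul_smul, inv_smul_smul, hx]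
    have h4 := Hyp.eq_one_of_fix h hu1 hu2 huH hs₀ hs₀1 (key _ _ h1 hg1) (key _ _ h2 hg2)
      (key _ _ h3 hg3)
    have : g = g₀⁻¹ * (g₀ * g * g₀⁻¹) * g₀ := by group
    rw [this, h4]; group
  · intro x y hx hy
    exact Hyp.regular_T h hu1 hu2 huH hx hy

end Cfsg.Agent.S1229
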