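import Cfsg.Statements.S1231
import Mathlib
import Cfsg.Agent.S0223
import Cfsg.Agent.S1960
import Cfsg.Agent.Lib.Helper3_SylowRel
import Cfsg.Agent.Lib.Lead_Coprime

set_option autoImplicit false
open Cfsg

namespace Cfsg.Agent.S1231

open Cfsg.Agent.S0223 Cfsg.Agent.Lib.Helper3_SylowRel

/-- rank bounds pull back along injective homomorphisms -/
lemma prank_of_injective {p k : ℕ} {X Y : Type*} [Group X] [Group Y] (f : X →* Y)
    (hf : Function.Injective f) (h : Cfsg.PRankLE p k Y) : Cfsg.PRankLE p k X := by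
  intro A hA hAp
  have h1 := h (A.map f) (Subgroup.map_isMulCommutative A f) (by
    rintro _ ⟨a, ha, rfl⟩
    rw [← map_pow, hAp a ha, map_one])
  rwa [Subgroup.card_map_of_injective hf] at h1

lemma prank_mono {G : Type*} [Group G] {p k : ℕ} {X Y : Subgroup G} (hXY : X ≤ Y)
    (h : Cfsg.PRankLE p k ↥Y) : Cfsg.PRankLE p k ↥X :=
  prank_of_injective (Subgroup.inclusion hXY) (Subgroup.inclusion_injective hXY) h

lemma prank_conj {G : Type*} [Group G] {p k : ℕ} (X : Subgroup G) (g : G)
    (h : Cfsg.PRankLE p k ↥(X.map (MulAut.conj g).toMonoidHom)) : Cfsg.PRankLE p k ↥X :=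
  prank_of_injective
    (X.equivMapOfInjective (MulAut.conj g).toMonoidHom (MulAut.conj g).injective).toMonoidHom
    (X.equivMapOfInjective (MulAut.conj g).toMonoidHom (MulAut.conj g).injective).injective h

lemma big_of_le {G : Type*} [Group G] [Finite G] {p k : ℕ} {S A' : Subgroup G} (hA'S : A' ≤ S)
    (hc : IsMulCommutative ↥A') (hp : ∀ a ∈ A', a ^ p = 1) (hcard : p ^ k < Nat.card ↥A') :
    ¬ Cfsg.PRankLE p k ↥S := by
  intro h
  have h1 := h (A'.subgroupOf S) inferInstance (by
    intro a ha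
    apply Subtype.ext
    rw [Subgroup.coe_pow]
    exact hp _ (Subgroup.mem_subgroupOf.1 ha))
  rw [Nat.card_congr (Subgroup.subgroupOfEquivOfLe hA'S).toEquiv] at h1
  omega

/-- Let H be a subgroup of the finite group G, p a prime, k ≥ 1, and P a Sylow p-subgroup of H whose p-rank is at least k. Then N_G(X) ≤ H for every subgroup X of P of p-rank at least k if and only if H ∩ gHg⁻¹ has p-rank less than k for every g ∉ H. -/
theorem result {G : Type*} [Group G] [Finite G] {p : ℕ} [Fact p.Prime] (k : ℕ) (hk : 1 ≤ k) (H : Subgroup G) (P : Sylow p ↥H) (hP : ¬ Cfsg.PRankLE p (k - 1) ↥(P : Subgroup ↥H)) : (∀ X : Subgroup G, X ≤ (P : Subgroup ↥H).map H.subtype → ¬ Cfsg.PRankLE p (k - 1) ↥X → Subgroup.normalizer (X : Set G) ≤ H) ↔ (∀ g : G, g ∉ H → Cfsg.PRankLE p (k - 1) ↥(H ⊓ H.map (MulAut.conj g).toMonoidHom)) := by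
  classical
  set P' : Subgroup G := (P : Subgroup ↥H).map H.subtype with hP'
  have hP'H : P' ≤ H := Subgroup.map_subtype_le _
  have hP'p : IsPGroup p ↥P' := P.2.map _
  constructor
  · intro hN
    have hP'idx : ¬ p ∣ P'.relIndex H := by
      show ¬ p ∣ (P'.subgroupOf H).index
      have : P'.subgroupOf H = (P : Subgroup ↥H) := by
        rw [hP']
        unfold Subgroup.subgroupOf
        rw [Subgroup.comap_map_eq_self_of_injective (Subgroup.subtype_injective _)]
      rw [this]; exact P.not_dvd_index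
    -- (1) normalizers of big p-subgroups of H lie in H
    have h1 : ∀ Y : Subgroup G, Y ≤ H → IsPGroup p ↥Y → ¬ Cfsg.PRankLE p (k - 1) ↥Y →
        Subgroup.normalizer (Y : Set G) ≤ H := by
      intro Y hYH hYp hYbig
      obtain ⟨m, hmH, hm⟩ := exists_conj_le_of_relIndex H P' Y hP'H hP'p hP'idx hYH hYp
      set Y' := Y.map (MulAut.conj m).toMonoidHom with hY'
      have hY'P : Y' ≤ P' := by
        rintro _ ⟨q, hq, rfl⟩
        exact hm q hq
      have hY'big : ¬ Cfsg.PRankLE p (k - 1) ↥Y' := fun h => hYbig (prank_conj Y m h)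
      have h2 := hN Y' hY'P hY'big
      intro n hn
      have h3 : m * n * m⁻¹ ∈ Subgroup.normalizer (Y' : Set G) := by
        apply Cfsg.Agent.S1960.mem_normalizer_of_conj_le'
        rintro _ ⟨q, hq, rfl⟩
        refine ⟨n * q * n⁻¹, (Subgroup.mem_normalizer_iff.mp hn q).mp hq, ?_⟩
        simp only [MulEquiv.coe_toMonoidHom, MulAut.conj_apply]
        group
      have h4 := h2 h3
      have e : n = m⁻¹ * (m * n * m⁻¹) * m := by group
      rw [e]
      exact H.mul_mem (H.mul_mem (H.inv_mem hmH) h4) hmH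
    intro g hg
    by_contra hbig
    set K := H ⊓ H.map (MulAut.conj g).toMonoidHom with hK
    -- a big elementary abelian subgroup of K
    unfold Cfsg.PRankLE at hbig
    push Not at hbig
    obtain ⟨A, hAc, hAp, hAcard⟩ := hbig
    set A' : Subgroup G := A.map K.subtype with hA'
    have hA'K : A' ≤ K := Subgroup.map_subtype_le _
    have hA'p : IsPGroup p ↥A' := by
      apply IsPGroup.map
      intro a
      refine ⟨1, ?_⟩
      rw [pow_one]
      apply Subtype.ext
      have := hAp a.1 a.2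
      rw [Subgroup.coe_pow, this]
      rfl
    have hA'c : IsMulCommutative ↥A' := Subgroup.map_isMulCommutative A K.subtype
    have hA'exp : ∀ a ∈ A', a ^ p = 1 := by
      rintro _ ⟨a, ha, rfl⟩
      rw [← map_pow, hAp a ha, map_one]
    have hA'card : p ^ (k - 1) < Nat.card ↥A' := by
      rw [hA', Subgroup.card_map_of_injective (Subgroup.subtype_injective _)]
      exact hAcard
    let 𝒮 : Set (Subgroup G) := {S | S ≤ K ∧ IsPGroup p ↥S}
    have h0 : A' ∈ 𝒮 := ⟨hA'K, hA'p⟩
    obtain ⟨S, hSA, hSmax⟩ := (Set.toFinite 𝒮).exists_le_maximal h0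
    obtain ⟨hSK, hSp⟩ := hSmax.prop
    have hSbig : ¬ Cfsg.PRankLE p (k - 1) ↥S := big_of_le hSA hA'c hA'exp hA'card
    have hSH : S ≤ H := hSK.trans inf_le_left
    have hNS : Subgroup.normalizer (S : Set G) ≤ H := h1 S hSH hSp hSbig
    set S' := S.map (MulAut.conj g⁻¹).toMonoidHom with hS'
    have hS'H : S' ≤ H := by
      rintro _ ⟨s, hs, rfl⟩
      have := (mem_map_conj H g s).mp (hSK hs).2
      simpa using this
    have hS'p : IsPGroup p ↥S' := hSp.map _
    have hS'big : ¬ Cfsg.PRankLE p (k - 1) ↥S' := fun h => hSbig (prank_conj S g⁻¹ h)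
    have hNS' : Subgroup.normalizer (S' : Set G) ≤ H := h1 S' hS'H hS'p hS'big
    have hNSg : Subgroup.normalizer (S : Set G) ≤ H.map (MulAut.conj g).toMonoidHom := by
      intro n hn
      rw [mem_map_conj]
      apply hNS'
      apply Cfsg.Agent.S1960.mem_normalizer_of_conj_le'
      rintro _ ⟨q, hq, rfl⟩
      refine ⟨n * q * n⁻¹, (Subgroup.mem_normalizer_iff.mp hn q).mp hq, ?_⟩
      simp only [MulEquiv.coe_toMonoidHom, MulAut.conj_apply]
      group
    obtain ⟨PS, hPS⟩ := Cfsg.Agent.Lib.Lead_Coprime.sylow_of_self_normalizing p hSH hSp (by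
      intro W hSW hW hWp
      have hW𝒮 : W ∈ 𝒮 :=
        ⟨le_inf (hW.trans inf_le_right) ((hW.trans inf_le_left).trans hNSg), hWp⟩
      exact le_antisymm (hSmax.2 hW𝒮 hSW) hSW)
    have hSidx : ¬ p ∣ S.relIndex H := by
      show ¬ p ∣ (S.subgroupOf H).index
      have : S.subgroupOf H = (PS : Subgroup ↥H) := by
        rw [← hPS]
        unfold Subgroup.subgroupOf
        rw [Subgroup.comap_map_eq_self_of_injective (Subgroup.subtype_injective _)]
      rw [this]; exact PS.not_dvd_index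
    obtain ⟨h, hhH, hh⟩ := exists_conj_le_of_relIndex H S S' hSH hSp hSidx hS'H hS'p
    have hnorm : h * g⁻¹ ∈ Subgroup.normalizer (S : Set G) := by
      apply Cfsg.Agent.S1960.mem_normalizer_of_conj_le'
      intro s hs
      have h2 := hh (g⁻¹ * s * g⁻¹⁻¹) ⟨s, hs, rfl⟩
      have e : h * g⁻¹ * s * (h * g⁻¹)⁻¹ = h * (g⁻¹ * s * g⁻¹⁻¹) * h⁻¹ := by group
      rw [e]; exact h2
    have h3 := hNS hnorm
    apply hg
    have e : g = (h⁻¹ * (h * g⁻¹))⁻¹ := by group
    rw [e]
    exact H.inv_mem (H.mul_mem (H.inv_mem hhH) h3)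
  · intro hK X hXP hXbig n hn
    by_contra hnH
    have h1 := hK n hnH
    apply hXbig
    refine prank_mono ?_ h1
    intro x hx
    refine Subgroup.mem_inf.2 ⟨hP'H (hXP hx), ?_⟩
    rw [mem_map_conj]
    have h2 := (Subgroup.mem_normalizer_iff.mp (Subgroup.inv_mem _ hn) x).mp hx
    rw [inv_inv] at h2
    exact hP'H (hXP h2)

end Cfsg.Agent.S1231
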