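import Cfsg.Statements.S1236
import Mathlib
import Cfsg.Agent.Lib.Helper5_DihFour
import Cfsg.Agent.Lib.Helper5_QD

set_option autoImplicit false
open Cfsg

namespace Cfsg.Agent.S1236

open Cfsg.Agent.Lib.Helper5_DihFour Cfsg.Agent.Lib.Helper5_QD

/-- Let R be a finite group, t a central involution of R such that R ⧸ ⟨t⟩ is dihedral (of order ≥ 4) or quasi-dihedral, and A ≤ R an elementary abelian subgroup of order 8 containing t. Then C_R(A) = A. -/
theorem result {R : Type*} [Group R] [Finite R] (t : R) (ht : orderOf t = 2) (htz : t ∈ Subgroup.center R) [(Subgroup.zpowers t).Normal] (hq : (∃ m : ℕ, 2 ≤ m ∧ Nonempty (R ⧸ Subgroup.zpowers t ≃* DihedralGroup m)) ∨ Cfsg.IsQuasiDihedral (R ⧸ Subgroup.zpowers t)) (A : Subgroup R) (hA : Cfsg.IsElementaryAbelian 2 A) (hA8 : Nat.card A = 8) (htA : t ∈ A) : Subgroup.centralizer (A : Set R) = A := by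
  classical
  have hAcomm : ∀ a ∈ A, ∀ b ∈ A, a * b = b * a := by
    intro a ha b hb
    have := hA.1.is_comm.comm (⟨a, ha⟩ : A) ⟨b, hb⟩
    exact congrArg Subtype.val this
  rcases hq with ⟨m, hm, ⟨e⟩⟩ | hqd
  · haveI : NeZero m := ⟨by omega⟩
    apply centralizer_eq_of_quotient t ht A hAcomm hA.2 hA8 htA
      (e.toMonoidHom.comp (QuotientGroup.mk' (Subgroup.zpowers t)))
    · ext g
      rw [MonoidHom.mem_ker, MonoidHom.comp_apply]
      constructor
      · intro h
        have h1 : (QuotientGroup.mk' (Subgroup.zpowers t)) g = 1 := by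
          apply e.injective
          rw [map_one]
          exact h
        exact (QuotientGroup.eq_one_iff g).mp h1
      · intro h
        have h1 : (QuotientGroup.mk' (Subgroup.zpowers t)) g = 1 :=
          (QuotientGroup.eq_one_iff g).mpr h
        rw [h1]
        exact map_one _
    · intro T hT4 hsq
      exact centralizer_four_dihedral T hT4 hsq
  · obtain ⟨L, x, y, hQD⟩ := exists_qd hqd
    apply centralizer_eq_of_quotient t ht A hAcomm hA.2 hA8 htA
      (QuotientGroup.mk' (Subgroup.zpowers t))
    · exact QuotientGroup.ker_mk' _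
    · intro T hT4 hsq
      have hK : IsKleinFour T := by
        refine ⟨hT4, ?_⟩
        have hdvd : Monoid.exponent T ∣ 2 := by
          apply Monoid.exponent_dvd_of_forall_pow_eq_one
          intro g
          apply Subtype.ext
          rw [pow_two]
          exact hsq g g.2
        have hne1 : Monoid.exponent T ≠ 1 := by
          intro h1
          rw [Monoid.exp_eq_one_iff] at h1
          have : Nat.card T ≤ 1 := Finite.card_le_one_iff_subsingleton.mpr h1
          omega
        have hle : Monoid.exponent T ≤ 2 := Nat.le_of_dvd (by norm_num) hdvd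
        have hpos : Monoid.exponent T ≠ 0 := fun h0 => by rw [h0] at hdvd; omega
        omega
      obtain ⟨k, hk⟩ := hQD.exists_four T hK
      rw [hk]
      exact (hQD.rebase k).centralizer_four

end Cfsg.Agent.S1236
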