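import Cfsg.Statements.S1241
import Mathlib

set_option autoImplicit false
open Cfsg

namespace Cfsg.Agent.S1241

open scoped IsMulCommutative in
/-- the transfer into `H/K` evaluated at an element whose conjugates stay in its coset -/
theorem transfer_eq_pow' {G : Type*} [Group G] [Finite G] (H K : Subgroup G)
    [hKn : (K.subgroupOf H).Normal] [hcomm : IsMulCommutative (↥H ⧸ K.subgroupOf H)]
    (g : G) (hgH : g ∈ H)
    (hctrl : ∀ (m : ℤ) (a : G), a * g ^ m * a⁻¹ ∈ H → (a * g ^ m * a⁻¹) * (g ^ m)⁻¹ ∈ K) :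
    MonoidHom.transfer (QuotientGroup.mk' (K.subgroupOf H)) g =
      (QuotientGroup.mk' (K.subgroupOf H) ⟨g, hgH⟩) ^ H.index := by
  classical
  have : Fintype (Quotient (MulAction.orbitRel (Subgroup.zpowers g) (G ⧸ H))) :=
    Fintype.ofFinite _
  rw [MonoidHom.transfer_eq_prod_quotient_orbitRel_zpowers_quot,
    Subgroup.index_eq_sum_minimalPeriod H g, ← Finset.prod_pow_eq_pow_sum]
  apply Finset.prod_congr rfl
  intro q _
  rw [← map_pow]
  set a := q.out.out with ha
  set m := Function.minimalPeriod (g • ·) q.out with hm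
  have hmem : a⁻¹ * g ^ m * a ∈ H := QuotientGroup.out_conj_pow_minimalPeriod_mem H g q.out
  have h1 := hctrl (m : ℤ) a⁻¹ (by rw [inv_inv, zpow_natCast]; exact hmem)
  rw [inv_inv, zpow_natCast] at h1
  -- x * y⁻¹ ∈ K gives equality in the quotient
  rw [← mul_inv_eq_one, ← map_inv, ← map_mul, QuotientGroup.mk'_apply, QuotientGroup.eq_one_iff,
    Subgroup.mem_subgroupOf]
  exact h1

open scoped IsMulCommutative in
/-- Let G be a finite group, p a prime, H a subgroup of index prime to p, K a subgroup of H normal in H with H/K commutative, and g ∈ H ∖ K an element of p-power order such that for all integers m and all a ∈ G with a g^m a⁻¹ ∈ H one has a g^m a⁻¹ ∈ g^m K. Then g ∉ G'. -/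
theorem result {G : Type*} [Group G] [Finite G] {p : ℕ} [Fact p.Prime] (H K : Subgroup G) (hHK : K ≤ H) (hKn : (K.subgroupOf H).Normal) (hab : ∀ x ∈ H, ∀ y ∈ H, x * y * x⁻¹ * y⁻¹ ∈ K) (hidx : Nat.Coprime p H.index) (g : G) (hgH : g ∈ H) (hgK : g ∉ K) (hgp : ∃ k : ℕ, orderOf g = p ^ k) (hctrl : ∀ (m : ℤ) (a : G), a * g ^ m * a⁻¹ ∈ H → (a * g ^ m * a⁻¹) * (g ^ m)⁻¹ ∈ K) : g ∉ commutator G := by
  classical
  intro hgc
  have hcomm : IsMulCommutative (↥H ⧸ K.subgroupOf H) := by
    apply Subgroup.Normal.quotient_commutative_iff_commutator_le.mpr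
    rw [commutator_eq_closure, Subgroup.closure_le]
    rintro _ ⟨x, y, rfl⟩
    rw [SetLike.mem_coe, Subgroup.mem_subgroupOf]
    simpa [commutatorElement_def] using hab x x.2 y y.2
  have hV1 : MonoidHom.transfer (QuotientGroup.mk' (K.subgroupOf H)) g = 1 :=
    MonoidHom.mem_ker.1 (Abelianization.commutator_subset_ker _ hgc)
  rw [transfer_eq_pow' H K g hgH hctrl, ← map_pow, QuotientGroup.mk'_apply,
    QuotientGroup.eq_one_iff, Subgroup.mem_subgroupOf] at hV1
  have hpow : g ^ H.index ∈ K := hV1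
  obtain ⟨k, hk⟩ := hgp
  have hcop : Nat.Coprime H.index (orderOf g) := by
    rw [hk]
    exact (Nat.Coprime.pow_left k hidx).symm
  obtain ⟨s, hs⟩ := exists_pow_eq_self_of_coprime hcop
  apply hgK
  rw [← hs]
  exact K.pow_mem hpow s

end Cfsg.Agent.S1241
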