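import Cfsg.Statements.S1242
import Mathlib
import Cfsg.Agent.S1241
import Cfsg.Agent.Lib.Helper3_PResidual

set_option autoImplicit false
open Cfsg

namespace Cfsg.Agent.S1242

open Cfsg.Agent.Lib.Helper3_PResidual

open scoped IsMulCommutative in
/-- Let G be a finite group, p a prime and H a subgroup of index prime to p such that any two elements of H of p-power order that are conjugate in G are conjugate in H. Then (O^p(G)·G') ∩ H = O^p(H)·H', where O^p denotes the subgroup generated by the elements of order prime to p. -/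
theorem result {G : Type*} [Group G] [Finite G] {p : ℕ} [Fact p.Prime] (H : Subgroup G) (hidx : Nat.Coprime p H.index) (hfus : ∀ g ∈ H, (∃ k : ℕ, orderOf g = p ^ k) → ∀ a : G, a * g * a⁻¹ ∈ H → ∃ h ∈ H, h * g * h⁻¹ = a * g * a⁻¹) : (Cfsg.pResidual p G ⊔ commutator G) ⊓ H = (Cfsg.pResidual p ↥H ⊔ commutator ↥H).map H.subtype := by
  classical
  have hpp : p.Prime := Fact.out
  have hresn : (Cfsg.pResidual p ↥H).Normal := pResidual_normal p ↥H
  set KH : Subgroup ↥H := Cfsg.pResidual p ↥H ⊔ commutator ↥H with hKH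
  have hKHn : KH.Normal := inferInstance
  set K : Subgroup G := KH.map H.subtype with hK
  have hKle : K ≤ H := Subgroup.map_subtype_le _
  have hKeq : K.subgroupOf H = KH := by
    rw [hK]
    unfold Subgroup.subgroupOf
    rw [Subgroup.comap_map_eq_self_of_injective (Subgroup.subtype_injective _)]
  have hmemK : ∀ (x : G) (hx : x ∈ H), x ∈ K ↔ (⟨x, hx⟩ : ↥H) ∈ KH := by
    intro x hx
    rw [← hKeq, Subgroup.mem_subgroupOf]
  have hKn : (K.subgroupOf H).Normal := by rw [hKeq]; exact hKHn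
  have hcomm : IsMulCommutative (↥H ⧸ K.subgroupOf H) := by
    apply Subgroup.Normal.quotient_commutative_iff_commutator_le.mpr
    rw [hKeq]
    exact le_sup_right
  have hQp : IsPGroup p (↥H ⧸ K.subgroupOf H) := by
    apply isPGroup_quotient_of_coprime_mem p
    intro g hg
    rw [hKeq]
    exact le_sup_left (a := Cfsg.pResidual p ↥H) (mem_pResidual_of_coprime p g hg)
  set V := MonoidHom.transfer (QuotientGroup.mk' (K.subgroupOf H)) with hV
  -- Claim A
  have claimA : ∀ x ∈ H, (∃ k : ℕ, orderOf x = p ^ k) → V x = 1 → x ∈ K := by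
    intro x hxH hxp hVx
    have hctrl : ∀ (m : ℤ) (a : G), a * x ^ m * a⁻¹ ∈ H →
        (a * x ^ m * a⁻¹) * (x ^ m)⁻¹ ∈ K := by
      intro m a ha
      have hxm : x ^ m ∈ H := H.zpow_mem hxH m
      have hxmp : ∃ k : ℕ, orderOf (x ^ m) = p ^ k := by
        obtain ⟨k, hk⟩ := hxp
        have hd : orderOf (x ^ m) ∣ p ^ k := by
          rw [← hk]
          exact orderOf_dvd_of_pow_eq_one (by
            rw [← zpow_natCast, ← zpow_mul, mul_comm, zpow_mul, zpow_natCast,
              pow_orderOf_eq_one, one_zpow])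
        obtain ⟨j, _, hj⟩ := (Nat.dvd_prime_pow hpp).1 hd
        exact ⟨j, hj⟩
      obtain ⟨h, hhH, hh⟩ := hfus (x ^ m) hxm hxmp a ha
      rw [← hh]
      have h1 : ((⟨h, hhH⟩ : ↥H) * (⟨x ^ m, hxm⟩ : ↥H) * (⟨h, hhH⟩ : ↥H)⁻¹ *
          (⟨x ^ m, hxm⟩ : ↥H)⁻¹ : ↥H) ∈ KH :=
        le_sup_right (a := Cfsg.pResidual p ↥H)
          (by
            rw [commutator_eq_closure]
            exact Subgroup.subset_closure ⟨(⟨h, hhH⟩ : ↥H), (⟨x ^ m, hxm⟩ : ↥H),
              commutatorElement_def _ _⟩)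
      have h2 : h * x ^ m * h⁻¹ * (x ^ m)⁻¹ ∈ H :=
        H.mul_mem (H.mul_mem (H.mul_mem hhH hxm) (H.inv_mem hhH)) (H.inv_mem hxm)
      rw [hmemK _ h2]
      exact h1
    have h1 := Cfsg.Agent.S1241.transfer_eq_pow' H K x hxH hctrl
    rw [← hV, hVx, eq_comm, ← map_pow, QuotientGroup.mk'_apply, QuotientGroup.eq_one_iff,
      Subgroup.mem_subgroupOf] at h1
    have hpow : x ^ H.index ∈ K := h1
    obtain ⟨k, hk⟩ := hxp
    have hcop : Nat.Coprime H.index (orderOf x) := by
      rw [hk]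
      exact (Nat.Coprime.pow_left k hidx).symm
    obtain ⟨s, hs⟩ := exists_pow_eq_self_of_coprime hcop
    rw [← hs]
    exact K.pow_mem hpow s
  -- Claim B
  have claimB : Cfsg.pResidual p G ⊔ commutator G ≤ V.ker := by
    refine sup_le ?_ (Abelianization.commutator_subset_ker V)
    unfold Cfsg.pResidual
    rw [Subgroup.closure_le]
    intro y hy
    have hy' : Nat.Coprime (orderOf y) p := hy
    rw [SetLike.mem_coe, MonoidHom.mem_ker]
    obtain ⟨j, hj⟩ := (IsPGroup.iff_orderOf.1 hQp) (V y)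
    have hd : orderOf (V y) ∣ orderOf y := orderOf_map_dvd V y
    rw [← orderOf_eq_one_iff]
    have h1 : Nat.Coprime (orderOf (V y)) p := Nat.Coprime.coprime_dvd_left hd hy'
    rw [hj] at h1 ⊢
    rcases Nat.eq_zero_or_pos j with h0 | hpos
    · rw [h0, pow_zero]
    · exfalso
      have : p ∣ Nat.gcd (p ^ j) p := Nat.dvd_gcd (dvd_pow_self p hpos.ne') dvd_rfl
      rw [h1] at this
      exact hpp.one_lt.ne' (Nat.dvd_one.1 this)
  apply le_antisymm
  · rintro x ⟨hx1, hxH⟩
    have hxH' : x ∈ H := hxH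
    have hVx : V x = 1 := MonoidHom.mem_ker.1 (claimB hx1)
    obtain ⟨k, m, hm, hkm⟩ := Nat.exists_eq_pow_mul_and_not_dvd (orderOf_pos x).ne' p hpp.ne_one
    have hmpos : 0 < m := by
      rcases Nat.eq_zero_or_pos m with h0 | h0
      · exfalso; apply hm; rw [h0]; exact dvd_zero p
      · exact h0
    -- p'-part
    have hord1 : orderOf (x ^ p ^ k) = m := by
      rw [orderOf_pow' x (pow_pos hpp.pos k).ne', hkm, Nat.gcd_eq_right (Dvd.intro _ rfl)]
      exact Nat.mul_div_cancel_left m (pow_pos hpp.pos k)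
    have hord2 : orderOf (x ^ m) = p ^ k := by
      rw [orderOf_pow' x hmpos.ne', hkm, Nat.gcd_eq_right (Dvd.intro_left _ rfl)]
      exact Nat.mul_div_cancel _ hmpos
    have h1 : x ^ p ^ k ∈ K := by
      have hmem : x ^ p ^ k ∈ H := H.pow_mem hxH' _
      rw [hmemK _ hmem]
      apply le_sup_left (a := Cfsg.pResidual p ↥H)
      apply mem_pResidual_of_coprime
      rw [Subgroup.orderOf_mk, hord1]
      exact ((Nat.Prime.coprime_iff_not_dvd hpp).mpr hm).symm
    have h2 : x ^ m ∈ K := by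
      apply claimA _ (H.pow_mem hxH' _) ⟨k, hord2⟩
      rw [map_pow, hVx, one_pow]
    -- combine in the quotient
    set xb : ↥H ⧸ K.subgroupOf H := QuotientGroup.mk' (K.subgroupOf H) ⟨x, hxH'⟩ with hxb
    have e1 : xb ^ p ^ k = 1 := by
      rw [hxb, ← map_pow, QuotientGroup.mk'_apply, QuotientGroup.eq_one_iff,
        Subgroup.mem_subgroupOf]
      exact h1
    have e2 : xb ^ m = 1 := by
      rw [hxb, ← map_pow, QuotientGroup.mk'_apply, QuotientGroup.eq_one_iff,
        Subgroup.mem_subgroupOf]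
      exact h2
    have e3 := pow_gcd_eq_one.2 ⟨e1, e2⟩
    have hg : Nat.gcd (p ^ k) m = 1 :=
      Nat.Coprime.pow_left k ((Nat.Prime.coprime_iff_not_dvd hpp).mpr hm)
    rw [hg, pow_one, hxb, QuotientGroup.mk'_apply, QuotientGroup.eq_one_iff,
      Subgroup.mem_subgroupOf] at e3
    exact e3
  · refine le_inf ?_ hKle
    rw [hK, hKH, Subgroup.map_sup]
    refine sup_le_sup ?_ ?_
    · unfold Cfsg.pResidual
      rw [MonoidHom.map_closure]
      apply Subgroup.closure_mono
      rintro _ ⟨y, hy, rfl⟩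
      show Nat.Coprime (orderOf (y : G)) p
      rw [Subgroup.orderOf_coe]
      exact hy
    · rw [Subgroup.map_subtype_commutator, commutator_def]
      exact Subgroup.commutator_mono le_top le_top

end Cfsg.Agent.S1242
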