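import Mathlib
import Cfsg.Statements.S1243

set_option autoImplicit false
open Cfsg
open scoped Pointwise

namespace Cfsg.Agent.S1243

lemma mem_conj {G : Type*} [Group G] (A : Subgroup G) (g x : G) :
    x ∈ A.map (MulAut.conj g).toMonoidHom ↔ g⁻¹ * x * g ∈ A := by
  constructor
  · rintro ⟨a, ha, rfl⟩
    simpa [MulAut.conj_apply, mul_assoc] using ha
  · intro h
    refine ⟨g⁻¹ * x * g, h, ?_⟩
    simp [MulAut.conj_apply, mul_assoc]

lemma conj_conj {G : Type*} [Group G] (A : Subgroup G) (g h : G) :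
    (A.map (MulAut.conj g).toMonoidHom).map (MulAut.conj h).toMonoidHom
      = A.map (MulAut.conj (h * g)).toMonoidHom := by
  ext x
  simp only [mem_conj]
  have : g⁻¹ * (h⁻¹ * x * h) * g = (h * g)⁻¹ * x * (h * g) := by group
  rw [this]

lemma conj_one {G : Type*} [Group G] (A : Subgroup G) :
    A.map (MulAut.conj (1 : G)).toMonoidHom = A := by
  ext x; simp

lemma mem_smul_sylow {G : Type*} [Group G] {p : ℕ} (S : Sylow p G) (h x : G) :
    x ∈ ((h • S : Sylow p G) : Subgroup G) ↔ h⁻¹ * x * h ∈ (S : Subgroup G) := by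
  rw [Sylow.coe_subgroup_smul, Subgroup.mem_pointwise_smul_iff_inv_smul_mem]
  simp [MulAut.smul_def, mul_assoc]

/-- Let T be a Sylow p-subgroup of the finite group G and W ≤ T a subgroup weakly closed in T. If d and g d g⁻¹ both centralize W, then g d g⁻¹ = h d h⁻¹ for some h ∈ N_G(W). -/
theorem result {G : Type*} [Group G] [Finite G] {p : ℕ} [Fact p.Prime] (T : Sylow p G) (W : Subgroup G) (hW : Cfsg.IsWeaklyClosed W (T : Subgroup G)) (d g : G) (hd : d ∈ Subgroup.centralizer (W : Set G)) (hgd : g * d * g⁻¹ ∈ Subgroup.centralizer (W : Set G)) : ∃ h ∈ Subgroup.normalizer (W : Set G), h * d * h⁻¹ = g * d * g⁻¹ := by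
  obtain ⟨hWT, hwc⟩ := hW
  set d' := g * d * g⁻¹ with hd'
  set C := Subgroup.centralizer ({d'} : Set G) with hC
  set Wg := W.map (MulAut.conj g).toMonoidHom with hWg
  rw [Subgroup.mem_centralizer_iff] at hd hgd
  have hWC : W ≤ C := by
    intro w hw
    rw [hC, Subgroup.mem_centralizer_iff]
    intro y hy
    rw [Set.mem_singleton_iff] at hy
    rw [hy]
    exact (hgd w hw).symm
  have hWgC : Wg ≤ C := by
    intro x hx
    rw [hWg, mem_conj] at hx
    rw [hC, Subgroup.mem_centralizer_iff]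
    intro y hy
    rw [Set.mem_singleton_iff] at hy
    rw [hy]
    have h1 := hd _ hx
    -- (g⁻¹ x g) d = d (g⁻¹ x g)
    calc d' * x = g * (d * (g⁻¹ * x * g)) * g⁻¹ := by rw [hd']; group
      _ = g * ((g⁻¹ * x * g) * d) * g⁻¹ := by rw [h1]
      _ = x * d' := by rw [hd']; group
  have hWp : IsPGroup p W := T.isPGroup'.to_le hWT
  have hWgp : IsPGroup p Wg := hWp.map _
  have hWp' : IsPGroup p (W.subgroupOf C) := hWp.comap_subtype
  have hWgp' : IsPGroup p (Wg.subgroupOf C) := hWgp.comap_subtype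
  obtain ⟨R, hR⟩ := hWp'.exists_le_sylow
  obtain ⟨R', hR'⟩ := hWgp'.exists_le_sylow
  obtain ⟨c, hc⟩ := MulAction.exists_smul_eq C R R'
  have hRp : IsPGroup p ((R : Subgroup C).map C.subtype) := R.isPGroup'.map _
  obtain ⟨Q, hQ⟩ := hRp.exists_le_sylow
  obtain ⟨k, hk⟩ := MulAction.exists_smul_eq G T Q
  -- W ≤ Q
  have h1 : W.map (MulAut.conj k⁻¹).toMonoidHom ≤ T := by
    intro x hx
    rw [mem_conj] at hx
    have hxC : k⁻¹⁻¹ * x * k⁻¹ ∈ C := hWC hx
    have : (⟨_, hxC⟩ : C) ∈ (R : Subgroup C) := hR (by rw [Subgroup.mem_subgroupOf]; exact hx)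
    have : k⁻¹⁻¹ * x * k⁻¹ ∈ (Q : Subgroup G) := hQ ⟨_, this, rfl⟩
    rw [← hk, mem_smul_sylow] at this
    simpa [mul_assoc] using this
  have h2 : W.map (MulAut.conj (k⁻¹ * ((c : G)⁻¹ * g))).toMonoidHom ≤ T := by
    rw [← conj_conj, ← conj_conj]
    intro x hx
    rw [mem_conj, mem_conj] at hx
    -- y := c (k x k⁻¹) c⁻¹ ∈ Wg
    set y := (c : G)⁻¹⁻¹ * (k⁻¹⁻¹ * x * k⁻¹) * (c : G)⁻¹ with hy
    have hyC : y ∈ C := hWgC hx
    have hyR' : (⟨y, hyC⟩ : C) ∈ (R' : Subgroup C) :=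
      hR' (by rw [Subgroup.mem_subgroupOf]; exact hx)
    rw [← hc, mem_smul_sylow] at hyR'
    have : (c : G)⁻¹ * y * (c : G) ∈ (Q : Subgroup G) := hQ ⟨_, hyR', by simp⟩
    rw [← hk, mem_smul_sylow] at this
    have e : k⁻¹ * ((c : G)⁻¹ * y * (c : G)) * k = x := by rw [hy]; group
    rwa [e] at this
  have e1 := hwc _ h1
  have e2 := hwc _ h2
  have e3 : W.map (MulAut.conj k).toMonoidHom = W := by
    have := congrArg (fun X => X.map (MulAut.conj k).toMonoidHom) e1
    simp only [conj_conj, mul_inv_cancel, conj_one] at this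
    exact this.symm
  have e4 : W.map (MulAut.conj ((c : G)⁻¹ * g)).toMonoidHom = W := by
    have := congrArg (fun X => X.map (MulAut.conj k).toMonoidHom) e2
    simp only [conj_conj, mul_inv_cancel_left] at this
    rw [this, e3]
  refine ⟨(c : G)⁻¹ * g, ?_, ?_⟩
  · rw [Subgroup.mem_normalizer_iff]
    intro x
    constructor
    · intro hx
      rw [← e4]
      exact ⟨x, hx, by simp [MulAut.conj_apply, mul_assoc]⟩
    · intro hx
      rw [← e4, mem_conj] at hx
      have e : ((c : G)⁻¹ * g)⁻¹ * ((c : G)⁻¹ * g * x * ((c : G)⁻¹ * g)⁻¹) * ((c : G)⁻¹ * g) = x := by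
        group
      rwa [e] at hx
  · have hcC : (c : G) ∈ Subgroup.centralizer ({d'} : Set G) := c.2
    rw [Subgroup.mem_centralizer_iff] at hcC
    have := hcC d' rfl
    calc (c : G)⁻¹ * g * d * ((c : G)⁻¹ * g)⁻¹ = (c : G)⁻¹ * (d' * (c : G)) := by
          rw [hd']; group
      _ = (c : G)⁻¹ * ((c : G) * d') := by rw [this]
      _ = d' := by group

end Cfsg.Agent.S1243
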