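import Cfsg.Statements.S1244
import Mathlib
import Cfsg.Agent.S0105

set_option autoImplicit false
open Cfsg

namespace Cfsg.Agent.S1244

open scoped IsMulCommutative

/-- without subgroups of index two, an abelian Sylow `2`-subgroup has no non-identity element
central in its normaliser. -/
theorem inf_centralizer_eq_bot {G : Type*} [Group G] [Finite G] (hG : ∀ H : Subgroup G, H.index ≠ 2)
    (S : Sylow 2 G) (hS : IsMulCommutative (S : Subgroup G)) :
    (S : Subgroup G) ⊓ Subgroup.centralizer (Subgroup.normalizer ((S : Subgroup G) : Set G) : Set G) = ⊥ := by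
  classical
  obtain ⟨N, hN, ⟨e⟩⟩ := Cfsg.Agent.S0105.result S hS
  set Z : Subgroup G := (S : Subgroup G) ⊓
    Subgroup.centralizer (Subgroup.normalizer ((S : Subgroup G) : Set G) : Set G) with hZ
  by_contra hne
  have hZp : IsPGroup 2 Z := S.isPGroup'.to_le inf_le_left
  obtain ⟨k, hk⟩ := IsPGroup.iff_card.1 hZp
  have hk0 : k ≠ 0 := by
    rintro rfl
    apply hne
    rw [pow_zero] at hk
    exact Subgroup.card_eq_one.1 hk
  obtain ⟨k', rfl⟩ : ∃ k', k = k' + 1 := ⟨k - 1, by omega⟩
  have hdvd : 2 ^ k' ∣ Nat.card Z := by rw [hk]; exact pow_dvd_pow 2 (Nat.le_succ k')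
  obtain ⟨K, hK⟩ := Sylow.exists_subgroup_card_pow_prime 2 hdvd
  have hKidx : K.index = 2 := by
    have := Subgroup.card_mul_index K
    rw [hK, hk, pow_succ] at this
    exact Nat.eq_of_mul_eq_mul_left (by positivity) this
  let φ : G →* Z := e.toMonoidHom.comp (QuotientGroup.mk' N)
  have hφ : Function.Surjective φ := e.surjective.comp (QuotientGroup.mk'_surjective N)
  apply hG (K.comap φ)
  rw [Subgroup.index_comap_of_surjective K hφ, hKidx]

/-- a product of elements outside a subgroup of index two. -/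
theorem prod_mem_iff {A : Type*} [CommGroup A] (D : Subgroup A) (hD : D.index = 2) {ι : Type*}
    [DecidableEq ι] (s : Finset ι) (f : ι → A) (hf : ∀ i ∈ s, f i ∉ D) :
    (∏ i ∈ s, f i) ∈ D ↔ Even s.card := by
  induction s using Finset.induction_on with
  | empty => simp
  | insert a s ha ih =>
    rw [Finset.prod_insert ha, Finset.card_insert_of_notMem ha, Subgroup.mul_mem_iff_of_index_two hD,
      ih (fun i hi => hf i (Finset.mem_insert_of_mem hi)), Nat.even_add_one]
    have := hf a (Finset.mem_insert_self a s)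
    simp [this]

/-- the number of elements of order dividing two in a commutative `2`-group of given rank. -/
theorem card_omega {X : Type*} [Group X] [Finite X] (hX : IsPGroup 2 X) (hc : IsMulCommutative X)
    (Ω : Subgroup X) (hΩ : ∀ x : X, x ∈ Ω ↔ x ^ 2 = 1) (k : ℕ) (h1 : Cfsg.PRankLE 2 (k + 1) X)
    (h2 : ¬ Cfsg.PRankLE 2 k X) : Nat.card Ω = 2 ^ (k + 1) := by
  have hΩc : IsMulCommutative Ω := inferInstance
  have hle : Nat.card Ω ≤ 2 ^ (k + 1) := h1 Ω hΩc (fun a ha => (hΩ a).1 ha)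
  unfold Cfsg.PRankLE at h2
  push Not at h2
  obtain ⟨A, _, hA2, hAcard⟩ := h2
  have hAΩ : A ≤ Ω := fun a ha => (hΩ a).2 (hA2 a ha)
  have hlt : 2 ^ k < Nat.card Ω := lt_of_lt_of_le hAcard (Subgroup.card_le_of_le hAΩ)
  obtain ⟨j, hj⟩ := IsPGroup.iff_card.1 (hX.to_subgroup Ω)
  rw [hj] at hlt hle ⊢
  have h3 : k < j := (Nat.pow_lt_pow_iff_right (by norm_num)).1 hlt
  have h4 : j ≤ k + 1 := (Nat.pow_le_pow_iff_right (by norm_num)).1 hle
  have : j = k + 1 := by omega
  rw [this]

/-- Let G be a finite group with no subgroup of index 2 whose Sylow 2-subgroup S is commutative, and let R ≤ S be a subgroup whose 2-rank is exactly one less than the 2-rank r of S. Then every involution of S is conjugate, by an element of N_G(S), to an element of R. -/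
theorem result {G : Type*} [Group G] [Finite G] (hG : ∀ H : Subgroup G, H.index ≠ 2) (S : Sylow 2 G) (hS : IsMulCommutative (S : Subgroup G)) (r : ℕ) (hr1 : 1 ≤ r) (hSr : Cfsg.PRankLE 2 r (S : Subgroup G) ∧ ¬ Cfsg.PRankLE 2 (r - 1) (S : Subgroup G)) (R : Subgroup G) (hRS : R ≤ S) (hRr : Cfsg.PRankLE 2 (r - 1) R ∧ (r = 1 ∨ ¬ Cfsg.PRankLE 2 (r - 2) R)) (t : G) (ht : orderOf t = 2) (htS : t ∈ S) : ∃ n ∈ Subgroup.normalizer ((S : Subgroup G) : Set G), n * t * n⁻¹ ∈ R := by
  classical
  by_contra hcon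
  push Not at hcon
  have h2 : Fact (Nat.Prime 2) := ⟨Nat.prime_two⟩
  set S' : Subgroup G := (S : Subgroup G) with hS'
  set N₀ : Subgroup G := Subgroup.normalizer (S' : Set G) with hN₀
  have hSN : S' ≤ N₀ := Subgroup.le_normalizer
  have hScomm : ∀ x ∈ S', ∀ y ∈ S', x * y = y * x := by
    intro x hx y hy
    have := mul_comm' (⟨x, hx⟩ : S') ⟨y, hy⟩
    exact congrArg Subtype.val this
  have htt : t * t = 1 := by
    rw [← pow_two, ← ht]; exact pow_orderOf_eq_one t
  have ht1 : t ≠ 1 := by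
    intro h; rw [h, orderOf_one] at ht; omega
  -- `Ω₁(S)`
  let Ω : Subgroup G :=
    { carrier := {x | x ∈ S' ∧ x * x = 1}
      mul_mem' := by
        rintro a b ⟨ha, ha2⟩ ⟨hb, hb2⟩
        refine ⟨S'.mul_mem ha hb, ?_⟩
        calc a * b * (a * b) = a * (b * a) * b := by group
          _ = a * (a * b) * b := by rw [hScomm b hb a ha]
          _ = (a * a) * (b * b) := by group
          _ = 1 := by rw [ha2, hb2, one_mul]
      one_mem' := ⟨S'.one_mem, by simp⟩
      inv_mem' := by
        rintro a ⟨ha, ha2⟩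
        refine ⟨S'.inv_mem ha, ?_⟩
        rw [← mul_inv_rev, ha2, inv_one] }
  have hΩmem : ∀ x, x ∈ Ω ↔ x ∈ S' ∧ x * x = 1 := fun x => Iff.rfl
  have hΩS : Ω ≤ S' := fun x hx => hx.1
  have hΩc : IsMulCommutative Ω := ⟨⟨fun a b => Subtype.ext (hScomm a.1 a.2.1 b.1 b.2.1)⟩⟩
  -- cardinalities
  obtain ⟨r', rfl⟩ : ∃ r', r = r' + 1 := ⟨r - 1, by omega⟩
  simp only [Nat.add_sub_cancel] at hSr hRr
  have hΩcard : Nat.card Ω = 2 ^ (r' + 1) := by
    have := card_omega (X := S') S.isPGroup' hS (Ω.subgroupOf S') (by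
      intro x
      rw [Subgroup.mem_subgroupOf, hΩmem, pow_two]
      constructor
      · intro h
        exact Subtype.ext h.2
      · intro h
        exact ⟨x.2, congrArg Subtype.val h⟩) r' hSr.1 hSr.2
    rw [← this]
    exact Nat.card_congr (Subgroup.subgroupOfEquivOfLe hΩS).symm.toEquiv
  set ΩR : Subgroup G := Ω ⊓ R with hΩR
  have hΩRcard : Nat.card ΩR = 2 ^ r' := by
    have hRp : IsPGroup 2 R := S.isPGroup'.to_le hRS
    have hRc : IsMulCommutative R :=
      ⟨⟨fun a b => Subtype.ext (hScomm a.1 (hRS a.2) b.1 (hRS b.2))⟩⟩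
    have hΩRR : ΩR ≤ R := inf_le_right
    have hmem : ∀ x : R, x ∈ ΩR.subgroupOf R ↔ x ^ 2 = 1 := by
      intro x
      rw [Subgroup.mem_subgroupOf, hΩR, Subgroup.mem_inf, hΩmem, pow_two]
      constructor
      · intro h
        exact Subtype.ext h.1.2
      · intro h
        exact ⟨⟨hRS x.2, congrArg Subtype.val h⟩, x.2⟩
    have hcongr : Nat.card (ΩR.subgroupOf R) = Nat.card ΩR :=
      Nat.card_congr (Subgroup.subgroupOfEquivOfLe hΩRR).toEquiv
    rw [← hcongr]
    rcases Nat.eq_zero_or_pos r' with h0 | hpos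
    · subst h0
      have hle : Nat.card (ΩR.subgroupOf R) ≤ 2 ^ 0 :=
        hRr.1 _ inferInstance (fun a ha => (hmem a).1 ha)
      have hpos : 0 < Nat.card (ΩR.subgroupOf R) := Nat.card_pos
      have h1' : Nat.card (ΩR.subgroupOf R) = 1 := by
        have : (2:ℕ) ^ 0 = 1 := pow_zero 2
        omega
      rw [h1', pow_zero]
    · obtain ⟨r'', rfl⟩ : ∃ r'', r' = r'' + 1 := ⟨r' - 1, by omega⟩
      rcases hRr.2 with h | h
      · exact absurd h (by omega)
      · have h' : ¬ Cfsg.PRankLE 2 r'' R := by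
          have e : r'' + 1 + 1 - 2 = r'' := by omega
          rw [e] at h
          exact h
        exact card_omega hRp hRc _ hmem r'' hRr.1 h'
  -- index two
  set D : Subgroup Ω := ΩR.subgroupOf Ω with hD
  have hDidx : D.index = 2 := by
    have h1 : Nat.card D = 2 ^ r' := by
      rw [← hΩRcard]
      exact Nat.card_congr (Subgroup.subgroupOfEquivOfLe (inf_le_left : ΩR ≤ Ω)).toEquiv
    have := Subgroup.card_mul_index D
    rw [h1, hΩcard, pow_succ] at this
    exact Nat.eq_of_mul_eq_mul_left (by positivity) this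
  -- conjugates of `t`
  have hconjΩ : ∀ n ∈ N₀, ∀ x ∈ Ω, n * x * n⁻¹ ∈ Ω := by
    intro n hn x hx
    refine ⟨(Subgroup.mem_normalizer_iff.1 hn x).1 hx.1, ?_⟩
    calc n * x * n⁻¹ * (n * x * n⁻¹) = n * (x * x) * n⁻¹ := by group
      _ = 1 := by rw [hx.2]; group
  have htΩ : t ∈ Ω := ⟨htS, htt⟩
  set C : Subgroup N₀ := (Subgroup.centralizer ({t} : Set G)).subgroupOf N₀ with hC
  have hCmem : ∀ c : N₀, c ∈ C ↔ (c : G) * t = t * c := by
    intro c
    rw [hC, Subgroup.mem_subgroupOf, Subgroup.mem_centralizer_iff]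
    simp only [Set.mem_singleton_iff, forall_eq]
    exact eq_comm
  let g : N₀ → Ω := fun n => ⟨n * t * n⁻¹, hconjΩ n n.2 t htΩ⟩
  have hg : ∀ a b : N₀, (QuotientGroup.leftRel C) a b → g a = g b := by
    intro a b hab
    rw [QuotientGroup.leftRel_apply, hCmem] at hab
    apply Subtype.ext
    show (a : G) * t * (a : G)⁻¹ = b * t * (b : G)⁻¹
    simp only [Subgroup.coe_mul, Subgroup.coe_inv] at hab
    calc (a : G) * t * (a : G)⁻¹ = a * ((a : G)⁻¹ * b * t * ((a : G)⁻¹ * b)⁻¹) * (a : G)⁻¹ := by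
          rw [hab]; group
      _ = b * t * (b : G)⁻¹ := by group
  let f : N₀ ⧸ C → Ω := fun q => Quotient.liftOn' q g hg
  have hfmk : ∀ n : N₀, f (n : N₀ ⧸ C) = g n := fun n => rfl
  have hfD : ∀ q : N₀ ⧸ C, f q ∉ D := by
    intro q
    induction q using QuotientGroup.induction_on with
    | H n =>
      rw [hfmk, hD, Subgroup.mem_subgroupOf]
      intro h
      exact hcon n n.2 h.2
  -- the index of `C` is odd
  have hodd : ¬ Even (Nat.card (N₀ ⧸ C)) := by
    have h1 : S'.subgroupOf N₀ ≤ C := by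
      intro c hc
      rw [hCmem]
      exact hScomm _ (Subgroup.mem_subgroupOf.1 hc) t htS
    have h3 : C.index ∣ (S'.subgroupOf N₀).index := Subgroup.index_dvd_of_le h1
    have h4 : (S'.subgroupOf N₀).index ∣ S'.index := Subgroup.relIndex_dvd_index_of_le hSN
    have h5 : ¬ 2 ∣ S'.index := S.not_dvd_index
    intro hev
    apply h5
    exact dvd_trans (even_iff_two_dvd.1 hev) (dvd_trans h3 h4)
  haveI : Fintype (N₀ ⧸ C) := Fintype.ofFinite _
  set z : Ω := ∏ q : N₀ ⧸ C, f q with hz
  have hzD : z ∉ D := by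
    rw [hz, prod_mem_iff D hDidx Finset.univ f (fun q _ => hfD q), Finset.card_univ,
      ← Nat.card_eq_fintype_card]
    exact hodd
  -- invariance
  have hzinv : ∀ m : N₀, (m : G) * z * (m : G)⁻¹ = z := by
    intro m
    let cm : Ω →* Ω :=
      { toFun := fun x => ⟨m * x * (m : G)⁻¹, hconjΩ m m.2 x x.2⟩
        map_one' := by
          apply Subtype.ext
          simp
        map_mul' := by
          intro a b
          apply Subtype.ext
          simp only [Subgroup.coe_mul]
          group }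
    have h1 : cm z = ∏ q : N₀ ⧸ C, cm (f q) := by
      rw [hz, map_prod]
    have h2 : ∀ q : N₀ ⧸ C, cm (f q) = f (m • q) := by
      intro q
      induction q using QuotientGroup.induction_on with
      | H n =>
        have : (m • (n : N₀ ⧸ C)) = ((m * n : N₀) : N₀ ⧸ C) := rfl
        rw [this, hfmk, hfmk]
        apply Subtype.ext
        show (m : G) * (n * t * (n : G)⁻¹) * (m : G)⁻¹ = ((m * n : N₀) : G) * t * ((m * n : N₀) : G)⁻¹
        simp only [Subgroup.coe_mul]
        group
    have h3 : ∏ q : N₀ ⧸ C, cm (f q) = ∏ q : N₀ ⧸ C, f q := by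
      simp only [h2]
      exact Equiv.prod_comp (MulAction.toPerm m) f
    have h4 : cm z = z := by rw [h1, h3]
    exact congrArg Subtype.val h4
  have hzbot : (z : G) ∈ S' ⊓ Subgroup.centralizer (N₀ : Set G) := by
    refine Subgroup.mem_inf.2 ⟨hΩS z.2, ?_⟩
    rw [Subgroup.mem_centralizer_iff]
    intro m hm
    have := hzinv ⟨m, hm⟩
    simp only at this
    calc m * (z : G) = m * z * m⁻¹ * m := by group
      _ = z * m := by rw [this]
  rw [inf_centralizer_eq_bot hG S hS, Subgroup.mem_bot] at hzbot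
  apply hzD
  have : z = 1 := Subtype.ext hzbot
  rw [this]
  exact D.one_mem

end Cfsg.Agent.S1244
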