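import Cfsg.Statements.S1247
import Mathlib
import Cfsg.Agent.Lib.Helper3_Bender

set_option autoImplicit false
open Cfsg

namespace Cfsg.Agent.S1247

/-- Let G be a non-abelian finite simple group, A a maximal subgroup, F = F*(A) its generalized Fitting subgroup (viewed in G), and S ≤ F a subgroup subnormal in F with C_F(S) ≤ S. Let B be any subgroup of G containing S. Then (a) for every prime q not dividing |F(A)|, O_q(B) ∩ A = 1; and (b) for every prime p dividing |F(A)|, O_p(B) commutes elementwise with the subgroup of F generated by its elements of order prime to p. -/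
theorem result {G : Type*} [Group G] [Finite G] [IsSimpleGroup G] (hna : ¬ IsMulCommutative G) (A : Subgroup G) (hA : IsCoatom A) (S : Subgroup G) (hSF : S ≤ (Cfsg.generalizedFittingSubgroup ↥A).map A.subtype) (hSsn : (S.subgroupOf ((Cfsg.generalizedFittingSubgroup ↥A).map A.subtype)).IsSubnormal) (hSC : (Cfsg.generalizedFittingSubgroup ↥A).map A.subtype ⊓ Subgroup.centralizer (S : Set G) ≤ S) (B : Subgroup G) (hSB : S ≤ B) : (∀ q : ℕ, q.Prime → ¬ q ∣ Nat.card (Cfsg.fittingSubgroup ↥A) → (Cfsg.pCore q ↥B).map B.subtype ⊓ A = ⊥) ∧ (∀ p : ℕ, p.Prime → p ∣ Nat.card (Cfsg.fittingSubgroup ↥A) → ∀ x ∈ (Cfsg.pCore p ↥B).map B.subtype, ∀ y ∈ (Cfsg.pResidual p ↥(Cfsg.generalizedFittingSubgroup ↥A)).map ((Cfsg.generalizedFittingSubgroup ↥A).subtype) , x * (A.subtype y) = (A.subtype y) * x) := by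
  have hSA : S ≤ A := le_trans hSF (Subgroup.map_subtype_le _)
  have hS' : S.subgroupOf A ≤ Cfsg.generalizedFittingSubgroup ↥A := by
    intro x hx
    obtain ⟨y, hy, hyx⟩ := hSF hx
    have : y = x := Subtype.ext hyx
    rw [← this]; exact hy
  have hsn' : (S.subgroupOf A).IsSubnormal := by
    haveI := Cfsg.Agent.S1265.gf_normal ↥A
    refine Subgroup.IsSubnormal.trans hS' ?_ (Subgroup.Normal.isSubnormal inferInstance)
    have h := hSsn.comap ((A.subtype).subgroupMap (Cfsg.generalizedFittingSubgroup ↥A))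
    convert h using 1
    ext x
    rfl
  have hC' : Cfsg.generalizedFittingSubgroup ↥A ⊓
      Subgroup.centralizer ((S.subgroupOf A : Subgroup ↥A) : Set ↥A) ≤ S.subgroupOf A := by
    intro x hx
    apply hSC
    refine ⟨⟨x, hx.1, rfl⟩, ?_⟩
    show (x : G) ∈ Subgroup.centralizer (S : Set G)
    rw [Subgroup.mem_centralizer_iff]
    intro s hs
    have := (Subgroup.mem_centralizer_iff.mp hx.2) ⟨s, hSA hs⟩ hs
    exact congrArg Subtype.val this
  refine ⟨fun q hq hqF => Cfsg.Agent.Lib.Helper3_Bender.part_a A S hS' hsn' hC' hSA B hSB q hq hqF, ?_⟩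
  intro p hp hpF x hx y hy
  haveI : Fact p.Prime := ⟨hp⟩
  have hb := Cfsg.Agent.Lib.Helper3_Bender.part_b A S hS' hsn' hC' hA hSA B hSB p hp hpF
  obtain ⟨y0, hy0, rfl⟩ := hy
  have hle : Cfsg.pResidual p ↥(Cfsg.generalizedFittingSubgroup ↥A) ≤
      (Subgroup.centralizer (((Cfsg.pCore p ↥B).map B.subtype : Subgroup G) : Set G)).comap
        (A.subtype.comp (Cfsg.generalizedFittingSubgroup ↥A).subtype) := by
    unfold Cfsg.pResidual
    rw [Subgroup.closure_le]
    intro g hg
    have hg' : (orderOf g).Coprime p := hg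
    have h1 : (g : ↥A) ∈ Cfsg.layer ↥A ⊔ Cfsg.Agent.Lib.Lead_Fitting.Y ↥A p :=
      Cfsg.Agent.Lib.Helper3_Bender.pprime_mem p (g : ↥A) g.2 (by rw [Subgroup.orderOf_coe]; exact hg')
    exact hb ⟨(g : ↥A), h1, rfl⟩
  exact (Subgroup.mem_centralizer_iff.mp (hle hy0)) x hx

end Cfsg.Agent.S1247
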