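import Mathlib
import Cfsg.Statements.S1250

set_option autoImplicit false
open Cfsg
open scoped Pointwise

namespace Cfsg.Agent.S1250

/-- A `p`-element of `N S` is `N`-conjugate into the Sylow subgroup `S`. -/
lemma conj_into_sylow {G : Type*} [Group G] [Finite G] {p : ℕ} [Fact p.Prime] (S : Sylow p G)
    (N : Subgroup G) [N.Normal] (y : G) (hy : ∃ k : ℕ, y ^ (p ^ k) = 1)
    (hyK : y ∈ N ⊔ (S : Subgroup G)) : ∃ n ∈ N, n⁻¹ * y * n ∈ (S : Subgroup G) := by
  set K : Subgroup G := N ⊔ (S : Subgroup G) with hK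
  have hSK : (S : Subgroup G) ≤ K := le_sup_right
  let S' : Sylow p K := S.subtype hSK
  -- the cyclic group generated by y inside K
  let y' : K := ⟨y, hyK⟩
  have hpg : IsPGroup p (Subgroup.zpowers y') := by
    rintro ⟨g, hg⟩
    obtain ⟨j, rfl⟩ := Subgroup.mem_zpowers_iff.mp hg
    obtain ⟨k, hk⟩ := hy
    refine ⟨k, ?_⟩
    apply Subtype.ext
    apply Subtype.ext
    simp only [SubgroupClass.coe_pow, SubgroupClass.coe_zpow, Subgroup.coe_one]
    show (y ^ j) ^ p ^ k = 1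
    rw [← zpow_natCast, ← zpow_mul, mul_comm, zpow_mul, zpow_natCast, hk, one_zpow]
  obtain ⟨Q, hQ⟩ := hpg.exists_le_sylow
  obtain ⟨k, hk⟩ := MulAction.exists_smul_eq K S' Q
  have hyQ : y' ∈ (Q : Subgroup K) := hQ (Subgroup.mem_zpowers y')
  rw [← hk, Sylow.coe_subgroup_smul, Subgroup.mem_pointwise_smul_iff_inv_smul_mem] at hyQ
  have hyS : (k : G)⁻¹ * y * (k : G) ∈ (S : Subgroup G) := by
    have h1 : (MulAut.conj k)⁻¹ • y' = k⁻¹ * y' * k := by
      simp [MulAut.smul_def]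
    rw [h1] at hyQ
    have h2 : (k⁻¹ * y' * k) ∈ (S : Subgroup G).subgroupOf K := by
      simpa [S', Sylow.coe_subtype] using hyQ
    rw [Subgroup.mem_subgroupOf] at h2
    simpa [y'] using h2
  -- write k = n * s
  have hk' : (k : G) ∈ N ⊔ (S : Subgroup G) := k.2
  rw [← SetLike.mem_coe, Subgroup.normal_mul, Set.mem_mul] at hk'
  obtain ⟨n, hn, s, hs, hns⟩ := hk'
  refine ⟨n, hn, ?_⟩
  have e : n⁻¹ * y * n = s * ((k : G)⁻¹ * y * (k : G)) * s⁻¹ := by
    rw [← hns]; group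
  rw [e]
  exact (S : Subgroup G).mul_mem ((S : Subgroup G).mul_mem hs hyS) ((S : Subgroup G).inv_mem hs)

/-- Let S be a Sylow p-subgroup of the finite group G, A ≤ S strongly closed in S, and N a normal subgroup. Then the image of A in G ⧸ N is strongly closed in the image of S (which is a Sylow p-subgroup of G ⧸ N). -/
theorem result {G : Type*} [Group G] [Finite G] {p : ℕ} [Fact p.Prime] (S : Sylow p G) (A : Subgroup G) (hA : Cfsg.IsStronglyClosed A (S : Subgroup G)) (N : Subgroup G) [N.Normal] : Cfsg.IsStronglyClosed (A.map (QuotientGroup.mk' N)) ((S : Subgroup G).map (QuotientGroup.mk' N)) := by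
  obtain ⟨hAS, hcl⟩ := hA
  refine ⟨Subgroup.map_mono hAS, ?_⟩
  rintro xbar ⟨x, hx, rfl⟩ gbar hg
  obtain ⟨g, rfl⟩ := QuotientGroup.mk'_surjective N gbar
  obtain ⟨s, hs, hsy⟩ := hg
  set y := g * x * g⁻¹ with hy
  have hsy' : QuotientGroup.mk' N s = QuotientGroup.mk' N y := by
    rw [hsy, hy]; simp
  -- y ∈ N ⊔ S
  have hyK : y ∈ N ⊔ (S : Subgroup G) := by
    have h1 : s⁻¹ * y ∈ N := by
      have := (QuotientGroup.eq (s := N) (a := s) (b := y)).mp (by simpa using hsy')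
      exact this
    have : y = s * (s⁻¹ * y) := by group
    rw [this]
    exact Subgroup.mul_mem _ (Subgroup.mem_sup_right hs) (Subgroup.mem_sup_left h1)
  -- y is a p-element
  have hyp : ∃ k : ℕ, y ^ (p ^ k) = 1 := by
    obtain ⟨k, hk⟩ := S.isPGroup' ⟨x, hAS hx⟩
    refine ⟨k, ?_⟩
    have hk' : x ^ p ^ k = 1 := by
      have := congrArg Subtype.val hk
      simpa using this
    rw [hy, conj_pow, hk']; simp
  obtain ⟨n, hn, hnS⟩ := conj_into_sylow S N y hyp hyK
  have h3 : n⁻¹ * y * n ∈ A := by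
    have := hcl x hx (n⁻¹ * g)
    have e : n⁻¹ * g * x * (n⁻¹ * g)⁻¹ = n⁻¹ * y * n := by rw [hy]; group
    rw [e] at this
    exact this hnS
  refine ⟨n⁻¹ * y * n, h3, ?_⟩
  have hn1 : (QuotientGroup.mk' N) n = 1 := by
    rw [QuotientGroup.mk'_apply, QuotientGroup.eq_one_iff]; exact hn
  rw [map_mul, map_mul, map_inv, hn1, hy]
  simp

end Cfsg.Agent.S1250
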