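import Cfsg.Statements.S1254
import Mathlib
import Cfsg.Agent.Lib.Helper5_Dihedral
import Cfsg.Agent.Lib.Helper7_NPC

set_option autoImplicit false
open Cfsg

namespace Cfsg.Agent.S1254

open Subgroup

section

variable {X : Type*} [Group X] [Finite X]

/-- With a normal complement `K` of `S`, normalizers of subgroups of `S` factorize. -/
theorem normalizer_le_of_complement (S K : Subgroup X) (hK : K.Normal)
    (hc : Subgroup.IsComplement' K S) (U : Subgroup X) (hU : U ≤ S) :
    normalizer (U : Set X) ≤ centralizer (U : Set X) ⊔ (S ⊓ normalizer (U : Set X)) := by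
  intro x hx
  obtain ⟨⟨k, s⟩, hks, -⟩ := (Subgroup.isComplement'_def.mp hc).existsUnique x
  simp only at hks
  have hdisj : ∀ w : X, w ∈ K → w ∈ S → w = 1 := by
    intro w hwK hwS
    have := hc.disjoint
    rw [Subgroup.disjoint_def] at this
    exact this hwK hwS
  have hxU : ∀ u ∈ U, x * u * x⁻¹ ∈ U := fun u hu => (mem_normalizer_iff.mp hx u).mp hu
  have key : ∀ u ∈ U, (s : X) * u * (s : X)⁻¹ ∈ U ∧
      (k : X) * ((s : X) * u * (s : X)⁻¹) = ((s : X) * u * (s : X)⁻¹) * (k : X) := by
    intro u hu
    set v := (s : X) * u * (s : X)⁻¹ with hv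
    have hvS : v ∈ S := mul_mem (mul_mem s.2 (hU hu)) (inv_mem s.2)
    have hu' : (k : X) * v * (k : X)⁻¹ ∈ U := by
      have := hxU u hu
      rw [← hks] at this
      have h2 : (k : X) * s * u * ((k : X) * s)⁻¹ = (k : X) * v * (k : X)⁻¹ := by
        rw [hv]; group
      rwa [h2] at this
    have h1 : v⁻¹ * ((k : X) * v * (k : X)⁻¹) = 1 := by
      apply hdisj
      · have h3 : v⁻¹ * ((k : X) * v * (k : X)⁻¹) = (v⁻¹ * (k : X) * v⁻¹⁻¹) * (k : X)⁻¹ := by group
        rw [h3]
        exact mul_mem (hK.conj_mem _ k.2 _) (inv_mem k.2)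
      · exact mul_mem (inv_mem hvS) (hU hu')
    have h2 : (k : X) * v * (k : X)⁻¹ = v := by
      have := congrArg (fun w => v * w) h1
      simpa using this
    refine ⟨h2 ▸ hu', ?_⟩
    calc (k : X) * v = (k : X) * v * (k : X)⁻¹ * k := by group
      _ = v * k := by rw [h2]
  have hsN : (s : X) ∈ normalizer (U : Set X) := by
    apply Subgroup.mem_normalizer_fintype
    intro u hu
    exact (key u hu).1
  have hkC : (k : X) ∈ centralizer (U : Set X) := by
    rw [mem_centralizer_iff]
    intro u hu
    have hu0 : (s : X)⁻¹ * u * (s : X)⁻¹⁻¹ ∈ U :=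
      (mem_normalizer_iff.mp (inv_mem hsN) u).mp hu
    have := (key _ hu0).2
    have h3 : (s : X) * ((s : X)⁻¹ * u * (s : X)⁻¹⁻¹) * (s : X)⁻¹ = u := by group
    rw [h3] at this
    exact this.symm
  rw [← hks]
  exact mul_mem (mem_sup_left hkC) (mem_sup_right ⟨s.2, hsN⟩)

end

/-- Let X be a finite group whose Sylow 2-subgroup S is dihedral (of order at least 4). Then X has a normal 2-complement if and only if, for every Klein four-subgroup U ≤ S, the normalizer N_X(U) is generated by C_X(U) and N_S(U). -/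
theorem result {X : Type*} [Group X] [Finite X] (S : Sylow 2 X) (m : ℕ) (hm : 2 ≤ m) (eS : (S : Subgroup X) ≃* DihedralGroup m) : Cfsg.HasNormalPComplement 2 X ↔ ∀ U : Subgroup X, U ≤ S → IsKleinFour U → Subgroup.normalizer (U : Set X) = Subgroup.centralizer (U : Set X) ⊔ ((S : Subgroup X) ⊓ Subgroup.normalizer (U : Set X)) := by
  haveI : Fact (Nat.Prime 2) := ⟨Nat.prime_two⟩
  rw [Cfsg.Agent.Lib.Helper7_NPC.hasNormalPComplement_iff_npc]
  constructor
  · intro hnpc U hU _
    obtain ⟨K, hK, hc⟩ := (Cfsg.Agent.Lib.Helper7_NPC.exists_complement_iff_npc S).mpr hnpc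
    apply le_antisymm
    · exact normalizer_le_of_complement (S : Subgroup X) K hK hc U hU
    · apply sup_le
      · intro c hc
        apply Subgroup.mem_normalizer_fintype
        intro u hu
        have := (mem_centralizer_iff.mp hc) u hu
        have h2 : c * u * c⁻¹ = u := by rw [← this]; group
        rw [h2]; exact hu
      · exact inf_le_right
  · intro hyp
    apply Cfsg.Agent.Lib.Helper7_NPC.npc_of_frobHyp
    apply Cfsg.Agent.Lib.Helper7_NPC.frobHyp_of_sylow S
    intro Q hQ g hg hodd
    rcases Cfsg.Agent.Lib.Helper5_Dihedral.dih_frob_sylow S m eS Q (S.isPGroup'.to_le hQ) g hg hodd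
      with h1 | ⟨h4, hexp⟩
    · exact h1
    · -- Q is a four-group
      have hK4 : IsKleinFour Q := by
        refine ⟨h4, ?_⟩
        have h1 : Monoid.exponent Q ∣ 2 := by
          apply Monoid.exponent_dvd_of_forall_pow_eq_one
          intro q
          apply Subtype.ext
          have := hexp q q.2
          simpa using this
        rcases (Nat.dvd_prime Nat.prime_two).mp h1 with h2 | h2
        · exfalso
          have := Monoid.exp_eq_one_iff.mp h2
          have h3 : Nat.card Q = 1 := Nat.card_eq_one_iff_unique.mpr ⟨this, ⟨1⟩⟩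
          omega
        · exact h2
      have hsup := hyp Q hQ hK4
      set N := normalizer (Q : Set X) with hN
      set T : Subgroup X := (S : Subgroup X) ⊓ N with hT
      have hCN : centralizer (Q : Set X) ≤ N := by
        rw [hsup]; exact le_sup_left
      have hTN : T ≤ N := inf_le_right
      have htop : (centralizer (Q : Set X)).subgroupOf N ⊔ T.subgroupOf N = ⊤ := by
        rw [← subgroupOf_sup hCN hTN, ← hsup]
        exact subgroupOf_self N
      set φ := Q.normalizerMonoidHom with hφ
      have hker : ((centralizer (Q : Set X)).subgroupOf N).map φ = ⊥ := by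
        rw [Subgroup.map_eq_bot_iff, hφ, normalizerMonoidHom_ker]
      have hmap : (T.subgroupOf N).map φ = (⊤ : Subgroup N).map φ := by
        rw [← htop, Subgroup.map_sup, hker, bot_sup_eq]
      have hTp : IsPGroup 2 ((T.subgroupOf N).map φ) := by
        apply IsPGroup.map
        have h1 : IsPGroup 2 T := S.isPGroup'.to_le inf_le_left
        exact h1.comap_of_injective N.subtype Subtype.coe_injective
      have hmem : φ ⟨g, hg⟩ ∈ (T.subgroupOf N).map φ := by
        rw [hmap]; exact ⟨⟨g, hg⟩, Subgroup.mem_top _, rfl⟩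
      obtain ⟨k, hk⟩ := hTp ⟨φ ⟨g, hg⟩, hmem⟩
      have hk' : (φ ⟨g, hg⟩) ^ 2 ^ k = 1 := by
        have := congrArg Subtype.val hk
        simpa using this
      have ho : (φ ⟨g, hg⟩) ^ orderOf g = 1 := by
        rw [← map_pow]
        have : (⟨g, hg⟩ : N) ^ orderOf g = 1 := by
          apply Subtype.ext
          simp [pow_orderOf_eq_one]
        rw [this, map_one]
      have h1 : (φ ⟨g, hg⟩) ^ Nat.gcd (orderOf g) (2 ^ k) = 1 := pow_gcd_eq_one.mpr ⟨ho, hk'⟩
      have h2 : Nat.gcd (orderOf g) (2 ^ k) = 1 := Nat.Coprime.pow_right k hodd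
      rw [h2, pow_one] at h1
      have h3 : (⟨g, hg⟩ : N) ∈ φ.ker := h1
      rw [hφ, normalizerMonoidHom_ker, mem_subgroupOf] at h3
      exact h3

end Cfsg.Agent.S1254
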