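import Cfsg.Statements.S3864
import Mathlib
import Cfsg.Agent.Lib.Helper5_DihFusion
import Cfsg.Agent.Lib.Helper5_Dihedral
import Cfsg.Agent.Lib.Helper5_ThompsonExt
import Cfsg.Agent.Lib.Helper7_NPC

set_option autoImplicit false
open Cfsg

namespace Cfsg.Agent.S3864

open Cfsg.Agent.Lib.Helper5_DihFusion DihedralGroup Subgroup

section counting

variable {G : Type*} [Group G]

theorem card_classes_one (p : G → Prop) (a : G) (ha : p a) (hall : ∀ t, p t → IsConj a t) :
    Nat.card {C : ConjClasses G // ∃ g : G, ConjClasses.mk g = C ∧ p g} = 1 := by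
  rw [Nat.card_eq_one_iff_exists]
  refine ⟨⟨ConjClasses.mk a, a, rfl, ha⟩, ?_⟩
  rintro ⟨C, t, rfl, ht⟩
  apply Subtype.ext
  exact (ConjClasses.mk_eq_mk_iff_isConj.mpr (hall t ht)).symm

theorem card_classes_two (p : G → Prop) (a b : G) (ha : p a) (hb : p b)
    (hab : ¬ IsConj a b) (hall : ∀ t, p t → IsConj a t ∨ IsConj b t) :
    Nat.card {C : ConjClasses G // ∃ g : G, ConjClasses.mk g = C ∧ p g} = 2 := by
  rw [Nat.card_eq_two_iff]
  refine ⟨⟨ConjClasses.mk a, a, rfl, ha⟩, ⟨ConjClasses.mk b, b, rfl, hb⟩, ?_, ?_⟩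
  · intro he
    apply hab
    rw [Subtype.mk.injEq, ConjClasses.mk_eq_mk_iff_isConj] at he
    exact he
  · rw [Set.eq_univ_iff_forall]
    rintro ⟨C, t, rfl, ht⟩
    rcases hall t ht with h | h
    · left
      apply Subtype.ext
      exact (ConjClasses.mk_eq_mk_iff_isConj.mpr h).symm
    · right
      rw [Set.mem_singleton_iff]
      apply Subtype.ext
      exact (ConjClasses.mk_eq_mk_iff_isConj.mpr h).symm

theorem card_classes_three (p : G → Prop) (a b c : G) (ha : p a) (hb : p b) (hc : p c)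
    (hab : ¬ IsConj a b) (hac : ¬ IsConj a c) (hbc : ¬ IsConj b c)
    (hall : ∀ t, p t → IsConj a t ∨ IsConj b t ∨ IsConj c t) :
    Nat.card {C : ConjClasses G // ∃ g : G, ConjClasses.mk g = C ∧ p g} = 3 := by
  have h1 : Nat.card {C : ConjClasses G // ∃ g : G, ConjClasses.mk g = C ∧ p g} =
      Set.ncard {C : ConjClasses G | ∃ g : G, ConjClasses.mk g = C ∧ p g} := rfl
  rw [h1, Set.ncard_eq_three]
  refine ⟨ConjClasses.mk a, ConjClasses.mk b, ConjClasses.mk c, ?_, ?_, ?_, ?_⟩
  · rw [Ne, ConjClasses.mk_eq_mk_iff_isConj]; exact hab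
  · rw [Ne, ConjClasses.mk_eq_mk_iff_isConj]; exact hac
  · rw [Ne, ConjClasses.mk_eq_mk_iff_isConj]; exact hbc
  · ext C
    simp only [Set.mem_setOf_eq, Set.mem_insert_iff, Set.mem_singleton_iff]
    constructor
    · rintro ⟨t, rfl, ht⟩
      rcases hall t ht with h | h | h
      · left; exact (ConjClasses.mk_eq_mk_iff_isConj.mpr h).symm
      · right; left; exact (ConjClasses.mk_eq_mk_iff_isConj.mpr h).symm
      · right; right; exact (ConjClasses.mk_eq_mk_iff_isConj.mpr h).symm
    · rintro (rfl | rfl | rfl)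
      · exact ⟨a, rfl, ha⟩
      · exact ⟨b, rfl, hb⟩
      · exact ⟨c, rfl, hc⟩

end counting

section main

variable {G : Type*} [Group G] [Finite G] {K : ℕ} [NeZero K]
  (P : Sylow 2 G) (e : ↥(P : Subgroup G) ≃* DihedralGroup (4 * K))

theorem mem_of_isConj {N : Subgroup G} (hN : N.Normal) {a b : G} (h : IsConj a b) (ha : a ∈ N) :
    b ∈ N := by
  rw [isConj_iff] at h
  obtain ⟨c, rfl⟩ := h
  exact hN.conj_mem a ha c

/-- Thompson transfer with the rotation subgroup. -/
theorem exists_index_two (u : G) (hu : orderOf u = 2) (hzu : ¬ IsConj (zz P e) u) :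
    ∃ N : Subgroup G, N.Normal ∧ N.index = 2 := by
  by_contra hno
  push_neg at hno
  obtain ⟨g, hg, -⟩ := Cfsg.Agent.Lib.Helper5_ThompsonExt.thompson_extremal P (Rot P e)
    (relIndex_Rot P e) u hu (fun M hM hMi => absurd hMi (hno M hM))
  have h1 := invol_Rot P e hg (by rw [orderOf_conj'']; exact hu)
  apply hzu
  rw [← h1]
  apply IsConj.symm
  rw [isConj_iff]; exact ⟨g, rfl⟩

theorem r_pow' {n : ℕ} (i : ZMod n) (k : ℕ) :
    (r i : DihedralGroup n) ^ k = r (i * (k : ZMod n)) := by
  induction k with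
  | zero => rw [pow_zero, Nat.cast_zero, mul_zero]; rfl
  | succ k ih =>
    rw [pow_succ, ih, r_mul_r]
    congr 1
    push_cast; ring

theorem case_one (hza : IsConj (zz P e) (aa P e)) (hzb : IsConj (zz P e) (bb P e)) :
    Nat.card {C : ConjClasses G // ∃ g : G, ConjClasses.mk g = C ∧ orderOf g = 2} = 1 ∧
      ∀ N : Subgroup G, N.Normal → N.index ≠ 2 := by
  constructor
  · apply card_classes_one (fun g => orderOf g = 2) (zz P e) (orderOf_zz P e)
    intro t ht
    rcases invol_G P e t ht with h | h | h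
    · exact h
    · exact hza.trans h
    · exact hzb.trans h
  · intro N hN hidx
    have hz := zz_mem_of_index_two P e N hidx
    exact not_le_of_index_two P N hidx
      (P_le_of_mem P e N (mem_of_isConj hN hza hz) (mem_of_isConj hN hzb hz))

/-- Two classes: `z ~ a`, `z ≁ b`, stated for general reflections `a'`, `b'`. -/
theorem case_two (a' b' : G) (hab : (a' = aa P e ∧ b' = bb P e) ∨ (a' = bb P e ∧ b' = aa P e))
    (hza : IsConj (zz P e) a') (hzb : ¬ IsConj (zz P e) b') :
    Nat.card {C : ConjClasses G // ∃ g : G, ConjClasses.mk g = C ∧ orderOf g = 2} = 2 ∧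
      (∃ N : Subgroup G, N.Normal ∧ N.index = 2) ∧ ∀ N : Subgroup G, N.Normal → N.index ≠ 4 := by
  have hK := K_pos (K := K)
  haveI : NeZero (4 * K) := ⟨by omega⟩
  have hb'2 : orderOf b' = 2 := by
    rcases hab with ⟨-, rfl⟩ | ⟨-, rfl⟩
    · exact orderOf_bb P e
    · exact orderOf_aa P e
  refine ⟨?_, exists_index_two P e b' hb'2 hzb, ?_⟩
  · apply card_classes_two (fun g => orderOf g = 2) (zz P e) b' (orderOf_zz P e) hb'2 hzb
    intro t ht
    rcases hab with ⟨rfl, rfl⟩ | ⟨rfl, rfl⟩
    · rcases invol_G P e t ht with h | h | h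
      · left; exact h
      · left; exact hza.trans h
      · right; exact h
    · rcases invol_G P e t ht with h | h | h
      · left; exact h
      · right; exact h
      · left; exact hza.trans h
  · intro N hN hidx
    haveI := hN
    -- the quotient is abelian
    have hcard : Nat.card (G ⧸ N) = 2 ^ 2 := by
      rw [← Subgroup.index_eq_card, hidx]; norm_num
    haveI : Fact (Nat.Prime 2) := ⟨Nat.prime_two⟩
    have hcomm := IsPGroup.commutative_of_card_eq_prime_sq hcard
    have hcommem : ∀ u v : G, u * v * u⁻¹ * v⁻¹ ∈ N := by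
      intro u v
      rw [← QuotientGroup.eq_one_iff]
      have := hcomm (u : G ⧸ N) (v : G ⧸ N)
      rw [QuotientGroup.mk_mul, QuotientGroup.mk_mul, QuotientGroup.mk_mul, QuotientGroup.mk_inv,
        QuotientGroup.mk_inv, this]
      group
    have hr2 : el P e (r (-2)) ∈ N := by
      have h1 := hcommem (el P e (sr 0)) (el P e (r 1))
      rw [← el_inv, ← el_inv, ← el_mul, ← el_mul, ← el_mul] at h1
      have h2 : (sr 0 * r 1 * (sr 0)⁻¹ * (r 1)⁻¹ : DihedralGroup (4 * K)) = r (-2) := by
        rw [inv_sr, inv_r, sr_mul_r, sr_mul_sr, r_mul_r]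
        congr 1; ring
      rwa [h2] at h1
    have hzN : zz P e ∈ N := by
      have h1 : zz P e = el P e (r (-2)) ^ (3 * K) := by
        unfold zz
        rw [← el_pow, r_pow']
        congr 2
        have : ((4 * K : ℕ) : ZMod (4 * K)) = 0 := ZMod.natCast_self _
        push_cast at this ⊢
        linear_combination (2 : ZMod (4 * K)) * this
      rw [h1]; exact pow_mem hr2 _
    have ha'N : a' ∈ N := mem_of_isConj hN hza hzN
    have hr2' : ∀ j : ZMod (4 * K), el P e (r (j + j)) ∈ N := by
      intro j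
      have h1 : (r (j + j) : DihedralGroup (4 * K)) = (r (-2))⁻¹ ^ j.val := by
        rw [inv_r, r_pow', ZMod.natCast_zmod_val]
        congr 1; ring
      rw [h1, el_pow, el_inv]
      exact pow_mem (inv_mem hr2) _
    -- `P ⊔ N = ⊤`
    have hsup : (P : Subgroup G) ⊔ N = ⊤ := by
      rw [← Subgroup.index_eq_one]
      have h1 : ((P : Subgroup G) ⊔ N).index ∣ (P : Subgroup G).index :=
        Subgroup.index_dvd_of_le le_sup_left
      have h2 : ((P : Subgroup G) ⊔ N).index ∣ 2 ^ 2 := by
        have := Subgroup.index_dvd_of_le (le_sup_right : N ≤ (P : Subgroup G) ⊔ N)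
        rw [hidx] at this
        exact this
      obtain ⟨k, hk, hk'⟩ := (Nat.dvd_prime_pow Nat.prime_two).mp h2
      rcases Nat.eq_zero_or_pos k with h0 | h0
      · rw [hk', h0, pow_zero]
      · exfalso
        apply P.not_dvd_index
        rw [hk'] at h1
        exact (dvd_pow_self 2 h0.ne').trans h1
    -- every coset is represented by `1` or `r 1`
    have hcover : ∀ g : G, (g : G ⧸ N) = 1 ∨ (g : G ⧸ N) = ((el P e (r 1) : G) : G ⧸ N) := by
      intro g
      have hg : g ∈ (P : Subgroup G) ⊔ N := by rw [hsup]; exact Subgroup.mem_top g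
      rw [← SetLike.mem_coe, Subgroup.mul_normal] at hg
      obtain ⟨p, hp, n, hn, rfl⟩ := Set.mem_mul.mp hg
      have hpn : ((p * n : G) : G ⧸ N) = (p : G ⧸ N) := by
        rw [QuotientGroup.mk_mul, (QuotientGroup.eq_one_iff n).mpr hn, mul_one]
      rw [hpn]
      obtain ⟨q, rfl⟩ := exists_el P e hp
      -- reduce to rotations
      have hrot : ∀ i : ZMod (4 * K), ((el P e (r i) : G) : G ⧸ N) = 1 ∨
          ((el P e (r i) : G) : G ⧸ N) = ((el P e (r 1) : G) : G ⧸ N) := by
        intro i
        obtain ⟨j, hj | hj⟩ := zmod_parity K i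
        · left
          rw [hj]
          exact (QuotientGroup.eq_one_iff _).mpr (hr2' j)
        · right
          have : (r i : DihedralGroup (4 * K)) = r (j + j) * r 1 := by rw [r_mul_r, hj]
          rw [this, el_mul, QuotientGroup.mk_mul, (QuotientGroup.eq_one_iff _).mpr (hr2' j), one_mul]
      have hrefl : ∀ c : G, (∃ i₀, c = el P e (sr i₀)) → c ∈ N → ∀ i : ZMod (4 * K),
          ((el P e (sr i) : G) : G ⧸ N) = 1 ∨
          ((el P e (sr i) : G) : G ⧸ N) = ((el P e (r 1) : G) : G ⧸ N) := by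
        rintro c ⟨i₀, rfl⟩ hc i
        have : (sr i : DihedralGroup (4 * K)) = sr i₀ * r (i - i₀) := by
          rw [sr_mul_r]; congr 1; ring
        rw [this, el_mul, QuotientGroup.mk_mul, (QuotientGroup.eq_one_iff _).mpr hc, one_mul]
        exact hrot _
      rcases q with i | i
      · exact hrot i
      · rcases hab with ⟨rfl, -⟩ | ⟨rfl, -⟩
        · exact hrefl _ ⟨0, rfl⟩ ha'N i
        · exact hrefl _ ⟨1, rfl⟩ ha'N i
    have hle : Nat.card (G ⧸ N) ≤ 2 := by
      classical
      have hinj : Function.Injective (fun c : G ⧸ N => decide (c = 1)) := by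
        intro c c' hcc
        simp only [decide_eq_decide] at hcc
        obtain ⟨g, rfl⟩ := QuotientGroup.mk_surjective c
        obtain ⟨g', rfl⟩ := QuotientGroup.mk_surjective c'
        rcases hcover g with h | h
        · rw [h, hcc.mp h]
        · rcases hcover g' with h' | h'
          · rw [h', hcc.mpr h']
          · rw [h, h']
      have := Nat.card_le_card_of_injective _ hinj
      rwa [Nat.card_eq_fintype_card (α := Bool), Fintype.card_bool] at this
    rw [hcard] at hle
    omega

/-- Three classes. -/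
theorem case_three (hza : ¬ IsConj (zz P e) (aa P e)) (hzb : ¬ IsConj (zz P e) (bb P e)) :
    Nat.card {C : ConjClasses G // ∃ g : G, ConjClasses.mk g = C ∧ orderOf g = 2} = 3 ∧
      Cfsg.HasNormalPComplement 2 G := by
  haveI : Fact (Nat.Prime 2) := ⟨Nat.prime_two⟩
  have hF : Cfsg.Agent.Lib.Helper7_NPC.FrobHyp 2 G := by
    intro Q hQ g hg hcop
    rcases Cfsg.Agent.Lib.Helper5_Dihedral.dih_frob_sylow P (4 * K) e Q hQ g hg hcop with h | ⟨h4, h2⟩
    · exact h
    · obtain ⟨t₀, ht₀Q, ht₀z, hrest⟩ := four_group P e Q h4 h2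
      have ht₀1 : t₀ ≠ 1 := by
        intro h
        rw [h] at ht₀z
        have := isConj_one_right.mp ht₀z.symm
        have h3 := orderOf_zz P e
        rw [this, orderOf_one] at h3
        omega
      apply Cfsg.Agent.Lib.Helper5_Dihedral.dih_frob_fix P (4 * K) e Q hQ g hg hcop t₀ ht₀Q ht₀1
      have hgt : g * t₀ * g⁻¹ ∈ Q := (mem_normalizer_iff.mp hg t₀).mp ht₀Q
      have hconj : IsConj t₀ (g * t₀ * g⁻¹) := by rw [isConj_iff]; exact ⟨g, rfl⟩
      by_contra hne
      have hne' : g * t₀ * g⁻¹ ≠ t₀ := by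
        intro h
        apply hne
        calc g * t₀ = g * t₀ * g⁻¹ * g := by group
          _ = t₀ * g := by rw [h]
      have hne1 : g * t₀ * g⁻¹ ≠ 1 := by
        intro h
        apply ht₀1
        have : t₀ = g⁻¹ * (g * t₀ * g⁻¹) * g := by group
        rw [this, h]; group
      rcases hrest _ hgt hne1 hne' with h | h
      · exact hza ((ht₀z.trans hconj).trans h.symm)
      · exact hzb ((ht₀z.trans hconj).trans h.symm)
  have hab : ¬ IsConj (aa P e) (bb P e) := by
    intro h
    rw [isConj_iff] at h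
    obtain ⟨u, hu⟩ := h
    have hbP : u * aa P e * u⁻¹ ∈ (P : Subgroup G) := by rw [hu]; exact el_mem P e _
    obtain ⟨y, hy, hy'⟩ := Cfsg.Agent.Lib.Helper7_NPC.control_fusion hF P (aa P e) u (el_mem P e _) hbP
    exact not_conj_P P e y hy (by rw [← hy', hu])
  refine ⟨?_, ?_⟩
  · exact card_classes_three (fun g => orderOf g = 2) (zz P e) (aa P e) (bb P e) (orderOf_zz P e)
      (orderOf_aa P e) (orderOf_bb P e) hza hzb hab (invol_G P e)
  · rw [Cfsg.Agent.Lib.Helper7_NPC.hasNormalPComplement_iff_npc]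
    exact Cfsg.Agent.Lib.Helper7_NPC.npc_of_frobHyp hF

include P e in
theorem main :
    (Nat.card {C : ConjClasses G // ∃ g : G, ConjClasses.mk g = C ∧ orderOf g = 2} = 1 ∧ ∀ N : Subgroup G, N.Normal → N.index ≠ 2) ∨ (Nat.card {C : ConjClasses G // ∃ g : G, ConjClasses.mk g = C ∧ orderOf g = 2} = 2 ∧ (∃ N : Subgroup G, N.Normal ∧ N.index = 2) ∧ ∀ N : Subgroup G, N.Normal → N.index ≠ 4) ∨ (Nat.card {C : ConjClasses G // ∃ g : G, ConjClasses.mk g = C ∧ orderOf g = 2} = 3 ∧ Cfsg.HasNormalPComplement 2 G) := by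
  by_cases hza : IsConj (zz P e) (aa P e)
  · by_cases hzb : IsConj (zz P e) (bb P e)
    · left; exact case_one P e hza hzb
    · right; left
      exact case_two P e (aa P e) (bb P e) (Or.inl ⟨rfl, rfl⟩) hza hzb
  · by_cases hzb : IsConj (zz P e) (bb P e)
    · right; left
      exact case_two P e (bb P e) (aa P e) (Or.inr ⟨rfl, rfl⟩) hzb hza
    · right; right
      exact case_three P e hza hzb

end main

/-- Let G be a finite group whose Sylow 2-subgroups are dihedral of order 2 ^ n with n ≥ 3, and count the conjugacy classes of involutions of G. Then exactly one of the following holds: there is one class of involutions and no normal subgroup of index 2; there are two classes of involutions, a normal subgroup of index 2 and none of index 4; there are three classes of involutions and G has a normal 2-complement. -/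
theorem result {G : Type*} [Group G] [Finite G] (P : Sylow 2 G) (n : ℕ) (hn : 3 ≤ n) (hdih : Nonempty (↥(P : Subgroup G) ≃* DihedralGroup (2 ^ (n - 1)))) : (Nat.card {C : ConjClasses G // ∃ g : G, ConjClasses.mk g = C ∧ orderOf g = 2} = 1 ∧ ∀ N : Subgroup G, N.Normal → N.index ≠ 2) ∨ (Nat.card {C : ConjClasses G // ∃ g : G, ConjClasses.mk g = C ∧ orderOf g = 2} = 2 ∧ (∃ N : Subgroup G, N.Normal ∧ N.index = 2) ∧ ∀ N : Subgroup G, N.Normal → N.index ≠ 4) ∨ (Nat.card {C : ConjClasses G // ∃ g : G, ConjClasses.mk g = C ∧ orderOf g = 2} = 3 ∧ Cfsg.HasNormalPComplement 2 G) := by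
  obtain ⟨e⟩ := hdih
  obtain ⟨m, rfl⟩ : ∃ m, n = m + 3 := ⟨n - 3, by omega⟩
  have h1 : 2 ^ (m + 3 - 1) = 4 * 2 ^ m := by
    rw [show m + 3 - 1 = m + 2 by omega]; ring
  rw [h1] at e
  haveI : NeZero (2 ^ m) := ⟨by positivity⟩
  exact main P e

end Cfsg.Agent.S3864
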