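import Cfsg.Statements.S1255
import Mathlib
import Cfsg.Agent.Lib.Helper5_FourFix
import Cfsg.Agent.Lib.Helper5_DihFusion
import Cfsg.Agent.Lib.Helper5_ThompsonExt
import Cfsg.Agent.S3864

set_option autoImplicit false
open Cfsg

namespace Cfsg.Agent.S1255

open Subgroup DihedralGroup Cfsg.Agent.Lib.Helper5_FourFix Cfsg.Agent.Lib.Helper5_DihFusion
open Cfsg.Agent.Lib.Helper5_KleinSub

section generic

variable {X : Type*} [Group X] [Finite X]

theorem orderOf_two_of {t : X} (h2 : t ^ 2 = 1) (h1 : t ≠ 1) : orderOf t = 2 := by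
  haveI : Fact (Nat.Prime 2) := ⟨Nat.prime_two⟩
  exact orderOf_eq_prime h2 h1

theorem sq_of_orderOf {t : X} (h : orderOf t = 2) : t ^ 2 = 1 := by
  rw [← h]; exact pow_orderOf_eq_one t

theorem ne_one_of_orderOf {t : X} (h : orderOf t = 2) : t ≠ 1 := by
  intro he
  rw [he, orderOf_one] at h
  omega

/-- All involutions conjugate ⇒ no subgroup of index 2 and no isolated involution. -/
theorem lhs_of_allConj (S : Sylow 2 X)
    (hcomm : ∀ z' ∈ S, orderOf z' = 2 → ∃ t ∈ S, orderOf t = 2 ∧ t ≠ z' ∧ t * z' = z' * t)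
    (hgen : ∀ H : Subgroup X, (∀ t ∈ S, orderOf t = 2 → t ∈ H) → (S : Subgroup X) ≤ H)
    (hS2 : ∃ t ∈ S, orderOf t = 2)
    (hall : ∀ a b : X, orderOf a = 2 → orderOf b = 2 → IsConj a b) :
    (∀ H : Subgroup X, H.index ≠ 2) ∧ (∀ z : X, ¬ Cfsg.IsIsolatedInvolution z) := by
  constructor
  · intro H hH
    have hHn : H.Normal := Subgroup.normal_of_index_eq_two hH
    obtain ⟨t, htS, ht2⟩ := hS2
    obtain ⟨t', ht'S, ht'2, hne, hc⟩ := hcomm t htS ht2
    -- an involution in `H`
    obtain ⟨h₀, hh₀H, hh₀2⟩ : ∃ h₀ ∈ H, orderOf h₀ = 2 := by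
      by_cases h1 : t ∈ H
      · exact ⟨t, h1, ht2⟩
      by_cases h2 : t' ∈ H
      · exact ⟨t', h2, ht'2⟩
      refine ⟨t' * t, (Subgroup.mul_mem_iff_of_index_two hH).mpr
        ⟨fun h => absurd h h2, fun h => absurd h h1⟩, ?_⟩
      apply orderOf_two_of
      · rw [pow_two]
        calc t' * t * (t' * t) = t' * (t * t') * t := by group
          _ = t' * (t' * t) * t := by rw [hc]
          _ = t' ^ 2 * t ^ 2 := by rw [pow_two, pow_two]; group
          _ = 1 := by rw [sq_of_orderOf ht2, sq_of_orderOf ht'2, one_mul]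
      · intro h
        apply hne
        have h3 : t * t = 1 := by rw [← pow_two]; exact sq_of_orderOf ht2
        exact mul_right_cancel (h.trans h3.symm)
    have hle : (S : Subgroup X) ≤ H := by
      apply hgen
      intro u _ hu2
      have := hall h₀ u hh₀2 hu2
      rw [isConj_iff] at this
      obtain ⟨c, rfl⟩ := this
      exact hHn.conj_mem _ hh₀H c
    have h1 : H.index ∣ (S : Subgroup X).index := Subgroup.index_dvd_of_le hle
    rw [hH] at h1
    exact S.not_dvd_index h1
  · rintro z ⟨hz2, hiso⟩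
    obtain ⟨g, hg⟩ := conj_into_P S z hz2
    have hz'2 : orderOf (g * z * g⁻¹) = 2 := by rw [orderOf_conj'']; exact hz2
    obtain ⟨t, htS, ht2, hne, hc⟩ := hcomm _ hg hz'2
    have h1 : orderOf (g⁻¹ * t * g) = 2 := by
      have := orderOf_conj'' g⁻¹ t
      rw [inv_inv] at this
      rw [this]; exact ht2
    have h2 := hall z (g⁻¹ * t * g) hz2 h1
    rw [isConj_iff] at h2
    obtain ⟨k, hk⟩ := h2
    have h3 : Commute z (k * z * k⁻¹) := by
      rw [hk]
      show z * (g⁻¹ * t * g) = g⁻¹ * t * g * z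
      have e1 : z * (g⁻¹ * t * g) = g⁻¹ * ((g * z * g⁻¹) * t) * g := by group
      have e2 : g⁻¹ * t * g * z = g⁻¹ * (t * (g * z * g⁻¹)) * g := by group
      rw [e1, e2, hc]
    have h4 := hiso k h3
    apply hne
    rw [hk] at h4
    rw [← h4]; group

end generic

section V4

variable {X : Type*} [Group X] [Finite X] (S : Sylow 2 X)
  (hS4 : Nat.card (S : Subgroup X) = 4) (hS2 : ∀ s ∈ (S : Subgroup X), s ^ 2 = 1)

include hS4 hS2

theorem v4_exists_other (z : X) (hz : z ∈ (S : Subgroup X)) (hz1 : z ≠ 1) :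
    ∃ t ∈ (S : Subgroup X), orderOf t = 2 ∧ t ≠ z ∧ t * z = z * t := by
  obtain ⟨t, htU, ht1, htz, hzt, -, -, -⟩ := four_mem (S : Subgroup X) hS4 hS2 z hz hz1
  exact ⟨t, htU, orderOf_two_of (hS2 t htU) ht1, htz, hzt.symm⟩

theorem v4_allConj_of_noIndex (hno : ∀ H : Subgroup X, H.index ≠ 2)
    (a b : X) (ha : orderOf a = 2) (hb : orderOf b = 2) : IsConj a b := by
  -- reduce to elements of `S`
  have key : ∀ t u : X, t ∈ (S : Subgroup X) → u ∈ (S : Subgroup X) → orderOf t = 2 →
      orderOf u = 2 → IsConj u t := by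
    intro t u ht hu ht2 hu2
    have hQi : (zpowers t).relIndex (S : Subgroup X) = 2 := by
      have hle : zpowers t ≤ (S : Subgroup X) := zpowers_le.mpr ht
      have h3 := Subgroup.card_mul_index ((zpowers t).subgroupOf (S : Subgroup X))
      have h4 : Nat.card ((zpowers t).subgroupOf (S : Subgroup X)) = Nat.card (zpowers t) :=
        Nat.card_congr (Subgroup.subgroupOfEquivOfLe hle).toEquiv
      rw [h4, Nat.card_zpowers, ht2, hS4] at h3
      show ((zpowers t).subgroupOf (S : Subgroup X)).index = 2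
      omega
    obtain ⟨g, hg, -⟩ := Cfsg.Agent.Lib.Helper5_ThompsonExt.thompson_extremal S (zpowers t) hQi u hu2
      (fun M _ hMi => absurd hMi (hno M))
    obtain ⟨i, hi⟩ := hg
    simp only at hi
    have ht2' : t * t = 1 := by rw [← pow_two]; exact sq_of_orderOf ht2
    rw [isConj_iff]
    refine ⟨g, ?_⟩
    rcases Cfsg.Agent.Lib.Helper5_NoNormalFour.zpow_invol t ht2' i with h | h
    · exfalso
      rw [h] at hi
      apply ne_one_of_orderOf hu2
      have : u = g⁻¹ * (g * u * g⁻¹) * g := by group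
      rw [this, ← hi]; group
    · rw [← hi, h]
  obtain ⟨g, hg⟩ := conj_into_P S a ha
  obtain ⟨g', hg'⟩ := conj_into_P S b hb
  have h1 := key (g' * b * g'⁻¹) (g * a * g⁻¹) hg' hg (by rw [orderOf_conj'']; exact hb)
    (by rw [orderOf_conj'']; exact ha)
  have h2 : IsConj a (g * a * g⁻¹) := by rw [isConj_iff]; exact ⟨g, rfl⟩
  have h3 : IsConj b (g' * b * g'⁻¹) := by rw [isConj_iff]; exact ⟨g', rfl⟩
  exact (h2.trans h1).trans h3.symm

theorem v4_main :
    ((∀ H : Subgroup X, H.index ≠ 2) ∧ (∀ z : X, ¬ Cfsg.IsIsolatedInvolution z)) ↔ ((∀ a b : X, orderOf a = 2 → orderOf b = 2 → IsConj a b) ∨ (∀ U : Subgroup X, U ≤ S → IsKleinFour U → (Subgroup.centralizer (U : Set X)).relIndex (Subgroup.normalizer (U : Set X)) = (if Nat.card S = 4 then 3 else 6))) := by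
  have hcardS : Nat.card S = 4 := hS4
  have hA : (∀ a b : X, orderOf a = 2 → orderOf b = 2 → IsConj a b) →
      ((∀ H : Subgroup X, H.index ≠ 2) ∧ (∀ z : X, ¬ Cfsg.IsIsolatedInvolution z)) := by
    intro hall
    apply lhs_of_allConj S _ _ _ hall
    · intro z' hz' hz'2
      exact v4_exists_other S hS4 hS2 z' hz' (ne_one_of_orderOf hz'2)
    · intro H hH s hs
      by_cases hs1 : s = 1
      · rw [hs1]; exact one_mem _
      · exact hH s hs (orderOf_two_of (hS2 s hs) hs1)
    · obtain ⟨s, hs1⟩ : ∃ s : (S : Subgroup X), s ≠ 1 := by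
        by_contra hno
        push_neg at hno
        have : Subsingleton (S : Subgroup X) := ⟨fun a b => by rw [hno a, hno b]⟩
        have := Nat.card_eq_one_iff_unique.mpr ⟨this, ⟨1⟩⟩
        omega
      refine ⟨s, s.2, orderOf_two_of (hS2 s s.2) ?_⟩
      intro h
      exact hs1 (Subtype.ext h)
  constructor
  · rintro ⟨hno, -⟩
    left
    exact v4_allConj_of_noIndex S hS4 hS2 hno
  · rintro (hall | hidx)
    · exact hA hall
    · apply hA
      have h3 := hidx (S : Subgroup X) le_rfl (isKleinFour_of _ hS4 hS2)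
      rw [if_pos hcardS] at h3
      have hmove : ∀ z ∈ (S : Subgroup X), z ≠ 1 →
          ∃ n ∈ normalizer ((S : Subgroup X) : Set X), n * z * n⁻¹ ≠ z := by
        intro z hz hz1
        exact exists_move _ hS4 hS2 (by rw [h3]; norm_num) z hz hz1
      intro a b ha hb
      obtain ⟨g, hg⟩ := conj_into_P S a ha
      obtain ⟨g', hg'⟩ := conj_into_P S b hb
      have h1 := all_conj_of_move _ hS4 hS2 hmove (g * a * g⁻¹) (g' * b * g'⁻¹) hg hg'
        (ne_one_of_orderOf (by rw [orderOf_conj'']; exact ha))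
        (ne_one_of_orderOf (by rw [orderOf_conj'']; exact hb))
      have h2 : IsConj a (g * a * g⁻¹) := by rw [isConj_iff]; exact ⟨g, rfl⟩
      have h3 : IsConj b (g' * b * g'⁻¹) := by rw [isConj_iff]; exact ⟨g', rfl⟩
      exact (h2.trans h1).trans h3.symm

end V4

section Dih

variable {X : Type*} [Group X] [Finite X] {K : ℕ} [NeZero K]
  (S : Sylow 2 X) (e : ↥(S : Subgroup X) ≃* DihedralGroup (4 * K))

theorem zz_comm (q : DihedralGroup (4 * K)) : zz S e * el S e q = el S e q * zz S e := by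
  unfold zz
  rw [← el_mul, ← el_mul]
  congr 1
  rcases q with i | i
  · rw [r_mul_r, r_mul_r, add_comm]
  · rw [r_mul_sr, sr_mul_r]
    congr 1
    have := zmod_half_add K
    linear_combination -this

theorem allConj_of (hza : IsConj (zz S e) (aa S e)) (hzb : IsConj (zz S e) (bb S e))
    (a b : X) (ha : orderOf a = 2) (hb : orderOf b = 2) : IsConj a b := by
  have key : ∀ t : X, orderOf t = 2 → IsConj (zz S e) t := by
    intro t ht
    rcases invol_G S e t ht with h | h | h
    · exact h
    · exact hza.trans h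
    · exact hzb.trans h
  exact (key a ha).symm.trans (key b hb)

/-- From index 6 for the four-group `⟨z, t⟩` (t a reflection) to `z ~ t`. -/
theorem conj_of_index (i : ZMod (4 * K))
    (hidx : ∀ U : Subgroup X, U ≤ S → IsKleinFour U → (Subgroup.centralizer (U : Set X)).relIndex (Subgroup.normalizer (U : Set X)) = 6) :
    IsConj (zz S e) (el S e (sr i)) := by
  have hK := K_pos (K := K)
  haveI : NeZero (4 * K) := ⟨by omega⟩
  set t := el S e (sr i) with ht
  have hzz2 : zz S e * zz S e = 1 := by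
    rw [← pow_two]; exact sq_of_orderOf (orderOf_zz S e)
  have ht2 : t * t = 1 := by
    rw [← pow_two]; apply sq_of_orderOf; rw [ht, orderOf_el]; exact orderOf_sr' _
  have hzt : zz S e * t = t * zz S e := zz_comm S e _
  have hz1 : zz S e ≠ 1 := ne_one_of_orderOf (orderOf_zz S e)
  have ht1 : t ≠ 1 := by
    apply ne_one_of_orderOf; rw [ht, orderOf_el]; exact orderOf_sr' _
  have hzt' : zz S e ≠ t := by
    intro h
    unfold zz at h
    exact absurd (el_inj S e h) (by simp)
  set U := kleinSub (zz S e) t hzz2 ht2 hzt with hU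
  have hU4 : Nat.card U = 4 := card_kleinSub _ _ _ _ _ hz1 ht1 hzt'
  have hU2 : ∀ x ∈ U, x ^ 2 = 1 := fun x hx => by
    rw [pow_two]; exact sq_eq_one_of_mem_kleinSub hx
  have hUS : U ≤ S := by
    intro x hx
    rcases mem_kleinSub.mp hx with rfl | rfl | rfl | rfl
    · exact one_mem _
    · exact el_mem S e _
    · exact el_mem S e _
    · exact mul_mem (el_mem S e _) (el_mem S e _)
  have h6 := hidx U hUS (isKleinFour_of U hU4 hU2)
  obtain ⟨n, hn, hne⟩ := exists_move U hU4 hU2 (by rw [h6]; norm_num) (zz S e)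
    (left_mem_kleinSub _ _ _ _ _) hz1
  have hmem : n * zz S e * n⁻¹ ∈ U := (mem_normalizer_iff.mp hn _).mp (left_mem_kleinSub _ _ _ _ _)
  have hconj : IsConj (zz S e) (n * zz S e * n⁻¹) := by rw [isConj_iff]; exact ⟨n, rfl⟩
  rcases mem_kleinSub.mp hmem with h | h | h | h
  · exfalso
    apply hz1
    have : zz S e = n⁻¹ * (n * zz S e * n⁻¹) * n := by group
    rw [this, h]; group
  · exact absurd h hne
  · rw [h] at hconj; exact hconj
  · rw [h] at hconj
    refine hconj.trans ?_
    apply IsConj.symm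
    rw [isConj_iff]
    refine ⟨el S e (r (K : ZMod (4 * K))), ?_⟩
    rw [ht, el_conj]
    unfold zz
    rw [← el_mul]
    congr 1
    rw [inv_r, r_mul_sr, sr_mul_r, r_mul_sr]
    congr 1
    have := zmod_half_even K
    linear_combination this

include e in
theorem dih_main (hcard : Nat.card S ≠ 4) :
    ((∀ H : Subgroup X, H.index ≠ 2) ∧ (∀ z : X, ¬ Cfsg.IsIsolatedInvolution z)) ↔ ((∀ a b : X, orderOf a = 2 → orderOf b = 2 → IsConj a b) ∨ (∀ U : Subgroup X, U ≤ S → IsKleinFour U → (Subgroup.centralizer (U : Set X)).relIndex (Subgroup.normalizer (U : Set X)) = (if Nat.card S = 4 then 3 else 6))) := by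
  have hA : (∀ a b : X, orderOf a = 2 → orderOf b = 2 → IsConj a b) →
      ((∀ H : Subgroup X, H.index ≠ 2) ∧ (∀ z : X, ¬ Cfsg.IsIsolatedInvolution z)) := by
    intro hall
    apply lhs_of_allConj S _ _ _ hall
    · intro z' hz' hz'2
      rcases invol_P S e hz' hz'2 with h | ⟨i, h⟩
      · refine ⟨aa S e, el_mem S e _, orderOf_aa S e, ?_, ?_⟩
        · rw [h]
          intro h'
          unfold aa zz at h'
          exact absurd (el_inj S e h') (by simp)
        · rw [h]; unfold aa; exact (zz_comm S e _).symm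
      · refine ⟨zz S e, el_mem S e _, orderOf_zz S e, ?_, ?_⟩
        · rw [h]
          intro h'
          unfold zz at h'
          exact absurd (el_inj S e h') (by simp)
        · rw [h]; exact zz_comm S e _
    · intro H hH
      exact P_le_of_mem S e H (hH _ (el_mem S e _) (orderOf_aa S e))
        (hH _ (el_mem S e _) (orderOf_bb S e))
    · exact ⟨zz S e, el_mem S e _, orderOf_zz S e⟩
  constructor
  · rintro ⟨hno, -⟩
    left
    have hza : IsConj (zz S e) (aa S e) := by
      by_contra h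
      obtain ⟨N, -, hN⟩ := Cfsg.Agent.S3864.exists_index_two S e (aa S e) (orderOf_aa S e) h
      exact hno N hN
    have hzb : IsConj (zz S e) (bb S e) := by
      by_contra h
      obtain ⟨N, -, hN⟩ := Cfsg.Agent.S3864.exists_index_two S e (bb S e) (orderOf_bb S e) h
      exact hno N hN
    exact allConj_of S e hza hzb
  · rintro (hall | hidx)
    · exact hA hall
    · apply hA
      have hidx' : ∀ U : Subgroup X, U ≤ S → IsKleinFour U → (Subgroup.centralizer (U : Set X)).relIndex (Subgroup.normalizer (U : Set X)) = 6 := by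
        intro U hU hU4
        have := hidx U hU hU4
        rwa [if_neg hcard] at this
      exact allConj_of S e (conj_of_index S e 0 hidx') (conj_of_index S e 1 hidx')

end Dih

/-- Let X be a finite group whose Sylow 2-subgroup S is dihedral of order 2m ≥ 4. Then X has no subgroup of index 2 and no isolated involution if and only if either all involutions of X are conjugate, or for every Klein four-subgroup U ≤ S the index |N_X(U) : C_X(U)| equals 3 when |S| = 4 and equals 6 when |S| > 4. -/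
theorem result {X : Type*} [Group X] [Finite X] (S : Sylow 2 X) (m : ℕ) (hm : 2 ≤ m) (eS : (S : Subgroup X) ≃* DihedralGroup m) : ((∀ H : Subgroup X, H.index ≠ 2) ∧ (∀ z : X, ¬ Cfsg.IsIsolatedInvolution z)) ↔ ((∀ a b : X, orderOf a = 2 → orderOf b = 2 → IsConj a b) ∨ (∀ U : Subgroup X, U ≤ S → IsKleinFour U → (Subgroup.centralizer (U : Set X)).relIndex (Subgroup.normalizer (U : Set X)) = (if Nat.card S = 4 then 3 else 6))) := by
  haveI : Fact (Nat.Prime 2) := ⟨Nat.prime_two⟩
  have hcardS : Nat.card (S : Subgroup X) = 2 * m := by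
    rw [Nat.card_congr eS.toEquiv, DihedralGroup.nat_card]
  obtain ⟨k, hk⟩ := S.isPGroup'.exists_card_eq
  have hkm : 2 * m = 2 ^ k := by rw [← hcardS, hk]
  have hk2 : 2 ≤ k := by
    by_contra hlt
    push_neg at hlt
    have : 2 ^ k ≤ 2 ^ 1 := Nat.pow_le_pow_right (by norm_num) (by omega)
    omega
  by_cases hk2' : k = 2
  · have hm2 : m = 2 := by rw [hk2'] at hkm; omega
    subst hm2
    have hS4 : Nat.card (S : Subgroup X) = 4 := by rw [hcardS]
    have hS2 : ∀ s ∈ (S : Subgroup X), s ^ 2 = 1 := by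
      intro s hs
      have h1 : ∀ q : DihedralGroup 2, q ^ 2 = 1 := by decide
      have h2 : (⟨s, hs⟩ : (S : Subgroup X)) ^ 2 = 1 := by
        apply eS.injective
        rw [map_pow, map_one]; exact h1 _
      exact congrArg Subtype.val h2
    exact v4_main S hS4 hS2
  · obtain ⟨j, rfl⟩ : ∃ j, k = j + 3 := ⟨k - 3, by omega⟩
    have hm4 : m = 4 * 2 ^ j := by
      have : 2 ^ (j + 3) = 2 * (4 * 2 ^ j) := by ring
      omega
    subst hm4
    haveI : NeZero (2 ^ j) := ⟨by positivity⟩
    apply dih_main S eS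
    show Nat.card (S : Subgroup X) ≠ 4
    rw [hcardS]
    have : 0 < 2 ^ j := by positivity
    omega

end Cfsg.Agent.S1255
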