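import Mathlib
import Cfsg.Statements.S1258

set_option autoImplicit false
open Cfsg
open scoped commutatorElement

namespace Cfsg.Agent.S1258

lemma comm_central {X : Type*} [Group X] (h₁ h₂ z₁ z₂ : X)
    (hz₁' : ∀ g, g * z₁ = z₁ * g) (hz₂' : ∀ g, g * z₂ = z₂ * g) :
    ⁅h₁ * z₁, h₂ * z₂⁆ = ⁅h₁, h₂⁆ := by
  have c6 : ∀ g, g * z₁⁻¹ = z₁⁻¹ * g := fun g => ((show Commute g z₁ from hz₁' g).inv_right).eq
  have c7 : ∀ g, g * z₂⁻¹ = z₂⁻¹ * g := fun g => ((show Commute g z₂ from hz₂' g).inv_right).eq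
  rw [commutatorElement_def, commutatorElement_def, mul_inv_rev, mul_inv_rev]
  calc h₁ * z₁ * (h₂ * z₂) * (z₁⁻¹ * h₁⁻¹) * (z₂⁻¹ * h₂⁻¹)
      = h₁ * z₁ * (h₂ * z₂) * z₁⁻¹ * h₁⁻¹ * z₂⁻¹ * h₂⁻¹ := by simp only [mul_assoc]
    _ = z₁⁻¹ * (h₁ * z₁ * (h₂ * z₂)) * h₁⁻¹ * z₂⁻¹ * h₂⁻¹ := by rw [c6]
    _ = z₁⁻¹ * (z₁ * h₁ * (h₂ * z₂)) * h₁⁻¹ * z₂⁻¹ * h₂⁻¹ := by rw [hz₁' h₁]
    _ = h₁ * (h₂ * z₂) * h₁⁻¹ * z₂⁻¹ * h₂⁻¹ := by simp only [mul_assoc, inv_mul_cancel_left]
    _ = z₂⁻¹ * (h₁ * (h₂ * z₂) * h₁⁻¹) * h₂⁻¹ := by rw [c7]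
    _ = z₂⁻¹ * (h₁ * (z₂ * h₂) * h₁⁻¹) * h₂⁻¹ := by rw [hz₂' h₂]
    _ = z₂⁻¹ * (z₂ * h₁ * h₂ * h₁⁻¹) * h₂⁻¹ := by rw [← mul_assoc h₁ z₂ h₂, hz₂' h₁]
    _ = h₁ * h₂ * h₁⁻¹ * h₂⁻¹ := by simp only [mul_assoc, inv_mul_cancel_left]

/-- If `H ⊔ Z(X) = ⊤` then `X' ≤ ⁅H, H⁆`. -/
lemma commutator_le_of_sup_center {X : Type*} [Group X] (H : Subgroup X)
    (hsup : H ⊔ Subgroup.center X = ⊤) : commutator X ≤ ⁅H, H⁆ := by
  rw [commutator_def, ← hsup, Subgroup.commutator_le]
  intro g₁ hg₁ g₂ hg₂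
  rw [← SetLike.mem_coe, Subgroup.mul_normal, Set.mem_mul] at hg₁ hg₂
  obtain ⟨h₁, hh₁, z₁, hz₁, rfl⟩ := hg₁
  obtain ⟨h₂, hh₂, z₂, hz₂, rfl⟩ := hg₂
  have hz₁' : z₁ ∈ Subgroup.center X := hz₁
  have hz₂' : z₂ ∈ Subgroup.center X := hz₂
  rw [Subgroup.mem_center_iff] at hz₁' hz₂'
  rw [comm_central h₁ h₂ z₁ z₂ hz₁' hz₂']
  exact Subgroup.commutator_mem_commutator hh₁ hh₂

/-- If the central quotient of a finite group X is non-abelian simple, then X = X' Z(X) and the commutator subgroup X' is quasisimple. -/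
theorem result {X : Type*} [Group X] [Finite X] (hs : IsSimpleGroup (X ⧸ Subgroup.center X)) (hna : ¬ IsMulCommutative (X ⧸ Subgroup.center X)) : commutator X ⊔ Subgroup.center X = ⊤ ∧ Cfsg.IsQuasisimple ↥(commutator X) := by
  have hsurj : Function.Surjective (QuotientGroup.mk' (Subgroup.center X)) :=
    QuotientGroup.mk'_surjective _
  -- Step 1
  have hsup : commutator X ⊔ Subgroup.center X = ⊤ := by
    have hmap : (commutator X).map (QuotientGroup.mk' (Subgroup.center X))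
        = commutator (X ⧸ Subgroup.center X) := by
      rw [commutator_def, Subgroup.map_commutator, Subgroup.map_top_of_surjective _ hsurj,
        commutator_def]
    have hnorm : (commutator (X ⧸ Subgroup.center X)).Normal := inferInstance
    rcases hnorm.eq_bot_or_eq_top with hbot | htop
    · exfalso
      apply hna
      rw [commutator_def, Subgroup.commutator_eq_bot_iff_le_centralizer] at hbot
      refine ⟨⟨fun a b => ?_⟩⟩
      have := hbot (Subgroup.mem_top a)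
      rw [Subgroup.mem_centralizer_iff] at this
      exact (this b (Subgroup.mem_top b)).symm
    · have := Subgroup.comap_map_eq (QuotientGroup.mk' (Subgroup.center X)) (commutator X)
      rw [hmap, htop, Subgroup.comap_top, QuotientGroup.ker_mk'] at this
      exact this.symm
  refine ⟨hsup, ?_, ?_⟩
  · -- perfect
    rw [Subgroup.isPerfect_iff]
    apply le_antisymm
    · have h1 : ⁅commutator X, commutator X⁆ ≤ ⁅(⊤ : Subgroup X), ⊤⁆ :=
        Subgroup.commutator_mono le_top le_top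
      rwa [← commutator_def] at h1
    · exact commutator_le_of_sup_center _ hsup
  · -- simple central quotient
    set C := commutator X with hC
    let f : ↥C →* X ⧸ Subgroup.center X := (QuotientGroup.mk' (Subgroup.center X)).comp C.subtype
    have hfsurj : Function.Surjective f := by
      intro q
      obtain ⟨x, rfl⟩ := hsurj q
      have hx : x ∈ C ⊔ Subgroup.center X := hsup ▸ Subgroup.mem_top x
      rw [← SetLike.mem_coe, Subgroup.mul_normal, Set.mem_mul] at hx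
      obtain ⟨c, hc, z, hz, rfl⟩ := hx
      refine ⟨⟨c, hc⟩, ?_⟩
      simp only [f, MonoidHom.comp_apply, Subgroup.coe_subtype, QuotientGroup.mk'_apply]
      rw [QuotientGroup.eq]
      simpa using hz
    have hker : f.ker = Subgroup.center ↥C := by
      ext g
      rw [MonoidHom.mem_ker, Subgroup.mem_center_iff]
      simp only [f, MonoidHom.comp_apply, Subgroup.coe_subtype, QuotientGroup.mk'_apply,
        QuotientGroup.eq_one_iff]
      constructor
      · intro hg c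
        rw [Subgroup.mem_center_iff] at hg
        exact Subtype.ext (hg c)
      · intro hg
        rw [Subgroup.mem_center_iff]
        intro x
        have hx : x ∈ C ⊔ Subgroup.center X := hsup ▸ Subgroup.mem_top x
        rw [← SetLike.mem_coe, Subgroup.mul_normal, Set.mem_mul] at hx
        obtain ⟨c, hc, z, hz, rfl⟩ := hx
        have hz' : z ∈ Subgroup.center X := hz
        rw [Subgroup.mem_center_iff] at hz'
        have h1 : c * (g : X) = (g : X) * c := congrArg Subtype.val (hg ⟨c, hc⟩)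
        calc c * z * (g : X) = c * ((g : X) * z) := by rw [mul_assoc, ← hz' (g : X)]
          _ = (g : X) * (c * z) := by rw [← mul_assoc, h1, mul_assoc]
    have e1 : ↥C ⧸ f.ker ≃* X ⧸ Subgroup.center X :=
      QuotientGroup.quotientKerEquivOfSurjective f hfsurj
    have e2 : ↥C ⧸ f.ker ≃* ↥C ⧸ Subgroup.center ↥C := QuotientGroup.quotientMulEquivOfEq hker
    exact (e2.symm.trans e1).isSimpleGroup

end Cfsg.Agent.S1258
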