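import Cfsg.Statements.S1264
import Cfsg.Agent.Lib.Helper3_Components
import Cfsg.Agent.S1265
import Cfsg.Agent.Lib.Lead_Coprime

set_option autoImplicit false
open Cfsg

namespace Cfsg.Agent.S1264

open scoped commutatorElement

theorem comm_step1 {G : Type*} [Group G] (d z y : G) (h : z * y = y * z) :
    ⁅d * z, y⁆ = ⁅d, y⁆ := by
  rw [commutatorElement_def, commutatorElement_def]
  have h1 : z * y * z⁻¹ = y := by rw [h]; group
  calc d * z * y * (d * z)⁻¹ * y⁻¹ = d * (z * y * z⁻¹) * d⁻¹ * y⁻¹ := by group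
    _ = d * y * d⁻¹ * y⁻¹ := by rw [h1]

theorem comm_step2 {G : Type*} [Group G] (d d' z' : G) (h : z' * d = d * z') :
    ⁅d, d' * z'⁆ = ⁅d, d'⁆ := by
  rw [commutatorElement_def, commutatorElement_def]
  have h1 : z' * d⁻¹ * z'⁻¹ = d⁻¹ := by
    have : z' * d⁻¹ = d⁻¹ * z' := by
      calc z' * d⁻¹ = d⁻¹ * (d * z') * d⁻¹ := by group
        _ = d⁻¹ * (z' * d) * d⁻¹ := by rw [h]
        _ = d⁻¹ * z' := by group
    rw [this]; group
  calc d * (d' * z') * d⁻¹ * (d' * z')⁻¹ = d * d' * (z' * d⁻¹ * z'⁻¹) * d'⁻¹ := by group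
    _ = d * d' * d⁻¹ * d'⁻¹ := by rw [h1]

/-- Let G be finite, C = C_G(F(G)) the centralizer of the Fitting subgroup, and N a solvable subgroup of C normalized by C. Then N ≤ Z(F(G)). -/
theorem result {G : Type*} [Group G] [Finite G] (N : Subgroup G) (hN : N ≤ Subgroup.centralizer (Cfsg.fittingSubgroup G : Set G)) (hnorm : Subgroup.centralizer (Cfsg.fittingSubgroup G : Set G) ≤ Subgroup.normalizer (N : Set G)) (hsolv : Group.IsSolvable ↥N) : N ≤ (Subgroup.center ↥(Cfsg.fittingSubgroup G)).map (Cfsg.fittingSubgroup G).subtype := by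
  classical
  haveI hFn : (Cfsg.fittingSubgroup G).Normal := Cfsg.Agent.S1265.fitting_normal G
  set F := Cfsg.fittingSubgroup G with hF
  set C := Subgroup.centralizer (F : Set G) with hC
  haveI hCn : C.Normal := inferInstance
  set Z := (Subgroup.center ↥F).map F.subtype with hZ
  have hZF : Z ≤ F := Subgroup.map_subtype_le _
  have hZn : Z.Normal := ConjAct.normal_of_characteristic_of_normal
  have hFCZ : F ⊓ C ≤ Z := by
    rintro x ⟨hxF, hxC⟩
    have hxF' : x ∈ F := hxF
    have hxC' : x ∈ C := hxC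
    refine ⟨⟨x, hxF'⟩, ?_, rfl⟩
    show (⟨x, hxF'⟩ : ↥F) ∈ Subgroup.center ↥F
    rw [Subgroup.mem_center_iff]
    intro y
    apply Subtype.ext
    exact Subgroup.mem_centralizer_iff.mp hxC' y y.2
  have hZC : Z ≤ C := by
    rintro _ ⟨x, hx, rfl⟩
    rw [hC, Subgroup.mem_centralizer_iff]
    intro y hy
    have := Subgroup.mem_center_iff.mp hx ⟨y, hy⟩
    exact congrArg Subtype.val this
  -- the derived series of N inside G
  set D : ℕ → Subgroup G := fun i => (derivedSeries ↥N i).map N.subtype with hD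
  have hD0 : D 0 = N := by
    simp only [hD, derivedSeries_zero]
    rw [← MonoidHom.range_eq_map, Subgroup.range_subtype]
  have hDN : ∀ i, D i ≤ N := fun i => Subgroup.map_subtype_le _
  have hDsucc : ∀ i, D (i + 1) = ⁅D i, D i⁆ := by
    intro i
    simp only [hD, derivedSeries_succ, Subgroup.map_commutator]
  have hDnorm : ∀ i, ∀ c ∈ C, ∀ x ∈ D i, c * x * c⁻¹ ∈ D i := by
    intro i c hc x hx
    exact Cfsg.Agent.Lib.Lead_Coprime.conj_mem_char_map (derivedSeries ↥N i) (hnorm hc) hx
  obtain ⟨k, hk⟩ := (isSolvable_def ↥N).mp hsolv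
  have hDk : D k = ⊥ := by
    simp only [hD, hk, Subgroup.map_bot]
  have key : ∀ i, D (i + 1) ≤ Z → D i ≤ Z := by
    intro i hi
    set A := D i ⊔ Z with hA
    have hAC : A ≤ C := sup_le ((hDN i).trans hN) hZC
    -- elements of Z commute with elements of A
    have hZA : ∀ z ∈ Z, ∀ a ∈ A, z * a = a * z := by
      intro z hz a ha
      exact (Subgroup.mem_centralizer_iff.mp (hAC ha) z (hZF hz))
    -- commutators of A lie in Z
    have hcomm : ∀ x ∈ A, ∀ y ∈ A, ⁅x, y⁆ ∈ Z := by
      intro x hx y hy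
      have hx' : x ∈ ((D i ⊔ Z : Subgroup G) : Set G) := hx
      have hy' : y ∈ ((D i ⊔ Z : Subgroup G) : Set G) := hy
      rw [Subgroup.mul_normal] at hx' hy'
      obtain ⟨d, hd, z, hz, rfl⟩ := Set.mem_mul.mp hx'
      obtain ⟨d', hd', z', hz', rfl⟩ := Set.mem_mul.mp hy'
      rw [comm_step1 d z (d' * z') (hZA z hz _ hy),
        comm_step2 d d' z' (hZA z' hz' d (Subgroup.mem_sup_left hd))]
      apply hi
      rw [hDsucc]
      exact Subgroup.commutator_mem_commutator hd hd'
    -- A is nilpotent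
    have hnil : Group.IsNilpotent ↥A := by
      apply Cfsg.Agent.S1265.nilpotent_of_commutator_le_center
      rw [commutator_def, Subgroup.commutator_le]
      intro x _ y _
      rw [Subgroup.mem_center_iff]
      intro w
      apply Subtype.ext
      have h1 : ((⁅x, y⁆ : ↥A) : G) = ⁅(x : G), (y : G)⁆ := by
        simp [commutatorElement_def]
      have h2 := hZA _ (hcomm x x.2 y y.2) w w.2
      show (w : G) * ((⁅x, y⁆ : ↥A) : G) = ((⁅x, y⁆ : ↥A) : G) * (w : G)
      rw [h1]; exact h2.symm
    -- A is subnormal in G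
    have hAsub : A.IsSubnormal := by
      have hAn : (A.subgroupOf C).Normal := by
        constructor
        intro a ha c
        rw [Subgroup.mem_subgroupOf] at ha ⊢
        have ha' : (a : G) ∈ ((D i ⊔ Z : Subgroup G) : Set G) := ha
        rw [Subgroup.mul_normal] at ha'
        obtain ⟨d, hd, z, hz, hdz⟩ := Set.mem_mul.mp ha'
        have e : ((c * a * c⁻¹ : ↥C) : G) = ((c : G) * d * (c : G)⁻¹) * ((c : G) * z * (c : G)⁻¹) := by
          push_cast
          rw [← hdz]; group
        rw [e]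
        exact Subgroup.mul_mem _ (Subgroup.mem_sup_left (hDnorm i c c.2 d hd))
          (Subgroup.mem_sup_right (hZn.conj_mem z hz c))
      exact Subgroup.IsSubnormal.trans hAC hAn.isSubnormal hCn.isSubnormal
    have hAF : A ≤ F := (Cfsg.Agent.S3743.result A hAsub).1 hnil
    exact le_sup_left.trans ((le_inf hAF hAC).trans hFCZ)
  have hall : ∀ j, j ≤ k → D (k - j) ≤ Z := by
    intro j
    induction j with
    | zero => intro _; rw [Nat.sub_zero, hDk]; exact bot_le
    | succ j ih =>
      intro hj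
      apply key
      have : k - (j + 1) + 1 = k - j := by omega
      rw [this]
      exact ih (by omega)
  have := hall k le_rfl
  rw [Nat.sub_self, hD0] at this
  exact this

end Cfsg.Agent.S1264
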