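import Cfsg.Statements.S1267
import Cfsg.Agent.Lib.Helper3_Components
import Cfsg.Agent.Lib.Helper5_AxB
import Cfsg.Agent.Lib.Helper5_Residual
import Cfsg.Agent.Lib.Helper4_PCore

set_option autoImplicit false
open Cfsg

namespace Cfsg.Agent.S1267

open Cfsg.Agent.Lib.Helper3_Components Cfsg.Agent.Lib.Helper4_PCore

/-- a perfect finite group is generated by its `p'`-elements -/
theorem perfect_closure_pprime {A : Type*} [Group A] [Finite A] [Group.IsPerfect A] (p : ℕ)
    [Fact p.Prime] : Subgroup.closure {x : A | (orderOf x).Coprime p} = ⊤ := by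
  set R := Subgroup.closure {x : A | (orderOf x).Coprime p} with hR
  haveI hRn : R.Normal := by
    apply Cfsg.Agent.Lib.Helper5_Residual.closure_normal_of_conj_invariant
    intro n hn g
    show (orderOf (g * n * g⁻¹)).Coprime p
    have := (MulAut.conj g).orderOf_eq n
    simp only [MulAut.conj_apply] at this
    rw [this]; exact hn
  have hp : IsPGroup p (A ⧸ R) :=
    Cfsg.Agent.Lib.Helper5_Residual.isPGroup_quotient_of_coprime_mem p R
      (fun g hg => Subgroup.subset_closure hg)
  by_contra hne
  haveI : Nontrivial (A ⧸ R) := by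
    by_contra hnt
    rw [not_nontrivial_iff_subsingleton] at hnt
    exact hne (QuotientGroup.subgroup_eq_top_of_subsingleton R hnt)
  haveI : Group.IsNilpotent (A ⧸ R) := hp.isNilpotent
  exact Group.IsPerfect.not_isSolvable (A ⧸ R) inferInstance

/-- Let G be finite and P ≤ O_p(G). Then E(N_G(P)) = E(G). -/
theorem result {G : Type*} [Group G] [Finite G] (p : ℕ) [Fact p.Prime] (P : Subgroup G) (hP : P ≤ Cfsg.pCore p G) : (Cfsg.layer ↥(Subgroup.normalizer ((P : Subgroup G) : Set G))).map (Subgroup.normalizer ((P : Subgroup G) : Set G)).subtype = Cfsg.layer G := by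
  classical
  haveI hQn : (Cfsg.pCore p G).Normal := pCore_normal p G
  have hQp : IsPGroup p ↥(Cfsg.pCore p G) := pCore_isPGroup
  set Q := Cfsg.pCore p G with hQ
  set N := Subgroup.normalizer ((P : Subgroup G) : Set G) with hN
  have hPN : P ≤ N := Subgroup.le_normalizer
  have hQsolv : Group.IsSolvable ↥Q := by
    haveI : Group.IsNilpotent ↥Q := hQp.isNilpotent
    infer_instance
  have hCQN : Subgroup.centralizer (Q : Set G) ≤ N := by
    intro x hx
    apply Subgroup.centralizer_le_normalizer
    rw [Subgroup.mem_centralizer_iff] at hx ⊢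
    intro y hy
    exact hx y (hP hy)
  apply le_antisymm
  · -- components of N are components of G
    rw [Subgroup.map_le_iff_le_comap]
    apply sSup_le
    intro L' hL'
    rw [← Subgroup.map_le_iff_le_comap]
    set L := L'.map N.subtype with hL
    have hLN : L ≤ N := Subgroup.map_subtype_le _
    -- L centralizes Q ⊓ N
    have hQNn : ((Q ⊓ N).subgroupOf N).Normal := by
      haveI : (Q.subgroupOf N).Normal := inferInstance
      rw [Subgroup.inf_subgroupOf_right]; infer_instance
    have hQNsolv : Group.IsSolvable ↥((Q ⊓ N).subgroupOf N) := by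
      have hle : Q ⊓ N ≤ Q := inf_le_left
      have e := (Subgroup.subgroupOfEquivOfLe (inf_le_right : Q ⊓ N ≤ N))
      haveI : Group.IsSolvable ↥(Q ⊓ N) :=
        Group.isSolvable_of_isSolvable_injective (f := Subgroup.inclusion hle)
          (Subgroup.inclusion_injective hle)
      exact Group.isSolvable_of_isSolvable_injective (f := e.toMonoidHom) e.injective
    have h1 := component_commute_solvable_subnormal L' ((Q ⊓ N).subgroupOf N) hL'
      hQNn.isSubnormal hQNsolv
    have h2 : ⁅L, Q ⊓ N⁆ = ⊥ := by
      apply commutator_eq_bot_of_subgroupOf L (Q ⊓ N) N hLN inf_le_right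
      have e : L.subgroupOf N = L' := by
        rw [hL]
        unfold Subgroup.subgroupOf
        exact Subgroup.comap_map_eq_self_of_injective N.subtype_injective L'
      rw [e]; exact h1
    -- p'-elements of L centralize Q
    have h3 : ∀ a ∈ L, (orderOf a).Coprime p → a ∈ Subgroup.centralizer (Q : Set G) := by
      intro a ha hcop
      have hnormQ : ∀ Y : Subgroup G, Y ≤ Subgroup.normalizer ((Q : Subgroup G) : Set G) := by
        intro Y
        rw [Subgroup.normalizer_eq_top_iff.mpr hQn]; exact le_top
      have hA : ∀ x ∈ Subgroup.zpowers a, (orderOf x).Coprime p := by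
        intro x hx
        exact Nat.Coprime.coprime_dvd_left (orderOf_dvd_of_mem_zpowers hx) hcop
      have hacent : ∀ y ∈ Q ⊓ N, a * y = y * a := fun y hy =>
        commute_of_commutator_eq_bot h2 ha hy
      have hAB : Subgroup.zpowers a ≤ Subgroup.centralizer (P : Set G) := by
        rw [Subgroup.zpowers_le, Subgroup.mem_centralizer_iff]
        intro y hy
        exact (hacent y ⟨hP hy, hPN hy⟩).symm
      have h4 := Cfsg.Agent.Lib.Helper5_AxB.thompson_AxB (p := p) (Subgroup.zpowers a) P hA
        (hQp.to_le hP) hAB Q hQp (hnormQ _) (hnormQ _) (by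
          intro y hy
          rw [Subgroup.mem_centralizer_iff]
          intro x hx
          obtain ⟨k, rfl⟩ := Subgroup.mem_zpowers_iff.mp hx
          have hyN : y ∈ N := Subgroup.centralizer_le_normalizer _ hy.2
          have hc : Commute a y := hacent y ⟨hy.1, hyN⟩
          exact (hc.zpow_left k))
      rw [Subgroup.mem_centralizer_iff]
      intro y hy
      exact (Subgroup.mem_centralizer_iff.mp (h4 hy) a (Subgroup.mem_zpowers a)).symm
    -- hence L centralizes Q
    have h5 : L ≤ Subgroup.centralizer (Q : Set G) := by
      haveI : Group.IsPerfect ↥L' := hL'.2.1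
      have hgen := perfect_closure_pprime (A := ↥L') p
      rintro _ ⟨x, hx, rfl⟩
      have hx' : (⟨x, hx⟩ : ↥L') ∈ Subgroup.closure {x : ↥L' | (orderOf x).Coprime p} := by
        rw [hgen]; trivial
      have hle : Subgroup.closure {x : ↥L' | (orderOf x).Coprime p} ≤
          (Subgroup.centralizer (Q : Set G)).comap (N.subtype.comp L'.subtype) := by
        rw [Subgroup.closure_le]
        intro y hy
        show ((y : ↥N) : G) ∈ Subgroup.centralizer (Q : Set G)
        apply h3
        · exact ⟨(y : ↥N), y.2, rfl⟩
        · rw [Subgroup.orderOf_coe, Subgroup.orderOf_coe]; exact hy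
      exact hle hx'
    -- L is subnormal in G
    set CQ := Subgroup.centralizer (Q : Set G) with hCQ
    haveI hCQn : CQ.Normal := inferInstance
    have hsub : L.IsSubnormal := by
      have h6 : (L'.comap (Subgroup.inclusion hCQN)).IsSubnormal := hL'.1.comap _
      have e : L'.comap (Subgroup.inclusion hCQN) = L.subgroupOf CQ := by
        ext x
        rw [Subgroup.mem_comap, Subgroup.mem_subgroupOf, hL]
        constructor
        · intro hx
          exact ⟨_, hx, rfl⟩
        · rintro ⟨y, hy, hyx⟩
          have : y = Subgroup.inclusion hCQN x := Subtype.ext hyx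
          rwa [← this]
      rw [e] at h6
      exact Subgroup.IsSubnormal.trans h5 h6 hCQn.isSubnormal
    apply le_sSup
    exact ⟨hsub, Cfsg.Agent.S1754.quasisimple_of_equiv
      (L'.equivMapOfInjective _ N.subtype_injective) hL'.2⟩
  · -- components of G are components of N
    apply sSup_le
    intro L hL
    have h1 : ⁅L, Q⁆ = ⊥ := component_commute_solvable_subnormal L Q hL hQn.isSubnormal hQsolv
    have hLN : L ≤ N := by
      intro l hl
      apply hCQN
      rw [Subgroup.mem_centralizer_iff]
      intro y hy
      exact (commute_of_commutator_eq_bot h1 hl hy).symm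
    have h2 : Cfsg.IsComponent (L.subgroupOf N) := component_subgroupOf L N hL hLN
    have h3 : L.subgroupOf N ≤ Cfsg.layer ↥N := le_sSup h2
    intro l hl
    exact ⟨⟨l, hLN hl⟩, h3 (Subgroup.mem_subgroupOf.mpr hl), rfl⟩

end Cfsg.Agent.S1267
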