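import Cfsg.Statements.S1269
import Cfsg.Agent.Lib.Helper3_LBal2
import Cfsg.Agent.Lib.Helper3_PComp4

set_option autoImplicit false
open Cfsg

namespace Cfsg.Agent.S1269

/-- Let G be finite with O_{p'}(G) = 1, P a p-subgroup, N = N_G(P), and x an element of the preimage in N of E(N / O_{p'}(N)). Then x normalizes every component L of G. -/
theorem result {G : Type*} [Group G] [Finite G] (p : ℕ) [Fact p.Prime] (hO : Cfsg.pPrimeCore p G = ⊥) (P : Subgroup G) (hP : IsPGroup p ↥P) (L : Subgroup G) (hL : Cfsg.IsComponent L) (x : G) (hx : x ∈ (((Cfsg.layer (↥(Subgroup.normalizer ((P : Subgroup G) : Set G)) ⧸ Cfsg.pPrimeCore p ↥(Subgroup.normalizer ((P : Subgroup G) : Set G)))).comap (QuotientGroup.mk' (Cfsg.pPrimeCore p ↥(Subgroup.normalizer ((P : Subgroup G) : Set G))))).map (Subgroup.normalizer ((P : Subgroup G) : Set G)).subtype)) : L.map (MulAut.conj x).toMonoidHom = L := by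
  classical
  haveI hDn : (Cfsg.pPrimeCore p G).Normal := Cfsg.Agent.Lib.Helper5_PPrime.pPrimeCore_normal p G
  obtain ⟨x', hx', rfl⟩ := hx
  have hLD : ¬ L ≤ Cfsg.pPrimeCore p G := by
    rw [hO]
    intro hle
    haveI := Cfsg.Agent.Lib.Helper3_Components.quasisimple_nontrivial hL.2
    obtain ⟨a, ha⟩ := exists_ne (1 : ↥L)
    apply ha
    apply Subtype.ext
    exact Subgroup.mem_bot.mp (hle a.2)
  have hK := Cfsg.Agent.Lib.Helper3_PComp4.component_map_core p hL hLD
  have hn := Cfsg.Agent.Lib.Helper3_LBal2.layerPre_image_normalizes p P hP _ hK x' hx'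
  have hxN : ((Subgroup.normalizer (P : Set G)).subtype x') ∈ Subgroup.normalizer (L : Set G) := by
    apply Cfsg.Agent.S1960.mem_normalizer_of_conj_le'
    intro a ha
    have h1 := (Subgroup.mem_normalizer_iff.mp hn (QuotientGroup.mk' (Cfsg.pPrimeCore p G) a)).mp
      (Subgroup.mem_map_of_mem _ ha)
    obtain ⟨l, hl, hle⟩ := h1
    have h2 : QuotientGroup.mk' (Cfsg.pPrimeCore p G) (l⁻¹ * ((x' : G) * a * (x' : G)⁻¹)) = 1 := by
      rw [map_mul, map_inv, hle, map_mul, map_mul, map_inv]; group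
    rw [QuotientGroup.mk'_apply, QuotientGroup.eq_one_iff, hO, Subgroup.mem_bot] at h2
    have h3 : (x' : G) * a * (x' : G)⁻¹ = l := by
      have : (x' : G) * a * (x' : G)⁻¹ = l * (l⁻¹ * ((x' : G) * a * (x' : G)⁻¹)) := by group
      rw [this, h2, mul_one]
    show (x' : G) * a * (x' : G)⁻¹ ∈ L
    rw [h3]; exact hl
  exact Cfsg.Agent.Lib.Helper3_LBal.mem_normalizer_iff_cj.mp hxN

end Cfsg.Agent.S1269
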