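import Cfsg.Statements.S1276
import Cfsg.Agent.Lib.Helper3_PComp

set_option autoImplicit false
open Cfsg

namespace Cfsg.Agent.S1276

/-- Let K be a 2-component of the finite group X. Then K is quasisimple if and only if ⁅K, O(K)⁆ = 1. -/
theorem result {X : Type*} [Group X] [Finite X] (K : Subgroup X) (hK : Cfsg.IsPComponent 2 K) : Cfsg.IsQuasisimple ↥K ↔ ⁅K, ((Cfsg.oddCore ↥K).map K.subtype)⁆ = ⊥ := by
  classical
  haveI : Fact (Nat.Prime 2) := ⟨Nat.prime_two⟩
  have hOn : (Cfsg.oddCore ↥K).Normal := Cfsg.pPrimeCore_normal 2 ↥K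
  have hcent : ⁅K, ((Cfsg.oddCore ↥K).map K.subtype)⁆ = ⊥ ↔ Cfsg.oddCore ↥K ≤ Subgroup.center ↥K := by
    rw [Subgroup.commutator_eq_bot_iff_le_centralizer]
    constructor
    · intro h o ho
      rw [Subgroup.mem_center_iff]
      intro k
      apply Subtype.ext
      have h1 := h k.2
      rw [Subgroup.mem_centralizer_iff] at h1
      exact (h1 (o : X) ⟨o, ho, rfl⟩).symm
    · intro h k hk
      rw [Subgroup.mem_centralizer_iff]
      rintro _ ⟨o, ho, rfl⟩
      have h1 := Subgroup.mem_center_iff.mp (h ho) ⟨k, hk⟩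
      exact (congrArg Subtype.val h1).symm
  rw [hcent]
  constructor
  · intro hq
    rcases Cfsg.Agent.S1259.result hq (Cfsg.oddCore ↥K) hOn.isSubnormal with h | h
    · exfalso
      have h1 : (Nat.card ↥(Cfsg.oddCore ↥K)).Coprime 2 :=
        Cfsg.Agent.Lib.Helper5_PPrime.pPrimeCore_coprime 2 ↥K
      rw [h, Subgroup.card_top] at h1
      have h2 := Cfsg.Agent.Lib.Helper3_PComp.pc_dvd_card 2 hK
      exact (Nat.Prime.coprime_iff_not_dvd Nat.prime_two).mp h1.symm h2
    · exact h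
  · intro h
    haveI : Group.IsPerfect ↥K :=
      Subgroup.isPerfect_iff.mpr (Cfsg.Agent.Lib.Helper3_PComp.pc_perfect 2 hK)
    exact Cfsg.Agent.Lib.Helper3_PComp.quasisimple_of_central_quotient (Cfsg.oddCore ↥K) h
      (Cfsg.Agent.Lib.Helper3_PComp.pc_quotient_quasisimple 2 hK)

end Cfsg.Agent.S1276
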