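import Cfsg.Statements.S1277
import Cfsg.Agent.Lib.Helper3_PComp4
import Cfsg.Agent.S1272

set_option autoImplicit false
open Cfsg

namespace Cfsg.Agent.S1277

/-- For a finite group X with core O(X): the image of E(X) in X / O(X) is all of E(X / O(X)) if and only if every 2-component of X is a component, i.e. L_{2'}(X) ≤ E(X). -/
theorem result {X : Type*} [Group X] [Finite X] : (Cfsg.layer X).map (QuotientGroup.mk' (Cfsg.oddCore X)) = Cfsg.layer (X ⧸ Cfsg.oddCore X) ↔ Cfsg.pLayer 2 X ≤ Cfsg.layer X := by
  classical
  haveI : Fact (Nat.Prime 2) := ⟨Nat.prime_two⟩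
  set π := QuotientGroup.mk' (Cfsg.oddCore X) with hπ
  -- the image of the layer lies in the layer of the quotient
  have hle : (Cfsg.layer X).map π ≤ Cfsg.layer (X ⧸ Cfsg.oddCore X) := by
    rw [Subgroup.map_le_iff_le_comap]
    apply sSup_le
    intro L hL
    rw [← Subgroup.map_le_iff_le_comap]
    by_cases hLD : L ≤ Cfsg.pPrimeCore 2 X
    · rintro _ ⟨l, hl, rfl⟩
      have : π l = 1 := (QuotientGroup.eq_one_iff l).mpr (hLD hl)
      rw [this]; exact Subgroup.one_mem _
    · exact le_sSup (Cfsg.Agent.Lib.Helper3_PComp4.component_map_core 2 hL hLD)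
  have h2 := (Cfsg.Agent.S1272.result (X := X) 2).2
  constructor
  · intro h
    apply sSup_le
    intro K hK
    have hKbar := hK.2.1
    -- the image of K is the image of some component of X
    have hex : ∃ L : Subgroup X, Cfsg.IsComponent L ∧ ¬ L ≤ Cfsg.pPrimeCore 2 X ∧
        L.map π = K.map π := by
      by_contra hno
      push Not at hno
      have hcent : (Cfsg.layer X).map π ≤ Subgroup.centralizer ((K.map π : Subgroup _) : Set _) := by
        rw [Subgroup.map_le_iff_le_comap]
        apply sSup_le
        intro L hL
        rw [← Subgroup.map_le_iff_le_comap]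
        by_cases hLD : L ≤ Cfsg.pPrimeCore 2 X
        · rintro _ ⟨l, hl, rfl⟩
          have : π l = 1 := (QuotientGroup.eq_one_iff l).mpr (hLD hl)
          rw [this]; exact Subgroup.one_mem _
        · have hLbar := Cfsg.Agent.Lib.Helper3_PComp4.component_map_core 2 hL hLD
          have hne : L.map π ≠ K.map π := hno L hL hLD
          have := Cfsg.Agent.Lib.Helper3_Components.components_commute _ _ hLbar hKbar hne
          rw [Subgroup.commutator_eq_bot_iff_le_centralizer] at this
          exact this
      have hKle : K.map π ≤ (Cfsg.layer X).map π := by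
        rw [h]; exact le_sSup hKbar
      apply Cfsg.Agent.Lib.Helper3_Components.component_not_le_center _ hKbar
      intro y _
      rw [Subgroup.mem_center_iff]
      intro z
      apply Subtype.ext
      have := hcent (hKle y.2)
      rw [Subgroup.mem_centralizer_iff] at this
      exact this z z.2
    obtain ⟨L, hL, hLD, hLK⟩ := hex
    have hLpc := Cfsg.Agent.Lib.Helper3_PComp4.component_isPComponent 2 hL hLD
    have : K = L := Cfsg.Agent.Lib.Helper3_PComp2.pc_unique 2 hK hLpc hLK.symm
    rw [this]
    exact le_sSup hL
  · intro h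
    apply le_antisymm hle
    have h3 : (Cfsg.pLayer 2 X).map π ≤ (Cfsg.layer X).map π := Subgroup.map_mono h
    rw [← h2]
    exact h3

end Cfsg.Agent.S1277
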