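import Cfsg.Statements.S1278
import Cfsg.Agent.Lib.Helper3_PComp3
import Cfsg.Agent.S1276

set_option autoImplicit false
open Cfsg

namespace Cfsg.Agent.S1278

/-- Let K ≠ L be 2-components of the finite group X. Then ⁅K, L⁆ ≤ O(K) ⊓ O(L), and if K is quasisimple then ⁅K, L⁆ = 1. -/
theorem result {X : Type*} [Group X] [Finite X] (K L : Subgroup X) (hK : Cfsg.IsPComponent 2 K) (hL : Cfsg.IsPComponent 2 L) (hne : K ≠ L) : ⁅K, L⁆ ≤ ((Cfsg.oddCore ↥K).map K.subtype) ⊓ ((Cfsg.oddCore ↥L).map L.subtype) ∧ (Cfsg.IsQuasisimple ↥K → ⁅K, L⁆ = ⊥) := by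
  classical
  haveI : Fact (Nat.Prime 2) := ⟨Nat.prime_two⟩
  have h1 := Cfsg.Agent.Lib.Helper3_PComp3.pc_commutator_le 2 hK hL hne
  have h2 := Cfsg.Agent.Lib.Helper3_PComp3.pc_commutator_le 2 hL hK (Ne.symm hne)
  rw [Cfsg.Agent.Lib.Helper3_PComp3.inf_core_eq 2 K hK.1] at h1
  rw [Cfsg.Agent.Lib.Helper3_PComp3.inf_core_eq 2 L hL.1, Subgroup.commutator_comm] at h2
  refine ⟨le_inf h1 h2, ?_⟩
  intro hq
  have h3 := (Cfsg.Agent.S1276.result K hK).mp hq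
  have h4 : ⁅⁅K, L⁆, K⁆ = ⊥ := by
    rw [eq_bot_iff]
    calc ⁅⁅K, L⁆, K⁆ ≤ ⁅(Cfsg.oddCore ↥K).map K.subtype, K⁆ := Subgroup.commutator_mono h1 le_rfl
      _ = ⁅K, (Cfsg.oddCore ↥K).map K.subtype⁆ := Subgroup.commutator_comm _ _
      _ = ⊥ := h3
  have h5 : ⁅⁅L, K⁆, K⁆ = ⊥ := by
    rw [Subgroup.commutator_comm L K]; exact h4
  have h6 : ⁅⁅K, K⁆, L⁆ = ⊥ := Subgroup.commutator_commutator_eq_bot_of_rotate h4 h5
  rwa [Cfsg.Agent.Lib.Helper3_PComp.pc_perfect 2 hK] at h6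

end Cfsg.Agent.S1278
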