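import Cfsg.Statements.S1279
import Cfsg.Agent.S1958

set_option autoImplicit false
open Cfsg

namespace Cfsg.Agent.S1279

/-- Let A be a noncyclic elementary abelian p-subgroup of the finite group G such that C_G(a) is solvable for every non-identity a ∈ A. Then a ↦ O_{p'}(C_G(a)) is a solvable A-signalizer functor on G. -/
theorem result {G : Type*} [Group G] [Finite G] (p : ℕ) [Fact p.Prime] (A : Subgroup G) (hA : Cfsg.IsElementaryAbelian p A) (hA2 : p ^ 2 ≤ Nat.card ↥A) (hsolv : ∀ a ∈ A, a ≠ 1 → Group.IsSolvable ↥(Subgroup.centralizer ({a} : Set G))) : Cfsg.IsSolvableSignalizerFunctor p A (fun a => Cfsg.centralizerPPrimeCore p a) := by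
  have hord : ∀ a ∈ A, a ≠ 1 → orderOf a = p := by
    intro a ha ha1
    exact orderOf_eq_prime (hA.2 a ha) ha1
  have hcomm : ∀ a ∈ A, ∀ b ∈ A, a * b = b * a := by
    intro a ha b hb
    haveI := hA.1
    have := mul_comm' (⟨a, ha⟩ : ↥A) ⟨b, hb⟩
    exact congrArg Subtype.val this
  refine ⟨⟨?_, ?_, ?_, ?_⟩, ?_⟩
  · intro a _ _
    exact Cfsg.Agent.S1958.cppc_le p a
  · intro a _ _
    have hc : (Nat.card (Cfsg.centralizerPPrimeCore p a)).Coprime p := by
      unfold Cfsg.centralizerPPrimeCore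
      rw [Subgroup.card_map_of_injective (Subgroup.subtype_injective _)]
      exact Cfsg.Agent.Lib.Helper5_PPrime.pPrimeCore_coprime p _
    intro hdvd
    have h1 := Nat.Coprime.eq_one_of_dvd hc.symm hdvd
    exact (Fact.out : p.Prime).one_lt.ne' h1
  · rintro a ha _ b hb _ ⟨z, hz, rfl⟩
    have hbC : b ∈ Subgroup.centralizer ({a} : Set G) :=
      Subgroup.mem_centralizer_singleton_iff.mpr (hcomm b hb a ha)
    have hn := Cfsg.Agent.Lib.Helper5_PPrime.pPrimeCore_normal p ↥(Subgroup.centralizer ({a} : Set G))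
    exact ⟨⟨b, hbC⟩ * z * ⟨b, hbC⟩⁻¹, hn.conj_mem z hz ⟨b, hbC⟩, rfl⟩
  · intro a ha ha1 b hb hb1
    exact Cfsg.Agent.S1958.half p b a (hord a ha ha1) (hcomm b hb a ha) (hsolv b hb hb1)
  · intro a ha ha1
    haveI := hsolv a ha ha1
    have hle := Cfsg.Agent.S1958.cppc_le p a
    exact Group.isSolvable_of_isSolvable_injective (f := Subgroup.inclusion hle)
      (Subgroup.inclusion_injective hle)

end Cfsg.Agent.S1279
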