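import Cfsg.Statements.S1281
import Cfsg.Agent.Lib.Helper3_FixedSet

set_option autoImplicit false
open Cfsg

namespace Cfsg.Agent.S1281

/-- Let θ be a solvable A-signalizer functor on the finite group G (A a noncyclic elementary abelian p-subgroup) and N a normal subgroup of order prime to p. Then for all non-identity a, b ∈ A, the image of θ a in G / N meets the centralizer of the image of b inside the image of θ b. -/
theorem result {G : Type*} [Group G] [Finite G] (p : ℕ) [Fact p.Prime] (A : Subgroup G) (hA : Cfsg.IsElementaryAbelian p A) (hA2 : p ^ 2 ≤ Nat.card ↥A) (θ : G → Subgroup G) (hθ : Cfsg.IsSolvableSignalizerFunctor p A θ) (N : Subgroup G) [N.Normal] (hN : ¬ p ∣ Nat.card ↥N) (a b : G) (ha : a ∈ A) (ha1 : a ≠ 1) (hb : b ∈ A) (hb1 : b ≠ 1) : (θ a).map (QuotientGroup.mk' N) ⊓ Subgroup.centralizer {QuotientGroup.mk' N b} ≤ (θ b).map (QuotientGroup.mk' N) := by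
  classical
  obtain ⟨⟨h1, h2, h3, h4⟩, _⟩ := hθ
  rintro xbar ⟨⟨x, hx, rfl⟩, hc⟩
  replace hc : QuotientGroup.mk' N x ∈ Subgroup.centralizer {QuotientGroup.mk' N b} := hc
  rw [Subgroup.mem_centralizer_singleton_iff] at hc
  -- hc : mk x * mk b = mk b * mk x
  have hxb : x⁻¹ * (b * x * b⁻¹) ∈ N := by
    rw [← QuotientGroup.eq_one_iff]
    have e : ((x⁻¹ * (b * x * b⁻¹) : G) : G ⧸ N)
        = (QuotientGroup.mk' N x)⁻¹ * (QuotientGroup.mk' N b * QuotientGroup.mk' N x) * (QuotientGroup.mk' N b)⁻¹ := by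
      simp [mul_assoc]
    rw [e, ← hc]; group
  let S : Set G := (fun n => x * n) '' ((N ⊓ θ a : Subgroup G) : Set G)
  have hSfin : S.Finite := Set.toFinite S
  have hS : ∀ s ∈ S, b * s * b⁻¹ ∈ S := by
    rintro s ⟨n, hn, rfl⟩
    refine ⟨(x⁻¹ * (b * x * b⁻¹)) * (b * n * b⁻¹), ?_, ?_⟩
    · refine (N ⊓ θ a).mul_mem ⟨hxb, ?_⟩ ⟨?_, ?_⟩
      · exact (θ a).mul_mem ((θ a).inv_mem hx) (h3 a ha ha1 b hb x hx)
      · exact ‹N.Normal›.conj_mem n hn.1 b
      · exact h3 a ha ha1 b hb n hn.2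
    · show x * ((x⁻¹ * (b * x * b⁻¹)) * (b * n * b⁻¹)) = b * (x * n) * b⁻¹
      group
  have hcard : ¬ p ∣ Nat.card ↥S := by
    have e1 : Nat.card ↥S = Nat.card ↥(N ⊓ θ a : Subgroup G) := by
      apply Nat.card_image_of_injective
      intro u v huv
      exact mul_left_cancel huv
    rw [e1]
    intro hdiv
    exact hN (hdiv.trans (Subgroup.card_dvd_of_le inf_le_left))
  have hbp : IsPGroup p (Subgroup.zpowers b) :=
    Cfsg.Agent.Lib.Helper3_FixedSet.isPGroup_zpowers_of_pow_eq_one p b (hA.2 b hb)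
  obtain ⟨s, ⟨n, hn, rfl⟩, hcomm⟩ :=
    Cfsg.Agent.Lib.Helper3_FixedSet.exists_comm_of_conj_invariant p b hbp S hSfin hS hcard
  refine ⟨x * n, ?_, ?_⟩
  · apply h4 a ha ha1 b hb hb1
    have hcen : x * n ∈ Subgroup.centralizer {b} := by
      rw [Subgroup.mem_centralizer_singleton_iff]
      exact hcomm.symm
    exact ⟨(θ a).mul_mem hx hn.2, hcen⟩
  · show QuotientGroup.mk' N (x * n) = QuotientGroup.mk' N x
    rw [map_mul]
    have : QuotientGroup.mk' N n = 1 := (QuotientGroup.eq_one_iff n).2 hn.1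
    rw [this, mul_one]

end Cfsg.Agent.S1281
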