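import Cfsg.Statements.S1286

set_option autoImplicit false
open Cfsg

namespace Cfsg.Agent.S1286

abbrev X5 := Equiv.Perm (Fin 5)
def a5 : X5 := Equiv.swap 0 1
def b5 : X5 := Equiv.swap 2 3
def s5 : X5 := Equiv.swap 2 3 * Equiv.swap 3 4
def t5 : X5 := Equiv.swap 0 1 * Equiv.swap 1 4

def A5 : Subgroup X5 where
  carrier := {x | x = 1 ∨ x = a5 ∨ x = b5 ∨ x = a5 * b5}
  one_mem' := Or.inl rfl
  mul_mem' := by
    rintro _ _ (rfl|rfl|rfl|rfl) (rfl|rfl|rfl|rfl) <;> decide
  inv_mem' := by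
    rintro _ (rfl|rfl|rfl|rfl) <;> decide

def T1 : Subgroup X5 where
  carrier := {x | x = 1 ∨ x = s5 ∨ x = s5 * s5}
  one_mem' := Or.inl rfl
  mul_mem' := by
    rintro _ _ (rfl|rfl|rfl) (rfl|rfl|rfl) <;> decide
  inv_mem' := by
    rintro _ (rfl|rfl|rfl) <;> decide

def T2 : Subgroup X5 where
  carrier := {x | x = 1 ∨ x = t5 ∨ x = t5 * t5}
  one_mem' := Or.inl rfl
  mul_mem' := by
    rintro _ _ (rfl|rfl|rfl) (rfl|rfl|rfl) <;> decide
  inv_mem' := by
    rintro _ (rfl|rfl|rfl) <;> decide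

open Classical in
noncomputable def θ5 : X5 → Subgroup X5 := fun g => if g = a5 then T1 else if g = b5 then T2 else ⊥

theorem θa : θ5 a5 = T1 := if_pos rfl
theorem θb : θ5 b5 = T2 := by
  unfold θ5; rw [if_neg (by decide), if_pos rfl]
theorem θab : θ5 (a5 * b5) = ⊥ := by
  unfold θ5; rw [if_neg (by decide), if_neg (by decide)]

theorem mem_A5 {x : X5} : x ∈ A5 ↔ x = 1 ∨ x = a5 ∨ x = b5 ∨ x = a5 * b5 := Iff.rfl
theorem mem_T1 {x : X5} : x ∈ T1 ↔ x = 1 ∨ x = s5 ∨ x = s5 * s5 := Iff.rfl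
theorem mem_T2 {x : X5} : x ∈ T2 ↔ x = 1 ∨ x = t5 ∨ x = t5 * t5 := Iff.rfl

theorem cases_A {c : X5} (hc : c ∈ A5) (h1 : c ≠ 1) : c = a5 ∨ c = b5 ∨ c = a5 * b5 := by
  rcases hc with h|h|h|h
  · exact absurd h h1
  · exact Or.inl h
  · exact Or.inr (Or.inl h)
  · exact Or.inr (Or.inr h)

theorem card_of_coe {H : Subgroup X5} {F : Finset X5} (h : ∀ x, x ∈ H ↔ x ∈ F) :
    Nat.card ↥H = F.card := by
  have e : (H : Set X5) = ↑F := by
    ext x; exact h x
  rw [← Set.ncard_coe_finset F, ← e]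
  exact _root_.Nat.card_coe_set_eq _

theorem card_A5 : Nat.card ↥A5 = 4 := by
  rw [card_of_coe (F := {1, a5, b5, a5 * b5})]
  · decide
  · intro x; rw [mem_A5]; simp

theorem card_T1 : Nat.card ↥T1 = 3 := by
  rw [card_of_coe (F := {1, s5, s5 * s5})]
  · decide
  · intro x; rw [mem_T1]; simp

theorem card_T2 : Nat.card ↥T2 = 3 := by
  rw [card_of_coe (F := {1, t5, t5 * t5})]
  · decide
  · intro x; rw [mem_T2]; simp

theorem sf : Cfsg.IsSignalizerFunctor 2 A5 θ5 := by
  refine ⟨?_, ?_, ?_, ?_⟩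
  · intro c hc h1
    rcases cases_A hc h1 with rfl|rfl|rfl
    · rw [θa]
      rintro x (rfl|rfl|rfl) <;> (rw [Subgroup.mem_centralizer_singleton_iff]; decide)
    · rw [θb]
      rintro x (rfl|rfl|rfl) <;> (rw [Subgroup.mem_centralizer_singleton_iff]; decide)
    · rw [θab]; exact bot_le
  · intro c hc h1
    rcases cases_A hc h1 with rfl|rfl|rfl
    · rw [θa, card_T1]; decide
    · rw [θb, card_T2]; decide
    · rw [θab, Subgroup.card_bot]; decide
  · intro c hc h1
    rcases cases_A hc h1 with rfl|rfl|rfl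
    · rw [θa]
      rintro _ (rfl|rfl|rfl|rfl) _ (rfl|rfl|rfl) <;> (rw [mem_T1]; decide)
    · rw [θb]
      rintro _ (rfl|rfl|rfl|rfl) _ (rfl|rfl|rfl) <;> (rw [mem_T2]; decide)
    · rw [θab]
      intro b hb x hx
      rw [Subgroup.mem_bot] at hx ⊢
      subst hx
      group
  · intro c hc h1 d hd hd1 x hx
    rw [Subgroup.mem_inf, Subgroup.mem_centralizer_singleton_iff] at hx
    obtain ⟨hx1, hx2⟩ := hx
    rcases cases_A hc h1 with rfl|rfl|rfl
    · rw [θa] at hx1
      rcases cases_A hd hd1 with rfl|rfl|rfl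
      · rw [θa]; exact hx1
      · rcases hx1 with rfl|rfl|rfl
        · exact Subgroup.one_mem _
        · exact absurd hx2 (by decide)
        · exact absurd hx2 (by decide)
      · rcases hx1 with rfl|rfl|rfl
        · exact Subgroup.one_mem _
        · exact absurd hx2 (by decide)
        · exact absurd hx2 (by decide)
    · rw [θb] at hx1
      rcases cases_A hd hd1 with rfl|rfl|rfl
      · rcases hx1 with rfl|rfl|rfl
        · exact Subgroup.one_mem _
        · exact absurd hx2 (by decide)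
        · exact absurd hx2 (by decide)
      · rw [θb]; exact hx1
      · rcases hx1 with rfl|rfl|rfl
        · exact Subgroup.one_mem _
        · exact absurd hx2 (by decide)
        · exact absurd hx2 (by decide)
    · rw [θab, Subgroup.mem_bot] at hx1
      subst hx1
      exact Subgroup.one_mem _

/-- There exist a finite group X, an elementary abelian subgroup A of order 4 and a solvable A-signalizer functor θ on X for the prime 2 which is not complete. -/
theorem result : ∃ (X : Type) (_ : Group X) (_ : Finite X) (A : Subgroup X) (θ : X → Subgroup X), Cfsg.IsElementaryAbelian 2 A ∧ Nat.card ↥A = 4 ∧ Cfsg.IsSolvableSignalizerFunctor 2 A θ ∧ ¬ Cfsg.IsCompleteSignalizerFunctor 2 A θ := by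
  refine ⟨X5, inferInstance, inferInstance, A5, θ5, ⟨?_, ?_⟩, card_A5, ⟨sf, ?_⟩, ?_⟩
  · refine ⟨⟨?_⟩⟩
    rintro ⟨x, hx⟩ ⟨y, hy⟩
    apply Subtype.ext
    show x * y = y * x
    rcases hx with rfl|rfl|rfl|rfl <;> rcases hy with rfl|rfl|rfl|rfl <;> decide
  · rintro _ (rfl|rfl|rfl|rfl) <;> decide
  · intro c hc h1
    rcases cases_A hc h1 with rfl|rfl|rfl
    · rw [θa]
      apply Group.isSolvable_of_comm
      rintro ⟨x, hx⟩ ⟨y, hy⟩
      apply Subtype.ext
      show x * y = y * x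
      rcases hx with rfl|rfl|rfl <;> rcases hy with rfl|rfl|rfl <;> decide
    · rw [θb]
      apply Group.isSolvable_of_comm
      rintro ⟨x, hx⟩ ⟨y, hy⟩
      apply Subtype.ext
      show x * y = y * x
      rcases hx with rfl|rfl|rfl <;> rcases hy with rfl|rfl|rfl <;> decide
    · rw [θab]
      apply Group.isSolvable_of_comm
      rintro ⟨x, hx⟩ ⟨y, hy⟩
      apply Subtype.ext
      show x * y = y * x
      rw [Subgroup.mem_bot] at hx hy
      rw [hx, hy]
  · rintro ⟨-, X', -, hodd, hX⟩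
    have h1 := hX a5 (Or.inr (Or.inl rfl)) (by decide)
    have h2 := hX b5 (Or.inr (Or.inr (Or.inl rfl))) (by decide)
    rw [θa] at h1
    rw [θb] at h2
    have hs : s5 ∈ X' := by
      have : s5 ∈ T1 := Or.inr (Or.inl rfl)
      rw [← h1] at this
      exact this.1
    have ht : t5 ∈ X' := by
      have : t5 ∈ T2 := Or.inr (Or.inl rfl)
      rw [← h2] at this
      exact this.1
    have hw : s5 * t5 * s5 * (t5 * t5) ∈ X' :=
      Subgroup.mul_mem _ (Subgroup.mul_mem _ (Subgroup.mul_mem _ hs ht) hs) (Subgroup.mul_mem _ ht ht)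
    have hord : orderOf (s5 * t5 * s5 * (t5 * t5)) = 2 := by
      haveI : Fact (Nat.Prime 2) := ⟨Nat.prime_two⟩
      apply orderOf_eq_prime
      · decide
      · decide
    apply hodd
    rw [← hord]
    exact Subgroup.orderOf_dvd_natCard X' hw

end Cfsg.Agent.S1286
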