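import Cfsg.Statements.S1288
import Mathlib
import Cfsg.Agent.S1324
import Cfsg.Agent.S1958
import Cfsg.Agent.Lib.Helper5_CharP

set_option autoImplicit false
open Cfsg

namespace Cfsg.Agent.S1288

open Cfsg.Agent.Lib.Helper4_PCore Cfsg.Agent.Lib.Helper5_PPrime

/-- conjugation by a normalizing element as an automorphism of the subgroup -/
def conjEquiv {H : Type*} [Group H] (K : Subgroup H) (a : H)
    (ha : a ∈ Subgroup.normalizer (K : Set H)) : ↥K ≃* ↥K where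
  toFun k := ⟨a * k * a⁻¹, (Subgroup.mem_normalizer_iff.mp ha k).mp k.2⟩
  invFun k := ⟨a⁻¹ * k * a, by
    have h := (Subgroup.mem_normalizer_iff.mp (Subgroup.inv_mem _ ha) k).mp k.2
    simpa using h⟩
  left_inv k := by
    apply Subtype.ext
    simp [mul_assoc]
  right_inv k := by
    apply Subtype.ext
    simp [mul_assoc]
  map_mul' x y := by
    apply Subtype.ext
    simp [mul_assoc]

theorem ppc_map_le {G G' : Type*} [Group G] [Finite G] [Group G'] (q : ℕ) (e : G ≃* G') :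
    (Cfsg.pPrimeCore q G).map e.toMonoidHom ≤ Cfsg.pPrimeCore q G' := by
  haveI := pPrimeCore_normal q G
  haveI : ((Cfsg.pPrimeCore q G).map e.toMonoidHom).Normal :=
    Subgroup.Normal.map inferInstance _ e.surjective
  apply le_pPrimeCore
  exact Nat.Coprime.coprime_dvd_left (Subgroup.card_map_dvd _ _) (pPrimeCore_coprime q G)

theorem ppc_map_eq {G : Type*} [Group G] [Finite G] (q : ℕ) (e : G ≃* G) :
    (Cfsg.pPrimeCore q G).map e.toMonoidHom = Cfsg.pPrimeCore q G := by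
  apply le_antisymm (ppc_map_le q e)
  intro x hx
  have h1 := ppc_map_le q e.symm
  refine ⟨e.symm x, h1 ⟨x, hx, rfl⟩, ?_⟩
  simp

theorem char_stable {K : Type*} [Group K] [Finite K] (q : ℕ) [Fact q.Prime]
    [hn : (Cfsg.pPrimeCore q K).Normal] (φ : K ≃* K) (x : K)
    (hx : (QuotientGroup.mk' (Cfsg.pPrimeCore q K)) x ∈ Cfsg.pCore q (K ⧸ Cfsg.pPrimeCore q K)) :
    (QuotientGroup.mk' (Cfsg.pPrimeCore q K)) (φ x) ∈ Cfsg.pCore q (K ⧸ Cfsg.pPrimeCore q K) := by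
  have he : (Cfsg.pPrimeCore q K).map (φ : K →* K) = Cfsg.pPrimeCore q K := ppc_map_eq q φ
  have h1 : (Cfsg.pCore q (K ⧸ Cfsg.pPrimeCore q K)).map
      (QuotientGroup.congr (Cfsg.pPrimeCore q K) (Cfsg.pPrimeCore q K) φ he).toMonoidHom
      = Cfsg.pCore q (K ⧸ Cfsg.pPrimeCore q K) :=
    Cfsg.Agent.Lib.Helper5_CharP.pCore_map_equiv q _
  have h2 : (QuotientGroup.mk' (Cfsg.pPrimeCore q K)) (φ x)
      = (QuotientGroup.congr (Cfsg.pPrimeCore q K) (Cfsg.pPrimeCore q K) φ he)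
        ((QuotientGroup.mk' (Cfsg.pPrimeCore q K)) x) := by
    simp
  rw [h2, ← h1]
  exact ⟨_, hx, rfl⟩

/-- Let A be a noncyclic elementary abelian p-subgroup of a finite group H normalizing a solvable subgroup K of order prime to p, q a prime dividing |K|, and U ≤ K a subgroup of order prime to q such that ⁅U, C_K(B)⁆ has order prime to q for every subgroup B of index p in A. Then U ≤ O_{q'}(K). -/
theorem result {H : Type*} [Group H] [Finite H] (p : ℕ) [Fact p.Prime] (A K : Subgroup H) (hA : Cfsg.IsElementaryAbelian p A) (hA2 : p ^ 2 ≤ Nat.card ↥A) (hK : ¬ p ∣ Nat.card ↥K) (hKs : Group.IsSolvable ↥K) (hAK : A ≤ Subgroup.normalizer (K : Set H)) (q : ℕ) [Fact q.Prime] (hqK : q ∣ Nat.card ↥K) (U : Subgroup H) (hU : U ≤ K) (hUq : ¬ q ∣ Nat.card ↥U) (hcomm : ∀ B : Subgroup H, B ≤ A → B.relIndex A = p → ¬ q ∣ Nat.card ↥⁅U, K ⊓ Subgroup.centralizer (B : Set H)⁆) : U ≤ (Cfsg.pPrimeCore q ↥K).map K.subtype := by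
  classical
  have hp : p.Prime := Fact.out
  have hq : q.Prime := Fact.out
  haveI : Group.IsSolvable ↥K := hKs
  haveI hWn : (Cfsg.pPrimeCore q ↥K).Normal := pPrimeCore_normal q ↥K
  set W := Cfsg.pPrimeCore q ↥K with hW
  set f := QuotientGroup.mk' W with hf
  have hker : ∀ z : ↥K, f z = 1 ↔ z ∈ W := fun z => QuotientGroup.eq_one_iff z
  set Qb := Cfsg.pCore q (↥K ⧸ W) with hQb
  haveI hQbn : Qb.Normal := pCore_normal q _
  have hQbp : IsPGroup q Qb := pCore_isPGroup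
  have hbot : Cfsg.pPrimeCore q (↥K ⧸ W) = ⊥ := Cfsg.Agent.S1958.pPrimeCore_quotient q ↥K
  have hHH : Subgroup.centralizer (Qb : Set (↥K ⧸ W)) ≤ Qb := Cfsg.Agent.S0017.result q hbot
  have hkey : ∀ c : ↥K, (orderOf c).Coprime q → f c ∈ Qb → f c = 1 := by
    intro c hc hcQ
    obtain ⟨k, hk⟩ := hQbp ⟨f c, hcQ⟩
    have h1 : (f c) ^ (q ^ k) = 1 := by
      have := congrArg Subtype.val hk
      simpa using this
    have h2 : orderOf (f c) ∣ q ^ k := orderOf_dvd_of_pow_eq_one h1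
    have h3 : orderOf (f c) ∣ orderOf c := orderOf_map_dvd f c
    have h4 : (orderOf (f c)).Coprime q := Nat.Coprime.coprime_dvd_left h3 hc
    exact orderOf_eq_one_iff.mp (Nat.Coprime.eq_one_of_dvd (Nat.Coprime.pow_right k h4) h2)
  set Q1 : Subgroup H := (Qb.comap f).map K.subtype with hQ1
  have hQ1K : Q1 ≤ K := Subgroup.map_subtype_le _
  have hQ1mem : ∀ x : H, x ∈ Q1 ↔ ∃ hx : x ∈ K, f ⟨x, hx⟩ ∈ Qb := by
    intro x
    constructor
    · rintro ⟨y, hy, rfl⟩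
      exact ⟨y.2, hy⟩
    · rintro ⟨hx, h⟩
      exact ⟨⟨x, hx⟩, h, rfl⟩
  have hQ1p : ¬ p ∣ Nat.card ↥Q1 := fun h => hK (h.trans (Subgroup.card_dvd_of_le hQ1K))
  have hconj : ∀ a : H, a ∈ Subgroup.normalizer (K : Set H) → ∀ x ∈ Q1, a * x * a⁻¹ ∈ Q1 := by
    intro a haK x hx
    obtain ⟨hxK, hxQ⟩ := (hQ1mem x).mp hx
    have h1 := char_stable q (conjEquiv K a haK) ⟨x, hxK⟩ hxQ
    exact (hQ1mem _).mpr ⟨(Subgroup.mem_normalizer_iff.mp haK x).mp hxK, h1⟩
  have hAQ1 : A ≤ Subgroup.normalizer (Q1 : Set H) := by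
    intro a ha
    apply Cfsg.Agent.Lib.Helper5_CharP.mem_normalizer_of_forall_conj_mem
    · intro x hx
      exact hconj a (hAK ha) x hx
    · intro x hx
      have := hconj a⁻¹ (Subgroup.inv_mem _ (hAK ha)) x hx
      simpa using this
  have hgen := Cfsg.Agent.S1324.result p A Q1 hA hA2 hQ1p hAQ1
  -- a hyperplane of A
  have hAp : IsPGroup p ↥A := by
    intro a
    refine ⟨1, ?_⟩
    apply Subtype.ext
    rw [pow_one, Subgroup.coe_pow, hA.2 a a.2]
    rfl
  obtain ⟨n, hn⟩ := hAp.exists_card_eq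
  have hn2 : 2 ≤ n := by
    by_contra hlt
    push Not at hlt
    have h1 : p ^ n < p ^ 2 := Nat.pow_lt_pow_right hp.one_lt hlt
    rw [hn] at hA2
    exact absurd hA2 (not_le.mpr h1)
  obtain ⟨B', hB'⟩ := Sylow.exists_subgroup_card_pow_prime p (G := ↥A) (n := n - 1)
    (by rw [hn]; exact pow_dvd_pow p (Nat.sub_le n 1))
  set B0 : Subgroup H := B'.map A.subtype with hB0
  have hB0A : B0 ≤ A := Subgroup.map_subtype_le _
  have hB0card : Nat.card ↥B0 = p ^ (n - 1) := by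
    rw [hB0, Subgroup.card_map_of_injective A.subtype_injective]
    exact hB'
  have hB0r : B0.relIndex A = p := by
    have h1 := Subgroup.relIndex_mul_relIndex ⊥ B0 A bot_le hB0A
    rw [Subgroup.relIndex_bot_left, Subgroup.relIndex_bot_left, hB0card, hn] at h1
    have h2 : p ^ n = p ^ (n - 1) * p := by
      rw [← pow_succ]
      congr 1
      omega
    rw [h2] at h1
    exact Nat.eq_of_mul_eq_mul_left (pow_pos hp.pos _) h1
  intro u hu
  have huK : u ∈ K := hU hu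
  set ub : ↥K ⧸ W := f ⟨u, huK⟩ with hub
  set Z : Subgroup H := ((Subgroup.centralizer ({ub} : Set (↥K ⧸ W))).comap f).map K.subtype with hZ
  have hstep : ∀ B : Subgroup H, B ≤ A → B.relIndex A = p →
      Q1 ⊓ Subgroup.centralizer (B : Set H) ≤ Z := by
    intro B hBA hBr t ht
    obtain ⟨htQ, htC⟩ := ht
    obtain ⟨htK, htQb⟩ := (hQ1mem t).mp htQ
    set c : H := u * t * u⁻¹ * t⁻¹ with hc
    have hcX : c ∈ ⁅U, K ⊓ Subgroup.centralizer (B : Set H)⁆ := by
      rw [hc, ← commutatorElement_def]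
      exact Subgroup.commutator_mem_commutator hu ⟨htK, htC⟩
    have hcK : c ∈ K :=
      K.mul_mem (K.mul_mem (K.mul_mem huK htK) (K.inv_mem huK)) (K.inv_mem htK)
    have hXq := hcomm B hBA hBr
    have hcord : (orderOf (⟨c, hcK⟩ : ↥K)).Coprime q := by
      have h1 : orderOf c ∣ Nat.card ↥⁅U, K ⊓ Subgroup.centralizer (B : Set H)⁆ := by
        have := orderOf_dvd_natCard (⟨c, hcX⟩ : ↥⁅U, K ⊓ Subgroup.centralizer (B : Set H)⁆)
        rwa [Subgroup.orderOf_mk] at this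
      rw [Subgroup.orderOf_mk]
      exact Nat.Coprime.coprime_dvd_left h1 ((Nat.Prime.coprime_iff_not_dvd hq).mpr hXq).symm
    have hfc : f ⟨c, hcK⟩ = ub * f ⟨t, htK⟩ * ub⁻¹ * (f ⟨t, htK⟩)⁻¹ := by
      rw [hub, ← map_inv, ← map_inv, ← map_mul, ← map_mul, ← map_mul]
      rfl
    have hfcQ : f ⟨c, hcK⟩ ∈ Qb := by
      rw [hfc]
      exact Qb.mul_mem (hQbn.conj_mem _ htQb ub) (Qb.inv_mem htQb)
    have h1 := hkey ⟨c, hcK⟩ hcord hfcQ
    rw [hfc] at h1
    have h2 : ub * f ⟨t, htK⟩ = f ⟨t, htK⟩ * ub := by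
      calc ub * f ⟨t, htK⟩
          = (ub * f ⟨t, htK⟩ * ub⁻¹ * (f ⟨t, htK⟩)⁻¹) * (f ⟨t, htK⟩ * ub) := by group
        _ = f ⟨t, htK⟩ * ub := by rw [h1, one_mul]
    refine ⟨⟨t, htK⟩, ?_, rfl⟩
    show f ⟨t, htK⟩ ∈ Subgroup.centralizer ({ub} : Set (↥K ⧸ W))
    rw [Subgroup.mem_centralizer_iff]
    intro y hy
    rw [Set.mem_singleton_iff.mp hy]
    exact h2
  have hQ1Z : Q1 ≤ Z := by
    refine le_of_eq_of_le hgen ?_
    apply iSup_le
    rintro ⟨B, hBA, hBr⟩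
    by_cases h : B.relIndex A = p
    · exact hstep B hBA h
    · have hd := Subgroup.relIndex_dvd_card B A
      rw [hn] at hd
      obtain ⟨j, hjn, hj⟩ := (Nat.dvd_prime_pow hp).mp hd
      have hj0 : j = 0 := by
        by_contra hj0
        have h1 : p ^ 1 ≤ p ^ j := Nat.pow_le_pow_right hp.pos (Nat.one_le_iff_ne_zero.mpr hj0)
        rw [pow_one, ← hj] at h1
        exact h (le_antisymm hBr h1)
      rw [hj0, pow_zero] at hj
      have hAB : A ≤ B := Subgroup.relIndex_eq_one.mp hj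
      have hcc : Subgroup.centralizer (B : Set H) ≤ Subgroup.centralizer (B0 : Set H) :=
        Subgroup.centralizer_le (hB0A.trans hAB)
      exact (inf_le_inf_left Q1 hcc).trans (hstep B0 hB0A hB0r)
  have hcent : ub ∈ Subgroup.centralizer (Qb : Set (↥K ⧸ W)) := by
    rw [Subgroup.mem_centralizer_iff]
    intro y hy
    obtain ⟨t, rfl⟩ := QuotientGroup.mk'_surjective W y
    have htQ1 : (t : H) ∈ Q1 := (hQ1mem _).mpr ⟨t.2, hy⟩
    obtain ⟨t', ht', ht'eq⟩ := hQ1Z htQ1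
    have htt : t' = t := Subtype.ext ht'eq
    rw [htt] at ht'
    have h3 := Subgroup.mem_centralizer_iff.mp ht' ub (Set.mem_singleton ub)
    exact h3.symm
  have hubQ : ub ∈ Qb := hHH hcent
  have hu1 : ub = 1 := by
    apply hkey ⟨u, huK⟩ _ hubQ
    rw [Subgroup.orderOf_mk]
    have h1 : orderOf u ∣ Nat.card ↥U := by
      have := orderOf_dvd_natCard (⟨u, hu⟩ : ↥U)
      rwa [Subgroup.orderOf_mk] at this
    exact Nat.Coprime.coprime_dvd_left h1 ((Nat.Prime.coprime_iff_not_dvd hq).mpr hUq).symm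
  exact ⟨⟨u, huK⟩, (hker _).mp hu1, rfl⟩

end Cfsg.Agent.S1288
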