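import Cfsg.Statements.S1292
import Cfsg.Agent.Lib.Helper3_Components
import Cfsg.Agent.Lib.Helper3_LayerPre
import Cfsg.Agent.Lib.Helper3_Transport
import Cfsg.Agent.Lib.Lead_Fitting
import Cfsg.Agent.S1265
import Cfsg.Agent.S1268
import Cfsg.Agent.S1755

set_option autoImplicit false
open Cfsg

namespace Cfsg.Agent.S1292

universe u

/-- If `t ∈ O_p(M)` and `F*(C_M(t)) = O_p(C_M(t))` then `F*(M) = O_p(M)`. -/
theorem gf_eq_pCore_of_centralizer {M : Type u} [Group M] [Finite M] (p : ℕ) [Fact p.Prime]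
    (t : M) (ht : t ∈ Cfsg.pCore p M)
    (hH : Cfsg.generalizedFittingSubgroup ↥(Subgroup.centralizer ({t} : Set M))
      = Cfsg.pCore p ↥(Subgroup.centralizer ({t} : Set M))) :
    Cfsg.generalizedFittingSubgroup M = Cfsg.pCore p M := by
  classical
  set H := Subgroup.centralizer ({t} : Set M) with hHdef
  have hQn : (Cfsg.pCore p M).Normal := Cfsg.pCore_normal p M
  have hQp : IsPGroup p ↥(Cfsg.pCore p M) := Cfsg.Agent.Lib.Helper4_PCore.pCore_isPGroup
  have hQHp : IsPGroup p ↥(Cfsg.pCore p ↥H) := Cfsg.Agent.Lib.Helper4_PCore.pCore_isPGroup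
  have hcent : Subgroup.centralizer (Cfsg.pCore p ↥H : Set ↥H) ≤ Cfsg.pCore p ↥H := by
    have := Cfsg.Agent.S1265.result (G := ↥H)
    rwa [hH] at this
  -- O_{p'}(M) = 1
  set D := Cfsg.pPrimeCore p M with hDdef
  have hDn : D.Normal := Cfsg.pPrimeCore_normal p M
  have hDc : (Nat.card ↥D).Coprime p := Cfsg.Agent.Lib.Helper5_PPrime.pPrimeCore_coprime p M
  have hDH : D ≤ H := by
    intro d hd
    rw [hHdef, Subgroup.mem_centralizer_singleton_iff]
    have hdis : Disjoint D (Cfsg.pCore p M) := by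
      rw [disjoint_iff, inf_comm]
      exact Cfsg.Agent.Lib.Helper5_PPrime.inf_eq_bot_of_pGroup_of_coprime hQp hDc
    exact (Subgroup.commute_of_normal_of_disjoint D (Cfsg.pCore p M) hDn hQn hdis d t hd ht).eq
  have hD'n : (D.subgroupOf H).Normal := inferInstance
  have hD'c : (Nat.card ↥(D.subgroupOf H)).Coprime p := by
    rw [Nat.card_congr (Subgroup.subgroupOfEquivOfLe hDH).toEquiv]
    exact hDc
  have hD'bot : D.subgroupOf H = ⊥ := by
    have hdis : Disjoint (D.subgroupOf H) (Cfsg.pCore p ↥H) := by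
      rw [disjoint_iff, inf_comm]
      exact Cfsg.Agent.Lib.Helper5_PPrime.inf_eq_bot_of_pGroup_of_coprime hQHp hD'c
    have hle : D.subgroupOf H ≤ Cfsg.pCore p ↥H := by
      intro d hd
      apply hcent
      rw [Subgroup.mem_centralizer_iff]
      intro y hy
      exact ((Subgroup.commute_of_normal_of_disjoint _ _ hD'n (Cfsg.pCore_normal p ↥H) hdis d y hd hy).eq).symm
    rw [eq_bot_iff]
    intro d hd
    have : d ∈ D.subgroupOf H ⊓ Cfsg.pCore p ↥H := ⟨hd, hle hd⟩
    rwa [disjoint_iff.mp hdis] at this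
  have hDbot : D = ⊥ := by
    rw [eq_bot_iff]
    intro d hd
    have h1 : (⟨d, hDH hd⟩ : ↥H) ∈ D.subgroupOf H := Subgroup.mem_subgroupOf.mpr hd
    rw [hD'bot, Subgroup.mem_bot] at h1
    rw [Subgroup.mem_bot]
    exact congrArg Subtype.val h1
  -- no components
  have hlayer : Cfsg.layer M = ⊥ := by
    rw [eq_bot_iff]
    apply sSup_le
    intro L hL
    exfalso
    have hQs : Group.IsSolvable ↥(Cfsg.pCore p M) := by
      haveI : Group.IsNilpotent ↥(Cfsg.pCore p M) := hQp.isNilpotent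
      infer_instance
    have h1 := Cfsg.Agent.Lib.Helper3_Components.component_commute_solvable_subnormal L
      (Cfsg.pCore p M) hL hQn.isSubnormal hQs
    have hLH : L ≤ H := by
      intro l hl
      rw [hHdef, Subgroup.mem_centralizer_singleton_iff]
      exact Cfsg.Agent.Lib.Helper3_Components.commute_of_commutator_eq_bot h1 hl ht
    have h2 := Cfsg.Agent.Lib.Helper3_Components.component_subgroupOf L H hL hLH
    have h3 : L.subgroupOf H ≤ Cfsg.pCore p ↥H := by
      rw [← hH]
      have h2' : L.subgroupOf H ≤ Cfsg.layer ↥H := le_sSup h2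
      exact h2'.trans le_sup_left
    have h4 : IsPGroup p ↥(L.subgroupOf H) := hQHp.to_le h3
    have h5 : IsPGroup p ↥L := h4.of_equiv (Subgroup.subgroupOfEquivOfLe hLH)
    apply Cfsg.Agent.Lib.Helper3_Components.quasisimple_not_solvable hL.2
    haveI : Group.IsNilpotent ↥L := h5.isNilpotent
    infer_instance
  unfold Cfsg.generalizedFittingSubgroup
  rw [hlayer, bot_sup_eq]
  exact Cfsg.Agent.S1268.fitting_eq_pCore_of_pPrimeCore_eq_bot p hDbot

/-- Let G be a finite group such that F*(C_G(t)) = O_2(C_G(t)) for every involution t. Then F*(N_G(T)) = O_2(N_G(T)) for every nontrivial 2-subgroup T of G. -/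
theorem result {G : Type*} [Group G] [Finite G] (h : ∀ t : G, orderOf t = 2 → Cfsg.generalizedFittingSubgroup ↥(Subgroup.centralizer ({t} : Set G)) = Cfsg.pCore 2 ↥(Subgroup.centralizer ({t} : Set G))) (T : Subgroup G) (hT : IsPGroup 2 ↥T) (hT1 : T ≠ ⊥) : Cfsg.generalizedFittingSubgroup ↥(Subgroup.normalizer (T : Set G)) = Cfsg.pCore 2 ↥(Subgroup.normalizer (T : Set G)) := by
  classical
  haveI : Fact (Nat.Prime 2) := ⟨Nat.prime_two⟩
  -- an involution in Z(T)
  haveI hTnt : Nontrivial ↥T := by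
    rw [Subgroup.nontrivial_iff_ne_bot]; exact hT1
  haveI hZnt : Nontrivial ↥(Subgroup.center ↥T) := hT.center_nontrivial
  obtain ⟨u, hu⟩ := Cfsg.Agent.S1755.exists_involution (hT.to_subgroup (Subgroup.center ↥T)) hZnt
  set t : G := ((u : ↥T) : G) with htdef
  have ht2 : orderOf t = 2 := by
    rw [htdef, Subgroup.orderOf_coe, Subgroup.orderOf_coe]; exact hu
  have htT : t ∈ T := (u : ↥T).2
  have htc : ∀ y ∈ T, y * t = t * y := by
    intro y hy
    have h1 := Subgroup.mem_center_iff.mp u.2 ⟨y, hy⟩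
    exact congrArg Subtype.val h1
  set N := Subgroup.normalizer (T : Set G) with hN
  set C := Subgroup.centralizer ({t} : Set G) with hC
  have hTN : T ≤ N := Subgroup.le_normalizer
  have hTC : T ≤ C := by
    intro y hy
    rw [hC, Subgroup.mem_centralizer_singleton_iff]
    exact htc y hy
  -- S1268 inside C
  have hT'p : IsPGroup 2 ↥(T.subgroupOf C) := hT.of_equiv (Subgroup.subgroupOfEquivOfLe hTC).symm
  have h1 := Cfsg.Agent.S1268.result 2 (h t ht2) (T.subgroupOf C) hT'p
  -- transport to C_N(t)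
  let t' : ↥N := ⟨t, hTN htT⟩
  have ht'Q : t' ∈ Cfsg.pCore 2 ↥N := by
    have hn : (T.subgroupOf N).Normal := Subgroup.normal_subgroupOf_of_le_normalizer le_rfl
    have hp : IsPGroup 2 ↥(T.subgroupOf N) := hT.of_equiv (Subgroup.subgroupOfEquivOfLe hTN).symm
    exact Cfsg.Agent.Lib.Helper4_PCore.le_pCore _ hn hp (Subgroup.mem_subgroupOf.mpr htT)
  have hcentEq : C.subgroupOf N = Subgroup.centralizer ({t'} : Set ↥N) := by
    ext x
    rw [Subgroup.mem_subgroupOf, hC, Subgroup.mem_centralizer_singleton_iff,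
      Subgroup.mem_centralizer_singleton_iff]
    constructor
    · intro hx
      exact Subtype.ext hx
    · intro hx
      exact congrArg Subtype.val hx
  have e1 : ↥(Subgroup.normalizer ((T.subgroupOf C : Subgroup ↥C) : Set ↥C)) ≃* ↥(N.subgroupOf C) :=
    MulEquiv.subgroupCongr (Subgroup.subgroupOf_normalizer_eq hTC).symm
  have e2 : ↥(N.subgroupOf C) ≃* ↥(C.subgroupOf N) :=
    Cfsg.Agent.Lib.Helper3_Transport.subgroupOfSwap N C
  have e3 : ↥(C.subgroupOf N) ≃* ↥(Subgroup.centralizer ({t'} : Set ↥N)) :=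
    MulEquiv.subgroupCongr hcentEq
  have h2 := Cfsg.Agent.Lib.Helper3_Transport.gf_eq_pCore_of_equiv 2 ((e1.trans e2).trans e3) h1
  exact gf_eq_pCore_of_centralizer 2 t' ht'Q h2

end Cfsg.Agent.S1292
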