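import Mathlib
import Cfsg.Statements.S1300

set_option autoImplicit false
open Cfsg

namespace Cfsg.Agent.S1300

lemma cppc_le {G : Type*} [Group G] (p : ℕ) (x : G) :
    Cfsg.centralizerPPrimeCore p x ≤ Subgroup.centralizer ({x} : Set G) := by
  unfold Cfsg.centralizerPPrimeCore
  exact Subgroup.map_subtype_le _

/-- For a finite group G, balance in the sense of commuting involutions is the same as 1-balance for the prime 2. -/
theorem result {G : Type*} [Group G] [Finite G] : Cfsg.IsBalanced G ↔ Cfsg.IsKBalanced 2 1 G := by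
  constructor
  · intro hbal A hA hcard b hb hcomm
    have hne : A ≠ ⊥ := by
      intro h
      rw [h] at hcard
      simp at hcard
    obtain ⟨x, hx1⟩ := (Subgroup.ne_bot_iff_exists_ne_one.mp hne)
    have hxA' : (x : G) ∈ A := x.2
    have hx1' : (x : G) ≠ 1 := fun h => hx1 (Subtype.ext h)
    have hxo : orderOf (x : G) = 2 := orderOf_eq_prime (hA.2 _ hxA') hx1'
    have hd : Cfsg.signalizerDelta 2 A ≤ Cfsg.centralizerPPrimeCore 2 (x : G) := by
      unfold Cfsg.signalizerDelta
      exact iInf_le (fun a : {a : G // a ∈ A ∧ a ≠ 1} => Cfsg.centralizerPPrimeCore 2 (a : G))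
        ⟨(x : G), hxA', hx1'⟩
    have h1 := hbal (x : G) b hxo hb (hcomm _ hxA')
    calc Cfsg.signalizerDelta 2 A ⊓ Subgroup.centralizer {b}
        ≤ Cfsg.centralizerPPrimeCore 2 (x : G) ⊓ Subgroup.centralizer {b} :=
          inf_le_inf_right _ hd
      _ = Cfsg.centralizerPPrimeCore 2 b ⊓ Subgroup.centralizer {(x : G)} := h1
      _ ≤ Cfsg.centralizerPPrimeCore 2 b := inf_le_left
  · intro hk
    have key : ∀ x y : G, orderOf x = 2 → orderOf y = 2 → x * y = y * x →
        Cfsg.centralizerPPrimeCore 2 x ⊓ Subgroup.centralizer {y} ≤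
          Cfsg.centralizerPPrimeCore 2 y := by
      intro x y hx hy hxy
      have hmem : ∀ a ∈ Subgroup.zpowers x, a = 1 ∨ a = x := by
        intro a ha
        obtain ⟨k, rfl⟩ := Subgroup.mem_zpowers_iff.mp ha
        have := zpow_mod_orderOf x k
        rw [hx] at this
        rcases Int.emod_two_eq_zero_or_one k with h0 | h1
        · left; rw [← this]; simp [h0]
        · right; rw [← this]; simp [h1]
      have hx2 : x ^ 2 = 1 := by rw [← hx]; exact pow_orderOf_eq_one x
      have hEA : Cfsg.IsElementaryAbelian 2 (Subgroup.zpowers x) := by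
        refine ⟨inferInstance, ?_⟩
        intro a ha
        rcases hmem a ha with rfl | rfl
        · simp
        · exact hx2
      have hcard : Nat.card (Subgroup.zpowers x) = 2 ^ 1 := by
        rw [Nat.card_zpowers, hx]; rfl
      have hcomm : ∀ a ∈ Subgroup.zpowers x, a * y = y * a := by
        intro a ha
        rcases hmem a ha with rfl | rfl
        · simp
        · exact hxy
      have h1 := hk (Subgroup.zpowers x) hEA hcard y hy hcomm
      refine le_trans (inf_le_inf_right _ ?_) h1
      unfold Cfsg.signalizerDelta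
      refine le_iInf ?_
      rintro ⟨a, ha, ha1⟩
      rcases hmem a ha with rfl | rfl
      · exact absurd rfl ha1
      · exact le_rfl
    intro x y hx hy hxy
    apply le_antisymm
    · exact le_inf (key x y hx hy hxy) (inf_le_left.trans (cppc_le 2 x))
    · exact le_inf (key y x hy hx hxy.symm) (inf_le_left.trans (cppc_le 2 y))

end Cfsg.Agent.S1300
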