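import Cfsg.Statements.S2427
import Mathlib
import Cfsg.Agent.S0257

set_option autoImplicit false
open Cfsg

namespace Cfsg.Agent.S2427

open Matrix Cfsg.Agent.S0257

set_option maxRecDepth 100000 in
theorem comm_pow : ∀ a b : G0, (a * b * a⁻¹ * b⁻¹) ^ 4 = 1 := by decide

set_option maxRecDepth 100000 in
theorem comm_surj : ∀ g : G0, g ^ 4 = 1 → ∃ a b : G0, a * b * a⁻¹ * b⁻¹ = g := by decide

set_option maxRecDepth 100000 in
theorem center_iff : ∀ g : G0, g ∈ Subgroup.center G0 ↔ g = 1 ∨ g = -1 := by decide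

set_option maxRecDepth 100000 in
theorem neg_one_mem : ∀ g : G0, g ≠ 1 →
    ∃ a : G0, ∃ n : Fin 6, (g * (a * g * a⁻¹)) ^ (n : ℕ) = -1 ∨ g ^ (n : ℕ) = -1 := by decide

set_option maxRecDepth 100000 in
theorem conj4 : ∀ g : G0, g ^ 4 = 1 → g ^ 2 ≠ 1 → ∃ a : G0, a * g * a⁻¹ = A0 := by decide

set_option maxRecDepth 100000 in
theorem prod4 : ∀ x : G0, x ^ 4 = 1 →
    ∃ g h : G0, (g ^ 4 = 1 ∧ g ^ 2 ≠ 1) ∧ (h ^ 4 = 1 ∧ h ^ 2 ≠ 1) ∧ x = g * h := by decide

set_option maxRecDepth 100000 in
theorem comm4 : ∀ g : G0, g ^ 4 ≠ 1 →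
    ∃ a : G0, (a * g * a⁻¹ * g⁻¹) ^ 4 = 1 ∧ (a * g * a⁻¹ * g⁻¹) ^ 2 ≠ 1 := by decide

set_option maxRecDepth 100000 in
theorem sq_one : ∀ g : G0, g ^ 2 = 1 → g = 1 ∨ g = -1 := by decide

theorem commutator_eq : commutator G0 = f0Hom.range := by
  apply le_antisymm
  · rw [commutator_def, Subgroup.commutator_le]
    intro a _ b _
    rw [mem_range_iff, commutatorElement_def]
    exact comm_pow a b
  · intro x hx
    rw [mem_range_iff] at hx
    obtain ⟨a, b, hab⟩ := comm_surj x hx
    rw [← hab, ← commutatorElement_def, commutator_def]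
    exact Subgroup.commutator_mem_commutator (Subgroup.mem_top a) (Subgroup.mem_top b)

theorem card_range : Nat.card f0Hom.range = 8 := by
  rw [← Nat.card_congr (MonoidHom.ofInjective f0Hom_injective).toEquiv,
    Nat.card_eq_fintype_card, QuaternionGroup.card]

theorem fact24 : (24 : ℕ).factorization 3 = 1 := by
  have h : (24 : ℕ) = 3 * 8 := by norm_num
  rw [h, Nat.factorization_mul (by norm_num) (by norm_num), Finsupp.add_apply,
    Nat.prime_three.factorization_self, Nat.factorization_eq_zero_of_not_dvd (by norm_num)]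

theorem normal_class (N : Subgroup G0) (hN : N.Normal) :
    N = ⊥ ∨ N = ⊤ ∨ N = Subgroup.center G0 ∨ N = f0Hom.range := by
  by_cases hbot : N = ⊥
  · exact Or.inl hbot
  right
  obtain ⟨⟨g, hg⟩, hg1⟩ := (Subgroup.ne_bot_iff_exists_ne_one).1 hbot
  have hg1' : g ≠ 1 := fun h => hg1 (Subtype.ext h)
  have hneg : (-1 : G0) ∈ N := by
    obtain ⟨a, n, h | h⟩ := neg_one_mem g hg1'
    · rw [← h]
      exact pow_mem (mul_mem hg (hN.conj_mem g hg a)) _
    · rw [← h]
      exact pow_mem hg _
  have hZle : Subgroup.center G0 ≤ N := by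
    intro z hz
    rcases (center_iff z).1 hz with rfl | rfl
    · exact one_mem N
    · exact hneg
  by_cases hsub : N ≤ Subgroup.center G0
  · exact Or.inr (Or.inl (le_antisymm hsub hZle))
  · obtain ⟨k, hkN, hkZ⟩ := Set.not_subset.1 hsub
    -- an element of order four in N
    have h4 : ∃ c ∈ N, c ^ 4 = 1 ∧ c ^ 2 ≠ 1 := by
      by_cases hk4 : k ^ 4 = 1
      · refine ⟨k, hkN, hk4, fun h2 => hkZ ?_⟩
        exact (center_iff k).2 (sq_one k h2)
      · obtain ⟨a, ha1, ha2⟩ := comm4 k hk4
        exact ⟨_, mul_mem (hN.conj_mem k hkN a) (inv_mem hkN), ha1, ha2⟩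
    obtain ⟨c, hcN, hc4, hc2⟩ := h4
    have hA0 : A0 ∈ N := by
      obtain ⟨a, ha⟩ := conj4 c hc4 hc2
      rw [← ha]
      exact hN.conj_mem c hcN a
    have hall : ∀ h : G0, h ^ 4 = 1 → h ^ 2 ≠ 1 → h ∈ N := by
      intro h h4 h2
      obtain ⟨a, ha⟩ := conj4 h h4 h2
      have : h = a⁻¹ * A0 * a⁻¹⁻¹ := by
        rw [← ha]
        group
      rw [this]
      exact hN.conj_mem A0 hA0 a⁻¹
    have hQle : f0Hom.range ≤ N := by
      intro x hx
      rw [mem_range_iff] at hx
      obtain ⟨g', h', ⟨g4, g2⟩, ⟨h4', h2'⟩, rfl⟩ := prod4 x hx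
      exact mul_mem (hall g' g4 g2) (hall h' h4' h2')
    by_cases hNQ : N ≤ f0Hom.range
    · exact Or.inr (Or.inr (le_antisymm hNQ hQle))
    · left
      have h1 : Nat.card f0Hom.range ∣ Nat.card N := Subgroup.card_dvd_of_le hQle
      have h2 : Nat.card N ∣ Nat.card G0 := Subgroup.card_subgroup_dvd_card N
      rw [card_range] at h1
      rw [Nat.card_eq_fintype_card (α := G0), card_G0] at h2
      have h3 : Nat.card N ≠ 8 := by
        intro h8
        apply hNQ
        have : f0Hom.range = N := by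
          apply Subgroup.eq_of_le_of_card_ge hQle
          rw [h8, card_range]
        rw [this]
      have h24 : Nat.card N = 24 := by
        obtain ⟨m, hm⟩ := h1
        rw [hm] at h2 h3 ⊢
        have hm3 : m ∣ 3 := by
          have : 8 * m ∣ 8 * 3 := h2
          exact (Nat.mul_dvd_mul_iff_left (by norm_num)).1 this
        have : m = 1 ∨ m = 3 := (Nat.dvd_prime Nat.prime_three).1 hm3
        rcases this with rfl | rfl
        · exact absurd rfl h3
        · rfl
      apply Subgroup.eq_top_of_card_eq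
      rw [h24, Nat.card_eq_fintype_card (α := G0), card_G0]

/-- The group SL₂ over the field with 3 elements has order 24 and centre of order 2; its commutator subgroup has order 8, is isomorphic to the quaternion group of order 8 and is complemented by every Sylow 3-subgroup (so the group is a semidirect product of a quaternion group of order 8 by a cyclic group of order 3); and its only normal subgroups besides the trivial subgroup and the whole group are the centre and the commutator subgroup. -/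
theorem result :
    Nat.card (Matrix.SpecialLinearGroup (Fin 2) (ZMod 3)) = 24 ∧
    Nat.card (Subgroup.center (Matrix.SpecialLinearGroup (Fin 2) (ZMod 3))) = 2 ∧
    Nat.card (commutator (Matrix.SpecialLinearGroup (Fin 2) (ZMod 3))) = 8 ∧
    Nonempty (commutator (Matrix.SpecialLinearGroup (Fin 2) (ZMod 3)) ≃* QuaternionGroup 2) ∧
    (∀ P : Sylow 3 (Matrix.SpecialLinearGroup (Fin 2) (ZMod 3)),
      Subgroup.IsComplement' (commutator (Matrix.SpecialLinearGroup (Fin 2) (ZMod 3)))
        (P : Subgroup (Matrix.SpecialLinearGroup (Fin 2) (ZMod 3)))) ∧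
    ∀ N : Subgroup (Matrix.SpecialLinearGroup (Fin 2) (ZMod 3)), N.Normal →
      N = ⊥ ∨ N = ⊤ ∨ N = Subgroup.center (Matrix.SpecialLinearGroup (Fin 2) (ZMod 3)) ∨
        N = commutator (Matrix.SpecialLinearGroup (Fin 2) (ZMod 3)) := by
  have hcard : Nat.card G0 = 24 := by rw [Nat.card_eq_fintype_card, card_G0]
  refine ⟨hcard, ?_, ?_, ?_, ?_, ?_⟩
  · rw [Nat.card_eq_fintype_card, card_center_G0]
  · rw [commutator_eq, card_range]
  · rw [commutator_eq]
    exact ⟨(MonoidHom.ofInjective f0Hom_injective).symm⟩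
  · intro P
    have hP : Nat.card (P : Subgroup G0) = 3 := by
      rw [Sylow.card_eq_multiplicity, hcard, fact24, pow_one]
    apply Subgroup.isComplement'_of_coprime
    · rw [commutator_eq, card_range, hP, hcard]
    · rw [commutator_eq, card_range, hP]
      norm_num
  · intro N hN
    rw [commutator_eq]
    exact normal_class N hN

end Cfsg.Agent.S2427
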