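import Cfsg.Statements.S1303
import Mathlib
import Cfsg.Agent.S2427
import Cfsg.Agent.Lib.Helper4_PCore

set_option autoImplicit false
open Cfsg

namespace Cfsg.Agent.S1303

open Matrix Cfsg.Agent.S0257 Cfsg.Agent.S2427 Cfsg.Agent.Lib.Helper4_PCore

set_option maxRecDepth 100000 in
theorem cent_range : ∀ x : G0, (∀ q : G0, q ^ 4 = 1 → q * x = x * q) → x ^ 4 = 1 := by decide

def w0 : G0 := ⟨!![1, 1; 0, 1], by decide⟩

theorem w0_pow : w0 ^ 3 = 1 := by decide
theorem w0_ne : w0 ≠ 1 := by decide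

theorem card_G0' : Nat.card G0 = 24 := by rw [Nat.card_eq_fintype_card, card_G0]

theorem primeCore_eq_bot : Cfsg.pPrimeCore 2 G0 = ⊥ := by
  unfold Cfsg.pPrimeCore
  rw [eq_bot_iff]
  apply sSup_le
  rintro N ⟨hN, hc⟩
  rcases normal_class N hN with h | h | h | h
  · exact h.le
  · rw [h, Subgroup.card_top, card_G0'] at hc
    norm_num at hc
  · rw [h, Nat.card_eq_fintype_card, card_center_G0] at hc
    norm_num at hc
  · rw [h, card_range] at hc
    norm_num at hc

theorem range_isPGroup : IsPGroup 2 f0Hom.range :=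
  IsPGroup.of_card (n := 3) (by rw [card_range]; norm_num)

theorem pPrimePCore_eq : Cfsg.pPrimePCore 2 G0 = f0Hom.range := by
  have hMn : (Cfsg.pPrimePCore 2 G0).Normal := by
    unfold Cfsg.pPrimePCore
    haveI := pCore_normal 2 (G0 ⧸ pPrimeCore 2 G0)
    exact Subgroup.Normal.comap inferInstance _
  have hQle : f0Hom.range ≤ Cfsg.pPrimePCore 2 G0 := by
    intro x hx
    unfold Cfsg.pPrimePCore
    rw [Subgroup.mem_comap]
    have h1 : (f0Hom.range.map (QuotientGroup.mk' (pPrimeCore 2 G0))).Normal :=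
      range_normal.map _ (QuotientGroup.mk'_surjective _)
    have h2 : IsPGroup 2 (f0Hom.range.map (QuotientGroup.mk' (pPrimeCore 2 G0))) :=
      range_isPGroup.map _
    exact le_pCore _ h1 h2 (Subgroup.mem_map_of_mem _ hx)
  have hne_top : Cfsg.pPrimePCore 2 G0 ≠ ⊤ := by
    intro htop
    have hp : Cfsg.pCore 2 (G0 ⧸ pPrimeCore 2 G0) = ⊤ := by
      rw [eq_top_iff]
      intro y _
      obtain ⟨x, rfl⟩ := QuotientGroup.mk'_surjective (pPrimeCore 2 G0) y
      have : x ∈ Cfsg.pPrimePCore 2 G0 := by rw [htop]; exact Subgroup.mem_top x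
      exact this
    have hpg : IsPGroup 2 (Cfsg.pCore 2 (G0 ⧸ pPrimeCore 2 G0)) := pCore_isPGroup
    rw [hp] at hpg
    have hpg' : IsPGroup 2 (G0 ⧸ pPrimeCore 2 G0) := hpg.of_equiv Subgroup.topEquiv
    obtain ⟨n, hn⟩ := IsPGroup.exists_card_eq hpg'
    have hcard : Nat.card (G0 ⧸ pPrimeCore 2 G0) = 24 := by
      rw [← Subgroup.index_eq_card, primeCore_eq_bot, Subgroup.index_bot, card_G0']
    rw [hcard] at hn
    have h3 : 3 ∣ 2 ^ n := by
      rw [← hn]
      norm_num
    have := (Nat.Prime.dvd_of_dvd_pow Nat.prime_three h3)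
    norm_num at this
  rcases normal_class _ hMn with h | h | h | h
  · exfalso
    have h1 : Nat.card f0Hom.range ≤ Nat.card (Cfsg.pPrimePCore 2 G0) :=
      Subgroup.card_le_of_le hQle
    rw [h, card_range, Subgroup.card_bot] at h1
    omega
  · exact absurd h hne_top
  · exfalso
    have h1 : Nat.card f0Hom.range ≤ Nat.card (Cfsg.pPrimePCore 2 G0) :=
      Subgroup.card_le_of_le hQle
    rw [h, card_range, Nat.card_eq_fintype_card, card_center_G0] at h1
    omega
  · exact h

/-- The group X = SL(2, 3): it is 2-constrained, O_{2'}(X) = 1, its centre A = Z(X) contains every involution of X = C_X(A), and X has a subgroup of order 3 (normalized by A) not contained in O_{2'}(X). -/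
theorem result : Cfsg.IsPConstrained 2 (Matrix.SpecialLinearGroup (Fin 2) (ZMod 3)) ∧ Cfsg.pPrimeCore 2 (Matrix.SpecialLinearGroup (Fin 2) (ZMod 3)) = ⊥ ∧ (∀ t : Matrix.SpecialLinearGroup (Fin 2) (ZMod 3), orderOf t = 2 → t ∈ Subgroup.center (Matrix.SpecialLinearGroup (Fin 2) (ZMod 3))) ∧ ∃ Q : Subgroup (Matrix.SpecialLinearGroup (Fin 2) (ZMod 3)), Nat.card ↥Q = 3 ∧ ¬ (Q ≤ Cfsg.pPrimeCore 2 (Matrix.SpecialLinearGroup (Fin 2) (ZMod 3))) := by
  refine ⟨?_, primeCore_eq_bot, ?_, ?_⟩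
  · intro P
    have hMp : IsPGroup 2 (Cfsg.pPrimePCore 2 G0) := by
      rw [pPrimePCore_eq]
      exact range_isPGroup
    have hPtop : (⊤ : Subgroup (Cfsg.pPrimePCore 2 G0)) = P :=
      P.is_maximal' (hMp.to_subgroup ⊤) le_top
    have hmap : ((P : Subgroup (Cfsg.pPrimePCore 2 G0)).map (Cfsg.pPrimePCore 2 G0).subtype) =
        Cfsg.pPrimePCore 2 G0 := by
      rw [← hPtop, ← MonoidHom.range_eq_map, Subgroup.range_subtype]
    rw [hmap, pPrimePCore_eq]
    intro x hx
    rw [mem_range_iff]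
    apply cent_range
    intro q hq
    exact hx q ((mem_range_iff q).2 hq)
  · intro t ht
    have h2 : t ^ 2 = 1 := by
      have := pow_orderOf_eq_one t
      rwa [ht] at this
    exact (center_iff t).2 (sq_one t h2)
  · refine ⟨Subgroup.zpowers w0, ?_, ?_⟩
    · rw [Nat.card_zpowers]
      haveI : Fact (Nat.Prime 3) := ⟨Nat.prime_three⟩
      exact orderOf_eq_prime w0_pow w0_ne
    · intro h
      have : w0 ∈ Cfsg.pPrimeCore 2 G0 := h (Subgroup.mem_zpowers w0)
      rw [primeCore_eq_bot, Subgroup.mem_bot] at this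
      exact w0_ne this

end Cfsg.Agent.S1303
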