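import Mathlib
import Cfsg.Statements.S1304

set_option autoImplicit false
open Cfsg
open scoped commutatorElement

namespace Cfsg.Agent.S1304

/-- Let X be a perfect group and α an automorphism of X with α(x) x⁻¹ central for every x. Then α is the identity. -/
theorem result {X : Type*} [Group X] (hperf : commutator X = ⊤) (α : X ≃* X) (h : ∀ x : X, α x * x⁻¹ ∈ Subgroup.center X) : ∀ x : X, α x = x := by
  have key : ∀ a : X, ∃ z : X, (∀ g, g * z = z * g) ∧ α a = z * a := by
    intro a
    refine ⟨α a * a⁻¹, ?_, by simp⟩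
    have ha := h a
    rw [Subgroup.mem_center_iff] at ha
    exact ha
  -- α fixes every commutator
  have hcomm : ∀ a b : X, α ⁅a, b⁆ = ⁅a, b⁆ := by
    intro a b
    obtain ⟨za, ha, e1⟩ := key a
    obtain ⟨zb, hb, e2⟩ := key b
    rw [commutatorElement_def, map_mul, map_mul, map_mul, map_inv, map_inv, e1, e2]
    have c3 : a * zb = zb * a := hb a
    rw [mul_inv_rev, mul_inv_rev]
    have c6 : ∀ g, g * za⁻¹ = za⁻¹ * g := fun g => ((show Commute g za from ha g).inv_right).eq
    have c7 : ∀ g, g * zb⁻¹ = zb⁻¹ * g := fun g => ((show Commute g zb from hb g).inv_right).eq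
    calc za * a * (zb * b) * (a⁻¹ * za⁻¹) * (b⁻¹ * zb⁻¹)
        = za * a * (zb * b) * a⁻¹ * za⁻¹ * b⁻¹ * zb⁻¹ := by simp only [mul_assoc]
      _ = za⁻¹ * (za * a * (zb * b) * a⁻¹) * b⁻¹ * zb⁻¹ := by rw [c6]
      _ = a * (zb * b) * a⁻¹ * b⁻¹ * zb⁻¹ := by simp only [mul_assoc, inv_mul_cancel_left]
      _ = zb⁻¹ * (a * (zb * b) * a⁻¹ * b⁻¹) := by rw [c7]
      _ = zb⁻¹ * (zb * a * b * a⁻¹ * b⁻¹) := by rw [← mul_assoc a zb b, c3]
      _ = a * b * a⁻¹ * b⁻¹ := by simp only [mul_assoc, inv_mul_cancel_left]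
  have : ∀ x ∈ commutator X, α x = x := by
    intro x hx
    rw [commutator_def, Subgroup.commutator_def] at hx
    induction hx using Subgroup.closure_induction with
    | mem y hy =>
      obtain ⟨a, _, b, _, rfl⟩ := hy
      exact hcomm a b
    | one => simp
    | mul a b _ _ iha ihb => rw [map_mul, iha, ihb]
    | inv a _ iha => rw [map_inv, iha]
  intro x
  exact this x (hperf ▸ Subgroup.mem_top x)

end Cfsg.Agent.S1304
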