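import Cfsg.Statements.S1313
import Cfsg.Agent.S1265

set_option autoImplicit false
open Cfsg

namespace Cfsg.Agent.S1313

/-- For a finite group H, |H| ≤ |F*(H)|!. -/
theorem result {H : Type*} [Group H] [Finite H] : Nat.card H ≤ Nat.factorial (Nat.card ↥(Cfsg.generalizedFittingSubgroup H)) := by
  classical
  set Fs := Cfsg.generalizedFittingSubgroup H with hFs
  haveI hn : Fs.Normal := Cfsg.Agent.S1265.gf_normal H
  let φ : H →* Equiv.Perm ↥Fs := (MulAut.toPerm ↥Fs).comp (MulAut.conjNormal (H := Fs))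
  have hφ : ∀ (h : H) (x : ↥Fs), ((φ h x : ↥Fs) : H) = h * x * h⁻¹ := by
    intro h x
    exact MulAut.conjNormal_apply h x
  have hker : φ.ker ≤ Fs := by
    intro h hh
    apply Cfsg.Agent.S1265.result
    rw [Subgroup.mem_centralizer_iff]
    intro x hx
    have h1 : φ h ⟨x, hx⟩ = ⟨x, hx⟩ := by
      rw [MonoidHom.mem_ker.mp hh]; rfl
    have h2 := congrArg Subtype.val h1
    rw [hφ] at h2
    simp only at h2
    calc x * h = (h * x * h⁻¹) * h := by rw [h2]
      _ = h * x := by group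
  have hrange : φ.range ≤ MulAction.stabilizer (Equiv.Perm ↥Fs) (1 : ↥Fs) := by
    rintro _ ⟨h, rfl⟩
    rw [MulAction.mem_stabilizer_iff]
    show φ h 1 = 1
    apply Subtype.ext
    rw [hφ]
    simp
  have h1 : Nat.card H = Nat.card ↥φ.ker * Nat.card ↥φ.range := by
    rw [← Subgroup.index_ker]
    exact (Subgroup.card_mul_index _).symm
  have h2 : Nat.card ↥φ.ker ≤ Nat.card ↥Fs := Subgroup.card_le_of_le hker
  have h3 : Nat.card ↥φ.range ≤ Nat.card ↥(MulAction.stabilizer (Equiv.Perm ↥Fs) (1 : ↥Fs)) :=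
    Subgroup.card_le_of_le hrange
  have h4 := Subgroup.card_mul_index (MulAction.stabilizer (Equiv.Perm ↥Fs) (1 : ↥Fs))
  have h5 : (MulAction.stabilizer (Equiv.Perm ↥Fs) (1 : ↥Fs)).index = Nat.card ↥Fs := by
    rw [MulAction.index_stabilizer, MulAction.orbit_eq_univ, Set.ncard_univ]
  rw [h5, Nat.card_perm] at h4
  calc Nat.card H = Nat.card ↥φ.ker * Nat.card ↥φ.range := h1
    _ ≤ Nat.card ↥Fs * Nat.card ↥(MulAction.stabilizer (Equiv.Perm ↥Fs) (1 : ↥Fs)) :=
        Nat.mul_le_mul h2 h3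
    _ = (Nat.card ↥Fs).factorial := by rw [mul_comm]; exact h4

end Cfsg.Agent.S1313
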