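import Cfsg.Statements.S1314
import Cfsg.Agent.Lib.Helper3_Components
import Cfsg.Agent.Lib.Helper3_SupNormalizer

set_option autoImplicit false
open Cfsg

namespace Cfsg.Agent.S1314

open scoped commutatorElement

theorem comm_left_central {G : Type*} [Group G] (p z h : G) (hz : z * h = h * z) :
    ⁅p * z, h⁆ = ⁅p, h⁆ := by
  rw [commutatorElement_def, commutatorElement_def]
  calc p * z * h * (p * z)⁻¹ * h⁻¹ = p * (z * h) * z⁻¹ * p⁻¹ * h⁻¹ := by group
    _ = p * (h * z) * z⁻¹ * p⁻¹ * h⁻¹ := by rw [hz]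
    _ = p * h * p⁻¹ * h⁻¹ := by group

theorem comm_right_central {G : Type*} [Group G] (p q w : G) (hw : w * p = p * w) :
    ⁅p, q * w⁆ = ⁅p, q⁆ := by
  rw [commutatorElement_def, commutatorElement_def]
  have hw' : w * p⁻¹ = p⁻¹ * w := by
    calc w * p⁻¹ = p⁻¹ * (p * w) * p⁻¹ := by group
      _ = p⁻¹ * (w * p) * p⁻¹ := by rw [hw]
      _ = p⁻¹ * w := by group
  calc p * (q * w) * p⁻¹ * (q * w)⁻¹ = p * q * (w * p⁻¹) * w⁻¹ * q⁻¹ := by group
    _ = p * q * (p⁻¹ * w) * w⁻¹ * q⁻¹ := by rw [hw']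
    _ = p * q * p⁻¹ * q⁻¹ := by group

/-- Let x be an involution of a group G and L a perfect subgroup with ⁅L, x L x⁻¹⁆ = 1. Then l ↦ l (x l x⁻¹) is a group homomorphism π from L to G whose kernel is central in L and whose image lies in C_G(x); and the commutator subgroup of C_{L ⊔ xLx⁻¹}(x) equals the image of π. -/
theorem result {G : Type*} [Group G] [Finite G] (x : G) (hx : orderOf x = 2) (L : Subgroup G) (hperf : ⁅L, L⁆ = L) (hcomm : ⁅L, L.map (MulAut.conj x).toMonoidHom⁆ = ⊥) : ∃ π : ↥L →* G, (∀ l : ↥L, π l = (l : G) * (x * (l : G) * x⁻¹)) ∧ π.ker ≤ Subgroup.center ↥L ∧ π.range ≤ Subgroup.centralizer ({x} : Set G) ∧ ⁅(L ⊔ L.map (MulAut.conj x).toMonoidHom) ⊓ Subgroup.centralizer ({x} : Set G), (L ⊔ L.map (MulAut.conj x).toMonoidHom) ⊓ Subgroup.centralizer ({x} : Set G)⁆ = π.range := by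
  classical
  have hxx : x * x = 1 := by
    have := pow_orderOf_eq_one x
    rw [hx, pow_two] at this
    exact this
  have hxinv : x⁻¹ = x := inv_eq_of_mul_eq_one_left hxx
  set σ : G → G := fun g => x * g * x⁻¹ with hσ
  have hσmul : ∀ a b, σ (a * b) = σ a * σ b := by
    intro a b; simp only [hσ]; group
  have hσinv : ∀ a, σ a⁻¹ = (σ a)⁻¹ := by
    intro a; simp only [hσ]; group
  have hσσ : ∀ g, σ (σ g) = g := by
    intro g
    simp only [hσ]
    calc x * (x * g * x⁻¹) * x⁻¹ = (x * x) * g * (x * x)⁻¹ := by group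
      _ = g := by rw [hxx]; group
  have hσmem : ∀ b ∈ L, σ b ∈ L.map (MulAut.conj x).toMonoidHom := fun b hb => ⟨b, hb, rfl⟩
  have hLL' : ∀ a ∈ L, ∀ b ∈ L, a * σ b = σ b * a := by
    intro a ha b hb
    exact Cfsg.Agent.Lib.Helper3_Components.commute_of_commutator_eq_bot hcomm ha (hσmem b hb)
  let π : ↥L →* G := MonoidHom.mk' (fun l => (l : G) * σ (l : G)) (by
    intro a b
    show ((a * b : ↥L) : G) * σ ((a * b : ↥L) : G) = (a : G) * σ (a : G) * ((b : G) * σ (b : G))
    rw [Subgroup.coe_mul, hσmul]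
    have h := hLL' b b.2 a a.2
    calc (a : G) * b * (σ a * σ b) = a * (b * σ a) * σ b := by group
      _ = a * (σ a * b) * σ b := by rw [h]
      _ = a * σ a * (b * σ b) := by group)
  have hπ : ∀ l : ↥L, π l = (l : G) * σ (l : G) := fun l => rfl
  -- the range is centralized by x
  have hπx : ∀ l : ↥L, σ (π l) = π l := by
    intro l
    rw [hπ, hσmul, hσσ]
    exact (hLL' l l.2 l l.2).symm
  have hrange_cent : π.range ≤ Subgroup.centralizer ({x} : Set G) := by
    rintro _ ⟨l, rfl⟩
    rw [Subgroup.mem_centralizer_singleton_iff]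
    have h := hπx l
    simp only [hσ] at h
    calc π l * x = (x * π l * x⁻¹) * x := by rw [h]
      _ = x * π l := by group
  set M := L ⊔ L.map (MulAut.conj x).toMonoidHom with hM
  have hrangeM : π.range ≤ M := by
    rintro _ ⟨l, rfl⟩
    rw [hπ]
    exact Subgroup.mul_mem_sup l.2 (hσmem l l.2)
  refine ⟨π, hπ, ?_, hrange_cent, ?_⟩
  · -- kernel is central
    intro l hl
    rw [MonoidHom.mem_ker, hπ] at hl
    rw [Subgroup.mem_center_iff]
    intro y
    apply Subtype.ext
    show (y : G) * l = l * y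
    have h1 : (l : G) = (σ (l : G))⁻¹ := eq_inv_of_mul_eq_one_left hl
    have h2 : (y : G) * σ (l : G) = σ (l : G) * y := hLL' y y.2 l l.2
    have h3 : (y : G) * (σ (l : G))⁻¹ = (σ (l : G))⁻¹ * y := by
      calc (y : G) * (σ (l : G))⁻¹ = (σ (l : G))⁻¹ * (σ (l : G) * y) * (σ (l : G))⁻¹ := by group
        _ = (σ (l : G))⁻¹ * (y * σ (l : G)) * (σ (l : G))⁻¹ := by rw [h2]
        _ = (σ (l : G))⁻¹ * y := by group
    rw [h1]; exact h3
  · -- the commutator subgroup
    apply le_antisymm
    · rw [Subgroup.commutator_le]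
      -- decomposition of elements of C
      have hdec : ∀ g ∈ M ⊓ Subgroup.centralizer ({x} : Set G), ∃ a : ↥L, ∃ z : G,
          g = π a * z ∧ ∀ m ∈ M, z * m = m * z := by
        rintro g ⟨hgM, hgx⟩
        have hn : L.map (MulAut.conj x).toMonoidHom ≤ Subgroup.normalizer (L : Set G) := by
          refine le_trans ?_ (Subgroup.centralizer_le_normalizer _)
          rw [← Subgroup.commutator_eq_bot_iff_le_centralizer, Subgroup.commutator_comm]
          exact hcomm
        obtain ⟨a, ha, b', ⟨b, hb, rfl⟩, rfl⟩ :=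
          Cfsg.Agent.Lib.Helper3_SupNormalizer.exists_mul_of_mem_sup L _ hn hgM
        have hb' : (MulAut.conj x).toMonoidHom b = σ b := rfl
        rw [hb'] at hgx ⊢
        replace hgx : a * σ b ∈ Subgroup.centralizer ({x} : Set G) := hgx
        rw [Subgroup.mem_centralizer_singleton_iff] at hgx
        have hfix : σ (a * σ b) = a * σ b := by
          simp only [hσ] at hgx ⊢
          calc x * (a * (x * b * x⁻¹)) * x⁻¹ = ((a * (x * b * x⁻¹)) * x) * x⁻¹ := by rw [hgx]
            _ = a * (x * b * x⁻¹) := by group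
        rw [hσmul, hσσ] at hfix
        -- hfix : σ a * b = a * σ b
        set z := a⁻¹ * b with hz
        have hzL : z ∈ L := L.mul_mem (L.inv_mem ha) hb
        have hσz : σ z = z := by
          rw [hz, hσmul, hσinv]
          have h1 := hLL' a ha a ha
          -- σ b = (σ a) * a⁻¹ * b ... from hfix
          have h2 : σ b = a⁻¹ * (σ a * b) := by rw [hfix]; group
          rw [h2]
          have h3 : (σ a)⁻¹ * a⁻¹ = a⁻¹ * (σ a)⁻¹ := by
            calc (σ a)⁻¹ * a⁻¹ = (a * σ a)⁻¹ := by group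
              _ = (σ a * a)⁻¹ := by rw [h1]
              _ = a⁻¹ * (σ a)⁻¹ := by group
          calc (σ a)⁻¹ * (a⁻¹ * (σ a * b)) = ((σ a)⁻¹ * a⁻¹) * (σ a * b) := by group
            _ = (a⁻¹ * (σ a)⁻¹) * (σ a * b) := by rw [h3]
            _ = a⁻¹ * b := by group
        refine ⟨⟨a, ha⟩, z, ?_, ?_⟩
        · rw [hπ]
          show a * σ b = a * σ a * z
          have : b = a * z := by rw [hz]; group
          conv_lhs => rw [this, hσmul, hσz]
          group
        · have hzc : M ≤ Subgroup.centralizer ({z} : Set G) := by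
            apply sup_le
            · intro y hy
              rw [Subgroup.mem_centralizer_singleton_iff]
              have := hLL' y hy z hzL
              rwa [hσz] at this
            · rintro _ ⟨y, hy, rfl⟩
              rw [Subgroup.mem_centralizer_singleton_iff]
              exact (hLL' z hzL y hy).symm
          intro m hm
          have := hzc hm
          rw [Subgroup.mem_centralizer_singleton_iff] at this
          exact this.symm
      intro g1 hg1 g2 hg2
      obtain ⟨a1, z1, rfl, hz1⟩ := hdec g1 hg1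
      obtain ⟨a2, z2, rfl, hz2⟩ := hdec g2 hg2
      rw [comm_left_central _ _ _ (hz1 _ hg2.1),
        comm_right_central _ _ _ (hz2 _ (hrangeM ⟨a1, rfl⟩))]
      refine ⟨⁅a1, a2⁆, ?_⟩
      rw [map_commutatorElement]
    · haveI : Group.IsPerfect ↥L := Subgroup.isPerfect_iff.mpr hperf
      haveI : Group.IsPerfect ↥π.range := Group.IsPerfect.range π
      have h1 : ⁅π.range, π.range⁆ = π.range := Subgroup.isPerfect_iff.mp inferInstance
      rw [← h1]
      have hle : π.range ≤ M ⊓ Subgroup.centralizer ({x} : Set G) := le_inf hrangeM hrange_cent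
      exact Subgroup.commutator_mono hle hle

end Cfsg.Agent.S1314
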