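import Cfsg.Statements.S1316
import Cfsg.Agent.Lib.Helper3_Components
import Cfsg.Agent.Lib.Helper3_SupNormalizer
import Cfsg.Agent.Lib.Helper3_LayerPre
import Cfsg.Agent.S1265
import Cfsg.Agent.S1317

set_option autoImplicit false
open Cfsg

namespace Cfsg.Agent.S1316

/-- `(X ⊔ Y) / X` is solvable when `Y` is solvable and normalizes `X` -/
theorem isSolvable_quotient_sup {G : Type*} [Group G] (X Y : Subgroup G)
    (hn : Y ≤ Subgroup.normalizer (X : Set G)) [hY : Group.IsSolvable ↥Y]
    [hnorm : (X.subgroupOf (X ⊔ Y)).Normal] :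
    Group.IsSolvable (↥(X ⊔ Y) ⧸ X.subgroupOf (X ⊔ Y)) := by
  let g : ↥(X ⊔ Y) →* ↥(X ⊔ Y) ⧸ X.subgroupOf (X ⊔ Y) := QuotientGroup.mk' _
  let φ : ↥Y →* ↥(X ⊔ Y) ⧸ X.subgroupOf (X ⊔ Y) := g.comp (Subgroup.inclusion le_sup_right)
  have hφ : Function.Surjective φ := by
    intro q
    obtain ⟨j, rfl⟩ := QuotientGroup.mk'_surjective _ q
    obtain ⟨x, hx, y, hy, hj⟩ :=
      Cfsg.Agent.Lib.Helper3_SupNormalizer.exists_mul_of_mem_sup X Y hn j.2
    refine ⟨⟨y, hy⟩, ?_⟩
    show g (Subgroup.inclusion le_sup_right ⟨y, hy⟩) = g j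
    have e : j = (Subgroup.inclusion le_sup_left ⟨x, hx⟩ : ↥(X ⊔ Y)) *
        Subgroup.inclusion le_sup_right ⟨y, hy⟩ := by
      apply Subtype.ext; exact hj
    rw [e, map_mul]
    have : g (Subgroup.inclusion le_sup_left ⟨x, hx⟩) = 1 := by
      show (QuotientGroup.mk' (X.subgroupOf (X ⊔ Y))) _ = 1
      rw [QuotientGroup.mk'_apply, QuotientGroup.eq_one_iff, Subgroup.mem_subgroupOf]
      exact hx
    rw [this, one_mul]
  exact Group.isSolvable_of_surjective hφ

/-- a perfect subgroup lies in every term of the derived series -/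
theorem perfect_le_derivedSeries {A : Type*} [Group A] (K : Subgroup A) (hK : ⁅K, K⁆ = K) (n : ℕ) :
    K ≤ derivedSeries A n := by
  induction n with
  | zero => exact le_top
  | succ n ih =>
    rw [derivedSeries_succ]
    calc K = ⁅K, K⁆ := hK.symm
      _ ≤ ⁅derivedSeries A n, derivedSeries A n⁆ := Subgroup.commutator_mono ih ih

/-- For a finite group X, E(X) equals the intersection of the derived series of F*(X) (its last term). -/
theorem result {X : Type*} [Group X] [Finite X] : (⨅ n : ℕ, (derivedSeries ↥(Cfsg.generalizedFittingSubgroup X) n).map (Cfsg.generalizedFittingSubgroup X).subtype) = Cfsg.layer X := by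
  classical
  have hEn := Cfsg.Agent.S1265.layer_normal X
  have hFn := Cfsg.Agent.S1265.fitting_normal X
  set E := Cfsg.layer X with hE
  set F := Cfsg.fittingSubgroup X with hF
  have hFs : Cfsg.generalizedFittingSubgroup X = E ⊔ F := rfl
  rw [hFs]
  have hEle : E ≤ E ⊔ F := le_sup_left
  have hE'perf : ⁅E.subgroupOf (E ⊔ F), E.subgroupOf (E ⊔ F)⁆ = E.subgroupOf (E ⊔ F) := by
    have h1 := Cfsg.Agent.Lib.Helper3_LayerPre.layer_perfect X
    apply le_antisymm
    · rw [Subgroup.commutator_le]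
      intro a ha b hb
      exact Subgroup.mul_mem _ (Subgroup.mul_mem _ (Subgroup.mul_mem _ ha hb)
        (Subgroup.inv_mem _ ha)) (Subgroup.inv_mem _ hb)
    · intro x hx
      rw [Subgroup.mem_subgroupOf] at hx
      have hx2 : (x : X) ∈ ⁅E, E⁆ := by rw [h1]; exact hx
      have hmap : ⁅E, E⁆ = (⁅E.subgroupOf (E ⊔ F), E.subgroupOf (E ⊔ F)⁆).map (E ⊔ F).subtype := by
        rw [Subgroup.map_commutator, Subgroup.map_subgroupOf_eq_of_le hEle]
      rw [hmap] at hx2
      obtain ⟨y, hy, hyx⟩ := hx2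
      have : y = x := Subtype.ext hyx
      rw [← this]; exact hy
  apply le_antisymm
  · -- some term of the derived series lies in E
    have hn : F ≤ Subgroup.normalizer (E : Set X) := by
      rw [Subgroup.normalizer_eq_top_iff.mpr hEn]; exact le_top
    haveI hE'n : (E.subgroupOf (E ⊔ F)).Normal := inferInstance
    haveI hFsolv : Group.IsSolvable ↥F := by
      haveI := Cfsg.Agent.S1317.fitting_nilpotent X
      infer_instance
    haveI hqs : Group.IsSolvable (↥(E ⊔ F) ⧸ E.subgroupOf (E ⊔ F)) :=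
      isSolvable_quotient_sup E F hn
    obtain ⟨n, hn'⟩ := (Group.isSolvable_def _).mp hqs
    have h1 : derivedSeries ↥(E ⊔ F) n ≤ E.subgroupOf (E ⊔ F) := by
      have h2 := map_derivedSeries_le_derivedSeries (QuotientGroup.mk' (E.subgroupOf (E ⊔ F))) n
      rw [hn', le_bot_iff] at h2
      intro x hx
      have h3 : QuotientGroup.mk' (E.subgroupOf (E ⊔ F)) x ∈
          (derivedSeries ↥(E ⊔ F) n).map (QuotientGroup.mk' (E.subgroupOf (E ⊔ F))) := ⟨x, hx, rfl⟩
      rw [h2, Subgroup.mem_bot] at h3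
      exact (QuotientGroup.eq_one_iff x).mp h3
    refine (iInf_le _ n).trans ?_
    rw [Subgroup.map_le_iff_le_comap]
    exact h1
  · apply le_iInf
    intro n
    have h1 := perfect_le_derivedSeries (E.subgroupOf (E ⊔ F)) hE'perf n
    have h2 := Subgroup.map_mono (f := (E ⊔ F).subtype) h1
    rwa [Subgroup.map_subgroupOf_eq_of_le hEle] at h2

end Cfsg.Agent.S1316
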