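import Cfsg.Statements.S1319
import Cfsg.Agent.Lib.Helper3_Components

set_option autoImplicit false
open Cfsg

namespace Cfsg.Agent.S1319

/-- Let A be a subnormal subgroup of the finite group X with E(A) = A. Then A ≤ E(X) and A is normal in E(X). -/
theorem result {X : Type*} [Group X] [Finite X] (A : Subgroup X) (hsn : A.IsSubnormal) (hA : Cfsg.layer ↥A = ⊤) : A ≤ Cfsg.layer X ∧ (A.subgroupOf (Cfsg.layer X)).Normal := by
  classical
  constructor
  · have h1 : A = (Cfsg.layer ↥A).map A.subtype := by
      rw [hA, ← MonoidHom.range_eq_map, Subgroup.range_subtype]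
    rw [h1, Subgroup.map_le_iff_le_comap]
    apply sSup_le
    intro K hK
    rw [← Subgroup.map_le_iff_le_comap]
    exact le_sSup (Cfsg.Agent.Lib.Helper3_Components.component_map_subtype A hsn K hK)
  · apply Subgroup.normal_subgroupOf_of_le_normalizer
    apply sSup_le
    intro L hL
    rcases Cfsg.Agent.Lib.Helper3_Components.component_le_or_commute L A hL hsn with h | h
    · exact h.trans Subgroup.le_normalizer
    · rw [Subgroup.commutator_eq_bot_iff_le_centralizer] at h
      exact h.trans (Subgroup.centralizer_le_normalizer _)

end Cfsg.Agent.S1319
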