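import Cfsg.Statements.S1321
import Cfsg.Agent.Lib.Helper3_Components
import Cfsg.Agent.Lib.Lead_Coprime
import Cfsg.Agent.S1265

set_option autoImplicit false
open Cfsg

namespace Cfsg.Agent.S1321

/-- Let X be finite and U ≤ X. Then E(X) is generated by C_{E(X)}(U) together with ⁅E(X), U⁆ (indeed it is their product, ⁅E(X), U⁆ being normal in E(X)). -/
theorem result {X : Type*} [Group X] [Finite X] (U : Subgroup X) : Cfsg.layer X = (Cfsg.layer X ⊓ Subgroup.centralizer (U : Set X)) ⊔ ⁅Cfsg.layer X, U⁆ ∧ ⁅Cfsg.layer X, U⁆ ≤ Cfsg.layer X := by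
  classical
  have hEn := Cfsg.Agent.S1265.layer_normal X
  set E := Cfsg.layer X with hE
  set K := ⁅E, U⁆ with hK
  have hKE : K ≤ E := Subgroup.commutator_le_left E U
  refine ⟨?_, hKE⟩
  apply le_antisymm
  · -- K is subnormal
    have hKn : (K.subgroupOf E).Normal :=
      Subgroup.normal_subgroupOf_of_le_normalizer
        (Cfsg.Agent.Lib.Lead_Coprime.le_normalizer_commutator_left E U)
    have hKsn : K.IsSubnormal := Subgroup.IsSubnormal.trans hKE hKn.isSubnormal hEn.isSubnormal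
    set E2 := sSup {L : Subgroup X | Cfsg.IsComponent L ∧ ⁅L, K⁆ = ⊥} with hE2
    have hE2E : E2 ≤ E := sSup_le (fun L hL => le_sSup hL.1)
    have hE2K : ⁅E2, K⁆ = ⊥ := by
      rw [Subgroup.commutator_eq_bot_iff_le_centralizer]
      apply sSup_le
      rintro L ⟨_, hLK⟩
      rw [Subgroup.commutator_eq_bot_iff_le_centralizer] at hLK
      exact hLK
    have hE2perf : E2 ≤ ⁅E2, E2⁆ := by
      apply sSup_le
      rintro L ⟨hL, hLK⟩
      have hKp : Group.IsPerfect ↥L := hL.2.1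
      have h1 : ⁅L, L⁆ = L := Subgroup.isPerfect_iff.mp hKp
      have hle : L ≤ E2 :=
        le_sSup (show L ∈ {L : Subgroup X | Cfsg.IsComponent L ∧ ⁅L, K⁆ = ⊥} from ⟨hL, hLK⟩)
      calc L = ⁅L, L⁆ := h1.symm
        _ ≤ ⁅E2, E2⁆ := Subgroup.commutator_mono hle hle
    have hE2U : ⁅E2, U⁆ ≤ K := Subgroup.commutator_mono hE2E le_rfl
    have h1 : ⁅⁅E2, U⁆, E2⁆ = ⊥ := by
      rw [eq_bot_iff, ← hE2K, Subgroup.commutator_comm E2 K]
      exact Subgroup.commutator_mono hE2U le_rfl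
    have h2 : ⁅⁅U, E2⁆, E2⁆ = ⊥ := by
      rw [Subgroup.commutator_comm U E2]; exact h1
    have h3 : ⁅⁅E2, E2⁆, U⁆ = ⊥ := Subgroup.commutator_commutator_eq_bot_of_rotate h1 h2
    have h4 : ⁅E2, U⁆ = ⊥ := by
      rw [eq_bot_iff, ← h3]
      exact Subgroup.commutator_mono hE2perf le_rfl
    rw [Subgroup.commutator_eq_bot_iff_le_centralizer] at h4
    apply sSup_le
    intro L hL
    rcases Cfsg.Agent.Lib.Helper3_Components.component_le_or_commute L K hL hKsn with h | h
    · exact h.trans le_sup_right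
    · have hle : L ≤ E2 :=
        le_sSup (show L ∈ {L : Subgroup X | Cfsg.IsComponent L ∧ ⁅L, K⁆ = ⊥} from ⟨hL, h⟩)
      exact (le_inf (hle.trans hE2E) (hle.trans h4)).trans le_sup_left
  · exact sup_le inf_le_left hKE

end Cfsg.Agent.S1321
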