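import Cfsg.Statements.S1328
import Cfsg.Agent.Lib.Helper3_CoreComp2

set_option autoImplicit false
open Cfsg

namespace Cfsg.Agent.S1328

/-- Let G be finite, H ≤ G with O(H) = 1, t an involution of G normalizing H, and Y a nontrivial subgroup of O(C_H(t)). Then some component E of H is normalized by t and by Y and centralized by neither t nor Y. -/
theorem result {G : Type*} [Group G] [Finite G] (H : Subgroup G) (hO : Cfsg.oddCore ↥H = ⊥) (t : G) (ht : orderOf t = 2) (htH : t ∈ Subgroup.normalizer (H : Set G)) (Y : Subgroup G) (hY1 : Y ≠ ⊥) (hY : Y ≤ (Cfsg.oddCore ↥(H ⊓ Subgroup.centralizer ({t} : Set G))).map (H ⊓ Subgroup.centralizer ({t} : Set G)).subtype) : ∃ E : Subgroup ↥H, Cfsg.IsComponent E ∧ (E.map H.subtype).map (MulAut.conj t).toMonoidHom = E.map H.subtype ∧ Y ≤ Subgroup.normalizer ((E.map H.subtype : Subgroup G) : Set G) ∧ ¬ (t ∈ Subgroup.centralizer ((E.map H.subtype : Subgroup G) : Set G)) ∧ ¬ (Y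 ≤ Subgroup.centralizer ((E.map H.subtype : Subgroup G) : Set G)) := by
  classical
  haveI : Fact (Nat.Prime 2) := ⟨Nat.prime_two⟩
  have hHX : H ≤ H ⊔ Subgroup.zpowers t := le_sup_left
  have htX : t ∈ H ⊔ Subgroup.zpowers t := Subgroup.mem_sup_right (Subgroup.mem_zpowers t)
  have hYH : Y ≤ H := by
    intro y hy
    obtain ⟨k, -, rfl⟩ := hY hy
    exact k.2.1
  have hYX : Y ≤ H ⊔ Subgroup.zpowers t := hYH.trans hHX
  have hOX := Cfsg.Agent.Lib.Helper3_CoreComp2.core_sup_eq_bot H hO t ht htH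
  have ht' : orderOf (⟨t, htX⟩ : ↥(H ⊔ Subgroup.zpowers t)) = 2 := by
    rw [Subgroup.orderOf_mk]; exact ht
  have hY1' : Y.subgroupOf (H ⊔ Subgroup.zpowers t) ≠ ⊥ := by
    intro h
    rw [Subgroup.subgroupOf_eq_bot] at h
    apply hY1
    rw [eq_bot_iff]
    exact h le_rfl hYX
  have hY' : Y.subgroupOf (H ⊔ Subgroup.zpowers t) ≤
      Cfsg.centralizerPPrimeCore 2 (⟨t, htX⟩ : ↥(H ⊔ Subgroup.zpowers t)) := by
    rintro ⟨y, hyX⟩ hy
    rw [Subgroup.mem_subgroupOf] at hy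
    exact Cfsg.Agent.Lib.Helper3_CoreComp2.core_le H t htH htX y (hY hy) hyX
  obtain ⟨E', hE', hEt, hEn, hEc, hEY⟩ := Cfsg.Agent.Lib.Helper3_CoreComp.special 2 hOX
    (⟨t, htX⟩ : ↥(H ⊔ Subgroup.zpowers t)) ht' (Y.subgroupOf (H ⊔ Subgroup.zpowers t)) hY1' hY'
  obtain ⟨E, hE, hEmap⟩ := Cfsg.Agent.Lib.Helper3_CoreComp2.exists_component H t htH E' hE'
  refine ⟨E, hE, ?_, ?_, ?_, ?_⟩
  · rw [hEmap, Subgroup.map_map]
    conv_rhs => rw [← hEt, Subgroup.map_map]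
    congr 1
  · rw [hEmap]
    intro y hy
    have h1 : (⟨y, hYX hy⟩ : ↥(H ⊔ Subgroup.zpowers t)) ∈ Subgroup.normalizer (E' : Set _) :=
      hEn (Subgroup.mem_subgroupOf.mpr hy)
    exact Subgroup.le_normalizer_map (H ⊔ Subgroup.zpowers t).subtype ⟨_, h1, rfl⟩
  · rw [hEmap]
    intro htc
    apply hEc
    refine Subgroup.mem_centralizer_iff.mpr ?_
    intro x hx
    apply Subtype.ext
    exact Subgroup.mem_centralizer_iff.mp htc x.1 ⟨x, hx, rfl⟩
  · rw [hEmap]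
    intro hYc
    apply hEY
    rintro ⟨y, hyX⟩ hy
    rw [Subgroup.mem_subgroupOf] at hy
    refine Subgroup.mem_centralizer_iff.mpr ?_
    intro x hx
    apply Subtype.ext
    exact Subgroup.mem_centralizer_iff.mp (hYc hy) x.1 ⟨x, hx, rfl⟩

end Cfsg.Agent.S1328
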