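import Cfsg.Statements.S1331
import Mathlib
import Cfsg.Agent.Lib.Lead_CoprimeGen

set_option autoImplicit false
open Cfsg

namespace Cfsg.Agent.S1331

open Cfsg.Agent.Lib.Lead_SZ Cfsg.Agent.Lib.Lead_Coprime Cfsg.Agent.Lib.Lead_CoprimeGen

/-- Let θ be a solvable A-signalizer functor on the finite group G for the prime p, A elementary abelian of rank at least 3, X a member of the family of θ, and B ≤ A with |B| ≥ p². Then X is generated by the subgroups X ∩ ⋂_{d ∈ D, d ≠ 1} θ d, D ranging over the subgroups of index p in B. -/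
theorem result {G : Type*} [Group G] [Finite G] (p : ℕ) [Fact p.Prime] (A : Subgroup G) (hA : Cfsg.IsElementaryAbelian p A) (hA3 : p ^ 3 ≤ Nat.card ↥A) (θ : G → Subgroup G) (hθ : Cfsg.IsSolvableSignalizerFunctor p A θ) (X : Subgroup G) (hX : X ∈ Cfsg.signalizerFamily p A θ) (B : Subgroup G) (hB : B ≤ A) (hB2 : p ^ 2 ≤ Nat.card ↥B) : X = ⨆ D : {D : Subgroup G // D ≤ B ∧ D.relIndex B = p}, X ⊓ Cfsg.signalizerInf (D : Subgroup G) θ := by
  classical
  have hp : p.Prime := Fact.out
  obtain ⟨hAab, hAp⟩ := hA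
  obtain ⟨-, hXp, hXinv, hXθ⟩ := hX
  have hBc : ∀ a ∈ B, ∀ b ∈ B, a * b = b * a := by
    intro a ha b hb
    exact congrArg Subtype.val (mul_comm' (⟨a, hB ha⟩ : A) ⟨b, hB hb⟩)
  have hBpg : IsPGroup p B := by
    intro a
    refine ⟨1, ?_⟩
    rw [pow_one]
    exact Subtype.ext (hAp a (hB a.2))
  obtain ⟨n, hn⟩ := IsPGroup.iff_card.mp hBpg
  have hcop : (Nat.card B).Coprime (Nat.card X) := by
    rw [hn]
    exact Nat.Coprime.pow_left n ((Nat.Prime.coprime_iff_not_dvd hp).mpr hXp)
  have hBX : B ≤ Subgroup.normalizer (X : Set G) := by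
    intro b hb
    refine mem_normalizer_of_conj_mem (fun u hu => hXinv b (hB hb) u hu) ?_
    intro u hu
    have := hXinv b⁻¹ (A.inv_mem (hB hb)) u hu
    rwa [inv_inv] at this
  have hmain := main B hBc _ X rfl hBX hcop
  -- centralizers of subgroups of `B` lie in the signalizer intersections
  have hsig : ∀ D : Subgroup G, D ≤ B →
      X ⊓ Subgroup.centralizer (D : Set G) ≤ X ⊓ Cfsg.signalizerInf D θ := by
    intro D hD
    refine le_inf inf_le_left ?_
    unfold Cfsg.signalizerInf
    refine le_iInf (fun d => ?_)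
    refine le_trans ?_ (hXθ (d : G) (hB (hD d.2.1)) d.2.2)
    refine inf_le_inf_left _ (Subgroup.centralizer_le ?_)
    intro y hy
    rw [Set.mem_singleton_iff] at hy
    rw [hy]
    exact d.2.1
  -- a hyperplane of `B`
  have hn2 : 2 ≤ n := by
    by_contra hlt
    push_neg at hlt
    have : p ^ n ≤ p ^ 1 := Nat.pow_le_pow_right hp.pos (by omega)
    rw [← hn, pow_one] at this
    have h2 : p < p ^ 2 := by nlinarith [hp.two_le]
    omega
  obtain ⟨D₀', hD₀'⟩ := Sylow.exists_subgroup_card_pow_prime (G := B) p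
    (show p ^ (n - 1) ∣ Nat.card B from hn ▸ pow_dvd_pow p (by omega))
  set D₀ := D₀'.map B.subtype with hD₀
  have hD₀B : D₀ ≤ B := Subgroup.map_subtype_le _
  have hD₀c : Nat.card D₀ = p ^ (n - 1) := by
    rw [← hD₀']
    exact Nat.card_congr (D₀'.equivMapOfInjective B.subtype B.subtype_injective).symm.toEquiv
  have hD₀rel : D₀.relIndex B = p := by
    have h1 : Nat.card D₀ * D₀.relIndex B = Nat.card B := by
      have := (D₀.subgroupOf B).card_mul_index
      rw [card_subgroupOf_of_le hD₀B] at this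
      exact this
    rw [hD₀c, hn] at h1
    have h2 : p ^ n = p ^ (n - 1) * p := by
      rw [← pow_succ]
      congr 1
      omega
    rw [h2] at h1
    exact Nat.eq_of_mul_eq_mul_left (pow_pos hp.pos _) h1
  apply le_antisymm
  · refine hmain.trans ?_
    apply iSup₂_le
    intro B' hB'
    obtain ⟨hB'B, a, ha, hB'a⟩ := hB'
    have hrel : B'.relIndex B ∣ p := by
      have h1 : B'.relIndex B = B'.relIndex (Subgroup.zpowers a) := by
        have hle : Subgroup.zpowers a ≤ Subgroup.normalizer (B' : Set G) := by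
          rw [Subgroup.zpowers_le]
          refine mem_normalizer_of_conj_mem ?_ ?_
          · intro b hb
            have := hBc a ha b (hB'B hb)
            rw [this, mul_assoc, mul_inv_cancel, mul_one]
            exact hb
          · intro b hb
            have := hBc b (hB'B hb) a ha
            rw [mul_assoc, this, ← mul_assoc, inv_mul_cancel, one_mul]
            exact hb
        have := relIndex_sup_of_le_normalizer (Subgroup.zpowers a) B' hle
        rw [sup_comm, hB'a] at this
        exact this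
      rw [h1]
      have h2 : B'.relIndex (Subgroup.zpowers a) ∣ Nat.card (Subgroup.zpowers a) :=
        Subgroup.relIndex_dvd_card _ _
      rw [Nat.card_zpowers] at h2
      exact h2.trans (orderOf_dvd_of_pow_eq_one (hAp a (hB ha)))
    rcases (Nat.dvd_prime hp).mp hrel with h1 | h1
    · -- `B' = B`
      have hBB' : B ≤ B' := Subgroup.relIndex_eq_one.mp h1
      refine le_trans ?_ (le_iSup (fun D : {D : Subgroup G // D ≤ B ∧ D.relIndex B = p} =>
        X ⊓ Cfsg.signalizerInf (D : Subgroup G) θ) ⟨D₀, hD₀B, hD₀rel⟩)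
      refine le_trans ?_ (hsig D₀ hD₀B)
      exact inf_le_inf_left _ (Subgroup.centralizer_le (hD₀B.trans hBB'))
    · refine le_trans (hsig B' hB'B) ?_
      exact le_iSup (fun D : {D : Subgroup G // D ≤ B ∧ D.relIndex B = p} =>
        X ⊓ Cfsg.signalizerInf (D : Subgroup G) θ) ⟨B', hB'B, h1⟩
  · apply iSup_le
    intro D
    exact inf_le_left

end Cfsg.Agent.S1331
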