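import Mathlib
import Cfsg.Statements.S1335
import Cfsg.Agent.Lib.Helper2_Rank

set_option autoImplicit false
open Cfsg

namespace Cfsg.Agent.S1335

open Cfsg.Agent.Lib.Helper2_Rank

theorem result {G : Type*} [Group G] [Finite G] {p : ℕ} [Fact p.Prime] (k : ℕ) (hk : 1 ≤ k) (H : Subgroup G) (P : Sylow p ↥H) (hP : ¬ Cfsg.PRankLE p (k - 1) ↥(P : Subgroup ↥H)) (hΓ : (∀ X : Subgroup G, X ≤ (P : Subgroup ↥H).map H.subtype → ¬ Cfsg.PRankLE p (k - 1) ↥X → Subgroup.normalizer (X : Set G) ≤ H)) : ∃ Q : Sylow p G, (Q : Subgroup G) = (P : Subgroup ↥H).map H.subtype := by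
  set P' : Subgroup G := (P : Subgroup ↥H).map H.subtype with hP'
  have hP'p : IsPGroup p P' := P.isPGroup'.map H.subtype
  have hP'H : P' ≤ H := by
    rintro x ⟨y, _, rfl⟩
    exact y.2
  -- rank of P'
  have hrank : ¬ Cfsg.PRankLE p (k - 1) ↥P' := by
    intro h
    apply hP
    exact (pRankLE_congr p (k - 1)
      ((P : Subgroup ↥H).equivMapOfInjective H.subtype H.subtype_injective)).mpr h
  have hN : Subgroup.normalizer (P' : Set G) ≤ H := hΓ P' le_rfl hrank
  obtain ⟨Q, hQ⟩ := hP'p.exists_le_sylow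
  refine ⟨Q, ?_⟩
  by_contra hne
  have hlt : P' < (Q : Subgroup G) := lt_of_le_of_ne hQ (Ne.symm hne)
  -- normalizer condition in Q
  have hnil : Group.IsNilpotent (Q : Subgroup G) := Q.isPGroup'.isNilpotent
  have hnc := Group.normalizerCondition_of_isNilpotent (G := (Q : Subgroup G))
  have hsub_lt : P'.subgroupOf (Q : Subgroup G) < ⊤ := by
    rw [lt_top_iff_ne_top]
    intro h
    rw [Subgroup.subgroupOf_eq_top] at h
    exact hne (le_antisymm h hQ)
  have hgrow := hnc _ hsub_lt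
  obtain ⟨x, hxN, hxP⟩ := SetLike.exists_of_lt hgrow
  -- x normalizes P' in G
  have hxN' : (x : G) ∈ Subgroup.normalizer (P' : Set G) := by
    rw [Subgroup.mem_normalizer_iff] at hxN ⊢
    intro h
    constructor
    · intro hh
      have := (hxN ⟨h, hQ hh⟩).mp (by rw [Subgroup.mem_subgroupOf]; exact hh)
      rw [Subgroup.mem_subgroupOf] at this
      exact this
    · intro hh
      -- h = x⁻¹ (x h x⁻¹) x ∈ Q
      have hhQ : h ∈ (Q : Subgroup G) := by
        have h1 : (x : G) * h * (x : G)⁻¹ ∈ (Q : Subgroup G) := hQ hh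
        have h2 : (x : G)⁻¹ * ((x : G) * h * (x : G)⁻¹) * (x : G) ∈ (Q : Subgroup G) :=
          mul_mem (mul_mem (inv_mem x.2) h1) x.2
        have h3 : (x : G)⁻¹ * ((x : G) * h * (x : G)⁻¹) * (x : G) = h := by group
        rwa [h3] at h2
      have := (hxN ⟨h, hhQ⟩).mpr (by rw [Subgroup.mem_subgroupOf]; exact hh)
      rw [Subgroup.mem_subgroupOf] at this
      exact this
  -- R = Q ⊓ N(P')
  set R : Subgroup G := (Q : Subgroup G) ⊓ Subgroup.normalizer (P' : Set G) with hR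
  have hRH : R ≤ H := inf_le_right.trans hN
  have hRp : IsPGroup p R := Q.isPGroup'.to_le inf_le_left
  have hPR : P' ≤ R := le_inf hQ Subgroup.le_normalizer
  have hRsub : IsPGroup p (R.subgroupOf H) := hRp.comap_subtype
  have hPle : (P : Subgroup ↥H) ≤ R.subgroupOf H := by
    intro y hy
    rw [Subgroup.mem_subgroupOf]
    exact hPR ⟨y, hy, rfl⟩
  have heq : R.subgroupOf H = (P : Subgroup ↥H) := P.is_maximal' hRsub hPle
  have hxR : (x : G) ∈ R := ⟨x.2, hxN'⟩
  have hxH : (x : G) ∈ H := hRH hxR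
  have : (⟨(x : G), hxH⟩ : ↥H) ∈ (P : Subgroup ↥H) := by
    rw [← heq, Subgroup.mem_subgroupOf]
    exact hxR
  apply hxP
  rw [Subgroup.mem_subgroupOf]
  exact ⟨⟨(x : G), hxH⟩, this, rfl⟩

end Cfsg.Agent.S1335
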