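import Cfsg.Statements.S1336
import Mathlib
import Cfsg.Agent.Lib.Helper5_Conn

set_option autoImplicit false
open Cfsg

namespace Cfsg.Agent.S1336

open Cfsg.Agent.Lib.Helper5_Conn

/-- Let G be finite and p prime. Then G has a proper subgroup H with p ∣ |H| and p ∤ |H ∩ gHg⁻¹| for every g ∉ H (a strongly p-embedded subgroup) if and only if G is not 1-connected for p. -/
theorem result {G : Type*} [Group G] [Finite G] (p : ℕ) [Fact p.Prime] : (∃ H : Subgroup G, H ≠ ⊤ ∧ p ∣ Nat.card ↥H ∧ ∀ g : G, g ∉ H → ¬ p ∣ Nat.card ↥(H ⊓ H.map (MulAut.conj g).toMonoidHom)) ↔ ¬ Cfsg.IsKConnected p 1 G := by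
  classical
  have hp := (Fact.out : p.Prime)
  constructor
  · rintro ⟨H, hHtop, hHdvd, hH⟩ hconn
    obtain ⟨x, hx⟩ := exists_prime_orderOf_dvd_card' p hHdvd
    have hxo : orderOf (x : G) = p := by rw [Subgroup.orderOf_coe, hx]
    have hE := vx_zpowers p (x : G) hxo
    have hEH : Subgroup.zpowers (x : G) ≤ H := (Subgroup.zpowers_le).mpr x.2
    obtain ⟨g, hg⟩ : ∃ g : G, g ∉ H := by
      by_contra hcon
      push Not at hcon
      exact hHtop (Subgroup.eq_top_iff' H |>.mpr hcon)
    have hE' := vx_cj p g _ hE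
    have hc : conn p (Subgroup.zpowers (x : G)) (cj g (Subgroup.zpowers (x : G))) :=
      hconn _ _ hE.1 hE.2 hE'.1 hE'.2
    have hinv : ∀ B, conn p (Subgroup.zpowers (x : G)) B → B ≤ H := by
      intro B hB
      induction hB with
      | refl => exact hEH
      | @tail A' B' _ hbc ih =>
        intro b hb
        by_contra hbH
        apply hH b hbH
        have hA : Vx p A' := ⟨hbc.1, hbc.2.1⟩
        have hle : A' ≤ H ⊓ H.map (MulAut.conj b).toMonoidHom := by
          intro a ha
          have hcomm := hbc.2.2.2.2 a ha b hb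
          have e : b⁻¹ * a * b = a := by rw [mul_assoc, hcomm, ← mul_assoc, inv_mul_cancel, one_mul]
          exact Subgroup.mem_inf.mpr ⟨ih ha, (mem_cj b H a).mpr (by rw [e]; exact ih ha)⟩
        exact (vx_dvd_card p A' hA).trans (Subgroup.card_dvd_of_le hle)
    have hcjH := hinv _ hc
    apply hH g hg
    have hle : cj g (Subgroup.zpowers (x : G)) ≤ H ⊓ H.map (MulAut.conj g).toMonoidHom := by
      intro y hy
      exact Subgroup.mem_inf.mpr ⟨hcjH hy, (mem_cj g H y).mpr (hEH ((mem_cj g _ y).mp hy))⟩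
    exact (vx_dvd_card p _ hE').trans (Subgroup.card_dvd_of_le hle)
  · intro hnc
    unfold Cfsg.IsKConnected at hnc
    push Not at hnc
    obtain ⟨E, E', hE1, hE2, hE'1, hE'2, hnot⟩ := hnc
    have hE : Vx p E := ⟨hE1, hE2⟩
    have hE' : Vx p E' := ⟨hE'1, hE'2⟩
    have hnot' : ¬ conn p E E' := hnot
    obtain ⟨P, hEP⟩ := (vx_isPGroup p E hE).exists_le_sylow
    obtain ⟨P', hE'P'⟩ := (vx_isPGroup p E' hE').exists_le_sylow
    have hPH := sylow_le_stab p E hE P hEP
    refine ⟨stab p E, ?_, ?_, ?_⟩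
    · intro htop
      obtain ⟨g, hg⟩ := MulAction.exists_smul_eq G P P'
      have hgH : g ∈ stab p E := by rw [htop]; exact Subgroup.mem_top g
      have h1 := (mem_stab_iff p E g).mp hgH
      have hle : cj g E ≤ P' := by
        intro y hy
        rw [mem_cj] at hy
        rw [← hg, Sylow.coe_subgroup_smul, Subgroup.mem_pointwise_smul_iff_inv_smul_mem,
          MulAut.smul_def, ← map_inv, MulAut.conj_apply, inv_inv]
        exact hEP hy
      have h2 := conn_of_le_sylow p P' (cj g E) E' (vx_cj p g E hE) hE' hle hE'P'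
      exact hnot' (h1.trans h2)
    · exact (vx_dvd_card p E hE).trans (Subgroup.card_dvd_of_le (hEP.trans hPH))
    · intro g hg hdvd
      apply hg
      obtain ⟨a, ha⟩ := exists_prime_orderOf_dvd_card' p hdvd
      have hao : orderOf (a : G) = p := by rw [Subgroup.orderOf_coe, ha]
      have hA := vx_zpowers p (a : G) hao
      have hAH : Subgroup.zpowers (a : G) ≤ stab p E := (Subgroup.zpowers_le).mpr a.2.1
      have hAH' : cj g⁻¹ (Subgroup.zpowers (a : G)) ≤ stab p E := by
        intro y hy
        rw [mem_cj, inv_inv] at hy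
        have h1 : g * y * g⁻¹ ∈ cj g (stab p E) :=
          ((Subgroup.zpowers_le).mpr a.2.2) hy
        rw [mem_cj] at h1
        have : g⁻¹ * (g * y * g⁻¹) * g = y := by group
        rwa [this] at h1
      have c1 := conn_of_le_stab p E hE _ hA hAH
      have c2 := conn_of_le_stab p E hE _ (vx_cj p g⁻¹ _ hA) hAH'
      have c3 := conn_cj p g c2
      rw [cj_cj_inv] at c3
      rw [mem_stab_iff]
      exact c1.trans (conn_symm p c3)

end Cfsg.Agent.S1336
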