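import Cfsg.Statements.S1337
import Cfsg.Agent.Lib.Helper3_RankThree

set_option autoImplicit false
open Cfsg

namespace Cfsg.Agent.S1337

/-- Let P be a finite p-group of p-rank greater than 2. Then P has a normal elementary abelian subgroup U of order p², and for every elementary abelian X ≤ P with |X| ≥ p²: X is joined to U by a chain of pairwise commuting elementary abelian subgroups of order ≥ p² if and only if C_P(X) has p-rank greater than 2. -/
theorem result {P : Type*} [Group P] [Finite P] (p : ℕ) [Fact p.Prime] (hP : IsPGroup p P) (hrk : ¬ Cfsg.PRankLE p 2 P) : ∃ U : Subgroup P, U.Normal ∧ Cfsg.IsElementaryAbelian p U ∧ Nat.card ↥U = p ^ 2 ∧ ∀ X : Subgroup P, Cfsg.IsElementaryAbelian p X → p ^ 2 ≤ Nat.card ↥X → (Relation.ReflTransGen (fun A B : Subgroup P => Cfsg.IsElementaryAbelian p A ∧ p ^ 2 ≤ Nat.card ↥A ∧ Cfsg.IsElementaryAbelian p B ∧ p ^ 2 ≤ Nat.card ↥B ∧ ∀ a ∈ A, ∀ b ∈ B, a * b = b * a) X U ↔ ¬ Cfsg.PRankLE p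 2 ↥(Subgroup.centralizer (X : Set P))) := by
  classical
  obtain ⟨U, hUn, hUe, hUc⟩ := Cfsg.Agent.Lib.Helper3_RankThree.exists_normal_Ep2 p hP hrk
  haveI := hUn
  refine ⟨U, hUn, hUe, hUc, ?_⟩
  have key : ∀ X : Subgroup P, Relation.ReflTransGen (fun A B : Subgroup P =>
      Cfsg.IsElementaryAbelian p A ∧ p ^ 2 ≤ Nat.card ↥A ∧ Cfsg.IsElementaryAbelian p B ∧
        p ^ 2 ≤ Nat.card ↥B ∧ ∀ a ∈ A, ∀ b ∈ B, a * b = b * a) X U →
      ¬ Cfsg.PRankLE p 2 ↥(Subgroup.centralizer (X : Set P)) := by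
    intro X hpath
    induction hpath using Relation.ReflTransGen.head_induction_on with
    | refl => exact Cfsg.Agent.Lib.Helper3_RankThree.rank_centralizer_U hP U hUe hUc hrk
    | head hab _ ih =>
      exact Cfsg.Agent.Lib.Helper3_RankThree.step_rank _ _ hab.1 hab.2.1 hab.2.2.1 hab.2.2.2.1
        hab.2.2.2.2 ih
  intro X hX hXc
  constructor
  · exact key X
  · intro hQ
    obtain ⟨A, hAC, hAe, hAcard⟩ := Cfsg.Agent.Lib.Helper3_RankThree.exists_witness _ hQ
    obtain ⟨A₀, hA₀A, hA₀c, hA₀U⟩ :=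
      Cfsg.Agent.Lib.Helper3_RankThree.exists_A0 hP U hUe hUc A hAe hAcard
    have hA₀e := Cfsg.Agent.Lib.Helper3_RankThree.elemAb_of_le A A₀ hAe hA₀A
    refine Relation.ReflTransGen.head (b := A) ?_ (Relation.ReflTransGen.head (b := A₀) ?_
      (Relation.ReflTransGen.single ?_))
    · exact ⟨hX, hXc, hAe, hAcard.le, fun a ha b hb =>
        Subgroup.mem_centralizer_iff.mp (hAC hb) a ha⟩
    · haveI := hAe.1
      exact ⟨hAe, hAcard.le, hA₀e, hA₀c, fun a ha b hb => setLike_mul_comm ha (hA₀A hb)⟩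
    · exact ⟨hA₀e, hA₀c, hUe, hUc.ge, fun a ha b hb =>
        (Subgroup.mem_centralizer_iff.mp (hA₀U ha) b hb).symm⟩

end Cfsg.Agent.S1337
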