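import Cfsg.Statements.S1342
import Cfsg.Agent.Lib.Helper3_LStar2

set_option autoImplicit false
open Cfsg

namespace Cfsg.Agent.S1342

/-- For a finite group X, L*_{2'}(X) is normal in X. -/
theorem result {X : Type*} [Group X] [Finite X] : (Cfsg.extendedTwoLayer X).Normal := by
  classical
  haveI : Fact (Nat.Prime 2) := ⟨Nat.prime_two⟩
  apply Cfsg.Agent.Lib.Helper3_LStar2.normal_of_map_conj_le
  intro g
  unfold Cfsg.extendedTwoLayer
  rw [Subgroup.map_sup, Subgroup.map_sup, Subgroup.map_iSup]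
  apply sup_le
  · apply sup_le
    · exact (Cfsg.Agent.Lib.Helper3_LStar2.pLayer_map_equiv 2 (MulAut.conj g)).le.trans
        (le_sup_left.trans le_sup_left)
    · exact (Cfsg.Agent.Lib.Helper3_Transport.pPrimeCore_map_equiv 2 (MulAut.conj g)).le.trans
        (le_sup_right.trans le_sup_left)
  · apply iSup_le
    intro T
    haveI h1 := Cfsg.Agent.Lib.Helper3_LStar2.pLayer_normal 2 X
    haveI h2 := Cfsg.Agent.Lib.Helper3_LStar2.pPrimePCore_normal 2 X
    haveI hN : (Cfsg.pLayer 2 X ⊔ Cfsg.pPrimePCore 2 X).Normal := Subgroup.sup_normal _ _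
    obtain ⟨T2, hT2⟩ := Cfsg.Agent.Lib.Helper3_LStar2.exists_sylow_conj 2
      (Cfsg.pLayer 2 X ⊔ Cfsg.pPrimePCore 2 X) T g
    refine le_trans ?_ (le_trans (le_iSup _ T2) le_sup_right)
    apply le_of_eq
    symm
    apply Cfsg.Agent.Lib.Helper3_LStar2.core_conj 2
    rw [hT2, Cfsg.Agent.Lib.Helper3_LStar2.centralizer_map_conj]

end Cfsg.Agent.S1342
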