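import Cfsg.Statements.S1343
import Cfsg.Agent.Lib.Helper3_LStar3
import Cfsg.Agent.S1341
import Cfsg.Agent.Lib.Helper5_PPrime

set_option autoImplicit false
open Cfsg

namespace Cfsg.Agent.S1343

open Cfsg.Agent.Lib.Helper3_LStar2 Cfsg.Agent.Lib.Helper3_LStar3 in
theorem aux {X : Type*} [Group X] [Finite X] (S : Sylow 2 X) (N : Subgroup X) [N.Normal]
    (T' : Subgroup X) (hT' : T' = (S : Subgroup X) ⊓ N) :
    Odd (Nat.card ↥(Cfsg.pPrimeCore 2 X ⊔ coreCent 2 T')) ∧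
      (S : Subgroup X) ≤ Subgroup.normalizer ((Cfsg.pPrimeCore 2 X ⊔ coreCent 2 T' : Subgroup X) : Set X) := by
  classical
  haveI : Fact (Nat.Prime 2) := ⟨Nat.prime_two⟩
  haveI h3 := pPrimeCore_normal' 2 X
  constructor
  · have h1 := Cfsg.Agent.Lib.Helper3_SupNormalizer.card_sup_dvd_of_le_normalizer
      (Cfsg.pPrimeCore 2 X) (coreCent 2 T') (by rw [Subgroup.normalizer_eq_top]; exact le_top)
    have h2 : (Nat.card ↥(Cfsg.pPrimeCore 2 X)).Coprime 2 :=
      Cfsg.Agent.Lib.Helper5_PPrime.pPrimeCore_coprime 2 X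
    have h4 : (Nat.card ↥(coreCent 2 T')).Coprime 2 := by
      unfold coreCent
      have h5 := Cfsg.Agent.Lib.Helper5_PPrime.pPrimeCore_coprime 2
        ↥(Subgroup.centralizer (T' : Set X))
      exact Nat.Coprime.coprime_dvd_left (Subgroup.card_map_dvd _ _) h5
    have h6 : (Nat.card ↥(Cfsg.pPrimeCore 2 X ⊔ coreCent 2 T')).Coprime 2 :=
      Nat.Coprime.coprime_dvd_left h1 (Nat.Coprime.mul_left h2 h4)
    exact Nat.coprime_two_right.mp h6
  · intro s hs
    apply Cfsg.Agent.S1960.mem_normalizer_of_conj_le'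
    intro a ha
    have h1 : (MulAut.conj s).toMonoidHom a ∈
        (Cfsg.pPrimeCore 2 X ⊔ coreCent 2 T').map (MulAut.conj s).toMonoidHom :=
      Subgroup.mem_map_of_mem _ ha
    rw [Subgroup.map_sup, ← coreCent_conj, Cfsg.Agent.Lib.Helper3_Transport.pPrimeCore_map_equiv 2
      (MulAut.conj s)] at h1
    have h2 : T'.map (MulAut.conj s).toMonoidHom = T' := by
      rw [hT']
      apply le_antisymm
      · rintro _ ⟨t, ht, rfl⟩
        refine ⟨?_, ?_⟩
        · exact (S : Subgroup X).mul_mem ((S : Subgroup X).mul_mem hs ht.1) ((S : Subgroup X).inv_mem hs)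
        · exact Subgroup.Normal.conj_mem inferInstance t ht.2 s
      · intro t ht
        refine ⟨s⁻¹ * t * s, ⟨?_, ?_⟩, ?_⟩
        · exact (S : Subgroup X).mul_mem ((S : Subgroup X).mul_mem ((S : Subgroup X).inv_mem hs) ht.1) hs
        · have := Subgroup.Normal.conj_mem (inferInstance : N.Normal) t ht.2 s⁻¹
          simpa using this
        · show s * (s⁻¹ * t * s) * s⁻¹ = t
          group
    rw [h2] at h1
    exact h1

/-- Let X be finite. Then L*_{2'}(X) = L_{2'}(X) ⊔ F for some subgroup F of odd order normalized by a Sylow 2-subgroup of X. -/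
theorem result {X : Type*} [Group X] [Finite X] : ∃ F : Subgroup X, Odd (Nat.card ↥F) ∧ (∃ S : Sylow 2 X, (S : Subgroup X) ≤ Subgroup.normalizer (F : Set X)) ∧ Cfsg.extendedTwoLayer X = Cfsg.pLayer 2 X ⊔ F := by
  classical
  haveI : Fact (Nat.Prime 2) := ⟨Nat.prime_two⟩
  haveI h1 := Cfsg.Agent.Lib.Helper3_LStar2.pLayer_normal 2 X
  haveI h2 := Cfsg.Agent.Lib.Helper3_LStar2.pPrimePCore_normal 2 X
  haveI hN : (Cfsg.pLayer 2 X ⊔ Cfsg.pPrimePCore 2 X).Normal := Subgroup.sup_normal _ _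
  let S : Sylow 2 X := default
  let T := Cfsg.Agent.Lib.Helper5_Residual.sylowInfNormal S (Cfsg.pLayer 2 X ⊔ Cfsg.pPrimePCore 2 X)
  have hT := Cfsg.Agent.Lib.Helper5_Residual.map_sylowInfNormal S (Cfsg.pLayer 2 X ⊔ Cfsg.pPrimePCore 2 X)
  have h3 := aux S (Cfsg.pLayer 2 X ⊔ Cfsg.pPrimePCore 2 X) _ hT
  refine ⟨_, h3.1, ⟨S, h3.2⟩, ?_⟩
  rw [Cfsg.Agent.S1341.result T, sup_assoc]
  rfl

end Cfsg.Agent.S1343
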