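import Cfsg.Statements.S1344
import Cfsg.Agent.Lib.Helper3_LStar

set_option autoImplicit false
open Cfsg

namespace Cfsg.Agent.S1344

/-- Let K be a 2-component of the finite group X. Then K ≤ L*_{2'}(X) and K is normal in L*_{2'}(X). -/
theorem result {X : Type*} [Group X] [Finite X] (K : Subgroup X) (hK : Cfsg.IsPComponent 2 K) : K ≤ Cfsg.extendedTwoLayer X ∧ (K.subgroupOf (Cfsg.extendedTwoLayer X)).Normal := by
  classical
  haveI : Fact (Nat.Prime 2) := ⟨Nat.prime_two⟩
  have hKL : K ≤ Cfsg.pLayer 2 X := le_sSup hK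
  have hKLs : K ≤ Cfsg.extendedTwoLayer X := by
    unfold Cfsg.extendedTwoLayer
    exact hKL.trans (le_sup_left.trans le_sup_left)
  refine ⟨hKLs, ?_⟩
  apply Subgroup.normal_subgroupOf_of_le_normalizer
  unfold Cfsg.extendedTwoLayer
  apply sup_le
  · apply sup_le
    · apply sSup_le
      intro L hL
      by_cases hKL' : K = L
      · subst hKL'; exact Subgroup.le_normalizer
      · exact Cfsg.Agent.Lib.Helper3_PComp3.pc_normalizes 2 hK hL hKL'
    · intro d hd
      apply Cfsg.Agent.Lib.Helper3_PComp3.pc_mem_normalizer 2 hK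
      intro y hy
      have h1 : QuotientGroup.mk' (Cfsg.pPrimeCore 2 X) d = 1 := by
        rw [QuotientGroup.mk'_apply, QuotientGroup.eq_one_iff]
        exact hd
      rw [h1]
      simpa using hy
  · apply iSup_le
    intro T
    rintro _ ⟨w, _, rfl⟩
    exact Cfsg.Agent.Lib.Helper3_LStar.centralizer_sylow_le_normalizer_pc 2 hK _
      (hKL.trans le_sup_left) T _ w.2

end Cfsg.Agent.S1344
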