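import Mathlib
import Cfsg.Statements.S1349
import Cfsg.Agent.S0206
import Cfsg.Agent.Lib.Helper7_Eigen4

set_option autoImplicit false

open Cfsg

namespace Cfsg.Agent.S1349


/-- Let G be finite, L ≤ G solvable of odd order, and A an elementary abelian 2-subgroup of order 2^d (d ≥ 1) normalizing L with C_A(L) = 1. Then there are subgroups A_1, …, A_d of A of order 2 generating A and subgroups L_1, …, L_d of L such that each A_i ⊔ L_i is dihedral of order 2 n_i with n_i odd and at least 3, and A_i ⊔ L_i commutes elementwise with A_j ⊔ L_j for i ≠ j. -/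
theorem result {G : Type*} [Group G] [Finite G] (L A : Subgroup G) (hLs : Group.IsSolvable ↥L) (hLodd : Odd (Nat.card ↥L)) (hA : Cfsg.IsElementaryAbelian 2 A) (d : ℕ) (hd : 1 ≤ d) (hAd : Nat.card ↥A = 2 ^ d) (hAL : A ≤ Subgroup.normalizer (L : Set G)) (hfaith : A ⊓ Subgroup.centralizer (L : Set G) = ⊥) : ∃ (Ai : Fin d → Subgroup G) (Li : Fin d → Subgroup G) (n : Fin d → ℕ), (∀ i, Ai i ≤ A ∧ Nat.card ↥(Ai i) = 2 ∧ Li i ≤ L ∧ Odd (n i) ∧ 3 ≤ n i ∧ Nonempty (↥(Ai i ⊔ Li i) ≃* DihedralGroup (n i))) ∧ (⨆ i, Ai i) = A ∧ ∀ i j, i ≠ j → ∀ x ∈ Ai i ⊔ Li i, ∀ y ∈ Ai j ⊔ Li j, x * y = y * x := by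
  classical
  have hc : ∀ a ∈ A, ∀ b ∈ A, a * b = b * a := by
    intro a ha b hb
    haveI := hA.1
    exact setLike_mul_comm ha hb
  have hs : ∀ a ∈ A, a * a = 1 := by
    intro a ha
    have := hA.2 a ha
    rwa [pow_two] at this
  have hL2 : ∀ x ∈ L, x * x = 1 → x = 1 := by
    intro x hx hxx
    have h1 : orderOf x ∣ 2 := by
      apply orderOf_dvd_of_pow_eq_one
      rw [pow_two]; exact hxx
    have h2 : orderOf x ∣ Nat.card ↥L := by
      have := orderOf_dvd_natCard (⟨x, hx⟩ : ↥L)
      rwa [Subgroup.orderOf_mk] at this
    have h3 : orderOf x = 1 := by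
      rcases (Nat.dvd_prime Nat.prime_two).mp h1 with h | h
      · exact h
      · exfalso
        rw [h] at h2
        obtain ⟨k, hk⟩ := hLodd
        omega
    exact orderOf_eq_one_iff.mp h3
  have hfaith' : ∀ a ∈ A, (∀ f ∈ L, a * f = f * a) → a = 1 := by
    intro a ha hcen
    have h1 : a ∈ A ⊓ Subgroup.centralizer (L : Set G) := by
      refine ⟨ha, ?_⟩
      show a ∈ Subgroup.centralizer (L : Set G)
      rw [Subgroup.mem_centralizer_iff]
      intro f hf
      exact (hcen f hf).symm
    rw [hfaith, Subgroup.mem_bot] at h1
    exact h1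
  obtain ⟨x, a, hx, hxx, he, hxf, ha, hinv, hcen, hgen⟩ :=
    Cfsg.Agent.Lib.Helper7_Eigen.exists_eigen_basis_solvable A L hc hs hLs hL2 hAL hfaith' d hAd
  -- basic facts
  have hx1 : ∀ i, x i ≠ 1 := by
    intro i h
    have := (hx i).2
    rw [h, orderOf_one] at this
    exact Nat.not_prime_one this
  have hx2 : ∀ i, x i * x i ≠ 1 := fun i h => hx1 i (hL2 _ (hx i).1 h)
  have haa : ∀ i, a i * a i = 1 := fun i => hs _ (ha i)
  have hainv : ∀ i, (a i)⁻¹ = a i := fun i => inv_eq_of_mul_eq_one_left (haa i)
  have ha1 : ∀ i, a i ≠ 1 := by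
    intro i h
    have h1 := hinv i
    rw [h] at h1
    simp only [one_mul, inv_one, mul_one] at h1
    apply hx2 i
    calc x i * x i = (x i)⁻¹ * x i := by rw [← h1]
      _ = 1 := by group
  have hao : ∀ i, orderOf (a i) = 2 := by
    intro i
    apply orderOf_eq_prime
    · rw [pow_two]; exact haa i
    · exact ha1 i
  have hodd : ∀ i, Odd (orderOf (x i)) := by
    intro i
    rcases (hx i).2.eq_two_or_odd' with h | h
    · exfalso
      apply hx2 i
      have := pow_orderOf_eq_one (x i)
      rw [h, pow_two] at this
      exact this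
    · exact h
  refine ⟨fun i => Subgroup.zpowers (a i), fun i => Subgroup.zpowers (x i), fun i => orderOf (x i),
    ?_, hgen, ?_⟩
  · intro i
    refine ⟨?_, ?_, ?_, hodd i, ?_, ?_⟩
    · rw [Subgroup.zpowers_le]; exact ha i
    · rw [Nat.card_zpowers]; exact hao i
    · rw [Subgroup.zpowers_le]; exact (hx i).1
    · have h2 := (hx i).2.two_le
      obtain ⟨k, hk⟩ := hodd i
      show 3 ≤ orderOf (x i)
      omega
    · -- dihedral
      have hax2 : (a i * x i) * (a i * x i) = 1 := by
        have h1 := hinv i
        rw [hainv] at h1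
        calc (a i * x i) * (a i * x i) = (a i * x i * a i) * x i := by group
          _ = (x i)⁻¹ * x i := by rw [h1]
          _ = 1 := by group
      have hax1 : a i * x i ≠ 1 := by
        intro h
        have h1 : x i = (a i)⁻¹ := by
          calc x i = (a i)⁻¹ * (a i * x i) := by group
            _ = (a i)⁻¹ := by rw [h, mul_one]
        rw [hainv] at h1
        apply hx2 i
        rw [h1]; exact haa i
      have haxo : orderOf (a i * x i) = 2 := by
        apply orderOf_eq_prime
        · rw [pow_two]; exact hax2
        · exact hax1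
      have hne : a i ≠ a i * x i := by
        intro h
        apply hx1 i
        calc x i = (a i)⁻¹ * (a i * x i) := by group
          _ = (a i)⁻¹ * a i := by rw [← h]
          _ = 1 := by group
      have h := Cfsg.Agent.S0206.result (a i) (a i * x i) (hao i) haxo hne
      have e1 : a i * (a i * x i) = x i := by
        calc a i * (a i * x i) = (a i * a i) * x i := by group
          _ = x i := by rw [haa i, one_mul]
      have e2 : Subgroup.closure ({a i, a i * x i} : Set G) =
          Subgroup.zpowers (a i) ⊔ Subgroup.zpowers (x i) := by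
        apply le_antisymm
        · rw [Subgroup.closure_le]
          intro y hy
          rcases hy with rfl | hy
          · exact Subgroup.mem_sup_left (Subgroup.mem_zpowers _)
          · rw [Set.mem_singleton_iff] at hy
            rw [hy]
            exact Subgroup.mul_mem _ (Subgroup.mem_sup_left (Subgroup.mem_zpowers _))
              (Subgroup.mem_sup_right (Subgroup.mem_zpowers _))
        · apply sup_le
          · rw [Subgroup.zpowers_le]
            exact Subgroup.subset_closure (Set.mem_insert _ _)
          · rw [Subgroup.zpowers_le]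
            have h1 : a i ∈ Subgroup.closure ({a i, a i * x i} : Set G) :=
              Subgroup.subset_closure (Set.mem_insert _ _)
            have h2 : a i * x i ∈ Subgroup.closure ({a i, a i * x i} : Set G) :=
              Subgroup.subset_closure (Set.mem_insert_of_mem _ rfl)
            have h3 : (a i)⁻¹ * (a i * x i) ∈ Subgroup.closure ({a i, a i * x i} : Set G) :=
              Subgroup.mul_mem _ (Subgroup.inv_mem _ h1) h2
            have : (a i)⁻¹ * (a i * x i) = x i := by group
            rwa [this] at h3
      rw [e1, e2] at h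
      exact h
  · intro i j hij
    have h1 : Subgroup.zpowers (a i) ⊔ Subgroup.zpowers (x i) ≤
        Subgroup.centralizer ({a j, x j} : Set G) := by
      apply sup_le
      · rw [Subgroup.zpowers_le, Subgroup.mem_centralizer_iff]
        intro t ht
        rcases ht with rfl | ht
        · exact hc _ (ha j) _ (ha i)
        · rw [Set.mem_singleton_iff] at ht
          rw [ht]
          exact (hcen i j hij).symm
      · rw [Subgroup.zpowers_le, Subgroup.mem_centralizer_iff]
        intro t ht
        rcases ht with rfl | ht
        · exact hcen j i (Ne.symm hij)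
        · rw [Set.mem_singleton_iff] at ht
          rw [ht]
          exact hxx j i
    have h2 : Subgroup.zpowers (a j) ⊔ Subgroup.zpowers (x j) ≤
        Subgroup.centralizer ((Subgroup.zpowers (a i) ⊔ Subgroup.zpowers (x i) : Subgroup G) : Set G) := by
      apply sup_le
      · rw [Subgroup.zpowers_le, Subgroup.mem_centralizer_iff]
        intro s hs'
        have := h1 hs'
        rw [Subgroup.mem_centralizer_iff] at this
        exact (this (a j) (Set.mem_insert _ _)).symm
      · rw [Subgroup.zpowers_le, Subgroup.mem_centralizer_iff]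
        intro s hs'
        have := h1 hs'
        rw [Subgroup.mem_centralizer_iff] at this
        exact (this (x j) (Set.mem_insert_of_mem _ rfl)).symm
    intro u hu v hv
    have := h2 hv
    rw [Subgroup.mem_centralizer_iff] at this
    exact this u hu

end Cfsg.Agent.S1349
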