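import Mathlib
import Cfsg.Statements.S1386
import Cfsg.Agent.Lib.Helper2_Cyclic

set_option autoImplicit false
open Cfsg

namespace Cfsg.Agent.S1386

open Cfsg.Agent.Lib.Helper2_Cyclic

theorem result {G : Type*} [Group G] [Finite G] (W₁ W₂ S U W₂' : Subgroup G) (hW : Cfsg.IsSelfNormalizingCyclic W₁ W₂)
    (hSW : Cfsg.IsComplIn ⁅S, S⁆ W₁ S) (hW₂S : W₂ ≤ S) (hP : Cfsg.IsTypePWith S W₁ U W₂') :
    W₂' = W₂ := by
  obtain ⟨hW₁ne, hW₂ne, hdisj, hcomm, hcyc, hnorm⟩ := hW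
  obtain ⟨_, hW₂'ne, hdisj', hcomm', hcyc', hnorm'⟩ := hP.selfNormalizing
  obtain ⟨_, hW₁S, _, hdecomp⟩ := hSW
  -- W commutative
  have hWcomm : ∀ x ∈ W₁ ⊔ W₂, ∀ y ∈ W₁ ⊔ W₂, x * y = y * x := by
    intro x hx y hy
    have := hcyc.commGroup.mul_comm ⟨x, hx⟩ ⟨y, hy⟩
    exact congrArg Subtype.val this
  -- pick w₁
  obtain ⟨⟨w₁, hw₁⟩, hw₁ne⟩ := (Subgroup.ne_bot_iff_exists_ne_one).mp hW₁ne
  have hw₁ne' : w₁ ≠ 1 := fun h => hw₁ne (Subtype.ext h)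
  have hcent := hP.W₂_centralizer w₁ hw₁ hw₁ne'
  -- W ≤ W'
  have hWW' : W₁ ⊔ W₂ ≤ W₁ ⊔ W₂' := by
    intro s hs
    have hsS : s ∈ S := (sup_le hW₁S hW₂S) hs
    obtain ⟨s', hs', u, hu, hsu⟩ := hdecomp s hsS
    have hw₁W : w₁ ∈ W₁ ⊔ W₂ := (le_sup_left : W₁ ≤ W₁ ⊔ W₂) hw₁
    have huW : u ∈ W₁ ⊔ W₂ := (le_sup_left : W₁ ≤ W₁ ⊔ W₂) hu
    have c1 := hWcomm s hs w₁ hw₁W
    have c2 := hWcomm u huW w₁ hw₁W
    have hs'eq : s' = s * u⁻¹ := by rw [hsu]; group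
    have hs'c : s' ∈ Subgroup.centralizer ({w₁} : Set G) := by
      rw [Subgroup.mem_centralizer_iff]
      intro y hy
      rw [Set.mem_singleton_iff] at hy
      rw [hy, hs'eq]
      have c2' : u⁻¹ * w₁ = w₁ * u⁻¹ := by
        calc u⁻¹ * w₁ = u⁻¹ * (w₁ * u) * u⁻¹ := by group
          _ = u⁻¹ * (u * w₁) * u⁻¹ := by rw [c2]
          _ = w₁ * u⁻¹ := by group
      calc w₁ * (s * u⁻¹) = (w₁ * s) * u⁻¹ := by group
        _ = (s * w₁) * u⁻¹ := by rw [c1]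
        _ = s * (w₁ * u⁻¹) := by group
        _ = s * (u⁻¹ * w₁) := by rw [c2']
        _ = s * u⁻¹ * w₁ := by group
    have hs'W₂' : s' ∈ W₂' := by
      rw [← hcent]
      exact Subgroup.mem_inf.mpr ⟨hs', hs'c⟩
    rw [hsu]
    exact mul_mem ((le_sup_right : W₂' ≤ W₁ ⊔ W₂') hs'W₂') ((le_sup_left : W₁ ≤ W₁ ⊔ W₂') hu)
  -- generator
  obtain ⟨g, hg⟩ := (Subgroup.isCyclic_iff_exists_zpowers_eq_top (W₁ ⊔ W₂)).mp hcyc
  have hgW : g ∈ W₁ ⊔ W₂ := by rw [← hg]; exact Subgroup.mem_zpowers g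
  have hgW₁ : g ∉ W₁ := by
    intro h
    have h1 : W₁ ⊔ W₂ ≤ W₁ := by rw [← hg, Subgroup.zpowers_le]; exact h
    have h2 : W₂ ≤ W₁ ⊓ W₂ := le_inf (le_sup_right.trans h1) le_rfl
    rw [hdisj] at h2
    exact hW₂ne (eq_bot_iff.mpr h2)
  have hgW₂ : g ∉ W₂ := by
    intro h
    have h1 : W₁ ⊔ W₂ ≤ W₂ := by rw [← hg, Subgroup.zpowers_le]; exact h
    have h2 : W₁ ≤ W₁ ⊓ W₂ := le_inf le_rfl (le_sup_left.trans h1)
    rw [hdisj] at h2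
    exact hW₁ne (eq_bot_iff.mpr h2)
  have hgW₂' : g ∉ W₂' := by
    intro h
    have h1 : W₁ ⊔ W₂ ≤ W₂' := by rw [← hg, Subgroup.zpowers_le]; exact h
    have h2 : W₁ ≤ W₁ ⊓ W₂' := le_inf le_rfl (le_sup_left.trans h1)
    rw [hdisj'] at h2
    exact hW₁ne (eq_bot_iff.mpr h2)
  have hN1 : Subgroup.normalizer ({g} : Set G) = W₁ ⊔ W₂ := by
    apply hnorm {g}
    · intro x hx
      rw [Set.mem_singleton_iff] at hx
      rw [hx]
      refine ⟨hgW, ?_⟩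
      rintro (h | h)
      · exact hgW₁ h
      · exact hgW₂ h
    · exact Set.singleton_nonempty g
  have hN2 : Subgroup.normalizer ({g} : Set G) = W₁ ⊔ W₂' := by
    apply hnorm' {g}
    · intro x hx
      rw [Set.mem_singleton_iff] at hx
      rw [hx]
      refine ⟨hWW' hgW, ?_⟩
      rintro (h | h)
      · exact hgW₁ h
      · exact hgW₂' h
    · exact Set.singleton_nonempty g
  have hWeq : W₁ ⊔ W₂ = W₁ ⊔ W₂' := by rw [← hN1, hN2]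
  -- cardinalities
  have hc1 := card_sup_of_commute_disjoint W₁ W₂ hcomm hdisj
  have hc2 := card_sup_of_commute_disjoint W₁ W₂' hcomm' hdisj'
  have hcard : Nat.card W₂' = Nat.card W₂ := by
    have h3 : Nat.card W₁ * Nat.card W₂' = Nat.card W₁ * Nat.card W₂ := by
      rw [← hc1, ← hc2, hWeq]
    exact Nat.eq_of_mul_eq_mul_left Nat.card_pos h3
  exact eq_of_card_eq_of_le_isCyclic (W₁ ⊔ W₂) W₂' W₂ hcyc
    (by rw [hWeq]; exact le_sup_right) le_sup_right hcard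

end Cfsg.Agent.S1386
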