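import Mathlib
import Cfsg.Statements.S1387
import Cfsg.Agent.Lib.Helper2_Cyclic
import Cfsg.Agent.Lib.Helper2_Hall

set_option autoImplicit false
open Cfsg

namespace Cfsg.Agent.S1387

open Cfsg.Agent.Lib.Helper2_Cyclic Cfsg.Agent.Lib.Helper2_Hall

theorem result {G : Type*} [Group G] [Finite G] (M W₁ U W₂ : Subgroup G) (hP : Cfsg.IsTypePWith M W₁ U W₂) :
    Cfsg.fittingOf M = Cfsg.fittingHallOf M ⊔ (U ⊓ Subgroup.centralizer (Cfsg.fittingHallOf M : Set G)) := by
  set H := Cfsg.fittingHallOf M with hH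
  obtain ⟨hHM', hUM', hHU, hdecomp⟩ := hP.U_compl
  obtain ⟨hM'M, _, _, _⟩ := hP.W₁_compl
  have hUM : U ≤ M := hUM'.trans hM'M
  have hcop : (Nat.card H).Coprime (Nat.card U) :=
    coprime_card_of_disjoint_fittingHallOf M U hUM hHU
  rw [← hP.fitting_eq]
  apply le_antisymm
  · apply sup_le le_sup_left
    intro c hc
    have hcF : c ∈ Cfsg.fittingOf M := by
      rw [← hP.fitting_eq]
      exact (le_sup_right : M ⊓ Subgroup.centralizer (H : Set G) ≤ _) hc
    have hcM' : c ∈ ⁅M, M⁆ := hP.fitting_le hcF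
    obtain ⟨h, hh, u, hu, hcu⟩ := hdecomp c hcM'
    have hcC : c ∈ Subgroup.centralizer (H : Set G) := (Subgroup.mem_inf.mp hc).2
    have hcomm_ch : h * c = c * h := by
      rw [Subgroup.mem_centralizer_iff] at hcC
      exact hcC h hh
    have hcomm : Commute h u := by
      have hu_eq : u = h⁻¹ * c := by rw [hcu]; group
      show h * u = u * h
      rw [hu_eq]
      calc h * (h⁻¹ * c) = h⁻¹ * (h * c) := by group
        _ = h⁻¹ * (c * h) := by rw [hcomm_ch]
        _ = h⁻¹ * c * h := by group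
    obtain ⟨_, ⟨m, hm⟩⟩ := exists_pow_eq_of_commute_coprime H U hcop h u hh hu hcomm
    have huC : u ∈ Subgroup.centralizer (H : Set G) := by
      rw [← hm, ← hcu]
      exact pow_mem hcC m
    rw [hcu]
    exact mul_mem ((le_sup_left : H ≤ H ⊔ (U ⊓ Subgroup.centralizer (H : Set G))) hh)
      ((le_sup_right : U ⊓ Subgroup.centralizer (H : Set G) ≤ H ⊔ _) (Subgroup.mem_inf.mpr ⟨hu, huC⟩))
  · apply sup_le le_sup_left
    exact le_trans (inf_le_inf_right _ hUM) le_sup_right

end Cfsg.Agent.S1387
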