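import Mathlib
import Cfsg.Statements.S1388
import Cfsg.Agent.Lib.Helper2_Cyclic
import Cfsg.Agent.Lib.Helper2_Hall
import Cfsg.Agent.S1387

set_option autoImplicit false
open Cfsg
open scoped Pointwise commutatorElement

namespace Cfsg.Agent.S1388

open Cfsg.Agent.Lib.Helper2_Cyclic Cfsg.Agent.Lib.Helper2_Hall

theorem result {G : Type*} [Group G] [Finite G] (M W₁ U W₂ : Subgroup G) (hP : Cfsg.IsTypePWith M W₁ U W₂) :
    ⁅U, U⁆ ≤ Subgroup.centralizer (Cfsg.fittingHallOf M : Set G) ∧ (U ≠ ⊥ → ¬ U ≤ Subgroup.centralizer (Cfsg.fittingHallOf M : Set G)) := by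
  set H := Cfsg.fittingHallOf M with hH
  have hUc := hP.U_compl
  obtain ⟨hHM', hUM', hHU, hdecomp⟩ := hUc
  have hWc := hP.W₁_compl
  obtain ⟨hM'M, hW₁M, hM'W₁, hdecompM⟩ := hWc
  have hUM : U ≤ M := hUM'.trans hM'M
  have hcop : (Nat.card H).Coprime (Nat.card U) :=
    coprime_card_of_disjoint_fittingHallOf M U hUM hHU
  constructor
  · intro x hx
    have hxU : x ∈ U := by
      have : ⁅U, U⁆ ≤ U := by
        rw [Subgroup.commutator_le]
        intro a ha b hb
        exact U.mul_mem (U.mul_mem (U.mul_mem ha hb) (U.inv_mem ha)) (U.inv_mem hb)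
      exact this hx
    have hxF : x ∈ H ⊔ (U ⊓ Subgroup.centralizer (H : Set G)) := by
      rw [← Cfsg.Agent.S1387.result M W₁ U W₂ hP, ← hP.fitting_eq]
      apply hP.derived_two_le
      exact Subgroup.commutator_mono hUM' hUM' hx
    have hle : U ⊓ Subgroup.centralizer (H : Set G) ≤ Subgroup.normalizer (H : Set G) :=
      inf_le_right.trans (Subgroup.centralizer_le_normalizer _)
    have hcoe := Subgroup.coe_mul_of_right_le_normalizer_left H _ hle
    have hx' : x ∈ ((H ⊔ (U ⊓ Subgroup.centralizer (H : Set G)) : Subgroup G) : Set G) := hxF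
    rw [hcoe] at hx'
    obtain ⟨h, hh0, c, hc0, hhc0⟩ := hx'
    have hh : h ∈ H := hh0
    have hc : c ∈ U ⊓ Subgroup.centralizer (H : Set G) := hc0
    have hhc : h * c = x := hhc0
    have hcU : c ∈ U := (Subgroup.mem_inf.mp hc).1
    have hcC : c ∈ Subgroup.centralizer (H : Set G) := (Subgroup.mem_inf.mp hc).2
    have hhU : h ∈ U := by
      have : h = x * c⁻¹ := by rw [← hhc]; group
      rw [this]
      exact U.mul_mem hxU (U.inv_mem hcU)
    have h1 : h ∈ H ⊓ U := Subgroup.mem_inf.mpr ⟨hh, hhU⟩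
    rw [hHU, Subgroup.mem_bot] at h1
    rw [← hhc, h1, one_mul]
    exact hcC
  · intro hU1 hUC
    apply hU1
    -- U commutes with H elementwise
    have hcomm : ∀ h ∈ H, ∀ u ∈ U, Commute h u := by
      intro h hh u hu
      have := hUC hu
      rw [Subgroup.mem_centralizer_iff] at this
      exact this h hh
    -- U normal in M
    have hM'norm : ∀ m ∈ M, ∀ y ∈ ⁅M, M⁆, m * y * m⁻¹ ∈ ⁅M, M⁆ := by
      intro m hm y hy
      have : m * y * m⁻¹ = ⁅m, y⁆ * y := by
        rw [commutatorElement_def]; group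
      rw [this]
      exact mul_mem (Subgroup.commutator_mem_commutator hm (hM'M hy)) hy
    have hnorm : M ≤ Subgroup.normalizer (U : Set G) := by
      have hconj : ∀ m ∈ M, ∀ u ∈ U, m * u * m⁻¹ ∈ U := by
        intro m hm u hu
        have h1 : m * u * m⁻¹ ∈ ⁅M, M⁆ := hM'norm m hm u (hUM' hu)
        obtain ⟨h, hh, u', hu', he⟩ := hdecomp _ h1
        have hc := hcomm h hh u' hu'
        -- (h u')^{|U|} = h^{|U|}
        have hpow : (m * u * m⁻¹) ^ Nat.card U = 1 := by
          rw [conj_pow, pow_card_subgroup U u hu]; group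
        rw [he, hc.mul_pow, pow_card_subgroup U u' hu', mul_one] at hpow
        have hord1 : orderOf h ∣ Nat.card U := orderOf_dvd_of_pow_eq_one hpow
        have hord2 : orderOf h ∣ Nat.card H := Subgroup.orderOf_dvd_natCard H hh
        have h1' : orderOf h = 1 := Nat.eq_one_of_dvd_coprimes hcop hord2 hord1
        rw [orderOf_eq_one_iff] at h1'
        rw [he, h1', one_mul]
        exact hu'
      intro m hm
      rw [Subgroup.mem_normalizer_iff]
      intro u
      constructor
      · exact hconj m hm u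
      · intro hu
        have := hconj m⁻¹ (M.inv_mem hm) _ hu
        have h2 : m⁻¹ * (m * u * m⁻¹) * m⁻¹⁻¹ = u := by group
        rwa [h2] at this
    -- Hall
    have hcardM : Nat.card M = Nat.card ↥⁅M, M⁆ * Nat.card W₁ :=
      card_of_isComplIn _ _ _ hP.W₁_compl
    have hcardM' : Nat.card ↥⁅M, M⁆ = Nat.card H * Nat.card U :=
      card_of_isComplIn _ _ _ hP.U_compl
    have hrelW := relIndex_mul_card_of_le W₁ M hW₁M
    have hrelU := relIndex_mul_card_of_le U M hUM
    have hW₁pos : 0 < Nat.card W₁ := Nat.card_pos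
    have hUpos : 0 < Nat.card U := Nat.card_pos
    have hrelW' : W₁.relIndex M = Nat.card H * Nat.card U := by
      have : W₁.relIndex M * Nat.card W₁ = (Nat.card H * Nat.card U) * Nat.card W₁ := by
        rw [hrelW, hcardM, hcardM']
      exact Nat.eq_of_mul_eq_mul_right hW₁pos this
    have hrelU' : U.relIndex M = Nat.card H * Nat.card W₁ := by
      have : U.relIndex M * Nat.card U = (Nat.card H * Nat.card W₁) * Nat.card U := by
        rw [hrelU, hcardM, hcardM']; ring
      exact Nat.eq_of_mul_eq_mul_right hUpos this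
    have hcopW : (Nat.card W₁).Coprime (Nat.card U) := by
      have := hP.W₁_hall
      rw [hrelW'] at this
      exact Nat.Coprime.coprime_mul_left_right this
    have hcopU : (Nat.card U).Coprime (U.relIndex M) := by
      rw [hrelU']
      exact Nat.Coprime.mul_right hcop.symm hcopW.symm
    have hUH : U ≤ H := le_fittingHallOf M U hUM hnorm hP.U_nilpotent hcopU
    rw [eq_bot_iff, ← hHU]
    exact le_inf hUH le_rfl

end Cfsg.Agent.S1388
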