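import Mathlib
import Cfsg.Statements.S1441
import Cfsg.Agent.Lib.Helper2_Coprime

set_option autoImplicit false
open Cfsg

namespace Cfsg.Agent.S1441

open Cfsg.Agent.Lib.Helper2_Coprime
open scoped commutatorElement

theorem result {G : Type*} [Group G] [Finite G] (H A : Subgroup G) (hH : Group.IsSolvable H) (hA : (A ≤ Subgroup.normalizer (H : Set G)))
    (n : ℕ) (c : Fin (n + 1) → Subgroup G) (hc0 : c 0 = H) (hcn : c (Fin.last n) = ⊥) (hanti : Antitone c)
    (hcN : ∀ i, H ≤ Subgroup.normalizer ((c i : Subgroup G) : Set G)) (hcA : ∀ i, A ≤ Subgroup.normalizer ((c i : Subgroup G) : Set G))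
    (htriv : ∀ i : Fin n, ⁅c i.castSucc, A⁆ ≤ c i.succ) :
    ∀ p : ℕ, p.Prime → p ∣ (A ⊓ Subgroup.centralizer (H : Set G)).relIndex A → p ∣ Nat.card H := by
  intro p hp hdvd
  by_contra hpH
  haveI : Fact p.Prime := ⟨hp⟩
  have hle : ∀ i, c i ≤ H := by
    intro i
    rw [← hc0]
    exact hanti (Fin.zero_le i)
  have hstab : ∀ a ∈ A, ∀ i : Fin n, ∀ h ∈ c i.castSucc, a * h * a⁻¹ * h⁻¹ ∈ c i.succ := by
    intro a ha i h hh
    have h1 : ⁅h, a⁆ ∈ c i.succ := htriv i (Subgroup.commutator_mem_commutator hh ha)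
    have h2 : a * h * a⁻¹ * h⁻¹ = (⁅h, a⁆)⁻¹ := by
      rw [commutatorElement_def]; group
    rw [h2]
    exact inv_mem h1
  obtain ⟨P⟩ : Nonempty (Sylow p A) := inferInstance
  have hPle : (P : Subgroup A) ≤ (A ⊓ Subgroup.centralizer (H : Set G)).subgroupOf A := by
    intro a haP
    rw [Subgroup.mem_subgroupOf]
    refine Subgroup.mem_inf.mpr ⟨a.2, ?_⟩
    obtain ⟨k, hk⟩ := (IsPGroup.iff_orderOf.mp P.isPGroup') ⟨a, haP⟩
    have hord : orderOf (a : G) = p ^ k := by
      rw [← hk, Subgroup.orderOf_mk, Subgroup.orderOf_coe]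
    have hcop : (orderOf (a : G)).Coprime (Nat.card H) := by
      rw [hord]
      exact Nat.Coprime.pow_left k ((Nat.Prime.coprime_iff_not_dvd hp).mpr hpH)
    have hcent := centralizes_of_stable_chain H n c hcn hle (a : G) (hstab a a.2) hcop 0
    rw [hc0] at hcent
    rw [Subgroup.mem_centralizer_iff]
    intro h hh
    have := hcent h hh
    calc h * (a : G) = ((a : G) * h * (a : G)⁻¹) * (a : G) := by rw [this]
      _ = (a : G) * h := by group
  have h1 : ((A ⊓ Subgroup.centralizer (H : Set G)).subgroupOf A).index ∣ (P : Subgroup A).index :=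
    Subgroup.index_dvd_of_le hPle
  have h2 : p ∣ (P : Subgroup A).index := hdvd.trans h1
  exact P.not_dvd_index h2

end Cfsg.Agent.S1441
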