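import Mathlib
import Cfsg.Statements.S1442
import Cfsg.Agent.Lib.Helper2_Coprime
import Cfsg.Agent.Lib.Helper2_Conj

set_option autoImplicit false
open Cfsg

namespace Cfsg.Agent.S1442

open Cfsg.Agent.Lib.Helper2_Coprime Cfsg.Agent.Lib.Helper2_Conj

theorem result {G : Type*} [Group G] [Finite G] (H A : Subgroup G) (hH : Group.IsNilpotent H) (hA : (A ≤ Subgroup.normalizer (H : Set G))) (hcop : (Nat.card A).Coprime (Nat.card H))
    (hC : H ⊓ Subgroup.centralizer (((H ⊓ Subgroup.centralizer (A : Set G)) : Subgroup G) : Set G) ≤ (H ⊓ Subgroup.centralizer (A : Set G))) :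
    A ≤ Subgroup.centralizer (H : Set G) := by
  set C := H ⊓ Subgroup.centralizer (A : Set G) with hCdef
  have hCH : C ≤ H := inf_le_left
  -- a centralizes C
  have hAC : ∀ a ∈ A, ∀ c ∈ C, a * c * a⁻¹ = c := by
    intro a ha c hc
    have h1 := (Subgroup.mem_inf.mp hc).2
    rw [Subgroup.mem_centralizer_iff] at h1
    have := h1 a ha
    rw [this]; group
  have hAH : ∀ a ∈ A, ∀ h ∈ H, a * h * a⁻¹ ∈ H := by
    intro a ha h hh
    have := hA ha
    rw [Subgroup.mem_normalizer_iff] at this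
    exact (this h).mp hh
  have key : C = H := by
    apply eq_of_self_normalizing_in_nilpotent hH hCH
    intro n hnH hnN
    -- show n ∈ C(A)
    refine Subgroup.mem_inf.mpr ⟨hnH, ?_⟩
    rw [Subgroup.mem_centralizer_iff]
    intro a ha
    -- k = a n a⁻¹ n⁻¹ ∈ H ∩ C(C)
    have hkH : a * n * a⁻¹ * n⁻¹ ∈ H := H.mul_mem (hAH a ha n hnH) (H.inv_mem hnH)
    have hnorm : ∀ c ∈ C, n * c * n⁻¹ ∈ C := by
      intro c hc
      rw [Subgroup.mem_normalizer_iff] at hnN
      exact (hnN c).mp hc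
    have hnorm' : ∀ c ∈ C, n⁻¹ * c * n ∈ C := by
      intro c hc
      rw [Subgroup.mem_normalizer_iff''] at hnN
      exact (hnN c).mp hc
    have hkCC : a * n * a⁻¹ * n⁻¹ ∈ Subgroup.centralizer (C : Set G) := by
      rw [Subgroup.mem_centralizer_iff]
      intro c hc
      have hc'' := hnorm' c hc
      have e1 : a⁻¹ * (n⁻¹ * c * n) * a = n⁻¹ * c * n := by
        have := hAC a ha _ hc''
        calc a⁻¹ * (n⁻¹ * c * n) * a = a⁻¹ * (a * (n⁻¹ * c * n) * a⁻¹) * a := by rw [this]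
          _ = n⁻¹ * c * n := by group
      have e2 : a * c * a⁻¹ = c := hAC a ha c hc
      have : (a * n * a⁻¹ * n⁻¹) * c * (a * n * a⁻¹ * n⁻¹)⁻¹ = c := by
        calc (a * n * a⁻¹ * n⁻¹) * c * (a * n * a⁻¹ * n⁻¹)⁻¹
            = a * n * (a⁻¹ * (n⁻¹ * c * n) * a) * n⁻¹ * a⁻¹ := by group
          _ = a * n * (n⁻¹ * c * n) * n⁻¹ * a⁻¹ := by rw [e1]
          _ = a * c * a⁻¹ := by group
          _ = c := e2
      calc c * (a * n * a⁻¹ * n⁻¹)
          = ((a * n * a⁻¹ * n⁻¹) * c * (a * n * a⁻¹ * n⁻¹)⁻¹) * (a * n * a⁻¹ * n⁻¹) := by rw [this]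
        _ = (a * n * a⁻¹ * n⁻¹) * c := by group
    have hkC : a * n * a⁻¹ * n⁻¹ ∈ C := hC (Subgroup.mem_inf.mpr ⟨hkH, hkCC⟩)
    have hcop' : (orderOf a).Coprime (Nat.card H) :=
      Nat.Coprime.coprime_dvd_left (Subgroup.orderOf_dvd_natCard A ha) hcop
    have := conj_eq_of_stable_step H a n hkH (hAC a ha _ hkC) hcop'
    calc a * n = (a * n * a⁻¹) * a := by group
      _ = n * a := by rw [this]
  intro a ha
  rw [Subgroup.mem_centralizer_iff]
  intro h hh
  have hhC : h ∈ C := by rw [key]; exact hh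
  have := hAC a ha h hhC
  calc h * a = (a * h * a⁻¹) * a := by rw [this]
    _ = a * h := by group

end Cfsg.Agent.S1442
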