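import Cfsg.Statements.S1443
import Mathlib
import Cfsg.Agent.Lib.Lead_Coprime
import Cfsg.Agent.S0120
import Cfsg.Agent.S0028

set_option autoImplicit false
open Cfsg

namespace Cfsg.Agent.S1443

open Cfsg.Agent.Lib.Lead_Coprime

theorem pow_conjEquiv {G : Type*} [Group G] {K : Subgroup G} {g : G}
    (hg : g ∈ Subgroup.normalizer (K : Set G)) (k : ℕ) (x : K) :
    (((conjEquivOfMemNormalizer hg : MulAut K) ^ k) x : G) = g ^ k * x * (g ^ k)⁻¹ := by
  induction k generalizing x with
  | zero => simp
  | succ k ih =>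
    rw [pow_succ', MulAut.mul_apply]
    show g * ((conjEquivOfMemNormalizer hg ^ k) x : G) * g⁻¹ = _
    rw [ih, pow_succ']; group


/-- Let G be a finite group, p an odd prime, H a p-subgroup, E an elementary abelian subgroup of H, and A a subgroup of order coprime to p normalizing H. If A centralizes every element of order p in H ∩ C_G(E), then A centralizes H. -/
theorem result {G : Type*} [Group G] [Finite G] (p : ℕ) [Fact p.Prime] (hp : p ≠ 2) (H E A : Subgroup G) (hH : IsPGroup p H) (hE : E ≤ H) (hEe : Cfsg.IsElementaryAbelian p E)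
    (hA : (A ≤ Subgroup.normalizer (H : Set G))) (hcop : (Nat.card A).Coprime p)
    (hfix : ∀ x ∈ (H ⊓ Subgroup.centralizer (E : Set G)), orderOf x = p → A ≤ Subgroup.centralizer ({x} : Set G)) :
    A ≤ Subgroup.centralizer (H : Set G) := by
  classical
  obtain ⟨hEc, hEp⟩ := hEe
  have hEcomm : ∀ a ∈ E, ∀ b ∈ E, a * b = b * a := by
    intro a ha b hb
    exact congrArg Subtype.val (mul_comm' (⟨a, ha⟩ : E) ⟨b, hb⟩)
  have hEA : ∀ e ∈ E, A ≤ Subgroup.centralizer ({e} : Set G) := by
    intro e he
    by_cases h1 : e = 1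
    · subst h1
      intro a _
      rw [Subgroup.mem_centralizer_iff]
      intro x hx
      rw [Set.mem_singleton_iff.mp hx]; simp
    · apply hfix e
      · refine Subgroup.mem_inf.mpr ⟨hE he, ?_⟩
        rw [Subgroup.mem_centralizer_iff]
        intro b hb
        exact hEcomm b hb e he
      · exact orderOf_eq_prime (hEp e he) h1
  have hAE : ∀ a ∈ A, ∀ e ∈ E, e * a = a * e := by
    intro a ha e he
    exact Subgroup.mem_centralizer_iff.mp (hEA e he ha) e rfl
  set C := H ⊓ Subgroup.centralizer (E : Set G) with hCdef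
  have hCp : IsPGroup p C := hH.to_le inf_le_left
  have hAC : A ≤ Subgroup.normalizer (C : Set G) := by
    intro a ha
    have key : ∀ b ∈ A, ∀ n ∈ C, b * n * b⁻¹ ∈ C := by
      intro b hb n hn
      obtain ⟨hn1, hn2⟩ := Subgroup.mem_inf.mp hn
      refine Subgroup.mem_inf.mpr ⟨(Subgroup.mem_normalizer_iff.mp (hA hb) n).mp hn1, ?_⟩
      rw [Subgroup.mem_centralizer_iff] at hn2 ⊢
      intro e he
      have h1 := hn2 e he
      have h2 := hAE b hb e he
      have h3 : e * b⁻¹ = b⁻¹ * e := by
        have : b⁻¹ * (e * b) * b⁻¹ = b⁻¹ * (b * e) * b⁻¹ := by rw [h2]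
        exact (by simpa [mul_assoc] using this : b⁻¹ * e = e * b⁻¹).symm
      calc e * (b * n * b⁻¹) = (e * b) * n * b⁻¹ := by group
        _ = b * (e * n) * b⁻¹ := by rw [h2]; group
        _ = b * n * (e * b⁻¹) := by rw [h1]; group
        _ = b * n * b⁻¹ * e := by rw [h3]; group
    refine mem_normalizer_of_conj_mem (key a ha) ?_
    intro n hn
    have := key a⁻¹ (A.inv_mem ha) n hn
    rwa [inv_inv] at this
  have hACc : C ≤ Subgroup.centralizer (A : Set G) := by
    intro x hx
    rw [Subgroup.mem_centralizer_iff]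
    intro a ha
    have haN := hAC ha
    set α : MulAut C := conjEquivOfMemNormalizer haN with hα
    have hord : Nat.Coprime (orderOf α) p := by
      have h1 : α ^ orderOf a = 1 := by
        ext y
        rw [pow_conjEquiv, pow_orderOf_eq_one]; simp
      have h2 : orderOf α ∣ Nat.card A :=
        (orderOf_dvd_of_pow_eq_one h1).trans (Subgroup.orderOf_dvd_natCard _ ha)
      exact Nat.Coprime.coprime_dvd_left h2 hcop
    have hα1 : α = 1 := by
      apply Cfsg.Agent.S0120.result hp hCp α hord
      intro y hy
      have hy' : (y : G) ^ p = 1 := by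
        have := congrArg Subtype.val hy
        simpa using this
      apply Subtype.ext
      show a * (y : G) * a⁻¹ = y
      by_cases hy1 : (y : G) = 1
      · rw [hy1]; simp
      · have h3 := hfix (y : G) y.2 (orderOf_eq_prime hy' hy1) ha
        have h4 := Subgroup.mem_centralizer_iff.mp h3 (y : G) rfl
        rw [← h4]; group
    have h5 : (α ⟨x, hx⟩ : G) = x := by rw [hα1]; rfl
    have h6 : a * x * a⁻¹ = x := h5
    calc a * x = (a * x * a⁻¹) * a := by group
      _ = x * a := by rw [h6]
  have hEcA : E ≤ Subgroup.centralizer (A : Set G) := by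
    intro e he
    rw [Subgroup.mem_centralizer_iff]
    intro a ha
    exact (hAE a ha e he).symm
  exact Cfsg.Agent.S0028.result p E A H (hH.to_le hE) hcop hH hEcA
    (hE.trans Subgroup.le_normalizer) hA
    (by
      intro x hx
      have := hACc hx
      exact this)

end Cfsg.Agent.S1443
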