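import Cfsg.Statements.S1452
import Mathlib
import Cfsg.Agent.Lib.Helper6_PRank
import Cfsg.Agent.Lib.Helper4_MaxNormAb3

set_option autoImplicit false
open Cfsg

namespace Cfsg.Agent.S1452

open Cfsg.Agent.S0100 Cfsg.Agent.Lib.Helper6_PRank

/-- Let p be an odd prime and R a finite p-group containing an elementary abelian subgroup of order p ^ 3. If E is a normal elementary abelian subgroup of R of order p ^ 2, then E ≤ A for some normal subgroup A of R with C_R(A) = A that contains an elementary abelian subgroup of order p ^ 3. -/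
theorem result {R : Type*} [Group R] [Finite R] (p : ℕ) [Fact p.Prime] (hp : p ≠ 2) (hR : IsPGroup p R) (hr : ¬ Cfsg.PRankLE p 2 R)
    (E : Subgroup R) [E.Normal] (hE : Cfsg.IsElementaryAbelian p E) (hE2 : Nat.card E = p ^ 2) :
    ∃ A : Subgroup R, E ≤ A ∧ A.Normal ∧ Subgroup.centralizer (A : Set R) = A ∧ ¬ Cfsg.PRankLE p 2 A := by
  classical
  unfold Cfsg.PRankLE at hr
  push Not at hr
  obtain ⟨E₃, hE₃c, hE₃e, hE₃⟩ := hr
  have hE₃c' : ∀ a ∈ E₃, ∀ b ∈ E₃, a * b = b * a := fun a ha b hb =>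
    congrArg Subtype.val (hE₃c.is_comm.comm ⟨a, ha⟩ ⟨b, hb⟩)
  have hENEA : NEA p E :=
    ⟨inferInstance, fun a ha b hb => congrArg Subtype.val (hE.1.is_comm.comm ⟨a, ha⟩ ⟨b, hb⟩), hE.2⟩
  obtain ⟨N, hN, hEN, hNbig⟩ := exists_NEA_big hp hR E₃ hE₃c' hE₃e hE₃ E hENEA
  -- maximal normal abelian subgroup containing N
  have hNab : IsMulCommutative ↥N := ⟨⟨fun a b => Subtype.ext (hN.2.1 a a.2 b b.2)⟩⟩
  haveI : Nonempty {A : Subgroup R // A.Normal ∧ IsMulCommutative ↥A ∧ N ≤ A} :=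
    ⟨⟨N, hN.1, hNab, le_refl _⟩⟩
  obtain ⟨⟨A, hAn, hAab, hNA⟩, hAmax⟩ :=
    Finite.exists_max
      (fun A : {A : Subgroup R // A.Normal ∧ IsMulCommutative ↥A ∧ N ≤ A} => Nat.card A.1)
  haveI := hAn
  have hmax : ∀ B : Subgroup R, B.Normal → IsMulCommutative ↥B → A ≤ B → B = A := by
    intro B hBn hBab hAB
    have h1 := hAmax ⟨B, hBn, hBab, le_trans hNA hAB⟩
    exact (Subgroup.eq_of_le_of_card_ge hAB h1).symm
  refine ⟨A, le_trans hEN hNA, hAn, Cfsg.Agent.Lib.Helper4_MaxNormAb3.self_cent hR A hAab hmax, ?_⟩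
  unfold Cfsg.PRankLE
  push Not
  refine ⟨N.subgroupOf A, ⟨⟨fun a b => ?_⟩⟩, ?_, ?_⟩
  · apply Subtype.ext
    apply Subtype.ext
    exact hN.2.1 _ (Subgroup.mem_subgroupOf.mp a.2) _ (Subgroup.mem_subgroupOf.mp b.2)
  · intro a ha
    apply Subtype.ext
    have := hN.2.2 _ (Subgroup.mem_subgroupOf.mp ha)
    simpa using this
  · have : Nat.card ↥(N.subgroupOf A) = Nat.card ↥N :=
      Nat.card_congr (Subgroup.subgroupOfEquivOfLe hNA).toEquiv
    rw [this]
    exact hNbig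

end Cfsg.Agent.S1452
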