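import Cfsg.Statements.S1453
import Mathlib
import Cfsg.Agent.Lib.Helper6_PRank

set_option autoImplicit false
open Cfsg
open scoped commutatorElement

namespace Cfsg.Agent.S1453

open Cfsg.Agent.S0100 Cfsg.Agent.Lib.Helper6_PRank

section aux
variable {R : Type*} [Group R]

theorem comm_center_of_mem_ucs2 {w : R} (hw : w ∈ Subgroup.upperCentralSeries R 2) (y : R) :
    ⁅w, y⁆ ∈ Subgroup.center R := by
  have := Subgroup.mem_upperCentralSeries_succ_iff.mp hw y
  rwa [Subgroup.upperCentralSeries_one] at this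

theorem comm_pow_eq_one {p : ℕ} {w : R} (hw : w ∈ Subgroup.upperCentralSeries R 2)
    (hwp : w ^ p = 1) (y : R) : ⁅w, y⁆ ^ p = 1 := by
  have hc := comm_center_of_mem_ucs2 hw y
  have hcomm : Commute w⁻¹ ⁅w, y⁆ := Subgroup.mem_center_iff.mp hc w⁻¹
  have e : w⁻¹ * ⁅w, y⁆ = y * w⁻¹ * y⁻¹ := by rw [commutatorElement_def]; group
  have h1 : (w⁻¹ * ⁅w, y⁆) ^ p = 1 := by rw [e, conj_pow, inv_pow, hwp]; group
  rw [hcomm.mul_pow, inv_pow, hwp, inv_one, one_mul] at h1
  exact h1

/-- `Ω₁(Z₂(R))` as a set is a subgroup when `p` is odd. -/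
def omegaZ2 (R : Type*) [Group R] (p : ℕ) (hp : p.Prime) (hp2 : p ≠ 2) : Subgroup R where
  carrier := {x | x ∈ Subgroup.upperCentralSeries R 2 ∧ x ^ p = 1}
  mul_mem' := by
    rintro x y ⟨hx1, hx2⟩ ⟨hy1, hy2⟩
    refine ⟨Subgroup.mul_mem _ hx1 hy1, ?_⟩
    have hc := comm_center_of_mem_ucs2 hy1 x
    apply pow_p_eq_one hp hp2 x y ⁅y, x⁆ (by rw [commutatorElement_def]; group)
    · exact (Subgroup.mem_center_iff.mp hc x).symm
    · exact (Subgroup.mem_center_iff.mp hc y).symm
    · exact hx2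
    · exact hy2
    · exact comm_pow_eq_one hy1 hy2 x
  one_mem' := ⟨Subgroup.one_mem _, one_pow _⟩
  inv_mem' := by
    rintro x ⟨hx1, hx2⟩
    exact ⟨Subgroup.inv_mem _ hx1, by rw [inv_pow, hx2, inv_one]⟩

/-- `Ω₁(Z(R))` as a set is a subgroup. -/
def omegaZ (R : Type*) [Group R] (p : ℕ) : Subgroup R where
  carrier := {x | x ∈ Subgroup.center R ∧ x ^ p = 1}
  mul_mem' := by
    rintro x y ⟨hx1, hx2⟩ ⟨hy1, hy2⟩
    refine ⟨Subgroup.mul_mem _ hx1 hy1, ?_⟩
    have hc : Commute x y := (Subgroup.mem_center_iff.mp hy1 x)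
    rw [hc.mul_pow, hx2, hy2, one_mul]
  one_mem' := ⟨Subgroup.one_mem _, one_pow _⟩
  inv_mem' := by
    rintro x ⟨hx1, hx2⟩
    exact ⟨Subgroup.inv_mem _ hx1, by rw [inv_pow, hx2, inv_one]⟩

theorem closure_eq_omegaZ2 (p : ℕ) (hp : p.Prime) (hp2 : p ≠ 2) :
    Subgroup.closure {x : R | x ∈ Subgroup.upperCentralSeries R 2 ∧ x ^ p = 1} =
      omegaZ2 R p hp hp2 := by
  apply le_antisymm
  · rw [Subgroup.closure_le]
    intro x hx
    exact hx
  · intro x hx
    exact Subgroup.subset_closure hx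

theorem closure_eq_omegaZ (p : ℕ) :
    Subgroup.closure {x : R | x ∈ Subgroup.center R ∧ x ^ p = 1} = omegaZ R p := by
  apply le_antisymm
  · rw [Subgroup.closure_le]
    intro x hx
    exact hx
  · intro x hx
    exact Subgroup.subset_closure hx

theorem omegaZ2_char (p : ℕ) (hp : p.Prime) (hp2 : p ≠ 2) :
    (omegaZ2 R p hp hp2).Characteristic := by
  rw [Subgroup.characteristic_iff_le_comap]
  intro φ x hx
  rw [Subgroup.mem_comap]
  refine ⟨?_, ?_⟩
  · have h1 := Subgroup.Characteristic.fixed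
      (inferInstance : (Subgroup.upperCentralSeries R 2).Characteristic) φ
    have h2 : x ∈ (Subgroup.upperCentralSeries R 2).comap φ.toMonoidHom := by
      rw [h1]; exact hx.1
    exact h2
  · show (φ x) ^ p = 1
    rw [← map_pow, hx.2, map_one]

end aux

/-- Let p be an odd prime and R a finite p-group with an elementary abelian subgroup of order p ^ 3 and an elementary abelian subgroup E of order p ^ 2 contained in no larger elementary abelian subgroup. Let Z₂ be the second centre of R, W the subgroup generated by the elements of Z₂ of order dividing p, and T = C_R(W). Then E is not contained in T; the elements of order dividing p of the centre of R generate a group of order p; W is elementary abelian of order p ^ 2; and T is characteristic in R of index p. -/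
theorem result {R : Type*} [Group R] [Finite R] (p : ℕ) [Fact p.Prime] (hp : p ≠ 2) (hR : IsPGroup p R) (hr : ¬ Cfsg.PRankLE p 2 R)
    (E : Subgroup R) (hE : Cfsg.IsElementaryAbelian p E) (hE2 : Nat.card E = p ^ 2)
    (hEmax : ∀ B : Subgroup R, Cfsg.IsElementaryAbelian p B → E ≤ B → B = E) :
    ¬ E ≤ Subgroup.centralizer ((Subgroup.closure {x : R | x ∈ Subgroup.upperCentralSeries R 2 ∧ x ^ p = 1} : Subgroup R) : Set R) ∧
      Nat.card ↥(Subgroup.closure {x : R | x ∈ Subgroup.center R ∧ x ^ p = 1}) = p ∧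
      (Cfsg.IsElementaryAbelian p (Subgroup.closure {x : R | x ∈ Subgroup.upperCentralSeries R 2 ∧ x ^ p = 1}) ∧
        Nat.card ↥(Subgroup.closure {x : R | x ∈ Subgroup.upperCentralSeries R 2 ∧ x ^ p = 1}) = p ^ 2) ∧
      (Subgroup.centralizer ((Subgroup.closure {x : R | x ∈ Subgroup.upperCentralSeries R 2 ∧ x ^ p = 1} : Subgroup R) : Set R)).Characteristic ∧
      (Subgroup.centralizer ((Subgroup.closure {x : R | x ∈ Subgroup.upperCentralSeries R 2 ∧ x ^ p = 1} : Subgroup R) : Set R)).index = p := by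
  classical
  have hpp : p.Prime := Fact.out
  rw [closure_eq_omegaZ2 p hpp hp, closure_eq_omegaZ p]
  -- notation
  obtain ⟨W, hWdef⟩ : ∃ W, W = omegaZ2 R p hpp hp := ⟨_, rfl⟩
  obtain ⟨Z, hZdef⟩ : ∃ Z, Z = omegaZ R p := ⟨_, rfl⟩
  rw [← hWdef, ← hZdef]
  have hWmem : ∀ x, x ∈ W ↔ x ∈ Subgroup.upperCentralSeries R 2 ∧ x ^ p = 1 := by
    intro x; rw [hWdef]; rfl
  have hZmem : ∀ x, x ∈ Z ↔ x ∈ Subgroup.center R ∧ x ^ p = 1 := by
    intro x; rw [hZdef]; rfl
  have hWchar : W.Characteristic := by rw [hWdef]; exact omegaZ2_char p hpp hp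
  haveI := hWchar
  -- rank ≥ 3
  unfold Cfsg.PRankLE at hr
  push Not at hr
  obtain ⟨E₃, hE₃c, hE₃e, hE₃⟩ := hr
  have hE₃c' : ∀ a ∈ E₃, ∀ b ∈ E₃, a * b = b * a := fun a ha b hb =>
    congrArg Subtype.val (hE₃c.is_comm.comm ⟨a, ha⟩ ⟨b, hb⟩)
  have hEc : ∀ a ∈ E, ∀ b ∈ E, a * b = b * a := fun a ha b hb =>
    congrArg Subtype.val (hE.1.is_comm.comm ⟨a, ha⟩ ⟨b, hb⟩)
  have hEe : ∀ e ∈ E, e ^ p = 1 := hE.2
  -- Step D
  have hD : ∀ x : R, x ^ p = 1 → (∀ e ∈ E, e * x = x * e) → x ∈ E := by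
    intro x hxp hxE
    have hFc := sup_comm E x hEc hxE
    have hFe := sup_exp p E x hFc hEe hxp
    have hF : Cfsg.IsElementaryAbelian p (E ⊔ Subgroup.zpowers x) :=
      ⟨⟨⟨fun a b => Subtype.ext (hFc a a.2 b b.2)⟩⟩, hFe⟩
    have := hEmax _ hF le_sup_left
    rw [← this]
    exact Subgroup.mem_sup_right (Subgroup.mem_zpowers x)
  -- Step E
  have hEnn : ¬ E.Normal := by
    intro hEn
    obtain ⟨N, hN, hEN, hNbig⟩ := exists_NEA_big hp hR E₃ hE₃c' hE₃e hE₃ E ⟨hEn, hEc, hEe⟩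
    have hNE : Cfsg.IsElementaryAbelian p N :=
      ⟨⟨⟨fun a b => Subtype.ext (hN.2.1 a a.2 b b.2)⟩⟩, hN.2.2⟩
    have := hEmax N hNE hEN
    rw [this, hE2] at hNbig
    exact lt_irrefl _ hNbig
  -- Step F
  have hZE : Z ≤ E := by
    intro z hz
    rw [hZmem] at hz
    exact hD z hz.2 (fun e _ => (Subgroup.mem_center_iff.mp hz.1 e))
  have hZcent : ∀ z ∈ Z, ∀ g : R, g * z = z * g := by
    intro z hz g
    rw [hZmem] at hz
    exact Subgroup.mem_center_iff.mp hz.1 g
  haveI hRnt : Nontrivial R := by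
    have : 1 < Nat.card E := by rw [hE2]; exact Nat.one_lt_pow (by norm_num) hpp.one_lt
    obtain ⟨a, b, hab⟩ := (Finite.one_lt_card_iff_nontrivial.mp this)
    exact ⟨⟨a.1, b.1, fun h => hab (Subtype.ext h)⟩⟩
  have hZbot : Z ≠ ⊥ := by
    have htop : (⊤ : Subgroup R) ≠ ⊥ := by
      intro h
      exact (Subgroup.nontrivial_iff_ne_bot (⊤ : Subgroup R)).mp inferInstance h
    obtain ⟨b, -, hbZ, hbo⟩ :=
      Cfsg.Agent.Lib.Helper4_MaxNormAb0.exists_central_order_p hR (⊤ : Subgroup R) htop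
    intro h
    have hb : b ∈ Z := by
      rw [hZmem]
      exact ⟨hbZ, by rw [← hbo]; exact pow_orderOf_eq_one b⟩
    rw [h, Subgroup.mem_bot] at hb
    rw [hb, orderOf_one] at hbo
    exact hpp.one_lt.ne hbo
  have hZneE : Z ≠ E := by
    intro h
    apply hEnn
    constructor
    intro e he g
    have := hZcent e (h ▸ he) g
    rw [this, mul_inv_cancel_right]
    exact he
  have hZcard : Nat.card Z = p := by
    have hdvd : Nat.card Z ∣ p ^ 2 := hE2 ▸ Subgroup.card_dvd_of_le hZE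
    obtain ⟨k, hk2, hk⟩ := (Nat.dvd_prime_pow hpp).mp hdvd
    have hk0 : k ≠ 0 := by
      rintro rfl
      rw [pow_zero] at hk
      exact hZbot (Subgroup.card_eq_one.mp hk)
    have hk2' : k ≠ 2 := by
      rintro rfl
      apply hZneE
      exact Subgroup.eq_of_le_of_card_ge hZE (by rw [hk, hE2])
    have : k = 1 := by omega
    rw [hk, this, pow_one]
  -- Step G: V
  obtain ⟨N, hN, -, hNbig⟩ := exists_NEA_big hp hR E₃ hE₃c' hE₃e hE₃ ⊥
    ⟨inferInstance, by
      intro a ha b hb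
      rw [Subgroup.mem_bot] at ha hb
      rw [ha, hb], by
      intro a ha
      rw [Subgroup.mem_bot] at ha
      rw [ha, one_pow]⟩
  haveI := hN.1
  have hNbot : (⊥ : Subgroup R) ≠ N := by
    intro h
    rw [← h, Subgroup.card_bot] at hNbig
    have := Nat.one_le_pow 2 p hpp.pos
    omega
  obtain ⟨Z₁, hZ₁n, -, hZ₁N, hZ₁card, hZ₁cent⟩ :=
    Cfsg.Agent.Lib.Helper4_MaxNormAb1.step hR ⊥ N bot_le hNbot
  have hZ₁p : Nat.card Z₁ = p := by rw [hZ₁card, Subgroup.card_bot, mul_one]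
  have hZ₁c : ∀ z ∈ Z₁, z ∈ Subgroup.center R := by
    intro z hz
    rw [Subgroup.mem_center_iff]
    intro g
    have := hZ₁cent g z hz
    rw [Subgroup.mem_bot, commutatorElement_def] at this
    calc g * z = (g * z * g⁻¹ * z⁻¹) * (z * g) := by group
      _ = z * g := by rw [this, one_mul]
  have hZ₁neN : Z₁ ≠ N := by
    intro h
    rw [← h, hZ₁p] at hNbig
    have : p ≤ p ^ 2 := by
      calc p = p ^ 1 := (pow_one p).symm
        _ ≤ p ^ 2 := Nat.pow_le_pow_right hpp.pos (by norm_num)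
    omega
  haveI := hZ₁n
  obtain ⟨V, hVn, hZ₁V, hVN, hVcard, hVcomm⟩ :=
    Cfsg.Agent.Lib.Helper4_MaxNormAb1.step hR Z₁ N hZ₁N hZ₁neN
  have hVp2 : Nat.card V = p ^ 2 := by rw [hVcard, hZ₁p, sq]
  have hVW : V ≤ W := by
    intro v hv
    rw [hWmem]
    refine ⟨?_, hN.2.2 v (hVN hv)⟩
    rw [Subgroup.mem_upperCentralSeries_succ_iff]
    intro y
    rw [Subgroup.upperCentralSeries_one]
    have h1 := hZ₁c _ (hVcomm y v hv)
    have e : ⁅v, y⁆ = (⁅y, v⁆)⁻¹ := by simp only [commutatorElement_def]; group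
    rw [e]
    exact Subgroup.inv_mem _ h1
  -- Step H
  obtain ⟨e, heE, heZ⟩ : ∃ e ∈ E, e ∉ Z := by
    by_contra hcon
    push Not at hcon
    exact hZneE (le_antisymm hZE hcon)
  have hEsup : E = Z ⊔ Subgroup.zpowers e :=
    Cfsg.Agent.Lib.Helper4_MaxNormAb0.eq_sup_zpowers Z E hZE (by rw [hE2, hZcard, sq]) e heE heZ
  have hcommE : ∀ g : R, g * e = e * g → ∀ e' ∈ E, e' * g = g * e' := by
    intro g hg
    have : E ≤ Subgroup.centralizer ({g} : Set R) := by
      rw [hEsup]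
      apply sup_le
      · intro z hz
        rw [Subgroup.mem_centralizer_iff]
        intro h' hh
        rw [Set.mem_singleton_iff] at hh
        subst hh
        exact hZcent z hz h'
      · rw [Subgroup.zpowers_le, Subgroup.mem_centralizer_iff]
        intro h' hh
        rw [Set.mem_singleton_iff] at hh
        subst hh
        exact hg
    intro e' he'
    have := this he'
    rw [Subgroup.mem_centralizer_iff] at this
    exact (this g rfl).symm
  have hψmem : ∀ w ∈ W, ⁅w, e⁆ ∈ Z := by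
    intro w hw
    rw [hWmem] at hw
    rw [hZmem]
    exact ⟨comm_center_of_mem_ucs2 hw.1 e, comm_pow_eq_one hw.1 hw.2 e⟩
  let ψ : ↥W →* ↥Z := MonoidHom.mk' (fun w => ⟨⁅(w : R), e⁆, hψmem w w.2⟩) (by
    intro w w'
    apply Subtype.ext
    have hc' := hZcent _ (hψmem w' w'.2) w
    have hc'' := hZcent _ (hψmem w' w'.2) ⁅(w : R), e⁆
    show ⁅((w * w' : ↥W) : R), e⁆ = ⁅(w : R), e⁆ * ⁅(w' : R), e⁆
    rw [hc'']
    rw [Subgroup.coe_mul]
    calc ⁅(w : R) * (w' : R), e⁆ = ((w : R) * ⁅(w' : R), e⁆) * e * (w : R)⁻¹ * e⁻¹ := by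
          simp only [commutatorElement_def]; group
      _ = (⁅(w' : R), e⁆ * (w : R)) * e * (w : R)⁻¹ * e⁻¹ := by rw [hc']
      _ = ⁅(w' : R), e⁆ * ⁅(w : R), e⁆ := by
          simp only [commutatorElement_def]; group)
  have hker : ∀ w : ↥W, w ∈ ψ.ker → (w : R) ∈ E := by
    intro w hw
    rw [MonoidHom.mem_ker] at hw
    have h1 : ⁅(w : R), e⁆ = 1 := congrArg Subtype.val hw
    have h2 : (w : R) * e = e * w := by
      rw [commutatorElement_def] at h1
      calc (w : R) * e = ((w : R) * e * (w : R)⁻¹ * e⁻¹) * (e * w) := by group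
        _ = e * w := by rw [h1, one_mul]
    exact hD _ ((hWmem _).mp w.2).2 (hcommE _ h2)
  have hEW : E ⊓ W ≠ E := by
    intro h
    have hle : E ≤ W := inf_eq_left.mp h
    apply hEnn
    constructor
    intro e' he' g
    have hw := (hWmem e').mp (hle he')
    have h1 : ⁅e', g⁆ ∈ Z := by
      rw [hZmem]
      exact ⟨comm_center_of_mem_ucs2 hw.1 g, comm_pow_eq_one hw.1 hw.2 g⟩
    have e1 : g * e' * g⁻¹ = (⁅e', g⁆)⁻¹ * e' := by
      simp only [commutatorElement_def]; group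
    rw [e1]
    exact E.mul_mem (E.inv_mem (hZE h1)) he'
  have hcardker : Nat.card ψ.ker ≤ p := by
    have hinj : Nat.card ψ.ker ≤ Nat.card ↥(E ⊓ W) := by
      apply Nat.card_le_card_of_injective
        (fun w : ψ.ker => (⟨(w.1 : R), Subgroup.mem_inf.2 ⟨hker w.1 w.2, w.1.2⟩⟩ : ↥(E ⊓ W)))
      intro w w' h'
      apply Subtype.ext
      apply Subtype.ext
      have h'' := congrArg Subtype.val h'
      exact h''
    have hdvd : Nat.card ↥(E ⊓ W) ∣ p ^ 2 := by
      rw [← hE2]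
      exact Subgroup.card_dvd_of_le inf_le_left
    have hne' : Nat.card ↥(E ⊓ W) ≠ p ^ 2 := by
      intro h'
      apply hEW
      exact Subgroup.eq_of_le_of_card_ge inf_le_left (by rw [h', hE2])
    obtain ⟨k, hk2, hk⟩ := (Nat.dvd_prime_pow hpp).mp hdvd
    have hk1 : k ≤ 1 := by
      by_contra hk'
      have : k = 2 := by omega
      exact hne' (by rw [hk, this])
    calc Nat.card ψ.ker ≤ Nat.card ↥(E ⊓ W) := hinj
      _ = p ^ k := hk
      _ ≤ p ^ 1 := Nat.pow_le_pow_right hpp.pos hk1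
      _ = p := pow_one p
  have hrange : Nat.card ψ.range ≤ p := by
    calc Nat.card ψ.range ≤ Nat.card ↥Z := Subgroup.card_le_card_group _
      _ = p := hZcard
  have hWcard_le : Nat.card W ≤ p ^ 2 := by
    have hmul := Subgroup.card_mul_index ψ.ker
    rw [Subgroup.index_ker] at hmul
    calc Nat.card W = Nat.card ψ.ker * Nat.card ψ.range := hmul.symm
      _ ≤ p * p := Nat.mul_le_mul hcardker hrange
      _ = p ^ 2 := (sq p).symm
  have hVeqW : V = W := Subgroup.eq_of_le_of_card_ge hVW (by rw [hVp2]; exact hWcard_le)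
  have hWcard : Nat.card W = p ^ 2 := by rw [← hVeqW, hVp2]
  have hWn : W.Normal := hVeqW ▸ hVn
  -- (a)
  have hnotle : ¬ E ≤ Subgroup.centralizer (W : Set R) := by
    intro hle
    have hWE : W ≤ E := by
      intro w hw
      apply hD w ((hWmem w).mp hw).2
      intro e' he'
      have := Subgroup.mem_centralizer_iff.mp (hle he') w hw
      exact this.symm
    have : W = E := Subgroup.eq_of_le_of_card_ge hWE (by rw [hWcard, hE2])
    exact hEnn (this ▸ hWn)
  refine ⟨hnotle, hZcard, ⟨⟨?_, fun a ha => ((hWmem a).mp ha).2⟩, hWcard⟩, inferInstance, ?_⟩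
  · -- W abelian
    refine ⟨⟨fun a b => Subtype.ext ?_⟩⟩
    have ha : (a : R) ∈ N := hVN (hVeqW ▸ a.2)
    have hb : (b : R) ∈ N := hVN (hVeqW ▸ b.2)
    exact hN.2.1 _ ha _ hb
  · -- index
    obtain ⟨v, hvV, hvZ₁⟩ : ∃ v ∈ V, v ∉ Z₁ := by
      by_contra hcon
      push Not at hcon
      have : V ≤ Z₁ := hcon
      have h1 := Subgroup.card_le_of_le this
      rw [hVcard] at h1
      have h2 : 0 < Nat.card Z₁ := Nat.card_pos
      nlinarith [hpp.two_le]
    have hVsup : V = Z₁ ⊔ Subgroup.zpowers v :=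
      Cfsg.Agent.Lib.Helper4_MaxNormAb0.eq_sup_zpowers Z₁ V hZ₁V hVcard v hvV hvZ₁
    let χ : R →* ↥Z₁ := MonoidHom.mk' (fun g => ⟨⁅g, v⁆, hVcomm g v hvV⟩) (by
      intro g g'
      apply Subtype.ext
      have hc' := Subgroup.mem_center_iff.mp (hZ₁c _ (hVcomm g' v hvV)) g
      have hc'' := Subgroup.mem_center_iff.mp (hZ₁c _ (hVcomm g' v hvV)) ⁅g, v⁆
      show ⁅g * g', v⁆ = ⁅g, v⁆ * ⁅g', v⁆
      rw [hc'']
      calc ⁅g * g', v⁆ = (g * ⁅g', v⁆) * v * g⁻¹ * v⁻¹ := by
            simp only [commutatorElement_def]; group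
        _ = (⁅g', v⁆ * g) * v * g⁻¹ * v⁻¹ := by rw [hc']
        _ = ⁅g', v⁆ * ⁅g, v⁆ := by
            simp only [commutatorElement_def]; group)
    have hkerle : χ.ker ≤ Subgroup.centralizer (W : Set R) := by
      intro g hg
      rw [MonoidHom.mem_ker] at hg
      have h1 : ⁅g, v⁆ = 1 := congrArg Subtype.val hg
      have h2 : g * v = v * g := by
        rw [commutatorElement_def] at h1
        calc g * v = (g * v * g⁻¹ * v⁻¹) * (v * g) := by group
          _ = v * g := by rw [h1, one_mul]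
      rw [Subgroup.mem_centralizer_iff]
      have : V ≤ Subgroup.centralizer ({g} : Set R) := by
        rw [hVsup]
        apply sup_le
        · intro z hz
          rw [Subgroup.mem_centralizer_iff]
          intro h' hh
          rw [Set.mem_singleton_iff] at hh
          subst hh
          exact Subgroup.mem_center_iff.mp (hZ₁c z hz) h'
        · rw [Subgroup.zpowers_le, Subgroup.mem_centralizer_iff]
          intro h' hh
          rw [Set.mem_singleton_iff] at hh
          subst hh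
          exact h2
      intro w hw
      have := this (hVeqW ▸ hw)
      rw [Subgroup.mem_centralizer_iff] at this
      exact (this g rfl).symm
    have h1 : (Subgroup.centralizer (W : Set R)).index ∣ χ.ker.index :=
      Subgroup.index_dvd_of_le hkerle
    rw [Subgroup.index_ker] at h1
    have h2 : Nat.card χ.range ∣ p := hZ₁p ▸ Subgroup.card_subgroup_dvd_card χ.range
    have h3 := dvd_trans h1 h2
    rcases (Nat.dvd_prime hpp).mp h3 with h4 | h4
    · exfalso
      rw [Subgroup.index_eq_one] at h4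
      apply hnotle
      rw [h4]
      exact le_top
    · exact h4

end Cfsg.Agent.S1453
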