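import Cfsg.Statements.S1457
import Mathlib
import Cfsg.Agent.S1465
import Cfsg.Agent.S1958

set_option autoImplicit false
open Cfsg

namespace Cfsg.Agent.S1457

/-- Let G be a solvable group of odd order, p a prime, S a Sylow p-subgroup of G and A an abelian subgroup of S normal in S. Then A ≤ O_{p',p}(G). -/
theorem result {G : Type*} [Group G] [Finite G] [Group.IsSolvable G] (hodd : Odd (Nat.card G)) (p : ℕ) [Fact p.Prime] (S : Sylow p G) (A : Subgroup G) (hA : A ≤ (S : Subgroup G)) (hAc : IsMulCommutative A)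
    (hAn : (S : Subgroup G) ≤ Subgroup.normalizer (A : Set G)) :
    A ≤ Cfsg.pPrimePCore p G := by
  classical
  have hpp : p.Prime := Fact.out
  by_cases hp2 : p = 2
  · intro a ha
    have haS := hA ha
    obtain ⟨k, hk⟩ := S.isPGroup' ⟨a, haS⟩
    have hk' : a ^ (p ^ k) = 1 := by simpa using congrArg Subtype.val hk
    have h1 : orderOf a ∣ p ^ k := orderOf_dvd_of_pow_eq_one hk'
    have h2 : orderOf a ∣ Nat.card G := orderOf_dvd_natCard a
    have h3 : Nat.Coprime (p ^ k) (Nat.card G) := by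
      rw [hp2]; exact Nat.Coprime.pow_left k (Nat.coprime_two_left.2 hodd)
    have h4 : orderOf a = 1 := Nat.eq_one_of_dvd_coprimes h3 h1 h2
    rw [orderOf_eq_one_iff] at h4
    rw [h4]; exact Subgroup.one_mem _
  · have hπs : Function.Surjective (QuotientGroup.mk' (Cfsg.pPrimeCore p G)) :=
      QuotientGroup.mk'_surjective _
    have hoddQ : Odd (Nat.card (G ⧸ Cfsg.pPrimeCore p G)) :=
      hodd.of_dvd_nat (Subgroup.card_quotient_dvd_card _)
    haveI : (Cfsg.pCore p (G ⧸ Cfsg.pPrimeCore p G)).Normal :=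
      Cfsg.Agent.Lib.Helper4_PCore.pCore_normal p _
    have hS : ∀ B ∈ ({A.map (QuotientGroup.mk' (Cfsg.pPrimeCore p G))} :
        Set (Subgroup (G ⧸ Cfsg.pPrimeCore p G))),
        IsMulCommutative B ∧ IsPGroup p B ∧
          Cfsg.pCore p (G ⧸ Cfsg.pPrimeCore p G) ≤ Subgroup.normalizer (B : Set _) := by
      intro B hB
      rw [Set.mem_singleton_iff] at hB
      subst hB
      refine ⟨inferInstance, (S.isPGroup'.to_le hA).map _, ?_⟩
      have h1 : Cfsg.pCore p (G ⧸ Cfsg.pPrimeCore p G) ≤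
          (S : Subgroup G).map (QuotientGroup.mk' (Cfsg.pPrimeCore p G)) := by
        rw [← Sylow.coe_mapSurjective hπs S]
        exact Cfsg.Agent.Lib.Helper4_PCore.pCore_le_sylow _
      refine h1.trans ((Subgroup.map_mono hAn).trans ?_)
      exact Subgroup.le_normalizer_map _
    have key := Cfsg.Agent.S1465.result (G := G ⧸ Cfsg.pPrimeCore p G) hoddQ p hp2
      (Cfsg.pCore p (G ⧸ Cfsg.pPrimeCore p G)) Cfsg.Agent.Lib.Helper4_PCore.pCore_isPGroup _ hS
    have h2 := key.2 (Cfsg.Agent.S1958.pPrimeCore_quotient p G) inf_le_left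
    rw [sSup_singleton] at h2
    intro a ha
    show QuotientGroup.mk' (Cfsg.pPrimeCore p G) a ∈ Cfsg.pCore p (G ⧸ Cfsg.pPrimeCore p G)
    exact h2 ⟨a, ha, rfl⟩

end Cfsg.Agent.S1457
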