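import Cfsg.Statements.S1459
import Cfsg.Agent.Lib.Lead_Coprime
import Cfsg.Agent.Lib.Helper5_PPrime
import Cfsg.Agent.Lib.Helper3_CoreComp2

set_option autoImplicit false
open Cfsg

namespace Cfsg.Agent.S1459

open scoped Pointwise commutatorElement

/-- A perfect subgroup of a solvable group is trivial. -/
theorem eq_bot_of_commutator_eq {Q : Type*} [Group Q] [Group.IsSolvable Q] (L : Subgroup Q)
    (h : ⁅L, L⁆ = L) : L = ⊥ := by
  obtain ⟨n, hn⟩ := Group.IsSolvable.solvable (G := Q)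
  have key : ∀ k, L ≤ derivedSeries Q k := by
    intro k
    induction k with
    | zero => simp
    | succ k ih =>
      rw [derivedSeries_succ]
      calc L = ⁅L, L⁆ := h.symm
        _ ≤ _ := Subgroup.commutator_mono ih ih
  exact le_bot_iff.mp (hn ▸ key n)

theorem commutatorElement_central_mul {Q : Type*} [Group Q] {z₁ z₂ : Q}
    (h₁ : z₁ ∈ Subgroup.center Q) (h₂ : z₂ ∈ Subgroup.center Q) (a b : Q) :
    ⁅z₁ * a, z₂ * b⁆ = ⁅a, b⁆ := by
  have c1 := Subgroup.mem_center_iff.mp h₁
  have c2 := Subgroup.mem_center_iff.mp h₂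
  have c1' : ∀ g, g * z₁⁻¹ = z₁⁻¹ * g := fun g => by
    have := c1 g
    calc g * z₁⁻¹ = z₁⁻¹ * (z₁ * g) * z₁⁻¹ := by group
      _ = z₁⁻¹ * (g * z₁) * z₁⁻¹ := by rw [this]
      _ = z₁⁻¹ * g := by group
  have c2' : ∀ g, g * z₂⁻¹ = z₂⁻¹ * g := fun g => by
    have := c2 g
    calc g * z₂⁻¹ = z₂⁻¹ * (z₂ * g) * z₂⁻¹ := by group
      _ = z₂⁻¹ * (g * z₂) * z₂⁻¹ := by rw [this]
      _ = z₂⁻¹ * g := by group
  simp only [commutatorElement_def, mul_inv_rev]
  calc z₁ * a * (z₂ * b) * (a⁻¹ * z₁⁻¹) * (b⁻¹ * z₂⁻¹)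
      = z₁ * a * (z₂ * b) * (a⁻¹ * (z₁⁻¹ * b⁻¹)) * z₂⁻¹ := by group
    _ = z₁ * a * (z₂ * b) * (a⁻¹ * (b⁻¹ * z₁⁻¹)) * z₂⁻¹ := by rw [c1' b⁻¹]
    _ = z₁ * (a * z₂) * b * a⁻¹ * b⁻¹ * z₁⁻¹ * z₂⁻¹ := by group
    _ = z₁ * (z₂ * a) * b * a⁻¹ * b⁻¹ * z₁⁻¹ * z₂⁻¹ := by rw [c2 a]
    _ = z₁ * (z₂ * (a * b * a⁻¹ * b⁻¹)) * z₁⁻¹ * z₂⁻¹ := by group
    _ = z₁ * ((a * b * a⁻¹ * b⁻¹) * z₂) * z₁⁻¹ * z₂⁻¹ := by rw [c2 (a * b * a⁻¹ * b⁻¹)]
    _ = z₁ * ((a * b * a⁻¹ * b⁻¹) * (z₂ * z₁⁻¹)) * z₂⁻¹ := by group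
    _ = z₁ * ((a * b * a⁻¹ * b⁻¹) * (z₁⁻¹ * z₂)) * z₂⁻¹ := by rw [c1' z₂]
    _ = z₁ * ((a * b * a⁻¹ * b⁻¹) * z₁⁻¹) := by group
    _ = z₁ * (z₁⁻¹ * (a * b * a⁻¹ * b⁻¹)) := by rw [c1' (a * b * a⁻¹ * b⁻¹)]
    _ = a * b * a⁻¹ * b⁻¹ := by group

theorem commutator_le_of_central {Q : Type*} [Group Q] (Hb Kb : Subgroup Q)
    (hc : Hb ≤ Subgroup.center Q) (hgen : ∀ x : Q, ∃ h ∈ Hb, ∃ k ∈ Kb, x = h * k) :
    commutator Q ≤ Kb := by
  rw [commutator_def, Subgroup.commutator_le]
  intro x _ y _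
  obtain ⟨h1, hh1, k1, hk1, rfl⟩ := hgen x
  obtain ⟨h2, hh2, k2, hk2, rfl⟩ := hgen y
  rw [commutatorElement_central_mul (hc hh1) (hc hh2), commutatorElement_def]
  exact Kb.mul_mem (Kb.mul_mem (Kb.mul_mem hk1 hk2) (Kb.inv_mem hk1)) (Kb.inv_mem hk2)

open Cfsg.Agent.Lib in
theorem part1 {G : Type*} [Group G] [Finite G] [Group.IsSolvable G] (H K : Subgroup G)
    (hHn : H.Normal) (hcop : (Nat.card H).Coprime H.index) (hK : Subgroup.IsComplement' H K)
    (hHG : H ≤ commutator G) :
    H = ⁅H, K⁆ ∧ H ⊓ Subgroup.centralizer (K : Set G) ≤ ⁅H, H⁆ := by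
  have hKcard : Nat.card K = H.index := hK.symm.index_eq_card.symm
  have hgen : ∀ g : G, ∃ h ∈ H, ∃ k ∈ K, g = h * k := by
    intro g
    obtain ⟨⟨⟨h, hh⟩, ⟨k, hk⟩⟩, hx, -⟩ := (Subgroup.isComplement'_def.mp hK).existsUnique g
    exact ⟨h, hh, k, hk, hx.symm⟩
  have hNle : ⁅H, K⁆ ≤ H := Subgroup.commutator_le_left H K
  have hDle : ⁅H, H⁆ ≤ H := Subgroup.commutator_le_left H H
  have hNn : (⁅H, K⁆).Normal := by
    rw [← Subgroup.normalizer_eq_top_iff, eq_top_iff]
    intro g _
    obtain ⟨h, hh, k, hk, rfl⟩ := hgen g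
    exact Subgroup.mul_mem _ (Lead_Coprime.le_normalizer_commutator_left H K hh)
      (Lead_Coprime.le_normalizer_commutator_right H K hk)
  have hDn : (⁅H, H⁆).Normal := inferInstance
  -- Step 1
  have hHM : H ≤ ⁅H, H⁆ ⊔ ⁅H, K⁆ := by
    set M := ⁅H, H⁆ ⊔ ⁅H, K⁆ with hM
    have hMn : M.Normal := inferInstance
    let π := QuotientGroup.mk' M
    have hπ : Function.Surjective π := QuotientGroup.mk'_surjective M
    have comm : ∀ a b, ⁅a, b⁆ ∈ M → Commute (π a) (π b) := fun a b hab =>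
      commutatorElement_eq_one_iff_commute.mp (by
        rw [← map_commutatorElement]; exact (QuotientGroup.eq_one_iff _).mpr hab)
    have hc : H.map π ≤ Subgroup.center (G ⧸ M) := by
      rintro _ ⟨h, hh, rfl⟩
      rw [Subgroup.mem_center_iff]
      intro y
      obtain ⟨g, rfl⟩ := hπ y
      obtain ⟨h', hh', k, hk, rfl⟩ := hgen g
      have c1 : Commute (π h) (π h') :=
        comm h h' (Subgroup.mem_sup_left (Subgroup.commutator_mem_commutator hh hh'))
      have c2 : Commute (π h) (π k) :=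
        comm h k (Subgroup.mem_sup_right (Subgroup.commutator_mem_commutator hh hk))
      rw [map_mul]
      exact (c1.mul_right c2).eq.symm
    have hgen' : ∀ x : G ⧸ M, ∃ h ∈ H.map π, ∃ k ∈ K.map π, x = h * k := by
      intro x
      obtain ⟨g, rfl⟩ := hπ x
      obtain ⟨h, hh, k, hk, rfl⟩ := hgen g
      exact ⟨π h, Subgroup.mem_map_of_mem _ hh, π k, Subgroup.mem_map_of_mem _ hk, map_mul _ _ _⟩
    have h2 : commutator (G ⧸ M) ≤ K.map π := commutator_le_of_central _ _ hc hgen'
    have h3 : H.map π ≤ commutator (G ⧸ M) := by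
      refine (Subgroup.map_mono hHG).trans ?_
      rw [commutator_def, Subgroup.map_commutator, commutator_def]
      exact Subgroup.commutator_mono le_top le_top
    have h4 : Disjoint (H.map π) (K.map π) := by
      apply Subgroup.disjoint_of_coprime_natCard
      refine Nat.Coprime.coprime_dvd_left (Subgroup.card_map_dvd _ _) ?_
      refine Nat.Coprime.coprime_dvd_right (Subgroup.card_map_dvd _ _) ?_
      rw [hKcard]; exact hcop
    have h5 : H.map π = ⊥ := by
      rw [eq_bot_iff]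
      intro x hx
      exact (h4.le_bot : H.map π ⊓ K.map π ≤ ⊥) ⟨hx, h2 (h3 hx)⟩
    have h6 := (Subgroup.map_eq_bot_iff _).mp h5
    rwa [QuotientGroup.ker_mk'] at h6
  have hHM' : H = ⁅H, H⁆ ⊔ ⁅H, K⁆ := le_antisymm hHM (sup_le hDle hNle)
  -- Step 2
  have hHN : H = ⁅H, K⁆ := by
    refine le_antisymm ?_ hNle
    let π := QuotientGroup.mk' ⁅H, K⁆
    have h1 : ⁅H.map π, H.map π⁆ = H.map π := by
      have e : H.map π = (⁅H, H⁆ ⊔ ⁅H, K⁆).map π := congrArg (fun X => Subgroup.map π X) hHM'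
      have e2 : (⁅H, H⁆ ⊔ ⁅H, K⁆).map π = ⁅H.map π, H.map π⁆ := by
        rw [Subgroup.map_sup, QuotientGroup.map_mk'_self, sup_bot_eq, Subgroup.map_commutator]
      exact (e.trans e2).symm
    have h2 := eq_bot_of_commutator_eq _ h1
    have h3 := (Subgroup.map_eq_bot_iff _).mp h2
    rwa [QuotientGroup.ker_mk'] at h3
  refine ⟨hHN, ?_⟩
  -- Part b
  intro c hc
  obtain ⟨hcH, hcK⟩ := Subgroup.mem_inf.mp hc
  let π := QuotientGroup.mk' ⁅H, H⁆
  have hπ : Function.Surjective π := QuotientGroup.mk'_surjective _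
  set V := H.map π with hV
  set A := K.map π with hA
  have hVV : ⁅V, V⁆ = ⊥ := by
    rw [hV, ← Subgroup.map_commutator, QuotientGroup.map_mk'_self]
  haveI : IsMulCommutative V := by
    rw [← Subgroup.le_centralizer_iff_isMulCommutative, ← Subgroup.commutator_eq_bot_iff_le_centralizer]
    exact hVV
  haveI : V.Normal := Subgroup.Normal.map hHn π hπ
  have hAV : A ≤ Subgroup.normalizer (V : Set (G ⧸ ⁅H, H⁆)) := by
    rw [Subgroup.normalizer_eq_top_iff.mpr inferInstance]; exact le_top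
  have hcop' : (Nat.card A).Coprime (Nat.card V) := by
    refine Nat.Coprime.coprime_dvd_left (Subgroup.card_map_dvd _ _) ?_
    refine Nat.Coprime.coprime_dvd_right (Subgroup.card_map_dvd _ _) ?_
    rw [hKcard]; exact hcop.symm
  have key := Lead_Coprime.abelian_inf_eq_bot A V hAV hcop'
  have h1 : π c ∈ V := Subgroup.mem_map_of_mem _ hcH
  have h2 : π c ∈ Subgroup.centralizer (A : Set (G ⧸ ⁅H, H⁆)) := by
    rw [Subgroup.mem_centralizer_iff]
    rintro _ ⟨k, hk, rfl⟩
    rw [← map_mul, ← map_mul, Subgroup.mem_centralizer_iff.mp hcK k hk]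
  have h3 : π c ∈ ⁅V, A⁆ := by
    rw [hV, hA, ← Subgroup.map_commutator, ← hHN]; exact h1
  have h4 : π c ∈ (⊥ : Subgroup (G ⧸ ⁅H, H⁆)) := by
    rw [← key]; exact ⟨⟨h1, h2⟩, h3⟩
  exact (QuotientGroup.eq_one_iff _).mp (Subgroup.mem_bot.mp h4)

theorem commutator_eq_bot_of_index_prime {P : Type*} [Group P] [Finite P] [Group.IsNilpotent P]
    (h : (commutator P).index.Prime) : commutator P = ⊥ := by
  set C : Subgroup P := ⁅commutator P, ⊤⁆ with hC
  have hCn : C.Normal := inferInstance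
  have hCle : C ≤ commutator P := Subgroup.commutator_le_left _ _
  haveI : Fact (commutator P).index.Prime := ⟨h⟩
  have hcard : Nat.card (P ⧸ commutator P) = (commutator P).index := rfl
  haveI : IsCyclic (P ⧸ commutator P) := isCyclic_of_prime_card hcard
  obtain ⟨gbar, hg⟩ := IsCyclic.exists_generator (α := P ⧸ commutator P)
  obtain ⟨g, rfl⟩ := QuotientGroup.mk_surjective gbar
  have hdecomp : ∀ x : P, ∃ n : ℤ, ∃ d ∈ commutator P, x = g ^ n * d := by
    intro x
    obtain ⟨n, hn⟩ := Subgroup.mem_zpowers_iff.mp (hg (x : P ⧸ commutator P))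
    refine ⟨n, g ^ (-n) * x, ?_, by group⟩
    rw [← QuotientGroup.eq_one_iff]
    rw [QuotientGroup.mk_mul, QuotientGroup.mk_zpow, ← hn, ← zpow_add]
    simp
  let π := QuotientGroup.mk' C
  have hπ : Function.Surjective π := QuotientGroup.mk'_surjective C
  have comm : ∀ a b, ⁅a, b⁆ ∈ C → Commute (π a) (π b) := fun a b hab =>
    commutatorElement_eq_one_iff_commute.mp (by
      rw [← map_commutatorElement]; exact (QuotientGroup.eq_one_iff _).mpr hab)
  have hcomm : ∀ x y : P, Commute (π x) (π y) := by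
    intro x y
    obtain ⟨n, d, hd, rfl⟩ := hdecomp x
    obtain ⟨m, e, he, rfl⟩ := hdecomp y
    have cd : ∀ z, Commute (π d) (π z) := fun z =>
      comm d z (Subgroup.commutator_mem_commutator hd (Subgroup.mem_top z))
    have ce : ∀ z, Commute (π e) (π z) := fun z =>
      comm e z (Subgroup.commutator_mem_commutator he (Subgroup.mem_top z))
    have cg : Commute (π (g ^ n)) (π (g ^ m)) := by
      rw [map_zpow, map_zpow]; exact (Commute.refl (π g)).zpow_zpow n m
    rw [map_mul, map_mul]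
    exact Commute.mul_left (Commute.mul_right cg (ce _).symm) (Commute.mul_right (cd _) (cd _))
  have hle : commutator P ≤ C := by
    rw [commutator_def, Subgroup.commutator_le]
    intro x _ y _
    rw [← QuotientGroup.eq_one_iff]
    have := commutatorElement_eq_one_iff_commute.mpr (hcomm x y)
    rwa [← map_commutatorElement] at this
  have hEq : ⁅commutator P, (⊤ : Subgroup P)⁆ = commutator P := le_antisymm hCle hle
  obtain ⟨n, hn⟩ := Subgroup.nilpotent_iff_lowerCentralSeries.mp (inferInstance : Group.IsNilpotent P)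
  have key : ∀ k, (⊤ : Subgroup P).lowerCentralSeries (k + 1) = commutator P := by
    intro k
    induction k with
    | zero => rfl
    | succ k ih => rw [Subgroup.lowerCentralSeries_succ, ih, hEq]
  cases n with
  | zero =>
    rw [Subgroup.lowerCentralSeries_zero] at hn
    exact le_bot_iff.mp (hn ▸ le_top)
  | succ k => rw [← key k, hn]

open Cfsg.Agent.Lib in
theorem part2a {G : Type*} [Group G] [Finite G] (hnil : Group.IsNilpotent ↥(commutator G))
    (hq : (commutator G).index.Prime) :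
    (Nat.card ↥(commutator G)).Coprime (commutator G).index := by
  set q := (commutator G).index with hqdef
  haveI : Fact q.Prime := ⟨hq⟩
  by_contra hncop
  have hqdvd : q ∣ Nat.card (commutator G) := by
    by_contra hnd
    exact hncop ((Nat.Prime.coprime_iff_not_dvd hq).mpr hnd).symm
  set T₀ := Cfsg.pPrimeCore q (commutator G) with hT₀
  haveI hT₀n : T₀.Normal := Helper5_PPrime.pPrimeCore_normal q _
  have hT₀c : (Nat.card T₀).Coprime q := Helper5_PPrime.pPrimeCore_coprime q _
  haveI : T₀.Characteristic := Helper3_CoreComp2.pPrimeCore_characteristic q _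
  set T := T₀.map (commutator G).subtype with hT
  haveI hTn : T.Normal := inferInstance
  have hTle : T ≤ commutator G := Subgroup.map_subtype_le _
  have hTcard : Nat.card T = Nat.card T₀ :=
    Subgroup.card_map_of_injective (Subgroup.subtype_injective _)
  -- index of T₀ is a power of q
  have hidx : ∀ p : ℕ, p.Prime → p ∣ T₀.index → p = q := by
    intro p hp hpd
    by_contra hne
    haveI : Fact p.Prime := ⟨hp⟩
    obtain ⟨S⟩ : Nonempty (Sylow p (commutator G)) := inferInstance
    haveI : (S : Subgroup (commutator G)).Normal := inferInstance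
    have hScop : (Nat.card (S : Subgroup (commutator G))).Coprime q := by
      obtain ⟨n, hn⟩ := (IsPGroup.iff_card.mp S.isPGroup')
      rw [hn]
      exact Nat.Coprime.pow_left _ ((Nat.coprime_primes hp hq).mpr hne)
    have hSle : (S : Subgroup (commutator G)) ≤ T₀ := Helper5_PPrime.le_pPrimeCore _ hScop
    have h1 : T₀.index ∣ (S : Subgroup (commutator G)).index := Subgroup.index_dvd_of_le hSle
    exact S.not_dvd_index (hpd.trans h1)
  have hpow : ∃ a, T₀.index = q ^ a :=
    ⟨_, Nat.eq_prime_pow_of_unique_prime_dvd (Subgroup.index_ne_zero_of_finite) (fun {d} hd hdd => hidx d hd hdd)⟩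
  obtain ⟨a, ha⟩ := hpow
  have hcardP : Nat.card (G ⧸ T) = q ^ (a + 1) := by
    show T.index = _
    have : T.index = T₀.index * (commutator G).index := by
      rw [hT, Subgroup.index_map_subtype]
    rw [this, ha, ← hqdef, pow_succ]
  have hPG : IsPGroup q (G ⧸ T) := IsPGroup.of_card hcardP
  haveI : Group.IsNilpotent (G ⧸ T) := hPG.isNilpotent
  let π := QuotientGroup.mk' T
  have hπ : Function.Surjective π := QuotientGroup.mk'_surjective T
  have hcm : commutator (G ⧸ T) = (commutator G).map π := by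
    rw [commutator_def, commutator_def, Subgroup.map_commutator, Subgroup.map_top_of_surjective π hπ]
  have hidx2 : (commutator (G ⧸ T)).index = q := by
    rw [hcm, Subgroup.index_map_eq _ hπ (by rw [QuotientGroup.ker_mk']; exact hTle)]
  have hbot := commutator_eq_bot_of_index_prime (P := G ⧸ T) (by rw [hidx2]; exact hq)
  rw [hcm] at hbot
  have hle : commutator G ≤ T := by
    have := (Subgroup.map_eq_bot_iff _).mp hbot
    rwa [QuotientGroup.ker_mk'] at this
  have hEq : commutator G = T := le_antisymm hle hTle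
  have hcardEq : Nat.card (commutator G) = Nat.card T₀ := by
    rw [← hTcard]; exact congrArg (fun X : Subgroup G => Nat.card X) hEq
  rw [hcardEq] at hqdvd
  exact (Nat.Prime.coprime_iff_not_dvd hq).mp hT₀c.symm hqdvd

/-- Let G be a finite solvable group. (a) If H is a normal subgroup of order coprime to its index, K is a complement to H, and H ≤ G', then H = [H, K] and H ∩ C_G(K) ≤ [H, H]. (b) If G' is nilpotent and has prime index in G, then the order of G' is coprime to its index and G' = [G, K] (the subgroup generated by commutators of elements of G with elements of K) for every complement K of G'. -/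
theorem result {G : Type*} [Group G] [Finite G] [Group.IsSolvable G] :
    (∀ (H K : Subgroup G), H.Normal → (Nat.card H).Coprime H.index → Subgroup.IsComplement' H K → H ≤ commutator G →
        H = ⁅H, K⁆ ∧ H ⊓ Subgroup.centralizer (K : Set G) ≤ ⁅H, H⁆) ∧
      (Group.IsNilpotent ↥(commutator G) → (commutator G).index.Prime →
        (Nat.card ↥(commutator G)).Coprime (commutator G).index ∧
        ∀ K : Subgroup G, Subgroup.IsComplement' (commutator G) K → commutator G = ⁅(⊤ : Subgroup G), K⁆) := by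
  refine ⟨fun H K hHn hcop hK hHG => part1 H K hHn hcop hK hHG, ?_⟩
  intro hnil hq
  have hcop := part2a hnil hq
  refine ⟨hcop, ?_⟩
  intro K hK
  have h1 := (part1 (commutator G) K inferInstance hcop hK le_rfl).1
  apply le_antisymm
  · calc commutator G = ⁅commutator G, K⁆ := h1
      _ ≤ ⁅(⊤ : Subgroup G), K⁆ := Subgroup.commutator_mono le_top le_rfl
  · rw [commutator_def]
    exact Subgroup.commutator_mono le_rfl le_top

end Cfsg.Agent.S1459
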