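import Cfsg.Statements.S1460
import Mathlib
import Cfsg.Agent.Lib.Lead_Coprime
import Cfsg.Agent.Lib.Helper6_PConstrained

set_option autoImplicit false
open Cfsg

namespace Cfsg.Agent.S1460

open scoped Pointwise commutatorElement
open Cfsg.Agent.Lib.Lead_SZ

/-- the factorization: `g = u * c` -/
theorem factor {G : Type*} [Group G] [Finite G] [Group.IsSolvable G] (K U H : Subgroup G)
    [hKn : K.Normal] (hKU : K ⊔ U = ⊤) (hH : H ≤ U) (hcop : (Nat.card H).Coprime (Nat.card K))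
    (g : G) (hg : H.map (MulAut.conj g).toMonoidHom ≤ U) :
    ∃ u ∈ U, ∃ c ∈ K ⊓ Subgroup.centralizer (H : Set G), g = u * c := by
  classical
  -- `g = u * k`
  have hgtop : g ∈ K ⊔ U := by rw [hKU]; trivial
  rw [sup_comm, Subgroup.mem_sup_of_normal_right] at hgtop
  obtain ⟨u, hu, k, hk, rfl⟩ := hgtop
  -- `k H k⁻¹ ≤ U`
  have hkH : ∀ h ∈ H, k * h * k⁻¹ ∈ U := by
    intro h hh
    have h1 : (MulAut.conj (u * k)) h ∈ U := hg ⟨h, hh, rfl⟩
    have h2 : u⁻¹ * (MulAut.conj (u * k)) h * u ∈ U := U.mul_mem (U.mul_mem (U.inv_mem hu) h1) hu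
    have h3 : u⁻¹ * (MulAut.conj (u * k)) h * u = k * h * k⁻¹ := by
      rw [MulAut.conj_apply]; group
    rwa [h3] at h2
  set D : Subgroup G := K ⊓ U with hD
  have hHD : H ≤ Subgroup.normalizer (D : Set G) := by
    intro h hh
    apply Cfsg.Agent.Lib.Lead_Coprime.mem_normalizer_of_conj_mem
    · intro d hd
      exact ⟨hKn.conj_mem d hd.1 h, U.mul_mem (U.mul_mem (hH hh) hd.2) (U.inv_mem (hH hh))⟩
    · intro d hd
      refine ⟨?_, U.mul_mem (U.mul_mem (U.inv_mem (hH hh)) hd.2) (hH hh)⟩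
      have := hKn.conj_mem d hd.1 h⁻¹
      rwa [inv_inv] at this
  have hcopD : (Nat.card H).Coprime (Nat.card D) :=
    Nat.Coprime.coprime_dvd_right (Subgroup.card_dvd_of_le inf_le_left) hcop
  have hle : MulAut.conj k • H ≤ D ⊔ H := by
    intro x hx
    rw [mem_conj_smul] at hx
    -- `x = k y k⁻¹` with `y = k⁻¹ x k ∈ H`
    set y := k⁻¹ * x * k with hy
    have hxy : x = (k * y * k⁻¹ * y⁻¹) * y := by rw [hy]; group
    rw [hxy]
    apply Subgroup.mul_mem _ _ ((le_sup_right : H ≤ D ⊔ H) hx)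
    apply (le_sup_left : D ≤ D ⊔ H)
    constructor
    · have h1 : k * y * k⁻¹ * y⁻¹ = k * (y * k⁻¹ * y⁻¹) := by group
      rw [h1]
      exact K.mul_mem hk (hKn.conj_mem _ (K.inv_mem hk) y)
    · exact U.mul_mem (hkH y hx) (U.inv_mem (hH hx))
  have hsolv : Group.IsSolvable H ∨ Group.IsSolvable D := Or.inl inferInstance
  obtain ⟨d, hd, hdk⟩ := Cfsg.Agent.Lib.Lead_Coprime.exists_conj_of_le_sup D H _ hHD hcopD hsolv hle
    (card_conj_smul k H)
  -- `c = d⁻¹ k` normalizes `H` and lies in `K`, hence centralizes `H`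
  have hcN : MulAut.conj (d⁻¹ * k) • H = H := by
    rw [← conj_smul_smul, ← hdk, conj_smul_smul, inv_mul_cancel, map_one, one_smul]
  have hcK : d⁻¹ * k ∈ K := K.mul_mem (K.inv_mem hd.1) hk
  have hbot : H ⊓ K = ⊥ := (Subgroup.disjoint_of_coprime_natCard hcop).eq_bot
  have hcC : d⁻¹ * k ∈ Subgroup.centralizer (H : Set G) := by
    rw [Subgroup.mem_centralizer_iff]
    intro h hh
    set c := d⁻¹ * k with hc
    have h1 : c * h * c⁻¹ ∈ H := by
      have : c * h * c⁻¹ ∈ MulAut.conj c • H := by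
        rw [mem_conj_smul]
        have : c⁻¹ * (c * h * c⁻¹) * c = h := by group
        rw [this]; exact hh
      rwa [hcN] at this
    have h2 : c * h * c⁻¹ * h⁻¹ ∈ H ⊓ K := by
      refine ⟨H.mul_mem h1 (H.inv_mem hh), ?_⟩
      have h3 : c * h * c⁻¹ * h⁻¹ = c * (h * c⁻¹ * h⁻¹) := by group
      rw [h3]
      exact K.mul_mem hcK (hKn.conj_mem _ (K.inv_mem hcK) h)
    rw [hbot, Subgroup.mem_bot] at h2
    have h4 : c * h = (c * h * c⁻¹ * h⁻¹) * (h * c) := by group
    rw [h4, h2, one_mul]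
  exact ⟨u * d, U.mul_mem hu hd.2, d⁻¹ * k, ⟨hcK, hcC⟩, by group⟩

/-- Let G be a finite solvable group, K a normal subgroup and U a subgroup with G = KU, and H ≤ U a subgroup whose order is coprime to that of K. Then H ∩ G' = H ∩ U'; N_G(H) is generated by K ∩ C_G(H) and U ∩ N_G(H); and if gHg⁻¹ ≤ U for some g ∈ G then g = u c with u ∈ U and c ∈ K ∩ C_G(H). -/
theorem result {G : Type*} [Group G] [Finite G] [Group.IsSolvable G] (K U H : Subgroup G) [K.Normal] (hKU : K ⊔ U = ⊤) (hH : H ≤ U) (hcop : (Nat.card H).Coprime (Nat.card K)) :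
    H ⊓ commutator G = H ⊓ ⁅U, U⁆ ∧
      Subgroup.normalizer (H : Set G) = (K ⊓ Subgroup.centralizer (H : Set G)) ⊔ (U ⊓ Subgroup.normalizer (H : Set G)) ∧
      ∀ g : G, H.map (MulAut.conj g).toMonoidHom ≤ U → ∃ u ∈ U, ∃ c ∈ K ⊓ Subgroup.centralizer (H : Set G), g = u * c := by
  classical
  have hKn : K.Normal := inferInstance
  refine ⟨?_, ?_, fun g hg => factor K U H hKU hH hcop g hg⟩
  · -- focal part
    apply le_antisymm
    · rintro h ⟨hhH, hhG⟩
      refine ⟨hhH, ?_⟩
      set π := QuotientGroup.mk' K with hπ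
      have hπker : ∀ g : G, π g = 1 ↔ g ∈ K := by
        intro g
        rw [← MonoidHom.mem_ker, hπ, QuotientGroup.ker_mk']
      have hdecomp : ∀ g : G, ∃ k ∈ K, ∃ u ∈ U, g = k * u := by
        intro g
        have hgtop : g ∈ K ⊔ U := by rw [hKU]; trivial
        rw [Subgroup.mem_sup_of_normal_left] at hgtop
        obtain ⟨k, hk, u, hu, rfl⟩ := hgtop
        exact ⟨k, hk, u, hu, rfl⟩
      have hcomm : commutator G ≤ (⁅U, U⁆.map π).comap π := by
        rw [commutator_def, Subgroup.commutator_le]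
        intro g₁ _ g₂ _
        obtain ⟨d₁, hd₁, n₁, hn₁, rfl⟩ := hdecomp g₁
        obtain ⟨d₂, hd₂, n₂, hn₂, rfl⟩ := hdecomp g₂
        rw [Subgroup.mem_comap, map_commutatorElement, map_mul, map_mul, (hπker d₁).mpr hd₁,
          (hπker d₂).mpr hd₂, one_mul, one_mul, ← map_commutatorElement]
        exact Subgroup.mem_map_of_mem _ (Subgroup.commutator_mem_commutator hn₁ hn₂)
      have h1 := hcomm hhG
      rw [Subgroup.mem_comap] at h1
      obtain ⟨n', hn', hn's⟩ := h1
      have hkK : n'⁻¹ * h ∈ K := by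
        rw [← hπker, map_mul, map_inv, hn's]; group
      have hUU : ⁅U, U⁆ ≤ U := Subgroup.commutator_le_self U
      have hhU : h ∈ U := hH hhH
      have hkU : n'⁻¹ * h ∈ U := U.mul_mem (U.inv_mem (hUU hn')) hhU
      let φ : ↥U →* Abelianization ↥U := Abelianization.of
      have hφker : ∀ m : ↥U, φ m = 1 ↔ (m : G) ∈ ⁅U, U⁆ := by
        intro m
        rw [← MonoidHom.mem_ker, Abelianization.ker_of, ← Subgroup.map_subtype_commutator]
        constructor
        · intro h; exact ⟨m, h, rfl⟩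
        · rintro ⟨m', hm', hmm⟩
          have : m' = m := Subtype.ext hmm
          rwa [← this]
      have hs1 : φ ⟨h, hhU⟩ = φ ⟨n'⁻¹ * h, hkU⟩ := by
        have h2 : (⟨h, hhU⟩ : ↥U) = ⟨n', hUU hn'⟩ * ⟨n'⁻¹ * h, hkU⟩ := by
          apply Subtype.ext
          show h = n' * (n'⁻¹ * h)
          group
        rw [h2, map_mul, (hφker _).mpr hn', one_mul]
      -- orders
      have ho1 : orderOf (φ ⟨h, hhU⟩) ∣ Nat.card H := by
        have h5 : orderOf (φ ⟨h, hhU⟩) ∣ orderOf (⟨h, hhU⟩ : ↥U) := orderOf_map_dvd φ _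
        have h6 : orderOf (⟨h, hhU⟩ : ↥U) = orderOf h := Subgroup.orderOf_mk _ _
        have h7 : orderOf h ∣ Nat.card H := by
          have := orderOf_dvd_natCard (⟨h, hhH⟩ : H)
          rwa [Subgroup.orderOf_mk] at this
        rw [h6] at h5
        exact h5.trans h7
      have ho2 : orderOf (φ ⟨h, hhU⟩) ∣ Nat.card K := by
        rw [hs1]
        have h5 : orderOf (φ ⟨n'⁻¹ * h, hkU⟩) ∣ orderOf (⟨n'⁻¹ * h, hkU⟩ : ↥U) :=
          orderOf_map_dvd φ _
        have h6 : orderOf (⟨n'⁻¹ * h, hkU⟩ : ↥U) = orderOf (n'⁻¹ * h) := Subgroup.orderOf_mk _ _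
        have h7 : orderOf (n'⁻¹ * h) ∣ Nat.card K := by
          have := orderOf_dvd_natCard (⟨n'⁻¹ * h, hkK⟩ : K)
          rwa [Subgroup.orderOf_mk] at this
        rw [h6] at h5
        exact h5.trans h7
      have ho : orderOf (φ ⟨h, hhU⟩) = 1 := Nat.eq_one_of_dvd_coprimes hcop ho1 ho2
      exact (hφker _).mp (orderOf_eq_one_iff.mp ho)
    · apply inf_le_inf_left
      rw [commutator_def]
      exact Subgroup.commutator_mono le_top le_top
  · -- normalizer
    apply le_antisymm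
    · intro g hg
      have hgH : H.map (MulAut.conj g).toMonoidHom ≤ U := by
        rintro _ ⟨h, hh, rfl⟩
        exact hH ((Subgroup.mem_normalizer_iff.mp hg h).mp hh)
      obtain ⟨u, hu, c, hc, rfl⟩ := factor K U H hKU hH hcop g hgH
      have hcN : c ∈ Subgroup.normalizer (H : Set G) :=
        Subgroup.centralizer_le_normalizer _ hc.2
      have huN : u ∈ Subgroup.normalizer (H : Set G) := by
        have := Subgroup.mul_mem _ hg (Subgroup.inv_mem _ hcN)
        rwa [mul_inv_cancel_right] at this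
      exact Subgroup.mul_mem _ ((le_sup_right : U ⊓ Subgroup.normalizer (H : Set G) ≤ _) ⟨hu, huN⟩)
        ((le_sup_left : K ⊓ Subgroup.centralizer (H : Set G) ≤ _) hc)
    · apply sup_le
      · exact inf_le_right.trans (Subgroup.centralizer_le_normalizer _)
      · exact inf_le_right

end Cfsg.Agent.S1460
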