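import Cfsg.Statements.S1461
import Mathlib
import Cfsg.Agent.Lib.Helper6_PLengthOne

set_option autoImplicit false
open Cfsg

namespace Cfsg.Agent.S1461

open scoped Pointwise commutatorElement
open Cfsg.Agent.Lib.Lead_SZ

/-- the core facts: for `K` normal of order prime to `p` with `K S` normal, every conjugate of `S`
is a `K`-conjugate -/
theorem exists_conj {G : Type*} [Group G] [Finite G] {p : ℕ} [Fact p.Prime] (S : Sylow p G)
    (K : Subgroup G) (hKn : K.Normal) (hKcop : (Nat.card K).Coprime p)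
    (hKSn : (K ⊔ (S : Subgroup G)).Normal) (g : G) :
    ∃ d ∈ K, MulAut.conj d • (S : Subgroup G) = MulAut.conj g • (S : Subgroup G) := by
  have hScop : (Nat.card (S : Subgroup G)).Coprime (Nat.card K) := by
    obtain ⟨j, hj⟩ := IsPGroup.iff_card.mp S.isPGroup'
    rw [hj]; exact Nat.Coprime.pow_left j hKcop.symm
  have hKnorm : Subgroup.normalizer (K : Set G) = ⊤ := Subgroup.normalizer_eq_top _
  have hSsolv : Group.IsSolvable (S : Subgroup G) := by
    have : Group.IsNilpotent (S : Subgroup G) := S.isPGroup'.isNilpotent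
    infer_instance
  have hle : MulAut.conj g • (S : Subgroup G) ≤ K ⊔ (S : Subgroup G) := by
    intro x hx
    rw [mem_conj_smul] at hx
    have h1 : g⁻¹ * x * g ∈ K ⊔ (S : Subgroup G) := (le_sup_right : (S : Subgroup G) ≤ _) hx
    have h2 := hKSn.conj_mem _ h1 g
    have h3 : g * (g⁻¹ * x * g) * g⁻¹ = x := by group
    rwa [h3] at h2
  exact Cfsg.Agent.Lib.Lead_Coprime.exists_conj_of_le_sup K S _
    (by rw [hKnorm]; exact le_top) hScop (Or.inl hSsolv) hle (card_conj_smul g _)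

/-- commutators of `K` with elements `y` such that `y, c y c⁻¹ ∈ S` are trivial -/
theorem commute_of_conj_mem {G : Type*} [Group G] [Finite G] {p : ℕ} [Fact p.Prime] (S : Sylow p G)
    (K : Subgroup G) (hKn : K.Normal) (hKcop : (Nat.card K).Coprime p) (c y : G) (hc : c ∈ K)
    (hy : y ∈ (S : Subgroup G)) (hcy : c * y * c⁻¹ ∈ (S : Subgroup G)) : y * c = c * y := by
  have hbot : (S : Subgroup G) ⊓ K = ⊥ :=
    Cfsg.Agent.Lib.Helper5_PPrime.inf_eq_bot_of_pGroup_of_coprime S.isPGroup' hKcop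
  have h1 : c * y * c⁻¹ * y⁻¹ ∈ (S : Subgroup G) := Subgroup.mul_mem _ hcy (Subgroup.inv_mem _ hy)
  have h2 : c * y * c⁻¹ * y⁻¹ ∈ K := by
    have h3 : c * y * c⁻¹ * y⁻¹ = c * (y * c⁻¹ * y⁻¹) := by group
    rw [h3]
    exact K.mul_mem hc (hKn.conj_mem _ (K.inv_mem hc) y)
  have h4 : c * y * c⁻¹ * y⁻¹ ∈ (S : Subgroup G) ⊓ K := ⟨h1, h2⟩
  rw [hbot, Subgroup.mem_bot] at h4
  have h5 : c * y = (c * y * c⁻¹ * y⁻¹) * (y * c) := by group
  rw [h5, h4, one_mul]

/-- Let G be a finite solvable group, p a prime with G = O_{p',p,p'}(G), and S a Sylow p-subgroup. Then: if S ≤ G' then S ≤ [N_G(S), N_G(S)]; if Y ⊆ S and xYx⁻¹ ⊆ S then x = g c for some g ∈ N_G(S) and c centralizing Y; and for every p-subgroup Q there is x ∈ C_G(Q ∩ S) with xQx⁻¹ ≤ S. -/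
theorem result {G : Type*} [Group G] [Finite G] [Group.IsSolvable G] (p : ℕ) [Fact p.Prime] (hpl : Cfsg.PLengthLE p 1 G) (S : Sylow p G) :
    ((S : Subgroup G) ≤ commutator G → (S : Subgroup G) ≤ ⁅Subgroup.normalizer ((S : Subgroup G) : Set G), Subgroup.normalizer ((S : Subgroup G) : Set G)⁆) ∧
      (∀ (Y : Set G) (x : G), Y ⊆ (S : Subgroup G) → (fun y => x * y * x⁻¹) '' Y ⊆ (S : Subgroup G) →
        ∃ g ∈ Subgroup.normalizer ((S : Subgroup G) : Set G), ∃ c ∈ Subgroup.centralizer Y, g * c = x) ∧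
      ∀ Q : Subgroup G, IsPGroup p Q → ∃ x ∈ Subgroup.centralizer ((Q ⊓ (S : Subgroup G) : Subgroup G) : Set G), Q.map (MulAut.conj x).toMonoidHom ≤ (S : Subgroup G) := by
  classical
  have hpp := (Fact.out : p.Prime)
  obtain ⟨K, hKn, hKcop, hKSn, hKSidx⟩ :=
    Cfsg.Agent.Lib.Helper6_PLengthOne.structure_of_plength_one hpl S
  set N : Subgroup G := Subgroup.normalizer ((S : Subgroup G) : Set G) with hN
  -- Frattini: every element is `d * n` with `d ∈ K`, `n ∈ N`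
  have hfrat : ∀ g : G, ∃ d ∈ K, ∃ n ∈ N, g = d * n := by
    intro g
    obtain ⟨d, hd, hdg⟩ := exists_conj S K hKn hKcop hKSn g
    refine ⟨d, hd, d⁻¹ * g, ?_, by group⟩
    rw [hN, conj_smul_le_normalizer, ← conj_smul_smul, ← hdg, conj_smul_smul, inv_mul_cancel,
      map_one, one_smul]
  refine ⟨?_, ?_, ?_⟩
  · -- focal part
    intro hSG
    set π := QuotientGroup.mk' K with hπ
    have hπker : ∀ g : G, π g = 1 ↔ g ∈ K := by
      intro g
      rw [← MonoidHom.mem_ker, hπ, QuotientGroup.ker_mk']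
    have hcomm : commutator G ≤ (⁅N, N⁆.map π).comap π := by
      rw [commutator_def, Subgroup.commutator_le]
      intro g₁ _ g₂ _
      obtain ⟨d₁, hd₁, n₁, hn₁, rfl⟩ := hfrat g₁
      obtain ⟨d₂, hd₂, n₂, hn₂, rfl⟩ := hfrat g₂
      rw [Subgroup.mem_comap, map_commutatorElement, map_mul, map_mul, (hπker d₁).mpr hd₁,
        (hπker d₂).mpr hd₂, one_mul, one_mul, ← map_commutatorElement]
      exact Subgroup.mem_map_of_mem _ (Subgroup.commutator_mem_commutator hn₁ hn₂)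
    intro s hs
    have h1 := hcomm (hSG hs)
    rw [Subgroup.mem_comap] at h1
    obtain ⟨n', hn', hn's⟩ := h1
    have hkK : n'⁻¹ * s ∈ K := by
      rw [← hπker, map_mul, map_inv, hn's]; group
    have hNN : ⁅N, N⁆ ≤ N := Subgroup.commutator_le_self N
    have hsN : s ∈ N := Subgroup.le_normalizer hs
    have hkN : n'⁻¹ * s ∈ N := N.mul_mem (N.inv_mem (hNN hn')) hsN
    -- pass to the abelianization of `N`
    let φ : ↥N →* Abelianization ↥N := Abelianization.of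
    have hφker : ∀ m : ↥N, φ m = 1 ↔ (m : G) ∈ ⁅N, N⁆ := by
      intro m
      rw [← MonoidHom.mem_ker, Abelianization.ker_of, ← Subgroup.map_subtype_commutator]
      constructor
      · intro h; exact ⟨m, h, rfl⟩
      · rintro ⟨m', hm', hmm⟩
        have : m' = m := Subtype.ext hmm
        rwa [← this]
    have hs1 : φ ⟨s, hsN⟩ = φ ⟨n'⁻¹ * s, hkN⟩ := by
      have h2 : (⟨s, hsN⟩ : ↥N) = ⟨n', hNN hn'⟩ * ⟨n'⁻¹ * s, hkN⟩ := by
        apply Subtype.ext
        show s = n' * (n'⁻¹ * s)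
        group
      rw [h2, map_mul, (hφker _).mpr hn', one_mul]
    -- the order of `φ s` is a power of `p` and prime to `p`
    obtain ⟨j, hj⟩ := S.isPGroup' ⟨s, hs⟩
    have hj' : s ^ p ^ j = 1 := congrArg Subtype.val hj
    have h3 : (φ ⟨s, hsN⟩) ^ p ^ j = 1 := by
      rw [← map_pow]
      have : (⟨s, hsN⟩ : ↥N) ^ p ^ j = 1 := Subtype.ext (by simpa using hj')
      rw [this, map_one]
    have h4 : (orderOf (φ ⟨s, hsN⟩)).Coprime p := by
      rw [hs1]
      have h5 : orderOf (φ ⟨n'⁻¹ * s, hkN⟩) ∣ orderOf (⟨n'⁻¹ * s, hkN⟩ : ↥N) := orderOf_map_dvd φ _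
      have h6 : orderOf (⟨n'⁻¹ * s, hkN⟩ : ↥N) = orderOf (n'⁻¹ * s) := Subgroup.orderOf_mk _ _
      have h7 : orderOf (n'⁻¹ * s) ∣ Nat.card K := by
        have := orderOf_dvd_natCard (⟨n'⁻¹ * s, hkK⟩ : K)
        rwa [Subgroup.orderOf_mk] at this
      rw [h6] at h5
      exact Nat.Coprime.coprime_dvd_left (h5.trans h7) hKcop
    have h8 := Cfsg.Agent.Lib.Helper6_PConstrained.eq_one_of_pow_of_coprime _ j h3 h4
    exact (hφker _).mp h8
  · -- control of fusion
    intro Y x hYS hxY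
    obtain ⟨d, hd, n, hn, rfl⟩ := hfrat x
    -- `x = d n = n (n⁻¹ d n)`
    refine ⟨n, hn, n⁻¹ * d * n, ?_, by group⟩
    have hcK : n⁻¹ * d * n ∈ K := by
      have := hKn.conj_mem d hd n⁻¹
      simpa using this
    rw [Subgroup.mem_centralizer_iff]
    intro y hy
    have hyS : y ∈ (S : Subgroup G) := hYS hy
    have h1 : d * n * y * (d * n)⁻¹ ∈ (S : Subgroup G) := hxY ⟨y, hy, rfl⟩
    -- conjugating back by `n⁻¹ ∈ N`
    have hn' : n⁻¹ ∈ N := N.inv_mem hn
    have h2 : n⁻¹ * (d * n * y * (d * n)⁻¹) * n⁻¹⁻¹ ∈ (S : Subgroup G) :=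
      (Subgroup.mem_normalizer_iff.mp hn' _).mp h1
    have h3 : n⁻¹ * (d * n * y * (d * n)⁻¹) * n⁻¹⁻¹ = (n⁻¹ * d * n) * y * (n⁻¹ * d * n)⁻¹ := by
      group
    rw [h3] at h2
    exact commute_of_conj_mem S K hKn hKcop _ y hcK hyS h2
  · -- `p`-subgroups
    intro Q hQ
    obtain ⟨S', hQS'⟩ := hQ.exists_le_sylow
    obtain ⟨g, hg⟩ := MulAction.exists_smul_eq G S S'
    have hS' : (S' : Subgroup G) = MulAut.conj g • (S : Subgroup G) := by
      rw [← hg]; rfl
    obtain ⟨d, hd, hdg⟩ := exists_conj S K hKn hKcop hKSn g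
    have hQd : ∀ q ∈ Q, d⁻¹ * q * d ∈ (S : Subgroup G) := by
      intro q hq
      have h1 : q ∈ MulAut.conj d • (S : Subgroup G) := by
        rw [hdg, ← hS']; exact hQS' hq
      rwa [mem_conj_smul] at h1
    refine ⟨d⁻¹, ?_, ?_⟩
    · rw [Subgroup.mem_centralizer_iff]
      rintro y ⟨hyQ, hyS⟩
      have h1 := hQd y hyQ
      have h2 : d⁻¹ * y * d⁻¹⁻¹ ∈ (S : Subgroup G) := by rwa [inv_inv]
      exact commute_of_conj_mem S K hKn hKcop d⁻¹ y (K.inv_mem hd) hyS h2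
    · rintro _ ⟨q, hq, rfl⟩
      show d⁻¹ * q * d⁻¹⁻¹ ∈ (S : Subgroup G)
      rw [inv_inv]
      exact hQd q hq

end Cfsg.Agent.S1461
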