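import Cfsg.Statements.S1462
import Mathlib
import Cfsg.Agent.Lib.Helper6_PLengthOne
import Cfsg.Agent.Lib.Helper6_HallHigman
import Cfsg.Agent.Lib.Helper7_OmegaAut
import Cfsg.Agent.Lib.Helper2_Nilpotent

set_option autoImplicit false
open Cfsg

namespace Cfsg.Agent.S1462

/-- adjoining a commuting element of order dividing `p` to an elementary abelian subgroup -/
theorem elemAb_sup_zpowers {G : Type*} [Group G] {p : ℕ} (E : Subgroup G)
    (hE : Cfsg.IsElementaryAbelian p E) (x : G) (hx : x ^ p = 1)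
    (hc : x ∈ Subgroup.centralizer (E : Set G)) :
    Cfsg.IsElementaryAbelian p (E ⊔ Subgroup.zpowers x) := by
  have hEcomm : ∀ a ∈ E, ∀ b ∈ E, a * b = b * a := by
    intro a ha b hb
    have := hE.1.is_comm.comm ⟨a, ha⟩ ⟨b, hb⟩
    exact congrArg Subtype.val this
  have hcomm := Cfsg.Agent.Lib.Helper2_Nilpotent.sup_commute E (Subgroup.zpowers x) hEcomm
    (by
      intro a ha b hb
      obtain ⟨i, rfl⟩ := Subgroup.mem_zpowers_iff.mp ha
      obtain ⟨j, rfl⟩ := Subgroup.mem_zpowers_iff.mp hb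
      rw [← zpow_add, ← zpow_add, add_comm])
    (by
      intro a ha b hb
      obtain ⟨j, rfl⟩ := Subgroup.mem_zpowers_iff.mp hb
      have h1 : a * x = x * a := Subgroup.mem_centralizer_iff.mp hc a ha
      have : Commute a x := h1
      exact (this.zpow_right j).eq)
  refine ⟨⟨⟨fun a b => Subtype.ext (hcomm a a.2 b b.2)⟩⟩, ?_⟩
  intro g hg
  have hcl : E ⊔ Subgroup.zpowers x = Subgroup.closure ((E : Set G) ∪ {x}) := by
    rw [Subgroup.closure_union, Subgroup.closure_eq, Subgroup.zpowers_eq_closure]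
  have hg' : g ∈ Subgroup.closure ((E : Set G) ∪ {x}) := by rw [← hcl]; exact hg
  induction hg' using Subgroup.closure_induction with
  | mem y hy =>
    rcases hy with hy | hy
    · exact hE.2 y hy
    · rw [Set.mem_singleton_iff] at hy
      rw [hy]; exact hx
  | one => exact one_pow p
  | mul y z hy hz ihy ihz =>
    have hy' : y ∈ E ⊔ Subgroup.zpowers x := by rw [hcl]; exact hy
    have hz' : z ∈ E ⊔ Subgroup.zpowers x := by rw [hcl]; exact hz
    have hyz : Commute y z := hcomm y hy' z hz'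
    rw [hyz.mul_pow, ihy hy', ihz hz', one_mul]
  | inv y hy ihy =>
    have hy' : y ∈ E ⊔ Subgroup.zpowers x := by rw [hcl]; exact hy
    rw [inv_pow, ihy hy', inv_one]

/-- Let G be a finite solvable group, p an odd prime with G = O_{p',p,p'}(G), E an elementary abelian p-subgroup contained in no larger elementary abelian p-subgroup of G, and L a subgroup of order coprime to p normalized by E. Then L ≤ O_{p'}(G). -/
theorem result {G : Type*} [Group G] [Finite G] [Group.IsSolvable G] (p : ℕ) [Fact p.Prime] (hp : p ≠ 2) (hpl : Cfsg.PLengthLE p 1 G) (E L : Subgroup G) (hE : Cfsg.IsElementaryAbelian p E)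
    (hEmax : ∀ B : Subgroup G, Cfsg.IsElementaryAbelian p B → E ≤ B → B = E) (hL : (Nat.card L).Coprime p) (hEL : E ≤ Subgroup.normalizer (L : Set G)) :
    L ≤ Cfsg.pPrimeCore p G := by
  classical
  have hpp := (Fact.out : p.Prime)
  obtain ⟨S⟩ : Nonempty (Sylow p G) := inferInstance
  obtain ⟨K, hKn, hKcop, hKSn, hKSidx, hO, hQdef⟩ :=
    Cfsg.Agent.Lib.Helper6_PLengthOne.structure_of_plength_one' hpl S
  have hsol : Cfsg.IsPSolvable p G :=
    Cfsg.Agent.Lib.Helper6_PLengthOne.isPSolvable_of_plength_one hpl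
  have hsolQ : Cfsg.IsPSolvable p (G ⧸ K) :=
    Cfsg.Agent.Lib.Helper7_PSolvable.quotient hpp hsol K
  have hHH := Cfsg.Agent.Lib.Helper6_HallHigman.centralizer_pCore_le hsolQ hO
  set π := QuotientGroup.mk' K with hπ
  set Q : Subgroup (G ⧸ K) := Cfsg.pCore p (G ⧸ K) with hQ
  have hQn : Q.Normal := Cfsg.Agent.Lib.Helper7_PCore.pCore_normal p
  have hQp : IsPGroup p Q := Cfsg.Agent.Lib.Helper7_PCore.pCore_isPGroup p
  have hπker : ∀ g : G, π g = 1 ↔ g ∈ K := by
    intro g
    rw [← MonoidHom.mem_ker, hπ, QuotientGroup.ker_mk']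
  have hEp : IsPGroup p E := by
    intro e
    refine ⟨1, ?_⟩
    rw [pow_one]
    exact Subtype.ext (hE.2 e e.2)
  have hEcomm : ∀ a ∈ E, ∀ b ∈ E, a * b = b * a := by
    intro a ha b hb
    have := hE.1.is_comm.comm ⟨a, ha⟩ ⟨b, hb⟩
    exact congrArg Subtype.val this
  -- `E ≤ K S`
  have hEKS : E ≤ K ⊔ (S : Subgroup G) := by
    intro e he
    have h6 : (QuotientGroup.mk' (K ⊔ (S : Subgroup G)) e) ^ p ^ 1 = 1 := by
      rw [← map_pow, pow_one, hE.2 e he, map_one]
    have h7 : (Nat.card (G ⧸ (K ⊔ (S : Subgroup G)))).Coprime p := by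
      rw [← Subgroup.index_eq_card]; exact hKSidx
    have h8 := Cfsg.Agent.Lib.Helper6_PLengthOne.eq_one_of_coprime_card _ 1 h6 h7
    have h9 : e ∈ (QuotientGroup.mk' (K ⊔ (S : Subgroup G))).ker := h8
    rwa [QuotientGroup.ker_mk'] at h9
  set Eb : Subgroup (G ⧸ K) := E.map π with hEb
  set Lb : Subgroup (G ⧸ K) := L.map π with hLb
  have hEbQ : Eb ≤ Q := by
    rw [hQdef]
    exact Subgroup.map_mono hEKS
  have hLbo : ∀ a ∈ Lb, (orderOf a).Coprime p := by
    rintro _ ⟨l, hl, rfl⟩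
    have h1 : orderOf (π l) ∣ orderOf l := orderOf_map_dvd π l
    have h2 : orderOf l ∣ Nat.card L := by
      have := orderOf_dvd_natCard (⟨l, hl⟩ : L)
      rwa [Subgroup.orderOf_mk] at this
    exact Nat.Coprime.coprime_dvd_left (h1.trans h2) hL
  have hLbQ : ∀ z ∈ Lb, z ∈ Q → z = 1 := by
    intro z hzL hzQ
    obtain ⟨j, hj⟩ := hQp ⟨z, hzQ⟩
    have hj' : z ^ p ^ j = 1 := congrArg Subtype.val hj
    exact Cfsg.Agent.Lib.Helper6_PConstrained.eq_one_of_pow_of_coprime z j hj' (hLbo z hzL)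
  -- `Lb` centralizes `Eb`
  have hLE : ∀ l ∈ L, ∀ e ∈ E, π e * π l = π l * π e := by
    intro l hl e he
    have h1 : e * l * e⁻¹ ∈ L := (Subgroup.mem_normalizer_iff.mp (hEL he) l).mp hl
    have h2 : e * l * e⁻¹ * l⁻¹ ∈ L := L.mul_mem h1 (L.inv_mem hl)
    have h3 : π (e * l * e⁻¹ * l⁻¹) ∈ Lb := Subgroup.mem_map_of_mem _ h2
    have h4 : π (e * l * e⁻¹ * l⁻¹) = π e * (π l * (π e)⁻¹ * (π l)⁻¹) := by
      rw [map_mul, map_mul, map_mul, map_inv, map_inv]; group
    have h5 : π e * (π l * (π e)⁻¹ * (π l)⁻¹) ∈ Q := by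
      have heQ : π e ∈ Q := hEbQ (Subgroup.mem_map_of_mem _ he)
      exact Q.mul_mem heQ (hQn.conj_mem _ (Q.inv_mem heQ) _)
    rw [h4] at h3
    have h6 := hLbQ _ h3 h5
    have h7 : π e * π l = (π e * (π l * (π e)⁻¹ * (π l)⁻¹)) * (π l * π e) := by group
    rw [h7, h6, one_mul]
  have hAB : Lb ≤ Subgroup.centralizer (Eb : Set (G ⧸ K)) := by
    rintro _ ⟨l, hl, rfl⟩
    rw [Subgroup.mem_centralizer_iff]
    rintro _ ⟨e, he, rfl⟩
    exact hLE l hl e he
  -- elements of order `p` of `C_Q(Eb)` lie in `Eb`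
  have hKnorm : Subgroup.normalizer (K : Set G) = ⊤ := Subgroup.normalizer_eq_top _
  have hEKcop : (Nat.card E).Coprime (Nat.card K) := by
    obtain ⟨j, hj⟩ := IsPGroup.iff_card.mp hEp
    rw [hj]; exact Nat.Coprime.pow_left j hKcop.symm
  have hEsolv : Group.IsSolvable E := by
    have : Group.IsNilpotent E := hEp.isNilpotent
    infer_instance
  have hΩ : ∀ xb : G ⧸ K, xb ∈ Subgroup.centralizer (Eb : Set (G ⧸ K)) → xb ^ p = 1 → xb ∈ Eb := by
    intro xb hxbC hxbp
    obtain ⟨x, hxx⟩ := QuotientGroup.mk'_surjective K xb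
    have hxb : xb = π x := hxx.symm
    have hy : ∀ e ∈ E, x⁻¹ * e * x * e⁻¹ ∈ K := by
      intro e he
      rw [← hπker]
      have h1 := Subgroup.mem_centralizer_iff.mp hxbC (π e) (Subgroup.mem_map_of_mem _ he)
      rw [hxb] at h1
      rw [map_mul, map_mul, map_mul, map_inv, map_inv, mul_assoc (π x)⁻¹, h1]
      group
    obtain ⟨d, hd, hxd⟩ := Cfsg.Agent.Lib.Lead_Coprime.lemmaC K E
      (by rw [hKnorm]; exact le_top) hEKcop (Or.inl hEsolv) x hy
    set x' := x * d with hx'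
    have hπx' : π x' = xb := by rw [hx', map_mul, (hπker d).mpr hd, mul_one, hxb]
    have hx'pK : x' ^ p ∈ K := by
      rw [← hπker, map_pow, hπx', hxbp]
    set m := orderOf (x' ^ p) with hm
    have hmcop : m.Coprime p := by
      have h2 : m ∣ Nat.card K := by
        have := orderOf_dvd_natCard (⟨x' ^ p, hx'pK⟩ : K)
        rwa [Subgroup.orderOf_mk] at this
      exact Nat.Coprime.coprime_dvd_left h2 hKcop
    obtain ⟨u, -, hu⟩ := Nat.exists_mul_mod_eq_one_of_coprime hmcop hpp.one_lt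
    set x'' := x' ^ (m * u) with hx''
    have hx''p : x'' ^ p = 1 := by
      rw [hx'', ← pow_mul, mul_comm (m * u) p, pow_mul, pow_mul, hm, pow_orderOf_eq_one, one_pow]
    have hπx'' : π x'' = xb := by
      rw [hx'', map_pow, hπx', pow_eq_pow_mod _ hxbp, hu, pow_one]
    have hx''C : x'' ∈ Subgroup.centralizer (E : Set G) := Subgroup.pow_mem _ hxd _
    have hB := elemAb_sup_zpowers E hE x'' hx''p hx''C
    have hBE := hEmax _ hB le_sup_left
    have hx''E : x'' ∈ E := by
      rw [← hBE]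
      exact (le_sup_right : Subgroup.zpowers x'' ≤ _) (Subgroup.mem_zpowers x'')
    rw [← hπx'']
    exact Subgroup.mem_map_of_mem _ hx''E
  -- each element of `Lb` centralizes `C_Q(Eb)`
  set Cb : Subgroup (G ⧸ K) := Q ⊓ Subgroup.centralizer (Eb : Set (G ⧸ K)) with hCb
  have hCbp : IsPGroup p Cb := hQp.to_le inf_le_left
  have hLbCb : ∀ lb ∈ Lb, lb ∈ Subgroup.centralizer (Cb : Set (G ⧸ K)) := by
    intro lb hlb
    have hconj : ∀ g ∈ Subgroup.centralizer (Eb : Set (G ⧸ K)), ∀ c ∈ Cb, g * c * g⁻¹ ∈ Cb := by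
      intro g hg c hc
      refine Subgroup.mem_inf.mpr ⟨hQn.conj_mem c hc.1 g, ?_⟩
      rw [Subgroup.mem_centralizer_iff]
      intro eb heb
      have h1 : eb * g = g * eb := Subgroup.mem_centralizer_iff.mp hg eb heb
      have h2 : eb * c = c * eb := Subgroup.mem_centralizer_iff.mp hc.2 eb heb
      have h3 : eb * g⁻¹ = g⁻¹ * eb := by
        have : Commute eb g := h1
        exact this.inv_right.eq
      calc eb * (g * c * g⁻¹) = (eb * g) * c * g⁻¹ := by group
        _ = g * (eb * c) * g⁻¹ := by rw [h1]; group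
        _ = g * c * (eb * g⁻¹) := by rw [h2]; group
        _ = g * c * g⁻¹ * eb := by rw [h3]; group
    have hlbC : lb ∈ Subgroup.centralizer (Eb : Set (G ⧸ K)) := hAB hlb
    have hlbN : lb ∈ Subgroup.normalizer (Cb : Set (G ⧸ K)) := by
      apply Cfsg.Agent.Lib.Lead_Coprime.mem_normalizer_of_conj_mem
      · exact hconj lb hlbC
      · intro c hc
        have := hconj lb⁻¹ (Subgroup.inv_mem _ hlbC) c hc
        rwa [inv_inv] at this
    apply Cfsg.Agent.Lib.Helper7_OmegaAut.mem_centralizer_of_omega lb (hLbo lb hlb) Cb hCbp hlbN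
    intro a ha hap
    rcases hap with hap | ⟨h2, -⟩
    · have haE : a ∈ Eb := hΩ a ha.2 hap
      exact (Subgroup.mem_centralizer_iff.mp hlbC a haE).symm
    · exact absurd h2 hp
  -- Thompson's `A × B` lemma
  have hQnorm : Subgroup.normalizer (Q : Set (G ⧸ K)) = ⊤ := Subgroup.normalizer_eq_top _
  have hEbp : IsPGroup p Eb := hEp.map π
  have key : Q ⊓ Subgroup.centralizer (Eb : Set (G ⧸ K)) ≤
      Subgroup.centralizer (Lb : Set (G ⧸ K)) := by
    intro c hc
    rw [Subgroup.mem_centralizer_iff]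
    intro lb hlb
    have := Subgroup.mem_centralizer_iff.mp (hLbCb lb hlb) c hc
    exact this.symm
  have hQL : Q ≤ Subgroup.centralizer (Lb : Set (G ⧸ K)) :=
    Cfsg.Agent.Lib.Helper5_AxB.thompson_AxB Lb Eb hLbo hEbp hAB Q hQp
      (by rw [hQnorm]; exact le_top) (by rw [hQnorm]; exact le_top) key
  have hLK : L ≤ K := by
    intro l hl
    rw [← hπker]
    have hlb : π l ∈ Lb := Subgroup.mem_map_of_mem _ hl
    apply hLbQ _ hlb
    apply hHH
    rw [Subgroup.mem_centralizer_iff]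
    intro q hq
    have := Subgroup.mem_centralizer_iff.mp (hQL hq) (π l) hlb
    exact this.symm
  exact hLK.trans (Cfsg.Agent.Lib.Helper5_PPrime.le_pPrimeCore (hN := hKn) K hKcop)

end Cfsg.Agent.S1462
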