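import Mathlib
import Cfsg.Statements.S1466
import Cfsg.Agent.Lib.Helper2_Nilpotent
import Cfsg.Agent.Lib.Helper2_Conj
import Cfsg.Agent.S1467

set_option autoImplicit false
open Cfsg

namespace Cfsg.Agent.S1466

open Cfsg.Agent.Lib.Helper2_Nilpotent Cfsg.Agent.Lib.Helper2_Conj
open scoped commutatorElement

theorem puigStep_normal {R : Type*} [Group R] (X : Subgroup R) [hX : X.Normal] :
    (Cfsg.puigStep X).Normal := by
  unfold Cfsg.puigStep
  apply sSup_normal_of_conj_closed
  rintro A ⟨hAc, hAX⟩ g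
  refine ⟨?_, ?_⟩
  · rw [isMulCommutative_iff]
    rintro ⟨x, hx⟩ ⟨y, hy⟩
    apply Subtype.ext
    show x * y = y * x
    rw [mem_conj] at hx hy
    have h := congrArg Subtype.val ((isMulCommutative_iff.mp hAc) ⟨_, hx⟩ ⟨_, hy⟩)
    have h' : (g⁻¹ * x * g) * (g⁻¹ * y * g) = (g⁻¹ * y * g) * (g⁻¹ * x * g) := h
    calc x * y = g * ((g⁻¹ * x * g) * (g⁻¹ * y * g)) * g⁻¹ := by group
      _ = g * ((g⁻¹ * y * g) * (g⁻¹ * x * g)) * g⁻¹ := by rw [h']
      _ = y * x := by group
  · intro x hx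
    -- g⁻¹ x g ∈ X normalizes A
    have hx' : g⁻¹ * x * g ∈ X := by
      have := hX.conj_mem x hx g⁻¹
      simpa using this
    have hN := hAX hx'
    rw [Subgroup.mem_normalizer_iff] at hN ⊢
    intro h
    rw [mem_conj, mem_conj, hN (g⁻¹ * h * g)]
    have : g⁻¹ * x * g * (g⁻¹ * h * g) * (g⁻¹ * x * g)⁻¹ = g⁻¹ * (x * h * x⁻¹) * g := by group
    rw [this]

theorem puigSeq_normal {R : Type*} [Group R] (i : ℕ) : (Cfsg.puigSeq R i).Normal := by
  induction i with
  | zero => show (⊥ : Subgroup R).Normal; infer_instance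
  | succ i ih =>
    show (Cfsg.puigStep (Cfsg.puigSeq R i)).Normal
    haveI := ih
    exact puigStep_normal _

theorem centralizer_puigStep_le {R : Type*} [Group R] [Finite R] (p : ℕ) [Fact p.Prime]
    (hR : IsPGroup p R) (X : Subgroup R) [hX : X.Normal] :
    Subgroup.centralizer ((Cfsg.puigStep X : Subgroup R) : Set R) ≤ Cfsg.puigStep X := by
  haveI : Group.IsNilpotent R := hR.isNilpotent
  set L := Cfsg.puigStep X with hL
  haveI hLn : L.Normal := puigStep_normal X
  set C := Subgroup.centralizer (L : Set R) with hC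
  haveI hCn : C.Normal := Subgroup.normal_centralizer
  by_contra hCL
  obtain ⟨c, hcC, hcL, hcomm⟩ := exists_mem_not_mem_commutator_mem C L hCL
  have hcC' : ∀ l ∈ L, l * c = c * l := by
    intro l hl
    rw [hC, Subgroup.mem_centralizer_iff] at hcC
    exact hcC l hl
  set Z := L ⊓ C with hZ
  set A := Subgroup.zpowers c ⊔ Z with hA
  have hAcomm : ∀ x ∈ A, ∀ y ∈ A, x * y = y * x := by
    apply sup_commute
    · intro x hx y hy
      obtain ⟨i, rfl⟩ := Subgroup.mem_zpowers_iff.mp hx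
      obtain ⟨j, rfl⟩ := Subgroup.mem_zpowers_iff.mp hy
      rw [← zpow_add, ← zpow_add, add_comm]
    · intro x hx y hy
      have hyC : y ∈ C := hy.2
      rw [hC, Subgroup.mem_centralizer_iff] at hyC
      exact (hyC x hx.1)
    · intro x hx y hy
      obtain ⟨i, rfl⟩ := Subgroup.mem_zpowers_iff.mp hx
      have h1 : Commute y c := hcC' y hy.1
      exact (h1.zpow_right i).symm.eq
  have hAX : X ≤ Subgroup.normalizer (A : Set R) := by
    have hconj : ∀ x : R, ∀ a ∈ A, x * a * x⁻¹ ∈ A := by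
      intro x
      have hle : A ≤ A.comap (MulAut.conj x).toMonoidHom := by
        apply sup_le
        · rw [Subgroup.zpowers_le, Subgroup.mem_comap]
          show x * c * x⁻¹ ∈ A
          have h1 : x * c * x⁻¹ * c⁻¹ ∈ L := by
            have := hcomm x
            have h2 : x * c * x⁻¹ * c⁻¹ = (⁅c, x⁆)⁻¹ := by
              rw [commutatorElement_def]; group
            rw [h2]
            exact inv_mem this
          have h3 : x * c * x⁻¹ * c⁻¹ ∈ C := mul_mem (hCn.conj_mem c hcC x) (inv_mem hcC)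
          have h4 : x * c * x⁻¹ = (x * c * x⁻¹ * c⁻¹) * c := by group
          rw [h4]
          exact mul_mem ((le_sup_right : Z ≤ A) ⟨h1, h3⟩)
            ((le_sup_left : Subgroup.zpowers c ≤ A) (Subgroup.mem_zpowers c))
        · intro z hz
          rw [Subgroup.mem_comap]
          show x * z * x⁻¹ ∈ A
          exact (le_sup_right : Z ≤ A) ⟨hLn.conj_mem z hz.1 x, hCn.conj_mem z hz.2 x⟩
      intro a ha
      have := hle ha
      rw [Subgroup.mem_comap] at this
      simpa [MulAut.conj_apply] using this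
    intro x _
    rw [Subgroup.mem_normalizer_iff]
    intro h
    constructor
    · exact hconj x h
    · intro hh
      have := hconj x⁻¹ _ hh
      have h2 : x⁻¹ * (x * h * x⁻¹) * x⁻¹⁻¹ = h := by group
      rwa [h2] at this
  have hAL : A ≤ L := by
    rw [hL]
    unfold Cfsg.puigStep
    apply le_sSup
    refine ⟨?_, hAX⟩
    rw [isMulCommutative_iff]
    rintro ⟨x, hx⟩ ⟨y, hy⟩
    exact Subtype.ext (hAcomm x hx y hy)
  exact hcL (hAL ((le_sup_left : Subgroup.zpowers c ≤ A) (Subgroup.mem_zpowers c)))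

theorem result {R : Type*} [Group R] [Finite R] (p : ℕ) [Fact p.Prime] (hR : IsPGroup p R) [Nontrivial R] :
    (∀ i : ℕ, 0 < i → Subgroup.center R ≤ Subgroup.centralizer ((Cfsg.puigSeq R i : Subgroup R) : Set R) ∧
        Subgroup.centralizer ((Cfsg.puigSeq R i : Subgroup R) : Set R) ≤ Cfsg.puigSeq R i) ∧
      (Subgroup.center R ≤ Subgroup.centralizer ((Cfsg.puigLower R : Subgroup R) : Set R) ∧ Subgroup.centralizer ((Cfsg.puigLower R : Subgroup R) : Set R) ≤ Cfsg.puigLower R) ∧
      (Subgroup.center R ≤ Subgroup.centralizer ((Cfsg.puigSubgroup R : Subgroup R) : Set R) ∧ Subgroup.centralizer ((Cfsg.puigSubgroup R : Subgroup R) : Set R) ≤ Cfsg.puigSubgroup R) ∧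
      Cfsg.puigSubgroup R ≠ ⊥ ∧ Cfsg.puigLower R ≠ ⊥ := by
  have h1 : ∀ i : ℕ, 0 < i → Subgroup.center R ≤ Subgroup.centralizer ((Cfsg.puigSeq R i : Subgroup R) : Set R) ∧
        Subgroup.centralizer ((Cfsg.puigSeq R i : Subgroup R) : Set R) ≤ Cfsg.puigSeq R i := by
    intro i hi
    refine ⟨Subgroup.center_le_centralizer _, ?_⟩
    obtain ⟨j, rfl⟩ := Nat.exists_eq_succ_of_ne_zero hi.ne'
    haveI := puigSeq_normal (R := R) j
    exact centralizer_puigStep_le p hR (Cfsg.puigSeq R j)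
  obtain ⟨_, _, _, ⟨k, hk⟩, _, _, _⟩ := Cfsg.Agent.S1467.result (G := R)
  obtain ⟨hE, hO⟩ := hk (k + 1) (Nat.le_succ k)
  have h2 := h1 (2 * (k + 1)) (by omega)
  have h3 := h1 (2 * (k + 1) + 1) (by omega)
  rw [hE] at h2
  rw [hO] at h3
  have hne : ∀ L : Subgroup R, Subgroup.centralizer (L : Set R) ≤ L → L ≠ ⊥ := by
    intro L hL hbot
    rw [hbot] at hL
    have : (⊤ : Subgroup R) ≤ ⊥ := by
      refine le_trans ?_ hL
      intro x _
      rw [Subgroup.mem_centralizer_iff]
      intro y hy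
      have : y = 1 := hy
      rw [this]; simp
    obtain ⟨x, hx⟩ := exists_ne (1 : R)
    exact hx (Subgroup.mem_bot.mp (this (Subgroup.mem_top x)))
  exact ⟨h1, h2, h3, hne _ h3.2, hne _ h2.2⟩

end Cfsg.Agent.S1466
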