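import Mathlib
import Cfsg.Statements.S1470

set_option autoImplicit false

open Cfsg

namespace Cfsg.Agent.S1470


/-- Let p and q be odd primes with (p^q − 1)/(p − 1) coprime to p − 1, and let E be the set of elements a of the field with p ^ q elements whose norm to the prime field is 1 and for which 2 − a also has norm 1. If a⁻¹ ∈ E for every a ∈ E and E has at least two elements, then p ≤ q. -/
theorem result (p q : ℕ) [Fact p.Prime] [Fact q.Prime] (hp : p ≠ 2) (hq : q ≠ 2) (hA : Nat.Coprime ((p ^ q - 1) / (p - 1)) (p - 1))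
    (hinv : ∀ a ∈ {a : GaloisField p q | Algebra.norm (ZMod p) a = 1 ∧ Algebra.norm (ZMod p) (2 - a) = 1}, a⁻¹ ∈ {a : GaloisField p q | Algebra.norm (ZMod p) a = 1 ∧ Algebra.norm (ZMod p) (2 - a) = 1})
    (h2 : 2 ≤ Set.ncard {a : GaloisField p q | Algebra.norm (ZMod p) a = 1 ∧ Algebra.norm (ZMod p) (2 - a) = 1}) :
    p ≤ q := by
  classical
  have hqp : q.Prime := Fact.out
  set E : Set (GaloisField p q) := {a : GaloisField p q | Algebra.norm (ZMod p) a = 1 ∧
    Algebra.norm (ZMod p) (2 - a) = 1} with hE
  obtain ⟨a, haE, ha1⟩ : ∃ a ∈ E, a ≠ 1 := by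
    have h1 : 1 < E.ncard := h2
    exact Set.exists_ne_of_one_lt_ncard h1 1
  have hw0 : a - 1 ≠ 0 := sub_ne_zero.mpr ha1
  have hN0 : ∀ x : GaloisField p q, Algebra.norm (ZMod p) x = 1 → x ≠ 0 := by
    intro x hx h0
    rw [h0, Algebra.norm_zero] at hx
    exact zero_ne_one hx
  have hphi : ∀ x ∈ E, 2 - x⁻¹ ∈ E := by
    intro x hx
    have h1 := hinv x hx
    exact ⟨h1.2, by rw [sub_sub_cancel]; exact h1.1⟩
  have key : ∀ k : ℕ, Algebra.norm (ZMod p) (1 + (k : GaloisField p q) * (a - 1)) = 1 ∧
      (1 + ((k : GaloisField p q) + 1) * (a - 1)) / (1 + (k : GaloisField p q) * (a - 1)) ∈ E := by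
    intro k
    induction k with
    | zero =>
      constructor
      · simp
      · have : (1 + (((0 : ℕ) : GaloisField p q) + 1) * (a - 1)) /
            (1 + ((0 : ℕ) : GaloisField p q) * (a - 1)) = a := by
          simp
        rw [this]; exact haE
    | succ k ih =>
      obtain ⟨h1, h2'⟩ := ih
      have hd := hN0 _ h1
      have h3 : Algebra.norm (ZMod p) (1 + ((k : GaloisField p q) + 1) * (a - 1)) = 1 := by
        have e : 1 + ((k : GaloisField p q) + 1) * (a - 1) =
            ((1 + ((k : GaloisField p q) + 1) * (a - 1)) / (1 + (k : GaloisField p q) * (a - 1))) *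
              (1 + (k : GaloisField p q) * (a - 1)) := by
          field_simp
        rw [e, map_mul, h2'.1, h1, one_mul]
      have hd' := hN0 _ h3
      refine ⟨by push_cast; exact h3, ?_⟩
      have h4 := hphi _ h2'
      have e : (1 + (((k + 1 : ℕ) : GaloisField p q) + 1) * (a - 1)) /
          (1 + ((k + 1 : ℕ) : GaloisField p q) * (a - 1)) =
          2 - ((1 + ((k : GaloisField p q) + 1) * (a - 1)) /
            (1 + (k : GaloisField p q) * (a - 1)))⁻¹ := by
        push_cast
        field_simp
        ring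
      rw [e]; exact h4
  have hall : ∀ t : ZMod p, Algebra.norm (ZMod p)
      (1 + algebraMap (ZMod p) (GaloisField p q) t * (a - 1)) = 1 := by
    intro t
    have h1 := (key t.val).1
    have e : ((t.val : ℕ) : GaloisField p q) = algebraMap (ZMod p) (GaloisField p q) t := by
      rw [← map_natCast (algebraMap (ZMod p) (GaloisField p q)), ZMod.natCast_zmod_val]
    rwa [e] at h1
  have hχ : ∀ t : ZMod p,
      (Algebra.lmul (ZMod p) (GaloisField p q) (-(a - 1)⁻¹)).charpoly.eval t =
        (Algebra.norm (ZMod p) (a - 1))⁻¹ := by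
    intro t
    rw [LinearMap.eval_charpoly]
    have e : algebraMap (ZMod p) (Module.End (ZMod p) (GaloisField p q)) t -
        Algebra.lmul (ZMod p) (GaloisField p q) (-(a - 1)⁻¹) =
        Algebra.lmul (ZMod p) (GaloisField p q)
          (algebraMap (ZMod p) (GaloisField p q) t + (a - 1)⁻¹) := by
      rw [map_add, map_neg, sub_neg_eq_add, AlgHom.commutes]
    rw [e, ← Algebra.norm_apply]
    have h1 := hall t
    have e2 : 1 + algebraMap (ZMod p) (GaloisField p q) t * (a - 1) =
        (a - 1) * (algebraMap (ZMod p) (GaloisField p q) t + (a - 1)⁻¹) := by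
      field_simp
      ring
    rw [e2, map_mul] at h1
    exact eq_inv_of_mul_eq_one_right h1
  have hdeg : (Algebra.lmul (ZMod p) (GaloisField p q) (-(a - 1)⁻¹)).charpoly.natDegree = q := by
    rw [LinearMap.charpoly_natDegree, GaloisField.finrank p hqp.ne_zero]
  have hne : (Algebra.lmul (ZMod p) (GaloisField p q) (-(a - 1)⁻¹)).charpoly -
      Polynomial.C ((Algebra.norm (ZMod p) (a - 1))⁻¹) ≠ 0 := by
    intro h0
    have := congrArg Polynomial.natDegree h0
    rw [Polynomial.natDegree_sub_C, hdeg, Polynomial.natDegree_zero] at this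
    exact hqp.ne_zero this
  have hsub : (Finset.univ : Finset (ZMod p)).val ⊆
      ((Algebra.lmul (ZMod p) (GaloisField p q) (-(a - 1)⁻¹)).charpoly -
        Polynomial.C ((Algebra.norm (ZMod p) (a - 1))⁻¹)).roots := by
    intro t _
    rw [Polynomial.mem_roots hne, Polynomial.IsRoot, Polynomial.eval_sub, Polynomial.eval_C, hχ,
      sub_self]
  have hfin := Polynomial.card_le_degree_of_subset_roots hsub
  rw [Polynomial.natDegree_sub_C, hdeg, Finset.card_univ, ZMod.card] at hfin
  exact hfin

end Cfsg.Agent.S1470
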