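import Cfsg.Statements.S1473
import Mathlib
import Cfsg.Agent.Lib.Lead_Coprime
import Cfsg.Agent.Lib.Lead_SZ
import Cfsg.Agent.Lib.Helper2_NilDecomp
import Cfsg.Agent.Lib.Helper4_Kieler0

set_option autoImplicit false
open Cfsg

namespace Cfsg.Agent.S1473

universe u

open scoped Pointwise

section basics

variable {G : Type*} [Group G]

theorem nil_of_le {K M : Subgroup G} (h : K ≤ M) (hM : Group.IsNilpotent M) :
    Group.IsNilpotent K := by
  obtain ⟨n, hn⟩ := (Subgroup.isNilpotent_iff_lowerCentralSeries M).mp hM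
  refine (Subgroup.isNilpotent_iff_lowerCentralSeries K).mpr ⟨n, ?_⟩
  have := Subgroup.lowerCentralSeries_mono n h
  simp only at this
  rw [hn] at this
  exact le_bot_iff.mp this

theorem nil_map {G' : Type*} [Group G'] (f : G →* G') {K : Subgroup G}
    (hK : Group.IsNilpotent K) : Group.IsNilpotent (K.map f) := by
  obtain ⟨n, hn⟩ := (Subgroup.isNilpotent_iff_lowerCentralSeries K).mp hK
  refine (Subgroup.isNilpotent_iff_lowerCentralSeries (K.map f)).mpr ⟨n, ?_⟩
  rw [← Subgroup.map_lowerCentralSeries, hn, Subgroup.map_bot]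

theorem cn_of_equiv {G' : Type*} [Group G'] (e : G ≃* G') (h : Cfsg.IsCNGroup G) :
    Cfsg.IsCNGroup G' := by
  intro g' hg'
  have hg : e.symm g' ≠ 1 := by
    intro h1
    apply hg'
    have := congrArg e h1
    simpa using this
  refine nil_of_le ?_ (nil_map e.toMonoidHom (h _ hg))
  intro c hc
  rw [Subgroup.mem_centralizer_singleton_iff] at hc
  refine ⟨e.symm c, ?_, by simp⟩
  show e.symm c ∈ Subgroup.centralizer {e.symm g'}
  rw [Subgroup.mem_centralizer_singleton_iff, ← map_mul, ← map_mul, hc]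

theorem isPGroup_zpowers {q : ℕ} [Fact q.Prime] {w : G} {a : ℕ} (hw : w ^ (q ^ a) = 1) :
    IsPGroup q (Subgroup.zpowers w) := by
  have hq := (Fact.out : q.Prime)
  obtain ⟨b, -, hb⟩ := (Nat.dvd_prime_pow hq).mp (orderOf_dvd_of_pow_eq_one hw)
  apply IsPGroup.of_card (n := b)
  rw [Nat.card_zpowers, hb]

/-- In a nilpotent subgroup, a `q`-element and a `q'`-element commute. -/
theorem nil_commute [Finite G] {q : ℕ} [Fact q.Prime] {M : Subgroup G}
    (hM : Group.IsNilpotent M) {w y : G} (hw : w ∈ M) (hy : y ∈ M) {a : ℕ}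
    (hwq : w ^ (q ^ a) = 1) (hyq : ¬ q ∣ orderOf y) : Commute y w := by
  have hw' : (⟨w, hw⟩ : M) ^ (q ^ a) = 1 := Subtype.ext (by simpa using hwq)
  have hz : IsPGroup q (Subgroup.zpowers (⟨w, hw⟩ : M)) := isPGroup_zpowers hw'
  obtain ⟨P, hP⟩ := hz.exists_le_sylow
  have hy' : ¬ q ∣ orderOf (⟨y, hy⟩ : M) := by
    rwa [← Subgroup.orderOf_coe]
  have h1 := Cfsg.Agent.Lib.Helper2_NilDecomp.commute_sylow_of_regular q P ⟨y, hy⟩ hy' ⟨w, hw⟩
    (hP (Subgroup.mem_zpowers _))
  have h2 := congrArg Subtype.val h1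
  simp only [Subgroup.coe_mul, Subgroup.coe_inv] at h2
  show y * w = w * y
  calc y * w = (y * w * y⁻¹) * y := by group
    _ = w * y := by rw [h2]

/-- A normal `q`-subgroup lies in every Sylow `q`-subgroup. -/
theorem normal_le_sylow [Finite G] {q : ℕ} [Fact q.Prime] {H : Subgroup G} [hn : H.Normal]
    (hH : IsPGroup q H) (S : Sylow q G) : H ≤ S := by
  obtain ⟨P, hP⟩ := hH.exists_le_sylow
  obtain ⟨g, hg⟩ := MulAction.exists_smul_eq G P S
  intro h hh
  have h1 : g⁻¹ * h * g ∈ (P : Subgroup G) := hP (by simpa using hn.conj_mem h hh g⁻¹)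
  have h2 : h ∈ MulAut.conj g • (P : Subgroup G) :=
    (Cfsg.Agent.Lib.Lead_SZ.mem_conj_smul g h _).mpr h1
  rw [← hg]
  exact h2

/-- The key property of CN-groups: a `q'`-element commuting with a non-trivial element of a
Sylow `q`-subgroup centralises that Sylow subgroup. -/
theorem cn_key [Finite G] (hCN : Cfsg.IsCNGroup G) {q : ℕ} [Fact q.Prime] (S : Sylow q G)
    {u y : G} (hu : u ∈ S) (hu1 : u ≠ 1) (hyq : ¬ q ∣ orderOf y) (hyu : Commute y u) :
    ∀ v ∈ S, Commute y v := by
  have hSnil : Group.IsNilpotent (S : Subgroup G) := S.2.isNilpotent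
  have hSnt : (⊤ : Subgroup (S : Subgroup G)) ≠ ⊥ := by
    intro h
    have : (⟨u, hu⟩ : (S : Subgroup G)) ∈ (⊥ : Subgroup (S : Subgroup G)) := h ▸ Subgroup.mem_top _
    rw [Subgroup.mem_bot] at this
    exact hu1 (congrArg Subtype.val this)
  obtain ⟨w, -, hwc, hw1⟩ :=
    Cfsg.Agent.Lib.Helper4_Kieler0.normal_inf_center_ne_bot' (⊤ : Subgroup (S : Subgroup G)) hSnt
  have hwcomm : ∀ s ∈ S, Commute (w : G) s := by
    intro s hs
    have := Subgroup.mem_center_iff.mp hwc ⟨s, hs⟩
    exact (congrArg Subtype.val this).symm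
  have hw1' : (w : G) ≠ 1 := fun h => hw1 (Subtype.ext h)
  obtain ⟨a, ha⟩ := S.2 w
  have ha' : (w : G) ^ (q ^ a) = 1 := by
    have := congrArg Subtype.val ha
    simpa using this
  have h1 : Commute y (w : G) := by
    refine nil_commute (hCN u hu1) (M := Subgroup.centralizer {u}) ?_ ?_ ha' hyq
    · rw [Subgroup.mem_centralizer_singleton_iff]; exact (hwcomm u hu).eq
    · rw [Subgroup.mem_centralizer_singleton_iff]; exact hyu.eq
  intro v hv
  obtain ⟨b, hb⟩ := S.2 ⟨v, hv⟩
  have hb' : v ^ (q ^ b) = 1 := by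
    have := congrArg Subtype.val hb
    simpa using this
  refine nil_commute (hCN (w : G) hw1') (M := Subgroup.centralizer {(w : G)}) ?_ ?_ hb' hyq
  · rw [Subgroup.mem_centralizer_singleton_iff]; exact (hwcomm v hv).eq.symm
  · rw [Subgroup.mem_centralizer_singleton_iff]; exact h1.eq

/-- Elements of a subgroup `C` of `G` whose image centralises `π x` have commutators with powers
of `x` in the kernel. -/
theorem comm_mem_of_centralizes {H : Subgroup G} [H.Normal] {c x : G}
    (hc : (QuotientGroup.mk' H) c ∈ Subgroup.centralizer ({(QuotientGroup.mk' H) x} : Set (G ⧸ H))) :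
    ∀ a ∈ Subgroup.zpowers x, c⁻¹ * a * c * a⁻¹ ∈ H := by
  intro a ha
  obtain ⟨k, rfl⟩ := Subgroup.mem_zpowers_iff.mp ha
  rw [Subgroup.mem_centralizer_singleton_iff] at hc
  have hck : Commute ((QuotientGroup.mk' H) c) ((QuotientGroup.mk' H) x ^ k) :=
    (show Commute ((QuotientGroup.mk' H) c) ((QuotientGroup.mk' H) x) from hc).zpow_right k
  have h1 : (QuotientGroup.mk' H) (c⁻¹ * x ^ k * c * (x ^ k)⁻¹) = 1 := by
    rw [map_mul, map_mul, map_mul, map_inv, map_inv, map_zpow, mul_assoc _ _ ((QuotientGroup.mk' H) c),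
      ← hck.eq]
    group
  exact (QuotientGroup.eq_one_iff _).mp h1

/-- Case A: the centraliser in `G ⧸ H` of the image of a non-trivial `q'`-element. -/
theorem caseA [Finite G] (hCN : Cfsg.IsCNGroup G) {q : ℕ} [Fact q.Prime] (H : Subgroup G)
    [H.Normal] (hH : IsPGroup q H) (x : G) (hx1 : x ≠ 1) (hxq : (orderOf x).Coprime q) :
    Group.IsNilpotent (Subgroup.centralizer ({(QuotientGroup.mk' H) x} : Set (G ⧸ H))) := by
  refine nil_of_le (M := (Subgroup.centralizer {x}).map (QuotientGroup.mk' H)) ?_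
    (nil_map _ (hCN x hx1))
  intro cb hcb
  obtain ⟨c, rfl⟩ := QuotientGroup.mk'_surjective H cb
  have hA : Subgroup.zpowers x ≤ Subgroup.normalizer (H : Set G) := by
    rw [Subgroup.normalizer_eq_top]; exact le_top
  have hcop : (Nat.card (Subgroup.zpowers x)).Coprime (Nat.card H) := by
    rw [Nat.card_zpowers]
    obtain ⟨n, hn⟩ := IsPGroup.iff_card.mp hH
    rw [hn]
    exact Nat.Coprime.pow_right n hxq
  obtain ⟨d, hd, hcd⟩ := Cfsg.Agent.Lib.Lead_Coprime.lemmaC H (Subgroup.zpowers x) hA hcop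
    (Or.inl inferInstance) c (comm_mem_of_centralizes hcb)
  refine ⟨c * d, ?_, ?_⟩
  · have : Subgroup.centralizer ((Subgroup.zpowers x : Subgroup G) : Set G) ≤
        Subgroup.centralizer {x} :=
      Subgroup.centralizer_le (by simp)
    exact this hcd
  · have hd1 : (QuotientGroup.mk' H) d = 1 := (QuotientGroup.eq_one_iff d).mpr hd
    rw [map_mul, hd1, mul_one]

/-- Case B: the centraliser in `G ⧸ H` of the image of a `q`-element outside `H`. -/
theorem caseB [Finite G] (hCN : Cfsg.IsCNGroup G) {q : ℕ} [Fact q.Prime] (H : Subgroup G)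
    [H.Normal] (hH : IsPGroup q H) (hHne : H ≠ ⊥) (g : G) (hgH : g ∉ H) {a : ℕ}
    (hgq : g ^ (q ^ a) = 1) :
    Group.IsNilpotent (Subgroup.centralizer ({(QuotientGroup.mk' H) g} : Set (G ⧸ H))) := by
  have hq := (Fact.out : q.Prime)
  set Cs : Subgroup G :=
    (Subgroup.centralizer ({(QuotientGroup.mk' H) g} : Set (G ⧸ H))).comap (QuotientGroup.mk' H)
    with hCs
  have hmapCs : Cs.map (QuotientGroup.mk' H) =
      Subgroup.centralizer ({(QuotientGroup.mk' H) g} : Set (G ⧸ H)) :=
    Subgroup.map_comap_eq_self_of_surjective (QuotientGroup.mk'_surjective H) _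
  rw [← hmapCs]
  apply nil_map
  obtain ⟨u₀, hu₀H, hu₀1⟩ := H.bot_or_exists_ne_one.resolve_left hHne
  -- every `q'`-element of `Cs` commutes with every `q`-element of `G`
  have B1 : ∀ y ∈ Cs, ¬ q ∣ orderOf y → ∀ v : G, ∀ b : ℕ, v ^ (q ^ b) = 1 → Commute y v := by
    intro y hy hyq
    have hA : Subgroup.zpowers y ≤ Subgroup.normalizer (H : Set G) := by
      rw [Subgroup.normalizer_eq_top]; exact le_top
    have hcop : (Nat.card (Subgroup.zpowers y)).Coprime (Nat.card H) := by
      rw [Nat.card_zpowers]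
      obtain ⟨n, hn⟩ := IsPGroup.iff_card.mp hH
      rw [hn]
      exact Nat.Coprime.pow_right n ((Nat.Prime.coprime_iff_not_dvd hq).mpr hyq).symm
    have hgx : ∀ a' ∈ Subgroup.zpowers y, g⁻¹ * a' * g * a'⁻¹ ∈ H := by
      intro a' ha'
      have ha'Cs : a' ∈ Cs := (Subgroup.zpowers_le.mpr hy) ha'
      have h1 : (QuotientGroup.mk' H) a' * (QuotientGroup.mk' H) g =
          (QuotientGroup.mk' H) g * (QuotientGroup.mk' H) a' :=
        Subgroup.mem_centralizer_singleton_iff.mp ha'Cs
      have h2 : (QuotientGroup.mk' H) (g⁻¹ * a' * g * a'⁻¹) = 1 := by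
        rw [map_mul, map_mul, map_mul, map_inv, map_inv, mul_assoc _ _ ((QuotientGroup.mk' H) g), h1]
        group
      exact (QuotientGroup.eq_one_iff _).mp h2
    obtain ⟨d, hd, hgd⟩ := Cfsg.Agent.Lib.Lead_Coprime.lemmaC H (Subgroup.zpowers y) hA hcop
      (Or.inl inferInstance) g hgx
    have hyx' : Commute y (g * d) :=
      (Subgroup.mem_centralizer_iff.mp hgd y (Subgroup.mem_zpowers y))
    have hx'H : g * d ∉ H := fun h => hgH (by
      have := H.mul_mem h (H.inv_mem hd)
      simpa using this)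
    have hx'1 : g * d ≠ 1 := fun h => hx'H (h ▸ H.one_mem)
    have hd1 : (QuotientGroup.mk' H) d = 1 := (QuotientGroup.eq_one_iff d).mpr hd
    have hx'q : ∃ b, (g * d) ^ (q ^ b) = 1 := by
      have h1 : (g * d) ^ (q ^ a) ∈ H := by
        apply (QuotientGroup.eq_one_iff _).mp
        show (QuotientGroup.mk' H) ((g * d) ^ (q ^ a)) = 1
        rw [map_pow, map_mul, hd1, mul_one, ← map_pow, hgq, map_one]
      obtain ⟨b, hb⟩ := hH ⟨_, h1⟩
      refine ⟨a + b, ?_⟩
      have := congrArg Subtype.val hb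
      rw [pow_add, pow_mul]
      simpa using this
    obtain ⟨b', hb'⟩ := hx'q
    obtain ⟨S', hS'⟩ := (isPGroup_zpowers hb').exists_le_sylow
    have hyS' := cn_key hCN S' (hS' (Subgroup.mem_zpowers _)) hx'1 hyq hyx'
    have hyu₀ : Commute y u₀ := hyS' u₀ (normal_le_sylow hH S' hu₀H)
    intro v b hv
    obtain ⟨S'', hS''⟩ := (isPGroup_zpowers hv).exists_le_sylow
    exact cn_key hCN S'' (normal_le_sylow hH S'' hu₀H) hu₀1 hyq hyu₀ v
      (hS'' (Subgroup.mem_zpowers v))
  -- choose `u`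
  obtain P : Sylow q Cs := default
  have hS₁ : IsPGroup q ((P : Subgroup Cs).map Cs.subtype) := P.2.map _
  obtain ⟨S, hS⟩ := hS₁.exists_le_sylow
  have hHS : H ≤ S := normal_le_sylow hH S
  have hSnil : Group.IsNilpotent (S : Subgroup G) := S.2.isNilpotent
  have hAn : (H.subgroupOf (S : Subgroup G)).Normal := inferInstance
  have hAne : H.subgroupOf (S : Subgroup G) ≠ ⊥ := by
    intro h
    have : (⟨u₀, hHS hu₀H⟩ : (S : Subgroup G)) ∈ H.subgroupOf (S : Subgroup G) :=
      Subgroup.mem_subgroupOf.mpr hu₀H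
    rw [h, Subgroup.mem_bot] at this
    exact hu₀1 (congrArg Subtype.val this)
  obtain ⟨w, hwA, hwc, hw1⟩ :=
    Cfsg.Agent.Lib.Helper4_Kieler0.normal_inf_center_ne_bot' (H.subgroupOf (S : Subgroup G)) hAne
  have hwH : (w : G) ∈ H := Subgroup.mem_subgroupOf.mp hwA
  have hw1' : (w : G) ≠ 1 := fun h => hw1 (Subtype.ext h)
  have hwcomm : ∀ s ∈ S, s * (w : G) = (w : G) * s := by
    intro s hs
    have := Subgroup.mem_center_iff.mp hwc ⟨s, hs⟩
    exact congrArg Subtype.val this
  obtain ⟨bw, hbw⟩ := hH ⟨(w : G), hwH⟩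
  have hbw' : (w : G) ^ (q ^ bw) = 1 := by
    have := congrArg Subtype.val hbw
    simpa using this
  refine nil_of_le (M := Subgroup.centralizer {(w : G)}) ?_ (hCN _ hw1')
  rw [← Subgroup.subgroupOf_eq_top]
  apply Subgroup.index_eq_one.mp
  by_contra hne
  obtain ⟨ℓ, hℓ, hdvd⟩ := Nat.exists_prime_and_dvd hne
  have hℓF : Fact ℓ.Prime := ⟨hℓ⟩
  by_cases hℓq : ℓ = q
  · have hPD : (P : Subgroup Cs) ≤ (Subgroup.centralizer {(w : G)}).subgroupOf Cs := by
      intro e he
      rw [Subgroup.mem_subgroupOf, Subgroup.mem_centralizer_singleton_iff]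
      exact hwcomm _ (hS (Subgroup.mem_map_of_mem _ he))
    rw [hℓq] at hdvd
    exact P.not_dvd_index (dvd_trans hdvd (Subgroup.index_dvd_of_le hPD))
  · obtain T : Sylow ℓ Cs := default
    have hTD : (T : Subgroup Cs) ≤ (Subgroup.centralizer {(w : G)}).subgroupOf Cs := by
      intro e he
      rw [Subgroup.mem_subgroupOf, Subgroup.mem_centralizer_singleton_iff]
      obtain ⟨k, hk⟩ := T.2 ⟨e, he⟩
      have hk' : (e : G) ^ (ℓ ^ k) = 1 := by
        have := congrArg Subtype.val (congrArg Subtype.val hk)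
        simpa using this
      have heq : ¬ q ∣ orderOf (e : G) := by
        intro hdq
        have h1 : q ∣ ℓ ^ k := dvd_trans hdq (orderOf_dvd_of_pow_eq_one hk')
        have h2 : q ∣ ℓ := hq.dvd_of_dvd_pow h1
        exact hℓq ((Nat.prime_dvd_prime_iff_eq hq hℓ).mp h2).symm
      exact (B1 (e : G) e.2 heq (w : G) bw hbw').eq
    exact T.not_dvd_index (dvd_trans hdvd (Subgroup.index_dvd_of_le hTD))

/-- The quotient of a CN-group by a normal `q`-subgroup is a CN-group. -/
theorem qcase [Finite G] (hCN : Cfsg.IsCNGroup G) {q : ℕ} [Fact q.Prime] (H : Subgroup G)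
    [H.Normal] (hH : IsPGroup q H) : Cfsg.IsCNGroup (G ⧸ H) := by
  have hq := (Fact.out : q.Prime)
  by_cases hHne : H = ⊥
  · subst hHne
    exact cn_of_equiv (QuotientGroup.quotientBot (G := G)).symm hCN
  intro gb hgb
  obtain ⟨g, rfl⟩ := QuotientGroup.mk'_surjective H gb
  obtain ⟨a, m, hm, hgm⟩ :=
    Nat.exists_eq_pow_mul_and_not_dvd (orderOf_pos g).ne' q hq.ne_one
  have hxm : (g ^ (q ^ a)) ^ m = 1 := by
    rw [← pow_mul, ← hgm, pow_orderOf_eq_one]
  have hcopm : Nat.Coprime m q := ((Nat.Prime.coprime_iff_not_dvd hq).mpr hm).symm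
  by_cases hxH : g ^ (q ^ a) ∈ H
  · -- Case B
    have hx1 : g ^ (q ^ a) = 1 := by
      obtain ⟨b, hb⟩ := hH ⟨_, hxH⟩
      have hb' : (g ^ (q ^ a)) ^ (q ^ b) = 1 := by
        have := congrArg Subtype.val hb
        simpa using this
      have h1 : orderOf (g ^ (q ^ a)) ∣ m := orderOf_dvd_of_pow_eq_one hxm
      have h2 : orderOf (g ^ (q ^ a)) ∣ q ^ b := orderOf_dvd_of_pow_eq_one hb'
      have h3 : orderOf (g ^ (q ^ a)) = 1 :=
        Nat.eq_one_of_dvd_coprimes (Nat.Coprime.pow_right b hcopm) h1 h2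
      exact orderOf_eq_one_iff.mp h3
    have hgH : g ∉ H := fun h => hgb ((QuotientGroup.eq_one_iff g).mpr h)
    exact caseB hCN H hH hHne g hgH hx1
  · -- Case A
    have hx1 : g ^ (q ^ a) ≠ 1 := fun h => hxH (h ▸ H.one_mem)
    have hxq : (orderOf (g ^ (q ^ a))).Coprime q :=
      Nat.Coprime.coprime_dvd_left (orderOf_dvd_of_pow_eq_one hxm) hcopm
    refine nil_of_le ?_ (caseA hCN H hH _ hx1 hxq)
    intro c hc
    rw [Subgroup.mem_centralizer_singleton_iff] at hc ⊢
    rw [map_pow]
    exact ((show Commute c ((QuotientGroup.mk' H) g) from hc).pow_right _).eq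

end basics

/-- Passing to the quotient in two steps. -/
theorem two_step {G : Type u} [Group G] (Q H : Subgroup G) [Q.Normal] [H.Normal] (hQH : Q ≤ H)
    (h : Cfsg.IsCNGroup ((G ⧸ Q) ⧸ H.map (QuotientGroup.mk' Q))) : Cfsg.IsCNGroup (G ⧸ H) :=
  cn_of_equiv (QuotientGroup.quotientQuotientEquivQuotient Q H hQH) h

theorem commutator_ne_self_of_solvable {G : Type*} [Group G] (H : Subgroup G)
    (hHs : Group.IsSolvable H) (hH : H ≠ ⊥) : ⁅H, H⁆ ≠ H := by
  intro heq
  have hnt : Nontrivial H := (Subgroup.nontrivial_iff_ne_bot H).mpr hH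
  have hlt := Group.IsSolvable.commutator_lt_top_of_nontrivial H
  apply hlt.ne
  apply Subgroup.map_injective H.subtype_injective
  rw [Subgroup.map_subtype_commutator, heq, ← MonoidHom.range_eq_map, Subgroup.range_subtype]

theorem main : ∀ (n : ℕ) (G : Type u) [Group G] [Finite G], Cfsg.IsCNGroup G →
    ∀ (H : Subgroup G) [H.Normal], Group.IsSolvable H → Nat.card H = n →
      Cfsg.IsCNGroup (G ⧸ H) := by
  intro n
  induction n using Nat.strong_induction_on with
  | _ n ih =>
  intro G _ _ hCN H _ hHs hcard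
  by_cases hqex : ∃ q : ℕ, q.Prime ∧ IsPGroup q H
  · obtain ⟨q, hq, hH⟩ := hqex
    have : Fact q.Prime := ⟨hq⟩
    exact qcase hCN H hH
  · have hHne : H ≠ ⊥ := by
      intro h
      apply hqex
      refine ⟨2, Nat.prime_two, ?_⟩
      rw [h]
      exact IsPGroup.of_bot
    have hexQ : ∃ Q : Subgroup G, Q.Normal ∧ Q ≤ H ∧ Q ≠ ⊥ ∧ Q ≠ H := by
      by_cases hcomm : ⁅H, H⁆ = ⊥
      · -- abelian case
        have hab : ∀ x ∈ H, ∀ y ∈ H, x * y = y * x := by
          intro x hx y hy
          have := Subgroup.commutator_eq_bot_iff_le_centralizer.mp hcomm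
          exact ((Subgroup.mem_centralizer_iff.mp (this hx)) y hy).symm
        have hcard1 : 1 < Nat.card H := by
          rw [Subgroup.one_lt_card_iff_ne_bot]; exact hHne
        obtain ⟨q, hq, hqd⟩ := Nat.exists_prime_and_dvd hcard1.ne'
        have hqF : Fact q.Prime := ⟨hq⟩
        obtain ⟨x, hx⟩ := exists_prime_orderOf_dvd_card' q hqd
        let T : Subgroup G :=
          { carrier := {x | x ∈ H ∧ x ^ q = 1}
            mul_mem' := by
              rintro a b ⟨ha, ha'⟩ ⟨hb, hb'⟩
              refine ⟨H.mul_mem ha hb, ?_⟩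
              have hc : Commute a b := hab a ha b hb
              rw [hc.mul_pow, ha', hb', one_mul]
            one_mem' := ⟨H.one_mem, one_pow _⟩
            inv_mem' := by
              rintro a ⟨ha, ha'⟩
              exact ⟨H.inv_mem ha, by rw [inv_pow, ha', inv_one]⟩ }
        have hTn : T.Normal := by
          constructor
          rintro n ⟨hn, hn'⟩ g
          refine ⟨‹H.Normal›.conj_mem n hn g, ?_⟩
          rw [conj_pow, hn', mul_one, mul_inv_cancel]
        refine ⟨T, hTn, fun a ha => ha.1, ?_, ?_⟩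
        · intro hT
          have hxT : (x : G) ∈ T := by
            refine ⟨x.2, ?_⟩
            have : x ^ q = 1 := by rw [← hx]; exact pow_orderOf_eq_one x
            have h2 := congrArg Subtype.val this
            simpa using h2
          rw [hT, Subgroup.mem_bot] at hxT
          have : x = 1 := Subtype.ext hxT
          rw [this, orderOf_one] at hx
          exact hq.one_lt.ne hx
        · intro hT
          apply hqex
          refine ⟨q, hq, ?_⟩
          intro y
          refine ⟨1, ?_⟩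
          have hy : (y : G) ∈ T := by rw [hT]; exact y.2
          rw [pow_one]
          exact Subtype.ext (by simpa using hy.2)
      · exact ⟨⁅H, H⁆, inferInstance, Subgroup.commutator_le_left H H, hcomm,
          commutator_ne_self_of_solvable H hHs hHne⟩
    obtain ⟨Q, hQn, hQH, hQ1, hQH'⟩ := hexQ
    have hQs : Group.IsSolvable Q :=
      Group.isSolvable_of_isSolvable_injective (Subgroup.inclusion_injective hQH)
    have hcQ : Nat.card Q < Nat.card H := by
      rcases Nat.lt_or_ge (Nat.card Q) (Nat.card H) with h | h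
      · exact h
      · exact absurd (Subgroup.eq_of_le_of_card_ge hQH h) hQH'
    have hCNQ : Cfsg.IsCNGroup (G ⧸ Q) := ih (Nat.card Q) (hcard ▸ hcQ) G hCN Q hQs rfl
    have hHbn : (H.map (QuotientGroup.mk' Q)).Normal :=
      Subgroup.Normal.map inferInstance _ (QuotientGroup.mk'_surjective Q)
    have hHbs : Group.IsSolvable (H.map (QuotientGroup.mk' Q)) :=
      Group.isSolvable_of_surjective (f := (QuotientGroup.mk' Q).subgroupMap H)
        ((QuotientGroup.mk' Q).subgroupMap_surjective H)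
    have hcHb : Nat.card (H.map (QuotientGroup.mk' Q)) < Nat.card H := by
      have h1 := Cfsg.Agent.Lib.Lead_SZ.card_map_of_le Q H hQH
      have h2 : 1 < Nat.card Q := by
        rw [Subgroup.one_lt_card_iff_ne_bot]; exact hQ1
      have h3 : 0 < Nat.card (H.map (QuotientGroup.mk' Q)) := Nat.card_pos
      nlinarith
    have h3 := ih (Nat.card (H.map (QuotientGroup.mk' Q))) (hcard ▸ hcHb) (G ⧸ Q) hCNQ
      (H.map (QuotientGroup.mk' Q)) hHbs rfl
    exact two_step Q H hQH h3

/-- A factor group of a finite CN-group by a soluble normal subgroup is again a CN-group. -/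
theorem result {G : Type*} [Group G] [Finite G] (hCN : Cfsg.IsCNGroup G) (H : Subgroup G) [H.Normal] (hH : Group.IsSolvable H) :
    Cfsg.IsCNGroup (G ⧸ H) := by
  exact main (Nat.card H) G hCN H hH rfl

end Cfsg.Agent.S1473
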