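import Cfsg.Statements.S1475
import Mathlib
import Cfsg.Agent.Lib.Lead_Hall
import Cfsg.Agent.Lib.Lead_SZ
import Cfsg.Agent.Lib.Helper7_Fpf3

set_option autoImplicit false
open Cfsg

namespace Cfsg.Agent.S1475

open Cfsg.Agent.Lib.Lead_SZ Cfsg.Agent.Lib.Helper7_Fpf Cfsg.Agent.Lib.Helper7_Fpf3

theorem not_isPrimePow_of_two_primes {n s t : ℕ} (hs : s.Prime) (ht : t.Prime) (hst : s ≠ t)
    (hsn : s ∣ n) (htn : t ∣ n) : ¬ IsPrimePow n := by
  intro h
  rw [isPrimePow_nat_iff] at h
  obtain ⟨r, k, hr, hk, rfl⟩ := h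
  have h1 := (Nat.prime_dvd_prime_iff_eq hs hr).mp (hs.dvd_of_dvd_pow hsn)
  have h2 := (Nat.prime_dvd_prime_iff_eq ht hr).mp (ht.dvd_of_dvd_pow htn)
  exact hst (h1.trans h2.symm)


/-- Let G be a finite solvable group such that the order of every element is a prime power (1 included). Then at most two distinct primes divide the order of G. -/
theorem result {G : Type*} [Group G] [Finite G] [Group.IsSolvable G] (h : ∀ g : G, IsPrimePow (orderOf g) ∨ g = 1) :
    (Nat.card G).primeFactors.card ≤ 2 := by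
  classical
  by_contra hcon
  push_neg at hcon
  have hGpos : 0 < Nat.card G := Nat.card_pos
  haveI : Nontrivial G := by
    rw [← Finite.one_lt_card_iff_nontrivial]
    by_contra h1
    have : Nat.card G = 1 := by omega
    rw [this] at hcon
    simp at hcon
  obtain ⟨p, hp, P, hPn, hPp, hPne⟩ := exists_normal_pgroup G
  haveI := Fact.mk hp
  have her : 1 < ((Nat.card G).primeFactors.erase p).card := by
    have := Finset.pred_card_le_card_erase (s := (Nat.card G).primeFactors) (a := p)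
    omega
  obtain ⟨q, hq, r, hr, hqr⟩ := Finset.one_lt_card.mp her
  rw [Finset.mem_erase, Nat.mem_primeFactors] at hq hr
  obtain ⟨hqp, hqP, hqG, -⟩ := hq
  obtain ⟨hrp, hrP, hrG, -⟩ := hr
  set n := p ^ (Nat.card G).factorization p with hn
  set m := Nat.card G / n with hm
  have hmn : Nat.card G = m * n := (Nat.div_mul_cancel (Nat.ordProj_dvd _ p)).symm
  have hcop : m.Coprime n := Nat.Coprime.pow_right _ (Nat.coprime_ordCompl hp hGpos.ne').symm
  obtain ⟨⟨H, hH⟩, -, -⟩ := Cfsg.Agent.Lib.Lead_Hall.hall G m n hmn hcop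
  have hqm : q ∣ m := by
    have h1 : q ∣ m * n := hmn ▸ hqG
    refine (Nat.Coprime.dvd_of_dvd_mul_right ?_ h1)
    exact Nat.Coprime.pow_right _ ((Nat.coprime_primes hqP hp).mpr hqp)
  have hrm : r ∣ m := by
    have h1 : r ∣ m * n := hmn ▸ hrG
    refine (Nat.Coprime.dvd_of_dvd_mul_right ?_ h1)
    exact Nat.Coprime.pow_right _ ((Nat.coprime_primes hrP hp).mpr hrp)
  have hpm : ¬ p ∣ m := by
    intro hpm
    have h1 : p ∣ Nat.gcd m n := Nat.dvd_gcd hpm (dvd_pow_self p
      (hp.factorization_pos_of_dvd hGpos.ne' (by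
        obtain ⟨x, hx⟩ := (Subgroup.ne_bot_iff_exists_ne_one.mp hPne)
        obtain ⟨k, hk⟩ := (IsPGroup.iff_orderOf.mp hPp) x
        have hk0 : k ≠ 0 := by
          intro h0
          rw [h0, pow_zero, orderOf_eq_one_iff] at hk
          exact hx hk
        have h2 : p ∣ orderOf x := hk ▸ dvd_pow_self p hk0
        exact h2.trans ((orderOf_dvd_natCard x).trans (Subgroup.card_subgroup_dvd_card P)))).ne')
    rw [hcop] at h1
    exact hp.one_lt.ne' (Nat.dvd_one.mp h1)
  have hHP : H ≤ Subgroup.normalizer (P : Set G) := by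
    rw [Subgroup.normalizer_eq_top_iff.mpr hPn]
    exact le_top
  -- elements of H have order coprime to p
  have hHord : ∀ x ∈ H, (orderOf x).Coprime p := by
    intro x hx
    have h1 : orderOf x ∣ m := by
      rw [← hH]
      have := orderOf_dvd_natCard (⟨x, hx⟩ : H)
      rwa [← Subgroup.orderOf_coe] at this
    rw [Nat.coprime_comm, Nat.Prime.coprime_iff_not_dvd hp]
    exact fun h2 => hpm (h2.trans h1)
  have hfpf : ∀ x ∈ H, x ≠ 1 → P ⊓ Subgroup.centralizer {x} = ⊥ := by
    intro x hx hx1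
    rw [eq_bot_iff]
    intro y hy
    rw [Subgroup.mem_bot]
    by_contra hy1
    obtain ⟨hyP, hyc⟩ := Subgroup.mem_inf.mp hy
    rw [Subgroup.mem_centralizer_singleton_iff] at hyc
    obtain ⟨k, hk⟩ := (IsPGroup.iff_orderOf.mp hPp) ⟨y, hyP⟩
    rw [Subgroup.orderOf_mk] at hk
    have hk0 : k ≠ 0 := by
      intro h0
      rw [h0, pow_zero, orderOf_eq_one_iff] at hk
      exact hy1 hk
    have hcom : Commute x y := by
      first | exact hyc | exact hyc.symm
    have hco : (orderOf x).Coprime (orderOf y) := by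
      rw [hk]
      exact Nat.Coprime.pow_right _ (hHord x hx)
    have hord := hcom.orderOf_mul_eq_mul_orderOf_of_coprime hco
    have hx1' : orderOf x ≠ 1 := fun h1 => hx1 (orderOf_eq_one_iff.mp h1)
    obtain ⟨s, hs, hsx⟩ := Nat.exists_prime_and_dvd hx1'
    have hsp : s ≠ p := by
      rintro rfl
      have := Nat.Coprime.eq_one_of_dvd (hHord x hx).symm hsx
      exact hs.one_lt.ne' this
    have hpy : p ∣ orderOf y := hk ▸ dvd_pow_self p hk0
    have hnpp := not_isPrimePow_of_two_primes hs hp hsp (hord ▸ Dvd.dvd.mul_right hsx _)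
      (hord ▸ Dvd.dvd.mul_left hpy _)
    rcases h (x * y) with h1 | h1
    · exact hnpp h1
    · rw [h1, orderOf_one] at hord
      have : orderOf x = 1 := Nat.eq_one_of_mul_eq_one_right hord.symm
      exact hx1' this
  letI : MulDistribMulAction H P := Cfsg.Agent.Lib.Helper6_ConjAct.conjNormalizer H P hHP
  have hf : Fpf H P := fpf_of_internal H P hHP hfpf
  haveI : Nontrivial P := (Subgroup.nontrivial_iff_ne_bot P).mpr hPne
  haveI : Nontrivial H := by
    rw [← Finite.one_lt_card_iff_nontrivial, hH]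
    exact lt_of_lt_of_le hqP.one_lt (Nat.le_of_dvd (Nat.pos_of_ne_zero (fun h0 => by
      rw [h0] at hmn; omega)) hqm)
  have hc := center_ne_bot hf
  obtain ⟨z, hz1⟩ := (Subgroup.ne_bot_iff_exists_ne_one).mp hc
  -- `z` is a nontrivial central element of `H`
  have hz1' : ((z : H) : G) ≠ 1 := fun h0 => hz1 (Subtype.ext (Subtype.ext h0))
  have hzpp : IsPrimePow (orderOf ((z : H) : G)) := (h _).resolve_right hz1'
  rw [isPrimePow_nat_iff] at hzpp
  obtain ⟨s, k, hs, hk, hsk⟩ := hzpp
  -- choose a prime t ≠ s dividing m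
  obtain ⟨t, ht, htm, hts⟩ : ∃ t : ℕ, t.Prime ∧ t ∣ m ∧ t ≠ s := by
    by_cases hqs : q = s
    · exact ⟨r, hrP, hrm, fun h0 => hqr (hqs.trans h0.symm)⟩
    · exact ⟨q, hqP, hqm, hqs⟩
  haveI := Fact.mk ht
  obtain ⟨y, hy⟩ := exists_prime_orderOf_dvd_card' (G := H) t (hH ▸ htm)
  have hcom : Commute ((z : H) : G) (y : G) := by
    have h1 := Subgroup.mem_center_iff.mp z.2 y
    have h2 := congrArg Subtype.val h1
    exact h2.symm
  have hyo : orderOf (y : G) = t := by rw [Subgroup.orderOf_coe]; exact hy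
  have hco : (orderOf ((z : H) : G)).Coprime (orderOf (y : G)) := by
    rw [← hsk, hyo]
    exact Nat.Coprime.pow_left _ ((Nat.coprime_primes hs ht).mpr (Ne.symm hts))
  have hord := hcom.orderOf_mul_eq_mul_orderOf_of_coprime hco
  have hsd : s ∣ orderOf ((z : H) : G) := hsk ▸ dvd_pow_self s hk.ne'
  have hnpp := not_isPrimePow_of_two_primes hs ht (Ne.symm hts) (hord ▸ Dvd.dvd.mul_right hsd _)
    (hord ▸ Dvd.dvd.mul_left (hyo ▸ dvd_rfl) _)
  rcases h (((z : H) : G) * (y : G)) with h1 | h1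
  · exact hnpp h1
  · rw [h1, orderOf_one, hyo] at hord
    have : t = 1 := Nat.eq_one_of_mul_eq_one_left hord.symm
    exact ht.one_lt.ne' this

end Cfsg.Agent.S1475
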