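import Cfsg.Statements.S1477
import Mathlib
import Cfsg.Agent.S1473
import Cfsg.Agent.Lib.Helper2_NilDecomp
import Cfsg.Agent.Lib.Lead_Coprime

set_option autoImplicit false
open Cfsg

namespace Cfsg.Agent.S1477

open Cfsg.Agent.S1473

variable {G : Type*} [Group G]

/-- The join of two elementwise-commuting nilpotent subgroups is nilpotent. -/
theorem nil_sup {A B : Subgroup G} (hA : Group.IsNilpotent A) (hB : Group.IsNilpotent B)
    (hAB : ∀ a ∈ A, ∀ b ∈ B, a * b = b * a) : Group.IsNilpotent (A ⊔ B : Subgroup G) := by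
  have hc : ∀ (a : A) (b : B), Commute (A.subtype a) (B.subtype b) := fun a b => hAB a a.2 b b.2
  have hr : (MonoidHom.noncommCoprod A.subtype B.subtype hc).range = A ⊔ B := by
    rw [MonoidHom.noncommCoprod_range, Subgroup.range_subtype, Subgroup.range_subtype]
  have h1 : Group.IsNilpotent (A × B) := inferInstance
  have h2 : Group.IsNilpotent (MonoidHom.noncommCoprod A.subtype B.subtype hc).range :=
    Group.nilpotent_of_surjective (MonoidHom.noncommCoprod A.subtype B.subtype hc).rangeRestrict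
      (MonoidHom.rangeRestrict_surjective _)
  exact hr ▸ h2

/-- The `q`-part and `q'`-part of a nilpotent subgroup. -/
theorem nil_decomp [Finite G] (q : ℕ) [Fact q.Prime] {H : Subgroup G}
    (hH : Group.IsNilpotent H) :
    ∃ S₁ K : Subgroup G, S₁ ≤ H ∧ K ≤ H ∧ IsPGroup q S₁ ∧
      (∀ h ∈ H, ∀ k : ℕ, h ^ (q ^ k) = 1 → h ∈ S₁) ∧
      (∀ y ∈ K, ¬ q ∣ orderOf y) ∧ (∀ y ∈ H, ¬ q ∣ orderOf y → y ∈ K) ∧ H ≤ S₁ ⊔ K := by
  have hq := (Fact.out : q.Prime)
  have hinst : Group.IsNilpotent H := hH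
  obtain ⟨P, Q, hcard, hQq, hQmem, -⟩ :=
    Cfsg.Agent.Lib.Helper2_NilDecomp.nilpotent_p_decomp (E := H) q
  refine ⟨(P : Subgroup H).map H.subtype, Q.map H.subtype, Subgroup.map_subtype_le _,
    Subgroup.map_subtype_le _, P.2.map _, ?_, ?_, ?_, ?_⟩
  · intro h hh k hk
    have hk' : (⟨h, hh⟩ : H) ^ (q ^ k) = 1 := Subtype.ext (by simpa using hk)
    obtain ⟨P', hP'⟩ := (isPGroup_zpowers hk').exists_le_sylow
    have hPn : (P : Subgroup H).Normal := inferInstance
    have hu := Sylow.unique_of_normal P hPn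
    have hPP' : P' = P := Subsingleton.elim _ _
    rw [hPP'] at hP'
    exact ⟨⟨h, hh⟩, hP' (Subgroup.mem_zpowers _), rfl⟩
  · rintro y ⟨y', hy', rfl⟩
    have := (hQmem y').mp hy'
    rwa [Subgroup.coe_subtype, Subgroup.orderOf_coe]
  · intro y hy hyq
    refine ⟨⟨y, hy⟩, (hQmem _).mpr ?_, rfl⟩
    rwa [← Subgroup.orderOf_coe]
  · -- P ⊔ Q = ⊤
    have hsup : (P : Subgroup H) ⊔ Q = ⊤ := by
      obtain ⟨k, hk⟩ := IsPGroup.iff_card.mp P.2
      have hcop : (Nat.card (P : Subgroup H)).Coprime (Nat.card Q) := by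
        rw [hk]
        exact Nat.Coprime.pow_left k ((Nat.Prime.coprime_iff_not_dvd hq).mpr hQq)
      have h1 : Nat.card (P : Subgroup H) ∣ Nat.card ((P : Subgroup H) ⊔ Q : Subgroup H) :=
        Subgroup.card_dvd_of_le le_sup_left
      have h2 : Nat.card Q ∣ Nat.card ((P : Subgroup H) ⊔ Q : Subgroup H) :=
        Subgroup.card_dvd_of_le le_sup_right
      have h3 := Nat.Coprime.mul_dvd_of_dvd_of_dvd hcop h1 h2
      rw [hcard] at h3
      apply Subgroup.eq_top_of_le_card
      exact Nat.le_of_dvd Nat.card_pos h3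
    intro h hh
    have : (⟨h, hh⟩ : H) ∈ (P : Subgroup H) ⊔ Q := by rw [hsup]; exact Subgroup.mem_top _
    have h2 : h ∈ ((P : Subgroup H) ⊔ Q).map H.subtype := ⟨⟨h, hh⟩, this, rfl⟩
    rwa [Subgroup.map_sup] at h2

/-- A maximal nilpotent subgroup of a CN-group containing a non-trivial `q`-element contains a
Sylow `q`-subgroup of the whole group, which contains all its `q`-elements. -/
theorem exists_sylow_le [Finite G] (hCN : Cfsg.IsCNGroup G) {q : ℕ} [Fact q.Prime]
    {H : Subgroup G} (hH : Group.IsNilpotent H)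
    (hmax : ∀ L : Subgroup G, Group.IsNilpotent L → H ≤ L → L = H)
    {x : G} (hxH : x ∈ H) (hx1 : x ≠ 1) {k : ℕ} (hxq : x ^ (q ^ k) = 1) :
    ∃ S : Sylow q G, (S : Subgroup G) ≤ H ∧ ∀ h ∈ H, ∀ k : ℕ, h ^ (q ^ k) = 1 → h ∈ S := by
  obtain ⟨S₁, K, hS₁H, hKH, hS₁q, hS₁all, hKq, hKall, hHle⟩ := nil_decomp q hH
  obtain ⟨S, hS⟩ := hS₁q.exists_le_sylow
  have hxS : x ∈ S := hS (hS₁all x hxH k hxq)
  have hKS : ∀ y ∈ K, ∀ v ∈ S, Commute y v := by
    intro y hy
    exact cn_key hCN S hxS hx1 (hKq y hy) (nil_commute hH hxH (hKH hy) hxq (hKq y hy))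
  have hL : Group.IsNilpotent ((S : Subgroup G) ⊔ K : Subgroup G) :=
    nil_sup S.2.isNilpotent (nil_of_le hKH hH) (fun a ha b hb => (hKS b hb a ha).eq.symm)
  have hHL : H ≤ (S : Subgroup G) ⊔ K := hHle.trans (sup_le_sup_right hS K)
  have hLH := hmax _ hL hHL
  refine ⟨S, ?_, ?_⟩
  · rw [← hLH]; exact le_sup_left
  · intro h hh k' hk'
    exact hS (hS₁all h hh k' hk')

/-- In a maximal nilpotent subgroup `H` of a CN-group, the centraliser of a non-trivial central
element of the Sylow `q`-subgroup of `H` is `H`. -/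
theorem centralizer_eq [Finite G] (hCN : Cfsg.IsCNGroup G) {q : ℕ} [Fact q.Prime]
    {H : Subgroup G} (hH : Group.IsNilpotent H)
    (hmax : ∀ L : Subgroup G, Group.IsNilpotent L → H ≤ L → L = H)
    (S : Sylow q G) (hSH : (S : Subgroup G) ≤ H)
    (hSall : ∀ h ∈ H, ∀ k : ℕ, h ^ (q ^ k) = 1 → h ∈ S) {z : G} (hzS : z ∈ S) (hz1 : z ≠ 1)
    (hzc : ∀ s ∈ S, s * z = z * s) : Subgroup.centralizer {z} = H := by
  apply hmax _ (hCN z hz1)
  obtain ⟨S₁, K, hS₁H, hKH, hS₁q, hS₁all, hKq, hKall, hHle⟩ := nil_decomp q hH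
  obtain ⟨kz, hkz⟩ := S.2 ⟨z, hzS⟩
  have hkz' : z ^ (q ^ kz) = 1 := by
    have := congrArg Subtype.val hkz
    simpa using this
  refine hHle.trans (sup_le ?_ ?_)
  · intro s hs
    obtain ⟨ks, hks⟩ := hS₁q ⟨s, hs⟩
    have hks' : s ^ (q ^ ks) = 1 := by
      have := congrArg Subtype.val hks
      simpa using this
    rw [Subgroup.mem_centralizer_singleton_iff]
    exact hzc s (hSall s (hS₁H hs) ks hks')
  · intro y hy
    rw [Subgroup.mem_centralizer_singleton_iff]
    exact (nil_commute hH (hSH hzS) (hKH hy) hkz' (hKq y hy)).eq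

/-- Conjugates of maximal nilpotent subgroups are maximal nilpotent. -/
theorem conj_max {H : Subgroup G} (hH : Group.IsNilpotent H)
    (hmax : ∀ L : Subgroup G, Group.IsNilpotent L → H ≤ L → L = H) (g : G) :
    Group.IsNilpotent (H.map (MulAut.conj g).toMonoidHom) ∧
      ∀ L : Subgroup G, Group.IsNilpotent L → H.map (MulAut.conj g).toMonoidHom ≤ L →
        L = H.map (MulAut.conj g).toMonoidHom := by
  refine ⟨nil_map _ hH, ?_⟩
  intro L hL hle
  have hL' : Group.IsNilpotent (L.map (MulAut.conj g⁻¹).toMonoidHom) := nil_map _ hL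
  have hHL' : H ≤ L.map (MulAut.conj g⁻¹).toMonoidHom := by
    intro h hh
    refine ⟨g * h * g⁻¹, hle ⟨h, hh, rfl⟩, ?_⟩
    simp only [MulEquiv.coe_toMonoidHom, MulAut.conj_apply, inv_inv]
    group
  have heq := hmax _ hL' hHL'
  apply le_antisymm _ hle
  intro l hl
  have h1 : g⁻¹ * l * g ∈ L.map (MulAut.conj g⁻¹).toMonoidHom :=
    ⟨l, hl, by simp⟩
  rw [heq] at h1
  refine ⟨g⁻¹ * l * g, h1, ?_⟩
  simp only [MulEquiv.coe_toMonoidHom, MulAut.conj_apply]
  group

/-- Decomposition of an element into commuting `q`- and `q'`-parts, both powers of it. -/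
theorem elt_decomp [Finite G] (q : ℕ) [Fact q.Prime] (c : G) :
    ∃ a b k : ℕ, c = c ^ a * c ^ b ∧ (c ^ a) ^ (q ^ k) = 1 ∧ ¬ q ∣ orderOf (c ^ b) := by
  have hq := (Fact.out : q.Prime)
  obtain ⟨k, m, hm, hn⟩ :=
    Nat.exists_eq_pow_mul_and_not_dvd (orderOf_pos c).ne' q hq.ne_one
  have hcop : Nat.Coprime (q ^ k) m :=
    Nat.Coprime.pow_left k ((Nat.Prime.coprime_iff_not_dvd hq).mpr hm)
  obtain ⟨a, ha1, ha0⟩ := Nat.chineseRemainder hcop 1 0
  obtain ⟨b, hb0, hb1⟩ := Nat.chineseRemainder hcop 0 1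
  refine ⟨a, b, k, ?_, ?_, ?_⟩
  · rw [← pow_add]
    conv_lhs => rw [← pow_one c]
    rw [pow_eq_pow_iff_modEq, hn]
    apply (Nat.modEq_and_modEq_iff_modEq_mul hcop).mp
    constructor
    · have := ha1.add hb0
      simpa using this.symm
    · have := ha0.add hb1
      simpa using this.symm
  · rw [← pow_mul]
    apply orderOf_dvd_iff_pow_eq_one.mp
    rw [hn, mul_comm a]
    exact Nat.mul_dvd_mul_left _ ((Nat.modEq_zero_iff_dvd).mp ha0)
  · intro hdvd
    apply hm
    have h1 : (c ^ b) ^ m = 1 := by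
      rw [← pow_mul]
      apply orderOf_dvd_iff_pow_eq_one.mp
      rw [hn]
      exact Nat.mul_dvd_mul_right ((Nat.modEq_zero_iff_dvd).mp hb0) _
    exact dvd_trans hdvd (orderOf_dvd_of_pow_eq_one h1)

/-- A non-trivial central element of a non-trivial Sylow subgroup. -/
theorem exists_central [Finite G] {q : ℕ} [Fact q.Prime] (S : Sylow q G) {x : G} (hxS : x ∈ S)
    (hx1 : x ≠ 1) : ∃ z ∈ S, z ≠ 1 ∧ ∀ s ∈ S, s * z = z * s := by
  have hSnil : Group.IsNilpotent (S : Subgroup G) := S.2.isNilpotent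
  have hSnt : (⊤ : Subgroup (S : Subgroup G)) ≠ ⊥ := by
    intro h
    have : (⟨x, hxS⟩ : (S : Subgroup G)) ∈ (⊥ : Subgroup (S : Subgroup G)) :=
      h ▸ Subgroup.mem_top _
    rw [Subgroup.mem_bot] at this
    exact hx1 (congrArg Subtype.val this)
  obtain ⟨w, -, hwc, hw1⟩ :=
    Cfsg.Agent.Lib.Helper4_Kieler0.normal_inf_center_ne_bot' (⊤ : Subgroup (S : Subgroup G)) hSnt
  refine ⟨(w : G), w.2, fun h => hw1 (Subtype.ext h), ?_⟩
  intro s hs
  have := Subgroup.mem_center_iff.mp hwc ⟨s, hs⟩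
  exact congrArg Subtype.val this

/-- Let G be a finite group in which every non-identity element has nilpotent centralizer, and H a nilpotent subgroup not properly contained in any nilpotent subgroup. Then the order of H is coprime to its index; if the order of H is not a prime power then H ∩ gHg⁻¹ = 1 whenever gHg⁻¹ ≠ H; and if H ∩ gHg⁻¹ = 1 whenever gHg⁻¹ ≠ H, then C_G(x) ≤ H for every non-identity x ∈ H. -/
theorem result {G : Type*} [Group G] [Finite G] (hCN : Cfsg.IsCNGroup G) (H : Subgroup G) (hH : Group.IsNilpotent H)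
    (hmax : ∀ L : Subgroup G, Group.IsNilpotent L → H ≤ L → L = H) :
    (Nat.card H).Coprime H.index ∧
      (¬ IsPrimePow (Nat.card H) → Nat.card H ≠ 1 → ∀ g : G, H.map (MulAut.conj g).toMonoidHom ≠ H → H ⊓ H.map (MulAut.conj g).toMonoidHom = ⊥) ∧
      ((∀ g : G, H.map (MulAut.conj g).toMonoidHom ≠ H → H ⊓ H.map (MulAut.conj g).toMonoidHom = ⊥) → ∀ x ∈ H, x ≠ 1 → Subgroup.centralizer ({x} : Set G) ≤ H) := by
  refine ⟨?_, ?_, ?_⟩
  · -- Hall property
    by_contra hcon
    obtain ⟨q, hq, hqH, hqi⟩ := Nat.Prime.not_coprime_iff_dvd.mp hcon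
    have hqF : Fact q.Prime := ⟨hq⟩
    obtain ⟨x', hx'⟩ := exists_prime_orderOf_dvd_card' (G := H) q hqH
    have hx1 : (x' : G) ≠ 1 := by
      intro h
      have : x' = 1 := Subtype.ext h
      rw [this, orderOf_one] at hx'
      exact hq.one_lt.ne hx'
    have hxq : (x' : G) ^ (q ^ 1) = 1 := by
      rw [pow_one]
      have : x' ^ q = 1 := by rw [← hx']; exact pow_orderOf_eq_one x'
      have h2 := congrArg Subtype.val this
      simpa using h2
    obtain ⟨S, hSH, -⟩ := exists_sylow_le hCN hH hmax x'.2 hx1 hxq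
    exact S.not_dvd_index (dvd_trans hqi (Subgroup.index_dvd_of_le hSH))
  · -- TI property when the order is not a prime power
    intro hnpp hne1 g hg
    by_contra hcon
    obtain ⟨x₀, hx₀, hx₀1⟩ := (H ⊓ H.map (MulAut.conj g).toMonoidHom).bot_or_exists_ne_one.resolve_left hcon
    -- an element of prime order in the intersection
    obtain ⟨q, hq, hqd⟩ := Nat.exists_prime_and_dvd (orderOf_eq_one_iff.not.mpr hx₀1)
    have hqF : Fact q.Prime := ⟨hq⟩
    have hord : orderOf (x₀ ^ (orderOf x₀ / q)) = q :=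
      orderOf_pow_orderOf_div (orderOf_pos x₀).ne' hqd
    set x := x₀ ^ (orderOf x₀ / q) with hxdef
    have hxI : x ∈ H ⊓ H.map (MulAut.conj g).toMonoidHom := Subgroup.pow_mem _ hx₀ _
    have hxH : x ∈ H := (Subgroup.mem_inf.mp hxI).1
    have hxHg : x ∈ H.map (MulAut.conj g).toMonoidHom := (Subgroup.mem_inf.mp hxI).2
    have hx1 : x ≠ 1 := by
      intro h
      rw [h, orderOf_one] at hord
      exact hq.one_lt.ne hord
    have hxq : x ^ (q ^ 1) = 1 := by
      rw [pow_one, ← hord]; exact pow_orderOf_eq_one x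
    -- another prime r dividing |H|
    have hr : ∃ r : ℕ, r.Prime ∧ r ∣ Nat.card H ∧ r ≠ q := by
      by_contra hcon2
      push Not at hcon2
      apply hnpp
      have h0 : Nat.card H ≠ 0 := Nat.card_pos.ne'
      have h1 := Nat.eq_prime_pow_of_unique_prime_dvd h0 (fun {d} hd hdvd => hcon2 d hd hdvd)
      rw [h1]
      refine hq.isPrimePow.pow ?_
      intro h2
      rw [h2, pow_zero] at h1
      exact hne1 h1
    obtain ⟨r, hrp, hrH, hrq⟩ := hr
    have hrF : Fact r.Prime := ⟨hrp⟩
    obtain ⟨y', hy'⟩ := exists_prime_orderOf_dvd_card' (G := H) r hrH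
    have hyord : orderOf (y' : G) = r := by rw [Subgroup.orderOf_coe]; exact hy'
    have hy1 : (y' : G) ≠ 1 := by
      intro h
      rw [h, orderOf_one] at hyord
      exact hrp.one_lt.ne hyord
    have hyq : ¬ q ∣ orderOf (y' : G) := by
      rw [hyord]
      intro h
      exact hrq ((Nat.prime_dvd_prime_iff_eq hq hrp).mp h).symm
    have hyx : Commute (y' : G) x := nil_commute hH hxH y'.2 hxq hyq
    obtain ⟨hHg, hmaxg⟩ := conj_max hH hmax g
    obtain ⟨S, hSH, hSall⟩ := exists_sylow_le hCN hH hmax hxH hx1 hxq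
    obtain ⟨S', hS'H, hS'all⟩ := exists_sylow_le hCN hHg hmaxg hxHg hx1 hxq
    have hxS : x ∈ S := hSall x hxH 1 hxq
    have hxS' : x ∈ S' := hS'all x hxHg 1 hxq
    have hyS := cn_key hCN S hxS hx1 hyq hyx
    have hyS' := cn_key hCN S' hxS' hx1 hyq hyx
    -- both Sylow subgroups lie in the nilpotent centraliser of y
    have hM : Group.IsNilpotent (Subgroup.centralizer {(y' : G)}) := hCN _ hy1
    obtain ⟨T, -, -, -, hTq, hTall, -, -, -⟩ := nil_decomp q hM
    have hST : (S : Subgroup G) ≤ T := by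
      intro s hs
      obtain ⟨ks, hks⟩ := S.2 ⟨s, hs⟩
      have hks' : s ^ (q ^ ks) = 1 := by
        have := congrArg Subtype.val hks
        simpa using this
      exact hTall s (Subgroup.mem_centralizer_singleton_iff.mpr (hyS s hs).eq.symm) ks hks'
    have hS'T : (S' : Subgroup G) ≤ T := by
      intro s hs
      obtain ⟨ks, hks⟩ := S'.2 ⟨s, hs⟩
      have hks' : s ^ (q ^ ks) = 1 := by
        have := congrArg Subtype.val hks
        simpa using this
      exact hTall s (Subgroup.mem_centralizer_singleton_iff.mpr (hyS' s hs).eq.symm) ks hks'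
    have hTS : T = S := S.is_maximal' hTq hST
    have hTS' : T = S' := S'.is_maximal' hTq hS'T
    have hSS' : (S : Subgroup G) = S' := hTS.symm.trans hTS'
    obtain ⟨z, hzS, hz1, hzc⟩ := exists_central S hxS hx1
    have h1 := centralizer_eq hCN hH hmax S hSH hSall hzS hz1 hzc
    have hzS' : z ∈ S' := by
      have : z ∈ (S' : Subgroup G) := hSS' ▸ hzS
      exact this
    have hzc' : ∀ s ∈ S', s * z = z * s := by
      intro s hs
      have : s ∈ (S : Subgroup G) := hSS'.symm ▸ hs
      exact hzc s this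
    have h2 := centralizer_eq hCN hHg hmaxg S' hS'H hS'all hzS' hz1 hzc'
    exact hg (h2.symm.trans h1)
  · -- centralisers of non-identity elements when H is TI
    intro hTI x hxH hx1 c hc
    have hcx : c * x = x * c := Subgroup.mem_centralizer_singleton_iff.mp hc
    -- c normalises H
    have hnorm : ∀ d : G, d * x = x * d → H.map (MulAut.conj d).toMonoidHom = H := by
      intro d hd
      by_contra hne
      have h1 := hTI d hne
      have h2 : x ∈ H ⊓ H.map (MulAut.conj d).toMonoidHom := by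
        refine Subgroup.mem_inf.mpr ⟨hxH, x, hxH, ?_⟩
        simp only [MulEquiv.coe_toMonoidHom, MulAut.conj_apply]
        rw [hd, mul_inv_cancel_right]
      rw [h1, Subgroup.mem_bot] at h2
      exact hx1 h2
    -- a central element of prime order
    have hHne : H ≠ ⊥ := fun h => hx1 (by rw [h, Subgroup.mem_bot] at hxH; exact hxH)
    have hinst : Group.IsNilpotent H := hH
    have hHtop : (⊤ : Subgroup H) ≠ ⊥ := by
      intro h
      have : (⟨x, hxH⟩ : H) ∈ (⊥ : Subgroup H) := h ▸ Subgroup.mem_top _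
      rw [Subgroup.mem_bot] at this
      exact hx1 (congrArg Subtype.val this)
    obtain ⟨w, -, hwc, hw1⟩ :=
      Cfsg.Agent.Lib.Helper4_Kieler0.normal_inf_center_ne_bot' (⊤ : Subgroup H) hHtop
    obtain ⟨q, hq, hqd⟩ := Nat.exists_prime_and_dvd (orderOf_eq_one_iff.not.mpr hw1)
    have hqF : Fact q.Prime := ⟨hq⟩
    have hord : orderOf (w ^ (orderOf w / q)) = q :=
      orderOf_pow_orderOf_div (orderOf_pos w).ne' hqd
    set z' := w ^ (orderOf w / q) with hz'def
    have hz'c : z' ∈ Subgroup.center H := Subgroup.pow_mem _ hwc _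
    have hzord : orderOf (z' : G) = q := by rw [Subgroup.orderOf_coe]; exact hord
    have hz1 : (z' : G) ≠ 1 := by
      intro h
      rw [h, orderOf_one] at hzord
      exact hq.one_lt.ne hzord
    have hzq : (z' : G) ^ (q ^ 1) = 1 := by
      rw [pow_one, ← hzord]; exact pow_orderOf_eq_one _
    have hzcomm : ∀ h ∈ H, h * (z' : G) = (z' : G) * h := by
      intro h hh
      have := Subgroup.mem_center_iff.mp hz'c ⟨h, hh⟩
      exact congrArg Subtype.val this
    have hCz : Subgroup.centralizer {(z' : G)} = H := by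
      apply hmax _ (hCN _ hz1)
      intro h hh
      rw [Subgroup.mem_centralizer_singleton_iff]
      exact hzcomm h hh
    obtain ⟨S, hSH, hSall⟩ := exists_sylow_le hCN hH hmax z'.2 hz1 hzq
    -- decompose c
    obtain ⟨a, b, k, hcab, hca, hcb⟩ := elt_decomp q c
    have hcax : c ^ a * x = x * c ^ a := ((show Commute c x from hcx).pow_left a).eq
    have hcbx : c ^ b * x = x * c ^ b := ((show Commute c x from hcx).pow_left b).eq
    have hC : Group.IsNilpotent (Subgroup.centralizer {x}) := hCN x hx1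
    -- the q'-part
    have hb : c ^ b ∈ H := by
      rw [← hCz, Subgroup.mem_centralizer_singleton_iff]
      refine (nil_commute hC (M := Subgroup.centralizer {x}) ?_ ?_ hzq hcb).eq
      · rw [Subgroup.mem_centralizer_singleton_iff]; exact (hzcomm x hxH).symm
      · rw [Subgroup.mem_centralizer_singleton_iff]; exact hcbx
    -- the q-part
    have ha : c ^ a ∈ H := by
      apply hSH
      have hnH := hnorm (c ^ a) hcax
      have hnH' : H.map (MulAut.conj (c ^ a)⁻¹).toMonoidHom = H :=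
        hnorm (c ^ a)⁻¹ (by
          have := hcax
          calc (c ^ a)⁻¹ * x = (c ^ a)⁻¹ * (x * c ^ a) * (c ^ a)⁻¹ := by group
            _ = (c ^ a)⁻¹ * (c ^ a * x) * (c ^ a)⁻¹ := by rw [this]
            _ = x * (c ^ a)⁻¹ := by group)
      have hnS : c ^ a ∈ Subgroup.normalizer ((S : Subgroup G) : Set G) := by
        apply Cfsg.Agent.Lib.Lead_Coprime.mem_normalizer_of_conj_mem
        · intro s hs
          obtain ⟨ks, hks⟩ := S.2 ⟨s, hs⟩
          have hks' : s ^ (q ^ ks) = 1 := by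
            have := congrArg Subtype.val hks
            simpa using this
          apply hSall _ _ ks
          · rw [conj_pow, hks', mul_one, mul_inv_cancel]
          · rw [← hnH]
            exact ⟨s, hSH hs, rfl⟩
        · intro s hs
          obtain ⟨ks, hks⟩ := S.2 ⟨s, hs⟩
          have hks' : s ^ (q ^ ks) = 1 := by
            have := congrArg Subtype.val hks
            simpa using this
          apply hSall _ _ ks
          · have : (c ^ a)⁻¹ * s * c ^ a = (c ^ a)⁻¹ * s * ((c ^ a)⁻¹)⁻¹ := by rw [inv_inv]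
            rw [this, conj_pow, hks', mul_one, mul_inv_cancel]
          · rw [← hnH']
            refine ⟨s, hSH hs, ?_⟩
            simp only [MulEquiv.coe_toMonoidHom, MulAut.conj_apply, inv_inv]
      have hT : IsPGroup q ((S : Subgroup G) ⊔ Subgroup.zpowers (c ^ a) : Subgroup G) :=
        IsPGroup.to_sup_of_normal_left' S.2 (isPGroup_zpowers hca)
          (Subgroup.zpowers_le.mpr hnS)
      have := S.is_maximal' hT le_sup_left
      have h3 : c ^ a ∈ (S : Subgroup G) ⊔ Subgroup.zpowers (c ^ a) :=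
        Subgroup.mem_sup_right (Subgroup.mem_zpowers _)
      rw [this] at h3
      exact h3
    rw [hcab]
    exact H.mul_mem ha hb

end Cfsg.Agent.S1477
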