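import Cfsg.Statements.S1483
import Mathlib
import Cfsg.Agent.S1473
import Cfsg.Agent.S1477

set_option autoImplicit false
open Cfsg

namespace Cfsg.Agent.S1483

open Cfsg.Agent.S1473 Cfsg.Agent.S1477
open scoped Pointwise

variable {G : Type*} [Group G]

/-- Two maximal nilpotent subgroups of a CN-group sharing a non-trivial Sylow subgroup of the
whole group coincide. -/
theorem eq_of_common_sylow [Finite G] (hCN : Cfsg.IsCNGroup G) {q : ℕ} [Fact q.Prime]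
    {H H' : Subgroup G} (hH : Group.IsNilpotent H)
    (hmax : ∀ L : Subgroup G, Group.IsNilpotent L → H ≤ L → L = H)
    (hH' : Group.IsNilpotent H')
    (hmax' : ∀ L : Subgroup G, Group.IsNilpotent L → H' ≤ L → L = H')
    (S : Sylow q G) (hSH : (S : Subgroup G) ≤ H) (hSH' : (S : Subgroup G) ≤ H')
    {x : G} (hxS : x ∈ S) (hx1 : x ≠ 1) : H = H' := by
  obtain ⟨k, hk⟩ := S.2 ⟨x, hxS⟩
  have hxq : x ^ (q ^ k) = 1 := by
    have := congrArg Subtype.val hk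
    simpa using this
  have key : ∀ {K : Subgroup G}, Group.IsNilpotent K →
      (∀ L : Subgroup G, Group.IsNilpotent L → K ≤ L → L = K) → (S : Subgroup G) ≤ K →
      ∀ h ∈ K, ∀ k : ℕ, h ^ (q ^ k) = 1 → h ∈ S := by
    intro K hK hKmax hSK
    obtain ⟨S₂, hS₂K, hS₂all⟩ := exists_sylow_le hCN hK hKmax (hSK hxS) hx1 hxq
    have hle : (S : Subgroup G) ≤ S₂ := by
      intro s hs
      obtain ⟨ks, hks⟩ := S.2 ⟨s, hs⟩
      have hks' : s ^ (q ^ ks) = 1 := by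
        have := congrArg Subtype.val hks
        simpa using this
      exact hS₂all s (hSK hs) ks hks'
    have heq : (S₂ : Subgroup G) = S := S.is_maximal' S₂.2 hle
    intro h hh k' hk'
    have : h ∈ (S₂ : Subgroup G) := hS₂all h hh k' hk'
    rw [heq] at this
    exact this
  obtain ⟨z, hzS, hz1, hzc⟩ := exists_central S hxS hx1
  have h1 := centralizer_eq hCN hH hmax S hSH (key hH hmax hSH) hzS hz1 hzc
  have h2 := centralizer_eq hCN hH' hmax' S hSH' (key hH' hmax' hSH') hzS hz1 hzc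
  exact h1.symm.trans h2

/-- Every nilpotent subgroup of a finite group lies in a maximal nilpotent subgroup. -/
theorem exists_max_nil [Finite G] {M : Subgroup G} (hM : Group.IsNilpotent M) :
    ∃ H : Subgroup G, M ≤ H ∧ Group.IsNilpotent H ∧
      ∀ L : Subgroup G, Group.IsNilpotent L → H ≤ L → L = H := by
  obtain ⟨H, hMH, hHmax⟩ :=
    Finite.exists_le_maximal (p := fun L : Subgroup G => Group.IsNilpotent L) hM
  refine ⟨H, hMH, hHmax.prop, ?_⟩
  intro L hL hHL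
  exact le_antisymm (hHmax.le_of_ge hL hHL) hHL


/-- Two maximal nilpotent subgroups of a CN-group containing non-trivial `q`-elements are
conjugate. -/
theorem conj_of_common_prime [Finite G] (hCN : Cfsg.IsCNGroup G) {q : ℕ} [Fact q.Prime]
    {H₁ H₂ : Subgroup G} (hH₁ : Group.IsNilpotent H₁)
    (hmax₁ : ∀ L : Subgroup G, Group.IsNilpotent L → H₁ ≤ L → L = H₁)
    (hH₂ : Group.IsNilpotent H₂)
    (hmax₂ : ∀ L : Subgroup G, Group.IsNilpotent L → H₂ ≤ L → L = H₂)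
    {x₁ x₂ : G} (hx₁ : x₁ ∈ H₁) (hx₁1 : x₁ ≠ 1) {k₁ : ℕ} (hx₁q : x₁ ^ (q ^ k₁) = 1)
    (hx₂ : x₂ ∈ H₂) (hx₂1 : x₂ ≠ 1) {k₂ : ℕ} (hx₂q : x₂ ^ (q ^ k₂) = 1) :
    ∃ g : G, H₂ = H₁.map (MulAut.conj g).toMonoidHom := by
  obtain ⟨S₁, hS₁H, hS₁all⟩ := exists_sylow_le hCN hH₁ hmax₁ hx₁ hx₁1 hx₁q
  obtain ⟨S₂, hS₂H, hS₂all⟩ := exists_sylow_le hCN hH₂ hmax₂ hx₂ hx₂1 hx₂q
  obtain ⟨g, hg⟩ := MulAction.exists_smul_eq G S₁ S₂
  refine ⟨g, ?_⟩
  obtain ⟨hnil, hmax'⟩ := conj_max hH₁ hmax₁ g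
  have hle : (S₂ : Subgroup G) ≤ H₁.map (MulAut.conj g).toMonoidHom := by
    intro s hs
    rw [← hg, Sylow.coe_subgroup_smul, Subgroup.mem_smul_pointwise_iff_exists] at hs
    obtain ⟨t, ht, rfl⟩ := hs
    exact Subgroup.mem_map.mpr ⟨t, hS₁H ht, rfl⟩
  exact eq_of_common_sylow hCN hH₂ hmax₂ hnil hmax' S₂ hS₂H hle (hS₂all x₂ hx₂ k₂ hx₂q) hx₂1

/-- Extract a prime-power exponent from `IsPGroup q (zpowers y)`. -/
theorem pow_of_isPGroup_zpowers {q : ℕ} {y : G} (h : IsPGroup q (Subgroup.zpowers y)) :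
    ∃ k : ℕ, y ^ (q ^ k) = 1 := by
  obtain ⟨k, hk⟩ := h ⟨y, Subgroup.mem_zpowers y⟩
  refine ⟨k, ?_⟩
  have := congrArg Subtype.val hk
  simpa using this


/-- Let G be a minimal simple group of odd order in which every non-identity element has nilpotent centralizer. Then any two nilpotent subgroups each contained in no larger nilpotent subgroup are either conjugate or of coprime orders; and for primes p, q, r: if some elements x, y ≠ 1 of p-power and q-power order commute, and some elements y', z ≠ 1 of q-power and r-power order commute, then some elements of p-power and r-power order, both ≠ 1, commute. -/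
theorem result {G : Type*} [Group G] [Finite G] (hG : Cfsg.IsMinSimpleOddOrder G) (hCN : Cfsg.IsCNGroup G) :
    (∀ H₁ H₂ : Subgroup G, (Group.IsNilpotent ↥H₁ ∧ ∀ L : Subgroup G, Group.IsNilpotent L → H₁ ≤ L → L = H₁) → (Group.IsNilpotent ↥H₂ ∧ ∀ L : Subgroup G, Group.IsNilpotent L → H₂ ≤ L → L = H₂) → (∃ g : G, H₂ = H₁.map (MulAut.conj g).toMonoidHom) ∨ (Nat.card H₁).Coprime (Nat.card H₂)) ∧
      ∀ (p q r : ℕ), p.Prime → q.Prime → r.Prime → ∀ (x y y' z : G), x ≠ 1 → y ≠ 1 → y' ≠ 1 → z ≠ 1 →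
        IsPGroup p (Subgroup.zpowers x) → IsPGroup q (Subgroup.zpowers y) → IsPGroup q (Subgroup.zpowers y') → IsPGroup r (Subgroup.zpowers z) →
        x * y = y * x → y' * z = z * y' →
        ∃ x' z' : G, x' ≠ 1 ∧ z' ≠ 1 ∧ IsPGroup p (Subgroup.zpowers x') ∧ IsPGroup r (Subgroup.zpowers z') ∧ x' * z' = z' * x' := by
  refine ⟨?_, ?_⟩
  · rintro H₁ H₂ ⟨hH₁, hmax₁⟩ ⟨hH₂, hmax₂⟩
    by_cases hcop : (Nat.card H₁).Coprime (Nat.card H₂)
    · exact Or.inr hcop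
    left
    obtain ⟨q, hq, hq1, hq2⟩ := Nat.Prime.not_coprime_iff_dvd.mp hcop
    have : Fact q.Prime := ⟨hq⟩
    obtain ⟨x₁, hx₁⟩ := exists_prime_orderOf_dvd_card' (G := H₁) q hq1
    obtain ⟨x₂, hx₂⟩ := exists_prime_orderOf_dvd_card' (G := H₂) q hq2
    have h1 : (x₁ : G) ≠ 1 := by
      intro h
      have : x₁ = 1 := Subtype.ext h
      rw [this, orderOf_one] at hx₁
      exact hq.one_lt.ne hx₁
    have h2 : (x₂ : G) ≠ 1 := by
      intro h
      have : x₂ = 1 := Subtype.ext h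
      rw [this, orderOf_one] at hx₂
      exact hq.one_lt.ne hx₂
    have h1q : (x₁ : G) ^ (q ^ 1) = 1 := by
      rw [pow_one, ← Subgroup.coe_pow, ← hx₁, pow_orderOf_eq_one]; rfl
    have h2q : (x₂ : G) ^ (q ^ 1) = 1 := by
      rw [pow_one, ← Subgroup.coe_pow, ← hx₂, pow_orderOf_eq_one]; rfl
    exact conj_of_common_prime hCN hH₁ hmax₁ hH₂ hmax₂ x₁.2 h1 h1q x₂.2 h2 h2q
  · intro p q r hp hq hr x y y' z hx hy hy' hz hxp hyq hy'q hzr hxy hy'z
    by_cases hpr : p = r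
    · subst hpr
      exact ⟨x, x, hx, hx, hxp, hxp, rfl⟩
    have : Fact p.Prime := ⟨hp⟩
    have : Fact q.Prime := ⟨hq⟩
    have : Fact r.Prime := ⟨hr⟩
    obtain ⟨H₁, hM₁, hH₁, hmax₁⟩ := exists_max_nil (hCN y hy)
    obtain ⟨H₂, hM₂, hH₂, hmax₂⟩ := exists_max_nil (hCN y' hy')
    have hxH₁ : x ∈ H₁ := hM₁ (Subgroup.mem_centralizer_singleton_iff.mpr hxy)
    have hyH₁ : y ∈ H₁ := hM₁ (Subgroup.mem_centralizer_singleton_iff.mpr rfl)
    have hy'H₂ : y' ∈ H₂ := hM₂ (Subgroup.mem_centralizer_singleton_iff.mpr rfl)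
    have hzH₂ : z ∈ H₂ := hM₂ (Subgroup.mem_centralizer_singleton_iff.mpr hy'z.symm)
    obtain ⟨ky, hky⟩ := pow_of_isPGroup_zpowers hyq
    obtain ⟨ky', hky'⟩ := pow_of_isPGroup_zpowers hy'q
    obtain ⟨kx, hkx⟩ := pow_of_isPGroup_zpowers hxp
    obtain ⟨kz, hkz⟩ := pow_of_isPGroup_zpowers hzr
    obtain ⟨g, hg⟩ := conj_of_common_prime hCN hH₁ hmax₁ hH₂ hmax₂ hyH₁ hy hky hy'H₂ hy' hky'
    have hx'H₂ : MulAut.conj g x ∈ H₂ := by
      rw [hg]
      exact Subgroup.mem_map.mpr ⟨x, hxH₁, rfl⟩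
    have hx'1 : MulAut.conj g x ≠ 1 := by
      intro h
      exact hx ((EmbeddingLike.map_eq_one_iff).mp h)
    have hx'p : (MulAut.conj g x) ^ (p ^ kx) = 1 := by
      rw [← map_pow, hkx, map_one]
    have hnot : ¬ r ∣ orderOf (MulAut.conj g x) := by
      intro hdvd
      have h1 : r ∣ p ^ kx := hdvd.trans (orderOf_dvd_of_pow_eq_one hx'p)
      have h2 : r ∣ p := hr.dvd_of_dvd_pow h1
      exact hpr ((Nat.prime_dvd_prime_iff_eq hr hp).mp h2).symm
    have hcomm : Commute (MulAut.conj g x) z := nil_commute hH₂ hzH₂ hx'H₂ hkz hnot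
    exact ⟨MulAut.conj g x, z, hx'1, hz, isPGroup_zpowers hx'p, hzr, hcomm.eq⟩

end Cfsg.Agent.S1483
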