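import Mathlib
import Cfsg.Statements.S1486
import Cfsg.Agent.Lib.Helper2_ClassFn
import Cfsg.Agent.Lib.Helper2_CharOrtho
import Cfsg.Agent.Lib.Helper2_Clifford
import Cfsg.Agent.Lib.Helper2_CharMore

set_option autoImplicit false
open Cfsg
open Cfsg.Agent.Lib.Helper2_ClassFn
open Cfsg.Agent.Lib.Helper2_CharOrtho
open Cfsg.Agent.Lib.Helper2_Clifford
open Cfsg.Agent.Lib.Helper2_CharMore

namespace Cfsg.Agent.S1486

/-- Let H be a normal subgroup of the finite group G and θ, φ irreducible characters of H. If φ is a G-conjugate of θ then the functions induced from θ and φ coincide; if φ is not a G-conjugate of θ then the induced functions are orthogonal. -/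
theorem result {G : Type*} [Group G] [Fintype G] (H : Subgroup G) [hN : H.Normal] (θ φ : H → ℂ) (hθ : Cfsg.IsIrrCharacter H θ) (hφ : Cfsg.IsIrrCharacter H φ) : ((∃ g : G, φ = fun h : H => θ ⟨g * h * g⁻¹, hN.conj_mem h h.2 g⟩) → Cfsg.indFun H φ = Cfsg.indFun H θ) ∧ ((¬ ∃ g : G, φ = fun h : H => θ ⟨g * h * g⁻¹, hN.conj_mem h h.2 g⟩) → Cfsg.classInner (Cfsg.indFun H φ) (Cfsg.indFun H θ) = 0) := by
  classical
  constructor
  · rintro ⟨g, rfl⟩
    exact indFun_conjFn H θ g
  · intro hne
    rw [frobenius_reciprocity H φ _ (indFun_isClassFunction H θ), indFun_restrict_normal H θ,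
      classInner_smul_right, setOf_conj_eq, finsum_mem_coe_finset, classInner_sum_right]
    rw [Finset.sum_eq_zero, mul_zero]
    intro ψ hψ
    obtain ⟨g, _, rfl⟩ := Finset.mem_image.mp hψ
    apply classInner_irr_of_ne hφ (IsIrrCharacter.conjFn hθ g)
    intro h
    exact hne ⟨g, h⟩

end Cfsg.Agent.S1486
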