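import Mathlib
import Cfsg.Statements.S1487
import Cfsg.Agent.Lib.Helper2_ClassFn
import Cfsg.Agent.Lib.Helper2_CharBasic
import Cfsg.Agent.Lib.Helper2_CharOrtho
import Cfsg.Agent.Lib.Helper2_CharValues

set_option autoImplicit false
open Cfsg
open Cfsg.Agent.Lib.Helper2_ClassFn
open Cfsg.Agent.Lib.Helper2_CharBasic
open Cfsg.Agent.Lib.Helper2_CharOrtho
open Cfsg.Agent.Lib.Helper2_CharValues

namespace Cfsg.Agent.S1487

/-- Let A ≤ H be normal subgroups of the finite group G and θ an irreducible character of H. Then θ takes the value θ 1 on all of A if and only if the function induced from θ to G takes its value at 1 on all of A. -/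
theorem result {G : Type*} [Group G] [Fintype G] (A H : Subgroup G) [A.Normal] [H.Normal] (hAH : A ≤ H) (θ : H → ℂ) (hθ : Cfsg.IsIrrCharacter H θ) : (∀ a : H, (a : G) ∈ A → θ a = θ 1) ↔ (∀ a : G, a ∈ A → Cfsg.indFun H θ a = Cfsg.indFun H θ 1) := by
  have hA : A.Normal := inferInstance
  have hH : H.Normal := inferInstance
  have hχ := IsIrrCharacter.isCharacter hθ
  have hconjA : ∀ (a : G), a ∈ A → ∀ x : G, x⁻¹ * a * x ∈ A := by
    intro a ha x
    simpa using hA.conj_mem a ha x⁻¹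
  have hcH : (Nat.card H : ℂ) ≠ 0 := card_subgroup_ne_zero H
  have hformula : ∀ (a : G) (ha : a ∈ A), Cfsg.indFun H θ a = (Nat.card H : ℂ)⁻¹ *
      ∑ x : G, θ ⟨x⁻¹ * a * x, hAH (hconjA a ha x)⟩ := by
    intro a ha
    rw [indFun_apply]
    congr 1
    refine Finset.sum_congr rfl fun x _ => ?_
    rw [extendByZero_of_mem]
  have hone : Cfsg.indFun H θ 1 = (Nat.card H : ℂ)⁻¹ * ∑ _x : G, θ 1 := by
    rw [hformula 1 A.one_mem]
    congr 1
    refine Finset.sum_congr rfl fun x _ => ?_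
    congr 1
    ext; simp
  constructor
  · intro h a ha
    rw [hformula a ha, hone]
    congr 1
    refine Finset.sum_congr rfl fun x _ => ?_
    exact h ⟨x⁻¹ * a * x, hAH (hconjA a ha x)⟩ (hconjA a ha x)
  · intro h a ha
    have h1 := h a ha
    rw [hformula a ha, hone] at h1
    have h2 : ∑ x : G, θ ⟨x⁻¹ * (a : G) * x, hAH (hconjA a ha x)⟩ = ∑ _x : G, θ 1 :=
      mul_left_cancel₀ (inv_ne_zero hcH) h1
    have h3 : ∑ x : G, ((θ 1).re - (θ ⟨x⁻¹ * (a : G) * x, hAH (hconjA a ha x)⟩).re) = 0 := by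
      rw [Finset.sum_sub_distrib, ← Complex.re_sum, ← Complex.re_sum, h2, sub_self]
    have h4 := (Finset.sum_eq_zero_iff_of_nonneg (fun x _ => sub_nonneg.mpr
      (IsCharacter.re_le hχ _))).mp h3 1 (Finset.mem_univ _)
    have h5 := IsCharacter.eq_of_re_eq hχ ⟨(1 : G)⁻¹ * (a : G) * 1, hAH (hconjA a ha 1)⟩
      (by linarith)
    rw [← h5]
    congr 1
    ext; simp

end Cfsg.Agent.S1487
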