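import Cfsg.Statements.S1492
import Cfsg.Agent.Lib.Helper2_ClassFn
import Cfsg.Agent.Lib.Helper2_CharBasic
import Cfsg.Agent.Lib.Helper2_CharOrtho
import Cfsg.Agent.Lib.Helper2_Clifford
import Cfsg.Agent.Lib.Helper2_CharMore
import Cfsg.Agent.Lib.Helper2_CharNorm
import Cfsg.Agent.Lib.Helper2_CharValues
import Cfsg.Agent.Lib.Helper2_CharComplete
import Cfsg.Agent.Lib.Helper2_CharInd
import Cfsg.Agent.Lib.Helper2_CharTable
import Cfsg.Agent.Lib.Helper2_CharFrob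
import Cfsg.Agent.Lib.Helper2_CharDeg
import Cfsg.Agent.Lib.Helper2_CharSum
import Cfsg.Agent.Lib.Helper2_CharExtra
import Cfsg.Agent.Lib.Helper2_CharCentral
import Cfsg.Agent.Lib.Helper2_PermChar
import Cfsg.Agent.Lib.Helper2_FrobSchur
import Cfsg.Agent.Lib.Helper2_CliffordCorr
import Cfsg.Agent.Lib.Helper2_CharKernel

set_option autoImplicit false
open Cfsg

namespace Cfsg.Agent.S1492

open Cfsg.Agent.Lib.Helper2_ClassFn Cfsg.Agent.Lib.Helper2_CharBasic Cfsg.Agent.Lib.Helper2_CharOrtho Cfsg.Agent.Lib.Helper2_Clifford Cfsg.Agent.Lib.Helper2_CharMore Cfsg.Agent.Lib.Helper2_CharNorm Cfsg.Agent.Lib.Helper2_CharValues Cfsg.Agent.Lib.Helper2_CharComplete Cfsg.Agent.Lib.Helper2_CharInd Cfsg.Agent.Lib.Helper2_CharTable Cfsg.Agent.Lib.Helper2_CharFrob Cfsg.Agent.Lib.Helper2_CharDeg Cfsg.Agent.Lib.Helper2_CharSum Cfsg.Agent.Lib.Helper2_CharExtra Cfsg.Agent.Lib.Helper2_CharCentral Cfsg.Agent.Lib.Helper2_PermChar Cfsg.Agent.Lib.Helper2_FrobSchur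 Cfsg.Agent.Lib.Helper2_CliffordCorr Cfsg.Agent.Lib.Helper2_CharKernel
open scoped Pointwise


/-- Let ψ be an irreducible character of the finite group G and B ≤ D ≤ C subgroups with B normal in C, every commutator of an element of D with an element of C lying in B (so D/B is central in C/B), and ψ constant equal to ψ 1 on B. Then ψ(1) ^ 2 * |C| * |D| ≤ |G| ^ 2. -/
theorem result {G : Type*} [Group G] [Finite G] (ψ : G → ℂ) (hψ : Cfsg.IsIrrCharacter G ψ) (B C D : Subgroup G) (hBD : B ≤ D) (hDC : D ≤ C) (hBn : ∀ c ∈ C, ∀ b ∈ B, c * b * c⁻¹ ∈ B) (hcent : ∀ d ∈ D, ∀ c ∈ C, d * c * d⁻¹ * c⁻¹ ∈ B) (hker : ∀ b ∈ B, ψ b = ψ 1) : ‖ψ 1‖ ^ 2 * (Nat.card C : ℝ) * (Nat.card D : ℝ) ≤ (Nat.card G : ℝ) ^ 2 := by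
  classical
  have := Fintype.ofFinite G
  have hψc := IsIrrCharacter.isCharacter hψ
  have hψcf := IsCharacter.isClassFunction hψc
  have hψC : IsCharacter C (fun c : C => ψ c) := IsCharacter.restrict hψc C
  have hne : (fun c : C => ψ c) ≠ 0 := by
    intro h0
    have := congrFun h0 1
    exact IsIrrCharacter.apply_one_ne_zero hψ this
  obtain ⟨ξ, hξ, m, hm0, hm⟩ := IsCharacter.exists_constituent hψC hne
  have hξc := IsIrrCharacter.isCharacter hξ
  have hm' : classInner (fun c : C => ψ c) ξ ≠ 0 := by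
    rw [hm]; exact_mod_cast hm0.ne'
  have h1 : classInner (indFun C ξ) ψ ≠ 0 := by
    rw [frobenius_reciprocity C ξ ψ hψcf, ← classInner_conj_symm, hm]
    simp only [map_natCast]
    exact_mod_cast hm0.ne'
  have hle := IsCharacter.apply_one_le_of_constituent (IsCharacter.indFun hξc) hψ h1
  rw [indFun_one] at hle
  have hξB : ∀ b : C, (b : G) ∈ B → ξ b = ξ 1 := by
    intro b hb
    apply IsCharacter.constituent_apply_eq hψC hξ hm' b
    exact hker b hb
  obtain ⟨p, hp0, hp⟩ := IsIrrCharacter.apply_one hψ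
  obtain ⟨q, hq0, hq⟩ := IsIrrCharacter.apply_one hξ
  have hξ' := hξ
  obtain ⟨n, σ, hσirr, rfl⟩ := hξ
  have hσB : ∀ b : C, (b : G) ∈ B → σ b = 1 :=
    fun b hb => rep_eq_one_of_char_eq σ b (hξB b hb)
  have hcomm : ∀ d : C, (d : G) ∈ D → ∀ c : C, σ d ∘ₗ σ c = σ c ∘ₗ σ d := by
    intro d hd c
    have hb : ((d * c * d⁻¹ * c⁻¹ : C) : G) ∈ B := by
      have := hcent d hd c c.2
      simpa using this
    have h2 := hσB _ hb
    have e : d * c = (d * c * d⁻¹ * c⁻¹) * (c * d) := by group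
    change σ d * σ c = σ c * σ d
    rw [← map_mul, ← map_mul, e, map_mul, h2, one_mul]
  have hD' : ∀ d ∈ D.subgroupOf C, ‖σ.character d‖ = ‖σ.character 1‖ :=
    fun d hd => norm_character_eq_of_comm σ hσirr d (hcomm d (Subgroup.mem_subgroupOf.mp hd))
  have hbound := sq_mul_card_le hξ' (D.subgroupOf C) hD'
  have hcard : Nat.card (D.subgroupOf C) = Nat.card D :=
    Nat.card_congr (Subgroup.subgroupOfEquivOfLe hDC).toEquiv
  rw [hcard, hq] at hbound
  rw [hp, hq] at hle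
  rw [hp]
  simp only [Complex.norm_natCast] at hbound ⊢
  have hle' : (p : ℝ) ≤ (C.index : ℝ) * q := by
    have e1 : ((C.index : ℂ) * (q : ℂ)).re = (C.index : ℝ) * q := by
      rw [← Nat.cast_mul, Complex.natCast_re]; push_cast; rfl
    rw [e1, Complex.natCast_re] at hle
    exact hle
  have hidx : (C.index : ℝ) * (Nat.card C : ℝ) = (Nat.card G : ℝ) := by
    have := Subgroup.card_mul_index C
    rw [mul_comm]
    exact_mod_cast this
  have hp' : (0 : ℝ) ≤ p := Nat.cast_nonneg p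
  calc (p : ℝ) ^ 2 * (Nat.card C : ℝ) * (Nat.card D : ℝ)
      ≤ ((C.index : ℝ) * q) ^ 2 * (Nat.card C : ℝ) * (Nat.card D : ℝ) := by gcongr
    _ = (C.index : ℝ) ^ 2 * (Nat.card C : ℝ) * ((q : ℝ) ^ 2 * (Nat.card D : ℝ)) := by ring
    _ ≤ (C.index : ℝ) ^ 2 * (Nat.card C : ℝ) * (Nat.card C : ℝ) := by gcongr
    _ = ((C.index : ℝ) * (Nat.card C : ℝ)) ^ 2 := by ring
    _ = (Nat.card G : ℝ) ^ 2 := by rw [hidx]

end Cfsg.Agent.S1492
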