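import Cfsg.Statements.S1494
import Cfsg.Agent.Lib.Helper2_ClassFn
import Cfsg.Agent.Lib.Helper2_CharBasic
import Cfsg.Agent.Lib.Helper2_CharOrtho
import Cfsg.Agent.Lib.Helper2_Clifford
import Cfsg.Agent.Lib.Helper2_CharMore
import Cfsg.Agent.Lib.Helper2_CharNorm
import Cfsg.Agent.Lib.Helper2_CharValues
import Cfsg.Agent.Lib.Helper2_CharComplete
import Cfsg.Agent.Lib.Helper2_CharInd
import Cfsg.Agent.Lib.Helper2_CharTable
import Cfsg.Agent.Lib.Helper2_CharFrob
import Cfsg.Agent.Lib.Helper2_CharDeg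
import Cfsg.Agent.Lib.Helper2_CharSum
import Cfsg.Agent.Lib.Helper2_CharExtra
import Cfsg.Agent.Lib.Helper2_CharCentral
import Cfsg.Agent.Lib.Helper2_PermChar
import Cfsg.Agent.Lib.Helper2_FrobSchur
import Cfsg.Agent.Lib.Helper2_CliffordCorr
import Cfsg.Agent.Lib.Helper2_CharKernel
import Cfsg.Agent.S0154

set_option autoImplicit false
open Cfsg

namespace Cfsg.Agent.S1494

open Cfsg.Agent.Lib.Helper2_ClassFn Cfsg.Agent.Lib.Helper2_CharBasic Cfsg.Agent.Lib.Helper2_CharOrtho Cfsg.Agent.Lib.Helper2_Clifford Cfsg.Agent.Lib.Helper2_CharMore Cfsg.Agent.Lib.Helper2_CharNorm Cfsg.Agent.Lib.Helper2_CharValues Cfsg.Agent.Lib.Helper2_CharComplete Cfsg.Agent.Lib.Helper2_CharInd Cfsg.Agent.Lib.Helper2_CharTable Cfsg.Agent.Lib.Helper2_CharFrob Cfsg.Agent.Lib.Helper2_CharDeg Cfsg.Agent.Lib.Helper2_CharSum Cfsg.Agent.Lib.Helper2_CharExtra Cfsg.Agent.Lib.Helper2_CharCentral Cfsg.Agent.Lib.Helper2_PermChar Cfsg.Agent.Lib.Helper2_FrobSchur Cfsg.Agent.Lib.Helper2_CliffordCorr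 Cfsg.Agent.Lib.Helper2_CharKernel
open scoped Pointwise

/-- `η - 1` is divisible by `1 - ε` for a `p`-th root of unity `η`. -/
theorem sub_one_eq_mul (p : ℕ) (hp : p.Prime) (η : ℂ) (hη : η ^ p = 1) :
    ∃ ω : ℂ, IsIntegral ℤ ω ∧ η - 1 = (1 - Complex.exp (2 * Real.pi * Complex.I / p)) * ω := by
  have hprim : IsPrimitiveRoot (Complex.exp (2 * Real.pi * Complex.I / p)) p :=
    Complex.isPrimitiveRoot_exp p hp.ne_zero
  set ε := Complex.exp (2 * Real.pi * Complex.I / p) with hε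
  haveI : NeZero p := ⟨hp.ne_zero⟩
  obtain ⟨k, -, hk⟩ := hprim.eq_pow_of_pow_eq_one hη
  have hεint : IsIntegral ℤ ε := hprim.isIntegral hp.pos
  refine ⟨-∑ i ∈ Finset.range k, ε ^ i, ?_, ?_⟩
  · apply IsIntegral.neg
    apply IsIntegral.sum
    intro i _
    exact IsIntegral.pow hεint i
  · rw [← hk]
    have := geom_sum_mul ε k
    rw [← this]
    ring



/-- Let χ be a generalized character of the finite group G, p a prime, x an element of order p and y an element commuting with x. Then χ(x * y) − χ(y) = (1 − ε) * ω for some algebraic integer ω, where ε = exp(2πi/p). -/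
theorem result {G : Type*} [Group G] [Finite G] (χ : G → ℂ) (hχ : Cfsg.IsGeneralizedCharacter G χ) (p : ℕ) (hp : p.Prime) (x y : G) (hx : orderOf x = p) (hxy : x * y = y * x) : ∃ ω : ℂ, IsIntegral ℤ ω ∧ χ (x * y) - χ y = (1 - Complex.exp (2 * Real.pi * Complex.I / p)) * ω := by
  classical
  have := Fintype.ofFinite G
  set ε := Complex.exp (2 * Real.pi * Complex.I / p) with hε
  -- the abelian subgroup generated by x and y
  have hcomm : ∀ a ∈ ({x, y} : Set G), ∀ b ∈ ({x, y} : Set G), a * b = b * a := by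
    intro a ha b hb
    simp only [Set.mem_insert_iff, Set.mem_singleton_iff] at ha hb
    rcases ha with rfl | rfl <;> rcases hb with rfl | rfl
    · rfl
    · exact hxy
    · exact hxy.symm
    · rfl
  set A : Subgroup G := Subgroup.closure {x, y} with hA
  have hAmc : IsMulCommutative A := Subgroup.isMulCommutative_closure hcomm
  have hAcomm : ∀ a b : A, a * b = b * a := fun a b => hAmc.is_comm.comm a b
  let xA : A := ⟨x, Subgroup.subset_closure (by simp)⟩
  let yA : A := ⟨y, Subgroup.subset_closure (by simp)⟩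
  have hxAp : xA ^ p = 1 := by
    apply Subtype.ext
    rw [Subgroup.coe_pow, Subgroup.coe_one, ← hx]
    exact pow_orderOf_eq_one x
  -- the property
  let Good : (A → ℂ) → Prop := fun f =>
    ∃ ω : ℂ, IsIntegral ℤ ω ∧ f (xA * yA) - f yA = (1 - ε) * ω
  have good_zero : Good 0 := ⟨0, isIntegral_zero, by simp⟩
  have good_add : ∀ f g, Good f → Good g → Good (f + g) := by
    rintro f g ⟨ω₁, h₁, e₁⟩ ⟨ω₂, h₂, e₂⟩
    refine ⟨ω₁ + ω₂, IsIntegral.add h₁ h₂, ?_⟩
    simp only [Pi.add_apply]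
    rw [mul_add, ← e₁, ← e₂]
    ring
  have good_irr : ∀ lam : A → ℂ, IsIrrCharacter A lam → Good lam := by
    intro lam hlam
    have h1 : lam 1 = 1 := IsIrrCharacter.apply_one_of_comm hAcomm hlam
    obtain ⟨w, hw⟩ := Cfsg.Agent.S0154.exists_hom_of_degree_one lam hlam h1
    have hpow : ((w xA : ℂˣ) : ℂ) ^ p = 1 := by
      rw [← Units.val_pow_eq_pow_val, ← map_pow, hxAp, map_one, Units.val_one]
    obtain ⟨ω', hω', e'⟩ := sub_one_eq_mul p hp _ hpow
    refine ⟨ω' * lam yA, IsIntegral.mul hω' (IsCharacter.isIntegral (IsIrrCharacter.isCharacter hlam) yA), ?_⟩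
    rw [← mul_assoc, ← e', hw]
    simp only [map_mul, Units.val_mul]
    ring
  have good_char : ∀ f : A → ℂ, IsCharacter A f → Good f := by
    intro f hf
    obtain ⟨m, hm, rfl⟩ := IsCharacter.exists_irr_decomp hf
    clear hf
    induction m using Multiset.induction_on with
    | empty => simpa using good_zero
    | cons a m ih =>
      rw [Multiset.sum_cons]
      apply good_add
      · exact good_irr a (hm a (Multiset.mem_cons_self a m))
      · exact ih fun ψ hψ => hm ψ (Multiset.mem_cons_of_mem hψ)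
  obtain ⟨χ₁, χ₂, h₁, h₂, rfl⟩ := hχ
  obtain ⟨ω₁, hi₁, e₁⟩ := good_char _ (IsCharacter.restrict h₁ A)
  obtain ⟨ω₂, hi₂, e₂⟩ := good_char _ (IsCharacter.restrict h₂ A)
  refine ⟨ω₁ - ω₂, IsIntegral.sub hi₁ hi₂, ?_⟩
  have hxy' : ((xA * yA : A) : G) = x * y := rfl
  have hy' : ((yA : A) : G) = y := rfl
  simp only [hxy', hy'] at e₁ e₂
  simp only [Pi.sub_apply]
  rw [mul_sub, ← e₁, ← e₂]
  ring

end Cfsg.Agent.S1494
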