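import Mathlib
import Cfsg.Statements.S1495

set_option autoImplicit false
open Cfsg

namespace Cfsg.Agent.S1495

lemma isIntegral_natCast' (k : ℕ) : IsIntegral ℤ (k : ℂ) := by
  have := isIntegral_algebraMap (R := ℤ) (A := ℂ) (x := (k : ℤ))
  simpa using this

lemma isIntegral_intCast' (k : ℤ) : IsIntegral ℤ (k : ℂ) := by
  have := isIntegral_algebraMap (R := ℤ) (A := ℂ) (x := k)
  simpa using this

/-- Key identity: for `σ` with `(1+σ)^p = 1`, `σ ≠ 0`: `σ^(p-1) = -p * S` with `S` integral. -/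
lemma key (p : ℕ) (hp : p.Prime) (σ : ℂ) (hσ : IsIntegral ℤ σ) (hσ0 : σ ≠ 0)
    (h1 : (σ + 1) ^ p = 1) :
    ∃ S : ℂ, IsIntegral ℤ S ∧ σ ^ (p - 1) = -(p : ℂ) * S := by
  refine ⟨∑ j ∈ Finset.range (p - 1), ((p.choose (j + 1) / p : ℕ) : ℂ) * σ ^ j, ?_, ?_⟩
  · apply IsIntegral.sum
    intro j _
    exact (isIntegral_natCast' _).mul (hσ.pow j)
  · have hp1 : p - 1 + 1 = p := Nat.sub_add_cancel hp.one_le
    have hexp := add_pow σ 1 p
    rw [h1] at hexp
    rw [Finset.sum_range_succ] at hexp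
    conv_rhs at hexp => rw [← hp1]
    rw [Finset.sum_range_succ'] at hexp
    simp only [one_pow, mul_one, pow_zero, Nat.choose_zero_right, Nat.cast_one] at hexp
    rw [hp1] at hexp
    simp only [Nat.choose_self, Nat.cast_one, mul_one] at hexp
    -- hexp : 1 = Σ_{j<p-1} σ^(j+1) * C(p,j+1) + 1 + σ^p
    have hsum : ∑ j ∈ Finset.range (p - 1), σ ^ (j + 1) * ((p.choose (j + 1) : ℕ) : ℂ)
        = σ * ((p : ℂ) * ∑ j ∈ Finset.range (p - 1), ((p.choose (j + 1) / p : ℕ) : ℂ) * σ ^ j) := by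
      rw [Finset.mul_sum, Finset.mul_sum]
      apply Finset.sum_congr rfl
      intro j hj
      rw [Finset.mem_range] at hj
      have hdvd : p ∣ p.choose (j + 1) := hp.dvd_choose_self (Nat.succ_ne_zero j) (by omega)
      have : ((p.choose (j + 1) : ℕ) : ℂ) = (p : ℂ) * ((p.choose (j + 1) / p : ℕ) : ℂ) := by
        rw [← Nat.cast_mul, Nat.mul_div_cancel' hdvd]
      rw [this, pow_succ]
      ring
    rw [hsum] at hexp
    have hσp : σ ^ p = σ * σ ^ (p - 1) := by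
      rw [← pow_succ', hp1]
    rw [hσp] at hexp
    have h2 : σ * (σ ^ (p - 1) + (p : ℂ) * ∑ j ∈ Finset.range (p - 1), ((p.choose (j + 1) / p : ℕ) : ℂ) * σ ^ j) = 0 := by
      linear_combination -hexp
    rcases mul_eq_zero.mp h2 with h | h
    · exact absurd h hσ0
    · linear_combination h

theorem not_isIntegral_inv_prime (p : ℕ) (hp : p.Prime) (T : ℂ) (hT : IsIntegral ℤ T)
    (h : (p : ℂ) * T = 1) : False := by
  have hT' : T = algebraMap ℚ ℂ ((1 : ℚ) / p) := by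
    have hp0 : (p : ℂ) ≠ 0 := Nat.cast_ne_zero.mpr hp.ne_zero
    have : T = 1 / (p : ℂ) := by
      field_simp
      linear_combination h
    rw [this]
    simp
  rw [hT'] at hT
  rw [isIntegral_algebraMap_iff (algebraMap ℚ ℂ).injective] at hT
  rw [IsIntegrallyClosed.isIntegral_iff] at hT
  obtain ⟨y, hy⟩ := hT
  have hp0 : (p : ℚ) ≠ 0 := Nat.cast_ne_zero.mpr hp.ne_zero
  have h2 : (y : ℚ) * p = 1 := by
    have : (algebraMap ℤ ℚ) y = (y : ℚ) := rfl
    rw [this] at hy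
    rw [hy]
    field_simp
  have h3 : y * (p : ℤ) = 1 := by exact_mod_cast h2
  have h4 : (p : ℤ) ∣ 1 := Dvd.intro_left y h3
  have h5 : p ∣ 1 := by exact_mod_cast h4
  exact hp.one_lt.ne' (Nat.dvd_one.mp h5)

theorem result (p : ℕ) (hp : p.Prime) (n : ℤ) (ω : ℂ) (hω : IsIntegral ℤ ω) (h : (n : ℂ) = (1 - Complex.exp (2 * Real.pi * Complex.I / p)) * ω) : (p : ℤ) ∣ n := by
  set ε := Complex.exp (2 * Real.pi * Complex.I / p) with hε
  have hprim : IsPrimitiveRoot ε p := Complex.isPrimitiveRoot_exp p hp.ne_zero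
  have hε1 : ε ≠ 1 := hprim.ne_one hp.one_lt
  have hεp : ε ^ p = 1 := hprim.pow_eq_one
  have hεint : IsIntegral ℤ ε := by
    apply IsIntegral.of_pow hp.pos
    rw [hεp]
    exact isIntegral_one
  set σ := ε - 1 with hσ
  have hσint : IsIntegral ℤ σ := hεint.sub isIntegral_one
  have hσ0 : σ ≠ 0 := sub_ne_zero.mpr hε1
  have hσ1 : (σ + 1) ^ p = 1 := by rw [hσ]; simpa using hεp
  obtain ⟨S, hS, hkey⟩ := key p hp σ hσint hσ0 hσ1
  by_contra hnd
  have hirr : Irreducible (p : ℤ) := (Nat.prime_iff_prime_int.mp hp).irreducible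
  have hcop : IsCoprime (p : ℤ) n := (hirr.coprime_iff_not_dvd).mpr hnd
  obtain ⟨b, a, hab⟩ := hcop
  -- b * p + a * n = 1
  have hn : (n : ℂ) = -σ * ω := by rw [h, hσ]; ring
  -- (a n)^(p-1) = p * T
  have h1 : ((a * n : ℤ) : ℂ) ^ (p - 1) = (p : ℂ) * ((a : ℂ) ^ (p - 1) * ω ^ (p - 1) * ((-1) ^ (p - 1) * (-S))) := by
    push_cast
    rw [hn, mul_pow, mul_pow, neg_pow σ, hkey]
    ring
  have h2 : (a * n : ℤ) = 1 - b * p := by linarith
  obtain ⟨c, hc⟩ := sub_dvd_pow_sub_pow (1 - b * (p : ℤ)) 1 (p - 1)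
  have h3 : (1 - b * (p : ℤ)) ^ (p - 1) = 1 + (p : ℤ) * (-b * c) := by
    have : (1 - b * (p : ℤ)) ^ (p - 1) = 1 ^ (p - 1) + (1 - b * (p : ℤ) - 1) * c := by
      rw [← hc]; ring
    rw [this, one_pow]; ring
  have h4 : ((a * n : ℤ) : ℂ) ^ (p - 1) = 1 + (p : ℂ) * ((-b * c : ℤ) : ℂ) := by
    rw [h2]
    have := congrArg (fun z : ℤ => (z : ℂ)) h3
    push_cast at this ⊢
    exact this
  set T := (a : ℂ) ^ (p - 1) * ω ^ (p - 1) * ((-1) ^ (p - 1) * (-S)) - ((-b * c : ℤ) : ℂ) with hT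
  have hTint : IsIntegral ℤ T := by
    apply IsIntegral.sub
    · apply IsIntegral.mul
      · exact ((isIntegral_intCast' a).pow _).mul (hω.pow _)
      · apply IsIntegral.mul
        · exact (isIntegral_one.neg).pow _
        · exact hS.neg
    · exact isIntegral_intCast' _
  apply not_isIntegral_inv_prime p hp T hTint
  rw [hT, mul_sub, ← h1, h4]
  ring

end Cfsg.Agent.S1495
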