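import Cfsg.Statements.S1496
import Mathlib
import Cfsg.Agent.Lib.Lead_Coprime
import Cfsg.Agent.Lib.Lead_SZ

set_option autoImplicit false
open Cfsg

namespace Cfsg.Agent.S1496

open Cfsg.Agent.Lib.Lead_Coprime Cfsg.Agent.Lib.Lead_SZ

/-- Let H be a subgroup of the finite group G and g an element normalising H whose order is coprime to the order of H. Then for every h ∈ H there are x ∈ H and c ∈ H commuting with g such that x * (h * g) * x⁻¹ = c * g. -/
theorem result {G : Type*} [Group G] [Finite G] (H : Subgroup G) (g : G) (hg : g ∈ Subgroup.normalizer (H : Set G)) (hcop : Nat.Coprime (orderOf g) (Nat.card H)) (h : G) (hh : h ∈ H) : ∃ x ∈ H, ∃ c ∈ H, c * g = g * c ∧ x * (h * g) * x⁻¹ = c * g := by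
  classical
  set n := orderOf g with hn
  set m := Nat.card H with hm
  set y := h * g with hy
  have hnpos : 0 < n := orderOf_pos g
  -- y ^ k ≡ g ^ k mod H
  have hrel : ∀ k : ℕ, y ^ k * (g ^ k)⁻¹ ∈ H := by
    intro k
    induction k with
    | zero => simp
    | succ k ih =>
      have hgk : g ^ k ∈ Subgroup.normalizer (H : Set G) := Subgroup.pow_mem _ hg k
      have h1 := (Subgroup.mem_normalizer_iff.mp hgk h).mp hh
      have e : y ^ (k + 1) * (g ^ (k + 1))⁻¹ = (y ^ k * (g ^ k)⁻¹) * (g ^ k * h * (g ^ k)⁻¹) := by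
        rw [pow_succ, pow_succ, hy]; group
      rw [e]
      exact H.mul_mem ih h1
  have hdisj : ∀ u ∈ Subgroup.zpowers g, u ∈ H → u = 1 := by
    intro u hu huH
    have h1 : orderOf u ∣ n := by
      have := Subgroup.orderOf_dvd_natCard _ hu
      rwa [Nat.card_zpowers] at this
    have h2 : orderOf u ∣ m := Subgroup.orderOf_dvd_natCard _ huH
    have h3 : orderOf u ∣ Nat.gcd n m := Nat.dvd_gcd h1 h2
    rw [hcop, Nat.dvd_one] at h3
    exact orderOf_eq_one_iff.mp h3
  have hyn : y ^ n ∈ H := by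
    have := hrel n
    rwa [hn, pow_orderOf_eq_one, inv_one, mul_one] at this
  have hynm : y ^ (n * m) = 1 := by
    rw [pow_mul]
    have := pow_card_eq_one' (G := H) (x := ⟨y ^ n, hyn⟩)
    exact congrArg Subtype.val this
  have hordy : orderOf y ∣ n * m := orderOf_dvd_of_pow_eq_one hynm
  obtain ⟨a, ha1, ha0⟩ := Nat.chineseRemainder hcop 1 0
  obtain ⟨b, hb0, hb1⟩ := Nat.chineseRemainder hcop 0 1
  have hab : a + b ≡ 1 [MOD n * m] := by
    rw [← Nat.modEq_and_modEq_iff_modEq_mul hcop]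
    exact ⟨by simpa using ha1.add hb0, by simpa using ha0.add hb1⟩
  have hyab : y ^ b * y ^ a = y := by
    rw [← pow_add, add_comm]
    conv_rhs => rw [← pow_one y]
    exact pow_eq_pow_iff_modEq.mpr (hab.of_dvd hordy)
  set g' := y ^ a with hg'
  set c' := y ^ b with hc'
  have hc'H : c' ∈ H := by
    obtain ⟨t, ht⟩ := (Nat.modEq_zero_iff_dvd.mp hb0)
    rw [hc', ht, pow_mul]
    exact H.pow_mem hyn t
  have hga : g ^ a = g := by
    conv_rhs => rw [← pow_one g]
    exact pow_eq_pow_iff_modEq.mpr ha1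
  have hg'rel : g' * g⁻¹ ∈ H := by
    have := hrel a
    rwa [hga] at this
  have hg'n : g' ^ n = 1 := by
    rw [hg', ← pow_mul]
    apply orderOf_dvd_iff_pow_eq_one.mp
    obtain ⟨t, ht⟩ := (Nat.modEq_zero_iff_dvd.mp ha0)
    rw [ht]
    exact hordy.trans ⟨t, by ring⟩
  have hordg' : orderOf g' = n := by
    apply Nat.dvd_antisymm (orderOf_dvd_of_pow_eq_one hg'n)
    set k := orderOf g' with hk
    have h1 : g' ^ k = 1 := pow_orderOf_eq_one g'
    have h2 := hrel (a * k)
    rw [pow_mul, ← hg', h1, one_mul] at h2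
    have h3 : g ^ (a * k) ∈ H := by
      have := H.inv_mem h2
      rwa [inv_inv] at this
    have h4 := hdisj _ (Subgroup.pow_mem _ (Subgroup.mem_zpowers g) _) h3
    have h5 : n ∣ a * k := orderOf_dvd_of_pow_eq_one h4
    have h6 : a * k ≡ 1 * k [MOD n] := ha1.mul_right k
    rw [one_mul] at h6
    exact (Nat.modEq_zero_iff_dvd.mp (h6.symm.trans (Nat.modEq_zero_iff_dvd.mpr h5)))
  have hdisj' : ∀ u ∈ Subgroup.zpowers g', u ∈ H → u = 1 := by
    intro u hu huH
    have h1 : orderOf u ∣ n := by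
      have := Subgroup.orderOf_dvd_natCard _ hu
      rwa [Nat.card_zpowers, hordg'] at this
    have h2 : orderOf u ∣ m := Subgroup.orderOf_dvd_natCard _ huH
    have h3 : orderOf u ∣ Nat.gcd n m := Nat.dvd_gcd h1 h2
    rw [hcop, Nat.dvd_one] at h3
    exact orderOf_eq_one_iff.mp h3
  -- conjugacy
  have hAD : Subgroup.zpowers g ≤ Subgroup.normalizer (H : Set G) := (Subgroup.zpowers_le).mpr hg
  have hcop' : (Nat.card (Subgroup.zpowers g)).Coprime (Nat.card H) := by
    rw [Nat.card_zpowers]; exact hcop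
  have hyK : y ∈ H ⊔ Subgroup.zpowers g :=
    Subgroup.mul_mem _ (Subgroup.mem_sup_left hh) (Subgroup.mem_sup_right (Subgroup.mem_zpowers g))
  have hA₂ : Subgroup.zpowers g' ≤ H ⊔ Subgroup.zpowers g :=
    (Subgroup.zpowers_le).mpr (Subgroup.pow_mem _ hyK a)
  have hcard : Nat.card (Subgroup.zpowers g') = Nat.card (Subgroup.zpowers g) := by
    rw [Nat.card_zpowers, Nat.card_zpowers, hordg']
  have hsolv : Group.IsSolvable (Subgroup.zpowers g) := by
    apply isSolvable_of_comm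
    intro u v
    letI := IsCyclic.commGroup (α := Subgroup.zpowers g)
    exact mul_comm u v
  obtain ⟨d, hdH, hd⟩ := exists_conj_of_le_sup H (Subgroup.zpowers g) (Subgroup.zpowers g') hAD hcop'
    (Or.inl hsolv) hA₂ hcard
  have hdg : d * g * d⁻¹ ∈ Subgroup.zpowers g' := by
    rw [← hd, mem_conj_smul]
    have : d⁻¹ * (d * g * d⁻¹) * d = g := by group
    rw [this]; exact Subgroup.mem_zpowers g
  have hdg' : d * g * d⁻¹ = g' := by
    have h1 : d * g * d⁻¹ * g'⁻¹ ∈ Subgroup.zpowers g' :=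
      Subgroup.mul_mem _ hdg (Subgroup.inv_mem _ (Subgroup.mem_zpowers g'))
    have h2 : d * g * d⁻¹ * g'⁻¹ ∈ H := by
      have h3 := (Subgroup.mem_normalizer_iff.mp hg d⁻¹).mp (H.inv_mem hdH)
      have e : d * g * d⁻¹ * g'⁻¹ = d * (g * d⁻¹ * g⁻¹) * (g' * g⁻¹)⁻¹ := by group
      rw [e]
      exact H.mul_mem (H.mul_mem hdH h3) (H.inv_mem hg'rel)
    have := hdisj' _ h1 h2
    exact mul_inv_eq_one.mp this
  have hcomm : c' * g' = g' * c' := by
    rw [hc', hg', ← pow_add, ← pow_add, add_comm]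
  refine ⟨d⁻¹, H.inv_mem hdH, d⁻¹ * c' * d, ?_, ?_, ?_⟩
  · exact H.mul_mem (H.mul_mem (H.inv_mem hdH) hc'H) hdH
  · have e1 : d⁻¹ * c' * d * g = d⁻¹ * (c' * (d * g * d⁻¹)) * d := by group
    have e2 : g * (d⁻¹ * c' * d) = d⁻¹ * ((d * g * d⁻¹) * c') * d := by group
    rw [e1, e2, hdg', hcomm]
  · rw [inv_inv]
    have e1 : d⁻¹ * c' * d * g = d⁻¹ * (c' * (d * g * d⁻¹)) * d := by group
    rw [e1, hdg', hyab]

end Cfsg.Agent.S1496
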