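import Mathlib
import Cfsg.Statements.S1497

set_option autoImplicit false
open Cfsg

namespace Cfsg.Agent.S1497

theorem mem_L_of_dade {G : Type*} [Group G] (A : Set G) (L : Subgroup G)
    (hD : Cfsg.DadeHypothesis A L (fun _ => ⊥)) (a : G) (ha : a ∈ A) (g : G)
    (hg : g * a * g⁻¹ ∈ A) : g ∈ L := by
  obtain ⟨x, hx, hxa⟩ := hD.fusion a ha g hg
  have hc : x⁻¹ * g ∈ Subgroup.centralizer ({a} : Set G) := by
    rw [Subgroup.mem_centralizer_iff]
    intro y hy
    rw [Set.mem_singleton_iff] at hy
    rw [hy]
    have h1 : g * a = x * a * x⁻¹ * g := by rw [hxa]; group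
    calc a * (x⁻¹ * g) = x⁻¹ * (x * a * x⁻¹ * g) := by group
      _ = x⁻¹ * (g * a) := by rw [h1]
      _ = x⁻¹ * g * a := by group
  have h2 := hD.sup_eq a ha
  simp only [bot_sup_eq] at h2
  rw [← h2] at hc
  have h3 : x * (x⁻¹ * g) ∈ L := mul_mem hx hc.1
  simpa using h3

theorem result {G : Type*} [Group G] [Finite G] (A : Set G) (hA : A.Nonempty) (h1 : (1 : G) ∉ A) (L : Subgroup G) : (Cfsg.IsTISubset A ∧ Subgroup.normalizer A = L) ↔ Cfsg.DadeHypothesis A L (fun _ => ⊥) := by
  constructor
  · rintro ⟨hTI, hN⟩
    have key : ∀ a ∈ A, ∀ g : G, g * a * g⁻¹ ∈ A → g ∈ L := by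
      intro a ha g hg
      rw [← hN]
      by_contra hgn
      have := hTI g hgn a ha hg
      rw [this] at ha
      exact h1 ha
    refine
      { one_not_mem := h1
        subset := ?_
        conj_mem := ?_
        fusion := ?_
        le_centralizer := ?_
        conj_mem_H := ?_
        inf_eq_bot := ?_
        sup_eq := ?_
        coprime := ?_ }
    · intro a ha
      apply key a ha a
      have : a * a * a⁻¹ = a := by group
      rw [this]; exact ha
    · intro x hx a ha
      rw [← hN, Subgroup.mem_set_normalizer_iff] at hx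
      exact (hx a).mp ha
    · intro a ha g hg
      exact ⟨g, key a ha g hg, rfl⟩
    · intro a _
      exact bot_le
    · intro a _ c _ u hu
      rw [Subgroup.mem_bot] at hu
      rw [hu, Subgroup.mem_bot]
      group
    · intro a _
      exact bot_inf_eq _
    · intro a ha
      rw [bot_sup_eq]
      apply le_antisymm inf_le_right
      intro c hc
      refine ⟨?_, hc⟩
      apply key a ha c
      rw [Subgroup.mem_centralizer_iff] at hc
      have h2 := hc a rfl
      have : c * a * c⁻¹ = a := by rw [← h2]; group
      rw [this]; exact ha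
    · intro a _ b _
      simp
  · intro hD
    have hN : Subgroup.normalizer A = L := by
      apply le_antisymm
      · intro g hg
        obtain ⟨a, ha⟩ := hA
        rw [Subgroup.mem_set_normalizer_iff] at hg
        exact mem_L_of_dade A L hD a ha g ((hg a).mp ha)
      · intro x hx
        rw [Subgroup.mem_set_normalizer_iff]
        intro h
        constructor
        · intro hh
          exact hD.conj_mem x hx h hh
        · intro hh
          have := hD.conj_mem x⁻¹ (inv_mem hx) _ hh
          have h2 : x⁻¹ * (x * h * x⁻¹) * x⁻¹⁻¹ = h := by group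
          rwa [h2] at this
    refine ⟨?_, hN⟩
    intro g hg x hx hgx
    exfalso
    apply hg
    rw [hN]
    exact mem_L_of_dade A L hD x hx g hgx

end Cfsg.Agent.S1497
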