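import Mathlib
import Cfsg.Statements.S1498
import Cfsg.Agent.Lib.Helper2_Conj

set_option autoImplicit false
open Cfsg
open scoped Pointwise

namespace Cfsg.Agent.S1498

open Cfsg.Agent.Lib.Helper2_Conj

theorem core {G : Type*} [Group G] [Finite G] (A : Set G) (L : Subgroup G) (H : G → Subgroup G)
    (hD : Cfsg.DadeHypothesis A L H) (a : G) (ha : a ∈ A) (x : G) (hx : x ∈ L) :
    (H a).map (MulAut.conj x).toMonoidHom ≤ H (x * a * x⁻¹) := by
  set a' := x * a * x⁻¹ with ha'
  have ha'A : a' ∈ A := hD.conj_mem x hx a ha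
  intro v hv
  rw [mem_conj] at hv
  set u := x⁻¹ * v * x with hu
  have hvu : v = x * u * x⁻¹ := by rw [hu]; group
  have huC : u ∈ Subgroup.centralizer ({a} : Set G) := hD.le_centralizer a ha hv
  have hvC : v ∈ Subgroup.centralizer ({a'} : Set G) := by
    rw [Subgroup.mem_centralizer_iff] at huC ⊢
    intro y hy
    rw [Set.mem_singleton_iff] at hy
    have h1 := huC a rfl
    rw [hy, hvu, ha']
    calc x * a * x⁻¹ * (x * u * x⁻¹) = x * (a * u) * x⁻¹ := by group
      _ = x * (u * a) * x⁻¹ := by rw [h1]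
      _ = x * u * x⁻¹ * (x * a * x⁻¹) := by group
  set CL := L ⊓ Subgroup.centralizer ({a'} : Set G) with hCL
  have hle : CL ≤ Subgroup.normalizer ((H a' : Subgroup G) : Set G) := by
    intro c hc
    rw [Subgroup.mem_normalizer_iff]
    intro h
    constructor
    · intro hh
      exact hD.conj_mem_H a' ha'A c hc.2 h hh
    · intro hh
      have := hD.conj_mem_H a' ha'A c⁻¹ (inv_mem hc.2) _ hh
      have h2 : c⁻¹ * (c * h * c⁻¹) * c⁻¹⁻¹ = h := by group
      rwa [h2] at this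
  have hcoe := Subgroup.coe_mul_of_right_le_normalizer_left (H a') CL hle
  have hv' : v ∈ ((H a' ⊔ CL : Subgroup G) : Set G) := by
    show v ∈ H a' ⊔ CL
    rw [hCL, hD.sup_eq a' ha'A]
    exact hvC
  rw [hcoe] at hv'
  obtain ⟨h, hh0, c, hc0, hhc0⟩ := hv'
  have hh : h ∈ H a' := hh0
  have hc : c ∈ CL := hc0
  have hhc : h * c = v := hhc0
  have hpow : ∀ k : ℕ, ∃ h' ∈ H a', (h * c) ^ k = h' * c ^ k := by
    intro k
    induction k with
    | zero => exact ⟨1, one_mem _, by simp⟩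
    | succ k ih =>
      obtain ⟨h', hh', he⟩ := ih
      have hck : c ^ k ∈ Subgroup.centralizer ({a'} : Set G) := pow_mem hc.2 k
      have h1 := hD.conj_mem_H a' ha'A (c ^ k) hck h hh
      refine ⟨h' * (c ^ k * h * (c ^ k)⁻¹), mul_mem hh' h1, ?_⟩
      rw [pow_succ, he, pow_succ]
      group
  set n := orderOf v with hn
  obtain ⟨h', hh', he⟩ := hpow n
  have hvn : (h * c) ^ n = 1 := by
    have : h * c = v := hhc
    rw [this, hn]
    exact pow_orderOf_eq_one v
  rw [hvn] at he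
  have hcn : c ^ n ∈ H a' ⊓ CL := by
    refine Subgroup.mem_inf.mpr ⟨?_, pow_mem hc n⟩
    have : c ^ n = h'⁻¹ := by
      have h2 : h'⁻¹ * 1 = h'⁻¹ * (h' * c ^ n) := by rw [← he]
      simpa using h2.symm
    rw [this]
    exact inv_mem hh'
  rw [hCL, hD.inf_eq_bot a' ha'A, Subgroup.mem_bot] at hcn
  have hdvd1 : orderOf c ∣ n := orderOf_dvd_of_pow_eq_one hcn
  have hnu : n = orderOf u := by
    rw [hn, hvu]
    have : x * u * x⁻¹ = MulAut.conj x u := by simp [MulAut.conj_apply]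
    rw [this, MulEquiv.orderOf_eq]
  have hdvd2 : n ∣ Nat.card (H a) := by
    rw [hnu]
    exact Subgroup.orderOf_dvd_natCard (H a) hv
  have hdvd3 : orderOf c ∣ Nat.card CL := Subgroup.orderOf_dvd_natCard CL hc
  have hcop := hD.coprime a ha a' ha'A
  have h1 : orderOf c = 1 :=
    Nat.eq_one_of_dvd_coprimes hcop (hdvd1.trans hdvd2) hdvd3
  rw [orderOf_eq_one_iff] at h1
  rw [h1, mul_one] at hhc
  rw [← hhc]
  exact hh

theorem result {G : Type*} [Group G] [Finite G] (A : Set G) (L : Subgroup G) (H : G → Subgroup G) (hD : Cfsg.DadeHypothesis A L H) (a : G) (ha : a ∈ A) (x : G) (hx : x ∈ L) : H (x * a * x⁻¹) = (H a).map (MulAut.conj x).toMonoidHom := by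
  apply le_antisymm
  · have ha'A : x * a * x⁻¹ ∈ A := hD.conj_mem x hx a ha
    have h1 := core A L H hD (x * a * x⁻¹) ha'A x⁻¹ (inv_mem hx)
    have h2 : x⁻¹ * (x * a * x⁻¹) * x⁻¹⁻¹ = a := by group
    rw [h2] at h1
    intro v hv
    rw [mem_conj]
    apply h1
    rw [mem_conj]
    have : x⁻¹⁻¹ * (x⁻¹ * v * x) * x⁻¹ = v := by group
    rw [this]
    exact hv
  · exact core A L H hD a ha x hx

end Cfsg.Agent.S1498
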