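import Cfsg.Statements.S1499
import Mathlib

set_option autoImplicit false
open Cfsg

namespace Cfsg.Agent.S1499

/-- If `a` and `u` commute, `a ^ m = 1`, `u ^ n = 1`, `k ≡ 1 [MOD m]` and `k ≡ 0 [MOD n]`, then
`(a * u) ^ k = a`. -/
theorem pow_trick {G : Type*} [Group G] {a u : G} (hau : Commute a u) {m n k : ℕ}
    (ham : a ^ m = 1) (hun : u ^ n = 1) (hk1 : k ≡ 1 [MOD m]) (hk0 : k ≡ 0 [MOD n]) :
    (a * u) ^ k = a := by
  rw [hau.mul_pow]
  have h1 : a ^ k = a := by
    rw [pow_eq_pow_mod k ham, hk1, ← pow_eq_pow_mod 1 ham, pow_one]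
  have h2 : u ^ k = 1 := by
    rw [pow_eq_pow_mod k hun, hk0, ← pow_eq_pow_mod 0 hun, pow_zero]
  rw [h1, h2, mul_one]

/-- The key step: conjugate coset elements have conjugate leaders. -/
theorem key {G : Type*} [Group G] [Finite G] {A : Set G} {L : Subgroup G} {H : G → Subgroup G}
    (hD : Cfsg.DadeHypothesis A L H) {a b : G} (ha : a ∈ A) (hb : b ∈ A) {u v g : G}
    (hu : u ∈ H a) (hv : v ∈ H b) (hg : g * (a * u) * g⁻¹ = b * v) : g * a * g⁻¹ = b := by
  set m := Nat.card ↥(L ⊓ Subgroup.centralizer ({a} : Set G)) *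
    Nat.card ↥(L ⊓ Subgroup.centralizer ({b} : Set G)) with hm
  set n := Nat.card (H a) * Nat.card (H b) with hn
  have hcop : Nat.Coprime m n := by
    rw [hm, hn]
    apply Nat.Coprime.mul_left
    · exact Nat.Coprime.mul_right (hD.coprime a ha a ha).symm (hD.coprime b hb a ha).symm
    · exact Nat.Coprime.mul_right (hD.coprime a ha b hb).symm (hD.coprime b hb b hb).symm
  obtain ⟨k, hk1, hk0⟩ := Nat.chineseRemainder hcop 1 0
  have haCL : a ∈ L ⊓ Subgroup.centralizer ({a} : Set G) :=
    Subgroup.mem_inf.mpr ⟨hD.subset ha, Subgroup.mem_centralizer_singleton_iff.mpr rfl⟩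
  have hbCL : b ∈ L ⊓ Subgroup.centralizer ({b} : Set G) :=
    Subgroup.mem_inf.mpr ⟨hD.subset hb, Subgroup.mem_centralizer_singleton_iff.mpr rfl⟩
  have ham : a ^ m = 1 := by
    rw [hm, pow_mul]
    have : a ^ Nat.card ↥(L ⊓ Subgroup.centralizer ({a} : Set G)) = 1 :=
      orderOf_dvd_iff_pow_eq_one.mp (Subgroup.orderOf_dvd_natCard _ haCL)
    rw [this, one_pow]
  have hbm : b ^ m = 1 := by
    rw [hm, mul_comm, pow_mul]
    have : b ^ Nat.card ↥(L ⊓ Subgroup.centralizer ({b} : Set G)) = 1 :=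
      orderOf_dvd_iff_pow_eq_one.mp (Subgroup.orderOf_dvd_natCard _ hbCL)
    rw [this, one_pow]
  have hun : u ^ n = 1 := by
    rw [hn, pow_mul]
    have : u ^ Nat.card (H a) = 1 :=
      orderOf_dvd_iff_pow_eq_one.mp (Subgroup.orderOf_dvd_natCard _ hu)
    rw [this, one_pow]
  have hvn : v ^ n = 1 := by
    rw [hn, mul_comm, pow_mul]
    have : v ^ Nat.card (H b) = 1 :=
      orderOf_dvd_iff_pow_eq_one.mp (Subgroup.orderOf_dvd_natCard _ hv)
    rw [this, one_pow]
  have hau : Commute a u :=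
    (Subgroup.mem_centralizer_singleton_iff.mp (hD.le_centralizer a ha hu)).symm
  have hbv : Commute b v :=
    (Subgroup.mem_centralizer_singleton_iff.mp (hD.le_centralizer b hb hv)).symm
  have h1 := congrArg (fun x => x ^ k) hg
  simp only [conj_pow] at h1
  rw [pow_trick hau ham hun hk1 hk0, pow_trick hbv hbm hvn hk1 hk0] at h1
  exact h1

/-- Under the Dade hypothesis for (A, L, H), let a, b ∈ A. If an element of the coset a·H(a) is conjugate in G to an element of b·H(b), then a and b are conjugate by an element of L. Moreover the set normaliser of the coset a·H(a) is the centraliser of a. -/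
theorem result {G : Type*} [Group G] [Finite G] (A : Set G) (L : Subgroup G) (H : G → Subgroup G) (hD : Cfsg.DadeHypothesis A L H) (a b : G) (ha : a ∈ A) (hb : b ∈ A) : ((∃ u ∈ H a, ∃ v ∈ H b, ∃ g : G, g * (a * u) * g⁻¹ = b * v) → ∃ x ∈ L, x * a * x⁻¹ = b) ∧ Subgroup.normalizer ((fun u : G => a * u) '' (H a : Set G)) = Subgroup.centralizer ({a} : Set G) := by
  constructor
  · rintro ⟨u, hu, v, hv, g, hg⟩
    have h1 := key hD ha hb hu hv hg
    obtain ⟨x, hx, hxa⟩ := hD.fusion a ha g (h1 ▸ hb)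
    exact ⟨x, hx, hxa.trans h1⟩
  · ext g
    constructor
    · intro hg
      rw [Subgroup.mem_set_normalizer_iff] at hg
      have h1 : a ∈ (fun u : G => a * u) '' (H a : Set G) := ⟨1, (H a).one_mem, mul_one a⟩
      obtain ⟨v, hv, hv'⟩ := (hg a).mp h1
      have h2 : g * (a * 1) * g⁻¹ = a * v := by rw [mul_one]; exact hv'.symm
      have h3 := key hD ha ha (H a).one_mem hv h2
      rw [Subgroup.mem_centralizer_singleton_iff]
      calc g * a = (g * a * g⁻¹) * g := by group
        _ = a * g := by rw [h3]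
    · intro hg
      have hconj : ∀ c ∈ Subgroup.centralizer ({a} : Set G), ∀ n : G,
          n ∈ (fun u : G => a * u) '' (H a : Set G) →
          c * n * c⁻¹ ∈ (fun u : G => a * u) '' (H a : Set G) := by
        rintro c hc n ⟨u, hu, rfl⟩
        refine ⟨c * u * c⁻¹, hD.conj_mem_H a ha c hc u hu, ?_⟩
        have hca : c * a = a * c := Subgroup.mem_centralizer_singleton_iff.mp hc
        show a * (c * u * c⁻¹) = c * (a * u) * c⁻¹
        calc a * (c * u * c⁻¹) = (a * c) * u * c⁻¹ := by group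
          _ = (c * a) * u * c⁻¹ := by rw [hca]
          _ = c * (a * u) * c⁻¹ := by group
      rw [Subgroup.mem_set_normalizer_iff]
      intro n
      constructor
      · exact hconj g hg n
      · intro hn
        have := hconj g⁻¹ (Subgroup.inv_mem _ hg) _ hn
        simpa [mul_assoc] using this

end Cfsg.Agent.S1499
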