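import Cfsg.Statements.S1504
import Cfsg.Agent.Lib.Helper2_ClassFn
import Cfsg.Agent.Lib.Helper2_CharBasic
import Cfsg.Agent.Lib.Helper2_CharOrtho
import Cfsg.Agent.Lib.Helper2_Clifford
import Cfsg.Agent.Lib.Helper2_CharMore
import Cfsg.Agent.Lib.Helper2_CharNorm
import Cfsg.Agent.Lib.Helper2_CharValues
import Cfsg.Agent.Lib.Helper2_CharComplete
import Cfsg.Agent.Lib.Helper2_CharInd
import Cfsg.Agent.Lib.Helper2_CharTable
import Cfsg.Agent.Lib.Helper2_CharFrob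
import Cfsg.Agent.Lib.Helper2_CharDeg
import Cfsg.Agent.Lib.Helper2_CharSum
import Cfsg.Agent.Lib.Helper2_CharExtra
import Cfsg.Agent.Lib.Helper2_CharCentral
import Cfsg.Agent.Lib.Helper2_PermChar
import Cfsg.Agent.Lib.Helper2_FrobSchur
import Cfsg.Agent.Lib.Helper2_CliffordCorr
import Cfsg.Agent.Lib.Helper2_CharKernel

set_option autoImplicit false
open Cfsg

namespace Cfsg.Agent.S1504

open Cfsg.Agent.Lib.Helper2_ClassFn Cfsg.Agent.Lib.Helper2_CharBasic Cfsg.Agent.Lib.Helper2_CharOrtho Cfsg.Agent.Lib.Helper2_Clifford Cfsg.Agent.Lib.Helper2_CharMore Cfsg.Agent.Lib.Helper2_CharNorm Cfsg.Agent.Lib.Helper2_CharValues Cfsg.Agent.Lib.Helper2_CharComplete Cfsg.Agent.Lib.Helper2_CharInd Cfsg.Agent.Lib.Helper2_CharTable Cfsg.Agent.Lib.Helper2_CharFrob Cfsg.Agent.Lib.Helper2_CharDeg Cfsg.Agent.Lib.Helper2_CharSum Cfsg.Agent.Lib.Helper2_CharExtra Cfsg.Agent.Lib.Helper2_CharCentral Cfsg.Agent.Lib.Helper2_PermChar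 Cfsg.Agent.Lib.Helper2_FrobSchur Cfsg.Agent.Lib.Helper2_CliffordCorr Cfsg.Agent.Lib.Helper2_CharKernel
open scoped Pointwise


/-- Let W₁, W₂ be subgroups of a finite group with W₁ ⊓ W₂ = ⊥ whose elements commute, and W = W₁ ⊔ W₂. For linear characters φ, ψ of W with φ trivial on W₂ and ψ trivial on W₁, the function (1 − φ)(1 − ψ) vanishes on W₁ ∪ W₂; and the family of these functions, indexed by pairs (φ, ψ) with φ ≠ 1 ≠ ψ, is linearly independent over ℂ. -/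
theorem result {G : Type*} [Group G] [Finite G] (W₁ W₂ : Subgroup G) (hdisj : W₁ ⊓ W₂ = ⊥) (hcomm : ∀ a ∈ W₁, ∀ b ∈ W₂, a * b = b * a) : (∀ φ ψ : ↥(W₁ ⊔ W₂) →* ℂˣ, (∀ w : ↥(W₁ ⊔ W₂), (w : G) ∈ W₂ → φ w = 1) → (∀ w : ↥(W₁ ⊔ W₂), (w : G) ∈ W₁ → ψ w = 1) → ∀ w : ↥(W₁ ⊔ W₂), ((w : G) ∈ W₁ ∨ (w : G) ∈ W₂) → (1 - (φ w : ℂ) - (ψ w : ℂ) + (φ w : ℂ) * (ψ w : ℂ)) = 0) ∧ LinearIndependent ℂ (fun p : {p : (↥(W₁ ⊔ W₂) →* ℂˣ) × (↥(W₁ ⊔ W₂) →* ℂˣ) // p.1 ≠ 1 ∧ p.2 ≠ 1 ∧ (∀ w : ↥(W₁ ⊔ W₂), (w : G) ∈ W₂ → p.1 w = 1) ∧ (∀ w : ↥(W₁ ⊔ W₂), (w : G) ∈ W₁ → p.2 w = 1)} => fun w : ↥(W₁ ⊔ W₂) => 1 - (p.1.1 w : ℂ) - (p.1.2 w : ℂ) + (p.1.1 w : ℂ) * (p.1.2 w : ℂ)) := by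
  classical
  constructor
  · intro φ ψ hφ hψ w hw
    rcases hw with h | h
    · rw [hψ w h]; simp
    · rw [hφ w h]; simp
  · -- a hom trivial on W₁ and W₂ is trivial
    have htriv : ∀ ω : ↥(W₁ ⊔ W₂) →* ℂˣ, (∀ w : ↥(W₁ ⊔ W₂), (w : G) ∈ W₁ → ω w = 1) →
        (∀ w : ↥(W₁ ⊔ W₂), (w : G) ∈ W₂ → ω w = 1) → ω = 1 := by
      intro ω h1 h2
      have hle1 : W₁ ≤ (ω.ker).map (W₁ ⊔ W₂).subtype := by
        intro a ha
        exact ⟨⟨a, (le_sup_left : W₁ ≤ W₁ ⊔ W₂) ha⟩, MonoidHom.mem_ker.mpr (h1 _ ha), rfl⟩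
      have hle2 : W₂ ≤ (ω.ker).map (W₁ ⊔ W₂).subtype := by
        intro a ha
        exact ⟨⟨a, (le_sup_right : W₂ ≤ W₁ ⊔ W₂) ha⟩, MonoidHom.mem_ker.mpr (h2 _ ha), rfl⟩
      ext w
      obtain ⟨k, hk, hkw⟩ := (sup_le hle1 hle2) w.2
      have : k = w := Subtype.ext hkw
      rw [← this, MonoidHom.mem_ker.mp hk]
      rfl
    -- Dedekind independence
    have hinj : Function.Injective
        (fun ω : ↥(W₁ ⊔ W₂) →* ℂˣ => (Units.coeHom ℂ).comp ω) := by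
      intro a b hab
      ext w
      have := DFunLike.congr_fun hab w
      simpa using this
    have hded : LinearIndependent ℂ ((fun f : ↥(W₁ ⊔ W₂) →* ℂ => (f : ↥(W₁ ⊔ W₂) → ℂ)) ∘
        (fun ω : ↥(W₁ ⊔ W₂) →* ℂˣ => (Units.coeHom ℂ).comp ω)) :=
      (linearIndependent_monoidHom ↥(W₁ ⊔ W₂) ℂ).comp _ hinj
    rw [linearIndependent_iff']
    intro s c hsum q hq
    set e : (↥(W₁ ⊔ W₂) →* ℂˣ) → (↥(W₁ ⊔ W₂) → ℂ) :=
      ((fun f : ↥(W₁ ⊔ W₂) →* ℂ => (f : ↥(W₁ ⊔ W₂) → ℂ)) ∘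
        (fun ω : ↥(W₁ ⊔ W₂) →* ℂˣ => (Units.coeHom ℂ).comp ω)) with he
    have hew : ∀ ω w, e ω w = ((ω w : ℂˣ) : ℂ) := fun ω w => rfl
    let Φ : {p : (↥(W₁ ⊔ W₂) →* ℂˣ) × (↥(W₁ ⊔ W₂) →* ℂˣ) // p.1 ≠ 1 ∧ p.2 ≠ 1 ∧
        (∀ w : ↥(W₁ ⊔ W₂), (w : G) ∈ W₂ → p.1 w = 1) ∧
        (∀ w : ↥(W₁ ⊔ W₂), (w : G) ∈ W₁ → p.2 w = 1)} → ((↥(W₁ ⊔ W₂) →* ℂˣ) →₀ ℂ) :=
      fun p => Finsupp.single 1 1 - Finsupp.single p.1.1 1 - Finsupp.single p.1.2 1
        + Finsupp.single (p.1.1 * p.1.2) 1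
    have hΦ : ∀ p, Finsupp.linearCombination ℂ e (Φ p)
        = fun w : ↥(W₁ ⊔ W₂) => 1 - (p.1.1 w : ℂ) - (p.1.2 w : ℂ) + (p.1.1 w : ℂ) * (p.1.2 w : ℂ) := by
      intro p
      simp only [Φ, map_add, map_sub, Finsupp.linearCombination_single, one_smul]
      ext w
      simp [hew]
    have h0 : Finsupp.linearCombination ℂ e (∑ p ∈ s, c p • Φ p) = 0 := by
      rw [map_sum]
      simp_rw [map_smul, hΦ]
      exact hsum
    have h1 : ∑ p ∈ s, c p • Φ p = 0 := by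
      apply hded
      rw [h0, map_zero]
    have h2 := DFunLike.congr_fun h1 (q.1.1 * q.1.2)
    rw [Finsupp.finsetSum_apply] at h2
    simp only [Finsupp.smul_apply, Finsupp.zero_apply, smul_eq_mul] at h2
    -- evaluate Φ p at φ_q ψ_q
    have hval : ∀ p, Φ p (q.1.1 * q.1.2) = if p = q then 1 else 0 := by
      intro p
      obtain ⟨⟨φ, ψ⟩, hφ1, hψ1, hφ2, hψ2⟩ := p
      obtain ⟨⟨φ', ψ'⟩, hφ1', hψ1', hφ2', hψ2'⟩ := q
      simp only [Φ, Finsupp.add_apply, Finsupp.sub_apply, Finsupp.single_apply]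
      -- 1 ≠ φ' ψ'
      have n1 : (1 : ↥(W₁ ⊔ W₂) →* ℂˣ) ≠ φ' * ψ' := by
        intro h
        apply hφ1'
        apply htriv φ'
        · intro w hw
          have := DFunLike.congr_fun h w
          simp only [MonoidHom.one_apply, MonoidHom.mul_apply, hψ2' w hw, mul_one] at this
          exact this.symm
        · exact hφ2'
      have n2 : φ ≠ φ' * ψ' := by
        intro h
        apply hψ1'
        apply htriv ψ'
        · exact hψ2'
        · intro w hw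
          have := DFunLike.congr_fun h w
          simp only [MonoidHom.mul_apply, hφ2 w hw, hφ2' w hw, one_mul] at this
          exact this.symm
      have n3 : ψ ≠ φ' * ψ' := by
        intro h
        apply hφ1'
        apply htriv φ'
        · intro w hw
          have := DFunLike.congr_fun h w
          simp only [MonoidHom.mul_apply, hψ2 w hw, hψ2' w hw, mul_one] at this
          exact this.symm
        · exact hφ2'
      rw [if_neg n1, if_neg n2, if_neg n3]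
      by_cases hpq : (⟨(φ, ψ), hφ1, hψ1, hφ2, hψ2⟩ : {p : (↥(W₁ ⊔ W₂) →* ℂˣ) × (↥(W₁ ⊔ W₂) →* ℂˣ) //
          p.1 ≠ 1 ∧ p.2 ≠ 1 ∧ (∀ w : ↥(W₁ ⊔ W₂), (w : G) ∈ W₂ → p.1 w = 1) ∧
          (∀ w : ↥(W₁ ⊔ W₂), (w : G) ∈ W₁ → p.2 w = 1)}) = ⟨(φ', ψ'), hφ1', hψ1', hφ2', hψ2'⟩
      · rw [if_pos hpq]
        have h := congrArg Subtype.val hpq
        simp only [Prod.mk.injEq] at h
        rw [if_pos (by rw [h.1, h.2])]
        ring
      · rw [if_neg hpq, if_neg]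
        · ring
        · intro h
          apply hpq
          apply Subtype.ext
          simp only [Prod.mk.injEq]
          -- φ/φ' = ψ'/ψ trivial on both
          have hφeq : φ = φ' := by
            have : φ * φ'⁻¹ = 1 := by
              apply htriv
              · intro w hw
                have := DFunLike.congr_fun h w
                simp only [MonoidHom.mul_apply, hψ2 w hw, hψ2' w hw, mul_one] at this
                simp only [MonoidHom.mul_apply, MonoidHom.inv_apply, this, mul_inv_cancel]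
              · intro w hw
                simp only [MonoidHom.mul_apply, MonoidHom.inv_apply, hφ2 w hw, hφ2' w hw, inv_one,
                  mul_one]
            exact mul_inv_eq_one.mp this
          refine ⟨hφeq, ?_⟩
          rw [hφeq] at h
          exact mul_left_cancel h
    simp_rw [hval] at h2
    simpa [Finset.sum_ite_eq', hq] using h2

end Cfsg.Agent.S1504
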