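import Cfsg.Statements.S1505
import Cfsg.Agent.Lib.Helper2_ClassFn
import Cfsg.Agent.Lib.Helper2_CharBasic
import Cfsg.Agent.Lib.Helper2_CharOrtho
import Cfsg.Agent.Lib.Helper2_Clifford
import Cfsg.Agent.Lib.Helper2_CharMore
import Cfsg.Agent.Lib.Helper2_CharNorm
import Cfsg.Agent.Lib.Helper2_CharValues
import Cfsg.Agent.Lib.Helper2_CharComplete
import Cfsg.Agent.Lib.Helper2_CharInd
import Cfsg.Agent.Lib.Helper2_CharTable
import Cfsg.Agent.Lib.Helper2_CharFrob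
import Cfsg.Agent.Lib.Helper2_CharDeg
import Cfsg.Agent.Lib.Helper2_CharSum
import Cfsg.Agent.Lib.Helper2_CharExtra
import Cfsg.Agent.Lib.Helper2_CharCentral
import Cfsg.Agent.Lib.Helper2_PermChar
import Cfsg.Agent.Lib.Helper2_FrobSchur
import Cfsg.Agent.Lib.Helper2_CliffordCorr
import Cfsg.Agent.Lib.Helper2_CharKernel
import Cfsg.Agent.Lib.Helper2_CyclicTI
import Cfsg.Agent.S0150

set_option autoImplicit false
open Cfsg

namespace Cfsg.Agent.S1505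

open Cfsg.Agent.Lib.Helper2_ClassFn Cfsg.Agent.Lib.Helper2_CharBasic Cfsg.Agent.Lib.Helper2_CharOrtho Cfsg.Agent.Lib.Helper2_Clifford Cfsg.Agent.Lib.Helper2_CharMore Cfsg.Agent.Lib.Helper2_CharNorm Cfsg.Agent.Lib.Helper2_CharValues Cfsg.Agent.Lib.Helper2_CharComplete Cfsg.Agent.Lib.Helper2_CharInd Cfsg.Agent.Lib.Helper2_CharTable Cfsg.Agent.Lib.Helper2_CharFrob Cfsg.Agent.Lib.Helper2_CharDeg Cfsg.Agent.Lib.Helper2_CharSum Cfsg.Agent.Lib.Helper2_CharExtra Cfsg.Agent.Lib.Helper2_CharCentral Cfsg.Agent.Lib.Helper2_PermChar Cfsg.Agent.Lib.Helper2_FrobSchur Cfsg.Agent.Lib.Helper2_CliffordCorr Cfsg.Agent.Lib.Helper2_CharKernel Cfsg.Agent.Lib.Helper2_CyclicTI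
open scoped Pointwise

/-- Isometry of induction on a TI-subset (S0150), for any subgroup equal to the normaliser. -/
theorem isometry_of_TI {G : Type*} [Group G] [Fintype G] (T : Set G) (N : Subgroup G)
    (hN : Subgroup.normalizer T = N)
    (hTI : ∀ g : G, g ∉ N → ∀ t ∈ T, g * t * g⁻¹ ∈ T → t = 1) (hTN : T ⊆ N) [Fintype N]
    (ψ θ : N → ℂ) (hψ : IsClassFunction N ψ) (hθ : IsClassFunction N θ)
    (hψT : ∀ x : N, (x : G) ∉ T → ψ x = 0) (hθT : ∀ x : N, (x : G) ∉ T → θ x = 0)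
    (hψ1 : ψ 1 = 0) : classInner (indFun N ψ) (indFun N θ) = classInner ψ θ := by
  subst hN
  exact Cfsg.Agent.S0150.result T hTI hTN ψ θ hψ hθ hψT hθT hψ1



open Classical in
/-- Let W₁, W₂ ≤ G form a self-normalising cyclic subgroup W = W₁ ⊔ W₂. For nontrivial linear characters φ, φ' of W trivial on W₂ and ψ, ψ' trivial on W₁, put α = (1 − φ)(1 − ψ) and α' = (1 − φ')(1 − ψ'). Then the function induced from α to G has inner product 1 with the principal character, and the inner product of the functions induced from α and α' is 1 + a + b + ab where a = 1 if φ = φ' (else 0) and b = 1 if ψ = ψ' (else 0). -/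
theorem result {G : Type*} [Group G] [Fintype G] (W₁ W₂ : Subgroup G) (hW : Cfsg.IsSelfNormalizingCyclic W₁ W₂) (φ φ' ψ ψ' : ↥(W₁ ⊔ W₂) →* ℂˣ) (hφ : φ ≠ 1) (hφ' : φ' ≠ 1) (hψ : ψ ≠ 1) (hψ' : ψ' ≠ 1) (hφ₂ : ∀ w : ↥(W₁ ⊔ W₂), (w : G) ∈ W₂ → φ w = 1 ∧ φ' w = 1) (hψ₁ : ∀ w : ↥(W₁ ⊔ W₂), (w : G) ∈ W₁ → ψ w = 1 ∧ ψ' w = 1) : Cfsg.classInner (Cfsg.indFun (W₁ ⊔ W₂) (fun w => 1 - (φ w : ℂ) - (ψ w : ℂ) + (φ w : ℂ) * (ψ w : ℂ))) (fun _ => 1) = 1 ∧ Cfsg.classInner (Cfsg.indFun (W₁ ⊔ W₂) (fun w => 1 - (φ w : ℂ) - (ψ w : ℂ) + (φ w : ℂ) * (ψ w : ℂ))) (Cfsg.indFun (W₁ ⊔ W₂) (fun w => 1 - (φ' w : ℂ) - (ψ' w : ℂ) + (φ' w : ℂ) * (ψ' w : ℂ))) = 1 + (if φ = φ' then 1 else 0) + (if ψ = ψ' then 1 else 0) + (if φ = φ' then 1 else 0) * (if ψ = ψ' then 1 else 0) := by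
  classical
  have hW' := hW
  obtain ⟨hne1, hne2, hdisj, hcomm, hcyc, hnorm⟩ := hW
  have hWcomm : ∀ a b : ↥(W₁ ⊔ W₂), a * b = b * a :=
    fun a b => (IsCyclic.isMulCommutative (α := ↥(W₁ ⊔ W₂))).is_comm.comm a b
  have hcf : ∀ f : ↥(W₁ ⊔ W₂) → ℂ, IsClassFunction ↥(W₁ ⊔ W₂) f := by
    intro f g h
    congr 1
    rw [hWcomm h g, mul_assoc, mul_inv_cancel, mul_one]
  -- a hom trivial on W₁ and W₂ is trivial
  have htriv : ∀ ω : ↥(W₁ ⊔ W₂) →* ℂˣ, (∀ w : ↥(W₁ ⊔ W₂), (w : G) ∈ W₁ → ω w = 1) →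
      (∀ w : ↥(W₁ ⊔ W₂), (w : G) ∈ W₂ → ω w = 1) → ω = 1 := by
    intro ω h1 h2
    have hle1 : W₁ ≤ (ω.ker).map (W₁ ⊔ W₂).subtype := by
      intro a ha
      exact ⟨⟨a, (le_sup_left : W₁ ≤ W₁ ⊔ W₂) ha⟩, MonoidHom.mem_ker.mpr (h1 _ ha), rfl⟩
    have hle2 : W₂ ≤ (ω.ker).map (W₁ ⊔ W₂).subtype := by
      intro a ha
      exact ⟨⟨a, (le_sup_right : W₂ ≤ W₁ ⊔ W₂) ha⟩, MonoidHom.mem_ker.mpr (h2 _ ha), rfl⟩
    ext w
    obtain ⟨k, hk, hkw⟩ := (sup_le hle1 hle2) w.2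
    have : k = w := Subtype.ext hkw
    rw [← this, MonoidHom.mem_ker.mp hk]
    rfl
  set lin : (↥(W₁ ⊔ W₂) →* ℂˣ) → (↥(W₁ ⊔ W₂) → ℂ) := fun ω w => ((ω w : ℂˣ) : ℂ) with hlin
  have hI : ∀ ω ω' : ↥(W₁ ⊔ W₂) →* ℂˣ,
      classInner (lin ω) (lin ω') = if ω = ω' then 1 else 0 := by
    intro ω ω'
    rw [classInner_irr (isIrrCharacter_of_hom ω) (isIrrCharacter_of_hom ω')]
    refine if_congr ?_ rfl rfl
    constructor
    · intro h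
      ext w
      exact congrFun h w
    · rintro rfl; rfl
  have hα : ∀ a b : ↥(W₁ ⊔ W₂) →* ℂˣ,
      (fun w : ↥(W₁ ⊔ W₂) => 1 - (a w : ℂ) - (b w : ℂ) + (a w : ℂ) * (b w : ℂ))
        = lin 1 - lin a - lin b + lin (a * b) := by
    intro a b
    ext w
    simp [hlin]
  -- non-coincidences
  have f1 : φ * ψ ≠ 1 := by
    intro h
    apply hφ
    apply htriv φ _ (fun w hw => (hφ₂ w hw).1)
    intro w hw
    have := DFunLike.congr_fun h w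
    simpa [(hψ₁ w hw).1] using this
  have f1' : φ' * ψ' ≠ 1 := by
    intro h
    apply hφ'
    apply htriv φ' _ (fun w hw => (hφ₂ w hw).2)
    intro w hw
    have := DFunLike.congr_fun h w
    simpa [(hψ₁ w hw).2] using this
  have f2 : ∀ a b : ↥(W₁ ⊔ W₂) →* ℂˣ, a ≠ 1 → (∀ w : ↥(W₁ ⊔ W₂), (w : G) ∈ W₂ → a w = 1) →
      (∀ w : ↥(W₁ ⊔ W₂), (w : G) ∈ W₁ → b w = 1) → a ≠ b := by
    intro a b ha ha2 hb1 hab
    apply ha
    apply htriv a _ ha2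
    intro w hw
    rw [hab]
    exact hb1 w hw
  -- a b = a' (a, a' trivial on W₂; b trivial on W₁) forces b = 1
  have f3 : ∀ a a' b : ↥(W₁ ⊔ W₂) →* ℂˣ, b ≠ 1 →
      (∀ w : ↥(W₁ ⊔ W₂), (w : G) ∈ W₂ → a w = 1) →
      (∀ w : ↥(W₁ ⊔ W₂), (w : G) ∈ W₂ → a' w = 1) →
      (∀ w : ↥(W₁ ⊔ W₂), (w : G) ∈ W₁ → b w = 1) → a * b ≠ a' := by
    intro a a' b hb ha ha' hb1 h
    apply hb
    apply htriv b hb1
    intro w hw
    have := DFunLike.congr_fun h w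
    simpa [ha w hw, ha' w hw] using this
  have f4 : ∀ a b b' : ↥(W₁ ⊔ W₂) →* ℂˣ, a ≠ 1 →
      (∀ w : ↥(W₁ ⊔ W₂), (w : G) ∈ W₂ → a w = 1) →
      (∀ w : ↥(W₁ ⊔ W₂), (w : G) ∈ W₁ → b w = 1) →
      (∀ w : ↥(W₁ ⊔ W₂), (w : G) ∈ W₁ → b' w = 1) → a * b ≠ b' := by
    intro a b b' ha ha2 hb hb' h
    apply ha
    apply htriv a _ ha2
    intro w hw
    have := DFunLike.congr_fun h w
    simpa [hb w hw, hb' w hw] using this
  have f5 : φ * ψ = φ' * ψ' ↔ (φ = φ' ∧ ψ = ψ') := by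
    constructor
    · intro h
      have hφeq : φ = φ' := by
        have : φ * φ'⁻¹ = 1 := by
          apply htriv
          · intro w hw
            have := DFunLike.congr_fun h w
            simp only [MonoidHom.mul_apply, (hψ₁ w hw).1, (hψ₁ w hw).2, mul_one] at this
            simp only [MonoidHom.mul_apply, MonoidHom.inv_apply, this, mul_inv_cancel]
          · intro w hw
            simp only [MonoidHom.mul_apply, MonoidHom.inv_apply, (hφ₂ w hw).1, (hφ₂ w hw).2,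
              inv_one, mul_one]
        exact mul_inv_eq_one.mp this
      refine ⟨hφeq, ?_⟩
      rw [hφeq] at h
      exact mul_left_cancel h
    · rintro ⟨rfl, rfl⟩; rfl
  have hφ2 : ∀ w : ↥(W₁ ⊔ W₂), (w : G) ∈ W₂ → φ w = 1 := fun w hw => (hφ₂ w hw).1
  have hφ2' : ∀ w : ↥(W₁ ⊔ W₂), (w : G) ∈ W₂ → φ' w = 1 := fun w hw => (hφ₂ w hw).2
  have hψ1 : ∀ w : ↥(W₁ ⊔ W₂), (w : G) ∈ W₁ → ψ w = 1 := fun w hw => (hψ₁ w hw).1
  have hψ1' : ∀ w : ↥(W₁ ⊔ W₂), (w : G) ∈ W₁ → ψ' w = 1 := fun w hw => (hψ₁ w hw).2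
  constructor
  · rw [frobenius_reciprocity (W₁ ⊔ W₂) _ (fun _ => 1) (fun _ _ => rfl), hα]
    have : (fun _ : ↥(W₁ ⊔ W₂) => (1 : ℂ)) = lin 1 := by
      ext w; simp [hlin]
    rw [this]
    simp only [classInner_add_left, classInner_sub_left, hI]
    simp only [if_true, if_neg hφ, if_neg hψ, if_neg f1]
    ring
  · -- isometry
    have hsupp : ∀ a b : ↥(W₁ ⊔ W₂) →* ℂˣ,
        (∀ w : ↥(W₁ ⊔ W₂), (w : G) ∈ W₂ → a w = 1) → (∀ w : ↥(W₁ ⊔ W₂), (w : G) ∈ W₁ → b w = 1) →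
        ∀ x : ↥(W₁ ⊔ W₂), (x : G) ∉ vSet W₁ W₂ →
          (1 - (a x : ℂ) - (b x : ℂ) + (a x : ℂ) * (b x : ℂ)) = 0 := by
      intro a b ha hb x hx
      rw [mem_vSet] at hx
      push Not at hx
      by_cases h1 : (x : G) ∈ W₁
      · rw [hb x h1]; simp
      · have h2 := hx x.2 h1
        rw [ha x h2]; simp
    have hiso := isometry_of_TI (vSet W₁ W₂) (W₁ ⊔ W₂) (normalizer_vSet hW')
      (fun g hg t ht hgt => absurd hgt (vSet_TI hW' g hg t ht))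
      (fun x hx => (mem_vSet.mp hx).1)
      (fun w => 1 - (φ w : ℂ) - (ψ w : ℂ) + (φ w : ℂ) * (ψ w : ℂ))
      (fun w => 1 - (φ' w : ℂ) - (ψ' w : ℂ) + (φ' w : ℂ) * (ψ' w : ℂ))
      (hcf _) (hcf _) (hsupp φ ψ hφ2 hψ1) (hsupp φ' ψ' hφ2' hψ1')
      (by simp)
    rw [hiso, hα, hα]
    simp only [classInner_add_left, classInner_sub_left, classInner_add_right,
      classInner_sub_right, hI]
    simp only [if_true, if_neg hφ'.symm, if_neg hψ'.symm, if_neg f1'.symm, if_neg hφ,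
      if_neg (f2 φ ψ' hφ hφ2 hψ1'), if_neg (f3 φ' φ ψ' hψ' hφ2' hφ2 hψ1').symm,
      if_neg hψ, if_neg (f2 φ' ψ hφ' hφ2' hψ1).symm, if_neg (f4 φ' ψ' ψ hφ' hφ2' hψ1' hψ1).symm,
      if_neg f1, if_neg (f3 φ φ' ψ hψ hφ2 hφ2' hψ1), if_neg (f4 φ ψ ψ' hφ hφ2 hψ1 hψ1')]
    by_cases ha : φ = φ' <;> by_cases hb : ψ = ψ'
    · rw [if_pos ha, if_pos hb, if_pos (f5.mpr ⟨ha, hb⟩)]; ring
    · rw [if_pos ha, if_neg hb, if_neg (fun h => hb (f5.mp h).2)]; ring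
    · rw [if_neg ha, if_pos hb, if_neg (fun h => ha (f5.mp h).1)]; ring
    · rw [if_neg ha, if_neg hb, if_neg (fun h => ha (f5.mp h).1)]; ring

end Cfsg.Agent.S1505
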