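import Mathlib
import Cfsg.Statements.S1506
import Cfsg.Agent.Lib.Helper2_ClassFn

set_option autoImplicit false
open Cfsg
open Cfsg.Agent.Lib.Helper2_ClassFn
open scoped ComplexConjugate

namespace Cfsg.Agent.S1506

/-- the additivity rule `a(φψ) = a(φ) + a(ψ) - a(1)` -/
theorem additivity {G : Type*} [Group G] [Fintype G] (W₁ W₂ : Subgroup G)
    (χ : (↥(W₁ ⊔ W₂) →* ℂˣ) → (G → ℂ)) (hχ : Cfsg.IsCyclicTIFamily W₁ W₂ χ) (θ : G → ℂ)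
    (hθ : Cfsg.IsClassFunction G θ)
    (hθV : ∀ w : ↥(W₁ ⊔ W₂), (w : G) ∉ W₁ → (w : G) ∉ W₂ → θ w = 0)
    (φ ψ : ↥(W₁ ⊔ W₂) →* ℂˣ) (hφ₂ : ∀ w : ↥(W₁ ⊔ W₂), (w : G) ∈ W₂ → φ w = 1)
    (hψ₁ : ∀ w : ↥(W₁ ⊔ W₂), (w : G) ∈ W₁ → ψ w = 1) :
    Cfsg.classInner θ (χ (φ * ψ))
      = Cfsg.classInner θ (χ φ) + Cfsg.classInner θ (χ ψ) - Cfsg.classInner θ (χ 1) := by
  classical
  by_cases hφ : φ = 1
  · subst hφ
    have : (1 : ↥(W₁ ⊔ W₂) →* ℂˣ) * ψ = ψ := by ext w; simp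
    rw [this]; ring
  by_cases hψ : ψ = 1
  · subst hψ
    have : φ * (1 : ↥(W₁ ⊔ W₂) →* ℂˣ) = φ := by ext w; simp
    rw [this]; ring
  have hind := hχ.induced_eq φ ψ hφ hψ hφ₂ hψ₁
  have hfun : (fun g => 1 - χ φ g - χ ψ g + χ (φ * ψ) g) = χ 1 - χ φ - χ ψ + χ (φ * ψ) := by
    ext g
    simp [hχ.map_one]
  rw [hfun] at hind
  have h0 : Cfsg.classInner θ (Cfsg.indFun (W₁ ⊔ W₂)
      (fun w => 1 - (φ w : ℂ) - (ψ w : ℂ) + (φ w : ℂ) * (ψ w : ℂ))) = 0 := by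
    rw [frobenius_reciprocity' _ _ _ hθ, classInner_def]
    rw [Finset.sum_eq_zero, mul_zero]
    intro w _
    by_cases h1 : (w : G) ∈ W₁
    · rw [hψ₁ w h1]; simp
    by_cases h2 : (w : G) ∈ W₂
    · rw [hφ₂ w h2]; simp
    rw [hθV w h1 h2, zero_mul]
  rw [hind, classInner_add_right, classInner_sub_right, classInner_sub_right] at h0
  linear_combination h0

/-- Let W₁, W₂ ≤ G form a self-normalising cyclic subgroup W = W₁ ⊔ W₂ and χ an orthonormal family of irreducible characters of G up to sign, indexed by the linear characters ω of W, with χ_1 = 1, χ_ω = ω on W outside W₁ ∪ W₂, and the induction identity for (1 − φ)(1 − ψ). Let θ be a class function of G vanishing at every element of W outside W₁ ∪ W₂. For linear characters φ, φ' of W trivial on W₂ and ψ, ψ' trivial on W₁, the inner products a(ω) = ⟨θ, χ ω⟩ satisfy a(φψ)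 + a(φ'ψ') = a(φψ') + a(φ'ψ). -/
theorem result {G : Type*} [Group G] [Fintype G] (W₁ W₂ : Subgroup G) (hW : Cfsg.IsSelfNormalizingCyclic W₁ W₂) (χ : (↥(W₁ ⊔ W₂) →* ℂˣ) → (G → ℂ)) (hχ : Cfsg.IsCyclicTIFamily W₁ W₂ χ) (θ : G → ℂ) (hθ : Cfsg.IsClassFunction G θ) (hθV : ∀ w : ↥(W₁ ⊔ W₂), (w : G) ∉ W₁ → (w : G) ∉ W₂ → θ w = 0) (φ φ' ψ ψ' : ↥(W₁ ⊔ W₂) →* ℂˣ) (hφ₂ : ∀ w : ↥(W₁ ⊔ W₂), (w : G) ∈ W₂ → φ w = 1 ∧ φ' w = 1) (hψ₁ : ∀ w : ↥(W₁ ⊔ W₂), (w : G) ∈ W₁ → ψ w = 1 ∧ ψ' w = 1) : Cfsg.classInner θ (χ (φ * ψ)) + Cfsg.classInner θ (χ (φ' * ψ')) = Cfsg.classInner θ (χ (φ * ψ')) + Cfsg.classInner θ (χ (φ' * ψ)) := by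
  have a1 := additivity W₁ W₂ χ hχ θ hθ hθV φ ψ (fun w h => (hφ₂ w h).1) (fun w h => (hψ₁ w h).1)
  have a2 := additivity W₁ W₂ χ hχ θ hθ hθV φ' ψ' (fun w h => (hφ₂ w h).2) (fun w h => (hψ₁ w h).2)
  have a3 := additivity W₁ W₂ χ hχ θ hθ hθV φ ψ' (fun w h => (hφ₂ w h).1) (fun w h => (hψ₁ w h).2)
  have a4 := additivity W₁ W₂ χ hχ θ hθ hθV φ' ψ (fun w h => (hφ₂ w h).2) (fun w h => (hψ₁ w h).1)
  rw [a1, a2, a3, a4]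
  ring

end Cfsg.Agent.S1506
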