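import Mathlib
import Cfsg.Statements.S1509
import Cfsg.Agent.Lib.Helper2_ClassFn
import Cfsg.Agent.Lib.Helper2_CharOrtho

set_option autoImplicit false
open Cfsg
open Cfsg.Agent.Lib.Helper2_ClassFn
open Cfsg.Agent.Lib.Helper2_CharOrtho
open scoped ComplexConjugate

namespace Cfsg.Agent.S1509

theorem signed_irr_cases {X : Type*} [Group X] {α : X → ℂ}
    (h : Cfsg.IsIrrCharacter X α ∨ Cfsg.IsIrrCharacter X (-α)) :
    ∃ (a : X → ℂ) (ε : ℝ), Cfsg.IsIrrCharacter X a ∧ (ε = 1 ∨ ε = -1) ∧ α = (ε : ℂ) • a := by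
  rcases h with h | h
  · exact ⟨α, 1, h, Or.inl rfl, by simp⟩
  · exact ⟨-α, -1, h, Or.inr rfl, by simp⟩

theorem inner_signed {X : Type*} [Group X] [Fintype X] (x y : X → ℂ) (εx εy : ℝ)
    (hx : Cfsg.IsIrrCharacter X x) (hy : Cfsg.IsIrrCharacter X y) :
    Cfsg.classInner ((εx : ℂ) • x) ((εy : ℂ) • y)
      = ((εx * εy * (if x = y then (1 : ℝ) else 0) : ℝ) : ℂ) := by
  rw [classInner_smul_left, classInner_smul_right, classInner_irr hx hy, Complex.conj_ofReal]
  split_ifs <;> push_cast <;> ring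

/-- Let α, β, γ, δ be functions on a finite group X each of which is an irreducible character or the negative of one, and u, v nonzero real numbers. Suppose ⟨α, β⟩ = ⟨γ, δ⟩ = 0, ⟨α − β, uγ − vδ⟩ = 0, α 1 = β 1 and u γ 1 = v δ 1. Then also ⟨α, γ⟩ = ⟨α, δ⟩ = ⟨β, γ⟩ = ⟨β, δ⟩ = 0. -/
theorem result {X : Type*} [Group X] [Fintype X] (α β γ δ : X → ℂ) (hα : Cfsg.IsIrrCharacter X α ∨ Cfsg.IsIrrCharacter X (-α)) (hβ : Cfsg.IsIrrCharacter X β ∨ Cfsg.IsIrrCharacter X (-β)) (hγ : Cfsg.IsIrrCharacter X γ ∨ Cfsg.IsIrrCharacter X (-γ)) (hδ : Cfsg.IsIrrCharacter X δ ∨ Cfsg.IsIrrCharacter X (-δ)) (u v : ℝ) (hu : u ≠ 0) (hv : v ≠ 0) (hab : Cfsg.classInner α β = 0) (hcd : Cfsg.classInner γ δ = 0) (hmix : Cfsg.classInner (α - β) ((u : ℂ) • γ - (v : ℂ) • δ) = 0) (h1 : α 1 = β 1) (h2 : (u : ℂ) * γ 1 = (v : ℂ) * δ 1) : Cfsg.classInner α γ = 0 ∧ Cfsg.classInner α δ = 0 ∧ Cfsg.classInner β γ = 0 ∧ Cfsg.classInner β δ = 0 := by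
  obtain ⟨a, εa, ha, hεa, rfl⟩ := signed_irr_cases hα
  obtain ⟨b, εb, hb, hεb, rfl⟩ := signed_irr_cases hβ
  obtain ⟨c, εc, hc, hεc, rfl⟩ := signed_irr_cases hγ
  obtain ⟨d, εd, hd, hεd, rfl⟩ := signed_irr_cases hδ
  obtain ⟨na, hna, hna1⟩ := IsIrrCharacter.apply_one ha
  obtain ⟨nb, hnb, hnb1⟩ := IsIrrCharacter.apply_one hb
  obtain ⟨nc, hnc, hnc1⟩ := IsIrrCharacter.apply_one hc
  obtain ⟨nd, hnd, hnd1⟩ := IsIrrCharacter.apply_one hd
  have hNa : (0 : ℝ) < na := by exact_mod_cast hna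
  have hNb : (0 : ℝ) < nb := by exact_mod_cast hnb
  have hNc : (0 : ℝ) < nc := by exact_mod_cast hnc
  have hNd : (0 : ℝ) < nd := by exact_mod_cast hnd
  have hεa0 : εa ≠ 0 := by rcases hεa with h | h <;> rw [h] <;> norm_num
  have hεb0 : εb ≠ 0 := by rcases hεb with h | h <;> rw [h] <;> norm_num
  have hεc0 : εc ≠ 0 := by rcases hεc with h | h <;> rw [h] <;> norm_num
  have hεd0 : εd ≠ 0 := by rcases hεd with h | h <;> rw [h] <;> norm_num
  -- degrees
  have h1' : εa * na = εb * nb := by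
    simp only [Pi.smul_apply, smul_eq_mul, hna1, hnb1] at h1
    exact_mod_cast h1
  have h2' : u * (εc * nc) = v * (εd * nd) := by
    simp only [Pi.smul_apply, smul_eq_mul, hnc1, hnd1] at h2
    exact_mod_cast h2
  have hε : εa = εb := by
    rcases hεa with h | h <;> rcases hεb with h' | h' <;> rw [h, h'] at h1' ⊢ <;> linarith
  -- a ≠ b, c ≠ d
  have hab' : a ≠ b := by
    intro h
    rw [inner_signed a b εa εb ha hb, if_pos h] at hab
    have : εa * εb * 1 = 0 := by exact_mod_cast hab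
    simp [hεa0, hεb0] at this
  have hcd' : c ≠ d := by
    intro h
    rw [inner_signed c d εc εd hc hd, if_pos h] at hcd
    have : εc * εd * 1 = 0 := by exact_mod_cast hcd
    simp [hεc0, hεd0] at this
  -- main equation
  rw [classInner_sub_left, classInner_sub_right, classInner_sub_right, smul_smul, smul_smul,
    ← Complex.ofReal_mul, ← Complex.ofReal_mul,
    inner_signed a c εa (u * εc) ha hc, inner_signed a d εa (v * εd) ha hd,
    inner_signed b c εb (u * εc) hb hc, inner_signed b d εb (v * εd) hb hd, ← hε] at hmix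
  have hmix' : εa * (u * εc) * (if a = c then (1 : ℝ) else 0)
      - εa * (v * εd) * (if a = d then (1 : ℝ) else 0)
      - (εa * (u * εc) * (if b = c then (1 : ℝ) else 0)
      - εa * (v * εd) * (if b = d then (1 : ℝ) else 0)) = 0 := by exact_mod_cast hmix
  rw [inner_signed a c εa εc ha hc, inner_signed a d εa εd ha hd,
    inner_signed b c εb εc hb hc, inner_signed b d εb εd hb hd]
  have huc : u * εc ≠ 0 := mul_ne_zero hu hεc0
  have hvd : v * εd ≠ 0 := mul_ne_zero hv hεd0
  have hAB : (if a = c then (1 : ℝ) else 0) = 0 ∨ (if a = d then (1 : ℝ) else 0) = 0 := by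
    by_cases hac : a = c
    · right; rw [if_neg]; intro had; exact hcd' (hac.symm.trans had)
    · left; rw [if_neg hac]
  have hAC : (if a = c then (1 : ℝ) else 0) = 0 ∨ (if b = c then (1 : ℝ) else 0) = 0 := by
    by_cases hac : a = c
    · right; rw [if_neg]; intro hbc; exact hab' (hac.trans hbc.symm)
    · left; rw [if_neg hac]
  have hBD : (if a = d then (1 : ℝ) else 0) = 0 ∨ (if b = d then (1 : ℝ) else 0) = 0 := by
    by_cases had : a = d
    · right; rw [if_neg]; intro hbd; exact hab' (had.trans hbd.symm)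
    · left; rw [if_neg had]
  have hCD : (if b = c then (1 : ℝ) else 0) = 0 ∨ (if b = d then (1 : ℝ) else 0) = 0 := by
    by_cases hbc : b = c
    · right; rw [if_neg]; intro hbd; exact hcd' (hbc.symm.trans hbd)
    · left; rw [if_neg hbc]
  have hA01 : (if a = c then (1 : ℝ) else 0) = 0 ∨ (if a = c then (1 : ℝ) else 0) = 1 := by
    split_ifs <;> simp
  have hB01 : (if a = d then (1 : ℝ) else 0) = 0 ∨ (if a = d then (1 : ℝ) else 0) = 1 := by
    split_ifs <;> simp
  have hC01 : (if b = c then (1 : ℝ) else 0) = 0 ∨ (if b = c then (1 : ℝ) else 0) = 1 := by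
    split_ifs <;> simp
  have hD01 : (if b = d then (1 : ℝ) else 0) = 0 ∨ (if b = d then (1 : ℝ) else 0) = 1 := by
    split_ifs <;> simp
  generalize (if a = c then (1 : ℝ) else 0) = A at *
  generalize (if a = d then (1 : ℝ) else 0) = B at *
  generalize (if b = c then (1 : ℝ) else 0) = C at *
  generalize (if b = d then (1 : ℝ) else 0) = D at *
  have e0 : (u * εc) * (A - C) = (v * εd) * (B - D) := by
    have : εa * ((u * εc) * (A - C) - (v * εd) * (B - D)) = 0 := by linarith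
    rcases mul_eq_zero.mp this with h | h
    · exact absurd h hεa0
    · linarith
  have e2 : (u * εc) * nc = (v * εd) * nd := by linarith
  suffices hall : A = 0 ∧ B = 0 ∧ C = 0 ∧ D = 0 by
    obtain ⟨rfl, rfl, rfl, rfl⟩ := hall
    simp
  rcases hA01 with rfl | rfl <;> rcases hB01 with rfl | rfl <;> rcases hC01 with rfl | rfl <;>
    rcases hD01 with rfl | rfl
  all_goals first
    | (exact ⟨rfl, rfl, rfl, rfl⟩)
    | (exfalso; rcases hAB with h | h <;> linarith)
    | (exfalso; rcases hAC with h | h <;> linarith)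
    | (exfalso; rcases hBD with h | h <;> linarith)
    | (exfalso; rcases hCD with h | h <;> linarith)
    | (exfalso; apply huc; linarith)
    | (exfalso; apply hvd; linarith)
    | (exfalso
       have e3 : (v * εd) * (nc + nd) = 0 := by nlinarith
       rcases mul_eq_zero.mp e3 with h | h
       · exact hvd h
       · linarith)

end Cfsg.Agent.S1509
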