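import Mathlib
import Cfsg.Statements.S1510

set_option autoImplicit false
open Cfsg
open scoped Pointwise

namespace Cfsg.Agent.S1510

/-- CRT exponent. -/
lemma exists_crt_exp (A B : ℕ) (hcop : Nat.Coprime A B) :
    ∃ m : ℕ, m ≡ 1 [MOD A] ∧ m ≡ 0 [MOD B] := by
  obtain ⟨k, hk1, hk2⟩ := Nat.chineseRemainder hcop 1 0
  exact ⟨k, hk1, hk2⟩

lemma pow_eq_self_of_modEq {G : Type*} [Group G] (a : G) (A m : ℕ) (hA : a ^ A = 1)
    (hm : m ≡ 1 [MOD A]) : a ^ m = a := by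
  have h1 : orderOf a ∣ A := orderOf_dvd_of_pow_eq_one hA
  have h2 : m ≡ 1 [MOD orderOf a] := hm.of_dvd h1
  have := (pow_eq_pow_iff_modEq (x := a) (m := 1) (n := m)).mpr h2
  simpa using this

lemma pow_eq_one_of_modEq {G : Type*} [Group G] (b : G) (B m : ℕ) (hB : b ^ B = 1)
    (hm : m ≡ 0 [MOD B]) : b ^ m = 1 := by
  have h1 : orderOf b ∣ B := orderOf_dvd_of_pow_eq_one hB
  have h2 : m ≡ 0 [MOD orderOf b] := hm.of_dvd h1
  have := (pow_eq_pow_iff_modEq (x := b) (m := 0) (n := m)).mpr h2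
  simpa using this

lemma pow_card_subgroup {G : Type*} [Group G] (H : Subgroup G) (x : G) (hx : x ∈ H) :
    x ^ Nat.card H = 1 := by
  have h1 : orderOf x ∣ Nat.card H := Subgroup.orderOf_dvd_natCard H hx
  exact orderOf_dvd_iff_pow_eq_one.mp h1

theorem result {L : Type*} [Group L] [Fintype L] (K W₁ W₂ : Subgroup L) [hK : K.Normal] (hKW₁ : K ⊓ W₁ = ⊥) (hKW₁' : K ⊔ W₁ = ⊤) (hW₁ : W₁ ≠ ⊥) (hW₁c : IsCyclic W₁) (hHall : Nat.Coprime (Nat.card W₁) W₁.index) (hW₂ : W₂ ≠ ⊥) (hW₂c : IsCyclic W₂) (hW₂K : W₂ ≤ K) (hC : ∀ x ∈ W₁, x ≠ 1 → K ⊓ Subgroup.centralizer ({x} : Set L) = W₂) (hodd : Odd (Nat.card ↥(W₁ ⊔ W₂))) : Cfsg.IsSelfNormalizingCyclic W₁ W₂ := by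
  -- basic facts
  have hdisj : W₁ ⊓ W₂ = ⊥ := by
    rw [eq_bot_iff, ← hKW₁]
    exact le_inf (inf_le_right.trans hW₂K) inf_le_left
  have hcomm : ∀ a ∈ W₁, ∀ b ∈ W₂, a * b = b * a := by
    intro a ha b hb
    by_cases ha1 : a = 1
    · rw [ha1]; simp
    · have h1 : b ∈ K ⊓ Subgroup.centralizer ({a} : Set L) := by rw [hC a ha ha1]; exact hb
      have h2 := (Subgroup.mem_inf.mp h1).2
      rw [Subgroup.mem_centralizer_iff] at h2
      exact h2 a rfl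
  have hmulKW : (K : Set L) * (W₁ : Set L) = Set.univ := by
    rw [← Subgroup.normal_mul, hKW₁']
    rfl
  have hcompl : K.IsComplement' W₁ :=
    Subgroup.isComplement'_of_disjoint_and_mul_eq_univ (disjoint_iff.mpr hKW₁) hmulKW
  have hidx : W₁.index = Nat.card K := hcompl.index_eq_card
  have hcop : Nat.Coprime (Nat.card W₁) (Nat.card W₂) := by
    rw [hidx] at hHall
    exact Nat.Coprime.coprime_dvd_right (Subgroup.card_dvd_of_le hW₂K) hHall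
  obtain ⟨m, hm1, hm0⟩ := exists_crt_exp _ _ hcop
  obtain ⟨m', hm'1, hm'0⟩ := exists_crt_exp _ _ hcop.symm
  -- W = W₁ * W₂
  have hW₂N : W₂ ≤ Subgroup.normalizer (W₁ : Set L) := by
    intro b hb
    rw [Subgroup.mem_normalizer_iff]
    intro a
    constructor
    · intro ha
      have : b * a * b⁻¹ = a := by rw [← hcomm a ha b hb]; group
      rw [this]; exact ha
    · intro ha
      have h1 := hcomm _ ha b hb
      -- (b a b⁻¹) * b = b * (b a b⁻¹)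
      have : a = b * a * b⁻¹ := by
        calc a = b⁻¹ * (b * a * b⁻¹ * b) := by group
          _ = b⁻¹ * (b * (b * a * b⁻¹)) := by rw [h1]
          _ = b * a * b⁻¹ := by group
      rw [this]; exact ha
  have hWcoe := Subgroup.coe_mul_of_right_le_normalizer_left W₁ W₂ hW₂N
  have hWdecomp : ∀ x ∈ W₁ ⊔ W₂, ∃ a ∈ W₁, ∃ b ∈ W₂, x = a * b := by
    intro x hx
    have hx' : x ∈ ((W₁ ⊔ W₂ : Subgroup L) : Set L) := hx
    rw [hWcoe] at hx'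
    obtain ⟨a, ha, b, hb, hab⟩ := hx'
    exact ⟨a, ha, b, hb, hab.symm⟩
  -- commutativity of W₁, W₂
  have hW₁comm : ∀ a ∈ W₁, ∀ a' ∈ W₁, a * a' = a' * a := by
    intro a ha a' ha'
    have := hW₁c.commGroup.mul_comm ⟨a, ha⟩ ⟨a', ha'⟩
    exact congrArg Subtype.val this
  have hW₂comm : ∀ b ∈ W₂, ∀ b' ∈ W₂, b * b' = b' * b := by
    intro b hb b' hb'
    have := hW₂c.commGroup.mul_comm ⟨b, hb⟩ ⟨b', hb'⟩
    exact congrArg Subtype.val this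
  have hWcomm : ∀ x ∈ W₁ ⊔ W₂, ∀ y ∈ W₁ ⊔ W₂, x * y = y * x := by
    intro x hx y hy
    obtain ⟨a, ha, b, hb, rfl⟩ := hWdecomp x hx
    obtain ⟨a', ha', b', hb', rfl⟩ := hWdecomp y hy
    have e1 := hcomm a ha b' hb'
    have e2 := hcomm a' ha' b hb
    have e3 := hW₁comm a ha a' ha'
    have e4 := hW₂comm b hb b' hb'
    calc a * b * (a' * b') = a * (b * a') * b' := by group
      _ = a * (a' * b) * b' := by rw [e2]
      _ = (a * a') * (b * b') := by group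
      _ = (a' * a) * (b' * b) := by rw [e3, e4]
      _ = a' * (a * b') * b := by group
      _ = a' * (b' * a) * b := by rw [e1]
      _ = a' * b' * (a * b) := by group
  -- power extraction
  have hpowL : ∀ a ∈ W₁, ∀ b ∈ W₂, (a * b) ^ m = a := by
    intro a ha b hb
    have hc : Commute a b := hcomm a ha b hb
    rw [hc.mul_pow, pow_eq_self_of_modEq a _ m (pow_card_subgroup W₁ a ha) hm1,
      pow_eq_one_of_modEq b _ m (pow_card_subgroup W₂ b hb) hm0, mul_one]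
  have hpowR : ∀ a ∈ W₁, ∀ b ∈ W₂, (a * b) ^ m' = b := by
    intro a ha b hb
    have hc : Commute a b := hcomm a ha b hb
    rw [hc.mul_pow, pow_eq_one_of_modEq a _ m' (pow_card_subgroup W₁ a ha) hm'0,
      pow_eq_self_of_modEq b _ m' (pow_card_subgroup W₂ b hb) hm'1, one_mul]
  -- cyclic
  have hcyc : IsCyclic ↥(W₁ ⊔ W₂) := by
    obtain ⟨g₁, hg₁⟩ := (Subgroup.isCyclic_iff_exists_zpowers_eq_top W₁).mp hW₁c
    obtain ⟨g₂, hg₂⟩ := (Subgroup.isCyclic_iff_exists_zpowers_eq_top W₂).mp hW₂c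
    have hg₁m : g₁ ∈ W₁ := by rw [← hg₁]; exact Subgroup.mem_zpowers g₁
    have hg₂m : g₂ ∈ W₂ := by rw [← hg₂]; exact Subgroup.mem_zpowers g₂
    rw [Subgroup.isCyclic_iff_exists_zpowers_eq_top]
    refine ⟨g₁ * g₂, ?_⟩
    apply le_antisymm
    · rw [Subgroup.zpowers_le]
      exact mul_mem ((le_sup_left : W₁ ≤ W₁ ⊔ W₂) hg₁m) ((le_sup_right : W₂ ≤ W₁ ⊔ W₂) hg₂m)
    · apply sup_le
      · rw [← hg₁, Subgroup.zpowers_le]
        have h := Subgroup.npow_mem_zpowers (g₁ * g₂) m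
        rw [hpowL g₁ hg₁m g₂ hg₂m] at h
        exact h
      · rw [← hg₂, Subgroup.zpowers_le]
        have h := Subgroup.npow_mem_zpowers (g₁ * g₂) m'
        rw [hpowR g₁ hg₁m g₂ hg₂m] at h
        exact h
  refine ⟨hW₁, hW₂, hdisj, hcomm, hcyc, ?_⟩
  intro X hX hXne
  apply le_antisymm
  · -- N(X) ≤ W
    intro g hg
    obtain ⟨x, hxX⟩ := hXne
    rw [Subgroup.mem_set_normalizer_iff] at hg
    have hx'X : g * x * g⁻¹ ∈ X := (hg x).mp hxX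
    have hxW : x ∈ W₁ ⊔ W₂ := (hX hxX).1
    have hx'W : g * x * g⁻¹ ∈ W₁ ⊔ W₂ := (hX hx'X).1
    have hxnot : x ∉ (W₁ : Set L) ∪ (W₂ : Set L) := (hX hxX).2
    obtain ⟨w₁, hw₁, w₂, hw₂, hxw⟩ := hWdecomp x hxW
    obtain ⟨w₁', hw₁', w₂', hw₂', hx'w⟩ := hWdecomp _ hx'W
    have hw₁ne : w₁ ≠ 1 := by
      intro h
      apply hxnot
      right
      rw [hxw, h, one_mul]
      exact hw₂
    -- decompose g = k u
    have hgmem : g ∈ (K : Set L) * (W₁ : Set L) := by rw [hmulKW]; trivial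
    obtain ⟨k, hk, u, hu, hku⟩ := hgmem
    have hk' : k ∈ K := hk
    have hu' : u ∈ W₁ := hu
    have hku' : k * u = g := hku
    have hux : u * x * u⁻¹ = x := by
      have := hWcomm u ((le_sup_left : W₁ ≤ W₁ ⊔ W₂) hu') x hxW
      rw [this]; group
    have hkx : k * x * k⁻¹ = g * x * g⁻¹ := by
      rw [← hku']
      have : k * u * x * (k * u)⁻¹ = k * (u * x * u⁻¹) * k⁻¹ := by group
      rw [this, hux]
    -- w₁' = w₁
    have hmodK : (g * x * g⁻¹) * x⁻¹ ∈ K := by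
      rw [← hkx]
      have h1 : x * k⁻¹ * x⁻¹ ∈ K := hK.conj_mem _ (inv_mem hk') x
      have h2 := mul_mem hk' h1
      have h3 : k * (x * k⁻¹ * x⁻¹) = k * x * k⁻¹ * x⁻¹ := by group
      rwa [h3] at h2
    have hw₁eq : w₁' = w₁ := by
      have h1 : w₁' * w₁⁻¹ ∈ K := by
        have e : w₁' * w₁⁻¹ = ((g * x * g⁻¹) * x⁻¹) * (w₂' * w₂⁻¹)⁻¹ := by
          rw [hx'w]
          conv_rhs => rw [hxw]
          have c1 := hcomm w₁ hw₁ w₂ hw₂
          have c2 := hcomm w₁ hw₁ w₂' hw₂'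
          have c3 := hW₂comm w₂ hw₂ w₂' hw₂'
          -- w₁' w₂' (w₁ w₂)⁻¹ (w₂' w₂⁻¹)⁻¹ = w₁' w₂' w₂⁻¹ w₁⁻¹ w₂ w₂'⁻¹
          have c1' : w₁⁻¹ * w₂ = w₂ * w₁⁻¹ := by
            have : w₂ = w₁ * w₂ * w₁⁻¹ := by rw [c1]; group
            calc w₁⁻¹ * w₂ = w₁⁻¹ * (w₁ * w₂ * w₁⁻¹) := by rw [← this]
              _ = w₂ * w₁⁻¹ := by group
          have c2' : w₁⁻¹ * w₂'⁻¹ = w₂'⁻¹ * w₁⁻¹ := by
            have : w₂' = w₁ * w₂' * w₁⁻¹ := by rw [c2]; group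
            have h5 : w₂'⁻¹ = w₁ * w₂'⁻¹ * w₁⁻¹ := by
              calc w₂'⁻¹ = (w₁ * w₂' * w₁⁻¹)⁻¹ := by rw [← this]
                _ = w₁ * w₂'⁻¹ * w₁⁻¹ := by group
            calc w₁⁻¹ * w₂'⁻¹ = w₁⁻¹ * (w₁ * w₂'⁻¹ * w₁⁻¹) := by rw [← h5]
              _ = w₂'⁻¹ * w₁⁻¹ := by group
          calc w₁' * w₁⁻¹ = w₁' * (w₂' * w₂⁻¹ * w₂ * w₂'⁻¹) * w₁⁻¹ := by group
            _ = w₁' * w₂' * w₂⁻¹ * (w₂ * (w₂'⁻¹ * w₁⁻¹)) := by group
            _ = w₁' * w₂' * w₂⁻¹ * (w₂ * (w₁⁻¹ * w₂'⁻¹)) := by rw [c2']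
            _ = w₁' * w₂' * w₂⁻¹ * ((w₂ * w₁⁻¹) * w₂'⁻¹) := by group
            _ = w₁' * w₂' * w₂⁻¹ * ((w₁⁻¹ * w₂) * w₂'⁻¹) := by rw [c1']
            _ = w₁' * w₂' * (w₁ * w₂)⁻¹ * (w₂' * w₂⁻¹)⁻¹ := by group
        rw [e]
        have h5 : w₂' * w₂⁻¹ ∈ K := hW₂K (W₂.mul_mem hw₂' (W₂.inv_mem hw₂))
        exact K.mul_mem hmodK (K.inv_mem h5)
      have h2 : w₁' * w₁⁻¹ ∈ K ⊓ W₁ :=
        Subgroup.mem_inf.mpr ⟨h1, W₁.mul_mem hw₁' (W₁.inv_mem hw₁)⟩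
      rw [hKW₁, Subgroup.mem_bot] at h2
      exact mul_inv_eq_one.mp h2
    -- k centralizes w₁
    have hkw : k * w₁ * k⁻¹ = w₁ := by
      have e1 : w₁ = x ^ m := by rw [hxw, hpowL w₁ hw₁ w₂ hw₂]
      have e2 : w₁' = (g * x * g⁻¹) ^ m := by rw [hx'w, hpowL w₁' hw₁' w₂' hw₂']
      calc k * w₁ * k⁻¹ = k * x ^ m * k⁻¹ := by rw [← e1]
        _ = (k * x * k⁻¹) ^ m := by rw [conj_pow]
        _ = (g * x * g⁻¹) ^ m := by rw [hkx]
        _ = w₁' := e2.symm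
        _ = w₁ := hw₁eq
    have hkW₂ : k ∈ W₂ := by
      rw [← hC w₁ hw₁ hw₁ne]
      refine Subgroup.mem_inf.mpr ⟨hk', ?_⟩
      rw [Subgroup.mem_centralizer_iff]
      intro y hy
      rw [Set.mem_singleton_iff] at hy
      rw [hy]
      calc w₁ * k = (k * w₁ * k⁻¹) * k := by rw [hkw]
        _ = k * w₁ := by group
    rw [← hku']
    exact mul_mem ((le_sup_right : W₂ ≤ W₁ ⊔ W₂) hkW₂) ((le_sup_left : W₁ ≤ W₁ ⊔ W₂) hu')
  · -- W ≤ N(X)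
    intro g hg
    rw [Subgroup.mem_set_normalizer_iff]
    intro h
    constructor
    · intro hh
      have hhW : h ∈ W₁ ⊔ W₂ := (hX hh).1
      have : g * h * g⁻¹ = h := by rw [hWcomm g hg h hhW]; group
      rw [this]; exact hh
    · intro hh
      have hhW : g * h * g⁻¹ ∈ W₁ ⊔ W₂ := (hX hh).1
      have hhW' : h ∈ W₁ ⊔ W₂ := by
        have : h = g⁻¹ * (g * h * g⁻¹) * g := by group
        rw [this]
        exact mul_mem (mul_mem (inv_mem hg) hhW) hg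
      have : g * h * g⁻¹ = h := by rw [hWcomm g hg h hhW']; group
      rw [this] at hh; exact hh

end Cfsg.Agent.S1510
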