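import Mathlib
import Cfsg.Statements.S1512
import Cfsg.Agent.Lib.Helper2_Count

set_option autoImplicit false
open Cfsg

namespace Cfsg.Agent.S1512

open Cfsg.Agent.Lib.Helper2_Count

theorem key {L : Type*} [Group L] [Finite L] (K W₂ : Subgroup L) [hK : K.Normal] (x : L) (hx1 : x ≠ 1)
    (hx : Nat.Coprime (orderOf x) (Nat.card K))
    (hC : ∀ y ∈ Subgroup.zpowers x, y ≠ 1 → K ⊓ Subgroup.centralizer ({y} : Set L) = W₂)
    (C : ConjClasses K)
    (hCinv : ConjClasses.map (MulEquiv.toMonoidHom ((MulAut.conjNormal x : MulAut K))) C = C) :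
    ∃ w : K, (w : L) ∈ W₂ ∧ ConjClasses.mk w = C := by
  classical
  set n := orderOf x with hn
  have hn0 : n ≠ 0 := (orderOf_pos x).ne'
  have hn1 : n ≠ 1 := by
    intro h
    exact hx1 (orderOf_eq_one_iff.mp h)
  set p := n.minFac with hp
  have hpp : p.Prime := Nat.minFac_prime hn1
  haveI : Fact p.Prime := ⟨hpp⟩
  have hpn : p ∣ n := Nat.minFac_dvd n
  set x' := x ^ (n / p) with hx'
  have hord : orderOf x' = p := orderOf_pow_orderOf_div hn0 hpn
  have hx'mem : x' ∈ Subgroup.zpowers x := Subgroup.npow_mem_zpowers x _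
  have hx'1 : x' ≠ 1 := by
    intro h
    rw [h, orderOf_one] at hord
    exact hpp.one_lt.ne hord
  have hW := hC x' hx'mem hx'1
  have hpK : Nat.Coprime p (Nat.card K) := Nat.Coprime.coprime_dvd_left hpn hx
  -- invariance
  have hinv1 : ∀ c : K, ConjClasses.mk c = C → ConjClasses.mk ((MulAut.conjNormal x : MulAut K) c) = C := by
    intro c hc
    have : ConjClasses.map (MulEquiv.toMonoidHom ((MulAut.conjNormal x : MulAut K))) (ConjClasses.mk c)
        = ConjClasses.mk ((MulAut.conjNormal x : MulAut K) c) := rfl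
    rw [← this, hc, hCinv]
  have hinvj : ∀ j : ℕ, ∀ c : K, ConjClasses.mk c = C →
      ConjClasses.mk ((MulAut.conjNormal (x ^ j) : MulAut K) c) = C := by
    intro j
    induction j with
    | zero =>
      intro c hc
      simpa using hc
    | succ j ih =>
      intro c hc
      have : (MulAut.conjNormal (x ^ (j + 1)) : MulAut K) c
          = (MulAut.conjNormal x : MulAut K) ((MulAut.conjNormal (x ^ j) : MulAut K) c) := by
        rw [pow_succ', map_mul, MulAut.mul_apply]
      rw [this]
      exact hinv1 _ (ih c hc)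
  -- the function
  let S := {c : K // ConjClasses.mk c = C}
  haveI : Fintype S := Fintype.ofFinite S
  let F : Function.End S := fun c => ⟨(MulAut.conjNormal x' : MulAut K) c.1, hinvj _ c.1 c.2⟩
  have hFj : ∀ j : ℕ, ∀ c : S, ((F ^ j) c).1 = (MulAut.conjNormal (x' ^ j) : MulAut K) c.1 := by
    intro j
    induction j with
    | zero =>
      intro c
      rw [pow_zero, pow_zero]
      show c.1 = (MulAut.conjNormal (1 : L) : MulAut K) c.1
      simp
    | succ j ih =>
      intro c
      rw [pow_succ']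
      show (MulAut.conjNormal x' : MulAut K) ((F ^ j) c).1 = _
      rw [ih c, pow_succ', map_mul, MulAut.mul_apply]
  have hFp : F ^ p ^ 1 = 1 := by
    rw [pow_one]
    funext c
    apply Subtype.ext
    rw [hFj p c]
    have : x' ^ p = 1 := by rw [← hord]; exact pow_orderOf_eq_one x'
    rw [this, map_one]
    rfl
  have hmod := Equiv.Perm.card_fixedPoints_modEq (f := F) (p := p) (n := 1) hFp
  -- card S ∣ card K
  have hSdvd : Fintype.card S ∣ Nat.card K := by
    by_cases hS : Nonempty S
    · obtain ⟨c₀⟩ := hS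
      have h1 := card_isConj_dvd c₀.1
      have h2 : Nat.card {y : K // IsConj c₀.1 y} = Fintype.card S := by
        rw [← Nat.card_eq_fintype_card]
        apply Nat.card_congr
        apply Equiv.subtypeEquivRight
        intro y
        have hc₀ : ConjClasses.mk c₀.1 = C := c₀.2
        constructor
        · intro h
          rw [← hc₀]
          exact (ConjClasses.mk_eq_mk_iff_isConj.mpr h).symm
        · intro h
          rw [← hc₀] at h
          exact (ConjClasses.mk_eq_mk_iff_isConj.mp h).symm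
      rwa [h2] at h1
    · exfalso
      apply hS
      obtain ⟨a, ha⟩ := ConjClasses.exists_rep C
      exact ⟨⟨a, ha⟩⟩
  have hne : Fintype.card (Function.fixedPoints F) ≠ 0 := by
    intro h0
    rw [h0] at hmod
    have h1 : p ∣ Fintype.card S := (Nat.modEq_zero_iff_dvd).mp hmod
    have h2 : p ∣ Nat.card K := h1.trans hSdvd
    have h3 := Nat.Coprime.eq_one_of_dvd hpK h2
    exact hpp.one_lt.ne' h3
  obtain ⟨⟨c, hcfix⟩⟩ := Fintype.card_pos_iff.mp (Nat.pos_of_ne_zero hne)
  refine ⟨c.1, ?_, c.2⟩
  rw [← hW]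
  refine Subgroup.mem_inf.mpr ⟨c.1.2, ?_⟩
  rw [Subgroup.mem_centralizer_iff]
  intro y hy
  rw [Set.mem_singleton_iff] at hy
  rw [hy]
  have h1 : F c = c := hcfix
  have h2 : ((MulAut.conjNormal x' : MulAut K) c.1 : L) = (c.1 : L) := by
    have := congrArg (fun s : S => ((s.1 : K) : L)) h1
    exact this
  rw [MulAut.conjNormal_apply] at h2
  calc x' * (c.1 : L) = (x' * (c.1 : L) * x'⁻¹) * x' := by group
    _ = (c.1 : L) * x' := by rw [h2]

theorem result {L : Type*} [Group L] [Finite L] (K W₂ : Subgroup L) [hK : K.Normal] (x : L) (hx1 : x ≠ 1) (hx : Nat.Coprime (orderOf x) (Nat.card K)) (hC : ∀ y ∈ Subgroup.zpowers x, y ≠ 1 → K ⊓ Subgroup.centralizer ({y} : Set L) = W₂) : Nat.card {C : ConjClasses K // ConjClasses.map (MulEquiv.toMonoidHom ((MulAut.conjNormal x : MulAut K))) C = C} ≤ Nat.card W₂ := by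
  classical
  have hkey := key K W₂ x hx1 hx hC
  choose! f hf using hkey
  apply Nat.card_le_card_of_injective
    (fun C : {C : ConjClasses K // ConjClasses.map (MulEquiv.toMonoidHom ((MulAut.conjNormal x : MulAut K))) C = C} =>
      (⟨((f C.1 : K) : L), (hf C.1 C.2).1⟩ : W₂))
  intro C D h
  apply Subtype.ext
  have h1 : ((f C.1 : K) : L) = ((f D.1 : K) : L) := by
    have := congrArg (fun w : W₂ => (w : L)) h
    exact this
  have h2 : f C.1 = f D.1 := Subtype.ext h1
  rw [← (hf C.1 C.2).2, ← (hf D.1 D.2).2, h2]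

end Cfsg.Agent.S1512
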