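import Mathlib
import Cfsg.Statements.S1514
import Cfsg.Agent.Lib.Helper2_ClassFn
import Cfsg.Agent.Lib.Helper2_CharOrtho
import Cfsg.Agent.Lib.Helper2_CharNorm
import Cfsg.Agent.S1509

set_option autoImplicit false
open Cfsg
open Cfsg.Agent.Lib.Helper2_ClassFn
open Cfsg.Agent.Lib.Helper2_CharOrtho
open Cfsg.Agent.Lib.Helper2_CharBasic
open Cfsg.Agent.Lib.Helper2_CharNorm
open scoped ComplexConjugate

namespace Cfsg.Agent.S1514

theorem conjFun_conjFun {X : Type*} (χ : X → ℂ) : Cfsg.conjFun (Cfsg.conjFun χ) = χ := by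
  ext x; simp [Cfsg.conjFun]

theorem classInner_conjFun_conjFun {L : Type*} [Group L] [Fintype L] (a b : L → ℂ) :
    Cfsg.classInner (Cfsg.conjFun a) (Cfsg.conjFun b) = conj (Cfsg.classInner a b) := by
  simp only [classInner_def, Cfsg.conjFun, map_mul, map_inv₀, map_natCast, map_sum,
    Complex.conj_conj]

/-- `χ - conj χ` lies in the integer span vanishing at one, and has norm two. -/
theorem diff_facts {L : Type*} [Group L] [Fintype L] (S : Set (L → ℂ))
    (hirr : ∀ χ ∈ S, Cfsg.IsIrrCharacter L χ)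
    (hconj : ∀ χ ∈ S, Cfsg.conjFun χ ∈ S ∧ Cfsg.conjFun χ ≠ χ) (χ : L → ℂ) (hχ : χ ∈ S) :
    χ - Cfsg.conjFun χ ∈ Cfsg.zspanOn S {1}ᶜ ∧
      Cfsg.classInner (χ - Cfsg.conjFun χ) (χ - Cfsg.conjFun χ) = 2 := by
  have hc := hconj χ hχ
  constructor
  · refine ⟨Submodule.sub_mem _ (Submodule.subset_span hχ) (Submodule.subset_span hc.1), ?_⟩
    intro x hx
    have : x = 1 := by simpa using hx
    subst this
    obtain ⟨n, _, hn⟩ := IsIrrCharacter.apply_one (hirr χ hχ)
    simp [Cfsg.conjFun, hn]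
  · rw [classInner_sub_left, classInner_sub_right, classInner_sub_right,
      classInner_irr_self (hirr χ hχ), classInner_irr_self (hirr _ hc.1),
      classInner_irr_of_ne (hirr χ hχ) (hirr _ hc.1) hc.2.symm,
      classInner_irr_of_ne (hirr _ hc.1) (hirr χ hχ) hc.2]
    norm_num

/-- Let S be a nonempty set of irreducible characters of the finite group L, closed under complex conjugation and containing no real-valued member, and τ a linear isometry on the integer combinations of S vanishing at 1, with values virtual characters of G vanishing at 1. Then there is a choice R making (S, τ, R) a coherence system. -/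
theorem result {L : Type*} [Group L] [Fintype L] {G : Type*} [Group G] [Fintype G] (S : Set (L → ℂ)) (hS : S.Nonempty) (hirr : ∀ χ ∈ S, Cfsg.IsIrrCharacter L χ) (hconj : ∀ χ ∈ S, Cfsg.conjFun χ ∈ S ∧ Cfsg.conjFun χ ≠ χ) (τ : (L → ℂ) → (G → ℂ)) (hτ : Cfsg.IsLinearIsometryOn (Cfsg.zspanOn S {1}ᶜ) τ) (hτ1 : ∀ α ∈ Cfsg.zspanOn S {1}ᶜ, τ α 1 = 0) : ∃ R : (L → ℂ) → Finset (G → ℂ), Cfsg.IsCoherenceSystem S τ R := by
  classical
  have hex : ∀ χ : L → ℂ, ∃ R : Finset (G → ℂ), χ ∈ S → ∃ μ ν, Cfsg.IsIrrCharacter G μ ∧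
      Cfsg.IsIrrCharacter G ν ∧ μ ≠ ν ∧ τ (χ - Cfsg.conjFun χ) = μ - ν ∧ μ 1 = ν 1 ∧
      R = {μ, -ν} := by
    intro χ
    by_cases hχ : χ ∈ S
    · obtain ⟨hmem, hnorm⟩ := diff_facts S hirr hconj χ hχ
      have hg := hτ.2.2.2 _ hmem
      have h2 : Cfsg.classInner (τ (χ - Cfsg.conjFun χ)) (τ (χ - Cfsg.conjFun χ)) = 2 := by
        rw [hτ.2.2.1 _ hmem _ hmem, hnorm]
      obtain ⟨μ, ν, hμ, hν, hne, heq, hdeg⟩ := eq_sub_of_norm_two hg h2 (hτ1 _ hmem)
      exact ⟨{μ, -ν}, fun _ => ⟨μ, ν, hμ, hν, hne, heq, hdeg, rfl⟩⟩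
    · exact ⟨∅, fun h => absurd h hχ⟩
  choose R hR using hex
  refine ⟨R, ?_⟩
  have hsigned : ∀ {μ ν : G → ℂ}, Cfsg.IsIrrCharacter G μ → Cfsg.IsIrrCharacter G ν →
      μ ≠ -ν := by
    intro μ ν hμ hν h
    obtain ⟨m, hm, hm1⟩ := IsIrrCharacter.apply_one hμ
    obtain ⟨n, hn, hn1⟩ := IsIrrCharacter.apply_one hν
    have := congrFun h 1
    rw [Pi.neg_apply, hm1, hn1] at this
    have h' : ((m + n : ℕ) : ℂ) = 0 := by push_cast; rw [this]; ring
    have : m + n = 0 := by exact_mod_cast h'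
    omega
  refine
    { nonempty := hS
      isCharacter := fun χ hχ => IsIrrCharacter.isCharacter (hirr χ hχ)
      conj_mem := fun χ hχ => (hconj χ hχ).1
      conj_ne := fun χ hχ => (hconj χ hχ).2
      isometry := hτ
      map_one := hτ1
      orthogonal := fun χ hχ φ hφ hne => classInner_irr_of_ne (hirr χ hχ) (hirr φ hφ) hne
      orthonormal := ?_
      virtual := ?_
      sum_eq := ?_
      disjoint := ?_ }
  · intro χ hχ α hα β hβ
    obtain ⟨μ, ν, hμ, hν, hne, heq, hdeg, hRχ⟩ := hR χ hχ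
    rw [hRχ] at hα hβ
    simp only [Finset.mem_insert, Finset.mem_singleton] at hα hβ
    rcases hα with rfl | rfl <;> rcases hβ with rfl | rfl
    · rw [if_pos rfl, classInner_irr_self hμ]
    · rw [if_neg (hsigned hμ hν), classInner_neg_right, classInner_irr_of_ne hμ hν hne, neg_zero]
    · rw [if_neg (hsigned hμ hν).symm, classInner_neg_left, classInner_irr_of_ne hν hμ hne.symm,
        neg_zero]
    · rw [if_pos rfl, classInner_neg_left, classInner_neg_right, classInner_irr_self hν, neg_neg]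
  · intro χ hχ α hα
    obtain ⟨μ, ν, hμ, hν, hne, heq, hdeg, hRχ⟩ := hR χ hχ
    rw [hRχ] at hα
    simp only [Finset.mem_insert, Finset.mem_singleton] at hα
    rcases hα with rfl | rfl
    · exact IsIrrCharacter.isGeneralizedCharacter hμ
    · exact IsGeneralizedCharacter.neg (IsIrrCharacter.isGeneralizedCharacter hν)
  · intro χ hχ
    obtain ⟨μ, ν, hμ, hν, hne, heq, hdeg, hRχ⟩ := hR χ hχ
    rw [hRχ, Finset.sum_pair (hsigned hμ hν), heq, sub_eq_add_neg]
  · intro χ hχ φ hφ h1 h2 α hα β hβ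
    obtain ⟨μ, ν, hμ, hν, hne, heq, hdeg, hRχ⟩ := hR χ hχ
    obtain ⟨μ', ν', hμ', hν', hne', heq', hdeg', hRφ⟩ := hR φ hφ
    obtain ⟨hmem, -⟩ := diff_facts S hirr hconj χ hχ
    obtain ⟨hmem', -⟩ := diff_facts S hirr hconj φ hφ
    have hmix : Cfsg.classInner (μ' - ν') (((1 : ℝ) : ℂ) • μ - ((1 : ℝ) : ℂ) • ν) = 0 := by
      rw [Complex.ofReal_one, one_smul, one_smul, ← heq, ← heq', hτ.2.2.1 _ hmem' _ hmem,
        classInner_sub_left, classInner_sub_right, classInner_sub_right, h1, h2]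
      have e1 : Cfsg.classInner (Cfsg.conjFun φ) χ = 0 := by
        have := classInner_conjFun_conjFun φ (Cfsg.conjFun χ)
        rw [conjFun_conjFun, h2, map_zero] at this
        exact this
      have e2 : Cfsg.classInner (Cfsg.conjFun φ) (Cfsg.conjFun χ) = 0 := by
        rw [classInner_conjFun_conjFun, h1, map_zero]
      rw [e1, e2]; ring
    have key := Cfsg.Agent.S1509.result μ' ν' μ ν (Or.inl hμ') (Or.inl hν') (Or.inl hμ) (Or.inl hν)
      1 1 one_ne_zero one_ne_zero (classInner_irr_of_ne hμ' hν' hne')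
      (classInner_irr_of_ne hμ hν hne) hmix hdeg' (by rw [hdeg])
    obtain ⟨k1, k2, k3, k4⟩ := key
    rw [hRφ] at hα
    rw [hRχ] at hβ
    simp only [Finset.mem_insert, Finset.mem_singleton] at hα hβ
    rcases hα with rfl | rfl <;> rcases hβ with rfl | rfl
    · exact k1
    · rw [classInner_neg_right, k2, neg_zero]
    · rw [classInner_neg_left, k3, neg_zero]
    · rw [classInner_neg_left, classInner_neg_right, k4, neg_zero, neg_zero]

end Cfsg.Agent.S1514
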