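import Mathlib
import Cfsg.Statements.S1515
import Cfsg.Agent.Lib.Helper2_ClassFn
import Cfsg.Agent.Lib.Helper2_CharBasic
import Cfsg.Agent.Lib.Helper2_CharOrtho

set_option autoImplicit false
open Cfsg
open Cfsg.Agent.Lib.Helper2_ClassFn
open Cfsg.Agent.Lib.Helper2_CharBasic
open Cfsg.Agent.Lib.Helper2_CharOrtho
open scoped ComplexConjugate

namespace Cfsg.Agent.S1515

/-- Let (S, τ, R) be a coherence system from L to G, χ ∈ S, and ψ an integer combination of S with ⟨χ, ψ⟩ = ⟨conj χ, ψ⟩ = 0. Let τ₁ be a linear isometry on the integer combinations of χ − ψ and χ − conj χ, with virtual-character values, agreeing with τ on integer multiples of χ − conj χ. Then the sum over α ∈ R χ of the squared absolute values of ⟨τ₁(χ − ψ), α⟩ is at least ⟨χ, χ⟩; and if ⟨τ₁(χ − ψ), τ₁(χ − ψ)⟩ minus that sum is at least ⟨ψ, ψ⟩, then the sum equals ⟨χ, χ⟩ and every ⟨τ₁(χ − ψ), α⟩ with α ∈ R χ is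 0 or 1. -/
theorem result {L : Type*} [Group L] [Fintype L] {G : Type*} [Group G] [Fintype G] (S : Set (L → ℂ)) (τ : (L → ℂ) → (G → ℂ)) (R : (L → ℂ) → Finset (G → ℂ)) (hS : Cfsg.IsCoherenceSystem S τ R) (χ : L → ℂ) (hχ : χ ∈ S) (ψ : L → ℂ) (hψ : ψ ∈ Cfsg.zspan S) (h1 : Cfsg.classInner χ ψ = 0) (h2 : Cfsg.classInner (Cfsg.conjFun χ) ψ = 0) (τ₁ : (L → ℂ) → (G → ℂ)) (hτ₁ : Cfsg.IsLinearIsometryOn (Cfsg.zspan {χ - ψ, χ - Cfsg.conjFun χ}) τ₁) (hagree : ∀ n : ℤ, τ₁ (n • (χ - Cfsg.conjFun χ)) = τ (n • (χ - Cfsg.conjFun χ))) : (Cfsg.classInner χ χ).re ≤ ∑ α ∈ R χ, ‖Cfsg.classInner (τ₁ (χ - ψ)) α‖ ^ 2 ∧ ((Cfsg.classInner ψ ψ).re ≤ (Cfsg.classInner (τ₁ (χ - ψ)) (τ₁ (χ - ψ))).re - ∑ α ∈ R χ, ‖Cfsg.classInner (τ₁ (χ - ψ)) α‖ ^ 2 → (∑ α ∈ R χ, ‖Cfsg.classInner (τ₁ (χ - ψ)) α‖ ^ 2 = (Cfsg.classInner χ χ).re ∧ ∀ α ∈ R χ, Cfsg.classInner (τ₁ (χ - ψ)) α = 0 ∨ Cfsg.classInner (τ₁ (χ - ψ)) α =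 1)) := by
  classical
  obtain ⟨-, -, hiso, hgen⟩ := hτ₁
  have hm1 : χ - ψ ∈ Cfsg.zspan {χ - ψ, χ - Cfsg.conjFun χ} :=
    Submodule.subset_span (by simp)
  have hm2 : χ - Cfsg.conjFun χ ∈ Cfsg.zspan {χ - ψ, χ - Cfsg.conjFun χ} :=
    Submodule.subset_span (by simp)
  set X := τ₁ (χ - ψ) with hX
  have hXg : Cfsg.IsGeneralizedCharacter G X := hgen _ hm1
  -- integrality
  have hint : ∀ α : G → ℂ, ∃ z : ℤ, α ∈ R χ → Cfsg.classInner X α = z := by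
    intro α
    by_cases hα : α ∈ R χ
    · obtain ⟨z, hz⟩ := IsGeneralizedCharacter.classInner_int hXg (hS.virtual χ hχ α hα)
      exact ⟨z, fun _ => hz⟩
    · exact ⟨0, fun h => absurd h hα⟩
  choose a ha using hint
  -- orthogonality facts
  have hcc : Cfsg.classInner χ (Cfsg.conjFun χ) = 0 :=
    hS.orthogonal χ hχ _ (hS.conj_mem χ hχ) (hS.conj_ne χ hχ).symm
  have h1' : Cfsg.classInner ψ χ = 0 := by rw [← classInner_conj_symm, h1, map_zero]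
  have h2' : Cfsg.classInner ψ (Cfsg.conjFun χ) = 0 := by
    rw [← classInner_conj_symm, h2, map_zero]
  -- sum of the a's
  have hsum : ∑ α ∈ R χ, (a α : ℂ) = Cfsg.classInner χ χ := by
    have e1 : ∑ α ∈ R χ, (a α : ℂ) = Cfsg.classInner X (∑ α ∈ R χ, α) := by
      rw [classInner_sum_right]
      exact Finset.sum_congr rfl fun α hα => (ha α hα).symm
    have e2 : τ (χ - Cfsg.conjFun χ) = τ₁ (χ - Cfsg.conjFun χ) := by
      have := hagree 1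
      rw [one_zsmul] at this
      exact this.symm
    rw [e1, ← hS.sum_eq χ hχ, e2, hX, hiso _ hm1 _ hm2, classInner_sub_left,
      classInner_sub_right, classInner_sub_right, hcc, h1', h2']
    ring
  have hXX : Cfsg.classInner X X = Cfsg.classInner χ χ + Cfsg.classInner ψ ψ := by
    rw [hX, hiso _ hm1 _ hm1, classInner_sub_left, classInner_sub_right, classInner_sub_right,
      h1, h1']
    ring
  have hnorm : ∀ α ∈ R χ, ‖Cfsg.classInner X α‖ ^ 2 = ((a α : ℤ) : ℝ) ^ 2 := by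
    intro α hα
    rw [ha α hα]
    simp
  have hsumre : (Cfsg.classInner χ χ).re = ∑ α ∈ R χ, ((a α : ℤ) : ℝ) := by
    rw [← hsum, Complex.re_sum]
    exact Finset.sum_congr rfl fun α _ => by simp
  have hle : ∀ α ∈ R χ, ((a α : ℤ) : ℝ) ≤ ((a α : ℤ) : ℝ) ^ 2 := by
    intro α _
    have : a α ≤ a α ^ 2 := by
      rcases le_or_gt (a α) 0 with h | h
      · have : 0 ≤ a α ^ 2 := sq_nonneg _
        linarith
      · nlinarith
    exact_mod_cast this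
  rw [Finset.sum_congr rfl hnorm, hsumre]
  refine ⟨Finset.sum_le_sum hle, ?_⟩
  intro hhyp
  rw [hXX, Complex.add_re, hsumre] at hhyp
  have hle2 : ∑ α ∈ R χ, ((a α : ℤ) : ℝ) ^ 2 ≤ ∑ α ∈ R χ, ((a α : ℤ) : ℝ) := by linarith
  have heq : ∑ α ∈ R χ, ((a α : ℤ) : ℝ) ^ 2 = ∑ α ∈ R χ, ((a α : ℤ) : ℝ) :=
    le_antisymm hle2 (Finset.sum_le_sum hle)
  refine ⟨heq, ?_⟩
  intro α hα
  have hz : ∑ β ∈ R χ, (((a β : ℤ) : ℝ) ^ 2 - ((a β : ℤ) : ℝ)) = 0 := by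
    rw [Finset.sum_sub_distrib, heq, sub_self]
  have := (Finset.sum_eq_zero_iff_of_nonneg (fun β hβ => sub_nonneg.mpr (hle β hβ))).mp hz α hα
  have h3 : ((a α : ℤ) : ℝ) * (((a α : ℤ) : ℝ) - 1) = 0 := by linarith [this]
  rw [ha α hα]
  rcases mul_eq_zero.mp h3 with h | h
  · left
    have : a α = 0 := by exact_mod_cast h
    rw [this]; simp
  · right
    have : ((a α : ℤ) : ℝ) = 1 := by linarith
    have : a α = 1 := by exact_mod_cast this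
    rw [this]; simp

end Cfsg.Agent.S1515
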