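import Cfsg.Statements.S1525
import Cfsg.Agent.Lib.Helper2_ClassFn
import Cfsg.Agent.Lib.Helper2_CharBasic
import Cfsg.Agent.Lib.Helper2_CharOrtho
import Cfsg.Agent.Lib.Helper2_Clifford
import Cfsg.Agent.Lib.Helper2_CharMore
import Cfsg.Agent.Lib.Helper2_CharNorm
import Cfsg.Agent.Lib.Helper2_CharValues
import Cfsg.Agent.Lib.Helper2_CharComplete
import Cfsg.Agent.Lib.Helper2_CharInd
import Cfsg.Agent.Lib.Helper2_CharTable
import Cfsg.Agent.Lib.Helper2_CharFrob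
import Cfsg.Agent.Lib.Helper2_CharDeg
import Cfsg.Agent.Lib.Helper2_CharSum
import Cfsg.Agent.Lib.Helper2_CharExtra
import Cfsg.Agent.Lib.Helper2_CharCentral
import Cfsg.Agent.Lib.Helper2_PermChar
import Cfsg.Agent.Lib.Helper2_FrobSchur
import Cfsg.Agent.Lib.Helper2_CliffordCorr
import Cfsg.Agent.Lib.Helper2_CharKernel
import Cfsg.Agent.Lib.Helper2_CyclicTI
import Cfsg.Agent.Lib.Helper2_CharGalois
import Cfsg.Agent.Lib.Helper2_CharInt
import Cfsg.Agent.Lib.Helper2_CharBurnside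
import Cfsg.Agent.Lib.Helper2_CharCenter
import Cfsg.Agent.Lib.Helper2_Ito
import Cfsg.Agent.Lib.Helper2_Gallagher
import Cfsg.Agent.Lib.Helper2_Artin
import Cfsg.Agent.Lib.Helper2_MGroup
import Cfsg.Agent.Lib.Helper2_RepEquiv
import Cfsg.Agent.Lib.Helper2_CyclicExt
import Cfsg.Agent.Lib.Helper2_Extraspecial
import Cfsg.Agent.Lib.Helper2_ProjLift
import Cfsg.Agent.Lib.Helper2_CentralExt
import Cfsg.Agent.Lib.Helper2_SylowExt
import Cfsg.Agent.Lib.Helper2_DetChar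
import Cfsg.Agent.Lib.Helper2_LinExt
import Cfsg.Agent.Lib.Helper2_DetExt
import Cfsg.Agent.Lib.Helper2_GallagherExt
import Cfsg.Agent.Lib.Helper2_PermInd
import Cfsg.Agent.Lib.Helper2_QuasiElem
import Cfsg.Agent.Lib.Helper2_BrauerInd
import Cfsg.Agent.Lib.Helper2_BrauerThm
import Cfsg.Agent.Lib.Helper2_NilDecomp
import Cfsg.Agent.Lib.Helper2_DefectZero
import Cfsg.Agent.Lib.Helper2_CharGalois2
import Cfsg.Agent.Lib.Helper2_CosetAvg
import Cfsg.Agent.Lib.Helper2_Thompson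
import Cfsg.Agent.Lib.Helper2_ItoSolv
import Cfsg.Agent.Lib.Helper2_ItoPSolv
import Cfsg.Agent.Lib.Helper2_GaloisConj
import Cfsg.Agent.Lib.Helper2_AbelInertia
import Cfsg.Agent.Lib.Helper2_Gagola
import Cfsg.Agent.Lib.Helper2_GoingDown
import Cfsg.Agent.Lib.Helper2_RelMGroup
import Cfsg.Agent.Lib.Helper2_Gagola2
import Cfsg.Agent.Lib.Helper2_Gagola3
import Cfsg.Agent.Lib.Helper2_Dade

set_option autoImplicit false
open Cfsg

namespace Cfsg.Agent.S1525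

open Cfsg.Agent.Lib.Helper2_ClassFn Cfsg.Agent.Lib.Helper2_CharBasic Cfsg.Agent.Lib.Helper2_CharOrtho Cfsg.Agent.Lib.Helper2_Clifford Cfsg.Agent.Lib.Helper2_CharMore Cfsg.Agent.Lib.Helper2_CharNorm Cfsg.Agent.Lib.Helper2_CharValues Cfsg.Agent.Lib.Helper2_CharComplete Cfsg.Agent.Lib.Helper2_CharInd Cfsg.Agent.Lib.Helper2_CharTable Cfsg.Agent.Lib.Helper2_CharFrob Cfsg.Agent.Lib.Helper2_CharDeg Cfsg.Agent.Lib.Helper2_CharSum Cfsg.Agent.Lib.Helper2_CharExtra Cfsg.Agent.Lib.Helper2_CharCentral Cfsg.Agent.Lib.Helper2_PermChar Cfsg.Agent.Lib.Helper2_FrobSchur Cfsg.Agent.Lib.Helper2_CliffordCorr Cfsg.Agent.Lib.Helper2_CharKernel Cfsg.Agent.Lib.Helper2_CyclicTI Cfsg.Agent.Lib.Helper2_CharGalois Cfsg.Agent.Lib.Helper2_CharInt Cfsg.Agent.Lib.Helper2_CharBurnside Cfsg.Agent.Lib.Helper2_CharCenter Cfsg.Agent.Lib.Helper2_Ito Cfsg.Agent.Lib.Helper2_Gallagher Cfsg.Agent.Lib.Helper2_Artin Cfsg.Agent.Lib.Helper2_MGroup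 Cfsg.Agent.Lib.Helper2_RepEquiv Cfsg.Agent.Lib.Helper2_CyclicExt Cfsg.Agent.Lib.Helper2_Extraspecial Cfsg.Agent.Lib.Helper2_ProjLift Cfsg.Agent.Lib.Helper2_CentralExt Cfsg.Agent.Lib.Helper2_SylowExt Cfsg.Agent.Lib.Helper2_DetChar Cfsg.Agent.Lib.Helper2_LinExt Cfsg.Agent.Lib.Helper2_DetExt Cfsg.Agent.Lib.Helper2_GallagherExt Cfsg.Agent.Lib.Helper2_PermInd Cfsg.Agent.Lib.Helper2_QuasiElem Cfsg.Agent.Lib.Helper2_BrauerInd Cfsg.Agent.Lib.Helper2_BrauerThm Cfsg.Agent.Lib.Helper2_NilDecomp Cfsg.Agent.Lib.Helper2_DefectZero Cfsg.Agent.Lib.Helper2_CharGalois2 Cfsg.Agent.Lib.Helper2_CosetAvg Cfsg.Agent.Lib.Helper2_Thompson Cfsg.Agent.Lib.Helper2_ItoSolv Cfsg.Agent.Lib.Helper2_ItoPSolv Cfsg.Agent.Lib.Helper2_GaloisConj Cfsg.Agent.Lib.Helper2_AbelInertia Cfsg.Agent.Lib.Helper2_Gagola Cfsg.Agent.Lib.Helper2_GoingDown Cfsg.Agent.Lib.Helper2_RelMGroup Cfsg.Agent.Lib.Helper2_Gagola2 Cfsg.Agent.Lib.Helper2_Gagola3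 Cfsg.Agent.Lib.Helper2_Dade
open scoped Pointwise
open Classical in
theorem sum_subgroup_real {G : Type*} [Group G] [Fintype G] (K : Subgroup G) [Fintype K]
    (f : G → ℝ) : ∑ x : K, f x = ∑ x : G, (if x ∈ K then f x else 0) := by
  rw [← Finset.sum_filter]
  symm
  apply Finset.sum_subtype
  intro x
  simp

open Classical in
theorem finsum_mem_real {X : Type*} [Fintype X] (S : Set X) (f : X → ℝ) :
    ∑ᶠ u ∈ S, f u = ∑ u : X, (if u ∈ S then f u else 0) := by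
  rw [finsum_mem_def, finsum_eq_sum_of_fintype]
  apply Finset.sum_congr rfl
  intro u _
  rw [Set.indicator_apply]

open Classical in
theorem norm_avg_sq_le {G : Type*} [Fintype G] (S : Finset G) (n : ℕ) (hn : S.card = n)
    (hn0 : 0 < n) (z : G → ℂ) :
    ‖(n : ℂ)⁻¹ * ∑ u ∈ S, z u‖ ^ 2 ≤ (n : ℝ)⁻¹ * ∑ u ∈ S, ‖z u‖ ^ 2 := by
  have hnpos : (0 : ℝ) < n := by exact_mod_cast hn0
  rw [norm_mul, norm_inv, Complex.norm_natCast, mul_pow]
  have h1 : ‖∑ u ∈ S, z u‖ ≤ ∑ u ∈ S, ‖z u‖ := norm_sum_le _ _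
  have h2 : (∑ u ∈ S, ‖z u‖) ^ 2 ≤ (S.card : ℝ) * ∑ u ∈ S, ‖z u‖ ^ 2 :=
    sq_sum_le_card_mul_sum_sq
  rw [hn] at h2
  have h3 : ‖∑ u ∈ S, z u‖ ^ 2 ≤ (n : ℝ) * ∑ u ∈ S, ‖z u‖ ^ 2 := by
    refine le_trans ?_ h2
    exact pow_le_pow_left₀ (norm_nonneg _) h1 2
  calc ((n : ℝ)⁻¹) ^ 2 * ‖∑ u ∈ S, z u‖ ^ 2
      ≤ ((n : ℝ)⁻¹) ^ 2 * ((n : ℝ) * ∑ u ∈ S, ‖z u‖ ^ 2) := by
        apply mul_le_mul_of_nonneg_left h3
        positivity
    _ = (n : ℝ)⁻¹ * ∑ u ∈ S, ‖z u‖ ^ 2 := by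
        field_simp


/-- Under the Dade hypothesis for (A, L, H), let χ be a class function of G and let ψ be a function on L whose value at each a ∈ A is the average of χ over the coset a·H(a). Then (1/|G|) Σ |χ g|² over the elements g of G conjugate into some coset a·H(a) with a ∈ A is at least (1/|L|) Σ_{a ∈ A ∩ L} |ψ a|². -/
theorem result {G : Type*} [Group G] [Fintype G] (A : Set G) (L : Subgroup G) [Fintype L] (H : G → Subgroup G) (hD : Cfsg.DadeHypothesis A L H) (χ : G → ℂ) (hχ : Cfsg.IsClassFunction G χ) (ψ : L → ℂ) (hψ : ∀ a : L, (a : G) ∈ A → ψ a = (Nat.card (H a) : ℂ)⁻¹ * ∑ᶠ u ∈ (H a : Set G), χ (a * u)) : (Nat.card L : ℝ)⁻¹ * ∑ᶠ a ∈ {a : L | (a : G) ∈ A}, ‖ψ a‖ ^ 2 ≤ (Nat.card G : ℝ)⁻¹ * ∑ᶠ g ∈ {g : G | ∃ a ∈ A, ∃ u ∈ H a, ∃ x : G, x * g * x⁻¹ = a * u}, ‖χ g‖ ^ 2 := by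
  classical
  set D : Set G := {g : G | ∃ a ∈ A, ∃ u ∈ H a, ∃ x : G, x * g * x⁻¹ = a * u} with hDdef
  set F : G → ℝ := fun g => if g ∈ D then ‖χ g‖ ^ 2 else 0 with hF
  have hDc : ∀ x g : G, x * g * x⁻¹ ∈ D ↔ g ∈ D := by
    intro x g
    constructor
    · rintro ⟨a, ha, u, hu, y, hy⟩
      refine ⟨a, ha, u, hu, y * x, ?_⟩
      rw [← hy]; group
    · rintro ⟨a, ha, u, hu, y, hy⟩
      refine ⟨a, ha, u, hu, y * x⁻¹, ?_⟩
      rw [← hy]; group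
  have hFc : ∀ x g : G, F (x * g * x⁻¹) = F g := by
    intro x g
    simp only [hF]
    rw [hχ g x]
    exact if_congr (hDc x g) rfl rfl
  have hF0 : ∀ g : G, (¬ ∃ a ∈ A, ∃ u ∈ H a, ∃ x : G, x * g * x⁻¹ = a * u) → F g = 0 := by
    intro g hg
    simp only [hF]
    rw [if_neg]
    exact hg
  have hsum := dade_sum (𝕜 := ℝ) hD F hFc hF0
  have hL : (0 : ℝ) < (Nat.card L : ℝ) := by exact_mod_cast (Nat.card_pos (α := L))
  have hG : (0 : ℝ) < (Nat.card G : ℝ) := by exact_mod_cast (Nat.card_pos (α := G))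
  have hr : ∑ᶠ g ∈ D, ‖χ g‖ ^ 2 = ∑ g : G, F g := by
    rw [finsum_mem_real]
    apply Finset.sum_congr rfl
    intro g _
    simp only [hF]
    by_cases hg : g ∈ D
    · rw [if_pos hg, if_pos hg]
    · rw [if_neg hg, if_neg hg]
  have hl : ∑ᶠ a ∈ {a : L | (a : G) ∈ A}, ‖ψ a‖ ^ 2 =
      ∑ a : L, (if (a : G) ∈ A then ‖ψ a‖ ^ 2 else 0) := by
    rw [finsum_mem_real]
    apply Finset.sum_congr rfl
    intro a _
    by_cases ha : (a : G) ∈ A
    · rw [if_pos (show a ∈ {a : L | (a : G) ∈ A} from ha), if_pos ha]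
    · rw [if_neg (show ¬ a ∈ {a : L | (a : G) ∈ A} from ha), if_neg ha]
  rw [hr, hl]
  have hle : ∑ a : L, (if (a : G) ∈ A then ‖ψ a‖ ^ 2 else 0) ≤
      ∑ a : G, (if a ∈ A then
        ((Nat.card (H a) : ℝ))⁻¹ * ∑ u : G, (if u ∈ H a then F (a * u) else 0) else 0) := by
    have h1 : ∀ a : G, (if a ∈ L then (if a ∈ A then
        ((Nat.card (H a) : ℝ))⁻¹ * ∑ u : G, (if u ∈ H a then F (a * u) else 0) else 0) else 0) =
        (if a ∈ A then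
        ((Nat.card (H a) : ℝ))⁻¹ * ∑ u : G, (if u ∈ H a then F (a * u) else 0) else 0) := by
      intro a
      by_cases ha : a ∈ L
      · rw [if_pos ha]
      · rw [if_neg ha, if_neg (fun h => ha (hD.subset h))]
    rw [← Finset.sum_congr rfl (fun a _ => h1 a)]
    rw [← sum_subgroup_real L (fun a => if a ∈ A then
        ((Nat.card (H a) : ℝ))⁻¹ * ∑ u : G, (if u ∈ H a then F (a * u) else 0) else 0)]
    apply Finset.sum_le_sum
    intro a _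
    by_cases haA : (a : G) ∈ A
    · rw [if_pos haA, if_pos haA, hψ a haA]
      rw [Cfsg.Agent.Lib.Helper2_Dade.finsum_mem_subgroup]
      have hcard : (Finset.univ.filter (fun u : G => u ∈ H (a : G))).card =
          Nat.card (H (a : G)) := by
        rw [Nat.card_eq_fintype_card, Fintype.card_subtype]
      have := norm_avg_sq_le (Finset.univ.filter (fun u : G => u ∈ H (a : G)))
        (Nat.card (H (a : G))) hcard Nat.card_pos (fun u => χ ((a : G) * u))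
      rw [Finset.sum_filter, Finset.sum_filter] at this
      refine le_trans this (le_of_eq ?_)
      congr 1
      apply Finset.sum_congr rfl
      intro u _
      by_cases hu : u ∈ H (a : G)
      · rw [if_pos hu, if_pos hu]
        simp only [hF]
        rw [if_pos]
        exact ⟨a, haA, u, hu, 1, by group⟩
      · rw [if_neg hu, if_neg hu]
    · rw [if_neg haA, if_neg haA]
  have h2 : (Nat.card L : ℝ)⁻¹ * ∑ a : G, (if a ∈ A then
        ((Nat.card (H a) : ℝ))⁻¹ * ∑ u : G, (if u ∈ H a then F (a * u) else 0) else 0) =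
      (Nat.card G : ℝ)⁻¹ * ∑ g : G, F g := by
    rw [inv_mul_eq_iff_eq_mul₀ hL.ne']
    calc _ = (Nat.card G : ℝ)⁻¹ * ((Nat.card G : ℝ) * _) := by
          rw [inv_mul_cancel_left₀ hG.ne']
      _ = (Nat.card G : ℝ)⁻¹ * ((Nat.card L : ℝ) * ∑ g : G, F g) := by rw [hsum]
      _ = _ := by ring
  rw [← h2]
  exact mul_le_mul_of_nonneg_left hle (inv_nonneg.mpr hL.le)

end Cfsg.Agent.S1525
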