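import Mathlib
import Cfsg.Statements.S1527
import Cfsg.Agent.Lib.Helper2_Count

set_option autoImplicit false
open Cfsg

namespace Cfsg.Agent.S1527

open Cfsg.Agent.Lib.Helper2_Count

/-- The set of non-identity elements conjugate into `K` has size `[G : N(K)] * (|K| - 1)` when
`K` is a TI-subgroup. -/
theorem card_conj_into {G : Type*} [Group G] [Finite G] (K : Subgroup G)
    (hTI : Cfsg.IsTISubset (K : Set G)) :
    Nat.card {y : G // y ≠ 1 ∧ ∃ g : G, g⁻¹ * y * g ∈ K}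
      = (Subgroup.normalizer (K : Set G)).index * (Nat.card K - 1) := by
  set N := Subgroup.normalizer (K : Set G) with hN
  let f : G × {h : G // h ∈ K ∧ h ≠ 1} → {y : G // y ≠ 1 ∧ ∃ g : G, g⁻¹ * y * g ∈ K} :=
    fun a => ⟨a.1 * a.2.1 * a.1⁻¹, by
      refine ⟨?_, a.1, ?_⟩
      · intro h
        apply a.2.2.2
        have : a.2.1 = a.1⁻¹ * (a.1 * a.2.1 * a.1⁻¹) * a.1 := by group
        rw [this, h]; group
      · have : a.1⁻¹ * (a.1 * a.2.1 * a.1⁻¹) * a.1 = a.2.1 := by group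
        rw [this]; exact a.2.2.1⟩
  have hfib : ∀ y, Nat.card {a // f a = y} = Nat.card N := by
    rintro ⟨y, hy1, g₀, hg₀⟩
    set h₀ := g₀⁻¹ * y * g₀ with hh₀
    have hh₀1 : h₀ ≠ 1 := by
      intro h
      apply hy1
      have : y = g₀ * h₀ * g₀⁻¹ := by rw [hh₀]; group
      rw [this, h]; group
    apply Nat.card_congr
    refine
      { toFun := fun a => ⟨g₀⁻¹ * a.1.1, ?_⟩
        invFun := fun n => ⟨(g₀ * n.1, ⟨n.1⁻¹ * h₀ * n.1, ?_, ?_⟩), ?_⟩
        left_inv := ?_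
        right_inv := ?_ }
    · -- g₀⁻¹ g ∈ N
      have ha : a.1.1 * a.1.2.1 * a.1.1⁻¹ = y := congrArg Subtype.val a.2
      by_contra hn
      have h2 : (g₀⁻¹ * a.1.1) * a.1.2.1 * (g₀⁻¹ * a.1.1)⁻¹ ∈ (K : Set G) := by
        have : (g₀⁻¹ * a.1.1) * a.1.2.1 * (g₀⁻¹ * a.1.1)⁻¹
            = g₀⁻¹ * (a.1.1 * a.1.2.1 * a.1.1⁻¹) * g₀ := by group
        rw [this, ha]
        exact hg₀
      exact a.1.2.2.2 (hTI _ hn a.1.2.1 a.1.2.2.1 h2)
    · have hn : n.1 ∈ Subgroup.normalizer (K : Set G) := n.2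
      rw [Subgroup.mem_normalizer_iff''] at hn
      exact (hn h₀).mp hg₀
    · intro h
      apply hh₀1
      have : h₀ = n.1 * (n.1⁻¹ * h₀ * n.1) * n.1⁻¹ := by group
      rw [this, h]; group
    · apply Subtype.ext
      show g₀ * n.1 * (n.1⁻¹ * h₀ * n.1) * (g₀ * n.1)⁻¹ = y
      rw [hh₀]; group
    · rintro ⟨⟨g, ⟨h, hhK, hh1⟩⟩, ha⟩
      have ha' : g * h * g⁻¹ = y := congrArg Subtype.val ha
      apply Subtype.ext
      apply Prod.ext
      · show g₀ * (g₀⁻¹ * g) = g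
        group
      · apply Subtype.ext
        show (g₀⁻¹ * g)⁻¹ * h₀ * (g₀⁻¹ * g) = h
        rw [hh₀, ← ha']; group
    · intro n
      apply Subtype.ext
      show g₀⁻¹ * (g₀ * n.1) = n.1
      group
  have h1 := card_eq_mul_of_fibers f (Nat.card N) hfib
  rw [Nat.card_prod, card_subgroup_ne_one] at h1
  have h2 : N.index * Nat.card N = Nat.card G := N.index_mul_card
  have hNpos : 0 < Nat.card N := Nat.card_pos
  rw [← h2] at h1
  have h3 : Nat.card N * (N.index * (Nat.card K - 1))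
      = Nat.card N * Nat.card {y : G // y ≠ 1 ∧ ∃ g : G, g⁻¹ * y * g ∈ K} := by
    rw [← h1]; ring
  exact (Nat.eq_of_mul_eq_mul_left hNpos h3).symm

theorem result {G : Type*} [Group G] [Finite G] {ι : Type*} [Fintype ι] (H : ι → Subgroup G) (hcop : ∀ i j, i ≠ j → Nat.Coprime (Nat.card (H i)) (Nat.card (H j))) (hTI : ∀ i, Cfsg.IsTISubset (H i : Set G)) (hcover : ∀ g : G, g ≠ 1 → ∃ i, ∃ x : G, x * g * x⁻¹ ∈ H i) : Nat.card G - 1 = ∑ i, (Subgroup.normalizer (H i : Set G)).index * (Nat.card (H i) - 1) := by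
  classical
  rw [← card_subtype_ne_one G]
  have hsum : ∀ i, (Subgroup.normalizer (H i : Set G)).index * (Nat.card (H i) - 1)
      = Nat.card {y : G // y ≠ 1 ∧ ∃ g : G, g⁻¹ * y * g ∈ H i} :=
    fun i => (card_conj_into (H i) (hTI i)).symm
  simp_rw [hsum]
  rw [← Nat.card_sigma]
  apply Nat.card_congr
  symm
  refine Equiv.ofBijective (fun a => ⟨a.2.1, a.2.2.1⟩) ⟨?_, ?_⟩
  · rintro ⟨i, y, hy1, g, hg⟩ ⟨j, y', hy1', g', hg'⟩ hyy
    have hyy' : y = y' := congrArg Subtype.val hyy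
    subst hyy'
    by_cases hij : i = j
    · subst hij
      rfl
    · exfalso
      apply hy1
      have h1 : orderOf y ∣ Nat.card (H i) := by
        have : orderOf (g⁻¹ * y * g) = orderOf y := by
          have : g⁻¹ * y * g = MulAut.conj g⁻¹ y := by simp
          rw [this, MulEquiv.orderOf_eq]
        rw [← this]
        exact Subgroup.orderOf_dvd_natCard (H i) hg
      have h2 : orderOf y ∣ Nat.card (H j) := by
        have : orderOf (g'⁻¹ * y * g') = orderOf y := by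
          have : g'⁻¹ * y * g' = MulAut.conj g'⁻¹ y := by simp
          rw [this, MulEquiv.orderOf_eq]
        rw [← this]
        exact Subgroup.orderOf_dvd_natCard (H j) hg'
      have h3 := Nat.eq_one_of_dvd_coprimes (hcop i j hij) h1 h2
      exact orderOf_eq_one_iff.mp h3
  · rintro ⟨y, hy⟩
    obtain ⟨i, x, hx⟩ := hcover y hy
    refine ⟨⟨i, y, hy, x⁻¹, ?_⟩, rfl⟩
    simpa using hx

end Cfsg.Agent.S1527
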