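import Mathlib
import Cfsg.Statements.S1528
import Cfsg.Agent.Lib.Helper2_ClassFn
import Cfsg.Agent.Lib.Helper2_CharBasic
import Cfsg.Agent.Lib.Helper2_CharOrtho
import Cfsg.Agent.Lib.Helper2_CharInd
import Cfsg.Agent.Lib.Helper2_CharFrob

set_option autoImplicit false
open Cfsg
open Cfsg.Agent.Lib.Helper2_ClassFn
open Cfsg.Agent.Lib.Helper2_CharBasic
open Cfsg.Agent.Lib.Helper2_CharOrtho
open Cfsg.Agent.Lib.Helper2_CharInd
open Cfsg.Agent.Lib.Helper2_CharFrob

namespace Cfsg.Agent.S1528

/-- Let N be a normal subgroup of the finite group G such that every element of G commuting with a non-identity element of N lies in N. If χ is an irreducible character of G with χ n ≠ χ 1 for some n ∈ N, then χ is the function induced from some irreducible character of N. -/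
theorem result {G : Type*} [Group G] [Fintype G] (N : Subgroup G) [N.Normal] (hC : ∀ n ∈ N, n ≠ 1 → Subgroup.centralizer ({n} : Set G) ≤ N) (χ : G → ℂ) (hχ : Cfsg.IsIrrCharacter G χ) (hker : ∃ n ∈ N, χ n ≠ χ 1) : ∃ φ : N → ℂ, Cfsg.IsIrrCharacter N φ ∧ χ = Cfsg.indFun N φ := by
  classical
  have hres : IsCharacter N (fun h : N => χ h) :=
    IsCharacter.restrict (IsIrrCharacter.isCharacter hχ) N
  obtain ⟨m, hm, hsum⟩ := IsCharacter.exists_irr_decomp hres
  -- a nonprincipal constituent
  have hex : ∃ φ ∈ m, φ ≠ fun _ => (1 : ℂ) := by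
    by_contra hcon
    push Not at hcon
    have hm1 : m = Multiset.replicate (Multiset.card m) (fun _ => (1 : ℂ)) :=
      Multiset.eq_replicate.mpr ⟨rfl, hcon⟩
    obtain ⟨n, hn, hne⟩ := hker
    apply hne
    have e1 := congrFun hsum ⟨n, hn⟩
    have e2 := congrFun hsum 1
    rw [hm1, Multiset.sum_replicate] at e1 e2
    simp only [Pi.smul_apply, smul_eq_mul, mul_one] at e1 e2
    have e2' : χ 1 = _ := e2
    rw [e1, e2']
  obtain ⟨φ, hφm, hφ1⟩ := hex
  have hφ := hm φ hφm
  refine ⟨φ, hφ, ?_⟩
  have hirr := frobenius_indFun_irr N hC φ hφ hφ1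
  by_contra hne
  have h0 := classInner_irr_of_ne hirr hχ (Ne.symm hne)
  rw [frobenius_reciprocity N φ χ (IsCharacter.isClassFunction (IsIrrCharacter.isCharacter hχ)),
    ← classInner_conj_symm, hsum, classInner_multiset_sum_irr hm hφ] at h0
  have hcount : 0 < m.count φ := Multiset.count_pos.mpr hφm
  simp only [map_natCast, Nat.cast_eq_zero] at h0
  omega

end Cfsg.Agent.S1528
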