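import Mathlib
import Cfsg.Statements.S1529
import Cfsg.Agent.Lib.Helper2_ClassFn
import Cfsg.Agent.Lib.Helper2_CharOrtho

set_option autoImplicit false
open Cfsg
open Cfsg.Agent.Lib.Helper2_ClassFn
open Cfsg.Agent.Lib.Helper2_CharOrtho
open scoped ComplexConjugate

namespace Cfsg.Agent.S1529

/-- Let N be a subgroup of the finite group G, S a set of irreducible characters of N with at least two members, and τ₁ a linear isometry on the integer combinations of S with virtual-character values such that τ₁ α vanishes at 1 whenever α ∈ ℤ[S] does. Then there is ε ∈ {1, −1} such that ε • τ₁ χ is an irreducible character of G for every χ ∈ S, and distinct members of S give distinct characters. -/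
theorem result {G : Type*} [Group G] [Fintype G] (N : Subgroup G) [Fintype N] (S : Set (N → ℂ)) (hirr : ∀ χ ∈ S, Cfsg.IsIrrCharacter N χ) (htwo : ∃ χ ∈ S, ∃ ψ ∈ S, χ ≠ ψ) (τ₁ : (N → ℂ) → (G → ℂ)) (hτ₁ : Cfsg.IsLinearIsometryOn (Cfsg.zspan S) τ₁) (h0 : ∀ α ∈ Cfsg.zspan S, α 1 = 0 → τ₁ α 1 = 0) : ∃ ε : ℂ, (ε = 1 ∨ ε = -1) ∧ (∀ χ ∈ S, Cfsg.IsIrrCharacter G (ε • τ₁ χ)) ∧ (∀ χ ∈ S, ∀ ψ ∈ S, τ₁ χ = τ₁ ψ → χ = ψ) := by
  obtain ⟨hadd, hsmul, hiso, hgen⟩ := hτ₁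
  have hmem : ∀ χ ∈ S, χ ∈ Cfsg.zspan S := fun χ hχ => Submodule.subset_span hχ
  -- each image is ± irreducible
  have hpm : ∀ χ ∈ S, ∃ (μ : G → ℂ) (ε : ℂ), Cfsg.IsIrrCharacter G μ ∧ (ε = 1 ∨ ε = -1) ∧
      τ₁ χ = ε • μ := by
    intro χ hχ
    have h1 : Cfsg.classInner (τ₁ χ) (τ₁ χ) = 1 := by
      rw [hiso χ (hmem χ hχ) χ (hmem χ hχ), classInner_irr_self (hirr χ hχ)]
    obtain ⟨μ, hμ, h | h⟩ := IsGeneralizedCharacter.eq_irr_or_neg_of_norm_one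
      (hgen χ (hmem χ hχ)) h1
    · exact ⟨μ, 1, hμ, Or.inl rfl, by rw [h]; simp⟩
    · exact ⟨μ, -1, hμ, Or.inr rfl, by rw [h]; simp⟩
  -- injectivity
  have hinj : ∀ χ ∈ S, ∀ ψ ∈ S, τ₁ χ = τ₁ ψ → χ = ψ := by
    intro χ hχ ψ hψ h
    by_contra hne
    have h1 : Cfsg.classInner (τ₁ χ) (τ₁ ψ) = 0 := by
      rw [hiso χ (hmem χ hχ) ψ (hmem ψ hψ), classInner_irr_of_ne (hirr χ hχ) (hirr ψ hψ) hne]
    rw [← h, hiso χ (hmem χ hχ) χ (hmem χ hχ), classInner_irr_self (hirr χ hχ)] at h1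
    exact one_ne_zero h1
  -- sign comparison
  have hsign : ∀ χ ∈ S, ∀ ψ ∈ S, ∀ (μ ν : G → ℂ) (ε δ : ℝ), Cfsg.IsIrrCharacter G μ →
      Cfsg.IsIrrCharacter G ν → (ε = 1 ∨ ε = -1) → (δ = 1 ∨ δ = -1) → τ₁ χ = (ε : ℂ) • μ →
      τ₁ ψ = (δ : ℂ) • ν → ε = δ := by
    intro χ hχ ψ hψ μ ν ε δ hμ hν hε hδ h1 h2
    obtain ⟨a, ha, ha1⟩ := IsIrrCharacter.apply_one (hirr χ hχ)
    obtain ⟨b, hb, hb1⟩ := IsIrrCharacter.apply_one (hirr ψ hψ)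
    obtain ⟨m, hm, hm1⟩ := IsIrrCharacter.apply_one hμ
    obtain ⟨n, hn, hn1⟩ := IsIrrCharacter.apply_one hν
    have hE : ∀ (z : ℤ) (ξ : N → ℂ), ξ ∈ S → z • ξ ∈ Cfsg.zspan S := fun z ξ hξ =>
      Submodule.smul_mem _ z (Submodule.subset_span hξ)
    have hα : (b : ℤ) • χ + (-(a : ℤ)) • ψ ∈ Cfsg.zspan S :=
      Submodule.add_mem _ (hE _ χ hχ) (hE _ ψ hψ)
    have hα1 : ((b : ℤ) • χ + (-(a : ℤ)) • ψ) 1 = 0 := by
      simp [ha1, hb1]; ring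
    have h3 := h0 _ hα hα1
    rw [hadd _ (hE _ χ hχ) _ (hE _ ψ hψ), hsmul χ (hmem χ hχ), hsmul ψ (hmem ψ hψ), h1, h2] at h3
    simp only [Pi.add_apply, Pi.smul_apply] at h3
    simp only [zsmul_eq_mul, smul_eq_mul, hm1, hn1] at h3
    have h4 : (b : ℝ) * (ε * m) + (-(a : ℝ)) * (δ * n) = 0 := by exact_mod_cast h3
    have hA : (0 : ℝ) < a := by exact_mod_cast ha
    have hB : (0 : ℝ) < b := by exact_mod_cast hb
    have hM : (0 : ℝ) < m := by exact_mod_cast hm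
    have hN : (0 : ℝ) < n := by exact_mod_cast hn
    have hbm : 0 < (b : ℝ) * m := mul_pos hB hM
    have han : 0 < (a : ℝ) * n := mul_pos hA hN
    rcases hε with rfl | rfl <;> rcases hδ with rfl | rfl
    · rfl
    · exfalso; nlinarith
    · exfalso; nlinarith
    · rfl
  -- choose the sign
  obtain ⟨χ₀, hχ₀, ψ₀, hψ₀, hne₀⟩ := htwo
  have hpm' : ∀ χ ∈ S, ∃ (μ : G → ℂ) (ε : ℝ), Cfsg.IsIrrCharacter G μ ∧ (ε = 1 ∨ ε = -1) ∧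
      τ₁ χ = (ε : ℂ) • μ := by
    intro χ hχ
    obtain ⟨μ, ε, hμ, hε, h⟩ := hpm χ hχ
    rcases hε with rfl | rfl
    · exact ⟨μ, 1, hμ, Or.inl rfl, by rw [h]; simp⟩
    · exact ⟨μ, -1, hμ, Or.inr rfl, by rw [h]; simp⟩
  obtain ⟨μ₀, ε₀, hμ₀, hε₀, h₀⟩ := hpm' χ₀ hχ₀
  refine ⟨(ε₀ : ℂ), ?_, ?_, hinj⟩
  · rcases hε₀ with rfl | rfl
    · left; simp
    · right; simp
  · intro χ hχ
    obtain ⟨μ, ε, hμ, hε, h⟩ := hpm' χ hχ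
    have : ε = ε₀ := by
      by_cases hc : χ = χ₀
      · subst hc
        obtain ⟨ν, δ, hν, hδ, h'⟩ := hpm' ψ₀ hψ₀
        rw [hsign χ hχ ψ₀ hψ₀ μ ν ε δ hμ hν hε hδ h h',
          hsign χ hχ ψ₀ hψ₀ μ₀ ν ε₀ δ hμ₀ hν hε₀ hδ h₀ h']
      · exact hsign χ hχ χ₀ hχ₀ μ μ₀ ε ε₀ hμ hμ₀ hε hε₀ h h₀
    rw [h, this, smul_smul]
    have : (ε₀ : ℂ) * (ε₀ : ℂ) = 1 := by
      rcases hε₀ with rfl | rfl <;> simp
    rw [this, one_smul]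
    exact hμ

end Cfsg.Agent.S1529
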