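import Mathlib
import Cfsg.Statements.S1536
import Cfsg.Agent.S0173
import Cfsg.Agent.Lib.Helper2_CharOrtho
import Cfsg.Agent.Lib.Helper2_CharSum

set_option autoImplicit false

open Cfsg

namespace Cfsg.Agent.S1536

open Cfsg.Agent.Lib.Helper2_CharOrtho Cfsg.Agent.Lib.Helper2_CharSum

/-- if `x` fixes a non-trivial class of the normal subgroup `H` then `C_H(x) ≠ 1` -/
theorem exists_commute_of_fixed_class {M : Type*} [Group M] [Finite M] (H : Subgroup M)
    [hN : H.Normal] (x : M) (c : M) (hc : c ∈ H) (hc1 : c ≠ 1) (u : M) (hu : u ∈ H)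
    (hfix : x * c * x⁻¹ = u * c * u⁻¹) : ∃ h ∈ H, h ≠ 1 ∧ x * h = h * x := by
  by_contra hcon
  push Not at hcon
  let f : H → H := fun h =>
    ⟨(h : M)⁻¹ * (x * h * x⁻¹), H.mul_mem (H.inv_mem h.2) (hN.conj_mem h h.2 x)⟩
  have hinj : Function.Injective f := by
    intro h k hhk
    have h1 : (h : M)⁻¹ * (x * h * x⁻¹) = (k : M)⁻¹ * (x * k * x⁻¹) := congrArg Subtype.val hhk
    have h2 : x * ((k : M) * (h : M)⁻¹) = ((k : M) * (h : M)⁻¹) * x := by
      calc x * ((k : M) * (h : M)⁻¹)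
          = (k : M) * ((k : M)⁻¹ * (x * k * x⁻¹)) * x * (h : M)⁻¹ := by group
        _ = (k : M) * ((h : M)⁻¹ * (x * h * x⁻¹)) * x * (h : M)⁻¹ := by rw [h1]
        _ = ((k : M) * (h : M)⁻¹) * x := by group
    by_contra hne
    have h3 : (k : M) * (h : M)⁻¹ ≠ 1 := by
      intro h4
      rw [mul_inv_eq_one] at h4
      exact hne (Subtype.ext h4.symm)
    exact hcon _ (H.mul_mem k.2 (H.inv_mem h.2)) h3 h2
  have hsurj : Function.Surjective f := Finite.injective_iff_surjective.mp hinj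
  obtain ⟨v, hv⟩ := hsurj ⟨u⁻¹, H.inv_mem hu⟩
  have hv' : (v : M)⁻¹ * (x * v * x⁻¹) = u⁻¹ := congrArg Subtype.val hv
  have e1 : (v : M)⁻¹ * x * v = u⁻¹ * x := by
    calc (v : M)⁻¹ * x * v = ((v : M)⁻¹ * (x * v * x⁻¹)) * x := by group
      _ = u⁻¹ * x := by rw [hv']
  have e2 : u⁻¹ * x * c = c * (u⁻¹ * x) := by
    calc u⁻¹ * x * c = u⁻¹ * (x * c * x⁻¹) * x := by group
      _ = u⁻¹ * (u * c * u⁻¹) * x := by rw [hfix]
      _ = c * (u⁻¹ * x) := by group
  refine hcon ((v : M) * c * (v : M)⁻¹) (hN.conj_mem c hc v) ?_ ?_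
  · intro h
    apply hc1
    have : c = (v : M)⁻¹ * ((v : M) * c * (v : M)⁻¹) * v := by group
    rw [this, h]; group
  · calc x * ((v : M) * c * (v : M)⁻¹) = v * (((v : M)⁻¹ * x * v) * c) * (v : M)⁻¹ := by group
      _ = v * (u⁻¹ * x * c) * (v : M)⁻¹ := by rw [e1]
      _ = v * (c * (u⁻¹ * x)) * (v : M)⁻¹ := by rw [e2]
      _ = v * (c * ((v : M)⁻¹ * x * v)) * (v : M)⁻¹ := by rw [e1]
      _ = (v : M) * c * (v : M)⁻¹ * x := by group

/-- Let H be a normal subgroup of the finite group M whose order is coprime to its index. For x ∈ M: some non-principal irreducible character of H is unchanged under h ↦ θ(x h x⁻¹) if and only if some non-identity element of H commutes with x. -/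
theorem result {M : Type*} [Group M] [Finite M] (H : Subgroup M) [hN : H.Normal] (hHall : Nat.Coprime (Nat.card H) H.index) (x : M) : (∃ θ : H → ℂ, Cfsg.IsIrrCharacter H θ ∧ θ ≠ (fun _ => 1) ∧ (fun h : H => θ ⟨x * h * x⁻¹, hN.conj_mem h h.2 x⟩) = θ) ↔ ∃ h ∈ H, h ≠ 1 ∧ x * h = h * x := by
  classical
  letI : Fintype H := Fintype.ofFinite H
  have hα : ∀ h : H, (((MulAut.conjNormal x : MulAut H) h : H) : M) = x * h * x⁻¹ :=
    fun h => MulAut.conjNormal_apply x h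
  have hB := Cfsg.Agent.S0173.result (MulAut.conjNormal x : H ≃* H)
  have hfixiff : ∀ θ : H → ℂ, ((fun h : H => θ ⟨x * h * x⁻¹, hN.conj_mem h h.2 x⟩) = θ) ↔
      (θ ∘ (MulAut.conjNormal x : H ≃* H) = θ) := by
    intro θ
    have : (fun h : H => θ ⟨x * h * x⁻¹, hN.conj_mem h h.2 x⟩) =
        θ ∘ (MulAut.conjNormal x : H ≃* H) := by
      ext h
      simp only [Function.comp]
      exact congrArg θ (Subtype.ext (hα h).symm)
    rw [this]
  constructor
  · rintro ⟨θ, hθ, hθ1, hθfix⟩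
    have h2 : 1 < Nat.card {χ : IrrCharacter H //
        (χ : H → ℂ) ∘ (MulAut.conjNormal x : H ≃* H) = (χ : H → ℂ)} := by
      rw [Finite.one_lt_card_iff_nontrivial]
      refine ⟨⟨⟨⟨θ, hθ⟩, (hfixiff θ).mp hθfix⟩, ⟨⟨fun _ => 1, isIrrCharacter_one⟩, rfl⟩, ?_⟩⟩
      intro h
      apply hθ1
      exact congrArg (fun z => (z.1.1 : H → ℂ)) h
    rw [← hB, Finite.one_lt_card_iff_nontrivial] at h2
    obtain ⟨C₁, C₂, hne⟩ := h2
    obtain ⟨C, hC1⟩ : ∃ C : {C : ConjClasses H //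
        ConjClasses.map (MulAut.conjNormal x : H ≃* H).toMonoidHom C = C},
        C.1 ≠ ConjClasses.mk 1 := by
      by_cases h : C₁.1 = ConjClasses.mk 1
      · exact ⟨C₂, fun h' => hne (Subtype.ext (h.trans h'.symm))⟩
      · exact ⟨C₁, h⟩
    obtain ⟨c, hc⟩ := ConjClasses.exists_rep C.1
    have hfix := C.2
    rw [← hc] at hfix
    have hfix' : IsConj ((MulAut.conjNormal x : H ≃* H) c) c :=
      ConjClasses.mk_eq_mk_iff_isConj.mp hfix
    obtain ⟨w, hw⟩ := isConj_iff.mp hfix'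
    have hw' : (w : M) * (x * c * x⁻¹) * (w : M)⁻¹ = c := by
      have := congrArg Subtype.val hw
      simpa [hα] using this
    have hc1 : (c : M) ≠ 1 := by
      intro h
      apply hC1
      rw [← hc]
      congr 1
      exact Subtype.ext h
    refine exists_commute_of_fixed_class H x c c.2 hc1 (w : M)⁻¹ (H.inv_mem w.2) ?_
    calc x * c * x⁻¹ = (w : M)⁻¹ * ((w : M) * (x * c * x⁻¹) * (w : M)⁻¹) * w := by group
      _ = (w : M)⁻¹ * c * ((w : M)⁻¹)⁻¹ := by rw [hw', inv_inv]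
  · rintro ⟨h, hh, hh1, hcomm⟩
    have hfixh : (MulAut.conjNormal x : H ≃* H) ⟨h, hh⟩ = ⟨h, hh⟩ := by
      apply Subtype.ext
      rw [hα]
      show x * h * x⁻¹ = h
      rw [hcomm]; group
    have h2 : 1 < Nat.card {C : ConjClasses H //
        ConjClasses.map (MulAut.conjNormal x : H ≃* H).toMonoidHom C = C} := by
      rw [Finite.one_lt_card_iff_nontrivial]
      refine ⟨⟨⟨ConjClasses.mk 1, ?_⟩, ⟨ConjClasses.mk ⟨h, hh⟩, ?_⟩, ?_⟩⟩
      · show ConjClasses.mk ((MulAut.conjNormal x : H ≃* H) 1) = ConjClasses.mk 1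
        rw [map_one]
      · show ConjClasses.mk ((MulAut.conjNormal x : H ≃* H) ⟨h, hh⟩) = ConjClasses.mk ⟨h, hh⟩
        rw [hfixh]
      · intro h3
        have h4 : ConjClasses.mk (1 : H) = ConjClasses.mk ⟨h, hh⟩ := congrArg Subtype.val h3
        rw [ConjClasses.mk_eq_mk_iff_isConj, isConj_one_right] at h4
        exact hh1 (congrArg Subtype.val h4)
    rw [hB, Finite.one_lt_card_iff_nontrivial] at h2
    obtain ⟨χ₁, χ₂, hne⟩ := h2
    by_cases h : (χ₁.1.1 : H → ℂ) = fun _ => 1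
    · refine ⟨χ₂.1.1, χ₂.1.2, ?_, (hfixiff _).mpr χ₂.2⟩
      intro h'
      exact hne (Subtype.ext (Subtype.ext (h.trans h'.symm)))
    · exact ⟨χ₁.1.1, χ₁.1.2, h, (hfixiff _).mpr χ₁.2⟩

end Cfsg.Agent.S1536
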