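import Mathlib
import Cfsg.Statements.S1546

set_option autoImplicit false
open Cfsg

namespace Cfsg.Agent.S1546

lemma geom_modEq (p m : ℕ) (h : p ≡ 1 [MOD m]) (n : ℕ) :
    ∑ i ∈ Finset.range n, p ^ i ≡ n [MOD m] := by
  induction n with
  | zero => simp only [Finset.range_zero, Finset.sum_empty]; rfl
  | succ n ih =>
    rw [Finset.sum_range_succ]
    exact ih.add (by simpa using h.pow n)

lemma mod_eq_one_of_dvd_sub_one (q r : ℕ) (hq : 1 < q) (hr : 1 ≤ r) (h : q ∣ r - 1) : r % q = 1 := by
  obtain ⟨k, hk⟩ := h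
  have : r = q * k + 1 := by omega
  rw [this, Nat.mul_add_mod, Nat.mod_eq_of_lt hq]

theorem result (p q : ℕ) (hp : p.Prime) (hq : q.Prime) (hp2 : p ≠ 2) (hq2 : q ≠ 2) : Odd ((p ^ q - 1) / (p - 1)) ∧ (p % q = 1 → q ∣ (p ^ q - 1) / (p - 1)) ∧ (p % q ≠ 1 → Nat.Coprime ((p ^ q - 1) / (p - 1)) (p - 1) ∧ ∀ x : ℕ, x ∣ (p ^ q - 1) / (p - 1) → x % q = 1) := by
  have hp2' := hp.two_le
  have hq2' := hq.two_le
  have hN : (p ^ q - 1) / (p - 1) = ∑ i ∈ Finset.range q, p ^ i := (Nat.geomSum_eq hp2' q).symm
  rw [hN]
  set N := ∑ i ∈ Finset.range q, p ^ i with hNdef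
  have hmul : N * (p - 1) + 1 = p ^ q := by
    have := geom_sum_mul_add (p - 1) q
    have h1 : p - 1 + 1 = p := by omega
    rw [h1] at this
    exact this
  have hpodd : p % 2 = 1 := by
    rcases hp.eq_two_or_odd with h | h
    · exact absurd h hp2
    · exact h
  have hqodd : q % 2 = 1 := by
    rcases hq.eq_two_or_odd with h | h
    · exact absurd h hq2
    · exact h
  refine ⟨?_, ?_, ?_⟩
  · rw [Nat.odd_iff]
    have h1 : p ≡ 1 [MOD 2] := hpodd
    have h2 := geom_modEq p 2 h1 q
    have h3 : N % 2 = q % 2 := h2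
    rw [h3, hqodd]
  · intro hpq
    have h1 : p ≡ 1 [MOD q] := by
      show p % q = 1 % q
      rw [hpq, Nat.mod_eq_of_lt hq.one_lt]
    have h2 := geom_modEq p q h1 q
    have h3 : N ≡ 0 [MOD q] := h2.trans (by show q % q = 0 % q; simp)
    exact (Nat.modEq_zero_iff_dvd).mp h3
  · intro hpq
    have h1 : p ≡ 1 [MOD (p - 1)] := by
      apply Nat.ModEq.symm
      rw [Nat.modEq_iff_dvd' (by omega : 1 ≤ p)]
    have h2 := geom_modEq p (p - 1) h1 q
    have hcop : Nat.Coprime N (p - 1) := by
      set d := Nat.gcd N (p - 1) with hd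
      have hdN : d ∣ N := Nat.gcd_dvd_left _ _
      have hdp : d ∣ p - 1 := Nat.gcd_dvd_right _ _
      have h3 : N ≡ q [MOD d] := h2.of_dvd hdp
      have h4 : N ≡ 0 [MOD d] := (Nat.modEq_zero_iff_dvd).mpr hdN
      have h5 : q ≡ 0 [MOD d] := h3.symm.trans h4
      have h6 : d ∣ q := (Nat.modEq_zero_iff_dvd).mp h5
      rcases (Nat.dvd_prime hq).mp h6 with h | h
      · exact h
      · exfalso
        apply hpq
        apply mod_eq_one_of_dvd_sub_one q p hq.one_lt (by omega)
        rw [← h]; exact hdp
    refine ⟨hcop, ?_⟩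
    -- prime divisors
    have hprime : ∀ r : ℕ, r.Prime → r ∣ N → r % q = 1 := by
      intro r hr hrN
      haveI : Fact r.Prime := ⟨hr⟩
      have hrp : ¬ r ∣ p - 1 := by
        intro h
        have := Nat.dvd_gcd hrN h
        rw [hcop] at this
        exact hr.one_lt.ne' (Nat.dvd_one.mp this)
      have hpow : ((p : ZMod r)) ^ q = 1 := by
        have h3 : ((N * (p - 1) + 1 : ℕ) : ZMod r) = ((p ^ q : ℕ) : ZMod r) := by rw [hmul]
        have h4 : ((N : ℕ) : ZMod r) = 0 := (ZMod.natCast_eq_zero_iff N r).mpr hrN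
        push_cast at h3
        rw [h4] at h3
        simpa using h3.symm
      have hne1 : (p : ZMod r) ≠ 1 := by
        intro h
        apply hrp
        have h3 : ((p - 1 : ℕ) : ZMod r) = 0 := by
          rw [Nat.cast_sub (by omega : 1 ≤ p), h]; simp
        exact (ZMod.natCast_eq_zero_iff (p - 1) r).mp h3
      have hne0 : (p : ZMod r) ≠ 0 := by
        intro h
        rw [h, zero_pow hq.ne_zero] at hpow
        exact zero_ne_one hpow
      have hord : orderOf (p : ZMod r) ∣ q := orderOf_dvd_of_pow_eq_one hpow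
      have hord' : orderOf (p : ZMod r) = q := by
        rcases (Nat.dvd_prime hq).mp hord with h | h
        · exfalso
          rw [orderOf_eq_one_iff] at h
          exact hne1 h
        · exact h
      have h5 : q ∣ r - 1 := by
        rw [← hord']
        exact ZMod.orderOf_dvd_card_sub_one hne0
      exact mod_eq_one_of_dvd_sub_one q r hq.one_lt hr.one_le h5
    intro x
    induction x using Nat.strong_induction_on with
    | _ x ih =>
      intro hx
      by_cases hx1 : x = 1
      · rw [hx1, Nat.mod_eq_of_lt hq.one_lt]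
      · have hx0 : x ≠ 0 := by
          intro h
          rw [h] at hx
          have hNpos : 0 < N := by
            rw [hNdef]
            apply Finset.sum_pos
            · intro i _
              exact pow_pos hp.pos i
            · exact ⟨0, Finset.mem_range.mpr hq.pos⟩
          have := Nat.eq_zero_of_zero_dvd hx
          omega
        set r := x.minFac with hr
        have hrp : r.Prime := Nat.minFac_prime hx1
        have hrx : r ∣ x := Nat.minFac_dvd x
        obtain ⟨y, hy⟩ := hrx
        have hylt : y < x := by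
          rw [hy]
          have hypos : 0 < y := by
            rcases Nat.eq_zero_or_pos y with h | h
            · rw [h] at hy; simp at hy; exact absurd hy hx0
            · exact h
          nlinarith [hrp.two_le]
        have hyN : y ∣ N := (Dvd.intro_left r hy.symm).trans hx
        have h1 := ih y hylt hyN
        have h2 := hprime r hrp ((Dvd.intro y hy.symm).trans hx)
        rw [hy, Nat.mul_mod, h1, h2]
        simp [Nat.mod_eq_of_lt hq.one_lt]

end Cfsg.Agent.S1546
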