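import Cfsg.Statements.S1551
import Mathlib
import Cfsg.Agent.Lib.Helper1_SextetStab
import Cfsg.Agent.Lib.Helper1_SextetKernelData

set_option autoImplicit false
open Cfsg
open scoped Pointwise
open Cfsg.Agent.Lib.Helper1_Chain Cfsg.Agent.Lib.Helper1_Golay

namespace Cfsg.Agent.S1551

/-- the underlying permutation of an element of the stabilizer -/
abbrev perm {S : Finset (Finset GolayPt)} (g : ↥(MulAction.stabilizer M24 S)) :
    Equiv.Perm GolayPt := ((g : ↥M24) : Equiv.Perm GolayPt)

theorem perm_smul {S : Finset (Finset GolayPt)} (g : ↥(MulAction.stabilizer M24 S)) :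
    perm g • S = S := g.2

theorem perm_mul {S : Finset (Finset GolayPt)} (g h : ↥(MulAction.stabilizer M24 S)) :
    perm (g * h) = perm g * perm h := rfl

theorem perm_inv {S : Finset (Finset GolayPt)} (g : ↥(MulAction.stabilizer M24 S)) :
    perm g⁻¹ = (perm g)⁻¹ := rfl

theorem perm_one {S : Finset (Finset GolayPt)} :
    perm (1 : ↥(MulAction.stabilizer M24 S)) = 1 := rfl

theorem smul_mem_of_stab {S : Finset (Finset GolayPt)} {σ : Equiv.Perm GolayPt} (h : σ • S = S)
    {t : Finset GolayPt} (ht : t ∈ S) : σ • t ∈ S := by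
  have := Finset.smul_mem_smul_finset (a := σ) ht
  rwa [h] at this

theorem card_list_subtype {α : Type*} [DecidableEq α] (l : List α) (h : l.Nodup) :
    Nat.card {t // t ∈ l} = l.length := by
  rw [Nat.card_eq_fintype_card, Fintype.card_of_subtype l.toFinset (fun x => List.mem_toFinset),
    List.toFinset_card_of_nodup h]

theorem inv_stab {S : Finset (Finset GolayPt)} {σ : Equiv.Perm GolayPt} (h : σ • S = S) :
    σ⁻¹ • S = S := by
  conv_lhs => rw [← h]
  rw [inv_smul_smul]

/-- the action on the tetrads -/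
def φ (S : Finset (Finset GolayPt)) : ↥(MulAction.stabilizer M24 S) →* Equiv.Perm ↥S :=
  MonoidHom.mk' (fun g =>
    { toFun := fun t => ⟨perm g • t.1, smul_mem_of_stab (perm_smul g) t.2⟩
      invFun := fun t => ⟨(perm g)⁻¹ • t.1, smul_mem_of_stab (inv_stab (perm_smul g)) t.2⟩
      left_inv := fun t => Subtype.ext (inv_smul_smul _ _)
      right_inv := fun t => Subtype.ext (smul_inv_smul _ _) }) (by
    intro g h
    apply Equiv.ext
    intro t
    apply Subtype.ext
    show (perm (g * h) • t.1 : Finset GolayPt) = perm g • (perm h • t.1)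
    rw [perm_mul, mul_smul])

theorem φ_apply {S : Finset (Finset GolayPt)} (g : ↥(MulAction.stabilizer M24 S)) (t : ↥S) :
    ((φ S g t : ↥S) : Finset GolayPt) = perm g • (t : Finset GolayPt) := rfl

theorem φ_surjective {S : Finset (Finset GolayPt)} (hS : S ∈ sextets) :
    Function.Surjective (φ S) := by
  classical
  have hrange : (φ S).range = ⊤ := by
    rw [eq_top_iff, ← Equiv.Perm.closure_isSwap, Subgroup.closure_le]
    rintro e ⟨x, y, hxy, rfl⟩
    obtain ⟨g, hg, hgS, hgx, hgy, hgv⟩ := swap_general hS x.2 y.2 (fun h => hxy (Subtype.ext h))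
    refine ⟨⟨⟨g, hg⟩, hgS⟩, ?_⟩
    apply Equiv.ext
    intro v
    apply Subtype.ext
    rw [φ_apply]
    show g • (v : Finset GolayPt) = _
    by_cases hvx : v = x
    · subst hvx; rw [Equiv.swap_apply_left, hgx]
    · by_cases hvy : v = y
      · subst hvy; rw [Equiv.swap_apply_right, hgy]
      · rw [Equiv.swap_apply_of_ne_of_ne hvx hvy]
        exact hgv v.1 v.2 (fun h => hvx (Subtype.ext h)) (fun h => hvy (Subtype.ext h))
  intro e
  have : e ∈ (φ S).range := by rw [hrange]; trivial
  exact this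

theorem mem_ker_iff {S : Finset (Finset GolayPt)} (g : ↥(MulAction.stabilizer M24 S)) :
    g ∈ (φ S).ker ↔ ∀ t ∈ S, perm g • t = t := by
  rw [MonoidHom.mem_ker]
  constructor
  · intro h t ht
    have := congrArg (fun e : Equiv.Perm ↥S => ((e ⟨t, ht⟩ : ↥S) : Finset GolayPt)) h
    exact this
  · intro h
    apply Equiv.ext
    intro t
    apply Subtype.ext
    rw [φ_apply]
    exact h t.1 t.2

theorem card_ker {S : Finset (Finset GolayPt)} (hS : S ∈ sextets) :
    Nat.card (φ S).ker = 192 := by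
  classical
  have h1 := Subgroup.card_eq_card_quotient_mul_card_subgroup (φ S).ker
  have h2 : Nat.card (↥(MulAction.stabilizer M24 S) ⧸ (φ S).ker) = 720 := by
    rw [Nat.card_congr (QuotientGroup.quotientKerEquivOfSurjective (φ S) (φ_surjective hS)).toEquiv,
      Nat.card_perm]
    have : Nat.card ↥S = 6 := by
      rw [Nat.card_eq_fintype_card, Fintype.card_coe, hS.1]
    rw [this]; rfl
  rw [card_stabilizer_sextet hS, h2] at h1
  omega

/-! ### the normal subgroup of order 64 of the standard sextet group -/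

/-- the permutations fixing every tetrad of the standard sextet -/
def K0 : Set (Equiv.Perm GolayPt) := {σ | σ ∈ M24 ∧ ∀ t ∈ S0, σ • t = t}

theorem stab_of_fix {S : Finset (Finset GolayPt)} {σ : Equiv.Perm GolayPt}
    (h : ∀ t ∈ S, σ • t = t) : σ • S = S := by
  ext v
  constructor
  · intro hv
    obtain ⟨t, ht, rfl⟩ := Finset.mem_smul_finset.1 hv
    show σ • t ∈ S
    rw [h t ht]; exact ht
  · intro hv
    rw [← h v hv]
    exact Finset.smul_mem_smul_finset hv

theorem card_K0 : Nat.card ↥K0 = 192 := by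
  rw [← card_ker S0_mem_sextets]
  apply Nat.card_congr
  refine ⟨fun σ => ⟨⟨⟨σ.1, σ.2.1⟩, stab_of_fix σ.2.2⟩, (mem_ker_iff _).2 σ.2.2⟩,
    fun g => ⟨perm g.1, g.1.1.2, (mem_ker_iff _).1 g.2⟩, ?_, ?_⟩
  · intro σ; rfl
  · intro g; rfl

theorem table_mem_K0 {t : List ℕ} (ht : t ∈ KL) : ∃ σ ∈ K0, ∀ p, σ p = tfun t p := by
  obtain ⟨σ, hσ, hσt⟩ := exists_perm_of_good (KL_good t ht)
  refine ⟨σ, ⟨hσ, ?_⟩, hσt⟩
  intro v hv
  rw [mem_S0_iff] at hv
  obtain ⟨m, hm, rfl⟩ := hv
  exact smul_maskSet_of_table hσt (KL_fix t ht m hm)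

theorem K0_eq_table {σ : Equiv.Perm GolayPt} (hσ : σ ∈ K0) : ∃ t ∈ KL, ∀ p, σ p = tfun t p := by
  classical
  choose f hf hft using fun (t : {t // t ∈ KL}) => table_mem_K0 t.2
  let F : {t // t ∈ KL} → ↥K0 := fun t => ⟨f t, hf t⟩
  have hinj : Function.Injective F := by
    intro t u htu
    apply Subtype.ext
    apply KL_inj t.1 t.2 u.1 u.2
    intro p
    have : f t = f u := congrArg Subtype.val htu
    rw [← hft t p, ← hft u p, this]
  have hcard : Nat.card ↥K0 ≤ Nat.card {t // t ∈ KL} := by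
    rw [card_K0, card_list_subtype KL KL_nodup, KL_length]
  haveI : Finite ↥K0 := Nat.finite_of_card_ne_zero (by rw [card_K0]; decide)
  have hbij := Function.Injective.bijective_of_nat_card_le hinj hcard
  obtain ⟨t, ht⟩ := hbij.2 ⟨σ, hσ⟩
  refine ⟨t.1, t.2, fun p => ?_⟩
  have : f t = σ := congrArg Subtype.val ht
  rw [← this, hft t p]

/-- the normal subgroup of order 64 -/
def N0 : Subgroup ↥(MulAction.stabilizer M24 S0) where
  carrier := {x | (∀ t ∈ S0, perm x • t = t) ∧ x * x = 1}
  one_mem' := ⟨fun t _ => one_smul _ t, one_mul 1⟩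
  mul_mem' := by
    rintro x y ⟨hx, hx2⟩ ⟨hy, hy2⟩
    refine ⟨fun t ht => ?_, ?_⟩
    · rw [perm_mul, mul_smul, hy t ht, hx t ht]
    · obtain ⟨tx, htx, hxt⟩ := K0_eq_table (σ := perm x) ⟨x.1.2, hx⟩
      obtain ⟨ty, hty, hyt⟩ := K0_eq_table (σ := perm y) ⟨y.1.2, hy⟩
      have hix : Invol tx := by
        intro p
        rw [← hxt, ← hxt]
        have := congrArg (fun z : ↥(MulAction.stabilizer M24 S0) => perm z p) hx2
        exact this
      have hiy : Invol ty := by
        intro p
        rw [← hyt, ← hyt]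
        have := congrArg (fun z : ↥(MulAction.stabilizer M24 S0) => perm z p) hy2
        exact this
      apply Subtype.ext
      apply Subtype.ext
      apply Equiv.ext
      intro p
      show perm x (perm y (perm x (perm y p))) = p
      rw [hyt, hxt, hyt, hxt]
      exact KL_invol_mul tx htx ty hty hix hiy p
  inv_mem' := by
    rintro x ⟨hx, hx2⟩
    refine ⟨fun t ht => ?_, ?_⟩
    · rw [perm_inv]
      conv_lhs => rw [← hx t ht]
      rw [inv_smul_smul]
    · rw [← mul_inv_rev, hx2, inv_one]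

theorem N0_normal : N0.Normal := by
  constructor
  intro n hn g
  obtain ⟨hfix, h2⟩ := hn
  refine ⟨fun t ht => ?_, ?_⟩
  · have hg : (perm g)⁻¹ • t ∈ S0 := smul_mem_of_stab (inv_stab (perm_smul g)) ht
    show (perm g * perm n * (perm g)⁻¹) • t = t
    rw [mul_smul, mul_smul, hfix _ hg, smul_inv_smul]
  · calc g * n * g⁻¹ * (g * n * g⁻¹) = g * (n * n) * g⁻¹ := by group
      _ = 1 := by rw [h2]; group

theorem card_N0 : Nat.card N0 = 64 := by
  classical
  rw [← KL_invol_count]
  have hnd : (KL.filter Invol).Nodup := KL_nodup.filter _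
  have hlen : Nat.card {t // t ∈ KL.filter Invol} = (KL.filter Invol).length :=
    card_list_subtype _ hnd
  rw [← hlen]
  -- from tables to elements
  have hex : ∀ t : {t // t ∈ KL.filter Invol}, ∃ x : ↥N0, ∀ p, perm x.1 p = tfun t.1 p := by
    intro t
    have ht := List.mem_filter.1 t.2
    obtain ⟨σ, hσ, hσt⟩ := table_mem_K0 ht.1
    have hinv : Invol t.1 := by simpa using ht.2
    refine ⟨⟨⟨⟨σ, hσ.1⟩, stab_of_fix hσ.2⟩, hσ.2, ?_⟩, hσt⟩
    apply Subtype.ext
    apply Subtype.ext
    apply Equiv.ext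
    intro p
    show σ (σ p) = p
    rw [hσt, hσt]; exact hinv p
  choose F hF using hex
  have hFinj : Function.Injective F := by
    intro t u htu
    apply Subtype.ext
    apply KL_inj t.1 (List.mem_filter.1 t.2).1 u.1 (List.mem_filter.1 u.2).1
    intro p
    rw [← hF t p, ← hF u p, htu]
  -- from elements to tables
  have hex' : ∀ x : ↥N0, ∃ t : {t // t ∈ KL.filter Invol}, ∀ p, perm x.1 p = tfun t.1 p := by
    intro x
    obtain ⟨t, ht, hxt⟩ := K0_eq_table (σ := perm x.1) ⟨x.1.1.2, x.2.1⟩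
    have hinv : Invol t := by
      intro p
      rw [← hxt, ← hxt]
      have := congrArg (fun z : ↥(MulAction.stabilizer M24 S0) => perm z p) x.2.2
      exact this
    exact ⟨⟨t, List.mem_filter.2 ⟨ht, by simpa using hinv⟩⟩, hxt⟩
  choose G hG using hex'
  have hGinj : Function.Injective G := by
    intro x y hxy
    apply Subtype.ext
    apply Subtype.ext
    apply Subtype.ext
    apply Equiv.ext
    intro p
    show perm x.1 p = perm y.1 p
    rw [hG x p, hG y p, hxy]
  haveI : Finite ↥(MulAction.stabilizer M24 S0) :=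
    Nat.finite_of_card_ne_zero (by rw [card_stabilizer_sextet S0_mem_sextets]; decide)
  exact le_antisymm (Nat.card_le_card_of_injective G hGinj) (Nat.card_le_card_of_injective F hFinj)

/-- Structure of a sextet stabiliser: it induces every permutation of the six tetrads, the subgroup fixing each tetrad setwise has order 192, and there is a normal subgroup of order 64 consisting of elements squaring to the identity. -/
theorem result (S : Finset (Finset Cfsg.GolayPt)) (hS : S ∈ Cfsg.sextets) : (∀ e : Equiv.Perm ↥S, ∃ g ∈ MulAction.stabilizer Cfsg.M24 S, ∀ t : ↥S, (g : Equiv.Perm Cfsg.GolayPt) • (t : Finset Cfsg.GolayPt) = ((e t : ↥S) : Finset Cfsg.GolayPt)) ∧ Nat.card {g : ↥(MulAction.stabilizer Cfsg.M24 S) // ∀ t ∈ S, ((g : Cfsg.M24) : Equiv.Perm Cfsg.GolayPt) • t = t} = 192 ∧ ∃ N : Subgroup ↥(MulAction.stabilizer Cfsg.M24 S), N.Normal ∧ Nat.card N = 64 ∧ ∀ x ∈ N, x * x = 1 := by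
  refine ⟨?_, ?_, ?_⟩
  · intro e
    obtain ⟨g, hg⟩ := φ_surjective hS e
    refine ⟨g.1, g.2, fun t => ?_⟩
    rw [← hg]
    rfl
  · rw [← card_ker hS]
    apply Nat.card_congr
    exact Equiv.subtypeEquivRight (fun g => (mem_ker_iff g).symm)
  · obtain ⟨g, hg, hgS⟩ := sextet_trans S0_mem_sextets hS
    have hgS' : S = (⟨g, hg⟩ : ↥M24) • S0 := hgS.symm
    let Φ : ↥(MulAction.stabilizer M24 S0) ≃* ↥(MulAction.stabilizer M24 S) :=
      MulAction.stabilizerEquivStabilizer hgS'
    refine ⟨N0.map Φ.toMonoidHom, ?_, ?_, ?_⟩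
    · exact Subgroup.Normal.map N0_normal Φ.toMonoidHom Φ.surjective
    · rw [← card_N0]
      exact (Nat.card_congr (Subgroup.equivMapOfInjective N0 Φ.toMonoidHom Φ.injective).toEquiv).symm
    · rintro x ⟨n, hn, rfl⟩
      have : n * n = 1 := hn.2
      show Φ n * Φ n = 1
      rw [← map_mul, this, map_one]

end Cfsg.Agent.S1551
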