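import Cfsg.Statements.S1553
import Mathlib
import Cfsg.Agent.Lib.Helper1_Octads2
import Cfsg.Agent.Lib.Helper1_M24d
import Cfsg.Agent.Lib.Helper1_Maximal
import Cfsg.Agent.Lib.Helper1_Restrict

set_option autoImplicit false
open Cfsg
open scoped Pointwise
open Cfsg.Agent.Lib.Helper1_Chain Cfsg.Agent.Lib.Helper1_Golay Cfsg.Agent.Lib.Helper1_Maximal
open Cfsg.Agent.Lib.Helper1_Restrict

namespace Cfsg.Agent.S1553

theorem orbit_eq {o : Finset GolayPt} (ho : o ∈ octads) :
    MulAction.orbit M24 o = octads := by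
  ext y
  constructor
  · rintro ⟨g, rfl⟩
    exact smul_mem_octads g.2 ho
  · intro hy
    obtain ⟨g, hg, hgy⟩ := M24_octad_transitive ho hy
    exact ⟨⟨g, hg⟩, hgy⟩

theorem card_stab {o : Finset GolayPt} (ho : o ∈ octads) :
    Nat.card (MulAction.stabilizer M24 o) = 322560 := by
  have h := card_eq_orbit_mul_stabilizer (G := M24) o ⊤ le_top
  rw [orbit_top_eq, orbit_eq ho, ncard_octads] at h
  have h2 : Nat.card (⊤ : Subgroup M24) = 244823040 := by
    rw [Subgroup.card_top]; exact card_M24
  rw [h2] at h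
  omega

theorem card_range {o : Finset GolayPt} (ho : o ∈ octads) :
    Nat.card (restrictHom M24 o).range = 20160 := by
  have h := card_range_restrictHom M24 o
  rw [card_stab ho, (octad_pointwise_stabilizer ho).1] at h
  omega

/-- statement -/
theorem result (o : Finset Cfsg.GolayPt) (ho : o ∈ Cfsg.octads) : {e : Equiv.Perm ↥o | ∃ g : Equiv.Perm Cfsg.GolayPt, g ∈ Cfsg.M24 ∧ ∃ h : (∀ x, g x ∈ o ↔ x ∈ o), g.subtypePerm h = e} = (alternatingGroup ↥o : Set (Equiv.Perm ↥o)) := by
  have hidx : (restrictHom M24 o).range.index = 2 := by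
    have h := Subgroup.card_mul_index (restrictHom M24 o).range
    rw [card_range ho, Nat.card_eq_fintype_card, Fintype.card_perm, Fintype.card_coe, ho.2] at h
    have : (8 : ℕ).factorial = 40320 := by decide
    rw [this] at h
    omega
  rw [← Equiv.Perm.eq_alternatingGroup_of_index_eq_two hidx]
  ext e
  exact (mem_range_restrictHom M24 o e).symm

end Cfsg.Agent.S1553
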