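import Cfsg.Statements.S1554
import Mathlib
import Cfsg.Agent.Lib.Helper1_Octads2
import Cfsg.Agent.Lib.Helper1_M24d
import Cfsg.Agent.Lib.Helper1_Restrict
import Cfsg.Agent.S1553

set_option autoImplicit false
open Cfsg
open scoped Pointwise
open Cfsg.Agent.Lib.Helper1_Chain Cfsg.Agent.Lib.Helper1_Golay
open Cfsg.Agent.Lib.Helper1_Restrict

namespace Cfsg.Agent.S1554

theorem smul_eq_of_fix {t : Equiv.Perm GolayPt} {s : Finset GolayPt} (h : ∀ b ∈ s, t b = b) :
    t • s = s := by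
  apply smul_eq_of_mem_iff
  intro x
  constructor
  · intro hx
    have h2 : t (t x) = t x := h (t x) hx
    have h3 := t.injective h2
    rw [← h3]; exact hx
  · intro hx
    rw [h x hx]; exact hx

theorem exists_std_octad_point {o : Finset GolayPt} (ho : o ∈ octads) {p : GolayPt} (hp : p ∉ o) :
    ∃ k ∈ M24, k • maskSet Omask = o ∧ k (bpt 5) = p := by
  obtain ⟨k, hk, hko⟩ := M24_octad_transitive (maskSet_mem_octads Omask_isOctad) ho
  have hp' : k⁻¹ p ∈ Tset 5 := by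
    rw [Tset5_eq, Finset.mem_compl]
    intro h
    apply hp
    rw [← hko]
    have := Finset.smul_mem_smul_finset (a := k) h
    simpa using this
  obtain ⟨t, ht, htp⟩ := pstabO_h2 _ hp'
  refine ⟨k * t, M24.mul_mem hk ht.1, ?_, ?_⟩
  · rw [mul_smul, smul_eq_of_fix ht.2, hko]
  · rw [Equiv.Perm.mul_apply, htp]; simp

/-- the pointwise stabilizer of an octad is transitive on the complement -/
theorem exists_pstab_map {o : Finset GolayPt} (ho : o ∈ octads) {y y' : GolayPt} (hy : y ∉ o)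
    (hy' : y' ∉ o) : ∃ t ∈ pstab M24 o, t y = y' := by
  obtain ⟨k, hk, hko, hky⟩ := exists_std_octad_point ho hy
  have hp' : k⁻¹ y' ∈ Tset 5 := by
    rw [Tset5_eq, Finset.mem_compl]
    intro h
    apply hy'
    rw [← hko]
    have := Finset.smul_mem_smul_finset (a := k) h
    simpa using this
  obtain ⟨t, ht, htp⟩ := pstabO_h2 _ hp'
  refine ⟨k * t * k⁻¹, ⟨M24.mul_mem (M24.mul_mem hk ht.1) (M24.inv_mem hk), ?_⟩, ?_⟩
  · intro b hb
    have hb' : k⁻¹ b ∈ maskSet Omask := by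
      rw [← hko] at hb
      rw [← Finset.inv_smul_mem_iff] at hb
      exact hb
    rw [Equiv.Perm.mul_apply, Equiv.Perm.mul_apply, ht.2 _ hb']
    simp
  · rw [Equiv.Perm.mul_apply, Equiv.Perm.mul_apply, ← hky,
      show k⁻¹ (k (bpt 5)) = bpt 5 by simp, htp]
    simp

theorem pstab_insert_eq_bot {o : Finset GolayPt} (ho : o ∈ octads) {p : GolayPt} (hp : p ∉ o) :
    pstab M24 (insert p o) = ⊥ := by
  obtain ⟨k, hk, hko, hkp⟩ := exists_std_octad_point ho hp
  have himg : insert p o = (insert (bpt 5) (maskSet Omask)).image k := by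
    rw [Finset.image_insert, hkp, ← hko]; rfl
  apply Subgroup.eq_bot_of_card_eq
  rw [himg, card_pstab_image M24 _ hk, card_pstabO_insert]

/-- restriction to `o` -/
def resL (o : Finset GolayPt) (p : GolayPt) :
    ↥(M24 ⊓ MulAction.stabilizer (Equiv.Perm GolayPt) o ⊓
      MulAction.stabilizer (Equiv.Perm GolayPt) p) →* Equiv.Perm ↥o :=
  MonoidHom.mk' (fun g => (g.1).subtypePerm
    (mem_iff_of_smul_eq (Subgroup.mem_inf.1 (Subgroup.mem_inf.1 g.2).1).2)) (by
    intro g h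
    ext x
    rfl)

/-- statement -/
theorem result (o : Finset Cfsg.GolayPt) (ho : o ∈ Cfsg.octads) (p : Cfsg.GolayPt) (hp : p ∉ o) : (Cfsg.M24 ⊓ fixingSubgroup (Equiv.Perm Cfsg.GolayPt) (o : Set Cfsg.GolayPt)) ⊓ (Cfsg.M24 ⊓ MulAction.stabilizer (Equiv.Perm Cfsg.GolayPt) o ⊓ MulAction.stabilizer (Equiv.Perm Cfsg.GolayPt) p) = ⊥ ∧ (Cfsg.M24 ⊓ fixingSubgroup (Equiv.Perm Cfsg.GolayPt) (o : Set Cfsg.GolayPt)) ⊔ (Cfsg.M24 ⊓ MulAction.stabilizer (Equiv.Perm Cfsg.GolayPt) o ⊓ MulAction.stabilizer (Equiv.Perm Cfsg.GolayPt) p) = (Cfsg.M24 ⊓ MulAction.stabilizer (Equiv.Perm Cfsg.GolayPt) o) ∧ Nonempty (↥(Cfsg.M24 ⊓ MulAction.stabilizer (Equiv.Perm Cfsg.GolayPt) o ⊓ MulAction.stabilizer (Equiv.Perm Cfsg.GolayPt) p) ≃* alternatingGroup (Fin 8)) := by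
  rw [pstab_eq_inf_fixing]
  have hbot : pstab M24 o ⊓ (M24 ⊓ MulAction.stabilizer (Equiv.Perm GolayPt) o ⊓
      MulAction.stabilizer (Equiv.Perm GolayPt) p) = ⊥ := by
    rw [eq_bot_iff, ← pstab_insert_eq_bot ho hp]
    intro g hg
    obtain ⟨hgK, hgL⟩ := Subgroup.mem_inf.1 hg
    refine ⟨hgK.1, ?_⟩
    intro b hb
    rcases Finset.mem_insert.1 hb with rfl | hb
    · exact (Subgroup.mem_inf.1 hgL).2
    · exact hgK.2 b hb
  -- every element of the stabilizer is a product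
  have hfac : ∀ g ∈ M24 ⊓ MulAction.stabilizer (Equiv.Perm GolayPt) o, ∃ t ∈ pstab M24 o,
      t⁻¹ * g ∈ M24 ⊓ MulAction.stabilizer (Equiv.Perm GolayPt) o ⊓
        MulAction.stabilizer (Equiv.Perm GolayPt) p := by
    intro g hg
    obtain ⟨hgM, hgo⟩ := Subgroup.mem_inf.1 hg
    have hgo' : g • o = o := hgo
    have hgp : g p ∉ o := by
      rw [mem_iff_of_smul_eq hgo']; exact hp
    obtain ⟨t, ht, htp⟩ := exists_pstab_map ho hp hgp
    refine ⟨t, ht, ?_⟩
    refine Subgroup.mem_inf.2 ⟨Subgroup.mem_inf.2 ⟨M24.mul_mem (M24.inv_mem ht.1) hgM, ?_⟩, ?_⟩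
    · show (t⁻¹ * g) • o = o
      rw [mul_smul, hgo', inv_smul_eq_iff, smul_eq_of_fix ht.2]
    · show (t⁻¹ * g) p = p
      rw [Equiv.Perm.mul_apply, ← htp]; simp
  refine ⟨hbot, ?_, ?_⟩
  · apply le_antisymm
    · apply sup_le
      · intro g hg
        exact Subgroup.mem_inf.2 ⟨hg.1, smul_eq_of_fix hg.2⟩
      · exact inf_le_left
    · intro g hg
      obtain ⟨t, ht, htg⟩ := hfac g hg
      have : g = t * (t⁻¹ * g) := by group
      rw [this]
      exact Subgroup.mul_mem_sup ht htg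
  · -- the isomorphism
    have hinj : Function.Injective (resL o p) := by
      rw [injective_iff_map_eq_one]
      intro g hg
      have hgK : g.1 ∈ pstab M24 o := by
        refine ⟨(Subgroup.mem_inf.1 (Subgroup.mem_inf.1 g.2).1).1, ?_⟩
        intro b hb
        have := congrArg (fun e : Equiv.Perm ↥o => ((e ⟨b, hb⟩ : ↥o) : GolayPt)) hg
        exact this
      have : g.1 ∈ (⊥ : Subgroup (Equiv.Perm GolayPt)) := by
        rw [← hbot]; exact Subgroup.mem_inf.2 ⟨hgK, g.2⟩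
      rw [Subgroup.mem_bot] at this
      exact Subtype.ext this
    have hrange : (resL o p).range = alternatingGroup ↥o := by
      have h1553 := Cfsg.Agent.S1553.result o ho
      apply SetLike.coe_injective
      rw [← h1553]
      ext e
      constructor
      · rintro ⟨g, rfl⟩
        exact ⟨g.1, (Subgroup.mem_inf.1 (Subgroup.mem_inf.1 g.2).1).1,
          mem_iff_of_smul_eq (Subgroup.mem_inf.1 (Subgroup.mem_inf.1 g.2).1).2, rfl⟩
      · rintro ⟨g, hg, h, rfl⟩
        have hgS : g ∈ M24 ⊓ MulAction.stabilizer (Equiv.Perm GolayPt) o :=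
          Subgroup.mem_inf.2 ⟨hg, smul_eq_of_mem_iff h⟩
        obtain ⟨t, ht, htg⟩ := hfac g hgS
        refine ⟨⟨t⁻¹ * g, htg⟩, ?_⟩
        apply Equiv.ext
        intro x
        apply Subtype.ext
        show (t⁻¹ * g) x.1 = g x.1
        rw [Equiv.Perm.mul_apply, Equiv.Perm.inv_eq_iff_eq]
        exact (ht.2 _ ((h x.1).2 x.2)).symm
    have e1 := MonoidHom.ofInjective hinj
    have e2 := MulEquiv.subgroupCongr hrange
    have e3 := Equiv.altCongrHom (Finset.equivFinOfCardEq ho.2)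
    exact ⟨(e1.trans e2).trans e3⟩

end Cfsg.Agent.S1554
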