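import Cfsg.Statements.S1555
import Mathlib
import Cfsg.Agent.Lib.Helper1_Octads2

set_option autoImplicit false
open Cfsg
open scoped Pointwise
open Cfsg.Agent.Lib.Helper1_Chain

namespace Cfsg.Agent.S1555

/-- statement -/
theorem result (o : Finset Cfsg.GolayPt) (ho : o ∈ Cfsg.octads) (s : Finset Cfsg.GolayPt) (hs : s ⊆ o) : (s.card = 2 → {o' : Finset Cfsg.GolayPt | o' ∈ Cfsg.octads ∧ o ∩ o' = s}.ncard = 16) ∧ (s.card = 4 → {o' : Finset Cfsg.GolayPt | o' ∈ Cfsg.octads ∧ o ∩ o' = s}.ncard = 4) := by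
  constructor
  · intro h2
    exact ncard_octads_inter_eq ho hs (k := 2) (by decide) h2
  · intro h4
    exact ncard_octads_inter_eq ho hs (k := 4) (by decide) h4

end Cfsg.Agent.S1555
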