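import Cfsg.Statements.S1559
import Mathlib
import Cfsg.Agent.Lib.Helper1_OrbitCert2
import Cfsg.Agent.Lib.Helper1_OC_T0_trios
import Cfsg.Agent.Lib.Helper1_Trios

set_option autoImplicit false
open Cfsg
open scoped Pointwise
open Cfsg.Agent.Lib.Helper1_Golay Cfsg.Agent.Lib.Helper1_Chain Cfsg.Agent.Lib.Helper1_Cert
open Cfsg.Agent.Lib.Helper1_OC_T0_trios

namespace Cfsg.Agent.S1559

set_option maxRecDepth 1000000 in
theorem bases_ok : ∀ c ∈ [c1, c2, c3, c4, c5], TrioL c.base := by decide +kernel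

set_option maxRecDepth 1000000 in
theorem lens : ([c1, c2, c3, c4, c5].map fun c => c.ents.length) = [1, 42, 56, 1008, 2688] := by
  decide +kernel

theorem decomp_T0 : OrbitDecomp T0 trios [1, 42, 56, 1008, 2688] := by
  have h := decomp_of_cert encF encF x0 gens [c1, c2, c3, c4, c5] trios
    (fun σ hσ y hy => smul_mem_trios hσ hy) (by decide +kernel) gens_ok (by decide)
    (by
      intro c hc
      simp only [List.mem_cons, List.not_mem_nil, or_false] at hc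
      rcases hc with rfl | rfl | rfl | rfl | rfl
      exacts [c1_ok, c2_ok, c3_ok, c4_ok, c5_ok])
    (fun c hc => mset_mem_trios (bases_ok c hc))
    (by rw [lens, Cfsg.Agent.S1557.trios_count]; decide)
  rw [lens] at h
  exact h

theorem result (T : Finset (Finset Cfsg.GolayPt)) (hT : T ∈ Cfsg.trios) : ∃ X₁ ∈ Cfsg.trios, ∃ X₂ ∈ Cfsg.trios, ∃ X₃ ∈ Cfsg.trios, ∃ X₄ ∈ Cfsg.trios, (MulAction.orbit ↥(MulAction.stabilizer Cfsg.M24 T) X₁).ncard = 42 ∧ (MulAction.orbit ↥(MulAction.stabilizer Cfsg.M24 T) X₂).ncard = 56 ∧ (MulAction.orbit ↥(MulAction.stabilizer Cfsg.M24 T) X₃).ncard = 1008 ∧ (MulAction.orbit ↥(MulAction.stabilizer Cfsg.M24 T) X₄).ncard = 2688 ∧ Cfsg.trios = {T} ∪ MulAction.orbit ↥(MulAction.stabilizer Cfsg.M24 T) X₁ ∪ MulAction.orbit ↥(MulAction.stabilizer Cfsg.M24 T) X₂ ∪ MulAction.orbit ↥(MulAction.stabilizer Cfsg.M24 T) X₃ ∪ MulAction.orbit ↥(MulAction.stabilizer Cfsg.M24 T) X₄ ∧ IsCoatom (MulAction.stabilizer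 Cfsg.M24 T) := by
  obtain ⟨g, hg, rfl⟩ := trio_trans hT
  have hd : OrbitDecomp (g • T0) trios [1, 42, 56, 1008, 2688] :=
    decomp_T0.smul (fun σ hσ y hy => smul_mem_trios hσ hy) hg
  obtain ⟨L, hF, hcov⟩ := hd.head_eq hT (by decide)
  rcases hF with _ | ⟨⟨h1, h1'⟩, hF⟩
  rcases hF with _ | ⟨⟨h2, h2'⟩, hF⟩
  rcases hF with _ | ⟨⟨h3, h3'⟩, hF⟩
  rcases hF with _ | ⟨⟨h4, h4'⟩, hF⟩
  cases hF
  refine ⟨_, h1, _, h2, _, h3, _, h4, h1', h2', h3', h4', ?_, ?_⟩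
  · ext y
    rw [hcov y]
    simp only [List.mem_cons, List.not_mem_nil, or_false, exists_eq_or_imp, exists_eq_left,
      Set.mem_union, Set.mem_singleton_iff]
    tauto
  · apply isCoatom_of_decomp ![1, 42, 56, 1008, 2688]
    · rw [orbit_M24_trio hT]
      exact hd
    · rfl
    · decide
    · decide
    · decide

end Cfsg.Agent.S1559
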