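import Cfsg.Statements.S1563
import Mathlib
import Cfsg.Agent.Lib.Helper1_Trans
import Cfsg.Agent.Lib.Helper1_Maximal

set_option autoImplicit false
open Cfsg
open scoped Pointwise
open Cfsg.Agent.Lib.Helper1_Chain Cfsg.Agent.Lib.Helper1_Golay Cfsg.Agent.Lib.Helper1_Maximal

namespace Cfsg.Agent.S1563

/-- the invariant separating the suborbits -/
def cls (s y : Finset GolayPt) : Fin 3 :=
  if y = s then 0 else if (s ∩ y).card = 1 then 1 else 2

theorem cls_eq_zero {s y : Finset GolayPt} : cls s y = 0 ↔ y = s := by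
  unfold cls
  constructor
  · intro h
    by_contra hne
    rw [if_neg hne] at h
    split_ifs at h <;> exact absurd h (by decide)
  · intro h; rw [if_pos h]

theorem cls_eq_one {s y : Finset GolayPt} : cls s y = 1 ↔ y ≠ s ∧ (s ∩ y).card = 1 := by
  unfold cls
  constructor
  · intro h
    split_ifs at h with h1 h2
    · exact absurd h (by decide)
    · exact ⟨h1, h2⟩
    · exact absurd h (by decide)
  · rintro ⟨h1, h2⟩; rw [if_neg h1, if_pos h2]

theorem cls_eq_two {s y : Finset GolayPt} : cls s y = 2 ↔ y ≠ s ∧ (s ∩ y).card ≠ 1 := by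
  unfold cls
  constructor
  · intro h
    split_ifs at h with h1 h2
    · exact absurd h (by decide)
    · exact absurd h (by decide)
    · exact ⟨h1, h2⟩
  · rintro ⟨h1, h2⟩; rw [if_neg h1, if_neg h2]

set_option maxRecDepth 1000000 in
theorem cnt2 : ∀ i ∈ [0, 1], ((Finset.powersetCard 2 (Finset.univ : Finset GolayPt)).filter
    (fun y => (Fset 2 ∩ y).card = i)).card = [231, 44].getD i 0 := by
  decide +kernel

theorem card_Fset2 : (Fset 2).card = 2 := by decide +kernel

theorem orbit_eq {s : Finset GolayPt} (hs : s.card = 2) :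
    MulAction.orbit M24 s = {y : Finset GolayPt | y.card = 2} := by
  ext y
  constructor
  · rintro ⟨g, rfl⟩
    show ((g : Equiv.Perm GolayPt) • s).card = 2
    rw [Finset.card_smul_finset]; exact hs
  · intro hy
    obtain ⟨g, hg, hgy⟩ := exists_map_lists (Finset.nodup_toList s) (Finset.nodup_toList y)
      (by rw [Finset.length_toList, Finset.length_toList, hs, hy])
      (by rw [Finset.length_toList, hs]; decide)
    refine ⟨⟨g, hg⟩, ?_⟩
    show g • s = y
    rw [smul_toFinset_toList, hgy, Finset.toList_toFinset]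

theorem card_inter_cases {s y : Finset GolayPt} (hs : s.card = 2) (hy : y.card = 2) :
    y = s ∨ (s ∩ y).card = 1 ∨ (s ∩ y).card = 0 := by
  have hle : (s ∩ y).card ≤ 2 := hs ▸ Finset.card_le_card Finset.inter_subset_left
  by_cases h2 : (s ∩ y).card = 2
  · left
    have h1 : s ∩ y = s := Finset.eq_of_subset_of_card_le Finset.inter_subset_left (by omega)
    have h3 : s ∩ y = y := Finset.eq_of_subset_of_card_le Finset.inter_subset_right (by omega)
    rw [← h3, h1]
  · omega

theorem count_class {s : Finset GolayPt} (hs : s.card = 2) (i : ℕ) (hi : i ∈ [0, 1]) :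
    {y : Finset GolayPt | y.card = 2 ∧ (s ∩ y).card = i}.ncard = [231, 44].getD i 0 := by
  obtain ⟨g, hg, hgs⟩ : ∃ g ∈ M24, g • Fset 2 = s := by
    have := (orbit_eq card_Fset2).symm ▸ (show s ∈ {y : Finset GolayPt | y.card = 2} from hs)
    obtain ⟨g, hgs⟩ := this
    exact ⟨g.1, g.2, hgs⟩
  have hset : {y : Finset GolayPt | y.card = 2 ∧ (s ∩ y).card = i} =
      {y : Finset GolayPt | y.card = 2 ∧ (fun y' => (Fset 2 ∩ y').card = i) (g⁻¹ • y)} := by
    ext y
    simp only [Set.mem_ofPred_eq]
    have : Fset 2 ∩ g⁻¹ • y = g⁻¹ • (s ∩ y) := by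
      rw [Finset.smul_finset_inter, ← hgs, inv_smul_smul]
    rw [this, Finset.card_smul_finset]
  rw [hset, ncard_ksubsets_smul g 2 (fun y' => (Fset 2 ∩ y').card = i)]
  exact cnt2 i hi

/-- statement -/
theorem result (s : Finset Cfsg.GolayPt) (hs : s.card = 2) : IsCoatom (MulAction.stabilizer Cfsg.M24 s) := by
  have horb := orbit_eq hs
  apply isCoatom_stabilizer (G := M24) s (cls s) ![1, 44, 231]
  · exact cls_eq_zero.2 rfl
  · intro y _ h0
    exact cls_eq_zero.1 h0
  · intro y hy z hz hyz
    rw [horb] at hy hz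
    have hy2 : y.card = 2 := hy
    have hz2 : z.card = 2 := hz
    have hcard : (s ∩ y).card = (s ∩ z).card := by
      have h3 : ∀ i : Fin 3, i = 0 ∨ i = 1 ∨ i = 2 := by decide
      rcases h3 (cls s y) with h | h | h
      · have h' := h; rw [hyz] at h'
        rw [cls_eq_zero.1 h, cls_eq_zero.1 h']
      · have h' := h; rw [hyz] at h'
        rw [(cls_eq_one.1 h).2, (cls_eq_one.1 h').2]
      · have h' := h; rw [hyz] at h'
        obtain ⟨a1, a2⟩ := cls_eq_two.1 h
        obtain ⟨b1, b2⟩ := cls_eq_two.1 h'
        rcases card_inter_cases hs hy2 with c | c | c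
        · exact absurd c a1
        · exact absurd c a2
        · rcases card_inter_cases hs hz2 with d | d | d
          · exact absurd d b1
          · exact absurd d b2
          · rw [c, d]
    obtain ⟨g, hg, hgs, hgy⟩ := exists_stab_map hcard (hy2.trans hz2.symm) (by
      have := Finset.card_union_le s y
      omega)
    exact ⟨⟨g, hg⟩, hgs, hgy⟩
  · intro i
    rw [horb]
    fin_cases i
    · have : {y | y ∈ {y : Finset GolayPt | y.card = 2} ∧ cls s y = (0 : Fin 3)} = {s} := by
        ext y
        simp only [Set.mem_ofPred_eq, Set.mem_singleton_iff]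
        constructor
        · rintro ⟨_, h⟩
          exact cls_eq_zero.1 h
        · rintro rfl; exact ⟨hs, cls_eq_zero.2 rfl⟩
      show {y | y ∈ {y : Finset GolayPt | y.card = 2} ∧ cls s y = (0 : Fin 3)}.ncard = 1
      rw [this, Set.ncard_singleton]
    · have : {y | y ∈ {y : Finset GolayPt | y.card = 2} ∧ cls s y = (1 : Fin 3)} =
          {y : Finset GolayPt | y.card = 2 ∧ (s ∩ y).card = 1} := by
        ext y
        simp only [Set.mem_ofPred_eq]
        constructor
        · rintro ⟨hy, h⟩
          exact ⟨hy, (cls_eq_one.1 h).2⟩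
        · rintro ⟨hy, h⟩
          refine ⟨hy, cls_eq_one.2 ⟨?_, h⟩⟩
          rintro rfl
          rw [Finset.inter_self, hs] at h; omega
      show {y | y ∈ {y : Finset GolayPt | y.card = 2} ∧ cls s y = (1 : Fin 3)}.ncard = 44
      rw [this, count_class hs 1 (by decide)]; rfl
    · have : {y | y ∈ {y : Finset GolayPt | y.card = 2} ∧ cls s y = (2 : Fin 3)} =
          {y : Finset GolayPt | y.card = 2 ∧ (s ∩ y).card = 0} := by
        ext y
        simp only [Set.mem_ofPred_eq]
        constructor
        · rintro ⟨hy, h⟩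
          refine ⟨hy, ?_⟩
          obtain ⟨a1, a2⟩ := cls_eq_two.1 h
          rcases card_inter_cases hs hy with c | c | c
          · exact absurd c a1
          · exact absurd c a2
          · exact c
        · rintro ⟨hy, h⟩
          refine ⟨hy, cls_eq_two.2 ⟨?_, by omega⟩⟩
          rintro rfl
          rw [Finset.inter_self, hs] at h; omega
      show {y | y ∈ {y : Finset GolayPt | y.card = 2} ∧ cls s y = (2 : Fin 3)}.ncard = 231
      rw [this, count_class hs 0 (by decide)]; rfl
  · decide
  · rw [horb]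
    have hne : {y : Finset GolayPt | y.card = 2 ∧ (s ∩ y).card = 0}.Nonempty := by
      rw [← Set.ncard_pos, count_class hs 0 (by decide)]; decide
    obtain ⟨y, hy, hy0⟩ := hne
    refine ⟨y, hy, ?_⟩
    rintro rfl
    rw [Finset.inter_self, hs] at hy0
    omega

end Cfsg.Agent.S1563
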