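import Cfsg.Statements.S1564
import Mathlib
import Cfsg.Agent.Lib.Helper1_Triads
import Cfsg.Agent.Lib.Helper1_Maximal

set_option autoImplicit false
open Cfsg
open scoped Pointwise
open Cfsg.Agent.Lib.Helper1_Chain Cfsg.Agent.Lib.Helper1_Golay Cfsg.Agent.Lib.Helper1_Maximal

namespace Cfsg.Agent.S1564

open Classical in
/-- the invariant separating the suborbits -/
noncomputable def cls (T U : Finset GolayPt) : Fin 5 :=
  if U = T then 0 else if (T ∩ U).card = 2 then 1 else if (T ∩ U).card = 1 then 2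
    else if InOctad (T ∪ U) then 3 else 4

theorem cls_eq_zero {T U : Finset GolayPt} : cls T U = 0 ↔ U = T := by
  unfold cls
  constructor
  · intro h
    by_contra hne
    rw [if_neg hne] at h
    split_ifs at h <;> exact absurd h (by decide)
  · intro h; rw [if_pos h]

theorem cls_eq_one {T U : Finset GolayPt} : cls T U = 1 ↔ U ≠ T ∧ (T ∩ U).card = 2 := by
  unfold cls
  constructor
  · intro h
    split_ifs at h with h1 h2 h3 h4 <;> first | exact ⟨h1, h2⟩ | exact absurd h (by decide)
  · rintro ⟨h1, h2⟩; rw [if_neg h1, if_pos h2]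

theorem cls_eq_two {T U : Finset GolayPt} : cls T U = 2 ↔ U ≠ T ∧ (T ∩ U).card = 1 := by
  unfold cls
  constructor
  · intro h
    split_ifs at h with h1 h2 h3 h4 <;> first | exact ⟨h1, h3⟩ | exact absurd h (by decide)
  · rintro ⟨h1, h2⟩; rw [if_neg h1, if_neg (by omega), if_pos h2]

theorem cls_eq_three {T U : Finset GolayPt} : cls T U = 3 ↔
    U ≠ T ∧ (T ∩ U).card ≠ 2 ∧ (T ∩ U).card ≠ 1 ∧ InOctad (T ∪ U) := by
  unfold cls
  constructor
  · intro h
    split_ifs at h with h1 h2 h3 h4 <;> first | exact ⟨h1, h2, h3, h4⟩ | exact absurd h (by decide)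
  · rintro ⟨h1, h2, h3, h4⟩; rw [if_neg h1, if_neg h2, if_neg h3, if_pos h4]

theorem cls_eq_four {T U : Finset GolayPt} : cls T U = 4 ↔
    U ≠ T ∧ (T ∩ U).card ≠ 2 ∧ (T ∩ U).card ≠ 1 ∧ ¬ InOctad (T ∪ U) := by
  unfold cls
  constructor
  · intro h
    split_ifs at h with h1 h2 h3 h4 <;> first | exact ⟨h1, h2, h3, h4⟩ | exact absurd h (by decide)
  · rintro ⟨h1, h2, h3, h4⟩; rw [if_neg h1, if_neg h2, if_neg h3, if_neg h4]

theorem orbit_eq {T : Finset GolayPt} (hT : T.card = 3) :
    MulAction.orbit M24 T = {y : Finset GolayPt | y.card = 3} := by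
  ext y
  constructor
  · rintro ⟨g, rfl⟩
    show ((g : Equiv.Perm GolayPt) • T).card = 3
    rw [Finset.card_smul_finset]; exact hT
  · intro hy
    obtain ⟨g, hg, hgy⟩ := exists_map_lists (Finset.nodup_toList T) (Finset.nodup_toList y)
      (by rw [Finset.length_toList, Finset.length_toList, hT, hy])
      (by rw [Finset.length_toList, hT]; decide)
    refine ⟨⟨g, hg⟩, ?_⟩
    show g • T = y
    rw [smul_toFinset_toList, hgy, Finset.toList_toFinset]

theorem card_inter_cases {T U : Finset GolayPt} (hT : T.card = 3) (hU : U.card = 3) :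
    U = T ∨ (T ∩ U).card = 2 ∨ (T ∩ U).card = 1 ∨ Disjoint T U := by
  have hle : (T ∩ U).card ≤ 3 := hT ▸ Finset.card_le_card Finset.inter_subset_left
  by_cases h3 : (T ∩ U).card = 3
  · left
    have h1 : T ∩ U = T := Finset.eq_of_subset_of_card_le Finset.inter_subset_left (by omega)
    have h3 : T ∩ U = U := Finset.eq_of_subset_of_card_le Finset.inter_subset_right (by omega)
    rw [← h3, h1]
  · by_cases h0 : (T ∩ U).card = 0
    · right; right; right
      rw [Finset.disjoint_iff_inter_eq_empty, ← Finset.card_eq_zero]; exact h0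
    · omega

theorem card_inter_of_disjoint {T U : Finset GolayPt} (h : Disjoint T U) : (T ∩ U).card = 0 := by
  rw [Finset.card_eq_zero, ← Finset.disjoint_iff_inter_eq_empty]; exact h

/-- statement -/
theorem result (s : Finset Cfsg.GolayPt) (hs : s.card = 3) : IsCoatom (MulAction.stabilizer Cfsg.M24 s) := by
  have horb := orbit_eq hs
  obtain ⟨c210, c1120, c630, c63⟩ := ncard_triads hs
  apply isCoatom_stabilizer (G := M24) s (cls s) ![1, 63, 630, 210, 1120]
  · exact cls_eq_zero.2 rfl
  · intro y _ h0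
    exact cls_eq_zero.1 h0
  · intro y hy z hz hyz
    rw [horb] at hy hz
    have hy3 : y.card = 3 := hy
    have hz3 : z.card = 3 := hz
    have h5 : ∀ i : Fin 5, i = 0 ∨ i = 1 ∨ i = 2 ∨ i = 3 ∨ i = 4 := by decide
    have hsmall : ∀ k, 1 ≤ k → (s ∩ y).card = k → (s ∩ z).card = k →
        ∃ g ∈ MulAction.stabilizer M24 s, g • y = z := by
      intro k hk h1 h2
      obtain ⟨g, hg, hgs, hgy⟩ := exists_stab_map (h1.trans h2.symm) (hy3.trans hz3.symm) (by
        have := Finset.card_union_add_card_inter s y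
        omega)
      exact ⟨⟨g, hg⟩, hgs, hgy⟩
    have hdisj : ∀ {u : Finset GolayPt}, u.card = 3 → u ≠ s → (s ∩ u).card ≠ 2 →
        (s ∩ u).card ≠ 1 → Disjoint s u := by
      intro u hu a1 a2 a3
      rcases card_inter_cases hs hu with c | c | c | c
      · exact absurd c a1
      · exact absurd c a2
      · exact absurd c a3
      · exact c
    rcases h5 (cls s y) with h | h | h | h | h
    · have h' := h; rw [hyz] at h'
      exact ⟨1, Subgroup.one_mem _, by rw [one_smul, cls_eq_zero.1 h, cls_eq_zero.1 h']⟩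
    · have h' := h; rw [hyz] at h'
      exact hsmall 2 (by decide) (cls_eq_one.1 h).2 (cls_eq_one.1 h').2
    · have h' := h; rw [hyz] at h'
      exact hsmall 1 (by decide) (cls_eq_two.1 h).2 (cls_eq_two.1 h').2
    · have h' := h; rw [hyz] at h'
      obtain ⟨a1, a2, a3, a4⟩ := cls_eq_three.1 h
      obtain ⟨b1, b2, b3, b4⟩ := cls_eq_three.1 h'
      obtain ⟨g, hg, hgs, hgy⟩ := triad_trans hs hy3 hz3 (hdisj hy3 a1 a2 a3) (hdisj hz3 b1 b2 b3)
        ⟨fun _ => b4, fun _ => a4⟩
      exact ⟨⟨g, hg⟩, hgs, hgy⟩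
    · have h' := h; rw [hyz] at h'
      obtain ⟨a1, a2, a3, a4⟩ := cls_eq_four.1 h
      obtain ⟨b1, b2, b3, b4⟩ := cls_eq_four.1 h'
      obtain ⟨g, hg, hgs, hgy⟩ := triad_trans hs hy3 hz3 (hdisj hy3 a1 a2 a3) (hdisj hz3 b1 b2 b3)
        ⟨fun x => absurd x a4, fun x => absurd x b4⟩
      exact ⟨⟨g, hg⟩, hgs, hgy⟩
  · intro i
    rw [horb]
    have hself : (s ∩ s).card = 3 := by rw [Finset.inter_self, hs]
    fin_cases i
    · have : {y | y ∈ {y : Finset GolayPt | y.card = 3} ∧ cls s y = (0 : Fin 5)} = {s} := by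
        ext y
        simp only [Set.mem_ofPred_eq, Set.mem_singleton_iff]
        constructor
        · rintro ⟨_, h⟩
          exact cls_eq_zero.1 h
        · rintro rfl; exact ⟨hs, cls_eq_zero.2 rfl⟩
      show {y | y ∈ {y : Finset GolayPt | y.card = 3} ∧ cls s y = (0 : Fin 5)}.ncard = 1
      rw [this, Set.ncard_singleton]
    · have : {y | y ∈ {y : Finset GolayPt | y.card = 3} ∧ cls s y = (1 : Fin 5)} =
          {U : Finset GolayPt | U.card = 3 ∧ (s ∩ U).card = 2} := by
        ext y
        simp only [Set.mem_ofPred_eq]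
        constructor
        · rintro ⟨hy, h⟩
          exact ⟨hy, (cls_eq_one.1 h).2⟩
        · rintro ⟨hy, h⟩
          refine ⟨hy, cls_eq_one.2 ⟨?_, h⟩⟩
          rintro rfl
          omega
      show {y | y ∈ {y : Finset GolayPt | y.card = 3} ∧ cls s y = (1 : Fin 5)}.ncard = 63
      rw [this, c63]
    · have : {y | y ∈ {y : Finset GolayPt | y.card = 3} ∧ cls s y = (2 : Fin 5)} =
          {U : Finset GolayPt | U.card = 3 ∧ (s ∩ U).card = 1} := by
        ext y
        simp only [Set.mem_ofPred_eq]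
        constructor
        · rintro ⟨hy, h⟩
          exact ⟨hy, (cls_eq_two.1 h).2⟩
        · rintro ⟨hy, h⟩
          refine ⟨hy, cls_eq_two.2 ⟨?_, h⟩⟩
          rintro rfl
          omega
      show {y | y ∈ {y : Finset GolayPt | y.card = 3} ∧ cls s y = (2 : Fin 5)}.ncard = 630
      rw [this, c630]
    · have : {y | y ∈ {y : Finset GolayPt | y.card = 3} ∧ cls s y = (3 : Fin 5)} =
          {U : Finset GolayPt | U.card = 3 ∧ Disjoint s U ∧ InOctad (s ∪ U)} := by
        ext y
        simp only [Set.mem_ofPred_eq]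
        constructor
        · rintro ⟨hy, h⟩
          obtain ⟨a1, a2, a3, a4⟩ := cls_eq_three.1 h
          refine ⟨hy, ?_, a4⟩
          rcases card_inter_cases hs hy with c | c | c | c
          · exact absurd c a1
          · exact absurd c a2
          · exact absurd c a3
          · exact c
        · rintro ⟨hy, hd, h⟩
          have h0 := card_inter_of_disjoint hd
          refine ⟨hy, cls_eq_three.2 ⟨?_, by omega, by omega, h⟩⟩
          rintro rfl
          omega
      show {y | y ∈ {y : Finset GolayPt | y.card = 3} ∧ cls s y = (3 : Fin 5)}.ncard = 210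
      rw [this, c210]
    · have : {y | y ∈ {y : Finset GolayPt | y.card = 3} ∧ cls s y = (4 : Fin 5)} =
          {U : Finset GolayPt | U.card = 3 ∧ Disjoint s U ∧ ¬ InOctad (s ∪ U)} := by
        ext y
        simp only [Set.mem_ofPred_eq]
        constructor
        · rintro ⟨hy, h⟩
          obtain ⟨a1, a2, a3, a4⟩ := cls_eq_four.1 h
          refine ⟨hy, ?_, a4⟩
          rcases card_inter_cases hs hy with c | c | c | c
          · exact absurd c a1
          · exact absurd c a2
          · exact absurd c a3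
          · exact c
        · rintro ⟨hy, hd, h⟩
          have h0 := card_inter_of_disjoint hd
          refine ⟨hy, cls_eq_four.2 ⟨?_, by omega, by omega, h⟩⟩
          rintro rfl
          omega
      show {y | y ∈ {y : Finset GolayPt | y.card = 3} ∧ cls s y = (4 : Fin 5)}.ncard = 1120
      rw [this, c1120]
  · decide
  · rw [horb]
    have hne : {U : Finset GolayPt | U.card = 3 ∧ (s ∩ U).card = 2}.Nonempty := by
      rw [← Set.ncard_pos, c63]; decide
    obtain ⟨y, hy, hy0⟩ := hne
    refine ⟨y, hy, ?_⟩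
    rintro rfl
    rw [Finset.inter_self, hs] at hy0
    omega

end Cfsg.Agent.S1564
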