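import Cfsg.Statements.S1565
import Mathlib
import Cfsg.Agent.Lib.Helper1_Octads2
import Cfsg.Agent.Lib.Helper1_Maximal

set_option autoImplicit false
open Cfsg
open scoped Pointwise
open Cfsg.Agent.Lib.Helper1_Chain Cfsg.Agent.Lib.Helper1_Golay Cfsg.Agent.Lib.Helper1_Maximal

namespace Cfsg.Agent.S1565

/-- the invariant separating the suborbits -/
def cls (o y : Finset GolayPt) : Fin 4 :=
  if y = o then 0 else if (o ∩ y).card = 0 then 1 else if (o ∩ y).card = 2 then 2 else 3

theorem orbit_eq {o : Finset GolayPt} (ho : o ∈ octads) :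
    MulAction.orbit M24 o = octads := by
  ext y
  constructor
  · rintro ⟨g, rfl⟩
    exact smul_mem_octads g.2 ho
  · intro hy
    obtain ⟨g, hg, hgy⟩ := M24_octad_transitive ho hy
    exact ⟨⟨g, hg⟩, hgy⟩

theorem cls_eq_iff {o y : Finset GolayPt} (ho : o ∈ octads) (hy : y ∈ octads) :
    (cls o y = 0 ↔ y = o) ∧ (cls o y = 1 ↔ (o ∩ y).card = 0) ∧ (cls o y = 2 ↔ (o ∩ y).card = 2) ∧
      (cls o y = 3 ↔ (o ∩ y).card = 4) := by
  unfold cls
  rcases card_inter_octads ho hy with h | h | h | h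
  · have hne : y ≠ o := by
      rintro rfl
      rw [Finset.inter_self, ho.2] at h; omega
    simp [hne, h]
  · have hne : y ≠ o := by
      rintro rfl
      rw [Finset.inter_self, ho.2] at h; omega
    simp [hne, h]
  · have hne : y ≠ o := by
      rintro rfl
      rw [Finset.inter_self, ho.2] at h; omega
    simp [hne, h]
  · subst h
    simp [ho.2]

/-- statement -/
theorem result (o : Finset Cfsg.GolayPt) (ho : o ∈ Cfsg.octads) : IsCoatom (MulAction.stabilizer Cfsg.M24 o) := by
  have horb := orbit_eq ho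
  obtain ⟨h30, h448, h280⟩ := ncard_octads_inter_octad ho
  apply isCoatom_stabilizer (G := M24) o (cls o) ![1, 30, 448, 280]
  · simp [cls]
  · intro y hy h0
    rw [horb] at hy
    exact ((cls_eq_iff ho hy).1).1 h0
  · intro y hy z hz hyz
    rw [horb] at hy hz
    have hcard : (o ∩ y).card = (o ∩ z).card := by
      obtain ⟨y0, y1, y2, y3⟩ := cls_eq_iff ho hy
      obtain ⟨z0, z1, z2, z3⟩ := cls_eq_iff ho hz
      have : ∀ i : Fin 4, i = 0 ∨ i = 1 ∨ i = 2 ∨ i = 3 := by decide
      rcases this (cls o y) with h | h | h | h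
      · have h' := h; rw [hyz] at h'
        rw [y0.1 h, z0.1 h']
      · have h' := h; rw [hyz] at h'
        rw [y1.1 h, z1.1 h']
      · have h' := h; rw [hyz] at h'
        rw [y2.1 h, z2.1 h']
      · have h' := h; rw [hyz] at h'
        rw [y3.1 h, z3.1 h']
    obtain ⟨g, hg, hgo, hgy⟩ := octad_stab_trans ho hy hz hcard
    exact ⟨⟨g, hg⟩, hgo, hgy⟩
  · intro i
    rw [horb]
    have hset : ∀ k : ℕ, k ≠ 8 → {y | y ∈ octads ∧ (o ∩ y).card = k} =
        {o' : Finset GolayPt | o' ∈ octads ∧ (o' ∩ o).card = k} := by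
      intro k _
      ext y
      simp only [Set.mem_ofPred_eq, Finset.inter_comm]
    fin_cases i
    · have : {y | y ∈ octads ∧ cls o y = (0 : Fin 4)} = {o} := by
        ext y
        simp only [Set.mem_ofPred_eq, Set.mem_singleton_iff]
        constructor
        · rintro ⟨hy, h⟩; exact ((cls_eq_iff ho hy).1).1 h
        · rintro rfl; exact ⟨ho, by simp [cls]⟩
      show {y | y ∈ octads ∧ cls o y = (0 : Fin 4)}.ncard = 1
      rw [this, Set.ncard_singleton]
    · have : {y | y ∈ octads ∧ cls o y = (1 : Fin 4)} =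
          {o' : Finset GolayPt | o' ∈ octads ∧ (o' ∩ o).card = 0} := by
        rw [← hset 0 (by decide)]
        ext y
        simp only [Set.mem_ofPred_eq]
        constructor
        · rintro ⟨hy, h⟩; exact ⟨hy, ((cls_eq_iff ho hy).2.1).1 h⟩
        · rintro ⟨hy, h⟩; exact ⟨hy, ((cls_eq_iff ho hy).2.1).2 h⟩
      show {y | y ∈ octads ∧ cls o y = (1 : Fin 4)}.ncard = 30
      rw [this, h30]
    · have : {y | y ∈ octads ∧ cls o y = (2 : Fin 4)} =
          {o' : Finset GolayPt | o' ∈ octads ∧ (o' ∩ o).card = 2} := by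
        rw [← hset 2 (by decide)]
        ext y
        simp only [Set.mem_ofPred_eq]
        constructor
        · rintro ⟨hy, h⟩; exact ⟨hy, ((cls_eq_iff ho hy).2.2.1).1 h⟩
        · rintro ⟨hy, h⟩; exact ⟨hy, ((cls_eq_iff ho hy).2.2.1).2 h⟩
      show {y | y ∈ octads ∧ cls o y = (2 : Fin 4)}.ncard = 448
      rw [this, h448]
    · have : {y | y ∈ octads ∧ cls o y = (3 : Fin 4)} =
          {o' : Finset GolayPt | o' ∈ octads ∧ (o' ∩ o).card = 4} := by
        rw [← hset 4 (by decide)]
        ext y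
        simp only [Set.mem_ofPred_eq]
        constructor
        · rintro ⟨hy, h⟩; exact ⟨hy, ((cls_eq_iff ho hy).2.2.2).1 h⟩
        · rintro ⟨hy, h⟩; exact ⟨hy, ((cls_eq_iff ho hy).2.2.2).2 h⟩
      show {y | y ∈ octads ∧ cls o y = (3 : Fin 4)}.ncard = 280
      rw [this, h280]
  · decide
  · rw [horb]
    have hne : {o' : Finset GolayPt | o' ∈ octads ∧ (o' ∩ o).card = 0}.Nonempty := by
      rw [← Set.ncard_pos, h30]; decide
    obtain ⟨y, hy, hy0⟩ := hne
    refine ⟨y, hy, ?_⟩
    rintro rfl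
    rw [Finset.inter_self, ho.2] at hy0
    omega

end Cfsg.Agent.S1565
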