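import Cfsg.Statements.S1566
import Mathlib
import Cfsg.Agent.Lib.Helper1_Dodecads
import Cfsg.Agent.Lib.Helper1_Maximal

set_option autoImplicit false
open Cfsg
open scoped Pointwise
open Cfsg.Agent.Lib.Helper1_Chain Cfsg.Agent.Lib.Helper1_Golay Cfsg.Agent.Lib.Helper1_Maximal

namespace Cfsg.Agent.S1566

/-- a set together with its complement -/
def pr (e : Finset GolayPt) : Finset (Finset GolayPt) := {e, eᶜ}

theorem ne_compl (e : Finset GolayPt) : e ≠ eᶜ := by
  intro h
  have h0 : (none : GolayPt) ∈ e ↔ (none : GolayPt) ∈ eᶜ := by rw [← h]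
  rw [Finset.mem_compl] at h0
  tauto

theorem card_pr (e : Finset GolayPt) : (pr e).card = 2 := Finset.card_pair (ne_compl e)

theorem mem_pr {e f : Finset GolayPt} : f ∈ pr e ↔ f = e ∨ f = eᶜ := by
  unfold pr; simp

theorem pr_compl (e : Finset GolayPt) : pr eᶜ = pr e := by
  unfold pr
  rw [compl_compl, Finset.pair_comm]

theorem pr_eq_iff {e f : Finset GolayPt} : pr f = pr e ↔ f = e ∨ f = eᶜ := by
  constructor
  · intro h
    have : f ∈ pr e := by rw [← h]; exact mem_pr.2 (Or.inl rfl)
    exact mem_pr.1 this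
  · rintro (rfl | rfl)
    · rfl
    · exact pr_compl e

theorem smul_pr (g : Equiv.Perm GolayPt) (e : Finset GolayPt) : g • pr e = pr (g • e) := by
  unfold pr
  rw [Finset.smul_finset_insert, Finset.smul_finset_singleton, smul_finset_compl']

theorem smul_pr' (g : M24) (e : Finset GolayPt) : g • pr e = pr (g • e) := smul_pr g.1 e

theorem orbit_eq {d : Finset GolayPt} (hd : d ∈ dodecads) :
    MulAction.orbit M24 (pr d) = pr '' dodecads := by
  ext y
  constructor
  · rintro ⟨g, rfl⟩
    refine ⟨g • d, smul_mem_dodecads g.2 hd, ?_⟩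
    exact (smul_pr' g d).symm
  · rintro ⟨e, he, rfl⟩
    obtain ⟨g, hg, hgy⟩ := M24_dodecad_transitive hd he
    refine ⟨⟨g, hg⟩, ?_⟩
    show (⟨g, hg⟩ : M24) • pr d = pr e
    rw [smul_pr', ← hgy]; rfl

theorem card_inter_compl {d e : Finset GolayPt} (hd : d ∈ dodecads) :
    (d ∩ eᶜ).card + (d ∩ e).card = 12 := by
  have : d ∩ eᶜ = d \ e := by
    ext p; simp [Finset.mem_sdiff]
  rw [this, Finset.card_sdiff_add_card_inter, hd.2]

/-- the invariant separating the suborbits -/
def cls (d : Finset GolayPt) (y : Finset (Finset GolayPt)) : Fin 3 :=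
  if y = pr d then 0 else if ∃ e ∈ y, (d ∩ e).card = 6 then 2 else 1

theorem cls_pr {d e : Finset GolayPt} (hd : d ∈ dodecads) (he : e ∈ dodecads) :
    (cls d (pr e) = 0 ↔ pr e = pr d) ∧ (cls d (pr e) = 2 ↔ (d ∩ e).card = 6) ∧
      (cls d (pr e) = 1 ↔ ((d ∩ e).card = 4 ∨ (d ∩ e).card = 8)) := by
  have hc := card_inter_compl (e := e) hd
  have hex : (∃ f ∈ pr e, (d ∩ f).card = 6) ↔ (d ∩ e).card = 6 := by
    constructor
    · rintro ⟨f, hf, hf6⟩
      rcases mem_pr.1 hf with rfl | rfl
      · exact hf6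
      · omega
    · intro h
      exact ⟨e, mem_pr.2 (Or.inl rfl), h⟩
  unfold cls
  by_cases h0 : pr e = pr d
  · have h0' := h0
    rw [pr_eq_iff] at h0'
    have : (d ∩ e).card = 12 ∨ (d ∩ e).card = 0 := by
      rcases h0' with rfl | rfl
      · left; rw [Finset.inter_self, hd.2]
      · right; rw [Finset.card_eq_zero]
        ext p; simp
    simp only [h0, if_true]
    refine ⟨by simp, ?_, ?_⟩
    · constructor
      · intro h; exact absurd h (by decide)
      · intro h; omega
    · constructor
      · intro h; exact absurd h (by decide)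
      · intro h; omega
  · have hne : (d ∩ e).card ≠ 12 ∧ (d ∩ e).card ≠ 0 := by
      constructor
      · intro h
        exact h0 (pr_eq_iff.2 (Or.inl (eq_of_card_inter_eq hd he h)))
      · intro h
        exact h0 (pr_eq_iff.2 (Or.inr (eq_compl_of_card_inter_eq hd he h)))
    simp only [h0, if_false, hex]
    have h5 := card_inter_dodecads hd he
    by_cases h6 : (d ∩ e).card = 6
    · rw [if_pos h6]
      refine ⟨by simp, by simp [h6], ?_⟩
      constructor
      · intro h; exact absurd h (by decide)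
      · intro h; omega
    · rw [if_neg h6]
      refine ⟨by simp, ?_, ?_⟩
      · constructor
        · intro h; exact absurd h (by decide)
        · intro h; exact absurd h h6
      · constructor
        · intro _; omega
        · intro _; rfl

/-- two-to-one image -/
theorem ncard_image_pr (A : Set (Finset GolayPt)) (hA : ∀ e ∈ A, eᶜ ∈ A) :
    (pr '' A).ncard * 2 = A.ncard := by
  classical
  have hfin : A.Finite := Set.toFinite A
  set s := hfin.toFinset with hs
  have hmem : ∀ e, e ∈ s ↔ e ∈ A := fun e => by rw [hs, Set.Finite.mem_toFinset]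
  have h1 : A.ncard = s.card := by rw [Set.ncard_eq_toFinset_card A hfin]
  have h2 : (pr '' A).ncard = (s.image pr).card := by
    rw [Set.ncard_eq_toFinset_card' ]
    congr 1
    ext y
    simp only [Set.mem_toFinset, Set.mem_image, Finset.mem_image, hmem]
  rw [h1, h2]
  have hfib := Finset.card_eq_sum_card_fiberwise (s := s) (t := s.image pr) (f := pr)
    (fun x hx => Finset.mem_image_of_mem pr hx)
  rw [hfib]
  have : ∀ b ∈ s.image pr, (s.filter (fun a => pr a = b)).card = 2 := by
    intro b hb
    obtain ⟨e, he, rfl⟩ := Finset.mem_image.1 hb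
    have : s.filter (fun a => pr a = pr e) = pr e := by
      ext f
      rw [Finset.mem_filter, pr_eq_iff, mem_pr, hmem]
      constructor
      · rintro ⟨_, h⟩; exact h
      · intro h
        refine ⟨?_, h⟩
        rcases h with rfl | rfl
        · exact (hmem f).1 he
        · exact hA e ((hmem e).1 he)
    rw [this, card_pr]
  rw [Finset.sum_congr rfl this, Finset.sum_const, smul_eq_mul]

/-- statement -/
theorem result (d : Finset Cfsg.GolayPt) (hd : d ∈ Cfsg.dodecads) : IsCoatom (MulAction.stabilizer Cfsg.M24 ({d, dᶜ} : Finset (Finset Cfsg.GolayPt))) := by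
  have horb := orbit_eq hd
  obtain ⟨h495, h1584, h495'⟩ := ncard_dodecads_inter hd
  show IsCoatom (MulAction.stabilizer M24 (pr d))
  apply isCoatom_stabilizer (G := M24) (pr d) (cls d) ![1, 495, 792]
  · simp [cls]
  · intro y hy h0
    rw [horb] at hy
    obtain ⟨e, he, rfl⟩ := hy
    exact ((cls_pr hd he).1).1 h0
  · intro y hy z hz hyz
    rw [horb] at hy hz
    obtain ⟨e, he, rfl⟩ := hy
    obtain ⟨f, hf, rfl⟩ := hz
    obtain ⟨e0, e2, e1⟩ := cls_pr hd he
    obtain ⟨f0, f2, f1⟩ := cls_pr hd hf
    have key : ∀ {e f : Finset GolayPt}, e ∈ dodecads → f ∈ dodecads →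
        (d ∩ e).card = (d ∩ f).card → ∃ g ∈ MulAction.stabilizer M24 (pr d), g • pr e = pr f := by
      intro e f he hf hcard
      obtain ⟨g, hg, hgd, hge⟩ := dodecad_stab_trans hd he hf hcard
      refine ⟨⟨g, hg⟩, ?_, ?_⟩
      · rw [MulAction.mem_stabilizer_iff, smul_pr']
        congr 1
      · rw [smul_pr']
        congr 1
    have : ∀ i : Fin 3, i = 0 ∨ i = 1 ∨ i = 2 := by decide
    rcases this (cls d (pr e)) with h | h | h
    · have h' := h; rw [hyz] at h'
      refine ⟨1, Subgroup.one_mem _, ?_⟩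
      rw [one_smul, e0.1 h, f0.1 h']
    · have h' := h; rw [hyz] at h'
      have he4 : ∃ e', e' ∈ dodecads ∧ pr e' = pr e ∧ (d ∩ e').card = 4 := by
        rcases e1.1 h with h4 | h8
        · exact ⟨e, he, rfl, h4⟩
        · refine ⟨eᶜ, compl_mem_dodecads he, pr_compl e, ?_⟩
          have := card_inter_compl (e := e) hd
          omega
      have hf4 : ∃ f', f' ∈ dodecads ∧ pr f' = pr f ∧ (d ∩ f').card = 4 := by
        rcases f1.1 h' with h4 | h8
        · exact ⟨f, hf, rfl, h4⟩
        · refine ⟨fᶜ, compl_mem_dodecads hf, pr_compl f, ?_⟩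
          have := card_inter_compl (e := f) hd
          omega
      obtain ⟨e', he', hee, he4⟩ := he4
      obtain ⟨f', hf', hff, hf4⟩ := hf4
      rw [← hee, ← hff]
      exact key he' hf' (by rw [he4, hf4])
    · have h' := h; rw [hyz] at h'
      exact key he hf (by rw [e2.1 h, f2.1 h'])
  · intro i
    rw [horb]
    fin_cases i
    · have : {y | y ∈ pr '' dodecads ∧ cls d y = (0 : Fin 3)} = {pr d} := by
        ext y
        simp only [Set.mem_ofPred_eq, Set.mem_singleton_iff]
        constructor
        · rintro ⟨⟨e, he, rfl⟩, h⟩; exact ((cls_pr hd he).1).1 h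
        · rintro rfl; exact ⟨⟨d, hd, rfl⟩, by simp [cls]⟩
      show {y | y ∈ pr '' dodecads ∧ cls d y = (0 : Fin 3)}.ncard = 1
      rw [this, Set.ncard_singleton]
    · have : {y | y ∈ pr '' dodecads ∧ cls d y = (1 : Fin 3)} =
          pr '' {d' : Finset GolayPt | d' ∈ dodecads ∧ (d ∩ d').card = 4} := by
        ext y
        simp only [Set.mem_ofPred_eq, Set.mem_image]
        constructor
        · rintro ⟨⟨e, he, rfl⟩, h⟩
          rcases ((cls_pr hd he).2.2).1 h with h4 | h8
          · exact ⟨e, ⟨he, h4⟩, rfl⟩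
          · refine ⟨eᶜ, ⟨compl_mem_dodecads he, ?_⟩, pr_compl e⟩
            have := card_inter_compl (e := e) hd
            omega
        · rintro ⟨e, ⟨he, h4⟩, rfl⟩
          exact ⟨⟨e, he, rfl⟩, ((cls_pr hd he).2.2).2 (Or.inl h4)⟩
      show {y | y ∈ pr '' dodecads ∧ cls d y = (1 : Fin 3)}.ncard = 495
      rw [this, Set.InjOn.ncard_image, h495]
      intro e he f hf hef
      rcases pr_eq_iff.1 hef with rfl | rfl
      · rfl
      · exfalso
        have := card_inter_compl (e := f) hd
        have h1 := he.2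
        have h2 := hf.2
        omega
    · have : {y | y ∈ pr '' dodecads ∧ cls d y = (2 : Fin 3)} =
          pr '' {d' : Finset GolayPt | d' ∈ dodecads ∧ (d ∩ d').card = 6} := by
        ext y
        simp only [Set.mem_ofPred_eq, Set.mem_image]
        constructor
        · rintro ⟨⟨e, he, rfl⟩, h⟩
          exact ⟨e, ⟨he, ((cls_pr hd he).2.1).1 h⟩, rfl⟩
        · rintro ⟨e, ⟨he, h6⟩, rfl⟩
          exact ⟨⟨e, he, rfl⟩, ((cls_pr hd he).2.1).2 h6⟩
      show {y | y ∈ pr '' dodecads ∧ cls d y = (2 : Fin 3)}.ncard = 792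
      rw [this]
      have := ncard_image_pr {d' : Finset GolayPt | d' ∈ dodecads ∧ (d ∩ d').card = 6} (by
        rintro e ⟨he, h6⟩
        refine ⟨compl_mem_dodecads he, ?_⟩
        have := card_inter_compl (e := e) hd
        omega)
      rw [h1584] at this
      omega
  · decide
  · rw [horb]
    have hne : {d' : Finset GolayPt | d' ∈ dodecads ∧ (d ∩ d').card = 4}.Nonempty := by
      rw [← Set.ncard_pos, h495]; decide
    obtain ⟨y, hy, hy4⟩ := hne
    refine ⟨pr y, ⟨y, hy, rfl⟩, ?_⟩
    intro h
    rcases pr_eq_iff.1 h with rfl | rfl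
    · rw [Finset.inter_self, hd.2] at hy4
      omega
    · have := card_inter_compl (e := d) hd
      rw [Finset.inter_self, hd.2] at this
      omega

end Cfsg.Agent.S1566
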