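import Cfsg.Statements.S1571
import Mathlib
import Cfsg.Agent.Lib.Helper1_Co0
import Cfsg.Agent.Lib.Helper1_M24b
import Cfsg.Agent.S0398

set_option autoImplicit false
open Cfsg
open scoped Pointwise
open Cfsg.Agent.Lib.Helper1_Golay Cfsg.Agent.Lib.Helper1_Co0 Cfsg.Agent.Lib.Helper1_Chain
open Cfsg.Agent.S0398

namespace Cfsg.Agent.S1571

local notation "𝒢" => supports (golayCode : Set (GolayPt → ZMod 2))

/-- the stabilizer property of the standard cross -/
def Pres (g : ↥Co0) : Prop :=
  ∀ v : ↥leechLattice, (v : GolayPt → ℤ) ∈ stdCross → ((g • v : ↥leechLattice) : GolayPt → ℤ) ∈ stdCross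

theorem E_mem_stdCross (i : GolayPt) : ((E i : ↥leechLattice) : GolayPt → ℤ) ∈ stdCross :=
  ⟨i, 8, Or.inl rfl, rfl⟩

theorem eight_mul_apply (g : ↥Co0) (v : ↥leechLattice) (k : GolayPt) :
    8 * (g • v : ↥leechLattice).1 k = ∑ b, v.1 b * (g • E b : ↥leechLattice).1 k := by
  have h1 : toHom g ((8 : ℤ) • v) = (8 : ℤ) • (g • v) := map_zsmul (toHom g) 8 v
  rw [eight_smul_eq v, map_sum] at h1
  have h2 := congrArg (coordHom k) h1
  rw [map_sum, map_zsmul] at h2
  have h3 : coordHom k (g • v) = (g • v : ↥leechLattice).1 k := rfl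
  rw [h3, smul_eq_mul] at h2
  rw [← h2]
  apply Finset.sum_congr rfl
  intro b _
  rw [map_zsmul, map_zsmul, smul_eq_mul]
  rfl

theorem mem_M24_of_forall {σ : Equiv.Perm GolayPt} (h : ∀ S ∈ 𝒢, σ • S ∈ 𝒢) : σ ∈ M24 := by
  have h3 : σ • 𝒢 ⊆ 𝒢 := by
    rintro _ ⟨S, hS, rfl⟩
    exact h S hS
  have h4 : σ • 𝒢 = 𝒢 := by
    apply Set.eq_of_subset_of_ncard_le h3 _ (Set.toFinite _)
    rw [← Set.image_smul, Set.ncard_image_of_injective _ (MulAction.injective σ)]
  exact MulAction.mem_stabilizer_iff.mpr h4

/-- twice the indicator vector of a set -/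
def twoInd (S : Finset GolayPt) : GolayPt → ℤ := fun i => if i ∈ S then 2 else 0

theorem twoInd_mem {S : Finset GolayPt} (hS : S ∈ 𝒢) : twoInd S ∈ leechLattice := by
  rw [mem_leechLattice_iff, mem_leechSet_iff]
  refine ⟨0, fun i => ?_, ?_, ?_⟩
  · unfold twoInd; split_ifs <;> rfl
  · have hsum : ∑ i, twoInd S i = 2 * S.card := by
      unfold twoInd
      rw [← Finset.sum_filter]
      simp [mul_comm]
    obtain ⟨k, hk⟩ := four_dvd_card hS
    rw [hsum, hk]
    push_cast
    omega
  · have : resSet (twoInd S) 0 = Sᶜ := by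
      ext i
      simp only [mem_resSet, Finset.mem_compl, twoInd]
      by_cases hi : i ∈ S
      · simp [hi]
      · simp [hi]
    rw [this]; exact compl_mem hS

/-- the vector `(-3, 1, ..., 1)` -/
def oddVec : GolayPt → ℤ := fun i => if i = none then -3 else 1

theorem oddVec_mem : oddVec ∈ leechLattice := by
  rw [mem_leechLattice_iff, mem_leechSet_iff]
  refine ⟨1, fun i => ?_, ?_, ?_⟩
  · unfold oddVec; split_ifs <;> rfl
  · decide
  · have : resSet oddVec 1 = Finset.univ := by
      ext i
      simp only [mem_resSet, Finset.mem_univ, iff_true, oddVec]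
      split_ifs <;> rfl
    rw [this]; exact univ_mem

theorem oddVec_mod (i : GolayPt) : oddVec i % 4 = 1 := by
  unfold oddVec; split_ifs <;> rfl

/-- structure of an element of `Co0` preserving the standard cross -/
theorem pres_structure (g : ↥Co0) (hg : Pres g) :
    ∃ σ ∈ M24, ∃ c ∈ 𝒢, ∀ v : ↥leechLattice, ((g • v : ↥leechLattice) : GolayPt → ℤ) = signedPerm σ c v.1 := by
  have hg' : ∀ i, ∃ (j : GolayPt) (a : ℤ), (a = 8 ∨ a = -8) ∧
      ((g • E i : ↥leechLattice) : GolayPt → ℤ) = Pi.single j a := fun i => hg (E i) (E_mem_stdCross i)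
  choose τ s hs hτ using hg'
  have hEinj : ∀ i j, (E i : ↥leechLattice) = E j → i = j := by
    intro i j h
    by_contra hne
    have := congrArg (fun v : ↥leechLattice => v.1 i) h
    simp only [E] at this
    rw [Pi.single_eq_same, Pi.single_eq_of_ne hne] at this
    omega
  have hEneg : ∀ i j, (E i : ↥leechLattice) ≠ -E j := by
    intro i j h
    have := congrArg (fun v : ↥leechLattice => v.1 i) h
    simp only [E] at this
    have h2 : ((-(⟨Pi.single j 8, single_mem j 8 (by decide)⟩ : ↥leechLattice) : ↥leechLattice) : GolayPt → ℤ) i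
        = -(Pi.single j 8 : GolayPt → ℤ) i := rfl
    rw [h2, Pi.single_eq_same] at this
    by_cases hij : i = j
    · subst hij; rw [Pi.single_eq_same] at this; omega
    · rw [Pi.single_eq_of_ne hij] at this; omega
  have hτinj : Function.Injective τ := by
    intro i j hij
    have hi := hτ i
    have hj := hτ j
    rw [hij] at hi
    rcases hs i with h1 | h1 <;> rcases hs j with h2 | h2
    · apply hEinj
      apply MulAction.injective g
      apply Subtype.ext
      rw [hi, hj, h1, h2]
    · exfalso
      apply hEneg i j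
      apply MulAction.injective g
      show g • E i = g • (-E j)
      rw [smul_neg_Co0]
      apply Subtype.ext
      rw [hi]
      show _ = -((g • E j : ↥leechLattice) : GolayPt → ℤ)
      rw [hj, h1, h2]
      funext k
      by_cases hk : k = τ j
      · subst hk; simp
      · simp [Pi.single_eq_of_ne hk]
    · exfalso
      apply hEneg i j
      apply MulAction.injective g
      show g • E i = g • (-E j)
      rw [smul_neg_Co0]
      apply Subtype.ext
      rw [hi]
      show _ = -((g • E j : ↥leechLattice) : GolayPt → ℤ)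
      rw [hj, h1, h2]
      funext k
      by_cases hk : k = τ j
      · subst hk; simp
      · simp [Pi.single_eq_of_ne hk]
    · apply hEinj
      apply MulAction.injective g
      apply Subtype.ext
      rw [hi, hj, h1, h2]
  have hτbij : Function.Bijective τ := Finite.injective_iff_bijective.mp hτinj
  obtain ⟨σ, hσ⟩ : ∃ σ : Equiv.Perm GolayPt, ∀ i, σ i = τ i := ⟨Equiv.ofBijective τ hτbij, fun _ => rfl⟩
  obtain ⟨c, hc⟩ : ∃ c : Finset GolayPt, c = Finset.univ.filter (fun k => s (σ.symm k) = -8) :=
    ⟨_, rfl⟩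
  have hact : ∀ v : ↥leechLattice, ((g • v : ↥leechLattice) : GolayPt → ℤ) = signedPerm σ c v.1 := by
    intro v
    funext k
    have h8 := eight_mul_apply g v k
    rw [Finset.sum_eq_single (σ.symm k)] at h8
    · rw [hτ (σ.symm k), ← hσ, Equiv.apply_symm_apply, Pi.single_eq_same] at h8
      unfold signedPerm
      by_cases hk : k ∈ c
      · simp only [hk, if_true]
        rw [hc, Finset.mem_filter] at hk
        rw [hk.2] at h8
        show (g • v : ↥leechLattice).1 k = _
        omega
      · simp only [hk, if_false]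
        have : s (σ.symm k) = 8 := by
          rcases hs (σ.symm k) with h | h
          · exact h
          · exfalso; apply hk; rw [hc, Finset.mem_filter]; exact ⟨Finset.mem_univ _, h⟩
        rw [this] at h8
        show (g • v : ↥leechLattice).1 k = _
        omega
    · intro b _ hb
      rw [hτ b, Pi.single_eq_of_ne, mul_zero]
      intro hk
      apply hb
      rw [hk, ← hσ, Equiv.symm_apply_apply]
    · intro h; exact absurd (Finset.mem_univ _) h
  have hσM : σ ∈ M24 := by
    apply mem_M24_of_forall
    intro S hS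
    have hmem : signedPerm σ c (twoInd S) ∈ leechLattice := by
      have := (g • (⟨twoInd S, twoInd_mem hS⟩ : ↥leechLattice) : ↥leechLattice).2
      rw [hact] at this
      exact this
    rw [mem_leechLattice_iff, mem_leechSet_iff] at hmem
    obtain ⟨m, h1, _, h3⟩ := hmem
    have hval : ∀ k, signedPerm σ c (twoInd S) k % 4 = if k ∈ σ • S then 2 else 0 := by
      intro k
      have hk : σ.symm k ∈ S ↔ k ∈ σ • S := by
        rw [← Finset.inv_smul_mem_iff]; rfl
      unfold signedPerm twoInd
      by_cases hkS : k ∈ σ • S <;> by_cases hkc : k ∈ c <;> simp [hkS, hkc, hk]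
    have hm : m % 2 = 0 := by
      have := h1 none
      have h4 := hval none
      split_ifs at h4 <;> omega
    have hm4 : m % 4 = 0 ∨ m % 4 = 2 := by omega
    rcases hm4 with hm4 | hm4
    · have : resSet (signedPerm σ c (twoInd S)) m = (σ • S)ᶜ := by
        ext k
        rw [mem_resSet, Finset.mem_compl, hval k, hm4]
        by_cases hkS : k ∈ σ • S <;> simp [hkS]
      rw [this] at h3
      have := compl_mem h3
      rwa [compl_compl] at this
    · have : resSet (signedPerm σ c (twoInd S)) m = σ • S := by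
        ext k
        rw [mem_resSet, hval k, hm4]
        by_cases hkS : k ∈ σ • S <;> simp [hkS]
      rw [this] at h3
      exact h3
  have hcG : c ∈ 𝒢 := by
    have hmem : signedPerm σ c oddVec ∈ leechLattice := by
      have := (g • (⟨oddVec, oddVec_mem⟩ : ↥leechLattice) : ↥leechLattice).2
      rw [hact] at this
      exact this
    rw [mem_leechLattice_iff, mem_leechSet_iff] at hmem
    obtain ⟨m, h1, _, h3⟩ := hmem
    have hval : ∀ k, signedPerm σ c oddVec k % 4 = if k ∈ c then 3 else 1 := by
      intro k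
      unfold signedPerm
      have := oddVec_mod (σ.symm k)
      by_cases hkc : k ∈ c
      · simp only [hkc, if_true]; omega
      · simp only [hkc, if_false]; exact this
    have hm : m % 2 = 1 := by
      have := h1 none
      have h4 := hval none
      split_ifs at h4 <;> omega
    have hm4 : m % 4 = 1 ∨ m % 4 = 3 := by omega
    rcases hm4 with hm4 | hm4
    · have : resSet (signedPerm σ c oddVec) m = cᶜ := by
        ext k
        rw [mem_resSet, Finset.mem_compl, hval k, hm4]
        by_cases hkc : k ∈ c <;> simp [hkc]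
      rw [this] at h3
      have := compl_mem h3
      rwa [compl_compl] at this
    · have : resSet (signedPerm σ c oddVec) m = c := by
        ext k
        rw [mem_resSet, hval k, hm4]
        by_cases hkc : k ∈ c <;> simp [hkc]
      rw [this] at h3
      exact h3
  exact ⟨σ, hσM, c, hcG, hact⟩

theorem signedPerm_single (σ : Equiv.Perm GolayPt) (c : Finset GolayPt) (i : GolayPt) (a : ℤ) :
    signedPerm σ c (Pi.single i a) = Pi.single (σ i) (if σ i ∈ c then -a else a) := by
  funext k
  unfold signedPerm
  by_cases hk : k = σ i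
  · subst hk
    rw [Equiv.symm_apply_apply, Pi.single_eq_same, Pi.single_eq_same]
  · have : σ.symm k ≠ i := by
      intro h; apply hk; rw [← h, Equiv.apply_symm_apply]
    rw [Pi.single_eq_of_ne this, Pi.single_eq_of_ne hk]
    simp

theorem monoCo_pres (σ : Equiv.Perm GolayPt) (hσ : σ ∈ M24) (c : Finset GolayPt) (hc : c ∈ 𝒢) :
    Pres (monoCo σ hσ c hc) := by
  intro v hv'
  obtain ⟨i, a, ha, hv⟩ := hv'
  rw [monoCo_smul, hv, signedPerm_single]
  refine ⟨σ i, _, ?_, rfl⟩
  split_ifs <;> rcases ha with rfl | rfl <;> simp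

theorem ncard_G : Nat.card ↥𝒢 = 4096 := by
  have h3 : Nat.card golayCode = 2 ^ 12 := by
    rw [Module.natCard_eq_pow_finrank (K := ZMod 2), finrank_golay]
    simp
  have : Nat.card ↥𝒢 = Nat.card golayCode := by
    symm
    apply Nat.card_congr
    refine Equiv.ofBijective (fun w => ⟨support₂ w.1, w.1, w.2, rfl⟩) ⟨?_, ?_⟩
    · intro a b hab
      apply Subtype.ext
      have := congrArg Subtype.val hab
      simp only at this
      rw [← ind_support₂ a.1, ← ind_support₂ b.1, this]
    · rintro ⟨S, w, hw, rfl⟩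
      exact ⟨⟨w, hw⟩, rfl⟩
  rw [this, h3]; norm_num

/-- The stabiliser of the standard cross in the automorphism group of the lattice is the monomial group of the code: each of its elements acts as a signed permutation with permutation part in the code's group and sign set a codeword, and it has order 4096 · 244823040. -/
theorem result : (∀ g : ↥Cfsg.Co0, (∀ v : ↥Cfsg.leechLattice, (v : Cfsg.GolayPt → ℤ) ∈ Cfsg.stdCross → ((g • v : ↥Cfsg.leechLattice) : Cfsg.GolayPt → ℤ) ∈ Cfsg.stdCross) → ∃ f ∈ Cfsg.golayMonomialMaps, ∀ v : ↥Cfsg.leechLattice, ((g • v : ↥Cfsg.leechLattice) : Cfsg.GolayPt → ℤ) = f (v : Cfsg.GolayPt → ℤ)) ∧ Nat.card {g : ↥Cfsg.Co0 // (∀ v : ↥Cfsg.leechLattice, (v : Cfsg.GolayPt → ℤ) ∈ Cfsg.stdCross → ((g • v : ↥Cfsg.leechLattice) : Cfsg.GolayPt → ℤ) ∈ Cfsg.stdCross)} = 4096 * 244823040 := by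
  constructor
  · intro g hg
    obtain ⟨σ, hσ, c, hc, hact⟩ := pres_structure g hg
    exact ⟨signedPerm σ c, ⟨σ, hσ, c, hc, rfl⟩, hact⟩
  · have hcard : Nat.card (↥M24 × ↥𝒢) = 4096 * 244823040 := by
      rw [Nat.card_prod, card_M24, ncard_G]
    rw [← hcard]
    symm
    apply Nat.card_congr
    refine Equiv.ofBijective (fun x => ⟨monoCo x.1.1 x.1.2 x.2.1 x.2.2, monoCo_pres _ _ _ _⟩) ⟨?_, ?_⟩
    · rintro ⟨⟨σ, hσ⟩, ⟨c, hc⟩⟩ ⟨⟨σ', hσ'⟩, ⟨c', hc'⟩⟩ h
      have h1 : monoCo σ hσ c hc = monoCo σ' hσ' c' hc' := congrArg Subtype.val h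
      have hE : ∀ i, (Pi.single (σ i) (if σ i ∈ c then -8 else 8) : GolayPt → ℤ)
          = Pi.single (σ' i) (if σ' i ∈ c' then -8 else 8) := by
        intro i
        have := congrArg (fun x : ↥Co0 => ((x • E i : ↥leechLattice) : GolayPt → ℤ)) h1
        simp only [monoCo_smul] at this
        have hEi : (E i : ↥leechLattice).1 = Pi.single i 8 := rfl
        rw [hEi, signedPerm_single, signedPerm_single] at this
        exact this
      have hσeq : ∀ i, σ i = σ' i := by
        intro i
        by_contra hne
        have := congrFun (hE i) (σ i)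
        rw [Pi.single_eq_same, Pi.single_eq_of_ne hne] at this
        split_ifs at this <;> omega
      have hσσ : σ = σ' := Equiv.ext hσeq
      subst hσσ
      have hcc : c = c' := by
        ext k
        have := congrFun (hE (σ.symm k)) k
        rw [Equiv.apply_symm_apply, Pi.single_eq_same, Pi.single_eq_same] at this
        by_cases h1 : k ∈ c <;> by_cases h2 : k ∈ c' <;> simp [h1, h2] at this ⊢
      subst hcc
      rfl
    · rintro ⟨g, hg⟩
      obtain ⟨σ, hσ, c, hc, hact⟩ := pres_structure g hg
      refine ⟨⟨⟨σ, hσ⟩, ⟨c, hc⟩⟩, ?_⟩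
      apply Subtype.ext
      apply Subtype.ext
      apply Equiv.ext
      intro v
      apply Subtype.ext
      show ((monoCo σ hσ c hc • v : ↥leechLattice) : GolayPt → ℤ) = ((g • v : ↥leechLattice) : GolayPt → ℤ)
      rw [monoCo_smul, hact]

end Cfsg.Agent.S1571
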