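import Cfsg.Statements.S1587
import Mathlib

set_option autoImplicit false
open Cfsg
open Matrix

namespace Cfsg.Agent.S1587

theorem bsymm {n : ℕ} (B : Matrix (Fin n) (Fin n) ℤ) (hsymm : B.IsSymm) (u v : Fin n → ℤ) :
    u ⬝ᵥ (B *ᵥ v) = v ⬝ᵥ (B *ᵥ u) := by
  rw [Matrix.dotProduct_mulVec, ← Matrix.mulVec_transpose, hsymm.eq, dotProduct_comm]

theorem result (B : Matrix (Fin 24) (Fin 24) ℤ) (hsymm : B.IsSymm) (hpos : ∀ x : Fin 24 → ℤ, x ≠ 0 → 0 < x ⬝ᵥ (B *ᵥ x)) (heven : ∀ x : Fin 24 → ℤ, (2 : ℤ) ∣ x ⬝ᵥ (B *ᵥ x)) (h2 : ∀ x : Fin 24 → ℤ, x ⬝ᵥ (B *ᵥ x) ≠ 2) (x y : Fin 24 → ℤ) (hx : x ⬝ᵥ (B *ᵥ x) = 8) (hy : y ⬝ᵥ (B *ᵥ y) = 8) (hc : ∀ i, (2 : ℤ) ∣ (x - y) i) : y = x ∨ y = -x ∨ x ⬝ᵥ (B *ᵥ y) = 0 := by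
  -- z with x - y = 2 z
  choose z hz using hc
  set w : Fin 24 → ℤ := y + z with hw
  have hxzw : x = w + z := by
    funext i
    have := hz i
    simp only [Pi.sub_apply] at this
    simp only [hw, Pi.add_apply]
    linarith
  have hyzw : y = w - z := by
    funext i
    simp only [hw, Pi.add_apply, Pi.sub_apply]
    ring
  have hzw : z ⬝ᵥ (B *ᵥ w) = w ⬝ᵥ (B *ᵥ z) := bsymm B hsymm z w
  -- expansions
  have ex : x ⬝ᵥ (B *ᵥ x) = w ⬝ᵥ (B *ᵥ w) + z ⬝ᵥ (B *ᵥ z) + 2 * (w ⬝ᵥ (B *ᵥ z)) := by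
    rw [hxzw]
    simp only [Matrix.mulVec_add, dotProduct_add, add_dotProduct]
    rw [hzw]; ring
  have ey : y ⬝ᵥ (B *ᵥ y) = w ⬝ᵥ (B *ᵥ w) + z ⬝ᵥ (B *ᵥ z) - 2 * (w ⬝ᵥ (B *ᵥ z)) := by
    rw [hyzw]
    simp only [Matrix.mulVec_sub, dotProduct_sub, sub_dotProduct]
    rw [hzw]; ring
  have exy : x ⬝ᵥ (B *ᵥ y) = w ⬝ᵥ (B *ᵥ w) - z ⬝ᵥ (B *ᵥ z) := by
    rw [hxzw, hyzw]
    simp only [Matrix.mulVec_sub, dotProduct_sub, add_dotProduct]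
    rw [hzw]; ring
  rw [hx] at ex
  rw [hy] at ey
  have hsum : w ⬝ᵥ (B *ᵥ w) + z ⬝ᵥ (B *ᵥ z) = 8 := by linarith
  obtain ⟨a, ha⟩ := heven z
  obtain ⟨b, hb⟩ := heven w
  have hza : 0 ≤ z ⬝ᵥ (B *ᵥ z) := by
    by_cases h : z = 0
    · rw [h]; simp
    · exact (hpos z h).le
  have hwb : 0 ≤ w ⬝ᵥ (B *ᵥ w) := by
    by_cases h : w = 0
    · rw [h]; simp
    · exact (hpos w h).le
  have h2z := h2 z
  have h2w := h2 w
  rw [ha] at hza h2z hsum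
  rw [hb] at hwb h2w hsum
  have ha0 : 0 ≤ a := by omega
  have hb0 : 0 ≤ b := by omega
  have hab : a + b = 4 := by omega
  have ha1 : a ≠ 1 := by omega
  have hb1 : b ≠ 1 := by omega
  have hcases : a = 0 ∨ b = 0 ∨ (a = 2 ∧ b = 2) := by omega
  rcases hcases with h | h | ⟨h, h'⟩
  · -- z = 0
    left
    have hz0 : z = 0 := by
      by_contra hne
      have := hpos z hne
      rw [ha, h] at this
      omega
    rw [hxzw, hyzw, hz0]; simp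
  · right; left
    have hw0 : w = 0 := by
      by_contra hne
      have := hpos w hne
      rw [hb, h] at this
      omega
    rw [hxzw, hyzw, hw0]; simp
  · right; right
    rw [exy, ha, hb, h, h']; ring

end Cfsg.Agent.S1587
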