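import Mathlib
import Cfsg.Statements.S1590
import Cfsg.Agent.Lib.Helper9_TernaryGolay

set_option autoImplicit false
open Cfsg

namespace Cfsg.Agent.S1590

open Cfsg.Agent.Helper9TG

theorem wts : ∀ c : T, encT c ≠ 0 → (ternarySupport (encT c)).card = 6 ∨
    (ternarySupport (encT c)).card = 9 ∨ (ternarySupport (encT c)).card = 12 := by
  decide +kernel

theorem result : Nat.card ↥Cfsg.ternaryGolayCode = 729 ∧ (∀ x ∈ Cfsg.ternaryGolayCode, x ≠ 0 → (Cfsg.ternarySupport x).card = 6 ∨ (Cfsg.ternarySupport x).card = 9 ∨ (Cfsg.ternarySupport x).card = 12) ∧ {x : Cfsg.ArrayPt → ZMod 3 | x ∈ Cfsg.ternaryGolayCode ∧ (Cfsg.ternarySupport x).card = 6}.ncard = 264 ∧ {x : Cfsg.ArrayPt → ZMod 3 | x ∈ Cfsg.ternaryGolayCode ∧ (Cfsg.ternarySupport x).card = 9}.ncard = 440 ∧ {x : Cfsg.ArrayPt → ZMod 3 | x ∈ Cfsg.ternaryGolayCode ∧ (Cfsg.ternarySupport x).card = 12}.ncard = 24 := by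
  refine ⟨card_code, ?_, ?_, ?_, ?_⟩
  · intro x hx hx0
    obtain ⟨c, rfl⟩ := (mem_iff x).mp hx
    exact wts c hx0
  · exact ncard_pred (fun x => (ternarySupport x).card = 6) 264 (by decide +kernel)
  · exact ncard_pred (fun x => (ternarySupport x).card = 9) 440 (by decide +kernel)
  · exact ncard_pred (fun x => (ternarySupport x).card = 12) 24 (by decide +kernel)

end Cfsg.Agent.S1590
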