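import Mathlib
import Cfsg.Statements.S1591
import Cfsg.Agent.Lib.Helper9_TernaryGolay

set_option autoImplicit false
open Cfsg

namespace Cfsg.Agent.S1591

open Cfsg.Agent.Helper9TG

def B0 : ArrayPt → ZMod 3 := encT (1, 0, 0, 0, 0, 0)
def B1 : ArrayPt → ZMod 3 := encT (0, 1, 0, 0, 0, 0)
def B2 : ArrayPt → ZMod 3 := encT (0, 0, 1, 0, 0, 0)
def B3 : ArrayPt → ZMod 3 := encT (0, 0, 0, 1, 0, 0)
def B4 : ArrayPt → ZMod 3 := encT (0, 0, 0, 0, 1, 0)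
def B5 : ArrayPt → ZMod 3 := encT (0, 0, 0, 0, 0, 1)

theorem encT_decomp : ∀ d : T, encT d = d.1 • B0 + d.2.1 • B1 + d.2.2.1 • B2 + d.2.2.2.1 • B3 +
    d.2.2.2.2.1 • B4 + d.2.2.2.2.2 • B5 := by
  decide +kernel

theorem ortho_basis : ∀ c : T, (∑ p, encT c p * B0 p = 0) ∧ (∑ p, encT c p * B1 p = 0) ∧
    (∑ p, encT c p * B2 p = 0) ∧ (∑ p, encT c p * B3 p = 0) ∧ (∑ p, encT c p * B4 p = 0) ∧
    (∑ p, encT c p * B5 p = 0) := by
  decide +kernel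

theorem ortho (c d : T) : ∑ p, encT c p * encT d p = 0 := by
  rw [encT_decomp d]
  simp only [Pi.add_apply, Pi.smul_apply, smul_eq_mul, mul_add, Finset.sum_add_distrib]
  have key : ∀ (a : ZMod 3) (B : ArrayPt → ZMod 3),
      ∑ p, encT c p * (a * B p) = a * ∑ p, encT c p * B p := by
    intro a B
    rw [Finset.mul_sum]
    exact Finset.sum_congr rfl (fun p _ => by ring)
  simp only [key]
  obtain ⟨h0, h1, h2, h3, h4, h5⟩ := ortho_basis c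
  rw [h0, h1, h2, h3, h4, h5]
  simp

theorem result (x y : Cfsg.ArrayPt → ZMod 3) (hx : x ∈ Cfsg.ternaryGolayCode) (hy : y ∈ Cfsg.ternaryGolayCode) : ∑ p, x p * y p = 0 := by
  obtain ⟨c, rfl⟩ := (mem_iff x).mp hx
  obtain ⟨d, rfl⟩ := (mem_iff y).mp hy
  exact ortho c d

end Cfsg.Agent.S1591
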