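import Mathlib
import Cfsg.Statements.S1592
import Cfsg.Agent.Lib.Helper9_TernaryGolayHex

set_option autoImplicit false
open Cfsg

namespace Cfsg.Agent.S1592

open Cfsg.Agent.Helper9TG Cfsg.Agent.Helper9TGHex

theorem mem_hexF {h : Finset ArrayPt} :
    h ∈ hexF ↔ ∃ c : T, (ternarySupport (encT c)).card = 6 ∧ ternarySupport (encT c) = h := by
  simp [hexF]

theorem hexF_six {h : Finset ArrayPt} (hh : h ∈ hexF) : h.card = 6 := by
  obtain ⟨c, hc, rfl⟩ := mem_hexF.mp hh
  exact hc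

theorem hexF_inter {h h' : Finset ArrayPt} (hh : h ∈ hexF) (hh' : h' ∈ hexF) (hne : h ≠ h') :
    (h ∩ h').card ≤ 4 := by
  obtain ⟨c, hc, rfl⟩ := mem_hexF.mp hh
  obtain ⟨d, hd, rfl⟩ := mem_hexF.mp hh'
  exact inter_T c d hc hd hne

theorem cover_gen (H : Finset (Finset ArrayPt)) (hH : H.card = 132)
    (h6 : ∀ h ∈ H, h.card = 6)
    (hint : ∀ h ∈ H, ∀ h' ∈ H, h ≠ h' → (h ∩ h').card ≤ 4)
    (s : Finset ArrayPt) (hs : s.card = 5) : ∃ h ∈ H, s ⊆ h := by
  classical
  have hdisj : ∀ h ∈ H, ∀ h' ∈ H, h ≠ h' →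
      Disjoint (h.powersetCard 5) (h'.powersetCard 5) := by
    intro h hh h' hh' hne
    rw [Finset.disjoint_left]
    intro t ht ht'
    rw [Finset.mem_powersetCard] at ht ht'
    have h1 : t ⊆ h ∩ h' := Finset.subset_inter ht.1 ht'.1
    have h2 := Finset.card_le_card h1
    have h3 := hint h hh h' hh' hne
    omega
  have hU : (H.biUnion (fun h => h.powersetCard 5)).card = 792 := by
    rw [Finset.card_biUnion hdisj]
    have : ∀ h ∈ H, (h.powersetCard 5).card = 6 := by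
      intro h hh
      rw [Finset.card_powersetCard, h6 h hh]
      decide
    rw [Finset.sum_congr rfl this, Finset.sum_const, hH]
    norm_num
  have hsub : H.biUnion (fun h => h.powersetCard 5) ⊆
      (Finset.univ : Finset ArrayPt).powersetCard 5 := by
    intro t ht
    obtain ⟨h, _, hth⟩ := Finset.mem_biUnion.mp ht
    rw [Finset.mem_powersetCard] at hth ⊢
    exact ⟨Finset.subset_univ _, hth.2⟩
  have hcard : ((Finset.univ : Finset ArrayPt).powersetCard 5).card = 792 := by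
    rw [Finset.card_powersetCard, Finset.card_univ]
    have : Fintype.card ArrayPt = 12 := by simp [ArrayPt]
    rw [this]
    decide +kernel
  have hUeq : H.biUnion (fun h => h.powersetCard 5) =
      (Finset.univ : Finset ArrayPt).powersetCard 5 :=
    Finset.eq_of_subset_of_card_le hsub (by rw [hU, hcard])
  have hsU : s ∈ H.biUnion (fun h => h.powersetCard 5) := by
    rw [hUeq, Finset.mem_powersetCard]
    exact ⟨Finset.subset_univ _, hs⟩
  obtain ⟨h, hh, hsh⟩ := Finset.mem_biUnion.mp hsU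
  exact ⟨h, hh, (Finset.mem_powersetCard.mp hsh).1⟩

theorem cover (s : Finset ArrayPt) (hs : s.card = 5) : ∃ h ∈ hexF, s ⊆ h :=
  cover_gen hexF hexF_card (fun _ hh => hexF_six hh)
    (fun _ hh _ hh' hne => hexF_inter hh hh' hne) s hs

theorem set_eq : {h : Finset Cfsg.ArrayPt | ∃ x ∈ Cfsg.ternaryGolayCode,
    Cfsg.ternarySupport x = h ∧ h.card = 6} = (↑hexF : Set (Finset ArrayPt)) := by
  ext h
  simp only [Set.mem_ofPred_eq, Finset.mem_coe, mem_hexF]
  constructor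
  · rintro ⟨x, hx, rfl, h6⟩
    obtain ⟨c, rfl⟩ := (mem_iff x).mp hx
    exact ⟨c, h6, rfl⟩
  · rintro ⟨c, hc, rfl⟩
    exact ⟨encT c, encT_mem c, rfl, hc⟩

theorem result : Cfsg.IsSteinerSystem 5 6 {h : Finset Cfsg.ArrayPt | ∃ x ∈ Cfsg.ternaryGolayCode, Cfsg.ternarySupport x = h ∧ h.card = 6} ∧ {h : Finset Cfsg.ArrayPt | ∃ x ∈ Cfsg.ternaryGolayCode, Cfsg.ternarySupport x = h ∧ h.card = 6}.ncard = 132 := by
  rw [set_eq]
  refine ⟨⟨fun b hb => hexF_six hb, fun s hs => ?_⟩, ?_⟩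
  · obtain ⟨h, hh, hsh⟩ := cover s hs
    refine ⟨h, ⟨hh, hsh⟩, ?_⟩
    rintro h' ⟨hh', hsh'⟩
    by_contra hne
    have h1 : s ⊆ h' ∩ h := Finset.subset_inter hsh' hsh
    have h2 := Finset.card_le_card h1
    have h3 := hexF_inter hh' hh hne
    omega
  · rw [Set.ncard_coe_finset, hexF_card]

end Cfsg.Agent.S1592
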