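import Mathlib
import Cfsg.Statements.S1593
import Cfsg.Agent.Lib.Helper9_TernaryGolay

set_option autoImplicit false
open Cfsg

namespace Cfsg.Agent.S1593

open Cfsg.Agent.Helper9TG

def unitT : Fin 6 → T :=
  ![(1, 0, 0, 0, 0, 0), (0, 1, 0, 0, 0, 0), (0, 0, 1, 0, 0, 0), (0, 0, 0, 1, 0, 0),
    (0, 0, 0, 0, 1, 0), (0, 0, 0, 0, 0, 1)]

def posT : Fin 6 → ArrayPt := ![(0, 0), (0, 1), (0, 2), (1, 0), (1, 1), (2, 0)]

def projT (j : Fin 6) (b : T) : ZMod 3 :=
  ![b.1, b.2.1, b.2.2.1, b.2.2.2.1, b.2.2.2.2.1, b.2.2.2.2.2] j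

def scaleT (b c : T) : T :=
  (b.1 * c.1, b.2.1 * c.2.1, b.2.2.1 * c.2.2.1, b.2.2.2.1 * c.2.2.2.1,
    b.2.2.2.2.1 * c.2.2.2.2.1, b.2.2.2.2.2 * c.2.2.2.2.2)

set_option maxRecDepth 100000 in
theorem rows : ∀ (j : Fin 6) (p : ArrayPt) (a : ZMod 3) (b : T),
    a * encT (unitT j) p = encT (scaleT b (unitT j)) p → encT (unitT j) p ≠ 0 →
      a = projT j b := by
  decide +kernel

theorem covered : ∀ p : ArrayPt, ∃ j : Fin 6, encT (unitT j) p ≠ 0 := by
  decide +kernel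

theorem at12 : ∀ j : Fin 6, j ≠ 5 → encT (unitT j) (1, 2) ≠ 0 := by
  decide +kernel

theorem at22 : encT (unitT 0) (2, 2) ≠ 0 ∧ encT (unitT 5) (2, 2) ≠ 0 := by
  decide +kernel

theorem info_scale (e : ArrayPt → ZMod 3) (j : Fin 6) :
    info (fun p => e p * encT (unitT j) p) = scaleT (info e) (unitT j) := by
  fin_cases j <;> rfl

theorem proj_info (e : ArrayPt → ZMod 3) (j : Fin 6) : projT j (info e) = e (posT j) := by
  fin_cases j <;> rfl

theorem conn (e : ArrayPt → ZMod 3)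
    (hmem : ∀ x ∈ ternaryGolayCode, (fun p => e p * x p) ∈ ternaryGolayCode)
    (j : Fin 6) (p : ArrayPt) (hp : encT (unitT j) p ≠ 0) : e p = e (posT j) := by
  have h1 := eq_encT_of_mem (hmem _ (encT_mem (unitT j)))
  have h2 := congrFun h1 p
  rw [info_scale e j] at h2
  have h4 := rows j p (e p) (info e) h2 hp
  rw [h4, proj_info]

theorem all_eq (e : ArrayPt → ZMod 3)
    (hmem : ∀ x ∈ ternaryGolayCode, (fun p => e p * x p) ∈ ternaryGolayCode) :
    ∀ p, e p = e (0, 0) := by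
  have hinfo : ∀ j : Fin 6, e (posT j) = e (0, 0) := by
    intro j
    by_cases hj : j = 5
    · subst hj
      have h1 := conn e hmem 0 (2, 2) at22.1
      have h2 := conn e hmem 5 (2, 2) at22.2
      rw [← h2, h1]; rfl
    · have h1 := conn e hmem j (1, 2) (at12 j hj)
      have h2 := conn e hmem 0 (1, 2) (at12 0 (by decide))
      rw [← h1, h2]; rfl
  intro p
  obtain ⟨j, hj⟩ := covered p
  rw [conn e hmem j p hj, hinfo j]

theorem result (c : Cfsg.ArrayPt → (ZMod 3)ˣ) (h : (∀ x ∈ Cfsg.ternaryGolayCode, Cfsg.monomialMap 1 c x ∈ Cfsg.ternaryGolayCode)) : (∀ p, c p = 1) ∨ (∀ p, c p = -1) := by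
  have hmem : ∀ x ∈ ternaryGolayCode,
      (fun p => ((c p : (ZMod 3)ˣ) : ZMod 3) * x p) ∈ ternaryGolayCode := by
    intro x hx
    have := h x hx
    have e : Cfsg.monomialMap 1 c x = fun p => ((c p : (ZMod 3)ˣ) : ZMod 3) * x p := by
      funext p
      rfl
    rwa [e] at this
  have hall := all_eq (fun p => ((c p : (ZMod 3)ˣ) : ZMod 3)) hmem
  have hval : ∀ a : ZMod 3, a ≠ 0 → a = 1 ∨ a = -1 := by decide
  rcases hval _ (c (0, 0)).ne_zero with h1 | h1
  · left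
    intro p
    apply Units.ext
    have := hall p
    rw [this, h1]; rfl
  · right
    intro p
    apply Units.ext
    have := hall p
    rw [this, h1]; simp

end Cfsg.Agent.S1593
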