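import Mathlib
import Cfsg.Statements.S1595
import Cfsg.Agent.Lib.Helper1_Steiner

set_option autoImplicit false
open Cfsg

namespace Cfsg.Agent.S1595

open Finset Cfsg.Agent.Lib.Helper1_Steiner

section

variable {α : Type*} [Fintype α] [DecidableEq α]

/-- The blocks meeting `b` exactly in `u`. -/
noncomputable def M (B : Set (Finset α)) (b u : Finset α) : Finset (Finset α) :=
  (blocks B).filter (fun c => b ∩ c = u)

theorem lam_eq_sum (B : Set (Finset α)) (b s : Finset α) (hs : s ⊆ b) :
    lam B s = ∑ u ∈ (b.powerset).filter (fun u => s ⊆ u), (M B b u).card := by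
  unfold lam
  rw [Finset.card_eq_sum_card_fiberwise (f := fun c => b ∩ c)
    (t := (b.powerset).filter (fun u => s ⊆ u))]
  · apply Finset.sum_congr rfl
    intro u hu
    rw [mem_filter, mem_powerset] at hu
    congr 1
    ext c
    simp only [M, mem_filter]
    constructor
    · rintro ⟨⟨hc, _⟩, hcu⟩
      exact ⟨hc, hcu⟩
    · rintro ⟨hc, hcu⟩
      refine ⟨⟨hc, ?_⟩, hcu⟩
      have h1 : u ⊆ c := by rw [← hcu]; exact inter_subset_right
      exact hu.2.trans h1
  · intro c hc
    have hc' : c ∈ (blocks B).filter (fun b => s ⊆ b) := hc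
    show b ∩ c ∈ (b.powerset).filter (fun u => s ⊆ u)
    rw [mem_filter] at hc'
    rw [mem_filter, mem_powerset]
    exact ⟨inter_subset_left, subset_inter hs hc'.2⟩

omit [Fintype α] in
theorem strat (b s : Finset α) (hs : s ⊆ b) (hb : b.card = 6) (j : ℕ) (hj : s.card = j)
    (h : Finset α → ℕ) (g : ℕ → ℕ)
    (hg : ∀ u, s ⊆ u → u ⊆ b → u ≠ s → h u = g u.card) :
    ∑ u ∈ (b.powerset).filter (fun u => s ⊆ u), h u =
      h s + ∑ i ∈ Finset.Ioc j 6, (6 - j).choose (i - j) * g i := by
  obtain ⟨P, hP⟩ : ∃ P, P = (b.powerset).filter (fun u => s ⊆ u) := ⟨_, rfl⟩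
  rw [← hP]
  have hsP : s ∈ P := by rw [hP, mem_filter, mem_powerset]; exact ⟨hs, subset_rfl⟩
  rw [← Finset.add_sum_erase P h hsP]
  congr 1
  have hmaps : ∀ u ∈ P.erase s, u.card ∈ Finset.Ioc j 6 := by
    intro u hu
    rw [mem_erase, hP, mem_filter, mem_powerset] at hu
    obtain ⟨hne, hub, hsu⟩ := hu
    rw [Finset.mem_Ioc]
    constructor
    · rw [← hj]
      exact Finset.card_lt_card (Finset.ssubset_iff_subset_ne.mpr ⟨hsu, fun e => hne e.symm⟩)
    · rw [← hb]; exact Finset.card_le_card hub
  rw [← Finset.sum_fiberwise_of_maps_to hmaps]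
  apply Finset.sum_congr rfl
  intro i hi
  rw [Finset.mem_Ioc] at hi
  have hfil : (P.erase s).filter (fun u => u.card = i) =
      (b.powersetCard i).filter (fun u => s ⊆ u) := by
    ext u
    simp only [hP, mem_filter, mem_erase, mem_powerset, mem_powersetCard]
    constructor
    · rintro ⟨⟨_, hub, hsu⟩, hui⟩
      exact ⟨⟨hub, hui⟩, hsu⟩
    · rintro ⟨⟨hub, hui⟩, hsu⟩
      refine ⟨⟨?_, hub, hsu⟩, hui⟩
      intro e
      rw [e, hj] at hui
      omega
  have hval : ∀ u ∈ (P.erase s).filter (fun u => u.card = i), h u = g i := by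
    intro u hu
    rw [mem_filter, mem_erase, hP, mem_filter, mem_powerset] at hu
    obtain ⟨⟨hne, hub, hsu⟩, hui⟩ := hu
    rw [hg u hsu hub hne, hui]
  rw [Finset.sum_congr rfl hval, Finset.sum_const, smul_eq_mul, hfil,
    card_filter_powersetCard_subset s b i hs (by omega), hb, hj]

end

/-- The intersection numbers of `S(5,6,12)` by size of the intersection. -/
def g (i : ℕ) : ℕ :=
  if i = 6 then 1 else if i = 4 then 3 else if i = 3 then 2 else if i = 2 then 3 else 0

theorem e4 : ∑ i ∈ Finset.Ioc 4 6, (6 - 4).choose (i - 4) * g i = 1 := by decide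
theorem e3 : ∑ i ∈ Finset.Ioc 3 6, (6 - 3).choose (i - 3) * g i = 10 := by decide
theorem e2 : ∑ i ∈ Finset.Ioc 2 6, (6 - 2).choose (i - 2) * g i = 27 := by decide
theorem e1 : ∑ i ∈ Finset.Ioc 1 6, (6 - 1).choose (i - 1) * g i = 66 := by decide

/-- In a Steiner system S(5,6,12), a block other than a given block b meets b in 0, 2, 3 or 4 points; moreover each 2-subset of b is the exact intersection of b with 3 blocks, each 3-subset with 2 blocks, and each 4-subset with 3 blocks. -/
theorem result {α : Type*} [Fintype α] [DecidableEq α] (hα : Fintype.card α = 12) {B : Set (Finset α)} (hB : Cfsg.IsSteinerSystem 5 6 B) (b : Finset α) (hb : b ∈ B) : (∀ c ∈ B, c ≠ b → (b ∩ c).card = 0 ∨ (b ∩ c).card = 2 ∨ (b ∩ c).card = 3 ∨ (b ∩ c).card = 4) ∧ ∀ s ⊆ b, (s.card = 2 → {c : Finset α | c ∈ B ∧ b ∩ c = s}.ncard = 3) ∧ (s.card = 3 → {c : Finset α | c ∈ B ∧ b ∩ c = s}.ncard = 2) ∧ (s.card = 4 → {c : Finset α | c ∈ B ∧ b ∩ c = s}.ncard = 3) := by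
  classical
  have hcard : ∀ c ∈ B, c.card = 6 := hB.1
  have hb6 : b.card = 6 := hB.1 b hb
  have l4 : ∀ s : Finset α, s.card = 4 → lam B s = 4 := by
    intro s h4
    have h := lam_mul hB s (by omega)
    rw [hα, h4] at h
    have q1 : (6 - 4).choose (5 - 4) = 2 := by decide
    have q2 : (12 - 4).choose (5 - 4) = 8 := by decide
    rw [q1, q2] at h
    omega
  have l3 : ∀ s : Finset α, s.card = 3 → lam B s = 12 := by
    intro s h3
    have h := lam_mul hB s (by omega)
    rw [hα, h3] at h
    have q1 : (6 - 3).choose (5 - 3) = 3 := by decide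
    have q2 : (12 - 3).choose (5 - 3) = 36 := by decide
    rw [q1, q2] at h
    omega
  have l2 : ∀ s : Finset α, s.card = 2 → lam B s = 30 := by
    intro s h2
    have h := lam_mul hB s (by omega)
    rw [hα, h2] at h
    have q1 : (6 - 2).choose (5 - 2) = 4 := by decide
    have q2 : (12 - 2).choose (5 - 2) = 120 := by decide
    rw [q1, q2] at h
    omega
  have l1 : ∀ s : Finset α, s.card = 1 → lam B s = 66 := by
    intro s h1
    have h := lam_mul hB s (by omega)
    rw [hα, h1] at h
    have q1 : (6 - 1).choose (5 - 1) = 5 := by decide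
    have q2 : (12 - 1).choose (5 - 1) = 330 := by decide
    rw [q1, q2] at h
    omega
  have m6 : (M B b b).card = 1 := by
    rw [card_eq_one]
    refine ⟨b, ?_⟩
    ext c
    simp only [M, mem_filter, mem_singleton, mem_blocks]
    constructor
    · rintro ⟨hc, hbc⟩
      have hsub : b ⊆ c := Finset.inter_eq_left.mp hbc
      exact (Finset.eq_of_subset_of_card_le hsub (by rw [hcard c hc, hb6])).symm
    · rintro rfl
      exact ⟨hb, inter_self _⟩
  have m5 : ∀ u : Finset α, u.card = 5 → (M B b u).card = 0 := by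
    intro u hu
    by_contra hne
    obtain ⟨c, hc⟩ := Finset.card_pos.mp (Nat.pos_of_ne_zero hne)
    rw [M, mem_filter, mem_blocks] at hc
    by_cases hcb : c = b
    · rw [hcb, inter_self] at hc
      rw [← hc.2, hb6] at hu
      omega
    · have h1 := inter_card_lt hB hb hc.1 hcb
      rw [hc.2, hu] at h1
      omega
  have key : ∀ (j : ℕ) (s : Finset α), s ⊆ b → s.card = j →
      (∀ u, s ⊆ u → u ⊆ b → u ≠ s → (M B b u).card = g u.card) →
      lam B s = (M B b s).card + ∑ i ∈ Finset.Ioc j 6, (6 - j).choose (i - j) * g i := by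
    intro j s hs hj hg
    rw [lam_eq_sum B b s hs]
    exact strat b s hs hb6 j hj (fun u => (M B b u).card) g hg
  have valid : ∀ (j : ℕ),
      (∀ i, j < i → i ≤ 4 → ∀ u : Finset α, u ⊆ b → u.card = i → (M B b u).card = g i) →
      ∀ s u : Finset α, s.card = j → s ⊆ u → u ⊆ b → u ≠ s → (M B b u).card = g u.card := by
    intro j hlev s u hj hsu hub hne
    have h1 : j < u.card := by
      rw [← hj]
      exact Finset.card_lt_card (Finset.ssubset_iff_subset_ne.mpr ⟨hsu, fun e => hne e.symm⟩)
    have h2 : u.card ≤ 6 := by rw [← hb6]; exact Finset.card_le_card hub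
    by_cases h6 : u.card = 6
    · have hub' : u = b := Finset.eq_of_subset_of_card_le hub (by rw [hb6, h6])
      rw [h6, hub', m6]; rfl
    · by_cases h5 : u.card = 5
      · rw [h5, m5 u h5]; rfl
      · exact hlev u.card h1 (by omega) u hub rfl
  have L4 : ∀ s : Finset α, s ⊆ b → s.card = 4 → (M B b s).card = 3 := by
    intro s hs h4
    have h := key 4 s hs h4 (fun u hsu hub hne =>
      valid 4 (fun i hi hi' => by omega) s u h4 hsu hub hne)
    rw [l4 s h4, e4] at h
    omega
  have L3 : ∀ s : Finset α, s ⊆ b → s.card = 3 → (M B b s).card = 2 := by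
    intro s hs h3
    have h := key 3 s hs h3 (fun u hsu hub hne =>
      valid 3 (fun i hi hi' u' hub' hui => by
        have hi4 : i = 4 := by omega
        subst hi4
        rw [L4 u' hub' hui]; rfl) s u h3 hsu hub hne)
    rw [l3 s h3, e3] at h
    omega
  have L2 : ∀ s : Finset α, s ⊆ b → s.card = 2 → (M B b s).card = 3 := by
    intro s hs h2
    have h := key 2 s hs h2 (fun u hsu hub hne =>
      valid 2 (fun i hi hi' u' hub' hui => by
        have hi34 : i = 3 ∨ i = 4 := by omega
        rcases hi34 with rfl | rfl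
        · rw [L3 u' hub' hui]; rfl
        · rw [L4 u' hub' hui]; rfl) s u h2 hsu hub hne)
    rw [l2 s h2, e2] at h
    omega
  have L1 : ∀ s : Finset α, s ⊆ b → s.card = 1 → (M B b s).card = 0 := by
    intro s hs h1
    have h := key 1 s hs h1 (fun u hsu hub hne =>
      valid 1 (fun i hi hi' u' hub' hui => by
        have hi234 : i = 2 ∨ i = 3 ∨ i = 4 := by omega
        rcases hi234 with rfl | rfl | rfl
        · rw [L2 u' hub' hui]; rfl
        · rw [L3 u' hub' hui]; rfl
        · rw [L4 u' hub' hui]; rfl) s u h1 hsu hub hne)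
    rw [l1 s h1, e1] at h
    omega
  have hset : ∀ s : Finset α, {c : Finset α | c ∈ B ∧ b ∩ c = s} = ↑(M B b s) := by
    intro s
    ext c
    simp [M, mem_blocks]
  refine ⟨?_, ?_⟩
  · intro c hc hcb
    have h5 : (b ∩ c).card < 5 := inter_card_lt hB hb hc hcb
    have h1 : (b ∩ c).card ≠ 1 := by
      intro h1
      have h0 := L1 (b ∩ c) inter_subset_left h1
      have hmem : c ∈ M B b (b ∩ c) := by
        rw [M, mem_filter, mem_blocks]
        exact ⟨hc, rfl⟩
      rw [Finset.card_eq_zero] at h0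
      rw [h0] at hmem
      exact absurd hmem (Finset.notMem_empty c)
    omega
  · intro s hs
    refine ⟨?_, ?_, ?_⟩
    · intro h2
      rw [hset, Set.ncard_coe_finset]
      exact L2 s hs h2
    · intro h3
      rw [hset, Set.ncard_coe_finset]
      exact L3 s hs h3
    · intro h4
      rw [hset, Set.ncard_coe_finset]
      exact L4 s hs h4

end Cfsg.Agent.S1595
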