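import Cfsg.Statements.S1596
import Cfsg.Agent.Lib.Helper8_Quartet

set_option autoImplicit false
open scoped Pointwise
open Cfsg

namespace Cfsg.Agent.S1596

open Cfsg.Agent.H8Quartet

set_option maxHeartbeats 4000000 in
/-- A quartet of a dodecad is determined by any two of its triples: two disjoint triples uniting to a hexad extend to exactly one quartet. -/
theorem result (d : Finset Cfsg.GolayPt) (hd : d ∈ Cfsg.dodecads) (t u : Finset Cfsg.GolayPt) (ht : t.card = 3) (hu : u.card = 3) (htu : Disjoint t u) (hh : t ∪ u ∈ Cfsg.hexadsOn d) : ∃! Q : Finset (Finset Cfsg.GolayPt), Q ∈ Cfsg.quartets d ∧ t ∈ Q ∧ u ∈ Q := by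
  classical
  obtain ⟨v, hvs, hv3, htv⟩ := exists_third hd ht hu htu hh
  have hsub : t ∪ u ⊆ d := by
    obtain ⟨-, o, -, hod⟩ := hh
    rw [← hod]; exact Finset.inter_subset_right
  have h6 : (t ∪ u).card = 6 := hh.1
  have hc' : (d \ (t ∪ u)).card = 6 := by rw [Finset.card_sdiff_of_subset hsub, hd.2, h6]
  have hw3 : ((d \ (t ∪ u)) \ v).card = 3 := by
    rw [Finset.card_sdiff_of_subset hvs, hc', hv3]
  generalize hw : (d \ (t ∪ u)) \ v = w at hw3
  have dtu : ∀ x, x ∈ t → x ∉ u := fun x hx => Finset.disjoint_left.mp htu hx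
  have dv : ∀ x, x ∈ v → x ∈ d ∧ x ∉ t ∧ x ∉ u := by
    intro x hx
    have := hvs hx
    rw [Finset.mem_sdiff, Finset.mem_union] at this
    tauto
  have dw : ∀ x, x ∈ w ↔ x ∈ d ∧ x ∉ t ∧ x ∉ u ∧ x ∉ v := by
    intro x
    rw [← hw, Finset.mem_sdiff, Finset.mem_sdiff, Finset.mem_union]
    tauto
  have htd : ∀ x, x ∈ t → x ∈ d := fun x hx => hsub (Finset.mem_union_left _ hx)
  have hud : ∀ x, x ∈ u → x ∈ d := fun x hx => hsub (Finset.mem_union_right _ hx)
  have Hvw : v ∪ w ∈ hexadsOn d := by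
    have := hexad_compl hd hh
    convert this using 1
    ext x
    simp only [Finset.mem_union, Finset.mem_sdiff]
    have := dv x; have := dw x
    tauto
  have Huw : u ∪ w ∈ hexadsOn d := by
    have := hexad_compl hd htv
    convert this using 1
    ext x
    simp only [Finset.mem_union, Finset.mem_sdiff]
    have := dv x; have := dw x; have := dtu x; have := htd x; have := hud x
    tauto
  have Huv : u ∪ v ∈ hexadsOn d := by
    have h3 : ((t ∪ u) ∩ (t ∪ v)).card = 3 := by
      have : (t ∪ u) ∩ (t ∪ v) = t := by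
        ext x
        simp only [Finset.mem_inter, Finset.mem_union]
        have := dv x; have := dtu x
        tauto
      rw [this, ht]
    have := hexad_symmDiff hd hh htv h3
    convert this using 1
    ext x
    simp only [Finset.mem_symmDiff, Finset.mem_union]
    have := dv x; have := dtu x
    tauto
  have Htw : t ∪ w ∈ hexadsOn d := by
    have := hexad_compl hd Huv
    convert this using 1
    ext x
    simp only [Finset.mem_union, Finset.mem_sdiff]
    rw [dw x]
    have h1 := dv x; have h3 := dtu x; have h4 := htd x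
    clear * - h1 h3 h4
    by_cases ha : x ∈ t <;> by_cases hb : x ∈ u <;> by_cases hc : x ∈ v <;>
      by_cases hdd : x ∈ d <;> simp_all
  have Hut : u ∪ t ∈ hexadsOn d := by rw [Finset.union_comm]; exact hh
  have Hvt : v ∪ t ∈ hexadsOn d := by rw [Finset.union_comm]; exact htv
  have Hwv : w ∪ v ∈ hexadsOn d := by rw [Finset.union_comm]; exact Hvw
  have Hwu : w ∪ u ∈ hexadsOn d := by rw [Finset.union_comm]; exact Huw
  have Hvu : v ∪ u ∈ hexadsOn d := by rw [Finset.union_comm]; exact Huv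
  have Hwt : w ∪ t ∈ hexadsOn d := by rw [Finset.union_comm]; exact Htw
  have ntu : t ≠ u := ne_of_disj dtu ht
  have ntv : t ≠ v := ne_of_disj (fun x hx hxv => (dv x hxv).2.1 hx) ht
  have ntw : t ≠ w := ne_of_disj (fun x hx hxw => ((dw x).mp hxw).2.1 hx) ht
  have nuv : u ≠ v := ne_of_disj (fun x hx hxv => (dv x hxv).2.2 hx) hu
  have nuw : u ≠ w := ne_of_disj (fun x hx hxw => ((dw x).mp hxw).2.2.1 hx) hu
  have nvw : v ≠ w := ne_of_disj (fun x hx hxw => ((dw x).mp hxw).2.2.2 hx) hv3
  have hQ4 : ({t, u, v, w} : Finset (Finset Cfsg.GolayPt)).card = 4 := by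
    rw [Finset.card_insert_of_notMem, Finset.card_insert_of_notMem,
      Finset.card_insert_of_notMem, Finset.card_singleton]
    · simpa using nvw
    · simp only [Finset.mem_insert, Finset.mem_singleton, not_or]; exact ⟨nuv, nuw⟩
    · simp only [Finset.mem_insert, Finset.mem_singleton, not_or]; exact ⟨ntu, ntv, ntw⟩
  refine ⟨{t, u, v, w}, ⟨⟨hQ4, ?_, ?_⟩, by simp, by simp⟩, ?_⟩
  · intro a ha
    simp only [Finset.mem_insert, Finset.mem_singleton] at ha
    rcases ha with ha | ha | ha | ha <;> rw [ha]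
    · exact ⟨ht, fun x hx => htd x hx⟩
    · exact ⟨hu, fun x hx => hud x hx⟩
    · exact ⟨hv3, fun x hx => (dv x hx).1⟩
    · exact ⟨hw3, fun x hx => ((dw x).mp hx).1⟩
  · intro a ha b hb hne
    simp only [Finset.mem_insert, Finset.mem_singleton] at ha hb
    rcases ha with ha | ha | ha | ha <;> rcases hb with hb | hb | hb | hb <;>
      rw [ha, hb] at hne ⊢ <;> first | exact absurd rfl hne | assumption
  · rintro Q' ⟨⟨hQ'4, hQ'3, hQ'p⟩, htQ, huQ⟩
    -- pairwise disjointness in Q'
    have hdisjQ : ∀ a ∈ Q', ∀ b ∈ Q', a ≠ b → ∀ x, x ∈ a → x ∉ b := by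
      intro a ha b hb hab
      have h1 := (hQ'p a ha b hb hab).1
      have h2 : (a ∪ b).card = a.card + b.card := by rw [h1, (hQ'3 a ha).1, (hQ'3 b hb).1]
      rw [Finset.card_union_eq_card_add_card] at h2
      exact fun x hx => Finset.disjoint_left.mp h2 hx
    have hR2 : ((Q'.erase t).erase u).card = 2 := by
      rw [Finset.card_erase_of_mem (Finset.mem_erase.mpr ⟨ntu.symm, huQ⟩),
        Finset.card_erase_of_mem htQ, hQ'4]
    obtain ⟨v', w', hv'w', hR⟩ := Finset.card_eq_two.mp hR2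
    have hv'R : v' ∈ (Q'.erase t).erase u := by rw [hR]; simp
    have hw'R : w' ∈ (Q'.erase t).erase u := by rw [hR]; simp
    simp only [Finset.mem_erase] at hv'R hw'R
    obtain ⟨hv'u, hv't, hv'Q⟩ := hv'R
    obtain ⟨hw'u, hw't, hw'Q⟩ := hw'R
    -- facts on v', w'
    have v'3 := (hQ'3 v' hv'Q).1
    have w'3 := (hQ'3 w' hw'Q).1
    have v'd := (hQ'3 v' hv'Q).2
    have w'd := (hQ'3 w' hw'Q).2
    have dtv' := hdisjQ t htQ v' hv'Q (Ne.symm hv't)
    have dtw' := hdisjQ t htQ w' hw'Q (Ne.symm hw't)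
    have duv' := hdisjQ u huQ v' hv'Q (Ne.symm hv'u)
    have duw' := hdisjQ u huQ w' hw'Q (Ne.symm hw'u)
    have dv'w' := hdisjQ v' hv'Q w' hw'Q hv'w'
    have Htv' := hQ'p t htQ v' hv'Q (Ne.symm hv't)
    have Htw' := hQ'p t htQ w' hw'Q (Ne.symm hw't)
    -- v' ∪ w' = d \ (t ∪ u)
    have hv'h : ∀ x, x ∈ v' → x ∈ v ∨ x ∈ w := by
      intro x hx
      have := dw x; have := v'd hx; have := dtv' x; have := duv' x
      tauto
    have hw'h : ∀ x, x ∈ w' → x ∈ v ∨ x ∈ w := by
      intro x hx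
      have := dw x; have := w'd hx; have := dtw' x; have := duw' x
      tauto
    -- key: v' = v or v' = w
    have hsplit : ∀ a : Finset Cfsg.GolayPt, a.card = 3 → (∀ x, x ∈ a → x ∈ v ∨ x ∈ w) →
        t ∪ a ∈ hexadsOn d → (∀ x, x ∈ t → x ∉ a) → a = v ∨ a = w := by
      intro a ha3 hah Hta dta
      by_cases h2 : 2 ≤ (a ∩ v).card
      · exact Or.inl (eq_of_inter_ge Hta htv dta (fun x hx hxv => (dv x hxv).2.1 hx) ht h2)
      · right
        have hc := Finset.card_sdiff_add_card_inter a v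
        have hsub2 : a \ v ⊆ a ∩ w := by
          intro x hx
          rw [Finset.mem_sdiff] at hx
          rw [Finset.mem_inter]
          have := hah x hx.1
          tauto
        have hle := Finset.card_le_card hsub2
        exact eq_of_inter_ge Hta Htw dta (fun x hx hxw => ((dw x).mp hxw).2.1 hx) ht (by omega)
    have hv'c := hsplit v' v'3 hv'h Htv' dtv'
    have hw'c := hsplit w' w'3 hw'h Htw' dtw'
    have hvQ : v ∈ Q' ∧ w ∈ Q' := by
      rcases hv'c with h1 | h1 <;> rcases hw'c with h2 | h2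
      · exact absurd (h1.trans h2.symm) hv'w'
      · exact ⟨h1 ▸ hv'Q, h2 ▸ hw'Q⟩
      · exact ⟨h2 ▸ hw'Q, h1 ▸ hv'Q⟩
      · exact absurd (h1.trans h2.symm) hv'w'
    have hsubQ : ({t, u, v, w} : Finset (Finset Cfsg.GolayPt)) ⊆ Q' := by
      intro a ha
      simp only [Finset.mem_insert, Finset.mem_singleton] at ha
      rcases ha with ha | ha | ha | ha <;> rw [ha]
      · exact htQ
      · exact huQ
      · exact hvQ.1
      · exact hvQ.2
    exact (Finset.eq_of_subset_of_card_le hsubQ (by rw [hQ'4, hQ4])).symm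

end Cfsg.Agent.S1596
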