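import Cfsg.Statements.S1600
import Mathlib
import Cfsg.Agent.Lib.Helper1_M12e

set_option autoImplicit false
open Cfsg
open scoped Pointwise
open Cfsg.Agent.Lib.Helper1_Chain Cfsg.Agent.Lib.Helper1_Golay

namespace Cfsg.Agent.S1600

theorem mem_K_iff (d : Finset GolayPt) (p q r : GolayPt) (g : ↥M24) :
    g ∈ MulAction.stabilizer M24 d ⊓ MulAction.stabilizer M24 p ⊓ MulAction.stabilizer M24 q ⊓
      MulAction.stabilizer M24 r ↔ g.1 ∈ pstab (dstab d) {r, q, p} := by
  rw [Subgroup.mem_inf, Subgroup.mem_inf, Subgroup.mem_inf, MulAction.mem_stabilizer_iff,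
    MulAction.mem_stabilizer_iff, MulAction.mem_stabilizer_iff, MulAction.mem_stabilizer_iff,
    mem_pstab, mem_dstab]
  constructor
  · rintro ⟨⟨⟨h1, h2⟩, h3⟩, h4⟩
    refine ⟨⟨g.2, h1⟩, ?_⟩
    intro b hb
    simp only [Finset.mem_insert, Finset.mem_singleton] at hb
    rcases hb with rfl | rfl | rfl
    · exact h4
    · exact h3
    · exact h2
  · rintro ⟨⟨_, h1⟩, h⟩
    exact ⟨⟨⟨h1, h p (by simp)⟩, h q (by simp)⟩, h r (by simp)⟩

/-- statement -/
theorem result (d : Finset Cfsg.GolayPt) (hd : d ∈ Cfsg.dodecads) (p q r : Cfsg.GolayPt) (hp : p ∈ d) (hq : q ∈ d) (hr : r ∈ d) (hpq : p ≠ q) (hpr : p ≠ r) (hqr : q ≠ r) : Nat.card ↥(MulAction.stabilizer Cfsg.M24 d ⊓ MulAction.stabilizer Cfsg.M24 p ⊓ MulAction.stabilizer Cfsg.M24 q ⊓ MulAction.stabilizer Cfsg.M24 r) = 72 ∧ ∀ x ∉ d, ∀ y ∉ d, ∃ g ∈ (MulAction.stabilizer Cfsg.M24 d ⊓ MulAction.stabilizer Cfsg.M24 p ⊓ MulAction.stabilizer Cfsg.M24 q ⊓ MulAction.stabilizer Cfsg.M24 r), ((g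 : ↥Cfsg.M24) : Equiv.Perm Cfsg.GolayPt) x = y := by
  constructor
  · rw [card_eq_of_forall_iff _ (pstab (dstab d) {r, q, p})
      (fun g hg => (mem_dstab.1 hg.1).1) (mem_K_iff d p q r)]
    exact card_pstab_dstab_three hd hp hq hr hpq hpr hqr
  · intro x hx y hy
    have hnd : [p, q, r].Nodup := by
      simp only [List.nodup_cons, List.mem_cons, List.mem_nil_iff, or_false, not_or,
        List.not_mem_nil, not_false_eq_true, List.nodup_nil, and_true]
      exact ⟨⟨hpq, hpr⟩, hqr⟩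
    obtain ⟨u, hu, hud, hul⟩ := dodecad_std_list hd hnd (by
      intro a ha
      simp only [List.mem_cons, List.mem_nil_iff, or_false] at ha
      rcases ha with rfl | rfl | rfl
      · exact hp
      · exact hq
      · exact hr) (by simp)
    have h0 : u (bpt 0) = p := hul 0 (by simp)
    have h1 : u (bpt 1) = q := hul 1 (by simp)
    have h2 : u (bpt 2) = r := hul 2 (by simp)
    have hout : ∀ z, z ∉ d → u⁻¹ z ∉ maskSet d0 := by
      intro z hz hmem
      apply hz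
      rw [← hud]
      have := Finset.smul_mem_smul_finset (a := u) hmem
      simpa using this
    obtain ⟨h, hh, hhd, hhfix, hhxy⟩ := M9_trans (hout x hx) (hout y hy)
    have hgM : u * h * u⁻¹ ∈ M24 := M24.mul_mem (M24.mul_mem hu hh) (M24.inv_mem hu)
    have hfix : ∀ j < 3, (u * h * u⁻¹) (u (bpt j)) = u (bpt j) := by
      intro j hj
      rw [Equiv.Perm.mul_apply, Equiv.Perm.mul_apply, show u⁻¹ (u (bpt j)) = bpt j by simp,
        hhfix (bpt j) (mem_Fset.2 ⟨j, hj, rfl⟩)]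
    refine ⟨⟨u * h * u⁻¹, hgM⟩, (mem_K_iff d p q r _).2 ⟨mem_dstab.2 ⟨hgM, ?_⟩, ?_⟩, ?_⟩
    · rw [mul_smul, mul_smul]
      conv_lhs => rw [← hud]
      rw [inv_smul_smul, hhd, hud]
    · intro b hb
      simp only [Finset.mem_insert, Finset.mem_singleton] at hb
      rcases hb with rfl | rfl | rfl
      · rw [← h2]; exact hfix 2 (by decide)
      · rw [← h1]; exact hfix 1 (by decide)
      · rw [← h0]; exact hfix 0 (by decide)
    · show (u * h * u⁻¹) x = y
      rw [Equiv.Perm.mul_apply, Equiv.Perm.mul_apply, hhxy]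
      simp

end Cfsg.Agent.S1600
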