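import Cfsg.Statements.S1604
import Mathlib
import Cfsg.Agent.Lib.Helper1_OctadPairs
import Cfsg.Agent.S1554

set_option autoImplicit false
open Cfsg
open scoped Pointwise
open Cfsg.Agent.Lib.Helper1_Chain Cfsg.Agent.Lib.Helper1_Golay

namespace Cfsg.Agent.S1604

set_option maxRecDepth 1000000 in
theorem count_std : ∀ k ∈ [2, 4], ((allWords rows).filter
    (fun n => popc n = 8 ∧ (n.testBit 0 = true ∧ n.testBit 1 = true ∧
      popc (Omask &&& n) = k))).length = [0, 0, 16, 0, 60].getD k 0 := by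
  decide +kernel

theorem trans_hexads {p q : GolayPt} (hpq : p ≠ q) {o o' o'' : Finset GolayPt} (ho : o ∈ octads)
    (ho' : o' ∈ octads) (ho'' : o'' ∈ octads) (hp : p ∈ o ∧ p ∈ o' ∧ p ∈ o'')
    (hq : q ∈ o ∧ q ∈ o' ∧ q ∈ o'') (h : (o ∩ o').card = (o ∩ o'').card) :
    ∃ g : Equiv.Perm GolayPt, g ∈ M24 ∧ g p = p ∧ g q = q ∧ g • o = o ∧ g • o' = o'' := by
  classical
  have hpq' : ({p, q} : Finset GolayPt).card = 2 := Finset.card_pair hpq
  have hsub : ∀ y : Finset GolayPt, p ∈ y → q ∈ y → ({p, q} : Finset GolayPt) ⊆ o ∩ y := by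
    intro y hpy hqy a ha
    simp only [Finset.mem_insert, Finset.mem_singleton] at ha
    rcases ha with rfl | rfl
    · exact Finset.mem_inter.2 ⟨hp.1, hpy⟩
    · exact Finset.mem_inter.2 ⟨hq.1, hqy⟩
  rcases card_inter_octads ho ho' with h0 | h2 | h4 | heq
  · rw [Finset.card_eq_zero] at h0
    have := Finset.mem_inter.2 ⟨hp.1, hp.2.1⟩
    rw [h0] at this
    exact absurd this (Finset.notMem_empty p)
  · have e1 : o ∩ o' = {p, q} :=
      (Finset.eq_of_subset_of_card_le (hsub o' hp.2.1 hq.2.1) (by rw [h2, hpq'])).symm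
    have e2 : o ∩ o'' = {p, q} :=
      (Finset.eq_of_subset_of_card_le (hsub o'' hp.2.2 hq.2.2) (by rw [← h, h2, hpq'])).symm
    obtain ⟨g, hg, hgo'⟩ := pstab_trans_two ho ho' ho'' h2 (e1.trans e2.symm)
    exact ⟨g, hg.1, hg.2 p hp.1, hg.2 q hq.1, Cfsg.Agent.S1554.smul_eq_of_fix hg.2, hgo'⟩
  · obtain ⟨g1, hg1, hg1o, hg1o'⟩ := octad_stab_trans ho ho' ho'' h
    have h4'' : (o ∩ o'').card = 4 := by rw [← h, h4]
    have hmem : ∀ z, z ∈ o → z ∈ o' → g1 z ∈ o ∩ o'' := by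
      intro z hz hz'
      rw [Finset.mem_inter]
      constructor
      · rw [← hg1o]; exact Finset.smul_mem_smul_finset hz
      · rw [← hg1o']; exact Finset.smul_mem_smul_finset hz'
    obtain ⟨r, hnd, hfin, -⟩ := enum_prefix (o ∩ o'') [g1 p, g1 q] (by
        simp only [List.nodup_cons, List.mem_cons, List.mem_nil_iff, or_false, List.not_mem_nil,
          not_false_eq_true, List.nodup_nil, and_true]
        exact fun h => hpq (g1.injective h)) (by
        intro a ha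
        simp only [List.mem_cons, List.mem_nil_iff, or_false] at ha
        rcases ha with rfl | rfl
        · exact hmem p hp.1 hp.2.1
        · exact hmem q hq.1 hq.2.1)
    obtain ⟨r', hnd', hfin', -⟩ := enum_prefix (o ∩ o'') [p, q] (by
        simp only [List.nodup_cons, List.mem_cons, List.mem_nil_iff, or_false, List.not_mem_nil,
          not_false_eq_true, List.nodup_nil, and_true]
        exact hpq) (by
        intro a ha
        simp only [List.mem_cons, List.mem_nil_iff, or_false] at ha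
        rcases ha with rfl | rfl
        · exact Finset.mem_inter.2 ⟨hp.1, hp.2.2⟩
        · exact Finset.mem_inter.2 ⟨hq.1, hq.2.2⟩)
    obtain ⟨h2, hh2, hh2o, hh2o'', hh2l⟩ := joint_induce_four ho ho'' h4'' hnd hnd' hfin hfin'
    simp only [List.cons_append, List.nil_append, List.map_cons, List.cons.injEq] at hh2l
    refine ⟨h2 * g1, M24.mul_mem hh2 hg1, ?_, ?_, ?_, ?_⟩
    · rw [Equiv.Perm.mul_apply, hh2l.1]
    · rw [Equiv.Perm.mul_apply, hh2l.2.1]
    · rw [mul_smul, hg1o, hh2o]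
    · rw [mul_smul, hg1o', hh2o'']
  · subst heq
    have h8 : (o ∩ o'').card = 8 := by rw [← h, Finset.inter_self, ho.2]
    have := octads_inter_lt ho ho'' (by omega)
    subst this
    exact ⟨1, M24.one_mem, rfl, rfl, one_smul _ _, one_smul _ _⟩

/-- statement -/
theorem result (p q : Cfsg.GolayPt) (hpq : p ≠ q) (o o' o'' : Finset Cfsg.GolayPt) (ho : o ∈ Cfsg.octads) (ho' : o' ∈ Cfsg.octads) (ho'' : o'' ∈ Cfsg.octads) (hp : p ∈ o ∧ p ∈ o' ∧ p ∈ o'') (hq : q ∈ o ∧ q ∈ o' ∧ q ∈ o'') (h : (o ∩ o').card = (o ∩ o'').card) : {x : Finset Cfsg.GolayPt | x ∈ Cfsg.octads ∧ p ∈ x ∧ q ∈ x ∧ (o ∩ x).card = 2}.ncard = 16 ∧ {x : Finset Cfsg.GolayPt | x ∈ Cfsg.octads ∧ p ∈ x ∧ q ∈ x ∧ (o ∩ x).card = 4}.ncard = 60 ∧ ∃ g : Equiv.Perm Cfsg.GolayPt, g ∈ Cfsg.M24 ∧ g p = p ∧ g q = q ∧ g • o = o ∧ g • o' = o'' := by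
  classical
  obtain ⟨u, hu, huo, hus⟩ := exists_std ho (s := {p, q}) (k := 2) (by
      intro a ha
      simp only [Finset.mem_insert, Finset.mem_singleton] at ha
      rcases ha with rfl | rfl
      · exact hp.1
      · exact hq.1) (Finset.card_pair hpq) (by decide)
  have hiff : ∀ y : Finset GolayPt, (p ∈ y ∧ q ∈ y) ↔ (pt 0 ∈ u⁻¹ • y ∧ pt 1 ∈ u⁻¹ • y) := by
    intro y
    have h1 : (p ∈ y ∧ q ∈ y) ↔ ({p, q} : Finset GolayPt) ⊆ y := by
      rw [Finset.insert_subset_iff, Finset.singleton_subset_iff]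
    have h2 : (pt 0 ∈ u⁻¹ • y ∧ pt 1 ∈ u⁻¹ • y) ↔ Fset 2 ⊆ u⁻¹ • y := by
      rw [Fset2_eq, Finset.insert_subset_iff, Finset.singleton_subset_iff]
    rw [h1, h2, ← hus, Finset.smul_finset_subset_iff]
  have hcount : ∀ k ∈ [2, 4], {x : Finset GolayPt | x ∈ octads ∧ p ∈ x ∧ q ∈ x ∧
      (o ∩ x).card = k}.ncard = [0, 0, 16, 0, 60].getD k 0 := by
    intro k hk
    rw [← count_std k hk]
    exact ncard_words_std hu 8 (fun y => p ∈ y ∧ q ∈ y ∧ (o ∩ y).card = k)
      (fun y => pt 0 ∈ y ∧ pt 1 ∈ y ∧ (maskSet Omask ∩ y).card = k)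
      (fun n => n.testBit 0 = true ∧ n.testBit 1 = true ∧ popc (Omask &&& n) = k)
      (fun y => by rw [← and_assoc, hiff y, and_assoc, inter_inv_smul huo])
      (fun n _ => by
        have h0 : idx (pt 0) = 0 := idx_pt_lt 0
        have h1 : idx (pt 1) = 1 := idx_pt_lt 1
        rw [mem_maskSet, mem_maskSet, h0, h1, ← maskSet_and, card_maskSet])
  exact ⟨hcount 2 (by decide), hcount 4 (by decide), trans_hexads hpq ho ho' ho'' hp hq h⟩

end Cfsg.Agent.S1604
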