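import Cfsg.Statements.S1607
import Mathlib
import Cfsg.Agent.Lib.Helper1_OctadPairs

set_option autoImplicit false
open Cfsg
open scoped Pointwise
open Cfsg.Agent.Lib.Helper1_Chain Cfsg.Agent.Lib.Helper1_Golay

namespace Cfsg.Agent.S1607

set_option maxRecDepth 1000000 in
theorem count_std : ∀ k ∈ [2, 4], ((allWords rows).filter
    (fun n => popc n = 8 ∧ (n.testBit 0 = true ∧ popc (Omask &&& n) = k))).length =
      [0, 0, 112, 0, 140].getD k 0 := by
  decide +kernel

set_option maxRecDepth 100000 in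
theorem Fset1_eq : Fset 1 = {pt 0} := by decide +kernel

/-- the stabilizer of a point and an octad through it is transitive on the octads through the
point meeting the octad in a given number of points -/
theorem trans_through {x : GolayPt} {o o' o'' : Finset GolayPt} (ho : o ∈ octads)
    (ho' : o' ∈ octads) (ho'' : o'' ∈ octads) (hx : x ∈ o) (hx' : x ∈ o') (hx'' : x ∈ o'')
    (h : (o ∩ o').card = (o ∩ o'').card) :
    ∃ g : Equiv.Perm GolayPt, g ∈ M24 ∧ g x = x ∧ g • o = o ∧ g • o' = o'' := by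
  obtain ⟨g1, hg1, hg1o, hg1o'⟩ := octad_stab_trans ho ho' ho'' h
  by_cases hne : o = o''
  · subst hne
    have h8 : (o ∩ o').card = 8 := by rw [h, Finset.inter_self, ho.2]
    have := octads_inter_lt ho ho' (by omega)
    subst this
    exact ⟨1, M24.one_mem, rfl, one_smul _ _, one_smul _ _⟩
  · have h1 : g1 x ∈ o ∩ o'' := by
      rw [Finset.mem_inter]
      constructor
      · rw [← hg1o]; exact Finset.smul_mem_smul_finset hx
      · rw [← hg1o']; exact Finset.smul_mem_smul_finset hx'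
    obtain ⟨h2, hh2, hh2o, hh2o'', hh2x⟩ := joint_trans_inter ho ho'' hne h1
      (Finset.mem_inter.2 ⟨hx, hx''⟩)
    refine ⟨h2 * g1, M24.mul_mem hh2 hg1, ?_, ?_, ?_⟩
    · rw [Equiv.Perm.mul_apply, hh2x]
    · rw [mul_smul, hg1o, hh2o]
    · rw [mul_smul, hg1o', hh2o'']

/-- statement -/
theorem result (x : Cfsg.GolayPt) (o : Finset Cfsg.GolayPt) (ho : o ∈ Cfsg.octads) (hx : x ∈ o) : {o' : Finset Cfsg.GolayPt | o' ∈ Cfsg.octads ∧ x ∈ o' ∧ (o ∩ o').card = 2}.ncard = 112 ∧ {o' : Finset Cfsg.GolayPt | o' ∈ Cfsg.octads ∧ x ∈ o' ∧ (o ∩ o').card = 4}.ncard = 140 ∧ ∀ o' o'' : Finset Cfsg.GolayPt, o' ∈ Cfsg.octads → o'' ∈ Cfsg.octads → x ∈ o' → x ∈ o'' → (o ∩ o').card = (o ∩ o'').card → ∃ g : Equiv.Perm Cfsg.GolayPt, g ∈ Cfsg.M24 ∧ g x = x ∧ g • o = o ∧ g • o' = o'' := by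
  obtain ⟨u, hu, huo, hus⟩ := exists_std ho (s := {x}) (k := 1) (by simpa using hx)
    (Finset.card_singleton x) (by decide)
  have hux : u (pt 0) = x := by
    rw [Fset1_eq, Finset.smul_finset_singleton] at hus
    exact Finset.singleton_injective hus
  have hcount : ∀ k ∈ [2, 4], {o' : Finset GolayPt | o' ∈ octads ∧ x ∈ o' ∧
      (o ∩ o').card = k}.ncard = [0, 0, 112, 0, 140].getD k 0 := by
    intro k hk
    rw [← count_std k hk]
    exact ncard_words_std hu 8 (fun y => x ∈ y ∧ (o ∩ y).card = k)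
      (fun y => pt 0 ∈ y ∧ (maskSet Omask ∩ y).card = k)
      (fun n => n.testBit 0 = true ∧ popc (Omask &&& n) = k)
      (fun y => by rw [mem_inv_smul_iff_apply, hux, inter_inv_smul huo])
      (fun n _ => by
        have h0 : idx (pt 0) = 0 := idx_pt_lt 0
        rw [mem_maskSet, h0, ← maskSet_and, card_maskSet])
  refine ⟨hcount 2 (by decide), hcount 4 (by decide), ?_⟩
  intro o' o'' ho' ho'' hx' hx'' h
  exact trans_through ho ho' ho'' hx hx' hx'' h

end Cfsg.Agent.S1607
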