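import Cfsg.Statements.S1605
import Mathlib
import Cfsg.Agent.Lib.Helper1_OctadPairs
import Cfsg.Agent.S1554
import Cfsg.Agent.S1607

set_option autoImplicit false
open Cfsg
open scoped Pointwise
open Cfsg.Agent.Lib.Helper1_Chain Cfsg.Agent.Lib.Helper1_Golay

namespace Cfsg.Agent.S1605

set_option maxRecDepth 1000000 in
theorem count_176 : ((allWords rows).filter
    (fun n => popc n = 8 ∧ (n.testBit 0 = true ∧ n.testBit 1 = false))).length = 176 := by
  decide +kernel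

set_option maxRecDepth 1000000 in
theorem count_std : ∀ k ∈ [2, 4], ((allWords rows).filter
    (fun n => popc n = 8 ∧ ((n.testBit 0 = true ∧ n.testBit 5 = false) ∧
      popc (Omask &&& n) = k))).length = [0, 0, 70, 0, 105].getD k 0 := by
  decide +kernel

set_option maxRecDepth 100000 in
theorem pt0_mem : pt 0 ∈ maskSet Omask := by decide +kernel

/-- standard position for an octad, a point on it and a point off it -/
theorem std_through_avoid {o : Finset GolayPt} {p q : GolayPt} (ho : o ∈ octads) (hp : p ∈ o)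
    (hq : q ∉ o) : ∃ u ∈ M24, u • maskSet Omask = o ∧ u (pt 0) = p ∧ u (pt 5) = q := by
  obtain ⟨u1, hu1, hu1o, hus⟩ := exists_std ho (s := {p}) (k := 1) (by simpa using hp)
    (Finset.card_singleton p) (by decide)
  have hu1p : u1 (pt 0) = p := by
    rw [Cfsg.Agent.S1607.Fset1_eq, Finset.smul_finset_singleton] at hus
    exact Finset.singleton_injective hus
  have hq' : u1⁻¹ q ∈ Tset 5 := by
    rw [Tset5_eq, Finset.mem_compl]
    intro h
    apply hq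
    rw [← hu1o]
    have := Finset.smul_mem_smul_finset (a := u1) h
    simpa using this
  obtain ⟨t, ht, htq⟩ := pstabO_h2 _ hq'
  refine ⟨u1 * t, M24.mul_mem hu1 ht.1, ?_, ?_, ?_⟩
  · rw [mul_smul, Cfsg.Agent.S1554.smul_eq_of_fix ht.2, hu1o]
  · rw [Equiv.Perm.mul_apply, ht.2 _ pt0_mem, hu1p]
  · have : t (pt 5) = u1⁻¹ q := htq
    rw [Equiv.Perm.mul_apply, this]; simp

theorem trans_X {p q : GolayPt} {o o' o'' : Finset GolayPt} (ho : o ∈ octads)
    (ho' : o' ∈ octads) (ho'' : o'' ∈ octads) (hp : p ∈ o) (hp' : p ∈ o') (hp'' : p ∈ o'')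
    (hq : q ∉ o) (hq' : q ∉ o') (hq'' : q ∉ o'') (h : (o ∩ o').card = (o ∩ o'').card) :
    ∃ g : Equiv.Perm GolayPt, g ∈ M24 ∧ g p = p ∧ g q = q ∧ g • o = o ∧ g • o' = o'' := by
  obtain ⟨g1, hg1, hg1p, hg1o, hg1o'⟩ := Cfsg.Agent.S1607.trans_through ho ho' ho'' hp hp' hp'' h
  by_cases hne : o = o''
  · subst hne
    have h8 : (o ∩ o').card = 8 := by rw [h, Finset.inter_self, ho.2]
    have := octads_inter_lt ho ho' (by omega)
    subst this
    exact ⟨1, M24.one_mem, rfl, rfl, one_smul _ _, one_smul _ _⟩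
  · have h1 : g1 q ∉ o := by
      rw [← hg1o]
      intro hmem
      rw [← Equiv.Perm.smul_def, Finset.smul_mem_smul_finset_iff] at hmem
      exact hq hmem
    have h1' : g1 q ∉ o'' := by
      rw [← hg1o']
      intro hmem
      rw [← Equiv.Perm.smul_def, Finset.smul_mem_smul_finset_iff] at hmem
      exact hq' hmem
    obtain ⟨h2, hh2, hh2o, hh2o'', hh2p, hh2q⟩ := joint_trans_compl_fix ho ho'' hne
      (Finset.mem_inter.2 ⟨hp, hp''⟩) h1 h1' hq hq''
    refine ⟨h2 * g1, M24.mul_mem hh2 hg1, ?_, ?_, ?_, ?_⟩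
    · rw [Equiv.Perm.mul_apply, hg1p, hh2p]
    · rw [Equiv.Perm.mul_apply, hh2q]
    · rw [mul_smul, hg1o, hh2o]
    · rw [mul_smul, hg1o', hh2o'']

/-- statement -/
theorem result (p q : Cfsg.GolayPt) (hpq : p ≠ q) : {x : Finset Cfsg.GolayPt | (x ∈ Cfsg.octads ∧ p ∈ x ∧ q ∉ x)}.ncard = 176 ∧ (∀ o o' : Finset Cfsg.GolayPt, (o ∈ Cfsg.octads ∧ p ∈ o ∧ q ∉ o) → (o' ∈ Cfsg.octads ∧ p ∈ o' ∧ q ∉ o') → ∃ g : Equiv.Perm Cfsg.GolayPt, g ∈ Cfsg.M24 ∧ g p = p ∧ g q = q ∧ g • o = o') ∧ ∀ o : Finset Cfsg.GolayPt, (o ∈ Cfsg.octads ∧ p ∈ o ∧ q ∉ o) → {x : Finset Cfsg.GolayPt | (x ∈ Cfsg.octads ∧ p ∈ x ∧ q ∉ x) ∧ (o ∩ x).card = 2}.ncard = 70 ∧ {x : Finset Cfsg.GolayPt | (x ∈ Cfsg.octads ∧ p ∈ x ∧ q ∉ x) ∧ (o ∩ x).card = 4}.ncard = 105 ∧ ∀ o' o'' : Finset Cfsg.GolayPt, (o' ∈ Cfsg.octads ∧ p ∈ o' ∧ q ∉ o') → (o'' ∈ Cfsg.octads ∧ p ∈ o'' ∧ q ∉ o'') → (o ∩ o').card = (o ∩ o'').card → ∃ g : Equiv.Perm Cfsg.GolayPt, g ∈ Cfsg.M24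 ∧ g p = p ∧ g q = q ∧ g • o = o ∧ g • o' = o'' := by
  have h0 : idx (pt 0) = 0 := idx_pt_lt 0
  have h1 : idx (pt 1) = 1 := idx_pt_lt 1
  have h5 : idx (pt 5) = 5 := idx_pt_lt 5
  refine ⟨?_, ?_, ?_⟩
  · have hnd : [pt 0, pt 1].Nodup := by decide +kernel
    have hnd' : [p, q].Nodup := by simp [hpq]
    obtain ⟨u, hu, hul⟩ := exists_map_lists hnd hnd' rfl (by decide)
    simp only [List.map_cons, List.map_nil, List.cons.injEq, and_true] at hul
    rw [← count_176]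
    have := ncard_words_std hu 8 (fun y => p ∈ y ∧ q ∉ y) (fun y => pt 0 ∈ y ∧ pt 1 ∉ y)
      (fun n => n.testBit 0 = true ∧ n.testBit 1 = false)
      (fun y => by rw [mem_inv_smul_iff_apply, mem_inv_smul_iff_apply, hul.1, hul.2])
      (fun n _ => by rw [mem_maskSet, mem_maskSet, h0, h1, Bool.not_eq_true])
    exact this
  · rintro o o' ⟨ho, hp, hq⟩ ⟨ho', hp', hq'⟩
    obtain ⟨u, hu, huo, hup, huq⟩ := std_through_avoid ho hp hq
    obtain ⟨u', hu', huo', hup', huq'⟩ := std_through_avoid ho' hp' hq'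
    refine ⟨u' * u⁻¹, M24.mul_mem hu' (M24.inv_mem hu), ?_, ?_, ?_⟩
    · have : u⁻¹ p = pt 0 := by rw [← hup]; simp
      rw [Equiv.Perm.mul_apply, this, hup']
    · have : u⁻¹ q = pt 5 := by rw [← huq]; simp
      rw [Equiv.Perm.mul_apply, this, huq']
    · rw [mul_smul, ← huo, inv_smul_smul, huo']
  · rintro o ⟨ho, hp, hq⟩
    obtain ⟨u, hu, huo, hup, huq⟩ := std_through_avoid ho hp hq
    have hcount : ∀ k ∈ [2, 4], {x : Finset GolayPt | (x ∈ octads ∧ p ∈ x ∧ q ∉ x) ∧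
        (o ∩ x).card = k}.ncard = [0, 0, 70, 0, 105].getD k 0 := by
      intro k hk
      rw [← count_std k hk]
      have := ncard_words_std hu 8 (fun y => (p ∈ y ∧ q ∉ y) ∧ (o ∩ y).card = k)
        (fun y => (pt 0 ∈ y ∧ pt 5 ∉ y) ∧ (maskSet Omask ∩ y).card = k)
        (fun n => (n.testBit 0 = true ∧ n.testBit 5 = false) ∧ popc (Omask &&& n) = k)
        (fun y => by
          rw [mem_inv_smul_iff_apply, mem_inv_smul_iff_apply, hup, huq, inter_inv_smul huo])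
        (fun n _ => by
          rw [mem_maskSet, mem_maskSet, h0, h5, ← maskSet_and, card_maskSet, Bool.not_eq_true])
      rw [← this]
      congr 1
      ext y
      simp only [Set.mem_ofPred_eq, and_assoc]
      rfl
    refine ⟨hcount 2 (by decide), hcount 4 (by decide), ?_⟩
    rintro o' o'' ⟨ho', hp', hq'⟩ ⟨ho'', hp'', hq''⟩ h
    exact trans_X ho ho' ho'' hp hp' hp'' hq hq' hq'' h

end Cfsg.Agent.S1605
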