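import Mathlib
import Cfsg.Statements.S1610
import Cfsg.Agent.Lib.Helper9_Hexacode

set_option autoImplicit false
open Cfsg

namespace Cfsg.Agent.S1610

open Cfsg.Agent.Helper9GF4 Cfsg.Agent.Helper9Hex

theorem wtsI : ∀ p : P, hexI p ≠ 0 → (Finset.univ.filter fun i => hexI p i ≠ 0).card = 4 ∨
    (Finset.univ.filter fun i => hexI p i ≠ 0).card = 6 := by
  decide +kernel

theorem cnt4 : (Finset.univ.filter (fun p : P =>
    (Finset.univ.filter fun i => hexI p i ≠ 0).card = 4)).card = 45 := by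
  decide +kernel

theorem cnt6 : (Finset.univ.filter (fun p : P =>
    (Finset.univ.filter fun i => hexI p i ≠ 0).card = 6)).card = 18 := by
  decide +kernel

theorem ncard_wt {F : Type*} [Field F] [Fintype F] [DecidableEq F] (hF : Fintype.card F = 4)
    {ω : F} (hω : ω ^ 2 + ω + 1 = 0) (w n : ℕ)
    (h : (Finset.univ.filter (fun p : P =>
      (Finset.univ.filter fun i => hexI p i ≠ 0).card = w)).card = n) :
    {x : Fin 6 → F | x ∈ Cfsg.hexacode F ω ∧
      (Finset.univ.filter fun i => x i ≠ 0).card = w}.ncard = n := by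
  have h2 := two_eq_zero hF
  have hset : {x : Fin 6 → F | x ∈ Cfsg.hexacode F ω ∧
      (Finset.univ.filter fun i => x i ≠ 0).card = w} =
      encH ω '' (↑(Finset.univ.filter (fun p : P =>
        (Finset.univ.filter fun i => hexI p i ≠ 0).card = w)) : Set P) := by
    ext x
    constructor
    · rintro ⟨hx, hw⟩
      obtain ⟨p, rfl⟩ := (mem_iff hF hω x).mp hx
      refine ⟨p, ?_, rfl⟩
      rw [wt_eq h2 hω] at hw
      simpa using hw
    · rintro ⟨p, hp, rfl⟩
      refine ⟨(mem_iff hF hω _).mpr ⟨p, rfl⟩, ?_⟩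
      rw [wt_eq h2 hω]
      simpa using hp
  rw [hset, Set.ncard_image_of_injective _ (encH_injective h2 hω), Set.ncard_coe_finset, h]

theorem result (F : Type*) [Field F] [Fintype F] [DecidableEq F] (hF : Fintype.card F = 4) (ω : F) (hω : ω ^ 2 + ω + 1 = 0) : Nat.card ↥(Cfsg.hexacode F ω) = 64 ∧ (∀ x ∈ Cfsg.hexacode F ω, x ≠ 0 → (Finset.univ.filter fun i => x i ≠ 0).card = 4 ∨ (Finset.univ.filter fun i => x i ≠ 0).card = 6) ∧ {x : Fin 6 → F | x ∈ Cfsg.hexacode F ω ∧ (Finset.univ.filter fun i => x i ≠ 0).card = 4}.ncard = 45 ∧ {x : Fin 6 → F | x ∈ Cfsg.hexacode F ω ∧ (Finset.univ.filter fun i => x i ≠ 0).card = 6}.ncard = 18 := by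
  have h2 := two_eq_zero hF
  refine ⟨?_, ?_, ncard_wt hF hω 4 45 cnt4, ncard_wt hF hω 6 18 cnt6⟩
  · have e : P ≃ ↥(Cfsg.hexacode F ω) :=
      Equiv.ofBijective (fun p => ⟨encH ω p, (mem_iff hF hω _).mpr ⟨p, rfl⟩⟩)
        ⟨fun p q h => encH_injective h2 hω (congrArg Subtype.val h),
         fun x => by
          obtain ⟨p, hp⟩ := (mem_iff hF hω x.1).mp x.2
          exact ⟨p, Subtype.ext hp.symm⟩⟩
    rw [← Nat.card_congr e, Nat.card_eq_fintype_card]
    decide +kernel
  · intro x hx hx0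
    obtain ⟨p, rfl⟩ := (mem_iff hF hω x).mp hx
    rw [wt_eq h2 hω]
    apply wtsI p
    intro h
    exact hx0 ((encH_eq_zero_iff h2 hω p).mpr h)

end Cfsg.Agent.S1610
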