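import Mathlib
import Cfsg.Statements.S1611
import Cfsg.Agent.Lib.Helper9_Hexacode
import Cfsg.Agent.Lib.Helper9_HexAutI

set_option autoImplicit false
open Cfsg

namespace Cfsg.Agent.S1611

open Cfsg.Agent.Helper9GF4 Cfsg.Agent.Helper9Hex Cfsg.Agent.Helper9HexAutI Equiv

section abs

variable {F : Type*} [Field F]

theorem mono_add (σ : Perm (Fin 6)) (c : Fin 6 → Fˣ) (x y : Fin 6 → F) :
    monomialMap σ c (x + y) = monomialMap σ c x + monomialMap σ c y := by
  funext i; simp [monomialMap, mul_add]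

theorem mono_smul (σ : Perm (Fin 6)) (c : Fin 6 → Fˣ) (a : F) (x : Fin 6 → F) :
    monomialMap σ c (a • x) = a • monomialMap σ c x := by
  funext i; simp only [monomialMap, Pi.smul_apply, smul_eq_mul]; ring

/-- the monomial map preserves the hexacode -/
def Pres (ω : F) (σ : Perm (Fin 6)) (c : Fin 6 → Fˣ) : Prop :=
  ∀ x ∈ hexacode F ω, monomialMap σ c x ∈ hexacode F ω

theorem gens_eq (ω : F) : hexacode F ω = Submodule.span F
    {fun i => el ω (V1 i), fun i => el ω (V2 i), fun i => el ω (V3 i)} := by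
  unfold hexacode; rw [v1_eq, v2_eq, v3_eq]

theorem pres_iff_gens (ω : F) (σ : Perm (Fin 6)) (c : Fin 6 → Fˣ) :
    Pres ω σ c ↔ ∀ k : Fin 3, monomialMap σ c (fun i => el ω (Vk k i)) ∈ hexacode F ω := by
  constructor
  · intro h k
    apply h
    rw [gens_eq]
    apply Submodule.subset_span
    fin_cases k <;> simp [Vk]
  · intro h x hx
    rw [gens_eq, Submodule.mem_span_triple] at hx
    obtain ⟨a, b, c', rfl⟩ := hx
    rw [mono_add, mono_add, mono_smul, mono_smul, mono_smul]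
    exact Submodule.add_mem _ (Submodule.add_mem _ (Submodule.smul_mem _ _ (h 0))
      (Submodule.smul_mem _ _ (h 1))) (Submodule.smul_mem _ _ (h 2))

variable [Fintype F] (hF : Fintype.card F = 4) {ω : F} (hω : ω ^ 2 + ω + 1 = 0)

include hF hω

theorem pres_iff_chk (σ : Perm (Fin 6)) (c : Fin 6 → Fˣ) (d : Fin 6 → Fin 4)
    (hd : ∀ i, (c i : F) = el ω (d i)) : Pres ω σ c ↔ chk σ d := by
  have h2 := two_eq_zero hF
  rw [pres_iff_gens]
  unfold chk
  refine forall_congr' fun k => ?_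
  have e : monomialMap σ c (fun i => el ω (Vk k i)) =
      fun i => el ω (mulT (d i) (Vk k (σ.symm i))) := by
    funext i
    simp only [monomialMap]
    rw [hd, el_mul h2 hω]
  rw [e, mem_iff hF hω]
  constructor
  · rintro ⟨p, hp⟩
    refine ⟨p, ?_⟩
    funext i
    exact el_injective h2 hω (congrFun hp i).symm
  · rintro ⟨p, hp⟩
    refine ⟨p, ?_⟩
    funext i
    show _ = el ω (hexI p i)
    rw [hp]

omit hF hω in
theorem tuple_eq' (d : Fin 6 → Fin 4) : d = ![d 0, d 1, d 2, d 3, d 4, d 5] := by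
  funext i; fin_cases i <;> rfl

/-- index vector of a unit vector -/
noncomputable def dOf (c : Fin 6 → Fˣ) : Fin 6 → Fin 4 := fun i => idx hF hω (c i : F)

theorem dOf_spec (c : Fin 6 → Fˣ) (i : Fin 6) : (c i : F) = el ω (dOf hF hω c i) :=
  (el_idx hF hω _).symm

theorem dOf_ne (c : Fin 6 → Fˣ) (i : Fin 6) : dOf hF hω c i ≠ 0 := by
  intro h0
  apply (c i).ne_zero
  rw [dOf_spec hF hω c i, h0]; rfl

theorem exists_c (d : Fin 6 → Fin 4) (hd0 : ∀ i, d i ≠ 0) :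
    ∃ c : Fin 6 → Fˣ, ∀ i, (c i : F) = el ω (d i) := by
  have h2 := two_eq_zero hF
  refine ⟨fun i => Units.mk0 (el ω (d i)) ?_, fun i => rfl⟩
  intro h
  exact hd0 i ((el_eq_zero_iff h2 hω _).mp h)

theorem part2 (c : Fin 6 → Fˣ) (h : Pres ω 1 c) : ∀ i j, c i = c j := by
  have hchk := (pres_iff_chk hF hω 1 c _ (dOf_spec hF hω c)).mp h
  rw [tuple_eq' (dOf hF hω c)] at hchk
  obtain ⟨e1, e2, e3, e4, e5⟩ := diagI _ _ _ _ _ _ (dOf_ne hF hω c 0) (dOf_ne hF hω c 1)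
    (dOf_ne hF hω c 2) (dOf_ne hF hω c 3) (dOf_ne hF hω c 4) (dOf_ne hF hω c 5) hchk
  have hall : ∀ i, dOf hF hω c i = dOf hF hω c 0 := by
    intro i
    fin_cases i
    · rfl
    · exact e1.symm
    · exact e2.symm
    · exact e3.symm
    · exact e4.symm
    · exact e5.symm
  intro i j
  apply Units.ext
  rw [dOf_spec hF hω c i, dOf_spec hF hω c j, hall i, hall j]


/-- permutations occurring in monomial automorphisms -/
def SS (ω : F) : Set (Perm (Fin 6)) := {σ | ∃ c : Fin 6 → Fˣ, Pres ω σ c}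

omit [Fintype F] hF hω in
theorem mono_comp (σ τ : Perm (Fin 6)) (c e : Fin 6 → Fˣ) (x : Fin 6 → F) :
    monomialMap σ c (monomialMap τ e x) =
      monomialMap (σ * τ) (fun i => c i * e (σ.symm i)) x := by
  funext i
  simp only [monomialMap, Units.val_mul]
  rw [mul_assoc]
  rfl

omit [Fintype F] hF hω in
theorem SS_one : (1 : Perm (Fin 6)) ∈ SS ω := by
  refine ⟨fun _ => 1, fun x hx => ?_⟩
  have : monomialMap (1 : Perm (Fin 6)) (fun _ => (1 : Fˣ)) x = x := by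
    funext i; simp only [monomialMap, Units.val_one, one_mul]; rfl
  rwa [this]

omit [Fintype F] hF hω in
theorem SS_mul {σ τ : Perm (Fin 6)} (hσ : σ ∈ SS ω) (hτ : τ ∈ SS ω) : σ * τ ∈ SS ω := by
  obtain ⟨c, hc⟩ := hσ
  obtain ⟨e, he⟩ := hτ
  refine ⟨fun i => c i * e (σ.symm i), fun x hx => ?_⟩
  rw [← mono_comp]
  exact hc _ (he x hx)

omit [Fintype F] hF hω in
theorem SS_pow {σ : Perm (Fin 6)} (hσ : σ ∈ SS ω) (n : ℕ) : σ ^ n ∈ SS ω := by
  induction n with
  | zero => rw [pow_zero]; exact SS_one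
  | succ n ih => rw [pow_succ]; exact SS_mul ih hσ

omit [Fintype F] hF hω in
theorem SS_inv {σ : Perm (Fin 6)} (hσ : σ ∈ SS ω) : σ⁻¹ ∈ SS ω := by
  have h1 : σ⁻¹ = σ ^ (orderOf σ - 1) := by
    apply inv_eq_of_mul_eq_one_left
    rw [← pow_succ, Nat.sub_add_cancel (orderOf_pos σ), pow_orderOf_eq_one]
  rw [h1]
  exact SS_pow hσ _

theorem mem_SS_of_chk (σ : Perm (Fin 6)) (d : Fin 6 → Fin 4) (hd0 : ∀ i, d i ≠ 0)
    (h : chk σ d) : σ ∈ SS ω := by
  obtain ⟨c, hc⟩ := exists_c hF hω d hd0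
  exact ⟨c, (pres_iff_chk hF hω σ c d hc).mpr h⟩

theorem closure_le_SS : ((Subgroup.closure {aP, bP} : Subgroup (Perm (Fin 6))) : Set _) ⊆ SS ω := by
  intro σ hσ
  induction hσ using Subgroup.closure_induction with
  | mem x hx =>
    rcases hx with rfl | rfl
    · exact mem_SS_of_chk hF hω aP _ (by decide) chk_a
    · exact mem_SS_of_chk hF hω bP _ (by decide) chk_b
  | one => exact SS_one
  | mul x y _ _ hx hy => exact SS_mul hx hy
  | inv x _ hx => exact SS_inv hx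

omit [Field F] [Fintype F] hF hω in
theorem alt_le_closure : alternatingGroup (Fin 6) ≤ Subgroup.closure {aP, bP} := by
  have ha : aP ∈ Subgroup.closure ({aP, bP} : Set (Perm (Fin 6))) :=
    Subgroup.subset_closure (by simp)
  have hb : bP ∈ Subgroup.closure ({aP, bP} : Set (Perm (Fin 6))) :=
    Subgroup.subset_closure (by simp)
  have h2 : MulAction.IsMultiplyPretransitive
      (Subgroup.closure ({aP, bP} : Set (Perm (Fin 6)))) (Fin 6) 2 := by
    rw [MulAction.is_two_pretransitive_iff]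
    intro a b c d hab hcd
    obtain ⟨i, j, m, h1, h1'⟩ := two_trans a b hab
    obtain ⟨i', j', m', h3, h3'⟩ := two_trans c d hcd
    have hw : ∀ (i : Fin 3) (j m : Fin 5), bP ^ (j : ℕ) * aP ^ (i : ℕ) * bP ^ (m : ℕ) ∈
        Subgroup.closure ({aP, bP} : Set (Perm (Fin 6))) := fun i j m =>
      Subgroup.mul_mem _ (Subgroup.mul_mem _ (Subgroup.pow_mem _ hb _) (Subgroup.pow_mem _ ha _))
        (Subgroup.pow_mem _ hb _)
    refine ⟨⟨(bP ^ (j' : ℕ) * aP ^ (i' : ℕ) * bP ^ (m' : ℕ))⁻¹ *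
      (bP ^ (j : ℕ) * aP ^ (i : ℕ) * bP ^ (m : ℕ)),
      Subgroup.mul_mem _ (Subgroup.inv_mem _ (hw i' j' m')) (hw i j m)⟩, ?_, ?_⟩
    · show ((bP ^ (j' : ℕ) * aP ^ (i' : ℕ) * bP ^ (m' : ℕ))⁻¹ *
        (bP ^ (j : ℕ) * aP ^ (i : ℕ) * bP ^ (m : ℕ))) a = c
      rw [Perm.mul_apply, h1, Perm.inv_eq_iff_eq, h3]
    · show ((bP ^ (j' : ℕ) * aP ^ (i' : ℕ) * bP ^ (m' : ℕ))⁻¹ *
        (bP ^ (j : ℕ) * aP ^ (i : ℕ) * bP ^ (m : ℕ))) b = d
      rw [Perm.mul_apply, h1', Perm.inv_eq_iff_eq, h3']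
  have hprim := MulAction.isPreprimitive_of_is_two_pretransitive h2
  have h3c : Perm.IsThreeCycle aP := by
    rw [aP_eq]
    exact Perm.isThreeCycle_swap_mul_swap_same (by decide) (by decide) (by decide)
  exact Perm.alternatingGroup_le_of_isPreprimitive_of_isThreeCycle_mem hprim h3c ha

theorem alt_le_SS : ((alternatingGroup (Fin 6) : Subgroup (Perm (Fin 6))) : Set _) ⊆ SS ω :=
  fun _ hσ => closure_le_SS hF hω (alt_le_closure hσ)

theorem SS_le_alt : SS ω ⊆ ((alternatingGroup (Fin 6) : Subgroup (Perm (Fin 6))) : Set _) := by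
  intro σ hσ
  by_contra hodd
  -- then the transposition is in SS
  have hs : Perm.sign σ = -1 := by
    rcases Int.units_eq_one_or (Perm.sign σ) with h | h
    · exact absurd (Perm.mem_alternatingGroup.mpr h) hodd
    · exact h
  have h1 : sP * σ⁻¹ ∈ alternatingGroup (Fin 6) := by
    rw [Perm.mem_alternatingGroup, map_mul, map_inv, hs, sP_eq, Perm.sign_swap (by decide)]
    decide
  have h2 : sP ∈ SS ω := by
    have : sP = (sP * σ⁻¹) * σ := by group
    rw [this]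
    exact SS_mul (alt_le_SS hF hω h1) hσ
  obtain ⟨c, hc⟩ := h2
  have hchk := (pres_iff_chk hF hω sP c _ (dOf_spec hF hω c)).mp hc
  rw [tuple_eq' (dOf hF hω c)] at hchk
  exact no_swapI _ _ _ _ _ _ (dOf_ne hF hω c 0) (dOf_ne hF hω c 1)
    (dOf_ne hF hω c 2) (dOf_ne hF hω c 3) (dOf_ne hF hω c 4) (dOf_ne hF hω c 5) hchk


omit [Fintype F] hF hω in
theorem mono_injective (σ : Perm (Fin 6)) (c : Fin 6 → Fˣ) :
    Function.Injective (monomialMap σ c : (Fin 6 → F) → (Fin 6 → F)) := by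
  intro x y h
  funext j
  have := congrFun h (σ j)
  simp only [monomialMap, Equiv.symm_apply_apply] at this
  exact (c (σ j)).isUnit.mul_left_cancel this

theorem mono_surj_on {σ : Perm (Fin 6)} {c : Fin 6 → Fˣ} (h : Pres ω σ c)
    (x : Fin 6 → F) (hx : x ∈ hexacode F ω) : ∃ y ∈ hexacode F ω, monomialMap σ c y = x := by
  let g : ↥(hexacode F ω) → ↥(hexacode F ω) := fun y => ⟨monomialMap σ c y.1, h y.1 y.2⟩
  have hg : Function.Injective g := by
    intro y z hyz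
    exact Subtype.ext (mono_injective σ c (congrArg Subtype.val hyz))
  obtain ⟨y, hy⟩ := (Finite.injective_iff_surjective.mp hg) ⟨x, hx⟩
  exact ⟨y.1, y.2, congrArg Subtype.val hy⟩

theorem ratio_const {σ : Perm (Fin 6)} {c c₀ : Fin 6 → Fˣ} (h : Pres ω σ c) (h₀ : Pres ω σ c₀) :
    ∀ i, c i = (c 0 * (c₀ 0)⁻¹) * c₀ i := by
  have hr : Pres ω 1 (fun i => c i * (c₀ i)⁻¹) := by
    intro x hx
    obtain ⟨y, hy, rfl⟩ := mono_surj_on hF hω h₀ x hx
    rw [mono_comp]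
    have : (fun i => (fun i => c i * (c₀ i)⁻¹) i * c₀ ((1 : Perm (Fin 6)).symm i)) = c := by
      funext i
      show c i * (c₀ i)⁻¹ * c₀ i = c i
      rw [inv_mul_cancel_right]
    rw [this, one_mul]
    exact h y hy
  have hconst := part2 hF hω _ hr
  intro i
  have := hconst i 0
  change c i * (c₀ i)⁻¹ = c 0 * (c₀ 0)⁻¹ at this
  rw [← this, inv_mul_cancel_right]

theorem card_M : Nat.card {f : Equiv.Perm (Fin 6) × (Fin 6 → Fˣ) //
    (∀ x ∈ Cfsg.hexacode F ω, Cfsg.monomialMap f.1 f.2 x ∈ Cfsg.hexacode F ω)} = 1080 := by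
  classical
  have hch : ∀ σ : ↥(alternatingGroup (Fin 6)), ∃ c : Fin 6 → Fˣ, Pres ω σ.1 c :=
    fun σ => alt_le_SS hF hω σ.2
  choose cσ hcσ using hch
  let Φ : ↥(alternatingGroup (Fin 6)) × Fˣ → {f : Equiv.Perm (Fin 6) × (Fin 6 → Fˣ) //
      (∀ x ∈ Cfsg.hexacode F ω, Cfsg.monomialMap f.1 f.2 x ∈ Cfsg.hexacode F ω)} :=
    fun q => ⟨(q.1.1, fun i => q.2 * cσ q.1 i), by
      intro x hx
      have e : monomialMap q.1.1 (fun i => q.2 * cσ q.1 i) x =
          (q.2 : F) • monomialMap q.1.1 (cσ q.1) x := by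
        funext i
        simp only [monomialMap, Units.val_mul, Pi.smul_apply, smul_eq_mul, mul_assoc]
      show monomialMap q.1.1 (fun i => q.2 * cσ q.1 i) x ∈ hexacode F ω
      rw [e]
      exact Submodule.smul_mem _ _ (hcσ q.1 x hx)⟩
  have hΦ : Function.Bijective Φ := by
    constructor
    · rintro ⟨σ, a⟩ ⟨τ, b⟩ h
      have h1 : σ.1 = τ.1 := congrArg (fun f => f.1.1) h
      have h1' : σ = τ := Subtype.ext h1
      subst h1'
      have h2 : (fun i => a * cσ σ i) = (fun i => b * cσ σ i) := congrArg (fun f => f.1.2) h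
      have h3 : a * cσ σ 0 = b * cσ σ 0 := congrFun h2 0
      rw [mul_right_cancel h3]
    · rintro ⟨⟨σ, c⟩, hc⟩
      have hσ : σ ∈ alternatingGroup (Fin 6) := SS_le_alt hF hω ⟨c, hc⟩
      refine ⟨(⟨σ, hσ⟩, c 0 * (cσ ⟨σ, hσ⟩ 0)⁻¹), ?_⟩
      apply Subtype.ext
      show ((σ, fun i => c 0 * (cσ ⟨σ, hσ⟩ 0)⁻¹ * cσ ⟨σ, hσ⟩ i) :
        Equiv.Perm (Fin 6) × (Fin 6 → Fˣ)) = (σ, c)
      congr 1
      funext i
      exact (ratio_const hF hω hc (hcσ ⟨σ, hσ⟩) i).symm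
  rw [← Nat.card_congr (Equiv.ofBijective Φ hΦ), Nat.card_prod]
  have hA : Nat.card ↥(alternatingGroup (Fin 6)) = 360 := by
    have := two_mul_card_alternatingGroup (α := Fin 6)
    rw [Fintype.card_perm, Fintype.card_fin] at this
    rw [Nat.card_eq_fintype_card]
    have h720 : Nat.factorial 6 = 720 := by decide
    omega
  have hU : Nat.card Fˣ = 3 := by
    rw [Nat.card_eq_fintype_card, Fintype.card_units, hF]
  rw [hA, hU]

end abs

theorem result (F : Type*) [Field F] [Fintype F] [DecidableEq F] (hF : Fintype.card F = 4) (ω : F) (hω : ω ^ 2 + ω + 1 = 0) : Nat.card {f : Equiv.Perm (Fin 6) × (Fin 6 → Fˣ) // (∀ x ∈ Cfsg.hexacode F ω, Cfsg.monomialMap f.1 f.2 x ∈ Cfsg.hexacode F ω)} = 1080 ∧ (∀ c : Fin 6 → Fˣ, (∀ x ∈ Cfsg.hexacode F ω, Cfsg.monomialMap 1 c x ∈ Cfsg.hexacode F ω) → ∀ i j, c i = c j) ∧ {σ : Equiv.Perm (Fin 6) | ∃ c : Fin 6 → Fˣ, (∀ x ∈ Cfsg.hexacode F ω, Cfsg.monomialMap σ c x ∈ Cfsg.hexacode F ω)}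 = (alternatingGroup (Fin 6) : Set (Equiv.Perm (Fin 6))) := by
  refine ⟨card_M hF hω, fun c h => part2 hF hω c h, ?_⟩
  exact Set.Subset.antisymm (SS_le_alt hF hω) (alt_le_SS hF hω)

end Cfsg.Agent.S1611
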