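import Cfsg.Statements.S1635
import Mathlib
import Cfsg.Agent.Lib.Helper1_Sextets
import Cfsg.Agent.S1550

set_option autoImplicit false
open Cfsg
open scoped Pointwise
open Cfsg.Agent.Lib.Helper1_Chain Cfsg.Agent.Lib.Helper1_Golay

namespace Cfsg.Agent.S1635

local notation "𝒢" => supports (golayCode : Set (GolayPt → ZMod 2))
local notation "V" => (GolayPt → ZMod 2)

theorem sub_eq_add' (a b : V) : a - b = a + b := by
  funext p
  simp only [Pi.sub_apply, Pi.add_apply]
  generalize a p = x
  generalize b p = y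
  revert x y; decide

theorem ind_sub_mem_iff (s t : Finset GolayPt) : ind s - ind t ∈ golayCode ↔ symmDiff s t ∈ 𝒢 := by
  rw [mem_supports_iff, ind_symmDiff, sub_eq_add']
  rfl

theorem hammingNorm_ind (s : Finset GolayPt) : hammingNorm (ind s) = s.card := by
  rw [hammingNorm_eq, support₂_ind]

/-- the coset of the indicator of a set -/
noncomputable def cls (s : Finset GolayPt) : V ⧸ golayCode := Submodule.Quotient.mk (ind s)

theorem cls_eq_iff (s t : Finset GolayPt) : cls s = cls t ↔ symmDiff s t ∈ 𝒢 := by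
  unfold cls
  rw [Submodule.Quotient.eq, ind_sub_mem_iff]

theorem card_quot : Nat.card (V ⧸ golayCode) = 4096 := by
  have h1 := Submodule.card_eq_card_quotient_mul_card (golayCode : Submodule (ZMod 2) V)
  have h2 : Nat.card V = 2 ^ 24 := by
    rw [Nat.card_eq_fintype_card]
    simp
  have h3 : Nat.card golayCode = 2 ^ 12 := by
    rw [Module.natCard_eq_pow_finrank (K := ZMod 2), finrank_golay]
    simp
  rw [h2, h3] at h1
  have h4 : Nat.card (V ⧸ golayCode) * 4096 = 4096 * 4096 := by
    have h24 : (2:ℕ) ^ 24 = 4096 * 4096 := by norm_num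
    have h12 : (2:ℕ) ^ 12 = 4096 := by norm_num
    rw [h24, h12] at h1
    rw [mul_comm]; exact h1.symm
  generalize Nat.card (V ⧸ golayCode) = n at h4 ⊢
  omega

theorem card_small_sets :
    ((Finset.univ : Finset (Finset GolayPt)).filter (fun s => s.card ≤ 3)).card = 2325 := by
  have h : (Finset.univ : Finset (Finset GolayPt)).filter (fun s => s.card ≤ 3)
      = (Finset.range 4).biUnion (fun k => Finset.powersetCard k (Finset.univ : Finset GolayPt)) := by
    ext s
    simp only [Finset.mem_filter, Finset.mem_univ, true_and, Finset.mem_biUnion, Finset.mem_range,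
      Finset.mem_powersetCard, Finset.subset_univ]
    constructor
    · intro hs; exact ⟨s.card, by omega, rfl⟩
    · rintro ⟨k, hk, hks⟩; omega
  rw [h, Finset.card_biUnion]
  · simp only [Finset.card_powersetCard, Finset.card_univ]
    have : Fintype.card GolayPt = 24 := by decide
    rw [this]
    decide
  · intro i _ j _ hij
    exact Finset.pairwise_disjoint_powersetCard _ hij

/-- a chosen tetrad of a sextet -/
theorem exists_tet (S : Finset (Finset GolayPt)) : ∃ t : Finset GolayPt, S ∈ sextets → t ∈ S := by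
  by_cases hS : S ∈ sextets
  · have : 0 < S.card := by rw [hS.1]; decide
    obtain ⟨t, ht⟩ := Finset.card_pos.1 this
    exact ⟨t, fun _ => ht⟩
  · exact ⟨∅, fun h => absurd h hS⟩

noncomputable def tet (S : Finset (Finset GolayPt)) : Finset GolayPt := Classical.choose (exists_tet S)

theorem tet_mem {S : Finset (Finset GolayPt)} (hS : S ∈ sextets) : tet S ∈ S :=
  Classical.choose_spec (exists_tet S) hS

/-- cosets with a leader of weight at most 3 -/
def A : Set (V ⧸ golayCode) := cls '' {s | s.card ≤ 3}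
/-- cosets of sextets -/
def B : Set (V ⧸ golayCode) := (fun S => cls (tet S)) '' sextets

theorem ncard_A : A.ncard = 2325 := by
  unfold A
  rw [Set.InjOn.ncard_image]
  · rw [← card_small_sets, ← Set.ncard_coe_finset]
    congr 1
    ext s
    simp
  · intro s hs t ht h
    rw [cls_eq_iff] at h
    rw [Set.mem_ofPred_eq] at hs ht
    have h1 := card_symmDiff_add s t
    have h2 := card_of_mem_G h
    have h3 : (symmDiff s t).card = 0 := by omega
    rw [Finset.card_eq_zero] at h3
    exact symmDiff_eq_bot.1 h3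

theorem ncard_B : B.ncard = 1771 := by
  unfold B
  rw [Set.InjOn.ncard_image, Cfsg.Agent.S1550.ncard_sextets]
  intro S hS S' hS' h
  simp only at h
  rw [cls_eq_iff] at h
  have ht := tet_mem hS
  have ht' := tet_mem hS'
  have h4 : (tet S).card = 4 := hS.2.1 _ ht
  have h4' : (tet S').card = 4 := hS'.2.1 _ ht'
  have hmem : tet S' ∈ leaders (tet S) := ⟨le_of_eq h4', h⟩
  rw [← sextet_eq_leaders hS ht] at hmem
  exact (existsUnique_sextet h4').unique ⟨hS, hmem⟩ ⟨hS', ht'⟩

theorem disjoint_AB : Disjoint A B := by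
  rw [Set.disjoint_left]
  rintro q ⟨s, hs, rfl⟩ ⟨S, hS, h⟩
  simp only at h
  rw [cls_eq_iff] at h
  rw [Set.mem_ofPred_eq] at hs
  have ht := tet_mem hS
  have h4 : (tet S).card = 4 := hS.2.1 _ ht
  have hmem : s ∈ leaders (tet S) := ⟨by omega, h⟩
  have := card_of_mem_leaders h4 hmem
  omega

theorem union_AB : A ∪ B = Set.univ := by
  rw [Set.eq_univ_iff_ncard, Set.ncard_union_eq disjoint_AB, ncard_A, ncard_B, card_quot]

/-- every word is congruent to a word of weight at most 4 -/
theorem exists_leader (w : V) : ∃ s : Finset GolayPt, s.card ≤ 4 ∧ w - ind s ∈ golayCode := by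
  have h : (Submodule.Quotient.mk w : V ⧸ golayCode) ∈ A ∪ B := by rw [union_AB]; trivial
  rcases h with ⟨s, hs, h⟩ | ⟨S, hS, h⟩
  · rw [Set.mem_ofPred_eq] at hs
    refine ⟨s, by omega, ?_⟩
    unfold cls at h
    rw [← Submodule.Quotient.eq]; exact h.symm
  · simp only at h
    have ht := tet_mem hS
    have h4 : (tet S).card = 4 := hS.2.1 _ ht
    refine ⟨tet S, le_of_eq h4, ?_⟩
    unfold cls at h
    rw [← Submodule.Quotient.eq]; exact h.symm

/-- the leaders of the coset of `w`, from one of them -/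
theorem leaders_eq (w : V) (s : Finset GolayPt) (hs : w - ind s ∈ golayCode) :
    {v : V | hammingNorm v ≤ 4 ∧ w - v ∈ golayCode} = ind '' {u | u.card ≤ 4 ∧ symmDiff s u ∈ 𝒢} := by
  ext v
  constructor
  · rintro ⟨hv, hwv⟩
    refine ⟨support₂ v, ⟨hv, ?_⟩, ind_support₂ v⟩
    rw [← ind_sub_mem_iff, ind_support₂]
    have : ind s - v = (w - v) - (w - ind s) := by abel
    rw [this]
    exact golayCode.sub_mem hwv hs
  · rintro ⟨u, ⟨hu, hsu⟩, rfl⟩
    refine ⟨by rw [hammingNorm_ind]; exact hu, ?_⟩
    rw [← ind_sub_mem_iff] at hsu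
    have : w - ind u = (w - ind s) + (ind s - ind u) := by abel
    rw [this]
    exact golayCode.add_mem hs hsu

theorem ind_injective : Function.Injective (ind : Finset GolayPt → V) := by
  intro a b hab
  rw [← support₂_ind a, ← support₂_ind b, hab]

/-- Coset leaders of the length-24 code: a coset contains a unique word of weight ≤ 3, or else exactly six words of weight 4 and none lighter. -/
theorem result (w : Cfsg.GolayPt → ZMod 2) : ({v : Cfsg.GolayPt → ZMod 2 | hammingNorm v ≤ 4 ∧ w - v ∈ Cfsg.golayCode}.ncard = 1 ∧ ∃ v : Cfsg.GolayPt → ZMod 2, hammingNorm v ≤ 3 ∧ w - v ∈ Cfsg.golayCode) ∨ ({v : Cfsg.GolayPt → ZMod 2 | hammingNorm v ≤ 4 ∧ w - v ∈ Cfsg.golayCode}.ncard = 6 ∧ ∀ v : Cfsg.GolayPt → ZMod 2, w - v ∈ Cfsg.golayCode → hammingNorm v ≤ 4 → hammingNorm v = 4) := by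
  obtain ⟨s, hs4, hs⟩ := exists_leader w
  rw [leaders_eq w s hs, Set.InjOn.ncard_image (ind_injective.injOn)]
  by_cases h3 : s.card ≤ 3
  · left
    refine ⟨?_, ind s, by rw [hammingNorm_ind]; exact h3, hs⟩
    have : {u : Finset GolayPt | u.card ≤ 4 ∧ symmDiff s u ∈ 𝒢} = {s} := by
      ext u
      simp only [Set.mem_ofPred_eq, Set.mem_singleton_iff]
      constructor
      · rintro ⟨hu, hsu⟩
        have h1 := card_symmDiff_add s u
        have h2 := card_of_mem_G hsu
        have h3 : (symmDiff s u).card = 0 := by omega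
        rw [Finset.card_eq_zero] at h3
        exact (symmDiff_eq_bot.1 h3).symm
      · rintro rfl
        refine ⟨hs4, ?_⟩
        rw [symmDiff_self]; exact empty_mem
    rw [this, Set.ncard_singleton]
  · right
    have h4 : s.card = 4 := by omega
    refine ⟨ncard_leaders h4, ?_⟩
    intro v hwv hv
    have hmem : v ∈ {v : V | hammingNorm v ≤ 4 ∧ w - v ∈ golayCode} := ⟨hv, hwv⟩
    rw [leaders_eq w s hs] at hmem
    obtain ⟨u, hu, rfl⟩ := hmem
    rw [hammingNorm_ind]
    exact card_of_mem_leaders h4 hu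

end Cfsg.Agent.S1635
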