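import Cfsg.Statements.S1637
import Mathlib
import Cfsg.Agent.Lib.Helper1_Punct

set_option autoImplicit false
open Cfsg
open scoped Pointwise
open Cfsg.Agent.Lib.Helper1_Golay Cfsg.Agent.Lib.Helper1_Punct

namespace Cfsg.Agent.S1637

/-- the ball of radius 3 around zero -/
def ball3 : Set (ZMod 23 → ZMod 2) := {e | hammingNorm e ≤ 3}

theorem hammingNorm_eq_card (e : ZMod 23 → ZMod 2) : hammingNorm e = (support₂ e).card := rfl

theorem card_small_sets :
    ((Finset.univ : Finset (Finset (ZMod 23))).filter (fun s => s.card ≤ 3)).card = 2048 := by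
  have h : (Finset.univ : Finset (Finset (ZMod 23))).filter (fun s => s.card ≤ 3)
      = (Finset.range 4).biUnion (fun k => Finset.powersetCard k (Finset.univ : Finset (ZMod 23))) := by
    ext s
    simp only [Finset.mem_filter, Finset.mem_univ, true_and, Finset.mem_biUnion, Finset.mem_range,
      Finset.mem_powersetCard, Finset.subset_univ]
    constructor
    · intro hs; exact ⟨s.card, by omega, rfl⟩
    · rintro ⟨k, hk, hks⟩; omega
  rw [h, Finset.card_biUnion]
  · simp only [Finset.card_powersetCard, Finset.card_univ, ZMod.card]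
    decide
  · intro i _ j _ hij
    exact Finset.pairwise_disjoint_powersetCard _ hij

theorem ncard_ball3 : ball3.ncard = 2048 := by
  have h : ball3 = ind '' (((Finset.univ : Finset (Finset (ZMod 23))).filter (fun s => s.card ≤ 3) :
      Finset (Finset (ZMod 23))) : Set (Finset (ZMod 23))) := by
    ext e
    constructor
    · intro he
      refine ⟨support₂ e, ?_, ind_support₂ e⟩
      simp only [Finset.coe_filter, Finset.mem_univ, true_and, Set.mem_ofPred_eq]
      exact he
    · rintro ⟨s, hs, rfl⟩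
      simp only [Finset.coe_filter, Finset.mem_univ, true_and, Set.mem_ofPred_eq] at hs
      show hammingNorm (ind s) ≤ 3
      rw [hammingNorm_eq_card, support₂_ind]
      exact hs
  rw [h, Set.InjOn.ncard_image, Set.ncard_coe_finset, card_small_sets]
  intro a _ b _ hab
  rw [← support₂_ind a, ← support₂_ind b, hab]

theorem dist_eq_norm_sub (x y : ZMod 23 → ZMod 2) : hammingDist x y = hammingNorm (x - y) := by
  simp_rw [hammingNorm, hammingDist, Pi.sub_apply, ne_eq, sub_eq_zero]

theorem dist_add_left (c e : ZMod 23 → ZMod 2) : hammingDist (c + e) c = hammingNorm e := by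
  rw [dist_eq_norm_sub]; congr 1; abel

/-- two codewords at distance at most 6 coincide -/
theorem eq_of_dist_le {c c' : ZMod 23 → ZMod 2} (hc : c ∈ pcode) (hc' : c' ∈ pcode)
    (h : hammingDist c c' ≤ 6) : c = c' := by
  by_contra hne
  have h1 : c - c' ∈ pcode := pcode_sub hc hc'
  have h2 : c - c' ≠ 0 := sub_ne_zero.2 hne
  have h3 := seven_le_of_ne_zero h1 h2
  rw [← dist_eq_norm_sub] at h3
  omega

theorem injOn_add : Set.InjOn (fun p : (ZMod 23 → ZMod 2) × (ZMod 23 → ZMod 2) => p.1 + p.2)
    (pcode ×ˢ ball3) := by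
  rintro ⟨c, e⟩ ⟨hc, he⟩ ⟨c', e'⟩ ⟨hc', he'⟩ h
  simp only at h hc he hc' he'
  have hd : hammingDist c c' ≤ 6 := by
    have h1 : hammingDist c (c + e) = hammingNorm e := by
      rw [hammingDist_comm, dist_add_left]
    have h2 : hammingDist c' (c + e) = hammingNorm e' := by
      rw [h, hammingDist_comm, dist_add_left]
    have := hammingDist_triangle_right c c' (c + e)
    unfold ball3 at he he'
    simp only [Set.mem_ofPred_eq] at he he'
    omega
  have hcc := eq_of_dist_le hc hc' hd
  subst hcc
  have : e = e' := add_left_cancel h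
  rw [this]

theorem surj (u : ZMod 23 → ZMod 2) : ∃ c ∈ pcode, ∃ e ∈ ball3, c + e = u := by
  have hcard : ((fun p : (ZMod 23 → ZMod 2) × (ZMod 23 → ZMod 2) => p.1 + p.2) ''
      (pcode ×ˢ ball3)).ncard = 2 ^ 23 := by
    rw [Set.InjOn.ncard_image injOn_add, Set.ncard_prod, ncard_pcode, ncard_ball3]
    norm_num
  have huniv : ((fun p : (ZMod 23 → ZMod 2) × (ZMod 23 → ZMod 2) => p.1 + p.2) ''
      (pcode ×ˢ ball3)) = Set.univ := by
    rw [Set.eq_univ_iff_ncard, hcard]
    simp
  have hu : u ∈ ((fun p : (ZMod 23 → ZMod 2) × (ZMod 23 → ZMod 2) => p.1 + p.2) ''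
      (pcode ×ˢ ball3)) := by rw [huniv]; trivial
  obtain ⟨⟨c, e⟩, ⟨hc, he⟩, hce⟩ := hu
  exact ⟨c, hc, e, he, hce⟩

/-- The punctured length-23 code is a perfect 3-error-correcting code: each word of length 23 is within distance 3 of exactly one codeword. -/
theorem result (u : ZMod 23 → ZMod 2) : ∃! c : ZMod 23 → ZMod 2, c ∈ {u : ZMod 23 → ZMod 2 | ∃ w ∈ Cfsg.golayCode, ∀ x : ZMod 23, u x = w (some x)} ∧ hammingDist u c ≤ 3 := by
  obtain ⟨c, hc, e, he, hce⟩ := surj u
  have hdist : ∀ c e : ZMod 23 → ZMod 2, c + e = u → hammingDist u c = hammingNorm e := by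
    intro c e h
    rw [← h, dist_add_left]
  refine ⟨c, ⟨hc, ?_⟩, ?_⟩
  · rw [hdist c e hce]; exact he
  · rintro c' ⟨hc', hd'⟩
    have hd : hammingDist u c ≤ 3 := by rw [hdist c e hce]; exact he
    have := hammingDist_triangle_left c' c u
    exact eq_of_dist_le hc' hc (by omega)

end Cfsg.Agent.S1637
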