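import Cfsg.Statements.S1638
import Mathlib
import Cfsg.Agent.Lib.Helper1_Tetrads

set_option autoImplicit false
open Cfsg
open scoped Pointwise
open Cfsg.Agent.Lib.Helper1_Chain Cfsg.Agent.Lib.Helper1_Golay

namespace Cfsg.Agent.S1638

/-- the octad property in terms of `InOctad` -/
theorem prop_iff (p q : GolayPt) (s t : Finset GolayPt) :
    (∃ o ∈ octads, p ∈ o ∧ q ∈ o ∧ s ∪ t ⊆ o) ↔ InOctad (insert p (insert q s) ∪ t) := by
  unfold InOctad
  constructor
  · rintro ⟨o, ho, hp, hq, hst⟩
    refine ⟨o, ho, ?_⟩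
    rw [Finset.insert_union, Finset.insert_union, Finset.insert_subset_iff,
      Finset.insert_subset_iff]
    exact ⟨hp, hq, hst⟩
  · rintro ⟨o, ho, h⟩
    rw [Finset.insert_union, Finset.insert_union, Finset.insert_subset_iff,
      Finset.insert_subset_iff] at h
    exact ⟨o, ho, h.1, h.2.1, h.2.2⟩

theorem smul_pair (g : Equiv.Perm GolayPt) (a b : GolayPt) :
    g • ({a, b} : Finset GolayPt) = {g a, g b} := by
  rw [Finset.smul_finset_insert, Finset.smul_finset_singleton]; rfl

set_option maxHeartbeats 2000000 in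
/-- statement -/
theorem result (p q : Cfsg.GolayPt) (hpq : p ≠ q) (s : Finset Cfsg.GolayPt) (hs : (s.card = 2 ∧ p ∉ s ∧ q ∉ s)) : {t : Finset Cfsg.GolayPt | (t.card = 2 ∧ p ∉ t ∧ q ∉ t) ∧ Disjoint s t ∧ (∃ o ∈ Cfsg.octads, p ∈ o ∧ q ∈ o ∧ s ∪ t ⊆ o)}.ncard = 30 ∧ {t : Finset Cfsg.GolayPt | (t.card = 2 ∧ p ∉ t ∧ q ∉ t) ∧ Disjoint s t ∧ ¬ (∃ o ∈ Cfsg.octads, p ∈ o ∧ q ∈ o ∧ s ∪ t ⊆ o)}.ncard = 160 ∧ ∀ t t' : Finset Cfsg.GolayPt, (t.card = 2 ∧ p ∉ t ∧ q ∉ t) → (t'.card = 2 ∧ p ∉ t' ∧ q ∉ t') → t ≠ s → t' ≠ s → (s ∩ t).card = (s ∩ t').card → ((∃ o ∈ Cfsg.octads, p ∈ o ∧ q ∈ o ∧ s ∪ t ⊆ o) ↔ (∃ o ∈ Cfsg.octads, p ∈ o ∧ q ∈ o ∧ s ∪ t' ⊆ o)) → ∃ g : Equiv.Perm Cfsg.GolayPt, g ∈ Cfsg.M24 ∧ g p = p ∧ g q = q ∧ g • s = s ∧ g • t = t' := by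
  classical
  obtain ⟨hs2, hps, hqs⟩ := hs
  have hF : (insert p (insert q s)).card = 4 := by
    rw [Finset.card_insert_of_notMem, Finset.card_insert_of_notMem hqs, hs2]
    rw [Finset.mem_insert, not_or]
    exact ⟨hpq, hps⟩
  obtain ⟨c30, c160⟩ := ncard_duads hF
  have hdis : ∀ t : Finset GolayPt, Disjoint (insert p (insert q s)) t ↔
      (p ∉ t ∧ q ∉ t) ∧ Disjoint s t := by
    intro t
    rw [Finset.disjoint_insert_left, Finset.disjoint_insert_left, and_assoc]
  refine ⟨?_, ?_, ?_⟩
  · rw [← c30]
    congr 1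
    ext t
    simp only [Set.mem_ofPred_eq, hdis t, prop_iff p q s t]
    tauto
  · rw [← c160]
    congr 1
    ext t
    simp only [Set.mem_ofPred_eq, hdis t, prop_iff p q s t]
    tauto
  · intro t t' ht ht' hts ht's hcard hprop
    obtain ⟨a, b, hab, rfl⟩ := Finset.card_eq_two.1 hs2
    simp only [Finset.mem_insert, Finset.mem_singleton, not_or] at hps hqs
    -- describe a pair by its intersection with `s`
    have hshape : ∀ t : Finset GolayPt, (t.card = 2 ∧ p ∉ t ∧ q ∉ t) → t ≠ {a, b} →
        (∃ c e, t = {c, e} ∧ c ≠ e ∧ c ≠ p ∧ c ≠ q ∧ c ≠ a ∧ c ≠ b ∧ e ≠ p ∧ e ≠ q ∧ e ≠ a ∧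
          e ≠ b ∧ (({a, b} : Finset GolayPt) ∩ t).card = 0) ∨
        (∃ a' b' c, ({a', b'} : Finset GolayPt) = {a, b} ∧ a' ≠ b' ∧ t = {a', c} ∧ c ≠ p ∧
          c ≠ q ∧ c ≠ a' ∧ c ≠ b' ∧ (({a, b} : Finset GolayPt) ∩ t).card = 1) := by
      intro t ht hne
      obtain ⟨x, y, hxy, rfl⟩ := Finset.card_eq_two.1 ht.1
      have hx : x ≠ p ∧ x ≠ q := by
        have h1 := ht.2.1; have h2 := ht.2.2
        simp only [Finset.mem_insert, Finset.mem_singleton, not_or] at h1 h2
        exact ⟨fun h => h1.1 h.symm, fun h => h2.1 h.symm⟩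
      have hy : y ≠ p ∧ y ≠ q := by
        have h1 := ht.2.1; have h2 := ht.2.2
        simp only [Finset.mem_insert, Finset.mem_singleton, not_or] at h1 h2
        exact ⟨fun h => h1.2 h.symm, fun h => h2.2 h.symm⟩
      by_cases hxs : x = a ∨ x = b <;> by_cases hys : y = a ∨ y = b
      · exfalso
        apply hne
        rcases hxs with rfl | rfl <;> rcases hys with rfl | rfl
        · exact absurd rfl hxy
        · rfl
        · exact Finset.pair_comm _ _
        · exact absurd rfl hxy
      · right
        push Not at hys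
        rcases hxs with rfl | rfl
        · refine ⟨x, b, y, rfl, hab, rfl, hy.1, hy.2, hys.1, hys.2, ?_⟩
          have : ({x, b} : Finset GolayPt) ∩ {x, y} = {x} := by
            ext z
            simp only [Finset.mem_inter, Finset.mem_insert, Finset.mem_singleton]
            constructor
            · rintro ⟨h1 | h1, h2 | h2⟩
              · exact h1
              · exact h1
              · exact h2
              · rw [h1] at h2; exact absurd h2.symm hys.2
            · intro h; exact ⟨Or.inl h, Or.inl h⟩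
          rw [this, Finset.card_singleton]
        · refine ⟨x, a, y, Finset.pair_comm _ _, hab.symm, rfl, hy.1, hy.2, hys.2, hys.1, ?_⟩
          have : ({a, x} : Finset GolayPt) ∩ {x, y} = {x} := by
            ext z
            simp only [Finset.mem_inter, Finset.mem_insert, Finset.mem_singleton]
            constructor
            · rintro ⟨h1 | h1, h2 | h2⟩
              · exact h2
              · rw [h1] at h2; exact absurd h2.symm hys.1
              · exact h1
              · exact h1
            · intro h; exact ⟨Or.inr h, Or.inl h⟩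
          rw [this, Finset.card_singleton]
      · right
        push Not at hxs
        rcases hys with rfl | rfl
        · refine ⟨y, b, x, rfl, hab, Finset.pair_comm _ _, hx.1, hx.2, hxs.1, hxs.2, ?_⟩
          have : ({y, b} : Finset GolayPt) ∩ {x, y} = {y} := by
            ext z
            simp only [Finset.mem_inter, Finset.mem_insert, Finset.mem_singleton]
            constructor
            · rintro ⟨h1 | h1, h2 | h2⟩
              · exact h1
              · exact h1
              · rw [h1] at h2; exact absurd h2.symm hxs.2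
              · exact h2
            · intro h; exact ⟨Or.inl h, Or.inr h⟩
          rw [this, Finset.card_singleton]
        · refine ⟨y, a, x, Finset.pair_comm _ _, hab.symm, Finset.pair_comm _ _, hx.1, hx.2,
            hxs.2, hxs.1, ?_⟩
          have : ({a, y} : Finset GolayPt) ∩ {x, y} = {y} := by
            ext z
            simp only [Finset.mem_inter, Finset.mem_insert, Finset.mem_singleton]
            constructor
            · rintro ⟨h1 | h1, h2 | h2⟩
              · rw [h1] at h2; exact absurd h2.symm hxs.1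
              · exact h2
              · exact h1
              · exact h1
            · intro h; exact ⟨Or.inr h, Or.inr h⟩
          rw [this, Finset.card_singleton]
      · left
        push Not at hxs hys
        refine ⟨x, y, rfl, hxy, hx.1, hx.2, hxs.1, hxs.2, hy.1, hy.2, hys.1, hys.2, ?_⟩
        rw [Finset.card_eq_zero]
        ext z
        simp only [Finset.mem_inter, Finset.mem_insert, Finset.mem_singleton,
          Finset.notMem_empty, iff_false, not_and, not_or]
        rintro (rfl | rfl)
        · exact ⟨fun h => hxs.1 h.symm, fun h => hys.1 h.symm⟩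
        · exact ⟨fun h => hxs.2 h.symm, fun h => hys.2 h.symm⟩
    rcases hshape t ht hts with ⟨c, e, rfl, hce, hcp, hcq, hca, hcb, hep, heq, hea, heb, h0⟩ |
      ⟨a1, b1, c, hab1, hne1, rfl, hcp, hcq, hca, hcb, h1⟩
    · rcases hshape t' ht' ht's with
        ⟨c', e', rfl, hce', hcp', hcq', hca', hcb', hep', heq', hea', heb', h0'⟩ |
        ⟨a2, b2, c', hab2, hne2, rfl, hcp', hcq', hca', hcb', h1'⟩
      · -- six points
        have hnd : [p, q, a, b, c, e].Nodup := by
          simp only [List.nodup_cons, List.mem_cons, List.mem_nil_iff, or_false, not_or,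
            List.not_mem_nil, not_false_eq_true, List.nodup_nil, and_true]
          exact ⟨⟨hpq, hps.1, hps.2, hcp.symm, hep.symm⟩, ⟨hqs.1, hqs.2, hcq.symm, heq.symm⟩,
            ⟨hab, hca.symm, hea.symm⟩, ⟨hcb.symm, heb.symm⟩, hce⟩
        have hnd' : [p, q, a, b, c', e'].Nodup := by
          simp only [List.nodup_cons, List.mem_cons, List.mem_nil_iff, or_false, not_or,
            List.not_mem_nil, not_false_eq_true, List.nodup_nil, and_true]
          exact ⟨⟨hpq, hps.1, hps.2, hcp'.symm, hep'.symm⟩,
            ⟨hqs.1, hqs.2, hcq'.symm, heq'.symm⟩, ⟨hab, hca'.symm, hea'.symm⟩,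
            ⟨hcb'.symm, heb'.symm⟩, hce'⟩
        have hfs : ∀ x y : GolayPt, [p, q, a, b, x, y].toFinset =
            insert p (insert q {a, b}) ∪ {x, y} := by
          intro x y
          ext z
          simp only [List.toFinset_cons, List.toFinset_nil, Finset.mem_insert, Finset.mem_union,
            Finset.mem_singleton, Finset.notMem_empty, or_false]
          tauto
        obtain ⟨g, hg, hgl⟩ := exists_map_six hnd hnd' rfl rfl (by
          rw [hfs, hfs, ← prop_iff, ← prop_iff]; exact hprop)
        simp only [List.map_cons, List.map_nil, List.cons.injEq, and_true] at hgl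
        obtain ⟨g1, g2, g3, g4, g5, g6⟩ := hgl
        refine ⟨g, hg, g1, g2, ?_, ?_⟩
        · rw [smul_pair, g3, g4]
        · rw [smul_pair, g5, g6]
      · rw [h0, h1'] at hcard; exact absurd hcard (by decide)
    · rcases hshape t' ht' ht's with
        ⟨c', e', rfl, hce', hcp', hcq', hca', hcb', hep', heq', hea', heb', h0'⟩ |
        ⟨a2, b2, c', hab2, hne2, rfl, hcp', hcq', hca', hcb', h1'⟩
      · rw [h1, h0'] at hcard; exact absurd hcard (by decide)
      · -- five points
        have hmem : ∀ x y : GolayPt, ({x, y} : Finset GolayPt) = {a, b} →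
            (x = a ∨ x = b) ∧ (y = a ∨ y = b) := by
          intro x y h
          have hx : x ∈ ({a, b} : Finset GolayPt) := by rw [← h]; simp
          have hy : y ∈ ({a, b} : Finset GolayPt) := by rw [← h]; simp
          simp only [Finset.mem_insert, Finset.mem_singleton] at hx hy
          exact ⟨hx, hy⟩
        have hpq1 : ∀ x y : GolayPt, ({x, y} : Finset GolayPt) = {a, b} →
            p ≠ x ∧ p ≠ y ∧ q ≠ x ∧ q ≠ y := by
          intro x y h
          obtain ⟨hx, hy⟩ := hmem x y h
          refine ⟨?_, ?_, ?_, ?_⟩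
          · rcases hx with rfl | rfl
            · exact hps.1
            · exact hps.2
          · rcases hy with rfl | rfl
            · exact hps.1
            · exact hps.2
          · rcases hx with rfl | rfl
            · exact hqs.1
            · exact hqs.2
          · rcases hy with rfl | rfl
            · exact hqs.1
            · exact hqs.2
        obtain ⟨u1, u2, u3, u4⟩ := hpq1 a1 b1 hab1
        obtain ⟨v1, v2, v3, v4⟩ := hpq1 a2 b2 hab2
        have hnd : [p, q, a1, b1, c].Nodup := by
          simp only [List.nodup_cons, List.mem_cons, List.mem_nil_iff, or_false, not_or,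
            List.not_mem_nil, not_false_eq_true, List.nodup_nil, and_true]
          exact ⟨⟨hpq, u1, u2, hcp.symm⟩, ⟨u3, u4, hcq.symm⟩, ⟨hne1, hca.symm⟩, hcb.symm⟩
        have hnd' : [p, q, a2, b2, c'].Nodup := by
          simp only [List.nodup_cons, List.mem_cons, List.mem_nil_iff, or_false, not_or,
            List.not_mem_nil, not_false_eq_true, List.nodup_nil, and_true]
          exact ⟨⟨hpq, v1, v2, hcp'.symm⟩, ⟨v3, v4, hcq'.symm⟩, ⟨hne2, hca'.symm⟩, hcb'.symm⟩
        obtain ⟨g, hg, hgl⟩ := exists_map_lists hnd hnd' rfl le_rfl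
        simp only [List.map_cons, List.map_nil, List.cons.injEq, and_true] at hgl
        obtain ⟨g1, g2, g3, g4, g5⟩ := hgl
        refine ⟨g, hg, g1, g2, ?_, ?_⟩
        · rw [← hab1, smul_pair, g3, g4, hab2, hab1]
        · rw [smul_pair, g3, g5]

end Cfsg.Agent.S1638
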