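import Cfsg.Statements.S1639
import Mathlib
import Cfsg.Agent.Lib.Helper1_DodecadPairs
import Cfsg.Agent.S1607

set_option autoImplicit false
open Cfsg
open scoped Pointwise
open Cfsg.Agent.Lib.Helper1_Chain Cfsg.Agent.Lib.Helper1_Golay

namespace Cfsg.Agent.S1639

set_option maxRecDepth 1000000 in
theorem count_std : ∀ k ∈ [4, 6, 8], ((allWords rows).filter
    (fun n => popc n = 12 ∧ (n.testBit 0 = true ∧ popc (d0 &&& n) = k))).length =
      [0, 0, 0, 0, 165, 0, 792, 0, 330].getD k 0 := by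
  decide +kernel

theorem trans_through {x : GolayPt} {d d' d'' : Finset GolayPt} (hd : d ∈ dodecads)
    (hd' : d' ∈ dodecads) (hd'' : d'' ∈ dodecads) (hx : x ∈ d) (hx' : x ∈ d') (hx'' : x ∈ d'')
    (h : (d ∩ d').card = (d ∩ d'').card) :
    ∃ g : Equiv.Perm GolayPt, g ∈ M24 ∧ g x = x ∧ g • d = d ∧ g • d' = d'' := by
  obtain ⟨g1, hg1, hg1d, hg1d'⟩ := dodecad_stab_trans hd hd' hd'' h
  have h1d : g1 x ∈ d := by rw [← hg1d]; exact Finset.smul_mem_smul_finset hx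
  have h1d'' : g1 x ∈ d'' := by rw [← hg1d']; exact Finset.smul_mem_smul_finset hx'
  have hfin : ∀ h2 : Equiv.Perm GolayPt, h2 ∈ M24 → h2 • d = d → h2 • d'' = d'' → h2 (g1 x) = x →
      ∃ g : Equiv.Perm GolayPt, g ∈ M24 ∧ g x = x ∧ g • d = d ∧ g • d' = d'' := by
    intro h2 hh2 hh2d hh2d'' hh2x
    refine ⟨h2 * g1, M24.mul_mem hh2 hg1, ?_, ?_, ?_⟩
    · rw [Equiv.Perm.mul_apply, hh2x]
    · rw [mul_smul, hg1d, hh2d]
    · rw [mul_smul, hg1d', hh2d'']
  rcases card_inter_dodecads hd hd'' with h0 | h4 | h6 | h8 | h12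
  · rw [Finset.card_eq_zero] at h0
    have := Finset.mem_inter.2 ⟨hx, hx''⟩
    rw [h0] at this
    exact absurd this (Finset.notMem_empty x)
  · obtain ⟨h2, hh2, a, b, c⟩ := djoint_trans_inter hd hd'' (Or.inl h4)
      (Finset.mem_inter.2 ⟨h1d, h1d''⟩) (Finset.mem_inter.2 ⟨hx, hx''⟩)
    exact hfin h2 hh2 a b c
  · obtain ⟨h2, hh2, a, b, c⟩ := djoint_trans_inter hd hd'' (Or.inr h6)
      (Finset.mem_inter.2 ⟨h1d, h1d''⟩) (Finset.mem_inter.2 ⟨hx, hx''⟩)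
    exact hfin h2 hh2 a b c
  · have hc : (d ∩ d''ᶜ).card = 4 := by
      have : d ∩ d''ᶜ = d \ d'' := by
        ext p; simp [Finset.mem_sdiff]
      rw [this]
      have := Finset.card_sdiff_add_card_inter d d''
      rw [hd.2] at this
      omega
    have hm : ∀ z, z ∈ d → z ∈ d'' → z ∈ d \ d''ᶜ := by
      intro z hz hz''
      rw [Finset.mem_sdiff, Finset.mem_compl, not_not]
      exact ⟨hz, hz''⟩
    obtain ⟨h2, hh2, a, b, c⟩ := djoint_trans_diff hd (compl_mem_dodecads hd'') (Or.inl hc)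
      (hm _ h1d h1d'') (hm _ hx hx'')
    rw [smul_finset_compl'] at b
    exact hfin h2 hh2 a (compl_injective b) c
  · have e1 := eq_of_card_inter_eq hd hd'' h12
    have e2 := eq_of_card_inter_eq hd hd' (h ▸ h12)
    subst e1; subst e2
    exact ⟨1, M24.one_mem, rfl, one_smul _ _, one_smul _ _⟩

/-- statement -/
theorem result (x : Cfsg.GolayPt) (d : Finset Cfsg.GolayPt) (hd : d ∈ Cfsg.dodecads) (hx : x ∈ d) : {d' : Finset Cfsg.GolayPt | d' ∈ Cfsg.dodecads ∧ x ∈ d' ∧ (d ∩ d').card = 4}.ncard = 165 ∧ {d' : Finset Cfsg.GolayPt | d' ∈ Cfsg.dodecads ∧ x ∈ d' ∧ (d ∩ d').card = 8}.ncard = 330 ∧ {d' : Finset Cfsg.GolayPt | d' ∈ Cfsg.dodecads ∧ x ∈ d' ∧ (d ∩ d').card = 6}.ncard = 792 ∧ ∀ d' d'' : Finset Cfsg.GolayPt, d' ∈ Cfsg.dodecads → d'' ∈ Cfsg.dodecads → x ∈ d' → x ∈ d'' → (d ∩ d').card = (d ∩ d'').card → ∃ g : Equiv.Perm Cfsg.GolayPt, g ∈ Cfsg.M24 ∧ g x = x ∧ g • d = d ∧ g • d' = d'' := by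
  obtain ⟨u, hu, hud, hus⟩ := exists_std_dodecad hd (s := {x}) (k := 1) (by simpa using hx)
    (Finset.card_singleton x) (by decide)
  have hux : u (pt 0) = x := by
    rw [Cfsg.Agent.S1607.Fset1_eq, Finset.smul_finset_singleton] at hus
    exact Finset.singleton_injective hus
  have hcount : ∀ k ∈ [4, 6, 8], {d' : Finset GolayPt | d' ∈ dodecads ∧ x ∈ d' ∧
      (d ∩ d').card = k}.ncard = [0, 0, 0, 0, 165, 0, 792, 0, 330].getD k 0 := by
    intro k hk
    rw [← count_std k hk]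
    exact ncard_words_std hu 12 (fun y => x ∈ y ∧ (d ∩ y).card = k)
      (fun y => pt 0 ∈ y ∧ (maskSet d0 ∩ y).card = k)
      (fun n => n.testBit 0 = true ∧ popc (d0 &&& n) = k)
      (fun y => by rw [mem_inv_smul_iff_apply, hux, inter_inv_smul hud])
      (fun n _ => by
        have h0 : idx (pt 0) = 0 := idx_pt_lt 0
        rw [mem_maskSet, h0, ← maskSet_and, card_maskSet])
  refine ⟨hcount 4 (by decide), hcount 8 (by decide), hcount 6 (by decide), ?_⟩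
  intro d' d'' hd' hd'' hx' hx'' h
  exact trans_through hd hd' hd'' hx hx' hx'' h

end Cfsg.Agent.S1639
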