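import Cfsg.Statements.S1680
import Cfsg.Agent.Lib.Helper8_CosetEnum
import Cfsg.Agent.Lib.Helper8_SuzData
import Cfsg.Agent.Lib.Helper8_SuzStates
import Cfsg.Agent.Lib.Helper8_SuzSeg0
import Cfsg.Agent.Lib.Helper8_SuzSeg1
import Cfsg.Agent.Lib.Helper8_SuzSeg2
import Cfsg.Agent.Lib.Helper8_SuzSeg3

set_option autoImplicit false
open Cfsg

namespace Cfsg.Agent.S1680

open Cfsg.Agent.H8CE Cfsg.Agent.H8Suz Cfsg.Spor

def code : Suz.Gen → ℕ
  | .a => 0 | .b => 1 | .c => 2 | .d => 3 | .e => 4 | .f => 5 | .g => 6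

def allg : List Suz.Gen := [.a, .b, .c, .d, .e, .f, .g]

def Y : List (FreeGroup Suz.Gen) := [Suz.a, Suz.b, Suz.c, Suz.d, Suz.e, Suz.f]

set_option maxRecDepth 100000 in
theorem hrels : rels = coxWordList Suz.edges code allg ++ Suz.extra.map (toWordCode code) := by
  decide +kernel

set_option maxRecDepth 100000 in
theorem hsubs : subs = Y.map (toWordCode code) := by decide +kernel

theorem hInv (G : Type) [Group G] (H : Subgroup G) (gen : ℕ → G) (h1 : ∀ x, gen x * gen x = 1)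
    (h2 : ∀ w ∈ rels, wprod gen w = 1) (h3 : ∀ w ∈ subs, wprod gen w ∈ H) :
    Inv H gen dp dx st21 := by
  have i0 : Inv H gen dp dx st0 := inv_init H gen dp dx 8
  have i1 := inv_seg h1 rels subs nr fuel cs h2 h3 chunks0 i0 seg0
  have i2 := inv_seg h1 rels subs nr fuel cs h2 h3 chunks1 i1 seg1
  have i3 := inv_seg h1 rels subs nr fuel cs h2 h3 chunks2 i2 seg2
  have i4 := inv_seg h1 rels subs nr fuel cs h2 h3 chunks3 i3 seg3
  have i5 := inv_seg h1 rels subs nr fuel cs h2 h3 chunks4 i4 seg4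
  have i6 := inv_seg h1 rels subs nr fuel cs h2 h3 chunks5 i5 seg5
  have i7 := inv_seg h1 rels subs nr fuel cs h2 h3 chunks6 i6 seg6
  have i8 := inv_seg h1 rels subs nr fuel cs h2 h3 chunks7 i7 seg7
  have i9 := inv_seg h1 rels subs nr fuel cs h2 h3 chunks8 i8 seg8
  have i10 := inv_seg h1 rels subs nr fuel cs h2 h3 chunks9 i9 seg9
  have i11 := inv_seg h1 rels subs nr fuel cs h2 h3 chunks10 i10 seg10
  have i12 := inv_seg h1 rels subs nr fuel cs h2 h3 chunks11 i11 seg11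
  have i13 := inv_seg h1 rels subs nr fuel cs h2 h3 chunks12 i12 seg12
  have i14 := inv_seg h1 rels subs nr fuel cs h2 h3 chunks13 i13 seg13
  have i15 := inv_seg h1 rels subs nr fuel cs h2 h3 chunks14 i14 seg14
  have i16 := inv_seg h1 rels subs nr fuel cs h2 h3 chunks15 i15 seg15
  have i17 := inv_seg h1 rels subs nr fuel cs h2 h3 chunks16 i16 seg16
  have i18 := inv_seg h1 rels subs nr fuel cs h2 h3 chunks17 i17 seg17
  have i19 := inv_seg h1 rels subs nr fuel cs h2 h3 chunks18 i18 seg18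
  have i20 := inv_seg h1 rels subs nr fuel cs h2 h3 chunks19 i19 seg19
  have i21 := inv_seg h1 rels subs nr fuel cs h2 h3 chunks20 i20 seg20
  exact i21

set_option maxRecDepth 1000000 in
theorem hinvol : checkInvol pt 1782 7 = true := by decide +kernel

set_option maxRecDepth 1000000 in
theorem hwords : rels.all (checkWord pt 1782 7) = true := by decide +kernel

set_option maxRecDepth 1000000 in
theorem htrans : checkTrans pt bp bx 1782 7 = true := by decide +kernel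

set_option maxRecDepth 1000000 in
theorem hsub0 : subs.all (fun w => w.all (fun x => Nat.blt x 7) && Nat.beq (tabW pt w 0) 0) = true := by
  decide +kernel

set_option maxRecDepth 1000000 in
theorem htable : checkTable st21 fuel canon pt 1782 7 = true := by decide +kernel

set_option maxRecDepth 1000000 in
theorem horbit : checkOrbit pt subs col roots op ow od 1782 7 = true := by decide +kernel

set_option maxRecDepth 1000000 in
theorem hcount1 : countBelow (fun i => Nat.beq (dig col i) 1) 1782 = 1365 := by decide +kernel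

set_option maxRecDepth 1000000 in
theorem hcount2 : countBelow (fun i => Nat.beq (dig col i) 2) 1782 = 416 := by decide +kernel

set_option maxRecDepth 100000 in
theorem hroots : dig roots 1 < 1782 ∧ dig col (dig roots 1) = 1 ∧ dig roots 2 < 1782 ∧
    dig col (dig roots 2) = 2 := by decide +kernel

/-- In the presented sporadic Suzuki group, the subgroup generated by a, …, f has index 1782 and suborbits 416, 1365. -/
theorem result : (((Subgroup.closure ({Cfsg.Spor.Suz.a, Cfsg.Spor.Suz.b, Cfsg.Spor.Suz.c, Cfsg.Spor.Suz.d, Cfsg.Spor.Suz.e, Cfsg.Spor.Suz.f} : Set (FreeGroup Cfsg.Spor.Suz.Gen))).map (PresentedGroup.mk (Cfsg.Spor.coxRelators Cfsg.Spor.Suz.edges ∪ {r | r ∈ Cfsg.Spor.Suz.extra})))).index = 1782 ∧ ∃ q₁ q₂ : Cfsg.Spor.Suz ⧸ (((Subgroup.closure ({Cfsg.Spor.Suz.a, Cfsg.Spor.Suz.b, Cfsg.Spor.Suz.c, Cfsg.Spor.Suz.d, Cfsg.Spor.Suz.e, Cfsg.Spor.Suz.f} : Set (FreeGroup Cfsg.Spor.Suz.Gen))).map (PresentedGroup.mk (Cfsg.Spor.coxRelators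 Cfsg.Spor.Suz.edges ∪ {r | r ∈ Cfsg.Spor.Suz.extra})))), (MulAction.orbit (((Subgroup.closure ({Cfsg.Spor.Suz.a, Cfsg.Spor.Suz.b, Cfsg.Spor.Suz.c, Cfsg.Spor.Suz.d, Cfsg.Spor.Suz.e, Cfsg.Spor.Suz.f} : Set (FreeGroup Cfsg.Spor.Suz.Gen))).map (PresentedGroup.mk (Cfsg.Spor.coxRelators Cfsg.Spor.Suz.edges ∪ {r | r ∈ Cfsg.Spor.Suz.extra})))) q₁).ncard = 416 ∧ (MulAction.orbit (((Subgroup.closure ({Cfsg.Spor.Suz.a, Cfsg.Spor.Suz.b, Cfsg.Spor.Suz.c, Cfsg.Spor.Suz.d, Cfsg.Spor.Suz.e, Cfsg.Spor.Suz.f} : Set (FreeGroup Cfsg.Spor.Suz.Gen))).map (PresentedGroup.mk (Cfsg.Spor.coxRelators Cfsg.Spor.Suz.edges ∪ {r | r ∈ Cfsg.Spor.Suz.extra})))) q₂).ncard = 1365 := by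
  have hYset : ({Suz.a, Suz.b, Suz.c, Suz.d, Suz.e, Suz.f} : Set (FreeGroup Suz.Gen)) = {y | y ∈ Y} := by
    ext y
    simp [Y]
  obtain ⟨hidx, Φ, horb⟩ := cox_main Suz.edges Suz.extra Y _ hYset code allg 7 1782
    (by intro x; cases x <;> decide) (by intro x; cases x <;> decide)
    (by intro x; cases x <;> decide)
    (by intro x y h; cases x <;> cases y <;> first | rfl | exact absurd h (by decide))
    (by
      intro k hk
      interval_cases k
      exacts [⟨.a, rfl⟩, ⟨.b, rfl⟩, ⟨.c, rfl⟩, ⟨.d, rfl⟩, ⟨.e, rfl⟩, ⟨.f, rfl⟩, ⟨.g, rfl⟩])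
    rels subs hrels hsubs dp dx canon bp bx col roots op ow od fuel pt st21 (by norm_num)
    hinvol hwords htrans hsub0 hInv htable horbit
  refine ⟨hidx, ?_⟩
  obtain ⟨q1, h1, _⟩ := horb 2 hroots.2.2.1 hroots.2.2.2
  obtain ⟨q2, h2, _⟩ := horb 1 hroots.1 hroots.2.1
  exact ⟨q1, q2, by rw [h1, hcount2], by rw [h2, hcount1]⟩

end Cfsg.Agent.S1680
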