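import Cfsg.Statements.S1681
import Cfsg.Agent.Lib.Helper8_CosetBig
import Cfsg.Agent.Lib.Helper8_SuzbData
import Cfsg.Agent.Lib.Helper8_SuzbStates0
import Cfsg.Agent.Lib.Helper8_SuzbStates1
import Cfsg.Agent.Lib.Helper8_SuzbStates2
import Cfsg.Agent.Lib.Helper8_SuzbSeg0
import Cfsg.Agent.Lib.Helper8_SuzbSeg1
import Cfsg.Agent.Lib.Helper8_SuzbSeg2
import Cfsg.Agent.Lib.Helper8_SuzbSeg3
import Cfsg.Agent.Lib.Helper8_SuzbSeg4
import Cfsg.Agent.Lib.Helper8_SuzbSeg5
import Cfsg.Agent.Lib.Helper8_SuzbSeg6
import Cfsg.Agent.Lib.Helper8_SuzbSeg7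
import Cfsg.Agent.Lib.Helper8_SuzbPerm0
import Cfsg.Agent.Lib.Helper8_SuzbPerm1
import Cfsg.Agent.Lib.Helper8_SuzbPerm2
import Cfsg.Agent.Lib.Helper8_SuzbPerm3
import Cfsg.Agent.Lib.Helper8_SuzbPerm4
import Cfsg.Agent.Lib.Helper8_SuzbPerm5
import Cfsg.Agent.Lib.Helper8_SuzbPerm6
import Cfsg.Agent.Lib.Helper8_SuzbPerm7

set_option autoImplicit false
open Cfsg

namespace Cfsg.Agent.S1681

open Cfsg.Agent.H8CE Cfsg.Agent.H8Suzb Cfsg.Spor

def code : Suz.Gen → ℕ
  | .a => 0 | .b => 1 | .c => 2 | .d => 3 | .e => 4 | .f => 5 | .g => 6

def allg : List Suz.Gen := [.a, .b, .c, .d, .e, .f, .g]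

def Y : List (FreeGroup Suz.Gen) := [Suz.a, Suz.b, Suz.c, Suz.d, Suz.f, Suz.g]

set_option maxRecDepth 100000 in
theorem hrels : rels = coxWordList Suz.edges code allg ++ Suz.extra.map (toWordCode code) := by
  decide +kernel

set_option maxRecDepth 100000 in
theorem hsubs : subs = Y.map (toWordCode code) := by decide +kernel

theorem hInv (G : Type) [Group G] (H : Subgroup G) (gen : ℕ → G) (h1 : ∀ x, gen x * gen x = 1)
    (h2 : ∀ w ∈ rels, wprod gen w = 1) (h3 : ∀ w ∈ subs, wprod gen w ∈ H) :
    Inv H gen dp dx st38 := by
  have i0 : Inv H gen dp dx st0 := inv_init H gen dp dx 8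
  have i1 := inv_seg h1 rels subs nr fuel cs h2 h3 chunks0 i0 seg0
  have i2 := inv_seg h1 rels subs nr fuel cs h2 h3 chunks1 i1 seg1
  have i3 := inv_seg h1 rels subs nr fuel cs h2 h3 chunks2 i2 seg2
  have i4 := inv_seg h1 rels subs nr fuel cs h2 h3 chunks3 i3 seg3
  have i5 := inv_seg h1 rels subs nr fuel cs h2 h3 chunks4 i4 seg4
  have i6 := inv_seg h1 rels subs nr fuel cs h2 h3 chunks5 i5 seg5
  have i7 := inv_seg h1 rels subs nr fuel cs h2 h3 chunks6 i6 seg6
  have i8 := inv_seg h1 rels subs nr fuel cs h2 h3 chunks7 i7 seg7
  have i9 := inv_seg h1 rels subs nr fuel cs h2 h3 chunks8 i8 seg8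
  have i10 := inv_seg h1 rels subs nr fuel cs h2 h3 chunks9 i9 seg9
  have i11 := inv_seg h1 rels subs nr fuel cs h2 h3 chunks10 i10 seg10
  have i12 := inv_seg h1 rels subs nr fuel cs h2 h3 chunks11 i11 seg11
  have i13 := inv_seg h1 rels subs nr fuel cs h2 h3 chunks12 i12 seg12
  have i14 := inv_seg h1 rels subs nr fuel cs h2 h3 chunks13 i13 seg13
  have i15 := inv_seg h1 rels subs nr fuel cs h2 h3 chunks14 i14 seg14
  have i16 := inv_seg h1 rels subs nr fuel cs h2 h3 chunks15 i15 seg15
  have i17 := inv_seg h1 rels subs nr fuel cs h2 h3 chunks16 i16 seg16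
  have i18 := inv_seg h1 rels subs nr fuel cs h2 h3 chunks17 i17 seg17
  have i19 := inv_seg h1 rels subs nr fuel cs h2 h3 chunks18 i18 seg18
  have i20 := inv_seg h1 rels subs nr fuel cs h2 h3 chunks19 i19 seg19
  have i21 := inv_seg h1 rels subs nr fuel cs h2 h3 chunks20 i20 seg20
  have i22 := inv_seg h1 rels subs nr fuel cs h2 h3 chunks21 i21 seg21
  have i23 := inv_seg h1 rels subs nr fuel cs h2 h3 chunks22 i22 seg22
  have i24 := inv_seg h1 rels subs nr fuel cs h2 h3 chunks23 i23 seg23
  have i25 := inv_seg h1 rels subs nr fuel cs h2 h3 chunks24 i24 seg24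
  have i26 := inv_seg h1 rels subs nr fuel cs h2 h3 chunks25 i25 seg25
  have i27 := inv_seg h1 rels subs nr fuel cs h2 h3 chunks26 i26 seg26
  have i28 := inv_seg h1 rels subs nr fuel cs h2 h3 chunks27 i27 seg27
  have i29 := inv_seg h1 rels subs nr fuel cs h2 h3 chunks28 i28 seg28
  have i30 := inv_seg h1 rels subs nr fuel cs h2 h3 chunks29 i29 seg29
  have i31 := inv_seg h1 rels subs nr fuel cs h2 h3 chunks30 i30 seg30
  have i32 := inv_seg h1 rels subs nr fuel cs h2 h3 chunks31 i31 seg31
  have i33 := inv_seg h1 rels subs nr fuel cs h2 h3 chunks32 i32 seg32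
  have i34 := inv_seg h1 rels subs nr fuel cs h2 h3 chunks33 i33 seg33
  have i35 := inv_seg h1 rels subs nr fuel cs h2 h3 chunks34 i34 seg34
  have i36 := inv_seg h1 rels subs nr fuel cs h2 h3 chunks35 i35 seg35
  have i37 := inv_seg h1 rels subs nr fuel cs h2 h3 chunks36 i36 seg36
  have i38 := inv_seg h1 rels subs nr fuel cs h2 h3 chunks37 i37 seg37
  exact i38

theorem hinvol : checkInvol pt 22880 7 = true := by
  unfold checkInvol
  apply allBelow_intro
  intro x hx
  interval_cases x
  exacts [hinvx0, hinvx1, hinvx2, hinvx3, hinvx4, hinvx5, hinvx6]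

set_option maxRecDepth 100000 in
theorem hletters : rels.all (fun w => w.all (fun x => Nat.blt x 7)) = true := by decide +kernel

theorem hwords : rels.all (checkWord pt 22880 7) = true := by
  have r0 := words_zero pt rels
  have r1 := words_step (a := 0) (b := 177) r0 hwr0
  have r2 := words_step (a := 177) (b := 177) r1 hwr1
  have r3 := words_step (a := 354) (b := 177) r2 hwr2
  have r4 := words_step (a := 531) (b := 177) r3 hwr3
  have r5 := words_step (a := 708) (b := 177) r4 hwr4
  have r6 := words_step (a := 885) (b := 177) r5 hwr5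
  have r7 := words_step (a := 1062) (b := 177) r6 hwr6
  have r8 := words_step (a := 1239) (b := 177) r7 hwr7
  have r9 := words_step (a := 1416) (b := 177) r8 hwr8
  have r10 := words_step (a := 1593) (b := 177) r9 hwr9
  have r11 := words_step (a := 1770) (b := 177) r10 hwr10
  have r12 := words_step (a := 1947) (b := 177) r11 hwr11
  have r13 := words_step (a := 2124) (b := 177) r12 hwr12
  have r14 := words_step (a := 2301) (b := 177) r13 hwr13
  have r15 := words_step (a := 2478) (b := 177) r14 hwr14
  have r16 := words_step (a := 2655) (b := 177) r15 hwr15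
  have r17 := words_step (a := 2832) (b := 177) r16 hwr16
  have r18 := words_step (a := 3009) (b := 177) r17 hwr17
  have r19 := words_step (a := 3186) (b := 177) r18 hwr18
  have r20 := words_step (a := 3363) (b := 177) r19 hwr19
  have r21 := words_step (a := 3540) (b := 177) r20 hwr20
  have r22 := words_step (a := 3717) (b := 177) r21 hwr21
  have r23 := words_step (a := 3894) (b := 177) r22 hwr22
  have r24 := words_step (a := 4071) (b := 177) r23 hwr23
  have r25 := words_step (a := 4248) (b := 177) r24 hwr24
  have r26 := words_step (a := 4425) (b := 177) r25 hwr25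
  have r27 := words_step (a := 4602) (b := 177) r26 hwr26
  have r28 := words_step (a := 4779) (b := 177) r27 hwr27
  have r29 := words_step (a := 4956) (b := 177) r28 hwr28
  have r30 := words_step (a := 5133) (b := 177) r29 hwr29
  have r31 := words_step (a := 5310) (b := 177) r30 hwr30
  have r32 := words_step (a := 5487) (b := 177) r31 hwr31
  have r33 := words_step (a := 5664) (b := 177) r32 hwr32
  have r34 := words_step (a := 5841) (b := 177) r33 hwr33
  have r35 := words_step (a := 6018) (b := 177) r34 hwr34
  have r36 := words_step (a := 6195) (b := 177) r35 hwr35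
  have r37 := words_step (a := 6372) (b := 177) r36 hwr36
  have r38 := words_step (a := 6549) (b := 177) r37 hwr37
  have r39 := words_step (a := 6726) (b := 177) r38 hwr38
  have r40 := words_step (a := 6903) (b := 177) r39 hwr39
  have r41 := words_step (a := 7080) (b := 177) r40 hwr40
  have r42 := words_step (a := 7257) (b := 177) r41 hwr41
  have r43 := words_step (a := 7434) (b := 177) r42 hwr42
  have r44 := words_step (a := 7611) (b := 177) r43 hwr43
  have r45 := words_step (a := 7788) (b := 177) r44 hwr44
  have r46 := words_step (a := 7965) (b := 177) r45 hwr45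
  have r47 := words_step (a := 8142) (b := 177) r46 hwr46
  have r48 := words_step (a := 8319) (b := 177) r47 hwr47
  have r49 := words_step (a := 8496) (b := 177) r48 hwr48
  have r50 := words_step (a := 8673) (b := 177) r49 hwr49
  have r51 := words_step (a := 8850) (b := 177) r50 hwr50
  have r52 := words_step (a := 9027) (b := 177) r51 hwr51
  have r53 := words_step (a := 9204) (b := 177) r52 hwr52
  have r54 := words_step (a := 9381) (b := 177) r53 hwr53
  have r55 := words_step (a := 9558) (b := 177) r54 hwr54
  have r56 := words_step (a := 9735) (b := 177) r55 hwr55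
  have r57 := words_step (a := 9912) (b := 177) r56 hwr56
  have r58 := words_step (a := 10089) (b := 177) r57 hwr57
  have r59 := words_step (a := 10266) (b := 177) r58 hwr58
  have r60 := words_step (a := 10443) (b := 177) r59 hwr59
  have r61 := words_step (a := 10620) (b := 177) r60 hwr60
  have r62 := words_step (a := 10797) (b := 177) r61 hwr61
  have r63 := words_step (a := 10974) (b := 177) r62 hwr62
  have r64 := words_step (a := 11151) (b := 177) r63 hwr63
  have r65 := words_step (a := 11328) (b := 177) r64 hwr64
  have r66 := words_step (a := 11505) (b := 177) r65 hwr65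
  have r67 := words_step (a := 11682) (b := 177) r66 hwr66
  have r68 := words_step (a := 11859) (b := 177) r67 hwr67
  have r69 := words_step (a := 12036) (b := 177) r68 hwr68
  have r70 := words_step (a := 12213) (b := 177) r69 hwr69
  have r71 := words_step (a := 12390) (b := 177) r70 hwr70
  have r72 := words_step (a := 12567) (b := 177) r71 hwr71
  have r73 := words_step (a := 12744) (b := 177) r72 hwr72
  have r74 := words_step (a := 12921) (b := 177) r73 hwr73
  have r75 := words_step (a := 13098) (b := 177) r74 hwr74
  have r76 := words_step (a := 13275) (b := 177) r75 hwr75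
  have r77 := words_step (a := 13452) (b := 177) r76 hwr76
  have r78 := words_step (a := 13629) (b := 177) r77 hwr77
  have r79 := words_step (a := 13806) (b := 177) r78 hwr78
  have r80 := words_step (a := 13983) (b := 177) r79 hwr79
  have r81 := words_step (a := 14160) (b := 177) r80 hwr80
  have r82 := words_step (a := 14337) (b := 177) r81 hwr81
  have r83 := words_step (a := 14514) (b := 177) r82 hwr82
  have r84 := words_step (a := 14691) (b := 177) r83 hwr83
  have r85 := words_step (a := 14868) (b := 177) r84 hwr84
  have r86 := words_step (a := 15045) (b := 177) r85 hwr85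
  have r87 := words_step (a := 15222) (b := 177) r86 hwr86
  have r88 := words_step (a := 15399) (b := 177) r87 hwr87
  have r89 := words_step (a := 15576) (b := 177) r88 hwr88
  have r90 := words_step (a := 15753) (b := 177) r89 hwr89
  have r91 := words_step (a := 15930) (b := 177) r90 hwr90
  have r92 := words_step (a := 16107) (b := 177) r91 hwr91
  have r93 := words_step (a := 16284) (b := 177) r92 hwr92
  have r94 := words_step (a := 16461) (b := 177) r93 hwr93
  have r95 := words_step (a := 16638) (b := 177) r94 hwr94
  have r96 := words_step (a := 16815) (b := 177) r95 hwr95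
  have r97 := words_step (a := 16992) (b := 177) r96 hwr96
  have r98 := words_step (a := 17169) (b := 177) r97 hwr97
  have r99 := words_step (a := 17346) (b := 177) r98 hwr98
  have r100 := words_step (a := 17523) (b := 177) r99 hwr99
  have r101 := words_step (a := 17700) (b := 177) r100 hwr100
  have r102 := words_step (a := 17877) (b := 177) r101 hwr101
  have r103 := words_step (a := 18054) (b := 177) r102 hwr102
  have r104 := words_step (a := 18231) (b := 177) r103 hwr103
  have r105 := words_step (a := 18408) (b := 177) r104 hwr104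
  have r106 := words_step (a := 18585) (b := 177) r105 hwr105
  have r107 := words_step (a := 18762) (b := 177) r106 hwr106
  have r108 := words_step (a := 18939) (b := 177) r107 hwr107
  have r109 := words_step (a := 19116) (b := 177) r108 hwr108
  have r110 := words_step (a := 19293) (b := 177) r109 hwr109
  have r111 := words_step (a := 19470) (b := 177) r110 hwr110
  have r112 := words_step (a := 19647) (b := 177) r111 hwr111
  have r113 := words_step (a := 19824) (b := 177) r112 hwr112
  have r114 := words_step (a := 20001) (b := 177) r113 hwr113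
  have r115 := words_step (a := 20178) (b := 177) r114 hwr114
  have r116 := words_step (a := 20355) (b := 177) r115 hwr115
  have r117 := words_step (a := 20532) (b := 177) r116 hwr116
  have r118 := words_step (a := 20709) (b := 177) r117 hwr117
  have r119 := words_step (a := 20886) (b := 177) r118 hwr118
  have r120 := words_step (a := 21063) (b := 177) r119 hwr119
  have r121 := words_step (a := 21240) (b := 177) r120 hwr120
  have r122 := words_step (a := 21417) (b := 177) r121 hwr121
  have r123 := words_step (a := 21594) (b := 177) r122 hwr122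
  have r124 := words_step (a := 21771) (b := 177) r123 hwr123
  have r125 := words_step (a := 21948) (b := 177) r124 hwr124
  have r126 := words_step (a := 22125) (b := 177) r125 hwr125
  have r127 := words_step (a := 22302) (b := 177) r126 hwr126
  have r128 := words_step (a := 22479) (b := 177) r127 hwr127
  have r129 := words_step (a := 22656) (b := 177) r128 hwr128
  have r130 := words_step (a := 22833) (b := 47) r129 hwr129
  exact words_final hletters r130

set_option maxRecDepth 1000000 in
theorem htrans : checkTrans pt bp bx 22880 7 = true := by decide +kernel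

set_option maxRecDepth 1000000 in
theorem hsub0 : subs.all (fun w => w.all (fun x => Nat.blt x 7) && Nat.beq (tabW pt w 0) 0) = true := by
  decide +kernel

theorem htable : checkTable st38 fuel canon pt 22880 7 = true := by
  have t0 : allBelow (fun i => allBelow (fun x => checkEntry st38 fuel canon pt i x) 7) 0 = true := rfl
  have t1 := allBelow_range (a := 0) (b := 855) t0 htr0
  have t2 := allBelow_range (a := 855) (b := 855) t1 htr1
  have t3 := allBelow_range (a := 1710) (b := 855) t2 htr2
  have t4 := allBelow_range (a := 2565) (b := 855) t3 htr3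
  have t5 := allBelow_range (a := 3420) (b := 855) t4 htr4
  have t6 := allBelow_range (a := 4275) (b := 855) t5 htr5
  have t7 := allBelow_range (a := 5130) (b := 855) t6 htr6
  have t8 := allBelow_range (a := 5985) (b := 855) t7 htr7
  have t9 := allBelow_range (a := 6840) (b := 855) t8 htr8
  have t10 := allBelow_range (a := 7695) (b := 855) t9 htr9
  have t11 := allBelow_range (a := 8550) (b := 855) t10 htr10
  have t12 := allBelow_range (a := 9405) (b := 855) t11 htr11
  have t13 := allBelow_range (a := 10260) (b := 855) t12 htr12
  have t14 := allBelow_range (a := 11115) (b := 855) t13 htr13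
  have t15 := allBelow_range (a := 11970) (b := 855) t14 htr14
  have t16 := allBelow_range (a := 12825) (b := 855) t15 htr15
  have t17 := allBelow_range (a := 13680) (b := 855) t16 htr16
  have t18 := allBelow_range (a := 14535) (b := 855) t17 htr17
  have t19 := allBelow_range (a := 15390) (b := 855) t18 htr18
  have t20 := allBelow_range (a := 16245) (b := 855) t19 htr19
  have t21 := allBelow_range (a := 17100) (b := 855) t20 htr20
  have t22 := allBelow_range (a := 17955) (b := 855) t21 htr21
  have t23 := allBelow_range (a := 18810) (b := 855) t22 htr22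
  have t24 := allBelow_range (a := 19665) (b := 855) t23 htr23
  have t25 := allBelow_range (a := 20520) (b := 855) t24 htr24
  have t26 := allBelow_range (a := 21375) (b := 855) t25 htr25
  have t27 := allBelow_range (a := 22230) (b := 650) t26 htr26
  exact table_final (by decide +kernel) t27

/-- certified coset enumeration -/
theorem result : (((Subgroup.closure ({Cfsg.Spor.Suz.a, Cfsg.Spor.Suz.b, Cfsg.Spor.Suz.c, Cfsg.Spor.Suz.d, Cfsg.Spor.Suz.f, Cfsg.Spor.Suz.g} : Set (FreeGroup Cfsg.Spor.Suz.Gen))).map (PresentedGroup.mk (Cfsg.Spor.coxRelators Cfsg.Spor.Suz.edges ∪ {r | r ∈ Cfsg.Spor.Suz.extra})))).index = 22880 := by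
  have hYset : ({Suz.a, Suz.b, Suz.c, Suz.d, Suz.f, Suz.g} : Set (FreeGroup Suz.Gen)) = {y | y ∈ Y} := by
    ext y
    simp [Y]
  exact cox_index Suz.edges Suz.extra Y _ hYset code allg 7 22880
    (by intro x; cases x <;> decide) (by intro x; cases x <;> decide)
    (by intro x; cases x <;> decide)
    (by intro x y h; cases x <;> cases y <;> first | rfl | exact absurd h (by decide))
    (by
      intro k hk
      interval_cases k
      exacts [⟨.a, rfl⟩, ⟨.b, rfl⟩, ⟨.c, rfl⟩, ⟨.d, rfl⟩, ⟨.e, rfl⟩, ⟨.f, rfl⟩, ⟨.g, rfl⟩])
    rels subs hrels hsubs dp dx canon bp bx fuel pt st38 (by norm_num)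
    hinvol hwords htrans hsub0 hInv htable

end Cfsg.Agent.S1681
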