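import Cfsg.Statements.S1683
import Cfsg.Agent.Lib.Helper8_CosetEnum
import Cfsg.Agent.Lib.Helper8_HeData
import Cfsg.Agent.Lib.Helper8_HeStates
import Cfsg.Agent.Lib.Helper8_HeSeg0
import Cfsg.Agent.Lib.Helper8_HeSeg1
import Cfsg.Agent.Lib.Helper8_HeSeg2
import Cfsg.Agent.Lib.Helper8_HeSeg3

set_option autoImplicit false
open Cfsg

namespace Cfsg.Agent.S1683

open Cfsg.Agent.H8CE Cfsg.Agent.H8He Cfsg.Spor

def code : He.Gen → ℕ
  | .a => 0 | .b => 1 | .c => 2 | .d => 3 | .e => 4 | .f => 5 | .g => 6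

def allg : List He.Gen := [.a, .b, .c, .d, .e, .f, .g]

def Y : List (FreeGroup He.Gen) := [He.a, He.c, He.d, He.e, He.f, (He.a * He.b) ^ 2, (He.b * He.c * He.d * He.e) ^ 7]

set_option maxRecDepth 100000 in
theorem hrels : rels = coxWordList He.edges code allg ++ He.extra.map (toWordCode code) := by
  decide +kernel

set_option maxRecDepth 100000 in
theorem hsubs : subs = Y.map (toWordCode code) := by decide +kernel

theorem hInv (G : Type) [Group G] (H : Subgroup G) (gen : ℕ → G) (h1 : ∀ x, gen x * gen x = 1)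
    (h2 : ∀ w ∈ rels, wprod gen w = 1) (h3 : ∀ w ∈ subs, wprod gen w ∈ H) :
    Inv H gen dp dx st13 := by
  have i0 : Inv H gen dp dx st0 := inv_init H gen dp dx 8
  have i1 := inv_seg h1 rels subs nr fuel cs h2 h3 chunks0 i0 seg0
  have i2 := inv_seg h1 rels subs nr fuel cs h2 h3 chunks1 i1 seg1
  have i3 := inv_seg h1 rels subs nr fuel cs h2 h3 chunks2 i2 seg2
  have i4 := inv_seg h1 rels subs nr fuel cs h2 h3 chunks3 i3 seg3
  have i5 := inv_seg h1 rels subs nr fuel cs h2 h3 chunks4 i4 seg4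
  have i6 := inv_seg h1 rels subs nr fuel cs h2 h3 chunks5 i5 seg5
  have i7 := inv_seg h1 rels subs nr fuel cs h2 h3 chunks6 i6 seg6
  have i8 := inv_seg h1 rels subs nr fuel cs h2 h3 chunks7 i7 seg7
  have i9 := inv_seg h1 rels subs nr fuel cs h2 h3 chunks8 i8 seg8
  have i10 := inv_seg h1 rels subs nr fuel cs h2 h3 chunks9 i9 seg9
  have i11 := inv_seg h1 rels subs nr fuel cs h2 h3 chunks10 i10 seg10
  have i12 := inv_seg h1 rels subs nr fuel cs h2 h3 chunks11 i11 seg11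
  have i13 := inv_seg h1 rels subs nr fuel cs h2 h3 chunks12 i12 seg12
  exact i13

set_option maxRecDepth 1000000 in
theorem hinvol : checkInvol pt 2058 7 = true := by decide +kernel

set_option maxRecDepth 1000000 in
theorem hwords : rels.all (checkWord pt 2058 7) = true := by decide +kernel

set_option maxRecDepth 1000000 in
theorem htrans : checkTrans pt bp bx 2058 7 = true := by decide +kernel

set_option maxRecDepth 1000000 in
theorem hsub0 : subs.all (fun w => w.all (fun x => Nat.blt x 7) && Nat.beq (tabW pt w 0) 0) = true := by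
  decide +kernel

set_option maxRecDepth 1000000 in
theorem htable : checkTable st13 fuel canon pt 2058 7 = true := by decide +kernel

set_option maxRecDepth 1000000 in
theorem horbit : checkOrbit pt subs col roots op ow od 2058 7 = true := by decide +kernel

set_option maxRecDepth 1000000 in
theorem hcount3 : countBelow (fun i => Nat.beq (dig col i) 3) 2058 = 136 := by decide +kernel

set_option maxRecDepth 1000000 in
theorem hcount4 : countBelow (fun i => Nat.beq (dig col i) 4) 2058 = 136 := by decide +kernel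

set_option maxRecDepth 1000000 in
theorem hcount2 : countBelow (fun i => Nat.beq (dig col i) 2) 2058 = 425 := by decide +kernel

set_option maxRecDepth 1000000 in
theorem hcount1 : countBelow (fun i => Nat.beq (dig col i) 1) 2058 = 1360 := by decide +kernel

set_option maxRecDepth 100000 in
theorem hroots : dig roots 3 < 2058 ∧ dig col (dig roots 3) = 3 ∧ dig roots 4 < 2058 ∧ dig col (dig roots 4) = 4 ∧ dig roots 2 < 2058 ∧ dig col (dig roots 2) = 2 ∧ dig roots 1 < 2058 ∧ dig col (dig roots 1) = 1 := by decide +kernel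

/-- certified coset enumeration -/
theorem result : (((Subgroup.closure ({Cfsg.Spor.He.a, Cfsg.Spor.He.c, Cfsg.Spor.He.d, Cfsg.Spor.He.e, Cfsg.Spor.He.f, (Cfsg.Spor.He.a * Cfsg.Spor.He.b) ^ 2, (Cfsg.Spor.He.b * Cfsg.Spor.He.c * Cfsg.Spor.He.d * Cfsg.Spor.He.e) ^ 7} : Set (FreeGroup Cfsg.Spor.He.Gen))).map (PresentedGroup.mk (Cfsg.Spor.coxRelators Cfsg.Spor.He.edges ∪ {r | r ∈ Cfsg.Spor.He.extra})))).index = 2058 ∧ ∃ q₁ q₂ q₃ q₄ : Cfsg.Spor.He ⧸ (((Subgroup.closure ({Cfsg.Spor.He.a, Cfsg.Spor.He.c, Cfsg.Spor.He.d, Cfsg.Spor.He.e, Cfsg.Spor.He.f, (Cfsg.Spor.He.a * Cfsg.Spor.He.b) ^ 2, (Cfsg.Spor.He.b * Cfsg.Spor.He.c * Cfsg.Spor.He.d * Cfsg.Spor.He.e) ^ 7} : Set (FreeGroup Cfsg.Spor.He.Gen))).map (PresentedGroup.mk (Cfsg.Spor.coxRelators Cfsg.Spor.He.edges ∪ {r | r ∈ Cfsg.Spor.He.extra})))), MulAction.orbit (((Subgroup.closure ({Cfsg.Spor.He.a, Cfsg.Spor.He.c, Cfsg.Spor.He.d, Cfsg.Spor.He.e,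 Cfsg.Spor.He.f, (Cfsg.Spor.He.a * Cfsg.Spor.He.b) ^ 2, (Cfsg.Spor.He.b * Cfsg.Spor.He.c * Cfsg.Spor.He.d * Cfsg.Spor.He.e) ^ 7} : Set (FreeGroup Cfsg.Spor.He.Gen))).map (PresentedGroup.mk (Cfsg.Spor.coxRelators Cfsg.Spor.He.edges ∪ {r | r ∈ Cfsg.Spor.He.extra})))) q₁ ≠ MulAction.orbit (((Subgroup.closure ({Cfsg.Spor.He.a, Cfsg.Spor.He.c, Cfsg.Spor.He.d, Cfsg.Spor.He.e, Cfsg.Spor.He.f, (Cfsg.Spor.He.a * Cfsg.Spor.He.b) ^ 2, (Cfsg.Spor.He.b * Cfsg.Spor.He.c * Cfsg.Spor.He.d * Cfsg.Spor.He.e) ^ 7} : Set (FreeGroup Cfsg.Spor.He.Gen))).map (PresentedGroup.mk (Cfsg.Spor.coxRelators Cfsg.Spor.He.edges ∪ {r | r ∈ Cfsg.Spor.He.extra})))) q₂ ∧ (MulAction.orbit (((Subgroup.closure ({Cfsg.Spor.He.a, Cfsg.Spor.He.c, Cfsg.Spor.He.d, Cfsg.Spor.He.e, Cfsg.Spor.He.f, (Cfsg.Spor.He.a * Cfsg.Spor.He.b) ^ 2, (Cfsg.Spor.He.b * Cfsg.Spor.He.c * Cfsg.Spor.He.d * Cfsg.Spor.He.e) ^ 7} : Set (FreeGroup Cfsg.Spor.He.Gen))).map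 (PresentedGroup.mk (Cfsg.Spor.coxRelators Cfsg.Spor.He.edges ∪ {r | r ∈ Cfsg.Spor.He.extra})))) q₁).ncard = 136 ∧ (MulAction.orbit (((Subgroup.closure ({Cfsg.Spor.He.a, Cfsg.Spor.He.c, Cfsg.Spor.He.d, Cfsg.Spor.He.e, Cfsg.Spor.He.f, (Cfsg.Spor.He.a * Cfsg.Spor.He.b) ^ 2, (Cfsg.Spor.He.b * Cfsg.Spor.He.c * Cfsg.Spor.He.d * Cfsg.Spor.He.e) ^ 7} : Set (FreeGroup Cfsg.Spor.He.Gen))).map (PresentedGroup.mk (Cfsg.Spor.coxRelators Cfsg.Spor.He.edges ∪ {r | r ∈ Cfsg.Spor.He.extra})))) q₂).ncard = 136 ∧ (MulAction.orbit (((Subgroup.closure ({Cfsg.Spor.He.a, Cfsg.Spor.He.c, Cfsg.Spor.He.d, Cfsg.Spor.He.e, Cfsg.Spor.He.f, (Cfsg.Spor.He.a * Cfsg.Spor.He.b) ^ 2, (Cfsg.Spor.He.b * Cfsg.Spor.He.c * Cfsg.Spor.He.d * Cfsg.Spor.He.e) ^ 7} : Set (FreeGroup Cfsg.Spor.He.Gen))).map (PresentedGroup.mk (Cfsg.Spor.coxRelators Cfsg.Spor.He.edges ∪ {r | r ∈ Cfsg.Spor.He.extra})))) q₃).ncard = 425 ∧ (MulAction.orbit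 (((Subgroup.closure ({Cfsg.Spor.He.a, Cfsg.Spor.He.c, Cfsg.Spor.He.d, Cfsg.Spor.He.e, Cfsg.Spor.He.f, (Cfsg.Spor.He.a * Cfsg.Spor.He.b) ^ 2, (Cfsg.Spor.He.b * Cfsg.Spor.He.c * Cfsg.Spor.He.d * Cfsg.Spor.He.e) ^ 7} : Set (FreeGroup Cfsg.Spor.He.Gen))).map (PresentedGroup.mk (Cfsg.Spor.coxRelators Cfsg.Spor.He.edges ∪ {r | r ∈ Cfsg.Spor.He.extra})))) q₄).ncard = 1360 := by
  have hYset : ({He.a, He.c, He.d, He.e, He.f, (He.a * He.b) ^ 2, (He.b * He.c * He.d * He.e) ^ 7} : Set (FreeGroup He.Gen)) = {y | y ∈ Y} := by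
    ext y
    simp [Y]
  obtain ⟨hidx, Φ, horb⟩ := cox_main He.edges He.extra Y _ hYset code allg 7 2058
    (by intro x; cases x <;> decide) (by intro x; cases x <;> decide)
    (by intro x; cases x <;> decide)
    (by intro x y h; cases x <;> cases y <;> first | rfl | exact absurd h (by decide))
    (by
      intro k hk
      interval_cases k
      exacts [⟨.a, rfl⟩, ⟨.b, rfl⟩, ⟨.c, rfl⟩, ⟨.d, rfl⟩, ⟨.e, rfl⟩, ⟨.f, rfl⟩, ⟨.g, rfl⟩])
    rels subs hrels hsubs dp dx canon bp bx col roots op ow od fuel pt st13 (by norm_num)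
    hinvol hwords htrans hsub0 hInv htable horbit
  refine ⟨hidx, ?_⟩
  obtain ⟨q1, h1, h1c⟩ := horb 3 hroots.1 hroots.2.1
  obtain ⟨q2, h2, h2c⟩ := horb 4 hroots.2.2.1 hroots.2.2.2.1
  obtain ⟨q3, h3, _⟩ := horb 2 hroots.2.2.2.2.1 hroots.2.2.2.2.2.1
  obtain ⟨q4, h4, _⟩ := horb 1 hroots.2.2.2.2.2.2.1 hroots.2.2.2.2.2.2.2
  refine ⟨q1, q2, q3, q4, ?_, by rw [h1, hcount3], by rw [h2, hcount4], by rw [h3, hcount2],
    by rw [h4, hcount1]⟩
  intro heq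
  have hm : q1 ∈ MulAction.orbit _ q2 := heq ▸ MulAction.mem_orbit_self q1
  have e1 := h1c q1 (MulAction.mem_orbit_self q1)
  have e2 := h2c q1 hm
  omega

end Cfsg.Agent.S1683
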