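import Cfsg.Statements.S1685
import Cfsg.Agent.Lib.Helper8_CosetBig
import Cfsg.Agent.Lib.Helper8_Fi22bData
import Cfsg.Agent.Lib.Helper8_Fi22bStates
import Cfsg.Agent.Lib.Helper8_Fi22bSeg0
import Cfsg.Agent.Lib.Helper8_Fi22bSeg1
import Cfsg.Agent.Lib.Helper8_Fi22bSeg2
import Cfsg.Agent.Lib.Helper8_Fi22bSeg3
import Cfsg.Agent.Lib.Helper8_Fi22bSeg4
import Cfsg.Agent.Lib.Helper8_Fi22bSeg5
import Cfsg.Agent.Lib.Helper8_Fi22bPerm0
import Cfsg.Agent.Lib.Helper8_Fi22bPerm1
import Cfsg.Agent.Lib.Helper8_Fi22bPerm2
import Cfsg.Agent.Lib.Helper8_Fi22bPerm3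
import Cfsg.Agent.Lib.Helper8_Fi22bPerm4
import Cfsg.Agent.Lib.Helper8_Fi22bPerm5

set_option autoImplicit false
open Cfsg

namespace Cfsg.Agent.S1685

open Cfsg.Agent.H8CE Cfsg.Agent.H8Fi22b Cfsg.Spor

def code : Fi22.Gen → ℕ
  | .a => 0 | .b => 1 | .c => 2 | .d => 3 | .e => 4 | .f => 5 | .g => 6 | .h => 7 | .i => 8

def allg : List Fi22.Gen := [.a, .b, .c, .d, .e, .f, .g, .h, .i]

def Y : List (FreeGroup Fi22.Gen) := [Fi22.b, Fi22.c, Fi22.d, Fi22.e, Fi22.f, Fi22.g, Fi22.h, Fi22.i]

set_option maxRecDepth 100000 in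
theorem hrels : rels = coxWordList Fi22.edges code allg ++ Fi22.extra.map (toWordCode code) := by
  decide +kernel

set_option maxRecDepth 100000 in
theorem hsubs : subs = Y.map (toWordCode code) := by decide +kernel

theorem hInv (G : Type) [Group G] (H : Subgroup G) (gen : ℕ → G) (h1 : ∀ x, gen x * gen x = 1)
    (h2 : ∀ w ∈ rels, wprod gen w = 1) (h3 : ∀ w ∈ subs, wprod gen w ∈ H) :
    Inv H gen dp dx st35 := by
  have i0 : Inv H gen dp dx st0 := inv_init H gen dp dx 10
  have i1 := inv_seg h1 rels subs nr fuel cs h2 h3 chunks0 i0 seg0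
  have i2 := inv_seg h1 rels subs nr fuel cs h2 h3 chunks1 i1 seg1
  have i3 := inv_seg h1 rels subs nr fuel cs h2 h3 chunks2 i2 seg2
  have i4 := inv_seg h1 rels subs nr fuel cs h2 h3 chunks3 i3 seg3
  have i5 := inv_seg h1 rels subs nr fuel cs h2 h3 chunks4 i4 seg4
  have i6 := inv_seg h1 rels subs nr fuel cs h2 h3 chunks5 i5 seg5
  have i7 := inv_seg h1 rels subs nr fuel cs h2 h3 chunks6 i6 seg6
  have i8 := inv_seg h1 rels subs nr fuel cs h2 h3 chunks7 i7 seg7
  have i9 := inv_seg h1 rels subs nr fuel cs h2 h3 chunks8 i8 seg8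
  have i10 := inv_seg h1 rels subs nr fuel cs h2 h3 chunks9 i9 seg9
  have i11 := inv_seg h1 rels subs nr fuel cs h2 h3 chunks10 i10 seg10
  have i12 := inv_seg h1 rels subs nr fuel cs h2 h3 chunks11 i11 seg11
  have i13 := inv_seg h1 rels subs nr fuel cs h2 h3 chunks12 i12 seg12
  have i14 := inv_seg h1 rels subs nr fuel cs h2 h3 chunks13 i13 seg13
  have i15 := inv_seg h1 rels subs nr fuel cs h2 h3 chunks14 i14 seg14
  have i16 := inv_seg h1 rels subs nr fuel cs h2 h3 chunks15 i15 seg15
  have i17 := inv_seg h1 rels subs nr fuel cs h2 h3 chunks16 i16 seg16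
  have i18 := inv_seg h1 rels subs nr fuel cs h2 h3 chunks17 i17 seg17
  have i19 := inv_seg h1 rels subs nr fuel cs h2 h3 chunks18 i18 seg18
  have i20 := inv_seg h1 rels subs nr fuel cs h2 h3 chunks19 i19 seg19
  have i21 := inv_seg h1 rels subs nr fuel cs h2 h3 chunks20 i20 seg20
  have i22 := inv_seg h1 rels subs nr fuel cs h2 h3 chunks21 i21 seg21
  have i23 := inv_seg h1 rels subs nr fuel cs h2 h3 chunks22 i22 seg22
  have i24 := inv_seg h1 rels subs nr fuel cs h2 h3 chunks23 i23 seg23
  have i25 := inv_seg h1 rels subs nr fuel cs h2 h3 chunks24 i24 seg24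
  have i26 := inv_seg h1 rels subs nr fuel cs h2 h3 chunks25 i25 seg25
  have i27 := inv_seg h1 rels subs nr fuel cs h2 h3 chunks26 i26 seg26
  have i28 := inv_seg h1 rels subs nr fuel cs h2 h3 chunks27 i27 seg27
  have i29 := inv_seg h1 rels subs nr fuel cs h2 h3 chunks28 i28 seg28
  have i30 := inv_seg h1 rels subs nr fuel cs h2 h3 chunks29 i29 seg29
  have i31 := inv_seg h1 rels subs nr fuel cs h2 h3 chunks30 i30 seg30
  have i32 := inv_seg h1 rels subs nr fuel cs h2 h3 chunks31 i31 seg31
  have i33 := inv_seg h1 rels subs nr fuel cs h2 h3 chunks32 i32 seg32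
  have i34 := inv_seg h1 rels subs nr fuel cs h2 h3 chunks33 i33 seg33
  have i35 := inv_seg h1 rels subs nr fuel cs h2 h3 chunks34 i34 seg34
  exact i35

theorem hinvol : checkInvol pt 14080 9 = true := by
  unfold checkInvol
  apply allBelow_intro
  intro x hx
  interval_cases x
  exacts [hinvx0, hinvx1, hinvx2, hinvx3, hinvx4, hinvx5, hinvx6, hinvx7, hinvx8]

set_option maxRecDepth 100000 in
theorem hletters : rels.all (fun w => w.all (fun x => Nat.blt x 9)) = true := by decide +kernel

theorem hwords : rels.all (checkWord pt 14080 9) = true := by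
  have r0 := words_zero pt rels
  have r1 := words_step (a := 0) (b := 192) r0 hwr0
  have r2 := words_step (a := 192) (b := 192) r1 hwr1
  have r3 := words_step (a := 384) (b := 192) r2 hwr2
  have r4 := words_step (a := 576) (b := 192) r3 hwr3
  have r5 := words_step (a := 768) (b := 192) r4 hwr4
  have r6 := words_step (a := 960) (b := 192) r5 hwr5
  have r7 := words_step (a := 1152) (b := 192) r6 hwr6
  have r8 := words_step (a := 1344) (b := 192) r7 hwr7
  have r9 := words_step (a := 1536) (b := 192) r8 hwr8
  have r10 := words_step (a := 1728) (b := 192) r9 hwr9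
  have r11 := words_step (a := 1920) (b := 192) r10 hwr10
  have r12 := words_step (a := 2112) (b := 192) r11 hwr11
  have r13 := words_step (a := 2304) (b := 192) r12 hwr12
  have r14 := words_step (a := 2496) (b := 192) r13 hwr13
  have r15 := words_step (a := 2688) (b := 192) r14 hwr14
  have r16 := words_step (a := 2880) (b := 192) r15 hwr15
  have r17 := words_step (a := 3072) (b := 192) r16 hwr16
  have r18 := words_step (a := 3264) (b := 192) r17 hwr17
  have r19 := words_step (a := 3456) (b := 192) r18 hwr18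
  have r20 := words_step (a := 3648) (b := 192) r19 hwr19
  have r21 := words_step (a := 3840) (b := 192) r20 hwr20
  have r22 := words_step (a := 4032) (b := 192) r21 hwr21
  have r23 := words_step (a := 4224) (b := 192) r22 hwr22
  have r24 := words_step (a := 4416) (b := 192) r23 hwr23
  have r25 := words_step (a := 4608) (b := 192) r24 hwr24
  have r26 := words_step (a := 4800) (b := 192) r25 hwr25
  have r27 := words_step (a := 4992) (b := 192) r26 hwr26
  have r28 := words_step (a := 5184) (b := 192) r27 hwr27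
  have r29 := words_step (a := 5376) (b := 192) r28 hwr28
  have r30 := words_step (a := 5568) (b := 192) r29 hwr29
  have r31 := words_step (a := 5760) (b := 192) r30 hwr30
  have r32 := words_step (a := 5952) (b := 192) r31 hwr31
  have r33 := words_step (a := 6144) (b := 192) r32 hwr32
  have r34 := words_step (a := 6336) (b := 192) r33 hwr33
  have r35 := words_step (a := 6528) (b := 192) r34 hwr34
  have r36 := words_step (a := 6720) (b := 192) r35 hwr35
  have r37 := words_step (a := 6912) (b := 192) r36 hwr36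
  have r38 := words_step (a := 7104) (b := 192) r37 hwr37
  have r39 := words_step (a := 7296) (b := 192) r38 hwr38
  have r40 := words_step (a := 7488) (b := 192) r39 hwr39
  have r41 := words_step (a := 7680) (b := 192) r40 hwr40
  have r42 := words_step (a := 7872) (b := 192) r41 hwr41
  have r43 := words_step (a := 8064) (b := 192) r42 hwr42
  have r44 := words_step (a := 8256) (b := 192) r43 hwr43
  have r45 := words_step (a := 8448) (b := 192) r44 hwr44
  have r46 := words_step (a := 8640) (b := 192) r45 hwr45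
  have r47 := words_step (a := 8832) (b := 192) r46 hwr46
  have r48 := words_step (a := 9024) (b := 192) r47 hwr47
  have r49 := words_step (a := 9216) (b := 192) r48 hwr48
  have r50 := words_step (a := 9408) (b := 192) r49 hwr49
  have r51 := words_step (a := 9600) (b := 192) r50 hwr50
  have r52 := words_step (a := 9792) (b := 192) r51 hwr51
  have r53 := words_step (a := 9984) (b := 192) r52 hwr52
  have r54 := words_step (a := 10176) (b := 192) r53 hwr53
  have r55 := words_step (a := 10368) (b := 192) r54 hwr54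
  have r56 := words_step (a := 10560) (b := 192) r55 hwr55
  have r57 := words_step (a := 10752) (b := 192) r56 hwr56
  have r58 := words_step (a := 10944) (b := 192) r57 hwr57
  have r59 := words_step (a := 11136) (b := 192) r58 hwr58
  have r60 := words_step (a := 11328) (b := 192) r59 hwr59
  have r61 := words_step (a := 11520) (b := 192) r60 hwr60
  have r62 := words_step (a := 11712) (b := 192) r61 hwr61
  have r63 := words_step (a := 11904) (b := 192) r62 hwr62
  have r64 := words_step (a := 12096) (b := 192) r63 hwr63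
  have r65 := words_step (a := 12288) (b := 192) r64 hwr64
  have r66 := words_step (a := 12480) (b := 192) r65 hwr65
  have r67 := words_step (a := 12672) (b := 192) r66 hwr66
  have r68 := words_step (a := 12864) (b := 192) r67 hwr67
  have r69 := words_step (a := 13056) (b := 192) r68 hwr68
  have r70 := words_step (a := 13248) (b := 192) r69 hwr69
  have r71 := words_step (a := 13440) (b := 192) r70 hwr70
  have r72 := words_step (a := 13632) (b := 192) r71 hwr71
  have r73 := words_step (a := 13824) (b := 192) r72 hwr72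
  have r74 := words_step (a := 14016) (b := 64) r73 hwr73
  exact words_final hletters r74

set_option maxRecDepth 1000000 in
theorem htrans : checkTrans pt bp bx 14080 9 = true := by decide +kernel

set_option maxRecDepth 1000000 in
theorem hsub0 : subs.all (fun w => w.all (fun x => Nat.blt x 9) && Nat.beq (tabW pt w 0) 0) = true := by
  decide +kernel

theorem htable : checkTable st35 fuel canon pt 14080 9 = true := by
  have t0 : allBelow (fun i => allBelow (fun x => checkEntry st35 fuel canon pt i x) 9) 0 = true := rfl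
  have t1 := allBelow_range (a := 0) (b := 1110) t0 htr0
  have t2 := allBelow_range (a := 1110) (b := 1110) t1 htr1
  have t3 := allBelow_range (a := 2220) (b := 1110) t2 htr2
  have t4 := allBelow_range (a := 3330) (b := 1110) t3 htr3
  have t5 := allBelow_range (a := 4440) (b := 1110) t4 htr4
  have t6 := allBelow_range (a := 5550) (b := 1110) t5 htr5
  have t7 := allBelow_range (a := 6660) (b := 1110) t6 htr6
  have t8 := allBelow_range (a := 7770) (b := 1110) t7 htr7
  have t9 := allBelow_range (a := 8880) (b := 1110) t8 htr8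
  have t10 := allBelow_range (a := 9990) (b := 1110) t9 htr9
  have t11 := allBelow_range (a := 11100) (b := 1110) t10 htr10
  have t12 := allBelow_range (a := 12210) (b := 1110) t11 htr11
  have t13 := allBelow_range (a := 13320) (b := 760) t12 htr12
  exact table_final (by decide +kernel) t13

/-- certified coset enumeration -/
theorem result : (((Subgroup.closure ({Cfsg.Spor.Fi22.b, Cfsg.Spor.Fi22.c, Cfsg.Spor.Fi22.d, Cfsg.Spor.Fi22.e, Cfsg.Spor.Fi22.f, Cfsg.Spor.Fi22.g, Cfsg.Spor.Fi22.h, Cfsg.Spor.Fi22.i} : Set (FreeGroup Cfsg.Spor.Fi22.Gen))).map (PresentedGroup.mk (Cfsg.Spor.coxRelators Cfsg.Spor.Fi22.edges ∪ {r | r ∈ Cfsg.Spor.Fi22.extra})))).index = 14080 := by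
  have hYset : ({Fi22.b, Fi22.c, Fi22.d, Fi22.e, Fi22.f, Fi22.g, Fi22.h, Fi22.i} : Set (FreeGroup Fi22.Gen)) = {y | y ∈ Y} := by
    ext y
    simp [Y]
  exact cox_index Fi22.edges Fi22.extra Y _ hYset code allg 9 14080
    (by intro x; cases x <;> decide) (by intro x; cases x <;> decide)
    (by intro x; cases x <;> decide)
    (by intro x y h; cases x <;> cases y <;> first | rfl | exact absurd h (by decide))
    (by
      intro k hk
      interval_cases k
      exacts [⟨.a, rfl⟩, ⟨.b, rfl⟩, ⟨.c, rfl⟩, ⟨.d, rfl⟩, ⟨.e, rfl⟩, ⟨.f, rfl⟩, ⟨.g, rfl⟩, ⟨.h, rfl⟩, ⟨.i, rfl⟩])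
    rels subs hrels hsubs dp dx canon bp bx fuel pt st35 (by norm_num)
    hinvol hwords htrans hsub0 hInv htable

end Cfsg.Agent.S1685
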