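import Cfsg.Statements.S1687
import Cfsg.Agent.Lib.Helper8_CosetEnum
import Cfsg.Agent.Lib.Helper8_Fi22aData
import Cfsg.Agent.Lib.Helper8_Fi22aStates
import Cfsg.Agent.Lib.Helper8_Fi22aSeg0
import Cfsg.Agent.Lib.Helper8_Fi22aSeg1

set_option autoImplicit false
open Cfsg

namespace Cfsg.Agent.S1687

open Cfsg.Agent.H8CE Cfsg.Agent.H8Fi22a Cfsg.Spor

def code : Fi22.Gen → ℕ
  | .a => 0 | .b => 1 | .c => 2 | .d => 3 | .e => 4 | .f => 5 | .g => 6 | .h => 7 | .i => 8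

def allg : List Fi22.Gen := [.a, .b, .c, .d, .e, .f, .g, .h, .i]

def Y : List (FreeGroup Fi22.Gen) := [Fi22.a, Fi22.c, Fi22.d, Fi22.e, Fi22.f, Fi22.g, Fi22.h, Fi22.i, (Fi22.a * Fi22.b * Fi22.c * Fi22.d * Fi22.e * Fi22.h) ^ 5]

set_option maxRecDepth 100000 in
theorem hrels : rels = coxWordList Fi22.edges code allg ++ Fi22.extra.map (toWordCode code) := by
  decide +kernel

set_option maxRecDepth 100000 in
theorem hsubs : subs = Y.map (toWordCode code) := by decide +kernel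

theorem hInv (G : Type) [Group G] (H : Subgroup G) (gen : ℕ → G) (h1 : ∀ x, gen x * gen x = 1)
    (h2 : ∀ w ∈ rels, wprod gen w = 1) (h3 : ∀ w ∈ subs, wprod gen w ∈ H) :
    Inv H gen dp dx st5 := by
  have i0 : Inv H gen dp dx st0 := inv_init H gen dp dx 10
  have i1 := inv_seg h1 rels subs nr fuel cs h2 h3 chunks0 i0 seg0
  have i2 := inv_seg h1 rels subs nr fuel cs h2 h3 chunks1 i1 seg1
  have i3 := inv_seg h1 rels subs nr fuel cs h2 h3 chunks2 i2 seg2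
  have i4 := inv_seg h1 rels subs nr fuel cs h2 h3 chunks3 i3 seg3
  have i5 := inv_seg h1 rels subs nr fuel cs h2 h3 chunks4 i4 seg4
  exact i5

set_option maxRecDepth 1000000 in
theorem hinvol : checkInvol pt 3510 9 = true := by decide +kernel

set_option maxRecDepth 1000000 in
theorem hwords : rels.all (checkWord pt 3510 9) = true := by decide +kernel

set_option maxRecDepth 1000000 in
theorem htrans : checkTrans pt bp bx 3510 9 = true := by decide +kernel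

set_option maxRecDepth 1000000 in
theorem hsub0 : subs.all (fun w => w.all (fun x => Nat.blt x 9) && Nat.beq (tabW pt w 0) 0) = true := by
  decide +kernel

set_option maxRecDepth 1000000 in
theorem htable : checkTable st5 fuel canon pt 3510 9 = true := by decide +kernel

set_option maxRecDepth 1000000 in
theorem horbit : checkOrbit pt subs col roots op ow od 3510 9 = true := by decide +kernel

set_option maxRecDepth 1000000 in
theorem hcount2 : countBelow (fun i => Nat.beq (dig col i) 2) 3510 = 693 := by decide +kernel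

set_option maxRecDepth 1000000 in
theorem hcount1 : countBelow (fun i => Nat.beq (dig col i) 1) 3510 = 2816 := by decide +kernel

set_option maxRecDepth 100000 in
theorem hroots : dig roots 2 < 3510 ∧ dig col (dig roots 2) = 2 ∧ dig roots 1 < 3510 ∧ dig col (dig roots 1) = 1 := by decide +kernel

/-- certified coset enumeration -/
theorem result : (((Subgroup.closure ({Cfsg.Spor.Fi22.a, Cfsg.Spor.Fi22.c, Cfsg.Spor.Fi22.d, Cfsg.Spor.Fi22.e, Cfsg.Spor.Fi22.f, Cfsg.Spor.Fi22.g, Cfsg.Spor.Fi22.h, Cfsg.Spor.Fi22.i, (Cfsg.Spor.Fi22.a * Cfsg.Spor.Fi22.b * Cfsg.Spor.Fi22.c * Cfsg.Spor.Fi22.d * Cfsg.Spor.Fi22.e * Cfsg.Spor.Fi22.h) ^ 5} : Set (FreeGroup Cfsg.Spor.Fi22.Gen))).map (PresentedGroup.mk (Cfsg.Spor.coxRelators Cfsg.Spor.Fi22.edges ∪ {r | r ∈ Cfsg.Spor.Fi22.extra})))).index = 3510 ∧ ∃ q₁ q₂ : Cfsg.Spor.Fi22 ⧸ (((Subgroup.closure ({Cfsg.Spor.Fi22.a, Cfsg.Spor.Fi22.c,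 Cfsg.Spor.Fi22.d, Cfsg.Spor.Fi22.e, Cfsg.Spor.Fi22.f, Cfsg.Spor.Fi22.g, Cfsg.Spor.Fi22.h, Cfsg.Spor.Fi22.i, (Cfsg.Spor.Fi22.a * Cfsg.Spor.Fi22.b * Cfsg.Spor.Fi22.c * Cfsg.Spor.Fi22.d * Cfsg.Spor.Fi22.e * Cfsg.Spor.Fi22.h) ^ 5} : Set (FreeGroup Cfsg.Spor.Fi22.Gen))).map (PresentedGroup.mk (Cfsg.Spor.coxRelators Cfsg.Spor.Fi22.edges ∪ {r | r ∈ Cfsg.Spor.Fi22.extra})))), (MulAction.orbit (((Subgroup.closure ({Cfsg.Spor.Fi22.a, Cfsg.Spor.Fi22.c, Cfsg.Spor.Fi22.d, Cfsg.Spor.Fi22.e, Cfsg.Spor.Fi22.f, Cfsg.Spor.Fi22.g, Cfsg.Spor.Fi22.h, Cfsg.Spor.Fi22.i, (Cfsg.Spor.Fi22.a * Cfsg.Spor.Fi22.b * Cfsg.Spor.Fi22.c * Cfsg.Spor.Fi22.d * Cfsg.Spor.Fi22.e * Cfsg.Spor.Fi22.h) ^ 5} : Set (FreeGroup Cfsg.Spor.Fi22.Gen))).map (PresentedGroup.mk (Cfsg.Spor.coxRelators Cfsg.Spor.Fi22.edges ∪ {r | r ∈ Cfsg.Spor.Fi22.extra})))) q₁).ncard = 693 ∧ (MulAction.orbit (((Subgroup.closure ({Cfsg.Spor.Fi22.a,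 Cfsg.Spor.Fi22.c, Cfsg.Spor.Fi22.d, Cfsg.Spor.Fi22.e, Cfsg.Spor.Fi22.f, Cfsg.Spor.Fi22.g, Cfsg.Spor.Fi22.h, Cfsg.Spor.Fi22.i, (Cfsg.Spor.Fi22.a * Cfsg.Spor.Fi22.b * Cfsg.Spor.Fi22.c * Cfsg.Spor.Fi22.d * Cfsg.Spor.Fi22.e * Cfsg.Spor.Fi22.h) ^ 5} : Set (FreeGroup Cfsg.Spor.Fi22.Gen))).map (PresentedGroup.mk (Cfsg.Spor.coxRelators Cfsg.Spor.Fi22.edges ∪ {r | r ∈ Cfsg.Spor.Fi22.extra})))) q₂).ncard = 2816 := by
  have hYset : ({Fi22.a, Fi22.c, Fi22.d, Fi22.e, Fi22.f, Fi22.g, Fi22.h, Fi22.i, (Fi22.a * Fi22.b * Fi22.c * Fi22.d * Fi22.e * Fi22.h) ^ 5} : Set (FreeGroup Fi22.Gen)) = {y | y ∈ Y} := by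
    ext y
    simp [Y]
  obtain ⟨hidx, Φ, horb⟩ := cox_main Fi22.edges Fi22.extra Y _ hYset code allg 9 3510
    (by intro x; cases x <;> decide) (by intro x; cases x <;> decide)
    (by intro x; cases x <;> decide)
    (by intro x y h; cases x <;> cases y <;> first | rfl | exact absurd h (by decide))
    (by
      intro k hk
      interval_cases k
      exacts [⟨.a, rfl⟩, ⟨.b, rfl⟩, ⟨.c, rfl⟩, ⟨.d, rfl⟩, ⟨.e, rfl⟩, ⟨.f, rfl⟩, ⟨.g, rfl⟩, ⟨.h, rfl⟩, ⟨.i, rfl⟩])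
    rels subs hrels hsubs dp dx canon bp bx col roots op ow od fuel pt st5 (by norm_num)
    hinvol hwords htrans hsub0 hInv htable horbit
  refine ⟨hidx, ?_⟩
  obtain ⟨q1, h1, _⟩ := horb 2 hroots.1 hroots.2.1
  obtain ⟨q2, h2, _⟩ := horb 1 hroots.2.2.1 hroots.2.2.2
  exact ⟨q1, q2, by rw [h1, hcount2], by rw [h2, hcount1]⟩

end Cfsg.Agent.S1687
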