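import Cfsg.Statements.S1689
import Cfsg.Agent.Lib.Helper8_CosetBig2
import Cfsg.Agent.Lib.Helper8_CosetPatch
import Cfsg.Agent.Lib.Helper8_Fi23Data
import Cfsg.Agent.Lib.Helper8_Fi23States0
import Cfsg.Agent.Lib.Helper8_Fi23States1
import Cfsg.Agent.Lib.Helper8_Fi23States2
import Cfsg.Agent.Lib.Helper8_Fi23States3
import Cfsg.Agent.Lib.Helper8_Fi23States4
import Cfsg.Agent.Lib.Helper8_Fi23States5
import Cfsg.Agent.Lib.Helper8_Fi23States6
import Cfsg.Agent.Lib.Helper8_Fi23States7
import Cfsg.Agent.Lib.Helper8_Fi23States8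
import Cfsg.Agent.Lib.Helper8_Fi23States9
import Cfsg.Agent.Lib.Helper8_Fi23States10
import Cfsg.Agent.Lib.Helper8_Fi23Seg0
import Cfsg.Agent.Lib.Helper8_Fi23Seg1
import Cfsg.Agent.Lib.Helper8_Fi23Seg2
import Cfsg.Agent.Lib.Helper8_Fi23Seg3
import Cfsg.Agent.Lib.Helper8_Fi23Seg4
import Cfsg.Agent.Lib.Helper8_Fi23Seg5
import Cfsg.Agent.Lib.Helper8_Fi23Seg49
import Cfsg.Agent.Lib.Helper8_Fi23Sub6
import Cfsg.Agent.Lib.Helper8_Fi23Sub7
import Cfsg.Agent.Lib.Helper8_Fi23Sub8
import Cfsg.Agent.Lib.Helper8_Fi23Sub9
import Cfsg.Agent.Lib.Helper8_Fi23Sub10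
import Cfsg.Agent.Lib.Helper8_Fi23Sub11
import Cfsg.Agent.Lib.Helper8_Fi23Sub12
import Cfsg.Agent.Lib.Helper8_Fi23Sub13
import Cfsg.Agent.Lib.Helper8_Fi23Sub14
import Cfsg.Agent.Lib.Helper8_Fi23Sub15
import Cfsg.Agent.Lib.Helper8_Fi23Sub16
import Cfsg.Agent.Lib.Helper8_Fi23Sub17
import Cfsg.Agent.Lib.Helper8_Fi23Sub18
import Cfsg.Agent.Lib.Helper8_Fi23Sub19
import Cfsg.Agent.Lib.Helper8_Fi23Sub20
import Cfsg.Agent.Lib.Helper8_Fi23Sub21
import Cfsg.Agent.Lib.Helper8_Fi23Sub22
import Cfsg.Agent.Lib.Helper8_Fi23Sub23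
import Cfsg.Agent.Lib.Helper8_Fi23Sub24
import Cfsg.Agent.Lib.Helper8_Fi23Sub25
import Cfsg.Agent.Lib.Helper8_Fi23Sub26
import Cfsg.Agent.Lib.Helper8_Fi23Sub27
import Cfsg.Agent.Lib.Helper8_Fi23Sub28
import Cfsg.Agent.Lib.Helper8_Fi23Sub29
import Cfsg.Agent.Lib.Helper8_Fi23Sub30
import Cfsg.Agent.Lib.Helper8_Fi23Sub31
import Cfsg.Agent.Lib.Helper8_Fi23Sub32
import Cfsg.Agent.Lib.Helper8_Fi23Sub33
import Cfsg.Agent.Lib.Helper8_Fi23Sub34
import Cfsg.Agent.Lib.Helper8_Fi23Sub35
import Cfsg.Agent.Lib.Helper8_Fi23Sub36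
import Cfsg.Agent.Lib.Helper8_Fi23Sub37
import Cfsg.Agent.Lib.Helper8_Fi23Sub38
import Cfsg.Agent.Lib.Helper8_Fi23Sub39
import Cfsg.Agent.Lib.Helper8_Fi23Sub40
import Cfsg.Agent.Lib.Helper8_Fi23Sub41
import Cfsg.Agent.Lib.Helper8_Fi23Sub42
import Cfsg.Agent.Lib.Helper8_Fi23Sub43
import Cfsg.Agent.Lib.Helper8_Fi23Sub44
import Cfsg.Agent.Lib.Helper8_Fi23Sub45
import Cfsg.Agent.Lib.Helper8_Fi23Sub46
import Cfsg.Agent.Lib.Helper8_Fi23Sub47
import Cfsg.Agent.Lib.Helper8_Fi23Sub48
import Cfsg.Agent.Lib.Helper8_Fi23Perm0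
import Cfsg.Agent.Lib.Helper8_Fi23Perm1
import Cfsg.Agent.Lib.Helper8_Fi23Perm2
import Cfsg.Agent.Lib.Helper8_Fi23Perm3
import Cfsg.Agent.Lib.Helper8_Fi23Perm4
import Cfsg.Agent.Lib.Helper8_Fi23Perm5
import Cfsg.Agent.Lib.Helper8_Fi23Perm6
import Cfsg.Agent.Lib.Helper8_Fi23Perm7
import Cfsg.Agent.Lib.Helper8_Fi23Perm8
import Cfsg.Agent.Lib.Helper8_Fi23Perm9
import Cfsg.Agent.Lib.Helper8_Fi23Perm10
import Cfsg.Agent.Lib.Helper8_Fi23Perm11
import Cfsg.Agent.Lib.Helper8_Fi23Perm12
import Cfsg.Agent.Lib.Helper8_Fi23Perm13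
import Cfsg.Agent.Lib.Helper8_Fi23Perm14
import Cfsg.Agent.Lib.Helper8_Fi23Perm15
import Cfsg.Agent.Lib.Helper8_Fi23Perm16
import Cfsg.Agent.Lib.Helper8_Fi23Perm17
import Cfsg.Agent.Lib.Helper8_Fi23Perm18
import Cfsg.Agent.Lib.Helper8_Fi23Perm19
import Cfsg.Agent.Lib.Helper8_Fi23Perm20
import Cfsg.Agent.Lib.Helper8_Fi23Perm21
import Cfsg.Agent.Lib.Helper8_Fi23Perm22
import Cfsg.Agent.Lib.Helper8_Fi23Perm23
import Cfsg.Agent.Lib.Helper8_Fi23Perm24
import Cfsg.Agent.Lib.Helper8_Fi23Perm25
import Cfsg.Agent.Lib.Helper8_Fi23Perm26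
import Cfsg.Agent.Lib.Helper8_Fi23Perm27
import Cfsg.Agent.Lib.Helper8_Fi23Perm28
import Cfsg.Agent.Lib.Helper8_Fi23Perm29
import Cfsg.Agent.Lib.Helper8_Fi23Perm30
import Cfsg.Agent.Lib.Helper8_Fi23Perm31
import Cfsg.Agent.Lib.Helper8_Fi23Perm32
import Cfsg.Agent.Lib.Helper8_Fi23Perm33
import Cfsg.Agent.Lib.Helper8_Fi23Perm34
import Cfsg.Agent.Lib.Helper8_Fi23Perm35
import Cfsg.Agent.Lib.Helper8_Fi23Perm36
import Cfsg.Agent.Lib.Helper8_Fi23Perm37
import Cfsg.Agent.Lib.Helper8_Fi23Perm38
import Cfsg.Agent.Lib.Helper8_Fi23Perm39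
import Cfsg.Agent.Lib.Helper8_Fi23Perm40
import Cfsg.Agent.Lib.Helper8_Fi23Perm41
import Cfsg.Agent.Lib.Helper8_Fi23Perm42
import Cfsg.Agent.Lib.Helper8_Fi23Perm43
import Cfsg.Agent.Lib.Helper8_Fi23Perm44
import Cfsg.Agent.Lib.Helper8_Fi23Perm45
import Cfsg.Agent.Lib.Helper8_Fi23Perm46

set_option autoImplicit false
open Cfsg

namespace Cfsg.Agent.S1689

open Cfsg.Agent.H8CE Cfsg.Agent.H8Fi23 Cfsg.Spor

def code : Fi23.Gen → ℕ
  | .a => 0 | .b => 1 | .c => 2 | .d => 3 | .e => 4 | .f => 5 | .g => 6 | .j => 7 | .h => 8 | .i => 9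

def allg : List Fi23.Gen := [.a, .b, .c, .d, .e, .f, .g, .j, .h, .i]

def Y : List (FreeGroup Fi23.Gen) := [Fi23.a, Fi23.b, Fi23.c, Fi23.d, Fi23.e, Fi23.f, Fi23.g, Fi23.h, Fi23.i]

set_option maxRecDepth 100000 in
theorem hrels : rels = coxWordList Fi23.edges code allg ++ Fi23.extra.map (toWordCode code) := by
  decide +kernel

set_option maxRecDepth 100000 in
theorem hsubs : subs = Y.map (toWordCode code) := by decide +kernel

theorem hInv (G : Type) [Group G] (H : Subgroup G) (gen : ℕ → G) (h1 : ∀ x, gen x * gen x = 1)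
    (h2 : ∀ w ∈ rels, wprod gen w = 1) (h3 : ∀ w ∈ subs, wprod gen w ∈ H) :
    Inv H gen dp dx st50 := by
  have i0 : Inv H gen dp dx st0 := inv_init H gen dp dx 11
  have i1 := inv_seg h1 rels subs nr fuel cs h2 h3 chunks0 i0 seg0
  have i2 := inv_seg h1 rels subs nr fuel cs h2 h3 chunks1 i1 seg1
  have i3 := inv_seg h1 rels subs nr fuel cs h2 h3 chunks2 i2 seg2
  have i4 := inv_seg h1 rels subs nr fuel cs h2 h3 chunks3 i3 seg3
  have i5 := inv_seg h1 rels subs nr fuel cs h2 h3 chunks4 i4 seg4
  have i6 := inv_seg h1 rels subs nr fuel cs h2 h3 chunks5 i5 seg5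
  have i6_0 := inv_seg h1 rels subs nr fuel cs h2 h3 cks6_0 i6 sub6_0
  have i6_1 := inv_seg h1 rels subs nr fuel cs h2 h3 cks6_1 i6_0 sub6_1
  have i6_2 := inv_seg h1 rels subs nr fuel cs h2 h3 cks6_2 i6_1 sub6_2
  have i6_3 := inv_seg h1 rels subs nr fuel cs h2 h3 cks6_3 i6_2 sub6_3
  have i6_4 := inv_seg h1 rels subs nr fuel cs h2 h3 cks6_4 i6_3 sub6_4
  have i7 := inv_seg h1 rels subs nr fuel cs h2 h3 cks6_5 i6_4 sub6_5
  have i7_0 := inv_seg h1 rels subs nr fuel cs h2 h3 cks7_0 i7 sub7_0
  have i7_1 := inv_seg h1 rels subs nr fuel cs h2 h3 cks7_1 i7_0 sub7_1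
  have i7_2 := inv_seg h1 rels subs nr fuel cs h2 h3 cks7_2 i7_1 sub7_2
  have i7_3 := inv_seg h1 rels subs nr fuel cs h2 h3 cks7_3 i7_2 sub7_3
  have i7_4 := inv_seg h1 rels subs nr fuel cs h2 h3 cks7_4 i7_3 sub7_4
  have i8 := inv_seg h1 rels subs nr fuel cs h2 h3 cks7_5 i7_4 sub7_5
  have i8_0 := inv_seg h1 rels subs nr fuel cs h2 h3 cks8_0 i8 sub8_0
  have i8_1 := inv_seg h1 rels subs nr fuel cs h2 h3 cks8_1 i8_0 sub8_1
  have i8_2 := inv_seg h1 rels subs nr fuel cs h2 h3 cks8_2 i8_1 sub8_2
  have i8_3 := inv_seg h1 rels subs nr fuel cs h2 h3 cks8_3 i8_2 sub8_3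
  have i8_4 := inv_seg h1 rels subs nr fuel cs h2 h3 cks8_4 i8_3 sub8_4
  have i9 := inv_seg h1 rels subs nr fuel cs h2 h3 cks8_5 i8_4 sub8_5
  have i9_0 := inv_seg h1 rels subs nr fuel cs h2 h3 cks9_0 i9 sub9_0
  have i9_1 := inv_seg h1 rels subs nr fuel cs h2 h3 cks9_1 i9_0 sub9_1
  have i9_2 := inv_seg h1 rels subs nr fuel cs h2 h3 cks9_2 i9_1 sub9_2
  have i9_3 := inv_seg h1 rels subs nr fuel cs h2 h3 cks9_3 i9_2 sub9_3
  have i9_4 := inv_seg h1 rels subs nr fuel cs h2 h3 cks9_4 i9_3 sub9_4
  have i10 := inv_seg h1 rels subs nr fuel cs h2 h3 cks9_5 i9_4 sub9_5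
  have i10_0 := inv_seg h1 rels subs nr fuel cs h2 h3 cks10_0 i10 sub10_0
  have i10_1 := inv_seg h1 rels subs nr fuel cs h2 h3 cks10_1 i10_0 sub10_1
  have i10_2 := inv_seg h1 rels subs nr fuel cs h2 h3 cks10_2 i10_1 sub10_2
  have i10_3 := inv_seg h1 rels subs nr fuel cs h2 h3 cks10_3 i10_2 sub10_3
  have i10_4 := inv_seg h1 rels subs nr fuel cs h2 h3 cks10_4 i10_3 sub10_4
  have i11 := inv_seg h1 rels subs nr fuel cs h2 h3 cks10_5 i10_4 sub10_5
  have i11_0 := inv_seg h1 rels subs nr fuel cs h2 h3 cks11_0 i11 sub11_0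
  have i11_1 := inv_seg h1 rels subs nr fuel cs h2 h3 cks11_1 i11_0 sub11_1
  have i11_2 := inv_seg h1 rels subs nr fuel cs h2 h3 cks11_2 i11_1 sub11_2
  have i11_3 := inv_seg h1 rels subs nr fuel cs h2 h3 cks11_3 i11_2 sub11_3
  have i11_4 := inv_seg h1 rels subs nr fuel cs h2 h3 cks11_4 i11_3 sub11_4
  have i12 := inv_seg h1 rels subs nr fuel cs h2 h3 cks11_5 i11_4 sub11_5
  have i12_0 := inv_seg h1 rels subs nr fuel cs h2 h3 cks12_0 i12 sub12_0
  have i12_1 := inv_seg h1 rels subs nr fuel cs h2 h3 cks12_1 i12_0 sub12_1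
  have i12_2 := inv_seg h1 rels subs nr fuel cs h2 h3 cks12_2 i12_1 sub12_2
  have i12_3 := inv_seg h1 rels subs nr fuel cs h2 h3 cks12_3 i12_2 sub12_3
  have i12_4 := inv_seg h1 rels subs nr fuel cs h2 h3 cks12_4 i12_3 sub12_4
  have i13 := inv_seg h1 rels subs nr fuel cs h2 h3 cks12_5 i12_4 sub12_5
  have i13_0 := inv_seg h1 rels subs nr fuel cs h2 h3 cks13_0 i13 sub13_0
  have i13_1 := inv_seg h1 rels subs nr fuel cs h2 h3 cks13_1 i13_0 sub13_1
  have i13_2 := inv_seg h1 rels subs nr fuel cs h2 h3 cks13_2 i13_1 sub13_2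
  have i13_3 := inv_seg h1 rels subs nr fuel cs h2 h3 cks13_3 i13_2 sub13_3
  have i13_4 := inv_seg h1 rels subs nr fuel cs h2 h3 cks13_4 i13_3 sub13_4
  have i14 := inv_seg h1 rels subs nr fuel cs h2 h3 cks13_5 i13_4 sub13_5
  have i14_0 := inv_seg h1 rels subs nr fuel cs h2 h3 cks14_0 i14 sub14_0
  have i14_1 := inv_seg h1 rels subs nr fuel cs h2 h3 cks14_1 i14_0 sub14_1
  have i14_2 := inv_seg h1 rels subs nr fuel cs h2 h3 cks14_2 i14_1 sub14_2
  have i14_3 := inv_seg h1 rels subs nr fuel cs h2 h3 cks14_3 i14_2 sub14_3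
  have i14_4 := inv_seg h1 rels subs nr fuel cs h2 h3 cks14_4 i14_3 sub14_4
  have i15 := inv_seg h1 rels subs nr fuel cs h2 h3 cks14_5 i14_4 sub14_5
  have i15_0 := inv_seg h1 rels subs nr fuel cs h2 h3 cks15_0 i15 sub15_0
  have i15_1 := inv_seg h1 rels subs nr fuel cs h2 h3 cks15_1 i15_0 sub15_1
  have i15_2 := inv_seg h1 rels subs nr fuel cs h2 h3 cks15_2 i15_1 sub15_2
  have i15_3 := inv_seg h1 rels subs nr fuel cs h2 h3 cks15_3 i15_2 sub15_3
  have i15_4 := inv_seg h1 rels subs nr fuel cs h2 h3 cks15_4 i15_3 sub15_4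
  have i16 := inv_seg h1 rels subs nr fuel cs h2 h3 cks15_5 i15_4 sub15_5
  have i16_0 := inv_seg h1 rels subs nr fuel cs h2 h3 cks16_0 i16 sub16_0
  have i16_1 := inv_seg h1 rels subs nr fuel cs h2 h3 cks16_1 i16_0 sub16_1
  have i16_2 := inv_seg h1 rels subs nr fuel cs h2 h3 cks16_2 i16_1 sub16_2
  have i16_3 := inv_seg h1 rels subs nr fuel cs h2 h3 cks16_3 i16_2 sub16_3
  have i16_4 := inv_seg h1 rels subs nr fuel cs h2 h3 cks16_4 i16_3 sub16_4
  have i17 := inv_seg h1 rels subs nr fuel cs h2 h3 cks16_5 i16_4 sub16_5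
  have i17_0 := inv_seg h1 rels subs nr fuel cs h2 h3 cks17_0 i17 sub17_0
  have i17_1 := inv_seg h1 rels subs nr fuel cs h2 h3 cks17_1 i17_0 sub17_1
  have i17_2 := inv_seg h1 rels subs nr fuel cs h2 h3 cks17_2 i17_1 sub17_2
  have i17_3 := inv_seg h1 rels subs nr fuel cs h2 h3 cks17_3 i17_2 sub17_3
  have i17_4 := inv_seg h1 rels subs nr fuel cs h2 h3 cks17_4 i17_3 sub17_4
  have i18 := inv_seg h1 rels subs nr fuel cs h2 h3 cks17_5 i17_4 sub17_5
  have i18_0 := inv_seg h1 rels subs nr fuel cs h2 h3 cks18_0 i18 sub18_0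
  have i18_1 := inv_seg h1 rels subs nr fuel cs h2 h3 cks18_1 i18_0 sub18_1
  have i18_2 := inv_seg h1 rels subs nr fuel cs h2 h3 cks18_2 i18_1 sub18_2
  have i18_3 := inv_seg h1 rels subs nr fuel cs h2 h3 cks18_3 i18_2 sub18_3
  have i18_4 := inv_seg h1 rels subs nr fuel cs h2 h3 cks18_4 i18_3 sub18_4
  have i19 := inv_seg h1 rels subs nr fuel cs h2 h3 cks18_5 i18_4 sub18_5
  have i19_0 := inv_seg h1 rels subs nr fuel cs h2 h3 cks19_0 i19 sub19_0
  have i19_1 := inv_seg h1 rels subs nr fuel cs h2 h3 cks19_1 i19_0 sub19_1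
  have i19_2 := inv_seg h1 rels subs nr fuel cs h2 h3 cks19_2 i19_1 sub19_2
  have i19_3 := inv_seg h1 rels subs nr fuel cs h2 h3 cks19_3 i19_2 sub19_3
  have i19_4 := inv_seg h1 rels subs nr fuel cs h2 h3 cks19_4 i19_3 sub19_4
  have i20 := inv_seg h1 rels subs nr fuel cs h2 h3 cks19_5 i19_4 sub19_5
  have i20_0 := inv_seg h1 rels subs nr fuel cs h2 h3 cks20_0 i20 sub20_0
  have i20_1 := inv_seg h1 rels subs nr fuel cs h2 h3 cks20_1 i20_0 sub20_1
  have i20_2 := inv_seg h1 rels subs nr fuel cs h2 h3 cks20_2 i20_1 sub20_2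
  have i20_3 := inv_seg h1 rels subs nr fuel cs h2 h3 cks20_3 i20_2 sub20_3
  have i20_4 := inv_seg h1 rels subs nr fuel cs h2 h3 cks20_4 i20_3 sub20_4
  have i21 := inv_seg h1 rels subs nr fuel cs h2 h3 cks20_5 i20_4 sub20_5
  have i21_0 := inv_seg h1 rels subs nr fuel cs h2 h3 cks21_0 i21 sub21_0
  have i21_1 := inv_seg h1 rels subs nr fuel cs h2 h3 cks21_1 i21_0 sub21_1
  have i21_2 := inv_seg h1 rels subs nr fuel cs h2 h3 cks21_2 i21_1 sub21_2
  have i21_3 := inv_seg h1 rels subs nr fuel cs h2 h3 cks21_3 i21_2 sub21_3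
  have i21_4 := inv_seg h1 rels subs nr fuel cs h2 h3 cks21_4 i21_3 sub21_4
  have i22 := inv_seg h1 rels subs nr fuel cs h2 h3 cks21_5 i21_4 sub21_5
  have i22_0 := inv_seg h1 rels subs nr fuel cs h2 h3 cks22_0 i22 sub22_0
  have i22_1 := inv_seg h1 rels subs nr fuel cs h2 h3 cks22_1 i22_0 sub22_1
  have i22_2 := inv_seg h1 rels subs nr fuel cs h2 h3 cks22_2 i22_1 sub22_2
  have i22_3 := inv_seg h1 rels subs nr fuel cs h2 h3 cks22_3 i22_2 sub22_3
  have i22_4 := inv_seg h1 rels subs nr fuel cs h2 h3 cks22_4 i22_3 sub22_4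
  have i23 := inv_seg h1 rels subs nr fuel cs h2 h3 cks22_5 i22_4 sub22_5
  have i23_0 := inv_seg h1 rels subs nr fuel cs h2 h3 cks23_0 i23 sub23_0
  have i23_1 := inv_seg h1 rels subs nr fuel cs h2 h3 cks23_1 i23_0 sub23_1
  have i23_2 := inv_seg h1 rels subs nr fuel cs h2 h3 cks23_2 i23_1 sub23_2
  have i23_3 := inv_seg h1 rels subs nr fuel cs h2 h3 cks23_3 i23_2 sub23_3
  have i23_4 := inv_seg h1 rels subs nr fuel cs h2 h3 cks23_4 i23_3 sub23_4
  have i24 := inv_seg h1 rels subs nr fuel cs h2 h3 cks23_5 i23_4 sub23_5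
  have i24_0 := inv_seg h1 rels subs nr fuel cs h2 h3 cks24_0 i24 sub24_0
  have i24_1 := inv_seg h1 rels subs nr fuel cs h2 h3 cks24_1 i24_0 sub24_1
  have i24_2 := inv_seg h1 rels subs nr fuel cs h2 h3 cks24_2 i24_1 sub24_2
  have i24_3 := inv_seg h1 rels subs nr fuel cs h2 h3 cks24_3 i24_2 sub24_3
  have i24_4 := inv_seg h1 rels subs nr fuel cs h2 h3 cks24_4 i24_3 sub24_4
  have i25 := inv_seg h1 rels subs nr fuel cs h2 h3 cks24_5 i24_4 sub24_5
  have i25_0 := inv_seg h1 rels subs nr fuel cs h2 h3 cks25_0 i25 sub25_0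
  have i25_1 := inv_seg h1 rels subs nr fuel cs h2 h3 cks25_1 i25_0 sub25_1
  have i25_2 := inv_seg h1 rels subs nr fuel cs h2 h3 cks25_2 i25_1 sub25_2
  have i25_3 := inv_seg h1 rels subs nr fuel cs h2 h3 cks25_3 i25_2 sub25_3
  have i25_4 := inv_seg h1 rels subs nr fuel cs h2 h3 cks25_4 i25_3 sub25_4
  have i26 := inv_seg h1 rels subs nr fuel cs h2 h3 cks25_5 i25_4 sub25_5
  have i26_0 := inv_seg h1 rels subs nr fuel cs h2 h3 cks26_0 i26 sub26_0
  have i26_1 := inv_seg h1 rels subs nr fuel cs h2 h3 cks26_1 i26_0 sub26_1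
  have i26_2 := inv_seg h1 rels subs nr fuel cs h2 h3 cks26_2 i26_1 sub26_2
  have i26_3 := inv_seg h1 rels subs nr fuel cs h2 h3 cks26_3 i26_2 sub26_3
  have i26_4 := inv_seg h1 rels subs nr fuel cs h2 h3 cks26_4 i26_3 sub26_4
  have i27 := inv_seg h1 rels subs nr fuel cs h2 h3 cks26_5 i26_4 sub26_5
  have i27_0 := inv_seg h1 rels subs nr fuel cs h2 h3 cks27_0 i27 sub27_0
  have i27_1 := inv_seg h1 rels subs nr fuel cs h2 h3 cks27_1 i27_0 sub27_1
  have i27_2 := inv_seg h1 rels subs nr fuel cs h2 h3 cks27_2 i27_1 sub27_2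
  have i27_3 := inv_seg h1 rels subs nr fuel cs h2 h3 cks27_3 i27_2 sub27_3
  have i27_4 := inv_seg h1 rels subs nr fuel cs h2 h3 cks27_4 i27_3 sub27_4
  have i28 := inv_seg h1 rels subs nr fuel cs h2 h3 cks27_5 i27_4 sub27_5
  have i28_0 := inv_seg h1 rels subs nr fuel cs h2 h3 cks28_0 i28 sub28_0
  have i28_1 := inv_seg h1 rels subs nr fuel cs h2 h3 cks28_1 i28_0 sub28_1
  have i28_2 := inv_seg h1 rels subs nr fuel cs h2 h3 cks28_2 i28_1 sub28_2
  have i28_3 := inv_seg h1 rels subs nr fuel cs h2 h3 cks28_3 i28_2 sub28_3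
  have i28_4 := inv_seg h1 rels subs nr fuel cs h2 h3 cks28_4 i28_3 sub28_4
  have i29 := inv_seg h1 rels subs nr fuel cs h2 h3 cks28_5 i28_4 sub28_5
  have i29_0 := inv_seg h1 rels subs nr fuel cs h2 h3 cks29_0 i29 sub29_0
  have i29_1 := inv_seg h1 rels subs nr fuel cs h2 h3 cks29_1 i29_0 sub29_1
  have i29_2 := inv_seg h1 rels subs nr fuel cs h2 h3 cks29_2 i29_1 sub29_2
  have i29_3 := inv_seg h1 rels subs nr fuel cs h2 h3 cks29_3 i29_2 sub29_3
  have i29_4 := inv_seg h1 rels subs nr fuel cs h2 h3 cks29_4 i29_3 sub29_4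
  have i30 := inv_seg h1 rels subs nr fuel cs h2 h3 cks29_5 i29_4 sub29_5
  have i30_0 := inv_seg h1 rels subs nr fuel cs h2 h3 cks30_0 i30 sub30_0
  have i30_1 := inv_seg h1 rels subs nr fuel cs h2 h3 cks30_1 i30_0 sub30_1
  have i30_2 := inv_seg h1 rels subs nr fuel cs h2 h3 cks30_2 i30_1 sub30_2
  have i30_3 := inv_seg h1 rels subs nr fuel cs h2 h3 cks30_3 i30_2 sub30_3
  have i30_4 := inv_seg h1 rels subs nr fuel cs h2 h3 cks30_4 i30_3 sub30_4
  have i31 := inv_seg h1 rels subs nr fuel cs h2 h3 cks30_5 i30_4 sub30_5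
  have i31_0 := inv_seg h1 rels subs nr fuel cs h2 h3 cks31_0 i31 sub31_0
  have i31_1 := inv_seg h1 rels subs nr fuel cs h2 h3 cks31_1 i31_0 sub31_1
  have i31_2 := inv_seg h1 rels subs nr fuel cs h2 h3 cks31_2 i31_1 sub31_2
  have i31_3 := inv_seg h1 rels subs nr fuel cs h2 h3 cks31_3 i31_2 sub31_3
  have i31_4 := inv_seg h1 rels subs nr fuel cs h2 h3 cks31_4 i31_3 sub31_4
  have i32 := inv_seg h1 rels subs nr fuel cs h2 h3 cks31_5 i31_4 sub31_5
  have i32_0 := inv_seg h1 rels subs nr fuel cs h2 h3 cks32_0 i32 sub32_0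
  have i32_1 := inv_seg h1 rels subs nr fuel cs h2 h3 cks32_1 i32_0 sub32_1
  have i32_2 := inv_seg h1 rels subs nr fuel cs h2 h3 cks32_2 i32_1 sub32_2
  have i32_3 := inv_seg h1 rels subs nr fuel cs h2 h3 cks32_3 i32_2 sub32_3
  have i32_4 := inv_seg h1 rels subs nr fuel cs h2 h3 cks32_4 i32_3 sub32_4
  have i33 := inv_seg h1 rels subs nr fuel cs h2 h3 cks32_5 i32_4 sub32_5
  have i33_0 := inv_seg h1 rels subs nr fuel cs h2 h3 cks33_0 i33 sub33_0
  have i33_1 := inv_seg h1 rels subs nr fuel cs h2 h3 cks33_1 i33_0 sub33_1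
  have i33_2 := inv_seg h1 rels subs nr fuel cs h2 h3 cks33_2 i33_1 sub33_2
  have i33_3 := inv_seg h1 rels subs nr fuel cs h2 h3 cks33_3 i33_2 sub33_3
  have i33_4 := inv_seg h1 rels subs nr fuel cs h2 h3 cks33_4 i33_3 sub33_4
  have i34 := inv_seg h1 rels subs nr fuel cs h2 h3 cks33_5 i33_4 sub33_5
  have i34_0 := inv_seg h1 rels subs nr fuel cs h2 h3 cks34_0 i34 sub34_0
  have i34_1 := inv_seg h1 rels subs nr fuel cs h2 h3 cks34_1 i34_0 sub34_1
  have i34_2 := inv_seg h1 rels subs nr fuel cs h2 h3 cks34_2 i34_1 sub34_2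
  have i34_3 := inv_seg h1 rels subs nr fuel cs h2 h3 cks34_3 i34_2 sub34_3
  have i34_4 := inv_seg h1 rels subs nr fuel cs h2 h3 cks34_4 i34_3 sub34_4
  have i35 := inv_seg h1 rels subs nr fuel cs h2 h3 cks34_5 i34_4 sub34_5
  have i35_0 := inv_seg h1 rels subs nr fuel cs h2 h3 cks35_0 i35 sub35_0
  have i35_1 := inv_seg h1 rels subs nr fuel cs h2 h3 cks35_1 i35_0 sub35_1
  have i35_2 := inv_seg h1 rels subs nr fuel cs h2 h3 cks35_2 i35_1 sub35_2
  have i35_3 := inv_seg h1 rels subs nr fuel cs h2 h3 cks35_3 i35_2 sub35_3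
  have i35_4 := inv_seg h1 rels subs nr fuel cs h2 h3 cks35_4 i35_3 sub35_4
  have i36 := inv_seg h1 rels subs nr fuel cs h2 h3 cks35_5 i35_4 sub35_5
  have i36_0 := inv_seg h1 rels subs nr fuel cs h2 h3 cks36_0 i36 sub36_0
  have i36_1 := inv_seg h1 rels subs nr fuel cs h2 h3 cks36_1 i36_0 sub36_1
  have i36_2 := inv_seg h1 rels subs nr fuel cs h2 h3 cks36_2 i36_1 sub36_2
  have i36_3 := inv_seg h1 rels subs nr fuel cs h2 h3 cks36_3 i36_2 sub36_3
  have i36_4 := inv_seg h1 rels subs nr fuel cs h2 h3 cks36_4 i36_3 sub36_4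
  have i37 := inv_seg h1 rels subs nr fuel cs h2 h3 cks36_5 i36_4 sub36_5
  have i37_0 := inv_seg h1 rels subs nr fuel cs h2 h3 cks37_0 i37 sub37_0
  have i37_1 := inv_seg h1 rels subs nr fuel cs h2 h3 cks37_1 i37_0 sub37_1
  have i37_2 := inv_seg h1 rels subs nr fuel cs h2 h3 cks37_2 i37_1 sub37_2
  have i37_3 := inv_seg h1 rels subs nr fuel cs h2 h3 cks37_3 i37_2 sub37_3
  have i37_4 := inv_seg h1 rels subs nr fuel cs h2 h3 cks37_4 i37_3 sub37_4
  have i38 := inv_seg h1 rels subs nr fuel cs h2 h3 cks37_5 i37_4 sub37_5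
  have i38_0 := inv_seg h1 rels subs nr fuel cs h2 h3 cks38_0 i38 sub38_0
  have i38_1 := inv_seg h1 rels subs nr fuel cs h2 h3 cks38_1 i38_0 sub38_1
  have i38_2 := inv_seg h1 rels subs nr fuel cs h2 h3 cks38_2 i38_1 sub38_2
  have i38_3 := inv_seg h1 rels subs nr fuel cs h2 h3 cks38_3 i38_2 sub38_3
  have i38_4 := inv_seg h1 rels subs nr fuel cs h2 h3 cks38_4 i38_3 sub38_4
  have i39 := inv_seg h1 rels subs nr fuel cs h2 h3 cks38_5 i38_4 sub38_5
  have i39_0 := inv_seg h1 rels subs nr fuel cs h2 h3 cks39_0 i39 sub39_0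
  have i39_1 := inv_seg h1 rels subs nr fuel cs h2 h3 cks39_1 i39_0 sub39_1
  have i39_2 := inv_seg h1 rels subs nr fuel cs h2 h3 cks39_2 i39_1 sub39_2
  have i39_3 := inv_seg h1 rels subs nr fuel cs h2 h3 cks39_3 i39_2 sub39_3
  have i39_4 := inv_seg h1 rels subs nr fuel cs h2 h3 cks39_4 i39_3 sub39_4
  have i40 := inv_seg h1 rels subs nr fuel cs h2 h3 cks39_5 i39_4 sub39_5
  have i40_0 := inv_seg h1 rels subs nr fuel cs h2 h3 cks40_0 i40 sub40_0
  have i40_1 := inv_seg h1 rels subs nr fuel cs h2 h3 cks40_1 i40_0 sub40_1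
  have i40_2 := inv_seg h1 rels subs nr fuel cs h2 h3 cks40_2 i40_1 sub40_2
  have i40_3 := inv_seg h1 rels subs nr fuel cs h2 h3 cks40_3 i40_2 sub40_3
  have i40_4 := inv_seg h1 rels subs nr fuel cs h2 h3 cks40_4 i40_3 sub40_4
  have i41 := inv_seg h1 rels subs nr fuel cs h2 h3 cks40_5 i40_4 sub40_5
  have i41_0 := inv_seg h1 rels subs nr fuel cs h2 h3 cks41_0 i41 sub41_0
  have i41_1 := inv_seg h1 rels subs nr fuel cs h2 h3 cks41_1 i41_0 sub41_1
  have i41_2 := inv_seg h1 rels subs nr fuel cs h2 h3 cks41_2 i41_1 sub41_2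
  have i41_3 := inv_seg h1 rels subs nr fuel cs h2 h3 cks41_3 i41_2 sub41_3
  have i41_4 := inv_seg h1 rels subs nr fuel cs h2 h3 cks41_4 i41_3 sub41_4
  have i42 := inv_seg h1 rels subs nr fuel cs h2 h3 cks41_5 i41_4 sub41_5
  have i42_0 := inv_seg h1 rels subs nr fuel cs h2 h3 cks42_0 i42 sub42_0
  have i42_1 := inv_seg h1 rels subs nr fuel cs h2 h3 cks42_1 i42_0 sub42_1
  have i42_2 := inv_seg h1 rels subs nr fuel cs h2 h3 cks42_2 i42_1 sub42_2
  have i42_3 := inv_seg h1 rels subs nr fuel cs h2 h3 cks42_3 i42_2 sub42_3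
  have i42_4 := inv_seg h1 rels subs nr fuel cs h2 h3 cks42_4 i42_3 sub42_4
  have i43 := inv_seg h1 rels subs nr fuel cs h2 h3 cks42_5 i42_4 sub42_5
  have i43_0 := inv_seg h1 rels subs nr fuel cs h2 h3 cks43_0 i43 sub43_0
  have i43_1 := inv_seg h1 rels subs nr fuel cs h2 h3 cks43_1 i43_0 sub43_1
  have i43_2 := inv_seg h1 rels subs nr fuel cs h2 h3 cks43_2 i43_1 sub43_2
  have i43_3 := inv_seg h1 rels subs nr fuel cs h2 h3 cks43_3 i43_2 sub43_3
  have i43_4 := inv_seg h1 rels subs nr fuel cs h2 h3 cks43_4 i43_3 sub43_4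
  have i44 := inv_seg h1 rels subs nr fuel cs h2 h3 cks43_5 i43_4 sub43_5
  have i44_0 := inv_seg h1 rels subs nr fuel cs h2 h3 cks44_0 i44 sub44_0
  have i44_1 := inv_seg h1 rels subs nr fuel cs h2 h3 cks44_1 i44_0 sub44_1
  have i44_2 := inv_seg h1 rels subs nr fuel cs h2 h3 cks44_2 i44_1 sub44_2
  have i44_3 := inv_seg h1 rels subs nr fuel cs h2 h3 cks44_3 i44_2 sub44_3
  have i44_4 := inv_seg h1 rels subs nr fuel cs h2 h3 cks44_4 i44_3 sub44_4
  have i45 := inv_seg h1 rels subs nr fuel cs h2 h3 cks44_5 i44_4 sub44_5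
  have i45_0 := inv_seg h1 rels subs nr fuel cs h2 h3 cks45_0 i45 sub45_0
  have i45_1 := inv_seg h1 rels subs nr fuel cs h2 h3 cks45_1 i45_0 sub45_1
  have i45_2 := inv_seg h1 rels subs nr fuel cs h2 h3 cks45_2 i45_1 sub45_2
  have i45_3 := inv_seg h1 rels subs nr fuel cs h2 h3 cks45_3 i45_2 sub45_3
  have i45_4 := inv_seg h1 rels subs nr fuel cs h2 h3 cks45_4 i45_3 sub45_4
  have i46 := inv_seg h1 rels subs nr fuel cs h2 h3 cks45_5 i45_4 sub45_5
  have i46_0 := inv_seg h1 rels subs nr fuel cs h2 h3 cks46_0 i46 sub46_0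
  have i46_1 := inv_seg h1 rels subs nr fuel cs h2 h3 cks46_1 i46_0 sub46_1
  have i46_2 := inv_seg h1 rels subs nr fuel cs h2 h3 cks46_2 i46_1 sub46_2
  have i46_3 := inv_seg h1 rels subs nr fuel cs h2 h3 cks46_3 i46_2 sub46_3
  have i46_4 := inv_seg h1 rels subs nr fuel cs h2 h3 cks46_4 i46_3 sub46_4
  have i47 := inv_seg h1 rels subs nr fuel cs h2 h3 cks46_5 i46_4 sub46_5
  have i47_0 := inv_seg h1 rels subs nr fuel cs h2 h3 cks47_0 i47 sub47_0
  have i47_1 := inv_seg h1 rels subs nr fuel cs h2 h3 cks47_1 i47_0 sub47_1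
  have i47_2 := inv_seg h1 rels subs nr fuel cs h2 h3 cks47_2 i47_1 sub47_2
  have i47_3 := inv_seg h1 rels subs nr fuel cs h2 h3 cks47_3 i47_2 sub47_3
  have i47_4 := inv_seg h1 rels subs nr fuel cs h2 h3 cks47_4 i47_3 sub47_4
  have i48 := inv_seg h1 rels subs nr fuel cs h2 h3 cks47_5 i47_4 sub47_5
  have i48_0 := inv_seg h1 rels subs nr fuel cs h2 h3 cks48_0 i48 sub48_0
  have i48_1 := inv_seg h1 rels subs nr fuel cs h2 h3 cks48_1 i48_0 sub48_1
  have i48_2 := inv_seg h1 rels subs nr fuel cs h2 h3 cks48_2 i48_1 sub48_2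
  have i48_3 := inv_seg h1 rels subs nr fuel cs h2 h3 cks48_3 i48_2 sub48_3
  have i48_4 := inv_seg h1 rels subs nr fuel cs h2 h3 cks48_4 i48_3 sub48_4
  have i49 := inv_seg h1 rels subs nr fuel cs h2 h3 cks48_5 i48_4 sub48_5
  have i50 := inv_seg h1 rels subs nr fuel cs h2 h3 chunks49 i49 seg49
  exact i50

theorem hinvol : checkInvol pt 31671 10 = true := by
  unfold checkInvol
  apply allBelow_intro
  intro x hx
  interval_cases x
  exacts [allBelow_range (a := 15836) (b := 15835) hinvx0a hinvx0b, allBelow_range (a := 15836) (b := 15835) hinvx1a hinvx1b, allBelow_range (a := 15836) (b := 15835) hinvx2a hinvx2b, allBelow_range (a := 15836) (b := 15835) hinvx3a hinvx3b, allBelow_range (a := 15836) (b := 15835) hinvx4a hinvx4b, allBelow_range (a := 15836) (b := 15835) hinvx5a hinvx5b, allBelow_range (a := 15836) (b := 15835) hinvx6a hinvx6b, allBelow_range (a := 15836) (b := 15835) hinvx7a hinvx7b, allBelow_range (a := 15836) (b := 15835) hinvx8a hinvx8b, allBelow_range (a := 15836) (b := 15835) hinvx9a hinvx9b]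

set_option maxRecDepth 100000 in
theorem hletters : rels.all (fun w => w.all (fun x => Nat.blt x 10)) = true := by decide +kernel

theorem hwords : rels.all (checkWord pt 31671 10) = true := by
  have r0 := words_zero pt rels
  have r1 := words_step (a := 0) (b := 83) r0 hwr0
  have r2 := words_step (a := 83) (b := 83) r1 hwr1
  have r3 := words_step (a := 166) (b := 83) r2 hwr2
  have r4 := words_step (a := 249) (b := 83) r3 hwr3
  have r5 := words_step (a := 332) (b := 83) r4 hwr4
  have r6 := words_step (a := 415) (b := 83) r5 hwr5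
  have r7 := words_step (a := 498) (b := 83) r6 hwr6
  have r8 := words_step (a := 581) (b := 83) r7 hwr7
  have r9 := words_step (a := 664) (b := 83) r8 hwr8
  have r10 := words_step (a := 747) (b := 83) r9 hwr9
  have r11 := words_step (a := 830) (b := 83) r10 hwr10
  have r12 := words_step (a := 913) (b := 83) r11 hwr11
  have r13 := words_step (a := 996) (b := 83) r12 hwr12
  have r14 := words_step (a := 1079) (b := 83) r13 hwr13
  have r15 := words_step (a := 1162) (b := 83) r14 hwr14
  have r16 := words_step (a := 1245) (b := 83) r15 hwr15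
  have r17 := words_step (a := 1328) (b := 83) r16 hwr16
  have r18 := words_step (a := 1411) (b := 83) r17 hwr17
  have r19 := words_step (a := 1494) (b := 83) r18 hwr18
  have r20 := words_step (a := 1577) (b := 83) r19 hwr19
  have r21 := words_step (a := 1660) (b := 83) r20 hwr20
  have r22 := words_step (a := 1743) (b := 83) r21 hwr21
  have r23 := words_step (a := 1826) (b := 83) r22 hwr22
  have r24 := words_step (a := 1909) (b := 83) r23 hwr23
  have r25 := words_step (a := 1992) (b := 83) r24 hwr24
  have r26 := words_step (a := 2075) (b := 83) r25 hwr25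
  have r27 := words_step (a := 2158) (b := 83) r26 hwr26
  have r28 := words_step (a := 2241) (b := 83) r27 hwr27
  have r29 := words_step (a := 2324) (b := 83) r28 hwr28
  have r30 := words_step (a := 2407) (b := 83) r29 hwr29
  have r31 := words_step (a := 2490) (b := 83) r30 hwr30
  have r32 := words_step (a := 2573) (b := 83) r31 hwr31
  have r33 := words_step (a := 2656) (b := 83) r32 hwr32
  have r34 := words_step (a := 2739) (b := 83) r33 hwr33
  have r35 := words_step (a := 2822) (b := 83) r34 hwr34
  have r36 := words_step (a := 2905) (b := 83) r35 hwr35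
  have r37 := words_step (a := 2988) (b := 83) r36 hwr36
  have r38 := words_step (a := 3071) (b := 83) r37 hwr37
  have r39 := words_step (a := 3154) (b := 83) r38 hwr38
  have r40 := words_step (a := 3237) (b := 83) r39 hwr39
  have r41 := words_step (a := 3320) (b := 83) r40 hwr40
  have r42 := words_step (a := 3403) (b := 83) r41 hwr41
  have r43 := words_step (a := 3486) (b := 83) r42 hwr42
  have r44 := words_step (a := 3569) (b := 83) r43 hwr43
  have r45 := words_step (a := 3652) (b := 83) r44 hwr44
  have r46 := words_step (a := 3735) (b := 83) r45 hwr45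
  have r47 := words_step (a := 3818) (b := 83) r46 hwr46
  have r48 := words_step (a := 3901) (b := 83) r47 hwr47
  have r49 := words_step (a := 3984) (b := 83) r48 hwr48
  have r50 := words_step (a := 4067) (b := 83) r49 hwr49
  have r51 := words_step (a := 4150) (b := 83) r50 hwr50
  have r52 := words_step (a := 4233) (b := 83) r51 hwr51
  have r53 := words_step (a := 4316) (b := 83) r52 hwr52
  have r54 := words_step (a := 4399) (b := 83) r53 hwr53
  have r55 := words_step (a := 4482) (b := 83) r54 hwr54
  have r56 := words_step (a := 4565) (b := 83) r55 hwr55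
  have r57 := words_step (a := 4648) (b := 83) r56 hwr56
  have r58 := words_step (a := 4731) (b := 83) r57 hwr57
  have r59 := words_step (a := 4814) (b := 83) r58 hwr58
  have r60 := words_step (a := 4897) (b := 83) r59 hwr59
  have r61 := words_step (a := 4980) (b := 83) r60 hwr60
  have r62 := words_step (a := 5063) (b := 83) r61 hwr61
  have r63 := words_step (a := 5146) (b := 83) r62 hwr62
  have r64 := words_step (a := 5229) (b := 83) r63 hwr63
  have r65 := words_step (a := 5312) (b := 83) r64 hwr64
  have r66 := words_step (a := 5395) (b := 83) r65 hwr65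
  have r67 := words_step (a := 5478) (b := 83) r66 hwr66
  have r68 := words_step (a := 5561) (b := 83) r67 hwr67
  have r69 := words_step (a := 5644) (b := 83) r68 hwr68
  have r70 := words_step (a := 5727) (b := 83) r69 hwr69
  have r71 := words_step (a := 5810) (b := 83) r70 hwr70
  have r72 := words_step (a := 5893) (b := 83) r71 hwr71
  have r73 := words_step (a := 5976) (b := 83) r72 hwr72
  have r74 := words_step (a := 6059) (b := 83) r73 hwr73
  have r75 := words_step (a := 6142) (b := 83) r74 hwr74
  have r76 := words_step (a := 6225) (b := 83) r75 hwr75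
  have r77 := words_step (a := 6308) (b := 83) r76 hwr76
  have r78 := words_step (a := 6391) (b := 83) r77 hwr77
  have r79 := words_step (a := 6474) (b := 83) r78 hwr78
  have r80 := words_step (a := 6557) (b := 83) r79 hwr79
  have r81 := words_step (a := 6640) (b := 83) r80 hwr80
  have r82 := words_step (a := 6723) (b := 83) r81 hwr81
  have r83 := words_step (a := 6806) (b := 83) r82 hwr82
  have r84 := words_step (a := 6889) (b := 83) r83 hwr83
  have r85 := words_step (a := 6972) (b := 83) r84 hwr84
  have r86 := words_step (a := 7055) (b := 83) r85 hwr85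
  have r87 := words_step (a := 7138) (b := 83) r86 hwr86
  have r88 := words_step (a := 7221) (b := 83) r87 hwr87
  have r89 := words_step (a := 7304) (b := 83) r88 hwr88
  have r90 := words_step (a := 7387) (b := 83) r89 hwr89
  have r91 := words_step (a := 7470) (b := 83) r90 hwr90
  have r92 := words_step (a := 7553) (b := 83) r91 hwr91
  have r93 := words_step (a := 7636) (b := 83) r92 hwr92
  have r94 := words_step (a := 7719) (b := 83) r93 hwr93
  have r95 := words_step (a := 7802) (b := 83) r94 hwr94
  have r96 := words_step (a := 7885) (b := 83) r95 hwr95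
  have r97 := words_step (a := 7968) (b := 83) r96 hwr96
  have r98 := words_step (a := 8051) (b := 83) r97 hwr97
  have r99 := words_step (a := 8134) (b := 83) r98 hwr98
  have r100 := words_step (a := 8217) (b := 83) r99 hwr99
  have r101 := words_step (a := 8300) (b := 83) r100 hwr100
  have r102 := words_step (a := 8383) (b := 83) r101 hwr101
  have r103 := words_step (a := 8466) (b := 83) r102 hwr102
  have r104 := words_step (a := 8549) (b := 83) r103 hwr103
  have r105 := words_step (a := 8632) (b := 83) r104 hwr104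
  have r106 := words_step (a := 8715) (b := 83) r105 hwr105
  have r107 := words_step (a := 8798) (b := 83) r106 hwr106
  have r108 := words_step (a := 8881) (b := 83) r107 hwr107
  have r109 := words_step (a := 8964) (b := 83) r108 hwr108
  have r110 := words_step (a := 9047) (b := 83) r109 hwr109
  have r111 := words_step (a := 9130) (b := 83) r110 hwr110
  have r112 := words_step (a := 9213) (b := 83) r111 hwr111
  have r113 := words_step (a := 9296) (b := 83) r112 hwr112
  have r114 := words_step (a := 9379) (b := 83) r113 hwr113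
  have r115 := words_step (a := 9462) (b := 83) r114 hwr114
  have r116 := words_step (a := 9545) (b := 83) r115 hwr115
  have r117 := words_step (a := 9628) (b := 83) r116 hwr116
  have r118 := words_step (a := 9711) (b := 83) r117 hwr117
  have r119 := words_step (a := 9794) (b := 83) r118 hwr118
  have r120 := words_step (a := 9877) (b := 83) r119 hwr119
  have r121 := words_step (a := 9960) (b := 83) r120 hwr120
  have r122 := words_step (a := 10043) (b := 83) r121 hwr121
  have r123 := words_step (a := 10126) (b := 83) r122 hwr122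
  have r124 := words_step (a := 10209) (b := 83) r123 hwr123
  have r125 := words_step (a := 10292) (b := 83) r124 hwr124
  have r126 := words_step (a := 10375) (b := 83) r125 hwr125
  have r127 := words_step (a := 10458) (b := 83) r126 hwr126
  have r128 := words_step (a := 10541) (b := 83) r127 hwr127
  have r129 := words_step (a := 10624) (b := 83) r128 hwr128
  have r130 := words_step (a := 10707) (b := 83) r129 hwr129
  have r131 := words_step (a := 10790) (b := 83) r130 hwr130
  have r132 := words_step (a := 10873) (b := 83) r131 hwr131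
  have r133 := words_step (a := 10956) (b := 83) r132 hwr132
  have r134 := words_step (a := 11039) (b := 83) r133 hwr133
  have r135 := words_step (a := 11122) (b := 83) r134 hwr134
  have r136 := words_step (a := 11205) (b := 83) r135 hwr135
  have r137 := words_step (a := 11288) (b := 83) r136 hwr136
  have r138 := words_step (a := 11371) (b := 83) r137 hwr137
  have r139 := words_step (a := 11454) (b := 83) r138 hwr138
  have r140 := words_step (a := 11537) (b := 83) r139 hwr139
  have r141 := words_step (a := 11620) (b := 83) r140 hwr140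
  have r142 := words_step (a := 11703) (b := 83) r141 hwr141
  have r143 := words_step (a := 11786) (b := 83) r142 hwr142
  have r144 := words_step (a := 11869) (b := 83) r143 hwr143
  have r145 := words_step (a := 11952) (b := 83) r144 hwr144
  have r146 := words_step (a := 12035) (b := 83) r145 hwr145
  have r147 := words_step (a := 12118) (b := 83) r146 hwr146
  have r148 := words_step (a := 12201) (b := 83) r147 hwr147
  have r149 := words_step (a := 12284) (b := 83) r148 hwr148
  have r150 := words_step (a := 12367) (b := 83) r149 hwr149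
  have r151 := words_step (a := 12450) (b := 83) r150 hwr150
  have r152 := words_step (a := 12533) (b := 83) r151 hwr151
  have r153 := words_step (a := 12616) (b := 83) r152 hwr152
  have r154 := words_step (a := 12699) (b := 83) r153 hwr153
  have r155 := words_step (a := 12782) (b := 83) r154 hwr154
  have r156 := words_step (a := 12865) (b := 83) r155 hwr155
  have r157 := words_step (a := 12948) (b := 83) r156 hwr156
  have r158 := words_step (a := 13031) (b := 83) r157 hwr157
  have r159 := words_step (a := 13114) (b := 83) r158 hwr158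
  have r160 := words_step (a := 13197) (b := 83) r159 hwr159
  have r161 := words_step (a := 13280) (b := 83) r160 hwr160
  have r162 := words_step (a := 13363) (b := 83) r161 hwr161
  have r163 := words_step (a := 13446) (b := 83) r162 hwr162
  have r164 := words_step (a := 13529) (b := 83) r163 hwr163
  have r165 := words_step (a := 13612) (b := 83) r164 hwr164
  have r166 := words_step (a := 13695) (b := 83) r165 hwr165
  have r167 := words_step (a := 13778) (b := 83) r166 hwr166
  have r168 := words_step (a := 13861) (b := 83) r167 hwr167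
  have r169 := words_step (a := 13944) (b := 83) r168 hwr168
  have r170 := words_step (a := 14027) (b := 83) r169 hwr169
  have r171 := words_step (a := 14110) (b := 83) r170 hwr170
  have r172 := words_step (a := 14193) (b := 83) r171 hwr171
  have r173 := words_step (a := 14276) (b := 83) r172 hwr172
  have r174 := words_step (a := 14359) (b := 83) r173 hwr173
  have r175 := words_step (a := 14442) (b := 83) r174 hwr174
  have r176 := words_step (a := 14525) (b := 83) r175 hwr175
  have r177 := words_step (a := 14608) (b := 83) r176 hwr176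
  have r178 := words_step (a := 14691) (b := 83) r177 hwr177
  have r179 := words_step (a := 14774) (b := 83) r178 hwr178
  have r180 := words_step (a := 14857) (b := 83) r179 hwr179
  have r181 := words_step (a := 14940) (b := 83) r180 hwr180
  have r182 := words_step (a := 15023) (b := 83) r181 hwr181
  have r183 := words_step (a := 15106) (b := 83) r182 hwr182
  have r184 := words_step (a := 15189) (b := 83) r183 hwr183
  have r185 := words_step (a := 15272) (b := 83) r184 hwr184
  have r186 := words_step (a := 15355) (b := 83) r185 hwr185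
  have r187 := words_step (a := 15438) (b := 83) r186 hwr186
  have r188 := words_step (a := 15521) (b := 83) r187 hwr187
  have r189 := words_step (a := 15604) (b := 83) r188 hwr188
  have r190 := words_step (a := 15687) (b := 83) r189 hwr189
  have r191 := words_step (a := 15770) (b := 83) r190 hwr190
  have r192 := words_step (a := 15853) (b := 83) r191 hwr191
  have r193 := words_step (a := 15936) (b := 83) r192 hwr192
  have r194 := words_step (a := 16019) (b := 83) r193 hwr193
  have r195 := words_step (a := 16102) (b := 83) r194 hwr194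
  have r196 := words_step (a := 16185) (b := 83) r195 hwr195
  have r197 := words_step (a := 16268) (b := 83) r196 hwr196
  have r198 := words_step (a := 16351) (b := 83) r197 hwr197
  have r199 := words_step (a := 16434) (b := 83) r198 hwr198
  have r200 := words_step (a := 16517) (b := 83) r199 hwr199
  have r201 := words_step (a := 16600) (b := 83) r200 hwr200
  have r202 := words_step (a := 16683) (b := 83) r201 hwr201
  have r203 := words_step (a := 16766) (b := 83) r202 hwr202
  have r204 := words_step (a := 16849) (b := 83) r203 hwr203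
  have r205 := words_step (a := 16932) (b := 83) r204 hwr204
  have r206 := words_step (a := 17015) (b := 83) r205 hwr205
  have r207 := words_step (a := 17098) (b := 83) r206 hwr206
  have r208 := words_step (a := 17181) (b := 83) r207 hwr207
  have r209 := words_step (a := 17264) (b := 83) r208 hwr208
  have r210 := words_step (a := 17347) (b := 83) r209 hwr209
  have r211 := words_step (a := 17430) (b := 83) r210 hwr210
  have r212 := words_step (a := 17513) (b := 83) r211 hwr211
  have r213 := words_step (a := 17596) (b := 83) r212 hwr212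
  have r214 := words_step (a := 17679) (b := 83) r213 hwr213
  have r215 := words_step (a := 17762) (b := 83) r214 hwr214
  have r216 := words_step (a := 17845) (b := 83) r215 hwr215
  have r217 := words_step (a := 17928) (b := 83) r216 hwr216
  have r218 := words_step (a := 18011) (b := 83) r217 hwr217
  have r219 := words_step (a := 18094) (b := 83) r218 hwr218
  have r220 := words_step (a := 18177) (b := 83) r219 hwr219
  have r221 := words_step (a := 18260) (b := 83) r220 hwr220
  have r222 := words_step (a := 18343) (b := 83) r221 hwr221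
  have r223 := words_step (a := 18426) (b := 83) r222 hwr222
  have r224 := words_step (a := 18509) (b := 83) r223 hwr223
  have r225 := words_step (a := 18592) (b := 83) r224 hwr224
  have r226 := words_step (a := 18675) (b := 83) r225 hwr225
  have r227 := words_step (a := 18758) (b := 83) r226 hwr226
  have r228 := words_step (a := 18841) (b := 83) r227 hwr227
  have r229 := words_step (a := 18924) (b := 83) r228 hwr228
  have r230 := words_step (a := 19007) (b := 83) r229 hwr229
  have r231 := words_step (a := 19090) (b := 83) r230 hwr230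
  have r232 := words_step (a := 19173) (b := 83) r231 hwr231
  have r233 := words_step (a := 19256) (b := 83) r232 hwr232
  have r234 := words_step (a := 19339) (b := 83) r233 hwr233
  have r235 := words_step (a := 19422) (b := 83) r234 hwr234
  have r236 := words_step (a := 19505) (b := 83) r235 hwr235
  have r237 := words_step (a := 19588) (b := 83) r236 hwr236
  have r238 := words_step (a := 19671) (b := 83) r237 hwr237
  have r239 := words_step (a := 19754) (b := 83) r238 hwr238
  have r240 := words_step (a := 19837) (b := 83) r239 hwr239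
  have r241 := words_step (a := 19920) (b := 83) r240 hwr240
  have r242 := words_step (a := 20003) (b := 83) r241 hwr241
  have r243 := words_step (a := 20086) (b := 83) r242 hwr242
  have r244 := words_step (a := 20169) (b := 83) r243 hwr243
  have r245 := words_step (a := 20252) (b := 83) r244 hwr244
  have r246 := words_step (a := 20335) (b := 83) r245 hwr245
  have r247 := words_step (a := 20418) (b := 83) r246 hwr246
  have r248 := words_step (a := 20501) (b := 83) r247 hwr247
  have r249 := words_step (a := 20584) (b := 83) r248 hwr248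
  have r250 := words_step (a := 20667) (b := 83) r249 hwr249
  have r251 := words_step (a := 20750) (b := 83) r250 hwr250
  have r252 := words_step (a := 20833) (b := 83) r251 hwr251
  have r253 := words_step (a := 20916) (b := 83) r252 hwr252
  have r254 := words_step (a := 20999) (b := 83) r253 hwr253
  have r255 := words_step (a := 21082) (b := 83) r254 hwr254
  have r256 := words_step (a := 21165) (b := 83) r255 hwr255
  have r257 := words_step (a := 21248) (b := 83) r256 hwr256
  have r258 := words_step (a := 21331) (b := 83) r257 hwr257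
  have r259 := words_step (a := 21414) (b := 83) r258 hwr258
  have r260 := words_step (a := 21497) (b := 83) r259 hwr259
  have r261 := words_step (a := 21580) (b := 83) r260 hwr260
  have r262 := words_step (a := 21663) (b := 83) r261 hwr261
  have r263 := words_step (a := 21746) (b := 83) r262 hwr262
  have r264 := words_step (a := 21829) (b := 83) r263 hwr263
  have r265 := words_step (a := 21912) (b := 83) r264 hwr264
  have r266 := words_step (a := 21995) (b := 83) r265 hwr265
  have r267 := words_step (a := 22078) (b := 83) r266 hwr266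
  have r268 := words_step (a := 22161) (b := 83) r267 hwr267
  have r269 := words_step (a := 22244) (b := 83) r268 hwr268
  have r270 := words_step (a := 22327) (b := 83) r269 hwr269
  have r271 := words_step (a := 22410) (b := 83) r270 hwr270
  have r272 := words_step (a := 22493) (b := 83) r271 hwr271
  have r273 := words_step (a := 22576) (b := 83) r272 hwr272
  have r274 := words_step (a := 22659) (b := 83) r273 hwr273
  have r275 := words_step (a := 22742) (b := 83) r274 hwr274
  have r276 := words_step (a := 22825) (b := 83) r275 hwr275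
  have r277 := words_step (a := 22908) (b := 83) r276 hwr276
  have r278 := words_step (a := 22991) (b := 83) r277 hwr277
  have r279 := words_step (a := 23074) (b := 83) r278 hwr278
  have r280 := words_step (a := 23157) (b := 83) r279 hwr279
  have r281 := words_step (a := 23240) (b := 83) r280 hwr280
  have r282 := words_step (a := 23323) (b := 83) r281 hwr281
  have r283 := words_step (a := 23406) (b := 83) r282 hwr282
  have r284 := words_step (a := 23489) (b := 83) r283 hwr283
  have r285 := words_step (a := 23572) (b := 83) r284 hwr284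
  have r286 := words_step (a := 23655) (b := 83) r285 hwr285
  have r287 := words_step (a := 23738) (b := 83) r286 hwr286
  have r288 := words_step (a := 23821) (b := 83) r287 hwr287
  have r289 := words_step (a := 23904) (b := 83) r288 hwr288
  have r290 := words_step (a := 23987) (b := 83) r289 hwr289
  have r291 := words_step (a := 24070) (b := 83) r290 hwr290
  have r292 := words_step (a := 24153) (b := 83) r291 hwr291
  have r293 := words_step (a := 24236) (b := 83) r292 hwr292
  have r294 := words_step (a := 24319) (b := 83) r293 hwr293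
  have r295 := words_step (a := 24402) (b := 83) r294 hwr294
  have r296 := words_step (a := 24485) (b := 83) r295 hwr295
  have r297 := words_step (a := 24568) (b := 83) r296 hwr296
  have r298 := words_step (a := 24651) (b := 83) r297 hwr297
  have r299 := words_step (a := 24734) (b := 83) r298 hwr298
  have r300 := words_step (a := 24817) (b := 83) r299 hwr299
  have r301 := words_step (a := 24900) (b := 83) r300 hwr300
  have r302 := words_step (a := 24983) (b := 83) r301 hwr301
  have r303 := words_step (a := 25066) (b := 83) r302 hwr302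
  have r304 := words_step (a := 25149) (b := 83) r303 hwr303
  have r305 := words_step (a := 25232) (b := 83) r304 hwr304
  have r306 := words_step (a := 25315) (b := 83) r305 hwr305
  have r307 := words_step (a := 25398) (b := 83) r306 hwr306
  have r308 := words_step (a := 25481) (b := 83) r307 hwr307
  have r309 := words_step (a := 25564) (b := 83) r308 hwr308
  have r310 := words_step (a := 25647) (b := 83) r309 hwr309
  have r311 := words_step (a := 25730) (b := 83) r310 hwr310
  have r312 := words_step (a := 25813) (b := 83) r311 hwr311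
  have r313 := words_step (a := 25896) (b := 83) r312 hwr312
  have r314 := words_step (a := 25979) (b := 83) r313 hwr313
  have r315 := words_step (a := 26062) (b := 83) r314 hwr314
  have r316 := words_step (a := 26145) (b := 83) r315 hwr315
  have r317 := words_step (a := 26228) (b := 83) r316 hwr316
  have r318 := words_step (a := 26311) (b := 83) r317 hwr317
  have r319 := words_step (a := 26394) (b := 83) r318 hwr318
  have r320 := words_step (a := 26477) (b := 83) r319 hwr319
  have r321 := words_step (a := 26560) (b := 83) r320 hwr320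
  have r322 := words_step (a := 26643) (b := 83) r321 hwr321
  have r323 := words_step (a := 26726) (b := 83) r322 hwr322
  have r324 := words_step (a := 26809) (b := 83) r323 hwr323
  have r325 := words_step (a := 26892) (b := 83) r324 hwr324
  have r326 := words_step (a := 26975) (b := 83) r325 hwr325
  have r327 := words_step (a := 27058) (b := 83) r326 hwr326
  have r328 := words_step (a := 27141) (b := 83) r327 hwr327
  have r329 := words_step (a := 27224) (b := 83) r328 hwr328
  have r330 := words_step (a := 27307) (b := 83) r329 hwr329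
  have r331 := words_step (a := 27390) (b := 83) r330 hwr330
  have r332 := words_step (a := 27473) (b := 83) r331 hwr331
  have r333 := words_step (a := 27556) (b := 83) r332 hwr332
  have r334 := words_step (a := 27639) (b := 83) r333 hwr333
  have r335 := words_step (a := 27722) (b := 83) r334 hwr334
  have r336 := words_step (a := 27805) (b := 83) r335 hwr335
  have r337 := words_step (a := 27888) (b := 83) r336 hwr336
  have r338 := words_step (a := 27971) (b := 83) r337 hwr337
  have r339 := words_step (a := 28054) (b := 83) r338 hwr338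
  have r340 := words_step (a := 28137) (b := 83) r339 hwr339
  have r341 := words_step (a := 28220) (b := 83) r340 hwr340
  have r342 := words_step (a := 28303) (b := 83) r341 hwr341
  have r343 := words_step (a := 28386) (b := 83) r342 hwr342
  have r344 := words_step (a := 28469) (b := 83) r343 hwr343
  have r345 := words_step (a := 28552) (b := 83) r344 hwr344
  have r346 := words_step (a := 28635) (b := 83) r345 hwr345
  have r347 := words_step (a := 28718) (b := 83) r346 hwr346
  have r348 := words_step (a := 28801) (b := 83) r347 hwr347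
  have r349 := words_step (a := 28884) (b := 83) r348 hwr348
  have r350 := words_step (a := 28967) (b := 83) r349 hwr349
  have r351 := words_step (a := 29050) (b := 83) r350 hwr350
  have r352 := words_step (a := 29133) (b := 83) r351 hwr351
  have r353 := words_step (a := 29216) (b := 83) r352 hwr352
  have r354 := words_step (a := 29299) (b := 83) r353 hwr353
  have r355 := words_step (a := 29382) (b := 83) r354 hwr354
  have r356 := words_step (a := 29465) (b := 83) r355 hwr355
  have r357 := words_step (a := 29548) (b := 83) r356 hwr356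
  have r358 := words_step (a := 29631) (b := 83) r357 hwr357
  have r359 := words_step (a := 29714) (b := 83) r358 hwr358
  have r360 := words_step (a := 29797) (b := 83) r359 hwr359
  have r361 := words_step (a := 29880) (b := 83) r360 hwr360
  have r362 := words_step (a := 29963) (b := 83) r361 hwr361
  have r363 := words_step (a := 30046) (b := 83) r362 hwr362
  have r364 := words_step (a := 30129) (b := 83) r363 hwr363
  have r365 := words_step (a := 30212) (b := 83) r364 hwr364
  have r366 := words_step (a := 30295) (b := 83) r365 hwr365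
  have r367 := words_step (a := 30378) (b := 83) r366 hwr366
  have r368 := words_step (a := 30461) (b := 83) r367 hwr367
  have r369 := words_step (a := 30544) (b := 83) r368 hwr368
  have r370 := words_step (a := 30627) (b := 83) r369 hwr369
  have r371 := words_step (a := 30710) (b := 83) r370 hwr370
  have r372 := words_step (a := 30793) (b := 83) r371 hwr371
  have r373 := words_step (a := 30876) (b := 83) r372 hwr372
  have r374 := words_step (a := 30959) (b := 83) r373 hwr373
  have r375 := words_step (a := 31042) (b := 83) r374 hwr374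
  have r376 := words_step (a := 31125) (b := 83) r375 hwr375
  have r377 := words_step (a := 31208) (b := 83) r376 hwr376
  have r378 := words_step (a := 31291) (b := 83) r377 hwr377
  have r379 := words_step (a := 31374) (b := 83) r378 hwr378
  have r380 := words_step (a := 31457) (b := 83) r379 hwr379
  have r381 := words_step (a := 31540) (b := 83) r380 hwr380
  have r382 := words_step (a := 31623) (b := 48) r381 hwr381
  exact words_final hletters r382

set_option maxRecDepth 1000000 in
theorem htrans : checkTrans pt bp bx 31671 10 = true := by decide +kernel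

set_option maxRecDepth 1000000 in
theorem hsub0 : subs.all (fun w => w.all (fun x => Nat.blt x 10) && Nat.beq (tabW pt w 0) 0) = true := by
  decide +kernel

theorem htable : checkTable st50 fuel canon pt 31671 10 = true := by
  have t0 : allBelow (fun i => allBelow (fun x => checkEntry st50 fuel canon pt i x) 10) 0 = true := rfl
  have t1 := allBelow_range (a := 0) (b := 310) t0 htr0
  have t2 := allBelow_range (a := 310) (b := 310) t1 htr1
  have t3 := allBelow_range (a := 620) (b := 310) t2 htr2
  have t4 := allBelow_range (a := 930) (b := 310) t3 htr3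
  have t5 := allBelow_range (a := 1240) (b := 310) t4 htr4
  have t6 := allBelow_range (a := 1550) (b := 310) t5 htr5
  have t7 := allBelow_range (a := 1860) (b := 310) t6 htr6
  have t8 := allBelow_range (a := 2170) (b := 310) t7 htr7
  have t9 := allBelow_range (a := 2480) (b := 310) t8 htr8
  have t10 := allBelow_range (a := 2790) (b := 310) t9 htr9
  have t11 := allBelow_range (a := 3100) (b := 310) t10 htr10
  have t12 := allBelow_range (a := 3410) (b := 310) t11 htr11
  have t13 := allBelow_range (a := 3720) (b := 310) t12 htr12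
  have t14 := allBelow_range (a := 4030) (b := 310) t13 htr13
  have t15 := allBelow_range (a := 4340) (b := 310) t14 htr14
  have t16 := allBelow_range (a := 4650) (b := 310) t15 htr15
  have t17 := allBelow_range (a := 4960) (b := 310) t16 htr16
  have t18 := allBelow_range (a := 5270) (b := 310) t17 htr17
  have t19 := allBelow_range (a := 5580) (b := 310) t18 htr18
  have t20 := allBelow_range (a := 5890) (b := 310) t19 htr19
  have t21 := allBelow_range (a := 6200) (b := 310) t20 htr20
  have t22 := allBelow_range (a := 6510) (b := 310) t21 htr21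
  have t23 := allBelow_range (a := 6820) (b := 310) t22 htr22
  have t24 := allBelow_range (a := 7130) (b := 310) t23 htr23
  have t25 := allBelow_range (a := 7440) (b := 310) t24 htr24
  have t26 := allBelow_range (a := 7750) (b := 310) t25 htr25
  have t27 := allBelow_range (a := 8060) (b := 310) t26 htr26
  have t28 := allBelow_range (a := 8370) (b := 310) t27 htr27
  have t29 := allBelow_range (a := 8680) (b := 310) t28 htr28
  have t30 := allBelow_range (a := 8990) (b := 310) t29 htr29
  have t31 := allBelow_range (a := 9300) (b := 310) t30 htr30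
  have t32 := allBelow_range (a := 9610) (b := 310) t31 htr31
  have t33 := allBelow_range (a := 9920) (b := 310) t32 htr32
  have t34 := allBelow_range (a := 10230) (b := 310) t33 htr33
  have t35 := allBelow_range (a := 10540) (b := 310) t34 htr34
  have t36 := allBelow_range (a := 10850) (b := 310) t35 htr35
  have t37 := allBelow_range (a := 11160) (b := 310) t36 htr36
  have t38 := allBelow_range (a := 11470) (b := 310) t37 htr37
  have t39 := allBelow_range (a := 11780) (b := 310) t38 htr38
  have t40 := allBelow_range (a := 12090) (b := 310) t39 htr39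
  have t41 := allBelow_range (a := 12400) (b := 310) t40 htr40
  have t42 := allBelow_range (a := 12710) (b := 310) t41 htr41
  have t43 := allBelow_range (a := 13020) (b := 310) t42 htr42
  have t44 := allBelow_range (a := 13330) (b := 310) t43 htr43
  have t45 := allBelow_range (a := 13640) (b := 310) t44 htr44
  have t46 := allBelow_range (a := 13950) (b := 310) t45 htr45
  have t47 := allBelow_range (a := 14260) (b := 310) t46 htr46
  have t48 := allBelow_range (a := 14570) (b := 310) t47 htr47
  have t49 := allBelow_range (a := 14880) (b := 310) t48 htr48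
  have t50 := allBelow_range (a := 15190) (b := 310) t49 htr49
  have t51 := allBelow_range (a := 15500) (b := 310) t50 htr50
  have t52 := allBelow_range (a := 15810) (b := 310) t51 htr51
  have t53 := allBelow_range (a := 16120) (b := 310) t52 htr52
  have t54 := allBelow_range (a := 16430) (b := 310) t53 htr53
  have t55 := allBelow_range (a := 16740) (b := 310) t54 htr54
  have t56 := allBelow_range (a := 17050) (b := 310) t55 htr55
  have t57 := allBelow_range (a := 17360) (b := 310) t56 htr56
  have t58 := allBelow_range (a := 17670) (b := 310) t57 htr57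
  have t59 := allBelow_range (a := 17980) (b := 310) t58 htr58
  have t60 := allBelow_range (a := 18290) (b := 310) t59 htr59
  have t61 := allBelow_range (a := 18600) (b := 310) t60 htr60
  have t62 := allBelow_range (a := 18910) (b := 310) t61 htr61
  have t63 := allBelow_range (a := 19220) (b := 310) t62 htr62
  have t64 := allBelow_range (a := 19530) (b := 310) t63 htr63
  have t65 := allBelow_range (a := 19840) (b := 310) t64 htr64
  have t66 := allBelow_range (a := 20150) (b := 310) t65 htr65
  have t67 := allBelow_range (a := 20460) (b := 310) t66 htr66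
  have t68 := allBelow_range (a := 20770) (b := 310) t67 htr67
  have t69 := allBelow_range (a := 21080) (b := 310) t68 htr68
  have t70 := allBelow_range (a := 21390) (b := 310) t69 htr69
  have t71 := allBelow_range (a := 21700) (b := 310) t70 htr70
  have t72 := allBelow_range (a := 22010) (b := 310) t71 htr71
  have t73 := allBelow_range (a := 22320) (b := 310) t72 htr72
  have t74 := allBelow_range (a := 22630) (b := 310) t73 htr73
  have t75 := allBelow_range (a := 22940) (b := 310) t74 htr74
  have t76 := allBelow_range (a := 23250) (b := 310) t75 htr75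
  have t77 := allBelow_range (a := 23560) (b := 310) t76 htr76
  have t78 := allBelow_range (a := 23870) (b := 310) t77 htr77
  have t79 := allBelow_range (a := 24180) (b := 310) t78 htr78
  have t80 := allBelow_range (a := 24490) (b := 310) t79 htr79
  have t81 := allBelow_range (a := 24800) (b := 310) t80 htr80
  have t82 := allBelow_range (a := 25110) (b := 310) t81 htr81
  have t83 := allBelow_range (a := 25420) (b := 310) t82 htr82
  have t84 := allBelow_range (a := 25730) (b := 310) t83 htr83
  have t85 := allBelow_range (a := 26040) (b := 310) t84 htr84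
  have t86 := allBelow_range (a := 26350) (b := 310) t85 htr85
  have t87 := allBelow_range (a := 26660) (b := 310) t86 htr86
  have t88 := allBelow_range (a := 26970) (b := 310) t87 htr87
  have t89 := allBelow_range (a := 27280) (b := 310) t88 htr88
  have t90 := allBelow_range (a := 27590) (b := 310) t89 htr89
  have t91 := allBelow_range (a := 27900) (b := 310) t90 htr90
  have t92 := allBelow_range (a := 28210) (b := 310) t91 htr91
  have t93 := allBelow_range (a := 28520) (b := 310) t92 htr92
  have t94 := allBelow_range (a := 28830) (b := 310) t93 htr93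
  have t95 := allBelow_range (a := 29140) (b := 310) t94 htr94
  have t96 := allBelow_range (a := 29450) (b := 310) t95 htr95
  have t97 := allBelow_range (a := 29760) (b := 310) t96 htr96
  have t98 := allBelow_range (a := 30070) (b := 310) t97 htr97
  have t99 := allBelow_range (a := 30380) (b := 310) t98 htr98
  have t100 := allBelow_range (a := 30690) (b := 310) t99 htr99
  have t101 := allBelow_range (a := 31000) (b := 310) t100 htr100
  have t102 := allBelow_range (a := 31310) (b := 310) t101 htr101
  have t103 := allBelow_range (a := 31620) (b := 51) t102 htr102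
  exact table_final (by decide +kernel) t103

set_option maxRecDepth 100000 in
theorem hsletters : subs.all (fun w => w.all (fun x => Nat.blt x 10)) = true := by decide +kernel

theorem horbit : checkOrbit pt subs col roots op ow od 31671 10 = true := by
  have c0 := col_zero pt subs col
  have c1 := col_step (a := 0) (b := 877) c0 hcl0
  have c2 := col_step (a := 877) (b := 877) c1 hcl1
  have c3 := col_step (a := 1754) (b := 877) c2 hcl2
  have c4 := col_step (a := 2631) (b := 877) c3 hcl3
  have c5 := col_step (a := 3508) (b := 877) c4 hcl4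
  have c6 := col_step (a := 4385) (b := 877) c5 hcl5
  have c7 := col_step (a := 5262) (b := 877) c6 hcl6
  have c8 := col_step (a := 6139) (b := 877) c7 hcl7
  have c9 := col_step (a := 7016) (b := 877) c8 hcl8
  have c10 := col_step (a := 7893) (b := 877) c9 hcl9
  have c11 := col_step (a := 8770) (b := 877) c10 hcl10
  have c12 := col_step (a := 9647) (b := 877) c11 hcl11
  have c13 := col_step (a := 10524) (b := 877) c12 hcl12
  have c14 := col_step (a := 11401) (b := 877) c13 hcl13
  have c15 := col_step (a := 12278) (b := 877) c14 hcl14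
  have c16 := col_step (a := 13155) (b := 877) c15 hcl15
  have c17 := col_step (a := 14032) (b := 877) c16 hcl16
  have c18 := col_step (a := 14909) (b := 877) c17 hcl17
  have c19 := col_step (a := 15786) (b := 877) c18 hcl18
  have c20 := col_step (a := 16663) (b := 877) c19 hcl19
  have c21 := col_step (a := 17540) (b := 877) c20 hcl20
  have c22 := col_step (a := 18417) (b := 877) c21 hcl21
  have c23 := col_step (a := 19294) (b := 877) c22 hcl22
  have c24 := col_step (a := 20171) (b := 877) c23 hcl23
  have c25 := col_step (a := 21048) (b := 877) c24 hcl24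
  have c26 := col_step (a := 21925) (b := 877) c25 hcl25
  have c27 := col_step (a := 22802) (b := 877) c26 hcl26
  have c28 := col_step (a := 23679) (b := 877) c27 hcl27
  have c29 := col_step (a := 24556) (b := 877) c28 hcl28
  have c30 := col_step (a := 25433) (b := 877) c29 hcl29
  have c31 := col_step (a := 26310) (b := 877) c30 hcl30
  have c32 := col_step (a := 27187) (b := 877) c31 hcl31
  have c33 := col_step (a := 28064) (b := 877) c32 hcl32
  have c34 := col_step (a := 28941) (b := 877) c33 hcl33
  have c35 := col_step (a := 29818) (b := 877) c34 hcl34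
  have c36 := col_step (a := 30695) (b := 877) c35 hcl35
  have c37 := col_step (a := 31572) (b := 99) c36 hcl36
  have o0 : allBelow (fun i => Nat.beq i (dig roots (dig col i)) || (Nat.blt (dig op i) 31671 && Nat.blt (dig od (dig op i)) (dig od i) && Nat.beq (tabW pt (nthW subs (dig ow i)) (dig op i)) i)) 0 = true := rfl
  have o1 := allBelow_range (p := (fun i => Nat.beq i (dig roots (dig col i)) || (Nat.blt (dig op i) 31671 && Nat.blt (dig od (dig op i)) (dig od i) && Nat.beq (tabW pt (nthW subs (dig ow i)) (dig op i)) i))) (a := 0) (b := 2960) o0 hob0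
  have o2 := allBelow_range (p := (fun i => Nat.beq i (dig roots (dig col i)) || (Nat.blt (dig op i) 31671 && Nat.blt (dig od (dig op i)) (dig od i) && Nat.beq (tabW pt (nthW subs (dig ow i)) (dig op i)) i))) (a := 2960) (b := 2960) o1 hob1
  have o3 := allBelow_range (p := (fun i => Nat.beq i (dig roots (dig col i)) || (Nat.blt (dig op i) 31671 && Nat.blt (dig od (dig op i)) (dig od i) && Nat.beq (tabW pt (nthW subs (dig ow i)) (dig op i)) i))) (a := 5920) (b := 2960) o2 hob2
  have o4 := allBelow_range (p := (fun i => Nat.beq i (dig roots (dig col i)) || (Nat.blt (dig op i) 31671 && Nat.blt (dig od (dig op i)) (dig od i) && Nat.beq (tabW pt (nthW subs (dig ow i)) (dig op i)) i))) (a := 8880) (b := 2960) o3 hob3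
  have o5 := allBelow_range (p := (fun i => Nat.beq i (dig roots (dig col i)) || (Nat.blt (dig op i) 31671 && Nat.blt (dig od (dig op i)) (dig od i) && Nat.beq (tabW pt (nthW subs (dig ow i)) (dig op i)) i))) (a := 11840) (b := 2960) o4 hob4
  have o6 := allBelow_range (p := (fun i => Nat.beq i (dig roots (dig col i)) || (Nat.blt (dig op i) 31671 && Nat.blt (dig od (dig op i)) (dig od i) && Nat.beq (tabW pt (nthW subs (dig ow i)) (dig op i)) i))) (a := 14800) (b := 2960) o5 hob5
  have o7 := allBelow_range (p := (fun i => Nat.beq i (dig roots (dig col i)) || (Nat.blt (dig op i) 31671 && Nat.blt (dig od (dig op i)) (dig od i) && Nat.beq (tabW pt (nthW subs (dig ow i)) (dig op i)) i))) (a := 17760) (b := 2960) o6 hob6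
  have o8 := allBelow_range (p := (fun i => Nat.beq i (dig roots (dig col i)) || (Nat.blt (dig op i) 31671 && Nat.blt (dig od (dig op i)) (dig od i) && Nat.beq (tabW pt (nthW subs (dig ow i)) (dig op i)) i))) (a := 20720) (b := 2960) o7 hob7
  have o9 := allBelow_range (p := (fun i => Nat.beq i (dig roots (dig col i)) || (Nat.blt (dig op i) 31671 && Nat.blt (dig od (dig op i)) (dig od i) && Nat.beq (tabW pt (nthW subs (dig ow i)) (dig op i)) i))) (a := 23680) (b := 2960) o8 hob8
  have o10 := allBelow_range (p := (fun i => Nat.beq i (dig roots (dig col i)) || (Nat.blt (dig op i) 31671 && Nat.blt (dig od (dig op i)) (dig od i) && Nat.beq (tabW pt (nthW subs (dig ow i)) (dig op i)) i))) (a := 26640) (b := 2960) o9 hob9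
  have o11 := allBelow_range (p := (fun i => Nat.beq i (dig roots (dig col i)) || (Nat.blt (dig op i) 31671 && Nat.blt (dig od (dig op i)) (dig od i) && Nat.beq (tabW pt (nthW subs (dig ow i)) (dig op i)) i))) (a := 29600) (b := 2071) o10 hob10
  exact orbit_final hsletters c37 o11

theorem hcount1 : countBelow (fun i => Nat.beq (dig col i) 1) 31671 = 28160 := by
  have k0 : countBelow (fun i => Nat.beq (dig col i) 1) 0 = 0 := rfl
  have k1 : countBelow (fun i => Nat.beq (dig col i) 1) 8000 = 6178 := count_step (a := 0) (b := 8000) k0 hcn1_0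
  have k2 : countBelow (fun i => Nat.beq (dig col i) 1) 16000 = 13057 := count_step (a := 8000) (b := 8000) k1 hcn1_1
  have k3 : countBelow (fun i => Nat.beq (dig col i) 1) 24000 = 20489 := count_step (a := 16000) (b := 8000) k2 hcn1_2
  have k4 : countBelow (fun i => Nat.beq (dig col i) 1) 31671 = 28160 := count_step (a := 24000) (b := 7671) k3 hcn1_3
  exact k4

theorem hcount2 : countBelow (fun i => Nat.beq (dig col i) 2) 31671 = 3510 := by
  have k0 : countBelow (fun i => Nat.beq (dig col i) 2) 0 = 0 := rfl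
  have k1 : countBelow (fun i => Nat.beq (dig col i) 2) 8000 = 1821 := count_step (a := 0) (b := 8000) k0 hcn2_0
  have k2 : countBelow (fun i => Nat.beq (dig col i) 2) 16000 = 2942 := count_step (a := 8000) (b := 8000) k1 hcn2_1
  have k3 : countBelow (fun i => Nat.beq (dig col i) 2) 24000 = 3510 := count_step (a := 16000) (b := 8000) k2 hcn2_2
  have k4 : countBelow (fun i => Nat.beq (dig col i) 2) 31671 = 3510 := count_step (a := 24000) (b := 7671) k3 hcn2_3
  exact k4

set_option maxRecDepth 100000 in
theorem hroots : dig roots 2 < 31671 ∧ dig col (dig roots 2) = 2 ∧ dig roots 1 < 31671 ∧ dig col (dig roots 1) = 1 := by decide +kernel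

/-- certified coset enumeration -/
theorem result : (((Subgroup.closure ({Cfsg.Spor.Fi23.a, Cfsg.Spor.Fi23.b, Cfsg.Spor.Fi23.c, Cfsg.Spor.Fi23.d, Cfsg.Spor.Fi23.e, Cfsg.Spor.Fi23.f, Cfsg.Spor.Fi23.g, Cfsg.Spor.Fi23.h, Cfsg.Spor.Fi23.i} : Set (FreeGroup Cfsg.Spor.Fi23.Gen))).map (PresentedGroup.mk (Cfsg.Spor.coxRelators Cfsg.Spor.Fi23.edges ∪ {r | r ∈ Cfsg.Spor.Fi23.extra})))).index = 31671 ∧ ∃ q₁ q₂ : Cfsg.Spor.Fi23 ⧸ (((Subgroup.closure ({Cfsg.Spor.Fi23.a, Cfsg.Spor.Fi23.b, Cfsg.Spor.Fi23.c, Cfsg.Spor.Fi23.d, Cfsg.Spor.Fi23.e, Cfsg.Spor.Fi23.f, Cfsg.Spor.Fi23.g, Cfsg.Spor.Fi23.h, Cfsg.Spor.Fi23.i} : Set (FreeGroup Cfsg.Spor.Fi23.Gen))).map (PresentedGroup.mk (Cfsg.Spor.coxRelators Cfsg.Spor.Fi23.edges ∪ {r | r ∈ Cfsg.Spor.Fi23.extra})))), (MulAction.orbit (((Subgroup.closure ({Cfsg.Spor.Fi23.a, Cfsg.Spor.Fi23.b, Cfsg.Spor.Fi23.c, Cfsg.Spor.Fi23.d, Cfsg.Spor.Fi23.e, Cfsg.Spor.Fi23.f, Cfsg.Spor.Fi23.g, Cfsg.Spor.Fi23.h, Cfsg.Spor.Fi23.i} : Set (FreeGroup Cfsg.Spor.Fi23.Gen))).map (PresentedGroup.mk (Cfsg.Spor.coxRelators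 Cfsg.Spor.Fi23.edges ∪ {r | r ∈ Cfsg.Spor.Fi23.extra})))) q₁).ncard = 3510 ∧ (MulAction.orbit (((Subgroup.closure ({Cfsg.Spor.Fi23.a, Cfsg.Spor.Fi23.b, Cfsg.Spor.Fi23.c, Cfsg.Spor.Fi23.d, Cfsg.Spor.Fi23.e, Cfsg.Spor.Fi23.f, Cfsg.Spor.Fi23.g, Cfsg.Spor.Fi23.h, Cfsg.Spor.Fi23.i} : Set (FreeGroup Cfsg.Spor.Fi23.Gen))).map (PresentedGroup.mk (Cfsg.Spor.coxRelators Cfsg.Spor.Fi23.edges ∪ {r | r ∈ Cfsg.Spor.Fi23.extra})))) q₂).ncard = 28160 := by
  have hYset : ({Fi23.a, Fi23.b, Fi23.c, Fi23.d, Fi23.e, Fi23.f, Fi23.g, Fi23.h, Fi23.i} : Set (FreeGroup Fi23.Gen)) = {y | y ∈ Y} := by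
    ext y
    simp [Y]
  obtain ⟨hidx, Φ, horb⟩ := cox_main Fi23.edges Fi23.extra Y _ hYset code allg 10 31671
    (by intro x; cases x <;> decide) (by intro x; cases x <;> decide)
    (by intro x; cases x <;> decide)
    (by intro x y h; cases x <;> cases y <;> first | rfl | exact absurd h (by decide))
    (by
      intro k hk
      interval_cases k
      exacts [⟨.a, rfl⟩, ⟨.b, rfl⟩, ⟨.c, rfl⟩, ⟨.d, rfl⟩, ⟨.e, rfl⟩, ⟨.f, rfl⟩, ⟨.g, rfl⟩, ⟨.j, rfl⟩, ⟨.h, rfl⟩, ⟨.i, rfl⟩])
    rels subs hrels hsubs dp dx canon bp bx col roots op ow od fuel pt st50 (by norm_num)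
    hinvol hwords htrans hsub0 hInv htable horbit
  refine ⟨hidx, ?_⟩
  obtain ⟨q1, h1, _⟩ := horb 2 hroots.1 hroots.2.1
  obtain ⟨q2, h2, _⟩ := horb 1 hroots.2.2.1 hroots.2.2.2
  exact ⟨q1, q2, by rw [h1, hcount2], by rw [h2, hcount1]⟩

end Cfsg.Agent.S1689
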