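import Cfsg.Statements.S1691
import Mathlib

set_option autoImplicit false
open Cfsg

namespace Cfsg.Agent.S1691

open Cfsg.Spor Cfsg.Spor.Fi24

abbrev R : Set (FreeGroup Gen) := coxRelators Fi24.edges ∪ {r | r ∈ Fi24.extra}

/-- image of a generator in the presented group -/
def gen (x : Gen) : Fi24 := PresentedGroup.of x

/-- image of a generator in the abelianization -/
def t (x : Gen) : Abelianization Fi24 := Abelianization.of (gen x)

theorem node_mem (x : Gen) : x ∈ coxNodes Fi24.edges := by
  cases x <;> decide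

theorem gen_sq (x : Gen) : gen x * gen x = 1 := by
  have hmem : (FreeGroup.of x * FreeGroup.of x) ^ 1 ∈ R := by
    left
    refine ⟨x, node_mem x, x, node_mem x, ?_⟩
    simp [coxLabel]
  have := (PresentedGroup.one_of_mem hmem : (PresentedGroup.mk R ((FreeGroup.of x * FreeGroup.of x) ^ 1) : Fi24) = 1)
  simpa [gen, PresentedGroup.of] using this

theorem gen_edge (x y : Gen) (h : coxLabel Fi24.edges x y = 3) : (gen x * gen y) ^ 3 = 1 := by
  have hmem : (FreeGroup.of x * FreeGroup.of y) ^ 3 ∈ R := by
    left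
    refine ⟨x, node_mem x, y, node_mem y, ?_⟩
    rw [h]
  have := (PresentedGroup.one_of_mem hmem : (PresentedGroup.mk R ((FreeGroup.of x * FreeGroup.of y) ^ 3) : Fi24) = 1)
  simpa [gen, PresentedGroup.of] using this

theorem t_sq (x : Gen) : t x * t x = 1 := by
  unfold t
  rw [← map_mul, gen_sq, map_one]

theorem t_edge (x y : Gen) (h : coxLabel Fi24.edges x y = 3) : t x = t y := by
  have h1 : (t x * t y) ^ 3 = 1 := by
    unfold t
    rw [← map_mul, ← map_pow, gen_edge x y h, map_one]
  have hx := t_sq x
  have hy := t_sq y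
  have h2 : (t x * t y) ^ 3 = (t x * t x) * (t y * t y) * (t x * t y) := by
    rw [pow_succ, pow_two]
    simp only [mul_assoc, mul_comm, mul_left_comm]
  rw [h2, hx, hy, one_mul, one_mul] at h1
  -- t x * t y = 1, and t y * t y = 1
  calc t x = t x * (t y * t y) := by rw [hy, mul_one]
    _ = (t x * t y) * t y := by rw [mul_assoc]
    _ = t y := by rw [h1, one_mul]

theorem t_all (x : Gen) : t x = t Gen.d := by
  have lk := t_edge Gen.l Gen.k (by decide)
  have ka := t_edge Gen.k Gen.a (by decide)
  have ab := t_edge Gen.a Gen.b (by decide)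
  have bc := t_edge Gen.b Gen.c (by decide)
  have cd := t_edge Gen.c Gen.d (by decide)
  have de := t_edge Gen.d Gen.e (by decide)
  have dh := t_edge Gen.d Gen.h (by decide)
  have ef := t_edge Gen.e Gen.f (by decide)
  have fg := t_edge Gen.f Gen.g (by decide)
  have gj := t_edge Gen.g Gen.j (by decide)
  have hi := t_edge Gen.h Gen.i (by decide)
  cases x
  · rw [lk, ka, ab, bc, cd]
  · rw [ka, ab, bc, cd]
  · rw [ab, bc, cd]
  · rw [bc, cd]
  · rw [cd]
  · rfl
  · rw [← de]
  · rw [← ef, ← de]
  · rw [← fg, ← ef, ← de]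
  · rw [← gj, ← fg, ← ef, ← de]
  · rw [← dh]
  · rw [← hi, ← dh]

/-- the sign homomorphism -/
noncomputable def sgn : Fi24 →* Multiplicative (ZMod 2) :=
  PresentedGroup.toGroup (f := fun _ : Gen => Multiplicative.ofAdd (1 : ZMod 2)) (by
    intro r hr
    have hc : (Multiplicative.ofAdd (1 : ZMod 2)) * (Multiplicative.ofAdd (1 : ZMod 2)) = 1 := by decide
    rcases hr with hr | hr
    · obtain ⟨x, _, y, _, rfl⟩ := hr
      simp only [map_pow, map_mul, FreeGroup.lift_apply_of, hc, one_pow]
    · have hr' : r ∈ Fi24.extra := hr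
      simp only [Fi24.extra, List.mem_cons, List.not_mem_nil, or_false] at hr'
      rcases hr' with rfl | rfl
      · simp only [map_pow, map_mul, map_inv, FreeGroup.lift_apply_of]
        decide
      · simp only [map_pow, map_mul, map_inv, FreeGroup.lift_apply_of]
        decide)

theorem sgn_gen (x : Gen) : sgn (gen x) = Multiplicative.ofAdd (1 : ZMod 2) := by
  unfold sgn gen
  exact PresentedGroup.toGroup.of _

theorem t_d_ne_one : t Gen.d ≠ 1 := by
  intro h
  have h1 : Abelianization.lift sgn (t Gen.d) = 1 := by rw [h, map_one]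
  unfold t at h1
  rw [Abelianization.lift_apply_of, sgn_gen] at h1
  revert h1
  decide

theorem closure_eq_top : Subgroup.zpowers (t Gen.d) = ⊤ := by
  have h1 : Subgroup.closure (Set.range (PresentedGroup.of : Gen → Fi24)) = ⊤ :=
    PresentedGroup.closure_range_of _
  have h2 : (Subgroup.closure (Set.range (PresentedGroup.of : Gen → Fi24))).map
      (Abelianization.of : Fi24 →* Abelianization Fi24) = ⊤ := by
    rw [h1, ← MonoidHom.range_eq_map, MonoidHom.range_eq_top]
    exact QuotientGroup.mk_surjective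
  rw [MonoidHom.map_closure] at h2
  rw [eq_top_iff, ← h2, Subgroup.closure_le]
  rintro _ ⟨_, ⟨x, rfl⟩, rfl⟩
  have := t_all x
  unfold t gen at this
  rw [SetLike.mem_coe, this]
  exact Subgroup.mem_zpowers _

theorem result : (commutator Cfsg.Spor.Fi24).index = 2 := by
  have h1 : (commutator Cfsg.Spor.Fi24).index = Nat.card (Abelianization Fi24) := rfl
  rw [h1]
  have h2 : Nat.card (Abelianization Fi24) = Nat.card (Subgroup.zpowers (t Gen.d)) := by
    rw [closure_eq_top]
    exact (Nat.card_congr (Subgroup.topEquiv (G := Abelianization Fi24)).toEquiv).symm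
  rw [h2, Nat.card_zpowers]
  have hd : orderOf (t Gen.d) ∣ 2 := by
    apply orderOf_dvd_of_pow_eq_one
    rw [pow_two]; exact t_sq _
  have hne : orderOf (t Gen.d) ≠ 1 := by
    rw [Ne, orderOf_eq_one_iff]; exact t_d_ne_one
  rcases (Nat.dvd_prime Nat.prime_two).mp hd with h | h
  · exact absurd h hne
  · exact h

end Cfsg.Agent.S1691
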