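import Cfsg.Statements.S1753
import Mathlib

set_option autoImplicit false
universe u
open Cfsg

namespace Cfsg.Agent.S1753

theorem kproper_of_smaller (K : ∀ (X : Type u) [Group X], Prop) (G : Type u) [Group G] [Finite G]
    (h : ∀ (X : Type u) [Group X] [Finite X],
      IsSimpleGroup X → ¬ IsMulCommutative X → Nat.card X < Nat.card G → K X) :
    Cfsg.IsKProperWith K G := by
  intro H hH L N _ hs hna
  apply h _ hs hna
  have h1 : Nat.card (L ⧸ N) ≤ Nat.card L := by
    apply Nat.le_of_dvd Nat.card_pos
    exact Subgroup.card_quotient_dvd_card N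
  have h2 : Nat.card L ≤ Nat.card H := Subgroup.card_le_card_group L
  have h3 : Nat.card H < Nat.card G := by
    apply lt_of_le_of_ne (Subgroup.card_le_card_group H)
    intro heq
    exact hH ((Subgroup.card_eq_iff_eq_top H).mp heq)
  omega

theorem result (K : ∀ (X : Type u) [Group X], Prop) :
    (∀ (G : Type u) [Group G], Cfsg.IsMinCounterexampleWith K G → Cfsg.IsKProperWith K G) ∧
      ((∀ (X : Type u) [Group X] [Finite X], IsSimpleGroup X → ¬ IsMulCommutative X → Cfsg.IsKProperWith K X → K X) →
        ∀ (G : Type u) [Group G] [Finite G], IsSimpleGroup G → ¬ IsMulCommutative G → K G) := by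
  refine ⟨?_, ?_⟩
  · intro G _ hG
    obtain ⟨hfin, _, _, _, hsm⟩ := hG
    exact kproper_of_smaller K G hsm
  · intro hstep
    have key : ∀ n : ℕ, ∀ (G : Type u) [Group G] [Finite G], Nat.card G = n →
        IsSimpleGroup G → ¬ IsMulCommutative G → K G := by
      intro n
      induction n using Nat.strong_induction_on with
      | _ n ih =>
        intro G _ _ hn hs hna
        apply hstep G hs hna
        apply kproper_of_smaller K G
        intro X _ _ hXs hXna hlt
        exact ih (Nat.card X) (hn ▸ hlt) X rfl hXs hXna
    intro G _ _ hs hna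
    exact key _ G rfl hs hna

end Cfsg.Agent.S1753
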