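import Mathlib
import Cfsg.Statements.S1756
import Cfsg.Agent.Lib.Helper4_ExtraCent

set_option autoImplicit false
open Cfsg

namespace Cfsg.Agent.S1756

open Subgroup
open scoped commutatorElement
open Cfsg.Agent.Lib.Helper4_ExtraCent (comm_mul_aux card_hom_le)

/-- commutator hom of a group whose derived subgroup is central -/
def phiC {Q : Type*} [Group Q] (hcomm : commutator Q = center Q) (a : Q) : Q →* center Q where
  toFun q := ⟨⁅a, q⁆, by
    rw [← hcomm, commutator_def]
    exact commutator_mem_commutator (mem_top a) (mem_top q)⟩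
  map_one' := by
    apply Subtype.ext
    simp
  map_mul' x y := by
    apply Subtype.ext
    show ⁅a, x * y⁆ = ⁅a, x⁆ * ⁅a, y⁆
    apply comm_mul_aux
    have h : ⁅a, y⁆ ∈ center Q := by
      rw [← hcomm, commutator_def]
      exact commutator_mem_commutator (mem_top a) (mem_top y)
    exact (mem_center_iff.mp h x)

theorem phiC_apply {Q : Type*} [Group Q] (hcomm : commutator Q = center Q) (a q : Q) :
    ((phiC hcomm a q : center Q) : Q) = ⁅a, q⁆ := rfl

/-- every homomorphism to the centre is a commutator map, in an extraspecial-like group -/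
theorem exists_inner {Q : Type*} [Group Q] [Finite Q] {p : ℕ} [Fact p.Prime]
    (hcomm : commutator Q = center Q) (hp : Nat.card (center Q) = p) (τ : Q →* center Q) :
    ∃ a : Q, ∀ q : Q, ⁅a, q⁆ = (τ q : Q) := by
  have hiff : ∀ a b : Q, phiC hcomm a = phiC hcomm b ↔ a⁻¹ * b ∈ center Q := by
    intro a b
    rw [mem_center_iff]
    constructor
    · intro hh x
      have h1 := congrArg (fun f : Q →* center Q => ((f x : center Q) : Q)) hh
      simp only [phiC_apply, commutatorElement_def] at h1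
      have h2 : a * x * a⁻¹ = b * x * b⁻¹ := mul_right_cancel h1
      calc x * (a⁻¹ * b) = a⁻¹ * (a * x * a⁻¹) * b := by group
        _ = a⁻¹ * (b * x * b⁻¹) * b := by rw [h2]
        _ = a⁻¹ * b * x := by group
    · intro hh
      ext x
      rw [phiC_apply, phiC_apply, commutatorElement_def, commutatorElement_def]
      congr 1
      have h1 := hh x
      calc a * x * a⁻¹ = a * (x * (a⁻¹ * b)) * b⁻¹ := by group
        _ = a * (a⁻¹ * b * x) * b⁻¹ := by rw [h1]
        _ = b * x * b⁻¹ := by group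
  let ψ : Q ⧸ center Q → (Q →* center Q) :=
    Quotient.lift (fun a : Q => phiC hcomm a) (by
      intro a b hab
      have hab' : a⁻¹ * b ∈ center Q := QuotientGroup.leftRel_apply.1 hab
      exact (hiff a b).mpr hab')
  have hψ : Function.Injective ψ := by
    intro a b
    refine Quotient.inductionOn₂ a b ?_
    intro a b hab
    change phiC hcomm a = phiC hcomm b at hab
    apply Quotient.sound
    exact QuotientGroup.leftRel_apply.2 ((hiff a b).mp hab)
  have : Finite (Q →* center Q) := DFunLike.finite _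
  have hbij := hψ.bijective_of_nat_card_le (card_hom_le hcomm hp)
  obtain ⟨q, hq⟩ := hbij.2 τ
  obtain ⟨a, rfl⟩ := Quotient.exists_rep q
  change phiC hcomm a = τ at hq
  refine ⟨a, fun x => ?_⟩
  rw [← hq]
  rfl

/-- extraspecial 2-group, involution with small commutator -/
theorem result {G : Type*} [Group G] [Finite G] (Q : Subgroup G)
    (hQ : Cfsg.IsExtraspecial 2 ↥Q) (t : G) (ht : orderOf t = 2) (htN : t ∈ Subgroup.normalizer (Q : Set G))
    (hi : (Subgroup.centralizer ({t} : Set G) ⊓ Q).relIndex Q ≤ 2) :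
    t ∈ Q ⊔ Subgroup.centralizer (Q : Set G) := by
  classical
  have hcomm : commutator ↥Q = center ↥Q := hQ.1.2.2
  have hp : Nat.card (center ↥Q) = 2 := hQ.2
  have htt : t * t = 1 := by rw [← pow_two, ← ht, pow_orderOf_eq_one]
  have hti : t⁻¹ = t := inv_eq_of_mul_eq_one_left htt
  have hconj : ∀ q ∈ Q, t * q * t⁻¹ ∈ Q := fun q hq => (mem_normalizer_iff.mp htN q).mp hq
  obtain ⟨z₀, hz₀, hz₀u⟩ := (Nat.card_eq_two_iff' (1 : center ↥Q)).mp hp
  -- central elements of Q in ambient terms
  have hZ : ∀ w ∈ Q, (∀ q ∈ Q, q * w = w * q) → w = 1 ∨ w = ((z₀ : ↥Q) : G) := by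
    intro w hw hc
    have hwc : (⟨w, hw⟩ : ↥Q) ∈ center ↥Q := by
      rw [mem_center_iff]
      intro q
      exact Subtype.ext (hc q.1 q.2)
    by_cases h1 : w = 1
    · exact Or.inl h1
    · right
      have := hz₀u ⟨⟨w, hw⟩, hwc⟩ (by
        intro h
        apply h1
        exact congrArg (fun x : center ↥Q => ((x : ↥Q) : G)) h)
      exact congrArg (fun x : center ↥Q => ((x : ↥Q) : G)) this
  have hz₀Q : ((z₀ : ↥Q) : G) ∈ Q := (z₀ : ↥Q).2
  have hz₀c : ∀ q ∈ Q, q * ((z₀ : ↥Q) : G) = ((z₀ : ↥Q) : G) * q := by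
    intro q hq
    have := mem_center_iff.mp z₀.2 ⟨q, hq⟩
    exact congrArg Subtype.val this
  have hz₀1 : ((z₀ : ↥Q) : G) ≠ 1 := by
    intro h
    apply hz₀
    apply Subtype.ext
    apply Subtype.ext
    exact h
  -- t centralizes z₀
  have hz₀t : t * ((z₀ : ↥Q) : G) * t⁻¹ = ((z₀ : ↥Q) : G) := by
    have hmem := hconj _ hz₀Q
    have hc : ∀ q ∈ Q, q * (t * ((z₀ : ↥Q) : G) * t⁻¹) = (t * ((z₀ : ↥Q) : G) * t⁻¹) * q := by
      intro q hq
      have hq' : t⁻¹ * q * t ∈ Q := by
        have := (mem_normalizer_iff.mp (inv_mem htN) q).mp hq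
        rwa [inv_inv] at this
      have := hz₀c _ hq'
      calc q * (t * ((z₀ : ↥Q) : G) * t⁻¹) = t * (t⁻¹ * q * t * ((z₀ : ↥Q) : G)) * t⁻¹ := by group
        _ = t * (((z₀ : ↥Q) : G) * (t⁻¹ * q * t)) * t⁻¹ := by rw [this]
        _ = t * ((z₀ : ↥Q) : G) * t⁻¹ * q := by group
    rcases hZ _ hmem hc with h | h
    · exfalso
      apply hz₀1
      have := congrArg (fun x => t⁻¹ * x * t) h
      simpa [mul_assoc] using this
    · exact h
  obtain ⟨Q₀, hQ₀⟩ : ∃ Q₀, Q₀ = centralizer ({t} : Set G) ⊓ Q := ⟨_, rfl⟩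
  rw [← hQ₀] at hi
  have hQ₀mem : ∀ y, y ∈ Q₀ ↔ (y * t = t * y ∧ y ∈ Q) := by
    intro y; rw [hQ₀, mem_inf, mem_centralizer_singleton_iff]
  have hne : Q₀.relIndex Q ≠ 0 := by
    unfold Subgroup.relIndex; exact Subgroup.index_ne_zero_of_finite
  have hK : ∀ y ∈ Q, ∀ q ∈ Q, q * ⁅t, y⁆ = ⁅t, y⁆ * q := by
    have h12 : Q₀.relIndex Q = 1 ∨ Q₀.relIndex Q = 2 := by omega
    rcases h12 with h1 | h2
    · rw [relIndex_eq_one] at h1
      intro y hy q hq
      have : ⁅t, y⁆ = 1 := by
        have := ((hQ₀mem y).mp (h1 hy)).1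
        rw [commutatorElement_def, ← this]; group
      rw [this, mul_one, one_mul]
    · obtain ⟨a, haQ, ha⟩ := relIndex_eq_two_iff.mp h2
      have haQ₀ : a ∉ Q₀ := by
        have := ha 1 Q.one_mem
        rw [one_mul] at this
        rcases this with h | h
        · exact absurd Q₀.one_mem h.2
        · exact h.2
      have hcover : ∀ y ∈ Q, y ∉ Q₀ → y * a ∈ Q₀ := by
        intro y hy hy0
        rcases ha y hy with h | h
        · exact h.1
        · exact absurd h.1 hy0
      have hnorm : ∀ q₀ ∈ Q₀, a * q₀ * a⁻¹ ∈ Q₀ := by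
        intro q₀ hq₀
        have hq₀Q := ((hQ₀mem q₀).mp hq₀).2
        have hbQ : a * q₀ * a⁻¹ ∈ Q := Q.mul_mem (Q.mul_mem haQ hq₀Q) (Q.inv_mem haQ)
        by_contra hb
        have := hcover _ hbQ hb
        rw [inv_mul_cancel_right] at this
        apply haQ₀
        have h2 := Q₀.mul_mem this (Q₀.inv_mem hq₀)
        rwa [mul_inv_cancel_right] at h2
      have haa : a * a ∈ Q₀ := by
        rcases ha a haQ with h | h
        · exact h.1
        · exact absurd h.1 haQ₀
      obtain ⟨c, hc⟩ : ∃ c, c = a⁻¹ * (t * a * t⁻¹) := ⟨_, rfl⟩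
      have hcQ : c ∈ Q := by rw [hc]; exact Q.mul_mem (Q.inv_mem haQ) (hconj a haQ)
      have hta : t * a * t⁻¹ = a * c := by rw [hc, mul_inv_cancel_left]
      have hfix : ∀ q₀ ∈ Q₀, t * q₀ * t⁻¹ = q₀ := by
        intro q₀ hq₀
        have := ((hQ₀mem q₀).mp hq₀).1
        rw [← this, mul_inv_cancel_right]
      have claim1 : ∀ q₀ ∈ Q₀, c * q₀ = q₀ * c := by
        intro q₀ hq₀
        have h1 := hfix _ (hnorm q₀ hq₀)
        have h2 : t * (a * q₀ * a⁻¹) * t⁻¹ = (t * a * t⁻¹) * (t * q₀ * t⁻¹) * (t * a * t⁻¹)⁻¹ := by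
          group
        rw [h2, hta, hfix q₀ hq₀] at h1
        have h3 := congrArg (fun x => a⁻¹ * x * a) h1
        have h4 : c * q₀ * c⁻¹ = q₀ := by
          calc c * q₀ * c⁻¹ = a⁻¹ * (a * c * q₀ * (a * c)⁻¹) * a := by group
            _ = a⁻¹ * (a * q₀ * a⁻¹) * a := h3
            _ = q₀ := by group
        calc c * q₀ = c * q₀ * c⁻¹ * c := by group
          _ = q₀ * c := by rw [h4]
      have hz₀Q₀ : ((z₀ : ↥Q) : G) ∈ Q₀ := by
        rw [hQ₀mem]
        refine ⟨?_, hz₀Q⟩
        have := congrArg (fun x => x * t) hz₀t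
        simp only [inv_mul_cancel_right] at this
        exact this.symm
      have claim2 : c ∈ Q₀ := by
        by_contra hcn
        have hca := hcover c hcQ hcn
        have hcen : ∀ y ∈ Q, y * c = c * y := by
          intro y hy
          by_cases hy0 : y ∈ Q₀
          · exact (claim1 y hy0).symm
          · have hya := hcover y hy hy0
            have h5 : (y * a) * (c * a)⁻¹ ∈ Q₀ := Q₀.mul_mem hya (Q₀.inv_mem hca)
            have h6 := claim1 _ h5
            have e : y = (y * a) * (c * a)⁻¹ * c := by group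
            calc y * c = (y * a) * (c * a)⁻¹ * c * c := by rw [← e]
              _ = c * ((y * a) * (c * a)⁻¹) * c := by rw [h6]
              _ = c * y := by rw [mul_assoc, ← e]
        rcases hZ c hcQ hcen with h | h
        · exact hcn (h ▸ Q₀.one_mem)
        · exact hcn (h ▸ hz₀Q₀)
      have hct : t * c * t⁻¹ = c := hfix c claim2
      have hcc : c * c = 1 := by
        have h1 : t * (t * a * t⁻¹) * t⁻¹ = a := by
          rw [hti]
          calc t * (t * a * t) * t = (t * t) * a * (t * t) := by group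
            _ = a := by rw [htt, one_mul, mul_one]
        rw [hta] at h1
        have h2 : t * (a * c) * t⁻¹ = (t * a * t⁻¹) * (t * c * t⁻¹) := by group
        rw [h2, hta, hct] at h1
        have := congrArg (fun x => a⁻¹ * x) h1
        simpa [mul_assoc] using this
      have hci : c⁻¹ = c := inv_eq_of_mul_eq_one_left hcc
      have claim3 : a * c = c * a := by
        have h1 := hfix _ haa
        have h2 : t * (a * a) * t⁻¹ = (t * a * t⁻¹) * (t * a * t⁻¹) := by group
        rw [h2, hta] at h1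
        have h3 : c * a * c = a := by
          have := congrArg (fun x => a⁻¹ * x) h1
          simpa [mul_assoc] using this
        calc a * c = (c * a * c) * c := by rw [h3]
          _ = c * a * (c * c) := by group
          _ = c * a := by rw [hcc, mul_one]
      have hcen : ∀ y ∈ Q, y * c = c * y := by
        intro y hy
        by_cases hy0 : y ∈ Q₀
        · exact (claim1 y hy0).symm
        · have hya := hcover y hy hy0
          have h6 := claim1 _ hya
          have e : y = (y * a) * a⁻¹ := by group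
          have h7 : a⁻¹ * c = c * a⁻¹ := by
            calc a⁻¹ * c = a⁻¹ * (c * a) * a⁻¹ := by group
              _ = a⁻¹ * (a * c) * a⁻¹ := by rw [claim3]
              _ = c * a⁻¹ := by group
          calc y * c = (y * a) * (a⁻¹ * c) := by group
            _ = (y * a) * (c * a⁻¹) := by rw [h7]
            _ = ((y * a) * c) * a⁻¹ := by group
            _ = (c * (y * a)) * a⁻¹ := by rw [h6]
            _ = c * y := by group
      intro y hy q hq
      by_cases hy0 : y ∈ Q₀
      · have : ⁅t, y⁆ = 1 := by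
          rw [commutatorElement_def, hfix y hy0, mul_inv_cancel]
        rw [this, mul_one, one_mul]
      · have hya := hcover y hy hy0
        have : ⁅t, y⁆ = c := by
          rw [commutatorElement_def]
          have e : t * y * t⁻¹ * y⁻¹ = (t * (y * a) * t⁻¹) * (t * a * t⁻¹)⁻¹ * a * (y * a)⁻¹ := by
            group
          rw [e, hfix _ hya, hta, mul_inv_rev, hci]
          have h6 := claim1 _ hya
          calc y * a * (c * a⁻¹) * a * (y * a)⁻¹ = (y * a) * c * (y * a)⁻¹ := by group
            _ = c * (y * a) * (y * a)⁻¹ := by rw [h6]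
            _ = c := by group
        rw [this]
        exact hcen q hq
  -- the homomorphism induced by t
  have hmemQ : ∀ y ∈ Q, ⁅t, y⁆ ∈ Q := by
    intro y hy
    rw [commutatorElement_def]
    exact Q.mul_mem (hconj y hy) (Q.inv_mem hy)
  have hmemZ : ∀ y : ↥Q, (⟨⁅t, (y : G)⁆, hmemQ y.1 y.2⟩ : ↥Q) ∈ center ↥Q := by
    intro y
    rw [mem_center_iff]
    intro q
    exact Subtype.ext (hK y.1 y.2 q.1 q.2)
  let τ : ↥Q →* center ↥Q :=
    { toFun := fun y => ⟨⟨⁅t, (y : G)⁆, hmemQ y.1 y.2⟩, hmemZ y⟩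
      map_one' := by
        apply Subtype.ext; apply Subtype.ext
        simp
      map_mul' := by
        intro x y
        apply Subtype.ext; apply Subtype.ext
        show ⁅t, (x : G) * (y : G)⁆ = ⁅t, (x : G)⁆ * ⁅t, (y : G)⁆
        apply comm_mul_aux
        exact hK y.1 y.2 x.1 x.2 }
  obtain ⟨a, ha⟩ := exists_inner (p := 2) hcomm hp τ
  have hat : ∀ q ∈ Q, (a : G) * q * (a : G)⁻¹ = t * q * t⁻¹ := by
    intro q hq
    have h1 := congrArg (fun x : ↥Q => (x : G)) (ha ⟨q, hq⟩)
    have h2 : (a : G) * q * (a : G)⁻¹ * q⁻¹ = t * q * t⁻¹ * q⁻¹ := h1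
    exact mul_right_cancel h2
  have hcen : (a : G)⁻¹ * t ∈ centralizer (Q : Set G) := by
    rw [mem_centralizer_iff]
    intro q hq
    have := hat q hq
    calc q * ((a : G)⁻¹ * t) = (a : G)⁻¹ * ((a : G) * q * (a : G)⁻¹) * t := by group
      _ = (a : G)⁻¹ * (t * q * t⁻¹) * t := by rw [this]
      _ = (a : G)⁻¹ * t * q := by group
  have : t = (a : G) * ((a : G)⁻¹ * t) := by group
  rw [this]
  exact Subgroup.mul_mem_sup a.2 hcen

end Cfsg.Agent.S1756
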