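import Cfsg.Statements.S1757
import Mathlib

set_option autoImplicit false
open Cfsg

namespace Cfsg.Agent.S1757

theorem result {G : Type*} [Group G] [Finite G] (p : ℕ) [Fact p.Prime] (A B : Subgroup G)
    (hA : IsPGroup p ↥A) (hB : IsPGroup p ↥B)
    (hAti : ∀ g : G, A.map (MulAut.conj g).toMonoidHom = A ∨ A.map (MulAut.conj g).toMonoidHom ⊓ A = ⊥)
    (hBti : ∀ g : G, B.map (MulAut.conj g).toMonoidHom = B ∨ B.map (MulAut.conj g).toMonoidHom ⊓ B = ⊥)
    (hle : Nat.card ↥A ≤ Nat.card ↥B) (hAB : A ⊓ B = ⊥) (hN : B ≤ Subgroup.normalizer (A : Set G)) : ⁅A, B⁆ = ⊥ := by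
  rw [Subgroup.commutator_eq_bot_iff_le_centralizer]
  intro a haA
  by_contra hnc
  rcases hBti a with h1 | h2
  · -- a normalizes B
    apply hnc
    rw [Subgroup.mem_centralizer_iff]
    intro b hb
    have hbB : b ∈ B := hb
    have h3 : a * b * a⁻¹ ∈ B := by
      rw [← h1]
      exact ⟨b, hbB, by simp [MulAut.conj_apply]⟩
    have h4 : b * a⁻¹ * b⁻¹ ∈ A := by
      have := hN hbB
      rw [Subgroup.mem_normalizer_iff] at this
      exact (this a⁻¹).mp (A.inv_mem haA)
    have h5 : a * b * a⁻¹ * b⁻¹ ∈ A ⊓ B := by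
      refine ⟨?_, B.mul_mem h3 (B.inv_mem hbB)⟩
      have : a * b * a⁻¹ * b⁻¹ = a * (b * a⁻¹ * b⁻¹) := by group
      rw [this]
      exact A.mul_mem haA h4
    rw [hAB, Subgroup.mem_bot] at h5
    have : a * b = (a * b * a⁻¹ * b⁻¹) * (b * a) := by group
    rw [this, h5, one_mul]
  · -- regular orbit
    have ha1 : a ≠ 1 := by
      rintro rfl
      exact hnc (Subgroup.one_mem _)
    haveI : Fintype A := Fintype.ofFinite _
    haveI : Fintype B := Fintype.ofFinite _
    let f : B → A := fun b => ⟨(b : G) * a * (b : G)⁻¹, by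
      have := hN b.2
      rw [Subgroup.mem_normalizer_iff] at this
      exact (this a).mp haA⟩
    have hf : Function.Injective f := by
      intro b b' hbb'
      have h1 : (b : G) * a * (b : G)⁻¹ = (b' : G) * a * (b' : G)⁻¹ := congrArg Subtype.val hbb'
      have hc : a * ((b' : G)⁻¹ * b) * a⁻¹ = (b' : G)⁻¹ * b := by
        calc a * ((b' : G)⁻¹ * b) * a⁻¹ = (b' : G)⁻¹ * ((b' : G) * a * (b' : G)⁻¹) * b * a⁻¹ := by group
          _ = (b' : G)⁻¹ * ((b : G) * a * (b : G)⁻¹) * b * a⁻¹ := by rw [h1]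
          _ = (b' : G)⁻¹ * b := by group
      have hmem : (b' : G)⁻¹ * b ∈ B.map (MulAut.conj a).toMonoidHom ⊓ B := by
        refine ⟨?_, B.mul_mem (B.inv_mem b'.2) b.2⟩
        refine ⟨(b' : G)⁻¹ * b, B.mul_mem (B.inv_mem b'.2) b.2, ?_⟩
        simpa [MulAut.conj_apply] using hc
      rw [h2, Subgroup.mem_bot] at hmem
      have : (b : G) = b' := by
        have := inv_mul_eq_one.mp hmem
        exact this.symm
      exact Subtype.ext this
    have hlt : Fintype.card B < Fintype.card A := by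
      apply Fintype.card_lt_of_injective_of_notMem f hf (b := (1 : A))
      rintro ⟨b, hb⟩
      have h1 : (b : G) * a * (b : G)⁻¹ = 1 := congrArg Subtype.val hb
      apply ha1
      have : a = (b : G)⁻¹ * ((b : G) * a * (b : G)⁻¹) * b := by group
      rw [this, h1]; group
    rw [Nat.card_eq_fintype_card, Nat.card_eq_fintype_card] at hle
    omega

end Cfsg.Agent.S1757
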