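import Cfsg.Statements.S1780
import Mathlib

set_option autoImplicit false
open Cfsg

namespace Cfsg.Agent.S1780

/-- `F s a = s a * a`. -/
def F {A : Type*} [CommGroup A] (s : MulAut A) (a : A) : A := s a * a

theorem F_sq_one {A : Type*} [CommGroup A] (s : MulAut A) (a : A) (ha : a * a = 1) :
    F s a * F s a = 1 := by
  unfold F
  have : s a * a * (s a * a) = s (a * a) * (a * a) := by
    rw [map_mul]; exact mul_mul_mul_comm _ _ _ _
  rw [this, ha, map_one, one_mul]

theorem F_F {A : Type*} [CommGroup A] (s : MulAut A) (a : A) (ha : a * a = 1) :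
    F s (F s a) = F (s * s) a := by
  unfold F
  rw [map_mul, MulAut.mul_apply]
  have h1 : s a * s a = 1 := by rw [← map_mul, ha, map_one]
  calc s (s a) * s a * (s a * a) = s (s a) * (s a * s a) * a := by
        simp only [mul_assoc]
    _ = s (s a) * a := by rw [h1, mul_one]

theorem iter_sq_one {A : Type*} [CommGroup A] (s : MulAut A) (m : ℕ) (a : A) (ha : a * a = 1) :
    (F s)^[m] a * (F s)^[m] a = 1 := by
  induction m with
  | zero => simpa using ha
  | succ m ih =>
    rw [Function.iterate_succ_apply']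
    exact F_sq_one s _ ih

theorem iter_pow {A : Type*} [CommGroup A] (t : MulAut A) (k : ℕ) :
    ∀ a : A, a * a = 1 → (F t)^[2 ^ k] a = F (t ^ (2 ^ k)) a := by
  induction k with
  | zero => intro a _; simp
  | succ k ih =>
    intro a ha
    have h2 : 2 ^ (k + 1) = 2 ^ k + 2 ^ k := by ring
    rw [h2, Function.iterate_add_apply, ih a ha, ih _ (F_sq_one _ a ha), F_F _ a ha, pow_add]

theorem base {A : Type*} [CommGroup A]
    (t : MulAut A) (ht : ∃ k : ℕ, orderOf t = 2 ^ k) (hC : ∀ a : A, t (t a) = a → t a = a) :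
    ∀ a : A, a * a = 1 → t a = a := by
  obtain ⟨k, hk⟩ := ht
  have hinv : ∀ a : A, a * a = 1 → a⁻¹ = a := fun a ha => inv_eq_of_mul_eq_one_left ha
  -- F t (F t a) = 1 → F t a = 1 on Ω₁
  have hstep : ∀ a : A, a * a = 1 → F t (F t a) = 1 → F t a = 1 := by
    intro a ha h
    rw [F_F t a ha] at h
    unfold F at h ⊢
    rw [MulAut.mul_apply] at h
    have h1 : t (t a) = a := by
      have := eq_inv_of_mul_eq_one_left h
      rw [this, hinv a ha]
    rw [hC a h1, ha]
  have hchain : ∀ m : ℕ, ∀ a : A, a * a = 1 → (F t)^[m + 1] a = 1 → F t a = 1 := by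
    intro m
    induction m with
    | zero => intro a _ h; simpa using h
    | succ m ih =>
      intro a ha h
      apply ih a ha
      -- (F t)^[m+2] a = F t (F t ((F t)^[m] a))
      have e : (F t)^[m + 1 + 1] a = F t (F t ((F t)^[m] a)) := by
        rw [Function.iterate_succ_apply', Function.iterate_succ_apply']
      rw [e] at h
      have := hstep _ (iter_sq_one t m a ha) h
      rw [Function.iterate_succ_apply']
      exact this
  intro a ha
  have hpow : (F t)^[2 ^ k] a = 1 := by
    rw [iter_pow t k a ha, ← hk, pow_orderOf_eq_one]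
    unfold F
    simpa using ha
  have hpos : 2 ^ k = (2 ^ k - 1) + 1 := by
    have : 0 < 2 ^ k := by positivity
    omega
  rw [hpos] at hpow
  have hF := hchain _ a ha hpow
  unfold F at hF
  have := eq_inv_of_mul_eq_one_left hF
  rw [this, hinv a ha]

theorem result {A : Type*} [CommGroup A] [Finite A]
    (hA : IsPGroup 2 A) (t : MulAut A) (ht : ∃ k : ℕ, orderOf t = 2 ^ k) (hC : ∀ a : A, t (t a) = a → t a = a) :
    ∀ a : A, t a = a := by
  have hb := base t ht hC
  have main : ∀ n : ℕ, ∀ a : A, a ^ (2 ^ (n + 1)) = 1 → t a = a := by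
    intro n
    induction n with
    | zero =>
      intro a ha
      apply hb
      simpa [pow_two] using ha
    | succ n ih =>
      intro a ha
      have h1 : t (a * a) = a * a := by
        apply ih
        rw [← pow_two, ← pow_mul, ← pow_succ']
        exact ha
      have hbsq : (t a * a⁻¹) * (t a * a⁻¹) = 1 := by
        have : (t a * a⁻¹) * (t a * a⁻¹) = t (a * a) * (a * a)⁻¹ := by
          rw [map_mul, mul_inv]; exact mul_mul_mul_comm _ _ _ _
        rw [this, h1, mul_inv_cancel]
      have h2 : t (t a * a⁻¹) = t a * a⁻¹ := hb _ hbsq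
      apply hC
      have h3 : t a = (t a * a⁻¹) * a := by simp
      calc t (t a) = t ((t a * a⁻¹) * a) := by rw [← h3]
        _ = t (t a * a⁻¹) * t a := map_mul _ _ _
        _ = (t a * a⁻¹) * ((t a * a⁻¹) * a) := by rw [h2, ← h3]
        _ = ((t a * a⁻¹) * (t a * a⁻¹)) * a := by simp only [mul_assoc]
        _ = a := by rw [hbsq, one_mul]
  intro a
  obtain ⟨n, hn⟩ := hA a
  apply main n
  rw [pow_succ, pow_mul, hn, one_pow]

end Cfsg.Agent.S1780
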