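import Cfsg.Statements.S1781
import Cfsg.Agent.S1780
import Cfsg.Agent.Lib.Helper3_Conj

set_option autoImplicit false
open Cfsg

namespace Cfsg.Agent.S1781

open Cfsg.Agent.Lib.Helper3_Conj
open scoped commutatorElement

variable {G : Type*} [Group G] [Finite G]

/-- TI-property, in elementwise form: a nontrivial common element forces equality. -/
theorem ti_eq (A : Subgroup G)
    (hti : ∀ h : G, A.map (MulAut.conj h).toMonoidHom = A ∨ A.map (MulAut.conj h).toMonoidHom ⊓ A = ⊥)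
    (h x : G) (hx1 : x ≠ 1) (hxA : x ∈ A) (hxh : h⁻¹ * x * h ∈ A) :
    h ∈ Subgroup.normalizer (A : Set G) := by
  rcases hti h with h1 | h1
  · exact mem_normalizer_of_map_conj_eq_self A h h1
  · exfalso
    have : x ∈ A.map (MulAut.conj h).toMonoidHom ⊓ A := ⟨(mem_map_conj A h x).mpr hxh, hxA⟩
    rw [h1, Subgroup.mem_bot] at this
    exact hx1 this

/-- The key step: an element `a ∈ A ∩ N(B)` with `a² ≠ 1` centralizes `B`. -/
theorem key (A B : Subgroup G) (hA2 : IsPGroup 2 ↥A)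
    (hti : ∀ h : G, A.map (MulAut.conj h).toMonoidHom = A ∨ A.map (MulAut.conj h).toMonoidHom ⊓ A = ⊥)
    (hB2 : IsPGroup 2 ↥B) (hBa : IsMulCommutative ↥B) (hAB : A ⊓ B = ⊥)
    (a : G) (haA : a ∈ A) (haN : a ∈ Subgroup.normalizer (B : Set G)) (ha2 : a ^ 2 ≠ 1) :
    ∀ b ∈ B, a * b * a⁻¹ = b := by
  let _ : CommGroup ↥B := { (inferInstance : Group ↥B) with mul_comm := fun x y => mul_comm' x y }
  set t : MulAut ↥B := B.normalizerMonoidHom ⟨a, haN⟩ with ht
  have ht_apply : ∀ b : ↥B, ((t b : ↥B) : G) = a * b * a⁻¹ := fun b => rfl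
  have hord : ∃ k : ℕ, orderOf t = 2 ^ k := by
    obtain ⟨k, hk⟩ := (IsPGroup.iff_orderOf.mp hA2) ⟨a, haA⟩
    have h1 : orderOf (⟨a, haN⟩ : ↥(Subgroup.normalizer (B : Set G))) = 2 ^ k := by
      rw [← hk, Subgroup.orderOf_mk, Subgroup.orderOf_mk]
    have h2 : orderOf t ∣ 2 ^ k := by
      rw [← h1]; exact orderOf_map_dvd _ _
    obtain ⟨j, -, hj⟩ := (Nat.dvd_prime_pow Nat.prime_two).mp h2
    exact ⟨j, hj⟩
  have hC : ∀ b : ↥B, t (t b) = b → t b = b := by
    intro b hb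
    have hb' : a * (a * (b : G) * a⁻¹) * a⁻¹ = b := by
      have := congrArg Subtype.val hb
      rw [ht_apply, ht_apply] at this
      exact this
    -- b normalizes A
    have hbN : (b : G) ∈ Subgroup.normalizer (A : Set G) := by
      apply ti_eq A hti (b : G) (a ^ 2) ha2 (A.pow_mem haA 2)
      have e : (b : G)⁻¹ * a ^ 2 * (b : G) = a ^ 2 := by
        calc (b : G)⁻¹ * a ^ 2 * (b : G) = (b : G)⁻¹ * (a * (a * (b : G) * a⁻¹) * a⁻¹) * a ^ 2 := by
              rw [pow_two]; group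
          _ = (b : G)⁻¹ * (b : G) * a ^ 2 := by rw [hb']
          _ = a ^ 2 := by group
      rw [e]; exact A.pow_mem haA 2
    have hcA : a * (b : G) * a⁻¹ * (b : G)⁻¹ ∈ A := by
      have h1 : (b : G) * a⁻¹ * (b : G)⁻¹ ∈ A :=
        (Subgroup.mem_normalizer_iff.mp hbN a⁻¹).mp (A.inv_mem haA)
      have e : a * (b : G) * a⁻¹ * (b : G)⁻¹ = a * ((b : G) * a⁻¹ * (b : G)⁻¹) := by group
      rw [e]; exact A.mul_mem haA h1
    have hcB : a * (b : G) * a⁻¹ * (b : G)⁻¹ ∈ B := by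
      have h1 : a * (b : G) * a⁻¹ ∈ B := (Subgroup.mem_normalizer_iff.mp haN b).mp b.2
      exact B.mul_mem h1 (B.inv_mem b.2)
    have h1 : a * (b : G) * a⁻¹ * (b : G)⁻¹ ∈ A ⊓ B := ⟨hcA, hcB⟩
    rw [hAB, Subgroup.mem_bot] at h1
    apply Subtype.ext
    rw [ht_apply]
    exact mul_inv_eq_one.mp h1
  have hfin := Cfsg.Agent.S1780.result hB2 t hord hC
  intro b hb
  have := congrArg Subtype.val (hfin ⟨b, hb⟩)
  rw [ht_apply] at this
  exact this

/-- Let A be an abelian 2-subgroup of the finite group G such that every conjugate of A equals A or meets A trivially, and let g ∈ G with g A g⁻¹ ≠ A. Then either the subgroup of those elements of A that normalize g A g⁻¹ is an elementary abelian 2-group, or A and g A g⁻¹ commute elementwise. -/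
theorem result {G : Type*} [Group G] [Finite G] (A : Subgroup G)
    (hA2 : IsPGroup 2 ↥A) (hAa : IsMulCommutative ↥A)
    (hti : ∀ h : G, A.map (MulAut.conj h).toMonoidHom = A ∨ A.map (MulAut.conj h).toMonoidHom ⊓ A = ⊥)
    (g : G) (hg : A.map (MulAut.conj g).toMonoidHom ≠ A) :
    Cfsg.IsElementaryAbelian 2 (A ⊓ Subgroup.normalizer ((A.map (MulAut.conj g).toMonoidHom : Subgroup G) : Set G)) ∨
      ⁅A, A.map (MulAut.conj g).toMonoidHom⁆ = ⊥ := by
  set B := A.map (MulAut.conj g).toMonoidHom with hB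
  have hinj : Function.Injective (MulAut.conj g).toMonoidHom := (MulAut.conj g).injective
  have hAB : A ⊓ B = ⊥ := by
    rcases hti g with h1 | h1
    · exact absurd h1 hg
    · rw [inf_comm]; exact h1
  have hBA : B ⊓ A = ⊥ := by rw [inf_comm]; exact hAB
  have hB2 : IsPGroup 2 ↥B := hA2.map _
  have hBa : IsMulCommutative ↥B := by
    refine ⟨⟨?_⟩⟩
    rintro ⟨_, ⟨x, hx, rfl⟩⟩ ⟨_, ⟨y, hy, rfl⟩⟩
    apply Subtype.ext
    show (MulAut.conj g).toMonoidHom x * (MulAut.conj g).toMonoidHom y =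
      (MulAut.conj g).toMonoidHom y * (MulAut.conj g).toMonoidHom x
    rw [← map_mul, ← map_mul]
    congr 1
    exact congrArg Subtype.val (mul_comm' (⟨x, hx⟩ : ↥A) ⟨y, hy⟩)
  have htiB : ∀ h : G, B.map (MulAut.conj h).toMonoidHom = B ∨
      B.map (MulAut.conj h).toMonoidHom ⊓ B = ⊥ := by
    intro h
    have e : B.map (MulAut.conj h).toMonoidHom =
        (A.map (MulAut.conj (g⁻¹ * h * g)).toMonoidHom).map (MulAut.conj g).toMonoidHom := by
      rw [hB, map_conj_map_conj, map_conj_map_conj]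
      congr 3
      group
    rcases hti (g⁻¹ * h * g) with h1 | h1
    · left
      rw [e, h1]
    · right
      rw [e, hB, ← Subgroup.map_inf_eq _ _ _ hinj, h1, Subgroup.map_bot]
  by_cases hel : ∀ a ∈ A ⊓ Subgroup.normalizer ((B : Subgroup G) : Set G), a ^ 2 = 1
  · left
    refine ⟨?_, hel⟩
    refine ⟨⟨?_⟩⟩
    rintro ⟨x, hx⟩ ⟨y, hy⟩
    apply Subtype.ext
    show x * y = y * x
    exact congrArg Subtype.val (mul_comm' (⟨x, hx.1⟩ : ↥A) ⟨y, hy.1⟩)
  right
  push Not at hel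
  obtain ⟨a, ⟨haA, haN⟩, ha2⟩ := hel
  have ha1 : a ≠ 1 := by
    rintro rfl
    exact ha2 (one_pow 2)
  -- a centralizes B
  have haB := key A B hA2 hti hB2 hBa hAB a haA haN ha2
  -- B normalizes A
  have hBN : B ≤ Subgroup.normalizer (A : Set G) := by
    intro b hb
    apply ti_eq A hti b a ha1 haA
    have e : b⁻¹ * a * b = a := by
      have := haB b hb
      calc b⁻¹ * a * b = b⁻¹ * (a * b * a⁻¹) * a := by group
        _ = b⁻¹ * b * a := by rw [this]
        _ = a := by group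
    rw [e]; exact haA
  -- the conjugate of a in B
  set b₀ := g * a * g⁻¹ with hb₀
  have hb₀B : b₀ ∈ B := conj_mem_map_conj A g a haA
  have hb₀2 : b₀ ^ 2 ≠ 1 := by
    intro h
    apply ha2
    have e : b₀ ^ 2 = g * a ^ 2 * g⁻¹ := by rw [hb₀, pow_two, pow_two]; group
    rw [e] at h
    have : a ^ 2 = g⁻¹ * (g * a ^ 2 * g⁻¹) * g := by group
    rw [this, h]; group
  have hb₀1 : b₀ ≠ 1 := by
    intro h
    apply hb₀2
    rw [h]; exact one_pow 2
  have hb₀A := key B A hB2 htiB hA2 hAa hBA b₀ hb₀B (hBN hb₀B) hb₀2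
  -- A normalizes B
  have hAN : A ≤ Subgroup.normalizer (B : Set G) := by
    intro a' ha'
    apply ti_eq B htiB a' b₀ hb₀1 hb₀B
    have e : a'⁻¹ * b₀ * a' = b₀ := by
      have := hb₀A a' ha'
      calc a'⁻¹ * b₀ * a' = a'⁻¹ * (b₀ * a' * b₀⁻¹) * b₀ := by group
        _ = a'⁻¹ * a' * b₀ := by rw [this]
        _ = b₀ := by group
    rw [e]; exact hb₀B
  rw [eq_bot_iff, Subgroup.commutator_le]
  intro x hx y hy
  rw [← hAB]
  constructor
  · have h1 : y * x⁻¹ * y⁻¹ ∈ A := (Subgroup.mem_normalizer_iff.mp (hBN hy) x⁻¹).mp (A.inv_mem hx)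
    have e : ⁅x, y⁆ = x * (y * x⁻¹ * y⁻¹) := by rw [commutatorElement_def]; group
    rw [e]; exact A.mul_mem hx h1
  · have h1 : x * y * x⁻¹ ∈ B := (Subgroup.mem_normalizer_iff.mp (hAN hx) y).mp hy
    rw [commutatorElement_def]
    exact B.mul_mem h1 (B.inv_mem hy)

end Cfsg.Agent.S1781
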