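import Cfsg.Statements.S1782
import Mathlib
import Cfsg.Agent.Lib.Helper4_Frattini

set_option autoImplicit false
open Cfsg

namespace Cfsg.Agent.S1782

universe u

section words
variable {G : Type*} [Group G]

theorem wordD (a b : G) (h1 : a * (b * a⁻¹ * b⁻¹) = (b * a⁻¹ * b⁻¹) * a)
    (h2 : b⁻¹ * (a * b * a⁻¹) = (a * b * a⁻¹) * b⁻¹) :
    b * (a * a * b * a⁻¹ * a⁻¹) = a * (b * b) * a⁻¹ := by
  have e1 : a * (a * b * a⁻¹ * b⁻¹) * a⁻¹ = a * b * a⁻¹ * b⁻¹ := by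
    calc a * (a * b * a⁻¹ * b⁻¹) * a⁻¹ = a * (a * (b * a⁻¹ * b⁻¹)) * a⁻¹ := by group
      _ = a * ((b * a⁻¹ * b⁻¹) * a) * a⁻¹ := by rw [h1]
      _ = a * b * a⁻¹ * b⁻¹ := by group
  calc b * (a * a * b * a⁻¹ * a⁻¹)
      = b * ((a * (a * b * a⁻¹ * b⁻¹) * a⁻¹) * (a * b * a⁻¹)) := by group
    _ = b * ((a * b * a⁻¹ * b⁻¹) * (a * b * a⁻¹)) := by rw [e1]
    _ = b * ((b⁻¹ * (a * b * a⁻¹)) * (a * b * a⁻¹)) := by rw [← h2]
    _ = a * (b * b) * a⁻¹ := by group

theorem wordG (a b x : G) (h1 : b * (a * x * a⁻¹) = (a * x * a⁻¹) * b)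
    (h2 : b * x * b⁻¹ = x⁻¹) :
    (x * a * x⁻¹ * a⁻¹) * b * (x * a * x⁻¹ * a⁻¹)⁻¹ * b⁻¹ = x * x := by
  calc (x * a * x⁻¹ * a⁻¹) * b * (x * a * x⁻¹ * a⁻¹)⁻¹ * b⁻¹
      = (x * a * x⁻¹ * a⁻¹) * (b * (a * x * a⁻¹)) * b⁻¹ * (b * x * b⁻¹)⁻¹ := by group
    _ = (x * a * x⁻¹ * a⁻¹) * ((a * x * a⁻¹) * b) * b⁻¹ * (x⁻¹)⁻¹ := by rw [h1, h2]
    _ = x * x := by group

end words

section main
variable {S : Type*} [Group S]

theorem mem_nz_of_map_eq (V : Subgroup S) (g : S)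
    (h : V.map (MulAut.conj g).toMonoidHom = V) : g ∈ Subgroup.normalizer (V : Set S) := by
  rw [Subgroup.mem_normalizer_iff]
  intro x
  constructor
  · intro hx
    rw [← h]
    exact ⟨x, hx, by simp⟩
  · intro hx
    rw [← h] at hx
    obtain ⟨v, hv, hvx⟩ := hx
    simp only [MulEquiv.coe_toMonoidHom, MulAut.conj_apply] at hvx
    have : v = x := by
      have := congrArg (fun t => g⁻¹ * t * g) hvx
      simpa [mul_assoc] using this
    rwa [← this]

/-- The hypotheses in element form. -/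
structure Good (Δ : Set (Subgroup S)) : Prop where
  inv : ∀ s : S, ∀ R ∈ Δ, R.map (MulAut.conj s).toMonoidHom ∈ Δ
  ord : ∀ R ∈ Δ, ∀ T ∈ Δ, Nat.card ↥R = Nat.card ↥T
  ti : ∀ R ∈ Δ, ∀ T ∈ Δ, R = T ∨ R ⊓ T = ⊥
  comm : ∀ X ∈ Δ, ∀ s : S, s ∉ Subgroup.normalizer (X : Set S) →
    ∀ x ∈ X, ∀ y ∈ X, x * (s * y * s⁻¹) = (s * y * s⁻¹) * x

variable {Δ : Set (Subgroup S)}

theorem Ltriv (hG : Good Δ) {X : Subgroup S} (hX : X ∈ Δ) {s : S}
    (hs : s ∉ Subgroup.normalizer (X : Set S)) {x y : S} (hx : x ∈ X) (hy : y ∈ X)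
    (h : x = s * y * s⁻¹) : x = 1 := by
  rcases hG.ti X hX _ (hG.inv s X hX) with h1 | h1
  · exact absurd (mem_nz_of_map_eq X s h1.symm) hs
  · have hx2 : x ∈ X.map (MulAut.conj s).toMonoidHom := ⟨y, hy, by simp [h]⟩
    have : x ∈ X ⊓ X.map (MulAut.conj s).toMonoidHom := Subgroup.mem_inf.2 ⟨hx, hx2⟩
    rw [h1] at this
    exact Subgroup.mem_bot.mp this

theorem bmap_mem (hG : Good Δ) {A B : Subgroup S} (hA : A ∈ Δ) {a b : S}
    (hb : b ∈ B) (hbN : b ∉ Subgroup.normalizer (A : Set S)) (ha : a ∈ A)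
    (haN : a ∈ Subgroup.normalizer (B : Set S)) :
    a * b * a⁻¹ * b⁻¹ ∈ B ⊓ Subgroup.normalizer (A : Set S) := by
  refine Subgroup.mem_inf.2 ⟨?_, ?_⟩
  · exact B.mul_mem ((Subgroup.mem_normalizer_iff.mp haN b).mp hb) (B.inv_mem hb)
  · have e : a * b * a⁻¹ * b⁻¹ = a * (b * a⁻¹ * b⁻¹) := by group
    rw [e]
    refine Subgroup.mul_mem _ (Subgroup.le_normalizer ha) ?_
    apply Subgroup.centralizer_le_normalizer
    rw [Subgroup.mem_centralizer_iff]
    intro h hh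
    exact hG.comm A hA b hbN h hh a⁻¹ (A.inv_mem ha)

theorem bmap_inj (hG : Good Δ) {A : Subgroup S} (hA : A ∈ Δ) {b : S}
    (hbN : b ∉ Subgroup.normalizer (A : Set S)) {a a' : S} (ha : a ∈ A) (ha' : a' ∈ A)
    (h : a * b * a⁻¹ * b⁻¹ = a' * b * a'⁻¹ * b⁻¹) : a = a' := by
  have e : a'⁻¹ * a = b * (a'⁻¹ * a) * b⁻¹ := by
    calc a'⁻¹ * a = a'⁻¹ * (a * b * a⁻¹ * b⁻¹) * (b * a * b⁻¹) := by group
      _ = a'⁻¹ * (a' * b * a'⁻¹ * b⁻¹) * (b * a * b⁻¹) := by rw [h]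
      _ = b * (a'⁻¹ * a) * b⁻¹ := by group
  have hx : a'⁻¹ * a ∈ A := A.mul_mem (A.inv_mem ha') ha
  have := Ltriv hG hA hbN hx hx e
  exact (inv_mul_eq_one.mp this).symm

theorem card_le [Finite S] (hG : Good Δ) {A B : Subgroup S} (hA : A ∈ Δ) {b : S}
    (hb : b ∈ B) (hbN : b ∉ Subgroup.normalizer (A : Set S)) :
    Nat.card ↥(A ⊓ Subgroup.normalizer (B : Set S)) ≤
      Nat.card ↥(B ⊓ Subgroup.normalizer (A : Set S)) := by
  apply Nat.card_le_card_of_injective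
    (fun a : ↥(A ⊓ Subgroup.normalizer (B : Set S)) =>
      (⟨a.1 * b * a.1⁻¹ * b⁻¹, bmap_mem hG hA hb hbN (Subgroup.mem_inf.1 a.2).1
        (Subgroup.mem_inf.1 a.2).2⟩ : ↥(B ⊓ Subgroup.normalizer (A : Set S))))
  intro a a' h
  apply Subtype.ext
  exact bmap_inj hG hA hbN (Subgroup.mem_inf.1 a.2).1 (Subgroup.mem_inf.1 a'.2).1
    (congrArg Subtype.val h)

theorem exists_not_norm [Finite S] (hG : Good Δ) {A B : Subgroup S} (hA : A ∈ Δ) (hB : B ∈ Δ)
    {b : S} (hb : b ∈ B) (hbN : b ∉ Subgroup.normalizer (A : Set S)) :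
    ∃ a ∈ A, a ∉ Subgroup.normalizer (B : Set S) := by
  by_contra hcon
  push_neg at hcon
  have hle : A ≤ Subgroup.normalizer (B : Set S) := hcon
  have h1 : A ⊓ Subgroup.normalizer (B : Set S) = A := inf_eq_left.mpr hle
  have h2 := card_le hG hA hb hbN
  rw [h1] at h2
  have h3 : B ⊓ Subgroup.normalizer (A : Set S) = B :=
    Subgroup.eq_of_le_of_card_ge inf_le_left (by rw [← hG.ord A hA B hB]; exact h2)
  have h4 : b ∈ B ⊓ Subgroup.normalizer (A : Set S) := by rw [h3]; exact hb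
  exact hbN (Subgroup.mem_inf.1 h4).2

theorem exists_sq_norm (hS : IsPGroup 2 S) (A B : Subgroup S) {a₀ : S} (ha₀ : a₀ ∈ A)
    (hN : a₀ ∉ Subgroup.normalizer (B : Set S)) :
    ∃ a ∈ A, a ∉ Subgroup.normalizer (B : Set S) ∧ a * a ∈ Subgroup.normalizer (B : Set S) := by
  have key : ∀ k : ℕ, ∀ a ∈ A, a ∉ Subgroup.normalizer (B : Set S) →
      a ^ (2 ^ k) ∈ Subgroup.normalizer (B : Set S) →
      ∃ a ∈ A, a ∉ Subgroup.normalizer (B : Set S) ∧
        a * a ∈ Subgroup.normalizer (B : Set S) := by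
    intro k
    induction k with
    | zero =>
      intro a _ haN hk
      rw [pow_zero, pow_one] at hk
      exact absurd hk haN
    | succ k ih =>
      intro a ha haN hk
      by_cases haa : a * a ∈ Subgroup.normalizer (B : Set S)
      · exact ⟨a, ha, haN, haa⟩
      · apply ih (a * a) (A.mul_mem ha ha) haa
        rw [← pow_two, ← pow_mul, ← pow_succ']
        exact hk
  obtain ⟨k, hk⟩ := hS a₀
  exact key k a₀ ha₀ hN (by rw [hk]; exact Subgroup.one_mem _)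

theorem invol [Finite S] (hG : Good Δ) (hS : IsPGroup 2 S) {A B : Subgroup S} (hA : A ∈ Δ)
    (hB : B ∈ Δ) {b₀ : S} (hb₀ : b₀ ∈ B) (hb₀N : b₀ ∉ Subgroup.normalizer (A : Set S)) :
    ∀ b ∈ B, b ∉ Subgroup.normalizer (A : Set S) → b * b = 1 := by
  obtain ⟨a₀, ha₀, ha₀N⟩ := exists_not_norm hG hA hB hb₀ hb₀N
  obtain ⟨a, ha, haN, haa⟩ := exists_sq_norm hS A B ha₀ ha₀N
  intro b hb hbN
  have h1 := hG.comm A hA b hbN a ha a⁻¹ (A.inv_mem ha)
  have h2 := hG.comm B hB a haN b⁻¹ (B.inv_mem hb) b hb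
  have key := wordD a b h1 h2
  have hu : b * (a * a * b * a⁻¹ * a⁻¹) ∈ B := by
    refine B.mul_mem hb ?_
    have e : a * a * b * a⁻¹ * a⁻¹ = (a * a) * b * (a * a)⁻¹ := by group
    rw [e]
    exact (Subgroup.mem_normalizer_iff.mp haa b).mp hb
  have h3 := Ltriv hG hB haN hu (B.mul_mem hb hb) key
  rw [h3] at key
  exact conj_eq_one_iff.mp key.symm

theorem inverts {A B : Subgroup S}
    (hinv : ∀ b ∈ B, b ∉ Subgroup.normalizer (A : Set S) → b * b = 1) {b x : S} (hb : b ∈ B)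
    (hbN : b ∉ Subgroup.normalizer (A : Set S)) (hx : x ∈ B)
    (hxN : x ∈ Subgroup.normalizer (A : Set S)) : b * x * b⁻¹ = x⁻¹ := by
  have hbx : b * x ∉ Subgroup.normalizer (A : Set S) := by
    intro h
    apply hbN
    have e : b = (b * x) * x⁻¹ := by group
    rw [e]
    exact Subgroup.mul_mem _ h (Subgroup.inv_mem _ hxN)
  have e1 := hinv b hb hbN
  have e2 := hinv (b * x) (B.mul_mem hb hx) hbx
  calc b * x * b⁻¹ = (b * x * (b * x)) * x⁻¹ * (b * b)⁻¹ := by group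
    _ = x⁻¹ := by rw [e1, e2]; group

theorem noinvol (hG : Good Δ) {A B : Subgroup S} (hA : A ∈ Δ) (hB : B ∈ Δ)
    (hinv : ∀ b ∈ B, b ∉ Subgroup.normalizer (A : Set S) → b * b = 1) {a b : S} (ha : a ∈ A)
    (haN : a ∉ Subgroup.normalizer (B : Set S)) (hb : b ∈ B)
    (hbN : b ∉ Subgroup.normalizer (A : Set S)) :
    ∀ x ∈ B, x ∈ Subgroup.normalizer (A : Set S) → x * x = 1 → x = 1 := by
  intro x hx hxN hxx
  have hy := bmap_mem hG hB ha haN hx hxN
  have h1 := hG.comm B hB a haN b hb x hx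
  have h2 := inverts hinv hb hbN hx hxN
  have hz := wordG a b x h1 h2
  rw [hxx] at hz
  have hy1 : x * a * x⁻¹ * a⁻¹ = 1 :=
    bmap_inj hG hA hbN (Subgroup.mem_inf.1 hy).1 (A.one_mem) (by rw [hz]; group)
  exact bmap_inj hG hB haN hx (B.one_mem) (by rw [hy1]; group)

theorem trivial_of_noinvol (hS : IsPGroup 2 S) (H : Subgroup S)
    (h : ∀ x ∈ H, x * x = 1 → x = 1) : ∀ x ∈ H, x = 1 := by
  have key : ∀ k : ℕ, ∀ x ∈ H, x ^ (2 ^ k) = 1 → x = 1 := by
    intro k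
    induction k with
    | zero =>
      intro x _ hk
      rwa [pow_zero, pow_one] at hk
    | succ k ih =>
      intro x hx hk
      apply h x hx
      apply ih (x * x) (H.mul_mem hx hx)
      rw [← pow_two, ← pow_mul, ← pow_succ']
      exact hk
  intro x hx
  obtain ⟨k, hk⟩ := hS x
  exact key k x hx hk

theorem pair_commute [Finite S] (hG : Good Δ) (hS : IsPGroup 2 S)
    (hsq : ∀ R ∈ Δ, ∃ r ∈ R, r * r ≠ 1) {A B : Subgroup S} (hA : A ∈ Δ) (hB : B ∈ Δ)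
    (hAB : A ≠ B) : ∀ a ∈ A, ∀ b ∈ B, a * b = b * a := by
  by_contra hnc
  push_neg at hnc
  have hbot : A ⊓ B = ⊥ := (hG.ti A hA B hB).resolve_left hAB
  have hex : ∃ b ∈ B, b ∉ Subgroup.normalizer (A : Set S) := by
    by_contra hcon
    push_neg at hcon
    by_cases hA' : ∃ a ∈ A, a ∉ Subgroup.normalizer (B : Set S)
    · obtain ⟨a, ha, haN⟩ := hA'
      obtain ⟨b, hb, hbN⟩ := exists_not_norm hG hB hA ha haN
      exact hbN (hcon b hb)
    · push_neg at hA'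
      obtain ⟨a, ha, b, hb, hab⟩ := hnc
      apply hab
      have hc : a * b * a⁻¹ * b⁻¹ ∈ A ⊓ B := by
        refine Subgroup.mem_inf.2 ⟨?_, ?_⟩
        · have e : a * b * a⁻¹ * b⁻¹ = a * (b * a⁻¹ * b⁻¹) := by group
          rw [e]
          exact A.mul_mem ha
            ((Subgroup.mem_normalizer_iff.mp (hcon b hb) a⁻¹).mp (A.inv_mem ha))
        · exact B.mul_mem ((Subgroup.mem_normalizer_iff.mp (hA' a ha) b).mp hb) (B.inv_mem hb)
      rw [hbot, Subgroup.mem_bot] at hc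
      calc a * b = (a * b * a⁻¹ * b⁻¹) * (b * a) := by group
        _ = b * a := by rw [hc, one_mul]
  obtain ⟨b₀, hb₀, hb₀N⟩ := hex
  obtain ⟨a₀, ha₀, ha₀N⟩ := exists_not_norm hG hA hB hb₀ hb₀N
  have invB := invol hG hS hA hB hb₀ hb₀N
  have noB := noinvol hG hA hB invB ha₀ ha₀N hb₀ hb₀N
  have trivB : ∀ x ∈ B ⊓ Subgroup.normalizer (A : Set S), x = 1 :=
    trivial_of_noinvol hS _ (fun x hx => noB x (Subgroup.mem_inf.1 hx).1 (Subgroup.mem_inf.1 hx).2)
  obtain ⟨r, hr, hrr⟩ := hsq B hB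
  apply hrr
  by_cases hrN : r ∈ Subgroup.normalizer (A : Set S)
  · have := trivB r (Subgroup.mem_inf.2 ⟨hr, hrN⟩)
    rw [this, one_mul]
  · exact invB r hr hrN

end main

theorem core : ∀ n : ℕ, ∀ (S : Type u) [Group S] [Finite S], Nat.card S = n → IsPGroup 2 S →
    ∀ Δ : Set (Subgroup S), (∀ s : S, ∀ R ∈ Δ, R.map (MulAut.conj s).toMonoidHom ∈ Δ) →
    (∀ R ∈ Δ, ∃ r ∈ R, r * r ≠ 1) → (∀ R ∈ Δ, ∀ T ∈ Δ, Nat.card ↥R = Nat.card ↥T) →
    (∀ R ∈ Δ, ∀ T ∈ Δ, R = T ∨ R ⊓ T = ⊥) →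
    ∀ R ∈ Δ, ∀ T ∈ Δ, R ≠ T → ∀ r ∈ R, ∀ t ∈ T, r * t = t * r := by
  intro n
  induction n using Nat.strong_induction_on with
  | _ n ih =>
  intro S _ _ hcard hS Δ hinv hsq hord hti
  haveI : Fact (Nat.Prime 2) := ⟨Nat.prime_two⟩
  -- transfer lemma
  have TL : ∀ M : Subgroup S, M ≠ ⊤ → ∀ Y ∈ Δ, ∀ Z ∈ Δ, Y ≤ M → Z ≤ M → Y ≠ Z →
      ∀ y ∈ Y, ∀ z ∈ Z, y * z = z * y := by
    intro M hM Y hY Z hZ hYM hZM hYZ y hy z hz
    have hlt : Nat.card ↥M < n := by
      rw [← hcard]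
      exact lt_of_le_of_ne (Subgroup.card_le_card_group M)
        (fun h => hM ((Subgroup.card_eq_iff_eq_top M).mp h))
    have hYmap : (Y.subgroupOf M).map M.subtype = Y := Subgroup.map_subgroupOf_eq_of_le hYM
    have hZmap : (Z.subgroupOf M).map M.subtype = Z := Subgroup.map_subgroupOf_eq_of_le hZM
    have := ih (Nat.card ↥M) hlt ↥M rfl (hS.to_subgroup M)
      {Y' : Subgroup ↥M | Y'.map M.subtype ∈ Δ} ?_ ?_ ?_ ?_ (Y.subgroupOf M) ?_
      (Z.subgroupOf M) ?_ ?_ ⟨y, hYM hy⟩ ?_ ⟨z, hZM hz⟩ ?_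
    · exact congrArg Subtype.val this
    · -- hinv
      intro m Y' hY'
      simp only [Set.mem_setOf_eq] at hY' ⊢
      have e : (Y'.map (MulAut.conj m).toMonoidHom).map M.subtype =
          (Y'.map M.subtype).map (MulAut.conj (m : S)).toMonoidHom := by
        rw [Subgroup.map_map, Subgroup.map_map]
        congr 1
      rw [e]
      exact hinv _ _ hY'
    · -- hsq
      intro Y' hY'
      simp only [Set.mem_setOf_eq] at hY'
      obtain ⟨r, hr, hrr⟩ := hsq _ hY'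
      obtain ⟨r', hr', rfl⟩ := hr
      refine ⟨r', hr', ?_⟩
      intro h
      apply hrr
      have := congrArg M.subtype h
      simpa using this
    · -- hord
      intro Y' hY' Z' hZ'
      simp only [Set.mem_setOf_eq] at hY' hZ'
      have := hord _ hY' _ hZ'
      rwa [Subgroup.card_map_of_injective M.subtype_injective,
        Subgroup.card_map_of_injective M.subtype_injective] at this
    · -- hti
      intro Y' hY' Z' hZ'
      simp only [Set.mem_setOf_eq] at hY' hZ'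
      rcases hti _ hY' _ hZ' with h | h
      · left
        exact Subgroup.map_injective M.subtype_injective h
      · right
        rw [eq_bot_iff]
        intro x hx
        rw [Subgroup.mem_bot]
        have hx1 : (x : S) ∈ Y'.map M.subtype ⊓ Z'.map M.subtype :=
          Subgroup.mem_inf.2 ⟨⟨x, (Subgroup.mem_inf.1 hx).1, rfl⟩,
            ⟨x, (Subgroup.mem_inf.1 hx).2, rfl⟩⟩
        rw [h, Subgroup.mem_bot] at hx1
        exact Subtype.ext hx1
    · simp only [Set.mem_setOf_eq]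
      rw [hYmap]; exact hY
    · simp only [Set.mem_setOf_eq]
      rw [hZmap]; exact hZ
    · intro h
      apply hYZ
      rw [← hYmap, ← hZmap, h]
    · exact Subgroup.mem_subgroupOf.mpr hy
    · exact Subgroup.mem_subgroupOf.mpr hz
  -- Good
  haveI : Group.IsNilpotent S := hS.isNilpotent
  have hG : Good Δ := by
    refine ⟨hinv, hord, hti, ?_⟩
    intro X hX s hs x hx y hy
    have hXtop : X ≠ ⊤ := by
      intro h
      apply hs
      rw [Subgroup.mem_normalizer_iff]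
      intro g
      simp [h]
    rcases eq_top_or_exists_le_coatom X with h | ⟨M, hM, hXM⟩
    · exact absurd h hXtop
    · have hMn : M.Normal :=
        Subgroup.NormalizerCondition.normal_of_coatom M Group.normalizerCondition_of_isNilpotent hM
      have hcjM : X.map (MulAut.conj s).toMonoidHom ≤ M := by
        rintro _ ⟨v, hv, rfl⟩
        simp only [MulEquiv.coe_toMonoidHom, MulAut.conj_apply]
        exact hMn.conj_mem v (hXM hv) s
      have hne : X ≠ X.map (MulAut.conj s).toMonoidHom := by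
        intro h
        exact hs (mem_nz_of_map_eq X s h.symm)
      exact TL M hM.1 X hX _ (hinv s X hX) hXM hcjM hne x hx (s * y * s⁻¹) ⟨y, hy, by simp⟩
  intro R hR T hT hRT
  exact pair_commute hG hS hsq hR hT hRT

/-- Let S be a finite 2-group and Δ a set of subgroups of S closed under conjugation by S, all of the same order, each with nontrivial Frattini subgroup, and such that two distinct members of Δ meet trivially. Then any two distinct members of Δ commute elementwise. -/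
theorem result {S : Type*} [Group S] [Finite S] (hS : IsPGroup 2 S)
    (Δ : Set (Subgroup S)) (hinv : ∀ s : S, ∀ R ∈ Δ, R.map (MulAut.conj s).toMonoidHom ∈ Δ)
    (hΦ : ∀ R ∈ Δ, frattini ↥R ≠ ⊥) (hord : ∀ R ∈ Δ, ∀ T ∈ Δ, Nat.card ↥R = Nat.card ↥T)
    (hti : ∀ R ∈ Δ, ∀ T ∈ Δ, R = T ∨ R ⊓ T = ⊥) :
    ∀ R ∈ Δ, ∀ T ∈ Δ, R ≠ T → ⁅R, T⁆ = ⊥ := by
  intro R hR T hT hRT
  rw [Subgroup.commutator_eq_bot_iff_le_centralizer]
  intro r hr
  rw [Subgroup.mem_centralizer_iff]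
  intro t ht
  have hsq : ∀ R ∈ Δ, ∃ r ∈ R, r * r ≠ 1 := by
    intro R hR
    by_contra hcon
    push_neg at hcon
    apply hΦ R hR
    haveI : Fact (Nat.Prime 2) := ⟨Nat.prime_two⟩
    have h2 : ∀ x : ↥R, x * x = 1 := fun x => Subtype.ext (hcon x.1 x.2)
    apply Cfsg.Agent.Lib.Helper4_Frattini.frattini_eq_bot_of_elementary (p := 2)
    · intro a b
      calc a * b = (b * b) * (a * b) * (a * a) := by rw [h2 a, h2 b, one_mul, mul_one]
        _ = b * ((b * a) * (b * a)) * a := by group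
        _ = b * a := by rw [h2 (b * a), mul_one]
    · intro x
      rw [pow_two]
      exact h2 x
  exact (core (Nat.card S) S rfl hS Δ hinv hsq hord hti R hR T hT hRT r hr t ht).symm

end Cfsg.Agent.S1782
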