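import Cfsg.Statements.S1850
import Cfsg.Agent.Lib.Helper3_GFp3
import Cfsg.Agent.S2896

set_option autoImplicit false
open Cfsg

namespace Cfsg.Agent.S1850

/-- Let G be a non-abelian finite simple QTKE-group and T a Sylow 2-subgroup of G. If U is a nontrivial 2-subgroup of G with U ∩ Z(T) ≠ 1, then F*(N_G(U)) = O₂(N_G(U)). -/
theorem result {G : Type*} [Group G] [Finite G] [IsSimpleGroup G]
    (hG : ¬ IsMulCommutative G) (hQ : Cfsg.IsQTKE G) (T : Sylow 2 G) (U : Subgroup G)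
    (hU : IsPGroup 2 ↥U) (hZ : U ⊓ ((T : Subgroup G) ⊓ Subgroup.centralizer ((T : Subgroup G) : Set G)) ≠ ⊥) :
    Subgroup.normalizer (U : Set G) ∈ Cfsg.calHe G := by
  classical
  haveI : Fact (Nat.Prime 2) := ⟨Nat.prime_two⟩
  have hpar : Cfsg.IsOfParabolicCharacteristic 2 G := by
    rintro R hRp hR1 ⟨T', hT'⟩
    exact hQ.2.2 _ ⟨R, hRp, hR1, rfl⟩ ⟨T', hT'⟩
  obtain ⟨z, hzW, hzo⟩ := Cfsg.Agent.S2896.exists_order_p _ (hU.to_le inf_le_left) hZ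
  have h2 : 2 ∣ Nat.card G := by rw [← hzo]; exact orderOf_dvd_natCard z
  have hz1 : z ≠ 1 := by
    intro h0
    rw [h0, orderOf_one] at hzo
    omega
  have hzz : z ^ 2 = 1 := by rw [← hzo]; exact pow_orderOf_eq_one z
  have h1 := (Cfsg.Agent.S2896.result h2 T ⊥ bot_le).2.1.mp hpar z hz1
    (Subgroup.subset_closure ⟨hzW.2, hzz⟩)
  show Cfsg.generalizedFittingSubgroup ↥(Subgroup.normalizer (U : Set G)) =
    Cfsg.pCore 2 ↥(Subgroup.normalizer (U : Set G))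
  rw [← Cfsg.Agent.Lib.Helper3_GFp.gf_pgroup_iff 2]
  exact Cfsg.Agent.Lib.Helper3_GFp3.gf_pgroup_normalizer_of_mem 2 U hU z hzW.1
    ((Cfsg.Agent.Lib.Helper3_GFp.gf_pgroup_iff 2).mpr h1)

end Cfsg.Agent.S1850
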