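import Cfsg.Statements.S1892
import Cfsg.Agent.Lib.Helper6_HallHigman
import Cfsg.Agent.Lib.Helper4_PCore

set_option autoImplicit false
open Cfsg

namespace Cfsg.Agent.S1892

open scoped commutatorElement

/-- the subgroup of elements normalizing `P₁` and acting trivially on `P₀ / P₁` -/
def stab {S : Type*} [Group S] (P₀ P₁ : Subgroup S) [hn : P₀.Normal] : Subgroup S where
  carrier := {g | g ∈ Subgroup.normalizer (P₁ : Set S) ∧ ∀ x ∈ P₀, g * x * g⁻¹ * x⁻¹ ∈ P₁}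
  one_mem' := by
    refine ⟨Subgroup.one_mem _, ?_⟩
    intro x _
    have : (1 : S) * x * 1⁻¹ * x⁻¹ = 1 := by group
    rw [this]; exact Subgroup.one_mem _
  mul_mem' := by
    rintro g h ⟨hg1, hg2⟩ ⟨hh1, hh2⟩
    refine ⟨Subgroup.mul_mem _ hg1 hh1, ?_⟩
    intro x hx
    have e : g * h * x * (g * h)⁻¹ * x⁻¹ = g * (h * x * h⁻¹ * x⁻¹) * g⁻¹ * (g * x * g⁻¹ * x⁻¹) := by
      group
    rw [e]
    exact Subgroup.mul_mem _ ((Subgroup.mem_normalizer_iff.mp hg1 _).mp (hh2 x hx)) (hg2 x hx)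
  inv_mem' := by
    rintro g ⟨hg1, hg2⟩
    refine ⟨Subgroup.inv_mem _ hg1, ?_⟩
    intro x hx
    have hx' : g⁻¹ * x * g ∈ P₀ := by
      have := hn.conj_mem x hx g⁻¹
      rwa [inv_inv] at this
    have h := hg2 _ hx'
    have e : g⁻¹ * x * g⁻¹⁻¹ * x⁻¹ = (g * (g⁻¹ * x * g) * g⁻¹ * (g⁻¹ * x * g)⁻¹)⁻¹ := by group
    rw [e]
    exact Subgroup.inv_mem _ h

theorem conj_mem_stab {S : Type*} [Group S] (P₀ P₁ : Subgroup S) [hn : P₀.Normal] (g h : S)
    (hg : g ∈ stab P₀ P₁) (hh : h ∈ Subgroup.normalizer (P₁ : Set S)) :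
    h * g * h⁻¹ ∈ stab P₀ P₁ := by
  obtain ⟨hg1, hg2⟩ := hg
  refine ⟨Subgroup.mul_mem _ (Subgroup.mul_mem _ hh hg1) (Subgroup.inv_mem _ hh), ?_⟩
  intro x hx
  have hx' : h⁻¹ * x * h ∈ P₀ := by
    have := hn.conj_mem x hx h⁻¹
    rwa [inv_inv] at this
  have e : h * g * h⁻¹ * x * (h * g * h⁻¹)⁻¹ * x⁻¹
      = h * (g * (h⁻¹ * x * h) * g⁻¹ * (h⁻¹ * x * h)⁻¹) * h⁻¹ := by group
  rw [e]
  exact (Subgroup.mem_normalizer_iff.mp hh _).mp (hg2 _ hx')

/-- Let S be a finite p-solvable group with no nontrivial normal subgroup of order prime to p, A a p-subgroup of S, and Q a nontrivial A-invariant subgroup of order prime to p with [A, Q] = Q. Then the commutator [O_p(S), A, Q] is nontrivial. -/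
theorem result {S : Type*} [Group S] [Finite S] {p : ℕ} [Fact p.Prime]
    (hS : Cfsg.IsPSolvable p S) (hred : Cfsg.pPrimeCore p S = ⊥)
    (A Q : Subgroup S) (hA : IsPGroup p A) (hQ : ¬ p ∣ Nat.card Q) (hQ1 : Q ≠ ⊥)
    (hinv : ∀ a ∈ A, ∀ x ∈ Q, a * x * a⁻¹ ∈ Q) (hAQ : ⁅A, Q⁆ = Q) :
    ⁅⁅Cfsg.pCore p S, A⁆, Q⁆ ≠ ⊥ := by
  classical
  intro hbot
  haveI hPn : (Cfsg.pCore p S).Normal := Cfsg.Agent.Lib.Helper4_PCore.pCore_normal p S
  have hPp : IsPGroup p ↥(Cfsg.pCore p S) := Cfsg.Agent.Lib.Helper4_PCore.pCore_isPGroup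
  have hcent := Cfsg.Agent.Lib.Helper6_HallHigman.centralizer_pCore_le hS hred
  set P₀ := Cfsg.pCore p S with hP₀
  set P₁ := ⁅P₀, A⁆ with hP₁
  have hP₁le : P₁ ≤ P₀ := Subgroup.commutator_le_left P₀ A
  -- Q centralizes P₁
  have hQc : ∀ q ∈ Q, ∀ y ∈ P₁, q * y = y * q := by
    intro q hq y hy
    have h1 := (Subgroup.commutator_eq_bot_iff_le_centralizer.mp hbot) hy
    exact (Subgroup.mem_centralizer_iff.mp h1 q hq)
  -- A acts trivially on P₀ / P₁
  have hA2 : ∀ a ∈ A, ∀ x ∈ P₀, a * x * a⁻¹ * x⁻¹ ∈ P₁ := by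
    intro a ha x hx
    have h1 : ⁅x, a⁆ ∈ P₁ := Subgroup.commutator_mem_commutator hx ha
    have e : a * x * a⁻¹ * x⁻¹ = ⁅x, a⁆⁻¹ := by
      rw [commutatorElement_def]; group
    rw [e]; exact Subgroup.inv_mem _ h1
  have hA3 : ∀ a ∈ A, ∀ y ∈ P₁, a * y * a⁻¹ ∈ P₁ := by
    intro a ha y hy
    have h1 := hA2 a ha y (hP₁le hy)
    have e : a * y * a⁻¹ = a * y * a⁻¹ * y⁻¹ * y := by group
    rw [e]; exact Subgroup.mul_mem _ h1 hy
  have hAn : ∀ a ∈ A, a ∈ Subgroup.normalizer (P₁ : Set S) := by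
    intro a ha
    rw [Subgroup.mem_normalizer_iff]
    intro y
    constructor
    · exact hA3 a ha y
    · intro h
      have := hA3 a⁻¹ (Subgroup.inv_mem _ ha) _ h
      have e : a⁻¹ * (a * y * a⁻¹) * a⁻¹⁻¹ = y := by group
      rwa [e] at this
  have hQn : ∀ q ∈ Q, q ∈ Subgroup.normalizer (P₁ : Set S) := by
    intro q hq
    rw [Subgroup.mem_normalizer_iff]
    intro y
    constructor
    · intro hy
      have e : q * y * q⁻¹ = y := by rw [hQc q hq y hy]; group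
      rw [e]; exact hy
    · intro hy
      have h1 := hQc q⁻¹ (Subgroup.inv_mem _ hq) _ hy
      have e : y = q⁻¹ * (q * y * q⁻¹) * q := by group
      rw [e, h1]
      have e2 : q * y * q⁻¹ * q⁻¹ * q = q * y * q⁻¹ := by group
      rw [e2]; exact hy
  have hAK : ∀ a ∈ A, a ∈ stab P₀ P₁ := fun a ha => ⟨hAn a ha, hA2 a ha⟩
  have hQK : Q ≤ stab P₀ P₁ := by
    rw [← hAQ, Subgroup.commutator_le]
    intro a ha q hq
    have e : ⁅a, q⁆ = a * (q * a⁻¹ * q⁻¹) := by rw [commutatorElement_def]; group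
    rw [e]
    exact Subgroup.mul_mem _ (hAK a ha)
      (conj_mem_stab P₀ P₁ _ _ (hAK _ (Subgroup.inv_mem _ ha)) (hQn q hq))
  -- Q centralizes P₀
  have hQcent : Q ≤ Subgroup.centralizer (P₀ : Set S) := by
    intro q hq
    refine Subgroup.mem_centralizer_iff.mpr ?_
    intro x hx
    have hy : q * x * q⁻¹ * x⁻¹ ∈ P₁ := (hQK hq).2 x hx
    obtain ⟨y, hydef⟩ : ∃ y, y = q * x * q⁻¹ * x⁻¹ := ⟨_, rfl⟩
    rw [← hydef] at hy
    have hqy : q * y = y * q := hQc q hq y hy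
    have hpow : ∀ n : ℕ, q ^ n * x * (q ^ n)⁻¹ = y ^ n * x := by
      intro n
      induction n with
      | zero => simp
      | succ n ih =>
        have e : q ^ (n + 1) * x * (q ^ (n + 1))⁻¹ = q * (q ^ n * x * (q ^ n)⁻¹) * q⁻¹ := by
          rw [pow_succ']; group
        rw [e, ih]
        have e2 : q * (y ^ n * x) * q⁻¹ = (q * y ^ n * q⁻¹) * (q * x * q⁻¹) := by group
        rw [e2]
        have hc : Commute q (y ^ n) := (show Commute q y from hqy).pow_right n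
        have e3 : q * y ^ n * q⁻¹ = y ^ n := by rw [hc.eq]; group
        have e4 : q * x * q⁻¹ = y * x := by rw [hydef]; group
        rw [e3, e4, pow_succ, mul_assoc]
    have h1 := hpow (orderOf q)
    rw [pow_orderOf_eq_one] at h1
    have h2 : y ^ orderOf q = 1 := by
      have : y ^ orderOf q * x = x := by rw [← h1]; group
      exact mul_eq_right.mp this
    have h3 : orderOf y ∣ orderOf q := orderOf_dvd_of_pow_eq_one h2
    obtain ⟨k, hk⟩ := (IsPGroup.iff_orderOf.mp hPp) ⟨y, hP₁le hy⟩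
    have hk' : orderOf y = p ^ k := by
      rw [← hk]; exact (Subgroup.orderOf_mk y (hP₁le hy)).symm
    have hqd : orderOf q ∣ Nat.card Q := by
      have := orderOf_dvd_natCard (⟨q, hq⟩ : ↥Q)
      rwa [Subgroup.orderOf_mk] at this
    have hy1 : y = 1 := by
      rcases Nat.eq_zero_or_pos k with hk0 | hk0
      · rw [hk0, pow_zero] at hk'
        exact orderOf_eq_one_iff.mp hk'
      · exfalso
        apply hQ
        have : p ∣ p ^ k := dvd_pow_self p (Nat.pos_iff_ne_zero.mp hk0)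
        rw [← hk'] at this
        exact this.trans (h3.trans hqd)
    have : q * x * q⁻¹ * x⁻¹ = 1 := by rw [← hydef]; exact hy1
    have e5 : q * x = (q * x * q⁻¹ * x⁻¹) * x * q := by group
    rw [e5, this, one_mul]
  have hQP : Q ≤ P₀ := hQcent.trans hcent
  apply hQ1
  have hQp : IsPGroup p ↥Q := hPp.to_le hQP
  obtain ⟨n, hn⟩ := IsPGroup.iff_card.mp hQp
  rcases Nat.eq_zero_or_pos n with hn0 | hn0
  · rw [hn0, pow_zero] at hn
    exact Subgroup.card_eq_one.mp hn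
  · exfalso
    apply hQ
    rw [hn]
    exact dvd_pow_self p (Nat.pos_iff_ne_zero.mp hn0)

end Cfsg.Agent.S1892
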