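import Cfsg.Statements.S1977
import Cfsg.Agent.Lib.Helper2_Nilpotent
import Cfsg.Agent.S1960

set_option autoImplicit false
open Cfsg

namespace Cfsg.Agent.S1977

open scoped commutatorElement

variable {P : Type*} [Group P]

/-- the elements of `C(B)` that are central modulo `B` in `N(B)` -/
def SS (B : Subgroup P) : Subgroup P where
  carrier := {z | z ∈ Subgroup.centralizer (B : Set P) ∧ ∀ r ∈ Subgroup.normalizer (B : Set P), ⁅z, r⁆ ∈ B}
  one_mem' := by
    refine ⟨Subgroup.one_mem _, ?_⟩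
    intro r _
    rw [commutatorElement_one_left]; exact Subgroup.one_mem _
  mul_mem' := by
    rintro z₁ z₂ ⟨h1, h1'⟩ ⟨h2, h2'⟩
    refine ⟨Subgroup.mul_mem _ h1 h2, ?_⟩
    intro r hr
    have e : ⁅z₁ * z₂, r⁆ = z₁ * ⁅z₂, r⁆ * z₁⁻¹ * ⁅z₁, r⁆ := by
      simp only [commutatorElement_def]; group
    rw [e]
    have hc : z₁ * ⁅z₂, r⁆ * z₁⁻¹ = ⁅z₂, r⁆ := by
      have := (Subgroup.mem_centralizer_iff.mp h1) _ (h2' r hr)
      rw [← this]; group
    rw [hc]
    exact Subgroup.mul_mem _ (h2' r hr) (h1' r hr)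
  inv_mem' := by
    rintro z ⟨h1, h1'⟩
    refine ⟨Subgroup.inv_mem _ h1, ?_⟩
    intro r hr
    have e : ⁅z⁻¹, r⁆ = z⁻¹ * (⁅z, r⁆)⁻¹ * z := by
      simp only [commutatorElement_def]; group
    rw [e]
    have hb : (⁅z, r⁆)⁻¹ ∈ B := Subgroup.inv_mem _ (h1' r hr)
    have := (Subgroup.mem_centralizer_iff.mp h1) _ hb
    have hc : z⁻¹ * (⁅z, r⁆)⁻¹ * z = (⁅z, r⁆)⁻¹ := by
      rw [mul_assoc, this]; group
    rw [hc]; exact hb

theorem mem_SS (B : Subgroup P) (z : P) :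
    z ∈ SS B ↔ z ∈ Subgroup.centralizer (B : Set P) ∧ ∀ r ∈ Subgroup.normalizer (B : Set P), ⁅z, r⁆ ∈ B :=
  Iff.rfl

/-- commutators of elements of `SS B` with elements of `N(B)` lie in `Z(B)`. -/
theorem comm_SS (B : Subgroup P) (z : P) (hz : z ∈ SS B) (r : P)
    (hr : r ∈ Subgroup.normalizer (B : Set P)) :
    ⁅z, r⁆ ∈ B ⊓ Subgroup.centralizer (B : Set P) := by
  refine ⟨hz.2 r hr, ?_⟩
  have hz1 := hz.1
  have h2 : r * z⁻¹ * r⁻¹ ∈ Subgroup.centralizer (B : Set P) := by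
    rw [Subgroup.mem_centralizer_iff]
    intro b hb
    have hb' : r⁻¹ * b * r ∈ B := by
      have := (Subgroup.mem_normalizer_iff.mp (Subgroup.inv_mem _ hr) b).mp hb
      rwa [inv_inv] at this
    have := (Subgroup.mem_centralizer_iff.mp (Subgroup.inv_mem _ hz1)) _ hb'
    calc b * (r * z⁻¹ * r⁻¹) = r * ((r⁻¹ * b * r) * z⁻¹) * r⁻¹ := by group
      _ = r * (z⁻¹ * (r⁻¹ * b * r)) * r⁻¹ := by rw [this]
      _ = r * z⁻¹ * r⁻¹ * b := by group
  have e : ⁅z, r⁆ = z * (r * z⁻¹ * r⁻¹) := by rw [commutatorElement_def]; group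
  rw [e]
  exact Subgroup.mul_mem _ hz1 h2

/-- decomposition of elements of `B ⊔ Z` when `Z` centralizes `B`. -/
theorem mem_sup_cent (B Z : Subgroup P) (hZ : Z ≤ Subgroup.centralizer (B : Set P)) (g : P)
    (hg : g ∈ B ⊔ Z) : ∃ b ∈ B, ∃ z ∈ Z, g = b * z := by
  have hle : Z ≤ Subgroup.normalizer (B : Set P) := hZ.trans (Subgroup.centralizer_le_normalizer _)
  have h := Subgroup.coe_mul_of_right_le_normalizer_left B Z hle
  have hg' : g ∈ ((B ⊔ Z : Subgroup P) : Set P) := hg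
  rw [h, Set.mem_mul] at hg'
  obtain ⟨b, hb, z, hz, rfl⟩ := hg'
  exact ⟨b, hb, z, hz, rfl⟩

theorem cent_sup (B Z X : Subgroup P) (h1 : X ≤ Subgroup.centralizer (B : Set P))
    (h2 : X ≤ Subgroup.centralizer (Z : Set P)) :
    X ≤ Subgroup.centralizer ((B ⊔ Z : Subgroup P) : Set P) := by
  rw [Subgroup.le_centralizer_iff] at h1 h2 ⊢
  exact sup_le h1 h2

/-- `Z(B) ≤ Z(B ⊔ Z)`. -/
theorem center_le (B Z : Subgroup P) (hZ : Z ≤ Subgroup.centralizer (B : Set P)) :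
    B ⊓ Subgroup.centralizer (B : Set P) ≤
      (B ⊔ Z) ⊓ Subgroup.centralizer ((B ⊔ Z : Subgroup P) : Set P) := by
  refine le_inf (inf_le_left.trans le_sup_left) ?_
  apply cent_sup
  · exact inf_le_right
  · exact inf_le_left.trans (Subgroup.le_centralizer_iff.mp hZ)

/-- class two is preserved. -/
theorem ext_classTwo (B Z : Subgroup P) (hB : B ∈ classTwoSubgroups P)
    (hZ : Z ≤ Subgroup.centralizer (B : Set P)) (hZc : Z ≤ Subgroup.centralizer (Z : Set P)) :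
    B ⊔ Z ∈ classTwoSubgroups P := by
  have hB' : ⁅B, B⁆ ≤ Subgroup.centralizer (B : Set P) := hB
  show ⁅B ⊔ Z, B ⊔ Z⁆ ≤ Subgroup.centralizer ((B ⊔ Z : Subgroup P) : Set P)
  have hZcent : Z ≤ Subgroup.centralizer ((B ⊔ Z : Subgroup P) : Set P) := cent_sup B Z Z hZ hZc
  have h1 : ⁅B ⊔ Z, B ⊔ Z⁆ ≤ ⁅B, B⁆ := by
    rw [Subgroup.commutator_le]
    intro g₁ hg₁ g₂ hg₂
    obtain ⟨b₁, hb₁, z₁, hz₁, rfl⟩ := mem_sup_cent B Z hZ g₁ hg₁
    obtain ⟨b₂, hb₂, z₂, hz₂, rfl⟩ := mem_sup_cent B Z hZ g₂ hg₂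
    have c1 : ∀ x ∈ B ⊔ Z, x * z₁ = z₁ * x := fun x hx =>
      (Subgroup.mem_centralizer_iff.mp (hZcent hz₁)) x hx
    have c2 : ∀ x ∈ B ⊔ Z, x * z₂ = z₂ * x := fun x hx =>
      (Subgroup.mem_centralizer_iff.mp (hZcent hz₂)) x hx
    have e1 : ⁅b₁ * z₁, b₂ * z₂⁆ = ⁅b₁, b₂ * z₂⁆ := by
      have hx : b₂ * z₂ ∈ B ⊔ Z := hg₂
      have := c1 _ hx
      rw [commutatorElement_def, commutatorElement_def]
      calc b₁ * z₁ * (b₂ * z₂) * (b₁ * z₁)⁻¹ * (b₂ * z₂)⁻¹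
          = b₁ * (z₁ * (b₂ * z₂)) * z₁⁻¹ * b₁⁻¹ * (b₂ * z₂)⁻¹ := by group
        _ = b₁ * ((b₂ * z₂) * z₁) * z₁⁻¹ * b₁⁻¹ * (b₂ * z₂)⁻¹ := by rw [this]
        _ = b₁ * (b₂ * z₂) * b₁⁻¹ * (b₂ * z₂)⁻¹ := by group
    have e2 : ⁅b₁, b₂ * z₂⁆ = ⁅b₁, b₂⁆ := by
      have hx : b₁⁻¹ ∈ B ⊔ Z := Subgroup.inv_mem _ (Subgroup.mem_sup_left hb₁)
      have := c2 _ hx
      rw [commutatorElement_def, commutatorElement_def]
      calc b₁ * (b₂ * z₂) * b₁⁻¹ * (b₂ * z₂)⁻¹
          = b₁ * b₂ * (z₂ * b₁⁻¹) * z₂⁻¹ * b₂⁻¹ := by group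
        _ = b₁ * b₂ * (b₁⁻¹ * z₂) * z₂⁻¹ * b₂⁻¹ := by rw [this]
        _ = b₁ * b₂ * b₁⁻¹ * b₂⁻¹ := by group
    rw [e1, e2]
    exact Subgroup.commutator_mem_commutator hb₁ hb₂
  refine h1.trans ?_
  apply cent_sup
  · exact hB'
  · have hBB : ⁅B, B⁆ ≤ B := by
      rw [Subgroup.commutator_le]
      intro a ha b hb
      rw [commutatorElement_def]
      exact B.mul_mem (B.mul_mem (B.mul_mem ha hb) (B.inv_mem ha)) (B.inv_mem hb)
    exact hBB.trans (Subgroup.le_centralizer_iff.mp hZ)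

/-- the commutator identity `⁅b z, r⁆ = b ⁅z, r⁆ b⁻¹ ⁅b, r⁆`. -/
theorem comm_mul (b z r : P) : ⁅b * z, r⁆ = b * ⁅z, r⁆ * b⁻¹ * ⁅b, r⁆ := by
  simp only [commutatorElement_def]; group

/-- commutators with `X ≤ N(B)` stay in `Z(B)` after adjoining `Z ≤ SS B`. -/
theorem ext_comm (B Z X : Subgroup P) (hZ : Z ≤ SS B) (hX : X ≤ Subgroup.normalizer (B : Set P))
    (h : ⁅B, X⁆ ≤ B ⊓ Subgroup.centralizer (B : Set P)) :
    ⁅B ⊔ Z, X⁆ ≤ B ⊓ Subgroup.centralizer (B : Set P) := by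
  have hZc : Z ≤ Subgroup.centralizer (B : Set P) := fun z hz => (hZ hz).1
  rw [Subgroup.commutator_le]
  intro g hg x hx
  obtain ⟨b, hb, z, hz, rfl⟩ := mem_sup_cent B Z hZc g hg
  rw [comm_mul]
  have h1 : ⁅z, x⁆ ∈ B ⊓ Subgroup.centralizer (B : Set P) := comm_SS B z (hZ hz) x (hX hx)
  have h2 : b * ⁅z, x⁆ * b⁻¹ = ⁅z, x⁆ := by
    have := (Subgroup.mem_centralizer_iff.mp h1.2) b hb
    rw [this]; group
  rw [h2]
  exact Subgroup.mul_mem _ h1 (h (Subgroup.commutator_mem_commutator hb hx))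

theorem exists_c [Finite P] {p : ℕ} [Fact p.Prime] (hP : IsPGroup p P) (B : Subgroup P)
    (h : ¬ Subgroup.centralizer (B : Set P) ≤ B) : ∃ c ∈ SS B, c ∉ B := by
  obtain ⟨c₀, hc₀C, hc₀B⟩ := SetLike.not_le_iff_exists.mp h
  have hCN : Subgroup.centralizer (B : Set P) ≤ Subgroup.normalizer (B : Set P) :=
    Subgroup.centralizer_le_normalizer _
  have : Group.IsNilpotent ↥(Subgroup.normalizer (B : Set P)) :=
    (hP.to_subgroup _).isNilpotent
  have : ((Subgroup.centralizer (B : Set P)).subgroupOf (Subgroup.normalizer (B : Set P))).Normal :=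
    Subgroup.normal_subgroupOf_centralizer_normalizer (B : Set P)
  have hnle : ¬ (Subgroup.centralizer (B : Set P)).subgroupOf (Subgroup.normalizer (B : Set P)) ≤
      B.subgroupOf (Subgroup.normalizer (B : Set P)) := by
    intro hle
    have : (⟨c₀, hCN hc₀C⟩ : ↥(Subgroup.normalizer (B : Set P))) ∈
        B.subgroupOf (Subgroup.normalizer (B : Set P)) := hle (by
      rw [Subgroup.mem_subgroupOf]; exact hc₀C)
    rw [Subgroup.mem_subgroupOf] at this
    exact hc₀B this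
  obtain ⟨c, hcC, hcB, hc⟩ :=
    Cfsg.Agent.Lib.Helper2_Nilpotent.exists_mem_not_mem_commutator_mem _ _ hnle
  rw [Subgroup.mem_subgroupOf] at hcC hcB
  refine ⟨(c : P), ⟨hcC, ?_⟩, hcB⟩
  intro r hr
  have := hc ⟨r, hr⟩
  rw [Subgroup.mem_subgroupOf] at this
  simpa [commutatorElement_def] using this

theorem zpowers_comm (c : P) :
    Subgroup.zpowers c ≤ Subgroup.centralizer ((Subgroup.zpowers c : Subgroup P) : Set P) := by
  intro x hx
  rw [Subgroup.mem_centralizer_iff]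
  intro y hy
  obtain ⟨i, rfl⟩ := Subgroup.mem_zpowers_iff.mp hx
  obtain ⟨j, rfl⟩ := Subgroup.mem_zpowers_iff.mp hy
  exact (Commute.zpow_zpow_self c j i).eq

theorem max_classTwo [Finite P] {p : ℕ} [Fact p.Prime] (hP : IsPGroup p P) (B : Subgroup P)
    (hB : B ∈ classTwoSubgroups P) (hmax : ∀ C ∈ classTwoSubgroups P, B ≤ C → C = B) :
    Subgroup.centralizer (B : Set P) ≤ B := by
  by_contra h
  obtain ⟨c, hcS, hcB⟩ := exists_c hP B h
  have hZS : Subgroup.zpowers c ≤ SS B := by rw [Subgroup.zpowers_le]; exact hcS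
  have hZc : Subgroup.zpowers c ≤ Subgroup.centralizer (B : Set P) := fun z hz => (hZS hz).1
  have hmem := ext_classTwo B (Subgroup.zpowers c) hB hZc (zpowers_comm c)
  have := hmax _ hmem le_sup_left
  apply hcB
  rw [← this]
  exact Subgroup.mem_sup_right (Subgroup.mem_zpowers c)

theorem max_upper [Finite P] {p : ℕ} [Fact p.Prime] (hP : IsPGroup p P) (Q B : Subgroup P)
    (hB : B ∈ kUpperStarFamily Q) (hmax : ∀ C ∈ kUpperStarFamily Q, B ≤ C → C = B) :
    Subgroup.centralizer (B : Set P) ≤ B := by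
  by_contra h
  obtain ⟨c, hcS, hcB⟩ := exists_c hP B h
  have hZS : Subgroup.zpowers c ≤ SS B := by rw [Subgroup.zpowers_le]; exact hcS
  have hZc : Subgroup.zpowers c ≤ Subgroup.centralizer (B : Set P) := fun z hz => (hZS hz).1
  obtain ⟨hB1, hB2⟩ := hB
  have hQN : Q ≤ Subgroup.normalizer (B : Set P) := by
    intro q hq
    apply Cfsg.Agent.S1960.mem_normalizer_of_conj_le'
    intro b hb
    have h1 : ⁅b⁻¹, q⁆ ∈ B := (hB2 (Subgroup.commutator_mem_commutator (B.inv_mem hb) hq)).1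
    have e : q * b * q⁻¹ = b * ⁅b⁻¹, q⁆ := by rw [commutatorElement_def]; group
    rw [e]
    exact B.mul_mem hb h1
  have hmem : B ⊔ Subgroup.zpowers c ∈ kUpperStarFamily Q := by
    refine ⟨ext_classTwo B (Subgroup.zpowers c) hB1 hZc (zpowers_comm c), ?_⟩
    exact (ext_comm B _ Q hZS hQN hB2).trans (center_le B _ hZc)
  have := hmax _ hmem le_sup_left
  apply hcB
  rw [← this]
  exact Subgroup.mem_sup_right (Subgroup.mem_zpowers c)

theorem max_lower [Finite P] {p : ℕ} [Fact p.Prime] (hP : IsPGroup p P) (Q B : Subgroup P)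
    (hB : B ∈ kLowerStarFamily Q) (hmax : ∀ C ∈ kLowerStarFamily Q, B ≤ C → C = B) :
    Subgroup.centralizer (B : Set P) ≤ B := by
  by_contra h
  obtain ⟨c, hcS, hcB⟩ := exists_c hP B h
  have hZS : Subgroup.zpowers c ≤ SS B := by rw [Subgroup.zpowers_le]; exact hcS
  have hZc : Subgroup.zpowers c ≤ Subgroup.centralizer (B : Set P) := fun z hz => (hZS hz).1
  obtain ⟨hB1, hQN, hB3⟩ := hB
  have hmem : B ⊔ Subgroup.zpowers c ∈ kLowerStarFamily Q := by
    refine ⟨ext_classTwo B (Subgroup.zpowers c) hB1 hZc (zpowers_comm c), ?_, ?_⟩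
    · intro q hq
      apply Cfsg.Agent.S1960.mem_normalizer_of_conj_le'
      have hle : B ⊔ Subgroup.zpowers c ≤
          (B ⊔ Subgroup.zpowers c).comap (MulAut.conj q).toMonoidHom := by
        apply sup_le
        · intro b hb
          show (MulAut.conj q) b ∈ B ⊔ Subgroup.zpowers c
          rw [MulAut.conj_apply]
          exact Subgroup.mem_sup_left ((Subgroup.mem_normalizer_iff.mp (hQN hq) b).mp hb)
        · intro z hz
          show (MulAut.conj q) z ∈ B ⊔ Subgroup.zpowers c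
          rw [MulAut.conj_apply]
          have h1 : ⁅z⁻¹, q⁆ ∈ B := (hZS (Subgroup.inv_mem _ hz)).2 q (hQN hq)
          have e : q * z * q⁻¹ = z * ⁅z⁻¹, q⁆ := by rw [commutatorElement_def]; group
          rw [e]
          exact Subgroup.mul_mem _ (Subgroup.mem_sup_right hz) (Subgroup.mem_sup_left h1)
      intro a ha
      have h2 : (MulAut.conj q) a ∈ B ⊔ Subgroup.zpowers c := hle ha
      rwa [MulAut.conj_apply] at h2
    · intro A hA hAQ hBA h1 h2
      have hBN : B ≤ Subgroup.normalizer (A : Set P) := le_sup_left.trans hBA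
      have h1' : ⁅B, ⁅A, A⁆⁆ = ⊥ := by
        rw [eq_bot_iff, ← h1]
        exact Subgroup.commutator_mono le_sup_left le_rfl
      have h2' : ⁅⁅B ⊓ Subgroup.centralizer (B : Set P), A⁆, A⁆ = ⊥ := by
        rw [eq_bot_iff, ← h2]
        exact Subgroup.commutator_mono
          (Subgroup.commutator_mono (center_le B _ hZc) le_rfl) le_rfl
      have h3 := hB3 A hA hAQ hBN h1' h2'
      exact (ext_comm B _ A hZS (hAQ.trans hQN) h3).trans (center_le B _ hZc)
  have := hmax _ hmem le_sup_left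
  apply hcB
  rw [← this]
  exact Subgroup.mem_sup_right (Subgroup.mem_zpowers c)

/-- Let P be a finite p-group. A member B that is maximal under inclusion in any one of the families used to build the K-sequence of P — the class-two family, the lower-star family relative to an odd-indexed term, or the upper-star family relative to an even-indexed term — contains its centralizer: C_P(B) ≤ B. -/
theorem result {P : Type*} [Group P] [Finite P] {p : ℕ} [Fact p.Prime] (hP : IsPGroup p P) (B : Subgroup P) (𝒦 : Set (Subgroup P)) (h𝒦 : 𝒦 = Cfsg.classTwoSubgroups P ∨ (∃ n, 𝒦 = Cfsg.kLowerStarFamily (Cfsg.kSeqOdd P n)) ∨ ∃ n, 𝒦 = Cfsg.kUpperStarFamily (Cfsg.kSeqEven P n)) (hB : B ∈ 𝒦) (hmax : ∀ C ∈ 𝒦, B ≤ C → C = B) : Subgroup.centralizer (B : Set P) ≤ B := by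
  rcases h𝒦 with rfl | ⟨n, rfl⟩ | ⟨n, rfl⟩
  · exact max_classTwo hP B hB hmax
  · exact max_lower hP _ B hB hmax
  · exact max_upper hP _ B hB hmax

end Cfsg.Agent.S1977
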