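import Cfsg.Statements.S1894
import Cfsg.Agent.S1977

set_option autoImplicit false
open Cfsg

namespace Cfsg.Agent.S1894

open scoped commutatorElement

/-- Let P be a finite p-group, A a normal subgroup of P and B an abelian subgroup of A that is normal in P. Then some subgroup C of A containing B is normal in P and is self-centralizing and normal in A (C ∈ SCN(A)). -/
theorem result {P : Type*} [Group P] [Finite P] {p : ℕ} [Fact p.Prime] (hP : IsPGroup p P)
    (A : Subgroup P) [A.Normal] (B : Subgroup P) [B.Normal] (hBA : B ≤ A) (hB : IsMulCommutative B) :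
    ∃ C : Subgroup P, C.Normal ∧ B ≤ C ∧ Cfsg.IsSCN A C := by
  set 𝒦 : Set (Subgroup P) :=
    {C | C.Normal ∧ C ≤ A ∧ C ≤ Subgroup.centralizer (C : Set P)} with h𝒦
  have hB𝒦 : B ∈ 𝒦 := by
    refine ⟨inferInstance, hBA, ?_⟩
    intro x hx
    rw [Subgroup.mem_centralizer_iff]
    intro y hy
    have := hB.is_comm.comm ⟨y, hy⟩ ⟨x, hx⟩
    exact congrArg Subtype.val this
  obtain ⟨C, hBC, hCmax⟩ := (Set.toFinite 𝒦).exists_le_maximal hB𝒦
  obtain ⟨hCn, hCA, hCab⟩ := hCmax.1
  refine ⟨C, hCn, hBC, hCA, ?_, ?_⟩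
  · rw [Subgroup.normalizer_eq_top]; exact le_top
  apply le_antisymm
  swap
  · exact le_inf hCA hCab
  by_contra hcon
  have hnil : Group.IsNilpotent P := hP.isNilpotent
  obtain ⟨x, hxD, hxC, hx⟩ :=
    Cfsg.Agent.Lib.Helper2_Nilpotent.exists_mem_not_mem_commutator_mem
      (A ⊓ Subgroup.centralizer (C : Set P)) C hcon
  have hxS : x ∈ Cfsg.Agent.S1977.SS C := ⟨hxD.2, fun r _ => hx r⟩
  have hZS : Subgroup.zpowers x ≤ Cfsg.Agent.S1977.SS C := by
    rw [Subgroup.zpowers_le]; exact hxS
  have hZc : Subgroup.zpowers x ≤ Subgroup.centralizer (C : Set P) := fun z hz => (hZS hz).1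
  have hZA : Subgroup.zpowers x ≤ A := by rw [Subgroup.zpowers_le]; exact hxD.1
  have hmem : C ⊔ Subgroup.zpowers x ∈ 𝒦 := by
    refine ⟨?_, sup_le hCA hZA, ?_⟩
    · constructor
      intro n hn g
      have hle : C ⊔ Subgroup.zpowers x ≤
          (C ⊔ Subgroup.zpowers x).comap (MulAut.conj g).toMonoidHom := by
        apply sup_le
        · intro c hc
          show (MulAut.conj g) c ∈ C ⊔ Subgroup.zpowers x
          rw [MulAut.conj_apply]
          exact Subgroup.mem_sup_left (hCn.conj_mem c hc g)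
        · intro z hz
          show (MulAut.conj g) z ∈ C ⊔ Subgroup.zpowers x
          rw [MulAut.conj_apply]
          have h1 : ⁅z⁻¹, g⁆ ∈ C := (hZS (Subgroup.inv_mem _ hz)).2 g (by
            rw [Subgroup.normalizer_eq_top]; exact Subgroup.mem_top g)
          have e : g * z * g⁻¹ = z * ⁅z⁻¹, g⁆ := by rw [commutatorElement_def]; group
          rw [e]
          exact Subgroup.mul_mem _ (Subgroup.mem_sup_right hz) (Subgroup.mem_sup_left h1)
      have h2 : (MulAut.conj g) n ∈ C ⊔ Subgroup.zpowers x := hle hn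
      rwa [MulAut.conj_apply] at h2
    · apply Cfsg.Agent.S1977.cent_sup
      · exact sup_le hCab hZc
      · exact sup_le (Subgroup.le_centralizer_iff.mp hZc) (Cfsg.Agent.S1977.zpowers_comm x)
  have h1 : C ⊔ Subgroup.zpowers x ≤ C := hCmax.2 hmem le_sup_left
  exact hxC (h1 (Subgroup.mem_sup_right (Subgroup.mem_zpowers x)))

end Cfsg.Agent.S1894
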