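import Mathlib
import Cfsg.Statements.S1896
import Cfsg.Agent.S1785
import Cfsg.Agent.S0640
import Cfsg.Agent.Lib.Helper7_QuatLift

set_option autoImplicit false

open Cfsg

namespace Cfsg.Agent.S1896

universe u

open commutatorElement

section basic
variable {X : Type u} [Group X]

theorem card_le_two_of_cyclic {C : Type*} [Group C] [Finite C] [IsCyclic C] (K : Subgroup C)
    (hK : ∀ g ∈ K, g ^ 2 = 1) : Nat.card K ≤ 2 := by
  classical
  haveI := Fintype.ofFinite C
  have h := IsCyclic.card_pow_eq_one_le (α := C) (n := 2) (by norm_num)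
  refine le_trans ?_ h
  rw [Nat.card_eq_fintype_card, Fintype.card_subtype]
  apply Finset.card_le_card
  intro g hg
  simp only [Finset.mem_filter, Finset.mem_univ, true_and] at hg ⊢
  exact hK g hg

/-- elementary abelian 2-subgroups of a metacyclic group have order at most 4 -/
theorem eb [Finite X] (hm : Cfsg.IsMetacyclic X) (E : Subgroup X)
    (hE : ∀ g ∈ E, g ^ 2 = 1) : Nat.card E ≤ 4 := by
  obtain ⟨N, hN, hNc, hQc⟩ := hm
  let φ : E →* X ⧸ N := (QuotientGroup.mk' N).comp E.subtype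
  have h1 : Nat.card φ.range ≤ 2 := by
    apply card_le_two_of_cyclic
    rintro _ ⟨e, rfl⟩
    rw [← map_pow]
    have : e ^ 2 = 1 := Subtype.ext (by simpa using hE e.1 e.2)
    rw [this, map_one]
  have h2 : Nat.card φ.ker ≤ 2 := by
    have h3 := card_le_two_of_cyclic (E.subgroupOf N) (by
      intro g hg
      apply Subtype.ext
      simpa using hE g.1 hg)
    refine le_trans ?_ h3
    have hmem : ∀ k : φ.ker, (k.1.1 : X) ∈ N := by
      intro k
      have := k.2
      rw [MonoidHom.mem_ker] at this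
      exact (QuotientGroup.eq_one_iff _).mp this
    refine Nat.card_le_card_of_injective
      (fun k => ⟨⟨k.1.1, hmem k⟩, by rw [Subgroup.mem_subgroupOf]; exact k.1.2⟩) ?_
    intro k1 k2 h
    have h' := congrArg (fun t => (t.1.1 : X)) h
    exact Subtype.ext (Subtype.ext h')
  have h3 : Nat.card E = Nat.card φ.ker * Nat.card φ.range := by
    rw [← Subgroup.index_ker, Subgroup.card_mul_index]
  rw [h3]
  calc Nat.card φ.ker * Nat.card φ.range ≤ 2 * 2 := Nat.mul_le_mul h2 h1
    _ = 4 := by norm_num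

/-- a cyclic subgroup has at most one involution -/
theorem uniq_inv [Finite X] (C : Subgroup X) [IsCyclic C] {s t : X} (hs : s ∈ C) (ht : t ∈ C)
    (hs2 : s ^ 2 = 1) (ht2 : t ^ 2 = 1) (hs1 : s ≠ 1) (ht1 : t ≠ 1) : s = t := by
  by_contra hne
  have hcomm : s * t = t * s := by
    have := (IsCyclic.commGroup (α := C)).mul_comm ⟨s, hs⟩ ⟨t, ht⟩
    exact congrArg Subtype.val this
  have hsz : s ∉ Subgroup.zpowers t := by
    intro h
    rcases Cfsg.Agent.S1785.mem_zpowers_two ht2 h with h | h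
    · exact hs1 h
    · exact hne h
  have hadj := Cfsg.Agent.S1785.adj (Cfsg.Agent.S1785.ea_zpowers ht2) hs2 hsz (by
    rw [Subgroup.zpowers_le]
    exact Cfsg.Agent.S1785.mem_Cz.mpr hcomm.symm)
  rw [Cfsg.Agent.S1785.card_zpowers_two ht2 ht1] at hadj
  have hle : Subgroup.zpowers t ⊔ Subgroup.zpowers s ≤ C :=
    sup_le (Subgroup.zpowers_le.mpr ht) (Subgroup.zpowers_le.mpr hs)
  have h3 := card_le_two_of_cyclic ((Subgroup.zpowers t ⊔ Subgroup.zpowers s).subgroupOf C) (by
    intro g hg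
    apply Subtype.ext
    simpa using (Cfsg.Agent.S1785.ea_iff.mp hadj.1).2 g.1 hg)
  rw [Nat.card_congr (Subgroup.subgroupOfEquivOfLe hle).toEquiv, hadj.2] at h3
  omega

theorem pow_fix (β : MulAut X) (t : X) (h : β t = t) (j : ℕ) : (β ^ j) t = t := by
  induction j with
  | zero => simp
  | succ j ih => rw [pow_succ, MulAut.mul_apply, h, ih]

/-- if `α` has odd order and `α²` fixes `t` then `α` fixes `t` -/
theorem fix_of_sq (α : MulAut X) (q : ℕ) (hq : Odd q) (hαq : α ^ q = 1) (t : X)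
    (h : α (α t) = t) : α t = t := by
  obtain ⟨k, rfl⟩ := hq
  have h2 : (α ^ 2) t = t := by rw [pow_two, MulAut.mul_apply]; exact h
  have h3 := pow_fix (α ^ 2) t h2 (k + 1)
  rw [← pow_mul] at h3
  have h4 : α ^ (2 * (k + 1)) = α := by
    have : 2 * (k + 1) = (2 * k + 1) + 1 := by ring
    rw [this, pow_succ, hαq, one_mul]
  rw [h4] at h3
  exact h3


theorem pow_apply_mul (α : MulAut X) (b t : X) (hb : α b = t * b) (ht : α t = t) (j : ℕ) :
    (α ^ j) b = t ^ j * b := by
  induction j with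
  | zero => simp
  | succ j ih =>
    rw [pow_succ', MulAut.mul_apply, ih, map_mul, map_pow, ht, hb, pow_succ, mul_assoc]

/-- an automorphism of odd order fixing all involutions of an invariant abelian 2-subgroup
fixes it pointwise -/
theorem t2 (hX : IsPGroup 2 X) (α : MulAut X) (q : ℕ) (hq : Odd q) (hαq : α ^ q = 1)
    (B : Subgroup X) (hBc : ∀ a ∈ B, ∀ b ∈ B, a * b = b * a) (hBα : ∀ b ∈ B, α b ∈ B)
    (hinv : ∀ t ∈ B, t ^ 2 = 1 → α t = t) : ∀ b ∈ B, α b = b := by
  have key : ∀ k : ℕ, ∀ b ∈ B, b ^ (2 ^ k) = 1 → α b = b := by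
    intro k
    induction k with
    | zero =>
      intro b _ h
      rw [pow_zero, pow_one] at h
      rw [h, map_one]
    | succ k ih =>
      intro b hb h
      have hb2 : α (b ^ 2) = b ^ 2 := by
        apply ih (b ^ 2) (B.pow_mem hb 2)
        rw [← pow_mul, ← pow_succ']; exact h
      set t := α b * b⁻¹ with ht
      have htB : t ∈ B := B.mul_mem (hBα b hb) (B.inv_mem hb)
      have hcomm := hBc b⁻¹ (B.inv_mem hb) (α b) (hBα b hb)
      have ht2 : t ^ 2 = 1 := by
        calc t ^ 2 = α b * (b⁻¹ * α b) * b⁻¹ := by rw [pow_two, ht]; group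
          _ = α b * (α b * b⁻¹) * b⁻¹ := by rw [hcomm]
          _ = (α b) ^ 2 * (b ^ 2)⁻¹ := by rw [pow_two, pow_two]; group
          _ = 1 := by rw [← map_pow, hb2, mul_inv_cancel]
      have htfix : α t = t := hinv t htB ht2
      have hαb : α b = t * b := by rw [ht]; group
      have h5 := pow_apply_mul α b t hαb htfix q
      rw [hαq, MulAut.one_apply] at h5
      have h6 : t ^ q = 1 := by
        have : t ^ q * b = 1 * b := by rw [one_mul]; exact h5.symm
        exact mul_right_cancel this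
      have h7 : t = 1 := by
        obtain ⟨m, rfl⟩ := hq
        rw [pow_succ, pow_mul, ht2, one_pow, one_mul] at h6
        exact h6
      rw [hαb, h7, one_mul]
  intro b hb
  obtain ⟨k, hk⟩ := hX b
  exact key k b hb hk

/-- an automorphism of odd prime order of a metacyclic 2-group which fixes an involution of an
invariant abelian subgroup fixes that subgroup pointwise -/
theorem fixAll [Finite X] (hX : IsPGroup 2 X) (hm : Cfsg.IsMetacyclic X) (α : MulAut X) (q : ℕ)
    (hqp : q.Prime) (hq2 : q ≠ 2) (hαq : α ^ q = 1)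
    (B : Subgroup X) (hBc : ∀ a ∈ B, ∀ b ∈ B, a * b = b * a) (hBα : ∀ b ∈ B, α b ∈ B)
    (t : X) (htB : t ∈ B) (ht2 : t ^ 2 = 1) (ht1 : t ≠ 1) (htα : α t = t) :
    ∀ b ∈ B, α b = b := by
  have hodd : Odd q := hqp.odd_of_ne_two hq2
  haveI : Fact q.Prime := ⟨hqp⟩
  -- the subgroup of involutions of B
  let Ω : Subgroup X :=
    { carrier := {b | b ∈ B ∧ b ^ 2 = 1}
      one_mem' := ⟨B.one_mem, one_pow 2⟩
      mul_mem' := by
        rintro a b ⟨ha, ha2⟩ ⟨hb, hb2⟩
        refine ⟨B.mul_mem ha hb, ?_⟩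
        calc (a * b) ^ 2 = a * (b * a) * b := by rw [pow_two]; group
          _ = a * (a * b) * b := by rw [hBc b hb a ha]
          _ = a ^ 2 * b ^ 2 := by rw [pow_two, pow_two]; group
          _ = 1 := by rw [ha2, hb2, one_mul]
      inv_mem' := by
        rintro a ⟨ha, ha2⟩
        exact ⟨B.inv_mem ha, by rw [inv_pow, ha2, inv_one]⟩ }
  have hΩmem : ∀ b, b ∈ Ω ↔ b ∈ B ∧ b ^ 2 = 1 := fun b => Iff.rfl
  have hΩ4 : Nat.card Ω ≤ 4 := eb hm Ω (fun g hg => hg.2)
  have hΩα : ∀ h ∈ Ω, α h ∈ Ω := by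
    rintro h ⟨hB, h2⟩
    exact ⟨hBα h hB, by rw [← map_pow, h2, map_one]⟩
  have hmod := Cfsg.Agent.S0640.card_modEq_fix α q hαq Ω hΩα
  set F := Ω ⊓ Cfsg.Agent.S0640.fixSub α with hF
  have hFle : F ≤ Ω := inf_le_left
  have hzF : Subgroup.zpowers t ≤ F := by
    rw [Subgroup.zpowers_le]
    exact ⟨⟨htB, ht2⟩, htα⟩
  have hF2 : 2 ≤ Nat.card F := by
    have := Subgroup.card_le_of_le hzF
    rwa [Cfsg.Agent.S1785.card_zpowers_two ht2 ht1] at this
  have hFΩ : Nat.card F = Nat.card Ω := by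
    obtain ⟨a, ha⟩ := Cfsg.Agent.S1785.card_pow hX Ω
    obtain ⟨b, hb⟩ := Cfsg.Agent.S1785.card_pow hX F
    have hle := Subgroup.card_le_of_le hFle
    rw [ha, hb] at hmod
    rw [ha] at hΩ4 hle ⊢
    rw [hb] at hF2 hle ⊢
    have ha2 : a ≤ 2 := by
      by_contra h
      have : 2 ^ 3 ≤ 2 ^ a := Nat.pow_le_pow_right (by norm_num) (by omega)
      omega
    have hb1 : 1 ≤ b := by
      by_contra h
      have : b = 0 := by omega
      rw [this] at hF2
      omega
    have hba : b ≤ a := (Nat.pow_le_pow_iff_right (by norm_num)).mp hle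
    by_contra hne
    have hb' : b = 1 := by
      by_contra h
      have : a = b := by omega
      exact hne (by rw [this])
    have ha' : a = 2 := by
      by_contra h
      have : a = b := by omega
      exact hne (by rw [this])
    rw [ha', hb'] at hmod
    have hd : q ∣ 2 ^ 2 - 2 ^ 1 := (Nat.modEq_iff_dvd' (by norm_num)).mp hmod.symm
    have hd' : q ∣ 2 := by simpa using hd
    exact hq2 ((Nat.prime_dvd_prime_iff_eq hqp Nat.prime_two).mp hd')
  have hFeq : F = Ω := Subgroup.eq_of_le_of_card_ge hFle (le_of_eq hFΩ.symm)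
  apply t2 hX α q hodd hαq B hBc hBα
  intro s hs hs2
  have : s ∈ F := by rw [hFeq]; exact ⟨hs, hs2⟩
  exact this.2

end basic


section quot
variable {X : Type u} [Group X]

/-- the automorphism induced on the quotient by an invariant normal subgroup -/
def ind (α : MulAut X) (K : Subgroup X) [K.Normal] (hK : K.map (α : X ≃* X).toMonoidHom = K) :
    MulAut (X ⧸ K) :=
  QuotientGroup.congr K K α hK

theorem ind_mk (α : MulAut X) (K : Subgroup X) [K.Normal]
    (hK : K.map (α : X ≃* X).toMonoidHom = K) (x : X) :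
    ind α K hK (QuotientGroup.mk x) = QuotientGroup.mk (α x) := rfl

theorem ind_pow (α : MulAut X) (K : Subgroup X) [K.Normal]
    (hK : K.map (α : X ≃* X).toMonoidHom = K) (j : ℕ) (x : X) :
    ((ind α K hK) ^ j) (QuotientGroup.mk x) = QuotientGroup.mk ((α ^ j) x) := by
  induction j generalizing x with
  | zero => simp
  | succ j ih => rw [pow_succ, MulAut.mul_apply, ind_mk, ih, pow_succ, MulAut.mul_apply]

theorem ind_pow_eq_one (α : MulAut X) (K : Subgroup X) [K.Normal]
    (hK : K.map (α : X ≃* X).toMonoidHom = K) (q : ℕ) (hαq : α ^ q = 1) :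
    (ind α K hK) ^ q = 1 := by
  ext y
  obtain ⟨x, rfl⟩ := QuotientGroup.mk_surjective y
  rw [ind_pow, hαq]
  rfl

theorem eq_one_of_ind (hX : IsPGroup 2 X) (α : MulAut X) (q : ℕ) (hq : Odd q)
    (hαq : α ^ q = 1) (K : Subgroup X) [K.Normal] (hK : K.map (α : X ≃* X).toMonoidHom = K)
    (hfix : ∀ k ∈ K, α k = k) (hind : ind α K hK = 1) : α = 1 := by
  ext x
  rw [MulAut.one_apply]
  have h1 : (QuotientGroup.mk (α x) : X ⧸ K) = QuotientGroup.mk x := by
    rw [← ind_mk α K hK, hind]; rfl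
  set t := α x * x⁻¹ with ht
  have htK : t ∈ K := by
    rw [← QuotientGroup.eq_one_iff, ht, QuotientGroup.mk_mul, QuotientGroup.mk_inv, h1,
      mul_inv_cancel]
  have hαx : α x = t * x := by rw [ht]; group
  have h5 := pow_apply_mul α x t hαx (hfix t htK) q
  rw [hαq, MulAut.one_apply] at h5
  have h6 : t ^ q = 1 := by
    have : t ^ q * x = 1 * x := by rw [one_mul]; exact h5.symm
    exact mul_right_cancel this
  obtain ⟨m, hm⟩ := hX t
  have h7 : orderOf t ∣ Nat.gcd q (2 ^ m) :=
    Nat.dvd_gcd (orderOf_dvd_of_pow_eq_one h6) (orderOf_dvd_of_pow_eq_one hm)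
  have h8 : Nat.gcd q (2 ^ m) = 1 := Nat.Coprime.pow_right m hq.coprime_two_right
  rw [h8, Nat.dvd_one, orderOf_eq_one_iff] at h7
  rw [hαx, h7, one_mul]

theorem metacyclic_quot (hm : Cfsg.IsMetacyclic X) (K : Subgroup X) [K.Normal] :
    Cfsg.IsMetacyclic (X ⧸ K) := by
  obtain ⟨N, hN, hNc, hQc⟩ := hm
  have hπ : Function.Surjective (QuotientGroup.mk' K) := QuotientGroup.mk'_surjective K
  haveI hN' : (N.map (QuotientGroup.mk' K)).Normal := hN.map (QuotientGroup.mk' K) hπ
  refine ⟨N.map (QuotientGroup.mk' K), hN', ?_, ?_⟩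
  · exact isCyclic_of_surjective ((QuotientGroup.mk' K).subgroupMap N)
      ((QuotientGroup.mk' K).subgroupMap_surjective N)
  · let f : X ⧸ N →* (X ⧸ K) ⧸ (N.map (QuotientGroup.mk' K)) :=
      QuotientGroup.map N (N.map (QuotientGroup.mk' K)) (QuotientGroup.mk' K)
        (Subgroup.le_comap_map (QuotientGroup.mk' K) N)
    have hf : Function.Surjective f := by
      intro y
      obtain ⟨y', rfl⟩ := QuotientGroup.mk'_surjective _ y
      obtain ⟨x, rfl⟩ := hπ y'
      exact ⟨QuotientGroup.mk x, rfl⟩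
    exact isCyclic_of_surjective f hf

end quot


section abel
variable {X : Type u} [Group X] [Finite X]

omit [Finite X] in
theorem card_le_pow (hcomm : ∀ a b : X, a * b = b * a)
    (hEB : ∀ E : Subgroup X, (∀ g ∈ E, g ^ 2 = 1) → Nat.card E ≤ 4) :
    ∀ n : ℕ, ∀ B : Subgroup X, (∀ b ∈ B, b ^ (2 ^ n) = 1) → Nat.card B ≤ 4 ^ n := by
  intro n
  induction n with
  | zero =>
    intro B hB
    have : B = ⊥ := by
      rw [eq_bot_iff]
      intro b hb
      have := hB b hb
      rw [pow_zero, pow_one] at this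
      exact Subgroup.mem_bot.mpr this
    rw [this, Subgroup.card_bot]; norm_num
  | succ n ih =>
    intro B hB
    let φ : B →* X :=
      { toFun := fun b => b.1 ^ 2
        map_one' := by simp
        map_mul' := fun a b => by
          simp only [Subgroup.coe_mul]
          exact (show Commute a.1 b.1 from hcomm a.1 b.1).mul_pow 2 }
    have h1 : Nat.card φ.range ≤ 4 ^ n := by
      apply ih
      rintro _ ⟨b, rfl⟩
      show (b.1 ^ 2) ^ (2 ^ n) = 1
      rw [← pow_mul, ← pow_succ']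
      exact hB b.1 b.2
    have h2 : Nat.card φ.ker ≤ 4 := by
      have h3 := hEB (φ.ker.map B.subtype) (by
        rintro _ ⟨k, hk, rfl⟩
        exact MonoidHom.mem_ker.mp hk)
      rwa [Subgroup.card_map_of_injective (Subgroup.subtype_injective B)] at h3
    have h3 : Nat.card B = Nat.card φ.ker * Nat.card φ.range := by
      rw [← Subgroup.index_ker, Subgroup.card_mul_index]
    rw [h3, pow_succ']
    exact Nat.mul_le_mul h2 h1

omit [Finite X] in
theorem iso_of_decomp (x y : X)
    (hxy : ∀ h ∈ Subgroup.zpowers x, ∀ z ∈ Subgroup.zpowers y, h * z = z * h)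
    (hd : Subgroup.zpowers x ⊓ Subgroup.zpowers y = ⊥)
    (htop : Subgroup.zpowers x ⊔ Subgroup.zpowers y = ⊤) (m k : ℕ) (hm : orderOf x = m)
    (hk : orderOf y = k) :
    Nonempty (X ≃* Multiplicative (ZMod m) × Multiplicative (ZMod k)) := by
  have hcm : ∀ (a : Subgroup.zpowers x) (b : Subgroup.zpowers y),
      Commute ((Subgroup.zpowers x).subtype a) ((Subgroup.zpowers y).subtype b) :=
    fun a b => hxy a.1 a.2 b.1 b.2
  have hr := MonoidHom.noncommCoprod_range (Subgroup.zpowers x).subtype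
    (Subgroup.zpowers y).subtype hcm
  rw [Subgroup.range_subtype, Subgroup.range_subtype, htop] at hr
  have hinj : Function.Injective (MonoidHom.noncommCoprod (Subgroup.zpowers x).subtype
      (Subgroup.zpowers y).subtype hcm) := by
    rw [MonoidHom.noncommCoprod_injective]
    refine ⟨Subgroup.subtype_injective _, Subgroup.subtype_injective _, ?_⟩
    rw [Subgroup.range_subtype, Subgroup.range_subtype, disjoint_iff]
    exact hd
  have hsurj : Function.Surjective (MonoidHom.noncommCoprod (Subgroup.zpowers x).subtype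
      (Subgroup.zpowers y).subtype hcm) := MonoidHom.range_eq_top.mp hr
  have e1 := MulEquiv.ofBijective _ ⟨hinj, hsurj⟩
  have e2 : Subgroup.zpowers x ≃* Multiplicative (ZMod m) := by
    apply mulEquivOfCyclicCardEq
    rw [Nat.card_zpowers, hm, Nat.card_congr Multiplicative.toAdd, Nat.card_zmod]
  have e3 : Subgroup.zpowers y ≃* Multiplicative (ZMod k) := by
    apply mulEquivOfCyclicCardEq
    rw [Nat.card_zpowers, hk, Nat.card_congr Multiplicative.toAdd, Nat.card_zmod]
  exact ⟨e1.symm.trans (MulEquiv.prodCongr e2 e3)⟩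


theorem nofix_abelian (hX : IsPGroup 2 X) (hm : Cfsg.IsMetacyclic X)
    (hcomm : ∀ a b : X, a * b = b * a) (α : MulAut X) (q : ℕ) (hqp : q.Prime) (hq2 : q ≠ 2)
    (hαq : α ^ q = 1) (hα1 : α ≠ 1) : ∀ t : X, t ^ 2 = 1 → t ≠ 1 → α t ≠ t := by
  intro t ht2 ht1 htα
  apply hα1
  ext x
  rw [MulAut.one_apply]
  exact fixAll hX hm α q hqp hq2 hαq ⊤ (fun a _ b _ => hcomm a b) (fun _ _ => Subgroup.mem_top _)
    t (Subgroup.mem_top _) ht2 ht1 htα x (Subgroup.mem_top _)

theorem abelian_case (hX : IsPGroup 2 X) (hm : Cfsg.IsMetacyclic X)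
    (hcomm : ∀ a b : X, a * b = b * a) (α : MulAut X) (q : ℕ) (hqp : q.Prime) (hq2 : q ≠ 2)
    (hαq : α ^ q = 1) (hα1 : α ≠ 1) :
    ∃ n : ℕ, Nonempty (X ≃* Multiplicative (ZMod (2 ^ n)) × Multiplicative (ZMod (2 ^ n))) := by
  have hnofix := nofix_abelian hX hm hcomm α q hqp hq2 hαq hα1
  obtain ⟨x₀, hmax⟩ := Finite.exists_max (fun x : X => orderOf x)
  have hord : ∀ g : X, ∃ k, orderOf g = 2 ^ k := by
    intro g
    obtain ⟨k, hk⟩ := hX g
    exact (Nat.dvd_prime_pow Nat.prime_two).mp (orderOf_dvd_of_pow_eq_one hk) |>.imp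
      (fun _ h => h.2)
  obtain ⟨n, hn⟩ := hord x₀
  have hexp : ∀ g : X, g ^ (2 ^ n) = 1 := by
    intro g
    obtain ⟨k, hk⟩ := hord g
    have hle : 2 ^ k ≤ 2 ^ n := by rw [← hk, ← hn]; exact hmax g
    have hkn : k ≤ n := (Nat.pow_le_pow_iff_right (by norm_num)).mp hle
    apply orderOf_dvd_iff_pow_eq_one.mp
    rw [hk]
    exact pow_dvd_pow 2 hkn
  have hn0 : n ≠ 0 := by
    intro h0
    apply hα1
    ext x
    have h1 := hexp x
    have h2 := hexp (α x)
    rw [h0, pow_zero, pow_one] at h1 h2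
    rw [h2, MulAut.one_apply, h1]
  set t := x₀ ^ (2 ^ (n - 1)) with ht
  have ht2 : t ^ 2 = 1 := by
    rw [ht, ← pow_mul, ← pow_succ]
    have : n - 1 + 1 = n := by omega
    rw [this]; exact hexp x₀
  have ht1 : t ≠ 1 := by
    intro h
    have := orderOf_dvd_of_pow_eq_one h
    rw [hn] at this
    have := (Nat.pow_dvd_pow_iff_le_right (by norm_num : 1 < 2)).mp this
    omega
  have hαt : α t = (α x₀) ^ (2 ^ (n - 1)) := by rw [ht, map_pow]
  have hd : Subgroup.zpowers x₀ ⊓ Subgroup.zpowers (α x₀) = ⊥ := by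
    by_contra hne
    set D := Subgroup.zpowers x₀ ⊓ Subgroup.zpowers (α x₀) with hD
    obtain ⟨k, hk⟩ := Cfsg.Agent.S1785.card_pow hX D
    have hk0 : k ≠ 0 := by
      intro h0
      rw [h0, pow_zero] at hk
      exact hne (Subgroup.card_eq_one.mp hk)
    have h2 : 2 ∣ Nat.card D := by rw [hk]; exact dvd_pow_self 2 hk0
    haveI : Fact (Nat.Prime 2) := ⟨Nat.prime_two⟩
    obtain ⟨s, hs⟩ := exists_prime_orderOf_dvd_card' 2 h2
    have hs2 : (s : X) ^ 2 = 1 := by
      have := pow_orderOf_eq_one s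
      rw [hs] at this
      exact congrArg Subtype.val this
    have hs1 : (s : X) ≠ 1 := by
      intro h
      have : s = 1 := Subtype.ext h
      rw [this, orderOf_one] at hs
      omega
    have e1 : (s : X) = t := uniq_inv (Subgroup.zpowers x₀) s.2.1
      (Subgroup.pow_mem _ (Subgroup.mem_zpowers x₀) _) hs2 ht2 hs1 ht1
    have hαt2 : (α t) ^ 2 = 1 := by rw [← map_pow, ht2, map_one]
    have hαt1 : α t ≠ 1 := by
      intro h
      exact ht1 (by simpa using h)
    have e2 : (s : X) = α t := uniq_inv (Subgroup.zpowers (α x₀)) s.2.2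
      (by rw [hαt]; exact Subgroup.pow_mem _ (Subgroup.mem_zpowers _) _) hs2 hαt2 hs1 hαt1
    exact hnofix t ht2 ht1 (e2.symm.trans e1)
  have hoα : orderOf (α x₀) = 2 ^ n := by rw [MulEquiv.orderOf_eq, hn]
  have hcm : ∀ h ∈ Subgroup.zpowers x₀, ∀ z ∈ Subgroup.zpowers (α x₀), h * z = z * h :=
    fun h _ z _ => hcomm h z
  have hcard : Nat.card ↥(Subgroup.zpowers x₀ ⊔ Subgroup.zpowers (α x₀)) = 2 ^ n * 2 ^ n := by
    rw [Cfsg.Agent.S1785.card_sup hcm hd, Nat.card_zpowers, Nat.card_zpowers, hn, hoα]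
  have hXle : Nat.card X ≤ 4 ^ n := by
    have := card_le_pow hcomm (fun E hE => eb hm E hE) n ⊤ (fun b _ => hexp b)
    rwa [Subgroup.card_top] at this
  have htop : Subgroup.zpowers x₀ ⊔ Subgroup.zpowers (α x₀) = ⊤ := by
    apply Subgroup.eq_top_of_le_card
    rw [hcard, ← mul_pow]
    exact hXle
  exact ⟨n, iso_of_decomp x₀ (α x₀) hcm hd htop (2 ^ n) (2 ^ n) hn hoα⟩

end abel


section nonab
variable {X : Type u} [Group X] [Finite X]

theorem exists_z (hX : IsPGroup 2 X) (hm : Cfsg.IsMetacyclic X)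
    (hna : ¬ ∀ a b : X, a * b = b * a) (α : MulAut X) :
    ∃ z : X, z ∈ commutator X ∧ z ^ 2 = 1 ∧ z ≠ 1 ∧ z ∈ Subgroup.center X ∧ α z = z ∧
      (∀ s ∈ commutator X, s ^ 2 = 1 → s ≠ 1 → s = z) := by
  obtain ⟨N, hN, hNc, hQc⟩ := hm
  have hle : commutator X ≤ N := by
    letI : CommGroup (X ⧸ N) := IsCyclic.commGroup
    have := Abelianization.commutator_subset_ker (QuotientGroup.mk' N)
    rwa [QuotientGroup.ker_mk'] at this
  haveI : IsCyclic ↥(commutator X) := Subgroup.isCyclic_of_le hle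
  have hne : commutator X ≠ ⊥ := by
    intro h
    apply hna
    intro a b
    have h1 : ⁅a, b⁆ ∈ commutator X := by
      rw [commutator_def]
      exact Subgroup.commutator_mem_commutator (Subgroup.mem_top a) (Subgroup.mem_top b)
    rw [h, Subgroup.mem_bot, commutatorElement_def] at h1
    calc a * b = (a * b * a⁻¹ * b⁻¹) * (b * a) := by group
      _ = b * a := by rw [h1, one_mul]
  obtain ⟨k, hk⟩ := Cfsg.Agent.S1785.card_pow hX (commutator X)
  have hk0 : k ≠ 0 := by
    intro h0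
    rw [h0, pow_zero] at hk
    exact hne (Subgroup.card_eq_one.mp hk)
  have h2 : 2 ∣ Nat.card ↥(commutator X) := by rw [hk]; exact dvd_pow_self 2 hk0
  haveI : Fact (Nat.Prime 2) := ⟨Nat.prime_two⟩
  obtain ⟨s, hs⟩ := exists_prime_orderOf_dvd_card' 2 h2
  have hs2 : (s : X) ^ 2 = 1 := by
    have := pow_orderOf_eq_one s
    rw [hs] at this
    exact congrArg Subtype.val this
  have hs1 : (s : X) ≠ 1 := by
    intro h
    have : s = 1 := Subtype.ext h
    rw [this, orderOf_one] at hs
    omega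
  have huniq : ∀ t ∈ commutator X, t ^ 2 = 1 → t ≠ 1 → t = (s : X) :=
    fun t ht ht2 ht1 => uniq_inv (commutator X) ht s.2 ht2 hs2 ht1 hs1
  refine ⟨s, s.2, hs2, hs1, ?_, ?_, huniq⟩
  · rw [Subgroup.mem_center_iff]
    intro g
    have hn : (commutator X).Normal := inferInstance
    have h1 : g * s * g⁻¹ ∈ commutator X := hn.conj_mem s s.2 g
    have h3 : (g * s * g⁻¹) ^ 2 = 1 := by
      calc (g * (s : X) * g⁻¹) ^ 2 = g * (s : X) ^ 2 * g⁻¹ := by rw [pow_two, pow_two]; group
        _ = 1 := by rw [hs2]; group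
    have h4 : g * s * g⁻¹ ≠ 1 := by
      intro h
      apply hs1
      calc (s : X) = g⁻¹ * (g * s * g⁻¹) * g := by group
        _ = 1 := by rw [h]; group
    have h5 := huniq _ h1 h3 h4
    calc g * (s : X) = (g * s * g⁻¹) * g := by group
      _ = s * g := by rw [h5]
  · have hchar : (commutator X).Characteristic := inferInstance
    have h1 : α s ∈ commutator X := by
      have := (Subgroup.characteristic_iff_map_le.mp hchar) α
      exact this ⟨s, s.2, rfl⟩
    have h3 : (α s) ^ 2 = 1 := by rw [← map_pow, hs2, map_one]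
    have h4 : α s ≠ 1 := by
      intro h
      exact hs1 (by simpa using h)
    exact huniq _ h1 h3 h4


omit [Finite X] in
theorem four {a b x : X} (ha : a ^ 2 = 1) (hb : b ^ 2 = 1) (hab : a * b = b * a)
    (hx : x ∈ Subgroup.zpowers a ⊔ Subgroup.zpowers b) :
    x = 1 ∨ x = a ∨ x = b ∨ x = a * b := by
  have hcm : ∀ (m : Subgroup.zpowers a) (n : Subgroup.zpowers b),
      Commute ((Subgroup.zpowers a).subtype m) ((Subgroup.zpowers b).subtype n) := by
    intro m n
    rcases Cfsg.Agent.S1785.mem_zpowers_two ha m.2 with h1 | h1 <;>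
    rcases Cfsg.Agent.S1785.mem_zpowers_two hb n.2 with h2 | h2 <;>
    simp only [Subgroup.coe_subtype, h1, h2, Commute.one_left, Commute.one_right]
    exact hab
  have hr := MonoidHom.noncommCoprod_range (Subgroup.zpowers a).subtype
    (Subgroup.zpowers b).subtype hcm
  rw [Subgroup.range_subtype, Subgroup.range_subtype] at hr
  rw [← hr] at hx
  obtain ⟨⟨m, n⟩, rfl⟩ := hx
  rcases Cfsg.Agent.S1785.mem_zpowers_two ha m.2 with h1 | h1 <;>
  rcases Cfsg.Agent.S1785.mem_zpowers_two hb n.2 with h2 | h2 <;>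
  simp [MonoidHom.noncommCoprod_apply, h1, h2]

/-- the subgroup of elements of square one in a commutative group -/
def omega1 (hc : ∀ a b : X, a * b = b * a) : Subgroup X where
  carrier := {b | b ^ 2 = 1}
  one_mem' := one_pow 2
  mul_mem' := by
    intro a b ha hb
    show (a * b) ^ 2 = 1
    rw [(show Commute a b from hc a b).mul_pow, show a ^ 2 = 1 from ha, show b ^ 2 = 1 from hb,
      one_mul]
  inv_mem' := by
    intro a ha
    show a⁻¹ ^ 2 = 1
    rw [inv_pow, show a ^ 2 = 1 from ha, inv_one]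

omit [Finite X] in
theorem mem_omega1 (hc : ∀ a b : X, a * b = b * a) (x : X) : x ∈ omega1 hc ↔ x ^ 2 = 1 := Iff.rfl

/-- the involutions of an abelian metacyclic 2-group with a nontrivial automorphism of odd prime
order -/
theorem l3 (hX : IsPGroup 2 X) (hm : Cfsg.IsMetacyclic X)
    (hcomm : ∀ a b : X, a * b = b * a) (β : MulAut X) (q : ℕ) (hqp : q.Prime) (hq2 : q ≠ 2)
    (hβq : β ^ q = 1) (hβ1 : β ≠ 1) (s : X) (hs2 : s ^ 2 = 1) (hs1 : s ≠ 1) :
    4 ≤ Nat.card X ∧ ∀ t : X, t ^ 2 = 1 → t = 1 ∨ t = s ∨ t = β s ∨ t = s * β s := by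
  have hnofix := nofix_abelian hX hm hcomm β q hqp hq2 hβq hβ1
  have hβs2 : (β s) ^ 2 = 1 := by rw [← map_pow, hs2, map_one]
  have hβs : β s ∉ Subgroup.zpowers s := by
    intro h
    rcases Cfsg.Agent.S1785.mem_zpowers_two hs2 h with h | h
    · exact hs1 (by simpa using h)
    · exact hnofix s hs2 hs1 h
  have hadj := Cfsg.Agent.S1785.adj (Cfsg.Agent.S1785.ea_zpowers hs2) hβs2 hβs
    (fun x _ => Cfsg.Agent.S1785.mem_Cz.mpr (hcomm x (β s)))
  rw [Cfsg.Agent.S1785.card_zpowers_two hs2 hs1] at hadj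
  have hle : Subgroup.zpowers s ⊔ Subgroup.zpowers (β s) ≤ omega1 hcomm :=
    fun x hx => (Cfsg.Agent.S1785.ea_iff.mp hadj.1).2 x hx
  have h4 : Nat.card ↥(omega1 hcomm) ≤ 4 := eb hm _ (fun g hg => hg)
  have heq : Subgroup.zpowers s ⊔ Subgroup.zpowers (β s) = omega1 hcomm :=
    Subgroup.eq_of_le_of_card_ge hle (by rw [hadj.2]; exact h4)
  refine ⟨?_, fun t ht2 => ?_⟩
  · have := Subgroup.card_le_card_group (Subgroup.zpowers s ⊔ Subgroup.zpowers (β s))
    rw [hadj.2] at this
    exact this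
  · have : t ∈ Subgroup.zpowers s ⊔ Subgroup.zpowers (β s) := by rw [heq]; exact ht2
    exact four hs2 hβs2 (hcomm s (β s)) this

/-- an internal presentation of the quaternion group of order 8 -/
def Q8pres (X : Type u) [Group X] : Prop :=
  Nat.card X = 8 ∧ ∃ x y : X, x ^ 4 = 1 ∧ x ^ 2 ≠ 1 ∧ y * y = x ^ 2 ∧ y * x = x⁻¹ * y

theorem iso_of_Q8pres (h : Q8pres X) : Nonempty (X ≃* QuaternionGroup 2) := by
  obtain ⟨hcard, x, y, hx4, hx2, hyy, hyx⟩ := h
  let f : QuaternionGroup 2 →* X :=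
    Cfsg.Agent.Lib.Helper7_QuatLift.lift x y (by simpa using hx4) hyy hyx
  have hfa : x ∈ f.range := by
    refine ⟨QuaternionGroup.a 1, ?_⟩
    show x ^ (1 : ZMod (2 * 2)).val = x
    have : Fact (1 < 2 * 2) := ⟨by norm_num⟩
    rw [ZMod.val_one, pow_one]
  have hfx : y ∈ f.range := by
    refine ⟨QuaternionGroup.xa 0, ?_⟩
    show y * x ^ (0 : ZMod (2 * 2)).val = y
    rw [ZMod.val_zero, pow_zero, mul_one]
  have hox : orderOf x = 2 ^ (1 + 1) := by
    apply orderOf_eq_prime_pow
    · simpa using hx2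
    · simpa using hx4
  have hy : y ∉ Subgroup.zpowers x := by
    intro h
    obtain ⟨i, rfl⟩ := Subgroup.mem_zpowers_iff.mp h
    have h1 : x ^ i * x = x * x ^ i := by
      rw [← zpow_add_one, ← zpow_one_add, add_comm]
    rw [h1] at hyx
    have h2 : x = x⁻¹ := mul_right_cancel hyx
    apply hx2
    rw [pow_two]
    nth_rewrite 1 [h2]
    exact inv_mul_cancel x
  have hlt : Subgroup.zpowers x < f.range :=
    lt_of_le_of_ne (Subgroup.zpowers_le.mpr hfa) (fun h => hy (h ▸ hfx))
  have h4 : 4 ∣ Nat.card f.range := by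
    have := Subgroup.card_dvd_of_le hlt.le
    rwa [Nat.card_zpowers, hox] at this
  have h8 : Nat.card f.range ∣ 8 := hcard ▸ Subgroup.card_subgroup_dvd_card f.range
  have hne4 : Nat.card f.range ≠ 4 := by
    intro h
    have h5 : Subgroup.zpowers x = f.range :=
      Subgroup.eq_of_le_of_card_ge hlt.le (by rw [h, Nat.card_zpowers, hox]; norm_num)
    exact hlt.ne h5
  have hr8 : Nat.card f.range = 8 := by
    obtain ⟨c, hc⟩ := h4
    rw [hc] at h8 hne4 ⊢
    have hc2 : c ∣ 2 := by
      have : 4 * c ∣ 4 * 2 := h8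
      exact Nat.dvd_of_mul_dvd_mul_left (by norm_num) this
    have hc' : c ≤ 2 := Nat.le_of_dvd (by norm_num) hc2
    interval_cases c
    · simp at hc2
    · exact absurd rfl hne4
    · rfl
  have hsurj : Function.Surjective f := by
    rw [← MonoidHom.range_eq_top]
    apply Subgroup.eq_top_of_le_card
    rw [hr8, hcard]
  have hcardQ : Nat.card (QuaternionGroup 2) = 4 * 2 := by
    rw [Nat.card_eq_fintype_card, QuaternionGroup.card]
  have hbij : Function.Bijective f := by
    apply hsurj.bijective_of_nat_card_le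
    rw [hcardQ, hcard]
  exact ⟨(MulEquiv.ofBijective f hbij).symm⟩


theorem step (hX : IsPGroup 2 X) (hm : Cfsg.IsMetacyclic X) (α : MulAut X) (q : ℕ)
    (hqp : q.Prime) (hq2 : q ≠ 2) (hαq : α ^ q = 1) (hα1 : α ≠ 1)
    (hna : ¬ ∀ a b : X, a * b = b * a)
    (IH : ∀ (Y : Type u) [Group Y] [Finite Y], Nat.card Y < Nat.card X → IsPGroup 2 Y →
      Cfsg.IsMetacyclic Y → ∀ β : MulAut Y, β ^ q = 1 → β ≠ 1 →
      (∀ a b : Y, a * b = b * a) ∨ Q8pres Y) : Q8pres X := by
  have hodd : Odd q := hqp.odd_of_ne_two hq2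
  obtain ⟨z, hzc, hz2, hz1, hzcen, hαz, huniq⟩ := exists_z hX hm hna α
  have hzz : z * z = 1 := by rw [← pow_two]; exact hz2
  set K := Subgroup.zpowers z with hKdef
  have hKmem : ∀ k ∈ K, k = 1 ∨ k = z := fun k hk => Cfsg.Agent.S1785.mem_zpowers_two hz2 hk
  have hzK : z ∈ K := Subgroup.mem_zpowers z
  have hKcen : ∀ k ∈ K, ∀ g : X, g * k = k * g := by
    intro k hk g
    rcases hKmem k hk with rfl | rfl
    · simp
    · exact Subgroup.mem_center_iff.mp hzcen g
  have hKsq : ∀ k ∈ K, k * k = 1 := by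
    intro k hk
    rcases hKmem k hk with rfl | rfl
    · simp
    · exact hzz
  haveI hKn : K.Normal := by
    constructor
    intro k hk g
    have : g * k * g⁻¹ = k := by rw [hKcen k hk g]; group
    rw [this]; exact hk
  have hKα : K.map (α : X ≃* X).toMonoidHom = K := by
    rw [hKdef, MonoidHom.map_zpowers]
    show Subgroup.zpowers (α z) = _
    rw [hαz]
  have hKfix : ∀ k ∈ K, α k = k := by
    intro k hk
    rcases hKmem k hk with rfl | rfl
    · simp
    · exact hαz
  have hKcard : Nat.card K = 2 := Cfsg.Agent.S1785.card_zpowers_two hz2 hz1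
  have hcardX : Nat.card X = Nat.card (X ⧸ K) * 2 := by
    rw [Subgroup.card_eq_card_quotient_mul_card_subgroup K, hKcard]
  have hYpos : 0 < Nat.card (X ⧸ K) := Nat.card_pos
  set β := ind α K hKα with hβ
  have hβmk : ∀ x : X, β (QuotientGroup.mk x) = QuotientGroup.mk (α x) := fun x => rfl
  have hβq : β ^ q = 1 := ind_pow_eq_one α K hKα q hαq
  have hβ1 : β ≠ 1 := fun h => hα1 (eq_one_of_ind hX α q hodd hαq K hKα hKfix h)
  have hYp : IsPGroup 2 (X ⧸ K) := hX.to_quotient K
  have hYm : Cfsg.IsMetacyclic (X ⧸ K) := metacyclic_quot hm K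
  have hmk : ∀ a b : X, (QuotientGroup.mk a : X ⧸ K) = QuotientGroup.mk b →
      ∃ k ∈ K, b = a * k := by
    intro a b h
    exact ⟨a⁻¹ * b, QuotientGroup.eq.mp h, by group⟩
  rcases IH (X ⧸ K) (by omega) hYp hYm β hβq hβ1 with hYc | hYQ
  swap
  · -- the quotient cannot be quaternion
    exfalso
    obtain ⟨_, x', y', hx4, hx2, hyy, hyx⟩ := hYQ
    obtain ⟨x, rfl⟩ := QuotientGroup.mk_surjective x'
    obtain ⟨y, rfl⟩ := QuotientGroup.mk_surjective y'
    obtain ⟨c, hc⟩ : ∃ c, c = y * x * y⁻¹ * x⁻¹ := ⟨_, rfl⟩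
    have hcX' : c ∈ commutator X := by
      rw [commutator_def, hc, ← commutatorElement_def]
      exact Subgroup.commutator_mem_commutator (Subgroup.mem_top y) (Subgroup.mem_top x)
    have hmkc : (QuotientGroup.mk c : X ⧸ K) = QuotientGroup.mk (x ^ 2) := by
      rw [hc, QuotientGroup.mk_mul, QuotientGroup.mk_mul, QuotientGroup.mk_mul, hyx,
        QuotientGroup.mk_inv, QuotientGroup.mk_inv, QuotientGroup.mk_pow]
      have : (QuotientGroup.mk x : X ⧸ K)⁻¹ * QuotientGroup.mk y * (QuotientGroup.mk y)⁻¹ *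
          (QuotientGroup.mk x)⁻¹ = ((QuotientGroup.mk x) ^ 4)⁻¹ * (QuotientGroup.mk x) ^ 2 := by
        group
      rw [this, hx4, inv_one, one_mul]
    obtain ⟨k1, hk1, hk1e⟩ := hmk _ _ hmkc.symm
    -- c = x^2 * k1
    have hmkyy : (QuotientGroup.mk (x ^ 2) : X ⧸ K) = QuotientGroup.mk (y * y) := by
      rw [QuotientGroup.mk_mul, QuotientGroup.mk_pow, hyy]
    obtain ⟨k2, hk2, hk2e⟩ := hmk _ _ hmkyy
    -- y * y = x^2 * k2
    have hcx : c * x = x * c := by
      rw [hk1e]
      calc x ^ 2 * k1 * x = x ^ 2 * (k1 * x) := by group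
        _ = x ^ 2 * (x * k1) := by rw [hKcen k1 hk1 x]
        _ = x * (x ^ 2 * k1) := by rw [pow_two]; group
    have hyyx : (y * y) * x = x * (y * y) := by
      rw [hk2e]
      calc x ^ 2 * k2 * x = x ^ 2 * (k2 * x) := by group
        _ = x ^ 2 * (x * k2) := by rw [hKcen k2 hk2 x]
        _ = x * (x ^ 2 * k2) := by rw [pow_two]; group
    have hcyy : c = (y * y) * (k2⁻¹ * k1) := by
      rw [hk1e, hk2e]; group
    have hk3 : k2⁻¹ * k1 ∈ K := K.mul_mem (K.inv_mem hk2) hk1
    have hcy : c * y = y * c := by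
      rw [hcyy]
      calc y * y * (k2⁻¹ * k1) * y = y * y * ((k2⁻¹ * k1) * y) := by group
        _ = y * y * (y * (k2⁻¹ * k1)) := by rw [hKcen _ hk3 y]
        _ = y * (y * y * (k2⁻¹ * k1)) := by group
    have hcK : c ∉ K := by
      intro h
      apply hx2
      rw [← QuotientGroup.mk_pow, ← hmkc]
      exact (QuotientGroup.eq_one_iff c).mpr h
    have hc2 : c ^ 2 ≠ 1 := by
      intro h
      have hc1 : c ≠ 1 := fun h1 => hcK (h1 ▸ K.one_mem)
      exact hcK ((huniq c hcX' h hc1) ▸ hzK)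
    have hyxc : y * x = c * x * y := by rw [hc]; group
    apply hc2
    have key : x * (y * y) = c ^ 2 * (x * (y * y)) := by
      calc x * (y * y) = (y * y) * x := hyyx.symm
        _ = y * (y * x) := by group
        _ = y * (c * x * y) := by rw [← hyxc]
        _ = (y * c) * x * y := by group
        _ = (c * y) * x * y := by rw [hcy]
        _ = c * (y * x) * y := by group
        _ = c * (c * x * y) * y := by rw [← hyxc]
        _ = c ^ 2 * (x * (y * y)) := by rw [pow_two]; group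
    have : 1 * (x * (y * y)) = c ^ 2 * (x * (y * y)) := by rw [one_mul]; exact key
    exact (mul_right_cancel this).symm
  · -- the quotient is abelian
    have hnofix := nofix_abelian hYp hYm hYc β q hqp hq2 hβq hβ1
    by_cases hA : ∀ g : X ⧸ K, g ^ 2 = 1
    · -- exponent two quotient
      have hexx : ∃ x : X, x ∉ K := by
        by_contra hcon
        push Not at hcon
        exact hna (fun a b => hKcen b (hcon b) a)
      obtain ⟨x, hxK⟩ := hexx
      have hx'1 : (QuotientGroup.mk x : X ⧸ K) ≠ 1 := fun h => hxK ((QuotientGroup.eq_one_iff x).mp h)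
      obtain ⟨h4, hall⟩ := l3 hYp hYm hYc β q hqp hq2 hβq hβ1 _ (hA _) hx'1
      have hY4 : Nat.card (X ⧸ K) = 4 := by
        have := eb hYm ⊤ (fun g _ => hA g)
        rw [Subgroup.card_top] at this
        omega
      have hβx1 : β (QuotientGroup.mk x) ≠ 1 := fun h => hx'1 (by simpa using h)
      have hβx2 : β (QuotientGroup.mk x) ≠ QuotientGroup.mk x := hnofix _ (hA _) hx'1
      have hββ : β (β (QuotientGroup.mk x)) = QuotientGroup.mk x * β (QuotientGroup.mk x) := by
        rcases hall (β (β (QuotientGroup.mk x))) (hA _) with h | h | h | h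
        · exact absurd (by simpa using h) hβx1
        · exact absurd (fix_of_sq β q hodd hβq _ h) hβx2
        · exact absurd h (hnofix _ (hA _) hβx1)
        · exact h
      obtain ⟨y, hy⟩ : ∃ y, y = α x := ⟨_, rfl⟩
      have hmky : (QuotientGroup.mk y : X ⧸ K) = β (QuotientGroup.mk x) := by rw [hy, hβmk]
      have hmkαy : (QuotientGroup.mk (x * y) : X ⧸ K) = QuotientGroup.mk (α y) := by
        rw [← hβmk, hmky, hββ, QuotientGroup.mk_mul, hmky]
      obtain ⟨k, hk, hke⟩ := hmk _ _ hmkαy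
      have hx2K : x ^ 2 ∈ K := by
        rw [← QuotientGroup.eq_one_iff, QuotientGroup.mk_pow]; exact hA _
      have hy2 : y ^ 2 = x ^ 2 := by rw [hy, ← map_pow, hKfix _ hx2K]
      have hαy2 : (α y) ^ 2 = x ^ 2 := by rw [← map_pow, hy2, hKfix _ hx2K]
      have hxy2 : (x * y) ^ 2 = x ^ 2 := by
        rw [← hαy2, hke]
        calc (x * y) ^ 2 = (x * y) * (x * y) * 1 := by rw [pow_two, mul_one]
          _ = (x * y) * (x * y) * (k * k) := by rw [hKsq k hk]
          _ = (x * y) * ((x * y) * k) * k := by group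
          _ = (x * y) * (k * (x * y)) * k := by rw [hKcen k hk (x * y)]
          _ = (x * y * k) ^ 2 := by rw [pow_two]; group
      have hgen : ∀ H : Subgroup X, x ∈ H → y ∈ H → K ≤ H → ∀ a : X, a ∈ H := by
        intro H hxH hyH hKH a
        rcases hall (QuotientGroup.mk a) (hA _) with h | h | h | h
        · exact hKH ((QuotientGroup.eq_one_iff a).mp h)
        · obtain ⟨k', hk', rfl⟩ := hmk _ _ h.symm
          exact H.mul_mem hxH (hKH hk')
        · rw [← hmky] at h
          obtain ⟨k', hk', rfl⟩ := hmk _ _ h.symm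
          exact H.mul_mem hyH (hKH hk')
        · rw [← hmky, ← QuotientGroup.mk_mul] at h
          obtain ⟨k', hk', rfl⟩ := hmk _ _ h.symm
          exact H.mul_mem (H.mul_mem hxH hyH) (hKH hk')
      have hxy : x * y ≠ y * x := by
        intro h
        apply hna
        have hxc : ∀ a : X, a * x = x * a := fun a =>
          Cfsg.Agent.S1785.mem_Cz.mp (hgen (Cfsg.Agent.S1785.Cz x)
            (Cfsg.Agent.S1785.mem_Cz.mpr rfl) (Cfsg.Agent.S1785.mem_Cz.mpr h.symm)
            (fun k' hk' => Cfsg.Agent.S1785.mem_Cz.mpr (hKcen k' hk' x).symm) a)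
        have hyc : ∀ a : X, a * y = y * a := fun a =>
          Cfsg.Agent.S1785.mem_Cz.mp (hgen (Cfsg.Agent.S1785.Cz y)
            (Cfsg.Agent.S1785.mem_Cz.mpr h) (Cfsg.Agent.S1785.mem_Cz.mpr rfl)
            (fun k' hk' => Cfsg.Agent.S1785.mem_Cz.mpr (hKcen k' hk' y).symm) a)
        have hcen : ∀ a : X, a ∈ Subgroup.center X :=
          hgen (Subgroup.center X) (Subgroup.mem_center_iff.mpr hxc)
            (Subgroup.mem_center_iff.mpr hyc)
            (fun k' hk' => Subgroup.mem_center_iff.mpr (hKcen k' hk'))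
        intro a b
        exact Subgroup.mem_center_iff.mp (hcen b) a
      obtain ⟨k', hk', hk'e⟩ := hmk (y * x) (x * y)
        (by rw [QuotientGroup.mk_mul, QuotientGroup.mk_mul]; exact hYc _ _)
      have hk'z : k' = z := by
        rcases hKmem k' hk' with h | h
        · rw [h, mul_one] at hk'e
          exact absurd hk'e hxy
        · exact h
      rw [hk'z] at hk'e
      -- x * y = y * x * z
      have hyx' : y * x = x * y * z := by
        rw [hk'e, mul_assoc, hzz, mul_one]
      have hx2z : x ^ 2 = z := by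
        have h1 : (x * y) ^ 2 = x ^ 2 * (x ^ 2 * z) := by
          calc (x * y) ^ 2 = x * (y * x) * y := by rw [pow_two]; group
            _ = x * (x * y * z) * y := by rw [hyx']
            _ = x * x * y * (z * y) := by group
            _ = x * x * y * (y * z) := by rw [← Subgroup.mem_center_iff.mp hzcen y]
            _ = x ^ 2 * (y ^ 2 * z) := by rw [pow_two, pow_two]; group
            _ = x ^ 2 * (x ^ 2 * z) := by rw [hy2]
        rw [hxy2] at h1
        have h2 : x ^ 2 * z = 1 := by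
          have : x ^ 2 * 1 = x ^ 2 * (x ^ 2 * z) := by rw [mul_one]; exact h1
          exact (mul_left_cancel this).symm
        calc x ^ 2 = x ^ 2 * (z * z) := by rw [hzz, mul_one]
          _ = (x ^ 2 * z) * z := by group
          _ = z := by rw [h2, one_mul]
      refine ⟨by rw [hcardX, hY4], x, y, ?_, ?_, ?_, ?_⟩
      · calc x ^ 4 = (x ^ 2) ^ 2 := by rw [← pow_mul]
          _ = 1 := by rw [hx2z, hz2]
      · rw [hx2z]; exact hz1
      · rw [← pow_two, hy2]
      · have hxinv : x⁻¹ = x * z := by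
          rw [inv_eq_iff_mul_eq_one]
          calc x * (x * z) = x ^ 2 * z := by rw [pow_two]; group
            _ = 1 := by rw [hx2z, hzz]
        rw [hxinv, hyx']
        calc x * y * z = x * (y * z) := by group
          _ = x * (z * y) := by rw [Subgroup.mem_center_iff.mp hzcen y]
          _ = x * z * y := by group
    · -- some element of the quotient has order at least four
      exfalso
      push Not at hA
      obtain ⟨g, hg⟩ := hA
      obtain ⟨k, hk⟩ : ∃ k, orderOf g = 2 ^ k := by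
        obtain ⟨k, hk⟩ := hYp g
        exact (Nat.dvd_prime_pow Nat.prime_two).mp (orderOf_dvd_of_pow_eq_one hk) |>.imp
          (fun _ h => h.2)
      have hk2 : 2 ≤ k := by
        by_contra hlt
        apply hg
        apply orderOf_dvd_iff_pow_eq_one.mp
        rw [hk]
        have : k ≤ 1 := by omega
        calc 2 ^ k ∣ 2 ^ 1 := pow_dvd_pow 2 this
          _ = 2 := by norm_num
      obtain ⟨h, hh⟩ : ∃ h, h = g ^ (2 ^ (k - 2)) := ⟨_, rfl⟩
      obtain ⟨s, hs⟩ : ∃ s, s = h ^ 2 := ⟨_, rfl⟩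
      have hsg : s = g ^ (2 ^ (k - 1)) := by
        rw [hs, hh, ← pow_mul, ← pow_succ]
        congr 2; omega
      have hs2 : s ^ 2 = 1 := by
        rw [hsg, ← pow_mul, ← pow_succ]
        have : k - 1 + 1 = k := by omega
        rw [this, ← hk]; exact pow_orderOf_eq_one g
      have hs1 : s ≠ 1 := by
        intro h1
        rw [hsg] at h1
        have := orderOf_dvd_of_pow_eq_one h1
        rw [hk] at this
        have := (Nat.pow_dvd_pow_iff_le_right (by norm_num : 1 < 2)).mp this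
        omega
      obtain ⟨_, hall⟩ := l3 hYp hYm hYc β q hqp hq2 hβq hβ1 s hs2 hs1
      have hsq : ∀ t : X ⧸ K, t ^ 2 = 1 → ∃ h' : X ⧸ K, h' ^ 2 = t := by
        intro t ht
        rcases hall t ht with rfl | rfl | rfl | rfl
        · exact ⟨1, one_pow 2⟩
        · exact ⟨h, hs.symm⟩
        · exact ⟨β h, by rw [← map_pow, ← hs]⟩
        · exact ⟨h * β h, by
            rw [(show Commute h (β h) from hYc _ _).mul_pow, ← map_pow, ← hs]⟩
      let S : Subgroup X := (omega1 hYc).comap (QuotientGroup.mk' K)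
      have hSmem : ∀ a : X, a ∈ S ↔ (QuotientGroup.mk a : X ⧸ K) ^ 2 = 1 := fun a => Iff.rfl
      have hScen : ∀ a ∈ S, ∀ b : X, b * a = a * b := by
        intro a ha b
        obtain ⟨h', hh'⟩ := hsq _ ((hSmem a).mp ha)
        obtain ⟨h0, rfl⟩ := QuotientGroup.mk_surjective h'
        rw [← QuotientGroup.mk_pow] at hh'
        obtain ⟨k1, hk1, rfl⟩ := hmk _ _ hh'
        obtain ⟨ε, hε, hεe⟩ := hmk (b * h0) (h0 * b)
          (by rw [QuotientGroup.mk_mul, QuotientGroup.mk_mul]; exact hYc _ _)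
        have h1 : h0 ^ 2 * b = b * h0 ^ 2 := by
          calc h0 ^ 2 * b = h0 * (h0 * b) := by rw [pow_two]; group
            _ = h0 * (b * h0 * ε) := by rw [hεe]
            _ = (h0 * b) * h0 * ε := by group
            _ = (b * h0 * ε) * h0 * ε := by rw [hεe]
            _ = b * h0 * (ε * h0) * ε := by group
            _ = b * h0 * (h0 * ε) * ε := by rw [hKcen ε hε h0]
            _ = b * h0 ^ 2 * (ε * ε) := by rw [pow_two]; group
            _ = b * h0 ^ 2 := by rw [hKsq ε hε, mul_one]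
        calc b * (h0 ^ 2 * k1) = (b * h0 ^ 2) * k1 := by group
          _ = (h0 ^ 2 * b) * k1 := by rw [h1]
          _ = h0 ^ 2 * (b * k1) := by group
          _ = h0 ^ 2 * (k1 * b) := by rw [hKcen k1 hk1 b]
          _ = h0 ^ 2 * k1 * b := by group
      have hSα : ∀ a ∈ S, α a ∈ S := by
        intro a ha
        rw [hSmem] at ha ⊢
        rw [← hβmk, ← map_pow, ha, map_one]
      have hzS : z ∈ S := by
        rw [hSmem, (QuotientGroup.eq_one_iff z).mpr hzK, one_pow]
      have hfix := fixAll hX hm α q hqp hq2 hαq S (fun a ha b _ => (hScen a ha b).symm) hSα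
        z hzS hz2 hz1 hαz
      obtain ⟨g0, rfl⟩ := QuotientGroup.mk_surjective s
      have hg0S : g0 ∈ S := (hSmem g0).mpr hs2
      apply hnofix _ hs2 hs1
      rw [hβmk, hfix g0 hg0S]

end nonab


theorem main (q : ℕ) (hqp : q.Prime) (hq2 : q ≠ 2) : ∀ n : ℕ, ∀ (X : Type u) [Group X] [Finite X],
    Nat.card X = n → IsPGroup 2 X → Cfsg.IsMetacyclic X → ∀ α : MulAut X, α ^ q = 1 → α ≠ 1 →
    (∀ a b : X, a * b = b * a) ∨ Q8pres X := by
  intro n
  induction n using Nat.strong_induction_on with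
  | _ n ih =>
    intro X _ _ hn hX hm α hαq hα1
    by_cases hc : ∀ a b : X, a * b = b * a
    · exact Or.inl hc
    · right
      apply step hX hm α q hqp hq2 hαq hα1 hc
      intro Y _ _ hlt hY hYm β hβq hβ1
      exact ih (Nat.card Y) (hn ▸ hlt) Y rfl hY hYm β hβq hβ1

theorem exists_aut {X : Type u} [Group X] [Finite X] (hA : ¬ IsPGroup 2 (MulAut X)) :
    ∃ (q : ℕ) (α : MulAut X), q.Prime ∧ q ≠ 2 ∧ α ^ q = 1 ∧ α ≠ 1 := by
  haveI : Finite (MulAut X) :=
    Finite.of_injective (fun e : MulAut X => (e : X → X)) DFunLike.coe_injective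
  have hN0 : Nat.card (MulAut X) ≠ 0 := Nat.card_pos.ne'
  have hex : ∃ q : ℕ, q.Prime ∧ q ∣ Nat.card (MulAut X) ∧ q ≠ 2 := by
    by_contra hcon
    push Not at hcon
    apply hA
    have := Nat.eq_prime_pow_of_unique_prime_dvd hN0 (fun {d} hd hdvd => hcon d hd hdvd)
    exact IsPGroup.of_card this
  obtain ⟨q, hqp, hqd, hq2⟩ := hex
  haveI : Fact q.Prime := ⟨hqp⟩
  obtain ⟨α, hα⟩ := exists_prime_orderOf_dvd_card' q hqd
  refine ⟨q, α, hqp, hq2, ?_, ?_⟩
  · rw [← hα]; exact pow_orderOf_eq_one α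
  · intro h
    rw [h, orderOf_one] at hα
    exact hqp.ne_one hα.symm


/-- A finite metacyclic 2-group whose automorphism group is not a 2-group is isomorphic to the quaternion group of order 8 or to a homocyclic abelian group Z_{2^n} × Z_{2^n}. -/
theorem result {X : Type*} [Group X] [Finite X] (hX : IsPGroup 2 X)
    (hm : Cfsg.IsMetacyclic X) (hA : ¬ IsPGroup 2 (MulAut X)) :
    Nonempty (X ≃* QuaternionGroup 2) ∨
      ∃ n : ℕ, Nonempty (X ≃* Multiplicative (ZMod (2 ^ n)) × Multiplicative (ZMod (2 ^ n))) := by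
  obtain ⟨q, α, hqp, hq2, hαq, hα1⟩ := exists_aut hA
  rcases main q hqp hq2 (Nat.card X) X rfl hX hm α hαq hα1 with hc | hQ
  · exact Or.inr (abelian_case hX hm hc α q hqp hq2 hαq hα1)
  · exact Or.inl (iso_of_Q8pres hQ)

end Cfsg.Agent.S1896
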