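import Cfsg.Statements.S1898
import Mathlib

set_option autoImplicit false
open Cfsg

namespace Cfsg.Agent.S1898

open scoped commutatorElement

theorem comm_mem {X : Type*} [Group X] (x y : X) : ⁅x, y⁆ ∈ commutator X := by
  rw [commutator_def]
  exact Subgroup.commutator_mem_commutator (Subgroup.mem_top x) (Subgroup.mem_top y)

theorem comm_central {X : Type*} [Group X] (hcen : commutator X ≤ Subgroup.center X)
    (x y g : X) : ⁅x, y⁆ * g = g * ⁅x, y⁆ := by
  have := hcen (comm_mem x y)
  rw [Subgroup.mem_center_iff] at this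
  exact (this g).symm

theorem comm_sq {X : Type*} [Group X] (hsq : ∀ a ∈ commutator X, a ^ 2 = 1)
    (x y : X) : ⁅x, y⁆ * ⁅x, y⁆ = 1 := by
  rw [← pow_two]; exact hsq _ (comm_mem x y)

theorem swap {X : Type*} [Group X] (x y : X) : y * x = ⁅y, x⁆ * x * y := by
  rw [commutatorElement_def]; group

/-- squares are central -/
theorem sq_central {X : Type*} [Group X] (hsq : ∀ a ∈ commutator X, a ^ 2 = 1)
    (hcen : commutator X ≤ Subgroup.center X) (x g : X) : g * (x * x) = (x * x) * g := by
  have hc := comm_central hcen g x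
  calc g * (x * x) = (g * x) * x := by rw [mul_assoc]
    _ = (⁅g, x⁆ * x * g) * x := by rw [← swap]
    _ = ⁅g, x⁆ * x * (g * x) := by simp only [mul_assoc]
    _ = ⁅g, x⁆ * x * (⁅g, x⁆ * x * g) := by rw [← swap]
    _ = ⁅g, x⁆ * (x * ⁅g, x⁆) * x * g := by simp only [mul_assoc]
    _ = ⁅g, x⁆ * (⁅g, x⁆ * x) * x * g := by rw [hc x]
    _ = (⁅g, x⁆ * ⁅g, x⁆) * (x * x) * g := by simp only [mul_assoc]
    _ = (x * x) * g := by rw [comm_sq hsq, one_mul]

/-- `(x y)^2 = c x² y²` -/
theorem mul_sq {X : Type*} [Group X]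
    (hcen : commutator X ≤ Subgroup.center X) (x y : X) :
    (x * y) * (x * y) = ⁅y, x⁆ * (x * x) * (y * y) := by
  have hc := comm_central hcen y x
  calc (x * y) * (x * y) = x * (y * x) * y := by simp only [mul_assoc]
    _ = x * (⁅y, x⁆ * x * y) * y := by rw [← swap]
    _ = (x * ⁅y, x⁆) * x * y * y := by simp only [mul_assoc]
    _ = (⁅y, x⁆ * x) * x * y * y := by rw [hc x]
    _ = ⁅y, x⁆ * (x * x) * (y * y) := by simp only [mul_assoc]

theorem mul_pow_four {X : Type*} [Group X] (hsq : ∀ a ∈ commutator X, a ^ 2 = 1)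
    (hcen : commutator X ≤ Subgroup.center X) (x y : X) : (x * y) ^ 4 = x ^ 4 * y ^ 4 := by
  have h4 : ∀ g : X, g ^ 4 = (g * g) * (g * g) := by
    intro g; simp only [pow_succ, pow_zero, one_mul, mul_assoc]
  rw [h4 (x * y), h4 x, h4 y, mul_sq hcen x y]
  have hc := comm_central hcen y x
  have hx := sq_central hsq hcen x
  have hy := sq_central hsq hcen y
  calc ⁅y, x⁆ * (x * x) * (y * y) * (⁅y, x⁆ * (x * x) * (y * y))
      = ⁅y, x⁆ * ((x * x) * (y * y) * ⁅y, x⁆) * (x * x) * (y * y) := by simp only [mul_assoc]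
    _ = ⁅y, x⁆ * (⁅y, x⁆ * ((x * x) * (y * y))) * (x * x) * (y * y) := by rw [← hc ((x * x) * (y * y))]
    _ = (⁅y, x⁆ * ⁅y, x⁆) * (x * x) * ((y * y) * (x * x)) * (y * y) := by simp only [mul_assoc]
    _ = (x * x) * ((x * x) * (y * y)) * (y * y) := by rw [comm_sq hsq, one_mul, hx (y * y)]
    _ = (x * x) * (x * x) * ((y * y) * (y * y)) := by simp only [mul_assoc]

theorem result {X : Type*} [Group X] [Finite X] (hX : IsPGroup 2 X)
    (hel : Cfsg.IsElementaryAbelian 2 (commutator X)) (hcen : commutator X ≤ Subgroup.center X) :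
    (∀ x ∈ Subgroup.closure {g : X | g ^ 4 = 1}, x ^ 4 = 1) ∧
      ∀ φ : MulAut X, (∀ g : X, g ^ 4 = 1 → φ g = g) → ∃ k : ℕ, φ ^ (2 ^ k) = 1 := by
  have hsq : ∀ a ∈ commutator X, a ^ 2 = 1 := hel.2
  refine ⟨?_, ?_⟩
  · intro x hx
    induction hx using Subgroup.closure_induction with
    | mem g hg => exact hg
    | one => simp
    | mul a b _ _ ha hb => rw [mul_pow_four hsq hcen, ha, hb, one_mul]
    | inv a _ ha => rw [inv_pow, ha, inv_one]
  · intro φ hφ
    -- P j : φ^(4^j) fixes every g with g^(2^(j+2)) = 1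
    have P : ∀ j : ℕ, ∀ g : X, g ^ (2 ^ (j + 2)) = 1 → (φ ^ (4 ^ j)) g = g := by
      intro j
      induction j with
      | zero =>
        intro g hg
        simp only [pow_zero, pow_one]
        exact hφ g (by simpa using hg)
      | succ j ih =>
        intro x hx
        set ψ := φ ^ (4 ^ j) with hψ
        have hψ4 : φ ^ (4 ^ (j + 1)) = ψ ^ 4 := by
          rw [hψ, ← pow_mul, pow_succ]
        rw [hψ4]
        -- ψ fixes x * x
        have hxx : ψ (x * x) = x * x := by
          apply ih
          rw [← pow_two, ← pow_mul, ← pow_succ']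
          exact hx
        set z := x⁻¹ * ψ x with hz
        have hψx : ψ x = x * z := by rw [hz]; group
        -- (x z)^2 = x^2
        have h1 : (x * z) * (x * z) = x * x := by
          rw [← hψx, ← map_mul, hxx]
        rw [mul_sq hcen x z] at h1
        -- c x² z² = x²
        have hxc := sq_central hsq hcen x
        have h2 : ⁅z, x⁆ * (z * z) = 1 := by
          have : (x * x) * (⁅z, x⁆ * (z * z)) = (x * x) * 1 := by
            rw [mul_one, ← mul_assoc, ← hxc ⁅z, x⁆]
            exact h1
          exact mul_left_cancel this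
        have h3 : z * z = ⁅z, x⁆ := by
          have := eq_inv_of_mul_eq_one_right h2
          rw [this]
          exact inv_eq_of_mul_eq_one_left (comm_sq hsq z x)
        have hz4 : z ^ 4 = 1 := by
          have h4 : z ^ 4 = (z * z) * (z * z) := by
            simp only [pow_succ, pow_zero, one_mul, mul_assoc]
          rw [h4, h3, comm_sq hsq]
        have hψz : ψ z = z := by
          apply ih
          have : 2 ^ (j + 2) = 4 * 2 ^ j := by ring
          rw [this, pow_mul, hz4, one_pow]
        -- ψ^m x = x z^m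
        have hm : ∀ m : ℕ, (ψ ^ m) x = x * z ^ m := by
          intro m
          induction m with
          | zero => simp
          | succ m ihm =>
            rw [pow_succ', MulAut.mul_apply, ihm, map_mul, map_pow, hψz, hψx, mul_assoc, ← pow_succ']
        rw [hm 4, hz4, mul_one]
    -- exponent
    obtain ⟨N, hN⟩ := IsPGroup.iff_card.mp hX
    refine ⟨2 * N, ?_⟩
    have h42 : (2 : ℕ) ^ (2 * N) = 4 ^ N := by
      rw [pow_mul]; norm_num
    rw [h42]
    ext g
    rw [MulAut.one_apply]
    apply P N g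
    have : g ^ (2 ^ N) = 1 := by rw [← hN]; exact pow_card_eq_one'
    rw [pow_add, pow_mul, this, one_pow]

end Cfsg.Agent.S1898
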