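import Cfsg.Statements.S1899
import Mathlib

set_option autoImplicit false
open Cfsg

namespace Cfsg.Agent.S1899

/-- A point fixed by `f` is fixed by all powers of `f`. -/
theorem pow_fixed {A : Type*} [Group A] (f : MulAut A) (x : A) (h : f x = x) (m : ℕ) : (f ^ m) x = x := by
  induction m with
  | zero => simp
  | succ m ih => rw [pow_succ, MulAut.mul_apply, h, ih]

/-- If `H ⊓ K = ⊥` then `|H| * |K| ≤ |A|`. -/
theorem card_mul_le_of_inf_eq_bot {A : Type*} [Group A] [Finite A] (H K : Subgroup A) (h : H ⊓ K = ⊥) :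
    Nat.card H * Nat.card K ≤ Nat.card A := by
  rw [← Nat.card_prod]
  apply Nat.card_le_card_of_injective (fun p : H × K => (p.1 : A) * (p.2 : A))
  rintro ⟨h1, k1⟩ ⟨h2, k2⟩ heq
  simp only at heq
  -- h2⁻¹ h1 = k2 k1⁻¹ ∈ H ⊓ K
  have e : (h2 : A)⁻¹ * h1 = k2 * (k1 : A)⁻¹ := by
    calc (h2 : A)⁻¹ * h1 = (h2 : A)⁻¹ * ((h1 : A) * k1) * (k1 : A)⁻¹ := by group
      _ = (h2 : A)⁻¹ * ((h2 : A) * k2) * (k1 : A)⁻¹ := by rw [heq]
      _ = k2 * (k1 : A)⁻¹ := by group
  have hm : (h2 : A)⁻¹ * h1 ∈ H ⊓ K := by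
    refine ⟨H.mul_mem (H.inv_mem h2.2) h1.2, ?_⟩
    rw [e]; exact K.mul_mem k2.2 (K.inv_mem k1.2)
  rw [h, Subgroup.mem_bot] at hm
  have h12 : (h1 : A) = h2 := (inv_mul_eq_one.mp hm).symm
  have hk : (k2 : A) * (k1 : A)⁻¹ = 1 := by rw [← e, hm]
  have k12 : (k1 : A) = k2 := (mul_inv_eq_one.mp hk).symm
  exact Prod.ext (Subtype.ext h12) (Subtype.ext k12)

theorem result {A : Type*} [CommGroup A] [Finite A] (hA : IsPGroup 2 A)
    {n : ℕ} (hn : Odd n) (hn1 : 1 < n) (d t : MulAut A) (hd : d ^ n = 1) (ht : t ^ 2 = 1) (hdt : t * d * t⁻¹ = d⁻¹)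
    (hfix : ∀ a : A, d a = a → a = 1) :
    (MulEquiv.toMonoidHom t).eqLocus (MonoidHom.id A) ⊓ ((MulEquiv.toMonoidHom t).eqLocus (MonoidHom.id A)).map d.toMonoidHom = ⊥ ∧
      (MulEquiv.toMonoidHom t).eqLocus (MonoidHom.id A) ⊔ ((MulEquiv.toMonoidHom t).eqLocus (MonoidHom.id A)).map d.toMonoidHom = ⊤ := by
  obtain ⟨k, hk⟩ := hn
  -- basic identities
  have htt : ∀ a : A, t (t a) = a := by
    intro a
    have : (t ^ 2) a = a := by rw [ht]; rfl
    rwa [pow_two, MulAut.mul_apply] at this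
  have htinv : t⁻¹ = t := by
    rw [inv_eq_iff_mul_eq_one, ← pow_two, ht]
  have htdt : t * d * t = d⁻¹ := by
    have := hdt
    rwa [htinv] at this
  -- key: t x = ε(x), (d t d⁻¹) x = ε(x) in a compatible way implies d² x = x
  have hd2 : ∀ x : A, (d ^ 2) x = x → x = 1 := by
    intro x hx
    apply hfix
    have h1 := pow_fixed (d ^ 2) x hx (k + 1)
    have h2 : (d ^ 2) ^ (k + 1) = d := by
      rw [← pow_mul]
      have : 2 * (k + 1) = n + 1 := by omega
      rw [this, pow_succ, hd, one_mul]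
    rwa [h2] at h1
  -- t d t d⁻¹ = d⁻²
  have hkey : ∀ x : A, t (d (t (d⁻¹ x))) = (d ^ 2)⁻¹ x := by
    intro x
    have h1 : t * d * t * d⁻¹ = (d ^ 2)⁻¹ := by
      rw [htdt, pow_two, mul_inv_rev]
    have := congrArg (fun f : MulAut A => f x) h1
    simpa [MulAut.mul_apply] using this
  set C := (MulEquiv.toMonoidHom t).eqLocus (MonoidHom.id A) with hC
  have memC : ∀ a : A, a ∈ C ↔ t a = a := by
    intro a; rfl
  -- the subgroup I of elements inverted by t: kernel of φ a = a * t a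
  let φ : A →* A := MonoidHom.id A * t.toMonoidHom
  have hφ : ∀ a, φ a = a * t a := fun a => rfl
  have memI : ∀ a : A, a ∈ φ.ker ↔ t a = a⁻¹ := by
    intro a
    rw [MonoidHom.mem_ker, hφ]
    constructor
    · intro h; exact (eq_inv_of_mul_eq_one_right h)
    · intro h; rw [h, mul_inv_cancel]
  -- part 1 for C
  have hCd : C ⊓ C.map d.toMonoidHom = ⊥ := by
    rw [eq_bot_iff]
    rintro x ⟨hx1, c, hc, rfl⟩
    rw [Subgroup.mem_bot]
    apply hd2
    have hx1' : t (d c) = d c := (memC _).mp hx1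
    have hc' : t c = c := (memC _).mp hc
    have h1 := hkey (d c)
    have e1 : d⁻¹ (d c) = c := by simp
    show (d ^ 2) (d c) = d c
    rw [e1, hc', hx1'] at h1
    -- h1 : d c = (d^2)⁻¹ (d c)
    have := congrArg (fun y => (d ^ 2) y) h1
    simp only [MulAut.apply_inv_self] at this
    exact this
  -- part 1 for I
  have hId : φ.ker ⊓ φ.ker.map d.toMonoidHom = ⊥ := by
    rw [eq_bot_iff]
    rintro x ⟨hx1, c, hc, rfl⟩
    rw [Subgroup.mem_bot]
    apply hd2
    show (d ^ 2) (d c) = d c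
    have hx1' : t (d c) = (d c)⁻¹ := (memI _).mp hx1
    have hc' : t c = c⁻¹ := (memI _).mp hc
    have h1 := hkey (d c)
    have e1 : d⁻¹ (d c) = c := by simp
    rw [e1, hc', map_inv, map_inv, hx1', inv_inv] at h1
    have := congrArg (fun y => (d ^ 2) y) h1
    simp only [MulAut.apply_inv_self] at this
    exact this
  -- cardinalities
  have hcardCd : Nat.card (C.map d.toMonoidHom) = Nat.card C :=
    Subgroup.card_map_of_injective d.injective
  have hcardId : Nat.card (φ.ker.map d.toMonoidHom) = Nat.card φ.ker :=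
    Subgroup.card_map_of_injective d.injective
  have hC2 : Nat.card C * Nat.card C ≤ Nat.card A := by
    have := card_mul_le_of_inf_eq_bot C (C.map d.toMonoidHom) hCd
    rwa [hcardCd] at this
  have hI2 : Nat.card φ.ker * Nat.card φ.ker ≤ Nat.card A := by
    have := card_mul_le_of_inf_eq_bot φ.ker (φ.ker.map d.toMonoidHom) hId
    rwa [hcardId] at this
  have hrange : φ.range ≤ C := by
    rintro _ ⟨a, rfl⟩
    rw [memC, hφ, map_mul, htt, mul_comm]
  have hAIC : Nat.card A ≤ Nat.card φ.ker * Nat.card C := by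
    have h1 : Nat.card φ.ker * φ.ker.index = Nat.card A := Subgroup.card_mul_index _
    rw [Subgroup.index_ker] at h1
    rw [← h1]
    exact Nat.mul_le_mul_left _ (Subgroup.card_le_of_le hrange)
  -- conclude |C|^2 = |A|
  have hApos : 0 < Nat.card A := Nat.card_pos
  set c := Nat.card C
  set i := Nat.card φ.ker
  set N := Nat.card A
  have hcc : N ≤ c * c := by
    -- N * N ≤ (i c)^2 = (i i)(c c) ≤ N (c c)
    have h1 : N * N ≤ (i * c) * (i * c) := Nat.mul_le_mul hAIC hAIC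
    have h2 : (i * c) * (i * c) = (i * i) * (c * c) := by ring
    have h3 : (i * i) * (c * c) ≤ N * (c * c) := Nat.mul_le_mul_right _ hI2
    have h4 : N * N ≤ N * (c * c) := by
      calc N * N ≤ (i * c) * (i * c) := h1
        _ = (i * i) * (c * c) := h2
        _ ≤ N * (c * c) := h3
    exact Nat.le_of_mul_le_mul_left h4 hApos
  refine ⟨hCd, ?_⟩
  -- the sup has at least |C|*|dC| = c*c ≥ N elements
  have hsup : Nat.card C * Nat.card (C.map d.toMonoidHom) ≤ Nat.card ↥(C ⊔ C.map d.toMonoidHom) := by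
    rw [← Nat.card_prod]
    apply Nat.card_le_card_of_injective
      (fun p : C × (C.map d.toMonoidHom) => (⟨(p.1 : A) * (p.2 : A),
        Subgroup.mul_mem _ (Subgroup.mem_sup_left p.1.2) (Subgroup.mem_sup_right p.2.2)⟩ : ↥(C ⊔ C.map d.toMonoidHom)))
    rintro ⟨h1, k1⟩ ⟨h2, k2⟩ heq
    have heq' : (h1 : A) * (k1 : A) = (h2 : A) * (k2 : A) := congrArg Subtype.val heq
    have e : (h2 : A)⁻¹ * h1 = k2 * (k1 : A)⁻¹ := by
      calc (h2 : A)⁻¹ * h1 = (h2 : A)⁻¹ * ((h1 : A) * k1) * (k1 : A)⁻¹ := by group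
        _ = (h2 : A)⁻¹ * ((h2 : A) * k2) * (k1 : A)⁻¹ := by rw [heq']
        _ = k2 * (k1 : A)⁻¹ := by group
    have hm : (h2 : A)⁻¹ * h1 ∈ C ⊓ C.map d.toMonoidHom := by
      refine ⟨C.mul_mem (C.inv_mem h2.2) h1.2, ?_⟩
      rw [e]; exact Subgroup.mul_mem _ k2.2 (Subgroup.inv_mem _ k1.2)
    rw [hCd, Subgroup.mem_bot] at hm
    have h12 : (h1 : A) = h2 := (inv_mul_eq_one.mp hm).symm
    have hk' : (k2 : A) * (k1 : A)⁻¹ = 1 := by rw [← e, hm]
    have k12 : (k1 : A) = k2 := (mul_inv_eq_one.mp hk').symm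
    exact Prod.ext (Subtype.ext h12) (Subtype.ext k12)
  rw [hcardCd] at hsup
  apply Subgroup.eq_top_of_le_card
  exact hcc.trans hsup

end Cfsg.Agent.S1899
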