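import Mathlib
import Cfsg.Statements.S1900
import Cfsg.Agent.Lib.Lead_Coprime
import Cfsg.Agent.Lib.Lead_CoprimeGen
import Cfsg.Agent.Lib.Helper6_Sylow
import Cfsg.Agent.S1018

set_option autoImplicit false
open Cfsg
open scoped commutatorElement

namespace Cfsg.Agent.S1900

section aux
variable {S : Type*} [Group S]

/-- elements commuting with all of `X` modulo the normal subgroup `N` -/
def CentMod (N : Subgroup S) [hN : N.Normal] (X : Set S) : Subgroup S where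
  carrier := {m | ∀ x ∈ X, m * x * m⁻¹ * x⁻¹ ∈ N}
  one_mem' := by
    intro x _
    simp [N.one_mem]
  mul_mem' := by
    intro m m' hm hm' x hx
    have h1 := hN.conj_mem _ (hm' x hx) m
    have h2 := N.mul_mem h1 (hm x hx)
    have e : m * (m' * x * m'⁻¹ * x⁻¹) * m⁻¹ * (m * x * m⁻¹ * x⁻¹) =
        m * m' * x * (m * m')⁻¹ * x⁻¹ := by group
    rw [e] at h2
    exact h2
  inv_mem' := by
    intro m hm x hx
    have h1 := hN.conj_mem _ (N.inv_mem (hm x hx)) m⁻¹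
    have e : m⁻¹ * (m * x * m⁻¹ * x⁻¹)⁻¹ * m⁻¹⁻¹ = m⁻¹ * x * m⁻¹⁻¹ * x⁻¹ := by group
    rw [e] at h1
    exact h1

theorem mem_centMod (N : Subgroup S) [N.Normal] (X : Set S) (m : S) :
    m ∈ CentMod N X ↔ ∀ x ∈ X, m * x * m⁻¹ * x⁻¹ ∈ N := Iff.rfl

theorem le_centMod_of_le (N : Subgroup S) [hN : N.Normal] (X : Set S) : N ≤ CentMod N X := by
  intro m hm x _
  have h1 := hN.conj_mem _ (N.inv_mem hm) x
  have := N.mul_mem hm h1
  have e : m * (x * m⁻¹ * x⁻¹) = m * x * m⁻¹ * x⁻¹ := by group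
  rw [e] at this
  exact this

theorem le_centMod_of_comm (N : Subgroup S) [N.Normal] (X : Set S) (A : Subgroup S)
    (hA : ∀ a ∈ A, ∀ x ∈ X, x * a = a * x) : A ≤ CentMod N X := by
  intro m hm x hx
  have h1 : m * x * m⁻¹ * x⁻¹ = 1 := by
    rw [← hA m hm x hx]; group
  rw [h1]; exact N.one_mem

/-- the key step -/
theorem step (N : Subgroup S) [hN : N.Normal] (M A B X : Subgroup S)
    (hM : ∀ a ∈ A, ∀ b ∈ B, ⁅a, b⁆ ∈ M)
    (hMX : ∀ m ∈ M, ∀ x ∈ X, m * x * m⁻¹ * x⁻¹ ∈ N)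
    (hAX : ∀ a ∈ A, ∀ x ∈ X, x * a = a * x)
    (hgen : B ≤ ⁅B, X⁆) : ∀ a ∈ A, ∀ b ∈ B, ⁅a, b⁆ ∈ N := by
  intro a ha
  -- the subgroup of elements commuting with `a` modulo `N`
  have key : ⁅B, X⁆ ≤ CentMod N {a} := by
    rw [Subgroup.commutator_le]
    intro b hb x hx
    rw [mem_centMod]
    intro a' ha'
    rw [Set.mem_singleton_iff] at ha'
    subst ha'
    -- ⁅⁅b,x⁆, a'⁆ ∈ N
    have hm : ⁅a', b⁻¹⁆ ∈ M := hM a' ha b⁻¹ (B.inv_mem hb)
    have h1 := hMX _ hm x hx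
    -- x m x⁻¹ m⁻¹ ∈ N
    have h2 : x * ⁅a', b⁻¹⁆ * x⁻¹ * ⁅a', b⁻¹⁆⁻¹ ∈ N := by
      have := N.inv_mem h1
      have e : (⁅a', b⁻¹⁆ * x * ⁅a', b⁻¹⁆⁻¹ * x⁻¹)⁻¹ = x * ⁅a', b⁻¹⁆ * x⁻¹ * ⁅a', b⁻¹⁆⁻¹ := by
        group
      rw [e] at this
      exact this
    have h3 := hN.conj_mem _ h2 (⁅a', b⁆ * b)
    have h4 := N.inv_mem h3
    -- identity
    have hax : x * a' * x⁻¹ = a' := by rw [hAX a' ha x hx]; group
    have e1 : ⁅a', x * b⁻¹ * x⁻¹⁆ = x * ⁅a', b⁻¹⁆ * x⁻¹ := by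
      have : ⁅x * a' * x⁻¹, x * b⁻¹ * x⁻¹⁆ = x * ⁅a', b⁻¹⁆ * x⁻¹ := by
        simp only [commutatorElement_def]; group
      rw [hax] at this
      exact this
    have e2 : ⁅a', b * (x * b⁻¹ * x⁻¹)⁆ = ⁅a', b⁆ * (b * ⁅a', x * b⁻¹ * x⁻¹⁆ * b⁻¹) := by
      simp only [commutatorElement_def]; group
    have e3 : b * ⁅a', b⁻¹⁆ * b⁻¹ = ⁅a', b⁆⁻¹ := by
      simp only [commutatorElement_def]; group
    have e4 : ⁅b, x⁆ = b * (x * b⁻¹ * x⁻¹) := by
      simp only [commutatorElement_def]; group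
    have e5 : ⁅a', ⁅b, x⁆⁆ =
        ⁅a', b⁆ * b * (x * ⁅a', b⁻¹⁆ * x⁻¹ * ⁅a', b⁻¹⁆⁻¹) * (⁅a', b⁆ * b)⁻¹ := by
      rw [e4, e2, e1]
      have : ⁅a', b⁆ * b * (x * ⁅a', b⁻¹⁆ * x⁻¹ * ⁅a', b⁻¹⁆⁻¹) * (⁅a', b⁆ * b)⁻¹ =
          ⁅a', b⁆ * (b * (x * ⁅a', b⁻¹⁆ * x⁻¹) * b⁻¹) * (b * ⁅a', b⁻¹⁆ * b⁻¹)⁻¹ * ⁅a', b⁆⁻¹ := by
        group
      rw [this, e3]
      group
    rw [← e5] at h4
    have e6 : ⁅b, x⁆ * a' * ⁅b, x⁆⁻¹ * a'⁻¹ = (⁅a', ⁅b, x⁆⁆)⁻¹ := by
      simp only [commutatorElement_def]; group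
    rw [e6]
    exact h4
  intro b hb
  have h1 := key (hgen hb)
  rw [mem_centMod] at h1
  have h2 := N.inv_mem (h1 a (Set.mem_singleton a))
  have e : (b * a * b⁻¹ * a⁻¹)⁻¹ = ⁅a, b⁆ := by
    simp only [commutatorElement_def]; group
  rw [e] at h2
  exact h2

end aux

/-- Let S = PQ be a finite group with P a normal Sylow p-subgroup and Q elementary abelian of order q², q a prime different from p. If exactly two subgroups X₁, X₂ of order q in Q have a nontrivial centralizer in P, then P is the internal direct product of C_P(X₁) and C_P(X₂): they commute elementwise, meet trivially and generate P. -/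
theorem result {S : Type*} [Group S] [Finite S] {p q : ℕ} [Fact p.Prime] [Fact q.Prime] (hpq : p ≠ q)
    (P : Sylow p S) [(P : Subgroup S).Normal] (Q : Subgroup S) (hQ : Cfsg.IsElementaryAbelian q Q) (hQc : Nat.card Q = q ^ 2)
    (hS : (P : Subgroup S) ⊔ Q = ⊤)
    (X₁ X₂ : Subgroup S) (h₁ : X₁ ≤ Q) (h₂ : X₂ ≤ Q) (h₁₂ : X₁ ≠ X₂) (hc₁ : Nat.card X₁ = q) (hc₂ : Nat.card X₂ = q)
    (hf₁ : (P : Subgroup S) ⊓ Subgroup.centralizer (X₁ : Set S) ≠ ⊥)
    (hf₂ : (P : Subgroup S) ⊓ Subgroup.centralizer (X₂ : Set S) ≠ ⊥)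
    (honly : ∀ X : Subgroup S, X ≤ Q → Nat.card X = q →
      (P : Subgroup S) ⊓ Subgroup.centralizer (X : Set S) ≠ ⊥ → X = X₁ ∨ X = X₂) :
    ⁅(P : Subgroup S) ⊓ Subgroup.centralizer (X₁ : Set S), (P : Subgroup S) ⊓ Subgroup.centralizer (X₂ : Set S)⁆ = ⊥ ∧
      ((P : Subgroup S) ⊓ Subgroup.centralizer (X₁ : Set S)) ⊓ ((P : Subgroup S) ⊓ Subgroup.centralizer (X₂ : Set S)) = ⊥ ∧
      ((P : Subgroup S) ⊓ Subgroup.centralizer (X₁ : Set S)) ⊔ ((P : Subgroup S) ⊓ Subgroup.centralizer (X₂ : Set S)) = P := by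
  classical
  obtain ⟨Pp, hPp⟩ : ∃ Pp : Subgroup S, Pp = (P : Subgroup S) := ⟨_, rfl⟩
  have hPn : Pp.Normal := by rw [hPp]; infer_instance
  have hPpg : IsPGroup p Pp := by rw [hPp]; exact P.2
  rw [← hPp] at hS hf₁ hf₂ honly ⊢
  have hq : q.Prime := Fact.out
  have hp : p.Prime := Fact.out
  have hQab : ∀ a ∈ Q, ∀ b ∈ Q, a * b = b * a := by
    intro a ha b hb
    have := hQ.1.is_comm.comm (⟨a, ha⟩ : Q) ⟨b, hb⟩
    exact congrArg Subtype.val this
  have hQexp : ∀ a ∈ Q, a ^ q = 1 := hQ.2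
  obtain ⟨k, hk⟩ := (IsPGroup.iff_card).mp hPpg
  have hcop : ∀ (n : ℕ) (M : Subgroup S), M ≤ Pp → (q ^ n).Coprime (Nat.card M) := by
    intro n M hM
    have h1 : Nat.card M ∣ p ^ k := hk ▸ Subgroup.card_dvd_of_le hM
    apply Nat.Coprime.coprime_dvd_right h1
    apply Nat.Coprime.pow
    exact (Nat.coprime_primes hq hp).mpr (Ne.symm hpq)
  -- `Q` normalizes centralizers of its subgroups
  have hQC : ∀ X : Subgroup S, X ≤ Q → ∀ g ∈ Q, ∀ c ∈ Subgroup.centralizer (X : Set S),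
      g * c * g⁻¹ ∈ Subgroup.centralizer (X : Set S) := by
    intro X hX g hg c hc
    rw [Subgroup.mem_centralizer_iff] at hc ⊢
    intro x hx
    have h1 : Commute x g := (hQab g hg x (hX hx)).symm
    have h2 : Commute x c := hc x hx
    exact ((h1.mul_right h2).mul_right h1.inv_right).eq
  -- nonidentity elements of the `Xᵢ`
  have hne1 : ∀ X : Subgroup S, Nat.card X = q → ∃ x ∈ X, x ≠ 1 := by
    intro X hX
    have hbot : X ≠ ⊥ := by
      intro hb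
      rw [hb, Subgroup.card_bot] at hX
      exact hq.one_lt.ne hX
    obtain ⟨z, hz⟩ := (Subgroup.ne_bot_iff_exists_ne_one).mp hbot
    exact ⟨z, z.2, fun hz1 => hz (Subtype.ext hz1)⟩
  obtain ⟨x₁, hx₁, hx₁1⟩ := hne1 X₁ hc₁
  obtain ⟨x₂, hx₂, hx₂1⟩ := hne1 X₂ hc₂
  have hzx₁ : Subgroup.zpowers x₁ = X₁ := Cfsg.Agent.S1018.zpowers_eq_of_mem X₁ hc₁ hx₁ hx₁1
  have hzx₂ : Subgroup.zpowers x₂ = X₂ := Cfsg.Agent.S1018.zpowers_eq_of_mem X₂ hc₂ hx₂ hx₂1
  -- the third subgroup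
  have hx₂X₁ : x₂ ∉ X₁ := by
    intro h
    apply h₁₂
    symm
    apply Subgroup.eq_of_le_of_card_ge
    · rw [← hzx₂, Subgroup.zpowers_le]; exact h
    · rw [hc₁, hc₂]
  have hx₁X₂ : x₁ ∉ X₂ := by
    intro h
    apply h₁₂
    apply Subgroup.eq_of_le_of_card_ge
    · rw [← hzx₁, Subgroup.zpowers_le]; exact h
    · rw [hc₁, hc₂]
  have hx₃1 : x₁ * x₂ ≠ 1 := by
    intro h
    apply hx₂X₁
    have : x₂ = x₁⁻¹ := by rw [← mul_eq_one_iff_eq_inv']; exact h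
    rw [this]; exact X₁.inv_mem hx₁
  have hx₃Q : x₁ * x₂ ∈ Q := Q.mul_mem (h₁ hx₁) (h₂ hx₂)
  have hX₃card : Nat.card (Subgroup.zpowers (x₁ * x₂)) = q := by
    rw [Nat.card_zpowers]
    exact orderOf_eq_prime (hQexp _ hx₃Q) hx₃1
  have hX₃triv : Pp ⊓ Subgroup.centralizer ((Subgroup.zpowers (x₁ * x₂) : Subgroup S) : Set S) = ⊥ := by
    by_contra hne
    rcases honly _ (Subgroup.zpowers_le.mpr hx₃Q) hX₃card hne with h | h
    · apply hx₂X₁
      have h3 : x₁ * x₂ ∈ X₁ := by rw [← h]; exact Subgroup.mem_zpowers _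
      have : x₂ = x₁⁻¹ * (x₁ * x₂) := by group
      rw [this]; exact X₁.mul_mem (X₁.inv_mem hx₁) h3
    · apply hx₁X₂
      have h3 : x₁ * x₂ ∈ X₂ := by rw [← h]; exact Subgroup.mem_zpowers _
      have : x₁ = (x₁ * x₂) * x₂⁻¹ := by group
      rw [this]; exact X₂.mul_mem h3 (X₂.inv_mem hx₂)
  have hfix : Pp ⊓ Subgroup.centralizer (X₁ : Set S) ⊓ Subgroup.centralizer (X₂ : Set S) = ⊥ := by
    rw [eq_bot_iff]
    intro c hc
    obtain ⟨⟨hcP, hc1⟩, hc2⟩ := hc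
    rw [← hX₃triv]
    refine ⟨hcP, ?_⟩
    show c ∈ Subgroup.centralizer _
    rw [Subgroup.mem_centralizer_iff]
    intro y hy
    obtain ⟨n, rfl⟩ := Subgroup.mem_zpowers_iff.mp hy
    have h1 : Commute x₁ c := (Subgroup.mem_centralizer_iff.mp hc1) x₁ hx₁
    have h2 : Commute x₂ c := (Subgroup.mem_centralizer_iff.mp hc2) x₂ hx₂
    exact ((h1.mul_left h2).zpow_left n).eq
  -- generation
  have hgen : ∀ M : Subgroup S, M ≤ Pp → Q ≤ Subgroup.normalizer (M : Set S) →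
      M ≤ (M ⊓ Subgroup.centralizer (X₁ : Set S)) ⊔ (M ⊓ Subgroup.centralizer (X₂ : Set S)) := by
    intro M hMP hQM
    have h1 := Cfsg.Agent.Lib.Lead_CoprimeGen.main Q hQab (Nat.card M) M rfl hQM
      (by rw [hQc]; exact hcop 2 M hMP)
    refine h1.trans ?_
    unfold Cfsg.Agent.Lib.Lead_CoprimeGen.gen
    apply iSup₂_le
    intro B hB
    obtain ⟨hBQ, a, haQ, hBa⟩ := hB
    have hBbot : B ≠ ⊥ := by
      intro hb
      rw [hb, bot_sup_eq] at hBa
      have h2 : Nat.card Q = orderOf a := by rw [← hBa, Nat.card_zpowers]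
      have h3 : orderOf a ∣ q := orderOf_dvd_of_pow_eq_one (hQexp a haQ)
      rw [← h2, hQc] at h3
      have := Nat.le_of_dvd hq.pos h3
      nlinarith [hq.one_lt]
    obtain ⟨y, hy⟩ := (Subgroup.ne_bot_iff_exists_ne_one).mp hBbot
    have hy1 : (y : S) ≠ 1 := fun h => hy (Subtype.ext h)
    have hyQ : (y : S) ∈ Q := hBQ y.2
    have hXcard : Nat.card (Subgroup.zpowers (y : S)) = q := by
      rw [Nat.card_zpowers]; exact orderOf_eq_prime (hQexp _ hyQ) hy1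
    have hXB : Subgroup.zpowers (y : S) ≤ B := Subgroup.zpowers_le.mpr y.2
    have h4 : M ⊓ Subgroup.centralizer (B : Set S) ≤
        M ⊓ Subgroup.centralizer ((Subgroup.zpowers (y : S) : Subgroup S) : Set S) :=
      inf_le_inf_left _ (Subgroup.centralizer_le hXB)
    refine h4.trans ?_
    by_cases hX : Pp ⊓ Subgroup.centralizer ((Subgroup.zpowers (y : S) : Subgroup S) : Set S) = ⊥
    · have : M ⊓ Subgroup.centralizer ((Subgroup.zpowers (y : S) : Subgroup S) : Set S) ≤ ⊥ := by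
        rw [← hX]; exact inf_le_inf_right _ hMP
      exact this.trans bot_le
    · rcases honly _ (hXB.trans hBQ) hXcard hX with h | h
      · rw [h]; exact le_sup_left
      · rw [h]; exact le_sup_right
  have hQinf : ∀ (M X : Subgroup S), X ≤ Q → Q ≤ Subgroup.normalizer (M : Set S) →
      Q ≤ Subgroup.normalizer ((M ⊓ Subgroup.centralizer (X : Set S) : Subgroup S) : Set S) := by
    intro M X hX hQM g hg
    apply Cfsg.Agent.Lib.Helper6_Sylow.mem_normalizer_of_conj_le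
    intro y hy
    exact ⟨(Subgroup.mem_normalizer_iff.mp (hQM hg) y).mp hy.1, hQC X hX g hg y hy.2⟩
  have hnorm_top : ∀ M : Subgroup S, M.Normal → ∀ A : Subgroup S,
      A ≤ Subgroup.normalizer (M : Set S) := by
    intro M hM A
    rw [Subgroup.normalizer_eq_top_iff.mpr hM]; exact le_top
  have hf3 : ∀ (Xa Xb : Subgroup S), Xa ≤ Q → Xb ≤ Q → Nat.card Xa = q →
      Pp ⊓ Subgroup.centralizer (Xb : Set S) ⊓ Subgroup.centralizer (Xa : Set S) = ⊥ →
      Pp ⊓ Subgroup.centralizer (Xb : Set S) ≤ ⁅Pp ⊓ Subgroup.centralizer (Xb : Set S), Xa⁆ := by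
    intro Xa Xb hXa hXb hca hfx b hb
    have hAK : Xa ≤ Subgroup.normalizer
        ((Pp ⊓ Subgroup.centralizer (Xb : Set S) : Subgroup S) : Set S) :=
      hXa.trans (hQinf Pp Xb hXb (hnorm_top Pp hPn Q))
    have hsolv : Group.IsSolvable Xa :=
      Group.isSolvable_of_comm (fun a b => Subtype.ext (hQab a (hXa a.2) b (hXa b.2)))
    obtain ⟨n, hn, c, hc, hbc⟩ := Cfsg.Agent.Lib.Lead_Coprime.decomp Xa _ hAK
      (by rw [hca]; have := hcop 1 _ (inf_le_left : Pp ⊓ Subgroup.centralizer (Xb : Set S) ≤ Pp)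
          simpa using this) (Or.inl hsolv) b hb
    rw [hfx, Subgroup.mem_bot] at hc
    rw [hbc, hc, mul_one]; exact hn
  have hfix' : Pp ⊓ Subgroup.centralizer (X₂ : Set S) ⊓ Subgroup.centralizer (X₁ : Set S) = ⊥ := by
    rw [inf_right_comm]; exact hfix
  obtain ⟨P₁, hP₁⟩ : ∃ P₁, P₁ = Pp ⊓ Subgroup.centralizer (X₁ : Set S) := ⟨_, rfl⟩
  obtain ⟨P₂, hP₂⟩ : ∃ P₂, P₂ = Pp ⊓ Subgroup.centralizer (X₂ : Set S) := ⟨_, rfl⟩
  rw [← hP₁, ← hP₂]
  have hcomm_le : ⁅P₁, P₂⁆ ≤ Pp := by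
    rw [Subgroup.commutator_le]
    intro a ha b hb
    rw [hP₁] at ha; rw [hP₂] at hb
    rw [commutatorElement_def]
    exact Pp.mul_mem (Pp.mul_mem (Pp.mul_mem ha.1 hb.1) (Pp.inv_mem ha.1)) (Pp.inv_mem hb.1)
  obtain ⟨M, hMmin⟩ := (Set.toFinite {M : Subgroup S | M.Normal ∧ M ≤ Pp ∧ ⁅P₁, P₂⁆ ≤ M}).exists_minimal
    ⟨Pp, hPn, le_rfl, hcomm_le⟩
  obtain ⟨⟨hMn, hMP, hMc⟩, hMm⟩ := hMmin
  have hMbot : M = ⊥ := by
    by_contra hMne
    haveI := hMn
    haveI := hPn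
    have hM₀lt : ⁅M, Pp⁆ < M := Cfsg.Agent.Lib.Lead_Coprime.commutator_lt_of_pgroup p M Pp
      (hPpg.to_le hMP) hPpg (hnorm_top M hMn Pp) hMne
    obtain ⟨M₀, hM₀⟩ : ∃ M₀, M₀ = ⁅M, Pp⁆ := ⟨_, rfl⟩
    rw [← hM₀] at hM₀lt
    have hM₀n : M₀.Normal := by rw [hM₀]; infer_instance
    obtain ⟨M₁, hM₁⟩ : ∃ M₁, M₁ = (M ⊓ Subgroup.centralizer (X₁ : Set S)) ⊔ M₀ := ⟨_, rfl⟩
    have hM₁M : M₁ ≤ M := by rw [hM₁]; exact sup_le inf_le_left hM₀lt.le
    have hM₀M₁ : M₀ ≤ M₁ := by rw [hM₁]; exact le_sup_right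
    have hM₁n : M₁.Normal := by
      rw [← Subgroup.normalizer_eq_top_iff, eq_top_iff, ← hS]
      apply sup_le
      · intro g hg
        apply Cfsg.Agent.Lib.Helper6_Sylow.mem_normalizer_of_conj_le
        intro y hy
        have h1 : ⁅g, y⁆ ∈ M₀ := by
          rw [hM₀, Subgroup.commutator_comm]
          exact Subgroup.commutator_mem_commutator hg (hM₁M hy)
        have e : g * y * g⁻¹ = ⁅g, y⁆ * y := by simp only [commutatorElement_def]; group
        rw [e]; exact M₁.mul_mem (hM₀M₁ h1) hy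
      · intro g hg
        apply Cfsg.Agent.Lib.Helper6_Sylow.mem_normalizer_of_conj_le
        have hle : (M ⊓ Subgroup.centralizer (X₁ : Set S)) ⊔ M₀ ≤
            M₁.comap (MulAut.conj g).toMonoidHom := by
          apply sup_le
          · intro y hy
            rw [Subgroup.mem_comap]
            have h2 := (Subgroup.mem_normalizer_iff.mp (hQinf M X₁ h₁ (hnorm_top M hMn Q) hg) y).mp hy
            rw [hM₁]
            apply Subgroup.mem_sup_left
            simpa [MulAut.conj_apply] using h2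
          · intro y hy
            rw [Subgroup.mem_comap]
            apply hM₀M₁
            have := hM₀n.conj_mem y hy g
            simpa [MulAut.conj_apply] using this
        rw [← hM₁] at hle
        intro y hy
        have := hle hy
        simpa [MulAut.conj_apply] using this
    have hMle := hgen M hMP (hnorm_top M hMn Q)
    have hstep1 : ∀ b ∈ P₂, ∀ a ∈ P₁, ⁅b, a⁆ ∈ M₁ := by
      haveI := hM₁n
      apply step M₁ M P₂ P₁ X₂
      · intro b hb a ha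
        have h1 := hMc (Subgroup.commutator_mem_commutator ha hb)
        rw [← commutatorElement_inv]
        exact M.inv_mem h1
      · have h1 : M ≤ CentMod M₁ (X₂ : Set S) := by
          refine hMle.trans (sup_le ?_ ?_)
          · refine le_trans ?_ (le_centMod_of_le M₁ _)
            rw [hM₁]; exact le_sup_left
          · apply le_centMod_of_comm
            intro a ha x hx
            exact (Subgroup.mem_centralizer_iff.mp ha.2) x hx
        intro m hm x hx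
        exact h1 hm x hx
      · intro b hb x hx
        rw [hP₂] at hb
        exact (Subgroup.mem_centralizer_iff.mp hb.2) x hx
      · rw [hP₁]; exact hf3 X₂ X₁ h₂ h₁ hc₂ hfix
    have hM₁c : ⁅P₁, P₂⁆ ≤ M₁ := by
      rw [Subgroup.commutator_le]
      intro a ha b hb
      have h1 := hstep1 b hb a ha
      rw [← commutatorElement_inv]
      exact M₁.inv_mem h1
    have hMM₁ : M ≤ M₁ := hMm ⟨hM₁n, hM₁M.trans hMP, hM₁c⟩ hM₁M
    have hstep2 : ∀ a ∈ P₁, ∀ b ∈ P₂, ⁅a, b⁆ ∈ M₀ := by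
      haveI := hM₀n
      apply step M₀ M P₁ P₂ X₁
      · intro a ha b hb
        exact hMc (Subgroup.commutator_mem_commutator ha hb)
      · have h1 : M ≤ CentMod M₀ (X₁ : Set S) := by
          refine hMM₁.trans ?_
          rw [hM₁]
          apply sup_le
          · apply le_centMod_of_comm
            intro a ha x hx
            exact (Subgroup.mem_centralizer_iff.mp ha.2) x hx
          · exact le_centMod_of_le M₀ _
        intro m hm x hx
        exact h1 hm x hx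
      · intro a ha x hx
        rw [hP₁] at ha
        exact (Subgroup.mem_centralizer_iff.mp ha.2) x hx
      · rw [hP₂]; exact hf3 X₁ X₂ h₁ h₂ hc₁ hfix'
    have hM₀c : ⁅P₁, P₂⁆ ≤ M₀ := (Subgroup.commutator_le).mpr hstep2
    have := hMm ⟨hM₀n, hM₀lt.le.trans hMP, hM₀c⟩ hM₀lt.le
    exact absurd this (not_le_of_gt hM₀lt)
  refine ⟨?_, ?_, ?_⟩
  · rw [eq_bot_iff, ← hMbot]; exact hMc
  · rw [hP₁, hP₂, eq_bot_iff, ← hfix]
    intro c hc
    exact ⟨⟨hc.1.1, hc.1.2⟩, hc.2.2⟩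
  · apply le_antisymm
    · rw [hP₁, hP₂]; exact sup_le inf_le_left inf_le_left
    · rw [hP₁, hP₂]; exact hgen Pp le_rfl (hnorm_top Pp hPn Q)

end Cfsg.Agent.S1900
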