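import Mathlib
import Cfsg.Statements.S1901
import Cfsg.Agent.Lib.Helper7_Basic
import Cfsg.Agent.Lib.Helper7_PSolvable

set_option autoImplicit false
open Cfsg

namespace Cfsg.Agent.S1901

open scoped Pointwise
open Subgroup Cfsg.Agent.Lib.Helper7_Basic Cfsg.Agent.Lib.Helper7_PSolvable

universe u

theorem eq_one_of_coprime {G : Type*} [Group G] {a : G} {m n : ℕ} (h1 : orderOf a ∣ m)
    (h2 : orderOf a ∣ n) (h : Nat.Coprime m n) : a = 1 := by
  rw [← orderOf_eq_one_iff]
  exact Nat.eq_one_of_dvd_coprimes h h1 h2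

/-- if `x q x⁻¹ = q c` and `x` commutes with `c` then `x^n q x^{-n} = q c^n` -/
theorem conj_pow_eq {G : Type*} [Group G] (x q c : G) (hxq : x * q * x⁻¹ = q * c)
    (hc : Commute x c) (n : ℕ) : x ^ n * q * (x ^ n)⁻¹ = q * c ^ n := by
  induction n with
  | zero => simp
  | succ n ih =>
    have h1 : x ^ (n + 1) * q * (x ^ (n + 1))⁻¹ = x * (x ^ n * q * (x ^ n)⁻¹) * x⁻¹ := by
      rw [pow_succ']; group
    rw [h1, ih]
    have h2 : x * (q * c ^ n) * x⁻¹ = (x * q * x⁻¹) * (x * c ^ n * x⁻¹) := by group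
    rw [h2, hxq]
    have h3 : x * c ^ n * x⁻¹ = c ^ n := by
      rw [(hc.pow_right n).eq]; group
    rw [h3, pow_succ', mul_assoc]

theorem core (p : ℕ) [Fact p.Prime] : ∀ (n : ℕ) (G : Type u) [Group G] [Finite G],
    Nat.card G = n → Cfsg.IsPSolvable p G → ∀ (Q : Subgroup G), ¬ p ∣ Nat.card Q →
    ∀ P : Sylow p G, Q ≤ normalizer ((P : Subgroup G) : Set G) →
    ∀ x ∈ normalizer (Q : Set G), ∀ k : ℕ, x ^ (p ^ k) = 1 →
    ∀ q ∈ Q, x * q * x⁻¹ = q := by
  intro n
  induction n using Nat.strong_induction_on with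
  | _ n ih =>
  intro G _ _ hn hG Q hQ P hQP x hx k hxk
  have hp : p.Prime := Fact.out
  rcases subsingleton_or_nontrivial G with hs | hnt
  · intro q _; exact Subsingleton.elim _ _
  obtain ⟨N, hNn, hNb, hNc⟩ := exists_normal_PorC hG
  haveI := hNn
  have hcopQ : Nat.Coprime (p ^ k) (Nat.card Q) :=
    Nat.Coprime.pow_left k ((Nat.Prime.coprime_iff_not_dvd hp).mpr hQ)
  have hlt : Nat.card (G ⧸ N) < n := by
    rw [← hn, Subgroup.card_eq_card_quotient_mul_card_subgroup N]
    have h1 : 1 < Nat.card N := by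
      rw [Subgroup.one_lt_card_iff_ne_bot]; exact hNb
    have h2 : 0 < Nat.card (G ⧸ N) := Nat.card_pos
    nlinarith
  have hGq := quotient hp hG N
  obtain ⟨π, hπ'⟩ : ∃ π : G →* G ⧸ N, π = QuotientGroup.mk' N := ⟨_, rfl⟩
  have hπ : Function.Surjective π := hπ' ▸ QuotientGroup.mk'_surjective N
  have hIH : ∀ q ∈ Q, π x * π q * (π x)⁻¹ = π q := by
    intro q hq
    refine ih _ hlt (G ⧸ N) rfl hGq (Q.map π) ?_ (Sylow.mapSurjective hπ P) ?_ (π x) ?_ k ?_ (π q)
      (Subgroup.mem_map_of_mem _ hq)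
    · intro h
      exact hQ (h.trans (Subgroup.card_map_dvd Q π))
    · rw [Sylow.coe_mapSurjective]
      exact (Subgroup.map_mono hQP).trans (Subgroup.le_normalizer_map π)
    · exact (Subgroup.le_normalizer_map π) (Subgroup.mem_map_of_mem _ hx)
    · rw [← map_pow, hxk, map_one]
  -- the commutators
  have hcQ : ∀ q ∈ Q, q⁻¹ * (x * q * x⁻¹) ∈ Q := by
    intro q hq
    exact Q.mul_mem (Q.inv_mem hq) ((mem_normalizer_iff.mp hx q).mp hq)
  have hcN : ∀ q ∈ Q, q⁻¹ * (x * q * x⁻¹) ∈ N := by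
    intro q hq
    have h1 : π (q⁻¹ * (x * q * x⁻¹)) = 1 := by
      rw [map_mul, map_inv, map_mul, map_mul, map_inv, hIH q hq, inv_mul_cancel]
    rw [hπ'] at h1
    exact (QuotientGroup.eq_one_iff _).mp h1
  have hdone : ∀ q ∈ Q, q⁻¹ * (x * q * x⁻¹) = 1 → x * q * x⁻¹ = q := by
    intro q _ h
    have := congrArg (fun t => q * t) h
    simpa using this
  rcases hNc with ⟨m, hm⟩ | hcop
  · -- N is a p-group
    intro q hq
    apply hdone q hq
    apply eq_one_of_coprime (m := p ^ m) (n := Nat.card Q) _ _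
      (Nat.Coprime.pow_left m ((Nat.Prime.coprime_iff_not_dvd hp).mpr hQ))
    · rw [← hm]
      have := orderOf_dvd_natCard (⟨_, hcN q hq⟩ : N)
      rwa [← Subgroup.orderOf_coe] at this
    · have := orderOf_dvd_natCard (⟨_, hcQ q hq⟩ : Q)
      rwa [← Subgroup.orderOf_coe] at this
  · -- N is a p'-group
    obtain ⟨Q₁, hQ₁⟩ : ∃ Q₁, Q₁ = Q ⊓ N := ⟨_, rfl⟩
    have hPC : ∀ u ∈ P, ∀ a ∈ Q₁, u * a = a * u := by
      intro u hu a ha
      rw [hQ₁] at ha
      have h1 : a * u * a⁻¹ * u⁻¹ ∈ (P : Subgroup G) :=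
        (P : Subgroup G).mul_mem ((mem_normalizer_iff.mp (hQP ha.1) u).mp hu) (inv_mem hu)
      have h2 : a * u * a⁻¹ * u⁻¹ ∈ N := by
        have : a * u * a⁻¹ * u⁻¹ = a * (u * a⁻¹ * u⁻¹) := by group
        rw [this]
        exact N.mul_mem ha.2 (hNn.conj_mem _ (N.inv_mem ha.2) u)
      have h3 : a * u * a⁻¹ * u⁻¹ = 1 := by
        obtain ⟨j, hj⟩ := (IsPGroup.iff_card).mp P.2
        apply eq_one_of_coprime (m := p ^ j) (n := Nat.card N) _ _
          (Nat.Coprime.pow_left j hcop.symm)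
        · rw [← hj]
          have := orderOf_dvd_natCard (⟨_, h1⟩ : (P : Subgroup G))
          rwa [← Subgroup.orderOf_coe] at this
        · have := orderOf_dvd_natCard (⟨_, h2⟩ : N)
          rwa [← Subgroup.orderOf_coe] at this
      have := congrArg (fun t => t * u * a) h3
      simp only [one_mul] at this
      rw [← this]; group
    have hxQ₁ : x ∈ normalizer (Q₁ : Set G) := by
      rw [mem_normalizer_iff]
      intro h
      rw [hQ₁, Subgroup.mem_inf, Subgroup.mem_inf, ← mem_normalizer_iff.mp hx h]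
      have : x * h * x⁻¹ ∈ N ↔ h ∈ N := by
        constructor
        · intro hh
          have := hNn.conj_mem _ hh x⁻¹
          simpa [mul_assoc] using this
        · intro hh
          exact hNn.conj_mem _ hh x
      rw [this]
    have hPL : (P : Subgroup G) ≤ normalizer (Q₁ : Set G) := by
      refine le_trans ?_ (Subgroup.centralizer_le_normalizer (Q₁ : Set G))
      intro u hu
      rw [mem_centralizer_iff]
      intro a ha
      exact (hPC u hu a ha).symm
    have hxC : ∀ a ∈ Q₁, x * a = a * x := by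
      intro a ha
      obtain ⟨j, -, hj⟩ := (Nat.dvd_prime_pow hp).mp (orderOf_dvd_of_pow_eq_one hxk)
      obtain ⟨S, hS⟩ := pElement_mem_sylow (p := p) (⟨x, hxQ₁⟩ : normalizer (Q₁ : Set G))
        ⟨j, by rw [Subgroup.orderOf_mk, hj]⟩
      obtain ⟨g, rfl⟩ := MulAction.exists_smul_eq (normalizer (Q₁ : Set G)) (P.subtype hPL) S
      rw [mem_smul_sylow] at hS
      have hy : (g : G)⁻¹ * x * g ∈ (P : Subgroup G) := by
        have h0 : g⁻¹ * ⟨x, hxQ₁⟩ * g ∈ ((P.subtype hPL : Sylow p _) : Subgroup _) := hS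
        rw [Sylow.coe_subtype, Subgroup.mem_subgroupOf] at h0
        exact h0
      have ha' : (g : G)⁻¹ * a * g ∈ Q₁ := by
        have := (mem_normalizer_iff.mp (inv_mem g.2) a).mp ha
        simpa using this
      have := hPC _ hy _ ha'
      have h2 := congrArg (fun t => (g : G) * t * (g : G)⁻¹) this
      calc x * a = (g : G) * ((g : G)⁻¹ * x * g * ((g : G)⁻¹ * a * g)) * (g : G)⁻¹ := by group
        _ = (g : G) * ((g : G)⁻¹ * a * g * ((g : G)⁻¹ * x * g)) * (g : G)⁻¹ := h2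
        _ = a * x := by group
    intro q hq
    apply hdone q hq
    have hc : Commute x (q⁻¹ * (x * q * x⁻¹)) := by
      apply hxC
      rw [hQ₁]
      exact ⟨hcQ q hq, hcN q hq⟩
    have h1 := conj_pow_eq x q (q⁻¹ * (x * q * x⁻¹)) (by group) hc (p ^ k)
    rw [hxk, inv_one, mul_one, one_mul] at h1
    have h2 : (q⁻¹ * (x * q * x⁻¹)) ^ (p ^ k) = 1 := by
      have := congrArg (fun t => q⁻¹ * t) h1
      simpa using this.symm
    apply eq_one_of_coprime (orderOf_dvd_of_pow_eq_one h2) _ hcopQ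
    have := orderOf_dvd_natCard (⟨_, hcQ q hq⟩ : Q)
    rwa [← Subgroup.orderOf_coe] at this

/-- p-solvable: a p'-subgroup with p dividing |N(Q):C(Q)| normalizes no Sylow p-subgroup. -/
theorem result {G : Type*} [Group G] [Finite G] {p : ℕ} [Fact p.Prime]
    (hG : Cfsg.IsPSolvable p G) (Q : Subgroup G) (hQ : ¬ p ∣ Nat.card Q)
    (hA : p ∣ (Subgroup.centralizer (Q : Set G)).relIndex (Subgroup.normalizer (Q : Set G)))
    (P : Sylow p G) : ¬ Q ≤ Subgroup.normalizer ((P : Subgroup G) : Set G) := by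
  intro hQP
  have hcore := core p _ G rfl hG Q hQ P hQP
  obtain ⟨L, hL⟩ : ∃ L, L = normalizer (Q : Set G) := ⟨_, rfl⟩
  rw [← hL] at hA
  obtain ⟨S⟩ : Nonempty (Sylow p L) := inferInstance
  have hS : (S : Subgroup L) ≤ (centralizer (Q : Set G)).subgroupOf L := by
    intro s hs
    rw [mem_subgroupOf, mem_centralizer_iff]
    obtain ⟨k, hk⟩ := (IsPGroup.iff_orderOf.mp S.2) ⟨s, hs⟩
    have hsk : (s : G) ^ (p ^ k) = 1 := by
      rw [Subgroup.orderOf_mk, ← Subgroup.orderOf_coe] at hk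
      rw [← hk]; exact pow_orderOf_eq_one _
    intro q hq
    have := hcore s (hL ▸ s.2) k hsk q hq
    have h2 := congrArg (fun t => t * (s : G)) this
    simp only [inv_mul_cancel_right] at h2
    exact h2.symm
  have h1 := Subgroup.index_dvd_of_le hS
  exact S.not_dvd_index (hA.trans h1)

end Cfsg.Agent.S1901
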