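import Mathlib
import Cfsg.Statements.S1905
import Cfsg.Agent.Lib.Helper7_Basic
import Cfsg.Agent.Lib.Helper7_SmallSimple3
import Cfsg.Agent.Lib.Helper6_Sylow
import Cfsg.Agent.S1922
import Cfsg.Agent.S1186

set_option autoImplicit false
open Cfsg

namespace Cfsg.Agent.S1905

open Subgroup Cfsg.Agent.Lib.Helper7_Basic Cfsg.Agent.Lib.Helper7_SmallSimple3
open Cfsg.Agent.S1922 (conj_of_inverts inverts_pow inv_of_order_two sq_of_order_two
  orderOf_of_isConj isConj_conj mem_map_conj ne_one_of_order_two U_J conj_not_mem surj star z_mem)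

variable {G : Type*} [Group G]

/-- two involutions whose product has odd order are conjugate by an element of the cyclic
group generated by the product -/
theorem dih_conj {a b : G} (ha : orderOf a = 2) (hb : orderOf b = 2)
    (hodd : Odd (orderOf (a * b))) : ∃ y ∈ zpowers (a * b), y * a * y⁻¹ = b := by
  have haa := sq_of_order_two ha
  have hbb := sq_of_order_two hb
  have hai := inv_of_order_two ha
  have hbi := inv_of_order_two hb
  obtain ⟨i, hi⟩ := hodd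
  obtain ⟨r, hr⟩ : ∃ r, r = a * b := ⟨_, rfl⟩
  rw [← hr] at hi ⊢
  have hrinv : r⁻¹ = b * a := by rw [hr, mul_inv_rev, hai, hbi]
  have hinv1 : a * r * a⁻¹ = r⁻¹ := by
    rw [hrinv, hr, hai, ← mul_assoc, haa, one_mul]
  obtain ⟨y, hy⟩ : ∃ y, y = r ^ (i + 1) := ⟨_, rfl⟩
  have hyy : y * y = r := by
    rw [hy, ← pow_add, show i + 1 + (i + 1) = (2 * i + 1) + 1 by ring, ← hi, pow_succ,
      pow_orderOf_eq_one, one_mul]
  have hinvy : a * y * a⁻¹ = y⁻¹ := by rw [hy]; exact inverts_pow hinv1 _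
  have h1 := conj_of_inverts hinvy
  rw [hyy, hr, ← mul_assoc, haa, one_mul] at h1
  refine ⟨y⁻¹, Subgroup.inv_mem _ (by rw [hy]; exact Subgroup.pow_mem _ (mem_zpowers r) _), ?_⟩
  rw [inv_inv]; exact h1

/-- two involutions whose product has even order commute with a common involution -/
theorem dih_central [Finite G] {a b : G} (ha : orderOf a = 2) (hb : orderOf b = 2)
    (heven : Even (orderOf (a * b))) : ∃ w, orderOf w = 2 ∧ Commute w a ∧ Commute w b := by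
  obtain ⟨m, hm⟩ := heven
  have hai := inv_of_order_two ha
  have hbi := inv_of_order_two hb
  have haa := sq_of_order_two ha
  have hbb := sq_of_order_two hb
  obtain ⟨r, hr⟩ : ∃ r, r = a * b := ⟨_, rfl⟩
  rw [← hr] at hm
  have hrinv : r⁻¹ = b * a := by rw [hr, mul_inv_rev, hai, hbi]
  have hinv1 : a * r * a⁻¹ = r⁻¹ := by
    rw [hrinv, hr, hai, ← mul_assoc, haa, one_mul]
  have hinv2 : b * r * b⁻¹ = r⁻¹ := by
    rw [hrinv, hr, hbi, mul_assoc, mul_assoc, hbb, mul_one]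
  have hmpos : 0 < m := by
    have : 0 < orderOf r := orderOf_pos r
    omega
  obtain ⟨w, hw⟩ : ∃ w, w = r ^ m := ⟨_, rfl⟩
  have hw1 : w ≠ 1 := by
    rw [hw]
    exact pow_ne_one_of_lt_orderOf hmpos.ne' (by omega)
  have hww : w * w = 1 := by
    rw [hw, ← pow_add, ← hm, pow_orderOf_eq_one]
  have hwi : w⁻¹ = w := inv_eq_of_mul_eq_one_left hww
  refine ⟨w, orderOf_eq_prime (by rw [pow_two]; exact hww) hw1, ?_, ?_⟩
  · have := inverts_pow hinv1 m
    rw [← hw, hwi] at this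
    have h2 := congrArg (fun t => t * a) this
    simp only [inv_mul_cancel_right] at h2
    exact h2.symm
  · have := inverts_pow hinv2 m
    rw [← hw, hwi] at this
    have h2 := congrArg (fun t => t * b) this
    simp only [inv_mul_cancel_right] at h2
    exact h2.symm

theorem partA {S : Type*} [Group S] [Finite S] (M : Subgroup S) (hM : Even (Nat.card M))
    (hC : ∀ i ∈ M, orderOf i = 2 → centralizer ({i} : Set S) ≤ M)
    (hcore : Odd (Nat.card M.normalCore)) :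
    ∃ t ∈ M, orderOf t = 2 ∧ ∀ u : S, orderOf u = 2 → IsConj t u := by
  obtain ⟨x, hx⟩ := exists_prime_orderOf_dvd_card' (G := M) 2 (even_iff_two_dvd.mp hM)
  have ht : orderOf (x : S) = 2 := by rw [Subgroup.orderOf_coe]; exact hx
  refine ⟨x.1, x.2, ht, ?_⟩
  intro u hu
  by_contra hnc
  have hall : ∀ g : S, g * u * g⁻¹ ∈ M := by
    intro g
    have hu' : orderOf (g * u * g⁻¹) = 2 := by rw [orderOf_conj', hu]
    have hnc' : ¬ IsConj (x : S) (g * u * g⁻¹) := by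
      intro h
      apply hnc
      obtain ⟨c, hc⟩ := isConj_iff.mp h
      rw [isConj_iff]
      exact ⟨g⁻¹ * c, by
        have : g⁻¹ * (c * ↑x * c⁻¹) * g = u := by rw [hc]; group
        rw [← this]; group⟩
    rcases Nat.even_or_odd (orderOf ((x : S) * (g * u * g⁻¹))) with he | ho
    · obtain ⟨w, hw, hw1, hw2⟩ := dih_central ht hu' he
      have hwM : w ∈ M := hC x.1 x.2 ht (by rw [mem_centralizer_singleton_iff]; exact hw1.eq)
      exact hC w hwM hw (by rw [mem_centralizer_singleton_iff]; exact hw2.eq.symm)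
    · exfalso
      obtain ⟨y, -, hy⟩ := dih_conj ht hu' ho
      exact hnc' (isConj_iff.mpr ⟨y, hy⟩)
  have hmem : u ∈ M.normalCore := fun b => hall b
  have h2 : 2 ∣ Nat.card M.normalCore := by
    rw [← hu]
    have := orderOf_dvd_natCard (⟨u, hmem⟩ : M.normalCore)
    rwa [← Subgroup.orderOf_coe] at this
  exact (Nat.not_even_iff_odd.mpr hcore) (even_iff_two_dvd.mpr h2)

/-- orbit-stabilizer for a subgroup acting by conjugation -/
theorem card_orbit_conj [Finite G] (D : Subgroup G) (a : G) :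
    Nat.card D = ({b : G | ∃ d ∈ D, d * a * d⁻¹ = b}).ncard *
      Nat.card ↥(D ⊓ centralizer ({a} : Set G)) := by
  rw [← Nat.card_coe_set_eq]
  apply card_eq_mul_of_fiber (fun d : D =>
    (⟨d.1 * a * d.1⁻¹, d.1, d.2, rfl⟩ : ↥{b : G | ∃ d ∈ D, d * a * d⁻¹ = b}))
  rintro ⟨b, d₀, hd₀, rfl⟩
  apply Nat.card_congr
  refine ⟨fun d => ⟨d₀⁻¹ * d.1.1, D.mul_mem (D.inv_mem hd₀) d.1.2, ?_⟩,
    fun c => ⟨⟨d₀ * c.1, D.mul_mem hd₀ c.2.1⟩, ?_⟩, ?_, ?_⟩
  · show d₀⁻¹ * d.1.1 ∈ centralizer ({a} : Set G)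
    rw [mem_centralizer_singleton_iff]
    have h := congrArg Subtype.val d.2
    have h' : d.1.1 * a * d.1.1⁻¹ = d₀ * a * d₀⁻¹ := h
    calc d₀⁻¹ * d.1.1 * a = d₀⁻¹ * (d.1.1 * a * d.1.1⁻¹) * d.1.1 := by group
      _ = d₀⁻¹ * (d₀ * a * d₀⁻¹) * d.1.1 := by rw [h']
      _ = a * (d₀⁻¹ * d.1.1) := by group
  · apply Subtype.ext
    have h : c.1 ∈ centralizer ({a} : Set G) := c.2.2
    rw [mem_centralizer_singleton_iff] at h
    show d₀ * c.1 * a * (d₀ * c.1)⁻¹ = d₀ * a * d₀⁻¹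
    calc d₀ * c.1 * a * (d₀ * c.1)⁻¹ = d₀ * (c.1 * a) * c.1⁻¹ * d₀⁻¹ := by group
      _ = d₀ * (a * c.1) * c.1⁻¹ * d₀⁻¹ := by rw [h]
      _ = d₀ * a * d₀⁻¹ := by group
  · intro d
    apply Subtype.ext
    apply Subtype.ext
    show d₀ * (d₀⁻¹ * d.1.1) = d.1.1
    group
  · intro c
    apply Subtype.ext
    show d₀⁻¹ * (d₀ * c.1) = c.1
    group

/-- `M ∩ wMw⁻¹` -/
def Dw (M : Subgroup G) (w : G) : Subgroup G := M ⊓ M.map (MulAut.conj w).toMonoidHom

theorem mem_Dw {M : Subgroup G} {w a : G} : a ∈ Dw M w ↔ a ∈ M ∧ w⁻¹ * a * w ∈ M := by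
  rw [Dw, Subgroup.mem_inf, mem_map_conj]

theorem Dw_le (M : Subgroup G) (w : G) : Dw M w ≤ M := inf_le_left

/-- conjugate subgroups have the same order -/
theorem card_eq_of_conj {A B : Subgroup G} (c : G) (h : ∀ a, a ∈ A ↔ c * a * c⁻¹ ∈ B) :
    Nat.card A = Nat.card B := by
  apply Nat.card_congr
  refine ⟨fun a => ⟨c * a.1 * c⁻¹, (h a.1).mp a.2⟩, fun b => ⟨c⁻¹ * b.1 * c, ?_⟩, ?_, ?_⟩
  · rw [h]
    have : c * (c⁻¹ * b.1 * c) * c⁻¹ = b.1 := by group
    rw [this]; exact b.2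
  · intro a
    apply Subtype.ext
    show c⁻¹ * (c * a.1 * c⁻¹) * c = a.1
    group
  · intro b
    apply Subtype.ext
    show c * (c⁻¹ * b.1 * c) * c⁻¹ = b.1
    group

theorem card_Dw_inv (M : Subgroup G) (w : G) : Nat.card (Dw M w⁻¹) = Nat.card (Dw M w) := by
  apply card_eq_of_conj w
  intro a
  rw [mem_Dw, mem_Dw, inv_inv]
  have : w⁻¹ * (w * a * w⁻¹) * w = a := by group
  rw [this]
  tauto

/-- Sylow's theorem inside `M`, in ambient terms -/
theorem syl_in {S : Type*} [Group S] [Finite S] (M : Subgroup S) (X : Sylow 2 M)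
    (Q : Subgroup S) (hQM : Q ≤ M) (hQ : IsPGroup 2 Q) :
    ∃ m ∈ M, ∀ q ∈ Q, m⁻¹ * q * m ∈ (X : Subgroup M).map M.subtype := by
  have h2 : IsPGroup 2 (Q.subgroupOf M) := hQ.comap_subtype
  obtain ⟨P, hP⟩ := h2.exists_le_sylow
  obtain ⟨m, rfl⟩ := MulAction.exists_smul_eq M X P
  refine ⟨m.1, m.2, ?_⟩
  intro q hq
  have h3 : (⟨q, hQM hq⟩ : M) ∈ m • X := hP (by rw [mem_subgroupOf]; exact hq)
  rw [mem_smul_sylow] at h3
  exact ⟨_, h3, rfl⟩

section B

variable {S : Type*} [Group S] [Finite S] {M X' : Subgroup S} {z : S}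

/-- `M` is strongly embedded -/
theorem strongly_embedded
    (hC : ∀ i ∈ M, orderOf i = 2 → centralizer ({i} : Set S) ≤ M)
    (hX'2 : IsPGroup 2 X')
    (hSyl : ∀ Q : Subgroup S, Q ≤ M → IsPGroup 2 Q → ∃ m ∈ M, ∀ q ∈ Q, m⁻¹ * q * m ∈ X')
    (hN : normalizer (X' : Set S) ≤ M) (hzc : ∀ a ∈ X', a * z = z * a)
    (hz : orderOf z = 2) (hzM : z ∈ M)
    (g : S) (hg : g ∉ M) (i : S) (hi : i ∈ M) (hi' : g⁻¹ * i * g ∈ M) : orderOf i ≠ 2 := by
  intro hio
  have hi'o : orderOf (g⁻¹ * i * g) = 2 := by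
    have := orderOf_conj' g⁻¹ i
    rw [inv_inv] at this
    rw [this, hio]
  -- Step 1
  have h1 : ∀ c, c * i = i * c → g⁻¹ * c * g ∈ M := by
    intro c hc
    apply hC _ hi' hi'o
    rw [mem_centralizer_singleton_iff]
    calc g⁻¹ * c * g * (g⁻¹ * i * g) = g⁻¹ * (c * i) * g := by group
      _ = g⁻¹ * (i * c) * g := by rw [hc]
      _ = g⁻¹ * i * g * (g⁻¹ * c * g) := by group
  -- Step 2
  have hQ2 : IsPGroup 2 (zpowers i) := IsPGroup.of_card (n := 1) (by rw [Nat.card_zpowers, hio, pow_one])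
  obtain ⟨m, hm, hmi⟩ := hSyl (zpowers i) (by rw [zpowers_le]; exact hi) hQ2
  have hmi' := hmi i (mem_zpowers i)
  obtain ⟨j, hj⟩ : ∃ j, j = m * z * m⁻¹ := ⟨_, rfl⟩
  have hjM : j ∈ M := by rw [hj]; exact M.mul_mem (M.mul_mem hm hzM) (M.inv_mem hm)
  have hjo : orderOf j = 2 := by rw [hj, orderOf_conj', hz]
  have hjc : ∀ a ∈ X', (m * a * m⁻¹) * j = j * (m * a * m⁻¹) := by
    intro a ha
    rw [hj]
    calc m * a * m⁻¹ * (m * z * m⁻¹) = m * (a * z) * m⁻¹ := by group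
      _ = m * (z * a) * m⁻¹ := by rw [hzc a ha]
      _ = m * z * m⁻¹ * (m * a * m⁻¹) := by group
  have hji : j * i = i * j := by
    have := hjc _ hmi'
    have e : m * (m⁻¹ * i * m) * m⁻¹ = i := by group
    rw [e] at this
    exact this.symm
  have hj' : g⁻¹ * j * g ∈ M := h1 j hji
  have hj'o : orderOf (g⁻¹ * j * g) = 2 := by
    have := orderOf_conj' g⁻¹ j
    rw [inv_inv] at this
    rw [this, hjo]
  -- Step 3
  have h3 : ∀ a ∈ X', g⁻¹ * (m * a * m⁻¹) * g ∈ M := by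
    intro a ha
    apply hC _ hj' hj'o
    rw [mem_centralizer_singleton_iff]
    calc g⁻¹ * (m * a * m⁻¹) * g * (g⁻¹ * j * g) = g⁻¹ * ((m * a * m⁻¹) * j) * g := by group
      _ = g⁻¹ * (j * (m * a * m⁻¹)) * g := by rw [hjc a ha]
      _ = g⁻¹ * j * g * (g⁻¹ * (m * a * m⁻¹) * g) := by group
  have hQ₂ : IsPGroup 2 (X'.map (MulAut.conj (g⁻¹ * m)).toMonoidHom) := hX'2.map _
  have hQ₂M : X'.map (MulAut.conj (g⁻¹ * m)).toMonoidHom ≤ M := by
    rintro _ ⟨a, ha, rfl⟩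
    have := h3 a ha
    simp only [MulEquiv.toMonoidHom_eq_coe, MonoidHom.coe_coe, MulAut.conj_apply]
    have e : g⁻¹ * m * a * (g⁻¹ * m)⁻¹ = g⁻¹ * (m * a * m⁻¹) * g := by group
    rw [e]; exact this
  obtain ⟨m', hm', hm'X⟩ := hSyl _ hQ₂M hQ₂
  have hn : m'⁻¹ * g⁻¹ * m ∈ normalizer (X' : Set S) := by
    apply Cfsg.Agent.Lib.Helper6_Sylow.mem_normalizer_of_conj_le
    intro a ha
    have := hm'X ((MulAut.conj (g⁻¹ * m)) a) ⟨a, ha, rfl⟩
    simp only [MulAut.conj_apply] at this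
    have e : m'⁻¹ * (g⁻¹ * m * a * (g⁻¹ * m)⁻¹) * m' = m'⁻¹ * g⁻¹ * m * a * (m'⁻¹ * g⁻¹ * m)⁻¹ := by
      group
    rw [e] at this; exact this
  have hnM := hN hn
  apply hg
  have h5 : g⁻¹ ∈ M := by
    have := M.mul_mem (M.mul_mem hm' hnM) (M.inv_mem hm)
    have e : m' * (m'⁻¹ * g⁻¹ * m) * m⁻¹ = g⁻¹ := by group
    rwa [e] at this
  have := M.inv_mem h5
  rwa [inv_inv] at this

end B

theorem card_X [Finite G] {z : G} {H : Subgroup G} (hz : orderOf z = 2)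
    (h0 : ∀ g, g⁻¹ * z * g ∈ H ↔ g ∈ H)
    (h1 : ∀ t, IsConj z t → t ≠ z → t * z = z * t → ∀ g, g⁻¹ * (z * t) * g ∈ H ↔ g ∈ H)
    (x₀ : G) (hx₀ : x₀ ∉ H) :
    ({s : G | IsConj z s ∧ x₀⁻¹ * s ∈ H}).ncard = ({s : G | IsConj z s ∧ s ∈ H}).ncard := by
  classical
  have hzH := Cfsg.Agent.S1922.z_mem h0
  have hJx : ∀ s, IsConj z s → ∃ x, s = x * z * x⁻¹ := by
    intro s hs
    obtain ⟨c, hc⟩ := isConj_iff.mp hs
    exact ⟨c, hc.symm⟩
  obtain ⟨Sα, hSα⟩ : ∃ S : Set G, S = {s | IsConj z s ∧ s ∈ H} := ⟨_, rfl⟩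
  obtain ⟨JJ, hJJ⟩ : ∃ S : Set G, S = {s | IsConj z s ∧ s ∉ H} := ⟨_, rfl⟩
  obtain ⟨Jβ, hJβ⟩ : ∃ S : Set G, S = {s | IsConj z s ∧ x₀⁻¹ * s * x₀ ∈ H} := ⟨_, rfl⟩
  obtain ⟨Xβ, hXβ⟩ : ∃ S : Set G, S = {s | IsConj z s ∧ x₀⁻¹ * s ∈ H} := ⟨_, rfl⟩
  rw [← hXβ, ← hSα]
  -- (c)
  have hc : Jβ.ncard = Sα.ncard := by
    have himg : Jβ = (fun s => x₀ * s * x₀⁻¹) '' Sα := by
      ext s
      rw [hJβ, hSα]
      constructor
      · rintro ⟨hs1, hs2⟩
        refine ⟨x₀⁻¹ * s * x₀, ⟨?_, hs2⟩, by group⟩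
        have := isConj_conj hs1 x₀⁻¹
        rwa [inv_inv] at this
      · rintro ⟨s', ⟨hs1, hs2⟩, rfl⟩
        refine ⟨isConj_conj hs1 x₀, ?_⟩
        have : x₀⁻¹ * (x₀ * s' * x₀⁻¹) * x₀ = s' := by group
        rw [this]; exact hs2
    rw [himg]
    apply Set.ncard_image_of_injective
    intro a b hab
    have := congrArg (fun t => x₀⁻¹ * t * x₀) hab
    simpa [mul_assoc] using this
  -- membership criterion
  have hcrit : ∀ s, IsConj z s → (s * z * s⁻¹ ∈ Jβ ↔ s ∈ Xβ) := by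
    intro s hs
    rw [hJβ, hXβ]
    simp only [Set.mem_ofPred_eq]
    constructor
    · rintro ⟨_, h2⟩
      refine ⟨hs, ?_⟩
      have := (U_J h0 s x₀).mp h2
      have h3 := H.inv_mem this
      rwa [mul_inv_rev, inv_inv] at h3
    · rintro ⟨_, h2⟩
      refine ⟨isConj_conj (IsConj.refl z) s, ?_⟩
      apply (U_J h0 s x₀).mpr
      have h3 := H.inv_mem h2
      rwa [mul_inv_rev, inv_inv] at h3
  have hXJJ : Xβ ⊆ JJ := by
    intro s hs
    rw [hXβ] at hs
    rw [hJJ]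
    refine ⟨hs.1, fun h => hx₀ ?_⟩
    have := H.mul_mem h (H.inv_mem hs.2)
    rw [mul_inv_rev, inv_inv, mul_inv_cancel_left] at this
    exact this
  have hJβJJ : Jβ ⊆ JJ := by
    intro s hs
    rw [hJβ] at hs
    rw [hJJ]
    refine ⟨hs.1, fun h => hx₀ ?_⟩
    obtain ⟨y, rfl⟩ := hJx s hs.1
    have h3 := (U_J h0 y x₀).mp hs.2
    have h4 := (U_J h0 y 1).mp (by simpa using h)
    rw [mul_one] at h4
    have := H.mul_mem (H.inv_mem h4) h3
    rwa [inv_inv, mul_inv_cancel_left] at this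
  -- (d)
  have hmaps : Set.MapsTo (fun s => s * z * s⁻¹) JJ JJ := by
    intro s hs
    rw [hJJ] at hs ⊢
    refine ⟨isConj_conj (IsConj.refl z) s, conj_not_mem h0 hs.2⟩
  have hsurj : Set.SurjOn (fun s => s * z * s⁻¹) JJ JJ := by
    intro s hs
    rw [hJJ] at hs
    obtain ⟨x, rfl⟩ := hJx s hs.1
    have hxH : x ∉ H := by
      intro hx
      exact hs.2 (H.mul_mem (H.mul_mem hx hzH) (H.inv_mem hx))
    obtain ⟨s', hs'1, hs'2, hs'3⟩ := surj hz h0 h1 x hxH
    exact ⟨s', by rw [hJJ]; exact ⟨hs'1, hs'2⟩, hs'3⟩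
  have hbij := (Set.Finite.surjOn_iff_bijOn_of_mapsTo (Set.toFinite JJ) hmaps).mp hsurj
  have hd : Jβ.ncard = Xβ.ncard := by
    have himg : Jβ = (fun s => s * z * s⁻¹) '' Xβ := by
      ext s
      constructor
      · intro hs
        obtain ⟨s', hs'1, hs'2⟩ := hsurj (hJβJJ hs)
        refine ⟨s', ?_, hs'2⟩
        rw [hJJ] at hs'1
        apply (hcrit s' hs'1.1).mp
        simp only at hs'2
        rw [hs'2]; exact hs
      · rintro ⟨s', hs', rfl⟩
        have h1' : IsConj z s' := by rw [hXβ] at hs'; exact hs'.1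
        exact (hcrit s' h1').mpr hs'
    rw [himg]
    exact Set.InjOn.ncard_image (hbij.injOn.mono hXJJ)
  rw [← hd, hc]

section SE

variable {S : Type*} [Group S] [Finite S] {M : Subgroup S} {z : S}

theorem h0_of (hz : orderOf z = 2) (hzM : z ∈ M)
    (hSE : ∀ g, g ∉ M → ∀ i ∈ M, g⁻¹ * i * g ∈ M → orderOf i ≠ 2) :
    ∀ g, g⁻¹ * z * g ∈ M ↔ g ∈ M := by
  intro g
  constructor
  · intro h
    by_contra hg
    exact hSE g hg z hzM h hz
  · intro hg
    exact M.mul_mem (M.mul_mem (M.inv_mem hg) hzM) hg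

theorem h1_of (hz : orderOf z = 2) (hzM : z ∈ M)
    (hC : ∀ i ∈ M, orderOf i = 2 → centralizer ({i} : Set S) ≤ M)
    (hSE : ∀ g, g ∉ M → ∀ i ∈ M, g⁻¹ * i * g ∈ M → orderOf i ≠ 2) :
    ∀ t, IsConj z t → t ≠ z → t * z = z * t → ∀ g, g⁻¹ * (z * t) * g ∈ M ↔ g ∈ M := by
  intro t ht hne hc g
  have htM : t ∈ M := hC z hzM hz (by rw [mem_centralizer_singleton_iff]; exact hc)
  have hto : orderOf t = 2 := (orderOf_of_isConj ht).trans hz
  have hzz := sq_of_order_two hz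
  have htt := sq_of_order_two hto
  have hzt : orderOf (z * t) = 2 := by
    apply orderOf_eq_prime
    · rw [pow_two]
      calc z * t * (z * t) = z * (t * z) * t := by group
        _ = z * (z * t) * t := by rw [hc]
        _ = (z * z) * (t * t) := by group
        _ = 1 := by rw [hzz, htt, one_mul]
    · intro h
      apply hne
      have h2 : t = z⁻¹ := by
        have := congrArg (fun x => z⁻¹ * x) h
        simpa using this
      rw [h2, inv_of_order_two hz]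
  constructor
  · intro h
    by_contra hg
    exact hSE g hg (z * t) (M.mul_mem hzM htM) h hzt
  · intro hg
    exact M.mul_mem (M.mul_mem (M.inv_mem hg) (M.mul_mem hzM htM)) hg

/-- `M ∩ wMw⁻¹` has odd order for `w ∉ M` -/
theorem odd_card_Dw (hSE : ∀ g, g ∉ M → ∀ i ∈ M, g⁻¹ * i * g ∈ M → orderOf i ≠ 2)
    (w : S) (hw : w ∉ M) : Odd (Nat.card (Dw M w)) := by
  rw [← Nat.not_even_iff_odd]
  intro he
  obtain ⟨x, hx⟩ := exists_prime_orderOf_dvd_card' (G := Dw M w) 2 (even_iff_two_dvd.mp he)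
  have hx' : orderOf (x : S) = 2 := by rw [Subgroup.orderOf_coe]; exact hx
  have := mem_Dw.mp x.2
  exact hSE w hw x.1 this.1 this.2 hx'

end SE

section SE2

variable {S : Type*} [Group S] [Finite S] {M : Subgroup S} {z : S}

/-- Fact 1 -/
theorem fact1 (hzM : z ∈ M) (w : S) :
    Nat.card (Dw M w) ≤ ({s : S | IsConj z s ∧ s ∈ M}).ncard *
      Nat.card ↥(Dw M w ⊓ centralizer ({z} : Set S)) := by
  rw [card_orbit_conj (Dw M w) z]
  apply Nat.mul_le_mul_right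
  apply Set.ncard_le_ncard _ (Set.toFinite _)
  rintro b ⟨d, hd, rfl⟩
  refine ⟨isConj_conj (IsConj.refl z) d, ?_⟩
  have hdM := Dw_le M w hd
  exact M.mul_mem (M.mul_mem hdM hzM) (M.inv_mem hdM)

/-- Fact 2 -/
theorem fact2 (hz : orderOf z = 2) (hzM : z ∈ M)
    (hC : ∀ i ∈ M, orderOf i = 2 → centralizer ({i} : Set S) ≤ M)
    (hSE : ∀ g, g ∉ M → ∀ i ∈ M, g⁻¹ * i * g ∈ M → orderOf i ≠ 2)
    (s' : S) (hs' : IsConj z s') (hs'M : s' ∉ M) :
    Nat.card (Dw M s') = ({s : S | IsConj z s ∧ s ∈ M}).ncard *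
      Nat.card ↥(Dw M s' ⊓ centralizer ({s'} : Set S)) := by
  have h0 := h0_of hz hzM hSE
  have h1 := h1_of hz hzM hC hSE
  rw [card_orbit_conj (Dw M s') s', ← card_X hz h0 h1 s' hs'M]
  congr 1
  have hs'o : orderOf s' = 2 := (orderOf_of_isConj hs').trans hz
  have hs'i := inv_of_order_two hs'o
  have hs's := sq_of_order_two hs'o
  congr 1
  ext v
  simp only [Set.mem_ofPred_eq]
  constructor
  · rintro ⟨d, hd, rfl⟩
    obtain ⟨hd1, hd2⟩ := mem_Dw.mp hd
    refine ⟨isConj_conj hs' d, ?_⟩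
    have := M.mul_mem hd2 (M.inv_mem hd1)
    have e : s'⁻¹ * d * s' * d⁻¹ = s'⁻¹ * (d * s' * d⁻¹) := by group
    rwa [e] at this
  · rintro ⟨hv1, hv2⟩
    have hvo : orderOf v = 2 := (orderOf_of_isConj hv1).trans hz
    have hvi := inv_of_order_two hvo
    have hsvD : s' * v ∈ Dw M s' := by
      rw [mem_Dw]
      refine ⟨by rwa [hs'i] at hv2, ?_⟩
      have := M.inv_mem hv2
      rw [mul_inv_rev, inv_inv, hvi] at this
      have e : s'⁻¹ * (s' * v) * s' = v * s' := by group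
      rw [e]; exact this
    have hodd : Odd (orderOf (s' * v)) := by
      have h3 := odd_card_Dw hSE s' hs'M
      have h4 := orderOf_dvd_natCard (⟨s' * v, hsvD⟩ : Dw M s')
      rw [← Subgroup.orderOf_coe] at h4
      exact Odd.of_dvd_nat h3 h4
    obtain ⟨y, hy, hy2⟩ := dih_conj hs'o hvo hodd
    refine ⟨y, ?_, hy2⟩
    have : zpowers (s' * v) ≤ Dw M s' := by rw [zpowers_le]; exact hsvD
    exact this hy

/-- doubling step -/
theorem doubling (hz : orderOf z = 2) (hzM : z ∈ M)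
    (hC : ∀ i ∈ M, orderOf i = 2 → centralizer ({i} : Set S) ≤ M)
    (hSE : ∀ g, g ∉ M → ∀ i ∈ M, g⁻¹ * i * g ∈ M → orderOf i ≠ 2)
    (r : S) (hinv : z * r * z⁻¹ = r⁻¹) (j : ℕ) (hj : r ^ j ∉ M) :
    Nat.card (Dw M (r ^ j)) ≤ Nat.card (Dw M (r ^ (2 * j))) ∧
    (Nat.card (Dw M (r ^ (2 * j))) = Nat.card (Dw M (r ^ j)) →
      Nat.card (Dw M (r ^ j)⁻¹) = ({s : S | IsConj z s ∧ s ∈ M}).ncard *
        Nat.card ↥(Dw M (r ^ j)⁻¹ ⊓ centralizer ({z} : Set S))) := by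
  have h0 := h0_of hz hzM hSE
  have hzi := inv_of_order_two hz
  have hyinv : z * (r ^ j) * z⁻¹ = (r ^ j)⁻¹ := inverts_pow hinv j
  have hyy : r ^ (2 * j) = r ^ j * r ^ j := by rw [two_mul, pow_add]
  rw [hyy]
  generalize r ^ j = y at hj hyinv ⊢
  have hzy : z * y = y⁻¹ * z := by
    have := congrArg (fun t => t * z) hyinv
    simpa using this
  have hyz : y * z = z * y⁻¹ := by
    have h3 : z * y * z = y⁻¹ := by rw [hzi] at hyinv; exact hyinv
    calc y * z = (z * z) * y * z := by rw [sq_of_order_two hz, one_mul]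
      _ = z * (z * y * z) := by group
      _ = z * y⁻¹ := by rw [h3]
  obtain ⟨s', hs'⟩ : ∃ s', s' = y * z * y⁻¹ := ⟨_, rfl⟩
  have hs'c : IsConj z s' := by rw [hs']; exact isConj_conj (IsConj.refl z) y
  have hs'M : s' ∉ M := by rw [hs']; exact conj_not_mem h0 hj
  have hs'2 : s' = z * (y * y)⁻¹ := by rw [hs', hyz]; group
  have F2 := fact2 hz hzM hC hSE s' hs'c hs'M
  have F1 := fact1 (z := z) hzM y⁻¹
  have R1 := card_Dw_inv M y
  have R2 : Nat.card ↥(Dw M y⁻¹ ⊓ centralizer ({z} : Set S)) =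
      Nat.card ↥(Dw M s' ⊓ centralizer ({s'} : Set S)) := by
    apply card_eq_of_conj y
    intro a
    rw [Subgroup.mem_inf, Subgroup.mem_inf, mem_Dw, mem_Dw, mem_centralizer_singleton_iff,
      mem_centralizer_singleton_iff, inv_inv]
    constructor
    · rintro ⟨⟨ha1, ha2⟩, ha3⟩
      have hcomm : y * a * y⁻¹ * s' = s' * (y * a * y⁻¹) := by
        rw [hs']
        calc y * a * y⁻¹ * (y * z * y⁻¹) = y * (a * z) * y⁻¹ := by group
          _ = y * (z * a) * y⁻¹ := by rw [ha3]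
          _ = y * z * y⁻¹ * (y * a * y⁻¹) := by group
      refine ⟨⟨ha2, ?_⟩, hcomm⟩
      rw [mul_assoc, hcomm, inv_mul_cancel_left]
      exact ha2
    · rintro ⟨⟨hb1, -⟩, hb3⟩
      have hcomm : a * z = z * a := by
        rw [hs'] at hb3
        calc a * z = y⁻¹ * (y * a * y⁻¹ * (y * z * y⁻¹)) * y := by group
          _ = y⁻¹ * (y * z * y⁻¹ * (y * a * y⁻¹)) * y := by rw [hb3]
          _ = z * a := by group
      have haM : a ∈ M := hC z hzM hz (by rw [mem_centralizer_singleton_iff]; exact hcomm)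
      exact ⟨⟨haM, hb1⟩, hcomm⟩
  have R3 : Nat.card (Dw M s') = Nat.card (Dw M (y * y)) := by
    rw [← card_Dw_inv M (y * y)]
    apply card_eq_of_conj z⁻¹
    intro a
    rw [mem_Dw, mem_Dw, inv_inv, inv_inv, hs'2]
    have e : (z * (y * y)⁻¹)⁻¹ * a * (z * (y * y)⁻¹) = y * y * (z⁻¹ * a * z) * (y * y)⁻¹ := by
      rw [mul_inv_rev, inv_inv]
      simp only [mul_assoc]
    rw [e]
    have : z⁻¹ * a * z ∈ M ↔ a ∈ M := by
      constructor
      · intro h
        have := M.mul_mem (M.mul_mem hzM h) (M.inv_mem hzM)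
        have e2 : z * (z⁻¹ * a * z) * z⁻¹ = a := by group
        rwa [e2] at this
      · intro h
        exact M.mul_mem (M.mul_mem (M.inv_mem hzM) h) hzM
    rw [this]
  have hchain : Nat.card (Dw M y) ≤ Nat.card (Dw M (y * y)) := by
    rw [← R1, ← R3, F2, ← R2]; exact F1
  refine ⟨hchain, ?_⟩
  intro heq
  rw [← R3, F2, ← R2, ← R1] at heq
  exact le_antisymm F1 heq.le

theorem transitive (hz : orderOf z = 2) (hzM : z ∈ M)
    (hC : ∀ i ∈ M, orderOf i = 2 → centralizer ({i} : Set S) ≤ M)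
    (hSE : ∀ g, g ∉ M → ∀ i ∈ M, g⁻¹ * i * g ∈ M → orderOf i ≠ 2)
    (u : S) (hu : IsConj z u) (huM : u ∉ M) :
    ∃ D : Subgroup S, D ≤ M ∧ Odd (Nat.card D) ∧
      ∀ t', IsConj z t' → t' ∈ M → ∃ d ∈ D, d * z * d⁻¹ = t' := by
  have h0 := h0_of hz hzM hSE
  have h1 := h1_of hz hzM hC hSE
  have hzi := inv_of_order_two hz
  have hzz := sq_of_order_two hz
  have huo : orderOf u = 2 := (orderOf_of_isConj hu).trans hz
  have hui := inv_of_order_two huo
  obtain ⟨r, hr⟩ : ∃ r, r = z * u := ⟨_, rfl⟩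
  have hinv : z * r * z⁻¹ = r⁻¹ := by
    rw [hr, mul_inv_rev, hzi, hui, ← mul_assoc, hzz, one_mul]
  have hrM : r ∉ M := by
    intro h
    apply huM
    have := M.mul_mem (M.inv_mem hzM) h
    rwa [hr, inv_mul_cancel_left] at this
  have hodd : Odd (orderOf r) := by
    obtain ⟨x, hx⟩ := isConj_iff.mp hu
    have hxM : x ∉ M := by
      intro h
      apply huM
      rw [← hx]
      exact M.mul_mem (M.mul_mem h hzM) (M.inv_mem h)
    have := star hz h0 h1 x hxM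
    rwa [hx, ← hr] at this
  obtain ⟨e, he⟩ : ∃ e, e = Nat.totient (orderOf r) := ⟨_, rfl⟩
  have hepos : 1 ≤ e := by
    rw [he]; exact Nat.totient_pos.mpr (orderOf_pos r)
  have hpow : r ^ (2 ^ e) = r := by
    have h2 : Nat.Coprime 2 (orderOf r) := (Nat.coprime_two_left).mpr hodd
    have h3 := Nat.ModEq.pow_totient h2
    rw [← he] at h3
    have := pow_eq_pow_iff_modEq.mpr h3
    rwa [pow_one] at this
  have hnotin : ∀ i, i ≤ e → r ^ (2 ^ i) ∉ M := by
    intro i hi hmem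
    apply hrM
    have := M.pow_mem hmem (2 ^ (e - i))
    rw [← pow_mul, ← pow_add, Nat.add_sub_cancel' hi, hpow] at this
    exact this
  have hstep : ∀ i, i < e → Nat.card (Dw M (r ^ (2 ^ i))) ≤ Nat.card (Dw M (r ^ (2 ^ (i + 1)))) := by
    intro i hi
    have := (doubling hz hzM hC hSE r hinv (2 ^ i) (hnotin i hi.le)).1
    rwa [← pow_succ'] at this
  have hchain : ∀ i, 1 ≤ i → i ≤ e →
      Nat.card (Dw M (r ^ (2 ^ 1))) ≤ Nat.card (Dw M (r ^ (2 ^ i))) := by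
    intro i hi
    induction i, hi using Nat.le_induction with
    | base => intro _; exact le_refl _
    | succ i hi ih =>
      intro hie
      exact (ih (by omega)).trans (hstep i (by omega))
  have h21 : Nat.card (Dw M (r ^ (2 * 1))) = Nat.card (Dw M (r ^ 1)) := by
    have hd := doubling hz hzM hC hSE r hinv 1 (by rw [pow_one]; exact hrM)
    apply le_antisymm _ hd.1
    have := hchain e hepos (le_refl e)
    rw [hpow, pow_one] at this
    rw [mul_one, pow_one]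
    exact this
  have hd := (doubling hz hzM hC hSE r hinv 1 (by rw [pow_one]; exact hrM)).2 h21
  rw [pow_one] at hd
  refine ⟨Dw M r⁻¹, Dw_le M r⁻¹, odd_card_Dw hSE r⁻¹ (fun h => hrM (by simpa using M.inv_mem h)), ?_⟩
  have horb := card_orbit_conj (Dw M r⁻¹) z
  rw [hd] at horb
  have hpos : 0 < Nat.card ↥(Dw M r⁻¹ ⊓ centralizer ({z} : Set S)) := Nat.card_pos
  have hk := Nat.eq_of_mul_eq_mul_right hpos horb
  have hsub : {b : S | ∃ d ∈ Dw M r⁻¹, d * z * d⁻¹ = b} ⊆ {s : S | IsConj z s ∧ s ∈ M} := by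
    rintro b ⟨d, hd, rfl⟩
    refine ⟨isConj_conj (IsConj.refl z) d, ?_⟩
    have hdM := Dw_le M r⁻¹ hd
    exact M.mul_mem (M.mul_mem hdM hzM) (M.inv_mem hdM)
  have heq := Set.eq_of_subset_of_ncard_le hsub hk.le (Set.toFinite _)
  intro t' ht' ht'M
  have : t' ∈ {s : S | IsConj z s ∧ s ∈ M} := ⟨ht', ht'M⟩
  rw [← heq] at this
  exact this

end SE2

/-- Strongly embedded subgroups: conjugacy of involutions and the factorization. -/
theorem result {S : Type*} [Group S] [Finite S] (M : Subgroup S) (hM : Even (Nat.card M))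
    (hC : ∀ i ∈ M, orderOf i = 2 → Subgroup.centralizer ({i} : Set S) ≤ M) (hcore : Odd (Nat.card M.normalCore)) :
    (∀ x y : S, orderOf x = 2 → orderOf y = 2 → IsConj x y) ∧
      ∀ (X : Sylow 2 M) (I : M), I ∈ (Subgroup.center ↥(X : Subgroup ↥M)).map (X : Subgroup ↥M).subtype → orderOf I = 2 →
        Subgroup.normalizer (((X : Subgroup M).map M.subtype : Subgroup S) : Set S) ≤ M →
        (∀ x y : M, orderOf x = 2 → orderOf y = 2 → IsConj x y) ∧
          ∃ M₀ : Subgroup M, Odd (Nat.card M₀) ∧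
            ∀ m : M, ∃ a ∈ M₀, ∃ c ∈ Subgroup.centralizer ({I} : Set M), m = a * c := by
  obtain ⟨t, htM, hto, htconj⟩ := partA M hM hC hcore
  have hall : ∀ x y : S, orderOf x = 2 → orderOf y = 2 → IsConj x y :=
    fun x y hx hy => (htconj x hx).symm.trans (htconj y hy)
  refine ⟨hall, ?_⟩
  intro X I hI hIo hN
  obtain ⟨z, hzI⟩ : ∃ z : S, z = (I : S) := ⟨_, rfl⟩
  have hz : orderOf z = 2 := by rw [hzI, Subgroup.orderOf_coe]; exact hIo
  have hzM : z ∈ M := by rw [hzI]; exact I.2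
  have hX'2 : IsPGroup 2 ((X : Subgroup M).map M.subtype) := X.2.map _
  have hSyl := fun Q hQM hQ => syl_in M X Q hQM hQ
  have hzc : ∀ a ∈ (X : Subgroup M).map M.subtype, a * z = z * a := by
    rintro _ ⟨a', ha', rfl⟩
    obtain ⟨c, hc, hcI⟩ := hI
    have h1 := Subgroup.mem_center_iff.mp hc ⟨a', ha'⟩
    have h2 : a' * I = I * a' := by
      rw [← hcI]
      exact congrArg Subtype.val h1
    rw [hzI]
    exact congrArg Subtype.val h2
  have hSE : ∀ g, g ∉ M → ∀ i ∈ M, g⁻¹ * i * g ∈ M → orderOf i ≠ 2 :=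
    fun g hg i hi hi' => strongly_embedded hC hX'2 hSyl hN hzc hz hzM g hg i hi hi'
  constructor
  · intro x y hx hy
    have hx' : orderOf (x : S) = 2 := by rw [Subgroup.orderOf_coe]; exact hx
    have hy' : orderOf (y : S) = 2 := by rw [Subgroup.orderOf_coe]; exact hy
    obtain ⟨g, hg⟩ := isConj_iff.mp (hall _ _ hx' hy')
    have hgM : g ∈ M := by
      by_contra hgM
      apply hSE g hgM y.1 y.2 _ hy'
      rw [← hg]
      have : g⁻¹ * (g * ↑x * g⁻¹) * g = x := by group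
      rw [this]; exact x.2
    rw [isConj_iff]
    exact ⟨⟨g, hgM⟩, Subtype.ext hg⟩
  · have hMtop : M ≠ ⊤ := by
      intro h
      have : M.normalCore = ⊤ := by
        rw [eq_top_iff]
        intro a _ b
        rw [h]; trivial
      rw [this, ← h] at hcore
      exact (Nat.not_even_iff_odd.mpr hcore) hM
    obtain ⟨x₀, hx₀⟩ := SetLike.exists_not_mem_of_ne_top M hMtop
    have h0 := h0_of hz hzM hSE
    obtain ⟨D, hDM, hDodd, hDtr⟩ := transitive hz hzM hC hSE (x₀ * z * x₀⁻¹)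
      (isConj_conj (IsConj.refl z) x₀) (conj_not_mem h0 hx₀)
    refine ⟨D.subgroupOf M, ?_, ?_⟩
    · rw [Nat.card_congr (Subgroup.subgroupOfEquivOfLe hDM).toEquiv]
      exact hDodd
    · intro m
      obtain ⟨d, hd, hdz⟩ := hDtr ((m : S) * z * (m : S)⁻¹) (isConj_conj (IsConj.refl z) _)
        (M.mul_mem (M.mul_mem m.2 hzM) (M.inv_mem m.2))
      refine ⟨⟨d, hDM hd⟩, by rw [mem_subgroupOf]; exact hd, (⟨d, hDM hd⟩ : M)⁻¹ * m, ?_, ?_⟩
      · rw [mem_centralizer_singleton_iff]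
        apply Subtype.ext
        show d⁻¹ * (m : S) * (I : S) = (I : S) * (d⁻¹ * (m : S))
        rw [← hzI]
        calc d⁻¹ * (m : S) * z = d⁻¹ * ((m : S) * z * (m : S)⁻¹) * m := by group
          _ = d⁻¹ * (d * z * d⁻¹) * m := by rw [hdz]
          _ = z * (d⁻¹ * (m : S)) := by group
      · rw [mul_inv_cancel_left]

end Cfsg.Agent.S1905
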