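import Cfsg.Statements.S1921
import Cfsg.Agent.Lib.Helper3_LBal
import Cfsg.Agent.Lib.Helper3_SupNormalizer
import Cfsg.Agent.S1259

set_option autoImplicit false
open Cfsg

namespace Cfsg.Agent.S1921

/-- Let a be an involution of a finite group H and L a component of H with a L a⁻¹ ≠ L; put M = ⟨L, aLa⁻¹⟩ and let J be the subgroup generated by the elements x · a x a⁻¹ with x ∈ L (the diagonal). Then every element of M outside J·Z(M) generates M together with J. -/
theorem result {H : Type*} [Group H] [Finite H] (a : H) (ha : orderOf a = 2) (L : Subgroup H) (hL : Cfsg.IsComponent L)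
    (hLa : L.map (MulAut.conj a).toMonoidHom ≠ L) (x : H) (hxM : x ∈ L ⊔ L.map (MulAut.conj a).toMonoidHom)
    (hxJ : x ∉ Subgroup.closure {y : H | ∃ l ∈ L, y = l * (a * l * a⁻¹)} ⊔
      ((L ⊔ L.map (MulAut.conj a).toMonoidHom) ⊓ Subgroup.centralizer ((L ⊔ L.map (MulAut.conj a).toMonoidHom : Subgroup H) : Set H))) :
    Subgroup.closure {y : H | ∃ l ∈ L, y = l * (a * l * a⁻¹)} ⊔ Subgroup.zpowers x = L ⊔ L.map (MulAut.conj a).toMonoidHom := by
  classical
  set L' := L.map (MulAut.conj a).toMonoidHom with hL'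
  set J := Subgroup.closure {y : H | ∃ l ∈ L, y = l * (a * l * a⁻¹)} with hJ
  have hL'c : Cfsg.IsComponent L' := Cfsg.Agent.Lib.Helper3_LBal.component_cj L hL a
  have hcomm : ⁅L, L'⁆ = ⊥ :=
    Cfsg.Agent.Lib.Helper3_Components.components_commute L L' hL hL'c (Ne.symm hLa)
  have hL'L : L' ≤ Subgroup.centralizer (L : Set H) := by
    rw [Subgroup.le_centralizer_iff]
    exact Subgroup.commutator_eq_bot_iff_le_centralizer.mp hcomm
  have hc : ∀ l ∈ L, ∀ m ∈ L', l * m = m * l := by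
    intro l hl m hm
    exact Subgroup.mem_centralizer_iff.mp (hL'L hm) l hl
  have hconj : ∀ l ∈ L, a * l * a⁻¹ ∈ L' := fun l hl => Subgroup.mem_map.mpr ⟨l, hl, rfl⟩
  have hgen : ∀ l ∈ L, l * (a * l * a⁻¹) ∈ J := fun l hl => Subgroup.subset_closure ⟨l, hl, rfl⟩
  apply le_antisymm
  · apply sup_le
    · rw [hJ, Subgroup.closure_le]
      rintro y ⟨l, hl, rfl⟩
      exact Subgroup.mul_mem _ (Subgroup.mem_sup_left hl) (Subgroup.mem_sup_right (hconj l hl))
    · rw [Subgroup.zpowers_le]; exact hxM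
  · set K := J ⊔ Subgroup.zpowers x with hK
    have hJK : J ≤ K := le_sup_left
    have hxK : x ∈ K := Subgroup.mem_sup_right (Subgroup.mem_zpowers x)
    -- `K ∩ L` is normal in `L`
    haveI hDn : ((K ⊓ L).subgroupOf L).Normal := by
      constructor
      rintro ⟨d, hdL⟩ hd ⟨l, hl⟩
      rw [Subgroup.mem_subgroupOf] at hd ⊢
      show l * d * l⁻¹ ∈ K ⊓ L
      refine ⟨?_, L.mul_mem (L.mul_mem hl hdL) (L.inv_mem hl)⟩
      have hcd : d * (a * l * a⁻¹) = (a * l * a⁻¹) * d := hc d hdL _ (hconj l hl)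
      have e : l * d * l⁻¹ = (l * (a * l * a⁻¹)) * d * (l * (a * l * a⁻¹))⁻¹ := by
        calc l * d * l⁻¹ = l * (d * (a * l * a⁻¹)) * (a * l * a⁻¹)⁻¹ * l⁻¹ := by group
          _ = l * ((a * l * a⁻¹) * d) * (a * l * a⁻¹)⁻¹ * l⁻¹ := by rw [hcd]
          _ = _ := by group
      rw [e]
      exact K.mul_mem (K.mul_mem (hJK (hgen l hl)) hd.1) (K.inv_mem (hJK (hgen l hl)))
    rcases Cfsg.Agent.S1259.result hL.2 ((K ⊓ L).subgroupOf L) hDn.isSubnormal with h1 | h1
    · -- `L ≤ K`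
      have hLK : L ≤ K := by
        intro l hl
        have : (⟨l, hl⟩ : ↥L) ∈ (K ⊓ L).subgroupOf L := by rw [h1]; exact Subgroup.mem_top _
        exact (Subgroup.mem_subgroupOf.mp this).1
      apply sup_le hLK
      rintro m ⟨l, hl, rfl⟩
      show a * l * a⁻¹ ∈ K
      have e : a * l * a⁻¹ = l⁻¹ * (l * (a * l * a⁻¹)) := by group
      rw [e]
      exact K.mul_mem (K.inv_mem (hLK hl)) (hJK (hgen l hl))
    · exfalso
      apply hxJ
      obtain ⟨l₁, hl₁, m, hm, rfl⟩ :=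
        Cfsg.Agent.Lib.Helper3_SupNormalizer.exists_mul_of_mem_sup L L'
          (hL'L.trans (Subgroup.centralizer_le_normalizer _)) hxM
      obtain ⟨l₂, hl₂, rfl⟩ := hm
      change l₁ * (a * l₂ * a⁻¹) ∈ _ at hxK
      show l₁ * (a * l₂ * a⁻¹) ∈ _
      have hdK : l₁ * l₂⁻¹ ∈ K := by
        have e : l₁ * l₂⁻¹ = (l₁ * (a * l₂ * a⁻¹)) * (l₂ * (a * l₂ * a⁻¹))⁻¹ := by group
        rw [e]
        exact K.mul_mem hxK (K.inv_mem (hJK (hgen l₂ hl₂)))
      have hdL : l₁ * l₂⁻¹ ∈ L := L.mul_mem hl₁ (L.inv_mem hl₂)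
      have hdZ : (⟨l₁ * l₂⁻¹, hdL⟩ : ↥L) ∈ Subgroup.center ↥L :=
        h1 (Subgroup.mem_subgroupOf.mpr ⟨hdK, hdL⟩)
      rw [Subgroup.mem_center_iff] at hdZ
      have hdcent : l₁ * l₂⁻¹ ∈ Subgroup.centralizer ((L ⊔ L' : Subgroup H) : Set H) := by
        have h2 : L ⊔ L' ≤ Subgroup.centralizer ({l₁ * l₂⁻¹} : Set H) := by
          apply sup_le
          · intro l hl
            rw [Subgroup.mem_centralizer_singleton_iff]
            have := congrArg Subtype.val (hdZ ⟨l, hl⟩)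
            exact this
          · intro m hm
            rw [Subgroup.mem_centralizer_singleton_iff]
            exact (hc _ hdL m hm).symm
        refine Subgroup.mem_centralizer_iff.mpr ?_
        intro g hg
        have := Subgroup.mem_centralizer_singleton_iff.mp (h2 hg)
        exact this
      have e : l₁ * (a * l₂ * a⁻¹) = (l₁ * l₂⁻¹) * (l₂ * (a * l₂ * a⁻¹)) := by group
      rw [e]
      exact Subgroup.mul_mem _
        (Subgroup.mem_sup_right ⟨Subgroup.mem_sup_left hdL, hdcent⟩)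
        (Subgroup.mem_sup_left (hgen l₂ hl₂))

end Cfsg.Agent.S1921
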