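import Cfsg.Statements.S1939
import Cfsg.Agent.Lib.Helper3_Sylow
import Mathlib

set_option autoImplicit false
open Cfsg

namespace Cfsg.Agent.S1939

open Cfsg.Agent.Lib.Helper3_Sylow

theorem result {G : Type*} [Group G] [Finite G] {p : ℕ} [Fact p.Prime] (S : Sylow p G) (a : G)
    (haS : a ∈ (S : Subgroup G)) (hwc : ∀ g : G, g * a * g⁻¹ ∈ (S : Subgroup G) → g * a * g⁻¹ = a) (n : ℕ) :
    ∀ g : G, g * a ^ n * g⁻¹ ∈ (S : Subgroup G) → g * a ^ n * g⁻¹ = a ^ n := by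
  intro g hg
  -- a is central in S
  have hcen : ∀ s ∈ (S : Subgroup G), s * a = a * s := by
    intro s hs
    have h1 : s * a * s⁻¹ ∈ (S : Subgroup G) :=
      Subgroup.mul_mem _ (Subgroup.mul_mem _ hs haS) (Subgroup.inv_mem _ hs)
    have h2 := hwc s h1
    calc s * a = (s * a * s⁻¹) * s := by group
      _ = a * s := by rw [h2]
  have hcenpow : ∀ s ∈ (S : Subgroup G), s * a ^ n = a ^ n * s := by
    intro s hs
    exact ((Commute.pow_right (hcen s hs) n) : _)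
  set b := g * a ^ n * g⁻¹ with hb
  let H : Subgroup G := Subgroup.centralizer ({b} : Set G)
  have haH : a ∈ H := by
    show a ∈ Subgroup.centralizer ({b} : Set G)
    rw [Subgroup.mem_centralizer_singleton_iff]
    exact (hcen b hg).symm
  have hT : ((g • S : Sylow p G) : Subgroup G) ≤ H := by
    intro x hx
    have hx' : g⁻¹ * x * g ∈ S := (mem_smul_sylow_iff S g x).mp hx
    show x ∈ Subgroup.centralizer ({b} : Set G)
    rw [Subgroup.mem_centralizer_singleton_iff]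
    have h1 := hcenpow _ hx'
    -- (g⁻¹ x g) a^n = a^n (g⁻¹ x g)
    calc x * b = g * ((g⁻¹ * x * g) * a ^ n) * g⁻¹ := by rw [hb]; group
      _ = g * (a ^ n * (g⁻¹ * x * g)) * g⁻¹ := by rw [h1]
      _ = b * x := by rw [hb]; group
  have hao : ∃ k : ℕ, orderOf a = p ^ k := by
    have := (IsPGroup.iff_orderOf.mp S.isPGroup') ⟨a, haS⟩
    obtain ⟨k, hk⟩ := this
    exact ⟨k, by rw [← hk, Subgroup.orderOf_mk]⟩
  obtain ⟨c, hcH, hc⟩ := exists_conj_mem_sylow_of_le (g • S : Sylow p G) H hT a haH hao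
  have hc' : g⁻¹ * (c * a * c⁻¹) * g ∈ S := (mem_smul_sylow_iff S g _).mp hc
  have h1 : (g⁻¹ * c) * a * (g⁻¹ * c)⁻¹ ∈ (S : Subgroup G) := by
    have : (g⁻¹ * c) * a * (g⁻¹ * c)⁻¹ = g⁻¹ * (c * a * c⁻¹) * g := by group
    rw [this]; exact hc'
  have h2 := hwc _ h1
  have h3 : (g⁻¹ * c) * a ^ n * (g⁻¹ * c)⁻¹ = a ^ n := by
    rw [← conj_pow, h2]
  have hcb : c * b = b * c := by
    have : c ∈ Subgroup.centralizer ({b} : Set G) := hcH
    rwa [Subgroup.mem_centralizer_singleton_iff] at this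
  -- b = c⁻¹ b c = c⁻¹ g a^n g⁻¹ c = (g⁻¹ c)⁻¹ a^n (g⁻¹ c) = a^n
  have h4 : b = c⁻¹ * (c * b) := by group
  have h5 : a ^ n = (g⁻¹ * c)⁻¹ * ((g⁻¹ * c) * a ^ n * (g⁻¹ * c)⁻¹) * (g⁻¹ * c) := by group
  rw [h3] at h5
  -- h5 : a^n = (g⁻¹ c)⁻¹ a^n (g⁻¹ c) = c⁻¹ g a^n g⁻¹ c = c⁻¹ b c
  have h6 : (g⁻¹ * c)⁻¹ * a ^ n * (g⁻¹ * c) = c⁻¹ * b * c := by rw [hb]; group
  rw [h6] at h5
  rw [h5, mul_assoc, ← hcb]; group

end Cfsg.Agent.S1939
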