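import Cfsg.Statements.S1940
import Mathlib

set_option autoImplicit false
open Cfsg

namespace Cfsg.Agent.S1940

theorem result {L : Type*} [Group L] [Finite L] {M : Type*} [CommGroup M] [Finite M] [MulDistribMulAction L M]
    {p : ℕ} [Fact p.Prime] (N : Subgroup M) (hN : ∀ (l : L) (m : M), m ∈ N → l • m ∈ N)
    (hquot : IsPGroup p (M ⧸ N)) (htriv : ∀ (l : L) (m : M), (l • m) * m⁻¹ ∈ N) (T : Sylow p L)
    (hT : ∀ m : M, ∃ n ∈ N, ∃ c : M, (∀ t ∈ (T : Subgroup L), t • c = c) ∧ m = n * c) :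
    ∀ m : M, ∃ n ∈ N, ∃ c : M, (∀ l : L, l • c = c) ∧ m = n * c := by
  classical
  intro m
  obtain ⟨n, hn, c, hc, hm⟩ := hT m
  haveI : Fintype (MulAction.orbit L c) := Fintype.ofFinite _
  set d : M := ∏ x : MulAction.orbit L c, (x : M) with hd
  have hdfix : ∀ l : L, l • d = d := by
    intro l
    rw [hd, Finset.smul_prod']
    exact Fintype.prod_bijective (fun x : MulAction.orbit L c => l • x) (MulAction.bijective l) _ _
      (fun x => by simp)
  -- image in the quotient
  have hmk : (QuotientGroup.mk d : M ⧸ N) = (QuotientGroup.mk c : M ⧸ N) ^ (Fintype.card (MulAction.orbit L c)) := by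
    rw [hd]
    show (QuotientGroup.mk' N) (∏ x : MulAction.orbit L c, (x : M)) = _
    rw [map_prod (QuotientGroup.mk' N)]
    have : ∀ x : MulAction.orbit L c, (QuotientGroup.mk' N) (x : M) = (QuotientGroup.mk c : M ⧸ N) := by
      rintro ⟨x, l, rfl⟩
      show (QuotientGroup.mk (l • c) : M ⧸ N) = QuotientGroup.mk c
      rw [QuotientGroup.eq]
      have h1 := htriv l c
      have h2 : (l • c)⁻¹ * c = ((l • c) * c⁻¹)⁻¹ := by
        rw [mul_inv_rev, inv_inv, mul_comm]
      rw [h2]
      exact N.inv_mem h1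
    simp only [this]
    rw [Finset.prod_const, Finset.card_univ]
  -- the orbit size is coprime to p
  have hcop : (Fintype.card (MulAction.orbit L c)).Coprime (orderOf (QuotientGroup.mk c : M ⧸ N)) := by
    obtain ⟨k, hk⟩ := IsPGroup.iff_orderOf.mp hquot (QuotientGroup.mk c : M ⧸ N)
    rw [hk]
    apply Nat.Coprime.pow_right
    rw [Nat.coprime_comm, Nat.Prime.coprime_iff_not_dvd (Fact.out : p.Prime)]
    intro hdvd
    have hle : (T : Subgroup L) ≤ MulAction.stabilizer L c := by
      intro t ht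
      rw [MulAction.mem_stabilizer_iff]
      exact hc t ht
    have h1 : (MulAction.stabilizer L c).index ∣ (T : Subgroup L).index := Subgroup.index_dvd_of_le hle
    have h2 : (MulAction.stabilizer L c).index = Fintype.card (MulAction.orbit L c) := by
      rw [MulAction.index_stabilizer, ← Nat.card_coe_set_eq, Nat.card_eq_fintype_card]
    rw [h2] at h1
    exact T.not_dvd_index (dvd_trans hdvd h1)
  obtain ⟨k, hk⟩ := exists_pow_eq_self_of_coprime hcop
  rw [← hmk] at hk
  -- hk : (mk d)^k = mk c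
  have hk' : (QuotientGroup.mk (d ^ k) : M ⧸ N) = QuotientGroup.mk c := by
    rw [QuotientGroup.mk_pow]; exact hk
  rw [QuotientGroup.eq] at hk'
  -- (d^k)⁻¹ * c ∈ N
  refine ⟨n * ((d ^ k)⁻¹ * c), N.mul_mem hn hk', d ^ k, ?_, ?_⟩
  · intro l
    rw [smul_pow', hdfix l]
  · rw [hm]
    rw [mul_assoc, mul_assoc, mul_comm c (d ^ k), ← mul_assoc (d ^ k)⁻¹, inv_mul_cancel, one_mul]

end Cfsg.Agent.S1940
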