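import Cfsg.Statements.S1941
import Cfsg.Agent.S1265
import Cfsg.Agent.S1268
import Cfsg.Agent.Lib.Helper4_PCore

set_option autoImplicit false
open Cfsg

namespace Cfsg.Agent.S1941

/-- Let G be a finite group with no nontrivial normal subgroup of order prime to p, T a Sylow p-subgroup of G and E(G) the layer of G (the subgroup generated by its components). An automorphism of G of p-power order that fixes T and E(G) elementwise is inner. -/
theorem result {G : Type*} [Group G] [Finite G] {p : ℕ} [Fact p.Prime] (hcore : Cfsg.pPrimeCore p G = ⊥)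
    (T : Sylow p G) (α : MulAut G) (hα : ∃ j : ℕ, orderOf α = p ^ j) (hfixT : ∀ x ∈ (T : Subgroup G), α x = x)
    (hfixE : ∀ x ∈ Cfsg.layer G, α x = x) : ∃ g : G, ∀ x : G, α x = g * x * g⁻¹ := by
  classical
  haveI hFn : (Cfsg.generalizedFittingSubgroup G).Normal := Cfsg.Agent.S1265.gf_normal G
  have hZF : Subgroup.centralizer (Cfsg.generalizedFittingSubgroup G : Set G) ≤
      Cfsg.generalizedFittingSubgroup G := Cfsg.Agent.S1265.result
  obtain ⟨Z, hZdef⟩ : ∃ Z : Subgroup G,
      Z = Subgroup.centralizer (Cfsg.generalizedFittingSubgroup G : Set G) := ⟨_, rfl⟩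
  haveI hZn : Z.Normal := by rw [hZdef]; infer_instance
  have hZcomm : ∀ a b : ↥Z, a * b = b * a := by
    intro a b
    apply Subtype.ext
    have ha : (a : G) ∈ Subgroup.centralizer (Cfsg.generalizedFittingSubgroup G : Set G) := by
      rw [← hZdef]; exact a.2
    have hb : (b : G) ∈ Cfsg.generalizedFittingSubgroup G := hZF (by rw [← hZdef]; exact b.2)
    exact (Subgroup.mem_centralizer_iff.mp ha b hb).symm
  letI : CommGroup ↥Z := { (inferInstance : Group ↥Z) with mul_comm := hZcomm }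
  have hfit := Cfsg.Agent.S1268.fitting_eq_pCore_of_pPrimeCore_eq_bot p hcore
  have hZp : Z ≤ Cfsg.pCore p G := by
    rw [← hfit]
    exact le_sSup ⟨hZn, CommGroup.isNilpotent⟩
  have hpp : IsPGroup p ↥(Cfsg.pCore p G) := Cfsg.Agent.Lib.Helper4_PCore.pCore_isPGroup
  have hZpg : IsPGroup p ↥Z := hpp.to_le hZp
  -- `α` fixes `F*(G)` pointwise
  have hfix : ∀ x ∈ Cfsg.generalizedFittingSubgroup G, α x = x := by
    have h1 : Cfsg.generalizedFittingSubgroup G ≤
        MonoidHom.eqLocus α.toMonoidHom (MonoidHom.id G) := by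
      unfold Cfsg.generalizedFittingSubgroup
      rw [hfit]
      apply sup_le
      · intro x hx; exact hfixE x hx
      · intro x hx
        exact hfixT x (Cfsg.Agent.Lib.Helper4_PCore.pCore_le_sylow T hx)
    intro x hx
    exact h1 hx
  have hy : ∀ g : G, α g * g⁻¹ ∈ Z := by
    intro g
    rw [hZdef]
    refine Subgroup.mem_centralizer_iff.mpr ?_
    intro x hx
    have hx' : g⁻¹ * x * g ∈ Cfsg.generalizedFittingSubgroup G := by
      have := hFn.conj_mem x hx g⁻¹
      rwa [inv_inv] at this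
    have h1 := hfix _ hx'
    rw [map_mul, map_mul, map_inv, hfix x hx] at h1
    calc x * (α g * g⁻¹) = α g * ((α g)⁻¹ * x * α g) * g⁻¹ := by group
      _ = α g * (g⁻¹ * x * g) * g⁻¹ := by rw [h1]
      _ = α g * g⁻¹ * x := by group
  -- the cocycle
  obtain ⟨y, hydef⟩ : ∃ y : G → ↥Z, ∀ g, (y g : G) = α g * g⁻¹ := ⟨fun g => ⟨_, hy g⟩, fun g => rfl⟩
  have hcoc : ∀ g h : G, y (g * h) = y g * MulAut.conjNormal g (y h) := by
    intro g h
    apply Subtype.ext
    rw [Subgroup.coe_mul, MulAut.conjNormal_apply, hydef, hydef, hydef, map_mul]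
    group
  have hyT : ∀ t ∈ (T : Subgroup G), y t = 1 := by
    intro t ht
    apply Subtype.ext
    rw [hydef, hfixT t ht, mul_inv_cancel]
    rfl
  have hyT' : ∀ (g : G), ∀ t ∈ (T : Subgroup G), y (g * t) = y g := by
    intro g t ht
    rw [hcoc, hyT t ht, map_one, mul_one]
  let ybar : G ⧸ (T : Subgroup G) → ↥Z := Quotient.lift y (by
    intro a b hab
    have h1 : a⁻¹ * b ∈ (T : Subgroup G) := QuotientGroup.leftRel_apply.mp hab
    have h2 := hyT' a _ h1
    rw [mul_inv_cancel_left] at h2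
    exact h2.symm)
  have hybar : ∀ a : G, ybar (QuotientGroup.mk a) = y a := fun a => rfl
  letI : Fintype (G ⧸ (T : Subgroup G)) := Fintype.ofFinite _
  obtain ⟨w, hwdef⟩ : ∃ w : ↥Z, w = ∏ q : G ⧸ (T : Subgroup G), ybar q := ⟨_, rfl⟩
  have hstep : ∀ (g : G) (q : G ⧸ (T : Subgroup G)),
      MulAut.conjNormal g (ybar q) = (y g)⁻¹ * ybar (g • q) := by
    intro g q
    induction q using QuotientGroup.induction_on with
    | H a =>
      have : g • (QuotientGroup.mk a : G ⧸ (T : Subgroup G)) = QuotientGroup.mk (g * a) := rfl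
      rw [this, hybar, hybar, hcoc, inv_mul_cancel_left]
  have hkey : ∀ g : G, MulAut.conjNormal g w =
      (y g)⁻¹ ^ Fintype.card (G ⧸ (T : Subgroup G)) * w := by
    intro g
    rw [hwdef, map_prod]
    simp_rw [hstep g]
    rw [Finset.prod_mul_distrib, Finset.prod_const, Finset.card_univ]
    congr 1
    exact Equiv.prod_comp (MulAction.toPerm g) ybar
  -- coprimality
  have hm : ¬ p ∣ Fintype.card (G ⧸ (T : Subgroup G)) := by
    have h1 := T.not_dvd_index
    have h2 : (T : Subgroup G).index = Fintype.card (G ⧸ (T : Subgroup G)) := by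
      rw [Subgroup.index, Nat.card_eq_fintype_card]
    rwa [h2] at h1
  obtain ⟨k, hk⟩ := IsPGroup.iff_card.mp hZpg
  have hcop : Nat.Coprime (Fintype.card (G ⧸ (T : Subgroup G))) (Nat.card ↥Z) := by
    rw [hk]
    exact Nat.Coprime.pow_right k
      ((Nat.Prime.coprime_iff_not_dvd (Fact.out : p.Prime)).mpr hm).symm
  have hbez := Nat.gcd_eq_gcd_ab (Fintype.card (G ⧸ (T : Subgroup G))) (Nat.card ↥Z)
  rw [hcop.gcd_eq_one] at hbez
  set m := Fintype.card (G ⧸ (T : Subgroup G)) with hmdef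
  set A := m.gcdA (Nat.card ↥Z) with hA
  set B := m.gcdB (Nat.card ↥Z) with hB
  have hroot : ∀ z : ↥Z, z = (z ^ m) ^ A := by
    intro z
    have h1 : z ^ ((m : ℤ) * A + (Nat.card ↥Z : ℤ) * B) = z := by
      rw [← hbez]; simp
    rw [zpow_add, zpow_mul, zpow_mul, zpow_natCast, zpow_natCast, pow_card_eq_one', one_zpow,
      mul_one] at h1
    exact h1.symm
  have hym : ∀ g : G, (y g) ^ m = w * (MulAut.conjNormal g w)⁻¹ := by
    intro g
    rw [hkey g, inv_pow, mul_inv, inv_inv, mul_comm ((y g) ^ m), mul_inv_cancel_left]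
  refine ⟨((w ^ A : ↥Z) : G), ?_⟩
  intro x
  have h1 : y x = (w ^ A) * (MulAut.conjNormal x (w ^ A))⁻¹ := by
    rw [hroot (y x), hym x, mul_zpow, inv_zpow, map_zpow]
  have h2 := congrArg Subtype.val h1
  rw [hydef, Subgroup.coe_mul, Subgroup.coe_inv, MulAut.conjNormal_apply] at h2
  calc α x = α x * x⁻¹ * x := by group
    _ = ((w ^ A : ↥Z) : G) * (x * ((w ^ A : ↥Z) : G) * x⁻¹)⁻¹ * x := by rw [h2]
    _ = ((w ^ A : ↥Z) : G) * x * ((w ^ A : ↥Z) : G)⁻¹ := by group

end Cfsg.Agent.S1941
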