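import Cfsg.Statements.S1944
import Cfsg.Agent.Lib.Helper3_Trace
import Cfsg.Agent.Lib.Helper3_Sylow
import Cfsg.Agent.Lib.Helper4_PCore
import Cfsg.Agent.Lib.Helper5_PPrime
import Cfsg.Agent.Lib.Helper3_SupNormalizer

set_option autoImplicit false
open Cfsg

namespace Cfsg.Agent.S1944

/-- Let S be a Sylow p-subgroup of the finite group G and suppose that the centre Z(S) lies in O_{p',p}(G). The elements of S each of which is its only G-conjugate in S form a subgroup W of Z(S); W is then a direct factor of Z(S): there is a subgroup K of Z(S) with W ∩ K = 1 and WK = Z(S). -/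
theorem result {G : Type*} [Group G] [Finite G] {p : ℕ} [Fact p.Prime] (S : Sylow p G)
    (hZ : ((S : Subgroup G) ⊓ Subgroup.centralizer ((S : Subgroup G) : Set G)) ≤ Cfsg.pPrimePCore p G) :
    ∃ W K : Subgroup G, (∀ x : G, x ∈ W ↔ (x ∈ (S : Subgroup G) ∧ ∀ g : G, g * x * g⁻¹ ∈ (S : Subgroup G) → g * x * g⁻¹ = x)) ∧
      K ≤ ((S : Subgroup G) ⊓ Subgroup.centralizer ((S : Subgroup G) : Set G)) ∧ W ⊓ K = ⊥ ∧ W ⊔ K = ((S : Subgroup G) ⊓ Subgroup.centralizer ((S : Subgroup G) : Set G)) := by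
  classical
  have hNc : (Nat.card (pPrimeCore p G)).Coprime p :=
    Cfsg.Agent.Lib.Helper5_PPrime.pPrimeCore_coprime p G
  obtain ⟨π, hπdef⟩ : ∃ π : G →* G ⧸ pPrimeCore p G,
      π = QuotientGroup.mk' (pPrimeCore p G) := ⟨_, rfl⟩
  have hπs : Function.Surjective π := by rw [hπdef]; exact QuotientGroup.mk'_surjective _
  have hker : ∀ x, π x = 1 ↔ x ∈ pPrimeCore p G := by
    intro x; rw [hπdef]; exact QuotientGroup.eq_one_iff x
  have hSN : (S : Subgroup G) ⊓ pPrimeCore p G = ⊥ := by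
    apply Subgroup.inf_eq_bot_of_coprime
    obtain ⟨k, hk⟩ := IsPGroup.iff_card.mp S.isPGroup'
    rw [hk]
    exact Nat.Coprime.pow_left k hNc.symm
  have hF2 : ∀ s ∈ (S : Subgroup G), π s = 1 → s = 1 := by
    intro s hs h1
    have : s ∈ (S : Subgroup G) ⊓ pPrimeCore p G := ⟨hs, (hker s).mp h1⟩
    rw [hSN] at this; exact Subgroup.mem_bot.mp this
  obtain ⟨Sbar, hSbarc⟩ : ∃ Sbar : Sylow p (G ⧸ pPrimeCore p G),
      (Sbar : Subgroup (G ⧸ pPrimeCore p G)) = (S : Subgroup G).map π := ⟨S.mapSurjective hπs, rfl⟩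
  obtain ⟨Pbar, hPbar⟩ : ∃ Pbar : Subgroup (G ⧸ pPrimeCore p G),
      Pbar = pCore p (G ⧸ pPrimeCore p G) := ⟨_, rfl⟩
  haveI hPn : Pbar.Normal := by rw [hPbar]; exact Cfsg.Agent.Lib.Helper4_PCore.pCore_normal p _
  have hPS : Pbar ≤ (Sbar : Subgroup (G ⧸ pPrimeCore p G)) := by
    rw [hPbar]; exact Cfsg.Agent.Lib.Helper4_PCore.pCore_le_sylow Sbar
  have hPp : IsPGroup p ↥Pbar := by
    rw [hPbar]; exact Cfsg.Agent.Lib.Helper4_PCore.pCore_isPGroup
  have hZP : ∀ x ∈ (S : Subgroup G) ⊓ Subgroup.centralizer ((S : Subgroup G) : Set G),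
      π x ∈ Pbar := by
    intro x hx
    have h1 := hZ hx
    unfold Cfsg.pPrimePCore at h1
    rw [Subgroup.mem_comap] at h1
    rw [hPbar, hπdef]
    exact h1
  obtain ⟨Vbar, hVdef⟩ : ∃ Vbar : Subgroup (G ⧸ pPrimeCore p G),
      Vbar = Pbar ⊓ Subgroup.centralizer (Pbar : Set _) := ⟨_, rfl⟩
  haveI hVn : Vbar.Normal := by rw [hVdef]; infer_instance
  have hVab : ∀ a ∈ Vbar, ∀ b ∈ Vbar, a * b = b * a := by
    intro a ha b hb
    rw [hVdef] at ha hb
    exact (Subgroup.mem_centralizer_iff.mp ha.2 b hb.1).symm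
  have hVp : IsPGroup p ↥Vbar := hPp.to_le (by rw [hVdef]; exact inf_le_left)
  have hcop : Nat.Coprime (Sbar : Subgroup (G ⧸ pPrimeCore p G)).index (Nat.card ↥Vbar) := by
    obtain ⟨k, hk⟩ := IsPGroup.iff_card.mp hVp
    rw [hk]
    have hnd : ¬ p ∣ (Sbar : Subgroup (G ⧸ pPrimeCore p G)).index := Sylow.not_dvd_index Sbar
    exact Nat.Coprime.pow_right k
      ((Nat.Prime.coprime_iff_not_dvd (Fact.out : p.Prime)).mpr hnd).symm
  obtain ⟨Kbar, hK1, hK2, hK3⟩ :=
    Cfsg.Agent.Lib.Helper3_Trace.trace_split (Sbar : Subgroup (G ⧸ pPrimeCore p G)) Vbar hVab hcop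
  -- images of `Z(S)`
  have hF3a : ∀ x ∈ (S : Subgroup G) ⊓ Subgroup.centralizer ((S : Subgroup G) : Set G),
      π x ∈ Vbar ⊓ Subgroup.centralizer ((Sbar : Subgroup (G ⧸ pPrimeCore p G)) : Set _) := by
    intro x hx
    have hc : π x ∈ Subgroup.centralizer ((Sbar : Subgroup (G ⧸ pPrimeCore p G)) : Set _) := by
      refine Subgroup.mem_centralizer_iff.mpr ?_
      intro y hy
      rw [SetLike.mem_coe, hSbarc] at hy
      obtain ⟨s, hs, rfl⟩ := hy
      rw [← map_mul, ← map_mul, Subgroup.mem_centralizer_iff.mp hx.2 s hs]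
    refine ⟨?_, hc⟩
    rw [hVdef]
    exact ⟨hZP x hx, Subgroup.centralizer_le (by exact_mod_cast hPS) hc⟩
  have hF3b : ∀ a ∈ Vbar ⊓ Subgroup.centralizer ((Sbar : Subgroup (G ⧸ pPrimeCore p G)) : Set _),
      ∃ x ∈ (S : Subgroup G) ⊓ Subgroup.centralizer ((S : Subgroup G) : Set G), π x = a := by
    intro a ha
    have h1 : a ∈ (Sbar : Subgroup (G ⧸ pPrimeCore p G)) := hPS (by rw [hVdef] at ha; exact ha.1.1)
    rw [hSbarc] at h1
    obtain ⟨s, hs, rfl⟩ := h1
    refine ⟨s, ⟨hs, ?_⟩, rfl⟩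
    refine Subgroup.mem_centralizer_iff.mpr ?_
    intro t ht
    have h2 : π t * π s = π s * π t := by
      apply Subgroup.mem_centralizer_iff.mp ha.2
      rw [SetLike.mem_coe, hSbarc]
      exact ⟨t, ht, rfl⟩
    have h3 : t * s * t⁻¹ * s⁻¹ = 1 := by
      apply hF2
      · exact Subgroup.mul_mem _ (Subgroup.mul_mem _ (Subgroup.mul_mem _ ht hs)
          (Subgroup.inv_mem _ ht)) (Subgroup.inv_mem _ hs)
      · rw [map_mul, map_mul, map_mul, h2, map_inv, map_inv]
        group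
    calc t * s = t * s * t⁻¹ * s⁻¹ * (s * t) := by group
      _ = s * t := by rw [h3, one_mul]
  -- characterization of the weakly closed elements
  have hW : ∀ x : G, (x ∈ (S : Subgroup G) ∧
      ∀ g : G, g * x * g⁻¹ ∈ (S : Subgroup G) → g * x * g⁻¹ = x) ↔
      (x ∈ (S : Subgroup G) ⊓ Subgroup.centralizer ((S : Subgroup G) : Set G) ∧
        π x ∈ Subgroup.center (G ⧸ pPrimeCore p G)) := by
    intro x
    constructor
    · rintro ⟨hxS, hx⟩
      have hxZ : x ∈ (S : Subgroup G) ⊓ Subgroup.centralizer ((S : Subgroup G) : Set G) := by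
        refine ⟨hxS, Subgroup.mem_centralizer_iff.mpr ?_⟩
        intro s hs
        have h1 := hx s (Subgroup.mul_mem _ (Subgroup.mul_mem _ hs hxS) (Subgroup.inv_mem _ hs))
        calc s * x = s * x * s⁻¹ * s := by group
          _ = x * s := by rw [h1]
      refine ⟨hxZ, ?_⟩
      rw [Subgroup.mem_center_iff]
      intro gb
      obtain ⟨g, rfl⟩ := hπs gb
      -- `y = g x g⁻¹` lies in the preimage of `Sbar`
      have hy1 : π (g * x * g⁻¹) ∈ (Sbar : Subgroup (G ⧸ pPrimeCore p G)) := by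
        apply hPS
        rw [map_mul, map_mul, map_inv]
        exact hPn.conj_mem _ (hZP x hxZ) _
      have hSle : (S : Subgroup G) ≤ (Sbar : Subgroup (G ⧸ pPrimeCore p G)).comap π := by
        intro s hs
        rw [Subgroup.mem_comap, hSbarc]
        exact ⟨s, hs, rfl⟩
      have hord : ∃ k : ℕ, orderOf (g * x * g⁻¹) = p ^ k := by
        obtain ⟨k, hk⟩ := IsPGroup.iff_orderOf.mp S.isPGroup' ⟨x, hxS⟩
        refine ⟨k, ?_⟩
        rw [← hk, Subgroup.orderOf_mk]
        exact (MulAut.conj g).orderOf_eq x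
      obtain ⟨c, hc, hcy⟩ := Cfsg.Agent.Lib.Helper3_Sylow.exists_conj_mem_sylow_of_le S
        ((Sbar : Subgroup (G ⧸ pPrimeCore p G)).comap π) hSle (g * x * g⁻¹) hy1 hord
      have h1 : (c * g) * x * (c * g)⁻¹ = x := by
        apply hx
        have : (c * g) * x * (c * g)⁻¹ = c * (g * x * g⁻¹) * c⁻¹ := by group
        rw [this]; exact hcy
      have h2 : g * x * g⁻¹ = c⁻¹ * x * c := by
        calc g * x * g⁻¹ = c⁻¹ * ((c * g) * x * (c * g)⁻¹) * c := by group
          _ = c⁻¹ * x * c := by rw [h1]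
      have h3 : π c * π x = π x * π c := by
        apply Subgroup.mem_centralizer_iff.mp (hF3a x hxZ).2
        exact hc
      have h4 : π g * π x * (π g)⁻¹ = π x := by
        have := congrArg π h2
        rw [map_mul, map_mul, map_inv, map_mul, map_mul, map_inv] at this
        rw [this, mul_assoc, ← h3, inv_mul_cancel_left]
      calc π g * π x = π g * π x * (π g)⁻¹ * π g := by group
        _ = π x * π g := by rw [h4]
    · rintro ⟨hxZ, hxc⟩
      refine ⟨hxZ.1, ?_⟩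
      intro g hg
      have h1 : g * x * g⁻¹ * x⁻¹ = 1 := by
        apply hF2
        · exact Subgroup.mul_mem _ hg (Subgroup.inv_mem _ hxZ.1)
        · rw [map_mul, map_mul, map_mul, map_inv, map_inv,
            Subgroup.mem_center_iff.mp hxc (π g)]
          group
      calc g * x * g⁻¹ = g * x * g⁻¹ * x⁻¹ * x := by group
        _ = x := by rw [h1, one_mul]
  refine ⟨((S : Subgroup G) ⊓ Subgroup.centralizer ((S : Subgroup G) : Set G)) ⊓
      (Subgroup.center (G ⧸ pPrimeCore p G)).comap π,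
    ((S : Subgroup G) ⊓ Subgroup.centralizer ((S : Subgroup G) : Set G)) ⊓ Kbar.comap π,
    ?_, inf_le_left, ?_, ?_⟩
  · intro x
    rw [hW x]
    exact Iff.rfl
  · rw [eq_bot_iff]
    rintro x ⟨⟨hxZ, hxc⟩, ⟨_, hxK⟩⟩
    have hxc' : π x ∈ Subgroup.center (G ⧸ pPrimeCore p G) := hxc
    have hxK' : π x ∈ Kbar := hxK
    have h1 : π x ∈ (Vbar ⊓ Subgroup.center (G ⧸ pPrimeCore p G)) ⊓ Kbar :=
      ⟨⟨(hF3a x hxZ).1, hxc'⟩, hxK'⟩
    rw [hK2, Subgroup.mem_bot] at h1
    rw [Subgroup.mem_bot]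
    exact hF2 x hxZ.1 h1
  · apply le_antisymm
    · exact sup_le inf_le_left inf_le_left
    · intro x hxZ
      have h1 := hF3a x hxZ
      rw [← hK3] at h1
      haveI hBn : (Vbar ⊓ Subgroup.center (G ⧸ pPrimeCore p G)).Normal := inferInstance
      obtain ⟨b, hb, k, hk, hbk⟩ := Cfsg.Agent.Lib.Helper3_SupNormalizer.exists_mul_of_mem_sup
        (Vbar ⊓ Subgroup.center (G ⧸ pPrimeCore p G)) Kbar
        (by rw [Subgroup.normalizer_eq_top]; exact le_top) h1
      obtain ⟨y, hyZ, rfl⟩ := hF3b b (by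
        rw [← hK3]; exact Subgroup.mem_sup_left hb)
      have hx : x = y * (y⁻¹ * x) := by group
      rw [hx]
      apply Subgroup.mul_mem
      · exact Subgroup.mem_sup_left ⟨hyZ, hb.2⟩
      · refine Subgroup.mem_sup_right ⟨Subgroup.mul_mem _ (Subgroup.inv_mem _ hyZ) hxZ, ?_⟩
        have h5 : π (y⁻¹ * x) ∈ Kbar := by
          rw [map_mul, map_inv, hbk, inv_mul_cancel_left]
          exact hk
        exact h5

end Cfsg.Agent.S1944
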