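import Cfsg.Statements.S5298
import Cfsg.Agent.Lib.Helper8_ControlFusion

set_option autoImplicit false
universe u
open Cfsg

namespace Cfsg.Agent.S5298

/-- Let F be a saturated fusion system over a finite p-group S. If every map of F between cyclic subgroups of the hyperfocal subgroup of F of order p or 4 is conjugation by an element of S, then F is the inner fusion system of S. -/
theorem result {Ω : Type u} [Group Ω] {S : Subgroup Ω} [Finite S] (p : ℕ) [Fact p.Prime] (hS : IsPGroup p S)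
    (F : Cfsg.FusionSystem S) (hF : F.IsSaturated p)
    (h : ∀ A B : Subgroup Ω, A ≤ (F.hyperfocalSubgroup p) → B ≤ (F.hyperfocalSubgroup p) → IsCyclic ↥A → (Nat.card ↥A = p ∨ Nat.card ↥A = 4) → IsCyclic ↥B → (Nat.card ↥B = p ∨ Nat.card ↥B = 4) →
      F.homSet A B ⊆ (Cfsg.innerFusionSystem S).Hom A) :
    ∀ P : Subgroup Ω, F.Hom P = (Cfsg.innerFusionSystem S).Hom P := by
  open Cfsg.Agent.Lib.Helper8_Saturated Cfsg.Agent.Lib.Helper8_Alperin
    Cfsg.Agent.Lib.Helper8_Frobenius Cfsg.Agent.Lib.Helper8_ControlFusion in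
  apply eq_inner_of_pGroup hS F hF
  intro P hP
  have hPS : P ≤ S := by
    rcases hP with rfl | hP
    · exact le_rfl
    · exact hP.1.1
  haveI : Finite P := finite_of_le hPS
  apply isPGroup_of_coprime_trivial
  intro α hα m hm hαm
  have hord : (orderOf α).Coprime p :=
    Nat.Coprime.coprime_dvd_left (orderOf_dvd_of_pow_eq_one hαm) hm
  apply aut_trivial_of_chain hS F hF hPS {α} (by
    intro β hβ; rw [Set.mem_singleton_iff] at hβ; rw [hβ]; exact hα)
    (by intro β hβ; rw [Set.mem_singleton_iff] at hβ; rw [hβ]; exact hord) ?_ α rfl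
  intro R' hR'Y hR'A hexp β hβ i x hx hxZ
  rw [Set.mem_singleton_iff] at hβ
  subst hβ
  by_cases hx1 : x = 1
  · rw [hx1, map_one]; simp [Subgroup.one_mem]
  have hx1' : (x : Ω) ≠ 1 := fun h1 => hx1 (Subtype.ext h1)
  have hβx1' : ((β x : P) : Ω) ≠ 1 := by
    intro h1
    apply hx1
    have : β x = 1 := Subtype.ext h1
    have h2 : β x = β 1 := by rw [this, map_one]
    exact β.injective h2
  have hsmall : ∀ y ∈ R', ((y : P) : Ω) ^ p = 1 ∨ (p = 2 ∧ ((y : P) : Ω) ^ 4 = 1) := by
    intro y hy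
    rcases hexp y hy with h1 | ⟨h2, h1⟩
    · left
      have := congrArg Subtype.val h1
      simpa using this
    · right
      refine ⟨h2, ?_⟩
      have := congrArg Subtype.val h1
      simpa using this
  have hβxR : β x ∈ R' := hR'A β hα x hx
  obtain ⟨φ, hφ, hφx⟩ := restrict_zpowers F hPS β hα x
  have hAle : Subgroup.zpowers (x : Ω) ≤ F.hyperfocalSubgroup p := by
    rw [Subgroup.zpowers_le]
    exact hR'Y hx
  have hBle : Subgroup.zpowers ((β x : P) : Ω) ≤ F.hyperfocalSubgroup p := by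
    rw [Subgroup.zpowers_le]
    exact hR'Y hβxR
  have hinner := h _ _ hAle hBle inferInstance (card_zpowers_of_small hx1' (hsmall x hx))
    inferInstance (card_zpowers_of_small hβx1' (hsmall _ hβxR)) hφ
  obtain ⟨-, g, hgS, hg⟩ := hinner
  have h1 := hg ⟨(x : Ω), Subgroup.mem_zpowers _⟩
  rw [hφx] at h1
  rw [h1]
  have h2 := comm_mem_upper hxZ hgS
  have h3 : (x : Ω)⁻¹ * (g * (x : Ω) * g⁻¹) = (x : Ω)⁻¹ * g * (x : Ω) * g⁻¹ := by group
  rw [h3]
  exact h2

end Cfsg.Agent.S5298
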