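import Cfsg.Statements.S1946
import Cfsg.Agent.S5298
import Cfsg.Agent.S5076
import Cfsg.Agent.S0071
import Cfsg.Agent.Lib.Helper7_NPC

set_option autoImplicit false
open Cfsg

namespace Cfsg.Agent.S1946

/-- Let P be a Sylow p-subgroup of the finite group G. Then G has a normal p-complement if and only if P controls the fusion of its elements of order dividing p (dividing 4 when p = 2): whenever such an element a of P has a G-conjugate g a g⁻¹ in P, that conjugate is already x a x⁻¹ for some x in P. -/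
theorem result {G : Type*} [Group G] [Finite G] {p : ℕ} [Fact p.Prime] (P : Sylow p G) :
    Cfsg.HasNormalPComplement p G ↔
      ∀ a ∈ (P : Subgroup G), (a ^ p = 1 ∨ (p = 2 ∧ a ^ 4 = 1)) → ∀ g : G, g * a * g⁻¹ ∈ (P : Subgroup G) →
        ∃ x ∈ (P : Subgroup G), g * a * g⁻¹ = x * a * x⁻¹ := by
  have hp := (Fact.out : p.Prime)
  constructor
  · -- normal `p`-complement ⇒ control of fusion
    intro hN
    obtain ⟨N, hNn, hc⟩ := (Cfsg.Agent.Lib.Helper7_NPC.exists_complement_iff_npc P).mpr
      (Cfsg.Agent.Lib.Helper7_NPC.hasNormalPComplement_iff_npc.mp hN)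
    intro a ha _ g hg
    have hdisj : N ⊓ (P : Subgroup G) = ⊥ := hc.disjoint.eq_bot
    obtain ⟨⟨⟨n, hn⟩, ⟨x, hx⟩⟩, hnx⟩ :=
      (Subgroup.isComplement_iff_existsUnique.mp hc g).exists
    simp only at hnx
    refine ⟨x, hx, ?_⟩
    obtain ⟨b, hb⟩ : ∃ b, b = x * a * x⁻¹ := ⟨_, rfl⟩
    have hbP : b ∈ (P : Subgroup G) := by
      rw [hb]; exact Subgroup.mul_mem _ (Subgroup.mul_mem _ hx ha) (Subgroup.inv_mem _ hx)
    have h1 : g * a * g⁻¹ = n * b * n⁻¹ := by rw [← hnx, hb]; group
    rw [h1] at hg ⊢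
    rw [← hb]
    have h2 : n * b * n⁻¹ * b⁻¹ ∈ N ⊓ (P : Subgroup G) := by
      refine ⟨?_, Subgroup.mul_mem _ hg (Subgroup.inv_mem _ hbP)⟩
      have h3 : b * n⁻¹ * b⁻¹ ∈ N := hNn.conj_mem _ (Subgroup.inv_mem _ hn) b
      have h4 : n * b * n⁻¹ * b⁻¹ = n * (b * n⁻¹ * b⁻¹) := by group
      rw [h4]
      exact Subgroup.mul_mem _ hn h3
    rw [hdisj, Subgroup.mem_bot] at h2
    have h5 : n * b * n⁻¹ = (n * b * n⁻¹ * b⁻¹) * b := by group
    rw [h5, h2, one_mul]
  · -- control of fusion ⇒ normal `p`-complement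
    intro hctrl
    have hS : IsPGroup p (P : Subgroup G) := P.isPGroup'
    have hF := Cfsg.Agent.S5076.result p P
    have hinner := Cfsg.Agent.S5298.result p hS (Cfsg.groupFusionSystem (P : Subgroup G)) hF (by
      intro A B hA hB hAc hAcard _ _ φ hφ
      obtain ⟨⟨hAP, hφP, g, hg⟩, hφB⟩ := hφ
      obtain ⟨a, ha⟩ := hAc.exists_generator
      have haP : (a : G) ∈ (P : Subgroup G) := hAP a.2
      have hasmall : ((a : G) ^ p = 1 ∨ (p = 2 ∧ (a : G) ^ 4 = 1)) := by
        rcases hAcard with h1 | h1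
        · left
          have h2 : a ^ Nat.card A = 1 := pow_card_eq_one'
          rw [h1] at h2
          have := congrArg Subtype.val h2
          simpa using this
        · right
          have h2 : a ^ Nat.card A = 1 := pow_card_eq_one'
          rw [h1] at h2
          refine ⟨?_, by have := congrArg Subtype.val h2; simpa using this⟩
          haveI : Finite A := Nat.finite_of_card_ne_zero (by rw [h1]; norm_num)
          obtain ⟨k, hk⟩ := IsPGroup.iff_card.mp (hS.to_le hAP)
          rw [h1] at hk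
          have hk0 : k ≠ 0 := by
            rintro rfl
            norm_num at hk
          have h3 : p ∣ 2 ^ 2 := by
            have : p ∣ p ^ k := dvd_pow_self p hk0
            rw [← hk] at this
            exact this
          have h4 := hp.dvd_of_dvd_pow h3
          exact (Nat.prime_dvd_prime_iff_eq hp Nat.prime_two).mp h4
      have hgP : g * (a : G) * g⁻¹ ∈ (P : Subgroup G) := by rw [← hg a]; exact hφP a
      obtain ⟨x, hx, hxa⟩ := hctrl (a : G) haP hasmall g hgP
      refine ⟨hAP, x, hx, ?_⟩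
      intro y
      obtain ⟨k, hk⟩ := Subgroup.mem_zpowers_iff.mp (ha y)
      rw [hg y, ← hk]
      simp only [Subgroup.coe_zpow]
      rw [← conj_zpow, ← conj_zpow, hxa])
    have hfrob := (Cfsg.Agent.S0071.result P).mpr (by
      intro Q hQP g hgN hcop
      -- conjugation by `g` on `Q` is a map of the system
      have hgQ : ∀ x ∈ Q, g * x * g⁻¹ ∈ Q := fun x hx =>
        (Subgroup.mem_normalizer_iff.mp hgN x).mp hx
      have hmem : Cfsg.conjHom Q g ∈ (Cfsg.groupFusionSystem (P : Subgroup G)).Hom Q := by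
        refine ⟨hQP, ?_, g, fun x => rfl⟩
        intro x
        exact hQP (hgQ x x.2)
      rw [hinner Q] at hmem
      obtain ⟨-, s, hsP, hs⟩ := hmem
      have hs' : ∀ x ∈ Q, g * x * g⁻¹ = s * x * s⁻¹ := fun x hx => hs ⟨x, hx⟩
      have hiter : ∀ i : ℕ, ∀ x ∈ Q, g ^ i * x * (g ^ i)⁻¹ = s ^ i * x * (s ^ i)⁻¹ := by
        intro i
        induction i with
        | zero => intro x _; simp
        | succ i ih =>
          intro x hx
          have h1 : g ^ (i + 1) * x * (g ^ (i + 1))⁻¹ = g ^ i * (g * x * g⁻¹) * (g ^ i)⁻¹ := by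
            rw [pow_succ]; group
          rw [h1, ih _ (hgQ x hx), hs' x hx, pow_succ]
          group
      obtain ⟨j, hj⟩ := (hS ⟨s, hsP⟩)
      have hsj : s ^ (p ^ j) = 1 := by
        have := congrArg Subtype.val hj
        simpa using this
      have hcop' : (p ^ j).Coprime (orderOf g) := (Nat.Coprime.pow_right j hcop).symm
      obtain ⟨m, hm⟩ := exists_pow_eq_self_of_coprime hcop'
      have hcent : g ^ (p ^ j) ∈ Subgroup.centralizer (Q : Set G) := by
        rw [Subgroup.mem_centralizer_iff]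
        intro x hx
        have h1 := hiter (p ^ j) x hx
        rw [hsj] at h1
        have h2 : g ^ (p ^ j) * x = (g ^ (p ^ j) * x * (g ^ (p ^ j))⁻¹) * g ^ (p ^ j) := by group
        rw [h2, h1]
        group
      rw [← hm]
      exact Subgroup.pow_mem _ hcent m)
    obtain ⟨N, hNn, hc⟩ := hfrob
    exact ⟨P, N, hNn, hc⟩

end Cfsg.Agent.S1946
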