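import Mathlib
import Cfsg.Statements.S1947
import Cfsg.Agent.Lib.Helper7_NPC
import Cfsg.Agent.Lib.Helper7_OmegaAut

set_option autoImplicit false

open Cfsg

namespace Cfsg.Agent.S1947

open Cfsg.Agent.Lib.Helper7_NPC Cfsg.Agent.Lib.Helper7_OmegaAut
open scoped commutatorElement

/-- A `p'`-element normalizing a `p`-subgroup `Q` centralizes the elements of `Q` lying in the
hypercentre. -/
theorem commute_of_mem_upperCentralSeries {G : Type*} [Group G] {p : ℕ} (Q : Subgroup G)
    (hQ : IsPGroup p Q) (g : G) (hg : g ∈ Subgroup.normalizer (Q : Set G)) (hcop : (orderOf g).Coprime p) :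
    ∀ i : ℕ, ∀ a ∈ Q, a ∈ Subgroup.upperCentralSeries G i → g * a = a * g := by
  intro i
  induction i with
  | zero =>
    intro a _ ha
    rw [Subgroup.upperCentralSeries_zero, Subgroup.mem_bot] at ha
    rw [ha, mul_one, one_mul]
  | succ i ih =>
    intro a haQ ha
    set w := a⁻¹ * (g * a * g⁻¹) with hw
    have hgaQ : g * a * g⁻¹ ∈ Q := (Subgroup.mem_normalizer_iff.mp hg a).mp haQ
    have hwQ : w ∈ Q := mul_mem (inv_mem haQ) hgaQ
    have hwZ : w ∈ Subgroup.upperCentralSeries G i := by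
      have h1 := (Subgroup.mem_upperCentralSeries_succ_iff.mp (inv_mem ha)) g
      have e : ⁅a⁻¹, g⁆ = w := by rw [hw, commutatorElement_def]; group
      rwa [e] at h1
    have hgw : g * w = w * g := ih w hwQ hwZ
    have hgx : g * a * g⁻¹ = a * w := by rw [hw]; group
    obtain ⟨k, hk⟩ := hQ ⟨w, hwQ⟩
    have hk' : w ^ (p ^ k) = 1 := by
      have := congrArg (fun z : Q => (z : G)) hk
      simpa using this
    have hw1 := eq_one_of_conj_eq_mul g a w hgx hgw ⟨k, hk'⟩ hcop
    rw [hw1, mul_one] at hgx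
    exact eq_mul_of_mul_inv_eq hgx

theorem result {G : Type*} [Group G] [Finite G] {p : ℕ} [Fact p.Prime] (n : ℕ)
    (h : ∀ a : G, (a ^ p = 1 ∨ (p = 2 ∧ a ^ 4 = 1)) → a ∈ Subgroup.upperCentralSeries G n) : Cfsg.HasNormalPComplement p G := by
  rw [hasNormalPComplement_iff_npc]
  apply npc_of_frobHyp
  intro Q hQ g hg hcop
  apply mem_centralizer_of_omega g hcop Q hQ hg
  intro a haQ ha
  exact commute_of_mem_upperCentralSeries Q hQ g hg hcop n a haQ (h a ha)

end Cfsg.Agent.S1947
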