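import Cfsg.Statements.S1952
import Mathlib

set_option autoImplicit false
open Cfsg

namespace Cfsg.Agent.S1952

open Polynomial in
theorem geom_eq (p : ℕ) [hp : Fact p.Prime] :
    (∑ i ∈ Finset.range p, (X : (ZMod p)[X]) ^ i) = (X - 1) ^ (p - 1) := by
  have h1 := cyclotomic_prime (ZMod p) p
  have h2 := cyclotomic_mul_prime_pow_eq (ZMod p) (p := p) (m := 1)
    (by intro h; exact hp.out.one_lt.ne' (Nat.dvd_one.1 h)) (k := 1) Nat.one_pos
  rw [pow_one, mul_one, cyclotomic_one, Nat.sub_self, pow_zero] at h2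
  rw [← h1, h2]

open Polynomial in
theorem sub_one_pow (p : ℕ) [hp : Fact p.Prime] :
    ((X : (ZMod p)[X]) - 1) ^ p = X ^ p - 1 := by
  rw [sub_pow_char, one_pow]

/-- The linear algebra core. -/
theorem finrank_bound (p : ℕ) [hp : Fact p.Prime] {V : Type*} [AddCommGroup V] [Module (ZMod p) V]
    [Finite V] (T : Module.End (ZMod p) V) (hT : T ^ p = 1) (v₀ : V)
    (Kv : Submodule (ZMod p) V) (hK : ∀ v ∈ Kv, T v ∈ Kv)
    (hw : (∑ i ∈ Finset.range p, T ^ i) v₀ ∉ Kv) :
    Module.finrank (ZMod p) Kv + p ≤ Module.finrank (ZMod p) V := by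
  classical
  set D : Module.End (ZMod p) V := T - 1 with hD
  have hsum : (∑ i ∈ Finset.range p, T ^ i) = D ^ (p - 1) := by
    have := congrArg (Polynomial.aeval T) (geom_eq p)
    simpa using this
  have hDp : D ^ p = 0 := by
    have := congrArg (Polynomial.aeval T) (sub_one_pow p)
    simp only [map_pow, map_sub, Polynomial.aeval_X, map_one] at this
    rw [hD, this, hT, sub_self]
  have hKD : ∀ v ∈ Kv, D v ∈ Kv := by
    intro v hv
    rw [hD, LinearMap.sub_apply]
    exact Kv.sub_mem (hK v hv) hv
  let W : ℕ → Submodule (ZMod p) V := fun i => LinearMap.range (D ^ i) ⊔ Kv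
  have hWsucc : ∀ i, W (i + 1) = (W i).map D ⊔ Kv := by
    intro i
    show LinearMap.range (D ^ (i + 1)) ⊔ Kv = (LinearMap.range (D ^ i) ⊔ Kv).map D ⊔ Kv
    rw [Submodule.map_sup, ← LinearMap.range_comp, pow_succ', sup_assoc]
    congr 1
    have : Kv.map D ≤ Kv := by
      rintro _ ⟨v, hv, rfl⟩
      exact hKD v hv
    exact (sup_eq_right.2 this).symm
  have hanti : ∀ i, W (i + 1) ≤ W i := by
    intro i
    apply sup_le_sup_right
    rw [pow_succ]
    exact LinearMap.range_comp_le_range _ _
  have hWp : W p = Kv := by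
    show LinearMap.range (D ^ p) ⊔ Kv = Kv
    rw [hDp, LinearMap.range_zero, bot_sup_eq]
  have hW0 : W 0 = ⊤ := by
    show LinearMap.range (D ^ 0) ⊔ Kv = ⊤
    rw [pow_zero]
    have : LinearMap.range (1 : Module.End (ZMod p) V) = ⊤ := LinearMap.range_id
    rw [this, top_sup_eq]
  have hstrict : ∀ i, i < p → W (i + 1) ≠ W i := by
    intro i hi heq
    have hconst : ∀ j, W (i + j) = W i := by
      intro j
      induction j with
      | zero => rfl
      | succ j ih => rw [← add_assoc, hWsucc, ih, ← hWsucc, heq]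
    have h1 : W p = W i := by
      have := hconst (p - i)
      rwa [Nat.add_sub_cancel' hi.le] at this
    have h2 : W (p - 1) ≤ W i := by
      have hmono : ∀ j, W (i + j) ≤ W i := fun j => (hconst j).le
      have := hmono (p - 1 - i)
      rwa [show i + (p - 1 - i) = p - 1 by omega] at this
    apply hw
    rw [hsum, ← hWp, h1]
    apply h2
    exact Submodule.mem_sup_left ⟨v₀, rfl⟩
  have hfin : ∀ i, i ≤ p → Module.finrank (ZMod p) (W p) + (p - i) ≤ Module.finrank (ZMod p) (W i) := by
    intro i hi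
    induction' h : p - i with k ih generalizing i
    · have : i = p := by omega
      rw [this]
      simp
    · have hi' : i < p := by omega
      have h1 := ih (i + 1) (by omega) (by omega)
      have hlt : W (i + 1) < W i := lt_of_le_of_ne (hanti i) (hstrict i hi')
      have h2 := Submodule.finrank_lt_finrank_of_lt hlt
      omega
  have := hfin 0 (Nat.zero_le _)
  rw [hWp, hW0, finrank_top, Nat.sub_zero] at this
  exact this


theorem card_pow (p : ℕ) [hp : Fact p.Prime] (V : Type*) [AddCommGroup V] [Module (ZMod p) V]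
    [Finite V] : Nat.card V = p ^ Module.finrank (ZMod p) V := by
  classical
  haveI := Fintype.ofFinite V
  rw [Nat.card_eq_fintype_card, Module.card_eq_pow_finrank (K := ZMod p), ZMod.card]

theorem val_factorial_sq (p : ℕ) [hp : Fact p.Prime] :
    (Nat.factorial (p ^ 2)).factorization p = p + 1 := by
  rw [Nat.factorization_def _ hp.out, pow_two, padicValNat_factorial_mul]
  have : padicValNat p (Nat.factorial p) = 1 := by
    have h := padicValNat_factorial_mul (p := p) 1
    rw [mul_one] at h
    rw [h]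
    simp
  rw [this, add_comm]

/-- Let P be a finite p-group with a normal elementary abelian subgroup A of index p, and let x ∈ A and y ∈ P with y outside A. If the product of the p conjugates y^(-i) x y^i (i = 0, …, p−1) is not the identity, then the wreath product Z_p ≀ Z_p, realised as a Sylow p-subgroup of the symmetric group of degree p², is a homomorphic image of P. -/
theorem result {P : Type*} [Group P] [Finite P] {p : ℕ} [Fact p.Prime] (hP : IsPGroup p P) (A : Subgroup P) [A.Normal]
    (hA : Cfsg.IsElementaryAbelian p A) (hidx : A.index = p) (x y : P) (hx : x ∈ A) (hy : y ∉ A)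
    (hprod : ((List.range p).map (fun i => (y ^ i)⁻¹ * x * y ^ i)).prod ≠ 1) :
    ∃ (Q : Sylow p (Equiv.Perm (Fin (p ^ 2)))) (f : P →* ↥(Q : Subgroup (Equiv.Perm (Fin (p ^ 2))))), Function.Surjective f := by
  classical
  have hpp := (Fact.out : p.Prime)
  obtain ⟨hAcomm, hAexp⟩ := hA
  have hAc : ∀ a b : ↥A, a * b = b * a := fun a b => mul_comm' a b
  letI : CommGroup ↥A := { (inferInstance : Group ↥A) with mul_comm := hAc }
  have hsm : ∀ a : Additive ↥A, p • a = 0 := by
    intro a
    have h1 : (Additive.toMul a) ^ p = 1 := by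
      apply Subtype.ext
      simpa using hAexp (Additive.toMul a).1 (Additive.toMul a).2
    exact congrArg Additive.ofMul h1
  haveI : Module (ZMod p) (Additive ↥A) := AddCommGroup.zmodModule hsm
  haveI : Finite (Additive ↥A) := inferInstanceAs (Finite ↥A)
  have hnorm : A.Normal := inferInstance
  let c : ↥A →* ↥A :=
    { toFun := fun a => ⟨y⁻¹ * a.1 * y, hnorm.conj_mem' a.1 a.2 y⟩
      map_one' := by apply Subtype.ext; simp
      map_mul' := fun a b => by apply Subtype.ext; simp [mul_assoc] }
  let T : Additive ↥A →ₗ[ZMod p] Additive ↥A := (MonoidHom.toAdditive c).toZModLinearMap p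
  have hTapp : ∀ v : Additive ↥A, ((Additive.toMul (T v) : ↥A) : P)
      = y⁻¹ * ((Additive.toMul v : ↥A) : P) * y := fun v => rfl
  have hTpow : ∀ (i : ℕ) (v : Additive ↥A), ((Additive.toMul ((T ^ i) v) : ↥A) : P)
      = (y ^ i)⁻¹ * ((Additive.toMul v : ↥A) : P) * y ^ i := by
    intro i
    induction i with
    | zero => intro v; simp
    | succ i ih =>
      intro v
      rw [pow_succ, Module.End.mul_apply, ih, hTapp, pow_succ', mul_inv_rev]
      simp only [mul_assoc]
  have hyp : y ^ p ∈ A := by
    have := A.pow_index_mem y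
    rwa [hidx] at this
  have hT : T ^ p = 1 := by
    apply LinearMap.ext
    intro v
    apply Additive.toMul.injective
    apply Subtype.ext
    rw [hTpow]
    have h1 := hAc ⟨y ^ p, hyp⟩ (Additive.toMul v)
    have h2 : y ^ p * ((Additive.toMul v : ↥A) : P) = ((Additive.toMul v : ↥A) : P) * y ^ p :=
      congrArg Subtype.val h1
    rw [mul_assoc, ← h2, inv_mul_cancel_left]
    rfl
  let v₀ : Additive ↥A := Additive.ofMul (⟨x, hx⟩ : ↥A)
  have hsumcoe : ∀ n : ℕ, ((Additive.toMul ((∑ i ∈ Finset.range n, T ^ i) v₀) : ↥A) : P)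
      = ((List.range n).map (fun i => (y ^ i)⁻¹ * x * y ^ i)).prod := by
    intro n
    induction n with
    | zero => simp
    | succ n ih =>
      rw [Finset.sum_range_succ, LinearMap.add_apply, toMul_add, Subgroup.coe_mul, ih, hTpow,
        List.range_succ, List.map_append, List.prod_append]
      simp [v₀]
  set w := (∑ i ∈ Finset.range p, T ^ i) v₀ with hw
  have hw0 : w ≠ 0 := by
    intro h
    apply hprod
    rw [← hsumcoe p, ← hw, h]
    rfl
  obtain ⟨Hv, hHv⟩ := Submodule.exists_isCompl (Submodule.span (ZMod p) {w})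
  have hwH : w ∉ Hv := by
    intro h
    have : w ∈ Submodule.span (ZMod p) {w} ⊓ Hv :=
      ⟨Submodule.mem_span_singleton_self w, h⟩
    rw [hHv.inf_eq_bot, Submodule.mem_bot] at this
    exact hw0 this
  have hfr : Module.finrank (ZMod p) Hv + 1 = Module.finrank (ZMod p) (Additive ↥A) := by
    have := Submodule.finrank_add_eq_of_isCompl hHv
    rw [finrank_span_singleton hw0] at this
    omega
  let H0 : Subgroup ↥A := AddSubgroup.toSubgroup' Hv.toAddSubgroup
  have hH0mem : ∀ a : ↥A, a ∈ H0 ↔ Additive.ofMul a ∈ Hv := fun a => Iff.rfl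
  let H : Subgroup P := H0.map A.subtype
  have hHA : H ≤ A := by
    rintro _ ⟨a, _, rfl⟩
    exact a.2
  have hcardA : Nat.card ↥A = p ^ Module.finrank (ZMod p) (Additive ↥A) :=
    card_pow p (Additive ↥A)
  have hcardH : Nat.card H = p ^ Module.finrank (ZMod p) Hv := by
    rw [← card_pow p Hv]
    have h1 : Nat.card H = Nat.card H0 :=
      Subgroup.card_map_of_injective (Subgroup.subtype_injective _)
    rw [h1]
    exact Nat.card_congr (Equiv.subtypeEquiv Additive.ofMul (fun a => Iff.rfl))
  have hcardP : Nat.card P = p * Nat.card ↥A := by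
    rw [← A.index_mul_card, hidx]
  have hHidx : H.index = p ^ 2 := by
    have h1 := H.index_mul_card
    rw [hcardP, hcardA, ← hfr, pow_succ, hcardH] at h1
    have hpos : 0 < p ^ Module.finrank (ZMod p) Hv := pow_pos hpp.pos _
    have : H.index * p ^ Module.finrank (ZMod p) ↥Hv = p ^ 2 * p ^ Module.finrank (ZMod p) ↥Hv := by
      rw [h1]; ring
    exact Nat.eq_of_mul_eq_mul_right hpos this
  -- the core
  set K : Subgroup P := H.normalCore with hKdef
  have hKH : K ≤ H := Subgroup.normalCore_le H
  have hKn : K.Normal := inferInstance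
  let Kv : Submodule (ZMod p) (Additive ↥A) :=
    AddSubgroup.toZModSubmodule p (Subgroup.toAddSubgroup (K.subgroupOf A))
  have hKvmem : ∀ v : Additive ↥A, v ∈ Kv ↔ ((Additive.toMul v : ↥A) : P) ∈ K := fun v => Iff.rfl
  have hKT : ∀ v ∈ Kv, T v ∈ Kv := by
    intro v hv
    rw [hKvmem] at hv ⊢
    rw [hTapp]
    exact hKn.conj_mem' _ hv y
  have hwK : w ∉ Kv := by
    intro h
    rw [hKvmem] at h
    obtain ⟨a, ha, hae⟩ := hKH h
    have : a = Additive.toMul w := Subtype.ext hae
    apply hwH
    have ha' : a ∈ H0 := ha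
    rw [hH0mem, this] at ha'
    exact ha'
  have hbound := finrank_bound p T hT v₀ Kv hKT hwK
  have hcardK : Nat.card K = p ^ Module.finrank (ZMod p) Kv := by
    rw [← card_pow p Kv]
    have hKA : K ≤ A := hKH.trans hHA
    rw [← Nat.card_congr (Subgroup.subgroupOfEquivOfLe hKA).toEquiv]
    exact Nat.card_congr (Equiv.subtypeEquiv Additive.ofMul (fun a => Iff.rfl))
  have hKidx : p ^ (p + 1) ≤ K.index := by
    have h1 := K.index_mul_card
    rw [hcardP, hcardA, hcardK] at h1
    have hpos : 0 < p ^ Module.finrank (ZMod p) Kv := pow_pos hpp.pos _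
    have h2 : p ^ (p + 1) * p ^ Module.finrank (ZMod p) Kv ≤ K.index * p ^ Module.finrank (ZMod p) Kv := by
      rw [h1, ← pow_add, ← pow_succ']
      apply Nat.pow_le_pow_right hpp.pos
      omega
    exact Nat.le_of_mul_le_mul_right h2 hpos
  -- the permutation representation
  let f0 : P →* Equiv.Perm (P ⧸ H) := MulAction.toPermHom P (P ⧸ H)
  have hker0 : f0.ker = K := (Subgroup.normalCore_eq_ker H).symm
  have hcardQ : Nat.card (P ⧸ H) = p ^ 2 := by rw [← Subgroup.index_eq_card, hHidx]
  let e : (P ⧸ H) ≃ Fin (p ^ 2) := Finite.equivFinOfCardEq hcardQ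
  let f1 : P →* Equiv.Perm (Fin (p ^ 2)) := e.permCongrHom.toMonoidHom.comp f0
  have hker1 : f1.ker = K := by
    rw [← hker0]
    ext g
    rw [MonoidHom.mem_ker, MonoidHom.mem_ker]
    show e.permCongrHom (f0 g) = 1 ↔ _
    exact map_eq_one_iff _ e.permCongrHom.injective
  have hrange : Nat.card f1.range = K.index := by
    rw [← hker1, Subgroup.index_ker]
  have hpg : IsPGroup p f1.range :=
    IsPGroup.of_surjective hP f1.rangeRestrict f1.rangeRestrict_surjective
  obtain ⟨Q, hQ⟩ := hpg.exists_le_sylow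
  have hQcard : Nat.card Q = p ^ (p + 1) := by
    rw [Sylow.card_eq_multiplicity, Nat.card_eq_fintype_card, Fintype.card_perm, Fintype.card_fin,
      val_factorial_sq]
  have hQeq : f1.range = Q := by
    apply Subgroup.eq_of_le_of_card_ge hQ
    rw [hQcard, hrange]
    exact hKidx
  refine ⟨Q, f1.codRestrict Q (fun g => hQ ⟨g, rfl⟩), ?_⟩
  rintro ⟨q, hq⟩
  have hq' : q ∈ f1.range := by rw [hQeq]; exact hq
  obtain ⟨g, hg⟩ := hq'
  exact ⟨g, Subtype.ext hg⟩

end Cfsg.Agent.S1952
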