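import Cfsg.Statements.S1954
import Mathlib
import Mathlib
import Cfsg.Agent.Lib.Lead_CtrlFus5

set_option autoImplicit false
open Cfsg

namespace Cfsg.Agent.S1954

/-- Let N be a normal subgroup of the finite group G, P a Sylow p-subgroup of G, and V a subgroup of P ∩ N normal in P ∩ N such that N_N(V) controls strong fusion in P ∩ N with respect to N (whenever a subgroup A of P ∩ N has n A n⁻¹ ≤ P ∩ N for some n in N, then n = h c with h in N_N(V) and c in C_N(A)). Let W be the subgroup generated by the conjugates of V under N_G(P ∩ N). Then N_G(W) controls strong fusion in P with respect to G. -/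
theorem result {G : Type*} [Group G] [Finite G] {p : ℕ} [Fact p.Prime] (N : Subgroup G) [N.Normal] (P : Sylow p G) (V : Subgroup G)
    (hV : V ≤ (P : Subgroup G) ⊓ N) (hVn : ∀ x ∈ (P : Subgroup G) ⊓ N, V.map (MulAut.conj x).toMonoidHom = V)
    (hctrl : ∀ A : Subgroup G, A ≤ (P : Subgroup G) ⊓ N → ∀ n ∈ N, A.map (MulAut.conj n).toMonoidHom ≤ (P : Subgroup G) ⊓ N →
      ∃ h ∈ N ⊓ Subgroup.normalizer (V : Set G), ∃ c ∈ N ⊓ Subgroup.centralizer (A : Set G), n = h * c)
    (W : Subgroup G) (hW : W = Subgroup.closure (⋃ x ∈ Subgroup.normalizer (((P : Subgroup G) ⊓ N : Subgroup G) : Set G),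
      ((V.map (MulAut.conj x).toMonoidHom : Subgroup G) : Set G))) :
    ∀ A : Subgroup G, A ≤ (P : Subgroup G) → ∀ g : G, A.map (MulAut.conj g).toMonoidHom ≤ (P : Subgroup G) →
        ∃ h ∈ Subgroup.normalizer (W : Set G), ∃ c ∈ Subgroup.centralizer (A : Set G), g = h * c := by
  have hNQ := Cfsg.Agent.Lib.Lead_CtrlFus4.normalizer_le_W ((P : Subgroup G) ⊓ N) V W hW
  have hctlW : Cfsg.Agent.Lib.Lead_CtrlFus2.Ctl N ((P : Subgroup G) ⊓ N) W :=
    Cfsg.Agent.Lib.Lead_CtrlFus4.ctl_W N ((P : Subgroup G) ⊓ N) V W hV hctrl hW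
  intro A hA g hAg
  have htame : ∀ R : Subgroup G, R ≤ (P : Subgroup G) → 0 ≤ Nat.card R →
      ¬ p ∣ ((P : Subgroup G) ⊓ Subgroup.normalizer (R : Set G)).relIndex
        (Subgroup.normalizer (R : Set G)) →
      ∀ x ∈ Subgroup.normalizer (R : Set G),
        ∃ c ∈ Subgroup.centralizer (R : Set G), ∃ h ∈ Subgroup.normalizer (W : Set G), x = c * h :=
    fun R hR _ ht x hx =>
      (Cfsg.Agent.Lib.Lead_CtrlFus5.tame_cover N P W hNQ hctlW _ R hR rfl ht hx).2
  have hAg' : ∀ a ∈ A, g⁻¹⁻¹ * a * g⁻¹ ∈ (P : Subgroup G) := by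
    intro a ha
    rw [inv_inv]
    have : (MulAut.conj g).toMonoidHom a ∈ (P : Subgroup G) := hAg ⟨a, ha, rfl⟩
    simpa using this
  obtain ⟨h, hh, hconj⟩ := Cfsg.Agent.Lib.Lead_CtrlFus.ctrl_ge P (Subgroup.normalizer (W : Set G)) 0
    htame A hA (Nat.zero_le _) g⁻¹ hAg'
  refine ⟨h⁻¹, Subgroup.inv_mem _ hh, h * g, ?_, by group⟩
  rw [Subgroup.mem_centralizer_iff]
  intro a ha
  have h1 := hconj a ha
  rw [inv_inv] at h1
  calc a * (h * g) = h * (h⁻¹ * a * h) * g := by group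
    _ = h * (g * a * g⁻¹) * g := by rw [h1]
    _ = h * g * a := by group

end Cfsg.Agent.S1954
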