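import Cfsg.Statements.S1957
import Mathlib
import Cfsg.Agent.Lib.Helper3_NGroupFour
import Cfsg.Agent.Lib.Helper4_Kieler0

set_option autoImplicit false
open Cfsg

namespace Cfsg.Agent.S1957

/-- Let `G` be a finite non-abelian simple group in which every local subgroup is solvable and which is of characteristic 2 type. Let `P` be a Sylow 2-subgroup of `G` and `U` a normal subgroup of `P` that is a four-group, with `U` central in `P` if the centre of `P` is not cyclic. Then `U` centralizes every subgroup of odd order of `G` that it normalizes. -/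
theorem result {G : Type*} [Group G] [Finite G]
    [IsSimpleGroup G] (hna : ¬ IsMulCommutative G) (hN : Cfsg.IsNGroup G) (h2 : Cfsg.IsCharacteristicTwoType G)
    (P : Sylow 2 G) (U : Subgroup G) (hUP : U ≤ (P : Subgroup G)) (hUn : (P : Subgroup G) ≤ Subgroup.normalizer (U : Set G))
    (hU4 : IsKleinFour ↥U)
    (hUZ : ¬ IsCyclic ↥((P : Subgroup G) ⊓ Subgroup.centralizer ((P : Subgroup G) : Set G)) →
      U ≤ Subgroup.centralizer ((P : Subgroup G) : Set G))
    (K : Subgroup G) (hK : Odd (Nat.card K)) (hUK : U ≤ Subgroup.normalizer (K : Set G)) :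
    U ≤ Subgroup.centralizer (K : Set G) := by
  classical
  haveI : Fact (Nat.Prime 2) := ⟨Nat.prime_two⟩
  haveI := hU4
  have hPp : IsPGroup 2 ↥(P : Subgroup G) := P.isPGroup'
  haveI : Group.IsNilpotent ↥(P : Subgroup G) := hPp.isNilpotent
  haveI : (U.subgroupOf (P : Subgroup G)).Normal := Subgroup.normal_subgroupOf_of_le_normalizer hUn
  have hU1 : U ≠ ⊥ := by
    intro h
    have h4 : Nat.card ↥U = 4 := IsKleinFour.card_four
    rw [h, Subgroup.card_bot] at h4
    omega
  have hne : U.subgroupOf (P : Subgroup G) ≠ ⊥ := by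
    intro h0
    rw [Subgroup.subgroupOf_eq_bot] at h0
    exact hU1 (h0.eq_bot_of_le hUP)
  obtain ⟨a0, haA, haZ, ha1⟩ :=
    Cfsg.Agent.Lib.Helper4_Kieler0.normal_inf_center_ne_bot' (U.subgroupOf (P : Subgroup G)) hne
  obtain ⟨z, hzdef⟩ : ∃ z : G, z = (a0 : G) := ⟨_, rfl⟩
  have hzU : z ∈ U := by rw [hzdef]; exact Subgroup.mem_subgroupOf.mp haA
  have hz1 : z ≠ 1 := fun h => ha1 (Subtype.ext (by rw [← hzdef, h]; rfl))
  have hzZ : z ∈ Subgroup.centralizer ((P : Subgroup G) : Set G) := by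
    rw [Subgroup.mem_centralizer_iff]
    intro s hs
    have := Subgroup.mem_center_iff.mp haZ ⟨s, hs⟩
    rw [hzdef]
    exact congrArg Subtype.val this
  have hsq : ∀ a ∈ U, a * a = 1 := by
    intro a ha
    have := IsKleinFour.mul_self (⟨a, ha⟩ : ↥U)
    exact congrArg Subtype.val this
  have hcomm : ∀ a ∈ U, ∀ b ∈ U, a * b = b * a := by
    intro a ha b hb
    have := (IsKleinFour.isMulCommutative (G := ↥U)).is_comm.comm ⟨a, ha⟩ ⟨b, hb⟩
    exact congrArg Subtype.val this
  have hz2 := hsq z hzU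
  -- the four elements
  have hUgen : ∀ x ∈ U, x ≠ 1 → ∀ v ∈ U, v ≠ 1 → v ≠ x →
      ∀ a ∈ U, a = 1 ∨ a = x ∨ a = v ∨ a = x * v := by
    intro x hxU hx1 v hvU hv1 hvx a ha
    by_cases h1 : a = 1
    · exact Or.inl h1
    by_cases h2 : a = x
    · exact Or.inr (Or.inl h2)
    by_cases h3 : a = v
    · exact Or.inr (Or.inr (Or.inl h3))
    right; right; right
    have := IsKleinFour.eq_mul_of_ne_all (G := ↥U) (x := ⟨x, hxU⟩) (y := ⟨v, hvU⟩) (z := ⟨a, ha⟩)
      (fun h => hx1 (congrArg Subtype.val h)) (fun h => hv1 (congrArg Subtype.val h))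
      (fun h => hvx (congrArg Subtype.val h).symm) (fun h => h1 (congrArg Subtype.val h))
      (fun h => h2 (congrArg Subtype.val h)) (fun h => h3 (congrArg Subtype.val h))
    exact congrArg Subtype.val this
  obtain ⟨b, hbU, hb1, hbz⟩ : ∃ b ∈ U, b ≠ 1 ∧ b ≠ z := by
    by_contra hcon
    push Not at hcon
    have hsub : ∀ x : ↥U, x = 1 ∨ x = ⟨z, hzU⟩ := by
      intro x
      by_cases hx : (x : G) = 1
      · left; exact Subtype.ext hx
      · right; exact Subtype.ext (hcon x x.2 hx)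
    have hcard : Nat.card ↥U = 4 := IsKleinFour.card_four
    haveI := Fintype.ofFinite ↥U
    have hle : Fintype.card ↥U ≤ 2 := by
      calc Fintype.card ↥U = (Finset.univ : Finset ↥U).card := rfl
        _ ≤ ({1, ⟨z, hzU⟩} : Finset ↥U).card :=
            Finset.card_le_card (fun x _ => by rcases hsub x with h | h <;> simp [h])
        _ ≤ 2 := Finset.card_le_two
    rw [Nat.card_eq_fintype_card] at hcard
    omega
  -- the normalizers of the involutions normalize `U`
  have hnorm : ∀ v ∈ U, v ≠ 1 →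
      Cfsg.pCoreOf 2 (Subgroup.normalizer ((Subgroup.zpowers v : Subgroup G) : Set G)) ≤
        Subgroup.normalizer (U : Set G) := by
    intro v hvU hv1
    by_cases hvz : v = z
    · rw [hvz]
      exact Cfsg.Agent.Lib.Helper3_NGroupFour.core_normalizes_central P U hUn z hzZ
    · exact Cfsg.Agent.Lib.Helper3_NGroupFour.core_normalizes P U hUP hUn hUZ z v hz2 hz1 hzU hzZ
        hvU hv1 (hUgen z hzU hz1 v hvU hv1 hvz) hsq hcomm
  -- `U ≤ O_2(N(⟨v⟩))`
  have hcore : ∀ v ∈ U, v ≠ 1 →
      U ≤ Cfsg.pCoreOf 2 (Subgroup.normalizer ((Subgroup.zpowers v : Subgroup G) : Set G)) := by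
    intro v hvU hv1
    have hv2 := hsq v hvU
    have hTp : IsPGroup 2 ↥(Subgroup.zpowers v) := by
      rintro ⟨x, hx⟩
      rcases Cfsg.Agent.Helper9Four.mem_zpowers_invol hv2 x hx with rfl | rfl
      · exact ⟨0, by simp⟩
      · refine ⟨1, Subtype.ext ?_⟩
        show x ^ 2 ^ 1 = 1
        rw [pow_one, pow_two, hv2]
    have hT1 : Subgroup.zpowers v ≠ ⊥ := by
      rw [Ne, Subgroup.zpowers_eq_bot]; exact hv1
    have hchar : Cfsg.Agent.Lib.Helper5_CharP.CharPSub 2
        (Subgroup.normalizer ((Subgroup.zpowers v : Subgroup G) : Set G)) :=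
      (Cfsg.Agent.Lib.Helper5_CharP.charPSub_iff 2 _).mpr (h2.2 _ hTp hT1)
    have hvQ : Subgroup.zpowers v ≤
        Cfsg.pCoreOf 2 (Subgroup.normalizer ((Subgroup.zpowers v : Subgroup G) : Set G)) :=
      Cfsg.Agent.Lib.Helper5_CharP.le_pCoreOf Subgroup.le_normalizer hTp le_rfl
    apply Cfsg.Agent.Lib.Helper3_NGroupFour.L1 _ U hchar v hv2
    · intro h hh
      exact mul_inv_eq_iff_eq_mul.mp
        (Cfsg.Agent.Lib.Helper3_NGroupFour.conj_eq_of_mem_normalizer hv2 hv1 hh)
    · intro a ha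
      exact Cfsg.Agent.Lib.Helper3_NGroupFour.mem_normalizer_of_comm (hcomm a ha v hvU)
    · intro q hq a ha
      exact Cfsg.Agent.Lib.Helper5_CharP.conj_mem_of_mem_normalizer (hnorm v hvU hv1 hq) ha
    · intro a haU haQ ha1 hav x hx
      rcases hUgen v hvU hv1 a haU ha1 hav x hx with h | h | h | h
      · rw [h]; exact Subgroup.one_mem _
      · rw [h]; exact hvQ (Subgroup.mem_zpowers v)
      · rw [h]; exact haQ
      · rw [h]; exact Subgroup.mul_mem _ (hvQ (Subgroup.mem_zpowers v)) haQ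
  -- `U` centralizes `C_K(v)`
  have hcent : ∀ v ∈ U, v ≠ 1 → ∀ a ∈ U,
      K ⊓ Subgroup.centralizer ({v} : Set G) ≤ Subgroup.centralizer ({a} : Set G) := by
    intro v hvU hv1 a ha d hd
    have hd' := Subgroup.mem_inf.mp hd
    have h1 := Cfsg.Agent.Lib.Helper3_NGroupFour.L2 _ U K (hcore v hvU hv1) hK hUK
      (K ⊓ Subgroup.centralizer ({v} : Set G)) inf_le_left
      (fun d hd => Cfsg.Agent.Lib.Helper3_NGroupFour.mem_normalizer_of_comm
        (Subgroup.mem_centralizer_singleton_iff.mp (Subgroup.mem_inf.mp hd).2)) a ha d hd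
    rw [Subgroup.mem_centralizer_singleton_iff]
    exact h1.symm
  have hbz1 : b * z ≠ 1 := by
    intro h
    apply hbz
    have : b = b * z * z := by rw [mul_assoc, hz2, mul_one]
    rw [this, h, one_mul]
  have hgen := Cfsg.Agent.Helper9Four.four_gen K hK b z (hsq b hbU) hz2 (hcomm b hbU z hzU)
    (hUK hbU) (hUK hzU)
  intro a ha
  have hKa : K ≤ Subgroup.centralizer ({a} : Set G) := by
    calc K = _ := hgen
      _ ≤ Subgroup.centralizer ({a} : Set G) :=
        sup_le (sup_le (hcent b hbU hb1 a ha) (hcent z hzU hz1 a ha))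
          (hcent (b * z) (U.mul_mem hbU hzU) hbz1 a ha)
  rw [Subgroup.mem_centralizer_iff]
  intro k hk
  exact Subgroup.mem_centralizer_singleton_iff.mp (hKa hk)

end Cfsg.Agent.S1957
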