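import Cfsg.Statements.S1959
import Cfsg.Agent.S1963
import Cfsg.Agent.S1961

set_option autoImplicit false
open Cfsg

namespace Cfsg.Agent.S1959

open Cfsg.Agent.Lib.Helper3_Conj Cfsg.Agent.Lib.Helper3_SylowRel Cfsg.Agent.Lib.Helper3_Alperin

variable {G : Type*} [Group G]

/-- One elementary step of a chain: multiply on the left by an element of some `N(W S)`, keeping
the conjugates of `A` inside `S`. -/
def stepRel (S : Subgroup G) (𝓦 : Set (Subgroup G → Subgroup G)) (A : Set G) (c c' : G) : Prop :=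
  (∀ a ∈ A, c * a * c⁻¹ ∈ S) ∧ (∀ a ∈ A, c' * a * c'⁻¹ ∈ S) ∧
    ∃ W ∈ 𝓦, c' * c⁻¹ ∈ Subgroup.normalizer ((W S : Subgroup G) : Set G)

/-- `h` acts on `A` as the end of a chain starting at `1`. -/
def Good (S : Subgroup G) (𝓦 : Set (Subgroup G → Subgroup G)) (A : Set G) (h : G) : Prop :=
  ∃ c, Relation.ReflTransGen (stepRel S 𝓦 A) 1 c ∧ ∀ a ∈ A, c * a * c⁻¹ = h * a * h⁻¹

theorem stepRel_symm (S : Subgroup G) (𝓦 : Set (Subgroup G → Subgroup G)) (A : Set G) (c c' : G)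
    (h : stepRel S 𝓦 A c c') : stepRel S 𝓦 A c' c := by
  obtain ⟨h1, h2, W, hW, hm⟩ := h
  refine ⟨h2, h1, W, hW, ?_⟩
  have : c * c'⁻¹ = (c' * c⁻¹)⁻¹ := by group
  rw [this]; exact Subgroup.inv_mem _ hm

theorem path_symm {α : Type*} (r : α → α → Prop) (hr : ∀ a b, r a b → r b a) (a b : α)
    (h : Relation.ReflTransGen r a b) : Relation.ReflTransGen r b a := by
  induction h with
  | refl => exact Relation.ReflTransGen.refl
  | tail _ hbc ih => exact Relation.ReflTransGen.head (hr _ _ hbc) ih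

theorem good_refl (S : Subgroup G) (𝓦 : Set (Subgroup G → Subgroup G)) (A : Set G) :
    Good S 𝓦 A 1 := ⟨1, Relation.ReflTransGen.refl, fun _ _ => rfl⟩

theorem good_trivial (S : Subgroup G) (𝓦 : Set (Subgroup G → Subgroup G)) (A : Set G) (s : G)
    (h : ∀ a ∈ A, a = 1) : Good S 𝓦 A s := by
  refine ⟨1, Relation.ReflTransGen.refl, ?_⟩
  intro a ha
  rw [h a ha]; group

theorem good_congr (S : Subgroup G) (𝓦 : Set (Subgroup G → Subgroup G)) (A : Set G) (h h' : G)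
    (hh : ∀ a ∈ A, h * a * h⁻¹ = h' * a * h'⁻¹) (hg : Good S 𝓦 A h) : Good S 𝓦 A h' := by
  obtain ⟨c, hc, hca⟩ := hg
  exact ⟨c, hc, fun a ha => (hca a ha).trans (hh a ha)⟩

theorem good_mono (S : Subgroup G) (𝓦 : Set (Subgroup G → Subgroup G)) {A B : Set G} (hBA : B ⊆ A)
    (h : G) (hg : Good S 𝓦 A h) : Good S 𝓦 B h := by
  obtain ⟨c, hc, hca⟩ := hg
  refine ⟨c, ?_, fun a ha => hca a (hBA ha)⟩
  refine Relation.ReflTransGen.mono ?_ _ _ hc
  rintro x y ⟨h1, h2, h3⟩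
  exact ⟨fun a ha => h1 a (hBA ha), fun a ha => h2 a (hBA ha), h3⟩

theorem good_comp (S : Subgroup G) (𝓦 : Set (Subgroup G → Subgroup G)) (A A' : Set G) (g h : G)
    (hsub : ∀ a ∈ A, g * a * g⁻¹ ∈ A') (hg : Good S 𝓦 A g) (hh : Good S 𝓦 A' h) :
    Good S 𝓦 A (h * g) := by
  obtain ⟨c, hc, hcg⟩ := hg
  obtain ⟨d, hd, hdh⟩ := hh
  have hlift : Relation.ReflTransGen (stepRel S 𝓦 A) (1 * c) (d * c) := by
    refine Relation.ReflTransGen.lift (fun x => x * c) ?_ _ _ hd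
    rintro x y ⟨h1, h2, W, hW, hm⟩
    refine ⟨?_, ?_, W, hW, ?_⟩
    · intro a ha
      have e : (x * c) * a * (x * c)⁻¹ = x * (c * a * c⁻¹) * x⁻¹ := by group
      rw [e, hcg a ha]
      exact h1 _ (hsub a ha)
    · intro a ha
      have e : (y * c) * a * (y * c)⁻¹ = y * (c * a * c⁻¹) * y⁻¹ := by group
      rw [e, hcg a ha]
      exact h2 _ (hsub a ha)
    · have e : (y * c) * (x * c)⁻¹ = y * x⁻¹ := by group
      rw [e]; exact hm
  rw [one_mul] at hlift
  refine ⟨d * c, hc.trans hlift, ?_⟩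
  intro a ha
  calc (d * c) * a * (d * c)⁻¹ = d * (c * a * c⁻¹) * d⁻¹ := by group
    _ = d * (g * a * g⁻¹) * d⁻¹ := by rw [hcg a ha]
    _ = h * (g * a * g⁻¹) * h⁻¹ := hdh _ (hsub a ha)
    _ = (h * g) * a * (h * g)⁻¹ := by group

theorem good_inv (S : Subgroup G) (𝓦 : Set (Subgroup G → Subgroup G)) (A : Set G) (g : G)
    (hg : Good S 𝓦 A g) : Good S 𝓦 ((fun a => g * a * g⁻¹) '' A) g⁻¹ := by
  obtain ⟨c, hc, hcg⟩ := hg
  have hback := path_symm _ (stepRel_symm S 𝓦 A) _ _ hc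
  have hlift : Relation.ReflTransGen (stepRel S 𝓦 ((fun a => g * a * g⁻¹) '' A)) (c * c⁻¹) (1 * c⁻¹) := by
    refine Relation.ReflTransGen.lift (fun x => x * c⁻¹) ?_ _ _ hback
    rintro x y ⟨h1, h2, W, hW, hm⟩
    refine ⟨?_, ?_, W, hW, ?_⟩
    · rintro _ ⟨a, ha, rfl⟩
      have e : (x * c⁻¹) * (g * a * g⁻¹) * (x * c⁻¹)⁻¹ = x * (c⁻¹ * (g * a * g⁻¹) * c) * x⁻¹ := by group
      rw [e, ← hcg a ha]
      have e2 : c⁻¹ * (c * a * c⁻¹) * c = a := by group
      rw [e2]; exact h1 a ha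
    · rintro _ ⟨a, ha, rfl⟩
      have e : (y * c⁻¹) * (g * a * g⁻¹) * (y * c⁻¹)⁻¹ = y * (c⁻¹ * (g * a * g⁻¹) * c) * y⁻¹ := by group
      rw [e, ← hcg a ha]
      have e2 : c⁻¹ * (c * a * c⁻¹) * c = a := by group
      rw [e2]; exact h2 a ha
    · have e : (y * c⁻¹) * (x * c⁻¹)⁻¹ = y * x⁻¹ := by group
      rw [e]; exact hm
  rw [mul_inv_cancel, one_mul] at hlift
  refine ⟨c⁻¹, hlift, ?_⟩
  rintro _ ⟨a, ha, rfl⟩
  show c⁻¹ * (g * a * g⁻¹) * c⁻¹⁻¹ = g⁻¹ * (g * a * g⁻¹) * g⁻¹⁻¹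
  have e1 : g⁻¹ * (g * a * g⁻¹) * g⁻¹⁻¹ = a := by group
  rw [e1, ← hcg a ha]
  group

theorem good_of_mem (S : Subgroup G) (𝓦 : Set (Subgroup G → Subgroup G)) (A : Set G) (s : G)
    (W : Subgroup G → Subgroup G) (hW : W ∈ 𝓦)
    (hs : s ∈ Subgroup.normalizer ((W S : Subgroup G) : Set G)) (hA : ∀ a ∈ A, a ∈ S)
    (hAs : ∀ a ∈ A, s * a * s⁻¹ ∈ S) : Good S 𝓦 A s := by
  refine ⟨s, Relation.ReflTransGen.single ⟨?_, hAs, W, hW, ?_⟩, fun _ _ => rfl⟩
  · intro a ha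
    simpa using hA a ha
  · simpa using hs

/-- A path gives the `Fin` form of the definition. -/
theorem path_to_fin (S : Subgroup G) (𝓦 : Set (Subgroup G → Subgroup G)) (A : Set G)
    (hA : ∀ a ∈ A, a ∈ S) (e : G) (h : Relation.ReflTransGen (stepRel S 𝓦 A) 1 e) :
    ∃ (n : ℕ) (c : Fin (n + 1) → G), c 0 = 1 ∧
      (∀ i : Fin n, ∃ W ∈ 𝓦,
        c i.succ * (c i.castSucc)⁻¹ ∈ Subgroup.normalizer ((W S : Subgroup G) : Set G)) ∧
      (∀ i : Fin (n + 1), ∀ a ∈ A, c i * a * (c i)⁻¹ ∈ S) ∧ c (Fin.last n) = e := by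
  induction h with
  | refl =>
    refine ⟨0, fun _ => 1, rfl, fun i => i.elim0, ?_, rfl⟩
    intro _ a ha
    simpa using hA a ha
  | @tail b e' _ hbc ih =>
    obtain ⟨n, c, hc0, hcs, hci, hcl⟩ := ih
    obtain ⟨_, h2, W, hW, hm⟩ := hbc
    refine ⟨n + 1, Fin.snoc c e', ?_, ?_, ?_, ?_⟩
    · have : (0 : Fin (n + 2)) = (0 : Fin (n + 1)).castSucc := rfl
      rw [this, Fin.snoc_castSucc]; exact hc0
    · intro i
      refine Fin.lastCases ?_ (fun j => ?_) i
      · refine ⟨W, hW, ?_⟩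
        rw [Fin.succ_last, Fin.snoc_last, Fin.snoc_castSucc, hcl]
        exact hm
      · rw [Fin.succ_castSucc, Fin.snoc_castSucc, Fin.snoc_castSucc]
        exact hcs j
    · intro i
      refine Fin.lastCases ?_ (fun j => ?_) i
      · rw [Fin.snoc_last]; exact h2
      · rw [Fin.snoc_castSucc]; exact hci j
    · rw [Fin.snoc_last]

/-- Family control of strong fusion in `H`, transported to a prescribed Sylow subgroup `R`. -/
theorem family_control_at [Finite G] {p : ℕ} [Fact p.Prime]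
    (𝓦 : Set (Subgroup G → Subgroup G)) (h𝓦 : ∀ W ∈ 𝓦, Cfsg.IsConjugacyFunctor p W)
    (H R : Subgroup G)
    (hRH : R ≤ H) (hR : IsPGroup p ↥R) (hRi : ¬ p ∣ R.relIndex H)
    (hc : Cfsg.FamilyControlsStrongFusionIn p 𝓦 H) (A : Set G) (h : G) (hh : h ∈ H) (hAR : A ⊆ R)
    (hAh : ∀ a ∈ A, h * a * h⁻¹ ∈ R) :
    ∃ (n : ℕ) (c : Fin (n + 1) → G), c 0 = 1 ∧
      (∀ i : Fin n, ∃ W ∈ 𝓦,
        c i.succ * (c i.castSucc)⁻¹ ∈ Subgroup.normalizer ((W R : Subgroup G) : Set G)) ∧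
      (∀ i : Fin (n + 1), ∀ a ∈ A, c i * a * (c i)⁻¹ ∈ R) ∧
      ∀ a ∈ A, c (Fin.last n) * a * (c (Fin.last n))⁻¹ = h * a * h⁻¹ := by
  obtain ⟨T₀, hT₀H, hT₀p, hT₀i, hT₀⟩ := hc
  obtain ⟨u, huH, hu⟩ := Cfsg.Agent.S1961.exists_conj_eq_of_relIndex H R T₀ hRH hR hRi hT₀H hT₀p hT₀i
  have hWR : ∀ W ∈ 𝓦, W R = (W T₀).map (MulAut.conj u).toMonoidHom := by
    intro W hW
    rw [← hu]; exact (h𝓦 W hW T₀ hT₀p).2.2 u
  set A' : Set G := (fun t => u⁻¹ * t * u) '' A with hA'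
  have hA'T₀ : A' ⊆ T₀ := by
    rintro _ ⟨t, ht, rfl⟩
    have : t ∈ T₀.map (MulAut.conj u).toMonoidHom := by rw [hu]; exact hAR ht
    exact (mem_map_conj T₀ u t).mp this
  have hA'h : (fun a => (u⁻¹ * h * u) * a * (u⁻¹ * h * u)⁻¹) '' A' ⊆ T₀ := by
    rintro _ ⟨_, ⟨t, ht, rfl⟩, rfl⟩
    have h1 : h * t * h⁻¹ ∈ R := hAh t ht
    rw [← hu, mem_map_conj] at h1
    have : (u⁻¹ * h * u) * (u⁻¹ * t * u) * (u⁻¹ * h * u)⁻¹ = u⁻¹ * (h * t * h⁻¹) * u := by group
    show (u⁻¹ * h * u) * (u⁻¹ * t * u) * (u⁻¹ * h * u)⁻¹ ∈ (T₀ : Set G)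
    rw [this]; exact h1
  have hh' : u⁻¹ * h * u ∈ H := H.mul_mem (H.mul_mem (H.inv_mem huH) hh) huH
  obtain ⟨n, c', hc'0, hc's, hc'i, hc'l⟩ := hT₀ A' (u⁻¹ * h * u) hh' hA'T₀ hA'h
  refine ⟨n, fun i => u * c' i * u⁻¹, ?_, ?_, ?_, ?_⟩
  · show u * c' 0 * u⁻¹ = 1
    rw [hc'0]; group
  · intro i
    obtain ⟨W, hW, hm⟩ := hc's i
    refine ⟨W, hW, ?_⟩
    show u * c' i.succ * u⁻¹ * (u * c' i.castSucc * u⁻¹)⁻¹ ∈ _
    have e : u * c' i.succ * u⁻¹ * (u * c' i.castSucc * u⁻¹)⁻¹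
        = u * (c' i.succ * (c' i.castSucc)⁻¹) * u⁻¹ := by group
    rw [e, hWR W hW]
    exact conj_mem_normalizer_map_conj (W T₀) u _ hm.2
  · intro i a ha
    show u * c' i * u⁻¹ * a * (u * c' i * u⁻¹)⁻¹ ∈ R
    have h1 : c' i * (u⁻¹ * a * u) * (c' i)⁻¹ ∈ T₀ := hc'i i ⟨u⁻¹ * a * u, ⟨a, ha, rfl⟩, rfl⟩
    have e : u * c' i * u⁻¹ * a * (u * c' i * u⁻¹)⁻¹ = u * (c' i * (u⁻¹ * a * u) * (c' i)⁻¹) * u⁻¹ := by
      group
    rw [e, ← hu]
    exact conj_mem_map_conj T₀ u _ h1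
  · intro a ha
    show u * c' (Fin.last n) * u⁻¹ * a * (u * c' (Fin.last n) * u⁻¹)⁻¹ = h * a * h⁻¹
    have h1 := hc'l (u⁻¹ * a * u) ⟨a, ha, rfl⟩
    calc u * c' (Fin.last n) * u⁻¹ * a * (u * c' (Fin.last n) * u⁻¹)⁻¹
        = u * (c' (Fin.last n) * (u⁻¹ * a * u) * (c' (Fin.last n))⁻¹) * u⁻¹ := by group
      _ = u * ((u⁻¹ * h * u) * (u⁻¹ * a * u) * (u⁻¹ * h * u)⁻¹) * u⁻¹ := by rw [h1]
      _ = h * a * h⁻¹ := by group

/-- The statements proved by simultaneous induction. -/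
def PP {p : ℕ} (S : Sylow p G) (𝓦 : Set (Subgroup G → Subgroup G)) (A : Subgroup G) : Prop :=
  ∀ g : G, (∀ a ∈ A, g * a * g⁻¹ ∈ (S : Subgroup G)) → Good (S : Subgroup G) 𝓦 (A : Set G) g

def QQ {p : ℕ} (S : Sylow p G) (𝓦 : Set (Subgroup G → Subgroup G)) (R : Subgroup G) : Prop :=
  ∀ W ∈ 𝓦, ∀ s ∈ Subgroup.normalizer ((W R : Subgroup G) : Set G), ∀ B : Set G, B ⊆ R →
    (∀ b ∈ B, s * b * s⁻¹ ∈ R) → Good (S : Subgroup G) 𝓦 B s

theorem QQ_top {p : ℕ} (S : Sylow p G) (𝓦 : Set (Subgroup G → Subgroup G)) :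
    QQ S 𝓦 (S : Subgroup G) := by
  intro W hW s hs B hB hBs
  exact good_of_mem _ 𝓦 B s W hW hs (fun a ha => hB ha) hBs

/-- Local control at `V`: every element of `N_G(V)` is good on subsets of `N_S(V)`. -/
theorem loc [Finite G] {p : ℕ} [Fact p.Prime] (S : Sylow p G)
    (𝓦 : Set (Subgroup G → Subgroup G)) (h𝓦 : ∀ W ∈ 𝓦, Cfsg.IsConjugacyFunctor p W)
    (V : Subgroup G)
    (hc : Cfsg.FamilyControlsStrongFusionIn p 𝓦 (Subgroup.normalizer ((V : Subgroup G) : Set G)))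
    (hVi : ¬ p ∣ ((S : Subgroup G) ⊓ Subgroup.normalizer ((V : Subgroup G) : Set G)).relIndex
      (Subgroup.normalizer ((V : Subgroup G) : Set G)))
    (hQ : QQ S 𝓦 ((S : Subgroup G) ⊓ Subgroup.normalizer ((V : Subgroup G) : Set G)))
    (s : G) (hs : s ∈ Subgroup.normalizer ((V : Subgroup G) : Set G)) (B : Set G)
    (hB : B ⊆ ((S : Subgroup G) ⊓ Subgroup.normalizer ((V : Subgroup G) : Set G) : Subgroup G))
    (hBs : ∀ b ∈ B, s * b * s⁻¹ ∈ (S : Subgroup G) ⊓ Subgroup.normalizer ((V : Subgroup G) : Set G)) :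
    Good (S : Subgroup G) 𝓦 B s := by
  obtain ⟨n, c, hc0, hcs, hci, hcl⟩ := family_control_at 𝓦 h𝓦
    (Subgroup.normalizer ((V : Subgroup G) : Set G))
    ((S : Subgroup G) ⊓ Subgroup.normalizer ((V : Subgroup G) : Set G)) inf_le_right
    (S.2.to_le inf_le_left) hVi hc B s hs hB hBs
  have key : ∀ i : Fin (n + 1), Good (S : Subgroup G) 𝓦 B (c i) := by
    intro i
    induction i using Fin.induction with
    | zero => rw [hc0]; exact good_refl _ _ _
    | succ i ih =>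
      obtain ⟨W, hW, hm⟩ := hcs i
      have hstep : Good (S : Subgroup G) 𝓦 ((fun b => c i.castSucc * b * (c i.castSucc)⁻¹) '' B)
          (c i.succ * (c i.castSucc)⁻¹) := by
        apply hQ W hW _ hm
        · rintro _ ⟨b, hb, rfl⟩
          exact hci i.castSucc b hb
        · rintro _ ⟨b, hb, rfl⟩
          have e : c i.succ * (c i.castSucc)⁻¹ * (c i.castSucc * b * (c i.castSucc)⁻¹) *
              (c i.succ * (c i.castSucc)⁻¹)⁻¹ = c i.succ * b * (c i.succ)⁻¹ := by group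
          rw [e]
          exact hci i.succ b hb
      have := good_comp _ 𝓦 B ((fun b => c i.castSucc * b * (c i.castSucc)⁻¹) '' B)
        (c i.castSucc) (c i.succ * (c i.castSucc)⁻¹)
        (fun b hb => ⟨b, hb, rfl⟩) ih hstep
      have e : c i.succ * (c i.castSucc)⁻¹ * c i.castSucc = c i.succ := by group
      rw [e] at this
      exact this
  exact good_congr _ 𝓦 B _ s hcl (key (Fin.last n))

/-- left-conjugation version of `mem_normalizer_of_conj_le`. -/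
theorem mem_normalizer_of_conj_le' [Finite G] (H : Subgroup G) (g : G)
    (h : ∀ a ∈ H, g * a * g⁻¹ ∈ H) : g ∈ Subgroup.normalizer ((H : Subgroup G) : Set G) := by
  have := mem_normalizer_of_conj_le H g⁻¹ (by
    intro a ha
    rw [inv_inv]; exact h a ha)
  simpa using Subgroup.inv_mem _ this

/-- `N(P) ≤ N(W P)` for a `p`-group `P`. -/
theorem normalizer_le_normalizer_functor {p : ℕ} (W : Subgroup G → Subgroup G)
    (hW : Cfsg.IsConjugacyFunctor p W) (P : Subgroup G) (hP : IsPGroup p ↥P) :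
    Subgroup.normalizer ((P : Subgroup G) : Set G) ≤ Subgroup.normalizer ((W P : Subgroup G) : Set G) := by
  intro s hs
  apply mem_normalizer_of_map_conj_eq_self
  rw [← (hW P hP).2.2 s, map_conj_eq_self_of_mem_normalizer P s hs]

/-- Step 1 (left conjugation): move `A` onto `U` together with its normalizer in `S`. -/
theorem step1 [Finite G] {p : ℕ} [Fact p.Prime] (S : Sylow p G)
    (𝓦 : Set (Subgroup G → Subgroup G)) (U : Subgroup G)
    (hU : ¬ p ∣ ((S : Subgroup G) ⊓ Subgroup.normalizer ((U : Subgroup G) : Set G)).relIndex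
      (Subgroup.normalizer ((U : Subgroup G) : Set G)))
    (A : Subgroup G) (hAS : A ≤ (S : Subgroup G)) (hne : A ≠ (S : Subgroup G)) (k : G)
    (hk : A.map (MulAut.conj k).toMonoidHom = U)
    (IH : ∀ B : Subgroup G, B ≤ (S : Subgroup G) → Nat.card A < Nat.card B → PP S 𝓦 B) :
    ∃ h₁ : G, (∀ a, a ∈ A ↔ h₁ * a * h₁⁻¹ ∈ U) ∧ Good (S : Subgroup G) 𝓦 (A : Set G) h₁ := by
  set NA := (S : Subgroup G) ⊓ Subgroup.normalizer ((A : Subgroup G) : Set G) with hNA
  have hlt : Nat.card A < Nat.card NA := card_lt_card_inf_normalizer (S : Subgroup G) A S.2 hAS hne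
  set Q := NA.map (MulAut.conj k).toMonoidHom with hQ
  have hNAp : IsPGroup p ↥NA := S.2.to_le inf_le_left
  have hQp : IsPGroup p ↥Q := hNAp.map _
  have hQN : Q ≤ Subgroup.normalizer ((U : Subgroup G) : Set G) := by
    rintro x ⟨y, hy, rfl⟩
    have := conj_mem_normalizer_map_conj A k y hy.2
    rw [hk] at this
    simpa [MulAut.conj_apply] using this
  have hRp : IsPGroup p ↥((S : Subgroup G) ⊓ Subgroup.normalizer ((U : Subgroup G) : Set G)) :=
    S.2.to_le inf_le_left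
  obtain ⟨n, hnN, hn⟩ := exists_conj_le_of_relIndex (Subgroup.normalizer ((U : Subgroup G) : Set G))
    ((S : Subgroup G) ⊓ Subgroup.normalizer ((U : Subgroup G) : Set G)) Q inf_le_right hRp hU hQN hQp
  have hAU : ∀ a, a ∈ A ↔ k * a * k⁻¹ ∈ U := by
    intro a
    rw [← hk, mem_map_conj]
    have e : k⁻¹ * (k * a * k⁻¹) * k = a := by group
    rw [e]
  have hconj : ∀ a : G, (n * k) * a * (n * k)⁻¹ = n * (k * a * k⁻¹) * n⁻¹ := by
    intro a; group
  refine ⟨n * k, ?_, ?_⟩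
  · intro a
    rw [hconj, hAU a]
    exact (Subgroup.mem_normalizer_iff.mp hnN) _
  · have hgood : Good (S : Subgroup G) 𝓦 (NA : Set G) (n * k) := by
      apply IH NA inf_le_left hlt
      intro b hb
      rw [hconj]
      have hbQ : k * b * k⁻¹ ∈ Q := conj_mem_map_conj NA k b hb
      exact (hn _ hbQ).1
    apply good_mono _ 𝓦 _ _ hgood
    intro a ha
    exact ⟨hAS ha, Subgroup.le_normalizer ha⟩

/-- Alperin's argument with the abstract notion `Good`. -/
theorem alperin_step [Finite G] {p : ℕ} [Fact p.Prime] (S : Sylow p G)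
    (𝓦 : Set (Subgroup G → Subgroup G)) (U : Subgroup G)
    (hU : ¬ p ∣ ((S : Subgroup G) ⊓ Subgroup.normalizer ((U : Subgroup G) : Set G)).relIndex
      (Subgroup.normalizer ((U : Subgroup G) : Set G)))
    (hUgood : ∀ m ∈ Subgroup.normalizer ((U : Subgroup G) : Set G),
      Good (S : Subgroup G) 𝓦 (U : Set G) m)
    (A : Subgroup G) (hAS : A ≤ (S : Subgroup G)) (hne : A ≠ (S : Subgroup G)) (k : G)
    (hk : A.map (MulAut.conj k).toMonoidHom = U)
    (IH : ∀ B : Subgroup G, B ≤ (S : Subgroup G) → Nat.card A < Nat.card B → PP S 𝓦 B) :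
    PP S 𝓦 A := by
  intro g hg
  obtain ⟨h₁, hh₁, hgood₁⟩ := step1 S 𝓦 U hU A hAS hne k hk IH
  set B := A.map (MulAut.conj g).toMonoidHom with hB
  have hBmem : ∀ b, b ∈ B ↔ g⁻¹ * b * g ∈ A := fun b => mem_map_conj A g b
  have hBS : B ≤ (S : Subgroup G) := by
    intro b hb
    have := hg _ ((hBmem b).mp hb)
    have e : g * (g⁻¹ * b * g) * g⁻¹ = b := by group
    rwa [e] at this
  have hBcard : Nat.card B = Nat.card A :=
    Subgroup.card_map_of_injective (MulAut.conj g).injective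
  have hAlt : Nat.card A < Nat.card (S : Subgroup G) := by
    by_contra hcon
    push Not at hcon
    exact hne (Subgroup.eq_of_le_of_card_ge hAS hcon)
  have hBne : B ≠ (S : Subgroup G) := by
    intro hcon
    rw [hcon] at hBcard
    omega
  have hkB : B.map (MulAut.conj (k * g⁻¹)).toMonoidHom = U := by
    rw [hB, map_conj_map_conj]
    have : k * g⁻¹ * g = k := by group
    rw [this, hk]
  have IH' : ∀ B' : Subgroup G, B' ≤ (S : Subgroup G) → Nat.card B < Nat.card B' → PP S 𝓦 B' := by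
    intro B' hB' hlt
    apply IH B' hB'
    omega
  obtain ⟨h₂, hh₂, hgood₂⟩ := step1 S 𝓦 U hU B hBS hBne (k * g⁻¹) hkB IH'
  set m := h₂ * g * h₁⁻¹ with hm
  have hmN : m ∈ Subgroup.normalizer ((U : Subgroup G) : Set G) := by
    apply mem_normalizer_of_conj_le'
    intro u hu
    have ha : h₁⁻¹ * u * h₁ ∈ A := by
      rw [hh₁]
      have e : h₁ * (h₁⁻¹ * u * h₁) * h₁⁻¹ = u := by group
      rw [e]; exact hu
    have hb : g * (h₁⁻¹ * u * h₁) * g⁻¹ ∈ B := by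
      rw [hBmem]
      have e : g⁻¹ * (g * (h₁⁻¹ * u * h₁) * g⁻¹) * g = h₁⁻¹ * u * h₁ := by group
      rw [e]; exact ha
    have := (hh₂ _).mp hb
    have e : m * u * m⁻¹ = h₂ * (g * (h₁⁻¹ * u * h₁) * g⁻¹) * h₂⁻¹ := by
      rw [hm]; group
    rw [e]; exact this
  -- compose
  have c1 : Good (S : Subgroup G) 𝓦 (A : Set G) (m * h₁) :=
    good_comp _ 𝓦 (A : Set G) (U : Set G) h₁ m (fun a ha => (hh₁ a).mp ha) hgood₁ (hUgood m hmN)
  have c2 := good_inv _ 𝓦 (B : Set G) h₂ hgood₂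
  have c3 : Good (S : Subgroup G) 𝓦 (A : Set G) (h₂⁻¹ * (m * h₁)) := by
    refine good_comp _ 𝓦 (A : Set G) _ (m * h₁) h₂⁻¹ ?_ c1 c2
    intro a ha
    refine ⟨g * a * g⁻¹, ?_, ?_⟩
    · show g * a * g⁻¹ ∈ B
      rw [hBmem]
      have e : g⁻¹ * (g * a * g⁻¹) * g = a := by group
      rw [e]; exact ha
    · show h₂ * (g * a * g⁻¹) * h₂⁻¹ = m * h₁ * a * (m * h₁)⁻¹
      rw [hm]; group
  have e : h₂⁻¹ * (m * h₁) = g := by rw [hm]; group
  rw [e] at c3
  exact c3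

section mainInduction

variable [Finite G] {p : ℕ} [Fact p.Prime] (S : Sylow p G)
  (𝓦 : Set (Subgroup G → Subgroup G)) (h𝓦 : ∀ W ∈ 𝓦, Cfsg.IsConjugacyFunctor p W)
  (hloc : ∀ T : Subgroup G, T ≤ (S : Subgroup G) → T ≠ ⊥ → ¬ p ∣ ((S : Subgroup G) ⊓ Subgroup.normalizer ((T : Subgroup G) : Set G)).relIndex (Subgroup.normalizer ((T : Subgroup G) : Set G)) → Cfsg.FamilyControlsStrongFusionIn p 𝓦 (Subgroup.normalizer ((T : Subgroup G) : Set G)))

include h𝓦 hloc in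
theorem QQ_step (A : Subgroup G) (hAS : A ≤ (S : Subgroup G)) (hne : A ≠ (S : Subgroup G))
    (IHP : ∀ B : Subgroup G, B ≤ (S : Subgroup G) → Nat.card A < Nat.card B → PP S 𝓦 B)
    (IHQ : ∀ B : Subgroup G, B ≤ (S : Subgroup G) → Nat.card A < Nat.card B → QQ S 𝓦 B) :
    QQ S 𝓦 A := by
  intro W hW s hs B hB hBs
  by_cases hA : A = ⊥
  · apply good_trivial
    intro b hb
    have := hB hb
    rw [hA] at this
    exact this
  have hAp : IsPGroup p ↥A := S.2.to_le hAS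
  set V := W A with hVdef
  have hVA : V ≤ A := (h𝓦 W hW A hAp).1
  have hVne : V ≠ ⊥ := (h𝓦 W hW A hAp).2.1 hA
  have hVS : V ≤ (S : Subgroup G) := hVA.trans hAS
  set R₁ := (S : Subgroup G) ⊓ Subgroup.normalizer ((V : Subgroup G) : Set G) with hR₁
  have hNA : (S : Subgroup G) ⊓ Subgroup.normalizer ((A : Subgroup G) : Set G) ≤ R₁ :=
    inf_le_inf_left _ (normalizer_le_normalizer_functor W (h𝓦 W hW) A hAp)
  have hAR₁ : A ≤ R₁ := (le_inf hAS Subgroup.le_normalizer).trans hNA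
  have hlt1 : Nat.card A < Nat.card R₁ :=
    lt_of_lt_of_le (card_lt_card_inf_normalizer (S : Subgroup G) A S.2 hAS hne)
      (Subgroup.card_le_of_le hNA)
  obtain ⟨y, hy1, hy2⟩ := Cfsg.Agent.S1963.exists_conj_sylow_normalizer S V
  set V' := V.map (MulAut.conj y).toMonoidHom with hV'
  set R₁' := (S : Subgroup G) ⊓ Subgroup.normalizer ((V' : Subgroup G) : Set G) with hR₁'
  have hRR : R₁.map (MulAut.conj y).toMonoidHom ≤ R₁' := by
    refine le_inf hy1 ?_
    rw [hV', ← Subgroup.map_equiv_normalizer_eq V (MulAut.conj y)]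
    exact Subgroup.map_mono inf_le_right
  have hlt2 : Nat.card A < Nat.card R₁' := by
    have h1 : Nat.card (R₁.map (MulAut.conj y).toMonoidHom) = Nat.card R₁ :=
      Subgroup.card_map_of_injective (MulAut.conj y).injective
    have h2 := Subgroup.card_le_of_le hRR
    omega
  have hV'S : V' ≤ (S : Subgroup G) :=
    (Subgroup.map_mono (le_inf hVS Subgroup.le_normalizer)).trans hy1
  have hV'ne : V' ≠ ⊥ := by
    intro hbot
    exact hVne ((Subgroup.map_eq_bot_iff_of_injective V (MulAut.conj y).injective).mp hbot)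
  have hcV' := hloc V' hV'S hV'ne hy2
  have hPR₁ : PP S 𝓦 R₁ := IHP R₁ inf_le_left hlt1
  have hQR₁' : QQ S 𝓦 R₁' := IHQ R₁' inf_le_left hlt2
  have hygood : Good (S : Subgroup G) 𝓦 (R₁ : Set G) y :=
    hPR₁ y (fun b hb => hy1 (conj_mem_map_conj R₁ y b hb))
  have hs' : y * s * y⁻¹ ∈ Subgroup.normalizer ((V' : Subgroup G) : Set G) :=
    conj_mem_normalizer_map_conj V y s hs
  have hBA : ∀ b ∈ B, b ∈ A := fun b hb => hB hb
  have hgood' : Good (S : Subgroup G) 𝓦 ((fun b => y * b * y⁻¹) '' B) (y * s * y⁻¹) := by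
    apply loc S 𝓦 h𝓦 V' hcV' hy2 hQR₁' _ hs'
    · rintro _ ⟨b, hb, rfl⟩
      exact hRR (conj_mem_map_conj R₁ y b (hAR₁ (hBA b hb)))
    · rintro _ ⟨b, hb, rfl⟩
      have e : y * s * y⁻¹ * (y * b * y⁻¹) * (y * s * y⁻¹)⁻¹ = y * (s * b * s⁻¹) * y⁻¹ := by group
      rw [e]
      exact hRR (conj_mem_map_conj R₁ y _ (hAR₁ (hBs b hb)))
  have c1 : Good (S : Subgroup G) 𝓦 B y :=
    good_mono _ 𝓦 (fun b hb => hAR₁ (hBA b hb)) y hygood
  have c2 : Good (S : Subgroup G) 𝓦 B (y * s * y⁻¹ * y) :=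
    good_comp _ 𝓦 B ((fun b => y * b * y⁻¹) '' B) y (y * s * y⁻¹) (fun b hb => ⟨b, hb, rfl⟩) c1 hgood'
  have c3 : Good (S : Subgroup G) 𝓦 ((fun b => s * b * s⁻¹) '' B) y := by
    refine good_mono _ 𝓦 ?_ y hygood
    rintro _ ⟨b, hb, rfl⟩
    exact hAR₁ (hBs b hb)
  have c4 := good_inv _ 𝓦 _ y c3
  have c5 : Good (S : Subgroup G) 𝓦 B (y⁻¹ * (y * s * y⁻¹ * y)) := by
    refine good_comp _ 𝓦 B _ _ y⁻¹ ?_ c2 c4
    intro b hb
    refine ⟨s * b * s⁻¹, ⟨b, hb, rfl⟩, ?_⟩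
    show y * (s * b * s⁻¹) * y⁻¹ = y * s * y⁻¹ * y * b * (y * s * y⁻¹ * y)⁻¹
    group
  have e : y⁻¹ * (y * s * y⁻¹ * y) = s := by group
  rw [e] at c5
  exact c5

include h𝓦 hloc in
theorem PP_step (A : Subgroup G) (hAS : A ≤ (S : Subgroup G))
    (IHP : ∀ B : Subgroup G, B ≤ (S : Subgroup G) → Nat.card A < Nat.card B → PP S 𝓦 B)
    (IHQ : ∀ B : Subgroup G, B ≤ (S : Subgroup G) → Nat.card A < Nat.card B → QQ S 𝓦 B) :
    PP S 𝓦 A := by
  by_cases hA : A = ⊥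
  · intro g _
    apply good_trivial
    intro b hb
    have hb' : b ∈ A := hb
    rw [hA] at hb'
    exact hb'
  by_cases hAeq : A = (S : Subgroup G)
  · intro g hg
    have hg' : ∀ a ∈ A, g * a * g⁻¹ ∈ A := by
      intro a ha; rw [hAeq]; exact hg a ha
    have hgN : g ∈ Subgroup.normalizer ((A : Subgroup G) : Set G) := mem_normalizer_of_conj_le' A g hg'
    have hinf : (S : Subgroup G) ⊓ Subgroup.normalizer ((A : Subgroup G) : Set G) = (S : Subgroup G) := by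
      rw [inf_eq_left, ← hAeq]; exact Subgroup.le_normalizer
    have hcond : ¬ p ∣ ((S : Subgroup G) ⊓ Subgroup.normalizer ((A : Subgroup G) : Set G)).relIndex
        (Subgroup.normalizer ((A : Subgroup G) : Set G)) := by
      rw [hinf]
      intro hdvd
      apply S.not_dvd_index
      have hle : (S : Subgroup G) ≤ Subgroup.normalizer ((A : Subgroup G) : Set G) := by
        rw [← hAeq]; exact Subgroup.le_normalizer
      exact dvd_trans hdvd (Subgroup.relIndex_dvd_index_of_le hle)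
    have hc := hloc A hAS hA hcond
    have hQ : QQ S 𝓦 ((S : Subgroup G) ⊓ Subgroup.normalizer ((A : Subgroup G) : Set G)) := by
      rw [hinf]; exact QQ_top S 𝓦
    apply loc S 𝓦 h𝓦 A hc hcond hQ g hgN
    · intro a ha
      rw [hinf]; exact hAS ha
    · intro a ha
      rw [hinf]; exact hg a ha
  · obtain ⟨y, hy1, hy2⟩ := Cfsg.Agent.S1963.exists_conj_sylow_normalizer S A
    set U := A.map (MulAut.conj y).toMonoidHom with hU
    have hUS : U ≤ (S : Subgroup G) :=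
      (Subgroup.map_mono (le_inf hAS Subgroup.le_normalizer)).trans hy1
    have hUne : U ≠ ⊥ := by
      intro hbot
      exact hA ((Subgroup.map_eq_bot_iff_of_injective A (MulAut.conj y).injective).mp hbot)
    have hUcard : Nat.card U = Nat.card A :=
      Subgroup.card_map_of_injective (MulAut.conj y).injective
    have hAlt : Nat.card A < Nat.card (S : Subgroup G) := by
      by_contra hcon
      push Not at hcon
      exact hAeq (Subgroup.eq_of_le_of_card_ge hAS hcon)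
    have hUneS : U ≠ (S : Subgroup G) := by
      intro hcon
      rw [hcon] at hUcard
      omega
    have hlt : Nat.card A < Nat.card ↥((S : Subgroup G) ⊓ Subgroup.normalizer ((U : Subgroup G) : Set G)) := by
      rw [← hUcard]
      exact card_lt_card_inf_normalizer (S : Subgroup G) U S.2 hUS hUneS
    have hQ : QQ S 𝓦 ((S : Subgroup G) ⊓ Subgroup.normalizer ((U : Subgroup G) : Set G)) :=
      IHQ _ inf_le_left hlt
    have hc := hloc U hUS hUne hy2
    have hUgood : ∀ m ∈ Subgroup.normalizer ((U : Subgroup G) : Set G),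
        Good (S : Subgroup G) 𝓦 (U : Set G) m := by
      intro m hm
      apply loc S 𝓦 h𝓦 U hc hy2 hQ m hm
      · intro u hu
        exact ⟨hUS hu, Subgroup.le_normalizer hu⟩
      · intro u hu
        have : m * u * m⁻¹ ∈ U := (Subgroup.mem_normalizer_iff.mp hm u).mp hu
        exact ⟨hUS this, Subgroup.le_normalizer this⟩
    exact alperin_step S 𝓦 U hy2 hUgood A hAS hAeq y rfl IHP

include h𝓦 hloc in
theorem main : ∀ n : ℕ, ∀ A : Subgroup G, A ≤ (S : Subgroup G) →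
    Nat.card (S : Subgroup G) - Nat.card A = n → PP S 𝓦 A ∧ QQ S 𝓦 A := by
  intro n
  induction n using Nat.strong_induction_on with
  | _ n ih =>
  intro A hAS hn
  have hcardle : ∀ B : Subgroup G, B ≤ (S : Subgroup G) → Nat.card B ≤ Nat.card (S : Subgroup G) :=
    fun B hB => Subgroup.card_le_of_le hB
  have IHP : ∀ B : Subgroup G, B ≤ (S : Subgroup G) → Nat.card A < Nat.card B → PP S 𝓦 B := by
    intro B hBS hlt
    have := hcardle B hBS
    exact (ih (Nat.card (S : Subgroup G) - Nat.card B) (by omega) B hBS rfl).1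
  have IHQ : ∀ B : Subgroup G, B ≤ (S : Subgroup G) → Nat.card A < Nat.card B → QQ S 𝓦 B := by
    intro B hBS hlt
    have := hcardle B hBS
    exact (ih (Nat.card (S : Subgroup G) - Nat.card B) (by omega) B hBS rfl).2
  refine ⟨PP_step S 𝓦 h𝓦 hloc A hAS IHP IHQ, ?_⟩
  by_cases hAeq : A = (S : Subgroup G)
  · rw [hAeq]; exact QQ_top S 𝓦
  · exact QQ_step S 𝓦 h𝓦 hloc A hAS hAeq IHP IHQ

end mainInduction

/-- Let p be a prime, G a finite group with Sylow p-subgroup S, and 𝓦 a set of conjugacy functors for p on G. Suppose that 𝓦 controls strong fusion in N_G(T) for every nonidentity subgroup T of S for which N_S(T) is a Sylow p-subgroup of N_G(T). Then 𝓦 controls strong fusion in G. (A set of functors controls strong fusion in a subgroup H when, for a Sylow p-subgroup T' of H, every conjugation of a tuple of elements of T' into T' by an element of H is a composite of conjugations inside the normalizers N_H(W(T')),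 W ∈ 𝓦, all intermediate tuples staying in T'.) -/
theorem result {G : Type*} [Group G] [Finite G] {p : ℕ} [Fact p.Prime] (S : Sylow p G) (𝓦 : Set (Subgroup G → Subgroup G)) (h𝓦 : ∀ W ∈ 𝓦, Cfsg.IsConjugacyFunctor p W) (hloc : ∀ T : Subgroup G, T ≤ (S : Subgroup G) → T ≠ ⊥ → ¬ p ∣ ((S : Subgroup G) ⊓ Subgroup.normalizer ((T : Subgroup G) : Set G)).relIndex (Subgroup.normalizer ((T : Subgroup G) : Set G)) → Cfsg.FamilyControlsStrongFusionIn p 𝓦 (Subgroup.normalizer ((T : Subgroup G) : Set G))) : Cfsg.FamilyControlsStrongFusionIn p 𝓦 ⊤ := by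
  refine ⟨S, le_top, S.isPGroup', ?_, ?_⟩
  · rw [Subgroup.relIndex_top_right]; exact S.not_dvd_index
  · intro A h _ hAS hAh
    have hcl : Subgroup.closure A ≤ (S : Subgroup G) := (Subgroup.closure_le _).mpr hAS
    have hclg : ∀ a ∈ Subgroup.closure A, h * a * h⁻¹ ∈ (S : Subgroup G) := by
      have hle : Subgroup.closure A ≤ (S : Subgroup G).comap (MulAut.conj h).toMonoidHom := by
        rw [Subgroup.closure_le]
        intro a ha
        have h1 : h * a * h⁻¹ ∈ (S : Subgroup G) := hAh ⟨a, ha, rfl⟩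
        show (MulAut.conj h) a ∈ (S : Subgroup G)
        rw [MulAut.conj_apply]
        exact h1
      intro a ha
      have h2 : (MulAut.conj h) a ∈ (S : Subgroup G) := hle ha
      rw [MulAut.conj_apply] at h2
      exact h2
    have hPP := (main S 𝓦 h𝓦 hloc _ (Subgroup.closure A) hcl rfl).1
    have hgood := good_mono _ 𝓦 (Subgroup.subset_closure (k := A)) h (hPP h hclg)
    obtain ⟨e, hpath, hea⟩ := hgood
    obtain ⟨n, c, hc0, hcs, hci, hcl'⟩ := path_to_fin (S : Subgroup G) 𝓦 A (fun a ha => hAS ha) e hpath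
    refine ⟨n, c, hc0, ?_, ?_, ?_⟩
    · intro i
      obtain ⟨W, hW, hm⟩ := hcs i
      exact ⟨W, hW, Subgroup.mem_top _, hm⟩
    · rintro i _ ⟨a, ha, rfl⟩
      exact hci i a ha
    · intro a ha
      rw [hcl']
      exact hea a ha

end Cfsg.Agent.S1959
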