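import Cfsg.Statements.S1962
import Cfsg.Agent.S1961

set_option autoImplicit false
open Cfsg

namespace Cfsg.Agent.S1962

open Cfsg.Agent.Lib.Helper3_Conj Cfsg.Agent.Lib.Helper3_SylowRel Cfsg.Agent.Lib.Helper3_Alperin
open scoped commutatorElement

/-- Control of transfer in `H`, transported to a prescribed Sylow subgroup `R` of `H`. -/
theorem transfer_at {G : Type*} [Group G] [Finite G] {p : ℕ} [Fact p.Prime]
    (W : Subgroup G → Subgroup G) (hW : Cfsg.IsConjugacyFunctor p W) (H R : Subgroup G)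
    (hRH : R ≤ H) (hR : IsPGroup p ↥R) (hRi : ¬ p ∣ R.relIndex H)
    (hc : Cfsg.ControlsTransferIn p W H) :
    R ⊓ ⁅H, H⁆ = R ⊓ ⁅H ⊓ Subgroup.normalizer ((W R : Subgroup G) : Set G),
      H ⊓ Subgroup.normalizer ((W R : Subgroup G) : Set G)⁆ := by
  obtain ⟨T₀, hT₀H, hT₀p, hT₀i, hT₀⟩ := hc
  obtain ⟨u, huH, hu⟩ := Cfsg.Agent.S1961.exists_conj_eq_of_relIndex H R T₀ hRH hR hRi hT₀H hT₀p hT₀i
  have hWR : W R = (W T₀).map (MulAut.conj u).toMonoidHom := by
    rw [← hu]; exact (hW T₀ hT₀p).2.2 u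
  have hinj : Function.Injective (MulAut.conj u).toMonoidHom := (MulAut.conj u).injective
  have hHu : H.map (MulAut.conj u).toMonoidHom = H :=
    map_conj_eq_self_of_mem_normalizer H u (Subgroup.le_normalizer huH)
  have h1 := congrArg (Subgroup.map (MulAut.conj u).toMonoidHom) hT₀
  rw [Subgroup.map_inf_eq _ _ _ hinj, Subgroup.map_inf_eq _ _ _ hinj, Subgroup.map_commutator,
    Subgroup.map_commutator, Subgroup.map_inf_eq _ _ _ hinj, hHu, hu,
    Subgroup.map_equiv_normalizer_eq (W T₀) (MulAut.conj u), ← hWR] at h1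
  exact h1

/-- Climbing the tower. -/
theorem climb {G : Type*} [Group G] [Finite G] {p : ℕ} [Fact p.Prime] (S : Sylow p G)
    (W : Subgroup G → Subgroup G) (hW : Cfsg.IsConjugacyFunctor p W)
    (hloc : ∀ T : Subgroup G, T ≠ ⊥ → Cfsg.IsWellPlaced p W (S : Subgroup G) T →
      Cfsg.ControlsTransferIn p W (Subgroup.normalizer ((T : Subgroup G) : Set G)))
    (T : Subgroup G) (hT : Cfsg.IsWellPlaced p W (S : Subgroup G) T) (hne : T ≠ ⊥) :
    ∀ j, ((S : Subgroup G) ⊓ Subgroup.normalizer ((T : Subgroup G) : Set G)) ⊓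
        ⁅Subgroup.normalizer ((T : Subgroup G) : Set G), Subgroup.normalizer ((T : Subgroup G) : Set G)⁆ ≤
      ((S : Subgroup G) ⊓ Subgroup.normalizer ((functorTower W (S : Subgroup G) T j : Subgroup G) : Set G)) ⊓
        ⁅Subgroup.normalizer ((functorTower W (S : Subgroup G) T j : Subgroup G) : Set G),
          Subgroup.normalizer ((functorTower W (S : Subgroup G) T j : Subgroup G) : Set G)⁆ := by
  intro j
  induction j with
  | zero => exact le_rfl
  | succ j ih =>
    refine ih.trans ?_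
    set U := functorTower W (S : Subgroup G) T j with hU
    have hUwp := Cfsg.Agent.S1961.tower_wellPlaced S W hW T hT j
    have hUne := Cfsg.Agent.S1961.tower_ne_bot S W hW T hT.1 hne j
    have hc := hloc U hUne hUwp
    have hRi : ¬ p ∣ ((S : Subgroup G) ⊓ Subgroup.normalizer ((U : Subgroup G) : Set G)).relIndex
        (Subgroup.normalizer ((U : Subgroup G) : Set G)) := hT.2 j
    have h1 := transfer_at W hW (Subgroup.normalizer ((U : Subgroup G) : Set G))
      ((S : Subgroup G) ⊓ Subgroup.normalizer ((U : Subgroup G) : Set G)) inf_le_right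
      (S.2.to_le inf_le_left) hRi hc
    rw [h1]
    have hmono := Cfsg.Agent.S1963.NS_tower_mono S W hW T j
    have hnext : functorTower W (S : Subgroup G) T (j + 1) =
        W ((S : Subgroup G) ⊓ Subgroup.normalizer ((U : Subgroup G) : Set G)) := rfl
    refine inf_le_inf hmono ?_
    rw [hnext]
    exact Subgroup.commutator_mono inf_le_right inf_le_right

/-- Key claim. -/
theorem claim {G : Type*} [Group G] [Finite G] {p : ℕ} [Fact p.Prime] (S : Sylow p G)
    (W : Subgroup G → Subgroup G) (hW : Cfsg.IsConjugacyFunctor p W)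
    (hloc : ∀ T : Subgroup G, T ≠ ⊥ → Cfsg.IsWellPlaced p W (S : Subgroup G) T →
      Cfsg.ControlsTransferIn p W (Subgroup.normalizer ((T : Subgroup G) : Set G)))
    (T : Subgroup G) (hT : Cfsg.IsWellPlaced p W (S : Subgroup G) T) (x : G)
    (hx : x ∈ Subgroup.normalizer ((T : Subgroup G) : Set G)) (t : G) (ht : t ∈ T) :
    t⁻¹ * (x⁻¹ * t * x) ∈ (S : Subgroup G) ⊓
      ⁅Subgroup.normalizer ((W (S : Subgroup G) : Subgroup G) : Set G),
        Subgroup.normalizer ((W (S : Subgroup G) : Subgroup G) : Set G)⁆ := by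
  by_cases hne : T = ⊥
  · rw [hne, Subgroup.mem_bot] at ht
    rw [ht]
    have : (1 : G)⁻¹ * (x⁻¹ * 1 * x) = 1 := by group
    rw [this]; exact Subgroup.one_mem _
  · obtain ⟨j, hj⟩ := Cfsg.Agent.S1961.exists_NS_eq S W hW T
    have hcl := climb S W hW hloc T hT hne (j + 1)
    have hxt : x⁻¹ * t * x ∈ T := by
      have := (Subgroup.mem_normalizer_iff.mp (Subgroup.inv_mem _ hx) t).mp ht
      simpa using this
    have hmemT : t⁻¹ * (x⁻¹ * t * x) ∈ T := T.mul_mem (T.inv_mem ht) hxt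
    have hmem : t⁻¹ * (x⁻¹ * t * x) ∈ ((S : Subgroup G) ⊓ Subgroup.normalizer ((T : Subgroup G) : Set G)) ⊓
        ⁅Subgroup.normalizer ((T : Subgroup G) : Set G), Subgroup.normalizer ((T : Subgroup G) : Set G)⁆ := by
      refine ⟨⟨hT.1 hmemT, Subgroup.le_normalizer hmemT⟩, ?_⟩
      have e : t⁻¹ * (x⁻¹ * t * x) = ⁅t⁻¹, x⁻¹⁆ := by
        rw [commutatorElement_def]; group
      rw [e]
      exact Subgroup.commutator_mem_commutator (Subgroup.le_normalizer (T.inv_mem ht))
        (Subgroup.inv_mem _ hx)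
    have h2 := hcl hmem
    have htow : functorTower W (S : Subgroup G) T (j + 1) = W (S : Subgroup G) := by
      show W ((S : Subgroup G) ⊓ Subgroup.normalizer
        ((functorTower W (S : Subgroup G) T j : Subgroup G) : Set G)) = _
      rw [hj]
    rw [htow] at h2
    exact ⟨h2.1.1, h2.2⟩

/-- Collapse of a chain for commutators. -/
theorem collapse {G : Type*} [Group G] (𝓕 : Set (Subgroup G)) (D : Subgroup G) (a : G)
    (hD : ∀ T ∈ 𝓕, ∀ x ∈ Subgroup.normalizer ((T : Subgroup G) : Set G), ∀ t ∈ T,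
      t⁻¹ * (x⁻¹ * t * x) ∈ D) :
    ∀ (l : List (Subgroup G × G)) (c : G), Ch 𝓕 ({a} : Set G) c l →
      (c⁻¹ * a * c)⁻¹ * ((c * lprod l)⁻¹ * a * (c * lprod l)) ∈ D
  | [], c, _ => by
    rw [lprod_nil, mul_one, inv_mul_cancel]; exact D.one_mem
  | q :: l, c, h => by
    obtain ⟨h1, h2, h3, h4⟩ := h
    have ht := h3 a rfl
    have e1 := hD q.1 h1 q.2 h2 _ ht
    have e2 := collapse 𝓕 D a hD l (c * q.2) h4
    have e : (c⁻¹ * a * c)⁻¹ * ((c * lprod (q :: l))⁻¹ * a * (c * lprod (q :: l))) =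
        ((c⁻¹ * a * c)⁻¹ * (q.2⁻¹ * (c⁻¹ * a * c) * q.2)) *
        (((c * q.2)⁻¹ * a * (c * q.2))⁻¹ * ((c * q.2 * lprod l)⁻¹ * a * (c * q.2 * lprod l))) := by
      rw [lprod_cons]; group
    rw [e]
    exact D.mul_mem e1 e2

/-- Local-to-global control of transfer through well-placed subgroups. Let p be a prime, G a finite group with Sylow p-subgroup S, and W a conjugacy functor for p on G. If W controls transfer in N_G(T) for every nonidentity subgroup T of S that is well placed in S with respect to W, then W controls transfer in G: S ∩ G' = S ∩ (N_G(W(S)))'. -/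
theorem result {G : Type*} [Group G] [Finite G] {p : ℕ} [Fact p.Prime] (S : Sylow p G) (W : Subgroup G → Subgroup G) (hW : Cfsg.IsConjugacyFunctor p W) (hloc : ∀ T : Subgroup G, T ≠ ⊥ → Cfsg.IsWellPlaced p W (S : Subgroup G) T → Cfsg.ControlsTransferIn p W (Subgroup.normalizer ((T : Subgroup G) : Set G))) : Cfsg.ControlsTransferIn p W ⊤ := by
  refine ⟨S, le_top, S.isPGroup', ?_, ?_⟩
  · rw [Subgroup.relIndex_top_right]; exact S.not_dvd_index
  · rw [top_inf_eq]
    set M := Subgroup.normalizer ((W (S : Subgroup G) : Subgroup G) : Set G) with hM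
    apply le_antisymm
    · -- focal subgroup theorem
      have hfoc : (S : Subgroup G) ⊓ ⁅(⊤ : Subgroup G), ⊤⁆ = (S : Subgroup G).focalSubgroup := by
        rw [inf_comm, ← commutator_def]
        exact Subgroup.commutator_inf_eq_focalSubgroup S
      rw [hfoc, Subgroup.focalSubgroup_def, Subgroup.closure_le]
      rintro g ⟨hgS, x, hxS, u, rfl⟩
      set 𝓕 : Set (Subgroup G) := {T : Subgroup G | Cfsg.IsWellPlaced p W (S : Subgroup G) T} with h𝓕def
      have h𝓕 : ∀ U ∈ 𝓕, U ≤ (S : Subgroup G) := fun U hU => hU.1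
      have hcond : ∀ T : Subgroup G, T ≤ (S : Subgroup G) → ∃ U ∈ 𝓕, (∃ g : G, T.map (MulAut.conj g).toMonoidHom = U) ∧ ¬ p ∣ ((S : Subgroup G) ⊓ Subgroup.normalizer ((U : Subgroup G) : Set G)).relIndex (Subgroup.normalizer ((U : Subgroup G) : Set G)) := by
        intro T hT
        obtain ⟨g, hg⟩ := Cfsg.Agent.S1963.result S W hW T hT
        exact ⟨T.map (MulAut.conj g).toMonoidHom, hg, ⟨g, rfl⟩, hg.2 0⟩
      -- a := x⁻¹, conjugated by u into S
      have haS : x⁻¹ ∈ (S : Subgroup G) := Subgroup.inv_mem _ hxS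
      have hbS : u * x⁻¹ * u⁻¹ ∈ (S : Subgroup G) := by
        have e : u * x⁻¹ * u⁻¹ = x⁻¹ * ⁅x, u⁆ := by rw [commutatorElement_def]; group
        rw [e]; exact Subgroup.mul_mem _ haS hgS
      have hcl : Subgroup.zpowers x⁻¹ ≤ (S : Subgroup G) := by
        rw [Subgroup.zpowers_le]; exact haS
      have hclg : ∀ a ∈ Subgroup.zpowers x⁻¹, u⁻¹⁻¹ * a * u⁻¹ ∈ (S : Subgroup G) := by
        intro a ha
        obtain ⟨k, rfl⟩ := Subgroup.mem_zpowers_iff.mp ha
        have e : u⁻¹⁻¹ * x⁻¹ ^ k * u⁻¹ = (u * x⁻¹ * u⁻¹) ^ k := by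
          rw [inv_inv]
          have := map_zpow (MulAut.conj u) x⁻¹ k
          simp only [MulAut.conj_apply] at this
          exact this
        rw [e]
        exact Subgroup.zpow_mem _ hbS k
      obtain ⟨l, hl, hp⟩ := Cfsg.Agent.S1965.main S 𝓕 h𝓕 hcond _ (Subgroup.zpowers x⁻¹) hcl rfl u⁻¹ hclg
      have hl' : Ch 𝓕 ({x⁻¹} : Set G) 1 l := by
        refine ch_mono 𝓕 ?_ l 1 hl
        intro a ha
        rw [Set.mem_singleton_iff] at ha
        rw [ha]
        exact Subgroup.mem_zpowers x⁻¹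
      have hD := collapse 𝓕 ((S : Subgroup G) ⊓ ⁅M, M⁆) x⁻¹
        (fun T hT y hy t ht => claim S W hW hloc T hT y hy t ht) l 1 hl'
      rw [one_mul, hp] at hD
      have e : (1⁻¹ * x⁻¹ * 1)⁻¹ * (u⁻¹⁻¹ * x⁻¹ * u⁻¹) = ⁅x, u⁆ := by
        rw [commutatorElement_def]; group
      rw [e] at hD
      exact hD
    · exact inf_le_inf_left _ (Subgroup.commutator_mono le_top le_top)

end Cfsg.Agent.S1962
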