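import Cfsg.Statements.S1966
import Mathlib

set_option autoImplicit false
open Cfsg

namespace Cfsg.Agent.S1966

theorem pCore_normal' (p : ℕ) (G : Type*) [Group G] : (Cfsg.pCore p G).Normal := by
  unfold Cfsg.pCore
  exact Subgroup.sSup_normal _ (fun H hH => hH.1)

theorem normal_pGroup_le_sylow' {G : Type*} [Group G] {p : ℕ}
    (N : Subgroup G) (hN : N.Normal) (hp : IsPGroup p N) (P : Sylow p G) : N ≤ (P : Subgroup G) := by
  have h1 : IsPGroup p ((P : Subgroup G) ⊔ N : Subgroup G) :=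
    IsPGroup.to_sup_of_normal_right P.isPGroup' hp
  have h2 : (P : Subgroup G) ⊔ N = P := P.is_maximal' h1 le_sup_left
  calc N ≤ (P : Subgroup G) ⊔ N := le_sup_right
    _ = P := h2

theorem pCore_le_sylow' {G : Type*} [Group G] {p : ℕ} (P : Sylow p G) :
    Cfsg.pCore p G ≤ (P : Subgroup G) := by
  unfold Cfsg.pCore
  apply sSup_le
  intro N hN
  exact normal_pGroup_le_sylow' N hN.1 hN.2 P

theorem result {G : Type*} [Group G] [Finite G] {p : ℕ} [Fact p.Prime] (S : Sylow p G) (𝓕 : Set (Subgroup G)) (h : Cfsg.IsConjugationFamily 𝓕 (S : Subgroup G)) : Cfsg.IsConjugationFamily {T : Subgroup G | T ∈ 𝓕 ∧ Cfsg.pCore p G ≤ T} (S : Subgroup G) := by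
  obtain ⟨h1, h2⟩ := h
  have hOn : (Cfsg.pCore p G).Normal := pCore_normal' p G
  have hOS : Cfsg.pCore p G ≤ (S : Subgroup G) := pCore_le_sylow' S
  refine ⟨fun T hT => h1 T hT.1, ?_⟩
  intro A g hAne hAS hAg
  -- enlarge A
  set A' : Set G := A ∪ (Cfsg.pCore p G : Set G) with hA'
  have hA'ne : A'.Nonempty := hAne.mono Set.subset_union_left
  have hA'S : A' ⊆ (S : Subgroup G) := Set.union_subset hAS hOS
  have hconjO : ∀ (y : G), (fun a => y⁻¹ * a * y) '' (Cfsg.pCore p G : Set G) ⊆ (Cfsg.pCore p G : Set G) := by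
    rintro y _ ⟨a, ha, rfl⟩
    have := hOn.conj_mem a ha y⁻¹
    simpa using this
  have hA'g : (fun a => g⁻¹ * a * g) '' A' ⊆ (S : Subgroup G) := by
    rw [hA', Set.image_union]
    exact Set.union_subset hAg ((hconjO g).trans hOS)
  obtain ⟨n, T, x, hprod, hT𝓕, hxN, hT0, hTi⟩ := h2 A' g hA'ne hA'S hA'g
  refine ⟨n, T, x, hprod, ?_, hxN, ?_, ?_⟩
  · intro i
    refine ⟨hT𝓕 i, ?_⟩
    rcases Nat.eq_zero_or_pos i.val with hi0 | hipos
    · have hn : 0 < n := i.pos
      have : i = ⟨0, hn⟩ := Fin.ext hi0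
      rw [this]
      intro a ha
      exact hT0 hn (Set.mem_union_right _ ha)
    · obtain ⟨j, hj⟩ : ∃ j, i.val = j + 1 := ⟨i.val - 1, by omega⟩
      have hjn : j < n := by have := i.2; omega
      have hlt : (⟨j, hjn⟩ : Fin n).val + 1 < n := by have := i.2; simp only; omega
      have := hTi ⟨j, hjn⟩ hlt
      have hi : i = ⟨(⟨j, hjn⟩ : Fin n).val + 1, hlt⟩ := Fin.ext (by simp only; omega)
      rw [hi]
      intro a ha
      apply this
      -- a = y⁻¹ (y a y⁻¹) y with y a y⁻¹ ∈ pCore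
      set y := ((List.ofFn x).take ((⟨j, hjn⟩ : Fin n).val + 1)).prod with hy
      refine ⟨y * a * y⁻¹, Set.mem_union_right _ (hOn.conj_mem a ha y), ?_⟩
      show y⁻¹ * (y * a * y⁻¹) * y = a
      group
  · intro hn
    exact Set.subset_union_left.trans (hT0 hn)
  · intro i hi
    exact (Set.image_mono Set.subset_union_left).trans (hTi i hi)

end Cfsg.Agent.S1966
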