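import Cfsg.Statements.S1967
import Cfsg.Agent.Lib.Helper3_Conj
import Mathlib

set_option autoImplicit false
open Cfsg

namespace Cfsg.Agent.S1967

open Cfsg.Agent.Lib.Helper3_Conj

theorem result {G : Type*} [Group G] [Finite G] {p : ℕ} [Fact p.Prime] (S : Sylow p G) (W : Subgroup G → Subgroup G) (hW : Cfsg.IsConjugacyFunctor p W) : Cfsg.ControlsStrongFusionIn p W ⊤ ↔ ∀ (T : Subgroup G) (g : G), T ≤ (S : Subgroup G) → T.map (MulAut.conj g).toMonoidHom ≤ (S : Subgroup G) → ∃ n ∈ Subgroup.normalizer ((W (S : Subgroup G) : Subgroup G) : Set G), ∃ c ∈ Subgroup.centralizer (T : Set G), g = n * c := by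
  constructor
  · rintro ⟨T₀, -, hT₀p, hT₀i, hT₀⟩ T g hTS hTg
    rw [Subgroup.relIndex_top_right] at hT₀i
    -- T₀ is a Sylow subgroup, conjugate to S
    let T₀' : Sylow p G := hT₀p.toSylow hT₀i
    have hT₀' : (T₀' : Subgroup G) = T₀ := IsPGroup.toSylow_coe hT₀p hT₀i
    obtain ⟨u, hu⟩ := sylow_exists_map_conj_eq S T₀'
    rw [hT₀'] at hu
    -- hu : T₀.map (conj u) = S
    have hWS : W (S : Subgroup G) = (W T₀).map (MulAut.conj u).toMonoidHom := by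
      rw [← hu]; exact (hW T₀ hT₀p).2.2 u
    -- A := u⁻¹ T u, h := u⁻¹ g u
    set A : Set G := (fun t => u⁻¹ * t * u) '' (T : Set G) with hA
    have hAT₀ : A ⊆ T₀ := by
      rintro _ ⟨t, ht, rfl⟩
      have : t ∈ T₀.map (MulAut.conj u).toMonoidHom := by rw [hu]; exact hTS ht
      exact (mem_map_conj T₀ u t).mp this
    have hAh : (fun a => (u⁻¹ * g * u) * a * (u⁻¹ * g * u)⁻¹) '' A ⊆ T₀ := by
      rintro _ ⟨_, ⟨t, ht, rfl⟩, rfl⟩
      have h1 : g * t * g⁻¹ ∈ (S : Subgroup G) := hTg (conj_mem_map_conj T g t ht)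
      rw [← hu, mem_map_conj] at h1
      have : (u⁻¹ * g * u) * (u⁻¹ * t * u) * (u⁻¹ * g * u)⁻¹ = u⁻¹ * (g * t * g⁻¹) * u := by group
      show (u⁻¹ * g * u) * (u⁻¹ * t * u) * (u⁻¹ * g * u)⁻¹ ∈ (T₀ : Set G)
      rw [this]; exact h1
    obtain ⟨x, hx, hxa⟩ := hT₀ A (u⁻¹ * g * u) (Subgroup.mem_top _) hAT₀ hAh
    have hxN : x ∈ Subgroup.normalizer ((W T₀ : Subgroup G) : Set G) := hx.2
    refine ⟨u * x * u⁻¹, ?_, (u * x * u⁻¹)⁻¹ * g, ?_, by group⟩
    · rw [hWS]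
      exact conj_mem_normalizer_map_conj (W T₀) u x hxN
    · rw [Subgroup.mem_centralizer_iff]
      intro t ht
      have h1 := hxa (u⁻¹ * t * u) ⟨t, ht, rfl⟩
      -- x (u⁻¹ t u) x⁻¹ = (u⁻¹ g u) (u⁻¹ t u) (u⁻¹ g u)⁻¹
      have h2 : (u * x * u⁻¹) * t * (u * x * u⁻¹)⁻¹ = g * t * g⁻¹ := by
        calc (u * x * u⁻¹) * t * (u * x * u⁻¹)⁻¹ = u * (x * (u⁻¹ * t * u) * x⁻¹) * u⁻¹ := by group
          _ = u * ((u⁻¹ * g * u) * (u⁻¹ * t * u) * (u⁻¹ * g * u)⁻¹) * u⁻¹ := by rw [h1]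
          _ = g * t * g⁻¹ := by group
      -- t * c = c * t where c = n⁻¹ g
      have h3 : g * t = (u * x * u⁻¹) * t * (u * x * u⁻¹)⁻¹ * g := by rw [h2]; group
      calc t * ((u * x * u⁻¹)⁻¹ * g) = (u * x * u⁻¹)⁻¹ * ((u * x * u⁻¹) * t * (u * x * u⁻¹)⁻¹ * g) := by group
        _ = (u * x * u⁻¹)⁻¹ * (g * t) := by rw [← h3]
        _ = (u * x * u⁻¹)⁻¹ * g * t := by group
  · intro h
    refine ⟨S, le_top, S.isPGroup', ?_, ?_⟩
    · rw [Subgroup.relIndex_top_right]; exact S.not_dvd_index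
    · intro A g _ hAS hAg
      have hT : Subgroup.closure A ≤ (S : Subgroup G) := (Subgroup.closure_le _).mpr hAS
      have hTg : (Subgroup.closure A).map (MulAut.conj g).toMonoidHom ≤ (S : Subgroup G) := by
        rw [MonoidHom.map_closure, Subgroup.closure_le]
        rintro _ ⟨a, ha, rfl⟩
        apply hAg
        exact ⟨a, ha, by simp [MulAut.conj_apply]⟩
      obtain ⟨n, hn, c, hc, rfl⟩ := h (Subgroup.closure A) g hT hTg
      refine ⟨n, ⟨Subgroup.mem_top _, hn⟩, ?_⟩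
      intro a ha
      rw [Subgroup.mem_centralizer_iff] at hc
      have hca := hc a (Subgroup.subset_closure ha)
      -- a * c = c * a
      calc n * a * n⁻¹ = n * (a * c) * c⁻¹ * n⁻¹ := by group
        _ = n * (c * a) * c⁻¹ * n⁻¹ := by rw [hca]
        _ = n * c * a * (n * c)⁻¹ := by group

end Cfsg.Agent.S1967
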