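import Cfsg.Statements.S1968
import Cfsg.Agent.S1961

set_option autoImplicit false
open Cfsg

namespace Cfsg.Agent.S1968

open Cfsg.Agent.Lib.Helper3_Conj Cfsg.Agent.Lib.Helper3_SylowRel Cfsg.Agent.Lib.Helper3_Alperin

/-- If all members of `𝓕` containing `A` have normalizer inside `N(A)`, chains stay in `N(A)`. -/
theorem chain_fix {G : Type*} [Group G] (𝓕 : Set (Subgroup G)) (A : Subgroup G)
    (hyp : ∀ T ∈ 𝓕, A ≤ T → Subgroup.normalizer ((T : Subgroup G) : Set G) ≤
      Subgroup.normalizer ((A : Subgroup G) : Set G)) :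
    ∀ (l : List (Subgroup G × G)) (c : G), c ∈ Subgroup.normalizer ((A : Subgroup G) : Set G) →
      Ch 𝓕 (A : Set G) c l → c * lprod l ∈ Subgroup.normalizer ((A : Subgroup G) : Set G)
  | [], c, hc, _ => by rw [lprod_nil, mul_one]; exact hc
  | q :: l, c, hc, h => by
    obtain ⟨h1, h2, h3, h4⟩ := h
    have hAT : A ≤ q.1 := by
      intro a ha
      have h5 : c * a * c⁻¹ ∈ A := (Subgroup.mem_normalizer_iff.mp hc a).mp ha
      have h6 := h3 _ h5
      have e : c⁻¹ * (c * a * c⁻¹) * c = a := by group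
      rwa [e] at h6
    have hx : q.2 ∈ Subgroup.normalizer ((A : Subgroup G) : Set G) := hyp q.1 h1 hAT h2
    have := chain_fix 𝓕 A hyp l (c * q.2) (Subgroup.mul_mem _ hc hx) h4
    rw [lprod_cons, ← mul_assoc]
    exact this

/-- `A ≤ Z(S)` lies in every term of the tower of a subgroup containing it. -/
theorem le_tower {G : Type*} [Group G] {p : ℕ} (S : Sylow p G) (W : Subgroup G → Subgroup G)
    (hW : Cfsg.IsConjugacyFunctor p W)
    (hWZ : ∀ P : Subgroup G, IsPGroup p ↥P → P ⊓ Subgroup.centralizer (P : Set G) ≤ W P)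
    (A : Subgroup G)
    (hAZ : A ≤ (S : Subgroup G) ⊓ Subgroup.centralizer ((S : Subgroup G) : Set G))
    (T : Subgroup G) (hTS : T ≤ (S : Subgroup G)) (hAT : A ≤ T) :
    ∀ i, A ≤ functorTower W (S : Subgroup G) T i := by
  intro i
  cases i with
  | zero => exact hAT
  | succ i =>
    show A ≤ W ((S : Subgroup G) ⊓ Subgroup.normalizer
      ((functorTower W (S : Subgroup G) T i : Subgroup G) : Set G))
    set U := functorTower W (S : Subgroup G) T i with hU
    have hUS : U ≤ (S : Subgroup G) := Cfsg.Agent.S1961.tower_le S W hW T hTS i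
    refine le_trans ?_ (hWZ _ (S.2.to_le inf_le_left))
    intro a ha
    have haS : a ∈ (S : Subgroup G) := (hAZ ha).1
    have haC : a ∈ Subgroup.centralizer ((S : Subgroup G) : Set G) := (hAZ ha).2
    refine ⟨⟨haS, ?_⟩, ?_⟩
    · -- a centralizes U hence normalizes it
      have : a ∈ Subgroup.centralizer ((U : Subgroup G) : Set G) :=
        Subgroup.centralizer_le (fun u hu => hUS hu) haC
      exact Subgroup.centralizer_le_normalizer _ this
    · exact Subgroup.centralizer_le (fun u hu => hu.1) haC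

/-- Let p be a prime, G a finite group with Sylow p-subgroup S and W a conjugacy functor for p on G with Z(P) ≤ W(P) for every p-subgroup P. Let A be a subgroup of Z(S) normalized by N_G(W(S)) that is not weakly closed in S with respect to G. Then there is a subgroup T of S, well placed in S with respect to W, such that: A ≤ T; N_G(W(N_S(T))) normalizes A; N_S(T) is a Sylow p-subgroup of N_G(T); A ≤ Z(N_S(T)); and A is not weakly closed in N_S(T) with respect to N_G(T), that is, some N_G(T)-conjugate of A other than A lies in N_S(T). -/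
theorem result {G : Type*} [Group G] [Finite G] {p : ℕ} [Fact p.Prime] (S : Sylow p G) (W : Subgroup G → Subgroup G) (hW : Cfsg.IsConjugacyFunctor p W) (hWZ : ∀ P : Subgroup G, IsPGroup p ↥P → P ⊓ Subgroup.centralizer (P : Set G) ≤ W P) (A : Subgroup G) (hAZ : A ≤ (S : Subgroup G) ⊓ Subgroup.centralizer ((S : Subgroup G) : Set G)) (hAN : Subgroup.normalizer ((W (S : Subgroup G) : Subgroup G) : Set G) ≤ Subgroup.normalizer ((A : Subgroup G) : Set G)) (hnwc : ¬ Cfsg.IsWeaklyClosed A (S : Subgroup G)) : ∃ T : Subgroup G, Cfsg.IsWellPlaced p W (S : Subgroup G) T ∧ A ≤ T ∧ Subgroup.normalizer ((W ((S : Subgroup G) ⊓ Subgroup.normalizer ((T : Subgroup G) : Set G)) : Subgroup G) : Set G) ≤ Subgroup.normalizer ((A : Subgroup G) : Set G) ∧ ¬ p ∣ ((S : Subgroup G) ⊓ Subgroup.normalizer ((T : Subgroup G) : Set G)).relIndex (Subgroup.normalizer ((T : Subgroup G) : Set G)) ∧ A ≤ Subgroup.centralizer (((S : Subgroup G) ⊓ Subgroup.normalizer ((T : Subgroup G) : Set G) : Subgroup G) : Set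 G) ∧ ∃ g ∈ Subgroup.normalizer ((T : Subgroup G) : Set G), A.map (MulAut.conj g).toMonoidHom ≤ (S : Subgroup G) ⊓ Subgroup.normalizer ((T : Subgroup G) : Set G) ∧ A.map (MulAut.conj g).toMonoidHom ≠ A := by
  have hAS : A ≤ (S : Subgroup G) := hAZ.trans inf_le_left
  -- a conjugate of A in S different from A
  have hex : ∃ g : G, A.map (MulAut.conj g).toMonoidHom ≤ (S : Subgroup G) ∧
      A.map (MulAut.conj g).toMonoidHom ≠ A := by
    by_contra hcon
    push Not at hcon
    exact hnwc ⟨hAS, hcon⟩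
  obtain ⟨g, hgS, hgA⟩ := hex
  set 𝓕 : Set (Subgroup G) := {T : Subgroup G | Cfsg.IsWellPlaced p W (S : Subgroup G) T} with h𝓕def
  have h𝓕 : ∀ U ∈ 𝓕, U ≤ (S : Subgroup G) := fun U hU => hU.1
  have hcond : ∀ T : Subgroup G, T ≤ (S : Subgroup G) → ∃ U ∈ 𝓕, (∃ g : G, T.map (MulAut.conj g).toMonoidHom = U) ∧ ¬ p ∣ ((S : Subgroup G) ⊓ Subgroup.normalizer ((U : Subgroup G) : Set G)).relIndex (Subgroup.normalizer ((U : Subgroup G) : Set G)) := by
    intro T hT
    obtain ⟨g, hg⟩ := Cfsg.Agent.S1963.result S W hW T hT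
    exact ⟨T.map (MulAut.conj g).toMonoidHom, hg, ⟨g, rfl⟩, hg.2 0⟩
  -- Step 1: a well-placed T ≥ A whose normalizer does not normalize A
  have hstep1 : ∃ T ∈ 𝓕, A ≤ T ∧ ¬ Subgroup.normalizer ((T : Subgroup G) : Set G) ≤
      Subgroup.normalizer ((A : Subgroup G) : Set G) := by
    by_contra hcon
    push Not at hcon
    have hclg : ∀ a ∈ A, g⁻¹⁻¹ * a * g⁻¹ ∈ (S : Subgroup G) := by
      intro a ha
      rw [inv_inv]
      exact hgS (conj_mem_map_conj A g a ha)
    obtain ⟨l, hl, hp⟩ := Cfsg.Agent.S1965.main S 𝓕 h𝓕 hcond _ A hAS rfl g⁻¹ hclg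
    have := chain_fix 𝓕 A hcon l 1 (Subgroup.one_mem _) hl
    rw [one_mul, hp] at this
    have hgN : g ∈ Subgroup.normalizer ((A : Subgroup G) : Set G) := by
      simpa using Subgroup.inv_mem _ this
    exact hgA (map_conj_eq_self_of_mem_normalizer A g hgN)
  obtain ⟨T, hTwp, hAT, hTbad⟩ := hstep1
  have hTwp' : Cfsg.IsWellPlaced p W (S : Subgroup G) T := hTwp
  -- Step 2: go up the tower
  obtain ⟨j, hj⟩ := Cfsg.Agent.S1961.exists_NS_eq S W hW T
  have htow : functorTower W (S : Subgroup G) T (j + 1) = W (S : Subgroup G) := by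
    show W ((S : Subgroup G) ⊓ Subgroup.normalizer
      ((functorTower W (S : Subgroup G) T j : Subgroup G) : Set G)) = _
    rw [hj]
  have hexk : ∃ k, Subgroup.normalizer ((functorTower W (S : Subgroup G) T k : Subgroup G) : Set G) ≤
      Subgroup.normalizer ((A : Subgroup G) : Set G) := ⟨j + 1, by rw [htow]; exact hAN⟩
  classical
  set k := Nat.find hexk with hk
  have hkspec := Nat.find_spec hexk
  have hk0 : k ≠ 0 := by
    intro h0
    rw [← hk, h0] at hkspec
    exact hTbad hkspec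
  obtain ⟨i, hi⟩ := Nat.exists_eq_succ_of_ne_zero hk0
  have hibad : ¬ Subgroup.normalizer ((functorTower W (S : Subgroup G) T i : Subgroup G) : Set G) ≤
      Subgroup.normalizer ((A : Subgroup G) : Set G) :=
    Nat.find_min hexk (by omega)
  rw [← hk, hi] at hkspec
  set T' := functorTower W (S : Subgroup G) T i with hT'
  have hT'wp := Cfsg.Agent.S1961.tower_wellPlaced S W hW T hTwp' i
  have hAT' : A ≤ T' := le_tower S W hW hWZ A hAZ T hTwp'.1 hAT i
  obtain ⟨x, hxN, hxA⟩ := SetLike.not_le_iff_exists.mp hibad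
  refine ⟨T', hT'wp, hAT', hkspec, hTwp'.2 i, ?_, x, hxN, ?_, ?_⟩
  · intro a ha
    exact Subgroup.centralizer_le (fun u hu => hu.1) (hAZ ha).2
  · have h1 : A.map (MulAut.conj x).toMonoidHom ≤ T'.map (MulAut.conj x).toMonoidHom :=
      Subgroup.map_mono hAT'
    rw [map_conj_eq_self_of_mem_normalizer T' x hxN] at h1
    exact h1.trans (le_inf hT'wp.1 Subgroup.le_normalizer)
  · intro hcon
    exact hxA (mem_normalizer_of_map_conj_eq_self A x hcon)

end Cfsg.Agent.S1968
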