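import Cfsg.Statements.S1971
import Mathlib
import Mathlib
import Cfsg.Agent.Lib.Lead_CT2

set_option autoImplicit false
universe u
open Cfsg

namespace Cfsg.Agent.S1971

open Cfsg.Agent.Lib.Lead_GTb Cfsg.Agent.Lib.Lead_Ind Cfsg.Agent.Lib.Lead_CT Cfsg.Agent.Lib.Lead_CT2


/-- Let p be a prime, G a finite group with nontrivial Sylow p-subgroup S, and W an isomorphism-invariant p-group functor (W assigns to every group Q a subgroup W(Q), nontrivial whenever Q is a nontrivial finite p-group, and every isomorphism from a finite p-group Q onto a group R carries W(Q) onto W(R)) that controls transfer in every section of G. If N_G(S)/C_G(S) is a p-group (every element of N_G(S) of order prime to p centralizes S), then G has a normal subgroup of index p. -/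
theorem result {G : Type u} [Group G] [Finite G] {p : ℕ} [Fact p.Prime] (W : ∀ (Q : Type u) [Group Q], Subgroup Q) (hW : Cfsg.IsCharPFunctor.{u} p W) (hctl : ∀ (K R : Subgroup G) [hR : (R.subgroupOf K).Normal], Cfsg.ControlsTransferIn p (Cfsg.inducedFunctor (G := (↥K ⧸ R.subgroupOf K)) W) ⊤) (S : Sylow p G) (hS : (S : Subgroup G) ≠ ⊥) (hN : ∀ g ∈ Subgroup.normalizer (((S : Subgroup G) : Subgroup G) : Set G), (orderOf g).Coprime p → g ∈ Subgroup.centralizer ((S : Subgroup G) : Set G)) : ∃ N : Subgroup G, N.Normal ∧ N.index = p := by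
  have hmem : (sqClass (CT p W)).mem G := by
    intro Y _ _ hY
    obtain ⟨M, f, hf⟩ := hY
    set R := f.ker.map M.subtype with hR
    have hker : R.subgroupOf M = f.ker := by
      rw [hR, Subgroup.subgroupOf, Subgroup.comap_map_eq_self_of_injective M.subtype_injective]
    haveI hRn : (R.subgroupOf M).Normal := by rw [hker]; infer_instance
    have h1 : CT p W (↥M ⧸ R.subgroupOf M) := ct_of_controls W hW (hctl M R)
    exact ct_of_equiv W hW ((QuotientGroup.quotientMulEquivOfEq hker).trans
      (QuotientGroup.quotientKerEquivOfSurjective f hf)) h1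
  exact exists_index_p S (main_ct W hW (Nat.card G) G le_rfl hmem S hS hN)

end Cfsg.Agent.S1971
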