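import Cfsg.Statements.S1976
import Cfsg.Agent.Lib.Helper3_KInf

set_option autoImplicit false
open Cfsg

namespace Cfsg.Agent.S1976

open Cfsg.Agent.Lib.Helper3_KInf in
theorem result {P : Type*} [Group P] [Finite P] {p : ℕ} [Fact p.Prime] (hP : IsPGroup p P) : ∃ n : ℕ, ∀ m : ℕ, n ≤ m → Cfsg.kSeqEven P m = Cfsg.kInfLower P ∧ Cfsg.kSeqOdd P m = Cfsg.kInfUpper P := by
  obtain ⟨n₁, h₁⟩ := WellFoundedGT.monotone_chain_condition
    (⟨kSeqEven P, kSeqEven_monotone⟩ : ℕ →o Subgroup P)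
  obtain ⟨n₂, h₂⟩ := WellFoundedLT.antitone_chain_condition (kSeqOdd_antitone (P := P))
  simp only [OrderHom.coe_mk] at h₁
  refine ⟨max n₁ n₂, fun m hm => ⟨?_, ?_⟩⟩
  · have hm1 : n₁ ≤ m := (le_max_left _ _).trans hm
    apply le_antisymm
    · exact le_iSup (fun n => kSeqEven P n) m
    · apply iSup_le
      intro k
      rcases le_total k m with hk | hk
      · exact kSeqEven_monotone hk
      · rw [← h₁ m hm1, h₁ k (hm1.trans hk)]
  · have hm2 : n₂ ≤ m := (le_max_right _ _).trans hm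
    apply le_antisymm
    · apply le_iInf
      intro k
      rcases le_total k m with hk | hk
      · exact kSeqOdd_antitone hk
      · rw [← h₂ m hm2, h₂ k (hm2.trans hk)]
    · exact iInf_le (fun n => kSeqOdd P n) m

end Cfsg.Agent.S1976
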