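import Cfsg.Statements.S1978
import Cfsg.Agent.S1977
import Cfsg.Agent.Lib.Helper3_KInf

set_option autoImplicit false
open Cfsg

namespace Cfsg.Agent.S1978

open Cfsg.Agent.Lib.Helper3_KInf

variable {P : Type*} [Group P]

theorem bot_mem_classTwo : (⊥ : Subgroup P) ∈ classTwoSubgroups P := by
  show ⁅(⊥ : Subgroup P), (⊥ : Subgroup P)⁆ ≤ Subgroup.centralizer ((⊥ : Subgroup P) : Set P)
  rw [Subgroup.commutator_bot_left]; exact bot_le

theorem bot_mem_upper (Q : Subgroup P) : (⊥ : Subgroup P) ∈ kUpperStarFamily Q := by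
  refine ⟨bot_mem_classTwo, ?_⟩
  rw [Subgroup.commutator_bot_left]; exact bot_le

theorem bot_mem_lower (Q : Subgroup P) : (⊥ : Subgroup P) ∈ kLowerStarFamily Q := by
  refine ⟨bot_mem_classTwo, ?_, ?_⟩
  · intro q _
    rw [Subgroup.mem_normalizer_iff]
    intro h
    simp [Subgroup.mem_bot]
  · intro A _ _ _ _ _
    rw [Subgroup.commutator_bot_left]; exact bot_le

/-- the join of a family whose maximal members are self-centralizing is self-centralizing -/
theorem cent_sSup_le [Finite P] (𝒦 : Set (Subgroup P)) (hbot : ⊥ ∈ 𝒦)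
    (h : ∀ B ∈ 𝒦, (∀ C ∈ 𝒦, B ≤ C → C = B) → Subgroup.centralizer (B : Set P) ≤ B) :
    Subgroup.centralizer ((sSup 𝒦 : Subgroup P) : Set P) ≤ sSup 𝒦 := by
  obtain ⟨B, -, hBmax⟩ := (Set.toFinite 𝒦).exists_le_maximal hbot
  have hB : B ∈ 𝒦 := hBmax.1
  have hmax : ∀ C ∈ 𝒦, B ≤ C → C = B := fun C hC hBC => le_antisymm (hBmax.2 hC hBC) hBC
  have hBle : B ≤ sSup 𝒦 := le_sSup hB
  exact (Subgroup.centralizer_le (fun b hb => hBle hb)).trans ((h B hB hmax).trans hBle)

theorem cent_kSeqEven [Finite P] {p : ℕ} [Fact p.Prime] (hP : IsPGroup p P) (n : ℕ) :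
    Subgroup.centralizer ((kSeqEven P n : Subgroup P) : Set P) ≤ kSeqEven P n :=
  cent_sSup_le _ (bot_mem_lower _) (fun B hB hmax => Cfsg.Agent.S1977.max_lower hP _ B hB hmax)

theorem cent_kSeqOdd [Finite P] {p : ℕ} [Fact p.Prime] (hP : IsPGroup p P) (n : ℕ) :
    Subgroup.centralizer ((kSeqOdd P n : Subgroup P) : Set P) ≤ kSeqOdd P n := by
  cases n with
  | zero => show _ ≤ (⊤ : Subgroup P); exact le_top
  | succ n =>
    exact cent_sSup_le _ (bot_mem_upper _)
      (fun B hB hmax => Cfsg.Agent.S1977.max_upper hP _ B hB hmax)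

/-- the odd terms stabilize -/
theorem exists_kInfUpper_eq [Finite P] : ∃ n, kInfUpper P = kSeqOdd P n := by
  set f : ℕ → ℕ := fun n => Nat.card (kSeqOdd P n) with hf
  have hne : (Set.range f).Nonempty := ⟨f 0, ⟨0, rfl⟩⟩
  obtain ⟨n, hn⟩ := Nat.sInf_mem hne
  have hmin : ∀ m, f n ≤ f m := fun m => by
    rw [hn]; exact Nat.sInf_le ⟨m, rfl⟩
  refine ⟨n, ?_⟩
  apply le_antisymm
  · exact iInf_le _ n
  · apply le_iInf
    intro m
    rcases le_total m n with hmn | hnm
    · exact kSeqOdd_antitone hmn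
    · have hle : kSeqOdd P m ≤ kSeqOdd P n := kSeqOdd_antitone hnm
      have := Subgroup.eq_of_le_of_card_ge hle (hmin m)
      rw [this]

/-- Let P be a finite p-group. Each of the two K-infinity subgroups of P contains its own centralizer in P, which in turn contains Z(P); in particular both are nontrivial when P is. -/
theorem result {P : Type*} [Group P] [Finite P] {p : ℕ} [Fact p.Prime] (hP : IsPGroup p P) : Subgroup.centralizer (Cfsg.kInfLower P : Set P) ≤ Cfsg.kInfLower P ∧ Subgroup.center P ≤ Subgroup.centralizer (Cfsg.kInfLower P : Set P) ∧ Subgroup.centralizer (Cfsg.kInfUpper P : Set P) ≤ Cfsg.kInfUpper P ∧ Subgroup.center P ≤ Subgroup.centralizer (Cfsg.kInfUpper P : Set P) := by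
  refine ⟨?_, Subgroup.center_le_centralizer _, ?_, Subgroup.center_le_centralizer _⟩
  · have h0 : kSeqEven P 0 ≤ kInfLower P := le_iSup (kSeqEven P) 0
    exact (Subgroup.centralizer_le (fun b hb => h0 hb)).trans ((cent_kSeqEven hP 0).trans h0)
  · obtain ⟨n, hn⟩ := exists_kInfUpper_eq (P := P)
    rw [hn]
    exact cent_kSeqOdd hP n

end Cfsg.Agent.S1978
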