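import Cfsg.Statements.S1979
import Cfsg.Agent.Lib.Helper3_KInf
import Mathlib

set_option autoImplicit false
open Cfsg

namespace Cfsg.Agent.S1979

open Cfsg.Agent.Lib.Helper3_KInf
open scoped commutatorElement

section inj

variable {G H : Type*} [Group G] [Group H] (φ : G →* H) (hφ : Function.Injective φ)

include hφ in
theorem map_center (B : Subgroup G) :
    (B ⊓ Subgroup.centralizer (B : Set G)).map φ =
      B.map φ ⊓ Subgroup.centralizer ((B.map φ : Subgroup H) : Set H) := by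
  ext y
  constructor
  · rintro ⟨b, ⟨hb, hbc⟩, rfl⟩
    have hbc' : b ∈ Subgroup.centralizer (B : Set G) := hbc
    refine ⟨⟨b, hb, rfl⟩, ?_⟩
    show φ b ∈ Subgroup.centralizer ((B.map φ : Subgroup H) : Set H)
    rw [Subgroup.mem_centralizer_iff]
    rintro _ ⟨b', hb', rfl⟩
    have := (Subgroup.mem_centralizer_iff.mp hbc') b' hb'
    show φ b' * φ b = φ b * φ b'
    rw [← map_mul, ← map_mul, this]
  · rintro ⟨⟨b, hb, rfl⟩, hc⟩
    have hc' : φ b ∈ Subgroup.centralizer ((B.map φ : Subgroup H) : Set H) := hc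
    refine ⟨b, ⟨hb, ?_⟩, rfl⟩
    show b ∈ Subgroup.centralizer (B : Set G)
    rw [Subgroup.mem_centralizer_iff]
    intro b' hb'
    have := (Subgroup.mem_centralizer_iff.mp hc') (φ b') ⟨b', hb', rfl⟩
    apply hφ
    rw [map_mul, map_mul]
    exact this

theorem classTwo_iff (B : Subgroup G) : B ∈ classTwoSubgroups G ↔ ⁅⁅B, B⁆, B⁆ = ⊥ :=
  Subgroup.commutator_eq_bot_iff_le_centralizer.symm

include hφ in
theorem classTwo_map (B : Subgroup G) :
    B.map φ ∈ classTwoSubgroups H ↔ B ∈ classTwoSubgroups G := by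
  rw [classTwo_iff, classTwo_iff, ← Subgroup.map_commutator, ← Subgroup.map_commutator,
    Subgroup.map_eq_bot_iff_of_injective _ hφ]

theorem le_normalizer_iff_comm (B X : Subgroup G) :
    X ≤ Subgroup.normalizer (B : Set G) ↔ ⁅B, X⁆ ≤ B := by
  constructor
  · intro h
    rw [Subgroup.commutator_le]
    intro b hb x hx
    have := (Subgroup.mem_normalizer_iff.mp (h hx) b⁻¹).mp (B.inv_mem hb)
    rw [commutatorElement_def]
    have e : b * x * b⁻¹ * x⁻¹ = b * (x * b⁻¹ * x⁻¹) := by group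
    rw [e]
    exact B.mul_mem hb this
  · intro h x hx
    have key : ∀ y ∈ X, ∀ b ∈ B, y * b * y⁻¹ ∈ B := by
      intro y hy b hb
      have h1 : ⁅b⁻¹, y⁆ ∈ B := h (Subgroup.commutator_mem_commutator (B.inv_mem hb) hy)
      have e : y * b * y⁻¹ = b * ⁅b⁻¹, y⁆ := by rw [commutatorElement_def]; group
      rw [e]; exact B.mul_mem hb h1
    rw [Subgroup.mem_normalizer_iff]
    intro b
    constructor
    · exact key x hx b
    · intro hb
      have := key x⁻¹ (X.inv_mem hx) _ hb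
      have e : x⁻¹ * (x * b * x⁻¹) * x⁻¹⁻¹ = b := by group
      rwa [e] at this

include hφ in
theorem le_normalizer_map (B X : Subgroup G) :
    X.map φ ≤ Subgroup.normalizer ((B.map φ : Subgroup H) : Set H) ↔
      X ≤ Subgroup.normalizer (B : Set G) := by
  rw [le_normalizer_iff_comm, le_normalizer_iff_comm, ← Subgroup.map_commutator,
    Subgroup.map_le_map_iff_of_injective hφ]

include hφ in
theorem upper_map (X B : Subgroup G) :
    B.map φ ∈ kUpperStarFamily (X.map φ) ↔ B ∈ kUpperStarFamily X := by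
  show (B.map φ ∈ classTwoSubgroups H ∧ ⁅B.map φ, X.map φ⁆ ≤ B.map φ ⊓ Subgroup.centralizer ((B.map φ : Subgroup H) : Set H)) ↔
    (B ∈ classTwoSubgroups G ∧ ⁅B, X⁆ ≤ B ⊓ Subgroup.centralizer (B : Set G))
  rw [classTwo_map φ hφ, ← map_center φ hφ, ← Subgroup.map_commutator,
    Subgroup.map_le_map_iff_of_injective hφ]

include hφ in
theorem lower_map (X B : Subgroup G) :
    B.map φ ∈ kLowerStarFamily (X.map φ) ↔ B ∈ kLowerStarFamily X := by
  have hcond : ∀ A : Subgroup G,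
      ((A.map φ ∈ classTwoSubgroups H → A.map φ ≤ X.map φ →
        B.map φ ≤ Subgroup.normalizer ((A.map φ : Subgroup H) : Set H) →
        ⁅B.map φ, ⁅A.map φ, A.map φ⁆⁆ = ⊥ →
        ⁅⁅B.map φ ⊓ Subgroup.centralizer ((B.map φ : Subgroup H) : Set H), A.map φ⁆, A.map φ⁆ = ⊥ →
        ⁅B.map φ, A.map φ⁆ ≤ B.map φ ⊓ Subgroup.centralizer ((B.map φ : Subgroup H) : Set H)) ↔
      (A ∈ classTwoSubgroups G → A ≤ X → B ≤ Subgroup.normalizer (A : Set G) →
        ⁅B, ⁅A, A⁆⁆ = ⊥ → ⁅⁅B ⊓ Subgroup.centralizer (B : Set G), A⁆, A⁆ = ⊥ →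
        ⁅B, A⁆ ≤ B ⊓ Subgroup.centralizer (B : Set G))) := by
    intro A
    rw [classTwo_map φ hφ, Subgroup.map_le_map_iff_of_injective hφ, le_normalizer_map φ hφ,
      ← map_center φ hφ, ← Subgroup.map_commutator, ← Subgroup.map_commutator,
      ← Subgroup.map_commutator, ← Subgroup.map_commutator, ← Subgroup.map_commutator,
      Subgroup.map_eq_bot_iff_of_injective _ hφ, Subgroup.map_eq_bot_iff_of_injective _ hφ,
      Subgroup.map_le_map_iff_of_injective hφ]
  constructor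
  · rintro ⟨h1, h2, h3⟩
    refine ⟨(classTwo_map φ hφ B).mp h1, (le_normalizer_map φ hφ B X).mp h2, ?_⟩
    intro A
    exact (hcond A).mp (h3 (A.map φ))
  · rintro ⟨h1, h2, h3⟩
    refine ⟨(classTwo_map φ hφ B).mpr h1, (le_normalizer_map φ hφ B X).mpr h2, ?_⟩
    intro A hA hAX
    have hAr : A ≤ φ.range := hAX.trans (Subgroup.map_le_range φ X)
    have hAeq : (A.comap φ).map φ = A := Subgroup.map_comap_eq_self hAr
    have := (hcond (A.comap φ)).mpr (h3 (A.comap φ))
    rw [hAeq] at this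
    exact this hA hAX

end inj

section main

variable {P : Type*} [Group P] (Q : Subgroup P)

/-- the images of the K-sequence of `Q` in `P`. -/
def EE (n : ℕ) : Subgroup P := (kSeqEven ↥Q n).map Q.subtype
def OO (n : ℕ) : Subgroup P := (kSeqOdd ↥Q n).map Q.subtype

theorem OO_zero : OO Q 0 = Q := by
  show (⊤ : Subgroup ↥Q).map Q.subtype = Q
  rw [← MonoidHom.range_eq_map, Subgroup.range_subtype]

theorem map_sSup' {G H : Type*} [Group G] [Group H] (φ : G →* H) (𝒦 : Set (Subgroup G)) :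
    (sSup 𝒦).map φ = ⨆ B ∈ 𝒦, B.map φ := by
  rw [sSup_eq_iSup, Subgroup.map_iSup]
  congr 1
  funext B
  rw [Subgroup.map_iSup]

/-- lower bound for `EE`. -/
theorem le_EE (n : ℕ) (Y : Subgroup P) (hY : OO Q n ≤ Y) (hYQ : sSup (kLowerStarFamily Y) ≤ Q) :
    sSup (kLowerStarFamily Y) ≤ EE Q n := by
  apply sSup_le
  intro B hB
  have hBQ : B ≤ Q := (le_sSup hB).trans hYQ
  have hBr : B ≤ Q.subtype.range := by rw [Subgroup.range_subtype]; exact hBQ
  have hBeq : (B.comap Q.subtype).map Q.subtype = B := Subgroup.map_comap_eq_self hBr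
  have h1 : B ∈ kLowerStarFamily (OO Q n) := kLower_antitone hY hB
  rw [← hBeq] at h1
  have h2 := (lower_map Q.subtype Q.subtype_injective _ _).mp h1
  rw [← hBeq]
  exact Subgroup.map_mono (le_sSup h2)

theorem EE_le (n : ℕ) (Y : Subgroup P) (hY : Y ≤ OO Q n) :
    EE Q n ≤ sSup (kLowerStarFamily Y) := by
  show (sSup (kLowerStarFamily (kSeqOdd ↥Q n))).map Q.subtype ≤ _
  rw [map_sSup']
  apply iSup₂_le
  intro B' hB'
  have h1 := (lower_map Q.subtype Q.subtype_injective _ _).mpr hB'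
  exact le_sSup (kLower_antitone hY h1)

theorem OO_succ (n : ℕ) : OO Q (n + 1) =
    (sSup (kUpperStarFamily (kSeqEven ↥Q n))).map Q.subtype := rfl

theorem le_OO (n : ℕ) (Y : Subgroup P) (hY : EE Q n ≤ Y) (hYQ : sSup (kUpperStarFamily Y) ≤ Q) :
    sSup (kUpperStarFamily Y) ≤ OO Q (n + 1) := by
  apply sSup_le
  intro B hB
  have hBQ : B ≤ Q := (le_sSup hB).trans hYQ
  have hBr : B ≤ Q.subtype.range := by rw [Subgroup.range_subtype]; exact hBQ
  have hBeq : (B.comap Q.subtype).map Q.subtype = B := Subgroup.map_comap_eq_self hBr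
  have h1 : B ∈ kUpperStarFamily (EE Q n) := kUpper_antitone hY hB
  rw [← hBeq] at h1
  have h2 := (upper_map Q.subtype Q.subtype_injective _ _).mp h1
  rw [← hBeq, OO_succ]
  exact Subgroup.map_mono (le_sSup h2)

theorem OO_le (n : ℕ) (Y : Subgroup P) (hY : Y ≤ EE Q n) :
    OO Q (n + 1) ≤ sSup (kUpperStarFamily Y) := by
  rw [OO_succ, map_sSup']
  apply iSup₂_le
  intro B' hB'
  have h1 := (upper_map Q.subtype Q.subtype_injective _ _).mpr hB'
  exact le_sSup (kUpper_antitone hY h1)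

variable (hQ : ∀ n : ℕ, Cfsg.kSeqEven P n ≤ Q ∧ Cfsg.kSeqOdd P (n + 1) ≤ Q)

include hQ in
theorem chain1 (n : ℕ) : OO Q n ≤ kSeqOdd P n ∧ kSeqEven P n ≤ EE Q n := by
  induction n with
  | zero =>
    have h0 : OO Q 0 ≤ kSeqOdd P 0 := le_top
    exact ⟨h0, le_EE Q 0 _ h0 (hQ 0).1⟩
  | succ n ih =>
    have h1 : OO Q (n + 1) ≤ kSeqOdd P (n + 1) := OO_le Q n _ ih.2
    exact ⟨h1, le_EE Q (n + 1) _ h1 (hQ (n + 1)).1⟩

include hQ in
theorem chain2 (n : ℕ) : kSeqOdd P (n + 1) ≤ OO Q n ∧ EE Q n ≤ kSeqEven P (n + 1) := by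
  induction n with
  | zero =>
    have h0 : kSeqOdd P 1 ≤ OO Q 0 := by rw [OO_zero]; exact (hQ 0).2
    exact ⟨h0, EE_le Q 0 _ h0⟩
  | succ n ih =>
    have h1 : kSeqOdd P (n + 1 + 1) ≤ OO Q (n + 1) := le_OO Q n _ ih.2 (hQ (n + 1)).2
    exact ⟨h1, EE_le Q (n + 1) _ h1⟩

end main

/-- Let P be a finite p-group and Q a subgroup of P containing every term of the K-sequence of P of nonnegative index (every even-indexed term and every odd-indexed term after the initial term P). Then the K-infinity subgroups of Q, computed in Q and viewed in P, equal those of P. -/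
theorem result {P : Type*} [Group P] [Finite P] {p : ℕ} [Fact p.Prime] (hP : IsPGroup p P) (Q : Subgroup P) (hQ : ∀ n : ℕ, Cfsg.kSeqEven P n ≤ Q ∧ Cfsg.kSeqOdd P (n + 1) ≤ Q) : (Cfsg.kInfLower ↥Q).map Q.subtype = Cfsg.kInfLower P ∧ (Cfsg.kInfUpper ↥Q).map Q.subtype = Cfsg.kInfUpper P := by
  constructor
  · show (⨆ n, kSeqEven ↥Q n).map Q.subtype = ⨆ n, kSeqEven P n
    rw [Subgroup.map_iSup]
    apply le_antisymm
    · apply iSup_le
      intro n
      exact ((chain2 Q hQ n).2).trans (le_iSup (kSeqEven P) (n + 1))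
    · apply iSup_le
      intro n
      exact ((chain1 Q hQ n).2).trans (le_iSup (fun n => (kSeqEven ↥Q n).map Q.subtype) n)
  · show (⨅ n, kSeqOdd ↥Q n).map Q.subtype = ⨅ n, kSeqOdd P n
    rw [Subgroup.map_iInf _ Q.subtype_injective]
    apply le_antisymm
    · apply le_iInf
      intro n
      exact (iInf_le (fun n => (kSeqOdd ↥Q n).map Q.subtype) n).trans (chain1 Q hQ n).1
    · apply le_iInf
      intro n
      exact (iInf_le (kSeqOdd P) (n + 1)).trans (chain2 Q hQ n).1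

end Cfsg.Agent.S1979
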