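import Cfsg.Statements.S1981
import Cfsg.Agent.Lib.Helper3_KInf

set_option autoImplicit false
open Cfsg

namespace Cfsg.Agent.S1981

open Cfsg.Agent.Lib.Helper3_KInf in
theorem result {P : Type*} [Group P] [Finite P] {p : ℕ} [Fact p.Prime] (hP : IsPGroup p P) (hgen : ⨆ A ∈ {A : Subgroup P | A.Normal ∧ IsMulCommutative ↥A}, A = ⊤) : Cfsg.kInfLower P = ⊤ ∧ Cfsg.kInfUpper P = ⊤ := by
  constructor
  · rw [eq_top_iff, ← hgen]
    apply iSup₂_le
    rintro A ⟨hAn, hAc⟩
    haveI := hAn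
    have h1 : A ≤ kSeqEven P 0 := le_sSup (abelian_normal_mem_kLower A hAc _)
    exact h1.trans (le_iSup (fun n => kSeqEven P n) 0)
  · rw [eq_top_iff, ← hgen]
    apply iSup₂_le
    rintro A ⟨hAn, hAc⟩
    haveI := hAn
    show A ≤ ⨅ n, kSeqOdd P n
    apply le_iInf
    intro n
    cases n with
    | zero => show A ≤ (⊤ : Subgroup P); exact le_top
    | succ n => exact le_sSup (abelian_normal_mem_kUpper A hAc _)

end Cfsg.Agent.S1981
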