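import Cfsg.Statements.S2005
import Mathlib
import Cfsg.Agent.Lib.Lead_Ind

set_option autoImplicit false
universe u
open Cfsg

namespace Cfsg.Agent.S2005

open Cfsg.Agent.Lib.Helper7_NPC Cfsg.Agent.Lib.Lead_GTb Cfsg.Agent.Lib.Lead_Ind


/-- Thompson's normal p-complement criterion in functor form. Let p be a prime, G a finite group with Sylow p-subgroup S, and W an isomorphism-invariant p-group functor (W assigns to every group Q a subgroup W(Q), nontrivial whenever Q is a nontrivial finite p-group, and every isomorphism from a finite p-group Q onto a group R carries W(Q) onto W(R)). Suppose N_G(W(S)) has a normal p-complement, and that W(S*) is normal in G* whenever G* = K/R is a section of G with C_{G*}(O_p(G*)) ≤ O_p(G*) such that G*/O_p(G*) has a normal p-complement, and S* is a Sylow p-subgroup of G* that is a maximal subgroup of G*. Then G has a normal p-complement. -/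
theorem result {G : Type u} [Group G] [Finite G] {p : ℕ} [Fact p.Prime] (W : ∀ (Q : Type u) [Group Q], Subgroup Q) (hW : Cfsg.IsCharPFunctor.{u} p W) (S : Sylow p G) (hN : Cfsg.HasNormalPComplement p ↥(Subgroup.normalizer ((Cfsg.inducedFunctor (G := G) W (S : Subgroup G) : Subgroup G) : Set G))) (hloc : ∀ (K R : Subgroup G) [hR : (R.subgroupOf K).Normal], Subgroup.centralizer ((Cfsg.pCore p (↥K ⧸ R.subgroupOf K) : Subgroup (↥K ⧸ R.subgroupOf K)) : Set (↥K ⧸ R.subgroupOf K)) ≤ Cfsg.pCore p (↥K ⧸ R.subgroupOf K) → Cfsg.HasNormalPComplement p ((↥K ⧸ R.subgroupOf K) ⧸ Cfsg.pCore p (↥K ⧸ R.subgroupOf K)) → ∀ T : Sylow p (↥K ⧸ R.subgroupOf K), IsCoatom (T : Subgroup (↥K ⧸ R.subgroupOf K)) → (Cfsg.inducedFunctor (G := (↥K ⧸ R.subgroupOf K)) W ((T : Subgroup (↥K ⧸ R.subgroupOf K)))).Normal) : Cfsg.HasNormalPComplement p G := by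
  rw [hasNormalPComplement_iff_npc] at hN ⊢
  have hend : ∀ (X : Type u) [Group X] [Finite X], (locClass p W).mem X → EndConfig p X →
      ∀ S' : Sylow p X, ((indFun W hW).W X (S' : Subgroup X)).Normal := by
    intro X _ _ hX hE S'
    obtain ⟨H, K, hHn, hKn, hHp, hHO, hHK, hab, hcop, hKi, hcent, hco⟩ := hE
    have hLoc : Loc p W X :=
      hX X ⟨⊤, (Subgroup.topEquiv : ↥(⊤ : Subgroup X) ≃* X).toMonoidHom,
        (Subgroup.topEquiv : ↥(⊤ : Subgroup X) ≃* X).surjective⟩
    subst hHO
    refine hLoc hcent ?_ S' (hco S')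
    rw [hasNormalPComplement_iff_npc]
    obtain ⟨k, hk⟩ := hKi
    refine ⟨K.map (QuotientGroup.mk' (Cfsg.pCore p X)),
      hKn.map _ (QuotientGroup.mk'_surjective _), ?_, k, ?_⟩
    · rw [Cfsg.Agent.Lib.Lead_GT6.card_map_mk_eq_relIndex]; exact hcop
    · rw [Subgroup.index_map_eq _ (QuotientGroup.mk'_surjective _)
        (by rw [QuotientGroup.ker_mk']; exact hHK)]
      exact hk
  have h𝒢 : (locClass p W).mem G := by
    intro Y _ _ hY
    obtain ⟨M, f, hf⟩ := hY
    set R := f.ker.map M.subtype with hR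
    have hker : R.subgroupOf M = f.ker := by
      rw [hR, Subgroup.subgroupOf, Subgroup.comap_map_eq_self_of_injective M.subtype_injective]
    haveI hRn : (R.subgroupOf M).Normal := by rw [hker]; infer_instance
    have h1 : Loc p W (↥M ⧸ R.subgroupOf M) := hloc M R
    exact loc_of_equiv W hW ((QuotientGroup.quotientMulEquivOfEq hker).trans
      (QuotientGroup.quotientKerEquivOfSurjective f hf)) h1
  exact main_b (indFun W hW) (locClass p W) hend G h𝒢 (hyp_of_single (indFun W hW) S hN)

end Cfsg.Agent.S2005
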