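import Cfsg.Statements.S2001
import Cfsg.Agent.S1960
import Cfsg.Agent.S1963
import Cfsg.Agent.Lib.Helper1_Index

set_option autoImplicit false
open Cfsg

namespace Cfsg.Agent.S2001

open Cfsg.Agent.Lib.Helper3_Conj Cfsg.Agent.Lib.Helper3_SylowRel Cfsg.Agent.Lib.Helper3_Alperin
open Cfsg.Agent.S1960 (Gd gd_mono gd_comp gd_inv)
open scoped commutatorElement

variable {G : Type*} [Group G]

theorem conj_mem_centralizer_map_conj (A : Subgroup G) (u s : G)
    (hs : s ∈ Subgroup.centralizer ((A : Subgroup G) : Set G)) :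
    u * s * u⁻¹ ∈ Subgroup.centralizer ((A.map (MulAut.conj u).toMonoidHom : Subgroup G) : Set G) := by
  rw [Subgroup.mem_centralizer_iff] at hs ⊢
  rintro _ ⟨a, ha, rfl⟩
  have := hs a ha
  simp only [MulEquiv.coe_toMonoidHom, MulAut.conj_apply]
  calc u * a * u⁻¹ * (u * s * u⁻¹) = u * (a * s) * u⁻¹ := by group
    _ = u * (s * a) * u⁻¹ := by rw [this]
    _ = u * s * u⁻¹ * (u * a * u⁻¹) := by group

theorem map_conj_centralizer (A : Subgroup G) (u : G) :
    (Subgroup.centralizer ((A : Subgroup G) : Set G)).map (MulAut.conj u).toMonoidHom =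
      Subgroup.centralizer ((A.map (MulAut.conj u).toMonoidHom : Subgroup G) : Set G) := by
  ext x
  constructor
  · rintro ⟨s, hs, rfl⟩
    simp only [MulEquiv.coe_toMonoidHom, MulAut.conj_apply]
    exact conj_mem_centralizer_map_conj A u s hs
  · intro hx
    rw [mem_map_conj]
    have := conj_mem_centralizer_map_conj _ u⁻¹ x hx
    rw [map_conj_map_conj, inv_mul_cancel, map_conj_one, inv_inv] at this
    exact this

/-- local control of transfer (inclusion form) -/
def LocT (W V : Subgroup G → Subgroup G) (N Q : Subgroup G) : Prop :=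
  Q ⊓ ⁅N, N⁆ ≤ (Q ⊓ ⁅N ⊓ Subgroup.normalizer ((W Q : Subgroup G) : Set G),
      N ⊓ Subgroup.normalizer ((W Q : Subgroup G) : Set G)⁆) ⊔
    (Q ⊓ ⁅N ⊓ Subgroup.centralizer ((V Q : Subgroup G) : Set G),
      N ⊓ Subgroup.centralizer ((V Q : Subgroup G) : Set G)⁆)

theorem locT_conj {p : ℕ} (W V : Subgroup G → Subgroup G) (hW : Cfsg.IsConjugacyFunctor p W)
    (hV : Cfsg.IsConjugacyFunctor p V) (N Q : Subgroup G) (hQ : IsPGroup p ↥Q)
    (h : LocT W V N Q) (u : G) :
    LocT W V (N.map (MulAut.conj u).toMonoidHom) (Q.map (MulAut.conj u).toMonoidHom) := by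
  have hinj : Function.Injective (MulAut.conj u).toMonoidHom := (MulAut.conj u).injective
  have h1 := Subgroup.map_mono (f := (MulAut.conj u).toMonoidHom) h
  rw [Subgroup.map_sup, Subgroup.map_inf_eq _ _ _ hinj, Subgroup.map_inf_eq _ _ _ hinj,
    Subgroup.map_inf_eq _ _ _ hinj, Subgroup.map_commutator, Subgroup.map_commutator,
    Subgroup.map_commutator, Subgroup.map_inf_eq _ _ _ hinj, Subgroup.map_inf_eq _ _ _ hinj,
    Subgroup.map_equiv_normalizer_eq (W Q) (MulAut.conj u), map_conj_centralizer,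
    ← (hW Q hQ).2.2 u, ← (hV Q hQ).2.2 u] at h1
  exact h1

theorem locT_sylow [Finite G] {p : ℕ} [Fact p.Prime] (W V : Subgroup G → Subgroup G)
    (hW : Cfsg.IsConjugacyFunctor p W)
    (hV : Cfsg.IsConjugacyFunctor p V) (N Q R : Subgroup G) (hQN : Q ≤ N) (hQ : IsPGroup p ↥Q)
    (hQi : ¬ p ∣ Q.relIndex N) (hRN : R ≤ N) (hR : IsPGroup p ↥R) (hRi : ¬ p ∣ R.relIndex N)
    (h : LocT W V N Q) : LocT W V N R := by
  obtain ⟨u, huN, hu⟩ := Cfsg.Agent.S1961.exists_conj_eq_of_relIndex N R Q hRN hR hRi hQN hQ hQi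
  have := locT_conj W V hW hV N Q hQ h u
  rw [hu, map_conj_eq_self_of_mem_normalizer N u (Subgroup.le_normalizer huN)] at this
  exact this

/-- local control, in the form of the statement -/
def HLoc (W V : Subgroup G → Subgroup G) (N Q : Subgroup G) : Prop :=
  ∀ x : G, x ∈ Q ⊓ ⁅N, N⁆ ↔ ∃ a ∈ Q ⊓ ⁅N ⊓ Subgroup.normalizer ((W Q : Subgroup G) : Set G), N ⊓ Subgroup.normalizer ((W Q : Subgroup G) : Set G)⁆, ∃ b ∈ Q ⊓ ⁅N ⊓ Subgroup.centralizer ((V Q : Subgroup G) : Set G), N ⊓ Subgroup.centralizer ((V Q : Subgroup G) : Set G)⁆, x = a * b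

theorem locT_of_hloc (W V : Subgroup G → Subgroup G) (N Q : Subgroup G) (h : HLoc W V N Q) :
    LocT W V N Q := by
  intro x hx
  obtain ⟨a, ha, b, hb, rfl⟩ := (h x).mp hx
  exact Subgroup.mul_mem _ (Subgroup.mem_sup_left ha) (Subgroup.mem_sup_right hb)

section main

variable [Finite G] {p : ℕ} [hp : Fact p.Prime] (P : Sylow p G) (W V : Subgroup G → Subgroup G)

/-- The target subgroup. -/
def DD (P : Sylow p G) (W V : Subgroup G → Subgroup G) : Subgroup G :=
  ((P : Subgroup G) ⊓ ⁅Subgroup.normalizer ((W (P : Subgroup G) : Subgroup G) : Set G),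
    Subgroup.normalizer ((W (P : Subgroup G) : Subgroup G) : Set G)⁆) ⊔
  ((P : Subgroup G) ⊓ ⁅Subgroup.centralizer ((V (P : Subgroup G) : Subgroup G) : Set G),
    Subgroup.centralizer ((V (P : Subgroup G) : Subgroup G) : Set G)⁆)

def PP (P : Sylow p G) (W V : Subgroup G → Subgroup G) (A : Subgroup G) : Prop :=
  ∀ g : G, (∀ a ∈ A, g * a * g⁻¹ ∈ (P : Subgroup G)) → Gd (DD P W V) (A : Set G) g

def QQ (P : Sylow p G) (W V : Subgroup G → Subgroup G) (R : Subgroup G) : Prop :=
  (R ⊓ ⁅Subgroup.normalizer ((W R : Subgroup G) : Set G),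
    Subgroup.normalizer ((W R : Subgroup G) : Set G)⁆) ⊔
  (R ⊓ ⁅Subgroup.centralizer ((V R : Subgroup G) : Set G),
    Subgroup.centralizer ((V R : Subgroup G) : Set G)⁆) ≤ DD P W V

omit [Finite G] hp in
theorem QQ_top : QQ P W V (P : Subgroup G) := le_refl _

omit [Finite G] hp in
/-- From local control at `R' = N_P(V')` and `QQ R'`. -/
theorem loc (V' : Subgroup G)
    (hlc : LocT W V (Subgroup.normalizer ((V' : Subgroup G) : Set G))
      ((P : Subgroup G) ⊓ Subgroup.normalizer ((V' : Subgroup G) : Set G)))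
    (hQ : QQ P W V ((P : Subgroup G) ⊓ Subgroup.normalizer ((V' : Subgroup G) : Set G))) :
    ((P : Subgroup G) ⊓ Subgroup.normalizer ((V' : Subgroup G) : Set G)) ⊓
      ⁅Subgroup.normalizer ((V' : Subgroup G) : Set G), Subgroup.normalizer ((V' : Subgroup G) : Set G)⁆
      ≤ DD P W V := by
  refine hlc.trans (le_trans ?_ hQ)
  exact sup_le_sup (inf_le_inf_left _ (Subgroup.commutator_mono inf_le_right inf_le_right))
    (inf_le_inf_left _ (Subgroup.commutator_mono inf_le_right inf_le_right))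

omit [Finite G] hp in
theorem loc' (V' : Subgroup G)
    (hlc : LocT W V (Subgroup.normalizer ((V' : Subgroup G) : Set G))
      ((P : Subgroup G) ⊓ Subgroup.normalizer ((V' : Subgroup G) : Set G)))
    (hQ : QQ P W V ((P : Subgroup G) ⊓ Subgroup.normalizer ((V' : Subgroup G) : Set G)))
    (m : G) (hm : m ∈ Subgroup.normalizer ((V' : Subgroup G) : Set G)) (b : G)
    (hb : b ∈ (P : Subgroup G) ⊓ Subgroup.normalizer ((V' : Subgroup G) : Set G))
    (hbm : m * b * m⁻¹ ∈ (P : Subgroup G) ⊓ Subgroup.normalizer ((V' : Subgroup G) : Set G)) :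
    b⁻¹ * (m * b * m⁻¹) ∈ DD P W V := by
  apply loc P W V V' hlc hQ
  refine ⟨Subgroup.mul_mem _ (Subgroup.inv_mem _ hb) hbm, ?_⟩
  have e : b⁻¹ * (m * b * m⁻¹) = ⁅b⁻¹, m⁆ := by rw [commutatorElement_def]; group
  rw [e]
  exact Subgroup.commutator_mem_commutator (Subgroup.inv_mem _ hb.2) hm

variable (hW : Cfsg.IsConjugacyFunctor p W) (hV : Cfsg.IsConjugacyFunctor p V)
  (hWZ : ∀ H : Subgroup G, IsPGroup p ↥H → H ⊓ Subgroup.centralizer ((H : Subgroup G) : Set G) ≤ W H)
  (hVmono : ∀ H K : Subgroup G, IsPGroup p ↥H → IsPGroup p ↥K → H ≠ ⊥ → K ≠ ⊥ → H ⊓ Subgroup.centralizer ((H : Subgroup G) : Set G) ≤ K ⊓ Subgroup.centralizer ((K : Subgroup G) : Set G) → V H ≤ V K)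
  (hloc : ∀ H : Subgroup G, (P : Subgroup G) ⊓ Subgroup.centralizer (((P : Subgroup G) : Subgroup G) : Set G) ≤ H → H ≤ (P : Subgroup G) → ∃ Q : Subgroup G, Q ≤ Subgroup.normalizer ((H : Subgroup G) : Set G) ∧ IsPGroup p ↥Q ∧ ¬ p ∣ (Q).relIndex (Subgroup.normalizer ((H : Subgroup G) : Set G)) ∧ HLoc W V (Subgroup.normalizer ((H : Subgroup G) : Set G)) Q)

include hW hV hloc in
/-- Local control at `N_P(H')` for every tame conjugate `H'` of a subgroup `H ⊇ Z(P)` of `P`. -/
theorem lc_at (H : Subgroup G)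
    (hZH : (P : Subgroup G) ⊓ Subgroup.centralizer (((P : Subgroup G) : Subgroup G) : Set G) ≤ H)
    (hHP : H ≤ (P : Subgroup G)) (y : G)
    (hy : ¬ p ∣ ((P : Subgroup G) ⊓ Subgroup.normalizer
        ((H.map (MulAut.conj y).toMonoidHom : Subgroup G) : Set G)).relIndex
      (Subgroup.normalizer ((H.map (MulAut.conj y).toMonoidHom : Subgroup G) : Set G))) :
    LocT W V (Subgroup.normalizer ((H.map (MulAut.conj y).toMonoidHom : Subgroup G) : Set G))
      ((P : Subgroup G) ⊓ Subgroup.normalizer ((H.map (MulAut.conj y).toMonoidHom : Subgroup G) : Set G)) := by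
  obtain ⟨Q, hQN, hQp, hQi, hQ⟩ := hloc H hZH hHP
  have h1 := locT_conj W V hW hV _ Q hQp (locT_of_hloc W V _ Q hQ) y
  rw [Subgroup.map_equiv_normalizer_eq H (MulAut.conj y)] at h1
  have hQN' : Q.map (MulAut.conj y).toMonoidHom ≤
      Subgroup.normalizer ((H.map (MulAut.conj y).toMonoidHom : Subgroup G) : Set G) := by
    rw [← Subgroup.map_equiv_normalizer_eq H (MulAut.conj y)]
    exact Subgroup.map_mono hQN
  have hQi' : ¬ p ∣ (Q.map (MulAut.conj y).toMonoidHom).relIndex
      (Subgroup.normalizer ((H.map (MulAut.conj y).toMonoidHom : Subgroup G) : Set G)) := by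
    rw [← Subgroup.map_equiv_normalizer_eq H (MulAut.conj y)]
    have := Subgroup.relIndex_map_map_of_injective (f := (MulAut.conj y).toMonoidHom) Q
      (Subgroup.normalizer ((H : Subgroup G) : Set G)) (MulAut.conj y).injective
    rw [this]; exact hQi
  exact locT_sylow W V hW hV _ _ _ hQN' (hQp.map _) hQi' inf_le_right (P.2.to_le inf_le_left) hy h1

include hW hV hWZ hVmono hloc in
theorem QQ_step (A : Subgroup G) (hAS : A ≤ (P : Subgroup G)) (hne : A ≠ (P : Subgroup G))
    (hZA : (P : Subgroup G) ⊓ Subgroup.centralizer (((P : Subgroup G) : Subgroup G) : Set G) ≤ A)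
    (IHP : ∀ B : Subgroup G, B ≤ (P : Subgroup G) → Nat.card A < Nat.card B → PP P W V B)
    (IHQ : ∀ B : Subgroup G, B ≤ (P : Subgroup G) → Nat.card A < Nat.card B →
      (P : Subgroup G) ⊓ Subgroup.centralizer (((P : Subgroup G) : Subgroup G) : Set G) ≤ B →
      QQ P W V B) :
    QQ P W V A := by
  by_cases hA : A = ⊥
  · have : ∀ X Y : Subgroup G, (A ⊓ X) ⊔ (A ⊓ Y) ≤ DD P W V := by
      intro X Y
      rw [hA, bot_inf_eq, bot_inf_eq, sup_bot_eq]; exact bot_le
    exact this _ _
  have hAp : IsPGroup p ↥A := P.2.to_le hAS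
  have hZPA : (P : Subgroup G) ⊓ Subgroup.centralizer (((P : Subgroup G) : Subgroup G) : Set G) ≤
      A ⊓ Subgroup.centralizer ((A : Subgroup G) : Set G) :=
    le_inf hZA (inf_le_right.trans (Subgroup.centralizer_le (fun a ha => hAS ha)))
  apply sup_le
  swap
  · -- C(V A) ≤ C(V P)
    have hPne : (P : Subgroup G) ≠ ⊥ := by
      intro h
      apply hA
      rw [eq_bot_iff, ← h]; exact hAS
    have hVV : V (P : Subgroup G) ≤ V A := hVmono _ _ P.2 hAp hPne hA hZPA
    have hCC : Subgroup.centralizer ((V A : Subgroup G) : Set G) ≤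
        Subgroup.centralizer ((V (P : Subgroup G) : Subgroup G) : Set G) :=
      Subgroup.centralizer_le (fun v hv => hVV hv)
    exact le_trans (inf_le_inf hAS (Subgroup.commutator_mono hCC hCC)) le_sup_right
  -- the normalizer of W(A)
  intro z hz
  set V₁ := W A with hV₁def
  have hVA : V₁ ≤ A := (hW A hAp).1
  have hZV : (P : Subgroup G) ⊓ Subgroup.centralizer (((P : Subgroup G) : Subgroup G) : Set G) ≤ V₁ :=
    hZPA.trans (hWZ A hAp)
  have hVS : V₁ ≤ (P : Subgroup G) := hVA.trans hAS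
  set R₁ := (P : Subgroup G) ⊓ Subgroup.normalizer ((V₁ : Subgroup G) : Set G) with hR₁
  have hNA : (P : Subgroup G) ⊓ Subgroup.normalizer ((A : Subgroup G) : Set G) ≤ R₁ :=
    inf_le_inf_left _ (Cfsg.Agent.S1960.normalizer_le_normalizer_functor W hW A hAp)
  have hAR₁ : A ≤ R₁ := (le_inf hAS Subgroup.le_normalizer).trans hNA
  have hlt1 : Nat.card A < Nat.card R₁ :=
    lt_of_lt_of_le (card_lt_card_inf_normalizer (P : Subgroup G) A P.2 hAS hne)
      (Subgroup.card_le_of_le hNA)
  obtain ⟨y, hy1, hy2⟩ := Cfsg.Agent.S1963.exists_conj_sylow_normalizer P V₁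
  set V' := V₁.map (MulAut.conj y).toMonoidHom with hV'
  set R₁' := (P : Subgroup G) ⊓ Subgroup.normalizer ((V' : Subgroup G) : Set G) with hR₁'
  have hNV' : Subgroup.normalizer ((V' : Subgroup G) : Set G) =
      (Subgroup.normalizer ((V₁ : Subgroup G) : Set G)).map (MulAut.conj y).toMonoidHom := by
    rw [hV', ← Subgroup.map_equiv_normalizer_eq V₁ (MulAut.conj y)]
  have hRR : R₁.map (MulAut.conj y).toMonoidHom ≤ R₁' := by
    refine le_inf hy1 ?_
    rw [hNV']
    exact Subgroup.map_mono inf_le_right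
  have hlt2 : Nat.card A < Nat.card R₁' := by
    have h1 : Nat.card (R₁.map (MulAut.conj y).toMonoidHom) = Nat.card R₁ :=
      Subgroup.card_map_of_injective (MulAut.conj y).injective
    have h2 := Subgroup.card_le_of_le hRR
    omega
  have hV'S : V' ≤ (P : Subgroup G) :=
    (Subgroup.map_mono (le_inf hVS Subgroup.le_normalizer)).trans hy1
  have hZR₁' : (P : Subgroup G) ⊓ Subgroup.centralizer (((P : Subgroup G) : Subgroup G) : Set G) ≤ R₁' := by
    refine le_inf inf_le_left ?_
    refine inf_le_right.trans ?_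
    exact (Subgroup.centralizer_le (fun v hv => hV'S hv)).trans (Subgroup.centralizer_le_normalizer _)
  have hlc := lc_at P W V hW hV hloc V₁ hZV hVS y hy2
  have hPR₁ : PP P W V R₁ := IHP R₁ inf_le_left hlt1
  have hQR₁' : QQ P W V R₁' := IHQ R₁' inf_le_left hlt2 hZR₁'
  have hygood : Gd (DD P W V) (R₁ : Set G) y :=
    hPR₁ y (fun b hb => hy1 (conj_mem_map_conj R₁ y b hb))
  have h1 : y * z * y⁻¹ ∈ DD P W V := by
    apply loc P W V V' hlc hQR₁'
    refine ⟨hRR (conj_mem_map_conj R₁ y z (hAR₁ hz.1)), ?_⟩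
    rw [hNV', ← Subgroup.map_commutator]
    exact conj_mem_map_conj _ y z hz.2
  have h2 : z⁻¹ * (y * z * y⁻¹) ∈ DD P W V := hygood z (hAR₁ hz.1)
  have e : z = (y * z * y⁻¹) * (z⁻¹ * (y * z * y⁻¹))⁻¹ := by group
  rw [e]
  exact Subgroup.mul_mem _ h1 (Subgroup.inv_mem _ h2)

include hW hV hWZ hVmono hloc in
theorem PP_step (A : Subgroup G) (hAS : A ≤ (P : Subgroup G))
    (IHP : ∀ B : Subgroup G, B ≤ (P : Subgroup G) → Nat.card A < Nat.card B → PP P W V B)
    (IHQ : ∀ B : Subgroup G, B ≤ (P : Subgroup G) → Nat.card A < Nat.card B →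
      (P : Subgroup G) ⊓ Subgroup.centralizer (((P : Subgroup G) : Subgroup G) : Set G) ≤ B →
      QQ P W V B) :
    PP P W V A := by
  by_cases hAeq : A = (P : Subgroup G)
  · intro g hg
    have hg' : ∀ a ∈ A, g * a * g⁻¹ ∈ A := by
      intro a ha; rw [hAeq]; exact hg a ha
    have hgN : g ∈ Subgroup.normalizer ((A : Subgroup G) : Set G) :=
      Cfsg.Agent.S1960.mem_normalizer_of_conj_le' A g hg'
    have hinf : (P : Subgroup G) ⊓ Subgroup.normalizer ((A : Subgroup G) : Set G) = (P : Subgroup G) := by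
      rw [inf_eq_left, ← hAeq]; exact Subgroup.le_normalizer
    have hcond : ¬ p ∣ ((P : Subgroup G) ⊓ Subgroup.normalizer ((A : Subgroup G) : Set G)).relIndex
        (Subgroup.normalizer ((A : Subgroup G) : Set G)) := by
      rw [hinf]
      intro hdvd
      apply P.not_dvd_index
      have hle : (P : Subgroup G) ≤ Subgroup.normalizer ((A : Subgroup G) : Set G) := by
        rw [← hAeq]; exact Subgroup.le_normalizer
      exact dvd_trans hdvd (Subgroup.relIndex_dvd_index_of_le hle)
    have hZA : (P : Subgroup G) ⊓ Subgroup.centralizer (((P : Subgroup G) : Subgroup G) : Set G) ≤ A := by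
      rw [hAeq]; exact inf_le_left
    have hlc := lc_at P W V hW hV hloc A hZA hAS 1 (by rw [map_conj_one]; exact hcond)
    rw [map_conj_one] at hlc
    have hQ : QQ P W V ((P : Subgroup G) ⊓ Subgroup.normalizer ((A : Subgroup G) : Set G)) := by
      rw [hinf]; exact QQ_top P W V
    intro a ha
    apply loc' P W V A hlc hQ g hgN
    · rw [hinf]; exact hAS ha
    · rw [hinf]; exact hg a ha
  · obtain ⟨y, hy1, hy2⟩ := Cfsg.Agent.S1963.exists_conj_sylow_normalizer P A
    set U := A.map (MulAut.conj y).toMonoidHom with hU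
    have hUS : U ≤ (P : Subgroup G) :=
      (Subgroup.map_mono (le_inf hAS Subgroup.le_normalizer)).trans hy1
    have hUcard : Nat.card U = Nat.card A :=
      Subgroup.card_map_of_injective (MulAut.conj y).injective
    have hAlt : Nat.card A < Nat.card (P : Subgroup G) := by
      by_contra hcon
      push Not at hcon
      exact hAeq (Subgroup.eq_of_le_of_card_ge hAS hcon)
    have hUneS : U ≠ (P : Subgroup G) := by
      intro hcon
      rw [hcon] at hUcard
      omega
    set N := Subgroup.normalizer ((U : Subgroup G) : Set G) with hN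
    set R := (P : Subgroup G) ⊓ N with hR
    have hlt : Nat.card A < Nat.card ↥R := by
      rw [← hUcard]
      exact card_lt_card_inf_normalizer (P : Subgroup G) U P.2 hUS hUneS
    have hNU : ∀ m ∈ N, ∀ u ∈ U, m * u * m⁻¹ ∈ U := fun m hm u hu =>
      (Subgroup.mem_normalizer_iff.mp hm u).mp hu
    have hUgood : ∀ m ∈ N, Gd (DD P W V) (U : Set G) m := by
      by_cases hcen : (P : Subgroup G) ⊓ Subgroup.centralizer ((U : Subgroup G) : Set G) ≤ U
      · -- centric case: local control at U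
        have hZU : (P : Subgroup G) ⊓ Subgroup.centralizer (((P : Subgroup G) : Subgroup G) : Set G) ≤ U :=
          (inf_le_inf_left _ (Subgroup.centralizer_le (fun u hu => hUS hu))).trans hcen
        have hlc := lc_at P W V hW hV hloc U hZU hUS 1 (by rw [map_conj_one]; exact hy2)
        rw [map_conj_one] at hlc
        have hQ : QQ P W V R := IHQ R inf_le_left hlt (hZU.trans (le_inf hUS Subgroup.le_normalizer))
        intro m hm u hu
        apply loc' P W V U hlc hQ m hm
        · exact ⟨hUS hu, Subgroup.le_normalizer hu⟩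
        · have := hNU m hm u hu
          exact ⟨hUS this, Subgroup.le_normalizer this⟩
      · -- non-centric case: Frattini argument
        set C := Subgroup.centralizer ((U : Subgroup G) : Set G) with hC
        set D := (P : Subgroup G) ⊓ C with hD
        have hCN : C ≤ N := Subgroup.centralizer_le_normalizer _
        have hCnorm : (C.subgroupOf N).Normal := by
          constructor
          intro c hc n
          rw [Subgroup.mem_subgroupOf] at hc ⊢
          rw [hC, Subgroup.mem_centralizer_iff] at hc ⊢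
          intro u hu
          have hnu : (n : G)⁻¹ * u * (n : G) ∈ U := by
            have := hNU (n : G)⁻¹ (Subgroup.inv_mem _ n.2) u hu
            rwa [inv_inv] at this
          have h1 := hc _ hnu
          simp only [Subgroup.coe_mul, Subgroup.coe_inv]
          calc u * ((n : G) * (c : G) * (n : G)⁻¹)
              = (n : G) * (((n : G)⁻¹ * u * (n : G)) * (c : G)) * (n : G)⁻¹ := by group
            _ = (n : G) * ((c : G) * ((n : G)⁻¹ * u * (n : G))) * (n : G)⁻¹ := by rw [h1]
            _ = (n : G) * (c : G) * (n : G)⁻¹ * u := by group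
        have hDrel : ¬ p ∣ D.relIndex C := by
          intro hdvd
          apply hy2
          have h1 := Cfsg.Agent.Lib.Helper1_Index.relIndex_dvd_of_normal (P : Subgroup G) C N hCN hCnorm
          rw [Subgroup.inf_relIndex_right] at hdvd ⊢
          exact dvd_trans hdvd h1
        have hDp : IsPGroup p ↥D := P.2.to_le inf_le_left
        set U₁ := U ⊔ D with hU₁
        have hU₁P : U₁ ≤ (P : Subgroup G) := sup_le hUS inf_le_left
        have hU₁lt : Nat.card A < Nat.card U₁ := by
          rw [← hUcard]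
          by_contra hcon
          push Not at hcon
          have := Subgroup.eq_of_le_of_card_ge (le_sup_left : U ≤ U₁) hcon
          apply hcen
          rw [this]; exact le_sup_right
        have hPU₁ : PP P W V U₁ := IHP U₁ hU₁P hU₁lt
        intro m hm
        -- conjugate of D by m lies in C
        set D' := D.map (MulAut.conj m).toMonoidHom with hD'
        have hD'C : D' ≤ C := by
          rintro _ ⟨d, hd, rfl⟩
          have hdC : (⟨d, hCN hd.2⟩ : N) ∈ C.subgroupOf N := by
            rw [Subgroup.mem_subgroupOf]; exact hd.2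
          have := hCnorm.conj_mem _ hdC ⟨m, hm⟩
          rw [Subgroup.mem_subgroupOf] at this
          simpa [MulAut.conj_apply] using this
        obtain ⟨c, hcC, hc⟩ := exists_conj_le_of_relIndex C D D' inf_le_right hDp hDrel hD'C (hDp.map _)
        have hcmD : c * m ∈ Subgroup.normalizer ((D : Subgroup G) : Set G) := by
          apply Cfsg.Agent.S1960.mem_normalizer_of_conj_le'
          intro d hd
          have := hc (m * d * m⁻¹) (conj_mem_map_conj D m d hd)
          have e : c * m * d * (c * m)⁻¹ = c * (m * d * m⁻¹) * c⁻¹ := by group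
          rw [e]; exact this
        have hcmN : c * m ∈ N := Subgroup.mul_mem _ (hCN hcC) hm
        have hcmU₁ : ∀ a ∈ U₁, (c * m) * a * (c * m)⁻¹ ∈ U₁ := by
          have hle : U₁ ≤ U₁.comap (MulAut.conj (c * m)).toMonoidHom := by
            rw [hU₁]
            apply sup_le
            · intro u hu
              show (MulAut.conj (c * m)) u ∈ U ⊔ D
              rw [MulAut.conj_apply]
              exact Subgroup.mem_sup_left (hNU _ hcmN u hu)
            · intro d hd
              show (MulAut.conj (c * m)) d ∈ U ⊔ D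
              rw [MulAut.conj_apply]
              exact Subgroup.mem_sup_right ((Subgroup.mem_normalizer_iff.mp hcmD d).mp hd)
          intro a ha
          have := hle ha
          have h2 : (MulAut.conj (c * m)) a ∈ U₁ := this
          rwa [MulAut.conj_apply] at h2
        have g1 : Gd (DD P W V) (U₁ : Set G) (c * m) := hPU₁ (c * m) (fun a ha => hU₁P (hcmU₁ a ha))
        intro u hu
        have g2 := g1 u ((le_sup_left : U ≤ U₁) hu)
        have hc' : c⁻¹ ∈ C := Subgroup.inv_mem _ hcC
        rw [hC, Subgroup.mem_centralizer_iff] at hc'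
        have hcu := hc' (m * u * m⁻¹) (hNU m hm u hu)
        have e : c * m * u * (c * m)⁻¹ = m * u * m⁻¹ := by
          calc c * m * u * (c * m)⁻¹ = c * ((m * u * m⁻¹) * c⁻¹) := by group
            _ = c * (c⁻¹ * (m * u * m⁻¹)) := by rw [hcu]
            _ = m * u * m⁻¹ := by group
        rw [e] at g2
        exact g2
    exact Cfsg.Agent.S1960.alperin_step P (Gd (DD P W V)) (gd_mono _) (gd_comp _) (gd_inv _)
      U hy2 hUgood A hAS hAeq y rfl IHP

include hW hV hWZ hVmono hloc in
theorem main : ∀ n : ℕ, ∀ A : Subgroup G, A ≤ (P : Subgroup G) →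
    Nat.card (P : Subgroup G) - Nat.card A = n → PP P W V A ∧
      ((P : Subgroup G) ⊓ Subgroup.centralizer (((P : Subgroup G) : Subgroup G) : Set G) ≤ A →
        QQ P W V A) := by
  intro n
  induction n using Nat.strong_induction_on with
  | _ n ih =>
  intro A hAS hn
  have hcardle : ∀ B : Subgroup G, B ≤ (P : Subgroup G) → Nat.card B ≤ Nat.card (P : Subgroup G) :=
    fun B hB => Subgroup.card_le_of_le hB
  have IHP : ∀ B : Subgroup G, B ≤ (P : Subgroup G) → Nat.card A < Nat.card B → PP P W V B := by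
    intro B hBS hlt
    have := hcardle B hBS
    exact (ih (Nat.card (P : Subgroup G) - Nat.card B) (by omega) B hBS rfl).1
  have IHQ : ∀ B : Subgroup G, B ≤ (P : Subgroup G) → Nat.card A < Nat.card B →
      (P : Subgroup G) ⊓ Subgroup.centralizer (((P : Subgroup G) : Subgroup G) : Set G) ≤ B →
      QQ P W V B := by
    intro B hBS hlt
    have := hcardle B hBS
    exact (ih (Nat.card (P : Subgroup G) - Nat.card B) (by omega) B hBS rfl).2
  refine ⟨PP_step P W V hW hV hWZ hVmono hloc A hAS IHP IHQ, ?_⟩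
  intro hZA
  by_cases hAeq : A = (P : Subgroup G)
  · rw [hAeq]; exact QQ_top P W V
  · exact QQ_step P W V hW hV hWZ hVmono hloc A hAS hAeq hZA IHP IHQ

end main

/-- Let p be a prime dividing the order of the finite group G, P a Sylow p-subgroup, W a conjugacy functor for p on G with Z(H) ≤ W(H) for every nontrivial p-subgroup H, and V a central functor: a conjugacy functor with V(H) ≤ Z(H), and V(H) ≤ V(K) whenever Z(H) ≤ Z(K), for nontrivial p-subgroups H, K. Say that W with V controls transfer in a subgroup L when some Sylow p-subgroup Q of L satisfies Q ∩ L' = (Q ∩ (N_L(W(Q)))')·(Q ∩ (C_L(V(Q)))') as a product of two subgroups. If W with V controls transfer in N_G(H) for every subgroup H with Z(P) ≤ H ≤ P, then W with V controls transfer in G. -/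
theorem result {G : Type*} [Group G] [Finite G] {p : ℕ} [Fact p.Prime] (hdiv : p ∣ Nat.card G) (P : Sylow p G) (W V : Subgroup G → Subgroup G) (hW : Cfsg.IsConjugacyFunctor p W) (hV : Cfsg.IsConjugacyFunctor p V) (hWZ : ∀ H : Subgroup G, IsPGroup p ↥H → H ⊓ Subgroup.centralizer ((H : Subgroup G) : Set G) ≤ W H) (hVZ : ∀ H : Subgroup G, IsPGroup p ↥H → V H ≤ H ⊓ Subgroup.centralizer ((H : Subgroup G) : Set G)) (hVmono : ∀ H K : Subgroup G, IsPGroup p ↥H → IsPGroup p ↥K → H ≠ ⊥ → K ≠ ⊥ → H ⊓ Subgroup.centralizer ((H : Subgroup G) : Set G) ≤ K ⊓ Subgroup.centralizer ((K : Subgroup G) : Set G) → V H ≤ V K) (hloc : ∀ H : Subgroup G, (P : Subgroup G) ⊓ Subgroup.centralizer (((P : Subgroup G) : Subgroup G) : Set G) ≤ H → H ≤ (P : Subgroup G) → ∃ Q : Subgroup G, Q ≤ Subgroup.normalizer ((H : Subgroup G) : Set G) ∧ IsPGroup p ↥Q ∧ ¬ p ∣ (Q).relIndex (Subgroup.normalizer ((H : Subgroup G) : Set G)) ∧ ∀ x : G, x ∈ Q ⊓ ⁅Subgroup.normalizer ((H : Subgroup G) : Set G), Subgroup.normalizer ((H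 : Subgroup G) : Set G)⁆ ↔ ∃ a ∈ Q ⊓ ⁅Subgroup.normalizer ((H : Subgroup G) : Set G) ⊓ Subgroup.normalizer ((W Q : Subgroup G) : Set G), Subgroup.normalizer ((H : Subgroup G) : Set G) ⊓ Subgroup.normalizer ((W Q : Subgroup G) : Set G)⁆, ∃ b ∈ Q ⊓ ⁅Subgroup.normalizer ((H : Subgroup G) : Set G) ⊓ Subgroup.centralizer ((V Q : Subgroup G) : Set G), Subgroup.normalizer ((H : Subgroup G) : Set G) ⊓ Subgroup.centralizer ((V Q : Subgroup G) : Set G)⁆, x = a * b) : ∃ Q : Subgroup G, IsPGroup p ↥Q ∧ ¬ p ∣ Q.index ∧ ∀ x : G, x ∈ Q ⊓ commutator G ↔ ∃ a ∈ Q ⊓ ⁅Subgroup.normalizer ((W Q : Subgroup G) : Set G), Subgroup.normalizer ((W Q : Subgroup G) : Set G)⁆, ∃ b ∈ Q ⊓ ⁅Subgroup.centralizer ((V Q : Subgroup G) : Set G), Subgroup.centralizer ((V Q : Subgroup G) : Set G)⁆, x = a * b := by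
  refine ⟨P, P.2, P.not_dvd_index, ?_⟩
  have hPp : IsPGroup p ↥(P : Subgroup G) := P.2
  -- P normalizes W(P) and centralizes V(P)
  have hPNW : (P : Subgroup G) ≤ Subgroup.normalizer ((W (P : Subgroup G) : Subgroup G) : Set G) :=
    Subgroup.le_normalizer.trans
      (Cfsg.Agent.S1960.normalizer_le_normalizer_functor W hW (P : Subgroup G) hPp)
  -- B normalizes A
  have hnorm : ((P : Subgroup G) ⊓ ⁅Subgroup.centralizer ((V (P : Subgroup G) : Subgroup G) : Set G),
      Subgroup.centralizer ((V (P : Subgroup G) : Subgroup G) : Set G)⁆) ≤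
      Subgroup.normalizer ((((P : Subgroup G) ⊓ ⁅Subgroup.normalizer ((W (P : Subgroup G) : Subgroup G) : Set G),
      Subgroup.normalizer ((W (P : Subgroup G) : Subgroup G) : Set G)⁆ : Subgroup G)) : Set G) := by
    intro b hb
    have hbP : b ∈ (P : Subgroup G) := hb.1
    have hbN := hPNW hbP
    rw [Subgroup.mem_normalizer_iff]
    intro x
    have hcomm : ∀ z : G, z ∈ ⁅Subgroup.normalizer ((W (P : Subgroup G) : Subgroup G) : Set G),
        Subgroup.normalizer ((W (P : Subgroup G) : Subgroup G) : Set G)⁆ ↔ b * z * b⁻¹ ∈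
        ⁅Subgroup.normalizer ((W (P : Subgroup G) : Subgroup G) : Set G),
        Subgroup.normalizer ((W (P : Subgroup G) : Subgroup G) : Set G)⁆ := by
      have hmap : (⁅Subgroup.normalizer ((W (P : Subgroup G) : Subgroup G) : Set G),
        Subgroup.normalizer ((W (P : Subgroup G) : Subgroup G) : Set G)⁆).map (MulAut.conj b).toMonoidHom =
        ⁅Subgroup.normalizer ((W (P : Subgroup G) : Subgroup G) : Set G),
        Subgroup.normalizer ((W (P : Subgroup G) : Subgroup G) : Set G)⁆ := by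
        rw [Subgroup.map_commutator, map_conj_eq_self_of_mem_normalizer _ b (Subgroup.le_normalizer hbN)]
      intro z
      constructor
      · intro hz
        have := conj_mem_map_conj _ b z hz
        rwa [hmap] at this
      · intro hz
        rw [← hmap, mem_map_conj] at hz
        have e : b⁻¹ * (b * z * b⁻¹) * b = z := by group
        rwa [e] at hz
    constructor
    · rintro ⟨h1, h2⟩
      exact ⟨Subgroup.mul_mem _ (Subgroup.mul_mem _ hbP h1) (Subgroup.inv_mem _ hbP), (hcomm x).mp h2⟩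
    · rintro ⟨h1, h2⟩
      refine ⟨?_, (hcomm x).mpr h2⟩
      have := Subgroup.mul_mem _ (Subgroup.mul_mem _ (Subgroup.inv_mem _ hbP) h1) hbP
      have e : b⁻¹ * (b * x * b⁻¹) * b = x := by group
      rwa [e] at this
  have hset := Subgroup.coe_mul_of_right_le_normalizer_left _ _ hnorm
  have hDD : ∀ x : G, x ∈ DD P W V ↔ ∃ a ∈ (P : Subgroup G) ⊓ ⁅Subgroup.normalizer ((W (P : Subgroup G) : Subgroup G) : Set G), Subgroup.normalizer ((W (P : Subgroup G) : Subgroup G) : Set G)⁆, ∃ b ∈ (P : Subgroup G) ⊓ ⁅Subgroup.centralizer ((V (P : Subgroup G) : Subgroup G) : Set G), Subgroup.centralizer ((V (P : Subgroup G) : Subgroup G) : Set G)⁆, x = a * b := by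
    intro x
    have h1 : x ∈ DD P W V ↔ x ∈ ((DD P W V : Subgroup G) : Set G) := Iff.rfl
    rw [h1]
    unfold DD
    rw [hset, Set.mem_mul]
    constructor
    · rintro ⟨a, ha, b, hb, rfl⟩
      exact ⟨a, ha, b, hb, rfl⟩
    · rintro ⟨a, ha, b, hb, rfl⟩
      exact ⟨a, ha, b, hb, rfl⟩
  have hloc' : ∀ H : Subgroup G, (P : Subgroup G) ⊓ Subgroup.centralizer (((P : Subgroup G) : Subgroup G) : Set G) ≤ H → H ≤ (P : Subgroup G) → ∃ Q : Subgroup G, Q ≤ Subgroup.normalizer ((H : Subgroup G) : Set G) ∧ IsPGroup p ↥Q ∧ ¬ p ∣ (Q).relIndex (Subgroup.normalizer ((H : Subgroup G) : Set G)) ∧ HLoc W V (Subgroup.normalizer ((H : Subgroup G) : Set G)) Q := hloc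
  intro x
  rw [← hDD x]
  constructor
  · intro hx
    revert x
    show (P : Subgroup G) ⊓ commutator G ≤ DD P W V
    have hfoc : (P : Subgroup G) ⊓ commutator G = (P : Subgroup G).focalSubgroup := by
      rw [inf_comm]
      exact Subgroup.commutator_inf_eq_focalSubgroup P
    rw [hfoc, Subgroup.focalSubgroup_def, Subgroup.closure_le]
    rintro g ⟨hgS, x, hxS, u, rfl⟩
    have haS : x⁻¹ ∈ (P : Subgroup G) := Subgroup.inv_mem _ hxS
    have hbS : u * x⁻¹ * u⁻¹ ∈ (P : Subgroup G) := by
      have e : u * x⁻¹ * u⁻¹ = x⁻¹ * ⁅x, u⁆ := by rw [commutatorElement_def]; group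
      rw [e]; exact Subgroup.mul_mem _ haS hgS
    have hcl : Subgroup.zpowers x⁻¹ ≤ (P : Subgroup G) := by
      rw [Subgroup.zpowers_le]; exact haS
    have hclg : ∀ a ∈ Subgroup.zpowers x⁻¹, u * a * u⁻¹ ∈ (P : Subgroup G) := by
      intro a ha
      obtain ⟨k, rfl⟩ := Subgroup.mem_zpowers_iff.mp ha
      have e : u * x⁻¹ ^ k * u⁻¹ = (u * x⁻¹ * u⁻¹) ^ k := by
        have := map_zpow (MulAut.conj u) x⁻¹ k
        simp only [MulAut.conj_apply] at this
        exact this
      rw [e]
      exact Subgroup.zpow_mem _ hbS k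
    have hPP := (main P W V hW hV hWZ hVmono hloc' _ (Subgroup.zpowers x⁻¹) hcl rfl).1
    have := hPP u hclg x⁻¹ (Subgroup.mem_zpowers x⁻¹)
    have e : x⁻¹⁻¹ * (u * x⁻¹ * u⁻¹) = ⁅x, u⁆ := by rw [commutatorElement_def]; group
    rw [e] at this
    exact this
  · revert x
    show DD P W V ≤ (P : Subgroup G) ⊓ commutator G
    rw [commutator_def]
    exact sup_le (inf_le_inf_left _ (Subgroup.commutator_mono le_top le_top))
      (inf_le_inf_left _ (Subgroup.commutator_mono le_top le_top))

end Cfsg.Agent.S2001
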