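import Cfsg.Statements.S2002
import Cfsg.Agent.S1960
import Cfsg.Agent.S1963
import Cfsg.Agent.Lib.Helper3_StepChain
import Cfsg.Agent.Lib.Helper1_Index

set_option autoImplicit false
open Cfsg

namespace Cfsg.Agent.S2002

open Cfsg.Agent.Lib.Helper3_Conj Cfsg.Agent.Lib.Helper3_SylowRel Cfsg.Agent.Lib.Helper3_Alperin
  Cfsg.Agent.Lib.Helper3_StepChain

variable {G : Type*} [Group G]

/-- local steps -/
def StLoc (W V : Subgroup G → Subgroup G) (N Q : Subgroup G) (s : G) : Prop :=
  s ∈ N ∧ (s ∈ Subgroup.normalizer ((W Q : Subgroup G) : Set G) ∨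
    s ∈ Subgroup.centralizer ((V Q : Subgroup G) : Set G))

theorem stLoc_inv (W V : Subgroup G → Subgroup G) (N Q : Subgroup G) (s : G)
    (h : StLoc W V N Q s) : StLoc W V N Q s⁻¹ := by
  obtain ⟨h1, h2⟩ := h
  refine ⟨Subgroup.inv_mem _ h1, ?_⟩
  rcases h2 with h2 | h2
  · exact Or.inl (Subgroup.inv_mem _ h2)
  · exact Or.inr (Subgroup.inv_mem _ h2)

/-- local control, in list form -/
def LC (W V : Subgroup G → Subgroup G) (N Q : Subgroup G) : Prop :=
  ∀ (X : Set G) (a : G), X ⊆ Q → a ∈ N → (∀ x ∈ X, a⁻¹ * x * a ∈ Q) →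
    GoodR Q (StLoc W V N Q) X a

/-- local control, in the form of the statement -/
def HLoc (W V : Subgroup G → Subgroup G) (N Q : Subgroup G) : Prop :=
  ∀ (X : Set G) (a : G), X ⊆ Q → a ∈ N → (fun x => a⁻¹ * x * a) '' X ⊆ Q → ∃ c ∈ N ⊓ Subgroup.centralizer X, ∃ (n : ℕ) (b : Fin n → G), (∀ i, b i ∈ N ⊓ Subgroup.normalizer ((W Q : Subgroup G) : Set G) ∨ b i ∈ N ⊓ Subgroup.centralizer ((V Q : Subgroup G) : Set G)) ∧ a = c * (List.ofFn b).prod ∧ ∀ k : ℕ, k ≤ n → (fun x => (((List.ofFn b).take k).prod)⁻¹ * x * ((List.ofFn b).take k).prod) '' ((fun x => c⁻¹ * x * c) '' X) ⊆ Q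

theorem lc_of_hloc (W V : Subgroup G → Subgroup G) (N Q : Subgroup G) (h : HLoc W V N Q) :
    LC W V N Q := by
  intro X a hXQ haN hXa
  obtain ⟨c, hc, n, b, hb, hab, hk⟩ := h X a hXQ haN (by
    rintro _ ⟨x, hx, rfl⟩
    exact hXa x hx)
  have hcX : ∀ x ∈ X, c⁻¹ * x * c = x := by
    intro x hx
    have := (Subgroup.mem_centralizer_iff.mp hc.2) x hx
    calc c⁻¹ * x * c = c⁻¹ * (x * c) := by group
      _ = c⁻¹ * (c * x) := by rw [this]
      _ = x := by group
  refine ⟨List.ofFn b, ?_, ?_⟩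
  · apply chS_of_take
    · intro s hs
      obtain ⟨i, rfl⟩ := List.mem_ofFn.mp hs
      rcases hb i with h1 | h1
      · exact ⟨h1.1, Or.inl h1.2⟩
      · exact ⟨h1.1, Or.inr h1.2⟩
    · intro k hkn x hx
      rw [List.length_ofFn] at hkn
      have := hk k hkn ⟨c⁻¹ * x * c, ⟨x, hx, rfl⟩, rfl⟩
      rw [hcX x hx] at this
      rw [one_mul]
      exact this
  · intro x hx
    rw [hab]
    calc (c * (List.ofFn b).prod)⁻¹ * x * (c * (List.ofFn b).prod)
        = (List.ofFn b).prod⁻¹ * (c⁻¹ * x * c) * (List.ofFn b).prod := by group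
      _ = (List.ofFn b).prod⁻¹ * x * (List.ofFn b).prod := by rw [hcX x hx]

theorem conj_mem_centralizer_map_conj (A : Subgroup G) (u s : G)
    (hs : s ∈ Subgroup.centralizer ((A : Subgroup G) : Set G)) :
    u * s * u⁻¹ ∈ Subgroup.centralizer ((A.map (MulAut.conj u).toMonoidHom : Subgroup G) : Set G) := by
  rw [Subgroup.mem_centralizer_iff] at hs ⊢
  rintro _ ⟨a, ha, rfl⟩
  have := hs a ha
  simp only [MulEquiv.coe_toMonoidHom, MulAut.conj_apply]
  calc u * a * u⁻¹ * (u * s * u⁻¹) = u * (a * s) * u⁻¹ := by group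
    _ = u * (s * a) * u⁻¹ := by rw [this]
    _ = u * s * u⁻¹ * (u * a * u⁻¹) := by group

theorem lc_conj {p : ℕ} (W V : Subgroup G → Subgroup G) (hW : Cfsg.IsConjugacyFunctor p W)
    (hV : Cfsg.IsConjugacyFunctor p V) (N Q : Subgroup G) (hQ : IsPGroup p ↥Q)
    (h : LC W V N Q) (u : G) :
    LC W V (N.map (MulAut.conj u).toMonoidHom) (Q.map (MulAut.conj u).toMonoidHom) := by
  intro X a hXQ haN hXa
  set X' : Set G := (fun x => u⁻¹ * x * u) '' X with hX'
  have hX'Q : X' ⊆ Q := by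
    rintro _ ⟨x, hx, rfl⟩
    exact (mem_map_conj Q u x).mp (hXQ hx)
  have ha' : u⁻¹ * a * u ∈ N := (mem_map_conj N u a).mp haN
  have hX'a : ∀ x' ∈ X', (u⁻¹ * a * u)⁻¹ * x' * (u⁻¹ * a * u) ∈ Q := by
    rintro _ ⟨x, hx, rfl⟩
    have := (mem_map_conj Q u _).mp (hXa x hx)
    have e : (u⁻¹ * a * u)⁻¹ * (u⁻¹ * x * u) * (u⁻¹ * a * u) = u⁻¹ * (a⁻¹ * x * a) * u := by group
    rw [e]; exact this
  have hg := h X' (u⁻¹ * a * u) hX'Q ha' hX'a
  apply goodR_map_conj Q (StLoc W V N Q) _ u _ X X' (fun x hx => ⟨x, hx, rfl⟩) a hg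
  rintro s ⟨hs1, hs2⟩
  refine ⟨conj_mem_map_conj N u s hs1, ?_⟩
  rcases hs2 with hs2 | hs2
  · left
    rw [(hW Q hQ).2.2 u]
    exact conj_mem_normalizer_map_conj (W Q) u s hs2
  · right
    rw [(hV Q hQ).2.2 u]
    exact conj_mem_centralizer_map_conj (V Q) u s hs2

theorem lc_sylow [Finite G] {p : ℕ} [Fact p.Prime] (W V : Subgroup G → Subgroup G)
    (hW : Cfsg.IsConjugacyFunctor p W)
    (hV : Cfsg.IsConjugacyFunctor p V) (N Q R : Subgroup G) (hQN : Q ≤ N) (hQ : IsPGroup p ↥Q)
    (hQi : ¬ p ∣ Q.relIndex N) (hRN : R ≤ N) (hR : IsPGroup p ↥R) (hRi : ¬ p ∣ R.relIndex N)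
    (h : LC W V N Q) : LC W V N R := by
  obtain ⟨u, huN, hu⟩ := Cfsg.Agent.S1961.exists_conj_eq_of_relIndex N R Q hRN hR hRi hQN hQ hQi
  have := lc_conj W V hW hV N Q hQ h u
  rw [hu, map_conj_eq_self_of_mem_normalizer N u (Subgroup.le_normalizer huN)] at this
  exact this

section main

variable [Finite G] {p : ℕ} [hp : Fact p.Prime] (P : Sylow p G) (W V : Subgroup G → Subgroup G)

/-- global steps -/
def StP (P : Sylow p G) (W V : Subgroup G → Subgroup G) (s : G) : Prop :=
  s ∈ Subgroup.normalizer ((W (P : Subgroup G) : Subgroup G) : Set G) ∨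
    s ∈ Subgroup.centralizer ((V (P : Subgroup G) : Subgroup G) : Set G)

omit [Finite G] hp in
theorem stP_inv (s : G) (h : StP P W V s) : StP P W V s⁻¹ := by
  rcases h with h | h
  · exact Or.inl (Subgroup.inv_mem _ h)
  · exact Or.inr (Subgroup.inv_mem _ h)

/-- left-conjugation goodness -/
def Gd (P : Sylow p G) (W V : Subgroup G → Subgroup G) (X : Set G) (g : G) : Prop :=
  GoodR (P : Subgroup G) (StP P W V) X g⁻¹

omit [Finite G] hp in
theorem gd_mono (A B : Set G) (g : G) (hBA : B ⊆ A) (h : Gd P W V A g) : Gd P W V B g :=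
  goodR_mono _ _ hBA g⁻¹ h

omit [Finite G] hp in
theorem gd_comp (A A' : Set G) (g h : G) (hsub : ∀ a ∈ A, g * a * g⁻¹ ∈ A')
    (hg : Gd P W V A g) (hh : Gd P W V A' h) : Gd P W V A (h * g) := by
  have := goodR_comp _ _ A A' g⁻¹ h⁻¹ (by
    intro a ha
    rw [inv_inv]; exact hsub a ha) hg hh
  show GoodR _ _ A (h * g)⁻¹
  rw [mul_inv_rev]; exact this

omit [Finite G] hp in
theorem gd_inv (A : Set G) (g : G) (hg : Gd P W V A g) :
    Gd P W V ((fun a => g * a * g⁻¹) '' A) g⁻¹ := by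
  apply goodR_inv _ _ (stP_inv P W V) A _ g⁻¹ _ hg
  rintro _ ⟨a, ha, rfl⟩
  have e : g⁻¹ * (g * a * g⁻¹) * g⁻¹⁻¹ = a := by group
  rw [e]; exact ha

omit [Finite G] hp in
theorem gd_congr (A : Set G) (g g' : G) (h : ∀ a ∈ A, g * a * g⁻¹ = g' * a * g'⁻¹)
    (hg : Gd P W V A g) : Gd P W V A g' := by
  apply goodR_congr _ _ A g⁻¹ g'⁻¹ _ hg
  intro a ha
  rw [inv_inv, inv_inv]; exact h a ha

omit [Finite G] hp in
theorem gd_one (A : Set G) (hA : ∀ a ∈ A, a ∈ (P : Subgroup G)) : Gd P W V A 1 := by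
  show GoodR _ _ A 1⁻¹
  rw [inv_one]; exact goodR_one _ _ A hA

omit [Finite G] hp in
theorem gd_trivial (A : Set G) (g : G) (hA : ∀ a ∈ A, a = 1) : Gd P W V A g := by
  apply gd_congr P W V A 1 g _ (gd_one P W V A (fun a ha => by rw [hA a ha]; exact Subgroup.one_mem _))
  intro a ha
  rw [hA a ha]; group

omit [Finite G] hp in
theorem gd_step (A : Set G) (s : G) (hs : StP P W V s) (hA : ∀ a ∈ A, a ∈ (P : Subgroup G))
    (hAs : ∀ a ∈ A, s * a * s⁻¹ ∈ (P : Subgroup G)) : Gd P W V A s := by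
  apply goodR_step _ _ A s⁻¹ (stP_inv P W V s hs) hA
  intro a ha
  rw [inv_inv]; exact hAs a ha

/-- the statement proved for subgroups `R ⊇ Z(P)` -/
def QQ (P : Sylow p G) (W V : Subgroup G → Subgroup G) (R : Subgroup G) : Prop :=
  ∀ s : G, (s ∈ Subgroup.normalizer ((W R : Subgroup G) : Set G) ∨
      s ∈ Subgroup.centralizer ((V R : Subgroup G) : Set G)) →
    ∀ B : Set G, B ⊆ R → (∀ b ∈ B, s * b * s⁻¹ ∈ R) → Gd P W V B s

def PP (P : Sylow p G) (W V : Subgroup G → Subgroup G) (A : Subgroup G) : Prop :=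
  ∀ g : G, (∀ a ∈ A, g * a * g⁻¹ ∈ (P : Subgroup G)) → Gd P W V (A : Set G) g

omit [Finite G] hp in
theorem QQ_top : QQ P W V (P : Subgroup G) := by
  intro s hs B hB hBs
  exact gd_step P W V B s hs (fun a ha => hB ha) hBs

omit [Finite G] hp in
/-- From local control at `R' = N_P(V')` and `QQ R'` to goodness of `N_G(V')` on subsets of `R'`. -/
theorem locLC (V' R' : Subgroup G) (hR'P : R' ≤ (P : Subgroup G))
    (hlc : LC W V (Subgroup.normalizer ((V' : Subgroup G) : Set G)) R') (hQ : QQ P W V R')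
    (m : G) (hm : m ∈ Subgroup.normalizer ((V' : Subgroup G) : Set G)) (B : Set G)
    (hB : B ⊆ R') (hBm : ∀ b ∈ B, m * b * m⁻¹ ∈ R') : Gd P W V B m := by
  obtain ⟨l, hl, hla⟩ := hlc B m⁻¹ hB (Subgroup.inv_mem _ hm) (by
    intro x hx
    rw [inv_inv]; exact hBm x hx)
  have htake := chS_take R' _ B l 1 hl
  have hall := chS_all R' _ B l 1 hl
  have key : ∀ k ≤ l.length, GoodR (P : Subgroup G) (StP P W V) B (l.take k).prod := by
    intro k
    induction k with
    | zero =>
      intro _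
      simp only [List.take_zero, List.prod_nil]
      exact goodR_one _ _ B (fun b hb => hR'P (hB hb))
    | succ k ih =>
      intro hk
      have hk' : k < l.length := hk
      rw [List.prod_take_succ l k hk']
      have hs := hall l[k] (List.getElem_mem hk')
      set c := (l.take k).prod with hc
      set Bk : Set G := (fun b => c⁻¹ * b * c) '' B with hBk
      have hBkR : Bk ⊆ R' := by
        rintro _ ⟨b, hb, rfl⟩
        have := htake k (le_of_lt hk') b hb
        rw [one_mul] at this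
        exact this
      have hq : Gd P W V Bk (l[k])⁻¹ := by
        apply hQ (l[k])⁻¹ _ Bk hBkR
        · rintro _ ⟨b, hb, rfl⟩
          have := htake (k + 1) hk b hb
          rw [one_mul, List.prod_take_succ l k hk'] at this
          rw [inv_inv]
          have e : (l[k])⁻¹ * (c⁻¹ * b * c) * l[k] = (c * l[k])⁻¹ * b * (c * l[k]) := by group
          rw [e]; exact this
        · rcases hs.2 with h1 | h1
          · exact Or.inl (Subgroup.inv_mem _ h1)
          · exact Or.inr (Subgroup.inv_mem _ h1)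
      have hq' : GoodR (P : Subgroup G) (StP P W V) Bk l[k] := by
        have : GoodR (P : Subgroup G) (StP P W V) Bk ((l[k])⁻¹)⁻¹ := hq
        rwa [inv_inv] at this
      exact goodR_comp _ _ B Bk c l[k] (fun b hb => ⟨b, hb, rfl⟩) (ih (le_of_lt hk')) hq'
  have hfin := key l.length (le_refl _)
  rw [List.take_length] at hfin
  show GoodR _ _ B m⁻¹
  apply goodR_congr _ _ B l.prod m⁻¹ _ hfin
  intro b hb
  exact (hla b hb).symm

variable (hW : Cfsg.IsConjugacyFunctor p W) (hV : Cfsg.IsConjugacyFunctor p V)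
  (hWZ : ∀ H : Subgroup G, IsPGroup p ↥H → H ⊓ Subgroup.centralizer ((H : Subgroup G) : Set G) ≤ W H)
  (hVmono : ∀ H K : Subgroup G, IsPGroup p ↥H → IsPGroup p ↥K → H ≠ ⊥ → K ≠ ⊥ → H ⊓ Subgroup.centralizer ((H : Subgroup G) : Set G) ≤ K ⊓ Subgroup.centralizer ((K : Subgroup G) : Set G) → V H ≤ V K)
  (hloc : ∀ H : Subgroup G, (P : Subgroup G) ⊓ Subgroup.centralizer (((P : Subgroup G) : Subgroup G) : Set G) ≤ H → H ≤ (P : Subgroup G) → ∃ Q : Subgroup G, Q ≤ Subgroup.normalizer ((H : Subgroup G) : Set G) ∧ IsPGroup p ↥Q ∧ ¬ p ∣ (Q).relIndex (Subgroup.normalizer ((H : Subgroup G) : Set G)) ∧ HLoc W V (Subgroup.normalizer ((H : Subgroup G) : Set G)) Q)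

include hW hV hloc in
/-- Local control at `N_P(H')` for every tame conjugate `H'` of a subgroup `H ⊇ Z(P)` of `P`. -/
theorem lc_at (H : Subgroup G)
    (hZH : (P : Subgroup G) ⊓ Subgroup.centralizer (((P : Subgroup G) : Subgroup G) : Set G) ≤ H)
    (hHP : H ≤ (P : Subgroup G)) (y : G)
    (hy : ¬ p ∣ ((P : Subgroup G) ⊓ Subgroup.normalizer
        ((H.map (MulAut.conj y).toMonoidHom : Subgroup G) : Set G)).relIndex
      (Subgroup.normalizer ((H.map (MulAut.conj y).toMonoidHom : Subgroup G) : Set G))) :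
    LC W V (Subgroup.normalizer ((H.map (MulAut.conj y).toMonoidHom : Subgroup G) : Set G))
      ((P : Subgroup G) ⊓ Subgroup.normalizer ((H.map (MulAut.conj y).toMonoidHom : Subgroup G) : Set G)) := by
  obtain ⟨Q, hQN, hQp, hQi, hQ⟩ := hloc H hZH hHP
  have h1 := lc_conj W V hW hV _ Q hQp (lc_of_hloc W V _ Q hQ) y
  rw [Subgroup.map_equiv_normalizer_eq H (MulAut.conj y)] at h1
  have hQN' : Q.map (MulAut.conj y).toMonoidHom ≤
      Subgroup.normalizer ((H.map (MulAut.conj y).toMonoidHom : Subgroup G) : Set G) := by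
    rw [← Subgroup.map_equiv_normalizer_eq H (MulAut.conj y)]
    exact Subgroup.map_mono hQN
  have hQi' : ¬ p ∣ (Q.map (MulAut.conj y).toMonoidHom).relIndex
      (Subgroup.normalizer ((H.map (MulAut.conj y).toMonoidHom : Subgroup G) : Set G)) := by
    rw [← Subgroup.map_equiv_normalizer_eq H (MulAut.conj y)]
    have := Subgroup.relIndex_map_map_of_injective (f := (MulAut.conj y).toMonoidHom) Q
      (Subgroup.normalizer ((H : Subgroup G) : Set G)) (MulAut.conj y).injective
    rw [this]; exact hQi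
  exact lc_sylow W V hW hV _ _ _ hQN' (hQp.map _) hQi' inf_le_right (P.2.to_le inf_le_left) hy h1

include hW hV hWZ hVmono hloc in
theorem QQ_step (A : Subgroup G) (hAS : A ≤ (P : Subgroup G)) (hne : A ≠ (P : Subgroup G))
    (hZA : (P : Subgroup G) ⊓ Subgroup.centralizer (((P : Subgroup G) : Subgroup G) : Set G) ≤ A)
    (IHP : ∀ B : Subgroup G, B ≤ (P : Subgroup G) → Nat.card A < Nat.card B → PP P W V B)
    (IHQ : ∀ B : Subgroup G, B ≤ (P : Subgroup G) → Nat.card A < Nat.card B →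
      (P : Subgroup G) ⊓ Subgroup.centralizer (((P : Subgroup G) : Subgroup G) : Set G) ≤ B →
      QQ P W V B) :
    QQ P W V A := by
  intro s hs B hB hBs
  by_cases hA : A = ⊥
  · apply gd_trivial
    intro b hb
    have := hB hb
    rw [hA] at this
    exact this
  have hAp : IsPGroup p ↥A := P.2.to_le hAS
  have hBA : ∀ b ∈ B, b ∈ A := fun b hb => hB hb
  have hZPA : (P : Subgroup G) ⊓ Subgroup.centralizer (((P : Subgroup G) : Subgroup G) : Set G) ≤
      A ⊓ Subgroup.centralizer ((A : Subgroup G) : Set G) :=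
    le_inf hZA (inf_le_right.trans (Subgroup.centralizer_le (fun a ha => hAS ha)))
  rcases hs with hs | hs
  swap
  · -- s centralizes V(A) ⊇ V(P)
    have hPne : (P : Subgroup G) ≠ ⊥ := by
      intro h
      apply hA
      rw [eq_bot_iff, ← h]; exact hAS
    have hVV : V (P : Subgroup G) ≤ V A := hVmono _ _ P.2 hAp hPne hA hZPA
    apply gd_step P W V B s (Or.inr (Subgroup.centralizer_le (fun v hv => hVV hv) hs))
    · exact fun b hb => hAS (hBA b hb)
    · exact fun b hb => hAS (hBs b hb)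
  -- s normalizes W(A)
  set V₁ := W A with hV₁def
  have hVA : V₁ ≤ A := (hW A hAp).1
  have hZV : (P : Subgroup G) ⊓ Subgroup.centralizer (((P : Subgroup G) : Subgroup G) : Set G) ≤ V₁ :=
    hZPA.trans (hWZ A hAp)
  have hVS : V₁ ≤ (P : Subgroup G) := hVA.trans hAS
  set R₁ := (P : Subgroup G) ⊓ Subgroup.normalizer ((V₁ : Subgroup G) : Set G) with hR₁
  have hNA : (P : Subgroup G) ⊓ Subgroup.normalizer ((A : Subgroup G) : Set G) ≤ R₁ :=
    inf_le_inf_left _ (Cfsg.Agent.S1960.normalizer_le_normalizer_functor W hW A hAp)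
  have hAR₁ : A ≤ R₁ := (le_inf hAS Subgroup.le_normalizer).trans hNA
  have hlt1 : Nat.card A < Nat.card R₁ :=
    lt_of_lt_of_le (card_lt_card_inf_normalizer (P : Subgroup G) A P.2 hAS hne)
      (Subgroup.card_le_of_le hNA)
  obtain ⟨y, hy1, hy2⟩ := Cfsg.Agent.S1963.exists_conj_sylow_normalizer P V₁
  set V' := V₁.map (MulAut.conj y).toMonoidHom with hV'
  set R₁' := (P : Subgroup G) ⊓ Subgroup.normalizer ((V' : Subgroup G) : Set G) with hR₁'
  have hRR : R₁.map (MulAut.conj y).toMonoidHom ≤ R₁' := by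
    refine le_inf hy1 ?_
    rw [hV', ← Subgroup.map_equiv_normalizer_eq V₁ (MulAut.conj y)]
    exact Subgroup.map_mono inf_le_right
  have hlt2 : Nat.card A < Nat.card R₁' := by
    have h1 : Nat.card (R₁.map (MulAut.conj y).toMonoidHom) = Nat.card R₁ :=
      Subgroup.card_map_of_injective (MulAut.conj y).injective
    have h2 := Subgroup.card_le_of_le hRR
    omega
  have hV'S : V' ≤ (P : Subgroup G) :=
    (Subgroup.map_mono (le_inf hVS Subgroup.le_normalizer)).trans hy1
  have hZR₁' : (P : Subgroup G) ⊓ Subgroup.centralizer (((P : Subgroup G) : Subgroup G) : Set G) ≤ R₁' := by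
    refine le_inf inf_le_left ?_
    refine inf_le_right.trans ?_
    exact (Subgroup.centralizer_le (fun v hv => hV'S hv)).trans (Subgroup.centralizer_le_normalizer _)
  have hlc := lc_at P W V hW hV hloc V₁ hZV hVS y hy2
  have hPR₁ : PP P W V R₁ := IHP R₁ inf_le_left hlt1
  have hQR₁' : QQ P W V R₁' := IHQ R₁' inf_le_left hlt2 hZR₁'
  have hygood : Gd P W V (R₁ : Set G) y :=
    hPR₁ y (fun b hb => hy1 (conj_mem_map_conj R₁ y b hb))
  have hs' : y * s * y⁻¹ ∈ Subgroup.normalizer ((V' : Subgroup G) : Set G) :=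
    conj_mem_normalizer_map_conj V₁ y s hs
  have hgood' : Gd P W V ((fun b => y * b * y⁻¹) '' B) (y * s * y⁻¹) := by
    apply locLC P W V V' R₁' inf_le_left hlc hQR₁' _ hs'
    · rintro _ ⟨b, hb, rfl⟩
      exact hRR (conj_mem_map_conj R₁ y b (hAR₁ (hBA b hb)))
    · rintro _ ⟨b, hb, rfl⟩
      have e : y * s * y⁻¹ * (y * b * y⁻¹) * (y * s * y⁻¹)⁻¹ = y * (s * b * s⁻¹) * y⁻¹ := by group
      rw [e]
      exact hRR (conj_mem_map_conj R₁ y _ (hAR₁ (hBs b hb)))
  have c1 : Gd P W V B y :=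
    gd_mono P W V _ _ y (fun b hb => hAR₁ (hBA b hb)) hygood
  have c2 : Gd P W V B (y * s * y⁻¹ * y) :=
    gd_comp P W V B ((fun b => y * b * y⁻¹) '' B) y (y * s * y⁻¹) (fun b hb => ⟨b, hb, rfl⟩) c1 hgood'
  have c3 : Gd P W V ((fun b => s * b * s⁻¹) '' B) y := by
    refine gd_mono P W V _ _ y ?_ hygood
    rintro _ ⟨b, hb, rfl⟩
    exact hAR₁ (hBs b hb)
  have c4 := gd_inv P W V _ y c3
  have c5 : Gd P W V B (y⁻¹ * (y * s * y⁻¹ * y)) := by
    refine gd_comp P W V B _ _ y⁻¹ ?_ c2 c4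
    intro b hb
    refine ⟨s * b * s⁻¹, ⟨b, hb, rfl⟩, ?_⟩
    show y * (s * b * s⁻¹) * y⁻¹ = y * s * y⁻¹ * y * b * (y * s * y⁻¹ * y)⁻¹
    group
  have e : y⁻¹ * (y * s * y⁻¹ * y) = s := by group
  rw [e] at c5
  exact c5

include hW hV hWZ hVmono hloc in
theorem PP_step (A : Subgroup G) (hAS : A ≤ (P : Subgroup G))
    (IHP : ∀ B : Subgroup G, B ≤ (P : Subgroup G) → Nat.card A < Nat.card B → PP P W V B)
    (IHQ : ∀ B : Subgroup G, B ≤ (P : Subgroup G) → Nat.card A < Nat.card B →
      (P : Subgroup G) ⊓ Subgroup.centralizer (((P : Subgroup G) : Subgroup G) : Set G) ≤ B →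
      QQ P W V B) :
    PP P W V A := by
  by_cases hAeq : A = (P : Subgroup G)
  · intro g hg
    have hg' : ∀ a ∈ A, g * a * g⁻¹ ∈ A := by
      intro a ha; rw [hAeq]; exact hg a ha
    have hgN : g ∈ Subgroup.normalizer ((A : Subgroup G) : Set G) :=
      Cfsg.Agent.S1960.mem_normalizer_of_conj_le' A g hg'
    have hinf : (P : Subgroup G) ⊓ Subgroup.normalizer ((A : Subgroup G) : Set G) = (P : Subgroup G) := by
      rw [inf_eq_left, ← hAeq]; exact Subgroup.le_normalizer
    have hcond : ¬ p ∣ ((P : Subgroup G) ⊓ Subgroup.normalizer ((A : Subgroup G) : Set G)).relIndex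
        (Subgroup.normalizer ((A : Subgroup G) : Set G)) := by
      rw [hinf]
      intro hdvd
      apply P.not_dvd_index
      have hle : (P : Subgroup G) ≤ Subgroup.normalizer ((A : Subgroup G) : Set G) := by
        rw [← hAeq]; exact Subgroup.le_normalizer
      exact dvd_trans hdvd (Subgroup.relIndex_dvd_index_of_le hle)
    have hZA : (P : Subgroup G) ⊓ Subgroup.centralizer (((P : Subgroup G) : Subgroup G) : Set G) ≤ A := by
      rw [hAeq]; exact inf_le_left
    have hlc := lc_at P W V hW hV hloc A hZA hAS 1 (by rw [map_conj_one]; exact hcond)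
    rw [map_conj_one, hinf] at hlc
    apply locLC P W V A (P : Subgroup G) le_rfl hlc (QQ_top P W V) g hgN
    · intro a ha; exact hAS ha
    · intro a ha; exact hg a ha
  · obtain ⟨y, hy1, hy2⟩ := Cfsg.Agent.S1963.exists_conj_sylow_normalizer P A
    set U := A.map (MulAut.conj y).toMonoidHom with hU
    have hUS : U ≤ (P : Subgroup G) :=
      (Subgroup.map_mono (le_inf hAS Subgroup.le_normalizer)).trans hy1
    have hUcard : Nat.card U = Nat.card A :=
      Subgroup.card_map_of_injective (MulAut.conj y).injective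
    have hAlt : Nat.card A < Nat.card (P : Subgroup G) := by
      by_contra hcon
      push Not at hcon
      exact hAeq (Subgroup.eq_of_le_of_card_ge hAS hcon)
    have hUneS : U ≠ (P : Subgroup G) := by
      intro hcon
      rw [hcon] at hUcard
      omega
    set N := Subgroup.normalizer ((U : Subgroup G) : Set G) with hN
    set R := (P : Subgroup G) ⊓ N with hR
    have hlt : Nat.card A < Nat.card ↥R := by
      rw [← hUcard]
      exact card_lt_card_inf_normalizer (P : Subgroup G) U P.2 hUS hUneS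
    have hNU : ∀ m ∈ N, ∀ u ∈ U, m * u * m⁻¹ ∈ U := fun m hm u hu =>
      (Subgroup.mem_normalizer_iff.mp hm u).mp hu
    have hUgood : ∀ m ∈ N, Gd P W V (U : Set G) m := by
      by_cases hcen : (P : Subgroup G) ⊓ Subgroup.centralizer ((U : Subgroup G) : Set G) ≤ U
      · -- centric case: local control at U
        have hZU : (P : Subgroup G) ⊓ Subgroup.centralizer (((P : Subgroup G) : Subgroup G) : Set G) ≤ U :=
          (inf_le_inf_left _ (Subgroup.centralizer_le (fun u hu => hUS hu))).trans hcen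
        have hlc := lc_at P W V hW hV hloc U hZU hUS 1 (by rw [map_conj_one]; exact hy2)
        rw [map_conj_one] at hlc
        have hQ : QQ P W V R := IHQ R inf_le_left hlt (hZU.trans (le_inf hUS Subgroup.le_normalizer))
        intro m hm
        apply locLC P W V U R inf_le_left hlc hQ m hm
        · intro u hu
          exact ⟨hUS hu, Subgroup.le_normalizer hu⟩
        · intro u hu
          have := hNU m hm u hu
          exact ⟨hUS this, Subgroup.le_normalizer this⟩
      · -- non-centric case: Frattini argument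
        set C := Subgroup.centralizer ((U : Subgroup G) : Set G) with hC
        set D := (P : Subgroup G) ⊓ C with hD
        have hCN : C ≤ N := Subgroup.centralizer_le_normalizer _
        have hCnorm : (C.subgroupOf N).Normal := by
          constructor
          intro c hc n
          rw [Subgroup.mem_subgroupOf] at hc ⊢
          rw [hC, Subgroup.mem_centralizer_iff] at hc ⊢
          intro u hu
          have hnu : (n : G)⁻¹ * u * (n : G) ∈ U := by
            have := hNU (n : G)⁻¹ (Subgroup.inv_mem _ n.2) u hu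
            rwa [inv_inv] at this
          have h1 := hc _ hnu
          simp only [Subgroup.coe_mul, Subgroup.coe_inv]
          calc u * ((n : G) * (c : G) * (n : G)⁻¹)
              = (n : G) * (((n : G)⁻¹ * u * (n : G)) * (c : G)) * (n : G)⁻¹ := by group
            _ = (n : G) * ((c : G) * ((n : G)⁻¹ * u * (n : G))) * (n : G)⁻¹ := by rw [h1]
            _ = (n : G) * (c : G) * (n : G)⁻¹ * u := by group
        have hDrel : ¬ p ∣ D.relIndex C := by
          intro hdvd
          apply hy2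
          have h1 := Cfsg.Agent.Lib.Helper1_Index.relIndex_dvd_of_normal (P : Subgroup G) C N hCN hCnorm
          rw [Subgroup.inf_relIndex_right] at hdvd ⊢
          exact dvd_trans hdvd h1
        have hDp : IsPGroup p ↥D := P.2.to_le inf_le_left
        set U₁ := U ⊔ D with hU₁
        have hU₁P : U₁ ≤ (P : Subgroup G) := sup_le hUS inf_le_left
        have hU₁lt : Nat.card A < Nat.card U₁ := by
          rw [← hUcard]
          by_contra hcon
          push Not at hcon
          have := Subgroup.eq_of_le_of_card_ge (le_sup_left : U ≤ U₁) hcon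
          apply hcen
          rw [this]; exact le_sup_right
        have hPU₁ : PP P W V U₁ := IHP U₁ hU₁P hU₁lt
        intro m hm
        -- conjugate of D by m lies in C
        set D' := D.map (MulAut.conj m).toMonoidHom with hD'
        have hD'C : D' ≤ C := by
          rintro _ ⟨d, hd, rfl⟩
          have hdC : (⟨d, hCN hd.2⟩ : N) ∈ C.subgroupOf N := by
            rw [Subgroup.mem_subgroupOf]; exact hd.2
          have := hCnorm.conj_mem _ hdC ⟨m, hm⟩
          rw [Subgroup.mem_subgroupOf] at this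
          simpa [MulAut.conj_apply] using this
        obtain ⟨c, hcC, hc⟩ := exists_conj_le_of_relIndex C D D' inf_le_right hDp hDrel hD'C (hDp.map _)
        have hcmD : c * m ∈ Subgroup.normalizer ((D : Subgroup G) : Set G) := by
          apply Cfsg.Agent.S1960.mem_normalizer_of_conj_le'
          intro d hd
          have := hc (m * d * m⁻¹) (conj_mem_map_conj D m d hd)
          have e : c * m * d * (c * m)⁻¹ = c * (m * d * m⁻¹) * c⁻¹ := by group
          rw [e]; exact this
        have hcmN : c * m ∈ N := Subgroup.mul_mem _ (hCN hcC) hm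
        have hcmU₁ : ∀ a ∈ U₁, (c * m) * a * (c * m)⁻¹ ∈ U₁ := by
          have hle : U₁ ≤ U₁.comap (MulAut.conj (c * m)).toMonoidHom := by
            rw [hU₁]
            apply sup_le
            · intro u hu
              show (MulAut.conj (c * m)) u ∈ U ⊔ D
              rw [MulAut.conj_apply]
              exact Subgroup.mem_sup_left (hNU _ hcmN u hu)
            · intro d hd
              show (MulAut.conj (c * m)) d ∈ U ⊔ D
              rw [MulAut.conj_apply]
              exact Subgroup.mem_sup_right ((Subgroup.mem_normalizer_iff.mp hcmD d).mp hd)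
          intro a ha
          have := hle ha
          have h2 : (MulAut.conj (c * m)) a ∈ U₁ := this
          rwa [MulAut.conj_apply] at h2
        have g1 : Gd P W V (U₁ : Set G) (c * m) := hPU₁ (c * m) (fun a ha => hU₁P (hcmU₁ a ha))
        have g2 : Gd P W V (U : Set G) (c * m) :=
          gd_mono P W V _ _ _ (fun u hu => (le_sup_left : U ≤ U₁) hu) g1
        have g3 : Gd P W V (U : Set G) c⁻¹ := by
          apply gd_congr P W V _ 1 c⁻¹ _ (gd_one P W V _ (fun u hu => hUS hu))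
          intro u hu
          have hc' : c⁻¹ ∈ C := Subgroup.inv_mem _ hcC
          rw [hC, Subgroup.mem_centralizer_iff] at hc'
          have := hc' u hu
          calc 1 * u * (1 : G)⁻¹ = u := by group
            _ = u * c⁻¹ * c⁻¹⁻¹ := by group
            _ = c⁻¹ * u * c⁻¹⁻¹ := by rw [this]
        have g4 := gd_comp P W V (U : Set G) (U : Set G) (c * m) c⁻¹ (fun u hu => hNU _ hcmN u hu) g2 g3
        have e : c⁻¹ * (c * m) = m := by group
        rw [e] at g4
        exact g4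
    exact Cfsg.Agent.S1960.alperin_step P (Gd P W V) (gd_mono P W V) (gd_comp P W V) (gd_inv P W V)
      U hy2 hUgood A hAS hAeq y rfl IHP

include hW hV hWZ hVmono hloc in
theorem main : ∀ n : ℕ, ∀ A : Subgroup G, A ≤ (P : Subgroup G) →
    Nat.card (P : Subgroup G) - Nat.card A = n → PP P W V A ∧
      ((P : Subgroup G) ⊓ Subgroup.centralizer (((P : Subgroup G) : Subgroup G) : Set G) ≤ A →
        QQ P W V A) := by
  intro n
  induction n using Nat.strong_induction_on with
  | _ n ih =>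
  intro A hAS hn
  have hcardle : ∀ B : Subgroup G, B ≤ (P : Subgroup G) → Nat.card B ≤ Nat.card (P : Subgroup G) :=
    fun B hB => Subgroup.card_le_of_le hB
  have IHP : ∀ B : Subgroup G, B ≤ (P : Subgroup G) → Nat.card A < Nat.card B → PP P W V B := by
    intro B hBS hlt
    have := hcardle B hBS
    exact (ih (Nat.card (P : Subgroup G) - Nat.card B) (by omega) B hBS rfl).1
  have IHQ : ∀ B : Subgroup G, B ≤ (P : Subgroup G) → Nat.card A < Nat.card B →
      (P : Subgroup G) ⊓ Subgroup.centralizer (((P : Subgroup G) : Subgroup G) : Set G) ≤ B →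
      QQ P W V B := by
    intro B hBS hlt
    have := hcardle B hBS
    exact (ih (Nat.card (P : Subgroup G) - Nat.card B) (by omega) B hBS rfl).2
  refine ⟨PP_step P W V hW hV hWZ hVmono hloc A hAS IHP IHQ, ?_⟩
  intro hZA
  by_cases hAeq : A = (P : Subgroup G)
  · rw [hAeq]; exact QQ_top P W V
  · exact QQ_step P W V hW hV hWZ hVmono hloc A hAS hAeq hZA IHP IHQ

end main

/-- Let p be a prime dividing the order of the finite group G, P a Sylow p-subgroup, W a conjugacy functor for p on G with Z(H) ≤ W(H) for every nontrivial p-subgroup H, and V a central functor (a conjugacy functor with V(H) ≤ Z(H), and V(H) ≤ V(K) whenever Z(H) ≤ Z(K)). Say that W with V controls strong fusion in a subgroup L when some Sylow p-subgroup Q of L has the property: whenever X ⊆ Q and a ∈ L with a⁻¹Xa ⊆ Q, then a = c b with c ∈ C_L(X) and b = b₁ ⋯ bₙ a product of elements each in N_L(W(Q)) or in C_L(V(Q)) such that every partial conjugate (b₁ ⋯ bₖ)⁻¹ X (b₁ ⋯ bₖ) lies in Q. If W with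 V controls strong fusion in N_G(H) for every subgroup H with Z(P) ≤ H ≤ P, then W with V controls strong fusion in G. -/
theorem result {G : Type*} [Group G] [Finite G] {p : ℕ} [Fact p.Prime] (hdiv : p ∣ Nat.card G) (P : Sylow p G) (W V : Subgroup G → Subgroup G) (hW : Cfsg.IsConjugacyFunctor p W) (hV : Cfsg.IsConjugacyFunctor p V) (hWZ : ∀ H : Subgroup G, IsPGroup p ↥H → H ⊓ Subgroup.centralizer ((H : Subgroup G) : Set G) ≤ W H) (hVZ : ∀ H : Subgroup G, IsPGroup p ↥H → V H ≤ H ⊓ Subgroup.centralizer ((H : Subgroup G) : Set G)) (hVmono : ∀ H K : Subgroup G, IsPGroup p ↥H → IsPGroup p ↥K → H ≠ ⊥ → K ≠ ⊥ → H ⊓ Subgroup.centralizer ((H : Subgroup G) : Set G) ≤ K ⊓ Subgroup.centralizer ((K : Subgroup G) : Set G) → V H ≤ V K) (hloc : ∀ H : Subgroup G, (P : Subgroup G) ⊓ Subgroup.centralizer (((P : Subgroup G) : Subgroup G) : Set G) ≤ H → H ≤ (P : Subgroup G) → ∃ Q : Subgroup G, Q ≤ Subgroup.normalizer ((H : Subgroup G) : Set G) ∧ IsPGroup p ↥Q ∧ ¬ p ∣ (Q).relIndex (Subgroup.normalizer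 ((H : Subgroup G) : Set G)) ∧ ∀ (X : Set G) (a : G), X ⊆ Q → a ∈ Subgroup.normalizer ((H : Subgroup G) : Set G) → (fun x => a⁻¹ * x * a) '' X ⊆ Q → ∃ c ∈ Subgroup.normalizer ((H : Subgroup G) : Set G) ⊓ Subgroup.centralizer X, ∃ (n : ℕ) (b : Fin n → G), (∀ i, b i ∈ Subgroup.normalizer ((H : Subgroup G) : Set G) ⊓ Subgroup.normalizer ((W Q : Subgroup G) : Set G) ∨ b i ∈ Subgroup.normalizer ((H : Subgroup G) : Set G) ⊓ Subgroup.centralizer ((V Q : Subgroup G) : Set G)) ∧ a = c * (List.ofFn b).prod ∧ ∀ k : ℕ, k ≤ n → (fun x => (((List.ofFn b).take k).prod)⁻¹ * x * ((List.ofFn b).take k).prod) '' ((fun x => c⁻¹ * x * c) '' X) ⊆ Q) : ∃ Q : Subgroup G, IsPGroup p ↥Q ∧ ¬ p ∣ Q.index ∧ ∀ (X : Set G) (a : G), X ⊆ Q → (fun x => a⁻¹ * x * a) '' X ⊆ Q → ∃ c ∈ Subgroup.centralizer X, ∃ (n : ℕ) (b : Fin n → G), (∀ i, b i ∈ ⊤ ⊓ Subgroup.normalizer ((W Q : Subgroup G) : Set G) ∨ b i ∈ ⊤ ⊓ Subgroup.centralizer ((V Q : Subgroup G) : Set G)) ∧ a = c * (List.ofFn b).prod ∧ ∀ k : ℕ,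 k ≤ n → (fun x => (((List.ofFn b).take k).prod)⁻¹ * x * ((List.ofFn b).take k).prod) '' ((fun x => c⁻¹ * x * c) '' X) ⊆ Q := by
  refine ⟨P, P.2, P.not_dvd_index, ?_⟩
  intro X a hXP hXa
  have hcl : Subgroup.closure X ≤ (P : Subgroup G) := (Subgroup.closure_le _).mpr hXP
  have hclg : ∀ x ∈ Subgroup.closure X, a⁻¹ * x * a⁻¹⁻¹ ∈ (P : Subgroup G) := by
    have hle : Subgroup.closure X ≤ (P : Subgroup G).comap (MulAut.conj a⁻¹).toMonoidHom := by
      rw [Subgroup.closure_le]
      intro x hx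
      have h1 : a⁻¹ * x * a ∈ (P : Subgroup G) := hXa ⟨x, hx, rfl⟩
      show (MulAut.conj a⁻¹) x ∈ (P : Subgroup G)
      rw [MulAut.conj_apply, inv_inv]
      exact h1
    intro x hx
    have h2 : (MulAut.conj a⁻¹) x ∈ (P : Subgroup G) := hle hx
    rw [MulAut.conj_apply] at h2
    exact h2
  have hPP := (main P W V hW hV hWZ hVmono hloc _ (Subgroup.closure X) hcl rfl).1
  have hgd := hPP a⁻¹ hclg
  have hgood : GoodR (P : Subgroup G) (StP P W V) X a := by
    have : GoodR (P : Subgroup G) (StP P W V) (Subgroup.closure X : Set G) a⁻¹⁻¹ := hgd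
    rw [inv_inv] at this
    exact goodR_mono _ _ Subgroup.subset_closure a this
  obtain ⟨l, hl, hla⟩ := hgood
  have hcX : a * l.prod⁻¹ ∈ Subgroup.centralizer X := by
    rw [Subgroup.mem_centralizer_iff]
    intro x hx
    have := hla x hx
    calc x * (a * l.prod⁻¹) = a * (a⁻¹ * x * a) * l.prod⁻¹ := by group
      _ = a * (l.prod⁻¹ * x * l.prod) * l.prod⁻¹ := by rw [this]
      _ = a * l.prod⁻¹ * x := by group
  have hcX' : ∀ x ∈ X, (a * l.prod⁻¹)⁻¹ * x * (a * l.prod⁻¹) = x := by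
    intro x hx
    have := (Subgroup.mem_centralizer_iff.mp hcX) x hx
    calc (a * l.prod⁻¹)⁻¹ * x * (a * l.prod⁻¹) = (a * l.prod⁻¹)⁻¹ * (x * (a * l.prod⁻¹)) := by group
      _ = (a * l.prod⁻¹)⁻¹ * ((a * l.prod⁻¹) * x) := by rw [this]
      _ = x := by group
  refine ⟨a * l.prod⁻¹, hcX, l.length, l.get, ?_, ?_, ?_⟩
  · intro i
    have := chS_all _ _ X l 1 hl (l.get i) (List.get_mem l i)
    rcases this with h | h
    · exact Or.inl ⟨Subgroup.mem_top _, h⟩
    · exact Or.inr ⟨Subgroup.mem_top _, h⟩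
  · rw [List.ofFn_get]; group
  · intro k hk
    rw [List.ofFn_get]
    rintro _ ⟨_, ⟨x, hx, rfl⟩, rfl⟩
    show (l.take k).prod⁻¹ * ((a * l.prod⁻¹)⁻¹ * x * (a * l.prod⁻¹)) * (l.take k).prod ∈ (P : Subgroup G)
    rw [hcX' x hx]
    have := chS_take _ _ X l 1 hl k hk x hx
    rw [one_mul] at this
    exact this

end Cfsg.Agent.S2002
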