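import Cfsg.Statements.S2007
import Cfsg.Agent.Lib.Helper3_Sylow
import Cfsg.Agent.Lib.Helper3_PResidual

set_option autoImplicit false
open Cfsg

namespace Cfsg.Agent.S2007

open Cfsg.Agent.Lib.Helper3_Sylow Cfsg.Agent.Lib.Helper3_PResidual

/-- General version: a finite group `H` with Sylow `S`, normal `T ≤ S` with `C_S(T) ≤ T` and all
`p'`-elements centralizing `T` has a normal `p`-complement. -/
theorem general {H : Type*} [Group H] [Finite H] {p : ℕ} [hp : Fact p.Prime] (S : Sylow p H)
    (T : Subgroup H) [hT : T.Normal] (hTS : T ≤ (S : Subgroup H))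
    (hC : (S : Subgroup H) ⊓ Subgroup.centralizer (T : Set H) ≤ T)
    (hN : ∀ g : H, (orderOf g).Coprime p → g ∈ Subgroup.centralizer (T : Set H)) :
    HasNormalPComplement p H := by
  have hCn : (Subgroup.centralizer (T : Set H)).Normal := Subgroup.normal_centralizer
  set C := Subgroup.centralizer (T : Set H) with hCdef
  -- (1) H ⧸ C is a p-group
  have hq : IsPGroup p (H ⧸ C) := isPGroup_quotient_of_coprime_mem p C hN
  -- (2) a Sylow of C lies in T
  let Q : Sylow p C := default
  have hQT : ∀ q : C, q ∈ Q → (q : H) ∈ T := by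
    intro q hqQ
    have hQp : IsPGroup p ((Q : Subgroup C).map C.subtype) := Q.2.map _
    obtain ⟨S', hS'⟩ := hQp.exists_le_sylow
    obtain ⟨g, hg⟩ := MulAction.exists_smul_eq H S S'
    have h1 : (q : H) ∈ S' := hS' ⟨q, hqQ, rfl⟩
    rw [← hg, mem_smul_sylow_iff] at h1
    have h2 : g⁻¹ * (q : H) * g ∈ C := by
      have := hCn.conj_mem (q : H) q.2 g⁻¹
      simpa using this
    have h3 : g⁻¹ * (q : H) * g ∈ T := hC ⟨h1, h2⟩
    have h4 := hT.conj_mem _ h3 g
    have h5 : g * (g⁻¹ * (q : H) * g) * g⁻¹ = (q : H) := by group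
    rw [h5] at h4
    exact h4
  -- (3) Q is central in C
  have hP : Subgroup.normalizer ((Q : Subgroup C) : Set C) ≤
      Subgroup.centralizer ((Q : Subgroup C) : Set C) := by
    intro c _
    rw [Subgroup.mem_centralizer_iff]
    intro q hq
    have h1 : (q : H) ∈ T := hQT q hq
    have h2 : (c : H) ∈ Subgroup.centralizer (T : Set H) := c.2
    rw [Subgroup.mem_centralizer_iff] at h2
    have h3 := h2 _ h1
    exact Subtype.ext h3
  -- (4) kernel of the transfer
  set KC : Subgroup C := (MonoidHom.transferSylow Q hP).ker with hKC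
  have hcompl : KC.IsComplement' (Q : Subgroup C) := MonoidHom.ker_transferSylow_isComplement' Q hP
  have hKCcard : ¬ p ∣ Nat.card KC := by
    rw [← hcompl.index_eq_card]
    exact Q.not_dvd_index
  have hKCcop : (Nat.card KC).Coprime p := by
    rw [Nat.coprime_comm, Nat.Prime.coprime_iff_not_dvd hp.out]
    exact hKCcard
  -- (5) K = p'-elements
  set K : Subgroup H := KC.map C.subtype with hK
  have hKmem : ∀ h : H, h ∈ K ↔ (orderOf h).Coprime p := by
    intro h
    constructor
    · rintro ⟨k, hk, rfl⟩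
      have h1 : orderOf (C.subtype k) = orderOf k := Subgroup.orderOf_coe k
      rw [h1]
      exact Nat.Coprime.coprime_dvd_left (Subgroup.orderOf_dvd_natCard KC hk) hKCcop
    · intro hh
      have hc : h ∈ C := hN h hh
      refine ⟨⟨h, hc⟩, ?_, rfl⟩
      show (⟨h, hc⟩ : C) ∈ KC
      rw [hKC, MonoidHom.mem_ker]
      set c : C := ⟨h, hc⟩
      have h1 : orderOf (MonoidHom.transferSylow Q hP c) ∣ orderOf c := orderOf_map_dvd _ c
      have h2 : orderOf c = orderOf h := (Subgroup.orderOf_coe c).symm
      obtain ⟨k, hk⟩ := (Q.2 (MonoidHom.transferSylow Q hP c))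
      have h3 : orderOf (MonoidHom.transferSylow Q hP c) ∣ p ^ k := orderOf_dvd_of_pow_eq_one hk
      have h4 : (orderOf (MonoidHom.transferSylow Q hP c)).Coprime (p ^ k) := by
        apply Nat.Coprime.pow_right
        rw [h2] at h1
        exact Nat.Coprime.coprime_dvd_left h1 hh
      have h5 : orderOf (MonoidHom.transferSylow Q hP c) = 1 :=
        Nat.Coprime.eq_one_of_dvd h4 h3
      exact orderOf_eq_one_iff.mp h5
  have hKn : K.Normal := by
    constructor
    intro n hn g
    rw [hKmem] at hn ⊢
    have : orderOf (g * n * g⁻¹) = orderOf n := by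
      simpa [MulAut.conj_apply] using (MulAut.conj g).orderOf_eq n
    rw [this]; exact hn
  -- (6) complement
  refine ⟨S, K, hKn, ?_⟩
  have hKcard : Nat.card K = Nat.card KC :=
    Subgroup.card_map_of_injective C.subtype_injective
  have hKidx : ∃ m, K.index = p ^ m := by
    obtain ⟨a, ha⟩ := IsPGroup.iff_card.mp Q.2
    obtain ⟨b, hb⟩ := IsPGroup.iff_card.mp hq
    refine ⟨a + b, ?_⟩
    rw [hK, Subgroup.index_map_subtype, hcompl.symm.index_eq_card, ha, Subgroup.index, hb, pow_add]
  obtain ⟨m, hm⟩ := hKidx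
  obtain ⟨n, hn⟩ := IsPGroup.iff_card.mp S.2
  have hHK : Nat.card K * p ^ m = Nat.card H := by rw [← hm]; exact Subgroup.card_mul_index K
  have hKcop : (Nat.card K).Coprime p := by rw [hKcard]; exact hKCcop
  have hSm : Nat.card (S : Subgroup H) = p ^ m := by
    apply Nat.dvd_antisymm
    · have h1 : Nat.card (S : Subgroup H) ∣ Nat.card K * p ^ m := by
        rw [hHK]; exact Subgroup.card_subgroup_dvd_card _
      have h2 : (Nat.card (S : Subgroup H)).Coprime (Nat.card K) := by
        rw [hn]; exact (Nat.Coprime.pow_right n hKcop).symm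
      exact Nat.Coprime.dvd_of_dvd_mul_left h2 h1
    · apply S.pow_dvd_card_of_pow_dvd_card
      rw [← hHK]; exact Dvd.intro_left _ rfl
  apply Subgroup.isComplement'_of_coprime
  · rw [hSm]; exact hHK
  · rw [hSm]; exact Nat.Coprime.pow_right m hKcop

/-- Let p be a prime, G a finite group with Sylow p-subgroup S, and T a normal subgroup of S containing C_S(T). If N_G(T)/C_G(T) is a p-group (every element of N_G(T) of order prime to p centralizes T), then N_G(T) has a normal p-complement. -/
theorem result {G : Type*} [Group G] [Finite G] {p : ℕ} [Fact p.Prime] (S : Sylow p G) (T : Subgroup G) (hTS : T ≤ (S : Subgroup G)) (hTn : (S : Subgroup G) ≤ Subgroup.normalizer ((T : Subgroup G) : Set G)) (hC : (S : Subgroup G) ⊓ Subgroup.centralizer ((T : Subgroup G) : Set G) ≤ T) (hN : ∀ g ∈ Subgroup.normalizer ((T : Subgroup G) : Set G), (orderOf g).Coprime p → g ∈ Subgroup.centralizer ((T : Subgroup G) : Set G)) : Cfsg.HasNormalPComplement p ↥(Subgroup.normalizer ((T : Subgroup G) : Set G)) := by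
  have : (T.subgroupOf (Subgroup.normalizer ((T : Subgroup G) : Set G))).Normal :=
    Subgroup.normal_in_normalizer
  have hTN : T ≤ Subgroup.normalizer ((T : Subgroup G) : Set G) := Subgroup.le_normalizer
  apply general (S.subtype hTn) (T.subgroupOf (Subgroup.normalizer ((T : Subgroup G) : Set G)))
  · intro x hx
    rw [Sylow.coe_subtype, Subgroup.mem_subgroupOf]
    rw [Subgroup.mem_subgroupOf] at hx
    exact hTS hx
  · intro x hx
    rw [Subgroup.mem_subgroupOf]
    apply hC
    obtain ⟨hx1, hx2⟩ := hx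
    rw [Sylow.coe_subtype] at hx1
    have hx1' : x ∈ (S : Subgroup G).subgroupOf (Subgroup.normalizer ((T : Subgroup G) : Set G)) := hx1
    rw [Subgroup.mem_subgroupOf] at hx1'
    refine ⟨hx1', ?_⟩
    have hx2' : x ∈ Subgroup.centralizer ((T.subgroupOf (Subgroup.normalizer ((T : Subgroup G) : Set G)) : Subgroup _) : Set _) := hx2
    rw [Subgroup.mem_centralizer_iff] at hx2'
    show (x : G) ∈ Subgroup.centralizer ((T : Subgroup G) : Set G)
    rw [Subgroup.mem_centralizer_iff]
    intro t ht
    have := hx2' ⟨t, hTN ht⟩ (by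
      show (⟨t, hTN ht⟩ : Subgroup.normalizer ((T : Subgroup G) : Set G)) ∈ T.subgroupOf _
      rw [Subgroup.mem_subgroupOf]; exact ht)
    exact congrArg Subtype.val this
  · intro g hg
    have h1 : orderOf (g : G) = orderOf g := Subgroup.orderOf_coe g
    have h2 := hN g g.2 (by rw [h1]; exact hg)
    rw [Subgroup.mem_centralizer_iff] at h2 ⊢
    intro t ht
    have ht' : (t : G) ∈ T := by
      have : t ∈ T.subgroupOf _ := ht
      rwa [Subgroup.mem_subgroupOf] at this
    exact Subtype.ext (h2 _ ht')

end Cfsg.Agent.S2007
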