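import Cfsg.Statements.S2009
import Mathlib

set_option autoImplicit false
open Cfsg

namespace Cfsg.Agent.S2009

/-- If `N ⊓ C(z) = ⊥` and `e` is conjugate to `z`, then `N ⊓ C(e) = ⊥` for normal `N`. -/
theorem inf_centralizer_conj {H : Type*} [Group H] (z e : H) (N : Subgroup H) [N.Normal]
    (h : N ⊓ Subgroup.centralizer ({z} : Set H) = ⊥) (hc : IsConj z e) :
    N ⊓ Subgroup.centralizer ({e} : Set H) = ⊥ := by
  obtain ⟨c, hc⟩ := isConj_iff.mp hc
  -- hc : c * z * c⁻¹ = e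
  rw [eq_bot_iff]
  intro n hn
  rw [Subgroup.mem_inf, Subgroup.mem_centralizer_singleton_iff] at hn
  obtain ⟨hnN, hne⟩ := hn
  have h1 : c⁻¹ * n * c ∈ N ⊓ Subgroup.centralizer ({z} : Set H) := by
    rw [Subgroup.mem_inf, Subgroup.mem_centralizer_singleton_iff]
    refine ⟨?_, ?_⟩
    · have := ‹N.Normal›.conj_mem n hnN c⁻¹
      simpa using this
    · subst hc
      have h2 : c⁻¹ * (n * (c * z * c⁻¹)) * c = c⁻¹ * ((c * z * c⁻¹) * n) * c := by rw [hne]
      calc c⁻¹ * n * c * z = c⁻¹ * (n * (c * z * c⁻¹)) * c := by group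
        _ = c⁻¹ * ((c * z * c⁻¹) * n) * c := h2
        _ = z * (c⁻¹ * n * c) := by group
  rw [h] at h1
  rw [Subgroup.mem_bot] at h1 ⊢
  have : n = c * (c⁻¹ * n * c) * c⁻¹ := by group
  rw [this, h1]; group

/-- An involution-like element `e` (`e * e = 1`) with `N ⊓ C(e) = ⊥` inverts the finite normal `N`. -/
theorem inverts_of_inf_centralizer {H : Type*} [Group H] [Finite H] (e : H) (he : e * e = 1)
    (N : Subgroup H) [N.Normal]
    (h : N ⊓ Subgroup.centralizer ({e} : Set H) = ⊥) :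
    ∀ n ∈ N, e * n * e⁻¹ = n⁻¹ := by
  have hinv : e⁻¹ = e := inv_eq_of_mul_eq_one_left he
  -- the map f
  let f : N → N := fun n => ⟨(n : H)⁻¹ * (e * n * e⁻¹),
    N.mul_mem (N.inv_mem n.2) (‹N.Normal›.conj_mem n n.2 e)⟩
  have hf : Function.Injective f := by
    intro n m hnm
    have h1 : (n : H)⁻¹ * (e * n * e⁻¹) = (m : H)⁻¹ * (e * m * e⁻¹) := congrArg Subtype.val hnm
    have h2 : (m : H) * (n : H)⁻¹ ∈ N ⊓ Subgroup.centralizer ({e} : Set H) := by
      rw [Subgroup.mem_inf, Subgroup.mem_centralizer_singleton_iff]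
      refine ⟨N.mul_mem m.2 (N.inv_mem n.2), ?_⟩
      -- want: m n⁻¹ e = e m n⁻¹
      have h3 : (m : H) * ((n : H)⁻¹ * (e * n * e⁻¹)) * e * (n : H)⁻¹
          = (m : H) * ((m : H)⁻¹ * (e * m * e⁻¹)) * e * (n : H)⁻¹ := by rw [h1]
      calc (m : H) * (n : H)⁻¹ * e = (m : H) * ((n : H)⁻¹ * (e * n * e⁻¹)) * e * (n : H)⁻¹ := by group
        _ = (m : H) * ((m : H)⁻¹ * (e * m * e⁻¹)) * e * (n : H)⁻¹ := h3
        _ = e * ((m : H) * (n : H)⁻¹) := by group
    rw [h, Subgroup.mem_bot] at h2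
    have : (m : H) = n := by
      have := mul_inv_eq_one.mp h2
      exact this
    exact Subtype.ext this.symm
  have hs : Function.Surjective f := Finite.surjective_of_injective hf
  intro x hx
  obtain ⟨n, hn⟩ := hs ⟨x, hx⟩
  have hx' : x = (n : H)⁻¹ * (e * n * e⁻¹) := (congrArg Subtype.val hn).symm
  rw [hx', hinv]
  have e1 : e * ((n : H)⁻¹ * (e * n * e)) * e = e * (n : H)⁻¹ * e * n * (e * e) := by group
  have e2 : ((n : H)⁻¹ * (e * n * e))⁻¹ = e⁻¹ * (n : H)⁻¹ * e⁻¹ * n := by group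
  rw [e1, e2, he, hinv, mul_one]

/-- Core: under the hypotheses, every proper normal subgroup is trivial. -/
theorem core {H : Type*} [Group H] [Finite H] (z : H) (hz : orderOf z = 2)
    (hN : ∀ N : Subgroup H, N.Normal → N ≠ ⊤ → N ⊓ Subgroup.centralizer ({z} : Set H) = ⊥)
    (E : Subgroup H) (hE : IsKleinFour ↥E) (hzE : z ∈ E) (hc : ∀ e ∈ E, e ≠ 1 → IsConj z e)
    (N : Subgroup H) [hNn : N.Normal] (hNtop : N ≠ ⊤) : N = ⊥ := by
  have hNz := hN N hNn hNtop
  have hsq : ∀ e ∈ E, e * e = 1 := by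
    intro e he
    have := IsKleinFour.mul_self (⟨e, he⟩ : E)
    exact congrArg Subtype.val this
  -- find a ∈ E \ {1, z}
  have hex : ∃ a ∈ E, a ∉ Subgroup.zpowers z := by
    by_contra hcon
    push Not at hcon
    have hle : E ≤ Subgroup.zpowers z := hcon
    have hge : Subgroup.zpowers z ≤ E := by
      rw [Subgroup.zpowers_le]; exact hzE
    have heq : E = Subgroup.zpowers z := le_antisymm hle hge
    have h4 : Nat.card E = 4 := hE.card_four
    rw [heq, Nat.card_zpowers, hz] at h4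
    omega
  obtain ⟨a, haE, haz⟩ := hex
  have ha1 : a ≠ 1 := by
    rintro rfl; exact haz (Subgroup.one_mem _)
  have haz' : a ≠ z := by
    rintro rfl; exact haz (Subgroup.mem_zpowers _)
  have hzz : z * z = 1 := hsq z hzE
  have hb1 : z * a ≠ 1 := by
    intro h
    apply haz'
    have : a = z⁻¹ := (eq_inv_of_mul_eq_one_right h)
    rw [this]; exact inv_eq_of_mul_eq_one_left hzz
  have hbE : z * a ∈ E := E.mul_mem hzE haE
  have hNa := inf_centralizer_conj z a N hNz (hc a haE ha1)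
  have hNb := inf_centralizer_conj z (z * a) N hNz (hc (z * a) hbE hb1)
  have ia := inverts_of_inf_centralizer a (hsq a haE) N hNa
  have ib := inverts_of_inf_centralizer (z * a) (hsq _ hbE) N hNb
  rw [eq_bot_iff]
  intro n hn
  have hcz : n ∈ N ⊓ Subgroup.centralizer ({z} : Set H) := by
    rw [Subgroup.mem_inf, Subgroup.mem_centralizer_singleton_iff]
    refine ⟨hn, ?_⟩
    have h1 := ia n hn
    have h2 := ib n⁻¹ (N.inv_mem hn)
    rw [inv_inv] at h2
    -- (z a) n⁻¹ (z a)⁻¹ = n, and a n a⁻¹ = n⁻¹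
    have hainv : a⁻¹ = a := inv_eq_of_mul_eq_one_left (hsq a haE)
    have h1' : a⁻¹ * n * a = n⁻¹ := by
      have : a⁻¹ * n * a = a * n * a⁻¹ := by rw [hainv]
      rw [this, h1]
    have h3 : z * n * z⁻¹ = n := by
      calc z * n * z⁻¹ = (z * a) * (a⁻¹ * n * a) * (z * a)⁻¹ := by group
        _ = (z * a) * n⁻¹ * (z * a)⁻¹ := by rw [h1']
        _ = n := h2
    calc n * z = (z * n * z⁻¹) * z := by rw [h3]
      _ = z * n := by group
  rw [hNz] at hcz
  exact hcz

theorem result {H : Type*} [Group H] [Finite H] (z : H) (hz : orderOf z = 2) (hN : ∀ N : Subgroup H, N.Normal → N ≠ ⊤ → N ⊓ Subgroup.centralizer ({z} : Set H) = ⊥) (E : Subgroup H) (hE : IsKleinFour ↥E) (hzE : z ∈ E) (hc : ∀ e ∈ E, e ≠ 1 → IsConj z e) : IsSimpleGroup H := by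
  have hnt : Nontrivial H := by
    refine ⟨⟨z, 1, ?_⟩⟩
    rintro rfl
    rw [orderOf_one] at hz
    omega
  refine { exists_pair_ne := hnt.exists_pair_ne, eq_bot_or_eq_top_of_normal := ?_ }
  intro N hNn
  by_cases h : N = ⊤
  · exact Or.inr h
  · exact Or.inl (core z hz hN E hE hzE hc N h)

end Cfsg.Agent.S2009
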