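import Cfsg.Statements.S2008
import Cfsg.Agent.S2009
import Mathlib

set_option autoImplicit false
open Cfsg

namespace Cfsg.Agent.S2008

theorem result {H : Type*} [Group H] [Finite H] (z : H) (hz : orderOf z = 2) (hN : ∀ N : Subgroup H, N.Normal → N ≠ ⊤ → N ⊓ Subgroup.centralizer ({z} : Set H) = ⊥) (E : Subgroup H) (hE : IsKleinFour ↥E) (hzE : z ∈ E) (hc : ∀ e ∈ E, e ≠ 1 → IsConj z e) (N : Subgroup H) [N.Normal] (hab : IsMulCommutative ↥N) : N = ⊥ := by
  by_cases h : N = ⊤
  · -- H is abelian; then all nonidentity e ∈ E equal z, contradiction with |E| = 4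
    exfalso
    subst h
    have hcomm : ∀ x y : H, x * y = y * x := by
      intro x y
      have := hab.is_comm.comm (⟨x, Subgroup.mem_top x⟩ : (⊤ : Subgroup H)) ⟨y, Subgroup.mem_top y⟩
      exact congrArg Subtype.val this
    have hall : ∀ e ∈ E, e ≠ 1 → e = z := by
      intro e he he1
      obtain ⟨c, hc'⟩ := isConj_iff.mp (hc e he he1)
      rw [← hc', hcomm c z]; group
    have hle : E ≤ Subgroup.zpowers z := by
      intro e he
      by_cases he1 : e = 1
      · rw [he1]; exact Subgroup.one_mem _
      · rw [hall e he he1]; exact Subgroup.mem_zpowers _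
    have hge : Subgroup.zpowers z ≤ E := by
      rw [Subgroup.zpowers_le]; exact hzE
    have heq : E = Subgroup.zpowers z := le_antisymm hle hge
    have h4 : Nat.card E = 4 := hE.card_four
    rw [heq, Nat.card_zpowers, hz] at h4
    omega
  · exact Cfsg.Agent.S2009.core z hz hN E hE hzE hc N h

end Cfsg.Agent.S2008
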