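import Cfsg.Statements.S2011
import Cfsg.Agent.Lib.Helper3_Conj
import Cfsg.Agent.Lib.Helper5_PPrime
import Mathlib

set_option autoImplicit false
open Cfsg

namespace Cfsg.Agent.S2011

open Cfsg.Agent.Lib.Helper3_Conj Cfsg.Agent.Lib.Helper5_PPrime

/-- Let G be a finite group with Sylow p-subgroup P and Q ≤ P. Then Q is centric in the fusion system of G on P (C_P(R) ≤ R for every G-conjugate R of Q lying in P) if and only if C_G(Q) is the internal direct product of Z(Q) = Q ∩ C_G(Q) and the largest normal subgroup of C_G(Q) of order prime to p. -/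
theorem result {G : Type*} [Group G] [Finite G] (p : ℕ) [Fact p.Prime] (P : Sylow p G) (Q : Subgroup G) (hQ : Q ≤ P) : (Cfsg.groupFusionSystem (P : Subgroup G)).IsCentric Q ↔ Cfsg.IsInternalDirectProduct (Q ⊓ Subgroup.centralizer (Q : Set G)) ((Cfsg.pPrimeCore p ↥(Subgroup.centralizer (Q : Set G))).map (Subgroup.centralizer (Q : Set G)).subtype) (Subgroup.centralizer (Q : Set G)) := by
  have hp : Fact p.Prime := inferInstance
  set C := Subgroup.centralizer (Q : Set G) with hC
  set Z := Q ⊓ C with hZ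
  set K := (Cfsg.pPrimeCore p ↥C).map C.subtype with hK
  have hQp : IsPGroup p ↥Q := P.2.to_le hQ
  have hKcop : (Nat.card K).Coprime p := by
    rw [hK, Subgroup.card_map_of_injective C.subtype_injective]
    exact pPrimeCore_coprime p ↥C
  have hKC : K ≤ C := Subgroup.map_subtype_le _
  have hcomm : ∀ a ∈ Z, ∀ b ∈ K, a * b = b * a := by
    intro a ha b hb
    have hbC : b ∈ C := hKC hb
    rw [hC, Subgroup.mem_centralizer_iff] at hbC
    exact hbC a ha.1
  constructor
  · -- centric ⇒ direct product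
    rintro ⟨_, hcen⟩
    have hZp : IsPGroup p ↥(Z.subgroupOf C) :=
      (hQp.to_le inf_le_left).comap_of_injective C.subtype C.subtype_injective
    obtain ⟨D, hD⟩ := hZp.exists_le_sylow
    set D' := (D : Subgroup C).map C.subtype with hD'
    have hD'p : IsPGroup p ↥D' := D.2.map _
    have hD'C : D' ≤ C := Subgroup.map_subtype_le _
    have hD'N : D' ≤ Subgroup.normalizer ((Q : Subgroup G) : Set G) :=
      hD'C.trans (Subgroup.centralizer_le_normalizer _)
    have hQD : IsPGroup p ↥(Q ⊔ D') := IsPGroup.to_sup_of_normal_left' hQp hD'p hD'N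
    obtain ⟨P', hP'⟩ := hQD.exists_le_sylow
    obtain ⟨g, hg⟩ := MulAction.exists_smul_eq G P' P
    have hmap : (Q ⊔ D').map (MulAut.conj g).toMonoidHom ≤ (P : Subgroup G) := by
      rw [← hg, smul_sylow_eq_map_conj]
      exact Subgroup.map_mono hP'
    set R := Q.map (MulAut.conj g).toMonoidHom with hR
    have hRP : R ≤ (P : Subgroup G) := (Subgroup.map_mono le_sup_left).trans hmap
    have hconj : (Cfsg.groupFusionSystem (P : Subgroup G)).IsConj Q R := by
      refine ⟨Cfsg.conjHom Q g, ⟨hQ, ?_, g, fun x => rfl⟩, ?_⟩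
      · intro x
        exact hRP (conj_mem_map_conj Q g x x.2)
      · ext y
        constructor
        · rintro ⟨x, rfl⟩
          exact conj_mem_map_conj Q g x x.2
        · rintro ⟨x, hx, rfl⟩
          exact ⟨⟨x, hx⟩, rfl⟩
    have hcR := hcen R hconj
    -- D'^g ≤ C_P(R) ≤ R
    have hD'Z : D' ≤ Z := by
      intro d hd
      have hdC : d ∈ C := hD'C hd
      have h1 : g * d * g⁻¹ ∈ FusionSystem.centralizerIn (P : Subgroup G) R := by
        refine ⟨hmap (conj_mem_map_conj _ g d (Subgroup.mem_sup_right hd)), ?_⟩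
        show g * d * g⁻¹ ∈ Subgroup.centralizer ((R : Subgroup G) : Set G)
        rw [Subgroup.mem_centralizer_iff]
        rintro _ ⟨q, hq, rfl⟩
        rw [hC, Subgroup.mem_centralizer_iff] at hdC
        have h2 := hdC q hq
        simp only [MulEquiv.coe_toMonoidHom, MulAut.conj_apply]
        calc g * q * g⁻¹ * (g * d * g⁻¹) = g * (q * d) * g⁻¹ := by group
          _ = g * (d * q) * g⁻¹ := by rw [h2]
          _ = g * d * g⁻¹ * (g * q * g⁻¹) := by group
      have h3 := hcR h1
      rw [hR, mem_map_conj] at h3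
      have e : g⁻¹ * (g * d * g⁻¹) * g = d := by group
      rw [e] at h3
      exact ⟨h3, hdC⟩
    have hDeq : (D : Subgroup C) = Z.subgroupOf C := by
      apply le_antisymm
      · intro d hd
        rw [Subgroup.mem_subgroupOf]
        exact hD'Z ⟨d, hd, rfl⟩
      · exact hD
    -- D is central in C
    have hP : Subgroup.normalizer ((D : Subgroup C) : Set C) ≤
        Subgroup.centralizer ((D : Subgroup C) : Set C) := by
      intro c _
      rw [Subgroup.mem_centralizer_iff]
      intro d hd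
      have hdZ : (d : G) ∈ Z := hD'Z ⟨d, hd, rfl⟩
      have hcC : (c : G) ∈ Subgroup.centralizer ((Q : Subgroup G) : Set G) := c.2
      rw [Subgroup.mem_centralizer_iff] at hcC
      exact Subtype.ext (hcC _ hdZ.1)
    set K₀ : Subgroup C := (MonoidHom.transferSylow D hP).ker with hK₀
    have hcompl : K₀.IsComplement' (D : Subgroup C) := MonoidHom.ker_transferSylow_isComplement' D hP
    have hK₀cop : (Nat.card K₀).Coprime p := by
      rw [Nat.coprime_comm, Nat.Prime.coprime_iff_not_dvd hp.out, ← hcompl.index_eq_card]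
      exact D.not_dvd_index
    have hK₀le : K₀ ≤ Cfsg.pPrimeCore p ↥C := le_pPrimeCore K₀ hK₀cop
    have hdisj : (D : Subgroup C) ⊓ Cfsg.pPrimeCore p ↥C = ⊥ :=
      inf_eq_bot_of_pGroup_of_coprime D.2 (pPrimeCore_coprime p ↥C)
    have htop : Cfsg.pPrimeCore p ↥C ⊔ (D : Subgroup C) = ⊤ := by
      rw [eq_top_iff, ← hcompl.sup_eq_top]
      exact sup_le_sup_right hK₀le _
    have hDmap : (D : Subgroup C).map C.subtype = Z := by
      rw [hDeq, Subgroup.subgroupOf_map_subtype]
      exact inf_eq_left.mpr inf_le_right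
    refine ⟨inf_le_right, hKC, hcomm, ?_, ?_⟩
    · rw [eq_bot_iff]
      rintro x ⟨hxZ, k, hk, rfl⟩
      have hkD : k ∈ (D : Subgroup C) := by
        rw [hDeq, Subgroup.mem_subgroupOf]; exact hxZ
      have : k ∈ (D : Subgroup C) ⊓ Cfsg.pPrimeCore p ↥C := ⟨hkD, hk⟩
      rw [hdisj, Subgroup.mem_bot] at this
      rw [this]; simp
    · apply le_antisymm (sup_le inf_le_right hKC)
      intro c hc
      have h1 : (⟨c, hc⟩ : C) ∈ Cfsg.pPrimeCore p ↥C ⊔ (D : Subgroup C) := by
        rw [htop]; exact Subgroup.mem_top _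
      have h2 : c ∈ (Cfsg.pPrimeCore p ↥C ⊔ (D : Subgroup C)).map C.subtype := ⟨⟨c, hc⟩, h1, rfl⟩
      rw [Subgroup.map_sup, hDmap, sup_comm] at h2
      exact h2
  · -- direct product ⇒ centric
    rintro ⟨_, _, _, _, hsup⟩
    refine ⟨hQ, ?_⟩
    rintro R ⟨φ, ⟨_, _, g, hg⟩, rfl⟩ x ⟨hxP, hxC⟩
    -- y = g⁻¹ x g ∈ C(Q)
    set y := g⁻¹ * x * g with hy
    have hyC : y ∈ C := by
      rw [hC, Subgroup.mem_centralizer_iff]
      intro q hq
      have hxC' : x ∈ Subgroup.centralizer ((φ.range : Subgroup G) : Set G) := hxC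
      rw [Subgroup.mem_centralizer_iff] at hxC'
      have h1 := hxC' (φ ⟨q, hq⟩) ⟨⟨q, hq⟩, rfl⟩
      rw [hg] at h1
      simp only at h1
      calc q * y = g⁻¹ * (g * q * g⁻¹ * x) * g := by rw [hy]; group
        _ = g⁻¹ * (x * (g * q * g⁻¹)) * g := by rw [h1]
        _ = y * q := by rw [hy]; group
    have hysup : y ∈ Z ⊔ K := by rw [hsup]; exact hyC
    have hKN : K ≤ Subgroup.normalizer ((Z : Subgroup G) : Set G) := by
      intro b hb
      apply Subgroup.centralizer_le_normalizer
      rw [Subgroup.mem_centralizer_iff]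
      intro a ha
      exact hcomm a ha b hb
    have hcoe := Subgroup.coe_mul_of_right_le_normalizer_left Z K hKN
    have hy' : y ∈ ((Z ⊔ K : Subgroup G) : Set G) := hysup
    rw [hcoe] at hy'
    obtain ⟨z, hz, k, hk, hzk⟩ := hy'
    -- k is a p-element of K, hence trivial
    have hzk' : z * k = y := hzk
    have hxp : ∃ n : ℕ, x ^ p ^ n = 1 := by
      obtain ⟨n, hn⟩ := P.2 ⟨x, hxP⟩
      refine ⟨n, ?_⟩
      have := congrArg Subtype.val hn
      simpa using this
    obtain ⟨n, hn⟩ := hxp
    have hyp : y ^ p ^ n = 1 := by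
      have : y ^ p ^ n = g⁻¹ * x ^ p ^ n * g := by
        rw [hy]
        have := map_pow (MulAut.conj g⁻¹) x (p ^ n)
        simp only [MulAut.conj_apply, inv_inv] at this
        exact this.symm
      rw [this, hn]; group
    obtain ⟨m, hm⟩ : ∃ m : ℕ, z ^ p ^ m = 1 := by
      obtain ⟨m, hm⟩ := hQp ⟨z, hz.1⟩
      refine ⟨m, ?_⟩
      have := congrArg Subtype.val hm
      simpa using this
    have hzy : Commute z y := by
      have : y ∈ C := hyC
      rw [hC, Subgroup.mem_centralizer_iff] at this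
      exact this z hz.1
    have hk_eq : k = z⁻¹ * y := by rw [← hzk']; group
    have hkp : k ^ p ^ (n + m) = 1 := by
      rw [hk_eq, (hzy.inv_left).mul_pow, inv_pow, pow_add, pow_mul', hm, pow_mul, hyp]
      simp
    have hk1 : k = 1 := by
      have h1 : orderOf k ∣ p ^ (n + m) := orderOf_dvd_of_pow_eq_one hkp
      have h2 : orderOf k ∣ Nat.card K := Subgroup.orderOf_dvd_natCard K hk
      have hcop : (p ^ (n + m)).Coprime (Nat.card K) := Nat.Coprime.pow_left _ hKcop.symm
      have : orderOf k ∣ 1 := by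
        rw [← Nat.Coprime.gcd_eq_one hcop]
        exact Nat.dvd_gcd h1 h2
      exact orderOf_eq_one_iff.mp (Nat.dvd_one.mp this)
    have hyQ : y ∈ Q := by
      rw [← hzk', hk1, mul_one]; exact hz.1
    refine ⟨⟨y, hyQ⟩, ?_⟩
    rw [hg]
    show g * y * g⁻¹ = x
    rw [hy]; group

end Cfsg.Agent.S2011
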