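import Cfsg.Statements.S2012
import Cfsg.Agent.S1960
import Cfsg.Agent.S1963

set_option autoImplicit false
open Cfsg

namespace Cfsg.Agent.S2012

open Cfsg.Agent.Lib.Helper3_Conj Cfsg.Agent.Lib.Helper3_SylowRel Cfsg.Agent.Lib.Helper3_Alperin

variable {G : Type*} [Group G]

section chains

variable {β : Type*} (sub : β → Subgroup G) (Φ : β → G → Prop)

/-- Chain predicate for lists of pairs `(b, x)` with `Φ b x` and `A ^ c ⊆ sub b`. -/
def Ch2 (A : Set G) : G → List (β × G) → Prop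
  | _, [] => True
  | c, q :: l => Φ q.1 q.2 ∧ (∀ a ∈ A, c⁻¹ * a * c ∈ sub q.1) ∧ Ch2 A (c * q.2) l

/-- product of the second components -/
def lprod2 (l : List (β × G)) : G := (l.map Prod.snd).prod

/-- reversed list with inverted elements -/
def rinv2 (l : List (β × G)) : List (β × G) := (l.map (fun q => (q.1, q.2⁻¹))).reverse

theorem lprod2_nil : lprod2 ([] : List (β × G)) = 1 := by simp [lprod2]

theorem lprod2_cons (q : β × G) (l : List (β × G)) : lprod2 (q :: l) = q.2 * lprod2 l := by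
  simp [lprod2]

theorem lprod2_append (l₁ l₂ : List (β × G)) : lprod2 (l₁ ++ l₂) = lprod2 l₁ * lprod2 l₂ := by
  simp [lprod2]

theorem rinv2_cons (q : β × G) (l : List (β × G)) : rinv2 (q :: l) = rinv2 l ++ [(q.1, q.2⁻¹)] := by
  simp [rinv2]

theorem lprod2_rinv2 (l : List (β × G)) : lprod2 (rinv2 l) = (lprod2 l)⁻¹ := by
  induction l with
  | nil => simp [rinv2, lprod2]
  | cons q l ih =>
    rw [rinv2_cons, lprod2_append, ih, lprod2_cons, lprod2_cons, lprod2_nil, mul_one, mul_inv_rev]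

theorem ch2_append (A : Set G) :
    ∀ (l₁ l₂ : List (β × G)) (c : G), Ch2 sub Φ A c l₁ → Ch2 sub Φ A (c * lprod2 l₁) l₂ →
      Ch2 sub Φ A c (l₁ ++ l₂)
  | [], l₂, c, _, h2 => by
    rw [lprod2_nil, mul_one] at h2
    simpa using h2
  | q :: l₁, l₂, c, h1, h2 => by
    obtain ⟨h11, h13, h14⟩ := h1
    refine ⟨h11, h13, ?_⟩
    apply ch2_append A l₁ l₂ (c * q.2) h14
    rw [lprod2_cons, ← mul_assoc] at h2
    exact h2

theorem ch2_mono {A B : Set G} (hBA : B ⊆ A) :
    ∀ (l : List (β × G)) (c : G), Ch2 sub Φ A c l → Ch2 sub Φ B c l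
  | [], _, _ => trivial
  | q :: l, c, h => by
    obtain ⟨h1, h3, h4⟩ := h
    exact ⟨h1, fun a ha => h3 a (hBA ha), ch2_mono hBA l (c * q.2) h4⟩

theorem ch2_conj (A A' : Set G) (g : G) (hAA' : ∀ a ∈ A, g⁻¹ * a * g ∈ A') :
    ∀ (l : List (β × G)) (c : G), Ch2 sub Φ A' c l → Ch2 sub Φ A (g * c) l
  | [], _, _ => trivial
  | q :: l, c, h => by
    obtain ⟨h1, h3, h4⟩ := h
    refine ⟨h1, ?_, ?_⟩
    · intro a ha
      have := h3 (g⁻¹ * a * g) (hAA' a ha)
      have e : (g * c)⁻¹ * a * (g * c) = c⁻¹ * (g⁻¹ * a * g) * c := by group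
      rw [e]; exact this
    · rw [mul_assoc]
      exact ch2_conj A A' g hAA' l (c * q.2) h4

theorem ch2_single (A : Set G) (c : G) (b : β) (x : G) (hΦ : Φ b x)
    (hA : ∀ a ∈ A, c⁻¹ * a * c ∈ sub b) : Ch2 sub Φ A c [(b, x)] :=
  ⟨hΦ, hA, trivial⟩

theorem ch2_reverse (hΦinv : ∀ b x, Φ b x → Φ b x⁻¹)
    (hΦN : ∀ b x, Φ b x → x ∈ Subgroup.normalizer ((sub b : Subgroup G) : Set G)) (A : Set G) :
    ∀ (l : List (β × G)) (c : G), Ch2 sub Φ A c l → Ch2 sub Φ A (c * lprod2 l) (rinv2 l)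
  | [], _, _ => trivial
  | q :: l, c, h => by
    obtain ⟨h1, h3, h4⟩ := h
    rw [rinv2_cons]
    have ih := ch2_reverse hΦinv hΦN A l (c * q.2) h4
    have e1 : c * lprod2 (q :: l) = c * q.2 * lprod2 l := by rw [lprod2_cons, mul_assoc]
    rw [e1]
    apply ch2_append sub Φ A _ _ _ ih
    rw [lprod2_rinv2]
    have e2 : c * q.2 * lprod2 l * (lprod2 l)⁻¹ = c * q.2 := by group
    rw [e2]
    apply ch2_single sub Φ A _ _ _ (hΦinv _ _ h1)
    intro a ha
    have h5 := h3 a ha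
    have h2 := hΦN _ _ h1
    have h6 := (Subgroup.mem_normalizer_iff.mp (Subgroup.inv_mem _ h2)) (c⁻¹ * a * c)
    have e3 : (c * q.2)⁻¹ * a * (c * q.2) = q.2⁻¹ * (c⁻¹ * a * c) * q.2⁻¹⁻¹ := by group
    rw [e3]
    exact h6.mp h5

theorem ch2_get (A : Set G) :
    ∀ (l : List (β × G)) (c : G), Ch2 sub Φ A c l → ∀ (i : ℕ) (hi : i < l.length),
      Φ (l[i]).1 (l[i]).2 ∧
      ∀ a ∈ A, (c * ((l.map Prod.snd).take i).prod)⁻¹ * a * (c * ((l.map Prod.snd).take i).prod)
        ∈ sub (l[i]).1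
  | [], _, _, i, hi => by simp at hi
  | q :: l, c, h, 0, _ => by
    obtain ⟨h1, h3, _⟩ := h
    refine ⟨h1, ?_⟩
    intro a ha
    simpa using h3 a ha
  | q :: l, c, h, i + 1, hi => by
    obtain ⟨_, _, h4⟩ := h
    have hi' : i < l.length := by simpa using hi
    obtain ⟨k1, k3⟩ := ch2_get A l (c * q.2) h4 i hi'
    refine ⟨by simpa using k1, ?_⟩
    intro a ha
    have := k3 a ha
    simpa [mul_assoc] using this

/-- `A` is carried along `g` by a chain. -/
def Good2 (A : Set G) (g : G) : Prop :=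
  ∃ l : List (β × G), Ch2 sub Φ A 1 l ∧ lprod2 l = g

theorem good2_one (A : Set G) : Good2 sub Φ A 1 := ⟨[], trivial, lprod2_nil⟩

theorem good2_mono {A B : Set G} (hBA : B ⊆ A) (g : G) (h : Good2 sub Φ A g) : Good2 sub Φ B g := by
  obtain ⟨l, hl, hp⟩ := h
  exact ⟨l, ch2_mono sub Φ hBA l 1 hl, hp⟩

theorem good2_comp (A A' : Set G) (g h : G) (hAA' : ∀ a ∈ A, g⁻¹ * a * g ∈ A')
    (hg : Good2 sub Φ A g) (hh : Good2 sub Φ A' h) : Good2 sub Φ A (g * h) := by
  obtain ⟨l₁, hl₁, hp₁⟩ := hg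
  obtain ⟨l₂, hl₂, hp₂⟩ := hh
  refine ⟨l₁ ++ l₂, ?_, by rw [lprod2_append, hp₁, hp₂]⟩
  apply ch2_append sub Φ A _ _ _ hl₁
  rw [one_mul, hp₁]
  have := ch2_conj sub Φ A A' g hAA' l₂ 1 hl₂
  rwa [mul_one] at this

theorem good2_inv (hΦinv : ∀ b x, Φ b x → Φ b x⁻¹)
    (hΦN : ∀ b x, Φ b x → x ∈ Subgroup.normalizer ((sub b : Subgroup G) : Set G))
    (A A' : Set G) (g : G) (hA' : ∀ a' ∈ A', g * a' * g⁻¹ ∈ A)
    (hg : Good2 sub Φ A g) : Good2 sub Φ A' g⁻¹ := by
  obtain ⟨l, hl, hp⟩ := hg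
  have hrev := ch2_reverse sub Φ hΦinv hΦN A l 1 hl
  rw [one_mul, hp] at hrev
  refine ⟨rinv2 l, ?_, by rw [lprod2_rinv2, hp]⟩
  -- transport from A at position g to A' at position 1
  have key : ∀ (l' : List (β × G)) (c : G), Ch2 sub Φ A (g * c) l' → Ch2 sub Φ A' c l' := by
    intro l'
    induction l' with
    | nil => intro _ _; trivial
    | cons q l' ih =>
      intro c h
      obtain ⟨h1, h3, h4⟩ := h
      refine ⟨h1, ?_, ?_⟩
      · intro a' ha'
        have := h3 _ (hA' a' ha')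
        have e : (g * c)⁻¹ * (g * a' * g⁻¹) * (g * c) = c⁻¹ * a' * c := by group
        rwa [e] at this
      · apply ih
        rw [← mul_assoc]; exact h4
  apply key
  rw [mul_one]; exact hrev

theorem good2_to_fin (A : Set G) (g : G) (h : Good2 sub Φ A g) :
    ∃ (n : ℕ) (Q : Fin n → β) (x : Fin n → G), (List.ofFn x).prod = g ∧
      (∀ i, Φ (Q i) (x i)) ∧
      (∀ h : 0 < n, A ⊆ sub (Q ⟨0, h⟩)) ∧
      ∀ (i : Fin n) (h : i.val + 1 < n),
        (fun a => (((List.ofFn x).take (i.val + 1)).prod)⁻¹ * a * ((List.ofFn x).take (i.val + 1)).prod) '' A ⊆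
          sub (Q ⟨i.val + 1, h⟩) := by
  obtain ⟨l, hl, hp⟩ := h
  have hofn : List.ofFn (fun i : Fin l.length => (l.get i).2) = l.map Prod.snd := by
    have : (fun i : Fin l.length => (l.get i).2) = Prod.snd ∘ l.get := rfl
    rw [this, ← List.map_ofFn, List.ofFn_get]
  refine ⟨l.length, fun i => (l.get i).1, fun i => (l.get i).2, ?_, ?_, ?_, ?_⟩
  · rw [hofn]; exact hp
  · intro i
    exact (ch2_get sub Φ A l 1 hl i.1 i.2).1
  · intro h0 a ha
    have := (ch2_get sub Φ A l 1 hl 0 h0).2 a ha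
    simpa using this
  · intro i hi
    rw [hofn]
    rintro _ ⟨a, ha, rfl⟩
    have := (ch2_get sub Φ A l 1 hl (i.1 + 1) hi).2 a ha
    simpa using this

end chains

section alperin

variable [Finite G] {p : ℕ} [hp : Fact p.Prime] (P : Sylow p G)

/-- the subgroup attached to a Sylow subgroup `Q`: the intersection `P ∩ Q` -/
def sub (P : Sylow p G) (Q : Sylow p G) : Subgroup G := (P : Subgroup G) ⊓ (Q : Subgroup G)

/-- the conditions on a pair `(Q, x)` -/
def Phi (P : Sylow p G) (Q : Sylow p G) (x : G) : Prop :=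
  x ∈ Subgroup.normalizer ((((P : Subgroup G) ⊓ (Q : Subgroup G)) : Subgroup G) : Set G) ∧
  ¬ p ∣ ((P : Subgroup G) ⊓ Subgroup.normalizer ((((P : Subgroup G) ⊓ (Q : Subgroup G)) : Subgroup G) : Set G)).relIndex (Subgroup.normalizer ((((P : Subgroup G) ⊓ (Q : Subgroup G)) : Subgroup G) : Set G)) ∧
  ¬ p ∣ ((Q : Subgroup G) ⊓ Subgroup.normalizer ((((P : Subgroup G) ⊓ (Q : Subgroup G)) : Subgroup G) : Set G)).relIndex (Subgroup.normalizer ((((P : Subgroup G) ⊓ (Q : Subgroup G)) : Subgroup G) : Set G)) ∧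
  ((Q : Subgroup G) = (P : Subgroup G) ∨ ∃ k : ℕ, orderOf x = p ^ k)

omit [Finite G] hp in
theorem phi_inv (Q : Sylow p G) (x : G) (h : Phi P Q x) : Phi P Q x⁻¹ := by
  obtain ⟨h1, h2, h3, h4⟩ := h
  refine ⟨Subgroup.inv_mem _ h1, h2, h3, ?_⟩
  rcases h4 with h4 | ⟨k, hk⟩
  · exact Or.inl h4
  · exact Or.inr ⟨k, by rw [orderOf_inv]; exact hk⟩

omit [Finite G] hp in
theorem phi_N (Q : Sylow p G) (x : G) (h : Phi P Q x) :
    x ∈ Subgroup.normalizer ((sub P Q : Subgroup G) : Set G) := h.1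

/-- left-conjugation goodness -/
def Gd (P : Sylow p G) (A : Set G) (g : G) : Prop := Good2 (sub P) (Phi P) A g⁻¹

omit [Finite G] hp in
theorem gd_mono (A B : Set G) (g : G) (hBA : B ⊆ A) (h : Gd P A g) : Gd P B g :=
  good2_mono (sub P) (Phi P) hBA g⁻¹ h

omit [Finite G] hp in
theorem gd_comp (A A' : Set G) (g h : G) (hsub : ∀ a ∈ A, g * a * g⁻¹ ∈ A')
    (hg : Gd P A g) (hh : Gd P A' h) : Gd P A (h * g) := by
  have := good2_comp (sub P) (Phi P) A A' g⁻¹ h⁻¹ (by
    intro a ha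
    rw [inv_inv]; exact hsub a ha) hg hh
  show Good2 (sub P) (Phi P) A (h * g)⁻¹
  rw [mul_inv_rev]; exact this

omit [Finite G] hp in
theorem gd_inv (A : Set G) (g : G) (hg : Gd P A g) : Gd P ((fun a => g * a * g⁻¹) '' A) g⁻¹ := by
  apply good2_inv (sub P) (Phi P) (phi_inv P) (phi_N P) A _ g⁻¹ _ hg
  rintro _ ⟨a, ha, rfl⟩
  have e : g⁻¹ * (g * a * g⁻¹) * g⁻¹⁻¹ = a := by group
  rw [e]; exact ha

omit [Finite G] hp in
theorem gd_one (A : Set G) : Gd P A 1 := by
  show Good2 (sub P) (Phi P) A 1⁻¹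
  rw [inv_one]; exact good2_one _ _ _

/-- A single step with `Q = P`: elements of `N(P)`. -/
theorem gd_of_mem_normalizer (A : Set G) (hA : A ⊆ (P : Subgroup G)) (x : G)
    (hx : x ∈ Subgroup.normalizer (((P : Subgroup G) : Subgroup G) : Set G)) : Gd P A x := by
  refine ⟨[(P, x⁻¹)], ?_, by simp [lprod2]⟩
  have hPP : (P : Subgroup G) ⊓ (P : Subgroup G) = (P : Subgroup G) := inf_idem _
  have hinf : (P : Subgroup G) ⊓ Subgroup.normalizer (((P : Subgroup G) : Subgroup G) : Set G) =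
      (P : Subgroup G) := inf_eq_left.mpr Subgroup.le_normalizer
  have hcond : ¬ p ∣ ((P : Subgroup G) ⊓ Subgroup.normalizer (((P : Subgroup G) : Subgroup G) : Set G)).relIndex
      (Subgroup.normalizer (((P : Subgroup G) : Subgroup G) : Set G)) := by
    rw [hinf]
    intro hdvd
    exact P.not_dvd_index (dvd_trans hdvd (Subgroup.relIndex_dvd_index_of_le Subgroup.le_normalizer))
  apply ch2_single
  · refine ⟨?_, ?_, ?_, Or.inl rfl⟩
    · rw [hPP]; exact Subgroup.inv_mem _ hx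
    · rw [hPP]; exact hcond
    · rw [hPP]; exact hcond
  · intro a ha
    show (1 : G)⁻¹ * a * 1 ∈ (P : Subgroup G) ⊓ (P : Subgroup G)
    rw [hPP]
    have e : (1 : G)⁻¹ * a * 1 = a := by group
    rw [e]
    exact hA ha

/-- Conjugating `P` by an element of `N(U)` keeps the Sylow condition at `U`. -/
theorem tame_conj (U : Subgroup G) (w : G) (hw : w ∈ Subgroup.normalizer ((U : Subgroup G) : Set G))
    (hU : ¬ p ∣ ((P : Subgroup G) ⊓ Subgroup.normalizer ((U : Subgroup G) : Set G)).relIndex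
      (Subgroup.normalizer ((U : Subgroup G) : Set G))) :
    ¬ p ∣ (((w • P : Sylow p G) : Subgroup G) ⊓ Subgroup.normalizer ((U : Subgroup G) : Set G)).relIndex
      (Subgroup.normalizer ((U : Subgroup G) : Set G)) := by
  have e2 : (Subgroup.normalizer ((U : Subgroup G) : Set G)).map (MulAut.conj w).toMonoidHom =
      Subgroup.normalizer ((U : Subgroup G) : Set G) :=
    map_conj_eq_self_of_mem_normalizer _ w (Subgroup.le_normalizer hw)
  have e1 : ((w • P : Sylow p G) : Subgroup G) ⊓ Subgroup.normalizer ((U : Subgroup G) : Set G) =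
      ((P : Subgroup G) ⊓ Subgroup.normalizer ((U : Subgroup G) : Set G)).map
        (MulAut.conj w).toMonoidHom := by
    rw [Subgroup.map_inf_eq _ _ _ (MulAut.conj w).injective, smul_sylow_eq_map_conj, e2]
  have e3 := Subgroup.relIndex_map_map_of_injective (f := (MulAut.conj w).toMonoidHom)
    ((P : Subgroup G) ⊓ Subgroup.normalizer ((U : Subgroup G) : Set G))
    (Subgroup.normalizer ((U : Subgroup G) : Set G)) (MulAut.conj w).injective
  rw [e2] at e3
  rw [e1, e3]
  exact hU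

/-- The key claim: elements of `N_G(U)` are good on `U`. -/
theorem claim (U : Subgroup G) (hUP : U ≤ (P : Subgroup G)) (hUne : U ≠ (P : Subgroup G))
    (hU : ¬ p ∣ ((P : Subgroup G) ⊓ Subgroup.normalizer ((U : Subgroup G) : Set G)).relIndex
      (Subgroup.normalizer ((U : Subgroup G) : Set G)))
    (IH : ∀ B : Subgroup G, B ≤ (P : Subgroup G) → Nat.card U < Nat.card B →
      ∀ g : G, (∀ b ∈ B, g * b * g⁻¹ ∈ (P : Subgroup G)) → Gd P (B : Set G) g) :
    ∀ m ∈ Subgroup.normalizer ((U : Subgroup G) : Set G), Gd P (U : Set G) m := by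
  set N := Subgroup.normalizer ((U : Subgroup G) : Set G) with hN
  set R := (P : Subgroup G) ⊓ N with hR
  have hRp : IsPGroup p ↥R := P.2.to_le inf_le_left
  have hUR : U ≤ R := le_inf hUP Subgroup.le_normalizer
  have hRlt : Nat.card U < Nat.card R := card_lt_card_inf_normalizer (P : Subgroup G) U P.2 hUP hUne
  have hNU : ∀ m ∈ N, ∀ u ∈ U, m * u * m⁻¹ ∈ U := fun m hm u hu =>
    (Subgroup.mem_normalizer_iff.mp hm u).mp hu
  -- (1) elements of N ∩ N(R)
  have h1 : ∀ n ∈ Subgroup.normalizer ((R : Subgroup G) : Set G), Gd P (U : Set G) n := by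
    intro n hn
    have := IH R inf_le_left hRlt n (fun b hb => ((Subgroup.mem_normalizer_iff.mp hn b).mp hb).1)
    exact gd_mono P _ _ n (fun u hu => hUR hu) this
  -- (2) p-elements of N
  have h2 : ∀ y ∈ N, (∃ k : ℕ, orderOf y = p ^ k) → Gd P (U : Set G) y := by
    intro y hyN ⟨k, hk⟩
    have hZp : IsPGroup p ↥(Subgroup.zpowers y) := by
      apply IsPGroup.of_card (n := k)
      rw [Nat.card_zpowers, hk]
    obtain ⟨w, hwN, hwy⟩ : ∃ w ∈ N, w⁻¹ * y * w ∈ R := by
      obtain ⟨c, hcN, hc⟩ := exists_conj_le_of_relIndex N R (Subgroup.zpowers y) inf_le_right hRp hU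
        (by rw [Subgroup.zpowers_le]; exact hyN) hZp
      refine ⟨c⁻¹, Subgroup.inv_mem _ hcN, ?_⟩
      rw [inv_inv]
      exact hc y (Subgroup.mem_zpowers y)
    set u := w⁻¹ * y * w with hu
    have huR : u ∈ R := hwy
    have huP : u ∈ (P : Subgroup G) := huR.1
    have hyw : y = w * u * w⁻¹ := by rw [hu]; group
    set S' : Sylow p G := w • P with hS'
    have hyS' : y ∈ (S' : Subgroup G) := by
      rw [hS', mem_smul_sylow_iff']; exact huP
    have hUS' : U ≤ (S' : Subgroup G) := by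
      intro a ha
      rw [hS', mem_smul_sylow_iff']
      have := hNU w⁻¹ (Subgroup.inv_mem _ hwN) a ha
      rw [inv_inv] at this
      exact hUP this
    have hUB : U ≤ (P : Subgroup G) ⊓ (S' : Subgroup G) := le_inf hUP hUS'
    by_cases hB : (P : Subgroup G) ⊓ (S' : Subgroup G) = U
    · -- tame intersection, single step
      refine ⟨[(S', y⁻¹)], ?_, by simp [lprod2]⟩
      apply ch2_single
      · refine ⟨?_, ?_, ?_, Or.inr ⟨k, by rw [orderOf_inv]; exact hk⟩⟩
        · rw [hB]; exact Subgroup.inv_mem _ hyN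
        · rw [hB]; exact hU
        · rw [hB]
          exact tame_conj P U w hwN hU
      · intro a ha
        show (1 : G)⁻¹ * a * 1 ∈ (P : Subgroup G) ⊓ (S' : Subgroup G)
        have : (1 : G)⁻¹ * a * 1 = a := by group
        rw [this]; exact hUB ha
    · -- bigger intersection: use the induction hypothesis
      set B' := (P : Subgroup G) ⊓ (S' : Subgroup G) with hB'
      have hlt : Nat.card U < Nat.card B' := by
        by_contra hcon
        push Not at hcon
        exact hB (Subgroup.eq_of_le_of_card_ge hUB hcon).symm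
      have hgw : Gd P (B' : Set G) w⁻¹ := by
        apply IH B' inf_le_left hlt
        intro b hb
        have hbS : b ∈ ((w • P : Sylow p G) : Subgroup G) := hb.2
        rw [mem_smul_sylow_iff'] at hbS
        rw [inv_inv]; exact hbS
      have hgw' : Gd P (U : Set G) w⁻¹ := gd_mono P _ _ _ (fun a ha => hUB ha) hgw
      have hgu : Gd P (U : Set G) u := gd_of_mem_normalizer P _ (fun a ha => hUP ha) u
        (Subgroup.le_normalizer huP)
      have hgw'' : Gd P (U : Set G) w := by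
        have := gd_inv P _ _ hgw'
        rw [inv_inv] at this
        refine gd_mono P _ _ _ ?_ this
        intro a ha
        refine ⟨w * a * w⁻¹, hNU w hwN a ha, ?_⟩
        group
      have huN : u ∈ N := huR.2
      have c1 : Gd P (U : Set G) (u * w⁻¹) :=
        gd_comp P _ _ _ _ (fun a ha => hNU w⁻¹ (Subgroup.inv_mem _ hwN) a ha) hgw' hgu
      have c2 : Gd P (U : Set G) (w * (u * w⁻¹)) :=
        gd_comp P _ _ _ _ (fun a ha => hNU _ (Subgroup.mul_mem _ huN (Subgroup.inv_mem _ hwN)) a ha)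
          c1 hgw''
      have e : w * (u * w⁻¹) = y := by rw [hyw]; group
      rw [e] at c2
      exact c2
  -- (3) Frattini argument
  set K := Subgroup.closure {y : G | y ∈ N ∧ ∃ k : ℕ, orderOf y = p ^ k} with hK
  have hKN : K ≤ N := by
    rw [hK, Subgroup.closure_le]
    intro y hy
    exact hy.1
  have hpel : ∀ (H : Subgroup G), IsPGroup p ↥H → H ≤ N → H ≤ K := by
    intro H hH hHN x hx
    apply Subgroup.subset_closure
    refine ⟨hHN hx, ?_⟩
    obtain ⟨k, hk⟩ := (IsPGroup.iff_orderOf.mp hH) ⟨x, hx⟩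
    exact ⟨k, by rw [← hk, Subgroup.orderOf_mk]⟩
  have hRK : R ≤ K := hpel R hRp inf_le_right
  have hRrelK : ¬ p ∣ R.relIndex K := by
    intro hdvd
    apply hU
    rw [← Subgroup.relIndex_mul_relIndex R K N hRK hKN]
    exact Dvd.dvd.mul_right hdvd _
  have hKgood : ∀ k ∈ K, k ∈ N ∧ Gd P (U : Set G) k := by
    intro k hk
    induction hk using Subgroup.closure_induction with
    | mem y hy => exact ⟨hy.1, h2 y hy.1 hy.2⟩
    | one => exact ⟨Subgroup.one_mem _, gd_one P _⟩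
    | mul a b _ _ ha hb =>
      refine ⟨Subgroup.mul_mem _ ha.1 hb.1, ?_⟩
      exact gd_comp P _ _ _ _ (fun u hu => hNU b hb.1 u hu) hb.2 ha.2
    | inv a _ ha =>
      refine ⟨Subgroup.inv_mem _ ha.1, ?_⟩
      refine gd_mono P _ _ _ ?_ (gd_inv P _ _ ha.2)
      intro u hu
      refine ⟨a⁻¹ * u * a, ?_, by group⟩
      have := hNU a⁻¹ (Subgroup.inv_mem _ ha.1) u hu
      rw [inv_inv] at this
      exact this
  intro m hm
  set R' := R.map (MulAut.conj m).toMonoidHom with hR'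
  have hR'N : R' ≤ N := by
    rw [hR', ← map_conj_eq_self_of_mem_normalizer N m (Subgroup.le_normalizer hm)]
    exact Subgroup.map_mono inf_le_right
  have hR'K : R' ≤ K := hpel R' (hRp.map _) hR'N
  obtain ⟨k, hkK, hk⟩ := exists_conj_le_of_relIndex K R R' hRK hRp hRrelK hR'K (hRp.map _)
  have hkm : k * m ∈ Subgroup.normalizer ((R : Subgroup G) : Set G) := by
    apply Cfsg.Agent.S1960.mem_normalizer_of_conj_le'
    intro r hr
    have := hk (m * r * m⁻¹) (conj_mem_map_conj R m r hr)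
    have e : k * m * r * (k * m)⁻¹ = k * (m * r * m⁻¹) * k⁻¹ := by group
    rw [e]; exact this
  have hk' := hKgood k⁻¹ (Subgroup.inv_mem _ hkK)
  have hkmN : k * m ∈ N := Subgroup.mul_mem _ (hKN hkK) hm
  have := gd_comp P _ _ _ _ (fun u hu => hNU _ hkmN u hu) (h1 (k * m) hkm) hk'.2
  have e : k⁻¹ * (k * m) = m := by group
  rw [e] at this
  exact this

theorem main : ∀ n : ℕ, ∀ A : Subgroup G, A ≤ (P : Subgroup G) →
    Nat.card (P : Subgroup G) - Nat.card A = n →
    ∀ g : G, (∀ a ∈ A, g * a * g⁻¹ ∈ (P : Subgroup G)) → Gd P (A : Set G) g := by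
  intro n
  induction n using Nat.strong_induction_on with
  | _ n ih =>
  intro A hAP hn
  have hcardle : ∀ B : Subgroup G, B ≤ (P : Subgroup G) → Nat.card B ≤ Nat.card (P : Subgroup G) :=
    fun B hB => Subgroup.card_le_of_le hB
  have IH : ∀ B : Subgroup G, B ≤ (P : Subgroup G) → Nat.card A < Nat.card B →
      ∀ g : G, (∀ b ∈ B, g * b * g⁻¹ ∈ (P : Subgroup G)) → Gd P (B : Set G) g := by
    intro B hBP hlt
    have := hcardle B hBP
    exact ih (Nat.card (P : Subgroup G) - Nat.card B) (by omega) B hBP rfl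
  by_cases hAeq : A = (P : Subgroup G)
  · intro g hg
    have hg' : ∀ a ∈ A, g * a * g⁻¹ ∈ A := by
      intro a ha; rw [hAeq]; exact hg a ha
    have hgN := Cfsg.Agent.S1960.mem_normalizer_of_conj_le' A g hg'
    rw [hAeq] at hgN ⊢
    exact gd_of_mem_normalizer P _ (fun a ha => ha) g hgN
  · obtain ⟨y, hy1, hy2⟩ := Cfsg.Agent.S1963.exists_conj_sylow_normalizer P A
    set U := A.map (MulAut.conj y).toMonoidHom with hU
    have hUP : U ≤ (P : Subgroup G) :=
      (Subgroup.map_mono (le_inf hAP Subgroup.le_normalizer)).trans hy1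
    have hUcard : Nat.card U = Nat.card A :=
      Subgroup.card_map_of_injective (MulAut.conj y).injective
    have hAlt : Nat.card A < Nat.card (P : Subgroup G) := by
      by_contra hcon
      push Not at hcon
      exact hAeq (Subgroup.eq_of_le_of_card_ge hAP hcon)
    have hUne : U ≠ (P : Subgroup G) := by
      intro hcon
      rw [hcon] at hUcard
      omega
    have hUgood := claim P U hUP hUne hy2 (by
      intro B hBP hlt
      apply IH B hBP
      omega)
    exact Cfsg.Agent.S1960.alperin_step P (Gd P) (gd_mono P) (gd_comp P) (gd_inv P) U hy2 hUgood A hAP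
      hAeq y rfl IH

end alperin

/-- Alperin's fusion Theorem with the factors taken to be p-elements: let P be a Sylow p-subgroup of a finite group G, A a subset of P and g an element with g⁻¹Ag ⊆ P. Then g = x_1 ⋯ x_n where, for each i, Q_i is a Sylow p-subgroup with P ∩ Q_i a tame intersection (the normalizers in P and in Q_i of P ∩ Q_i are Sylow in N_G(P ∩ Q_i)), x_i normalizes P ∩ Q_i, x_i has p-power order unless Q_i = P, A ⊆ P ∩ Q_1, and (x_1 ⋯ x_i)⁻¹ A (x_1 ⋯ x_i) lies in P ∩ Q_{i+1} for i < n. -/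
theorem result {G : Type*} [Group G] [Finite G] {p : ℕ} [Fact p.Prime] (P : Sylow p G) (A : Set G) (g : G) (hA : A ⊆ (P : Set G)) (hAg : (fun a => g⁻¹ * a * g) '' A ⊆ (P : Set G)) : ∃ (n : ℕ) (Q : Fin n → Sylow p G) (x : Fin n → G), (List.ofFn x).prod = g ∧ (∀ i : Fin n, x i ∈ Subgroup.normalizer ((((P : Subgroup G) ⊓ (Q i : Subgroup G)) : Subgroup G) : Set G) ∧ ¬ p ∣ ((P : Subgroup G) ⊓ Subgroup.normalizer ((((P : Subgroup G) ⊓ (Q i : Subgroup G)) : Subgroup G) : Set G)).relIndex (Subgroup.normalizer ((((P : Subgroup G) ⊓ (Q i : Subgroup G)) : Subgroup G) : Set G)) ∧ ¬ p ∣ ((Q i : Subgroup G) ⊓ Subgroup.normalizer ((((P : Subgroup G) ⊓ (Q i : Subgroup G)) : Subgroup G) : Set G)).relIndex (Subgroup.normalizer ((((P : Subgroup G) ⊓ (Q i : Subgroup G)) : Subgroup G) : Set G)) ∧ ((Q i : Subgroup G) = (P : Subgroup G) ∨ ∃ k : ℕ, orderOf (x i) = p ^ k)) ∧ (∀ h : 0 < n, A ⊆ (((P : Subgroup G) ⊓ (Q ⟨0, h⟩ : Subgroup G) : Subgroup G) : Set G)) ∧ ∀ i :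 Fin n, ∀ h : i.val + 1 < n, (fun a => (((List.ofFn x).take (i.val + 1)).prod)⁻¹ * a * ((List.ofFn x).take (i.val + 1)).prod) '' A ⊆ (((P : Subgroup G) ⊓ (Q ⟨i.val + 1, h⟩ : Subgroup G) : Subgroup G) : Set G) := by
  have hcl : Subgroup.closure A ≤ (P : Subgroup G) := (Subgroup.closure_le _).mpr hA
  have hclg : ∀ a ∈ Subgroup.closure A, g⁻¹ * a * g⁻¹⁻¹ ∈ (P : Subgroup G) := by
    have hle : Subgroup.closure A ≤ (P : Subgroup G).comap (MulAut.conj g⁻¹).toMonoidHom := by
      rw [Subgroup.closure_le]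
      intro a ha
      have h1 : g⁻¹ * a * g ∈ (P : Subgroup G) := hAg ⟨a, ha, rfl⟩
      show (MulAut.conj g⁻¹) a ∈ (P : Subgroup G)
      rw [MulAut.conj_apply, inv_inv]
      exact h1
    intro a ha
    have h2 : (MulAut.conj g⁻¹) a ∈ (P : Subgroup G) := hle ha
    rw [MulAut.conj_apply] at h2
    exact h2
  have hgd := main P _ (Subgroup.closure A) hcl rfl g⁻¹ hclg
  have hgood : Good2 (sub P) (Phi P) A g := by
    have : Good2 (sub P) (Phi P) (Subgroup.closure A : Set G) g⁻¹⁻¹ := hgd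
    rw [inv_inv] at this
    exact good2_mono _ _ Subgroup.subset_closure g this
  obtain ⟨n, Q, x, h1, h2, h3, h4⟩ := good2_to_fin (sub P) (Phi P) A g hgood
  exact ⟨n, Q, x, h1, h2, h3, h4⟩

end Cfsg.Agent.S2012
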