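import Cfsg.Statements.S2014
import Cfsg.Agent.Lib.Helper3_Conj
import Cfsg.Agent.Lib.Helper3_PResidual
import Cfsg.Agent.Lib.Helper3_SylowRel
import Mathlib

set_option autoImplicit false
open Cfsg

namespace Cfsg.Agent.S2014

open Cfsg.Agent.Lib.Helper3_Conj Cfsg.Agent.Lib.Helper3_PResidual Cfsg.Agent.Lib.Helper3_SylowRel

theorem result {G : Type*} [Group G] [Finite G] (p : ℕ) [Fact p.Prime] (P : Sylow p G) (A C : Subgroup G) (hA : A ≤ P) (hC : C ≤ P) (hext : ¬ p ∣ ((P : Subgroup G) ⊓ Subgroup.normalizer ((C : Subgroup G) : Set G)).relIndex (Subgroup.normalizer ((C : Subgroup G) : Set G))) (h : G) (hh : A.map (MulAut.conj h).toMonoidHom = C) : ∃ g : G, A.map (MulAut.conj g).toMonoidHom = C ∧ ((P : Subgroup G) ⊓ Subgroup.normalizer ((A : Subgroup G) : Set G)).map (MulAut.conj g).toMonoidHom ≤ (P : Subgroup G) ⊓ Subgroup.normalizer ((C : Subgroup G) : Set G) ∧ h * g⁻¹ ∈ (Cfsg.pResidual p ↥(Subgroup.normalizer ((C : Subgroup G) : Set G))).map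 (Subgroup.normalizer ((C : Subgroup G) : Set G)).subtype := by
  set N := Subgroup.normalizer ((C : Subgroup G) : Set G) with hN
  set R := (P : Subgroup G) ⊓ N with hR
  set Q := ((P : Subgroup G) ⊓ Subgroup.normalizer ((A : Subgroup G) : Set G)).map (MulAut.conj h).toMonoidHom with hQ
  have hRN : R ≤ N := inf_le_right
  have hRp : IsPGroup p ↥R := P.isPGroup'.to_le inf_le_left
  have hQN : Q ≤ N := by
    rintro _ ⟨a, ha, rfl⟩
    have := conj_mem_normalizer_map_conj A h a ha.2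
    rw [hh] at this
    simpa [MulAut.conj_apply] using this
  have hQp : IsPGroup p ↥Q := by
    have h1 : IsPGroup p ↥((P : Subgroup G) ⊓ Subgroup.normalizer ((A : Subgroup G) : Set G)) :=
      P.isPGroup'.to_le inf_le_left
    exact h1.map _
  obtain ⟨n, hnN, hn⟩ := exists_conj_le_of_relIndex N R Q hRN hRp hext hQN hQp
  -- factor n = r * m inside ↥N
  have hR' : ¬ p ∣ (R.subgroupOf N).index := hext
  obtain ⟨r, hr, m, hm, hnrm⟩ := exists_mul_pResidual p (R.subgroupOf N) hR' ⟨n, hnN⟩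
  have hrR : (r : G) ∈ R := Subgroup.mem_subgroupOf.mp hr
  have hnrm' : n = (r : G) * (m : G) := congrArg Subtype.val hnrm
  refine ⟨(m : G) * h, ?_, ?_, ?_⟩
  · rw [← map_conj_map_conj, hh]
    exact map_conj_eq_self_of_mem_normalizer C (m : G) m.2
  · rintro _ ⟨x, hx, rfl⟩
    have hq : h * x * h⁻¹ ∈ Q := ⟨x, hx, by simp [MulAut.conj_apply]⟩
    have h1 := hn _ hq
    rw [hnrm'] at h1
    have h2 : (m : G) * (h * x * h⁻¹) * (m : G)⁻¹
        = (r : G)⁻¹ * ((r : G) * (m : G) * (h * x * h⁻¹) * ((r : G) * (m : G))⁻¹) * (r : G) := by group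
    have h3 : (m : G) * (h * x * h⁻¹) * (m : G)⁻¹ ∈ R := by
      rw [h2]
      exact R.mul_mem (R.mul_mem (R.inv_mem hrR) h1) hrR
    have h4 : (MulAut.conj ((m : G) * h)).toMonoidHom x = (m : G) * (h * x * h⁻¹) * (m : G)⁻¹ := by
      simp only [MulEquiv.coe_toMonoidHom, MulAut.conj_apply]; group
    rw [h4]; exact h3
  · refine ⟨m⁻¹, Subgroup.inv_mem _ hm, ?_⟩
    simp only [Subgroup.coe_subtype, Subgroup.coe_inv]
    group

end Cfsg.Agent.S2014
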