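import Cfsg.Statements.S2163
import Mathlib

set_option autoImplicit false
open Cfsg

namespace Cfsg.Agent.S2163

variable (F : Type*) [Field F]

/-- the matrix E -/
def E (n ℓ : ℕ) : Matrix (Fin n) (Fin n) F :=
  Matrix.of (fun i j : Fin n => if j.val < ℓ ∧ i.val = j.val + (n - ℓ) then (1 : F) else 0)

/-- n × ℓ factor -/
def A (n ℓ : ℕ) : Matrix (Fin n) (Fin ℓ) F :=
  Matrix.of (fun (i : Fin n) (k : Fin ℓ) => if i.val = k.val + (n - ℓ) then (1 : F) else 0)

/-- ℓ × n factor -/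
def C (n ℓ : ℕ) : Matrix (Fin ℓ) (Fin n) F :=
  Matrix.of (fun (k : Fin ℓ) (j : Fin n) => if j.val = k.val then (1 : F) else 0)

theorem E_eq (n ℓ : ℕ) (h2 : 2 * ℓ ≤ n) : (E F n ℓ : Matrix (Fin n) (Fin n) F) = A F n ℓ * C F n ℓ := by
  ext i j
  rw [Matrix.mul_apply]
  simp only [E, A, C, Matrix.of_apply]
  by_cases hj : j.val < ℓ
  · rw [Finset.sum_eq_single (⟨j.val, hj⟩ : Fin ℓ)]
    · simp [hj]
    · intro k _ hk
      have : ¬ (j.val = k.val) := by
        intro h; apply hk; ext; exact h.symm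
      simp [this]
    · intro h; exact absurd (Finset.mem_univ _) h
  · rw [if_neg (fun h => hj h.1)]
    symm
    apply Finset.sum_eq_zero
    intro k _
    have : ¬ (j.val = k.val) := by
      intro h; apply hj; rw [h]; exact k.2
    simp [this]

theorem AtA (n ℓ : ℕ) (h2 : 2 * ℓ ≤ n) : (A F n ℓ : Matrix (Fin n) (Fin ℓ) F).transpose * A F n ℓ = 1 := by
  ext k k'
  rw [Matrix.mul_apply]
  simp only [A, Matrix.of_apply, Matrix.transpose_apply]
  have hk : k.val + (n - ℓ) < n := by have := k.2; omega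
  rw [Finset.sum_eq_single (⟨k.val + (n - ℓ), hk⟩ : Fin n)]
  · by_cases hkk : k = k'
    · subst hkk; simp
    · have : ¬ (k.val + (n - ℓ) = k'.val + (n - ℓ)) := by
        intro h; apply hkk; ext; omega
      have hv : ¬ (k.val = k'.val) := fun h => hkk (Fin.ext h)
      simp [hkk, hv]
  · intro i _ hi
    have : ¬ (i.val = k.val + (n - ℓ)) := by
      intro h; apply hi; ext; exact h
    simp [this]
  · intro h; exact absurd (Finset.mem_univ _) h

theorem CCt (n ℓ : ℕ) (h2 : 2 * ℓ ≤ n) : (C F n ℓ : Matrix (Fin ℓ) (Fin n) F) * (C F n ℓ).transpose = 1 := by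
  ext k k'
  rw [Matrix.mul_apply]
  simp only [C, Matrix.of_apply, Matrix.transpose_apply]
  have hk : k.val < n := by have := k.2; omega
  rw [Finset.sum_eq_single (⟨k.val, hk⟩ : Fin n)]
  · by_cases hkk : k = k'
    · subst hkk; simp
    · have : ¬ (k.val = k'.val) := by
        intro h; apply hkk; ext; exact h
      simp [this, hkk]
  · intro i _ hi
    have : ¬ (i.val = k.val) := by
      intro h; apply hi; ext; exact h
    simp [this]
  · intro h; exact absurd (Finset.mem_univ _) h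

theorem rank_E (n ℓ : ℕ) (h2 : 2 * ℓ ≤ n) : (E F n ℓ : Matrix (Fin n) (Fin n) F).rank = ℓ := by
  apply le_antisymm
  · rw [E_eq F n ℓ h2]
    exact (Matrix.rank_mul_le_left _ _).trans (Matrix.rank_le_width _)
  · have h1 : ((A F n ℓ : Matrix (Fin n) (Fin ℓ) F).transpose * (E F n ℓ * (C F n ℓ).transpose)) = 1 := by
      rw [E_eq F n ℓ h2, Matrix.mul_assoc, CCt F n ℓ h2, Matrix.mul_one, AtA F n ℓ h2]
    have h3 : (1 : Matrix (Fin ℓ) (Fin ℓ) F).rank = ℓ := by
      rw [Matrix.rank_one, Fintype.card_fin]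
    calc ℓ = ((A F n ℓ : Matrix (Fin n) (Fin ℓ) F).transpose * (E F n ℓ * (C F n ℓ).transpose)).rank := by
          rw [h1, h3]
      _ ≤ (E F n ℓ * (C F n ℓ : Matrix (Fin ℓ) (Fin n) F).transpose).rank := Matrix.rank_mul_le_right _ _
      _ ≤ (E F n ℓ : Matrix (Fin n) (Fin n) F).rank := Matrix.rank_mul_le_left _ _

theorem E_sq (n ℓ : ℕ) (h2 : 2 * ℓ ≤ n) : (E F n ℓ : Matrix (Fin n) (Fin n) F) * E F n ℓ = 0 := by
  ext i k
  rw [Matrix.mul_apply]
  simp only [Matrix.zero_apply]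
  apply Finset.sum_eq_zero
  intro j _
  simp only [E, Matrix.of_apply]
  by_cases h1 : j.val < ℓ ∧ i.val = j.val + (n - ℓ)
  · have : ¬ (k.val < ℓ ∧ j.val = k.val + (n - ℓ)) := by
      rintro ⟨_, h⟩; omega
    simp [this]
  · simp [h1]

omit [Field F] in
theorem result {F : Type*} [Field F] [Fintype F] [CharP F 2] {n : ℕ} (hn : 3 ≤ n) (ℓ : ℕ) (h1 : 1 ≤ ℓ) (h2 : 2 * ℓ ≤ n) :
    ∃ a : Matrix.SpecialLinearGroup (Fin n) F, (a : Matrix (Fin n) (Fin n) F) = 1 + Matrix.of (fun i j : Fin n => if j.val < ℓ ∧ i.val = j.val + (n - ℓ) then (1 : F) else 0) ∧ orderOf a = 2 ∧ ((a : Matrix (Fin n) (Fin n) F) - 1).rank = ℓ := by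
  have hEE : (E F n ℓ : Matrix (Fin n) (Fin n) F) + E F n ℓ = 0 := by
    ext i j
    simp only [Matrix.add_apply, Matrix.zero_apply]
    exact CharTwo.add_self_eq_zero _
  have hsq : (1 + E F n ℓ : Matrix (Fin n) (Fin n) F) * (1 + E F n ℓ) = 1 := by
    rw [Matrix.mul_add, Matrix.add_mul, Matrix.add_mul, Matrix.one_mul, Matrix.mul_one, Matrix.one_mul,
      E_sq F n ℓ h2, add_zero, add_assoc, hEE, add_zero]
  have hdet : (1 + E F n ℓ : Matrix (Fin n) (Fin n) F).det = 1 := by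
    have hd : (1 + E F n ℓ : Matrix (Fin n) (Fin n) F).det * (1 + E F n ℓ : Matrix (Fin n) (Fin n) F).det = 1 := by
      rw [← Matrix.det_mul, hsq, Matrix.det_one]
    set d := (1 + E F n ℓ : Matrix (Fin n) (Fin n) F).det
    have h2' : (2 : F) = 0 := CharTwo.two_eq_zero
    have : (d - 1) * (d - 1) = 0 := by
      have : (d - 1) * (d - 1) = d * d - 2 * d + 1 := by ring
      rw [this, hd, h2']; ring_nf
      exact h2'
    have := mul_self_eq_zero.mp this
    exact sub_eq_zero.mp this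
  let a : Matrix.SpecialLinearGroup (Fin n) F := ⟨1 + E F n ℓ, hdet⟩
  have ha : (a : Matrix (Fin n) (Fin n) F) = 1 + E F n ℓ := rfl
  refine ⟨a, ha, ?_, ?_⟩
  · apply orderOf_eq_prime
    · apply Subtype.ext
      rw [Matrix.SpecialLinearGroup.coe_pow, ha, pow_two]
      exact hsq
    · intro h
      have h' : (1 + E F n ℓ : Matrix (Fin n) (Fin n) F) = 1 := by
        rw [← ha, h]; rfl
      have hE0 : (E F n ℓ : Matrix (Fin n) (Fin n) F) = 0 := by
        have := h'
        rwa [add_eq_left] at this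
      have hi : n - ℓ < n := by omega
      have hj : 0 < n := by omega
      have := congrFun (congrFun hE0 ⟨n - ℓ, hi⟩) ⟨0, hj⟩
      simp only [E, Matrix.of_apply, Matrix.zero_apply] at this
      rw [if_pos ⟨by show 0 < ℓ; omega, by simp⟩] at this
      exact one_ne_zero this
  · have : (a : Matrix (Fin n) (Fin n) F) - 1 = E F n ℓ := by
      rw [ha, add_sub_cancel_left]
    rw [this]
    exact rank_E F n ℓ h2

end Cfsg.Agent.S2163
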