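import Cfsg.Statements.S2165
import Mathlib

set_option autoImplicit false
open Cfsg
open Matrix

namespace Cfsg.Agent.S2165

variable (F : Type*) [Field F]

/-- the permutation matrix -/
def Mx (n ℓ : ℕ) : Matrix (Fin n) (Fin n) F :=
  Matrix.of (fun i j : Fin n => if (j.val < ℓ ∧ i.val = j.val + (n - ℓ)) ∨ (i.val < ℓ ∧ j.val = i.val + (n - ℓ)) ∨ (i = j ∧ ℓ ≤ i.val ∧ i.val < n - ℓ) then (1 : F) else 0)

/-- the involution -/
def sig (n ℓ : ℕ) (h2 : 2 * ℓ ≤ n) (i : Fin n) : Fin n :=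
  if h : i.val < ℓ then ⟨i.val + (n - ℓ), by omega⟩
  else if h' : n - ℓ ≤ i.val then ⟨i.val - (n - ℓ), by omega⟩ else i

theorem sig_val (n ℓ : ℕ) (h2 : 2 * ℓ ≤ n) (i : Fin n) :
    (sig n ℓ h2 i).val = if i.val < ℓ then i.val + (n - ℓ) else
      if n - ℓ ≤ i.val then i.val - (n - ℓ) else i.val := by
  unfold sig
  split_ifs <;> rfl

theorem sig_sig (n ℓ : ℕ) (h2 : 2 * ℓ ≤ n) (i : Fin n) : sig n ℓ h2 (sig n ℓ h2 i) = i := by
  apply Fin.ext
  rw [sig_val, sig_val]
  have := i.2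
  split_ifs <;> omega

theorem Mx_eq (n ℓ : ℕ) (h2 : 2 * ℓ ≤ n) (i j : Fin n) :
    Mx F n ℓ i j = if j = sig n ℓ h2 i then (1 : F) else 0 := by
  have key : ((j.val < ℓ ∧ i.val = j.val + (n - ℓ)) ∨ (i.val < ℓ ∧ j.val = i.val + (n - ℓ)) ∨
      (i = j ∧ ℓ ≤ i.val ∧ i.val < n - ℓ)) ↔ j = sig n ℓ h2 i := by
    rw [Fin.ext_iff, Fin.ext_iff, sig_val]
    have := i.2
    have := j.2
    split_ifs <;> omega
  simp only [Mx, Matrix.of_apply]
  by_cases hc : j = sig n ℓ h2 i
  · rw [if_pos hc, if_pos (key.mpr hc)]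
  · rw [if_neg hc, if_neg (mt key.mp hc)]

theorem Mx_mulVec (n ℓ : ℕ) (h2 : 2 * ℓ ≤ n) (u : Fin n → F) (i : Fin n) :
    (Mx F n ℓ *ᵥ u) i = u (sig n ℓ h2 i) := by
  rw [Matrix.mulVec, dotProduct]
  rw [Finset.sum_eq_single (sig n ℓ h2 i)]
  · rw [Mx_eq F n ℓ h2, if_pos rfl, one_mul]
  · intro j _ hj
    rw [Mx_eq F n ℓ h2, if_neg hj, zero_mul]
  · intro h; exact absurd (Finset.mem_univ _) h

theorem Mx_sq (n ℓ : ℕ) (h2 : 2 * ℓ ≤ n) : Mx F n ℓ * Mx F n ℓ = 1 := by
  ext i k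
  rw [Matrix.mul_apply, Finset.sum_eq_single (sig n ℓ h2 i)]
  · rw [Mx_eq F n ℓ h2 i, if_pos rfl, one_mul, Mx_eq F n ℓ h2, sig_sig, Matrix.one_apply]
    by_cases hik : i = k
    · rw [if_pos hik, if_pos hik.symm]
    · rw [if_neg hik, if_neg (fun h => hik h.symm)]
  · intro j _ hj
    rw [Mx_eq F n ℓ h2 i, if_neg hj, zero_mul]
  · intro h; exact absurd (Finset.mem_univ _) h

/-- n × ℓ factor -/
def A (n ℓ : ℕ) : Matrix (Fin n) (Fin ℓ) F :=
  Matrix.of (fun (i : Fin n) (k : Fin ℓ) => if i.val = k.val ∨ i.val = k.val + (n - ℓ) then (1 : F) else 0)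

/-- ℓ × n factor -/
def C (n ℓ : ℕ) : Matrix (Fin ℓ) (Fin n) F :=
  Matrix.of (fun (k : Fin ℓ) (j : Fin n) => if j.val = k.val then (1 : F) else 0)

theorem CA (n ℓ : ℕ) (h2 : 2 * ℓ ≤ n) : (C F n ℓ : Matrix (Fin ℓ) (Fin n) F) * A F n ℓ = 1 := by
  ext k k'
  rw [Matrix.mul_apply]
  simp only [A, C, Matrix.of_apply]
  have hk : k.val < n := by have := k.2; omega
  rw [Finset.sum_eq_single (⟨k.val, hk⟩ : Fin n)]
  · rw [if_pos rfl, one_mul, Matrix.one_apply]
    have := k.2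
    have := k'.2
    by_cases hkk : k = k'
    · subst hkk; simp
    · have hv : ¬ (k.val = k'.val) := fun h => hkk (Fin.ext h)
      rw [if_neg hkk, if_neg]
      show ¬ (k.val = k'.val ∨ k.val = k'.val + (n - ℓ))
      omega
  · intro i _ hi
    have : ¬ (i.val = k.val) := by
      intro h; apply hi; ext; exact h
    rw [if_neg this, zero_mul]
  · intro h; exact absurd (Finset.mem_univ _) h

theorem Mx_sub_one [CharP F 2] (n ℓ : ℕ) (h2 : 2 * ℓ ≤ n) :
    Mx F n ℓ - 1 = A F n ℓ * (A F n ℓ).transpose := by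
  have hneg : (0 : F) - 1 = 1 := by rw [zero_sub, CharTwo.neg_eq]
  ext i j
  rw [Matrix.mul_apply, Matrix.sub_apply, Mx_eq F n ℓ h2, Matrix.one_apply]
  simp only [A, Matrix.of_apply, Matrix.transpose_apply]
  have hi := i.2
  have hj := j.2
  by_cases h1 : i.val < ℓ
  · have hs : (sig n ℓ h2 i).val = i.val + (n - ℓ) := by rw [sig_val, if_pos h1]
    rw [Finset.sum_eq_single (⟨i.val, h1⟩ : Fin ℓ)]
    · rw [if_pos (Or.inl rfl), one_mul]
      simp only [Fin.ext_iff, hs]
      by_cases hji : j.val = i.val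
      · rw [if_neg (by omega), if_pos hji.symm, if_pos (Or.inl hji), hneg]
      · by_cases hji' : j.val = i.val + (n - ℓ)
        · rw [if_pos hji', if_neg (fun h => hji h.symm), if_pos (Or.inr hji'), sub_zero]
        · rw [if_neg hji', if_neg (fun h => hji h.symm), if_neg (by omega), sub_zero]
    · intro k _ hk
      have hk' : k.val ≠ i.val := fun h => hk (Fin.ext h)
      have := k.2
      rw [if_neg (by omega), zero_mul]
    · intro h; exact absurd (Finset.mem_univ _) h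
  · by_cases h3 : n - ℓ ≤ i.val
    · have hlt : i.val - (n - ℓ) < ℓ := by omega
      have hs : (sig n ℓ h2 i).val = i.val - (n - ℓ) := by rw [sig_val, if_neg h1, if_pos h3]
      rw [Finset.sum_eq_single (⟨i.val - (n - ℓ), hlt⟩ : Fin ℓ)]
      · rw [if_pos (Or.inr (by show i.val = i.val - (n - ℓ) + (n - ℓ); omega)), one_mul]
        simp only [Fin.ext_iff, hs]
        by_cases hji : j.val = i.val
        · rw [if_neg (by omega), if_pos hji.symm, if_pos (Or.inr (by omega)), hneg]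
        · by_cases hji' : j.val = i.val - (n - ℓ)
          · rw [if_pos hji', if_neg (fun h => hji h.symm), if_pos (Or.inl hji'), sub_zero]
          · rw [if_neg hji', if_neg (fun h => hji h.symm), if_neg (by omega), sub_zero]
      · intro k _ hk
        have hk' : k.val ≠ i.val - (n - ℓ) := fun h => hk (Fin.ext h)
        have := k.2
        rw [if_neg (by omega), zero_mul]
      · intro h; exact absurd (Finset.mem_univ _) h
    · have hs : (sig n ℓ h2 i).val = i.val := by rw [sig_val, if_neg h1, if_neg h3]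
      rw [Finset.sum_eq_zero]
      · simp only [Fin.ext_iff, hs]
        by_cases hji : j.val = i.val
        · rw [if_pos hji, if_pos hji.symm, sub_self]
        · rw [if_neg hji, if_neg (fun h => hji h.symm), sub_zero]
      · intro k _
        have := k.2
        rw [if_neg (by omega), zero_mul]

theorem rank_sub_one [CharP F 2] (n ℓ : ℕ) (h2 : 2 * ℓ ≤ n) : (Mx F n ℓ - 1).rank = ℓ := by
  rw [Mx_sub_one F n ℓ h2]
  apply le_antisymm
  · exact (Matrix.rank_mul_le_left _ _).trans (Matrix.rank_le_width _)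
  · have hAC : (A F n ℓ).transpose * (C F n ℓ).transpose = 1 := by
      rw [← Matrix.transpose_mul, CA F n ℓ h2, Matrix.transpose_one]
    have h1 : (C F n ℓ * ((A F n ℓ * (A F n ℓ).transpose) * (C F n ℓ).transpose)) = 1 := by
      rw [Matrix.mul_assoc, hAC, Matrix.mul_one, CA F n ℓ h2]
    have h3 : (1 : Matrix (Fin ℓ) (Fin ℓ) F).rank = ℓ := by
      rw [Matrix.rank_one, Fintype.card_fin]
    calc ℓ = (C F n ℓ * ((A F n ℓ * (A F n ℓ).transpose) * (C F n ℓ).transpose)).rank := by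
          rw [h1, h3]
      _ ≤ ((A F n ℓ * (A F n ℓ).transpose) * (C F n ℓ).transpose).rank := Matrix.rank_mul_le_right _ _
      _ ≤ (A F n ℓ * (A F n ℓ).transpose).rank := Matrix.rank_mul_le_left _ _

omit [Field F] in
/-- In SU_n(q), q even, n ≥ 3 (matrices of determinant 1 over the field with q² elements preserving Σ u_i v_i^q): for every ℓ with 1 ≤ ℓ and 2ℓ ≤ n, the permutation matrix of the involution of {0, …, n−1} exchanging i and n − ℓ + i for each i < ℓ lies in SU_n(q), has order 2, and differs from the identity by a matrix of rank ℓ. So every rank between 1 and n/2 occurs for involutions of SU_n(q). -/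
theorem result {F : Type*} [Field F] [Fintype F] [CharP F 2] {n q : ℕ} (hF : Fintype.card F = q ^ 2) (hn : 3 ≤ n) (ℓ : ℕ) (h1 : 1 ≤ ℓ) (h2 : 2 * ℓ ≤ n) :
    ∃ a : ↥(Cfsg.SU n F q), (((a : Matrix.SpecialLinearGroup (Fin n) F) : Matrix (Fin n) (Fin n) F) = Matrix.of (fun i j : Fin n => if (j.val < ℓ ∧ i.val = j.val + (n - ℓ)) ∨ (i.val < ℓ ∧ j.val = i.val + (n - ℓ)) ∨ (i = j ∧ ℓ ≤ i.val ∧ i.val < n - ℓ) then (1 : F) else 0)) ∧ orderOf a = 2 ∧ ((((a : Matrix.SpecialLinearGroup (Fin n) F) : Matrix (Fin n) (Fin n) F)) - 1).rank = ℓ := by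
  have hsq := Mx_sq F n ℓ h2
  have hdet : (Mx F n ℓ).det = 1 := by
    have hd : (Mx F n ℓ).det * (Mx F n ℓ).det = 1 := by
      rw [← Matrix.det_mul, hsq, Matrix.det_one]
    set d := (Mx F n ℓ).det
    have h2' : (2 : F) = 0 := CharTwo.two_eq_zero
    have : (d - 1) * (d - 1) = 0 := by
      have : (d - 1) * (d - 1) = d * d - 2 * d + 1 := by ring
      rw [this, hd, h2']; ring_nf
      exact h2'
    have := mul_self_eq_zero.mp this
    exact sub_eq_zero.mp this
  let a₀ : Matrix.SpecialLinearGroup (Fin n) F := ⟨Mx F n ℓ, hdet⟩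
  have ha₀ : (a₀ : Matrix (Fin n) (Fin n) F) = Mx F n ℓ := rfl
  have hmem : a₀ ∈ Cfsg.SU n F q := by
    intro u v
    show hermForm n F q (Mx F n ℓ *ᵥ u) (Mx F n ℓ *ᵥ v) = hermForm n F q u v
    unfold hermForm
    simp only [Mx_mulVec F n ℓ h2]
    exact Equiv.sum_comp (Function.Involutive.toPerm (sig n ℓ h2) (sig_sig n ℓ h2))
      (fun i => u i * (v i) ^ q)
  refine ⟨⟨a₀, hmem⟩, rfl, ?_, ?_⟩
  · apply orderOf_eq_prime
    · apply Subtype.ext
      apply Subtype.ext
      show ((a₀ ^ 2 : Matrix.SpecialLinearGroup (Fin n) F) : Matrix (Fin n) (Fin n) F) = 1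
      rw [Matrix.SpecialLinearGroup.coe_pow, ha₀, pow_two]
      exact hsq
    · intro h
      have h' : Mx F n ℓ = 1 := by
        have := congrArg (fun x : ↥(Cfsg.SU n F q) => ((x : Matrix.SpecialLinearGroup (Fin n) F) : Matrix (Fin n) (Fin n) F)) h
        exact this
      have hi : n - ℓ < n := by omega
      have hj : 0 < n := by omega
      have := congrFun (congrFun h' ⟨n - ℓ, hi⟩) ⟨0, hj⟩
      rw [Mx_eq F n ℓ h2, Matrix.one_apply] at this
      rw [if_pos, if_neg] at this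
      · exact one_ne_zero this
      · rw [Fin.ext_iff]; show ¬ (n - ℓ = 0); omega
      · rw [Fin.ext_iff, sig_val]
        show 0 = if n - ℓ < ℓ then _ else if n - ℓ ≤ n - ℓ then n - ℓ - (n - ℓ) else n - ℓ
        rw [if_neg (by omega), if_pos le_rfl]; omega
  · show (Mx F n ℓ - 1).rank = ℓ
    exact rank_sub_one F n ℓ h2

end Cfsg.Agent.S2165
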