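import Cfsg.Statements.S2167
import Cfsg.Agent.Lib.Helper1_Symp
import Cfsg.Agent.Lib.Helper3_AltForm

set_option autoImplicit false
open Cfsg
open Matrix

namespace Cfsg.Agent.S2167

open Cfsg.Agent.Lib.Helper1_Symp

variable {F : Type*} [Field F] {m : ℕ}

/-- the symplectic form as a bilinear form -/
noncomputable def fB (m : ℕ) (F : Type*) [Field F] : LinearMap.BilinForm F (Fin m ⊕ Fin m → F) :=
  LinearMap.mk₂ F (sympForm m F) sympForm_add_left
    (fun c u v => by rw [sympForm_smul_left, smul_eq_mul])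
    sympForm_add_right
    (fun c u v => by rw [sympForm_smul_right, smul_eq_mul])

theorem fB_apply (u v : Fin m ⊕ Fin m → F) : fB m F u v = sympForm m F u v := rfl

theorem fB_sep (z : Fin m ⊕ Fin m → F) (h : ∀ y, fB m F y z = 0) : z = 0 := by
  have h1 : ∀ i, (Matrix.J (Fin m) F *ᵥ z) i = 0 := by
    intro i
    have := h (Pi.single i 1)
    rw [fB_apply] at this
    unfold sympForm at this
    rw [single_one_dotProduct] at this
    exact this
  funext i
  rcases i with i | i
  · have := h1 (Sum.inr i)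
    rw [J_mulVec_inr] at this
    exact this
  · have := h1 (Sum.inl i)
    rw [J_mulVec_inl] at this
    exact neg_eq_zero.mp this

section main

variable [CharP F 2] (t : Matrix (Fin m ⊕ Fin m) (Fin m ⊕ Fin m) F)
  (ht : t ∈ Matrix.symplecticGroup (Fin m) F) (htt : t * t = 1)

/-- the quadratic map -/
def Qf (t : Matrix (Fin m ⊕ Fin m) (Fin m ⊕ Fin m) F) (v : Fin m ⊕ Fin m → F) : F :=
  sympForm m F v (t *ᵥ v)

include ht htt in
theorem Qf_add (v w : Fin m ⊕ Fin m → F) : Qf t (v + w) = Qf t v + Qf t w := by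
  unfold Qf
  rw [Matrix.mulVec_add, sympForm_add_left, sympForm_add_right, sympForm_add_right]
  have h1 : sympForm m F w (t *ᵥ v) = sympForm m F v (t *ᵥ w) := by
    have h2 := (mem_symplecticGroup_iff_preserves t).mp ht w (t *ᵥ v)
    rw [Matrix.mulVec_mulVec, htt, Matrix.one_mulVec] at h2
    rw [← h2, sympForm_swap, CharTwo.neg_eq]
  rw [h1]
  have h3 : sympForm m F v (t *ᵥ w) + sympForm m F v (t *ᵥ w) = 0 := CharTwo.add_self_eq_zero _
  calc sympForm m F v (t *ᵥ v) + sympForm m F v (t *ᵥ w) + (sympForm m F v (t *ᵥ w) + sympForm m F w (t *ᵥ w))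
      = sympForm m F v (t *ᵥ v) + (sympForm m F v (t *ᵥ w) + sympForm m F v (t *ᵥ w)) + sympForm m F w (t *ᵥ w) := by ring
    _ = sympForm m F v (t *ᵥ v) + sympForm m F w (t *ᵥ w) := by rw [h3, add_zero]

omit [CharP F 2] in
theorem Qf_smul (c : F) (v : Fin m ⊕ Fin m → F) : Qf t (c • v) = c * c * Qf t v := by
  unfold Qf
  rw [Matrix.mulVec_smul, sympForm_smul_left, sympForm_smul_right, mul_assoc]

omit [CharP F 2] in
theorem Qf_zero : Qf t 0 = 0 := by
  unfold Qf
  rw [sympForm_zero_left]

/-- `Qf` as an additive homomorphism -/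
def QHom (hadd : ∀ v w, Qf t (v + w) = Qf t v + Qf t w) : (Fin m ⊕ Fin m → F) →+ F where
  toFun := Qf t
  map_zero' := Qf_zero t
  map_add' := hadd

end main

/-- For an involution t of the symplectic group Sp_{2m}(F), m ≥ 2, F a finite field of characteristic two (matrices A with A J Aᵀ = J acting on column vectors, alternating form f(u, v) = u ⬝ (J v)): the set V(t) of vectors v with f(v, t v) = 0 has either q^{2m} or q^{2m−1} elements, q the order of F (it is a subspace of codimension at most 1), and if it is the whole space then t − 1 has even rank. -/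
theorem result {F : Type*} [Field F] [Fintype F] [CharP F 2] {m : ℕ} (hm : 2 ≤ m) (a : ↥(Matrix.symplecticGroup (Fin m) F)) (ha : orderOf a = 2) :
    (Nat.card {v : Fin m ⊕ Fin m → F // Cfsg.sympForm m F v (Matrix.mulVec ((a : ↥(Matrix.symplecticGroup (Fin m) F)) : Matrix (Fin m ⊕ Fin m) (Fin m ⊕ Fin m) F) v) = 0} = Fintype.card F ^ (2 * m) ∨ Nat.card {v : Fin m ⊕ Fin m → F // Cfsg.sympForm m F v (Matrix.mulVec ((a : ↥(Matrix.symplecticGroup (Fin m) F)) : Matrix (Fin m ⊕ Fin m) (Fin m ⊕ Fin m) F) v) = 0} * Fintype.card F = Fintype.card F ^ (2 * m)) ∧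
    ((∀ v : Fin m ⊕ Fin m → F, Cfsg.sympForm m F v (Matrix.mulVec ((a : ↥(Matrix.symplecticGroup (Fin m) F)) : Matrix (Fin m ⊕ Fin m) (Fin m ⊕ Fin m) F) v) = 0) → Even (((a : ↥(Matrix.symplecticGroup (Fin m) F)) : Matrix (Fin m ⊕ Fin m) (Fin m ⊕ Fin m) F) - 1).rank) := by
  set t : Matrix (Fin m ⊕ Fin m) (Fin m ⊕ Fin m) F := (a : Matrix (Fin m ⊕ Fin m) (Fin m ⊕ Fin m) F) with htdef
  have ht : t ∈ Matrix.symplecticGroup (Fin m) F := a.2
  have htt : t * t = 1 := by
    have h1 : a ^ 2 = 1 := by rw [← ha]; exact pow_orderOf_eq_one a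
    have h2 := congrArg (fun x : ↥(Matrix.symplecticGroup (Fin m) F) => (x : Matrix (Fin m ⊕ Fin m) (Fin m ⊕ Fin m) F)) h1
    simp only [pow_two] at h2
    exact h2
  have hadd := Qf_add t ht htt
  have hcardV : Nat.card (Fin m ⊕ Fin m → F) = Fintype.card F ^ (2 * m) := by
    rw [Nat.card_eq_fintype_card, Fintype.card_fun, Fintype.card_sum, Fintype.card_fin, two_mul]
  constructor
  · by_cases hall : ∀ v, Qf t v = 0
    · left
      rw [← hcardV]
      exact Nat.card_congr (Equiv.subtypeUnivEquiv hall)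
    · right
      push Not at hall
      obtain ⟨v₀, hv₀⟩ := hall
      set φ := QHom t hadd with hφ
      have hsurj : Function.Surjective φ := by
        intro y
        have hsq : IsSquare (y / Qf t v₀) :=
          FiniteField.isSquare_of_char_two (by rw [ringChar.eq F 2]) _
        obtain ⟨c, hc⟩ := hsq
        refine ⟨c • v₀, ?_⟩
        show Qf t (c • v₀) = y
        rw [Qf_smul, ← hc]
        field_simp
      have h1 := AddSubgroup.card_mul_index φ.ker
      rw [AddSubgroup.index_ker, AddMonoidHom.range_eq_top.mpr hsurj] at h1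
      have h2 : Nat.card (⊤ : AddSubgroup F) = Fintype.card F := by
        rw [AddSubgroup.card_top, Nat.card_eq_fintype_card]
      rw [h2, hcardV] at h1
      rw [← h1]
      congr 1
  · intro hall
    have := Cfsg.Agent.Lib.Helper3_AltForm.even_finrank_range (fB m F) fB_sep
      (Matrix.mulVecLin (t - 1)) (by
        intro v
        rw [fB_apply, Matrix.mulVecLin_apply, Matrix.sub_mulVec, Matrix.one_mulVec, sympForm_sub_right,
          sympForm_self, sub_zero]
        exact hall v)
    exact this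

end Cfsg.Agent.S2167
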