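import Mathlib
import Cfsg.Statements.S2261
import Cfsg.Agent.Lib.Helper7_Singer

set_option autoImplicit false

open Cfsg

namespace Cfsg.Agent.S2261


/-- Let F be a finite field with q elements and d ≥ 1. Then every element of PGL_d(F) = GL_d(F)/Z has order at most (q^d − 1)/(q − 1), and some element (the image of a Singer cycle) has exactly this order. -/
theorem result {F : Type*} [Field F] [Fintype F] (d : ℕ) (hd : 1 ≤ d) :
    (∀ g : (GL (Fin d) F ⧸ Subgroup.center (GL (Fin d) F)), (Fintype.card F - 1) * orderOf g ≤ Fintype.card F ^ d - 1) ∧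
    (∃ g : (GL (Fin d) F ⧸ Subgroup.center (GL (Fin d) F)), (Fintype.card F - 1) * orderOf g = Fintype.card F ^ d - 1) := by
  exact ⟨fun g => Cfsg.Agent.Lib.Helper7_Singer.pgl_order_le d hd g,
    Cfsg.Agent.Lib.Helper7_Singer.pgl_singer d hd⟩

end Cfsg.Agent.S2261
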