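import Cfsg.Statements.S2268
import Cfsg.Agent.Lib.Helper4_PReduced8

set_option autoImplicit false
open Cfsg

namespace Cfsg.Agent.S2268


/-- Let G be a finite group with an abelian Sylow p-subgroup P and let Q ≤ P. Then N_G(Q) = (N_G(Q) ∩ N_G(P))·C_G(Q), so that N_G(Q)/C_G(Q) is a homomorphic image of the subgroup (N_G(Q) ∩ N_G(P))/C_G(P) of N_G(P)/C_G(P); in particular the order of N_G(Q)/C_G(Q) divides the order of N_G(P)/C_G(P). -/
theorem result {G : Type*} [Group G] [Finite G] {p : ℕ} [Fact p.Prime]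
    (P : Sylow p G) (hP : IsMulCommutative (P : Subgroup G)) (Q : Subgroup G) (hQ : Q ≤ (P : Subgroup G)) :
    Subgroup.normalizer (Q : Set G) =
      (Subgroup.normalizer (Q : Set G) ⊓ Subgroup.normalizer ((P : Subgroup G) : Set G)) ⊔ Subgroup.centralizer (Q : Set G) ∧
    ((Subgroup.centralizer (Q : Set G)).subgroupOf (Subgroup.normalizer (Q : Set G))).index ∣ ((Subgroup.centralizer ((P : Subgroup G) : Set G)).subgroupOf (Subgroup.normalizer ((P : Subgroup G) : Set G))).index := by
  set N := Subgroup.normalizer (Q : Set G) with hN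
  set C := Subgroup.centralizer (Q : Set G) with hC
  set NP := Subgroup.normalizer ((P : Subgroup G) : Set G) with hNP
  set CP := Subgroup.centralizer ((P : Subgroup G) : Set G) with hCP
  have hCN : C ≤ N := Subgroup.centralizer_le_normalizer _
  have hPC : (P : Subgroup G) ≤ C := by
    intro x hx
    rw [hC, Subgroup.mem_centralizer_iff]
    intro q hq
    exact congrArg Subtype.val (hP.is_comm.comm (⟨q, hQ hq⟩ : (P : Subgroup G)) ⟨x, hx⟩)
  have h1 : N = (N ⊓ NP) ⊔ C := by
    apply le_antisymm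
    · intro g hg
      obtain ⟨a, haN, haP, k, hk, rfl⟩ := Cfsg.Agent.Lib.Helper4_PReduced8.frattini_rel N C
        (P : Subgroup G) hCN (Cfsg.Agent.Lib.Helper4_PReduced5.normalizer_le_normalizer_centralizer Q)
        hPC ⟨P.subtype hPC, Sylow.coe_subtype _ _⟩ g hg
      exact Subgroup.mul_mem_sup ⟨haN, haP⟩ hk
    · exact sup_le inf_le_left hCN
  refine ⟨h1, ?_⟩
  set A := N ⊓ NP with hA
  show C.relIndex N ∣ CP.relIndex NP
  have hAN : A ≤ N := inf_le_left
  haveI hCn : (C.subgroupOf N).Normal := by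
    rw [Subgroup.normal_subgroupOf_iff_le_normalizer hCN]
    exact Cfsg.Agent.Lib.Helper4_PReduced5.normalizer_le_normalizer_centralizer Q
  have e1 : C.relIndex N = C.relIndex A := by
    have htop : A.subgroupOf N ⊔ C.subgroupOf N = ⊤ := by
      rw [← Subgroup.subgroupOf_sup hAN hCN, ← h1]
      exact Subgroup.subgroupOf_self N
    calc C.relIndex N = (C.subgroupOf N).index := rfl
      _ = (C.subgroupOf N).relIndex ⊤ := (Subgroup.relIndex_top_right _).symm
      _ = (C.subgroupOf N).relIndex (A.subgroupOf N ⊔ C.subgroupOf N) := by rw [htop]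
      _ = (C.subgroupOf N).relIndex (A.subgroupOf N) := Subgroup.relIndex_sup_right _ _
      _ = C.relIndex A := Subgroup.relIndex_subgroupOf hAN
  have hCPC : CP ≤ C := Subgroup.centralizer_le hQ
  have hCPA : CP ≤ A := le_inf (hCPC.trans hCN) (Subgroup.centralizer_le_normalizer _)
  rw [e1, ← Subgroup.inf_relIndex_right]
  have h2 : (C ⊓ A).relIndex A ∣ CP.relIndex A :=
    Subgroup.relIndex_dvd_of_le_left A (le_inf hCPC hCPA)
  have h3 : CP.relIndex A ∣ CP.relIndex NP :=
    Dvd.intro _ (Subgroup.relIndex_mul_relIndex CP A NP hCPA inf_le_right)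
  exact h2.trans h3

end Cfsg.Agent.S2268
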