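import Cfsg.Statements.S2270
import Cfsg.Agent.Lib.Helper4_Fusion

set_option autoImplicit false
open Cfsg

namespace Cfsg.Agent.S2270


/-- Let n ≥ 3, p an odd prime, and P an abelian Sylow p-subgroup of the symmetric group S_n (with p dividing n!, so that P ≠ 1). Then N(P)/C(P) has even order. -/
theorem result (n : ℕ) (hn : 3 ≤ n) {p : ℕ} [Fact p.Prime] (hp : p ≠ 2) (hpn : p ≤ n)
    (P : Sylow p (Equiv.Perm (Fin n))) (hP : IsMulCommutative (P : Subgroup (Equiv.Perm (Fin n)))) :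
    2 ∣ ((Subgroup.centralizer ((P : Subgroup (Equiv.Perm (Fin n))) : Set (Equiv.Perm (Fin n)))).subgroupOf (Subgroup.normalizer ((P : Subgroup (Equiv.Perm (Fin n))) : Set (Equiv.Perm (Fin n))))).index := by
  have hpp : p.Prime := Fact.out
  have hdvd : p ∣ Nat.card (Equiv.Perm (Fin n)) := by
    rw [Nat.card_eq_fintype_card, Fintype.card_perm, Fintype.card_fin]
    exact (Nat.Prime.dvd_factorial hpp).mpr hpn
  have hne := P.ne_bot_of_dvd_card hdvd
  obtain ⟨⟨x, hx⟩, hx1⟩ := (Subgroup.ne_bot_iff_exists_ne_one).mp hne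
  have hx1' : x ≠ 1 := fun h => hx1 (Subtype.ext h)
  have hx2 : x ≠ x⁻¹ := by
    intro h
    have h2 : x ^ 2 = 1 := by
      rw [pow_two]
      nth_rewrite 2 [h]
      exact mul_inv_cancel x
    obtain ⟨k, hk⟩ := (IsPGroup.iff_orderOf.mp P.isPGroup') ⟨x, hx⟩
    have hk' : orderOf x = p ^ k := by
      rw [← hk]; exact (Subgroup.orderOf_mk x hx).symm
    have h3 : p ^ k ∣ 2 := by rw [← hk']; exact orderOf_dvd_of_pow_eq_one h2
    rcases Nat.eq_zero_or_pos k with h0 | hpos
    · rw [h0, pow_zero, orderOf_eq_one_iff] at hk'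
      exact hx1' hk'
    · have h4 : p ∣ 2 := (dvd_pow_self p hpos.ne').trans h3
      have := (Nat.prime_dvd_prime_iff_eq hpp Nat.prime_two).mp h4
      exact hp this
  have hconj : IsConj x x⁻¹ := by
    rw [Equiv.Perm.isConj_iff_cycleType_eq, Equiv.Perm.cycleType_inv]
  exact Cfsg.Agent.Lib.Helper4_Fusion.even_index_of_inverted P hP x hx hx2 hconj

end Cfsg.Agent.S2270
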