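import Mathlib
import Cfsg.Statements.S3380
import Cfsg.Agent.S0126
import Cfsg.Agent.S0016
import Cfsg.Agent.S0015
import Cfsg.Agent.Lib.Helper5_NoNormalFour
import Cfsg.Agent.Lib.Helper5_MaxClassTwo

set_option autoImplicit false

open Cfsg

namespace Cfsg.Agent.S3380

section pz
variable {M : Type*} [Monoid M] (p : ℕ) [NeZero p]

/-- power with exponent in `ZMod p` -/
def pz (x : M) (m : ZMod p) : M := x ^ m.val

theorem pow_mod_of (x : M) (hx : x ^ p = 1) (k : ℕ) : x ^ (k % p) = x ^ k := by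
  conv_rhs => rw [← Nat.mod_add_div k p, pow_add, pow_mul, hx, one_pow, mul_one]

theorem pz_zero (x : M) : pz p x 0 = 1 := by simp [pz, ZMod.val_zero]

theorem pz_add (x : M) (hx : x ^ p = 1) (m n : ZMod p) :
    pz p x (m + n) = pz p x m * pz p x n := by
  unfold pz; rw [ZMod.val_add, pow_mod_of p x hx, pow_add]

theorem pz_mul (x : M) (hx : x ^ p = 1) (m n : ZMod p) :
    pz p x (m * n) = (pz p x m) ^ n.val := by
  unfold pz; rw [ZMod.val_mul, pow_mod_of p x hx, pow_mul]

theorem pz_one [Fact (1 < p)] (x : M) : pz p x 1 = x := by simp [pz, ZMod.val_one]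

end pz

section core
variable {R : Type*} [Ring R] (p : ℕ) [hp : Fact p.Prime] (α ζ : R)

def U (m n : ZMod p) : R := pz p α m * pz p ζ n
def T (i : ZMod p) : R := ∑ k : ZMod p, U p α ζ k (i * k)
def Tz : R := ∑ n : ZMod p, pz p ζ n

variable (hα : α ^ p = 1) (hζ : ζ ^ p = 1) (hc : Commute α ζ)

include hα hζ hc in
theorem U_add (m m' n n' : ZMod p) :
    U p α ζ (m + m') (n + n') = U p α ζ m n * U p α ζ m' n' := by
  unfold U
  rw [pz_add p α hα, pz_add p ζ hζ]
  have h : Commute (pz p α m') (pz p ζ n) := hc.pow_pow _ _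
  calc pz p α m * pz p α m' * (pz p ζ n * pz p ζ n')
      = pz p α m * (pz p α m' * pz p ζ n) * pz p ζ n' := by simp only [mul_assoc]
    _ = pz p α m * (pz p ζ n * pz p α m') * pz p ζ n' := by rw [h.eq]
    _ = _ := by simp only [mul_assoc]

theorem U_zero_right (m : ZMod p) : U p α ζ m 0 = pz p α m := by
  unfold U; rw [pz_zero, mul_one]

include hα hζ hc in
theorem sum_U (m : ZMod p) : ∑ n : ZMod p, U p α ζ m n = pz p α m * Tz p ζ := by
  unfold Tz U
  rw [Finset.mul_sum]

include hα hζ hc in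
theorem sum_T (hTz : Tz p ζ = 0) : ∑ i : ZMod p, T p α ζ i = (p : R) := by
  unfold T
  rw [Finset.sum_comm]
  rw [Finset.sum_eq_single (0 : ZMod p)]
  · simp only [mul_zero]
    rw [Finset.sum_const, Finset.card_univ, ZMod.card, U_zero_right, pz_zero, nsmul_eq_mul, mul_one]
  · intro k _ hk
    have : ∑ i : ZMod p, U p α ζ k (i * k) = ∑ n : ZMod p, U p α ζ k n :=
      Fintype.sum_equiv (Equiv.mulRight₀ k hk) _ _ (fun i => rfl)
    rw [this, sum_U p α ζ hα hζ hc, hTz, mul_zero]
  · intro h; exact absurd (Finset.mem_univ _) h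

include hα hζ hc in
theorem T_mul_T (hTz : Tz p ζ = 0) (i j : ZMod p) (hij : i ≠ j) :
    T p α ζ i * T p α ζ j = 0 := by
  unfold T
  rw [Finset.sum_mul_sum]
  have h1 : ∀ k : ZMod p, ∑ l : ZMod p, U p α ζ k (i * k) * U p α ζ l (j * l)
      = ∑ m : ZMod p, U p α ζ m (j * m + (i - j) * k) := by
    intro k
    refine Fintype.sum_equiv (Equiv.addLeft k) _ _ (fun l => ?_)
    rw [← U_add p α ζ hα hζ hc]
    show _ = U p α ζ (k + l) (j * (k + l) + (i - j) * k)
    congr 1
    ring
  rw [Finset.sum_congr rfl (fun k _ => h1 k), Finset.sum_comm]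
  apply Finset.sum_eq_zero
  intro m _
  have hne : i - j ≠ 0 := sub_ne_zero.mpr hij
  have : ∑ k : ZMod p, U p α ζ m (j * m + (i - j) * k) = ∑ n : ZMod p, U p α ζ m n :=
    Fintype.sum_equiv ((Equiv.mulLeft₀ (i - j) hne).trans (Equiv.addLeft (j * m))) _ _
      (fun k => rfl)
  rw [this, sum_U p α ζ hα hζ hc, hTz, mul_zero]

include hα hζ hc in
theorem U_mul_T (i : ZMod p) : U p α ζ 1 i * T p α ζ i = T p α ζ i := by
  unfold T
  rw [Finset.mul_sum]
  refine Fintype.sum_equiv (Equiv.addLeft (1 : ZMod p)) _ _ (fun k => ?_)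
  rw [← U_add p α ζ hα hζ hc]
  show _ = U p α ζ (1 + k) (i * (1 + k))
  congr 1
  ring

theorem U_one (i : ZMod p) : U p α ζ 1 i = α * pz p ζ i := by
  haveI : Fact (1 < p) := ⟨hp.out.one_lt⟩
  unfold U; rw [pz_one]

theorem commute_T (β : R) (h1 : Commute β α) (h2 : Commute β ζ) (i : ZMod p) :
    Commute β (T p α ζ i) := by
  unfold T U pz
  exact Commute.sum_right _ _ _ (fun k _ => (h1.pow_right _).mul_right (h2.pow_right _))

include hα hζ hc in
theorem semiconj_T (γ : R) (j : ZMod p) (h1 : γ * α = (α * pz p ζ j) * γ) (h2 : Commute γ ζ)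
    (i : ZMod p) : γ * T p α ζ i = T p α ζ (i + j) * γ := by
  have hU : ∀ m n : ZMod p, γ * U p α ζ m n = U p α ζ m (j * m + n) * γ := by
    intro m n
    have hs : SemiconjBy γ α (α * pz p ζ j) := h1
    have hs' : SemiconjBy γ (pz p α m) ((α * pz p ζ j) ^ m.val) := hs.pow_right m.val
    have hcomm : Commute α (pz p ζ j) := hc.pow_right _
    have e1 : (α * pz p ζ j) ^ m.val = pz p α m * pz p ζ (j * m) := by
      rw [hcomm.mul_pow, pz_mul p ζ hζ]
      rfl
    have hs2 : SemiconjBy γ (pz p ζ n) (pz p ζ n) := h2.pow_right _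
    unfold U
    rw [pz_add p ζ hζ]
    calc γ * (pz p α m * pz p ζ n) = (γ * pz p α m) * pz p ζ n := by rw [mul_assoc]
      _ = ((α * pz p ζ j) ^ m.val * γ) * pz p ζ n := by rw [hs'.eq]
      _ = (α * pz p ζ j) ^ m.val * (γ * pz p ζ n) := by rw [mul_assoc]
      _ = (α * pz p ζ j) ^ m.val * (pz p ζ n * γ) := by rw [hs2.eq]
      _ = pz p α m * (pz p ζ (j * m) * pz p ζ n) * γ := by rw [e1]; simp only [mul_assoc]
  unfold T
  rw [Finset.mul_sum, Finset.sum_mul]
  refine Finset.sum_congr rfl (fun k _ => ?_)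
  rw [hU]
  congr 2
  ring

include hζ in
theorem zeta_mul_Tz : ζ * Tz p ζ = Tz p ζ := by
  haveI : Fact (1 < p) := ⟨hp.out.one_lt⟩
  unfold Tz
  rw [Finset.mul_sum]
  refine Fintype.sum_equiv (Equiv.addLeft (1 : ZMod p)) _ _ (fun k => ?_)
  show ζ * pz p ζ k = pz p ζ (1 + k)
  rw [pz_add p ζ hζ, pz_one]

include hα hζ hc in
theorem T_sq (hTz : Tz p ζ = 0) (i : ZMod p) :
    T p α ζ i * T p α ζ i = (p : R) * T p α ζ i := by
  have h := sum_T p α ζ hα hζ hc hTz
  have h2 : T p α ζ i * ∑ j : ZMod p, T p α ζ j = T p α ζ i * T p α ζ i := by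
    rw [Finset.mul_sum, Finset.sum_eq_single i]
    · intro j _ hj
      exact T_mul_T p α ζ hα hζ hc hTz i j (Ne.symm hj)
    · intro h; exact absurd (Finset.mem_univ _) h
  rw [← h2, h]
  exact (Nat.cast_commute p _).symm.eq

end core

section grp
variable {G : Type*} [Group G] [Finite G]

theorem quat_not_comm (n : ℕ) (hn : 1 ≤ n) :
    ¬ ∀ x y : QuaternionGroup (2 ^ n), x * y = y * x := by
  intro h
  have h1 := h (QuaternionGroup.a 1) (QuaternionGroup.xa 0)
  rw [QuaternionGroup.a_mul_xa, QuaternionGroup.xa_mul_a] at h1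
  have h2 : (0 : ZMod (2 * 2 ^ n)) - 1 = 0 + 1 := QuaternionGroup.xa.inj h1
  have h3 : (2 : ZMod (2 * 2 ^ n)) = 0 := by
    have : (2 : ZMod (2 * 2 ^ n)) = (0 + 1) - (0 - 1) := by ring
    rw [this, h2]; ring
  have h4 : ((2 : ℕ) : ZMod (2 * 2 ^ n)) = 0 := by exact_mod_cast h3
  rw [ZMod.natCast_eq_zero_iff] at h4
  have h5 : 2 * 2 ^ n ≤ 2 := Nat.le_of_dvd (by norm_num) h4
  have h6 : 2 ^ 1 ≤ 2 ^ n := Nat.pow_le_pow_right (by norm_num) hn
  omega

/-- a normal elementary abelian subgroup of order greater than `p` -/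
theorem exists_E (p : ℕ) [Fact p.Prime] (hG : IsPGroup p G)
    (hnc : ¬ IsCyclic G) (hnq : ∀ n : ℕ, ¬ Nonempty (G ≃* QuaternionGroup n))
    (hnd : ∀ n : ℕ, ¬ Nonempty (G ≃* DihedralGroup n)) (hnsd : ¬ Cfsg.IsQuasiDihedral G) :
    ∃ E : Subgroup G, E.Normal ∧ (∀ x ∈ E, ∀ y ∈ E, x * y = y * x) ∧ (∀ x ∈ E, x ^ p = 1) ∧
      p < Nat.card E := by
  have hp := (Fact.out : p.Prime)
  by_cases hp2 : p = 2
  swap
  · obtain ⟨A, hAn, ⟨hAc, hAe⟩, hAcard⟩ := Cfsg.Agent.S0126.result hp2 hG hnc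
    refine ⟨A, hAn, ?_, hAe, ?_⟩
    · intro x hx y hy
      have := hAc.is_comm.comm ⟨x, hx⟩ ⟨y, hy⟩
      exact congrArg Subtype.val this
    · rw [hAcard, pow_two]
      have := hp.one_lt
      nlinarith
  · subst hp2
    -- some normal abelian subgroup is not cyclic
    have hex : ∃ A : Subgroup G, A.Normal ∧ IsMulCommutative A ∧ ¬ IsCyclic A := by
      by_contra hcon
      push Not at hcon
      obtain ⟨n, hn3, hcard, hclass⟩ :=
        Cfsg.Agent.Lib.Helper5_NoNormalFour.maxclass_of_cyclic_normal_abelian hG hcon hnc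
      rcases Cfsg.Agent.Lib.Helper5_MaxClassTwo.maxclass_classify n hn3 hcard hclass with
        h | ⟨h4', a, b, ha, hb, hrel⟩ | h
      · exact hnd _ h
      · apply hnsd
        refine ⟨n - 1, by omega, ?_, a, b, ha, hb, ?_⟩
        · rw [hcard]; congr 1; omega
        · rw [hrel]; congr 2
      · exact hnq _ h
    obtain ⟨A, hAn, hAc, hAnc⟩ := hex
    have hAcomm : ∀ x ∈ A, ∀ y ∈ A, x * y = y * x := by
      intro x hx y hy
      have := hAc.is_comm.comm ⟨x, hx⟩ ⟨y, hy⟩
      exact congrArg Subtype.val this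
    let E : Subgroup G :=
      { carrier := {x | x ∈ A ∧ x ^ 2 = 1}
        one_mem' := ⟨A.one_mem, one_pow 2⟩
        mul_mem' := by
          rintro x y ⟨hx, hx2⟩ ⟨hy, hy2⟩
          refine ⟨A.mul_mem hx hy, ?_⟩
          rw [(show Commute x y from hAcomm x hx y hy).mul_pow, hx2, hy2, one_mul]
        inv_mem' := by
          rintro x ⟨hx, hx2⟩
          exact ⟨A.inv_mem hx, by rw [inv_pow, hx2, inv_one]⟩ }
    have hEmem : ∀ x, x ∈ E ↔ x ∈ A ∧ x ^ 2 = 1 := fun x => Iff.rfl
    have hEn : E.Normal := by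
      constructor
      intro x hx g
      rw [hEmem] at hx ⊢
      refine ⟨hAn.conj_mem x hx.1 g, ?_⟩
      rw [conj_pow, hx.2]; group
    refine ⟨E, hEn, fun x hx y hy => hAcomm x hx.1 y hy.1, fun x hx => hx.2, ?_⟩
    by_contra hle
    apply hAnc
    -- A has only one subgroup of order 2
    have hAp : IsPGroup 2 A := hG.to_subgroup A
    have huniq : ∀ H K : Subgroup A, Nat.card H = 2 → Nat.card K = 2 → H = K := by
      have key : ∀ H : Subgroup A, Nat.card H = 2 → H.map A.subtype = E := by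
        intro H hH
        have hle' : H.map A.subtype ≤ E := by
          rintro _ ⟨h, hh, rfl⟩
          refine ⟨h.2, ?_⟩
          have h1 : (⟨h, hh⟩ : H) ^ Nat.card H = 1 := pow_card_eq_one'
          rw [hH] at h1
          have h2 := congrArg (fun t : H => ((t : A) : G)) h1
          simpa using h2
        apply Subgroup.eq_of_le_of_card_ge hle'
        rw [Subgroup.card_map_of_injective (Subgroup.subtype_injective A), hH]
        omega
      intro H K hH hK
      apply Subgroup.map_injective (Subgroup.subtype_injective A)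
      rw [key H hH, key K hK]
    rcases Cfsg.Agent.S0016.result 2 hAp huniq with h | ⟨_, n, ⟨e⟩⟩
    · exact h
    · by_cases hn : n = 0
      · subst hn
        haveI : IsCyclic (QuaternionGroup (2 ^ 0)) := by
          rw [pow_zero]; exact QuaternionGroup.quaternionGroup_one_isCyclic
        exact isCyclic_of_surjective e.symm e.symm.surjective
      · exfalso
        apply quat_not_comm n (by omega)
        intro x y
        have := hAc.is_comm.comm (e.symm x) (e.symm y)
        rw [← map_mul, ← map_mul] at this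
        exact e.symm.injective this

/-- a central element `z` of order `p` and a second element `a` of order `p` outside `⟨z⟩`
with all its commutators in `⟨z⟩` -/
theorem exists_za (p : ℕ) [Fact p.Prime] (hG : IsPGroup p G) (E : Subgroup G) [hEn : E.Normal]
    (hEe : ∀ x ∈ E, x ^ p = 1) (hEcard : p < Nat.card E) :
    ∃ z a : G, z ∈ Subgroup.center G ∧ z ^ p = 1 ∧ z ≠ 1 ∧ a ^ p = 1 ∧
      a ∉ Subgroup.zpowers z ∧ ∀ g : G, g * a * g⁻¹ * a⁻¹ ∈ Subgroup.zpowers z := by
  have hp := (Fact.out : p.Prime)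
  haveI : Group.IsNilpotent G := hG.isNilpotent
  have hEne : E ≠ ⊥ := by
    intro h
    rw [h, Subgroup.card_bot] at hEcard
    have := hp.one_lt
    omega
  obtain ⟨z, hzE, hzc, hz1⟩ := Cfsg.Agent.S0015.normal_inf_center_ne_bot E hEne
  have hzp : z ^ p = 1 := hEe z hzE
  have hKn : (Subgroup.zpowers z).Normal := by
    constructor
    intro k hk g
    obtain ⟨i, rfl⟩ := Subgroup.mem_zpowers_iff.mp hk
    have hcomm : g * z ^ i = z ^ i * g := by
      have h1 : Commute g z := (Subgroup.mem_center_iff.mp hzc g)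
      exact (h1.zpow_right i).eq
    rw [hcomm]
    simp
  have hKcard : Nat.card (Subgroup.zpowers z) = p := by
    rw [Nat.card_zpowers]; exact orderOf_eq_prime hzp hz1
  set K := Subgroup.zpowers z with hK
  haveI : Group.IsNilpotent (G ⧸ K) := (hG.to_quotient K).isNilpotent
  have hπ : Function.Surjective (QuotientGroup.mk' K) := QuotientGroup.mk'_surjective K
  haveI hE'n : (E.map (QuotientGroup.mk' K)).Normal := hEn.map _ hπ
  have hE'ne : E.map (QuotientGroup.mk' K) ≠ ⊥ := by
    intro h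
    have hle : E ≤ K := by
      intro x hx
      have : (QuotientGroup.mk' K) x ∈ E.map (QuotientGroup.mk' K) := ⟨x, hx, rfl⟩
      rw [h, Subgroup.mem_bot] at this
      exact (QuotientGroup.eq_one_iff x).mp this
    have := Subgroup.card_le_of_le hle
    omega
  obtain ⟨a', ha'E, ha'c, ha'1⟩ :=
    Cfsg.Agent.S0015.normal_inf_center_ne_bot (E.map (QuotientGroup.mk' K)) hE'ne
  obtain ⟨a, haE, rfl⟩ := ha'E
  refine ⟨z, a, hzc, hzp, hz1, hEe a haE, ?_, ?_⟩
  · intro h
    exact ha'1 ((QuotientGroup.eq_one_iff a).mpr h)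
  · intro g
    rw [← QuotientGroup.eq_one_iff]
    have h1 := Subgroup.mem_center_iff.mp ha'c (QuotientGroup.mk' K g)
    show (QuotientGroup.mk' K) (g * a * g⁻¹ * a⁻¹) = 1
    rw [map_mul, map_mul, map_mul, map_inv, map_inv, h1]
    group

end grp

section main
variable (q : ℕ) [hq : Fact q.Prime] {V : Type*} [AddCommGroup V] [Module (ZMod q) V]
  {G : Type*} [Group G] (ρ : G →* (V ≃ₗ[ZMod q] V))

/-- `ρ` as a homomorphism into the endomorphism ring -/
def r : G →* Module.End (ZMod q) V where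
  toFun g := (ρ g : V →ₗ[ZMod q] V)
  map_one' := by rw [map_one]; rfl
  map_mul' g h := by rw [map_mul]; rfl

theorem r_apply (g : G) (v : V) : r q ρ g v = ρ g v := rfl

theorem central_fix (hρ : Function.Injective ρ)
    (hirr : ∀ W : Submodule (ZMod q) V, (∀ g : G, ∀ w ∈ W, ρ g w ∈ W) → W = ⊥ ∨ W = ⊤)
    (c : G) (hc : c ∈ Subgroup.center G) (hc1 : c ≠ 1) (v : V) (hv : ρ c v = v) : v = 0 := by
  let F : Submodule (ZMod q) V := LinearMap.ker ((ρ c : V →ₗ[ZMod q] V) - LinearMap.id)
  have hFmem : ∀ w, w ∈ F ↔ ρ c w = w := by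
    intro w
    simp [F, LinearMap.mem_ker, sub_eq_zero]
  have hinv : ∀ g : G, ∀ w ∈ F, ρ g w ∈ F := by
    intro g w hw
    rw [hFmem] at hw ⊢
    have : c * g = g * c := (Subgroup.mem_center_iff.mp hc g).symm
    calc ρ c (ρ g w) = (ρ (c * g)) w := by rw [map_mul]; rfl
      _ = ρ (g * c) w := by rw [this]
      _ = ρ g (ρ c w) := by rw [map_mul]; rfl
      _ = ρ g w := by rw [hw]
  rcases hirr F hinv with h | h
  · have : v ∈ F := (hFmem v).mpr hv
    rw [h] at this
    simpa using this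
  · exfalso
    apply hc1
    apply hρ
    rw [map_one]
    ext w
    have : w ∈ F := by rw [h]; trivial
    exact (hFmem w).mp this

theorem q_ne_p [Finite V] [Nontrivial V] [Finite G] (p : ℕ) [Fact p.Prime] (hG : IsPGroup p G)
    (hρ : Function.Injective ρ)
    (hirr : ∀ W : Submodule (ZMod q) V, (∀ g : G, ∀ w ∈ W, ρ g w ∈ W) → W = ⊥ ∨ W = ⊤)
    (hnc : ¬ IsCyclic G) : q ≠ p := by
  intro hqp
  subst hqp
  letI : MulAction G V := MulAction.compHom V ρ
  have hsmul : ∀ (g : G) (v : V), g • v = ρ g v := fun g v => rfl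
  have hmod := hG.card_modEq_card_fixedPoints V
  obtain ⟨v0, hv0⟩ := exists_ne (0 : V)
  have hdvd : q ∣ Nat.card V := by
    have h1 : addOrderOf v0 = q := by
      apply addOrderOf_eq_prime
      · rw [← Nat.cast_smul_eq_nsmul (ZMod q), ZMod.natCast_self, zero_smul]
      · exact hv0
    rw [← h1]; exact addOrderOf_dvd_natCard v0
  have hdvd2 : q ∣ Nat.card (MulAction.fixedPoints G V) :=
    Nat.modEq_zero_iff_dvd.mp (hmod.symm.trans (Nat.modEq_zero_iff_dvd.mpr hdvd))
  haveI : Nonempty (MulAction.fixedPoints G V) := ⟨⟨0, fun g => by rw [hsmul, map_zero]⟩⟩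
  have h2 : 1 < Nat.card (MulAction.fixedPoints G V) :=
    lt_of_lt_of_le hq.out.one_lt (Nat.le_of_dvd Nat.card_pos hdvd2)
  haveI : Nontrivial (MulAction.fixedPoints G V) := Finite.one_lt_card_iff_nontrivial.mp h2
  obtain ⟨⟨w, hw⟩, hw0⟩ := exists_ne (⟨0, fun g => by rw [hsmul, map_zero]⟩ :
    MulAction.fixedPoints G V)
  have hw0' : w ≠ 0 := fun h => hw0 (Subtype.ext h)
  let F : Submodule (ZMod q) V :=
    { carrier := {v | ∀ g : G, ρ g v = v}
      add_mem' := by
        intro a b ha hb g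
        rw [map_add, ha g, hb g]
      zero_mem' := fun g => map_zero _
      smul_mem' := by
        intro c a ha g
        rw [map_smul, ha g] }
  have hFmem : ∀ v, v ∈ F ↔ ∀ g : G, ρ g v = v := fun v => Iff.rfl
  have hinv : ∀ g : G, ∀ v ∈ F, ρ g v ∈ F := by
    intro g v hv
    rw [hFmem] at hv
    rw [hv g]
    exact (hFmem v).mpr hv
  have hwF : w ∈ F := (hFmem w).mpr (fun g => hw g)
  rcases hirr F hinv with h | h
  · rw [h] at hwF
    exact hw0' (by simpa using hwF)
  · apply hnc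
    haveI : Subsingleton G := by
      constructor
      intro a b
      apply hρ
      ext v
      have hv : v ∈ F := by rw [h]; trivial
      rw [(hFmem v).mp hv a, (hFmem v).mp hv b]
    exact isCyclic_of_subsingleton

end main


/-- Let a finite p-group G act faithfully and irreducibly on a non-trivial finite vector space V over the field with q elements (q prime), and suppose G is not cyclic, generalized quaternion, dihedral or semidihedral. Then G has a subgroup H of index p and V is the direct sum of p subspaces, each invariant under H, on none of which H acts faithfully, and which every element of G outside H permutes in a single p-cycle. -/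
theorem result
    (q : ℕ) [Fact q.Prime] {V : Type*} [AddCommGroup V] [Module (ZMod q) V] [Finite V] [Nontrivial V]
    {G : Type*} [Group G] [Finite G] (p : ℕ) [Fact p.Prime] (hG : IsPGroup p G)
    (ρ : G →* (V ≃ₗ[ZMod q] V)) (hρ : Function.Injective ρ)
    (hirr : ∀ W : Submodule (ZMod q) V, (∀ g : G, ∀ w ∈ W, ρ g w ∈ W) → W = ⊥ ∨ W = ⊤)
    (hnc : ¬ IsCyclic G) (hnq : ∀ n : ℕ, ¬ Nonempty (G ≃* QuaternionGroup n))
    (hnd : ∀ n : ℕ, ¬ Nonempty (G ≃* DihedralGroup n)) (hnsd : ¬ Cfsg.IsQuasiDihedral G) :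
    ∃ (H : Subgroup G) (W : Fin p → Submodule (ZMod q) V), H.index = p ∧
      iSup W = ⊤ ∧ iSupIndep W ∧
      (∀ h ∈ H, ∀ i, ∀ w ∈ W i, ρ h w ∈ W i) ∧
      (∀ i, ∃ h ∈ H, h ≠ 1 ∧ ∀ w ∈ W i, ρ h w = w) ∧
      ∀ g : G, g ∉ H → ∃ σ : Equiv.Perm (Fin p), orderOf σ = p ∧ ∀ i, (W i).map (ρ g : V →ₗ[ZMod q] V) = W (σ i) := by
  classical
  have hpp := (Fact.out : p.Prime)
  have hqq := (Fact.out : q.Prime)
  have hqp : q ≠ p := q_ne_p q ρ p hG hρ hirr hnc
  have hpq0 : (p : ZMod q) ≠ 0 := by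
    intro h
    rw [ZMod.natCast_eq_zero_iff] at h
    exact hqp ((Nat.prime_dvd_prime_iff_eq hqq hpp).mp h)
  have hcast : ∀ v : V, (p : Module.End (ZMod q) V) v = (p : ZMod q) • v := by
    intro v
    rw [Module.End.natCast_apply, Nat.cast_smul_eq_nsmul]
  obtain ⟨E, hEn, hEc, hEe, hEcard⟩ := exists_E p hG hnc hnq hnd hnsd
  haveI := hEn
  obtain ⟨z, a, hzc, hzp, hz1, hap, haK, hκK⟩ := exists_za p hG E hEe hEcard
  have hza : ∀ g : G, g * z = z * g := fun g => Subgroup.mem_center_iff.mp hzc g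
  obtain ⟨α, hα⟩ : ∃ α : Module.End (ZMod q) V, α = r q ρ a := ⟨_, rfl⟩
  obtain ⟨ζ, hζ⟩ : ∃ ζ : Module.End (ZMod q) V, ζ = r q ρ z := ⟨_, rfl⟩
  have hαp : α ^ p = 1 := by rw [hα, ← map_pow, hap, map_one]
  have hζp : ζ ^ p = 1 := by rw [hζ, ← map_pow, hzp, map_one]
  have hcαζ : Commute α ζ := by
    show α * ζ = ζ * α
    rw [hα, hζ, ← map_mul, ← map_mul, hza a]
  have hTz : Tz p ζ = 0 := by
    ext v
    have h1 : ρ z (Tz p ζ v) = Tz p ζ v := by
      have := zeta_mul_Tz p ζ hζp
      calc ρ z (Tz p ζ v) = (ζ * Tz p ζ) v := by rw [hζ]; rfl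
        _ = Tz p ζ v := by rw [this]
    exact central_fix q ρ hρ hirr z hzc hz1 _ h1
  have hsum := sum_T p α ζ hαp hζp hcαζ hTz
  have hTT := T_mul_T p α ζ hαp hζp hcαζ hTz
  have hsq := T_sq p α ζ hαp hζp hcαζ hTz
  have hb : ∀ i : ZMod p, r q ρ (a * z ^ i.val) = U p α ζ 1 i := by
    intro i
    rw [U_one, map_mul, map_pow, hα, hζ]; rfl
  have hbfix : ∀ (i : ZMod p) (v : V), ρ (a * z ^ i.val) (T p α ζ i v) = T p α ζ i v := by
    intro i v
    have := U_mul_T p α ζ hαp hζp hcαζ i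
    calc ρ (a * z ^ i.val) (T p α ζ i v) = (r q ρ (a * z ^ i.val) * T p α ζ i) v := rfl
      _ = T p α ζ i v := by rw [hb, this]
  have hbne : ∀ i : ZMod p, a * z ^ i.val ≠ 1 := by
    intro i h
    apply haK
    have : a = (z ^ i.val)⁻¹ := eq_inv_of_mul_eq_one_left h
    rw [this]
    exact Subgroup.inv_mem _ (Subgroup.pow_mem _ (Subgroup.mem_zpowers z) _)
  let κ : G →* G :=
    { toFun := fun g => g * a * g⁻¹ * a⁻¹
      map_one' := by group
      map_mul' := fun g h => by
        have hc : ∀ x : G, x * (h * a * h⁻¹ * a⁻¹) = (h * a * h⁻¹ * a⁻¹) * x := by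
          intro x
          obtain ⟨m, hm⟩ := Subgroup.mem_zpowers_iff.mp (hκK h)
          rw [← hm]
          exact ((show Commute x z from hza x).zpow_right m).eq
        calc g * h * a * (g * h)⁻¹ * a⁻¹
            = g * (h * a * h⁻¹ * a⁻¹) * (a * g⁻¹ * a⁻¹) := by group
          _ = (h * a * h⁻¹ * a⁻¹) * g * (a * g⁻¹ * a⁻¹) := by rw [hc g]
          _ = (h * a * h⁻¹ * a⁻¹) * (g * a * g⁻¹ * a⁻¹) := by group
          _ = (g * a * g⁻¹ * a⁻¹) * (h * a * h⁻¹ * a⁻¹) := (hc _).symm }
  have hκ : ∀ g, κ g = g * a * g⁻¹ * a⁻¹ := fun g => rfl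
  obtain ⟨H, hH⟩ : ∃ H : Subgroup G, H = κ.ker := ⟨_, rfl⟩
  have hHmem : ∀ g, g ∈ H ↔ g * a = a * g := by
    intro g
    rw [hH, MonoidHom.mem_ker, hκ]
    constructor
    · intro h
      calc g * a = (g * a * g⁻¹ * a⁻¹) * (a * g) := by group
        _ = a * g := by rw [h, one_mul]
    · intro h
      calc g * a * g⁻¹ * a⁻¹ = (g * a) * g⁻¹ * a⁻¹ := by group
        _ = (a * g) * g⁻¹ * a⁻¹ := by rw [h]
        _ = 1 := by group
  have hoz : orderOf z = p := orderOf_eq_prime hzp hz1
  have hKcard : Nat.card (Subgroup.zpowers z) = p := by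
    rw [Nat.card_zpowers]; exact hoz
  have hrange : κ.range ≤ Subgroup.zpowers z := by
    rintro _ ⟨g, rfl⟩
    exact hκK g
  have hrne : κ.range ≠ ⊥ := by
    intro hbot
    have hacen : a ∈ Subgroup.center G := by
      rw [Subgroup.mem_center_iff]
      intro g
      have : g ∈ H := by
        rw [hH, MonoidHom.mem_ker]
        have : κ g ∈ κ.range := ⟨g, rfl⟩
        rw [hbot] at this
        exact Subgroup.mem_bot.mp this
      exact (hHmem g).mp this
    have hT0 : ∀ i : ZMod p, T p α ζ i = 0 := by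
      intro i
      ext v
      have hcen : a * z ^ i.val ∈ Subgroup.center G :=
        Subgroup.mul_mem _ hacen (Subgroup.pow_mem _ hzc _)
      exact central_fix q ρ hρ hirr _ hcen (hbne i) _ (hbfix i v)
    have h0 : (p : Module.End (ZMod q) V) = 0 := by
      rw [← hsum]
      exact Finset.sum_eq_zero (fun i _ => hT0 i)
    obtain ⟨v0, hv0⟩ := exists_ne (0 : V)
    have h1 : (p : Module.End (ZMod q) V) v0 = 0 := by rw [h0]; rfl
    rw [hcast] at h1
    rcases smul_eq_zero.mp h1 with h | h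
    · exact hpq0 h
    · exact hv0 h
  have hidx : H.index = p := by
    rw [hH, Subgroup.index_ker]
    have hd : Nat.card κ.range ∣ p := hKcard ▸ Subgroup.card_dvd_of_le hrange
    rcases (Nat.dvd_prime hpp).mp hd with h | h
    · exact absurd (Subgroup.card_eq_one.mp h) hrne
    · exact h
  let W' : ZMod p → Submodule (ZMod q) V := fun i => LinearMap.range (T p α ζ i)
  have hW' : ∀ i, W' i = LinearMap.range (T p α ζ i) := fun i => rfl
  let e : Fin p ≃ ZMod p := (ZMod.finEquiv p).toEquiv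
  refine ⟨H, fun i => W' (e i), hidx, ?_, ?_, ?_, ?_, ?_⟩
  · rw [eq_top_iff]
    intro v _
    have hv : v = (p : ZMod q)⁻¹ • ∑ i : ZMod p, T p α ζ i v := by
      have : (∑ i : ZMod p, T p α ζ i) v = (p : ZMod q) • v := by rw [hsum, hcast]
      rw [← LinearMap.sum_apply, this, smul_smul, inv_mul_cancel₀ hpq0, one_smul]
    rw [hv]
    apply Submodule.smul_mem
    apply Submodule.sum_mem
    intro i _
    have : T p α ζ i v ∈ W' (e (e.symm i)) := by
      rw [e.apply_symm_apply]; exact ⟨v, rfl⟩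
    exact Submodule.mem_iSup_of_mem (e.symm i) this
  · have hind : iSupIndep W' := by
      rw [iSupIndep_def]
      intro i
      rw [Submodule.disjoint_def]
      intro x hx hx'
      obtain ⟨u, rfl⟩ := hx
      have h1 : T p α ζ i (T p α ζ i u) = (p : ZMod q) • T p α ζ i u := by
        calc T p α ζ i (T p α ζ i u) = (T p α ζ i * T p α ζ i) u := rfl
          _ = ((p : Module.End (ZMod q) V) * T p α ζ i) u := by rw [hsq]
          _ = (p : ZMod q) • T p α ζ i u := hcast _
      have h2 : (⨆ j, ⨆ (_ : j ≠ i), W' j) ≤ LinearMap.ker (T p α ζ i) := by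
        apply iSup₂_le
        rintro j hj _ ⟨w, rfl⟩
        rw [LinearMap.mem_ker]
        calc T p α ζ i (T p α ζ j w) = (T p α ζ i * T p α ζ j) w := rfl
          _ = 0 := by rw [hTT i j (Ne.symm hj)]; rfl
      have h3 := h2 hx'
      rw [LinearMap.mem_ker, h1] at h3
      rcases smul_eq_zero.mp h3 with h | h
      · exact absurd h hpq0
      · exact h
    exact hind.comp e.injective
  · intro h hh i w hw
    obtain ⟨u, rfl⟩ := hw
    have hcom : Commute (r q ρ h) (T p α ζ (e i)) := by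
      apply commute_T
      · show r q ρ h * α = α * r q ρ h
        rw [hα, ← map_mul, ← map_mul, (hHmem h).mp hh]
      · show r q ρ h * ζ = ζ * r q ρ h
        rw [hζ, ← map_mul, ← map_mul, hza h]
    refine ⟨ρ h u, ?_⟩
    calc T p α ζ (e i) (ρ h u) = (T p α ζ (e i) * r q ρ h) u := rfl
      _ = (r q ρ h * T p α ζ (e i)) u := by rw [hcom.eq]
      _ = ρ h (T p α ζ (e i) u) := rfl
  · intro i
    refine ⟨a * z ^ (e i).val, ?_, hbne (e i), ?_⟩
    · rw [hHmem]
      have : z ^ (e i).val * a = a * z ^ (e i).val :=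
        ((show Commute a z from hza a).pow_right _).eq.symm
      calc a * z ^ (e i).val * a = a * (z ^ (e i).val * a) := by group
        _ = a * (a * z ^ (e i).val) := by rw [this]
    · rintro w ⟨u, rfl⟩
      exact hbfix (e i) u
  · intro g hg
    have hκg1 : κ g ≠ 1 := fun h => hg (by rw [hH]; exact MonoidHom.mem_ker.mpr h)
    obtain ⟨m, hm⟩ := Subgroup.mem_zpowers_iff.mp (hκK g)
    obtain ⟨j, hj⟩ : ∃ j : ZMod p, j = (m : ZMod p) := ⟨_, rfl⟩
    have hzm : z ^ m = z ^ j.val := by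
      rw [← zpow_natCast, hj, ZMod.val_intCast, ← hoz, zpow_mod_orderOf]
    have hj0 : j ≠ 0 := by
      intro h0
      apply hκg1
      rw [hκ, ← hm, hzm, h0, ZMod.val_zero, pow_zero]
    have hga : g * a = z ^ j.val * a * g := by
      rw [← hzm, hm]; group
    have h1 : r q ρ g * α = (α * pz p ζ j) * r q ρ g := by
      have hcm : Commute α (pz p ζ j) := hcαζ.pow_right _
      rw [hcm.eq, hα, hζ]
      show r q ρ g * r q ρ a = (r q ρ z) ^ j.val * r q ρ a * r q ρ g
      rw [← map_pow, ← map_mul, ← map_mul, ← map_mul, hga]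
    have h2 : Commute (r q ρ g) ζ := by
      show r q ρ g * ζ = ζ * r q ρ g
      rw [hζ, ← map_mul, ← map_mul, hza g]
    have hsemi := semiconj_T p α ζ hαp hζp hcαζ (r q ρ g) j h1 h2
    let σ : Equiv.Perm (Fin p) := e.trans ((Equiv.addRight j).trans e.symm)
    have hσ : ∀ i, e (σ i) = e i + j := by
      intro i
      simp [σ]
    have hσk : ∀ k : ℕ, ∀ i, e ((σ ^ k) i) = e i + k • j := by
      intro k
      induction k with
      | zero => intro i; simp
      | succ k ih =>
        intro i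
        rw [pow_succ', Equiv.Perm.mul_apply, hσ, ih, succ_nsmul, add_assoc]
    refine ⟨σ, ?_, ?_⟩
    · apply orderOf_eq_prime
      · ext i
        have := hσk p i
        rw [nsmul_eq_mul, ZMod.natCast_self, zero_mul, add_zero] at this
        rw [e.injective this]
        rfl
      · intro h1'
        apply hj0
        have := hσ ⟨0, hpp.pos⟩
        rw [h1', Equiv.Perm.one_apply] at this
        exact (add_eq_left.mp this.symm)
    · intro i
      show (W' (e i)).map (ρ g : V →ₗ[ZMod q] V) = W' (e (σ i))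
      rw [hσ, hW', hW', ← LinearMap.range_comp]
      have hsurj : LinearMap.range (ρ g : V →ₗ[ZMod q] V) = ⊤ :=
        LinearMap.range_eq_top.mpr (ρ g).surjective
      have h3 : (ρ g : V →ₗ[ZMod q] V) ∘ₗ T p α ζ (e i) = T p α ζ (e i + j) ∘ₗ (ρ g : V →ₗ[ZMod q] V) :=
        hsemi (e i)
      rw [h3, LinearMap.range_comp_of_range_eq_top _ hsurj]

end Cfsg.Agent.S3380
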