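import Mathlib
import Cfsg.Statements.S2277
import Cfsg.Agent.S3380
import Cfsg.Agent.Lib.Helper7_SemiAct
import Cfsg.Agent.Lib.Helper7_SemiAct2
import Cfsg.Agent.Lib.Helper7_Maschke

set_option autoImplicit false

open Cfsg

namespace Cfsg.Agent.S2277

universe u

section ModuleLemma

/-- a permutation of prime order `p` of `Fin p` is transitive -/
theorem perm_trans (p : ℕ) [hp : Fact p.Prime] (σ : Equiv.Perm (Fin p)) (hσ : orderOf σ = p)
    (i j : Fin p) : ∃ k : ℕ, (σ ^ k) i = j := by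
  classical
  have hprime : (orderOf σ).Prime := by rw [hσ]; exact hp.out
  obtain ⟨n, hn⟩ := Equiv.Perm.cycleType_prime_order hprime
  have hsum := Equiv.Perm.sum_cycleType σ
  rw [hn, Multiset.sum_replicate, hσ, smul_eq_mul] at hsum
  have hle : σ.support.card ≤ p := by
    have := Finset.card_le_univ σ.support
    simpa using this
  have hp0 := hp.out.pos
  have hn0 : n = 0 := by
    have : (n + 1) * p ≤ p := by omega
    nlinarith
  subst hn0
  have hcyc : σ.IsCycle := by
    rw [← Equiv.Perm.card_cycleType_eq_one, hn]; simp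
  have hsupp : σ.support = Finset.univ := by
    apply Finset.eq_univ_of_card
    rw [Fintype.card_fin, ← hsum]; simp
  have hmem : ∀ x : Fin p, σ x ≠ x := fun x =>
    Equiv.Perm.mem_support.mp (hsupp ▸ Finset.mem_univ x)
  exact hcyc.exists_pow_eq (hmem i) (hmem j)

variable (q : ℕ) [Fact q.Prime] {V : Type*} [AddCommGroup V] [Module (ZMod q) V]

theorem block_bound {G : Type*} [Group G] (p : ℕ) [hp : Fact p.Prime] [Finite V]
    (ρ : G →* (V ≃ₗ[ZMod q] V)) (W : Fin p → Submodule (ZMod q) V)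
    (hsup : iSup W = ⊤) (hind : iSupIndep W) (g : G) (σ : Equiv.Perm (Fin p))
    (hσ : orderOf σ = p)
    (hperm : ∀ i, (W i).map (ρ g : V →ₗ[ZMod q] V) = W (σ i)) (i₀ : Fin p) :
    Nat.card V = (Nat.card (W i₀)) ^ p ∧
    Nat.card {v : V // ρ g v = v} ≤ Nat.card (W i₀) := by
  classical
  have hint := DirectSum.isInternal_submodule_of_iSupIndep_of_iSup_eq_top hind hsup
  let e1 : (DirectSum (Fin p) fun i => W i) ≃ₗ[ZMod q] V :=
    LinearEquiv.ofBijective (DirectSum.coeLinearMap W) hint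
  let e2 := DirectSum.linearEquivFunOnFintype (ZMod q) (Fin p) (fun i => W i)
  let E : V ≃ₗ[ZMod q] (∀ i, W i) := e1.symm.trans e2
  have hE : ∀ f : ∀ i, W i, E.symm f = ∑ i, (f i : V) := by
    intro f
    have hf : f = ∑ i, Pi.single i (f i) := (Finset.univ_sum_single f).symm
    conv_lhs => rw [hf]
    rw [map_sum]
    apply Finset.sum_congr rfl
    intro i _
    show e1 (e2.symm (Pi.single i (f i))) = _
    rw [DirectSum.linearEquivFunOnFintype_symm_single]
    show DirectSum.coeLinearMap W (DirectSum.lof (ZMod q) (Fin p) (fun i => W i) i (f i)) = _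
    rw [DirectSum.lof_eq_of, DirectSum.coeLinearMap_of]
  have htr := perm_trans p σ hσ
  -- equal cardinalities
  have hcardσ : ∀ i, Nat.card (W (σ i)) = Nat.card (W i) := by
    intro i
    rw [← hperm i]
    exact (Nat.card_congr (Submodule.equivMapOfInjective (ρ g : V →ₗ[ZMod q] V)
      (ρ g).injective (W i)).toEquiv).symm
  have hcardk : ∀ k : ℕ, Nat.card (W ((σ ^ k) i₀)) = Nat.card (W i₀) := by
    intro k
    induction k with
    | zero => simp
    | succ k ih => rw [pow_succ', Equiv.Perm.mul_apply, hcardσ, ih]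
  have hcard : ∀ i, Nat.card (W i) = Nat.card (W i₀) := by
    intro i
    obtain ⟨k, hk⟩ := htr i₀ i
    rw [← hk]; exact hcardk k
  refine ⟨?_, ?_⟩
  · rw [Nat.card_congr E.toEquiv, Nat.card_pi, Finset.prod_congr rfl (fun i _ => hcard i),
      Finset.prod_const, Finset.card_univ, Fintype.card_fin]
  · -- fixed vectors are determined by the `i₀` component
    have hfix : ∀ v : V, ρ g v = v → ∀ i, ((E v) (σ i) : V) = ρ g ((E v) i : V) := by
      intro v hv i
      set f := E v with hf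
      have hmem : ∀ j, ρ g (f (σ.symm j) : V) ∈ W j := by
        intro j
        have h1 : ρ g (f (σ.symm j) : V) ∈ (W (σ.symm j)).map (ρ g : V →ₗ[ZMod q] V) :=
          Submodule.mem_map_of_mem (f (σ.symm j)).2
        rw [hperm, Equiv.apply_symm_apply] at h1
        exact h1
      let f' : ∀ j, W j := fun j => ⟨ρ g (f (σ.symm j) : V), hmem j⟩
      have hsum : E.symm f' = E.symm f := by
        rw [hE, hE]
        have h1 : ∑ j, ((f' j : W j) : V) = ∑ j, ρ g (f (σ.symm j) : V) := rfl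
        rw [h1, Equiv.sum_comp σ.symm (fun i => ρ g (f i : V)), ← map_sum, ← hE, hf,
          LinearEquiv.symm_apply_apply, hv]
      have hff : f' = f := E.symm.injective hsum
      have := congrFun hff (σ i)
      have h2 : ((f' (σ i) : W (σ i)) : V) = (f (σ i) : V) := by rw [this]
      rw [← h2]
      show ρ g (f (σ.symm (σ i)) : V) = _
      rw [Equiv.symm_apply_apply]
    have hzero : ∀ v : V, ρ g v = v → ((E v) i₀ : V) = 0 → v = 0 := by
      intro v hv h0
      have hk : ∀ k : ℕ, ((E v) ((σ ^ k) i₀) : V) = 0 := by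
        intro k
        induction k with
        | zero => rw [pow_zero, Equiv.Perm.one_apply]; exact h0
        | succ k ih => rw [pow_succ', Equiv.Perm.mul_apply, hfix v hv, ih, map_zero]
      have hall : E v = 0 := by
        funext i
        obtain ⟨k, hk'⟩ := htr i₀ i
        apply Subtype.ext
        rw [← hk']
        simpa using hk k
      exact E.map_eq_zero_iff.mp hall
    apply Nat.card_le_card_of_injective (fun v : {v : V // ρ g v = v} => (E v.1) i₀)
    intro v v' hvv
    apply Subtype.ext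
    have hu : ρ g (v.1 - v'.1) = v.1 - v'.1 := by rw [map_sub, v.2, v'.2]
    have h0 : ((E (v.1 - v'.1)) i₀ : V) = 0 := by
      rw [map_sub]
      show (((E v.1) i₀ - (E v'.1) i₀ : W i₀) : V) = 0
      have : (E v.1) i₀ = (E v'.1) i₀ := hvv
      rw [this, sub_self]; rfl
    exact sub_eq_zero.mp (hzero _ hu h0)


theorem eq_one_of_pow_four {G : Type*} [Group G] (p : ℕ) [hp : Fact p.Prime] (hp3 : 3 ≤ p)
    (hG : IsPGroup p G) (t : G) (ht : t ^ 4 = 1) : t = 1 := by
  obtain ⟨k, hk⟩ := (IsPGroup.iff_orderOf.mp hG) t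
  have hdvd : p ^ k ∣ 4 := hk ▸ orderOf_dvd_of_pow_eq_one ht
  rcases Nat.eq_zero_or_pos k with h0 | hpos
  · rw [h0, pow_zero] at hk
    exact orderOf_eq_one_iff.mp hk
  · exfalso
    have h1 : p ∣ 4 := (dvd_pow_self p hpos.ne').trans hdvd
    have h2 : p ∣ 2 := by
      have : p ∣ 2 ^ 2 := by norm_num; exact h1
      exact hp.out.dvd_of_dvd_pow this
    have := Nat.le_of_dvd (by norm_num) h2
    omega

theorem module_lemma [Finite V]
    {A : Type*} [Group A] [Finite A] (p : ℕ) [hp : Fact p.Prime] (hp3 : 3 ≤ p) (hA : IsPGroup p A)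
    (ρ : A →* (V ≃ₗ[ZMod q] V))
    (hirr : ∀ W : Submodule (ZMod q) V, (∀ g : A, ∀ w ∈ W, ρ g w ∈ W) → W = ⊥ ∨ W = ⊤)
    (C D : Set A) (hC : Subgroup.closure C = ⊤) (hD : Subgroup.closure D = ⊤)
    (h : ∀ c ∈ C, ∀ d ∈ D, ∀ v : V, ∃ v₁ v₂ : V, v = v₁ + v₂ ∧ ρ d v₁ = v₁ ∧ ρ c v₂ = v₂) :
    ∀ g : A, ∀ v : V, ρ g v = v := by
  classical
  by_contra hne
  push Not at hne
  obtain ⟨g₀, v₀, hgv⟩ := hne
  haveI : Nontrivial V := ⟨⟨ρ g₀ v₀, v₀, hgv⟩⟩
  set K := ρ.ker with hK
  let ρ' : A ⧸ K →* (V ≃ₗ[ZMod q] V) := QuotientGroup.kerLift ρ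
  have hρ' : ∀ g : A, ρ' (g : A ⧸ K) = ρ g := fun g => QuotientGroup.kerLift_mk ρ g
  have hinj : Function.Injective ρ' := QuotientGroup.kerLift_injective ρ
  have hA' : IsPGroup p (A ⧸ K) := hA.to_quotient K
  have hirr' : ∀ W : Submodule (ZMod q) V, (∀ g : A ⧸ K, ∀ w ∈ W, ρ' g w ∈ W) →
      W = ⊥ ∨ W = ⊤ := by
    intro W hW
    apply hirr W
    intro g w hw
    rw [← hρ']; exact hW _ w hw
  have hgen : ∀ S : Set A, Subgroup.closure S = ⊤ → ∀ H : Subgroup (A ⧸ K), H ≠ ⊤ →
      ∃ c ∈ S, ((c : A) : A ⧸ K) ∉ H := by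
    intro S hS H hH
    by_contra hcon
    push Not at hcon
    apply hH
    rw [eq_top_iff]
    intro x _
    obtain ⟨a, rfl⟩ := QuotientGroup.mk_surjective x
    have ha : a ∈ Subgroup.closure S := by rw [hS]; trivial
    have hle : Subgroup.closure S ≤ H.comap (QuotientGroup.mk' K) := by
      rw [Subgroup.closure_le]
      intro c hc
      exact hcon c hc
    exact hle ha
  have hg₀ : (g₀ : A ⧸ K) ≠ 1 := by
    intro h1
    apply hgv
    have h2 : ρ' (g₀ : A ⧸ K) = 1 := by rw [h1, map_one]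
    rw [← hρ', h2]; rfl
  have hbot : (⊥ : Subgroup (A ⧸ K)) ≠ ⊤ := by
    intro hbt
    apply hg₀
    have h2 : (g₀ : A ⧸ K) ∈ (⊥ : Subgroup (A ⧸ K)) := by rw [hbt]; trivial
    exact Subgroup.mem_bot.mp h2
  have hpow : ∀ (x : A ⧸ K) (v : V), ρ' x v = v → ∀ m : ℕ, ρ' (x ^ m) v = v := by
    intro x v hv m
    induction m with
    | zero => rw [pow_zero, map_one]; rfl
    | succ m ih =>
      rw [pow_succ, map_mul]
      show ρ' (x ^ m) (ρ' x v) = v
      rw [hv, ih]
  by_cases hcyc : IsCyclic (A ⧸ K)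
  · have hcomm : ∀ a b : A ⧸ K, a * b = b * a := by
      intro a b
      obtain ⟨g, hg⟩ := IsCyclic.exists_generator (α := A ⧸ K)
      obtain ⟨m, rfl⟩ := Subgroup.mem_zpowers_iff.mp (hg a)
      obtain ⟨n, rfl⟩ := Subgroup.mem_zpowers_iff.mp (hg b)
      exact ((Commute.refl g).zpow_zpow m n).eq
    have hfpf : ∀ c : A, (c : A ⧸ K) ≠ 1 → ∀ v : V, ρ c v = v → v = 0 := by
      intro c hc v hv
      obtain ⟨k, hk⟩ := (IsPGroup.iff_orderOf.mp hA') (c : A ⧸ K)
      have hk0 : k ≠ 0 := by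
        intro h0
        rw [h0, pow_zero] at hk
        exact hc (orderOf_eq_one_iff.mp hk)
      set z : A ⧸ K := (c : A ⧸ K) ^ (p ^ (k - 1)) with hz
      have hz1 : z ≠ 1 := by
        apply pow_ne_one_of_lt_orderOf (pow_ne_zero _ hp.out.ne_zero)
        rw [hk]
        exact Nat.pow_lt_pow_right hp.out.one_lt (by omega)
      let W : Submodule (ZMod q) V :=
        LinearMap.eqLocus (ρ' z : V →ₗ[ZMod q] V) LinearMap.id
      have hWmem : ∀ w : V, w ∈ W ↔ ρ' z w = w := by
        intro w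
        show (ρ' z : V →ₗ[ZMod q] V) w = LinearMap.id w ↔ _
        rfl
      have hWinv : ∀ g : A ⧸ K, ∀ w ∈ W, ρ' g w ∈ W := by
        intro g w hw
        rw [hWmem] at hw ⊢
        have e1 : ρ' z (ρ' g w) = ρ' (z * g) w := by rw [map_mul]; rfl
        have e2 : ρ' g (ρ' z w) = ρ' (g * z) w := by rw [map_mul]; rfl
        rw [e1, hcomm z g, ← e2, hw]
      rcases hirr' W hWinv with hW | hW
      · have hvW : v ∈ W := by
          rw [hWmem, hz]
          apply hpow
          rw [hρ']; exact hv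
        rw [hW] at hvW
        exact (Submodule.mem_bot _).mp hvW
      · exfalso
        apply hz1
        apply hinj
        rw [map_one]
        apply LinearEquiv.ext
        intro w
        have : w ∈ W := by rw [hW]; trivial
        exact (hWmem w).mp this
    obtain ⟨c, hcC, hc⟩ := hgen C hC ⊥ hbot
    obtain ⟨d, hdD, hd⟩ := hgen D hD ⊥ hbot
    have hc1 : (c : A ⧸ K) ≠ 1 := fun h1 => hc (by rw [h1]; exact Subgroup.one_mem _)
    have hd1 : (d : A ⧸ K) ≠ 1 := fun h1 => hd (by rw [h1]; exact Subgroup.one_mem _)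
    obtain ⟨v, hv⟩ := exists_ne (0 : V)
    obtain ⟨v₁, v₂, hsum, h1, h2⟩ := h c hcC d hdD v
    apply hv
    rw [hsum, hfpf d hd1 v₁ h1, hfpf c hc1 v₂ h2, add_zero]
  · have hnq : ∀ n : ℕ, ¬ Nonempty ((A ⧸ K) ≃* QuaternionGroup n) := by
      rintro n ⟨e⟩
      have h4 : (e.symm (QuaternionGroup.xa 0)) ^ 4 = 1 := by
        rw [← map_pow, QuaternionGroup.xa_pow_four, map_one]
      have h1 := eq_one_of_pow_four p hp3 hA' _ h4
      have h2 : (QuaternionGroup.xa 0 : QuaternionGroup n) = 1 := by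
        have := congrArg e h1
        rwa [MulEquiv.apply_symm_apply, map_one] at this
      rw [QuaternionGroup.one_def] at h2
      cases h2
    have hnd : ∀ n : ℕ, ¬ Nonempty ((A ⧸ K) ≃* DihedralGroup n) := by
      rintro n ⟨e⟩
      have h4 : (e.symm (DihedralGroup.sr 0)) ^ 4 = 1 := by
        rw [← map_pow]
        have : (DihedralGroup.sr 0 : DihedralGroup n) ^ 4 = 1 := by
          have h2 : (DihedralGroup.sr 0 : DihedralGroup n) ^ 2 = 1 := by
            rw [sq]; exact DihedralGroup.sr_mul_self 0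
          calc (DihedralGroup.sr 0 : DihedralGroup n) ^ 4
              = ((DihedralGroup.sr 0 : DihedralGroup n) ^ 2) ^ 2 := by rw [← pow_mul]
            _ = 1 := by rw [h2, one_pow]
        rw [this, map_one]
      have h1 := eq_one_of_pow_four p hp3 hA' _ h4
      have h2 : (DihedralGroup.sr 0 : DihedralGroup n) = 1 := by
        have := congrArg e h1
        rwa [MulEquiv.apply_symm_apply, map_one] at this
      rw [DihedralGroup.one_def] at h2
      cases h2
    have hnsd : ¬ Cfsg.IsQuasiDihedral (A ⧸ K) := by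
      rintro ⟨n, _, hcard, _⟩
      obtain ⟨k, hk⟩ := IsPGroup.iff_card.mp hA'
      rw [hcard] at hk
      have h2 : 2 ∣ p ^ k := by rw [← hk]; exact dvd_pow_self 2 (by omega)
      have h3 : 2 ∣ p := Nat.prime_two.dvd_of_dvd_pow h2
      have h4 := (Nat.prime_dvd_prime_iff_eq Nat.prime_two hp.out).mp h3
      omega
    obtain ⟨H, W, hidx, hsup, hind, -, -, hperm⟩ :=
      Cfsg.Agent.S3380.result q p hA' ρ' hinj hirr' hcyc hnq hnd hnsd
    have hHtop : H ≠ ⊤ := by
      intro ht
      rw [ht, Subgroup.index_top] at hidx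
      have := hp.out.one_lt
      omega
    obtain ⟨c, hcC, hc⟩ := hgen C hC H hHtop
    obtain ⟨d, hdD, hd⟩ := hgen D hD H hHtop
    obtain ⟨σc, hσc, hpc⟩ := hperm _ hc
    obtain ⟨σd, hσd, hpd⟩ := hperm _ hd
    let i₀ : Fin p := ⟨0, hp.out.pos⟩
    obtain ⟨hcardV, hlec⟩ := block_bound q p ρ' W hsup hind _ σc hσc hpc i₀
    obtain ⟨-, hled⟩ := block_bound q p ρ' W hsup hind _ σd hσd hpd i₀
    set w := Nat.card (W i₀) with hw
    have hsurj : Function.Surjective
        (fun x : {v : V // ρ' (d : A ⧸ K) v = v} × {v : V // ρ' (c : A ⧸ K) v = v} =>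
          x.1.1 + x.2.1) := by
      intro v
      obtain ⟨v₁, v₂, hsum, h1, h2⟩ := h c hcC d hdD v
      refine ⟨(⟨v₁, by rw [hρ']; exact h1⟩, ⟨v₂, by rw [hρ']; exact h2⟩), hsum.symm⟩
    have hle := Nat.card_le_card_of_surjective _ hsurj
    rw [Nat.card_prod, hcardV] at hle
    have hle2 : w ^ p ≤ w * w := hle.trans (Nat.mul_le_mul hled hlec)
    have hV1 : 1 < Nat.card V := Finite.one_lt_card
    rw [hcardV] at hV1
    have hw2 : 2 ≤ w := by
      by_contra hlt
      have : w ≤ 1 := by omega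
      have := Nat.pow_le_pow_left this p
      rw [one_pow] at this
      omega
    have h3 : w ^ 3 ≤ w ^ p := Nat.pow_le_pow_right (by omega) hp3
    have h4 : w ^ 3 = w * w * w := by ring
    nlinarith

end ModuleLemma

section Abstract

open Subgroup Cfsg.Agent.Lib.Helper7_SemiAct Cfsg.Agent.Lib.Helper7_SemiAct2
  Cfsg.Agent.Lib.Helper7_Maschke

/-- restricted action on an invariant subgroup -/
@[instance_reducible]
def subAction {A N : Type*} [Group A] [Group N] [MulDistribMulAction A N] (H : Subgroup N)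
    (hH : Inv A H) : MulDistribMulAction A ↥H where
  smul a x := ⟨a • (x : N), hH a x x.2⟩
  one_smul x := Subtype.ext (one_smul A (x : N))
  mul_smul a b x := Subtype.ext (mul_smul a b (x : N))
  smul_mul a x y := Subtype.ext (smul_mul' a (x : N) (y : N))
  smul_one a := Subtype.ext (smul_one a)

/-- the factorization hypothesis, for all invariant subgroups -/
def Hyp (A : Type*) (N : Type*) [Group A] [Group N] [MulDistribMulAction A N] (C D : Set A) :
    Prop :=
  ∀ H : Subgroup N, Inv A H → ∀ c ∈ C, ∀ d ∈ D, ∀ x ∈ H,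
    ∃ n ∈ H, ∃ y ∈ H, x = n * y ∧ d • n = n ∧ c • y = y

theorem hyp_sub {A N : Type*} [Group A] [Group N] [MulDistribMulAction A N] (C D : Set A)
    (hyp : Hyp A N C D) (H : Subgroup N) (hH : Inv A H) :
    @Hyp A ↥H _ _ (subAction H hH) C D := by
  letI := subAction H hH
  intro K hK c hc d hd x hx
  have hK' : Inv A (K.map H.subtype) := by
    rintro a _ ⟨k, hk, rfl⟩
    exact ⟨a • k, hK a k hk, rfl⟩
  obtain ⟨n, hn, y, hy, hxy, h1, h2⟩ :=
    hyp (K.map H.subtype) hK' c hc d hd (x : N) ⟨x, hx, rfl⟩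
  obtain ⟨n', hn', rfl⟩ := hn
  obtain ⟨y', hy', rfl⟩ := hy
  exact ⟨n', hn', y', hy', Subtype.ext hxy, Subtype.ext h1, Subtype.ext h2⟩

theorem hyp_quot {A N : Type*} [Group A] [Group N] [MulDistribMulAction A N] (C D : Set A)
    (hyp : Hyp A N C D) (M : Subgroup N) [M.Normal] (hM : Inv A M) :
    @Hyp A (N ⧸ M) _ _ (quotAction M hM) C D := by
  letI := quotAction M hM
  intro K hK c hc d hd x hx
  obtain ⟨x', rfl⟩ := QuotientGroup.mk_surjective x
  have hK' : Inv A (K.comap (QuotientGroup.mk' M)) := by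
    intro a y hy
    exact hK a _ hy
  obtain ⟨n, hn, y, hy, hxy, h1, h2⟩ := hyp _ hK' c hc d hd x' hx
  refine ⟨(n : N ⧸ M), hn, (y : N ⧸ M), hy, ?_, ?_, ?_⟩
  · rw [hxy]; rfl
  · show ((d • n : N) : N ⧸ M) = n
    rw [h1]
  · show ((c • y : N) : N ⧸ M) = y
    rw [h2]

theorem triv_of_sub_quot {A N : Type*} [Group A] [Group N] [Finite A] [Finite N]
    [MulDistribMulAction A N] (hcop : (Nat.card A).Coprime (Nat.card N))
    (M : Subgroup N) (hM1 : ∀ a : A, ∀ m ∈ M, a • m = m)
    (hM2 : ∀ a : A, ∀ x : N, x⁻¹ * a • x ∈ M) : ∀ a : A, ∀ x : N, a • x = x := by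
  intro a x
  set m := x⁻¹ * a • x with hm
  have hax : a • x = x * m := by rw [hm]; group
  have ham : a • m = m := hM1 a m (hM2 a x)
  have hk : ∀ k : ℕ, (a ^ k) • x = x * m ^ k := by
    intro k
    induction k with
    | zero => simp
    | succ k ih =>
      rw [pow_succ', mul_smul, ih, smul_mul', smul_pow', ham, hax, pow_succ', mul_assoc]
  have h1 := hk (orderOf a)
  rw [pow_orderOf_eq_one, one_smul] at h1
  have h2 : m ^ orderOf a = 1 := by
    have : x * m ^ orderOf a = x * 1 := by rw [mul_one]; exact h1.symm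
    exact mul_left_cancel this
  have h3 : orderOf m ∣ Nat.card A := (orderOf_dvd_of_pow_eq_one h2).trans (orderOf_dvd_natCard a)
  have h4 : orderOf m ∣ Nat.card N := orderOf_dvd_natCard m
  have h5 : orderOf m = 1 := Nat.eq_one_of_dvd_coprimes hcop h3 h4
  rw [hax, orderOf_eq_one_iff.mp h5, mul_one]


theorem abs_module {A : Type*} [Group A] [Finite A] (p : ℕ) [hp : Fact p.Prime] (hp3 : 3 ≤ p)
    (hA : IsPGroup p A) (C D : Set A) (hC : closure C = ⊤) (hD : closure D = ⊤)
    (N : Type*) [Group N] [Finite N] [MulDistribMulAction A N] (r : ℕ) [Fact r.Prime]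
    (hcomm : ∀ x y : N, x * y = y * x) (hexp : ∀ x : N, x ^ r = 1)
    (hsimple : ∀ M : Subgroup N, Inv A M → M ≠ ⊥ → M = ⊤)
    (hyp : Hyp A N C D) : ∀ (a : A) (x : N), a • x = x := by
  letI cg : CommGroup N := { (inferInstance : Group N) with mul_comm := hcomm }
  letI mod : Module (ZMod r) (Additive N) :=
    AddCommGroup.zmodModule (n := r) (fun x => congrArg Additive.ofMul (hexp x.toMul))
  let f : A → (Additive N →+ Additive N) := fun a =>
    (MulDistribMulAction.toMonoidHom N a).toAdditive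
  let ρfun : A → (Additive N ≃ₗ[ZMod r] Additive N) := fun a =>
    { toFun := fun v => Additive.ofMul (a • v.toMul)
      invFun := fun v => Additive.ofMul (a⁻¹ • v.toMul)
      left_inv := fun v => by simp
      right_inv := fun v => by simp
      map_add' := fun v w => (f a).map_add v w
      map_smul' := fun c v => ZMod.map_smul (f a) c v }
  let ρ : A →* (Additive N ≃ₗ[ZMod r] Additive N) :=
    { toFun := ρfun
      map_one' := by
        apply LinearEquiv.ext
        intro v
        show Additive.ofMul ((1 : A) • v.toMul) = v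
        rw [one_smul]; rfl
      map_mul' := by
        intro a b
        apply LinearEquiv.ext
        intro v
        show Additive.ofMul ((a * b) • v.toMul) = Additive.ofMul (a • (b • v.toMul))
        rw [mul_smul] }
  have hirr : ∀ W : Submodule (ZMod r) (Additive N), (∀ g : A, ∀ w ∈ W, ρ g w ∈ W) →
      W = ⊥ ∨ W = ⊤ := by
    intro W hW
    let H : Subgroup N :=
      { carrier := {x | Additive.ofMul x ∈ W}
        mul_mem' := fun {x y} hx hy => W.add_mem hx hy
        one_mem' := W.zero_mem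
        inv_mem' := fun {x} hx => W.neg_mem hx }
    have hH : Inv A H := fun a x hx => hW a _ hx
    by_cases hb : H = ⊥
    · left
      rw [eq_bot_iff]
      intro w hw
      have h1 : w.toMul ∈ H := hw
      rw [hb, Subgroup.mem_bot] at h1
      rw [Submodule.mem_bot]
      exact congrArg Additive.ofMul h1
    · right
      have ht := hsimple H hH hb
      rw [eq_top_iff]
      intro w _
      have h1 : w.toMul ∈ H := by rw [ht]; trivial
      exact h1
  have hh : ∀ c ∈ C, ∀ d ∈ D, ∀ v : Additive N, ∃ v₁ v₂, v = v₁ + v₂ ∧ ρ d v₁ = v₁ ∧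
      ρ c v₂ = v₂ := by
    intro c hc d hd v
    obtain ⟨n, -, y, -, hxy, h1, h2⟩ := hyp ⊤ inv_top c hc d hd v.toMul (mem_top _)
    refine ⟨Additive.ofMul n, Additive.ofMul y, ?_, ?_, ?_⟩
    · show v = Additive.ofMul (n * y)
      rw [← hxy]; rfl
    · show Additive.ofMul (d • n) = Additive.ofMul n
      rw [h1]
    · show Additive.ofMul (c • y) = Additive.ofMul y
      rw [h2]
  have key := module_lemma r p hp3 hA ρ hirr C D hC hD hh
  intro a x
  exact congrArg Additive.toMul (key a (Additive.ofMul x))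

theorem absT {A : Type*} [Group A] [Finite A] (p : ℕ) [hp : Fact p.Prime] (hp3 : 3 ≤ p)
    (hA : IsPGroup p A) (C D : Set A) (hC : closure C = ⊤) (hD : closure D = ⊤) :
    ∀ n : ℕ, ∀ (N : Type u) [Group N] [Finite N] [MulDistribMulAction A N],
      Nat.card N = n → (Nat.card N).Coprime p → Hyp A N C D →
      ∀ (a : A) (x : N), a • x = x := by
  intro n
  induction n using Nat.strong_induction_on with
  | _ n ih =>
  intro N _ _ _ hcard hcop hyp
  classical
  have hcopA : (Nat.card A).Coprime (Nat.card N) := by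
    obtain ⟨k, hk⟩ := IsPGroup.iff_card.mp hA
    rw [hk]
    exact Nat.Coprime.pow_left k hcop.symm
  have hsolv : Group.IsSolvable A := by
    haveI := hA.isNilpotent
    infer_instance
  have ihsub : ∀ H : Subgroup N, Inv A H → H ≠ ⊤ → ∀ a : A, ∀ x ∈ H, a • x = x := by
    intro H hH hne a x hx
    have hlt : Nat.card H < n := by
      rw [← hcard]
      apply lt_of_le_of_ne (Subgroup.card_le_card_group H)
      intro heq
      exact hne (Subgroup.eq_top_of_card_eq H heq)
    have h := @ih (Nat.card H) hlt ↥H inferInstance inferInstance (subAction H hH) rfl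
      (Nat.Coprime.coprime_dvd_left (Subgroup.card_subgroup_dvd_card H) hcop)
      (hyp_sub C D hyp H hH) a ⟨x, hx⟩
    exact congrArg Subtype.val h
  have ihquot : ∀ (M : Subgroup N) [M.Normal] (hM : Inv A M), M ≠ ⊥ →
      ∀ (a : A) (x : N), x⁻¹ * a • x ∈ M := by
    intro M _ hM hne a x
    have hlt : Nat.card (N ⧸ M) < n := by
      rw [← hcard, ← Subgroup.index_eq_card, ← Subgroup.card_mul_index M]
      have h1 : 1 < Nat.card M := by
        rw [Subgroup.one_lt_card_iff_ne_bot]; exact hne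
      have h2 : 0 < M.index := Nat.pos_of_ne_zero Subgroup.index_ne_zero_of_finite
      nlinarith
    have hdvd : Nat.card (N ⧸ M) ∣ Nat.card N := by
      rw [← Subgroup.index_eq_card]; exact Subgroup.index_dvd_card M
    have h := @ih (Nat.card (N ⧸ M)) hlt (N ⧸ M) inferInstance inferInstance (quotAction M hM) rfl
      (Nat.Coprime.coprime_dvd_left hdvd hcop) (hyp_quot C D hyp M hM) a (x : N ⧸ M)
    have h' : ((a • x : N) : N ⧸ M) = (x : N ⧸ M) := h
    have h'' := QuotientGroup.eq.mp h'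
    have h3 := M.inv_mem h''
    rwa [mul_inv_rev, inv_inv] at h3
  by_cases hex : ∃ M : Subgroup N, M.Normal ∧ Inv A M ∧ M ≠ ⊥ ∧ M ≠ ⊤
  · obtain ⟨M, hMn, hM, h1, h2⟩ := hex
    haveI := hMn
    exact triv_of_sub_quot hcopA M (ihsub M hM h2) (ihquot M hM h1)
  push Not at hex
  by_cases hS : ∃ r : ℕ, r.Prime ∧ IsPGroup r N
  · obtain ⟨r, hr, hN⟩ := hS
    haveI := Fact.mk hr
    by_cases htriv : Subsingleton N
    · intro a x; exact Subsingleton.elim _ _
    rw [not_subsingleton_iff_nontrivial] at htriv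
    haveI := htriv
    let X : Subgroup N :=
      { carrier := {x | x ∈ center N ∧ x ^ r = 1}
        mul_mem' := by
          rintro x y ⟨hx, hx'⟩ ⟨hy, hy'⟩
          refine ⟨mul_mem hx hy, ?_⟩
          have hc : Commute x y := Subgroup.mem_center_iff.mp hy x
          rw [hc.mul_pow, hx', hy', one_mul]
        one_mem' := ⟨one_mem _, one_pow _⟩
        inv_mem' := by
          rintro x ⟨hx, hx'⟩
          exact ⟨inv_mem hx, by rw [inv_pow, hx', inv_one]⟩ }
    have hXn : X.Normal := ⟨fun x hx g => by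
      have e : g * x * g⁻¹ = x := by rw [Subgroup.mem_center_iff.mp hx.1 g]; group
      rw [e]; exact hx⟩
    have hXinv : Inv A X := by
      intro a x hx
      refine ⟨inv_of_characteristic (A := A) (center N) a x hx.1, ?_⟩
      rw [← smul_pow', hx.2, smul_one]
    have hXne : X ≠ ⊥ := by
      haveI := hN.center_nontrivial
      obtain ⟨z, hz⟩ := exists_ne (1 : center N)
      obtain ⟨k, hk⟩ := (IsPGroup.iff_orderOf.mp hN) (z : N)
      have hz1 : (z : N) ≠ 1 := fun h => hz (Subtype.ext h)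
      have hk0 : k ≠ 0 := by
        intro h0
        rw [h0, pow_zero] at hk
        exact hz1 (orderOf_eq_one_iff.mp hk)
      intro hbot
      have hmem : (z : N) ^ (r ^ (k - 1)) ∈ X := by
        refine ⟨pow_mem z.2 _, ?_⟩
        rw [← pow_mul, ← pow_succ, Nat.sub_add_cancel (Nat.one_le_iff_ne_zero.mpr hk0), ← hk,
          pow_orderOf_eq_one]
      rw [hbot, Subgroup.mem_bot] at hmem
      refine pow_ne_one_of_lt_orderOf (pow_ne_zero _ hr.ne_zero) ?_ hmem
      rw [hk]
      exact Nat.pow_lt_pow_right hr.one_lt (by omega)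
    have hXtop : X = ⊤ := hex X hXn hXinv hXne
    have hall : ∀ x : N, x ∈ center N ∧ x ^ r = 1 := fun x => by
      have hx : x ∈ X := by rw [hXtop]; trivial
      exact hx
    have hcomm : ∀ x y : N, x * y = y * x := fun x y =>
      Subgroup.mem_center_iff.mp (hall y).1 x
    have hexp : ∀ x : N, x ^ r = 1 := fun x => (hall x).2
    refine abs_module p hp3 hA C D hC hD N r hcomm hexp ?_ hyp
    intro M hM hne
    refine hex M ⟨fun x hx g => ?_⟩ hM hne
    rw [hcomm g x, mul_inv_cancel_right]; exact hx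
  · push Not at hS
    let F : Subgroup N :=
      { carrier := {x | ∀ a : A, a • x = x}
        mul_mem' := by
          intro x y hx hy a
          rw [smul_mul', hx a, hy a]
        one_mem' := fun a => smul_one a
        inv_mem' := by
          intro x hx a
          rw [smul_inv', hx a] }
    have hF : ∀ r : ℕ, r.Prime → r ^ (Nat.card N).factorization r ∣ Nat.card F := by
      intro r hr
      haveI := Fact.mk hr
      obtain ⟨R, hR⟩ := exists_invariant_sylow (A := A) (G := N) hcopA (Or.inl hsolv) r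
      have hRtop : (R : Subgroup N) ≠ ⊤ := by
        intro htop
        apply hS r hr
        intro x
        obtain ⟨k, hk⟩ := R.isPGroup' ⟨x, by rw [htop]; trivial⟩
        refine ⟨k, ?_⟩
        have := congrArg Subtype.val hk
        simpa using this
      have hle : (R : Subgroup N) ≤ F := fun x hx a => ihsub _ hR hRtop a x hx
      rw [← R.card_eq_multiplicity]
      exact Subgroup.card_dvd_of_le hle
    have hdvd : Nat.card N ∣ Nat.card F := by
      rw [← Nat.factorization_prime_le_iff_dvd Nat.card_pos.ne' Nat.card_pos.ne']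
      intro r hr
      exact (hr.pow_dvd_iff_le_factorization Nat.card_pos.ne').mp (hF r hr)
    have hFtop : F = ⊤ := Subgroup.eq_top_of_card_eq F
      (le_antisymm (Subgroup.card_le_card_group F) (Nat.le_of_dvd Nat.card_pos hdvd))
    intro a x
    have hx : x ∈ F := by rw [hFtop]; trivial
    exact hx a

end Abstract

section Concrete

open Subgroup Cfsg.Agent.Lib.Helper7_SemiAct

theorem concrete_factor {G : Type*} [Group G] [Finite G] (p : ℕ) [hp : Fact p.Prime]
    (L P : Subgroup G) (hP : IsPGroup p P) (hPL : P ≤ normalizer (L : Set G))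
    (hcop : (Nat.card L).Coprime p) (c d : G) (hc : c ∈ P) (hd : d ∈ P) (x : G) (hx : x ∈ L)
    (hQ : IsPGroup p ↥(closure ({x * c * x⁻¹, d} : Set G))) :
    ∃ n ∈ L, ∃ y ∈ L, x = n * y ∧ d * n * d⁻¹ = n ∧ c * y * c⁻¹ = y := by
  set Q := closure ({x * c * x⁻¹, d} : Set G) with hQdef
  have hLn : L ≤ normalizer (L : Set G) := le_normalizer
  have hQLP : Q ≤ L ⊔ P := by
    rw [hQdef, closure_le]
    rintro g (rfl | rfl)
    · exact mul_mem (mul_mem (mem_sup_left hx) (mem_sup_right hc)) (inv_mem (mem_sup_left hx))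
    · exact mem_sup_right hd
  have hQn : Q ≤ normalizer (L : Set G) := hQLP.trans (sup_le hLn hPL)
  have hcopQ : (Nat.card Q).Coprime (Nat.card L) := by
    obtain ⟨k, hk⟩ := IsPGroup.iff_card.mp hQ
    rw [hk]
    exact Nat.Coprime.pow_left k hcop.symm
  have hsolv : Group.IsSolvable Q := by
    haveI := hQ.isNilpotent
    infer_instance
  have hfrat : ∀ a ∈ Q, ∃ k ∈ L, k⁻¹ * a ∈ P := by
    intro a ha
    have h1 : a ∈ ((L ⊔ P : Subgroup G) : Set G) := hQLP ha
    rw [Subgroup.coe_mul_of_right_le_normalizer_left L P hPL] at h1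
    obtain ⟨k, hk, s, hs, rfl⟩ := h1
    exact ⟨k, hk, by rw [inv_mul_cancel_left]; exact hs⟩
  obtain ⟨n₀, hn₀, hconj⟩ := Cfsg.Agent.Lib.Lead_Coprime.lemmaF Q L hQn hcopQ (Or.inl hsolv) P hfrat
  have hLP : ∀ g : G, g ∈ L → g ∈ P → g = 1 := by
    intro g hgL hgP
    have hcopLP : (Nat.card L).Coprime (Nat.card P) := by
      obtain ⟨k, hk⟩ := IsPGroup.iff_card.mp hP
      rw [hk]
      exact Nat.Coprime.pow_right k hcop
    have hdis := Subgroup.disjoint_of_coprime_natCard hcopLP
    have : g ∈ L ⊓ P := ⟨hgL, hgP⟩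
    rw [hdis.eq_bot] at this
    exact Subgroup.mem_bot.mp this
  have hnorm : ∀ g ∈ P, ∀ l ∈ L, g * l * g⁻¹ ∈ L := by
    intro g hg l hl
    exact (Subgroup.mem_normalizer_iff.mp (hPL hg) l).mp hl
  -- d
  have hd1 : n₀ * d * n₀⁻¹ ∈ P := hconj d (subset_closure (by simp))
  have hd2 : n₀ * d * n₀⁻¹ * d⁻¹ = 1 := by
    apply hLP
    · have e : n₀ * d * n₀⁻¹ * d⁻¹ = n₀ * (d * n₀⁻¹ * d⁻¹) := by group
      rw [e]
      exact mul_mem hn₀ (hnorm d hd _ (inv_mem hn₀))
    · exact mul_mem hd1 (inv_mem hd)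
  -- c
  set y := n₀ * x with hy
  have hyL : y ∈ L := mul_mem hn₀ hx
  have hc1 : y * c * y⁻¹ ∈ P := by
    have := hconj (x * c * x⁻¹) (subset_closure (by simp))
    have e : n₀ * (x * c * x⁻¹) * n₀⁻¹ = y * c * y⁻¹ := by rw [hy]; group
    rwa [e] at this
  have hc2 : y * c * y⁻¹ * c⁻¹ = 1 := by
    apply hLP
    · have e : y * c * y⁻¹ * c⁻¹ = y * (c * y⁻¹ * c⁻¹) := by group
      rw [e]
      exact mul_mem hyL (hnorm c hc _ (inv_mem hyL))
    · exact mul_mem hc1 (inv_mem hc)
  refine ⟨n₀⁻¹, inv_mem hn₀, y, hyL, by rw [hy]; group, ?_, ?_⟩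
  · have e1 : n₀ * d = d * n₀ := by
      have := mul_eq_one_iff_eq_inv.mp hd2
      rw [inv_inv] at this
      have e : n₀ * d = (n₀ * d * n₀⁻¹) * n₀ := by group
      rw [e, this]
    have e2 : d * n₀⁻¹ * d⁻¹ = n₀⁻¹ * (n₀ * d) * n₀⁻¹ * d⁻¹ := by group
    rw [e2, e1]; group
  · have e1 : y * c = c * y := by
      have := mul_eq_one_iff_eq_inv.mp hc2
      rw [inv_inv] at this
      have e : y * c = (y * c * y⁻¹) * y := by group
      rw [e, this]
    have e2 : c * y * c⁻¹ = (c * y) * c⁻¹ := rfl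
    rw [e2, ← e1]; group

theorem closure_preimage_top {G : Type*} [Group G] (Q : Subgroup G) (S : Set G)
    (h : closure S = Q) : closure (Q.subtype ⁻¹' S) = ⊤ := by
  subst h
  exact Subgroup.closure_preimage_eq_top S

end Concrete

/-- Let p ≥ 3 be prime and G a finite group with a Sylow p-subgroup P and a normal p-complement N (N normal, of order prime to p, with NP = G). Suppose P is generated by a subset C and also by a subset D, and that ⟨x c x⁻¹, d⟩ is a p-group for all x ∈ N, c ∈ C, d ∈ D. Then P centralizes N, so that G = N × P. -/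
theorem result {G : Type*} [Group G] [Finite G] (p : ℕ) [Fact p.Prime] (hp3 : 3 ≤ p) (P : Sylow p G)
    (N : Subgroup G) [N.Normal] (hN : (Nat.card N).Coprime p) (hNP : N ⊔ (P : Subgroup G) = ⊤)
    (C D : Set G) (hC : Subgroup.closure C = (P : Subgroup G)) (hD : Subgroup.closure D = (P : Subgroup G))
    (h : ∀ x ∈ N, ∀ c ∈ C, ∀ d ∈ D, IsPGroup p ↥(Subgroup.closure ({x * c * x⁻¹, d} : Set G))) :
    ⁅(P : Subgroup G), N⁆ = ⊥ := by
  classical
  set P₀ : Subgroup G := (P : Subgroup G) with hP₀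
  have hPp : IsPGroup p P₀ := P.isPGroup'
  letI act : MulDistribMulAction ↥P₀ ↥N :=
    MulDistribMulAction.compHom ↥N ((MulAut.conjNormal (H := N)).comp P₀.subtype)
  have hact : ∀ (a : ↥P₀) (x : ↥N), ((a • x : ↥N) : G) = (a : G) * x * (a : G)⁻¹ :=
    fun a x => rfl
  let C' : Set ↥P₀ := P₀.subtype ⁻¹' C
  let D' : Set ↥P₀ := P₀.subtype ⁻¹' D
  have hC' : Subgroup.closure C' = ⊤ := closure_preimage_top P₀ C hC
  have hD' : Subgroup.closure D' = ⊤ := closure_preimage_top P₀ D hD
  have hyp : Hyp ↥P₀ ↥N C' D' := by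
    intro H hH c hc d hd x hx
    set L := H.map N.subtype with hL
    have hLN : L ≤ N := Subgroup.map_subtype_le H
    have hPL : P₀ ≤ Subgroup.normalizer (L : Set G) := by
      intro a ha
      apply Cfsg.Agent.Lib.Lead_Coprime.mem_normalizer_of_conj_mem
      · rintro _ ⟨l, hl, rfl⟩
        exact ⟨(⟨a, ha⟩ : ↥P₀) • l, hH ⟨a, ha⟩ l hl, rfl⟩
      · rintro _ ⟨l, hl, rfl⟩
        refine ⟨(⟨a, ha⟩ : ↥P₀)⁻¹ • l, hH _ l hl, ?_⟩
        show ((⟨a, ha⟩ : ↥P₀)⁻¹ : G) * l * (((⟨a, ha⟩ : ↥P₀)⁻¹ : ↥P₀) : G)⁻¹ = _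
        simp
    have hLcop : (Nat.card L).Coprime p :=
      Nat.Coprime.coprime_dvd_left (Subgroup.card_dvd_of_le hLN) hN
    obtain ⟨n, hn, y, hy, hxy, h1, h2⟩ := concrete_factor p L P₀ hPp hPL hLcop c d c.2 d.2 x
      (Subgroup.mem_map_of_mem _ hx) (h x x.2 c hc d hd)
    obtain ⟨n', hn', rfl⟩ := hn
    obtain ⟨y', hy', rfl⟩ := hy
    exact ⟨n', hn', y', hy', Subtype.ext hxy, Subtype.ext h1, Subtype.ext h2⟩
  have key := absT p hp3 hPp C' D' hC' hD' (Nat.card N) ↥N rfl hN hyp
  rw [Subgroup.commutator_eq_bot_iff_le_centralizer]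
  intro g hg x hx
  have := key ⟨g, hg⟩ ⟨x, hx⟩
  have h1 : g * x * g⁻¹ = x := congrArg Subtype.val this
  have e : x * g = (g * x * g⁻¹)⁻¹⁻¹ * g := by rw [h1, inv_inv]
  rw [e, inv_inv]; group

end Cfsg.Agent.S2277
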