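import Mathlib
import Cfsg.Statements.S2364
import Cfsg.Agent.S0242

set_option autoImplicit false

open Cfsg

namespace Cfsg.Agent.S2364

open Matrix

section lib

variable {F : Type*} [Field F] [Fintype F]

lemma coprime_card_GL (p : ℕ) [Fact p.Prime] [CharP F p] (r : ℕ) (hr : r.Prime) (hrp : r ≠ p) (d : ℕ)
    (h : ∀ j, 1 ≤ j → j ≤ d → ¬ r ∣ Fintype.card F ^ j - 1) :
    Nat.Coprime r (Nat.card (GL (Fin d) F)) := by
  rw [Matrix.card_GL_field, Nat.Prime.coprime_iff_not_dvd hr]
  intro hdvd
  rw [Prime.dvd_finsetProd_iff hr.prime] at hdvd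
  obtain ⟨i, -, hi⟩ := hdvd
  have hq : Fintype.card F ^ d - Fintype.card F ^ (i:ℕ)
      = Fintype.card F ^ (i:ℕ) * (Fintype.card F ^ (d - i) - 1) := by
    rw [Nat.mul_sub, mul_one, ← pow_add]
    congr 2
    have := i.2
    omega
  rw [hq] at hi
  rcases (Nat.Prime.dvd_mul hr).mp hi with h1 | h1
  · have h2 := hr.dvd_of_dvd_pow h1
    obtain ⟨e, hp, he⟩ := FiniteField.card F p
    rw [he] at h2
    have h3 := hr.dvd_of_dvd_pow h2
    exact hrp ((Nat.prime_dvd_prime_iff_eq hr hp).mp h3)
  · have := i.2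
    exact h (d - i) (by omega) (by omega) h1

omit [Fintype F] in
lemma scalar_on_invariant {V : Type*} [AddCommGroup V] [Module F V] [FiniteDimensional F V]
    (B : Module.End F V) (r : ℕ) (hr : r.Prime) (κ : F) (hκ : κ ≠ 0) (hB : B ^ r = κ • 1)
    (W : Submodule F V) (hW : ∀ w ∈ W, B w ∈ W)
    (hcop : Nat.Coprime r (Nat.card (GL (Fin (Module.finrank F W)) F))) :
    ∃ θ : F, ∀ w ∈ W, B w = θ • w := by
  classical
  set g : Module.End F W := B.restrict hW with hg
  have hgr : g ^ r = κ • 1 := by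
    rw [hg, Module.End.pow_restrict r hW]
    ext w
    simp [LinearMap.restrict_apply, hB]
  have hr1 : r - 1 + 1 = r := Nat.sub_add_cancel hr.one_le
  have hinv1 : g * (κ⁻¹ • g ^ (r - 1)) = 1 := by
    rw [mul_smul_comm, ← pow_succ', hr1, hgr, smul_smul, inv_mul_cancel₀ hκ, one_smul]
  have hinv2 : (κ⁻¹ • g ^ (r - 1)) * g = 1 := by
    rw [smul_mul_assoc, ← pow_succ, hr1, hgr, smul_smul, inv_mul_cancel₀ hκ, one_smul]
  let u : (Module.End F W)ˣ := ⟨g, κ⁻¹ • g ^ (r - 1), hinv1, hinv2⟩
  let e : (Module.End F W)ˣ ≃* GL (Fin (Module.finrank F W)) F :=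
    Units.mapEquiv (LinearMap.toMatrixAlgEquiv (Module.finBasis F W)).toMulEquiv
  have hcard : Nat.card (Module.End F W)ˣ = Nat.card (GL (Fin (Module.finrank F W)) F) :=
    Nat.card_congr e.toEquiv
  have hord : Nat.Coprime r (orderOf u) := by
    apply Nat.Coprime.coprime_dvd_right _ hcop
    rw [← hcard]
    exact orderOf_dvd_natCard u
  have hbez := Int.gcd_eq_gcd_ab (r : ℤ) (orderOf u : ℤ)
  rw [Int.gcd_natCast_natCast, hord.gcd_eq_one] at hbez
  let φ : Fˣ →* (Module.End F W)ˣ := Units.map (algebraMap F (Module.End F W)).toMonoidHom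
  have hur : u ^ r = φ (Units.mk0 κ hκ) := by
    ext w
    simp only [Units.val_pow_eq_pow_val, φ, Units.coe_map, Units.val_mk0, u]
    rw [hgr]
    simp [Algebra.algebraMap_eq_smul_one]
  have hu : u = φ ((Units.mk0 κ hκ) ^ (Int.gcdA r (orderOf u))) := by
    rw [map_zpow, ← hur]
    have h1 : u = u ^ ((r : ℤ) * Int.gcdA r (orderOf u) + (orderOf u : ℤ) * Int.gcdB r (orderOf u)) := by
      rw [← hbez]; simp
    rw [_root_.zpow_add, _root_.zpow_mul, _root_.zpow_mul, zpow_natCast, zpow_natCast, pow_orderOf_eq_one,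
      _root_.one_zpow, mul_one] at h1
    exact h1
  obtain ⟨c, hc⟩ : ∃ c : Fˣ, u = φ c := ⟨_, hu⟩
  refine ⟨(c : F), ?_⟩
  intro w hw
  have h1 : g = (c : F) • (1 : Module.End F W) := by
    have := congrArg Units.val hc
    simp only [φ, Units.coe_map] at this
    change g = _ at this
    rw [this]
    simp [Algebra.algebraMap_eq_smul_one]
  have h2 := LinearMap.congr_fun h1 ⟨w, hw⟩
  have h3 := congrArg Subtype.val h2
  simpa [hg, LinearMap.restrict_apply] using h3

omit [Fintype F] in
lemma exists_ker_of_nilpotent {V : Type*} [AddCommGroup V] [Module F V] [Nontrivial V]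
    (N : Module.End F V) (hN : IsNilpotent N) : ∃ v : V, v ≠ 0 ∧ N v = 0 := by
  classical
  have hex : ∃ k, N ^ k = 0 := hN
  have hk0 : N ^ (Nat.find hex) = 0 := Nat.find_spec hex
  have hpos : Nat.find hex ≠ 0 := by
    intro h0
    rw [h0, pow_zero] at hk0
    obtain ⟨v, hv⟩ := exists_ne (0 : V)
    have := LinearMap.congr_fun hk0 v
    simp at this
    exact hv this
  have hmin : N ^ (Nat.find hex - 1) ≠ 0 := Nat.find_min hex (by omega)
  obtain ⟨v, hv⟩ : ∃ v, (N ^ (Nat.find hex - 1)) v ≠ 0 := by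
    by_contra hcon
    push Not at hcon
    exact hmin (LinearMap.ext hcon)
  refine ⟨(N ^ (Nat.find hex - 1)) v, hv, ?_⟩
  have : N ((N ^ (Nat.find hex - 1)) v) = (N ^ (Nat.find hex)) v := by
    rw [← Module.End.mul_apply, ← pow_succ', Nat.sub_add_cancel (by omega)]
  rw [this, hk0]
  rfl

omit [Fintype F] in
lemma pow_apply_eigen {V : Type*} [AddCommGroup V] [Module F V] (B : Module.End F V) (θ : F) (w : V)
    (hw : B w = θ • w) (k : ℕ) : (B ^ k) w = θ ^ k • w := by
  induction k with
  | zero => simp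
  | succ k ih =>
    rw [pow_succ', Module.End.mul_apply, ih, map_smul, hw, smul_smul, pow_succ]

omit [Fintype F] in
lemma exists_mem_ne_zero_of_finrank_pos {V : Type*} [AddCommGroup V] [Module F V] [FiniteDimensional F V]
    (W : Submodule F V) (h : 0 < Module.finrank F W) : ∃ w ∈ W, w ≠ 0 := by
  obtain ⟨x, hx⟩ := Module.finrank_pos_iff_exists_ne_zero.mp h
  exact ⟨x.1, x.2, fun h0 => hx (Subtype.ext h0)⟩

omit [Fintype F] in
lemma finrank_pos_of_mem_ne_zero {V : Type*} [AddCommGroup V] [Module F V] [FiniteDimensional F V]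
    (W : Submodule F V) (w : V) (hw : w ∈ W) (h0 : w ≠ 0) : 0 < Module.finrank F W :=
  Module.finrank_pos_iff_exists_ne_zero.mpr ⟨⟨w, hw⟩, fun h => h0 (congrArg Subtype.val h)⟩

theorem core {V : Type*} [AddCommGroup V] [Module F V] [FiniteDimensional F V]
    (p : ℕ) [Fact p.Prime] [CharP F p] (n : ℕ) (hn : 4 ≤ n) (hV : Module.finrank F V = n)
    (B N : Module.End F V) (hBN : Commute B N) (hN0 : N ≠ 0) (hNil : IsNilpotent N)
    (r : ℕ) (hr : r.Prime) (hrp : r ≠ p) (κ : F) (hκ : κ ≠ 0) (hB : B ^ r = κ • 1)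
    (h : ∀ j, 1 ≤ j → j ≤ n - 2 → ¬ r ∣ Fintype.card F ^ j - 1) :
    ∃ θ : F, B = θ • 1 := by
  classical
  have hcop : ∀ d, d ≤ n - 2 → Nat.Coprime r (Nat.card (GL (Fin d) F)) := fun d hd =>
    coprime_card_GL p r hr hrp d (fun j h1 h2 => h j h1 (by omega))
  haveI : Nontrivial V := Module.nontrivial_of_finrank_pos (R := F) (by omega)
  have hcomm : ∀ v, B (N v) = N (B v) := by
    intro v
    have := LinearMap.congr_fun hBN.eq v
    simpa only [Module.End.mul_apply] using this
  -- Step 1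
  have hker_pos : 0 < Module.finrank F N.ker := by
    obtain ⟨v, hv, hNv⟩ := exists_ker_of_nilpotent N hNil
    exact finrank_pos_of_mem_ne_zero _ v hNv hv
  have hrk := LinearMap.finrank_range_add_finrank_ker N
  have hker_lt : Module.finrank F N.ker < n := by
    by_contra hge
    push Not at hge
    have hle := Submodule.finrank_le N.ker
    have : N.ker = ⊤ := Submodule.eq_top_of_finrank_eq (by omega)
    exact hN0 (LinearMap.ker_eq_top.mp this)
  have hinvK : ∀ w ∈ N.ker, B w ∈ N.ker := by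
    intro w hw
    rw [LinearMap.mem_ker] at hw ⊢
    rw [← hcomm, hw, map_zero]
  have hinvR : ∀ w ∈ N.range, B w ∈ N.range := by
    rintro w ⟨u, rfl⟩
    exact ⟨B u, (hcomm u).symm⟩
  obtain ⟨W0, hW0inv, hW0pos, hW0le⟩ : ∃ W0 : Submodule F V, (∀ w ∈ W0, B w ∈ W0) ∧
      0 < Module.finrank F W0 ∧ Module.finrank F W0 ≤ n - 2 := by
    by_cases hc : Module.finrank F N.ker ≤ n - 2
    · exact ⟨N.ker, hinvK, hker_pos, hc⟩
    · exact ⟨N.range, hinvR, by omega, by omega⟩
  obtain ⟨θ, hθ⟩ := scalar_on_invariant B r hr κ hκ hB W0 hW0inv (hcop _ hW0le)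
  obtain ⟨w0, hw0W, hw0⟩ := exists_mem_ne_zero_of_finrank_pos W0 hW0pos
  have hθr : θ ^ r = κ := by
    have h2 := pow_apply_eigen B θ w0 (hθ w0 hw0W) r
    rw [hB] at h2
    simp only [LinearMap.smul_apply, Module.End.one_apply] at h2
    have h3 : (κ - θ ^ r) • w0 = 0 := by rw [sub_smul, h2, sub_self]
    have h4 := (smul_eq_zero.mp h3).resolve_right hw0
    exact (sub_eq_zero.mp h4).symm
  have hθ0 : θ ≠ 0 := by
    rintro rfl
    rw [zero_pow hr.ne_zero] at hθr
    exact hκ hθr.symm
  -- Step 2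
  set B' : Module.End F V := θ⁻¹ • B with hB'
  have hB'r : B' ^ r = 1 := by
    rw [hB', smul_pow, hB, smul_smul, inv_pow, hθr, inv_mul_cancel₀ hκ, one_smul]
  have hB'w0 : B' w0 = w0 := by
    rw [hB', LinearMap.smul_apply, hθ w0 hw0W, smul_smul, inv_mul_cancel₀ hθ0, one_smul]
  have hcomm' : ∀ v, B' (N v) = N (B' v) := by
    intro v
    rw [hB', LinearMap.smul_apply, LinearMap.smul_apply, hcomm, map_smul]
  -- Step 3
  set D : Module.End F V := B' - 1 with hD
  have hDapp : ∀ v, D v = B' v - v := by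
    intro v; rw [hD, LinearMap.sub_apply, Module.End.one_apply]
  have hdim := LinearMap.finrank_range_add_finrank_ker D
  have hw0V1 : w0 ∈ D.ker := by
    rw [LinearMap.mem_ker, hDapp, hB'w0, sub_self]
  have hV1pos : 0 < Module.finrank F D.ker := finrank_pos_of_mem_ne_zero _ w0 hw0V1 hw0
  have hrF : (r : F) ≠ 0 := by
    intro h0
    have := (CharP.cast_eq_zero_iff F p r).mp h0
    exact hrp ((Nat.prime_dvd_prime_iff_eq Fact.out hr).mp this).symm
  have hdisj : ∀ v, v ∈ D.ker → v ∈ D.range → v = 0 := by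
    intro v h1 h2
    have hSD : (∑ i ∈ Finset.range r, B' ^ i) * D = 0 := by rw [hD, geom_sum_mul, hB'r, sub_self]
    obtain ⟨u, rfl⟩ := h2
    have hz : (∑ i ∈ Finset.range r, B' ^ i) (D u) = 0 := by
      rw [← Module.End.mul_apply, hSD]; rfl
    have hfix : B' (D u) = (1 : F) • D u := by
      rw [LinearMap.mem_ker, hDapp] at h1
      rw [one_smul]
      exact sub_eq_zero.mp h1
    have hpw : ∀ i, (B' ^ i) (D u) = D u := by
      intro i
      rw [pow_apply_eigen B' 1 (D u) hfix i, one_pow, one_smul]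
    have hsum : (∑ i ∈ Finset.range r, B' ^ i) (D u) = (r : F) • D u := by
      rw [LinearMap.sum_apply]
      simp only [hpw, Finset.sum_const, Finset.card_range, Nat.cast_smul_eq_nsmul]
    rw [hsum] at hz
    exact (smul_eq_zero.mp hz).resolve_left hrF
  have hDB' : ∀ v, D (B' v) = B' (D v) := by
    intro v; rw [hDapp, hDapp, map_sub]
  have hDN : ∀ v, D (N v) = N (D v) := by
    intro v; rw [hDapp, hDapp, map_sub, hcomm']
  -- Step 4
  have hV2bot : D.range = ⊥ := by
    by_contra hne
    have hV2inv : ∀ w ∈ D.range, B' w ∈ D.range := by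
      rintro w ⟨u, rfl⟩; exact ⟨B' u, hDB' u⟩
    have hV2N : ∀ w ∈ D.range, N w ∈ D.range := by
      rintro w ⟨u, rfl⟩; exact ⟨N u, hDN u⟩
    have hV1N : ∀ w ∈ D.ker, N w ∈ D.ker := by
      intro w hw
      rw [LinearMap.mem_ker] at hw ⊢
      rw [hDN, hw, map_zero]
    have hV2pos : 0 < Module.finrank F D.range := by
      obtain ⟨x, hx, hx0⟩ := (Submodule.ne_bot_iff _).mp hne
      exact finrank_pos_of_mem_ne_zero _ x hx hx0
    obtain ⟨W, hWinv, hWpos, hWle, hWV2⟩ : ∃ W : Submodule F V, (∀ w ∈ W, B' w ∈ W) ∧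
        0 < Module.finrank F W ∧ Module.finrank F W ≤ n - 2 ∧ W ≤ D.range := by
      by_cases hc : Module.finrank F D.range ≤ n - 2
      · exact ⟨D.range, hV2inv, hV2pos, hc, le_rfl⟩
      · have hd2 : Module.finrank F D.range = n - 1 := by omega
        have hd1 : Module.finrank F D.ker = 1 := by omega
        refine ⟨D.range ⊓ N.ker, ?_, ?_, ?_, inf_le_left⟩
        · intro w hw
          obtain ⟨hw1, hw2⟩ := Submodule.mem_inf.mp hw
          refine Submodule.mem_inf.mpr ⟨hV2inv w hw1, ?_⟩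
          rw [LinearMap.mem_ker] at hw2 ⊢
          rw [← hcomm', hw2, map_zero]
        · -- nonzero
          haveI : Nontrivial D.range := Submodule.nontrivial_iff_ne_bot.mpr hne
          have hnil2 : IsNilpotent (N.restrict hV2N) := by
            obtain ⟨k, hk⟩ := hNil
            refine ⟨k, ?_⟩
            rw [Module.End.pow_restrict k hV2N]
            ext w
            simp [LinearMap.restrict_apply, hk]
          obtain ⟨v, hv, hNv⟩ := exists_ker_of_nilpotent (N.restrict hV2N) hnil2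
          apply finrank_pos_of_mem_ne_zero _ v.1
          · refine Submodule.mem_inf.mpr ⟨v.2, ?_⟩
            rw [LinearMap.mem_ker]
            have := congrArg Subtype.val hNv
            simpa [LinearMap.restrict_apply] using this
          · exact fun h0 => hv (Subtype.ext h0)
        · -- dimension
          have hle : Module.finrank F ↥(D.range ⊓ N.ker) ≤ Module.finrank F D.range :=
            Submodule.finrank_mono inf_le_left
          by_contra hgt
          have heq : D.range ⊓ N.ker = D.range :=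
            Submodule.eq_of_le_of_finrank_eq inf_le_left (by omega)
          have hV2ker : D.range ≤ N.ker := by rw [← heq]; exact inf_le_right
          -- sup = top
          have hinf : D.ker ⊓ D.range = ⊥ := by
            rw [eq_bot_iff]
            intro v hv
            rw [Submodule.mem_bot]
            exact hdisj v (Submodule.mem_inf.mp hv).1 (Submodule.mem_inf.mp hv).2
          have hsup := Submodule.finrank_sup_add_finrank_inf_eq D.ker D.range
          rw [hinf, finrank_bot] at hsup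
          have htop : D.ker ⊔ D.range = ⊤ := Submodule.eq_top_of_finrank_eq (by omega)
          -- N w0 = c w0
          obtain ⟨c, hc⟩ : ∃ c : F, c • w0 = N w0 := by
            have := (finrank_eq_one_iff_of_nonzero' (⟨w0, hw0V1⟩ : D.ker)
              (fun h0 => hw0 (congrArg Subtype.val h0))).mp hd1 ⟨N w0, hV1N w0 hw0V1⟩
            obtain ⟨c, hc⟩ := this
            exact ⟨c, congrArg Subtype.val hc⟩
          have hNw0 : N w0 = 0 := by
            obtain ⟨k, hk⟩ := hNil
            have h2 := pow_apply_eigen N c w0 hc.symm k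
            rw [hk] at h2
            have h3 : c ^ k = 0 := by
              have : c ^ k • w0 = 0 := by rw [← h2]; rfl
              exact (smul_eq_zero.mp this).resolve_right hw0
            have h4 : c = 0 := pow_eq_zero_iff (n := k) (by
              rintro rfl
              rw [pow_zero] at h3
              exact one_ne_zero h3) |>.mp h3
            rw [← hc, h4, zero_smul]
          apply hN0
          ext v
          have hv : v ∈ D.ker ⊔ D.range := by rw [htop]; trivial
          obtain ⟨v1, hv1, v2, hv2, rfl⟩ := Submodule.mem_sup.mp hv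
          have h1 : N v1 = 0 := by
            obtain ⟨c', hc'⟩ := (finrank_eq_one_iff_of_nonzero' (⟨w0, hw0V1⟩ : D.ker)
              (fun h0 => hw0 (congrArg Subtype.val h0))).mp hd1 ⟨v1, hv1⟩
            have := congrArg Subtype.val hc'
            simp only [Submodule.coe_smul] at this
            rw [← this, map_smul, hNw0, smul_zero]
          have h2 : N v2 = 0 := hV2ker hv2
          rw [map_add, h1, h2, add_zero]
          rfl
    obtain ⟨θ2, hθ2⟩ := scalar_on_invariant B' r hr 1 one_ne_zero (by rw [hB'r, one_smul]) W hWinv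
      (hcop _ hWle)
    obtain ⟨w, hwW, hw⟩ := exists_mem_ne_zero_of_finrank_pos W hWpos
    have hθ2r : θ2 ^ r = 1 := by
      have h2 := pow_apply_eigen B' θ2 w (hθ2 w hwW) r
      rw [hB'r, Module.End.one_apply] at h2
      have h3 : (1 - θ2 ^ r) • w = 0 := by rw [sub_smul, one_smul, ← h2, sub_self]
      have h4 := (smul_eq_zero.mp h3).resolve_right hw
      exact (sub_eq_zero.mp h4).symm
    have hθ2ne : θ2 ≠ 1 := by
      rintro rfl
      apply hw
      apply hdisj w _ (hWV2 hwW)
      rw [LinearMap.mem_ker, hDapp, hθ2 w hwW, one_smul, sub_self]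
    have hθ20 : θ2 ≠ 0 := by
      rintro rfl
      rw [zero_pow hr.ne_zero] at hθ2r
      exact zero_ne_one hθ2r
    have hdvd : r ∣ Fintype.card F - 1 := by
      haveI : Fact r.Prime := ⟨hr⟩
      have hord : orderOf (Units.mk0 θ2 hθ20) = r := by
        apply orderOf_eq_prime
        · ext; simp [hθ2r]
        · intro h1
          apply hθ2ne
          simpa using congrArg Units.val h1
      rw [← hord, ← Fintype.card_units]
      exact orderOf_dvd_card
    exact h 1 le_rfl (by omega) (by simpa using hdvd)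
  -- Step 5
  refine ⟨θ, ?_⟩
  have hD0 : D = 0 := LinearMap.range_eq_bot.mp hV2bot
  have hB1 : B' = 1 := sub_eq_zero.mp hD0
  calc B = θ • B' := by rw [hB', smul_smul, mul_inv_cancel₀ hθ0, one_smul]
    _ = θ • 1 := by rw [hB1]

end lib

/-- Let F be a finite field of characteristic p, n ≥ 4, and let a, b be commuting elements of PSL(n, F) with a of order p. Then every prime divisor of the order of b divides the order of SL(n − 2, F). -/
theorem result {F : Type*} [Field F] [Fintype F] (p : ℕ) [Fact p.Prime] [CharP F p] (n : ℕ) (hn : 4 ≤ n)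
    (a b : Matrix.ProjectiveSpecialLinearGroup (Fin n) F) (ha : orderOf a = p) (hab : Commute a b) :
    (orderOf b).primeFactors ⊆ (Nat.card (Matrix.SpecialLinearGroup (Fin (n - 2)) F)).primeFactors := by
  classical
  intro r hr
  rw [Nat.mem_primeFactors] at hr ⊢
  obtain ⟨hrprime, hrdvd, hb0⟩ := hr
  haveI : NeZero n := ⟨by omega⟩
  have hq2 : 2 ≤ Fintype.card F := Fintype.one_lt_card
  have hSLcard := Cfsg.Agent.S0242.result (F := F) (q := Fintype.card F) rfl (n - 2) (by omega)
  have hSLne : Nat.card (SpecialLinearGroup (Fin (n - 2)) F) ≠ 0 := Nat.card_pos.ne'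
  refine ⟨hrprime, ?_, hSLne⟩
  obtain ⟨k, hk⟩ : ∃ k, n - 2 = k + 1 := ⟨n - 3, by omega⟩
  have hSL : Nat.card (SpecialLinearGroup (Fin (n - 2)) F)
      = (∏ i ∈ Finset.range k, (Fintype.card F ^ (n - 2) - Fintype.card F ^ i)) * Fintype.card F ^ k := by
    have h1 := hSLcard
    rw [Fin.prod_univ_eq_prod_range (fun i => Fintype.card F ^ (n - 2) - Fintype.card F ^ i) (n - 2)] at h1
    rw [hk] at h1 ⊢
    rw [Finset.prod_range_succ] at h1
    have h2 : Fintype.card F ^ (k + 1) - Fintype.card F ^ k = Fintype.card F ^ k * (Fintype.card F - 1) := by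
      rw [Nat.mul_sub, mul_one, pow_succ]
    rw [h2, ← mul_assoc, mul_comm] at h1
    exact Nat.eq_of_mul_eq_mul_right (by omega) h1
  -- I.a
  have hIa : p ∣ Nat.card (SpecialLinearGroup (Fin (n - 2)) F) := by
    rw [hSL]
    apply dvd_mul_of_dvd_right
    obtain ⟨e, hp, he⟩ := FiniteField.card F p
    rw [he, ← pow_mul]
    apply dvd_pow_self
    have := e.pos
    have hk1 : 1 ≤ k := by omega
    positivity
  -- I.b
  have hIb : ∀ j, 2 ≤ j → j ≤ n - 2 → r ∣ Fintype.card F ^ j - 1 →
      r ∣ Nat.card (SpecialLinearGroup (Fin (n - 2)) F) := by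
    intro j hj2 hjn hrj
    rw [hSL]
    apply dvd_mul_of_dvd_left
    apply dvd_trans _ (Finset.dvd_prod_of_mem _ (Finset.mem_range.mpr (show n - 2 - j < k by omega)))
    have h2 : Fintype.card F ^ (n - 2) - Fintype.card F ^ (n - 2 - j)
        = Fintype.card F ^ (n - 2 - j) * (Fintype.card F ^ j - 1) := by
      rw [Nat.mul_sub, mul_one, ← pow_add]
      congr 2
      omega
    rw [h2]
    exact dvd_mul_of_dvd_right hrj _
  by_cases hrp : r = p
  · rw [hrp]; exact hIa
  by_contra hnd
  have hno : ∀ j, 1 ≤ j → j ≤ n - 2 → ¬ r ∣ Fintype.card F ^ j - 1 := by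
    intro j hj1 hjn hrj
    rcases Nat.lt_or_ge j 2 with hj | hj
    · have hj' : j = 1 := by omega
      subst hj'
      apply hnd
      apply hIb 2 le_rfl (by omega)
      have : Fintype.card F ^ 2 - 1 = (Fintype.card F ^ 1 - 1) * (Fintype.card F + 1) := by
        rw [pow_one, Nat.sub_mul, Nat.mul_add, Nat.one_mul]
        have : Fintype.card F * Fintype.card F + Fintype.card F * 1 - (Fintype.card F + 1) = Fintype.card F * Fintype.card F - 1 := by omega
        rw [this, sq]
      rw [this]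
      exact dvd_mul_of_dvd_left hrj _
    · exact hnd (hIb j hj hjn hrj)
  -- the PSL part
  have hpprime : p.Prime := Fact.out
  have hb0ord : orderOf (b ^ (orderOf b / r)) = r := orderOf_pow_orderOf_div hb0 hrdvd
  have hab0 : Commute a (b ^ (orderOf b / r)) := hab.pow_right _
  obtain ⟨A, rfl⟩ := QuotientGroup.mk_surjective a
  obtain ⟨B, hBq⟩ := QuotientGroup.mk_surjective (b ^ (orderOf b / r))
  rw [← hBq] at hb0ord hab0
  -- facts
  have hApow : A ^ p ∈ Subgroup.center (SpecialLinearGroup (Fin n) F) := by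
    rw [← QuotientGroup.eq_one_iff, QuotientGroup.mk_pow, ← ha]
    exact pow_orderOf_eq_one _
  have hAnc : A ∉ Subgroup.center (SpecialLinearGroup (Fin n) F) := by
    intro hc
    have h1 : (QuotientGroup.mk A : ProjectiveSpecialLinearGroup (Fin n) F) = 1 :=
      (QuotientGroup.eq_one_iff _).mpr hc
    rw [h1, orderOf_one] at ha
    exact hpprime.one_lt.ne ha
  have hBpow : B ^ r ∈ Subgroup.center (SpecialLinearGroup (Fin n) F) := by
    rw [← QuotientGroup.eq_one_iff, QuotientGroup.mk_pow]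
    conv_lhs => rw [← hb0ord]
    exact pow_orderOf_eq_one _
  have hBnc : B ∉ Subgroup.center (SpecialLinearGroup (Fin n) F) := by
    intro hc
    have h1 : (QuotientGroup.mk B : ProjectiveSpecialLinearGroup (Fin n) F) = 1 :=
      (QuotientGroup.eq_one_iff _).mpr hc
    rw [h1, orderOf_one] at hb0ord
    exact hrprime.one_lt.ne hb0ord
  have hcommc : (B * A)⁻¹ * (A * B) ∈ Subgroup.center (SpecialLinearGroup (Fin n) F) := by
    rw [← QuotientGroup.eq, QuotientGroup.mk_mul, QuotientGroup.mk_mul]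
    exact hab0.eq.symm
  rw [Matrix.SpecialLinearGroup.mem_center_iff] at hApow hBpow hcommc
  obtain ⟨lam, hlamn, hlam⟩ := hApow
  obtain ⟨κ, hκn, hκ⟩ := hBpow
  obtain ⟨ν, hνn, hν⟩ := hcommc
  rw [Fintype.card_fin] at hlamn hκn hνn
  have hn0 : n ≠ 0 := by omega
  have hlam0 : lam ≠ 0 := by
    rintro rfl; rw [zero_pow hn0] at hlamn; exact zero_ne_one hlamn
  have hκ0 : κ ≠ 0 := by
    rintro rfl; rw [zero_pow hn0] at hκn; exact zero_ne_one hκn
  have hMA : (A : Matrix (Fin n) (Fin n) F) ^ p = lam • 1 := by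
    rw [← Matrix.SpecialLinearGroup.coe_pow, ← hlam, Matrix.scalar_apply, Matrix.smul_one_eq_diagonal]
  have hMB : (B : Matrix (Fin n) (Fin n) F) ^ r = κ • 1 := by
    rw [← Matrix.SpecialLinearGroup.coe_pow, ← hκ, Matrix.scalar_apply, Matrix.smul_one_eq_diagonal]
  have hAB : (A : Matrix (Fin n) (Fin n) F) * (B : Matrix (Fin n) (Fin n) F)
      = ν • ((B : Matrix (Fin n) (Fin n) F) * (A : Matrix (Fin n) (Fin n) F)) := by
    obtain ⟨Z, hZ⟩ : ∃ Z : Matrix.SpecialLinearGroup (Fin n) F, Z = (B * A)⁻¹ * (A * B) := ⟨_, rfl⟩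
    rw [← hZ] at hν
    have h1 : A * B = B * A * Z := by rw [hZ]; group
    have h2 := congrArg (fun X : Matrix.SpecialLinearGroup (Fin n) F => (X : Matrix (Fin n) (Fin n) F)) h1
    simp only [Matrix.SpecialLinearGroup.coe_mul] at h2
    rw [h2, ← hν, Matrix.scalar_apply, ← Matrix.smul_one_eq_diagonal, Matrix.mul_smul, Matrix.mul_one]
  have hMB0 : (B : Matrix (Fin n) (Fin n) F) ≠ 0 := by
    intro h0
    have := B.2
    rw [h0, Matrix.det_zero] at this
    exact zero_ne_one this
  have hpowcomm : ∀ k : ℕ, (A : Matrix (Fin n) (Fin n) F) ^ k * (B : Matrix (Fin n) (Fin n) F)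
      = ν ^ k • ((B : Matrix (Fin n) (Fin n) F) * (A : Matrix (Fin n) (Fin n) F) ^ k) := by
    intro k
    induction k with
    | zero => simp
    | succ k ih =>
      rw [pow_succ', Matrix.mul_assoc, ih, Matrix.mul_smul, ← Matrix.mul_assoc, hAB, Matrix.smul_mul,
        smul_smul, Matrix.mul_assoc, ← pow_succ', ← pow_succ]
  have hν1 : ν = 1 := by
    have h1 := hpowcomm p
    rw [hMA, Matrix.smul_mul, Matrix.one_mul, Matrix.mul_smul, Matrix.mul_one, smul_smul] at h1
    have h2 : (lam - ν ^ p * lam) • (B : Matrix (Fin n) (Fin n) F) = 0 := by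
      rw [sub_smul, ← h1, sub_self]
    have h3 := (smul_eq_zero.mp h2).resolve_right hMB0
    have h4 : ν ^ p = 1 := by
      have : (1 - ν ^ p) * lam = 0 := by rw [sub_mul, one_mul]; exact h3
      have := (mul_eq_zero.mp this).resolve_right hlam0
      exact (sub_eq_zero.mp this).symm
    apply frobenius_inj F p
    rw [frobenius_def, frobenius_def, h4, one_pow]
  rw [hν1, one_smul] at hAB
  -- μ
  obtain ⟨μ, hμ⟩ : ∃ μ : F, μ ^ p = lam := ⟨(frobeniusEquiv F p).symm lam, frobeniusEquiv_symm_pow_p F p lam⟩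
  have hμ0 : μ ≠ 0 := by
    rintro rfl; rw [zero_pow hpprime.ne_zero] at hμ; exact hlam0 hμ.symm
  set MN : Matrix (Fin n) (Fin n) F := μ⁻¹ • (A : Matrix (Fin n) (Fin n) F) - 1 with hMN
  have hMNp : MN ^ p = 0 := by
    rw [hMN, sub_pow_char_of_commute p (Commute.one_right _), smul_pow, hMA, one_pow, smul_smul, inv_pow, hμ,
      inv_mul_cancel₀ hlam0, one_smul, sub_self]
  have hMN0 : MN ≠ 0 := by
    intro h0
    apply hAnc
    rw [Matrix.SpecialLinearGroup.mem_center_iff]
    have h1 : (A : Matrix (Fin n) (Fin n) F) = μ • 1 := by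
      have : μ⁻¹ • (A : Matrix (Fin n) (Fin n) F) = 1 := sub_eq_zero.mp h0
      rw [← this, smul_smul, mul_inv_cancel₀ hμ0, one_smul]
    refine ⟨μ, ?_, ?_⟩
    · have h2 := A.2
      rw [h1, Matrix.det_smul, Matrix.det_one, mul_one] at h2
      exact h2
    · rw [h1, Matrix.scalar_apply, Matrix.smul_one_eq_diagonal]
  have hcommBN : Commute (B : Matrix (Fin n) (Fin n) F) MN := by
    change (B : Matrix (Fin n) (Fin n) F) * MN = MN * (B : Matrix (Fin n) (Fin n) F)
    rw [hMN, Matrix.mul_sub, Matrix.sub_mul, Matrix.mul_smul, Matrix.smul_mul, hAB, Matrix.mul_one, Matrix.one_mul]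
  -- apply core
  obtain ⟨θ, hθ⟩ := core (V := Fin n → F) p n hn (Module.finrank_fin_fun F)
    (Matrix.toLinAlgEquiv' (B : Matrix (Fin n) (Fin n) F)) (Matrix.toLinAlgEquiv' MN)
    (hcommBN.map (Matrix.toLinAlgEquiv' : Matrix (Fin n) (Fin n) F ≃ₐ[F] _))
    (by
      intro h0
      apply hMN0
      apply (Matrix.toLinAlgEquiv' : Matrix (Fin n) (Fin n) F ≃ₐ[F] _).injective
      rw [h0, map_zero])
    ⟨p, by rw [← map_pow, hMNp, map_zero]⟩
    r hrprime hrp κ hκ0
    (by rw [← map_pow, hMB, map_smul, map_one])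
    hno
  have hBθ : (B : Matrix (Fin n) (Fin n) F) = θ • 1 := by
    apply (Matrix.toLinAlgEquiv' : Matrix (Fin n) (Fin n) F ≃ₐ[F] _).injective
    rw [hθ, map_smul, map_one]
  apply hBnc
  rw [Matrix.SpecialLinearGroup.mem_center_iff]
  refine ⟨θ, ?_, ?_⟩
  · have h2 := B.2
    rw [hBθ, Matrix.det_smul, Matrix.det_one, mul_one] at h2
    exact h2
  · rw [hBθ, Matrix.scalar_apply, Matrix.smul_one_eq_diagonal]

end Cfsg.Agent.S2364
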