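import Mathlib
import Cfsg.Statements.S2388
import Cfsg.Agent.Lib.Helper7_Semisimple

set_option autoImplicit false

open Cfsg

namespace Cfsg.Agent.S2388


/-- In `SL_n(q)`, `q` a power of the prime `p`, two elements of order prime to `p` with the same characteristic polynomial are conjugate in `SL_n(q)` (not merely in `GL_n`). -/
theorem result {F : Type*} [Field F] [Fintype F] (p : ℕ) [Fact p.Prime] [CharP F p] (n : ℕ)
    (g h : Matrix.SpecialLinearGroup (Fin n) F) (hg : (orderOf g).Coprime p) (hh : (orderOf h).Coprime p)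
    (hc : (g : Matrix (Fin n) (Fin n) F).charpoly = (h : Matrix (Fin n) (Fin n) F).charpoly) : IsConj g h := by
  classical
  rcases Nat.eq_zero_or_pos n with hn | hn
  · subst hn
    have : g = h := by
      apply Subtype.ext
      funext i
      exact Fin.elim0 i
    rw [this]
  haveI : NeZero n := ⟨by omega⟩
  haveI : Finite F := Finite.of_fintype F
  have hp : p.Prime := Fact.out
  have hkF : ∀ x : Matrix.SpecialLinearGroup (Fin n) F, (orderOf x).Coprime p →
      ((orderOf x : ℕ) : F) ≠ 0 := by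
    intro x hx h0
    have h1 : p ∣ orderOf x := (CharP.cast_eq_zero_iff F p _).mp h0
    have h2 : p ∣ Nat.gcd (orderOf x) p := Nat.dvd_gcd h1 dvd_rfl
    rw [Nat.Coprime] at hx
    rw [hx] at h2
    exact hp.one_lt.ne' (Nat.dvd_one.mp h2)
  have hpow : ∀ x : Matrix.SpecialLinearGroup (Fin n) F,
      (Matrix.toLinAlgEquiv' (x : Matrix (Fin n) (Fin n) F)) ^ (orderOf x) = 1 := by
    intro x
    rw [← map_pow, ← Matrix.SpecialLinearGroup.coe_pow, pow_orderOf_eq_one,
      Matrix.SpecialLinearGroup.coe_one, map_one]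
  have hch : ∀ x : Matrix.SpecialLinearGroup (Fin n) F,
      (Matrix.toLinAlgEquiv' (x : Matrix (Fin n) (Fin n) F)).charpoly =
        (x : Matrix (Fin n) (Fin n) F).charpoly := fun x => Matrix.charpoly_toLin' _
  obtain ⟨E, hE⟩ := Cfsg.Agent.Lib.Helper7_Semisimple.conj_of_charpoly_eq
    (Matrix.toLinAlgEquiv' (g : Matrix (Fin n) (Fin n) F))
    (Matrix.toLinAlgEquiv' (h : Matrix (Fin n) (Fin n) F)) (orderOf g) (orderOf h)
    (hkF g hg) (hkF h hh) (hpow g) (hpow h) (by rw [hch, hch, hc])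
  set A : Matrix (Fin n) (Fin n) F := Matrix.toLinAlgEquiv'.symm (E : (Fin n → F) →ₗ[F] (Fin n → F)) with hA
  have hAE : Matrix.toLinAlgEquiv' A = (E : (Fin n → F) →ₗ[F] (Fin n → F)) := by
    rw [hA, AlgEquiv.apply_symm_apply]
  have hAG : A * (g : Matrix (Fin n) (Fin n) F) = (h : Matrix (Fin n) (Fin n) F) * A := by
    apply Matrix.toLinAlgEquiv'.injective
    rw [map_mul, map_mul, hAE]
    apply LinearMap.ext
    intro v
    exact hE v
  have hdetA : A.det ≠ 0 := by
    have h1 : LinearMap.det (Matrix.toLinAlgEquiv' A) = A.det := LinearMap.det_toLin' A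
    rw [← h1, hAE]
    exact (LinearEquiv.isUnit_det' E).ne_zero
  obtain ⟨c, hc1, hc2⟩ := Cfsg.Agent.Lib.Helper7_SemisimpleDet.exists_comm_det
    (Matrix.toLinAlgEquiv' (g : Matrix (Fin n) (Fin n) F)) (orderOf g) (hkF g hg) (hpow g) (A.det)⁻¹
  set C : Matrix (Fin n) (Fin n) F := Matrix.toLinAlgEquiv'.symm c with hC
  have hcC : Matrix.toLinAlgEquiv' C = c := by rw [hC, AlgEquiv.apply_symm_apply]
  have hdetC : C.det = (A.det)⁻¹ := by
    rw [← hc2, ← hcC]
    exact (LinearMap.det_toLin' C).symm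
  have hCG : C * (g : Matrix (Fin n) (Fin n) F) = (g : Matrix (Fin n) (Fin n) F) * C := by
    apply Matrix.toLinAlgEquiv'.injective
    rw [map_mul, map_mul, hcC]
    exact hc1
  have hdetB : (A * C).det = 1 := by
    rw [Matrix.det_mul, hdetC, mul_inv_cancel₀ hdetA]
  rw [isConj_iff]
  set b : Matrix.SpecialLinearGroup (Fin n) F := ⟨A * C, hdetB⟩ with hb
  refine ⟨b, ?_⟩
  rw [mul_inv_eq_iff_eq_mul]
  apply Subtype.ext
  rw [Matrix.SpecialLinearGroup.coe_mul, Matrix.SpecialLinearGroup.coe_mul]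
  show A * C * (g : Matrix (Fin n) (Fin n) F) = (h : Matrix (Fin n) (Fin n) F) * (A * C)
  rw [mul_assoc, hCG, ← mul_assoc, hAG, mul_assoc]

end Cfsg.Agent.S2388
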