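import Mathlib
import Cfsg.Statements.S2387
import Cfsg.Agent.Lib.Helper7_SemisimpleCount

set_option autoImplicit false

open scoped MatrixGroups
open Cfsg

namespace Cfsg.Agent.S2387


/-- In `GL_n(q)` with `n ≥ 1`, `q` a power of the prime `p`, the number of conjugacy classes of elements of order prime to `p` (diagonalisable over the algebraic closure; determined by the characteristic polynomial) is `(q - 1) q^(n-1)`. -/
theorem result {F : Type*} [Field F] [Fintype F] {q : ℕ} (hq : Fintype.card F = q) (p : ℕ) [Fact p.Prime] [CharP F p] (n : ℕ) (hn : 1 ≤ n) :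
    Nat.card {c : ConjClasses (GL (Fin n) F) // ∃ g : GL (Fin n) F, ConjClasses.mk g = c ∧ (orderOf g).Coprime p} = (q - 1) * q ^ (n - 1) := by
  classical
  obtain ⟨n', rfl⟩ : ∃ n', n = n' + 1 := ⟨n - 1, by omega⟩
  subst hq
  have hχwd : ∀ a b : GL (Fin (n' + 1)) F, IsConj a b →
      (a : Matrix (Fin (n' + 1)) (Fin (n' + 1)) F).charpoly =
        (b : Matrix (Fin (n' + 1)) (Fin (n' + 1)) F).charpoly := by
    intro a b hab
    obtain ⟨c, hc⟩ := isConj_iff.mp hab
    rw [← hc, Units.val_mul, Units.val_mul, Matrix.coe_units_inv]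
    exact (Matrix.charpoly_units_conj c _).symm
  let χ : ConjClasses (GL (Fin (n' + 1)) F) → Polynomial F :=
    Quotient.lift (fun g : GL (Fin (n' + 1)) F =>
      (g : Matrix (Fin (n' + 1)) (Fin (n' + 1)) F).charpoly) (fun a b hab => hχwd a b hab)
  have hχ : ∀ g : GL (Fin (n' + 1)) F,
      χ (ConjClasses.mk g) = (g : Matrix (Fin (n' + 1)) (Fin (n' + 1)) F).charpoly := fun g => rfl
  have hc0 : ∀ g : GL (Fin (n' + 1)) F,
      (g : Matrix (Fin (n' + 1)) (Fin (n' + 1)) F).charpoly.coeff 0 ≠ 0 := by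
    intro g h0
    have h1 := Matrix.det_eq_sign_charpoly_coeff (g : Matrix (Fin (n' + 1)) (Fin (n' + 1)) F)
    rw [h0, mul_zero] at h1
    have h2 := (Matrix.isUnit_iff_isUnit_det _).mp g.isUnit
    exact h2.ne_zero h1
  have hmon : ∀ g : GL (Fin (n' + 1)) F,
      (g : Matrix (Fin (n' + 1)) (Fin (n' + 1)) F).charpoly.Monic := fun g => Matrix.charpoly_monic _
  have hdeg : ∀ g : GL (Fin (n' + 1)) F,
      (g : Matrix (Fin (n' + 1)) (Fin (n' + 1)) F).charpoly.natDegree = n' + 1 := by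
    intro g
    rw [Matrix.charpoly_natDegree_eq_dim, Fintype.card_fin]
  let S := {c : ConjClasses (GL (Fin (n' + 1)) F) //
    ∃ g : GL (Fin (n' + 1)) F, ConjClasses.mk g = c ∧ (orderOf g).Coprime p}
  let Φ : S → {a : Fin (n' + 1) → F // a 0 ≠ 0} := fun c =>
    ⟨fun i => (χ c.1).coeff i, by
      obtain ⟨g, hg, -⟩ := c.2
      rw [← hg, hχ]
      exact hc0 g⟩
  have hΦ : ∀ (c : S) (i : Fin (n' + 1)), (Φ c).1 i = (χ c.1).coeff i := fun c i => rfl
  have hinj : Function.Injective Φ := by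
    rintro ⟨c, g, hg, hgp⟩ ⟨c', g', hg', hgp'⟩ h
    apply Subtype.ext
    show c = c'
    rw [← hg, ← hg']
    apply ConjClasses.mk_eq_mk_iff_isConj.mpr
    apply Cfsg.Agent.Lib.Helper7_SemisimpleCount.gl_conj_of_charpoly_eq g g' hgp hgp'
    apply Cfsg.Agent.Lib.Helper7_SemisimpleCount.poly_eq_of_coeff_fin _ _ (hmon g) (hmon g')
      (hdeg g) (hdeg g')
    intro i
    have h1 := congrFun (congrArg Subtype.val h) i
    rw [hΦ, hΦ] at h1
    simp only at h1
    rw [← hg, ← hg', hχ, hχ] at h1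
    exact h1
  have hsurj : Function.Surjective Φ := by
    rintro ⟨a, ha⟩
    obtain ⟨f, hf, hfn, hfa⟩ := Cfsg.Agent.Lib.Helper7_SemisimpleCount.exists_poly_of_coeffs a
    have hf0 : f.coeff 0 ≠ 0 := by
      have := hfa 0
      rw [Fin.val_zero] at this
      rw [this]; exact ha
    obtain ⟨G, hG, N, hNp, hN0, hGN⟩ :=
      Cfsg.Agent.Lib.Helper7_SemisimpleCount.exists_matrix_of_charpoly (p := p) f hf hfn hf0
    have hN1 : N - 1 + 1 = N := by omega
    let g : GL (Fin (n' + 1)) F := ⟨G, G ^ (N - 1), by rw [← pow_succ', hN1, hGN],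
      by rw [← pow_succ, hN1, hGN]⟩
    have hgN : g ^ N = 1 := by
      apply Units.ext
      rw [Units.val_pow_eq_pow_val, Units.val_one]
      exact hGN
    have hgp : (orderOf g).Coprime p := Nat.Coprime.coprime_dvd_left (orderOf_dvd_of_pow_eq_one hgN) hNp
    refine ⟨⟨ConjClasses.mk g, g, rfl, hgp⟩, ?_⟩
    apply Subtype.ext
    funext i
    rw [hΦ]
    show (χ (ConjClasses.mk g)).coeff i = a i
    rw [hχ]
    show G.charpoly.coeff i = a i
    rw [hG, hfa]
  rw [Nat.card_congr (Equiv.ofBijective Φ ⟨hinj, hsurj⟩), Nat.card_eq_fintype_card,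
    Cfsg.Agent.Lib.Helper7_SemisimpleCount.card_fun_ne]
  rfl

end Cfsg.Agent.S2387
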