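import Mathlib
import Cfsg.Statements.S4230

set_option autoImplicit false
open Cfsg

namespace Cfsg.Agent.S4230

theorem dvd_eval_iff (p q n : ℕ) :
    ((p : ℤ) ∣ (Polynomial.cyclotomic n ℤ).eval (q : ℤ)) ↔
      (Polynomial.cyclotomic n (ZMod p)).eval (q : ZMod p) = 0 := by
  rw [← ZMod.intCast_zmod_eq_zero_iff_dvd]
  have h := Polynomial.eval_intCast_map (Int.castRingHom (ZMod p)) (Polynomial.cyclotomic n ℤ) (q : ℤ)
  rw [Polynomial.map_cyclotomic_int] at h
  simp only [Int.cast_natCast, eq_intCast] at h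
  rw [← h]

theorem core (p q m j : ℕ) [Fact p.Prime] (hm : ¬ p ∣ m) :
    ((p : ℤ) ∣ (Polynomial.cyclotomic (p ^ j * m) ℤ).eval (q : ℤ)) ↔ IsPrimitiveRoot (q : ZMod p) m := by
  haveI : NeZero ((m : ℕ) : ZMod p) := ⟨by
    intro h
    exact hm ((ZMod.natCast_eq_zero_iff _ _).mp h)⟩
  rw [dvd_eval_iff, ← Polynomial.isRoot_cyclotomic_iff, Polynomial.IsRoot.def]
  rcases Nat.eq_zero_or_pos j with hj | hj
  · subst hj
    simp
  · rw [Polynomial.cyclotomic_mul_prime_pow_eq (ZMod p) hm hj, Polynomial.eval_pow]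
    have hpos : p ^ j - p ^ (j - 1) ≠ 0 := by
      have hp1 : 1 < p := (Fact.out : p.Prime).one_lt
      have : p ^ (j - 1) < p ^ j := Nat.pow_lt_pow_right hp1 (by omega)
      omega
    exact pow_eq_zero_iff hpos

/-- Let p be an odd prime, q a natural number not divisible by p, and e the multiplicative order of q modulo p. For a natural number f, p divides the value at q of the f-th cyclotomic polynomial if and only if f = e·p^j for some j ≥ 0. -/
theorem result (p q f : ℕ) (hp : p.Prime) (hp2 : p ≠ 2) (hpq : ¬ p ∣ q) :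
    ((p : ℤ) ∣ (Polynomial.cyclotomic f ℤ).eval (q : ℤ)) ↔ ∃ j : ℕ, f = orderOf (q : ZMod p) * p ^ j := by
  haveI : Fact p.Prime := ⟨hp⟩
  have hq0 : (q : ZMod p) ≠ 0 := by
    intro h
    exact hpq ((ZMod.natCast_eq_zero_iff _ _).mp h)
  have hord : orderOf (q : ZMod p) ∣ p - 1 := ZMod.orderOf_dvd_card_sub_one hq0
  have hordp : ¬ p ∣ orderOf (q : ZMod p) := by
    intro h
    have h1 : p ∣ p - 1 := h.trans hord
    have h2 : p ≤ p - 1 := Nat.le_of_dvd (by have := hp.one_lt; omega) h1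
    have := hp.one_lt
    omega
  constructor
  · intro h
    by_cases hf : f = 0
    · subst hf
      simp only [Polynomial.cyclotomic_zero, Polynomial.eval_one] at h
      have : (p : ℤ) = 1 ∨ (p : ℤ) = -1 := Int.isUnit_iff.mp (isUnit_of_dvd_one h)
      have hp1 := hp.one_lt
      omega
    · obtain ⟨j, m, hm, rfl⟩ := Nat.exists_eq_pow_mul_and_not_dvd hf p hp.ne_one
      rw [core p q m j hm] at h
      refine ⟨j, ?_⟩
      rw [← h.eq_orderOf, mul_comm]
  · rintro ⟨j, rfl⟩
    rw [mul_comm, core p q _ j hordp]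
    exact IsPrimitiveRoot.orderOf _

end Cfsg.Agent.S4230
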