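import Cfsg.Statements.S2904
import Cfsg.Agent.S4230

set_option autoImplicit false
open Cfsg

namespace Cfsg.Agent.S2904

open Polynomial

theorem dvd_pow_sub_one_iff (a r k : ℕ) (ha : 1 ≤ a) :
    r ∣ a ^ k - 1 ↔ (a : ZMod r) ^ k = 1 := by
  have h1 : 1 ≤ a ^ k := Nat.one_le_pow _ _ ha
  rw [← ZMod.natCast_eq_zero_iff, Nat.cast_sub h1, sub_eq_zero, Nat.cast_pow, Nat.cast_one]

theorem lemmaA (a n r : ℕ) (hn : n ≠ 0) (hr : r.Prime)
    (hdvd : (r : ℤ) ∣ (cyclotomic n ℤ).eval (a : ℤ)) :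
    ∃ j m, n = r ^ j * m ∧ ¬ r ∣ m ∧ orderOf (a : ZMod r) = m ∧ m ∣ r - 1 := by
  haveI : Fact r.Prime := ⟨hr⟩
  obtain ⟨j, m, hm, rfl⟩ := Nat.exists_eq_pow_mul_and_not_dvd hn r hr.ne_one
  have h := (Cfsg.Agent.S4230.core r a m j hm).mp hdvd
  have hm0 : m ≠ 0 := by rintro rfl; simp at hn
  have ha0 : (a : ZMod r) ≠ 0 := h.ne_zero hm0
  refine ⟨j, m, rfl, hm, h.eq_orderOf.symm, ?_⟩
  rw [h.eq_orderOf]
  exact ZMod.orderOf_dvd_card_sub_one ha0

theorem primitive_of_order (a n r : ℕ) (ha : 1 ≤ a) (hn : 0 < n)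
    (hord : orderOf (a : ZMod r) = n) :
    r ∣ a ^ n - 1 ∧ ∀ k, 0 < k → k < n → ¬ r ∣ a ^ k - 1 := by
  refine ⟨(dvd_pow_sub_one_iff a r n ha).mpr (hord ▸ pow_orderOf_eq_one _), fun k hk hkn hd => ?_⟩
  have := orderOf_dvd_of_pow_eq_one ((dvd_pow_sub_one_iff a r k ha).mp hd)
  rw [hord] at this
  exact absurd (Nat.le_of_dvd hk this) (by omega)

theorem eval_dvd_aux (a n d : ℕ) (hd : d ∈ n.properDivisors) :
    ((a : ℤ) ^ d - 1) * (cyclotomic n ℤ).eval (a : ℤ) ∣ (a : ℤ) ^ n - 1 := by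
  have hpoly := X_pow_sub_one_mul_cyclotomic_dvd_X_pow_sub_one_of_dvd ℤ hd
  have := Polynomial.eval_dvd (x := (a : ℤ)) hpoly
  simpa using this

theorem not_sq_dvd (a n r : ℕ) (ha : 2 ≤ a) (hr : r.Prime) (hodd : Odd r) (hrn : r ∣ n)
    (hn : n ≠ 0) (h1 : (r : ℤ) ∣ (a : ℤ) ^ (n / r) - 1) :
    ¬ ((r : ℤ) ^ 2 ∣ (cyclotomic n ℤ).eval (a : ℤ)) := by
  intro h2
  set d := n / r with hd
  have hdn : d * r = n := Nat.div_mul_cancel hrn
  have hd0 : 0 < d := by
    rcases Nat.eq_zero_or_pos d with h | h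
    · rw [h, zero_mul] at hdn; exact absurd hdn.symm hn
    · exact h
  have hdlt : d < n := by
    have := hr.two_le
    nlinarith
  have hdmem : d ∈ n.properDivisors := by
    rw [Nat.mem_properDivisors]; exact ⟨⟨r, hdn.symm⟩, hdlt⟩
  have hev := eval_dvd_aux a n d hdmem
  set y : ℤ := (a : ℤ) ^ d with hy
  have hy2 : 2 ≤ y := by
    have h2a : (2 : ℤ) ≤ a := by exact_mod_cast ha
    calc (2 : ℤ) = 2 ^ 1 := by norm_num
      _ ≤ 2 ^ d := pow_le_pow_right₀ (by norm_num) hd0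
      _ ≤ (a : ℤ) ^ d := pow_le_pow_left₀ (by norm_num) h2a d
  have hy1 : y - 1 ≠ 0 := by omega
  have hyn : (a : ℤ) ^ n = y ^ r := by rw [hy, ← pow_mul, hdn]
  have hry : ¬ (r : ℤ) ∣ y := by
    intro h
    have h3 : (r : ℤ) ∣ 1 := by
      have := dvd_sub h h1
      simpa using this
    have := Int.natAbs_dvd_natAbs.mpr h3
    simp at this
    exact hr.ne_one this
  have hfin : FiniteMultiplicity (r : ℤ) (y - 1) :=
    Int.finiteMultiplicity_iff.mpr ⟨by simpa using hr.ne_one, hy1⟩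
  have lte := Int.emultiplicity_pow_sub_pow hr hodd (x := y) (y := 1) h1 hry r
  rw [one_pow, hfin.emultiplicity_eq_multiplicity, Nat.Prime.emultiplicity_self hr] at lte
  set e := multiplicity (r : ℤ) (y - 1) with he
  have lte' : emultiplicity (r : ℤ) (y ^ r - 1) = ((e + 1 : ℕ) : ℕ∞) := by
    rw [lte]; push_cast; rfl
  have hnd := (emultiplicity_eq_coe.mp lte').2
  apply hnd
  have h3 : (r : ℤ) ^ e ∣ y - 1 := pow_multiplicity_dvd _ _
  have h4 : (r : ℤ) ^ (e + 1 + 1) ∣ (y - 1) * (cyclotomic n ℤ).eval (a : ℤ) := by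
    have : (r : ℤ) ^ (e + 1 + 1) = (r : ℤ) ^ e * (r : ℤ) ^ 2 := by ring
    rw [this]
    exact mul_dvd_mul h3 h2
  rw [← hyn]
  exact h4.trans hev

theorem not_four_dvd (a n : ℕ) (ha : 2 ≤ a) (hn : n ≠ 0) (h4 : 4 ∣ n) (hodd : Odd a) :
    ¬ ((2 : ℤ) ^ 2 ∣ (cyclotomic n ℤ).eval (a : ℤ)) := by
  intro h2
  obtain ⟨c, rfl⟩ := h4
  have hc : 0 < c := by
    rcases Nat.eq_zero_or_pos c with h | h
    · subst h; simp at hn
    · exact h
  have hdmem : 2 * c ∈ (4 * c).properDivisors := by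
    rw [Nat.mem_properDivisors]; exact ⟨⟨2, by ring⟩, by omega⟩
  have hev := eval_dvd_aux a (4 * c) (2 * c) hdmem
  set y : ℤ := (a : ℤ) ^ (2 * c) with hy
  have hy2 : 2 ≤ y := by
    have h2a : (2 : ℤ) ≤ a := by exact_mod_cast ha
    calc (2 : ℤ) = 2 ^ 1 := by norm_num
      _ ≤ 2 ^ (2 * c) := pow_le_pow_right₀ (by norm_num) (by omega)
      _ ≤ (a : ℤ) ^ (2 * c) := pow_le_pow_left₀ (by norm_num) h2a _
  have hy1 : y - 1 ≠ 0 := by omega
  have hfac : (a : ℤ) ^ (4 * c) - 1 = (y - 1) * (y + 1) := by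
    rw [hy]; ring
  rw [hfac] at hev
  have hΦ : (cyclotomic (4 * c) ℤ).eval (a : ℤ) ∣ y + 1 := (mul_dvd_mul_iff_left hy1).mp hev
  have hy4 : y % 4 = 1 := by
    have : y = ((a : ℤ) ^ c) ^ 2 := by rw [hy]; ring
    rw [this]
    exact Int.sq_mod_four_eq_one_of_odd (Odd.pow (by exact_mod_cast hodd))
  have h4 : (4 : ℤ) ∣ y + 1 := by
    have := h2.trans hΦ
    norm_num at this
    exact this
  omega

theorem natAbs_cyclotomic_le (m q : ℕ) (hq : 2 ≤ q) :
    ((cyclotomic m ℤ).eval (q : ℤ)).natAbs ≤ (q + 1) ^ Nat.totient m := by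
  have h := cyclotomic_eval_le_add_one_pow_totient (q := (q : ℝ)) (by exact_mod_cast hq) m
  have hpos : 0 < (cyclotomic m ℤ).eval (q : ℤ) :=
    cyclotomic_pos' m (by exact_mod_cast hq : (1 : ℤ) < q)
  have hcast := cyclotomic.eval_apply (q : ℤ) m (algebraMap ℤ ℝ)
  rw [← @Nat.cast_le ℝ, Nat.cast_natAbs, abs_of_pos hpos]
  push_cast
  simp only [eq_intCast, Int.cast_natCast] at hcast
  rw [← hcast]
  exact h

theorem expand_iter (m r : ℕ) (hr : r.Prime) (i : ℕ) :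
    expand ℤ (r ^ i) (cyclotomic (m * r) ℤ) = cyclotomic (m * r * r ^ i) ℤ := by
  induction i with
  | zero => simp
  | succ i ih =>
    rw [pow_succ', expand_mul, ih, cyclotomic_expand_eq_cyclotomic hr
      (Dvd.dvd.mul_right (Dvd.intro_left m rfl) _)]
    congr 1
    ring

theorem eval_iter (m r : ℕ) (hr : r.Prime) (i : ℕ) (x : ℤ) :
    (cyclotomic (m * r * r ^ i) ℤ).eval x = (cyclotomic (m * r) ℤ).eval (x ^ (r ^ i)) := by
  rw [← expand_iter m r hr i, expand_eval]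

theorem eval_mul_aux (m r : ℕ) (hr : r.Prime) (hrm : ¬ r ∣ m) (y : ℤ) :
    (cyclotomic (m * r) ℤ).eval y * (cyclotomic m ℤ).eval y = (cyclotomic m ℤ).eval (y ^ r) := by
  have := cyclotomic_expand_eq_cyclotomic_mul hr hrm ℤ
  rw [← eval_mul, ← this, expand_eval]

theorem two_pow_ge (r : ℕ) (hr : 4 ≤ r) : 3 * r + 1 ≤ 2 ^ r := by
  induction r, hr using Nat.le_induction with
  | base => norm_num
  | succ k hk ih => rw [pow_succ]; omega

theorem three_pow_ge (r : ℕ) (hr : 3 ≤ r) : 2 * r ≤ 3 ^ (r - 1) := by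
  induction r, hr using Nat.le_induction with
  | base => norm_num
  | succ k hk ih =>
    have : k + 1 - 1 = (k - 1) + 1 := by omega
    rw [this, pow_succ]; omega

theorem small_case (b r : ℕ) (hb : 2 ≤ b) (hr : 3 ≤ r) (h : b ^ r - 1 < r * (b + 1)) :
    b = 2 ∧ r = 3 := by
  rcases Nat.lt_or_ge b 3 with hb3 | hb3
  · have hb2 : b = 2 := by omega
    subst hb2
    refine ⟨rfl, ?_⟩
    by_contra hne
    have h4 : 4 ≤ r := by omega
    have := two_pow_ge r h4
    omega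
  · exfalso
    have h1 := three_pow_ge r hr
    have h2 : 3 ^ (r - 1) ≤ b ^ (r - 1) := Nat.pow_le_pow_left hb3 _
    have h3 : b ^ r = b * b ^ (r - 1) := by
      rw [← pow_succ']; congr 1; omega
    have h4 : b * (2 * r) ≤ b * b ^ (r - 1) := Nat.mul_le_mul_left _ (h1.trans h2)
    have h5 : r * (b + 1) + 1 ≤ b * (2 * r) := by nlinarith
    omega

theorem zsig_ge_three (a n : ℕ) (ha : 2 ≤ a) (hn : 3 ≤ n) (h6 : ¬ (a = 2 ∧ n = 6)) :
    ∃ r : ℕ, r.Prime ∧ r ∣ a ^ n - 1 ∧ ∀ k : ℕ, 0 < k → k < n → ¬ r ∣ a ^ k - 1 := by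
  by_contra hcon
  push_neg at hcon
  set Φ : ℤ := (cyclotomic n ℤ).eval (a : ℤ) with hΦ
  set N := Φ.natAbs with hN
  have hn0 : n ≠ 0 := by omega
  have hNlt : (a - 1) ^ (Nat.totient n) < N :=
    sub_one_pow_totient_lt_natAbs_cyclotomic_eval (by omega) (by omega)
  have hN2 : 2 ≤ N := by
    have : 1 ≤ (a - 1) ^ (Nat.totient n) := Nat.one_le_pow _ _ (by omega)
    omega
  have hstruct : ∀ r, r.Prime → r ∣ N → ∃ j m, 1 ≤ j ∧ n = r ^ j * m ∧ ¬ r ∣ m ∧
      orderOf (a : ZMod r) = m ∧ m ∣ r - 1 := by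
    intro r hr hrN
    have hrΦ : (r : ℤ) ∣ Φ := Int.natCast_dvd.mpr hrN
    obtain ⟨j, m, hnm, hrm, hord, hmr⟩ := lemmaA a n r hn0 hr hrΦ
    refine ⟨j, m, ?_, hnm, hrm, hord, hmr⟩
    by_contra hj
    have hj0 : j = 0 := by omega
    subst hj0
    rw [pow_zero, one_mul] at hnm
    rw [← hnm] at hord
    obtain ⟨hd, hk⟩ := primitive_of_order a n r (by omega) (by omega) hord
    obtain ⟨k, hk0, hkn, hkd⟩ := hcon r hr hd
    exact hk k hk0 hkn hkd
  have hmax : ∀ r, r.Prime → r ∣ N → r ∣ n ∧ ∀ s, s.Prime → s ∣ n → s ≤ r := by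
    intro r hr hrN
    obtain ⟨j, m, hj, hnm, hrm, hord, hmr⟩ := hstruct r hr hrN
    refine ⟨hnm ▸ Dvd.dvd.mul_right (dvd_pow_self r (by omega)) m, fun s hs hsn => ?_⟩
    rw [hnm] at hsn
    rcases (Nat.Prime.dvd_mul hs).mp hsn with h | h
    · exact le_of_eq ((Nat.prime_dvd_prime_iff_eq hs hr).mp (hs.dvd_of_dvd_pow h))
    · have hm0 : 0 < m := Nat.pos_of_ne_zero (by rintro rfl; simp at hnm; omega)
      have h1 : m ≤ r - 1 := Nat.le_of_dvd (by have := hr.two_le; omega) hmr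
      have h2 := Nat.le_of_dvd hm0 h
      omega
  have hdvd_div : ∀ r, r.Prime → r ∣ N → r ∣ a ^ (n / r) - 1 := by
    intro r hr hrN
    obtain ⟨j, m, hj, hnm, hrm, hord, hmr⟩ := hstruct r hr hrN
    have hnr : n / r = r ^ (j - 1) * m := by
      rw [hnm]
      have : r ^ j = r * r ^ (j - 1) := by rw [← pow_succ']; congr 1; omega
      rw [this, mul_assoc, Nat.mul_div_cancel_left _ hr.pos]
    rw [dvd_pow_sub_one_iff a r _ (by omega), hnr, ← orderOf_dvd_iff_pow_eq_one, hord]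
    exact Dvd.intro_left _ rfl
  obtain ⟨r, hr, hrN⟩ := Nat.exists_prime_and_dvd (by omega : N ≠ 1)
  have huniq : ∀ s, s.Prime → s ∣ N → s = r := by
    intro s hs hsN
    have h1 := hmax r hr hrN
    have h2 := hmax s hs hsN
    exact le_antisymm (h1.2 s hs h2.1) (h2.2 r hr h1.1)
  have hNpow : N = r ^ N.primeFactorsList.length :=
    Nat.eq_prime_pow_of_unique_prime_dvd (by omega) (fun {d} hd hdN => huniq d hd hdN)
  obtain ⟨j, m, hj, hnm, hrm, hord, hmr⟩ := hstruct r hr hrN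
  have hrn : r ∣ n := (hmax r hr hrN).1
  have h1nat := hdvd_div r hr hrN
  have h1 : (r : ℤ) ∣ (a : ℤ) ^ (n / r) - 1 := by
    have := Int.natCast_dvd_natCast.mpr h1nat
    rwa [Nat.cast_sub (Nat.one_le_pow _ _ (by omega)), Nat.cast_pow, Nat.cast_one] at this
  have hsq : ¬ r ^ 2 ∣ N := by
    intro h
    have hΦ2 : (r : ℤ) ^ 2 ∣ Φ := by
      have : ((r ^ 2 : ℕ) : ℤ) ∣ Φ := Int.natCast_dvd.mpr h
      simpa using this
    rcases hr.eq_two_or_odd' with h2 | hodd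
    · subst h2
      have hm1 : m = 1 := by simpa using hmr
      subst hm1
      have hj2 : 2 ≤ j := by
        by_contra hlt
        have : j = 1 := by omega
        subst this
        simp at hnm
        omega
      have h4n : 4 ∣ n := by
        rw [hnm, mul_one]
        exact pow_dvd_pow 2 hj2
      have haodd : Odd a := by
        by_contra hev
        rw [Nat.not_odd_iff_even] at hev
        have hpos : 0 < n / 2 := Nat.div_pos (by omega) (by norm_num)
        have h3 : Even (a ^ (n / 2)) := (Nat.even_pow.mpr ⟨hev, by omega⟩)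
        have h4 : 1 ≤ a ^ (n / 2) := Nat.one_le_pow _ _ (by omega)
        obtain ⟨c, hc⟩ := h1nat
        obtain ⟨c', hc'⟩ := h3
        omega
      exact not_four_dvd a n ha hn0 h4n haodd (by exact_mod_cast hΦ2)
    · exact not_sq_dvd a n r ha hr hodd hrn hn0 h1 hΦ2
  have hNr : N = r := by
    rcases Nat.lt_or_ge N.primeFactorsList.length 2 with h | h
    · interval_cases hl : N.primeFactorsList.length
      · rw [pow_zero] at hNpow; omega
      · rw [pow_one] at hNpow; exact hNpow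
    · exfalso; apply hsq; rw [hNpow]; exact pow_dvd_pow r h
  have htot : r - 1 ≤ Nat.totient n := by
    have := Nat.totient_dvd_of_dvd hrn
    rw [Nat.totient_prime hr] at this
    exact Nat.le_of_dvd (Nat.totient_pos.mpr (by omega)) this
  rcases Nat.lt_or_ge a 3 with ha3 | ha3
  swap
  · have : r ≤ (a - 1) ^ (Nat.totient n) := by
      calc r ≤ 2 ^ (r - 1) := by
            have := Nat.lt_two_pow_self (n := r - 1); omega
        _ ≤ 2 ^ (Nat.totient n) := Nat.pow_le_pow_right (by norm_num) htot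
        _ ≤ (a - 1) ^ (Nat.totient n) := Nat.pow_le_pow_left (by omega) _
    omega
  · have ha2 : a = 2 := by omega
    subst ha2
    -- r is odd
    have hr3 : 3 ≤ r := by
      have h2 := hr.two_le
      rcases Nat.lt_or_ge r 3 with h | h
      · exfalso
        have hr2 : r = 2 := by omega
        subst hr2
        have hpos : 0 < n / 2 := Nat.div_pos (by omega) (by norm_num)
        have h3 : Even (2 ^ (n / 2)) := (Nat.even_pow.mpr ⟨even_two, by omega⟩)
        have h4 : 1 ≤ 2 ^ (n / 2) := Nat.one_le_pow _ _ (by omega)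
        obtain ⟨c, hc⟩ := h1nat
        obtain ⟨c', hc'⟩ := h3
        omega
      · exact h
    have hm0 : m ≠ 0 := by rintro rfl; simp at hnm; omega
    have hm2 : 2 ≤ m := by
      by_contra hlt
      have hm1 : m = 1 := by omega
      rw [hm1, orderOf_eq_one_iff] at hord
      have : r ∣ 2 ^ 1 - 1 := (dvd_pow_sub_one_iff 2 r 1 (by norm_num)).mpr (by rw [pow_one]; exact hord)
      norm_num at this
      omega
    set b : ℕ := 2 ^ (r ^ (j - 1)) with hb
    have hb2 : 2 ≤ b := by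
      calc 2 = 2 ^ 1 := by norm_num
        _ ≤ 2 ^ (r ^ (j - 1)) := Nat.pow_le_pow_right (by norm_num) (Nat.one_le_pow _ _ hr.pos)
    have hnb : n = m * r * r ^ (j - 1) := by
      rw [hnm]
      have : r ^ j = r * r ^ (j - 1) := by rw [← pow_succ']; congr 1; omega
      rw [this]; ring
    have hΦb : Φ = (cyclotomic (m * r) ℤ).eval ((b : ℤ)) := by
      rw [hΦ, hnb, eval_iter m r hr (j - 1), hb]
      push_cast
      rfl
    have hmul := eval_mul_aux m r hr hrm (b : ℤ)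
    rw [← hΦb] at hmul
    have hmulN : N * ((cyclotomic m ℤ).eval (b : ℤ)).natAbs =
        ((cyclotomic m ℤ).eval (((b ^ r : ℕ) : ℤ))).natAbs := by
      rw [hN, ← Int.natAbs_mul, hmul]; push_cast; rfl
    have hlow : (b ^ r - 1) ^ Nat.totient m < ((cyclotomic m ℤ).eval (((b ^ r : ℕ) : ℤ))).natAbs := by
      apply sub_one_pow_totient_lt_natAbs_cyclotomic_eval (by omega)
      have : 2 ^ 1 ≤ b ^ r := by
        calc 2 ^ 1 ≤ b ^ 1 := by simpa using hb2
          _ ≤ b ^ r := Nat.pow_le_pow_right (by omega) (by omega)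
      omega
    have hup := natAbs_cyclotomic_le m b hb2
    have htm : 1 ≤ Nat.totient m := Nat.totient_pos.mpr (by omega)
    have hkey : b ^ r - 1 < r * (b + 1) := by
      by_contra hge
      push_neg at hge
      have h1' : (r * (b + 1)) ^ Nat.totient m ≤ (b ^ r - 1) ^ Nat.totient m :=
        Nat.pow_le_pow_left hge _
      have h2' : r * (b + 1) ^ Nat.totient m ≤ (r * (b + 1)) ^ Nat.totient m := by
        rw [mul_pow]
        exact Nat.mul_le_mul_right _ (Nat.le_self_pow (by omega) r)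
      have h3' : N * ((cyclotomic m ℤ).eval (b : ℤ)).natAbs ≤ r * (b + 1) ^ Nat.totient m := by
        rw [hNr]; exact Nat.mul_le_mul_left _ hup
      omega
    obtain ⟨hb2', hr3'⟩ := small_case b r hb2 hr3 hkey
    have hj1 : j = 1 := by
      have h2 : 2 ^ (r ^ (j - 1)) = 2 ^ 1 := by rw [← hb, hb2', pow_one]
      have h3 := Nat.pow_right_injective (le_refl 2) h2
      have h4 : j - 1 = 0 := by
        by_contra hne
        have : r ^ 1 ≤ r ^ (j - 1) := Nat.pow_le_pow_right hr.pos (by omega)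
        rw [h3, pow_one] at this
        omega
      omega
    subst hr3'
    have hm2' : m = 2 := by
      have : m ≤ 2 := Nat.le_of_dvd (by norm_num) hmr
      omega
    apply h6
    refine ⟨rfl, ?_⟩
    rw [hnm, hj1, hm2']
    norm_num

theorem zsig_two (a : ℕ) (ha : 2 ≤ a) (h2 : ¬ ∃ m : ℕ, a + 1 = 2 ^ m) :
    ∃ r : ℕ, r.Prime ∧ r ∣ a ^ 2 - 1 ∧ ∀ k : ℕ, 0 < k → k < 2 → ¬ r ∣ a ^ k - 1 := by
  have hex : ∃ r, r.Prime ∧ r ∣ a + 1 ∧ r ≠ 2 := by
    by_contra hcon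
    push_neg at hcon
    apply h2
    exact ⟨_, Nat.eq_prime_pow_of_unique_prime_dvd (by omega) (fun {d} hd hda => hcon d hd hda)⟩
  obtain ⟨r, hr, hra, hr2⟩ := hex
  refine ⟨r, hr, ?_, ?_⟩
  · have h1 : a ^ 2 - 1 = (a + 1) * (a - 1) := by
      have := Nat.sq_sub_sq a 1
      simpa using this
    rw [h1]
    exact Dvd.dvd.mul_right hra _
  · intro k hk0 hk2 hd
    have hk1 : k = 1 := by omega
    subst hk1
    rw [pow_one] at hd
    have h3 : r ∣ (a + 1) - (a - 1) := Nat.dvd_sub hra hd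
    have h2' : (a + 1) - (a - 1) = 2 := by omega
    rw [h2'] at h3
    exact hr2 ((Nat.prime_dvd_prime_iff_eq hr Nat.prime_two).mp h3)

/-- Zsigmondy's Theorem: for natural numbers a > 1 and n > 1 there is a prime dividing aⁿ − 1 that divides aᵏ − 1 for no natural number 0 < k < n, unless a = 2 and n = 6, or n = 2 and a + 1 is a power of two. -/
theorem result (a n : ℕ) (ha : 1 < a) (hn : 1 < n) (h6 : ¬ (a = 2 ∧ n = 6)) (h2 : ¬ (n = 2 ∧ ∃ m : ℕ, a + 1 = 2 ^ m)) : ∃ r : ℕ, r.Prime ∧ r ∣ a ^ n - 1 ∧ ∀ k : ℕ, 0 < k → k < n → ¬ r ∣ a ^ k - 1 := by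
  rcases Nat.lt_or_ge n 3 with h | h
  · have hn2 : n = 2 := by omega
    subst hn2
    exact zsig_two a (by omega) (fun hm => h2 ⟨rfl, hm⟩)
  · exact zsig_ge_three a n (by omega) h h6

end Cfsg.Agent.S2904
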