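import Mathlib
import Cfsg.Statements.S2394
import Cfsg.Agent.S0245
import Cfsg.Agent.S2904

set_option autoImplicit false

open scoped MatrixGroups
open Cfsg

namespace Cfsg.Agent.S2394

theorem prime_dvd_card_GL {q d r : ℕ} (_hq : 1 ≤ q) (hr : r.Prime) (hrq : ¬ r ∣ q)
    (h : r ∣ ∏ i : Fin d, (q ^ d - q ^ (i : ℕ))) : ∃ k, 0 < k ∧ k ≤ d ∧ r ∣ q ^ k - 1 := by
  rw [Prime.dvd_finsetProd_iff (Nat.prime_iff.mp hr)] at h
  obtain ⟨i, _, hi⟩ := h
  have e : q ^ d - q ^ (i : ℕ) = q ^ (i : ℕ) * (q ^ (d - i) - 1) := by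
    rw [Nat.mul_sub, mul_one, ← pow_add]
    congr 2
    have := i.2; omega
  rw [e] at hi
  rcases (Nat.Prime.dvd_mul hr).mp hi with h1 | h1
  · exact absurd (hr.dvd_of_dvd_pow h1) hrq
  · exact ⟨d - i, by have := i.2; omega, by omega, h1⟩

/-- The smallest degree of a faithful representation of the symplectic group `Sp_{2n}(q)` over its own field `F_q` is `2n`: every injective homomorphism from `Sp_{2n}(F)` to `GL_d(F)`, `F` the field with `q` elements, has `d ≥ 2n`. -/
theorem result {F : Type*} [Field F] [Fintype F] (n : ℕ) {d : ℕ}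
    (ρ : ↥(Matrix.symplecticGroup (Fin n) F) →* GL (Fin d) F) (hρ : Function.Injective ρ) : 2 * n ≤ d := by
  by_contra hlt
  rw [not_le] at hlt
  have hq : 2 ≤ Fintype.card F := Fintype.one_lt_card
  have hdvd : Nat.card (Matrix.symplecticGroup (Fin n) F) ∣ Nat.card (GL (Fin d) F) :=
    Subgroup.card_dvd_of_injective ρ hρ
  rw [Cfsg.Agent.S0245.result (F := F) rfl n, Matrix.card_GL_field] at hdvd
  set q := Fintype.card F with hqdef
  have hn1 : 1 ≤ n := by omega
  rcases Nat.lt_or_ge n 2 with hn2 | hn2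
  · -- n = 1
    have hn : n = 1 := by omega
    subst hn
    have hd : d ≤ 1 := by omega
    have hpos : 0 < ∏ i : Fin d, (q ^ d - q ^ (i : ℕ)) := by
      apply Finset.prod_pos
      intro i _
      have : q ^ (i : ℕ) < q ^ d := Nat.pow_lt_pow_right (by omega) i.2
      omega
    have hle := Nat.le_of_dvd hpos hdvd
    have hGL : ∏ i : Fin d, (q ^ d - q ^ (i : ℕ)) ≤ q - 1 := by
      interval_cases d
      · simp; omega
      · simp
    have hSp : q ≤ q ^ (1 ^ 2) * ∏ i ∈ Finset.range 1, (q ^ (2 * (i + 1)) - 1) := by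
      simp only [one_pow, pow_one, Finset.range_one, Finset.prod_singleton, zero_add, mul_one]
      have : 1 ≤ q ^ 2 - 1 := by
        have : 4 ≤ q ^ 2 := by nlinarith
        omega
      nlinarith
    omega
  · by_cases hex : q = 2 ∧ n = 3
    · obtain ⟨hq2, hn3⟩ := hex
      rw [hq2, hn3] at hdvd
      have hd : d ≤ 5 := by omega
      interval_cases d <;> simp [Finset.prod_range_succ, Fin.prod_univ_succ] at hdvd
    · obtain ⟨r, hr, hr1, hr2⟩ := Cfsg.Agent.S2904.result q (2 * n) (by omega) (by omega)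
        (by rintro ⟨h1, h2⟩; exact hex ⟨h1, by omega⟩) (by rintro ⟨h1, _⟩; omega)
      have hrq : ¬ r ∣ q := by
        intro h
        have h1 : r ∣ q ^ (2 * n) := dvd_pow h (by omega)
        have h2 : 1 ≤ q ^ (2 * n) := Nat.one_le_pow _ _ (by omega)
        have h3 : r ∣ q ^ (2 * n) - (q ^ (2 * n) - 1) := Nat.dvd_sub h1 hr1
        have e : q ^ (2 * n) - (q ^ (2 * n) - 1) = 1 := by omega
        rw [e] at h3
        exact hr.one_lt.ne' (Nat.dvd_one.mp h3)
      have hrSp : r ∣ q ^ (n ^ 2) * ∏ i ∈ Finset.range n, (q ^ (2 * (i + 1)) - 1) := by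
        apply Dvd.dvd.mul_left
        have hmem : n - 1 ∈ Finset.range n := Finset.mem_range.mpr (by omega)
        have e : 2 * (n - 1 + 1) = 2 * n := by omega
        have := Finset.dvd_prod_of_mem (fun i => q ^ (2 * (i + 1)) - 1) hmem
        simp only [e] at this
        exact hr1.trans this
      obtain ⟨k, hk0, hkd, hk⟩ := prime_dvd_card_GL (by omega) hr hrq (hrSp.trans hdvd)
      exact hr2 k hk0 (by omega) hk

end Cfsg.Agent.S2394
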