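import Cfsg.Statements.S2418
import Cfsg.Agent.S1092
import Cfsg.Agent.S1093
import Cfsg.Agent.S1094
import Cfsg.Agent.Lib.Helper8_CoxWords

set_option autoImplicit false
open Cfsg

namespace Cfsg.Agent.S2418

open Cfsg.Agent.H8CE

section B2

def ptB2 : List ℕ := [0x3000100020000, 0x2000300000001]

def bpB2 : ℕ := 0x2000100000000

def bxB2 : ℕ := 0x1000000010000

def levelsB2 : List (ℕ × List (ℕ × ℕ) × List ℕ) :=
  [(0, [(0, 1), (1, 0), (2, 1)], [0]), (1, [(1, 0)], [])]

set_option maxRecDepth 1000000 in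
theorem hinvolB2 : checkInvol ptB2 4 2 = true := by decide +kernel

set_option maxRecDepth 1000000 in
theorem hwordsB2 : Cfsg.Agent.H8CoxB2.rels.all (checkWord ptB2 4 2) = true := by decide +kernel

set_option maxRecDepth 1000000 in
theorem htransB2 : checkTrans ptB2 bpB2 bxB2 4 2 = true := by decide +kernel

set_option maxRecDepth 1000000 in
theorem hchainB2 : 8 ≤ chainLB ptB2 4 2 (List.range 2) levelsB2 := by decide +kernel

set_option maxRecDepth 1000000 in
theorem hJB2 : ([0]).all (fun j => Nat.blt j 2 && Nat.beq (dig (nth ptB2 j) 0) 0) = true := by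
  decide +kernel

set_option maxRecDepth 1000000 in
theorem hcountB2 : countBelow (fun b => ([0]).all fun j => Nat.beq (dig (nth ptB2 j) b) b) 4 = 2 := by
  decide +kernel

set_option maxRecDepth 1000000 in
theorem hcentB2 : centCheck ptB2 4 2 2 = true := by decide +kernel

theorem centerB2 : Nat.card (Subgroup.center (CoxeterMatrix.B 2 : CoxeterMatrix (Fin 2)).Group) = 2 ∧
    Subgroup.center (CoxeterMatrix.B 2 : CoxeterMatrix (Fin 2)).Group ≤
      Subgroup.zpowers ((List.finRange 2).map (CoxeterMatrix.B 2 : CoxeterMatrix (Fin 2)).simple).prod :=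
  cox_center_two _ 4 8 (by norm_num) Cfsg.Agent.S1092.cardB2 Cfsg.Agent.H8CoxB2.rels Cfsg.Agent.S1092.hrelsB2
    ptB2 hinvolB2 hwordsB2 levelsB2 hchainB2 (by norm_num) bpB2 bxB2 htransB2
    [0] hJB2 hcountB2 2 hcentB2

end B2

section G2

def ptG2 : List ℕ := [0x500030004000100020000, 0x400050002000300000001]

def bpG2 : ℕ := 0x400030002000100000000

def bxG2 : ℕ := 0x100000001000000010000

def levelsG2 : List (ℕ × List (ℕ × ℕ) × List ℕ) :=
  [(0, [(0, 1), (1, 0), (2, 1), (3, 0), (4, 1)], [0]), (1, [(1, 0)], [])]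

set_option maxRecDepth 1000000 in
theorem hinvolG2 : checkInvol ptG2 6 2 = true := by decide +kernel

set_option maxRecDepth 1000000 in
theorem hwordsG2 : Cfsg.Agent.H8CoxG2.rels.all (checkWord ptG2 6 2) = true := by decide +kernel

set_option maxRecDepth 1000000 in
theorem htransG2 : checkTrans ptG2 bpG2 bxG2 6 2 = true := by decide +kernel

set_option maxRecDepth 1000000 in
theorem hchainG2 : 12 ≤ chainLB ptG2 6 2 (List.range 2) levelsG2 := by decide +kernel

set_option maxRecDepth 1000000 in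
theorem hJG2 : ([0]).all (fun j => Nat.blt j 2 && Nat.beq (dig (nth ptG2 j) 0) 0) = true := by
  decide +kernel

set_option maxRecDepth 1000000 in
theorem hcountG2 : countBelow (fun b => ([0]).all fun j => Nat.beq (dig (nth ptG2 j) b) b) 6 = 2 := by
  decide +kernel

set_option maxRecDepth 1000000 in
theorem hcentG2 : centCheck ptG2 6 2 3 = true := by decide +kernel

theorem centerG2 : Nat.card (Subgroup.center (CoxeterMatrix.G₂ : CoxeterMatrix (Fin 2)).Group) = 2 ∧
    Subgroup.center (CoxeterMatrix.G₂ : CoxeterMatrix (Fin 2)).Group ≤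
      Subgroup.zpowers ((List.finRange 2).map (CoxeterMatrix.G₂ : CoxeterMatrix (Fin 2)).simple).prod :=
  cox_center_two _ 6 12 (by norm_num) Cfsg.Agent.S1092.cardG2 Cfsg.Agent.H8CoxG2.rels Cfsg.Agent.S1092.hrelsG2
    ptG2 hinvolG2 hwordsG2 levelsG2 hchainG2 (by norm_num) bpG2 bxG2 htransG2
    [0] hJG2 hcountG2 3 hcentG2

end G2

section D4

def ptD4 : List ℕ := [0x70006000400050002000300010000, 0x70005000600040003000100020000, 0x70006000300020005000400010000, 0x60007000500040003000200000001]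

def bpD4 : ℕ := 0x60005000300020002000100000000

def bxD4 : ℕ := 0x30001000200020000000100030000

def levelsD4 : List (ℕ × List (ℕ × ℕ) × List ℕ) :=
  [(0, [(0, 3), (1, 1), (2, 0), (2, 2), (3, 2), (5, 1), (6, 3)], [0, 1, 2]), (1, [(1, 1), (2, 0), (2, 2), (3, 2), (5, 1)], [0, 2]), (2, [(2, 0), (2, 2), (3, 2)], [])]

set_option maxRecDepth 1000000 in
theorem hinvolD4 : checkInvol ptD4 8 4 = true := by decide +kernel

set_option maxRecDepth 1000000 in
theorem hwordsD4 : Cfsg.Agent.H8CoxD4.rels.all (checkWord ptD4 8 4) = true := by decide +kernel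

set_option maxRecDepth 1000000 in
theorem htransD4 : checkTrans ptD4 bpD4 bxD4 8 4 = true := by decide +kernel

set_option maxRecDepth 1000000 in
theorem hchainD4 : 192 ≤ chainLB ptD4 8 4 (List.range 4) levelsD4 := by decide +kernel

set_option maxRecDepth 1000000 in
theorem hJD4 : ([0, 1, 2]).all (fun j => Nat.blt j 4 && Nat.beq (dig (nth ptD4 j) 0) 0) = true := by
  decide +kernel

set_option maxRecDepth 1000000 in
theorem hcountD4 : countBelow (fun b => ([0, 1, 2]).all fun j => Nat.beq (dig (nth ptD4 j) b) b) 8 = 2 := by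
  decide +kernel

set_option maxRecDepth 1000000 in
theorem hcentD4 : centCheck ptD4 8 4 3 = true := by decide +kernel

theorem centerD4 : Nat.card (Subgroup.center (Cfsg.Lie.coxeterD4 : CoxeterMatrix (Fin 4)).Group) = 2 ∧
    Subgroup.center (Cfsg.Lie.coxeterD4 : CoxeterMatrix (Fin 4)).Group ≤
      Subgroup.zpowers ((List.finRange 4).map (Cfsg.Lie.coxeterD4 : CoxeterMatrix (Fin 4)).simple).prod :=
  cox_center_two _ 8 192 (by norm_num) Cfsg.Agent.S1092.cardD4 Cfsg.Agent.H8CoxD4.rels Cfsg.Agent.S1092.hrelsD4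
    ptD4 hinvolD4 hwordsD4 levelsD4 hchainD4 (by norm_num) bpD4 bxD4 htransD4
    [0, 1, 2] hJD4 hcountD4 3 hcentD4

end D4

section F4

def ptF4 : List ℕ := [0x1700160015001300140010000f00120011000e000d000c000b000a0007000800090005000600030004000200010000, 0x17001600140015001300120011000e000d0010000f000c0009000a000b000600070008000500040002000300010000, 0x170015001600120010001400110013000f000c000b000e000d00080009000a00070004000300060005000100020000, 0x16001700150014001300110012000f0010000d000e000a0008000c0006000b00050009000700040003000200000001]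

def bpF4 : ℕ := 0x1600150014001200100010000f000e000d000c000b000a000800080006000600050004000300030002000100000000

def bxF4 : ℕ := 0x300020001000200020000000000010001000200020003000300020003000100030002000200000001000200030000

def levelsF4 : List (ℕ × List (ℕ × ℕ) × List ℕ) :=
  [(0, [(0, 3), (1, 2), (2, 1), (3, 0), (3, 2), (4, 2), (5, 3), (6, 1), (6, 3), (8, 2), (8, 3), (10, 3), (11, 2), (12, 2), (13, 1), (14, 1), (15, 0), (16, 0), (16, 2), (18, 2), (20, 1), (21, 2), (22, 3)], [0, 1, 2]), (1, [(1, 2), (2, 1), (3, 0), (3, 2), (4, 2), (6, 1), (8, 2)], [0, 1]), (2, [(2, 1), (3, 0)], [0]), (3, [(3, 0)], [])]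

set_option maxRecDepth 1000000 in
theorem hinvolF4 : checkInvol ptF4 24 4 = true := by decide +kernel

set_option maxRecDepth 1000000 in
theorem hwordsF4 : Cfsg.Agent.H8CoxF4.rels.all (checkWord ptF4 24 4) = true := by decide +kernel

set_option maxRecDepth 1000000 in
theorem htransF4 : checkTrans ptF4 bpF4 bxF4 24 4 = true := by decide +kernel

set_option maxRecDepth 1000000 in
theorem hchainF4 : 1152 ≤ chainLB ptF4 24 4 (List.range 4) levelsF4 := by decide +kernel

set_option maxRecDepth 1000000 in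
theorem hJF4 : ([0, 1, 2]).all (fun j => Nat.blt j 4 && Nat.beq (dig (nth ptF4 j) 0) 0) = true := by
  decide +kernel

set_option maxRecDepth 1000000 in
theorem hcountF4 : countBelow (fun b => ([0, 1, 2]).all fun j => Nat.beq (dig (nth ptF4 j) b) b) 24 = 2 := by
  decide +kernel

set_option maxRecDepth 1000000 in
theorem hcentF4 : centCheck ptF4 24 4 6 = true := by decide +kernel

theorem centerF4 : Nat.card (Subgroup.center (CoxeterMatrix.F₄ : CoxeterMatrix (Fin 4)).Group) = 2 ∧
    Subgroup.center (CoxeterMatrix.F₄ : CoxeterMatrix (Fin 4)).Group ≤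
      Subgroup.zpowers ((List.finRange 4).map (CoxeterMatrix.F₄ : CoxeterMatrix (Fin 4)).simple).prod :=
  cox_center_two _ 24 1152 (by norm_num) Cfsg.Agent.S1092.cardF4 Cfsg.Agent.H8CoxF4.rels Cfsg.Agent.S1092.hrelsF4
    ptF4 hinvolF4 hwordsF4 levelsF4 hchainF4 (by norm_num) bpF4 bxF4 htransF4
    [0, 1, 2] hJF4 hcountF4 6 hcentF4

end F4

section E6

set_option maxRecDepth 1000000 in
theorem hJE6 : ([0, 1, 2, 3, 4]).all (fun j => Nat.blt j 6 && Nat.beq (dig (nth Cfsg.Agent.H8CoxE6.pt j) 0) 0) = true := by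
  decide +kernel

set_option maxRecDepth 1000000 in
theorem hcountE6 : countBelow (fun b => ([0, 1, 2, 3, 4]).all fun j => Nat.beq (dig (nth Cfsg.Agent.H8CoxE6.pt j) b) b) 27 = 1 := by
  decide +kernel

theorem centerE6 : Nat.card (Subgroup.center (CoxeterMatrix.E₆ : CoxeterMatrix (Fin 6)).Group) = 1 ∧
    Subgroup.center (CoxeterMatrix.E₆ : CoxeterMatrix (Fin 6)).Group ≤
      Subgroup.zpowers ((List.finRange 6).map (CoxeterMatrix.E₆ : CoxeterMatrix (Fin 6)).simple).prod :=
  cox_center_one _ 27 51840 (by norm_num) Cfsg.Agent.S1093.cardE6 Cfsg.Agent.H8CoxE6.rels Cfsg.Agent.S1093.hrelsE6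
    Cfsg.Agent.H8CoxE6.pt Cfsg.Agent.S1093.hinvolE6 Cfsg.Agent.S1093.hwordsE6 Cfsg.Agent.S1093.levelsE6
    Cfsg.Agent.S1094.hchainE6 (by norm_num) Cfsg.Agent.H8CoxE6.bp Cfsg.Agent.H8CoxE6.bx Cfsg.Agent.S1093.htransE6
    [0, 1, 2, 3, 4] hJE6 hcountE6

end E6

section E7

set_option maxRecDepth 1000000 in
theorem hJE7 : ([0, 1, 2, 3, 4, 5]).all (fun j => Nat.blt j 7 && Nat.beq (dig (nth Cfsg.Agent.H8CoxE7.pt j) 0) 0) = true := by
  decide +kernel

set_option maxRecDepth 1000000 in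
theorem hcountE7 : countBelow (fun b => ([0, 1, 2, 3, 4, 5]).all fun j => Nat.beq (dig (nth Cfsg.Agent.H8CoxE7.pt j) b) b) 56 = 2 := by
  decide +kernel

set_option maxRecDepth 1000000 in
theorem hcentE7 : centCheck Cfsg.Agent.H8CoxE7.pt 56 7 9 = true := by decide +kernel

theorem centerE7 : Nat.card (Subgroup.center (CoxeterMatrix.E₇ : CoxeterMatrix (Fin 7)).Group) = 2 ∧
    Subgroup.center (CoxeterMatrix.E₇ : CoxeterMatrix (Fin 7)).Group ≤
      Subgroup.zpowers ((List.finRange 7).map (CoxeterMatrix.E₇ : CoxeterMatrix (Fin 7)).simple).prod :=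
  cox_center_two _ 56 2903040 (by norm_num) Cfsg.Agent.S1093.cardE7 Cfsg.Agent.H8CoxE7.rels Cfsg.Agent.S1093.hrelsE7
    Cfsg.Agent.H8CoxE7.pt Cfsg.Agent.S1093.hinvolE7 Cfsg.Agent.S1093.hwordsE7 Cfsg.Agent.S1093.levelsE7
    Cfsg.Agent.S1094.hchainE7 (by norm_num) Cfsg.Agent.H8CoxE7.bp Cfsg.Agent.H8CoxE7.bx Cfsg.Agent.S1093.htransE7
    [0, 1, 2, 3, 4, 5] hJE7 hcountE7 9 hcentE7

end E7

section E8

set_option maxRecDepth 1000000 in
theorem hJE8 : ([0, 1, 2, 3, 4, 5, 6]).all (fun j => Nat.blt j 8 && Nat.beq (dig (nth Cfsg.Agent.H8CoxE8.pt j) 0) 0) = true := by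
  decide +kernel

set_option maxRecDepth 1000000 in
theorem hcountE8 : countBelow (fun b => ([0, 1, 2, 3, 4, 5, 6]).all fun j => Nat.beq (dig (nth Cfsg.Agent.H8CoxE8.pt j) b) b) 240 = 2 := by
  decide +kernel

set_option maxRecDepth 1000000 in
theorem hcentE8 : centCheck Cfsg.Agent.H8CoxE8.pt 240 8 15 = true := by decide +kernel

theorem centerE8 : Nat.card (Subgroup.center (CoxeterMatrix.E₈ : CoxeterMatrix (Fin 8)).Group) = 2 ∧
    Subgroup.center (CoxeterMatrix.E₈ : CoxeterMatrix (Fin 8)).Group ≤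
      Subgroup.zpowers ((List.finRange 8).map (CoxeterMatrix.E₈ : CoxeterMatrix (Fin 8)).simple).prod :=
  cox_center_two _ 240 696729600 (by norm_num) Cfsg.Agent.S1093.cardE8 Cfsg.Agent.H8CoxE8.rels Cfsg.Agent.S1093.hrelsE8
    Cfsg.Agent.H8CoxE8.pt Cfsg.Agent.S1093.hinvolE8 Cfsg.Agent.S1093.hwordsE8 Cfsg.Agent.S1093.levelsE8
    Cfsg.Agent.S1094.hchainE8 (by norm_num) Cfsg.Agent.H8CoxE8.bp Cfsg.Agent.H8CoxE8.bx Cfsg.Agent.S1093.htransE8
    [0, 1, 2, 3, 4, 5, 6] hJE8 hcountE8 15 hcentE8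

end E8

/-- the centres of the Weyl groups -/
theorem result (c : (Σ n : ℕ, CoxeterMatrix (Fin n)) × ℕ)
    (hc : c ∈ [(⟨2, CoxeterMatrix.B 2⟩, 2), (⟨2, CoxeterMatrix.G₂⟩, 2), (⟨4, Cfsg.Lie.coxeterD4⟩, 2), (⟨4, CoxeterMatrix.F₄⟩, 2),
      (⟨6, CoxeterMatrix.E₆⟩, 1), (⟨7, CoxeterMatrix.E₇⟩, 2), (⟨8, CoxeterMatrix.E₈⟩, 2)]) :
    Nat.card (Subgroup.center c.1.2.Group) = c.2 ∧
      Subgroup.center c.1.2.Group ≤ Subgroup.zpowers ((List.finRange c.1.1).map c.1.2.simple).prod := by
  simp only [List.mem_cons, List.mem_nil_iff, or_false] at hc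
  rcases hc with rfl | rfl | rfl | rfl | rfl | rfl | rfl
  · exact centerB2
  · exact centerG2
  · exact centerD4
  · exact centerF4
  · exact centerE6
  · exact centerE7
  · exact centerE8

end Cfsg.Agent.S2418
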