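import Cfsg.Statements.S2419
import Cfsg.Agent.S1092
import Cfsg.Agent.S1093
import Cfsg.Agent.S1094
import Cfsg.Agent.S2418
import Cfsg.Agent.Lib.Helper8_CoxGen

set_option autoImplicit false
open Cfsg

namespace Cfsg.Agent.S2419

open Cfsg.Agent.H8CE

section B2

def metasB2 : List (List ℕ) := [[2], [1, 2]]

set_option maxRecDepth 1000000 in
theorem hgenB2 : genCheck Cfsg.Agent.S2418.ptB2 4 2 [List.range 2, (List.range 2).reverse, [0]] metasB2 = true := by decide +kernel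

theorem genB2 : ∃ T : Finset (CoxeterMatrix.B 2 : CoxeterMatrix (Fin 2)).Group, T.card = 1 ∧
    (∀ t ∈ T, ∃ (g : (CoxeterMatrix.B 2 : CoxeterMatrix (Fin 2)).Group) (i : Fin 2),
      t = g * (CoxeterMatrix.B 2 : CoxeterMatrix (Fin 2)).simple i * g⁻¹) ∧
    Subgroup.closure (({((List.finRange 2).map (CoxeterMatrix.B 2 : CoxeterMatrix (Fin 2)).simple).prod} :
      Set (CoxeterMatrix.B 2 : CoxeterMatrix (Fin 2)).Group) ∪ ↑T) = ⊤ :=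
  cox_gen_one _ 4 8 (by norm_num) Cfsg.Agent.S1092.cardB2 Cfsg.Agent.H8CoxB2.rels Cfsg.Agent.S1092.hrelsB2
    Cfsg.Agent.S2418.ptB2 Cfsg.Agent.S2418.hinvolB2 Cfsg.Agent.S2418.hwordsB2 Cfsg.Agent.S2418.levelsB2 Cfsg.Agent.S2418.hchainB2 0 (by norm_num) metasB2 hgenB2

end B2

section G2

def metasG2 : List (List ℕ) := [[2], [1, 2]]

set_option maxRecDepth 1000000 in
theorem hgenG2 : genCheck Cfsg.Agent.S2418.ptG2 6 2 [List.range 2, (List.range 2).reverse, [0]] metasG2 = true := by decide +kernel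

theorem genG2 : ∃ T : Finset (CoxeterMatrix.G₂ : CoxeterMatrix (Fin 2)).Group, T.card = 1 ∧
    (∀ t ∈ T, ∃ (g : (CoxeterMatrix.G₂ : CoxeterMatrix (Fin 2)).Group) (i : Fin 2),
      t = g * (CoxeterMatrix.G₂ : CoxeterMatrix (Fin 2)).simple i * g⁻¹) ∧
    Subgroup.closure (({((List.finRange 2).map (CoxeterMatrix.G₂ : CoxeterMatrix (Fin 2)).simple).prod} :
      Set (CoxeterMatrix.G₂ : CoxeterMatrix (Fin 2)).Group) ∪ ↑T) = ⊤ :=
  cox_gen_one _ 6 12 (by norm_num) Cfsg.Agent.S1092.cardG2 Cfsg.Agent.H8CoxG2.rels Cfsg.Agent.S1092.hrelsG2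
    Cfsg.Agent.S2418.ptG2 Cfsg.Agent.S2418.hinvolG2 Cfsg.Agent.S2418.hwordsG2 Cfsg.Agent.S2418.levelsG2 Cfsg.Agent.S2418.hchainG2 0 (by norm_num) metasG2 hgenG2

end G2

section D4

def metasD4 : List (List ℕ) := [[1, 3, 0], [3], [2], [3, 1, 2, 0, 3]]

set_option maxRecDepth 1000000 in
theorem hgenD4 : genCheck Cfsg.Agent.S2418.ptD4 8 4 [List.range 4, (List.range 4).reverse, [2], [1]] metasD4 = true := by decide +kernel

set_option maxRecDepth 1000000 in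
theorem hneD4 : neCheck Cfsg.Agent.S2418.ptD4 8 4 [2] [1] = true := by decide +kernel

theorem genD4 : ∃ T : Finset (Cfsg.Lie.coxeterD4 : CoxeterMatrix (Fin 4)).Group, T.card = 2 ∧
    (∀ t ∈ T, ∃ (g : (Cfsg.Lie.coxeterD4 : CoxeterMatrix (Fin 4)).Group) (i : Fin 4),
      t = g * (Cfsg.Lie.coxeterD4 : CoxeterMatrix (Fin 4)).simple i * g⁻¹) ∧
    Subgroup.closure (({((List.finRange 4).map (Cfsg.Lie.coxeterD4 : CoxeterMatrix (Fin 4)).simple).prod} :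
      Set (Cfsg.Lie.coxeterD4 : CoxeterMatrix (Fin 4)).Group) ∪ ↑T) = ⊤ :=
  cox_gen_two _ 8 192 (by norm_num) Cfsg.Agent.S1092.cardD4 Cfsg.Agent.H8CoxD4.rels Cfsg.Agent.S1092.hrelsD4
    Cfsg.Agent.S2418.ptD4 Cfsg.Agent.S2418.hinvolD4 Cfsg.Agent.S2418.hwordsD4 Cfsg.Agent.S2418.levelsD4 Cfsg.Agent.S2418.hchainD4 2 1 (by norm_num) (by norm_num) hneD4 metasD4 hgenD4

end D4

section F4

def metasF4 : List (List ℕ) := [[2], [0, 2, 1], [3], [0, 3, 1]]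

set_option maxRecDepth 1000000 in
theorem hgenF4 : genCheck Cfsg.Agent.S2418.ptF4 24 4 [List.range 4, (List.range 4).reverse, [0], [2]] metasF4 = true := by decide +kernel

set_option maxRecDepth 1000000 in
theorem hneF4 : neCheck Cfsg.Agent.S2418.ptF4 24 4 [0] [2] = true := by decide +kernel

theorem genF4 : ∃ T : Finset (CoxeterMatrix.F₄ : CoxeterMatrix (Fin 4)).Group, T.card = 2 ∧
    (∀ t ∈ T, ∃ (g : (CoxeterMatrix.F₄ : CoxeterMatrix (Fin 4)).Group) (i : Fin 4),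
      t = g * (CoxeterMatrix.F₄ : CoxeterMatrix (Fin 4)).simple i * g⁻¹) ∧
    Subgroup.closure (({((List.finRange 4).map (CoxeterMatrix.F₄ : CoxeterMatrix (Fin 4)).simple).prod} :
      Set (CoxeterMatrix.F₄ : CoxeterMatrix (Fin 4)).Group) ∪ ↑T) = ⊤ :=
  cox_gen_two _ 24 1152 (by norm_num) Cfsg.Agent.S1092.cardF4 Cfsg.Agent.H8CoxF4.rels Cfsg.Agent.S1092.hrelsF4
    Cfsg.Agent.S2418.ptF4 Cfsg.Agent.S2418.hinvolF4 Cfsg.Agent.S2418.hwordsF4 Cfsg.Agent.S2418.levelsF4 Cfsg.Agent.S2418.hchainF4 0 2 (by norm_num) (by norm_num) hneF4 metasF4 hgenF4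

end F4

section E6

def metasE6 : List (List ℕ) := [[2], [1, 2, 1, 1, 1, 2, 0, 0, 0, 2, 0], [0, 2, 1], [0, 0, 0, 0, 0, 2, 1, 1, 1, 1, 1], [1, 1, 1, 1, 1, 1, 2, 0, 0, 0, 0, 0, 0], [1, 1, 1, 1, 1, 2, 0, 0, 0, 0, 0]]

set_option maxRecDepth 1000000 in
theorem hgenE6 : genCheck Cfsg.Agent.H8CoxE6.pt 27 6 [List.range 6, (List.range 6).reverse, [0]] metasE6 = true := by decide +kernel

theorem genE6 : ∃ T : Finset (CoxeterMatrix.E₆ : CoxeterMatrix (Fin 6)).Group, T.card = 1 ∧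
    (∀ t ∈ T, ∃ (g : (CoxeterMatrix.E₆ : CoxeterMatrix (Fin 6)).Group) (i : Fin 6),
      t = g * (CoxeterMatrix.E₆ : CoxeterMatrix (Fin 6)).simple i * g⁻¹) ∧
    Subgroup.closure (({((List.finRange 6).map (CoxeterMatrix.E₆ : CoxeterMatrix (Fin 6)).simple).prod} :
      Set (CoxeterMatrix.E₆ : CoxeterMatrix (Fin 6)).Group) ∪ ↑T) = ⊤ :=
  cox_gen_one _ 27 51840 (by norm_num) Cfsg.Agent.S1093.cardE6 Cfsg.Agent.H8CoxE6.rels Cfsg.Agent.S1093.hrelsE6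
    Cfsg.Agent.H8CoxE6.pt Cfsg.Agent.S1093.hinvolE6 Cfsg.Agent.S1093.hwordsE6 Cfsg.Agent.S1093.levelsE6 Cfsg.Agent.S1094.hchainE6 0 (by norm_num) metasE6 hgenE6

end E6

section E7

def metasE7 : List (List ℕ) := [[1, 2, 1, 1, 1, 1, 2, 0, 0, 0, 0, 2, 0], [2, 0, 2, 1, 1, 1, 1, 2, 0, 0, 0, 0, 2, 1, 2], [2, 1, 1, 1, 1, 2, 0, 0, 0, 0, 2], [2], [0, 2, 1], [0, 0, 2, 1, 1], [0, 0, 0, 2, 1, 1, 1]]

set_option maxRecDepth 1000000 in
theorem hgenE7 : genCheck Cfsg.Agent.H8CoxE7.pt 56 7 [List.range 7, (List.range 7).reverse, [3]] metasE7 = true := by decide +kernel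

theorem genE7 : ∃ T : Finset (CoxeterMatrix.E₇ : CoxeterMatrix (Fin 7)).Group, T.card = 1 ∧
    (∀ t ∈ T, ∃ (g : (CoxeterMatrix.E₇ : CoxeterMatrix (Fin 7)).Group) (i : Fin 7),
      t = g * (CoxeterMatrix.E₇ : CoxeterMatrix (Fin 7)).simple i * g⁻¹) ∧
    Subgroup.closure (({((List.finRange 7).map (CoxeterMatrix.E₇ : CoxeterMatrix (Fin 7)).simple).prod} :
      Set (CoxeterMatrix.E₇ : CoxeterMatrix (Fin 7)).Group) ∪ ↑T) = ⊤ :=
  cox_gen_one _ 56 2903040 (by norm_num) Cfsg.Agent.S1093.cardE7 Cfsg.Agent.H8CoxE7.rels Cfsg.Agent.S1093.hrelsE7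
    Cfsg.Agent.H8CoxE7.pt Cfsg.Agent.S1093.hinvolE7 Cfsg.Agent.S1093.hwordsE7 Cfsg.Agent.S1093.levelsE7 Cfsg.Agent.S1094.hchainE7 3 (by norm_num) metasE7 hgenE7

end E7

section E8

def metasE8 : List (List ℕ) := [[1, 2, 0, 0, 0, 0, 0, 0, 2, 1, 1, 1, 1, 1, 1, 2, 0], [2, 0, 2, 0, 0, 0, 0, 0, 0, 2, 1, 1, 1, 1, 1, 1, 2, 1, 2], [2, 0, 0, 0, 0, 0, 0, 2, 1, 1, 1, 1, 1, 1, 2], [2], [0, 2, 1], [0, 0, 2, 1, 1], [0, 0, 0, 2, 1, 1, 1], [0, 0, 0, 0, 2, 1, 1, 1, 1]]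

set_option maxRecDepth 1000000 in
theorem hgenE8 : genCheck Cfsg.Agent.H8CoxE8.pt 240 8 [List.range 8, (List.range 8).reverse, [3]] metasE8 = true := by decide +kernel

theorem genE8 : ∃ T : Finset (CoxeterMatrix.E₈ : CoxeterMatrix (Fin 8)).Group, T.card = 1 ∧
    (∀ t ∈ T, ∃ (g : (CoxeterMatrix.E₈ : CoxeterMatrix (Fin 8)).Group) (i : Fin 8),
      t = g * (CoxeterMatrix.E₈ : CoxeterMatrix (Fin 8)).simple i * g⁻¹) ∧
    Subgroup.closure (({((List.finRange 8).map (CoxeterMatrix.E₈ : CoxeterMatrix (Fin 8)).simple).prod} :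
      Set (CoxeterMatrix.E₈ : CoxeterMatrix (Fin 8)).Group) ∪ ↑T) = ⊤ :=
  cox_gen_one _ 240 696729600 (by norm_num) Cfsg.Agent.S1093.cardE8 Cfsg.Agent.H8CoxE8.rels Cfsg.Agent.S1093.hrelsE8
    Cfsg.Agent.H8CoxE8.pt Cfsg.Agent.S1093.hinvolE8 Cfsg.Agent.S1093.hwordsE8 Cfsg.Agent.S1093.levelsE8 Cfsg.Agent.S1094.hchainE8 3 (by norm_num) metasE8 hgenE8

end E8

/-- generation by the Coxeter element and one or two reflections -/
theorem result (c : (Σ n : ℕ, CoxeterMatrix (Fin n)) × ℕ)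
    (hc : c ∈ [(⟨2, CoxeterMatrix.B 2⟩, 1), (⟨2, CoxeterMatrix.G₂⟩, 1), (⟨4, Cfsg.Lie.coxeterD4⟩, 2), (⟨4, CoxeterMatrix.F₄⟩, 2),
      (⟨6, CoxeterMatrix.E₆⟩, 1), (⟨7, CoxeterMatrix.E₇⟩, 1), (⟨8, CoxeterMatrix.E₈⟩, 1)]) :
    ∃ T : Finset c.1.2.Group, T.card = c.2 ∧ (∀ t ∈ T, ∃ (g : c.1.2.Group) (i : Fin c.1.1), t = g * c.1.2.simple i * g⁻¹) ∧
      Subgroup.closure (({((List.finRange c.1.1).map c.1.2.simple).prod} : Set c.1.2.Group) ∪ ↑T) = ⊤ := by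
  simp only [List.mem_cons, List.mem_nil_iff, or_false] at hc
  rcases hc with rfl | rfl | rfl | rfl | rfl | rfl | rfl
  · exact genB2
  · exact genG2
  · exact genD4
  · exact genF4
  · exact genE6
  · exact genE7
  · exact genE8

end Cfsg.Agent.S2419
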