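import Cfsg.Statements.S2541
import Cfsg.Agent.Lib.Helper4_PGL
import Cfsg.Agent.Lib.Helper4_PermOrder

set_option autoImplicit false
open Cfsg

namespace Cfsg.Agent.S2541


/-- Let F be a field with 9 elements. The symmetric group S_6 is not isomorphic to PGL_2(F) (although both have index-2 subgroups isomorphic to A_6). -/
theorem result {F : Type*} [Field F] [Fintype F] (hF : Fintype.card F = 9) : ¬ Nonempty (Equiv.Perm (Fin 6) ≃* Matrix.ProjGenLinGroup (Fin 2) F) := by
  rintro ⟨e⟩
  obtain ⟨x, hx⟩ := Cfsg.Agent.Lib.Helper4_PGL.pgl_order (F := F)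
  rw [hF] at hx
  have h1 : orderOf (e.symm x) = 8 := by
    rw [MulEquiv.orderOf_eq e.symm x, hx]
  exact Cfsg.Agent.Lib.Helper4_PermOrder.no_order_eight _ h1

end Cfsg.Agent.S2541
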