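import Cfsg.Statements.S2550
import Cfsg.Agent.S0256
import Cfsg.Agent.S0243
import Cfsg.Agent.S0819
import Mathlib

set_option autoImplicit false
open Cfsg

namespace Cfsg.Agent.S2550

theorem card4 {F : Type*} [Field F] [Fintype F] (hF : Fintype.card F = 2) :
    Nat.card (Matrix.ProjectiveSpecialLinearGroup (Fin 4) F) = 20160 := by
  have h := Cfsg.Agent.S0243.result hF 4 (by norm_num)
  simp [Fin.prod_univ_four] at h
  omega

theorem card3 {K : Type*} [Field K] [Fintype K] (hK : Fintype.card K = 4) :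
    Nat.card (Matrix.ProjectiveSpecialLinearGroup (Fin 3) K) = 20160 := by
  have h := Cfsg.Agent.S0243.result hK 3 (by norm_num)
  simp [Fin.prod_univ_three] at h
  omega

def sig : Equiv.Perm (Fin 8) := c[0, 1, 2] * c[3, 4, 5, 6, 7]

theorem sig_mem : sig ∈ alternatingGroup (Fin 8) := by
  rw [Equiv.Perm.mem_alternatingGroup]
  decide

theorem sig_order : orderOf sig = 15 := by
  rw [orderOf_eq_iff (by norm_num)]
  refine ⟨by decide +kernel, ?_⟩
  intro m hm hm0
  interval_cases m <;> decide +kernel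

theorem result {F K : Type*} [Field F] [Fintype F] [Field K] [Fintype K] (hF : Fintype.card F = 2) (hK : Fintype.card K = 4) : Nat.card (Matrix.ProjectiveSpecialLinearGroup (Fin 4) F) = Nat.card (Matrix.ProjectiveSpecialLinearGroup (Fin 3) K) ∧ ¬ Nonempty (Matrix.ProjectiveSpecialLinearGroup (Fin 4) F ≃* Matrix.ProjectiveSpecialLinearGroup (Fin 3) K) := by
  refine ⟨by rw [card4 hF, card3 hK], ?_⟩
  rintro ⟨f⟩
  obtain ⟨e⟩ := Cfsg.Agent.S0256.result hF
  let g : alternatingGroup (Fin 8) := ⟨sig, sig_mem⟩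
  have hg : orderOf g = 15 := by
    rw [← sig_order]
    exact Subgroup.orderOf_mk sig sig_mem
  have h1 : orderOf (f (e.symm g)) = 15 := by
    rw [MulEquiv.orderOf_eq, MulEquiv.orderOf_eq, hg]
  exact Cfsg.Agent.S0819.result hK _ h1

end Cfsg.Agent.S2550
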