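import Cfsg.Statements.S2566
import Cfsg.Agent.S0250
import Cfsg.Agent.S0287
import Mathlib

set_option autoImplicit false
open Cfsg

namespace Cfsg.Agent.S2566

open Matrix

abbrev I4 := Fin 2 ⊕ Fin 2
abbrev SL2 := Matrix.SpecialLinearGroup (Fin 2) (ZMod 2)
abbrev O4 := Cfsg.isometryGroup (ZMod 2) (Cfsg.quadFormPlus 2 (ZMod 2))

/-- position of a coordinate in the 2 × 2 matrix `[[x1, x2], [y2, y1]]` -/
def idx : I4 → Fin 2 × Fin 2
  | .inl i => (0, i)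
  | .inr i => (1, 1 - i)

def Lmat (g : Matrix (Fin 2) (Fin 2) (ZMod 2)) : Matrix I4 I4 (ZMod 2) :=
  Matrix.of fun i j => if (idx j).2 = (idx i).2 then g (idx i).1 (idx j).1 else 0

def Rmat (h : Matrix (Fin 2) (Fin 2) (ZMod 2)) : Matrix I4 I4 (ZMod 2) :=
  Matrix.of fun i j => if (idx j).1 = (idx i).1 then h (idx i).2 (idx j).2 else 0

def Tmat : Matrix I4 I4 (ZMod 2) :=
  Matrix.of fun i j => if idx j = ((idx i).2, (idx i).1) then 1 else 0

theorem L_one : Lmat (1 : SL2).1 = 1 := by decide +kernel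
theorem R_one : Rmat (1 : SL2).1 = 1 := by decide +kernel
theorem L_mul : ∀ g h : SL2, Lmat (g * h).1 = Lmat g.1 * Lmat h.1 := by decide +kernel
theorem R_mul : ∀ g h : SL2, Rmat (g * h).1 = Rmat g.1 * Rmat h.1 := by decide +kernel
theorem L_pres : ∀ g : SL2, ∀ v : I4 → ZMod 2,
    Cfsg.quadFormPlus 2 (ZMod 2) (Lmat g.1 *ᵥ v) = Cfsg.quadFormPlus 2 (ZMod 2) v := by
  decide +kernel
theorem R_pres : ∀ g : SL2, ∀ v : I4 → ZMod 2,
    Cfsg.quadFormPlus 2 (ZMod 2) (Rmat g.1 *ᵥ v) = Cfsg.quadFormPlus 2 (ZMod 2) v := by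
  decide +kernel
theorem LR_comm : ∀ g h : SL2, Lmat g.1 * Rmat h.1 = Rmat h.1 * Lmat g.1 := by decide +kernel
theorem LR_eq : ∀ g h : SL2, Lmat g.1 = Rmat h.1 → g = 1 ∧ h = 1 := by decide +kernel
theorem L_inj : ∀ g : SL2, Lmat g.1 = 1 → g = 1 := by decide +kernel
theorem R_inj : ∀ g : SL2, Rmat g.1 = 1 → g = 1 := by decide +kernel
theorem T_sq : Tmat * Tmat = 1 := by decide +kernel
theorem T_pres : ∀ v : I4 → ZMod 2,
    Cfsg.quadFormPlus 2 (ZMod 2) (Tmat *ᵥ v) = Cfsg.quadFormPlus 2 (ZMod 2) v := by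
  decide +kernel
theorem T_conj : ∀ g : SL2, Tmat * Lmat g.1 * Tmat = Rmat g.1 := by decide +kernel
theorem card_SL2 : Fintype.card SL2 = 6 := by decide +kernel


def fL0 : SL2 →* Matrix I4 I4 (ZMod 2) where
  toFun g := Lmat g.1
  map_one' := L_one
  map_mul' := L_mul

def fR0 : SL2 →* Matrix I4 I4 (ZMod 2) where
  toFun g := Rmat g.1
  map_one' := R_one
  map_mul' := R_mul

theorem mem_O4 (g : Matrix.GeneralLinearGroup I4 (ZMod 2))
    (h : ∀ v : I4 → ZMod 2, Cfsg.quadFormPlus 2 (ZMod 2) ((g : Matrix I4 I4 (ZMod 2)) *ᵥ v) =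
      Cfsg.quadFormPlus 2 (ZMod 2) v) : g ∈ O4 :=
  fun u _ => h u

def fL : SL2 →* O4 :=
  (fL0.toHomUnits).codRestrict O4 (fun g => mem_O4 _ (fun v => L_pres g v))

def fR : SL2 →* O4 :=
  (fR0.toHomUnits).codRestrict O4 (fun g => mem_O4 _ (fun v => R_pres g v))

theorem fL_val (g : SL2) : (((fL g : O4) : Matrix.GeneralLinearGroup I4 (ZMod 2)) :
    Matrix I4 I4 (ZMod 2)) = Lmat g.1 := rfl

theorem fR_val (g : SL2) : (((fR g : O4) : Matrix.GeneralLinearGroup I4 (ZMod 2)) :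
    Matrix I4 I4 (ZMod 2)) = Rmat g.1 := rfl

theorem O4_ext (x y : O4) (h : ((x : Matrix.GeneralLinearGroup I4 (ZMod 2)) :
    Matrix I4 I4 (ZMod 2)) = ((y : Matrix.GeneralLinearGroup I4 (ZMod 2)) :
    Matrix I4 I4 (ZMod 2))) : x = y :=
  Subtype.ext (Units.ext h)

theorem fL_inj : Function.Injective fL := by
  rw [injective_iff_map_eq_one]
  intro g hg
  apply L_inj
  rw [← fL_val, hg]; rfl

theorem fR_inj : Function.Injective fR := by
  rw [injective_iff_map_eq_one]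
  intro g hg
  apply R_inj
  rw [← fR_val, hg]; rfl

theorem comm_LR (g h : SL2) : Commute (fL g) (fR h) := by
  apply O4_ext
  show Lmat g.1 * Rmat h.1 = Rmat h.1 * Lmat g.1
  exact LR_comm g h

theorem disj : fL.range ⊓ fR.range = ⊥ := by
  rw [eq_bot_iff]
  rintro x ⟨⟨g, rfl⟩, ⟨h, hh⟩⟩
  have h1 : Lmat g.1 = Rmat h.1 := by
    rw [← fL_val, ← fR_val, hh]
  have h2 := (LR_eq g h h1).1
  rw [h2, map_one]
  exact Subgroup.mem_bot.mpr rfl

def tau : O4 :=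
  ⟨⟨Tmat, Tmat, T_sq, T_sq⟩, mem_O4 _ (fun v => T_pres v)⟩

theorem conj_tau (g : SL2) : tau * fL g * tau⁻¹ = fR g := by
  apply O4_ext
  show Tmat * Lmat g.1 * Tmat = Rmat g.1
  exact T_conj g

theorem result :
    Nat.card ↥(Cfsg.isometryGroup (ZMod 2) (Cfsg.quadFormPlus 2 (ZMod 2))) = 72 ∧
    ∃ (A B : Subgroup ↥(Cfsg.isometryGroup (ZMod 2) (Cfsg.quadFormPlus 2 (ZMod 2)))),
      Nonempty (↥A ≃* Equiv.Perm (Fin 3)) ∧ Nonempty (↥B ≃* Equiv.Perm (Fin 3)) ∧ A ⊓ B = ⊥ ∧ (∀ a ∈ A, ∀ b ∈ B, a * b = b * a) ∧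
      (A ⊔ B).index = 2 ∧ ∃ g : ↥(Cfsg.isometryGroup (ZMod 2) (Cfsg.quadFormPlus 2 (ZMod 2))), A.map (MulAut.conj g).toMonoidHom = B := by
  have hcard : Nat.card O4 = 72 := by
    have h := Cfsg.Agent.S0287.result (F := ZMod 2) (q := 2) (ZMod.card 2) 2 (by norm_num)
    rw [h]
    decide
  obtain ⟨e⟩ := Cfsg.Agent.S0250.result (F := ZMod 2) (ZMod.card 2)
  refine ⟨hcard, fL.range, fR.range, ⟨(MonoidHom.ofInjective fL_inj).symm.trans e⟩,
    ⟨(MonoidHom.ofInjective fR_inj).symm.trans e⟩, disj, ?_, ?_, tau, ?_⟩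
  · rintro _ ⟨g, rfl⟩ _ ⟨h, rfl⟩
    exact comm_LR g h
  · have hinj : Function.Injective (MonoidHom.noncommCoprod fL fR comm_LR) := by
      rw [MonoidHom.noncommCoprod_injective]
      exact ⟨fL_inj, fR_inj, disjoint_iff.mpr disj⟩
    have hrange := MonoidHom.noncommCoprod_range fL fR comm_LR
    have hc : Nat.card ↥(fL.range ⊔ fR.range) = 36 := by
      rw [← hrange, ← Nat.card_congr (MonoidHom.ofInjective hinj).toEquiv, Nat.card_prod,
        Nat.card_eq_fintype_card, card_SL2]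
    have h2 := Subgroup.card_mul_index (fL.range ⊔ fR.range)
    rw [hc, hcard] at h2
    omega
  · ext x
    constructor
    · rintro ⟨_, ⟨g, rfl⟩, rfl⟩
      exact ⟨g, (conj_tau g).symm⟩
    · rintro ⟨g, rfl⟩
      exact ⟨fL g, ⟨g, rfl⟩, conj_tau g⟩

end Cfsg.Agent.S2566
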