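import Mathlib
import Cfsg.Statements.S2569
import Cfsg.Agent.Lib.Helper7_SemisimpleDet

set_option autoImplicit false

open Cfsg

namespace Cfsg.Agent.S2569


/-- In GL_n over a finite field of characteristic p, the conjugacy class of a semisimple element (an element of order prime to p) under the special linear group is its whole GL-conjugacy class: for every such x and every invertible g there is h of determinant one with h x h⁻¹ = g x g⁻¹. -/
theorem result {F : Type*} [Field F] [Fintype F] {p : ℕ} [Fact p.Prime] [CharP F p] {n : ℕ} (x g : GL (Fin n) F) (hx : (orderOf x).Coprime p) : ∃ h : GL (Fin n) F, (h : Matrix (Fin n) (Fin n) F).det = 1 ∧ h * x * h⁻¹ = g * x * g⁻¹ := by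
  classical
  rcases Nat.eq_zero_or_pos n with hn | hn
  · subst hn
    exact ⟨g, Matrix.det_isEmpty, rfl⟩
  haveI : NeZero n := ⟨by omega⟩
  haveI : Finite F := Finite.of_fintype F
  have hp : p.Prime := Fact.out
  set k := orderOf x with hk
  have hkF : (k : F) ≠ 0 := by
    intro h0
    have h1 : p ∣ k := (CharP.cast_eq_zero_iff F p k).mp h0
    have h2 : p ∣ Nat.gcd k p := Nat.dvd_gcd h1 dvd_rfl
    rw [Nat.Coprime] at hx
    rw [hx] at h2
    exact hp.one_lt.ne' (Nat.dvd_one.mp h2)
  set T : (Fin n → F) →ₗ[F] (Fin n → F) := Matrix.toLinAlgEquiv' (x : Matrix (Fin n) (Fin n) F) with hT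
  have hTk : T ^ k = 1 := by
    rw [hT, ← map_pow, ← Units.val_pow_eq_pow_val, hk, pow_orderOf_eq_one, Units.val_one, map_one]
  obtain ⟨c, hc1, hc2⟩ := Cfsg.Agent.Lib.Helper7_SemisimpleDet.exists_comm_det T k hkF hTk
    (g : Matrix (Fin n) (Fin n) F).det
  set C : Matrix (Fin n) (Fin n) F := Matrix.toLinAlgEquiv'.symm c with hC
  have hcC : Matrix.toLinAlgEquiv' C = c := by rw [hC, AlgEquiv.apply_symm_apply]
  have hdetC : C.det = (g : Matrix (Fin n) (Fin n) F).det := by
    rw [← hc2, ← hcC]
    exact (LinearMap.det_toLin' C).symm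
  have hcomm : C * (x : Matrix (Fin n) (Fin n) F) = (x : Matrix (Fin n) (Fin n) F) * C := by
    apply Matrix.toLinAlgEquiv'.injective
    rw [map_mul, map_mul, hcC]
    exact hc1
  have hgdet : (g : Matrix (Fin n) (Fin n) F).det ≠ 0 := by
    have := (Matrix.isUnit_iff_isUnit_det _).mp g.isUnit
    exact this.ne_zero
  set cG : GL (Fin n) F := Matrix.GeneralLinearGroup.mkOfDetNeZero C (by rw [hdetC]; exact hgdet) with hcG
  have hcGv : (cG : Matrix (Fin n) (Fin n) F) = C := rfl
  have hcomm' : cG * x = x * cG := by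
    apply Units.ext
    rw [Units.val_mul, Units.val_mul, hcGv]
    exact hcomm
  refine ⟨g * cG⁻¹, ?_, ?_⟩
  · have h1 : (Matrix.GeneralLinearGroup.det (g * cG⁻¹) : Fˣ) = 1 := by
      rw [map_mul, map_inv]
      have : Matrix.GeneralLinearGroup.det g = Matrix.GeneralLinearGroup.det cG := by
        apply Units.ext
        rw [Matrix.GeneralLinearGroup.val_det_apply, Matrix.GeneralLinearGroup.val_det_apply, hcGv, hdetC]
      rw [this, mul_inv_cancel]
    have h2 := congrArg Units.val h1
    rw [Matrix.GeneralLinearGroup.val_det_apply, Units.val_one] at h2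
    exact h2
  · have h3 : cG⁻¹ * x * cG = x := by
      rw [mul_assoc, ← hcomm', ← mul_assoc, inv_mul_cancel, one_mul]
    calc g * cG⁻¹ * x * (g * cG⁻¹)⁻¹ = g * (cG⁻¹ * x * cG) * g⁻¹ := by group
      _ = g * x * g⁻¹ := by rw [h3]

end Cfsg.Agent.S2569
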