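import Cfsg.Statements.S2594
import Mathlib
import Cfsg.Agent.S0269
import Cfsg.Agent.S0245
import Cfsg.Agent.Lib.Lead_Class

set_option autoImplicit false
open Cfsg

namespace Cfsg.Agent.S2594

open Matrix Cfsg.Agent.Lib.Helper1_Symp Cfsg.Agent.Helper9Sp Cfsg.Agent.S0269

variable {F : Type*} [Field F] {m : ℕ}

lemma form_left_ne_zero (u : Fin m ⊕ Fin m → F) (hu : u ≠ 0) :
    ∃ x, sympForm m F x u ≠ 0 := by
  obtain ⟨x, hx⟩ := exists_form_ne_zero u hu
  exact ⟨x, by rw [sympForm_swap]; exact neg_ne_zero.2 hx⟩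

/-- a symplectic matrix `g` with `g - 1` of rank one is a transvection -/
lemma eq_tv_of_rank_one (g : Matrix.symplecticGroup (Fin m) F)
    (h : (g.1 - 1).rank = 1) : ∃ (u : Fin m ⊕ Fin m → F) (c : F), u ≠ 0 ∧ c ≠ 0 ∧ g = tv u c := by
  unfold Matrix.rank at h
  obtain ⟨⟨a, ha⟩, ha0, hspan⟩ := finrank_eq_one_iff'.1 h
  have ha0' : a ≠ 0 := fun h0 => ha0 (Subtype.ext h0)
  have hφ : ∀ x, ∃ c : F, (g.1 - 1) *ᵥ x = c • a := by
    intro x
    obtain ⟨c, hc⟩ := hspan ⟨(g.1 - 1) *ᵥ x, ⟨x, rfl⟩⟩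
    exact ⟨c, (congrArg Subtype.val hc).symm⟩
  choose φ hφ using hφ
  have hg : ∀ x, g.1 *ᵥ x = x + φ x • a := by
    intro x
    have := hφ x
    rw [Matrix.sub_mulVec, Matrix.one_mulVec, sub_eq_iff_eq_add] at this
    rw [this, add_comm]
  have hp := (mem_symplecticGroup_iff_preserves g.1).1 g.2
  have key : ∀ x y, φ y * sympForm m F x a = φ x * sympForm m F y a := by
    intro x y
    have := hp x y
    rw [hg, hg, sympForm_add_left, sympForm_add_right, sympForm_add_right, sympForm_smul_left,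
      sympForm_smul_left, sympForm_smul_right, sympForm_smul_right, sympForm_self,
      sympForm_swap a y] at this
    linear_combination this
  obtain ⟨y₀, hy₀⟩ := ha
  have hy₀' : (g.1 - 1) *ᵥ y₀ = a := hy₀
  have hφy₀ : φ y₀ = 1 := by
    have h1 := hφ y₀
    rw [hy₀'] at h1
    have h2 : (φ y₀ - 1) • a = 0 := by rw [sub_smul, one_smul, ← h1, sub_self]
    rcases smul_eq_zero.1 h2 with h3 | h3
    · exact sub_eq_zero.1 h3
    · exact absurd h3 ha0'
  set κ := sympForm m F y₀ a with hκdef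
  have hκ : κ ≠ 0 := by
    intro h0
    obtain ⟨x, hx⟩ := form_left_ne_zero a ha0'
    have := key x y₀
    rw [hφy₀, ← hκdef, h0, one_mul, mul_zero] at this
    exact hx this
  have hφx : ∀ x, φ x = κ⁻¹ * sympForm m F x a := by
    intro x
    have := key x y₀
    rw [hφy₀, ← hκdef, one_mul] at this
    rw [this]
    field_simp
  refine ⟨a, κ⁻¹, ha0', inv_ne_zero hκ, ?_⟩
  apply Cfsg.Agent.S0269.sp_ext
  intro x
  rw [hg, tv_mulVec, hφx]

/-- in characteristic two over a finite field, every transvection is `tv u 1` -/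
lemma eq_tv_one [Fintype F] [CharP F 2] (g : Matrix.symplecticGroup (Fin m) F)
    (h : (g.1 - 1).rank = 1) : ∃ u : Fin m ⊕ Fin m → F, u ≠ 0 ∧ g = tv u 1 := by
  obtain ⟨a, c, ha, hc, rfl⟩ := eq_tv_of_rank_one g h
  have hsurj : Function.Surjective (frobenius F 2) :=
    (Finite.injective_iff_surjective).1 (frobenius_inj F 2)
  obtain ⟨s, hs⟩ := hsurj c
  have hs' : s * s = c := by rw [← hs, frobenius_def, pow_two]
  have hs0 : s ≠ 0 := by
    rintro rfl
    rw [mul_zero] at hs'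
    exact hc hs'.symm
  refine ⟨s • a, smul_ne_zero hs0 ha, ?_⟩
  rw [tv_smul, mul_one, hs']

lemma tv_one_injective [CharP F 2] (w w' : Fin m ⊕ Fin m → F) (hw : w ≠ 0)
    (h : tv w (1 : F) = tv w' 1) : w = w' := by
  obtain ⟨x, hx⟩ := form_left_ne_zero w hw
  have h1 : ∀ y, sympForm m F y w • w = sympForm m F y w' • w' := by
    intro y
    have := congrArg (fun g : Matrix.symplecticGroup (Fin m) F => g.1 *ᵥ y) h
    simp only [tv_mulVec, one_mul] at this
    exact add_left_cancel this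
  -- w = λ • w'
  set lam := (sympForm m F x w)⁻¹ * sympForm m F x w' with hlam
  have hw' : w = lam • w' := by
    rw [hlam, mul_smul, ← h1 x, smul_smul, inv_mul_cancel₀ hx, one_smul]
  have h2 := h1 x
  rw [hw', sympForm_smul_right, smul_smul] at h2
  have hw'0 : w' ≠ 0 := by
    rintro rfl
    rw [smul_zero] at hw'
    exact hw hw'
  have hx' : sympForm m F x w' ≠ 0 := by
    intro h0
    rw [hw', sympForm_smul_right, h0, mul_zero] at hx
    exact hx rfl
  have h3 : (lam * sympForm m F x w' * lam - sympForm m F x w') • w' = 0 := by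
    rw [sub_smul, h2, sub_self]
  rcases smul_eq_zero.1 h3 with h4 | h4
  · have h5 : (lam * lam - 1) * sympForm m F x w' = 0 := by linear_combination h4
    rcases mul_eq_zero.1 h5 with h6 | h6
    · have h7 : (lam - 1) * (lam - 1) = 0 := by
        have h2' : (2 : F) = 0 := CharP.cast_eq_zero F 2
        linear_combination h6 + (1 - lam) * h2'
      have h8 : lam = 1 := by
        rcases mul_eq_zero.1 h7 with h9 | h9 <;> exact sub_eq_zero.1 h9
      rw [hw', h8, one_smul]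
    · exact absurd h6 hx'
  · exact absurd h4 hw'0

/-- Over a finite field with q elements, q even, an element t of Sp_2m(F) with rank(t − 1) = 1 (a symplectic transvection) has centraliser in Sp_2m(F) of order q^(2m−1) · |Sp_(2m−2)(q)| = q^(2m−1) · q^((m−1)²) · Π_(i=1)^(m−1) (q^(2i) − 1). -/
theorem result {F : Type*} [Field F] [Fintype F] [CharP F 2] {q : ℕ} (hF : Fintype.card F = q) {m : ℕ} (hm : 1 ≤ m) (t : Matrix.symplecticGroup (Fin m) F) (ht : ((t : Matrix (Fin m ⊕ Fin m) (Fin m ⊕ Fin m) F) - 1).rank = 1) : Nat.card ↥(Subgroup.centralizer ({t} : Set ↥(Matrix.symplecticGroup (Fin m) F))) = q ^ (2 * m - 1) * (q ^ ((m - 1) ^ 2) * ∏ i : Fin (m - 1), (q ^ (2 * ((i : ℕ) + 1)) - 1)) := by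
  classical
  obtain ⟨u, hu, rfl⟩ := eq_tv_one t ht
  -- the class of t
  have hclass : Nat.card {x : Matrix.symplecticGroup (Fin m) F // IsConj (tv u (1 : F)) x} =
      q ^ (2 * m) - 1 := by
    have e : {w : Fin m ⊕ Fin m → F // w ≠ 0} ≃
        {x : Matrix.symplecticGroup (Fin m) F // IsConj (tv u (1 : F)) x} := by
      refine Equiv.ofBijective (fun w => ⟨tv w.1 1, ?_⟩) ⟨?_, ?_⟩
      · obtain ⟨s, hs⟩ := Cfsg.Agent.S0271.result m u w.1 hu w.2
        rw [isConj_iff]
        exact ⟨s, by rw [tv_conj, hs]⟩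
      · intro w w' h
        apply Subtype.ext
        exact tv_one_injective w.1 w'.1 w.2 (congrArg Subtype.val h)
      · rintro ⟨x, hx⟩
        obtain ⟨s, rfl⟩ := isConj_iff.1 hx
        refine ⟨⟨s.1 *ᵥ u, ?_⟩, Subtype.ext (tv_conj s u 1).symm⟩
        intro h0
        have h1 : (s⁻¹).1 *ᵥ (s.1 *ᵥ u) = u := by
          rw [← Cfsg.Agent.S0269.mul_mulVec, inv_mul_cancel, one_mulVec']
        rw [h0, Matrix.mulVec_zero] at h1
        exact hu h1.symm
    rw [← Nat.card_congr e, Nat.card_eq_fintype_card]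
    have := Set.card_ne_eq (0 : Fin m ⊕ Fin m → F)
    rw [show Fintype.card {w : Fin m ⊕ Fin m → F // w ≠ 0} =
      Fintype.card {x : Fin m ⊕ Fin m → F | x ≠ 0} from rfl, this, Fintype.card_fun,
      Fintype.card_sum, Fintype.card_fin, hF, two_mul]
  have hmul := Cfsg.Agent.Lib.Lead_Class.card_class_mul_card_centralizer (tv u (1 : F))
  rw [hclass, Cfsg.Agent.S0245.result hF m] at hmul
  obtain ⟨k, rfl⟩ : ∃ k, m = k + 1 := ⟨m - 1, by omega⟩
  rw [Finset.prod_range_succ] at hmul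
  show Nat.card _ = q ^ (2 * (k + 1) - 1) * (q ^ (k ^ 2) *
    ∏ i : Fin k, (q ^ (2 * ((i : ℕ) + 1)) - 1))
  rw [show ∏ i : Fin k, (q ^ (2 * ((i : ℕ) + 1)) - 1) =
    ∏ i ∈ Finset.range k, (q ^ (2 * (i + 1)) - 1) from
    Fin.prod_univ_eq_prod_range (fun i => q ^ (2 * (i + 1)) - 1) k]
  have hqpos : 0 < q := by rw [← hF]; exact Fintype.card_pos
  have hq2 : 2 ≤ q := by
    rw [← hF]
    exact Fintype.one_lt_card
  have hpos : 0 < q ^ (2 * (k + 1)) - 1 := by
    have : 2 ^ (2 * (k + 1)) ≤ q ^ (2 * (k + 1)) := Nat.pow_le_pow_left hq2 _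
    have h4 : 2 ≤ 2 ^ (2 * (k + 1)) := by
      calc 2 = 2 ^ 1 := rfl
        _ ≤ 2 ^ (2 * (k + 1)) := Nat.pow_le_pow_right (by norm_num) (by omega)
    omega
  apply Nat.eq_of_mul_eq_mul_left hpos
  rw [hmul]
  have e1 : (k + 1) ^ 2 = (2 * (k + 1) - 1) + k ^ 2 := by
    have : 2 * (k + 1) - 1 = 2 * k + 1 := by omega
    rw [this]; ring
  rw [e1, pow_add]
  ring

end Cfsg.Agent.S2594
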