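import Cfsg.Statements.S2666
import Cfsg.Agent.Lib.Helper4_Shintani

set_option autoImplicit false
open Cfsg

namespace Cfsg.Agent.S2666

open Cfsg.Agent.Lib.Helper4_Shintani

/-- Shintani descent, in an abstract form. Let `σ` be an automorphism of a group `X` such that the maps `a ↦ a·σ(a)⁻¹` and `a ↦ a·σᵉ(a)⁻¹` are surjective on `X` (the Lang–Steinberg property, which holds when `X` is a connected algebraic group and `σ` a Steinberg endomorphism), where `e ≥ 1`. Write `G` for the subgroup of fixed points of `σᵉ` and `H` for the subgroup of fixed points of `σ`. The `G`-conjugacy classes in the coset `G σ` of the semidirect product of `G` by `σ` correspond to the orbits of `G` on itself under twisted conjugation `g ↦ k g σ(k)⁻¹`, and the `e`-th power of `g σ` has `G`-part the norm `g σ(g) ⋯ σ^(e-1)(g)`. For `g` in `G` and any `a` with `g = a σ(a)⁻¹`, put `x = σᵉ(a)⁻¹ a`. Then: (1) `x` lies in `H`, and `a⁻¹ · (g σ(g) ⋯ σ^(e-1)(g))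 · a = x`; (2) for `g, g'` in `G` with such elements `a, b` and `x, x'`, the elements `g, g'` are twisted-conjugate under `G` if and only if `x, x'` are conjugate in `H`; (3) every element of `H` arises as such an `x`. So `g ↦ x` induces a well-defined bijection from the twisted `G`-classes of `G` onto the conjugacy classes of `H` (the Shintani map). -/
theorem result {X : Type*} [Group X] (σ : MulAut X) (e : ℕ) (he : 1 ≤ e)
    (hL : ∀ g : X, ∃ a : X, g = a * (σ a)⁻¹) (hLe : ∀ g : X, ∃ a : X, g = a * ((σ ^ e) a)⁻¹) :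
    (∀ g ∈ (MulEquiv.toMonoidHom (σ ^ e)).eqLocus (MonoidHom.id X), ∀ a : X, g = a * (σ a)⁻¹ →
        ((σ ^ e) a)⁻¹ * a ∈ (MulEquiv.toMonoidHom σ).eqLocus (MonoidHom.id X) ∧
          a⁻¹ * ((List.range e).map (fun i => (σ ^ i) g)).prod * a = ((σ ^ e) a)⁻¹ * a) ∧
    (∀ g ∈ (MulEquiv.toMonoidHom (σ ^ e)).eqLocus (MonoidHom.id X), ∀ g' ∈ (MulEquiv.toMonoidHom (σ ^ e)).eqLocus (MonoidHom.id X), ∀ a b : X,
        g = a * (σ a)⁻¹ → g' = b * (σ b)⁻¹ →
          ((∃ k ∈ (MulEquiv.toMonoidHom (σ ^ e)).eqLocus (MonoidHom.id X), g' = k * g * (σ k)⁻¹) ↔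
            (∃ h ∈ (MulEquiv.toMonoidHom σ).eqLocus (MonoidHom.id X), ((σ ^ e) b)⁻¹ * b = h * (((σ ^ e) a)⁻¹ * a) * h⁻¹))) ∧
    (∀ x ∈ (MulEquiv.toMonoidHom σ).eqLocus (MonoidHom.id X), ∃ g ∈ (MulEquiv.toMonoidHom (σ ^ e)).eqLocus (MonoidHom.id X), ∃ a : X,
        g = a * (σ a)⁻¹ ∧ ((σ ^ e) a)⁻¹ * a = x) := by
  refine ⟨?_, ?_, ?_⟩
  · intro g hg a ha
    have hg' : (σ ^ e) g = g := hg
    refine ⟨x_fixed' σ e hg' ha, ?_⟩
    rw [prod_range σ g a ha e]; group
  · intro g hg g' hg' a b ha hb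
    have hgf : (σ ^ e) g = g := hg
    have hgf' : (σ ^ e) g' = g' := hg'
    have hsa : σ a = g⁻¹ * a := sigma_a σ ha
    have hsb : σ b = g'⁻¹ * b := sigma_a σ hb
    constructor
    · rintro ⟨k, hk, hkg⟩
      have hk' : (σ ^ e) k = k := hk
      have hsk : σ k = g'⁻¹ * k * g := by
        have : σ k = g'⁻¹ * (k * g * (σ k)⁻¹) * σ k := by rw [← hkg]; group
        rw [this]; group
      have hh : σ (b⁻¹ * k * a) = b⁻¹ * k * a := by
        rw [map_mul, map_mul, map_inv, hsa, hsb, hsk]; group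
      refine ⟨b⁻¹ * k * a, hh, ?_⟩
      have hh' : (σ ^ e) (b⁻¹ * k * a) = b⁻¹ * k * a := pow_fix σ hh e
      rw [map_mul, map_mul, map_inv, hk'] at hh'
      have h5 : ((σ ^ e) b)⁻¹ = b⁻¹ * k * a * ((σ ^ e) a)⁻¹ * k⁻¹ := by
        rw [← hh']; group
      rw [h5]; group
    · rintro ⟨h, hh, hx⟩
      have hh1 : σ h = h := hh
      have hh' : (σ ^ e) h = h := pow_fix σ hh1 e
      refine ⟨b * h * a⁻¹, ?_, ?_⟩
      · rw [mem_fix_iff, map_mul, map_mul, map_inv, hh']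
        have h6 : (σ ^ e) b = b * (h * (((σ ^ e) a)⁻¹ * a) * h⁻¹)⁻¹ := by
          rw [← hx]; group
        rw [h6]; group
      · rw [map_mul, map_mul, map_inv, hh1, hsa, hsb]; group
  · intro x hx
    have hx1 : σ x = x := hx
    obtain ⟨c, hc⟩ := hLe x⁻¹
    have hxe : (σ ^ e) x = x := pow_fix σ hx1 e
    have hta : (σ ^ e) c⁻¹ = c⁻¹ * x⁻¹ := by
      rw [map_inv]
      have : (σ ^ e) c = x * c := by
        have h7 : x = (c * ((σ ^ e) c)⁻¹)⁻¹ := by rw [← hc]; group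
        conv_rhs => rw [h7]
        group
      rw [this]; group
    obtain ⟨a, hta'⟩ : ∃ a : X, (σ ^ e) a = a * x⁻¹ := ⟨c⁻¹, hta⟩
    refine ⟨a * (σ a)⁻¹, ?_, a, rfl, ?_⟩
    · rw [mem_fix_iff, map_mul, map_inv, ← comm_pow, hta', map_mul, map_inv, hx1]; group
    · rw [hta']; group

end Cfsg.Agent.S2666
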