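import Cfsg.Statements.S2739
import Mathlib

set_option autoImplicit false
open scoped Pointwise
open Cfsg

namespace Cfsg.Agent.S2739

open Matrix

section field
variable {F : Type*} [Field F] [Fintype F]

lemma two_eq_zero (hF : Fintype.card F = 4) : (2 : F) = 0 := by
  have h4 : ((Fintype.card F : ℕ) : F) = 0 := Nat.cast_card_eq_zero F
  rw [hF] at h4
  have h : (2 : F) * 2 = 0 := by
    have e : ((4 : ℕ) : F) = 2 * 2 := by norm_num
    rw [← e]; exact h4
  exact mul_self_eq_zero.mp h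

lemma cube_eq_one (hF : Fintype.card F = 4) (c : F) (hc : c ≠ 0) : c ^ 3 = 1 := by
  have h := FiniteField.pow_card_sub_one_eq_one c hc
  simpa [hF] using h

lemma exists_omega (hF : Fintype.card F = 4) : ∃ ω : F, ω ^ 3 = 1 ∧ ω ^ 2 + ω + 1 = 0 := by
  classical
  have hlt : ({0, 1} : Finset F).card < (Finset.univ : Finset F).card := by
    rw [Finset.card_univ, hF]
    exact lt_of_le_of_lt Finset.card_le_two (by norm_num)
  obtain ⟨ω, -, hω⟩ := Finset.exists_mem_notMem_of_card_lt_card hlt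
  simp only [Finset.mem_insert, Finset.mem_singleton, not_or] at hω
  have h3 := cube_eq_one hF ω hω.1
  refine ⟨ω, h3, ?_⟩
  have h1 : ω - 1 ≠ 0 := sub_ne_zero.mpr hω.2
  have h0 : (ω - 1) * (ω ^ 2 + ω + 1) = 0 := by linear_combination h3
  exact (mul_eq_zero.mp h0).resolve_left h1

end field

section mat
variable {F : Type*} [Field F]

/-- the second coefficient of the characteristic polynomial of a `3 × 3` matrix -/
def s2 (A : Matrix (Fin 3) (Fin 3) F) : F :=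
  (A 0 0 * A 1 1 - A 0 1 * A 1 0) + (A 0 0 * A 2 2 - A 0 2 * A 2 0) +
    (A 1 1 * A 2 2 - A 1 2 * A 2 1)

lemma det_sub (A : Matrix (Fin 3) (Fin 3) F) (x : F) :
    (x • (1 : Matrix (Fin 3) (Fin 3) F) - A).det
      = x ^ 3 - A.trace * x ^ 2 + s2 A * x - A.det := by
  rw [det_fin_three, det_fin_three]
  simp [s2, Matrix.trace, Fin.sum_univ_three]
  ring

lemma cayley (A : Matrix (Fin 3) (Fin 3) F) :
    A * A * A = A.trace • (A * A) - s2 A • A + A.det • (1 : Matrix (Fin 3) (Fin 3) F) := by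
  ext i j
  fin_cases i <;> fin_cases j <;>
    simp [Matrix.mul_apply, Fin.sum_univ_three, s2, Matrix.trace, det_fin_three] <;>
    ring

lemma scalar_of_smul {A : Matrix (Fin 3) (Fin 3) F} {a b : F} (ha : a ≠ 0)
    (h : a • A = b • (1 : Matrix (Fin 3) (Fin 3) F)) :
    A = (a⁻¹ * b) • (1 : Matrix (Fin 3) (Fin 3) F) := by
  rw [← smul_smul, ← h, smul_smul, inv_mul_cancel₀ ha, one_smul]

lemma key' (h2 : (2 : F) = 0) (hcube : ∀ c : F, c ≠ 0 → c ^ 3 = 1)
    (A : Matrix (Fin 3) (Fin 3) F) (t s lam : F) (hlam : lam ≠ 0)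
    (hCH : lam • (1 : Matrix (Fin 3) (Fin 3) F)
      = t • (A * A) - s • A + (1 : F) • (1 : Matrix (Fin 3) (Fin 3) F))
    (hA3 : A * A * A = lam • (1 : Matrix (Fin 3) (Fin 3) F))
    (hns : ∀ r : F, A ≠ r • (1 : Matrix (Fin 3) (Fin 3) F)) :
    t = 0 ∧ s = 0 := by
  have hl3 := hcube lam hlam
  have h3 : t • (A * A) = s • A + (lam - 1) • (1 : Matrix (Fin 3) (Fin 3) F) := by
    ext i j
    have e := congrFun (congrFun hCH i) j
    simp only [Matrix.smul_apply, Matrix.add_apply, Matrix.sub_apply, smul_eq_mul] at e ⊢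
    linear_combination -e
  by_cases ht0 : t = 0
  · refine ⟨ht0, ?_⟩
    by_contra hs0
    have h5 : s • A = (1 - lam) • (1 : Matrix (Fin 3) (Fin 3) F) := by
      ext i j
      have e := congrFun (congrFun h3 i) j
      simp only [Matrix.smul_apply, Matrix.add_apply, smul_eq_mul] at e ⊢
      rw [ht0] at e
      linear_combination -e
    exact hns _ (scalar_of_smul hs0 h5)
  · exfalso
    have h4 : t • (A * A * A) = s • (A * A) + (lam - 1) • A := by
      have e := congrArg (fun M => A * M) h3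
      simp only [Matrix.mul_smul, Matrix.mul_add, Matrix.mul_one, ← Matrix.mul_assoc] at e
      exact e
    rw [hA3] at h4
    have hE : (s ^ 2 + t * (lam - 1)) • A
        = (t ^ 2 * lam - s * (lam - 1)) • (1 : Matrix (Fin 3) (Fin 3) F) := by
      ext i j
      have e3 := congrFun (congrFun h3 i) j
      have e4 := congrFun (congrFun h4 i) j
      simp only [Matrix.smul_apply, Matrix.add_apply, smul_eq_mul] at e3 e4 ⊢
      linear_combination (-t) * e4 + (-s) * e3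
    by_cases hc1 : s ^ 2 + t * (lam - 1) = 0
    · have hc2 : t ^ 2 * lam - s * (lam - 1) = 0 := by
        have e := congrFun (congrFun hE 0) 0
        simp only [Matrix.smul_apply, smul_eq_mul, hc1, zero_mul, Matrix.one_apply_eq,
          mul_one] at e
        exact e.symm
      have ht3 := hcube t ht0
      have h0 : t * lam = 0 := by
        linear_combination (lam - 1) ^ 2 * hc1 + (t ^ 2 * lam + s * (lam - 1)) * hc2
          - t * lam ^ 2 * ht3 - t * hl3 + (t * lam ^ 2 - t * lam) * h2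
      rcases mul_eq_zero.mp h0 with h | h
      · exact ht0 h
      · exact hlam h
    · exact hns _ (scalar_of_smul hc1 hE)

lemma key (h2 : (2 : F) = 0) (hcube : ∀ c : F, c ≠ 0 → c ^ 3 = 1)
    (A : Matrix (Fin 3) (Fin 3) F) (hdet : A.det = 1) (lam : F)
    (hA3 : A * A * A = lam • (1 : Matrix (Fin 3) (Fin 3) F))
    (hns : ∀ r : F, A ≠ r • (1 : Matrix (Fin 3) (Fin 3) F)) :
    A.trace = 0 ∧ s2 A = 0 := by
  have hlam : lam ≠ 0 := by
    rintro rfl
    have h0 : (A * A * A).det = 0 := by rw [hA3]; simp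
    rw [det_mul, det_mul, hdet] at h0
    norm_num at h0
  have hCH := cayley A
  rw [hdet, hA3] at hCH
  exact key' h2 hcube A _ _ lam hlam hCH hA3 hns

lemma exists_eigen (A : Matrix (Fin 3) (Fin 3) F) (hdet : A.det = 1) (htr : A.trace = 0)
    (hs : s2 A = 0) (μ : F) (hμ : μ ^ 3 = 1) :
    ∃ v : Fin 3 → F, v ≠ 0 ∧ A *ᵥ v = μ • v := by
  have hd : (μ • (1 : Matrix (Fin 3) (Fin 3) F) - A).det = 0 := by
    rw [det_sub, hdet, htr, hs, hμ]; ring
  obtain ⟨v, hv0, hv⟩ := Matrix.exists_mulVec_eq_zero_iff.mpr hd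
  refine ⟨v, hv0, ?_⟩
  rw [Matrix.sub_mulVec, Matrix.smul_mulVec, Matrix.one_mulVec, sub_eq_zero] at hv
  exact hv.symm

/-- the diagonal entries `1, ω, ω²` -/
def dvec (ω : F) : Fin 3 → F := ![1, ω, ω ^ 2]

@[simp] lemma dvec_zero (ω : F) : dvec ω 0 = 1 := rfl
@[simp] lemma dvec_one (ω : F) : dvec ω 1 = ω := rfl
@[simp] lemma dvec_two (ω : F) : dvec ω 2 = ω ^ 2 := rfl

/-- the matrix with given columns -/
def Qmat (v0 v1 v2 : Fin 3 → F) : Matrix (Fin 3) (Fin 3) F :=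
  Matrix.of fun i j => (![v0, v1, v2] : Fin 3 → Fin 3 → F) j i

omit [Field F] in
@[simp] lemma Qmat_zero (v0 v1 v2 : Fin 3 → F) (i : Fin 3) : Qmat v0 v1 v2 i 0 = v0 i := rfl
omit [Field F] in
@[simp] lemma Qmat_one (v0 v1 v2 : Fin 3 → F) (i : Fin 3) : Qmat v0 v1 v2 i 1 = v1 i := rfl
omit [Field F] in
@[simp] lemma Qmat_two (v0 v1 v2 : Fin 3 → F) (i : Fin 3) : Qmat v0 v1 v2 i 2 = v2 i := rfl

lemma Qmat_mulVec (v0 v1 v2 u : Fin 3 → F) (i : Fin 3) :
    (Qmat v0 v1 v2 *ᵥ u) i = v0 i * u 0 + v1 i * u 1 + v2 i * u 2 := by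
  simp [Matrix.mulVec, dotProduct, Fin.sum_univ_three]

lemma conj_diag (h2 : (2 : F) = 0) (ω : F) (hω3 : ω ^ 3 = 1) (hω : ω ^ 2 + ω + 1 = 0)
    (A : Matrix (Fin 3) (Fin 3) F) (hdet : A.det = 1) (htr : A.trace = 0) (hs : s2 A = 0) :
    ∃ Q : Matrix (Fin 3) (Fin 3) F, Q.det = 1 ∧ A * Q = Q * diagonal (dvec ω) := by
  obtain ⟨v0, hv0, e0⟩ := exists_eigen A hdet htr hs 1 (one_pow 3)
  obtain ⟨v1, hv1, e1⟩ := exists_eigen A hdet htr hs ω hω3
  obtain ⟨v2, hv2, e2⟩ := exists_eigen A hdet htr hs (ω ^ 2)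
    (by rw [← pow_mul, mul_comm, pow_mul, hω3, one_pow])
  have hAQ : A * Qmat v0 v1 v2 = Qmat v0 v1 v2 * diagonal (dvec ω) := by
    ext i j
    rw [Matrix.mul_diagonal]
    have hcol : (A * Qmat v0 v1 v2) i j = (A *ᵥ (fun k => Qmat v0 v1 v2 k j)) i := by
      simp [Matrix.mul_apply, Matrix.mulVec, dotProduct]
    rw [hcol]
    fin_cases j
    · show (A *ᵥ v0) i = v0 i * 1
      rw [e0]; simp
    · show (A *ᵥ v1) i = v1 i * ω
      rw [e1]; simp [mul_comm]
    · show (A *ᵥ v2) i = v2 i * ω ^ 2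
      rw [e2]; simp [mul_comm]
  have step : ∀ u : Fin 3 → F, Qmat v0 v1 v2 *ᵥ u = 0 →
      Qmat v0 v1 v2 *ᵥ (diagonal (dvec ω) *ᵥ u) = 0 := by
    intro u hu
    rw [Matrix.mulVec_mulVec, ← hAQ, ← Matrix.mulVec_mulVec, hu, Matrix.mulVec_zero]
  have hdw : ∀ u : Fin 3 → F, diagonal (dvec ω) *ᵥ u = fun k => dvec ω k * u k :=
    fun u => funext (Matrix.mulVec_diagonal (dvec ω) u)
  have hQdet : (Qmat v0 v1 v2).det ≠ 0 := by
    intro h0
    obtain ⟨w, hw0, hw⟩ := Matrix.exists_mulVec_eq_zero_iff.mpr h0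
    have hw2 := step w hw
    have hw3 := step _ hw2
    simp only [hdw] at hw2 hw3
    have f1 : ∀ i, v0 i * w 0 + v1 i * w 1 + v2 i * w 2 = 0 := by
      intro i
      have e := congrFun hw i
      rw [Qmat_mulVec] at e
      exact e
    have f2 : ∀ i, v0 i * w 0 + v1 i * (ω * w 1) + v2 i * (ω ^ 2 * w 2) = 0 := by
      intro i
      have e := congrFun hw2 i
      rw [Qmat_mulVec] at e
      simp only [dvec_zero, dvec_one, dvec_two, Pi.zero_apply] at e
      linear_combination e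
    have f3 : ∀ i, v0 i * w 0 + v1 i * (ω * (ω * w 1)) + v2 i * (ω ^ 2 * (ω ^ 2 * w 2)) = 0 := by
      intro i
      have e := congrFun hw3 i
      rw [Qmat_mulVec] at e
      simp only [dvec_zero, dvec_one, dvec_two, Pi.zero_apply] at e
      linear_combination e
    have g0 : ∀ i, w 0 * v0 i = 0 := fun i => by
      linear_combination f1 i + f2 i + f3 i - (w 0 * v0 i) * h2 - (w 1 * v1 i) * hω
        - (w 2 * v2 i) * hω - (w 2 * v2 i * ω) * hω3
    have g1 : ∀ i, w 1 * v1 i = 0 := fun i => by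
      linear_combination f1 i + ω ^ 2 * f2 i + ω * f3 i - (w 0 * v0 i) * hω
        - (w 1 * v1 i) * h2 - (2 * w 1 * v1 i) * hω3 - (w 2 * v2 i) * hω
        - (w 2 * v2 i * (ω + ω ^ 2)) * hω3
    have g2 : ∀ i, w 2 * v2 i = 0 := fun i => by
      linear_combination f1 i + ω * f2 i + ω ^ 2 * f3 i - (w 0 * v0 i) * hω
        - (w 1 * v1 i) * hω - (w 1 * v1 i * ω) * hω3 - (w 2 * v2 i) * h2
        - (w 2 * v2 i * (ω ^ 3 + 2)) * hω3
    have hz : ∀ (v : Fin 3 → F) (c : F), v ≠ 0 → (∀ i, c * v i = 0) → c = 0 := by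
      intro v c hv hc
      obtain ⟨i, hi⟩ := Function.ne_iff.mp hv
      exact (mul_eq_zero.mp (hc i)).resolve_right hi
    apply hw0
    ext k
    fin_cases k
    · exact hz v0 _ hv0 g0
    · exact hz v1 _ hv1 g1
    · exact hz v2 _ hv2 g2
  have hDZ : diagonal (dvec ω) * diagonal ![(Qmat v0 v1 v2).det⁻¹, 1, 1]
      = diagonal ![(Qmat v0 v1 v2).det⁻¹, 1, 1] * diagonal (dvec ω) := by
    rw [Matrix.diagonal_mul_diagonal, Matrix.diagonal_mul_diagonal]
    congr 1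
    ext i
    exact mul_comm _ _
  refine ⟨Qmat v0 v1 v2 * diagonal ![(Qmat v0 v1 v2).det⁻¹, 1, 1], ?_, ?_⟩
  · rw [Matrix.det_mul, Matrix.det_diagonal, Fin.prod_univ_three]
    simp [hQdet]
  · rw [← Matrix.mul_assoc, hAQ, Matrix.mul_assoc, hDZ, ← Matrix.mul_assoc]

end mat

section sl
variable {F : Type*} [Field F] [Fintype F]

lemma sl_conj (hF : Fintype.card F = 4) (ω : F) (hω3 : ω ^ 3 = 1) (hω : ω ^ 2 + ω + 1 = 0)
    (D : SpecialLinearGroup (Fin 3) F)
    (hD : (D : Matrix (Fin 3) (Fin 3) F) = diagonal (dvec ω))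
    (A : SpecialLinearGroup (Fin 3) F)
    (hA3 : A ^ 3 ∈ Subgroup.center (SpecialLinearGroup (Fin 3) F))
    (hA : A ∉ Subgroup.center (SpecialLinearGroup (Fin 3) F)) :
    ∃ P : SpecialLinearGroup (Fin 3) F, P⁻¹ * A * P = D := by
  have h2 := two_eq_zero hF
  have hcube := cube_eq_one hF
  obtain ⟨lam, -, hlam⟩ := Matrix.SpecialLinearGroup.mem_center_iff.mp hA3
  have hA3' : (A : Matrix (Fin 3) (Fin 3) F) * A * A
      = lam • (1 : Matrix (Fin 3) (Fin 3) F) := by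
    have e : ((A ^ 3 : SpecialLinearGroup (Fin 3) F) : Matrix (Fin 3) (Fin 3) F)
        = (A : Matrix (Fin 3) (Fin 3) F) * A * A := by
      rw [pow_succ, pow_two]
      simp only [Matrix.SpecialLinearGroup.coe_mul]
    rw [← e, ← hlam, Matrix.scalar_apply, Matrix.smul_one_eq_diagonal]
  have hns : ∀ r : F, (A : Matrix (Fin 3) (Fin 3) F) ≠ r • (1 : Matrix (Fin 3) (Fin 3) F) := by
    intro r hr
    apply hA
    rw [Matrix.SpecialLinearGroup.mem_center_iff]
    refine ⟨r, ?_, ?_⟩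
    · have hd := A.det_coe
      rw [hr, Matrix.det_smul, Matrix.det_one, mul_one] at hd
      exact hd
    · rw [hr, Matrix.scalar_apply, Matrix.smul_one_eq_diagonal]
  obtain ⟨htr, hs⟩ := key h2 hcube (A : Matrix (Fin 3) (Fin 3) F) A.det_coe lam hA3' hns
  obtain ⟨Q, hQ1, hQ⟩ := conj_diag h2 ω hω3 hω (A : Matrix (Fin 3) (Fin 3) F) A.det_coe htr hs
  obtain ⟨P, hP⟩ : ∃ P : SpecialLinearGroup (Fin 3) F, (P : Matrix (Fin 3) (Fin 3) F) = Q :=
    ⟨⟨Q, hQ1⟩, rfl⟩
  refine ⟨P, ?_⟩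
  have e : A * P = P * D := by
    apply Subtype.ext
    simp only [Matrix.SpecialLinearGroup.coe_mul]
    rw [hD, hP]
    exact hQ
  rw [mul_assoc, e, inv_mul_cancel_left]

end sl

lemma gen_lift {G : Type*} [Group G] (N : Subgroup G) [N.Normal] (X : Subgroup (G ⧸ N))
    (hX : Nat.card X = 3) :
    ∃ A : G, Subgroup.zpowers (QuotientGroup.mk A : G ⧸ N) = X ∧ A ^ 3 ∈ N ∧ A ∉ N := by
  have : Finite X := Nat.finite_of_card_ne_zero (by rw [hX]; norm_num)
  have : Fact (Nat.Prime 3) := ⟨Nat.prime_three⟩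
  obtain ⟨x, hx⟩ := exists_prime_orderOf_dvd_card' (G := X) 3 (by rw [hX])
  obtain ⟨A, hA⟩ := QuotientGroup.mk_surjective (x : G ⧸ N)
  have hox : orderOf (x : G ⧸ N) = 3 := by rw [Subgroup.orderOf_coe]; exact hx
  refine ⟨A, ?_, ?_, ?_⟩
  · rw [hA]
    apply Subgroup.eq_of_le_of_card_ge
    · exact Subgroup.zpowers_le.mpr x.2
    · rw [Nat.card_zpowers, hox, hX]
  · rw [← QuotientGroup.eq_one_iff, QuotientGroup.mk_pow, hA, ← hox, pow_orderOf_eq_one]
  · rw [← QuotientGroup.eq_one_iff, hA]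
    intro h1
    rw [h1, orderOf_one] at hox
    norm_num at hox

/-- In the projective special linear group PSL(3, 4) all subgroups of order 3 are conjugate. -/
theorem result (F : Type*) [Field F] [Fintype F] (hF : Fintype.card F = 4) (X Y : Subgroup (Matrix.ProjectiveSpecialLinearGroup (Fin 3) F)) (hX : Nat.card ↥X = 3) (hY : Nat.card ↥Y = 3) : ∃ g : Matrix.ProjectiveSpecialLinearGroup (Fin 3) F, MulAut.conj g • X = Y := by
  obtain ⟨ω, hω3, hω⟩ := exists_omega hF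
  have hDdet : (diagonal (dvec ω)).det = 1 := by
    rw [Matrix.det_diagonal, Fin.prod_univ_three]
    simp only [dvec_zero, dvec_one, dvec_two]
    linear_combination hω3
  obtain ⟨A, hAX, hA3, hA⟩ := gen_lift (Subgroup.center (SpecialLinearGroup (Fin 3) F)) X hX
  obtain ⟨B, hBY, hB3, hB⟩ := gen_lift (Subgroup.center (SpecialLinearGroup (Fin 3) F)) Y hY
  obtain ⟨P, hP⟩ := sl_conj hF ω hω3 hω ⟨diagonal (dvec ω), hDdet⟩ rfl A hA3 hA
  obtain ⟨R, hR⟩ := sl_conj hF ω hω3 hω ⟨diagonal (dvec ω), hDdet⟩ rfl B hB3 hB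
  have hBA : B = (R * P⁻¹) * A * (R * P⁻¹)⁻¹ := by
    have e : P⁻¹ * A * P = R⁻¹ * B * R := hP.trans hR.symm
    calc B = R * (R⁻¹ * B * R) * R⁻¹ := by group
      _ = R * (P⁻¹ * A * P) * R⁻¹ := by rw [e]
      _ = (R * P⁻¹) * A * (R * P⁻¹)⁻¹ := by group
  refine ⟨QuotientGroup.mk (R * P⁻¹), ?_⟩
  rw [← hAX, ← hBY]
  have e1 : MulAut.conj (QuotientGroup.mk (R * P⁻¹) :
        Matrix.ProjectiveSpecialLinearGroup (Fin 3) F) •
      Subgroup.zpowers (QuotientGroup.mk A : Matrix.ProjectiveSpecialLinearGroup (Fin 3) F)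
      = (Subgroup.zpowers (QuotientGroup.mk A :
          Matrix.ProjectiveSpecialLinearGroup (Fin 3) F)).map
        (MulAut.conj (QuotientGroup.mk (R * P⁻¹) :
          Matrix.ProjectiveSpecialLinearGroup (Fin 3) F)).toMonoidHom := rfl
  rw [e1, MonoidHom.map_zpowers]
  congr 1
  rw [hBA]
  rfl

end Cfsg.Agent.S2739
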