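import Cfsg.Statements.S2758
import Mathlib
import Cfsg.Agent.Lib.Helper5_InvDih

set_option autoImplicit false
open Cfsg

namespace Cfsg.Agent.S2758

open Cfsg.Agent.Lib

/-- For an odd prime p and a finite group G the following are equivalent: the dihedral group of order 2p is involved in G; some element of 2-power order normalizes but does not centralize some p-subgroup of G; some element of 2-power order inverts some nonidentity element of p-power order. -/
theorem result {G : Type*} [Group G] [Finite G] {p : ℕ} [Fact p.Prime] (hp : p ≠ 2) : (Cfsg.Involves (DihedralGroup p) G ↔ ∃ (x : G) (P : Subgroup G), (∃ k : ℕ, orderOf x = 2 ^ k) ∧ IsPGroup p ↥P ∧ x ∈ Subgroup.normalizer (P : Set G) ∧ x ∉ Subgroup.centralizer (P : Set G)) ∧ (Cfsg.Involves (DihedralGroup p) G ↔ ∃ x y : G, (∃ k : ℕ, orderOf x = 2 ^ k) ∧ (∃ k : ℕ, orderOf y = p ^ k) ∧ y ≠ 1 ∧ x * y * x⁻¹ = y⁻¹) := by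
  have hpp : p.Prime := Fact.out
  -- (A) ⇒ (C)
  have hAC : Cfsg.Involves (DihedralGroup p) G → ∃ x y : G, (∃ k : ℕ, orderOf x = 2 ^ k) ∧
      (∃ k : ℕ, orderOf y = p ^ k) ∧ y ≠ 1 ∧ x * y * x⁻¹ = y⁻¹ := by
    intro h
    rw [Helper8_Involves.involves_iff] at h
    obtain ⟨K, f, hf⟩ := h
    obtain ⟨x, P, hx, hP, hxN, hxC⟩ := Helper5_InvDih.exists_normalizing_of_surjective hp f hf
    obtain ⟨t, y, ⟨kt, hkt⟩, ⟨ky, hky⟩, hy1, hty⟩ := Helper5_InvDih.exists_inverted x P hx hP hxN hxC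
    refine ⟨(t : G), (y : G), ⟨kt, ?_⟩, ⟨ky, ?_⟩, ?_, ?_⟩
    · rw [Subgroup.orderOf_coe, hkt]
    · rw [Subgroup.orderOf_coe, hky]
    · intro h1
      apply hy1
      exact Subtype.ext h1
    · have := congrArg (Subtype.val) hty
      simpa using this
  have hCA : (∃ x y : G, (∃ k : ℕ, orderOf x = 2 ^ k) ∧
      (∃ k : ℕ, orderOf y = p ^ k) ∧ y ≠ 1 ∧ x * y * x⁻¹ = y⁻¹) → Cfsg.Involves (DihedralGroup p) G := by
    rintro ⟨x, y, hx, hy, hy1, hxy⟩
    exact Helper5_InvDih.involves_dihedral_of_inverting hp x y hx hy hy1 hxy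
  have hBC : (∃ (x : G) (P : Subgroup G), (∃ k : ℕ, orderOf x = 2 ^ k) ∧ IsPGroup p ↥P ∧
      x ∈ Subgroup.normalizer (P : Set G) ∧ x ∉ Subgroup.centralizer (P : Set G)) →
      ∃ x y : G, (∃ k : ℕ, orderOf x = 2 ^ k) ∧
      (∃ k : ℕ, orderOf y = p ^ k) ∧ y ≠ 1 ∧ x * y * x⁻¹ = y⁻¹ := by
    rintro ⟨x, P, hx, hP, hxN, hxC⟩
    exact Helper5_InvDih.exists_inverted x P hx hP hxN hxC
  have hCB : (∃ x y : G, (∃ k : ℕ, orderOf x = 2 ^ k) ∧
      (∃ k : ℕ, orderOf y = p ^ k) ∧ y ≠ 1 ∧ x * y * x⁻¹ = y⁻¹) →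
      (∃ (x : G) (P : Subgroup G), (∃ k : ℕ, orderOf x = 2 ^ k) ∧ IsPGroup p ↥P ∧
      x ∈ Subgroup.normalizer (P : Set G) ∧ x ∉ Subgroup.centralizer (P : Set G)) := by
    rintro ⟨x, y, hx, ⟨ky, hky⟩, hy1, hxy⟩
    refine ⟨x, Subgroup.zpowers y, hx, ?_, ?_, ?_⟩
    · apply IsPGroup.of_card (n := ky)
      rw [Nat.card_zpowers, hky]
    · rw [Subgroup.mem_normalizer_iff]
      intro h
      have key : ∀ g : G, g ∈ Subgroup.zpowers y → x * g * x⁻¹ ∈ Subgroup.zpowers y := by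
        intro g hg
        obtain ⟨i, rfl⟩ := Subgroup.mem_zpowers_iff.mp hg
        have : x * y ^ i * x⁻¹ = (y⁻¹) ^ i := by
          rw [← hxy]
          exact (conj_zpow).symm
        rw [this]
        exact Subgroup.zpow_mem _ (Subgroup.inv_mem _ (Subgroup.mem_zpowers y)) i
      have hx2 : ∀ g : G, g ∈ Subgroup.zpowers y → x⁻¹ * g * x ∈ Subgroup.zpowers y := by
        intro g hg
        obtain ⟨i, rfl⟩ := Subgroup.mem_zpowers_iff.mp hg
        have h1 : x⁻¹ * y * x = y⁻¹ := by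
          have : y = x⁻¹ * y⁻¹ * x := by rw [← hxy]; group
          calc x⁻¹ * y * x = (x⁻¹ * y⁻¹ * x)⁻¹ := by group
            _ = y⁻¹ := by rw [← this]
        have : x⁻¹ * y ^ i * x = (y⁻¹) ^ i := by
          rw [← h1]
          have := @conj_zpow G _ i x⁻¹ y
          rw [inv_inv] at this
          exact this.symm
        rw [this]
        exact Subgroup.zpow_mem _ (Subgroup.inv_mem _ (Subgroup.mem_zpowers y)) i
      constructor
      · exact key h
      · intro hh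
        have := hx2 _ hh
        have e : x⁻¹ * (x * h * x⁻¹) * x = h := by group
        rw [e] at this
        exact this
    · intro hC
      have h1 := (Subgroup.mem_centralizer_iff.mp hC) y (Subgroup.mem_zpowers y)
      -- y * x = x * y
      have h2 : x * y * x⁻¹ = y := by rw [← h1]; group
      rw [hxy] at h2
      -- y⁻¹ = y
      have h3 : y ^ 2 = 1 := by
        rw [pow_two]
        nth_rewrite 1 [← h2]
        exact inv_mul_cancel y
      have h4 : orderOf y ∣ 2 := orderOf_dvd_of_pow_eq_one h3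
      rw [hky] at h4
      have hky0 : ky ≠ 0 := by
        rintro rfl
        rw [pow_zero, orderOf_eq_one_iff] at hky
        exact hy1 hky
      have h5 : p ∣ 2 := dvd_trans (dvd_pow_self p hky0) h4
      exact hp ((Nat.prime_dvd_prime_iff_eq hpp Nat.prime_two).mp h5)
  refine ⟨⟨fun h => hCB (hAC h), fun h => hCA (hBC h)⟩, ⟨hAC, hCA⟩⟩

end Cfsg.Agent.S2758
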