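import Cfsg.Statements.S2759
import Mathlib
import Cfsg.Agent.Lib.Helper5_S4Sec2
import Cfsg.Agent.Lib.Helper5_S4Sec3
import Cfsg.Agent.Lib.Helper5_InvDih2

set_option autoImplicit false
open Cfsg

namespace Cfsg.Agent.S2759

open Cfsg.Agent.Lib

/-- For a finite group G, the symmetric group of degree 4 is involved in G if and only if there is a 2-subgroup T of G such that the symmetric group of degree 3 is involved in N(T)/C(T). -/
theorem result {G : Type*} [Group G] [Finite G] : Cfsg.Involves (Equiv.Perm (Fin 4)) G ↔ ∃ T : Subgroup G, IsPGroup 2 ↥T ∧ Cfsg.Involves (Equiv.Perm (Fin 3)) (↥(Subgroup.normalizer (T : Set G)) ⧸ (Subgroup.centralizer (T : Set G)).subgroupOf (Subgroup.normalizer (T : Set G))) := by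
  classical
  constructor
  · -- (⇒)
    intro h
    rw [Helper8_Involves.involves_iff] at h
    obtain ⟨K, f, hf⟩ := h
    obtain ⟨φ, hφs, hφ2, hφc⟩ := Helper5_S4Sec3.exists_s4_to_s3
    set M : Subgroup ↥K := φ.ker.comap f with hM
    haveI : M.Normal := Subgroup.Normal.comap inferInstance f
    haveI : Fact (Nat.Prime 2) := ⟨Nat.prime_two⟩
    obtain ⟨P⟩ : Nonempty (Sylow 2 M) := inferInstance
    set TK : Subgroup ↥K := (P : Subgroup M).map M.subtype with hTK
    have hfr : Subgroup.normalizer (TK : Set ↥K) ⊔ M = ⊤ := Sylow.normalizer_sup_eq_top P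
    refine ⟨TK.map K.subtype, (P.2.map _).map _, ?_⟩
    -- f(TK) ⊇ ker φ
    have hf' : Function.Surjective (f.subgroupComap φ.ker) :=
      MonoidHom.subgroupComap_surjective_of_surjective f _ hf
    have htop : ((P.mapSurjective hf' : Sylow 2 φ.ker) : Subgroup φ.ker) = ⊤ := by
      have hp : IsPGroup 2 (⊤ : Subgroup φ.ker) := hφ2.to_subgroup _
      exact ((P.mapSurjective hf').is_maximal' hp le_top).symm
    rw [Sylow.coe_mapSurjective] at htop
    have hfT : ∀ v ∈ φ.ker, ∃ t ∈ TK, f t = v := by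
      intro v hv
      have h1 : (⟨v, hv⟩ : φ.ker) ∈ (P : Subgroup M).map (f.subgroupComap φ.ker) := by
        rw [htop]; trivial
      obtain ⟨m, hm, hmv⟩ := h1
      refine ⟨(m : ↥K), ⟨m, hm, rfl⟩, ?_⟩
      have := congrArg Subtype.val hmv
      exact this
    -- the two homomorphisms
    have hmem : ∀ a : ↥(Subgroup.normalizer (TK : Set ↥K)),
        ((K.subtype).comp (Subgroup.normalizer (TK : Set ↥K)).subtype) a ∈
          Subgroup.normalizer ((TK.map K.subtype : Subgroup G) : Set G) := by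
      intro a
      exact Subgroup.le_normalizer_map K.subtype ⟨(a : ↥K), a.2, rfl⟩
    let j : ↥(Subgroup.normalizer (TK : Set ↥K)) →*
        ↥(Subgroup.normalizer ((TK.map K.subtype : Subgroup G) : Set G)) :=
      MonoidHom.codRestrict ((K.subtype).comp (Subgroup.normalizer (TK : Set ↥K)).subtype) _ hmem
    let θ := (QuotientGroup.mk' ((Subgroup.centralizer ((TK.map K.subtype : Subgroup G) : Set G)).subgroupOf
      (Subgroup.normalizer ((TK.map K.subtype : Subgroup G) : Set G)))).comp j
    let g₀ : ↥(Subgroup.normalizer (TK : Set ↥K)) →* Equiv.Perm (Fin 3) :=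
      (φ.comp f).comp (Subgroup.normalizer (TK : Set ↥K)).subtype
    have hg₀ : Function.Surjective g₀ := by
      intro σ
      obtain ⟨τ, hτ⟩ := hφs σ
      obtain ⟨k, hk⟩ := hf τ
      have hk' : k ∈ ((Subgroup.normalizer (TK : Set ↥K) ⊔ M : Subgroup ↥K) : Set ↥K) := by
        rw [hfr]; trivial
      rw [Subgroup.mul_normal] at hk'
      obtain ⟨n, hn, m, hm, hnm⟩ := Set.mem_mul.mp hk'
      refine ⟨⟨n, hn⟩, ?_⟩
      show φ (f n) = σ
      have hm' : φ (f m) = 1 := hm
      rw [← hτ, ← hk, ← hnm, map_mul, map_mul, hm', mul_one]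
    have hker : θ.ker ≤ g₀.ker := by
      intro a ha
      rw [MonoidHom.mem_ker] at ha ⊢
      have h1 : j a ∈ (Subgroup.centralizer ((TK.map K.subtype : Subgroup G) : Set G)).subgroupOf
          (Subgroup.normalizer ((TK.map K.subtype : Subgroup G) : Set G)) :=
        (QuotientGroup.eq_one_iff _).mp ha
      rw [Subgroup.mem_subgroupOf] at h1
      have h2 : (((a : ↥K) : G)) ∈ Subgroup.centralizer ((TK.map K.subtype : Subgroup G) : Set G) := h1
      show φ (f (a : ↥K)) = 1
      apply hφc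
      intro v hv
      obtain ⟨t, ht, rfl⟩ := hfT v hv
      have h3 := (Subgroup.mem_centralizer_iff.mp h2) ((t : ↥K) : G) ⟨t, ht, rfl⟩
      have h4 : t * (a : ↥K) = (a : ↥K) * t := Subtype.ext (by simpa using h3)
      rw [← map_mul, ← map_mul, h4]
    exact Helper5_S4Sec3.involves_of_factor θ g₀ hg₀ hker
  · -- (⇐)
    rintro ⟨T, hT, hinv⟩
    rw [Helper8_Involves.involves_iff] at hinv
    obtain ⟨Kb, fb, hfb⟩ := hinv
    obtain ⟨e3⟩ := Helper5_S4Sec3.dihedral_three
    let π := QuotientGroup.mk' ((Subgroup.centralizer (T : Set G)).subgroupOf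
      (Subgroup.normalizer (T : Set G)))
    let f : ↥(Kb.comap π) →* DihedralGroup 3 :=
      (e3.toMonoidHom.comp fb).comp (π.subgroupComap Kb)
    have hf : Function.Surjective f :=
      (e3.surjective.comp hfb).comp
        (MonoidHom.subgroupComap_surjective_of_surjective π Kb (QuotientGroup.mk'_surjective _))
    obtain ⟨x, y, ⟨kx, hkx⟩, ⟨ky, hky⟩, hxy, hfy⟩ :=
      Helper5_InvDih2.exists_exact_inversion (p := 3) (by decide) f hf
    -- pass to G
    have hxo : orderOf (((x : ↥(Subgroup.normalizer (T : Set G))) : G)) = 2 ^ kx := by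
      rw [Subgroup.orderOf_coe, Subgroup.orderOf_coe, hkx]
    have hyo : orderOf (((y : ↥(Subgroup.normalizer (T : Set G))) : G)) = 3 ^ ky := by
      rw [Subgroup.orderOf_coe, Subgroup.orderOf_coe, hky]
    have hxN : (((x : ↥(Subgroup.normalizer (T : Set G))) : G)) ∈ Subgroup.normalizer (T : Set G) :=
      (x : ↥(Subgroup.normalizer (T : Set G))).2
    have hyN : (((y : ↥(Subgroup.normalizer (T : Set G))) : G)) ∈ Subgroup.normalizer (T : Set G) :=
      (y : ↥(Subgroup.normalizer (T : Set G))).2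
    have hxyG : (((x : ↥(Subgroup.normalizer (T : Set G))) : G)) *
        (((y : ↥(Subgroup.normalizer (T : Set G))) : G)) *
        (((x : ↥(Subgroup.normalizer (T : Set G))) : G))⁻¹ =
        (((y : ↥(Subgroup.normalizer (T : Set G))) : G))⁻¹ := by
      have := congrArg (fun z : ↥(Kb.comap π) => ((z : ↥(Subgroup.normalizer (T : Set G))) : G)) hxy
      simpa using this
    have hyC : (((y : ↥(Subgroup.normalizer (T : Set G))) : G)) ∉ Subgroup.centralizer (T : Set G) := by
      intro hc
      apply hfy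
      have h1 : π (y : ↥(Subgroup.normalizer (T : Set G))) = 1 := by
        rw [QuotientGroup.mk'_apply, QuotientGroup.eq_one_iff, Subgroup.mem_subgroupOf]
        exact hc
      have h2 : π.subgroupComap Kb y = 1 := Subtype.ext h1
      show e3 (fb (π.subgroupComap Kb y)) = 1
      rw [h2, map_one, map_one]
    generalize (((x : ↥(Subgroup.normalizer (T : Set G))) : G)) = gx at hxo hxN hxyG
    generalize (((y : ↥(Subgroup.normalizer (T : Set G))) : G)) = gy at hyo hyN hxyG hyC
    -- choose the right power of gy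
    have hex : ∃ j : ℕ, gy ^ (3 ^ j) ∈ Subgroup.centralizer (T : Set G) :=
      ⟨ky, by rw [← hyo, pow_orderOf_eq_one]; exact one_mem _⟩
    have hj0 : Nat.find hex ≠ 0 := by
      intro h0
      have := Nat.find_spec hex
      rw [h0, pow_zero, pow_one] at this
      exact hyC this
    obtain ⟨j, hj⟩ := Nat.exists_eq_succ_of_ne_zero hj0
    have hy'C : gy ^ (3 ^ j) ∉ Subgroup.centralizer (T : Set G) := Nat.find_min hex (by omega)
    have hy'3 : (gy ^ (3 ^ j)) ^ 3 ∈ Subgroup.centralizer (T : Set G) := by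
      have := Nat.find_spec hex
      rw [hj, Nat.succ_eq_add_one, pow_succ, pow_mul] at this
      exact this
    have hy'N : gy ^ (3 ^ j) ∈ Subgroup.normalizer (T : Set G) := pow_mem hyN _
    have hy'o : ∃ k : ℕ, orderOf (gy ^ (3 ^ j)) = 3 ^ k := by
      have h1 : orderOf (gy ^ (3 ^ j)) ∣ 3 ^ ky := by rw [← hyo]; exact orderOf_pow_dvd _
      obtain ⟨i, _, hi⟩ := (Nat.dvd_prime_pow Nat.prime_three).mp h1
      exact ⟨i, hi⟩
    have hxy' : gx * gy ^ (3 ^ j) * gx⁻¹ = (gy ^ (3 ^ j))⁻¹ := by
      rw [← conj_pow, hxyG, inv_pow]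
    exact Helper5_S4Sec2.involves_S4_of_config T hT gx (gy ^ (3 ^ j)) ⟨kx, hxo⟩ hy'o hxN hy'N hxy'
      hy'C hy'3

end Cfsg.Agent.S2759
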