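import Cfsg.Statements.S2809
import Cfsg.Agent.Lib.Helper4_Stab

set_option autoImplicit false
open Cfsg

namespace Cfsg.Agent.S2809

open Cfsg.Agent.Lib.Helper4_Stab
open scoped commutatorElement


/-- Let H be a finite group, p a prime, R a p-subgroup of H with C_H(R) ≤ R, and L a subgroup of N_H(R) acting nilpotently on R (some iterated commutator [R, L, …, L] is trivial). Then L is a p-group. -/
theorem result {H : Type*} [Group H] [Finite H] {p : ℕ} [Fact p.Prime] (R : Subgroup H) (hR : IsPGroup p ↥R) (hC : Subgroup.centralizer (R : Set H) ≤ R) (L : Subgroup H) (hL : L ≤ Subgroup.normalizer (R : Set H)) (hnil : ∃ n : ℕ, Cfsg.iterCommutator R L n = ⊥) : IsPGroup p ↥L := by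
  obtain ⟨n, hn⟩ := hnil
  have hle : ∀ i, Cfsg.iterCommutator R L i ≤ R := by
    intro i
    induction i with
    | zero => exact le_rfl
    | succ i ih =>
      show ⁅Cfsg.iterCommutator R L i, L⁆ ≤ R
      rw [Subgroup.commutator_le]
      intro r hr l hl
      have h1 : l * r⁻¹ * l⁻¹ ∈ R :=
        (Subgroup.mem_normalizer_iff.mp (hL hl) r⁻¹).mp (inv_mem (ih hr))
      have : ⁅r, l⁆ = r * (l * r⁻¹ * l⁻¹) := by rw [commutatorElement_def]; group
      rw [this]
      exact mul_mem (ih hr) h1
  have hRp : ∀ r ∈ R, ∃ k : ℕ, orderOf r = p ^ k := by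
    intro r hr
    obtain ⟨k, hk⟩ := (IsPGroup.iff_orderOf.mp hR) ⟨r, hr⟩
    exact ⟨k, by rw [← hk]; simp⟩
  apply isPGroup_of_pPrime_trivial
  intro x hxL hx
  have key : ∀ j, j ≤ n → ∀ r ∈ Cfsg.iterCommutator R L (n - j), x * r = r * x := by
    intro j
    induction j with
    | zero =>
      intro _ r hr
      rw [Nat.sub_zero, hn, Subgroup.mem_bot] at hr
      rw [hr]; simp
    | succ j ih =>
      intro hj
      have e : n - j = (n - (j + 1)) + 1 := by omega
      apply stab_step x hx (Cfsg.iterCommutator R L (n - (j + 1))) (Cfsg.iterCommutator R L (n - j))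
      · intro r hr
        rw [e]
        exact Subgroup.commutator_mem_commutator hr hxL
      · exact ih (by omega)
      · intro z hz
        exact hRp z (hle _ hz)
  have hcent : x ∈ Subgroup.centralizer (R : Set H) := by
    rw [Subgroup.mem_centralizer_iff]
    intro r hr
    have := key n le_rfl r (by rw [Nat.sub_self]; exact hr)
    exact this.symm
  obtain ⟨k, hk⟩ := hRp x (hC hcent)
  exact eq_one_of_coprime_of_pow x hx k hk

end Cfsg.Agent.S2809
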