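import Cfsg.Statements.S2810
import Cfsg.Agent.Lib.Helper4_Stab
import Cfsg.Agent.Lib.Helper4_PCore

set_option autoImplicit false
open Cfsg

namespace Cfsg.Agent.S2810

open Cfsg.Agent.Lib.Helper4_Stab Cfsg.Agent.Lib.Helper4_PCore
open scoped commutatorElement


/-- Let H be a finite group of characteristic p and L a subgroup of H centralizing every factor of some H-invariant chain 1 = A₀ ≤ A₁ ≤ … ≤ Aₙ = O_p(H) of normal subgroups (that is, [A_{i+1}, L] ≤ Aᵢ for each i). Then L ≤ O_p(H). -/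
theorem result {H : Type*} [Group H] [Finite H] {p : ℕ} [Fact p.Prime] (hchar : Subgroup.centralizer (Cfsg.pCore p H : Set H) ≤ Cfsg.pCore p H) (L : Subgroup H) (n : ℕ) (A : Fin (n + 1) → Subgroup H) (h0 : A 0 = ⊥) (hn : A (Fin.last n) = Cfsg.pCore p H) (hmono : Monotone A) (hnorm : ∀ i, (A i).Normal) (hcent : ∀ i : Fin n, ⁅A i.succ, L⁆ ≤ A i.castSucc) : L ≤ Cfsg.pCore p H := by
  classical
  -- the stability group of the chain
  let C : Subgroup H :=
    { carrier := {h | ∀ i : Fin n, ∀ a ∈ A i.succ, ⁅a, h⁆ ∈ A i.castSucc}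
      one_mem' := by
        intro i a _
        simp [commutatorElement_def]
      mul_mem' := by
        intro h k hh hk i a ha
        have h1 := hh i a ha
        have h2 := hk i a ha
        have h3 : h * ⁅a, k⁆ * h⁻¹ ∈ A i.castSucc := (hnorm i.castSucc).conj_mem _ h2 h
        have : ⁅a, h * k⁆ = ⁅a, h⁆ * (h * ⁅a, k⁆ * h⁻¹) := by
          simp only [commutatorElement_def]; group
        rw [this]
        exact mul_mem h1 h3
      inv_mem' := by
        intro h hh i a ha
        have h1 := hh i a ha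
        have h3 : h⁻¹ * ⁅a, h⁆⁻¹ * h⁻¹⁻¹ ∈ A i.castSucc :=
          (hnorm i.castSucc).conj_mem _ (inv_mem h1) h⁻¹
        have : ⁅a, h⁻¹⁆ = h⁻¹ * ⁅a, h⁆⁻¹ * h⁻¹⁻¹ := by
          simp only [commutatorElement_def]; group
        rw [this]
        exact h3 }
  have hmemC : ∀ h, h ∈ C ↔ ∀ i : Fin n, ∀ a ∈ A i.succ, ⁅a, h⁆ ∈ A i.castSucc := fun h => Iff.rfl
  have hLC : L ≤ C := by
    intro l hl
    rw [hmemC]
    intro i a ha
    exact hcent i (Subgroup.commutator_mem_commutator ha hl)
  have hCn : C.Normal := by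
    constructor
    intro h hh g
    rw [hmemC] at hh ⊢
    intro i a ha
    have ha' : g⁻¹ * a * g⁻¹⁻¹ ∈ A i.succ := (hnorm i.succ).conj_mem _ ha g⁻¹
    have h1 := hh i _ ha'
    have h2 : g * ⁅g⁻¹ * a * g⁻¹⁻¹, h⁆ * g⁻¹ ∈ A i.castSucc := (hnorm i.castSucc).conj_mem _ h1 g
    have : ⁅a, g * h * g⁻¹⁆ = g * ⁅g⁻¹ * a * g⁻¹⁻¹, h⁆ * g⁻¹ := by
      simp only [commutatorElement_def]; group
    rw [this]
    exact h2
  have hQp : ∀ r ∈ Cfsg.pCore p H, ∃ k : ℕ, orderOf r = p ^ k := by
    intro r hr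
    obtain ⟨k, hk⟩ := (IsPGroup.iff_orderOf.mp (pCore_isPGroup (G := H) (p := p))) ⟨r, hr⟩
    exact ⟨k, by rw [← hk]; simp⟩
  have hAle : ∀ i, A i ≤ Cfsg.pCore p H := by
    intro i
    rw [← hn]
    exact hmono (Fin.le_last i)
  have hCp : IsPGroup p C := by
    apply isPGroup_of_pPrime_trivial
    intro x hxC hx
    rw [hmemC] at hxC
    have key : ∀ i : Fin (n + 1), ∀ r ∈ A i, x * r = r * x := by
      intro i
      induction i using Fin.induction with
      | zero =>
        intro r hr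
        rw [h0, Subgroup.mem_bot] at hr
        rw [hr]; simp
      | succ i ih =>
        apply stab_step x hx (A i.succ) (A i.castSucc)
        · intro r hr
          exact hxC i r hr
        · exact ih
        · intro z hz
          exact hQp z (hAle _ hz)
    have hcent' : x ∈ Subgroup.centralizer (Cfsg.pCore p H : Set H) := by
      rw [Subgroup.mem_centralizer_iff]
      intro r hr
      rw [← hn] at hr
      exact (key _ r hr).symm
    obtain ⟨k, hk⟩ := hQp x (hchar hcent')
    exact eq_one_of_coprime_of_pow x hx k hk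
  exact hLC.trans (le_pCore C hCn hCp)

end Cfsg.Agent.S2810
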