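import Cfsg.Statements.S2812
import Mathlib
import Cfsg.Agent.Lib.Helper3_CommDecomp

set_option autoImplicit false
open Cfsg

namespace Cfsg.Agent.S2812

/-- Let H be a subgroup of the finite group G with O_p(H) = 1, Y a p-subgroup of G normalizing H, and L a subgroup of the generalized Fitting subgroup F*(H) that is subnormal in H and normalized by Y. Then L = [L, Y]·C_L(Y) and [L, Y] = [L, Y, Y]. -/
theorem result {G : Type*} [Group G] [Finite G] {p : ℕ} [Fact p.Prime] (H : Subgroup G) (hO : Cfsg.pCore p ↥H = ⊥) (Y : Subgroup G) (hY : IsPGroup p ↥Y) (hYH : Y ≤ Subgroup.normalizer (H : Set G)) (L : Subgroup G) (hLF : L ≤ (Cfsg.generalizedFittingSubgroup ↥H).map H.subtype) (hLsn : (L.subgroupOf H).IsSubnormal) (hYL : Y ≤ Subgroup.normalizer (L : Set G)) : ⁅L, Y⁆ ⊔ (L ⊓ Subgroup.centralizer (Y : Set G)) = L ∧ ⁅L, Y⁆ = ⁅⁅L, Y⁆, Y⁆ := by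
  classical
  have hp : p.Prime := Fact.out
  have hLH : L ≤ H := hLF.trans (Subgroup.map_subtype_le _)
  have hLH_gf : L.subgroupOf H ≤ Cfsg.generalizedFittingSubgroup ↥H := by
    intro x hx
    have h1 := hLF (Subgroup.mem_subgroupOf.mp hx)
    obtain ⟨y, hy, hyx⟩ := h1
    have : y = x := Subtype.ext hyx
    rw [← this]; exact hy
  have hdec := Cfsg.Agent.S1318.decomposition (L.subgroupOf H) hLH_gf hLsn
  have hfit := Cfsg.Agent.S1318.fitting_subnormal (L.subgroupOf H) hLsn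
  let e : ↥(L.subgroupOf H) ≃* ↥L := Subgroup.subgroupOfEquivOfLe hLH
  have hlay : (Cfsg.layer ↥(L.subgroupOf H)).map e.toMonoidHom = Cfsg.layer ↥L :=
    Cfsg.Agent.Lib.Helper3_Transport.layer_map_equiv e
  have hfit2 : (Cfsg.fittingSubgroup ↥(L.subgroupOf H)).map e.toMonoidHom = Cfsg.fittingSubgroup ↥L :=
    Cfsg.Agent.Lib.Helper3_Transport.fitting_map_equiv e
  -- L = FL ⊔ EL
  have hsup : L ≤ (Cfsg.fittingSubgroup ↥L).map L.subtype ⊔ (Cfsg.layer ↥L).map L.subtype := by
    intro l hl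
    obtain ⟨e1, c, he1, hc, hlc⟩ := hdec ⟨l, hLH hl⟩ (Subgroup.mem_subgroupOf.mpr hl)
    rw [← hfit] at hc
    obtain ⟨e1', he1', rfl⟩ := he1
    obtain ⟨c', hc', rfl⟩ := hc
    have hl2 : l = (e e1' : G) * (e c' : G) := by
      have := congrArg (fun t : ↥H => (t : G)) hlc
      show l = ((e1' : ↥H) : G) * ((c' : ↥H) : G)
      simpa using this
    rw [hl2, sup_comm]
    apply Subgroup.mul_mem_sup
    · refine ⟨e e1', ?_, rfl⟩
      rw [← hlay]; exact ⟨e1', he1', rfl⟩
    · refine ⟨e c', ?_, rfl⟩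
      rw [← hfit2]; exact ⟨c', hc', rfl⟩
  -- invariance
  haveI := Cfsg.Agent.Lib.Helper3_CommDecomp.fitting_char ↥L
  have hYF : Y ≤ Subgroup.normalizer (((Cfsg.fittingSubgroup ↥L).map L.subtype : Subgroup G) : Set G) :=
    hYL.trans (Cfsg.Agent.Lib.Lead_Coprime.normalizer_le_normalizer_char_map (Cfsg.fittingSubgroup ↥L))
  -- coprimality
  have hcopH := Cfsg.Agent.Lib.Helper3_CommDecomp.fitting_coprime_of_pCore_bot p hO
  have hcardF : Nat.card ↥((Cfsg.fittingSubgroup ↥L).map L.subtype) ∣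
      Nat.card ↥(Cfsg.fittingSubgroup ↥H) := by
    have h1 : Nat.card ↥((Cfsg.fittingSubgroup ↥L).map L.subtype) = Nat.card ↥(Cfsg.fittingSubgroup ↥L) :=
      (Nat.card_congr ((Cfsg.fittingSubgroup ↥L).equivMapOfInjective _
        (Subgroup.subtype_injective _)).toEquiv).symm
    have h2 : Nat.card ↥(Cfsg.fittingSubgroup ↥L) = Nat.card ↥(Cfsg.fittingSubgroup ↥(L.subgroupOf H)) := by
      rw [← hfit2]
      exact (Nat.card_congr ((Cfsg.fittingSubgroup ↥(L.subgroupOf H)).equivMapOfInjective _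
        e.injective).toEquiv).symm
    have h3 : Nat.card ↥(Cfsg.fittingSubgroup ↥(L.subgroupOf H)) =
        Nat.card ↥((Cfsg.fittingSubgroup ↥(L.subgroupOf H)).map (L.subgroupOf H).subtype) :=
      Nat.card_congr ((Cfsg.fittingSubgroup ↥(L.subgroupOf H)).equivMapOfInjective _
        (Subgroup.subtype_injective _)).toEquiv
    rw [h1, h2, h3, hfit]
    exact Subgroup.card_dvd_of_le inf_le_left
  have hcop : (Nat.card ↥Y).Coprime (Nat.card ↥((Cfsg.fittingSubgroup ↥L).map L.subtype)) := by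
    obtain ⟨k, hk⟩ := IsPGroup.iff_card.mp hY
    rw [hk]
    apply Nat.Coprime.pow_left
    exact (Nat.Coprime.coprime_dvd_left hcardF hcopH).symm
  have hsolv : Group.IsSolvable ↥((Cfsg.fittingSubgroup ↥L).map L.subtype) := by
    haveI := Cfsg.Agent.S1317.fitting_nilpotent ↥L
    haveI : Group.IsNilpotent ↥((Cfsg.fittingSubgroup ↥L).map L.subtype) :=
      Group.nilpotent_of_mulEquiv ((Cfsg.fittingSubgroup ↥L).equivMapOfInjective _
        (Subgroup.subtype_injective _))
    infer_instance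
  have hF := Cfsg.Agent.Lib.Helper3_CommDecomp.coprime_decomp _ Y hYF hcop hsolv
  have hE := Cfsg.Agent.Lib.Helper3_CommDecomp.layer_decomp L Y hYL
  have hFL : (Cfsg.fittingSubgroup ↥L).map L.subtype ≤ L := Subgroup.map_subtype_le _
  have hEL : (Cfsg.layer ↥L).map L.subtype ≤ L := Subgroup.map_subtype_le _
  have hmain : ⁅L, Y⁆ ⊔ (L ⊓ Subgroup.centralizer (Y : Set G)) = L := by
    apply le_antisymm
    · exact sup_le (Cfsg.Agent.Lib.Lead_Coprime.commutator_le_of_le_normalizer L Y hYL) inf_le_left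
    · refine hsup.trans (sup_le ?_ ?_)
      · refine hF.trans (sup_le ?_ ?_)
        · exact (Subgroup.commutator_mono hFL le_rfl).trans le_sup_left
        · exact (inf_le_inf_right _ hFL).trans le_sup_right
      · refine hE.trans (sup_le ?_ ?_)
        · exact (inf_le_inf_right _ hEL).trans le_sup_right
        · exact (Subgroup.commutator_mono hEL le_rfl).trans le_sup_left
  exact ⟨hmain, Cfsg.Agent.Lib.Helper3_CommDecomp.comm_comm_eq L Y hYL hmain⟩

end Cfsg.Agent.S2812
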