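import Cfsg.Statements.S2813
import Cfsg.Agent.Lib.Helper4_PCore

set_option autoImplicit false
open Cfsg

namespace Cfsg.Agent.S2813

open Cfsg.Agent.Lib.Helper4_PCore
open scoped commutatorElement


/-- Let K be a subgroup of the finite group H with O_p(K) = 1 and Y a p-subgroup of N_H(K) with [K, Y, Y] = 1. Then [K, Y] = 1. -/
theorem result {H : Type*} [Group H] [Finite H] {p : ℕ} [Fact p.Prime] (K : Subgroup H) (hO : Cfsg.pCore p ↥K = ⊥) (Y : Subgroup H) (hY : IsPGroup p ↥Y) (hYK : Y ≤ Subgroup.normalizer (K : Set H)) (hq : ⁅⁅K, Y⁆, Y⁆ = ⊥) : ⁅K, Y⁆ = ⊥ := by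
  set N : Subgroup H := ⁅K, Y⁆ with hN
  -- N ≤ K
  have hNK : N ≤ K := by
    rw [hN, Subgroup.commutator_le]
    intro k hk y hy
    have h1 : y * k⁻¹ * y⁻¹ ∈ K :=
      (Subgroup.mem_normalizer_iff.mp (hYK hy) k⁻¹).mp (inv_mem hk)
    have : ⁅k, y⁆ = k * (y * k⁻¹ * y⁻¹) := by rw [commutatorElement_def]; group
    rw [this]
    exact mul_mem hk h1
  -- Y centralizes N
  have hYc : ∀ n ∈ N, ∀ y ∈ Y, n * y = y * n := by
    intro n hn y hy
    have h1 : ⁅n, y⁆ ∈ ⁅N, Y⁆ := Subgroup.commutator_mem_commutator hn hy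
    rw [hq, Subgroup.mem_bot, commutatorElement_eq_one_iff_mul_comm] at h1
    exact h1
  -- K normalizes N
  have hKN : ∀ a ∈ K, ∀ n ∈ N, a * n * a⁻¹ ∈ N := by
    intro a ha
    have : N ≤ N.comap (MulAut.conj a).toMonoidHom := by
      conv_lhs => rw [hN, Subgroup.commutator_def]
      rw [Subgroup.closure_le]
      rintro g ⟨b, hb, c, hc, rfl⟩
      rw [SetLike.mem_coe, Subgroup.mem_comap]
      simp only [MulEquiv.coe_toMonoidHom, MulAut.conj_apply]
      have h1 : ⁅a * b, c⁆ ∈ N := Subgroup.commutator_mem_commutator (mul_mem ha hb) hc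
      have h2 : ⁅a, c⁆ ∈ N := Subgroup.commutator_mem_commutator ha hc
      have : a * ⁅b, c⁆ * a⁻¹ = ⁅a * b, c⁆ * ⁅a, c⁆⁻¹ := by
        simp only [commutatorElement_def]; group
      rw [this]
      exact mul_mem h1 (inv_mem h2)
    intro n hn
    exact this hn
  -- generators centralize N
  have hgen_c : ∀ k ∈ K, ∀ y ∈ Y, ∀ n ∈ N, n * ⁅k, y⁆ = ⁅k, y⁆ * n := by
    intro k hk y hy n hn
    have h1 : k⁻¹ * n * k⁻¹⁻¹ ∈ N := hKN k⁻¹ (inv_mem hk) n hn
    have h2 := hYc _ h1 y hy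
    have h3 := hYc n hn y⁻¹ (inv_mem hy)
    -- n commutes with k y k⁻¹
    have h4 : n * (k * y * k⁻¹) = (k * y * k⁻¹) * n := by
      calc n * (k * y * k⁻¹) = k * ((k⁻¹ * n * k⁻¹⁻¹) * y) * k⁻¹ := by group
        _ = k * (y * (k⁻¹ * n * k⁻¹⁻¹)) * k⁻¹ := by rw [h2]
        _ = (k * y * k⁻¹) * n := by group
    calc n * ⁅k, y⁆ = (n * (k * y * k⁻¹)) * y⁻¹ := by rw [commutatorElement_def]; group
      _ = (k * y * k⁻¹) * (n * y⁻¹) := by rw [h4]; group
      _ = (k * y * k⁻¹) * (y⁻¹ * n) := by rw [h3]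
      _ = ⁅k, y⁆ * n := by rw [commutatorElement_def]; group
  -- N is abelian
  have hNab : ∀ m ∈ N, ∀ n ∈ N, n * m = m * n := by
    intro m hm
    have : N ≤ Subgroup.centralizer (N : Set H) := by
      conv_lhs => rw [hN, Subgroup.commutator_def]
      rw [Subgroup.closure_le]
      rintro g ⟨b, hb, c, hc, rfl⟩
      rw [SetLike.mem_coe, Subgroup.mem_centralizer_iff]
      intro n hn
      exact hgen_c b hb c hc n hn
    exact Subgroup.mem_centralizer_iff.mp (this hm)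
  -- generators are p-elements
  have hgen_p : ∀ k ∈ K, ∀ y ∈ Y, ∃ j : ℕ, ⁅k, y⁆ ^ (p ^ j) = 1 := by
    intro k hk y hy
    obtain ⟨j, hj⟩ := hY ⟨y, hy⟩
    have hj' : y ^ (p ^ j) = 1 := by
      have := congrArg Subtype.val hj
      simpa using this
    refine ⟨j, ?_⟩
    have hc : ⁅k, y⁆ ∈ N := Subgroup.commutator_mem_commutator hk hy
    have hcomm : Commute ⁅k, y⁆ y := hYc _ hc y hy
    have h1 : k * y * k⁻¹ = ⁅k, y⁆ * y := by rw [commutatorElement_def]; group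
    have h2 : (k * y * k⁻¹) ^ (p ^ j) = 1 := by rw [conj_pow, hj']; group
    rw [h1, hcomm.mul_pow, hj', mul_one] at h2
    exact h2
  -- N is a p-group
  have hNp : ∀ n ∈ N, ∃ j : ℕ, n ^ (p ^ j) = 1 := by
    intro n hn
    have hn' : n ∈ Subgroup.closure {g | ∃ g₁ ∈ K, ∃ g₂ ∈ Y, ⁅g₁, g₂⁆ = g} := by
      rw [← Subgroup.commutator_def]; exact hn
    induction hn' using Subgroup.closure_induction with
    | mem x hx =>
      obtain ⟨b, hb, c, hc, rfl⟩ := hx
      exact hgen_p b hb c hc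
    | one => exact ⟨0, by simp⟩
    | mul x y hx hy ihx ihy =>
      rw [← Subgroup.commutator_def] at hx hy
      obtain ⟨j₁, h₁⟩ := ihx hx
      obtain ⟨j₂, h₂⟩ := ihy hy
      refine ⟨j₁ + j₂, ?_⟩
      have hcomm : Commute x y := (hNab x hx y hy).symm
      rw [hcomm.mul_pow, pow_add, pow_mul, h₁, one_pow, mul_comm (p ^ j₁), pow_mul, h₂, one_pow, one_mul]
    | inv x hx ihx =>
      rw [← Subgroup.commutator_def] at hx
      obtain ⟨j, hj⟩ := ihx hx
      exact ⟨j, by rw [inv_pow, hj, inv_one]⟩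
  -- N as a subgroup of K is a normal p-subgroup
  have h1 : (N.subgroupOf K).Normal := by
    constructor
    intro n hn g
    rw [Subgroup.mem_subgroupOf] at hn ⊢
    have := hKN g g.2 n hn
    simpa using this
  have h2 : IsPGroup p (N.subgroupOf K) := by
    intro g
    obtain ⟨j, hj⟩ := hNp (g : K) g.2
    refine ⟨j, ?_⟩
    apply Subtype.ext
    apply Subtype.ext
    simpa using hj
  have h3 : N.subgroupOf K ≤ Cfsg.pCore p ↥K := le_pCore _ h1 h2
  rw [hO, le_bot_iff, Subgroup.subgroupOf_eq_bot] at h3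
  rw [disjoint_iff, inf_eq_left.mpr hNK] at h3
  exact h3

end Cfsg.Agent.S2813
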