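import Cfsg.Statements.S2815
import Mathlib
import Cfsg.Agent.Lib.Helper3_CommDecomp3

set_option autoImplicit false
open Cfsg

namespace Cfsg.Agent.S2815

open scoped commutatorElement in
/-- Let H be a finite group and p a prime dividing its order with O_p(H) = 1, and suppose K = O^p(H) (generated by the elements of order prime to p) is quasisimple. Then K = F*(H); for every nontrivial p-subgroup Y of H, K = [K, Y] and K lies in the subgroup generated by the K-conjugates of Y; every normal subgroup of H not containing K has order prime to p; and H is p-irreducible. -/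
theorem result {H : Type*} [Group H] [Finite H] {p : ℕ} [Fact p.Prime] (hp : p ∣ Nat.card H) (hO : Cfsg.pCore p H = ⊥) (hq : Cfsg.IsQuasisimple ↥(Cfsg.pResidual p H)) : Cfsg.pResidual p H = Cfsg.generalizedFittingSubgroup H ∧ (∀ Y : Subgroup H, IsPGroup p ↥Y → Y ≠ ⊥ → ⁅Cfsg.pResidual p H, Y⁆ = Cfsg.pResidual p H ∧ Cfsg.pResidual p H ≤ ⨆ k : ↥(Cfsg.pResidual p H), Y.map (MulAut.conj (k : H)).toMonoidHom) ∧ (∀ C : Subgroup H, C.Normal → ¬ Cfsg.pResidual p H ≤ C → (Nat.card ↥C).Coprime p) ∧ Cfsg.IsPIrreducible p H := by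
  classical
  have hpp : p.Prime := Fact.out
  haveI hKn : (Cfsg.pResidual p H).Normal := Cfsg.Agent.Lib.Helper3_PResidual.pResidual_normal p H
  haveI hgfn := Cfsg.Agent.S1265.gf_normal H
  have hKcomp : Cfsg.IsComponent (Cfsg.pResidual p H) := ⟨hKn.isSubnormal, hq⟩
  have hKperf : ⁅Cfsg.pResidual p H, Cfsg.pResidual p H⁆ = Cfsg.pResidual p H :=
    Subgroup.isPerfect_iff.mp hq.1
  have hQp : IsPGroup p (H ⧸ Cfsg.pResidual p H) :=
    Cfsg.Agent.Lib.Helper3_PResidual.isPGroup_quotient_of_coprime_mem p (Cfsg.pResidual p H)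
      (fun g hg => Cfsg.Agent.Lib.Helper3_PResidual.mem_pResidual_of_coprime p g hg)
  haveI : Group.IsNilpotent (H ⧸ Cfsg.pResidual p H) := hQp.isNilpotent
  have h1 : Cfsg.pResidual p H = Cfsg.generalizedFittingSubgroup H := by
    apply le_antisymm
    · exact (le_sSup hKcomp : Cfsg.pResidual p H ≤ Cfsg.layer H).trans le_sup_left
    · apply sup_le
      · apply sSup_le
        intro C hC
        have hCp : ⁅C, C⁆ = C := Subgroup.isPerfect_iff.mp hC.2.1
        have h2 : ⁅C.map (QuotientGroup.mk' (Cfsg.pResidual p H)),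
            C.map (QuotientGroup.mk' (Cfsg.pResidual p H))⁆ =
            C.map (QuotientGroup.mk' (Cfsg.pResidual p H)) := by
          rw [← Subgroup.map_commutator, hCp]
        have h3 := Cfsg.Agent.Lib.Helper3_CommDecomp3.perfect_eq_bot_of_solvable _ h2
        rw [Subgroup.map_eq_bot_iff, QuotientGroup.ker_mk'] at h3
        exact h3
      · intro x hx
        apply Cfsg.Agent.Lib.Helper3_PResidual.mem_pResidual_of_coprime
        have hcop := Cfsg.Agent.Lib.Helper3_CommDecomp.fitting_coprime_of_pCore_bot p hO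
        have hdvd : orderOf x ∣ Nat.card ↥(Cfsg.fittingSubgroup H) := by
          have := orderOf_dvd_natCard (⟨x, hx⟩ : ↥(Cfsg.fittingSubgroup H))
          rwa [Subgroup.orderOf_mk] at this
        exact Nat.Coprime.coprime_dvd_left hdvd hcop
  have h2 : ∀ Y : Subgroup H, IsPGroup p ↥Y → Y ≠ ⊥ →
      ⁅Cfsg.pResidual p H, Y⁆ = Cfsg.pResidual p H ∧
      Cfsg.pResidual p H ≤ ⨆ k : ↥(Cfsg.pResidual p H), Y.map (MulAut.conj (k : H)).toMonoidHom := by
    intro Y hY hYne
    have hne : ⁅Cfsg.pResidual p H, Y⁆ ≠ ⊥ := by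
      intro h
      apply hYne
      apply Cfsg.Agent.Lib.Helper3_CommDecomp2.pgroup_centralizing_gf hO Y hY
      rw [← h1]; exact h
    have hYK : Y ≤ Subgroup.normalizer (Cfsg.pResidual p H : Set H) := by
      rw [Subgroup.normalizer_eq_top_iff.mpr hKn]; exact le_top
    have hNK : ⁅Cfsg.pResidual p H, Y⁆ ≤ Cfsg.pResidual p H :=
      Cfsg.Agent.Lib.Lead_Coprime.commutator_le_of_le_normalizer _ Y hYK
    have hKN : Cfsg.pResidual p H ≤
        Subgroup.normalizer ((⁅Cfsg.pResidual p H, Y⁆ : Subgroup H) : Set H) :=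
      Cfsg.Agent.Lib.Lead_Coprime.le_normalizer_commutator_left _ Y
    have hNn : ((⁅Cfsg.pResidual p H, Y⁆ : Subgroup H).subgroupOf (Cfsg.pResidual p H)).Normal :=
      Subgroup.normal_subgroupOf_of_le_normalizer hKN
    have hNsn : (⁅Cfsg.pResidual p H, Y⁆ : Subgroup H).IsSubnormal :=
      Subgroup.IsSubnormal.trans hNK hNn.isSubnormal hKn.isSubnormal
    have hKY : ⁅Cfsg.pResidual p H, Y⁆ = Cfsg.pResidual p H := by
      rcases Cfsg.Agent.Lib.Helper3_Components.component_le_or_commute _ ⁅Cfsg.pResidual p H, Y⁆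
        hKcomp hNsn with h | h
      · exact le_antisymm hNK h
      · exfalso
        have e1 : ⁅⁅Cfsg.pResidual p H, Y⁆, Cfsg.pResidual p H⁆ = ⊥ := by
          rw [Subgroup.commutator_comm]; exact h
        have e2 : ⁅⁅Y, Cfsg.pResidual p H⁆, Cfsg.pResidual p H⁆ = ⊥ := by
          rw [Subgroup.commutator_comm Y]; exact e1
        have e3 : ⁅⁅Cfsg.pResidual p H, Cfsg.pResidual p H⁆, Y⁆ = ⊥ :=
          Subgroup.commutator_commutator_eq_bot_of_rotate e1 e2
        rw [hKperf] at e3
        exact hne e3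
    refine ⟨hKY, ?_⟩
    refine le_trans (le_of_eq hKY.symm) ?_
    rw [Subgroup.commutator_le]
    intro k hk y hy
    have e : ⁅k, y⁆ = (k * y * k⁻¹) * y⁻¹ := by simp only [commutatorElement_def]
    rw [e]
    apply Subgroup.mul_mem
    · apply Subgroup.mem_iSup_of_mem (⟨k, hk⟩ : ↥(Cfsg.pResidual p H))
      exact ⟨y, hy, rfl⟩
    · apply Subgroup.mem_iSup_of_mem (⟨1, Subgroup.one_mem _⟩ : ↥(Cfsg.pResidual p H))
      refine ⟨y⁻¹, Y.inv_mem hy, ?_⟩
      simp
  have h3 : ∀ C : Subgroup H, C.Normal → ¬ Cfsg.pResidual p H ≤ C → (Nat.card ↥C).Coprime p := by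
    intro C hC hKC
    rcases Cfsg.Agent.Lib.Helper3_Components.component_le_or_commute _ C hKcomp hC.isSubnormal
      with h | h
    · exact absurd h hKC
    · apply Cfsg.Agent.Lib.Helper3_CommDecomp3.coprime_of_centralizing_gf hO C
      rw [← h1]
      rw [Subgroup.commutator_comm, Subgroup.commutator_eq_bot_iff_le_centralizer] at h
      exact h
  refine ⟨h1, h2, h3, ?_, ?_⟩
  · intro hcl
    let P : Sylow p H := default
    have hPn := hcl P
    have hPle := Cfsg.Agent.Lib.Helper4_PCore.le_pCore (P : Subgroup H) hPn P.isPGroup'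
    rw [hO] at hPle
    exact P.ne_bot_of_dvd_card hp (le_bot_iff.mp hPle)
  · intro N hN hNcl
    by_contra hKN
    apply hNcl
    have hcop := h3 N hN hKN
    intro P
    have hPb : (P : Subgroup ↥N) = ⊥ := by
      apply Cfsg.Agent.Lib.Helper3_CommDecomp3.pgroup_eq_bot_of_coprime _ P.isPGroup'
      exact Nat.Coprime.coprime_dvd_left (Subgroup.card_subgroup_dvd_card _) hcop
    rw [hPb]
    infer_instance

end Cfsg.Agent.S2815
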