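import Cfsg.Statements.S2816
import Mathlib
import Cfsg.Agent.Lib.Helper3_CommDecomp2

set_option autoImplicit false
open Cfsg

namespace Cfsg.Agent.S2816

/-- Let H be a finite group and p a prime with O_p(H) = 1, and Y a p-subgroup of H. Then for every subnormal subgroup K of H containing Y, [F*(H), Y] = [F*(K), Y] = [F*(K), Y, Y]; and if Y₀ ≤ Y with [F*(H), Y, Y₀] = 1 then Y₀ = 1 (in particular [F*(H), Y] = 1 forces Y = 1). -/
theorem result {H : Type*} [Group H] [Finite H] {p : ℕ} [Fact p.Prime] (hO : Cfsg.pCore p H = ⊥) (Y : Subgroup H) (hY : IsPGroup p ↥Y) : (∀ K : Subgroup H, K.IsSubnormal → Y ≤ K → ⁅Cfsg.generalizedFittingSubgroup H, Y⁆ = ⁅(Cfsg.generalizedFittingSubgroup ↥K).map K.subtype, Y⁆ ∧ ⁅(Cfsg.generalizedFittingSubgroup ↥K).map K.subtype, Y⁆ = ⁅⁅(Cfsg.generalizedFittingSubgroup ↥K).map K.subtype, Y⁆, Y⁆) ∧ (∀ Y₀ : Subgroup H, Y₀ ≤ Y → ⁅⁅Cfsg.generalizedFittingSubgroup H, Y⁆, Y₀⁆ = ⊥ → Y₀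 = ⊥) := by
  classical
  haveI hgfn := Cfsg.Agent.S1265.gf_normal H
  have hgfN : ∀ X : Subgroup H, X ≤ Subgroup.normalizer (Cfsg.generalizedFittingSubgroup H : Set H) := by
    intro X
    rw [Subgroup.normalizer_eq_top_iff.mpr hgfn]
    exact le_top
  -- lemma M for F*(H)
  have hM : ∀ Y' : Subgroup H, IsPGroup p ↥Y' →
      ⁅Cfsg.generalizedFittingSubgroup H, Y'⁆ = ⁅⁅Cfsg.generalizedFittingSubgroup H, Y'⁆, Y'⁆ := by
    intro Y' hY'
    exact (Cfsg.Agent.Lib.Helper3_CommDecomp2.lemmaM hO Y' hY' _ le_rfl hgfn.isSubnormal (hgfN Y')).2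
  refine ⟨?_, ?_⟩
  · intro K hK hYK
    have hFK := Cfsg.Agent.Lib.Helper3_CommDecomp2.gf_inf_subnormal K hK
    set FK := (Cfsg.generalizedFittingSubgroup ↥K).map K.subtype with hFKdef
    have hFKle : FK ≤ Cfsg.generalizedFittingSubgroup H := by rw [← hFK]; exact inf_le_left
    have hFKsn : FK.IsSubnormal := by
      haveI := Cfsg.Agent.S1265.gf_normal ↥K
      exact (inferInstance : (Cfsg.generalizedFittingSubgroup ↥K).Normal).isSubnormal.trans' hK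
    have hYFK : Y ≤ Subgroup.normalizer (FK : Set H) := by
      intro y hy
      rw [Subgroup.mem_normalizer_iff]
      intro x
      rw [← hFK]
      constructor
      · rintro ⟨hx1, hx2⟩
        exact ⟨hgfn.conj_mem x hx1 y, K.mul_mem (K.mul_mem (hYK hy) hx2) (K.inv_mem (hYK hy))⟩
      · rintro ⟨hx1, hx2⟩
        have h1 := hgfn.conj_mem _ hx1 y⁻¹
        have h2 := K.mul_mem (K.mul_mem (K.inv_mem (hYK hy)) hx2) (hYK hy)
        have e : y⁻¹ * (y * x * y⁻¹) * y⁻¹⁻¹ = x := by group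
        have e2 : y⁻¹ * (y * x * y⁻¹) * y = x := by group
        rw [e] at h1
        rw [e2] at h2
        exact ⟨h1, h2⟩
    have h2 := (Cfsg.Agent.Lib.Helper3_CommDecomp2.lemmaM hO Y hY FK hFKle hFKsn hYFK).2
    refine ⟨?_, h2⟩
    apply le_antisymm
    · have hM1 := hM Y hY
      have hMK : ⁅Cfsg.generalizedFittingSubgroup H, Y⁆ ≤ K :=
        Cfsg.Agent.Lib.Helper3_CommDecomp2.comm_le_subnormal _ Y K hM1 hK hYK
      have hMF : ⁅Cfsg.generalizedFittingSubgroup H, Y⁆ ≤ Cfsg.generalizedFittingSubgroup H :=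
        Cfsg.Agent.Lib.Lead_Coprime.commutator_le_of_le_normalizer _ Y (hgfN Y)
      have hMFK : ⁅Cfsg.generalizedFittingSubgroup H, Y⁆ ≤ FK := by
        rw [← hFK]; exact le_inf hMF hMK
      calc ⁅Cfsg.generalizedFittingSubgroup H, Y⁆
          = ⁅⁅Cfsg.generalizedFittingSubgroup H, Y⁆, Y⁆ := hM1
        _ ≤ ⁅FK, Y⁆ := Subgroup.commutator_mono hMFK le_rfl
    · exact Subgroup.commutator_mono hFKle le_rfl
  · intro Y₀ hY₀ h
    have hY₀p : IsPGroup p ↥Y₀ := hY.to_le hY₀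
    have h1 := hM Y₀ hY₀p
    have h2 : ⁅⁅Cfsg.generalizedFittingSubgroup H, Y₀⁆, Y₀⁆ ≤ ⊥ := by
      rw [← h]
      exact Subgroup.commutator_mono (Subgroup.commutator_mono le_rfl hY₀) le_rfl
    have h3 : ⁅Cfsg.generalizedFittingSubgroup H, Y₀⁆ = ⊥ := by
      rw [h1]; exact le_bot_iff.mp h2
    exact Cfsg.Agent.Lib.Helper3_CommDecomp2.pgroup_centralizing_gf hO Y₀ hY₀p h3

end Cfsg.Agent.S2816
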