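import Cfsg.Statements.S2817
import Mathlib
import Cfsg.Agent.Lib.Helper3_CommDecomp4
import Cfsg.Agent.Lib.Helper3_AltStd2

set_option autoImplicit false
open Cfsg

namespace Cfsg.Agent.S2817

open scoped commutatorElement in
theorem comm_central_left {G : Type*} [Group G] (t x y : G) (h1 : Commute t x) (h2 : Commute t y) :
    ⁅t * x, y⁆ = ⁅x, y⁆ := by
  simp only [commutatorElement_def]
  have hc : Commute t (x * y * x⁻¹) := (h1.mul_right h2).mul_right h1.inv_right
  calc t * x * y * (t * x)⁻¹ * y⁻¹ = t * (x * y * x⁻¹) * t⁻¹ * y⁻¹ := by group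
    _ = x * y * x⁻¹ * y⁻¹ := by rw [hc.eq, mul_inv_cancel_right]

open scoped commutatorElement in
theorem comm_central_right {G : Type*} [Group G] (t x y : G) (h1 : Commute t x) (h2 : Commute t y) :
    ⁅x, t * y⁆ = ⁅x, y⁆ := by
  simp only [commutatorElement_def]
  have hc : Commute t (x⁻¹) := h1.inv_right
  calc x * (t * y) * x⁻¹ * (t * y)⁻¹ = x * t * (y * x⁻¹ * y⁻¹) * t⁻¹ := by group
    _ = t * x * (y * x⁻¹ * y⁻¹) * t⁻¹ := by rw [h1.eq]
    _ = t * (x * y * x⁻¹ * y⁻¹) * t⁻¹ := by group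
    _ = x * y * x⁻¹ * y⁻¹ := by
      have hc2 : Commute t (x * y * x⁻¹ * y⁻¹) :=
        ((h1.mul_right h2).mul_right h1.inv_right).mul_right h2.inv_right
      rw [hc2.eq, mul_inv_cancel_right]

open scoped commutatorElement in
/-- Let H be a finite group and p a prime with O_p(H) = 1, Q a p-subgroup of H, L = [F*(H), Q], and F the largest normal subgroup of F*(H) centralized by Q (a normal subgroup of F*(H) centralized by Q and containing every such). Then F = C_{F*(H)}(LQ); L = [L, Q]; L ∩ F ≤ Φ(L); every p-subgroup B of N_H(Q) with [L, B] ≤ F satisfies [L, B] = 1; and C_H(FL) has order prime to p. -/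
theorem result {H : Type*} [Group H] [Finite H] {p : ℕ} [Fact p.Prime] (hO : Cfsg.pCore p H = ⊥) (Q : Subgroup H) (hQ : IsPGroup p ↥Q) (L : Subgroup H) (hL : L = ⁅Cfsg.generalizedFittingSubgroup H, Q⁆) (F : Subgroup H) (hF : F ≤ Cfsg.generalizedFittingSubgroup H ∧ Cfsg.generalizedFittingSubgroup H ≤ Subgroup.normalizer (F : Set H) ∧ Q ≤ Subgroup.centralizer (F : Set H) ∧ ∀ N : Subgroup H, N ≤ Cfsg.generalizedFittingSubgroup H → Cfsg.generalizedFittingSubgroup H ≤ Subgroup.normalizer (N : Set H) → Q ≤ Subgroup.centralizer (N : Set H) → N ≤ F) : F = Cfsg.generalizedFittingSubgroup H ⊓ Subgroup.centralizer ((L ⊔ Q : Subgroup H) : Set H) ∧ ⁅L, Q⁆ = L ∧ L ⊓ F ≤ (frattini ↥L).map L.subtype ∧ (∀ B : Subgroup H, IsPGroup p ↥B → B ≤ Subgroup.normalizer (Q : Set H) → ⁅L, B⁆ ≤ F → ⁅L, B⁆ = ⊥) ∧ (Nat.card ↥(Subgroup.centralizer ((F ⊔ L : Subgroup H) : Set H))).Coprime p := by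
  classical
  have hpp : p.Prime := Fact.out
  haveI hgfn := Cfsg.Agent.S1265.gf_normal H
  obtain ⟨hFS, hSF, hQF, hFmax⟩ := hF
  have hSN : ∀ X : Subgroup H, X ≤ Subgroup.normalizer (Cfsg.generalizedFittingSubgroup H : Set H) := by
    intro X
    rw [Subgroup.normalizer_eq_top_iff.mpr hgfn]
    exact le_top
  have hMQ := Cfsg.Agent.Lib.Helper3_CommDecomp2.lemmaM hO Q hQ _ le_rfl hgfn.isSubnormal (hSN Q)
  have hLS : L ≤ Cfsg.generalizedFittingSubgroup H := by
    rw [hL]; exact Cfsg.Agent.Lib.Lead_Coprime.commutator_le_of_le_normalizer _ Q (hSN Q)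
  have hSL : Cfsg.generalizedFittingSubgroup H ≤ Subgroup.normalizer (L : Set H) := by
    rw [hL]; exact Cfsg.Agent.Lib.Lead_Coprime.le_normalizer_commutator_left _ Q
  have hQL : Q ≤ Subgroup.normalizer (L : Set H) := by
    rw [hL]; exact Cfsg.Agent.Lib.Lead_Coprime.le_normalizer_commutator_right _ Q
  have hLsn : L.IsSubnormal :=
    Subgroup.IsSubnormal.trans hLS (Subgroup.normal_subgroupOf_of_le_normalizer hSL).isSubnormal
      hgfn.isSubnormal
  have h2 : ⁅L, Q⁆ = L := by rw [hL]; exact hMQ.2.symm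
  have hFQ : ⁅F, Q⁆ = ⊥ := by
    rw [Subgroup.commutator_comm, Subgroup.commutator_eq_bot_iff_le_centralizer]; exact hQF
  have hFcQ : F ≤ Subgroup.centralizer (Q : Set H) := Subgroup.le_centralizer_iff.mp hQF
  have hLF0 : ⁅L, F⁆ = ⊥ := by
    rw [hL]
    apply Subgroup.commutator_commutator_eq_bot_of_rotate
    · rw [Subgroup.commutator_comm Q F, hFQ, Subgroup.commutator_bot_left]
    · rw [eq_bot_iff, ← hFQ]
      exact Subgroup.commutator_mono
        (Cfsg.Agent.Lib.Lead_Coprime.commutator_le_of_le_normalizer F _ hSF) le_rfl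
  have hLcF : L ≤ Subgroup.centralizer (F : Set H) := by
    rw [← Subgroup.commutator_eq_bot_iff_le_centralizer]; exact hLF0
  have hFcL : F ≤ Subgroup.centralizer (L : Set H) := Subgroup.le_centralizer_iff.mp hLcF
  have hcc : Subgroup.centralizer (L : Set H) ⊓ Subgroup.centralizer (Q : Set H) ≤
      Subgroup.centralizer ((L ⊔ Q : Subgroup H) : Set H) := by
    rw [Subgroup.le_centralizer_iff]
    exact sup_le (Subgroup.le_centralizer_iff.mp inf_le_left)
      (Subgroup.le_centralizer_iff.mp inf_le_right)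
  have hccL : Subgroup.centralizer ((L ⊔ Q : Subgroup H) : Set H) ≤ Subgroup.centralizer (L : Set H) :=
    Subgroup.centralizer_le (SetLike.coe_subset_coe.mpr le_sup_left)
  have hccQ : Subgroup.centralizer ((L ⊔ Q : Subgroup H) : Set H) ≤ Subgroup.centralizer (Q : Set H) :=
    Subgroup.centralizer_le (SetLike.coe_subset_coe.mpr le_sup_right)
  -- normalizer of an inf
  have hninf : ∀ (c : H) (X Y : Subgroup H), c ∈ Subgroup.normalizer (X : Set H) →
      c ∈ Subgroup.normalizer (Y : Set H) → c ∈ Subgroup.normalizer ((X ⊓ Y : Subgroup H) : Set H) := by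
    intro c X Y hX hY
    rw [Subgroup.mem_normalizer_iff]
    intro h
    have e1 := Subgroup.mem_normalizer_iff.mp hX h
    have e2 := Subgroup.mem_normalizer_iff.mp hY h
    constructor
    · rintro ⟨a, b⟩; exact ⟨e1.mp a, e2.mp b⟩
    · rintro ⟨a, b⟩; exact ⟨e1.mpr a, e2.mpr b⟩
  have h1 : F = Cfsg.generalizedFittingSubgroup H ⊓
      Subgroup.centralizer ((L ⊔ Q : Subgroup H) : Set H) := by
    apply le_antisymm
    · exact le_inf hFS (Subgroup.le_centralizer_iff.mp (sup_le hLcF hQF))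
    · apply hFmax _ inf_le_left
      · have hSdec : Cfsg.generalizedFittingSubgroup H =
            L ⊔ (Cfsg.generalizedFittingSubgroup H ⊓ Subgroup.centralizer (Q : Set H)) := by
          rw [hL]; exact hMQ.1.symm
        have hLC : L ≤ Subgroup.normalizer ((Cfsg.generalizedFittingSubgroup H ⊓
            Subgroup.centralizer ((L ⊔ Q : Subgroup H) : Set H) : Subgroup H) : Set H) := by
          have h3 : L ≤ Subgroup.centralizer ((Cfsg.generalizedFittingSubgroup H ⊓
              Subgroup.centralizer ((L ⊔ Q : Subgroup H) : Set H) : Subgroup H) : Set H) := by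
            rw [Subgroup.le_centralizer_iff]
            exact inf_le_right.trans hccL
          exact h3.trans (Subgroup.centralizer_le_normalizer _)
        have hCQ : Cfsg.generalizedFittingSubgroup H ⊓ Subgroup.centralizer (Q : Set H) ≤
            Subgroup.normalizer ((Cfsg.generalizedFittingSubgroup H ⊓
            Subgroup.centralizer ((L ⊔ Q : Subgroup H) : Set H) : Subgroup H) : Set H) := by
          intro c hc
          have hcL : c ∈ Subgroup.normalizer (L : Set H) := hSL hc.1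
          have hcQ : c ∈ Subgroup.normalizer (Q : Set H) := Subgroup.centralizer_le_normalizer _ hc.2
          have hcLQ : c ∈ Subgroup.normalizer ((L ⊔ Q : Subgroup H) : Set H) := by
            apply Cfsg.Agent.Lib.Helper3_Conj.mem_normalizer_of_map_conj_eq_self
            rw [Subgroup.map_sup, Cfsg.Agent.Lib.Helper3_Conj.map_conj_eq_self_of_mem_normalizer L c hcL,
              Cfsg.Agent.Lib.Helper3_Conj.map_conj_eq_self_of_mem_normalizer Q c hcQ]
          have hcC := Cfsg.Agent.Lib.Helper3_AltStd2.normalizer_le_normalizer_centralizer (L ⊔ Q) hcLQ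
          exact hninf c _ _ (hSN ⊤ (Subgroup.mem_top c)) hcC
        exact le_trans (le_of_eq hSdec) (sup_le hLC hCQ)
      · rw [Subgroup.le_centralizer_iff]
        exact inf_le_right.trans hccQ
  have h3 : L ⊓ F ≤ (frattini ↥L).map L.subtype := by
    intro z hz
    have hzL := hz.1
    have hzF := hz.2
    have hzcomm := Cfsg.Agent.Lib.Helper3_CommDecomp4.keyK hO L Q hQ hLS hLsn hQL h2 z hzL (hFcQ hzF)
    have hzcent := hFcL hzF
    refine ⟨⟨z, hzL⟩, ?_, rfl⟩
    apply Cfsg.Agent.Lib.Helper3_CommDecomp4.gaschutz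
    · rw [Subgroup.mem_center_iff]
      intro g
      apply Subtype.ext
      exact Subgroup.mem_centralizer_iff.mp hzcent g g.2
    · rw [commutator_def]
      have h5 : Subgroup.map L.subtype ⁅(⊤ : Subgroup ↥L), ⊤⁆ = ⁅L, L⁆ := by
        rw [Subgroup.map_commutator, ← MonoidHom.range_eq_map, Subgroup.range_subtype]
      rw [← h5] at hzcomm
      obtain ⟨w, hw, hwz⟩ := hzcomm
      have : w = ⟨z, hzL⟩ := Subtype.ext hwz
      rw [← this]; exact hw
  have h4 : ∀ B : Subgroup H, IsPGroup p ↥B → B ≤ Subgroup.normalizer (Q : Set H) → ⁅L, B⁆ ≤ F →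
      ⁅L, B⁆ = ⊥ := by
    intro B hB hBQ hLBF
    have hBL : B ≤ Subgroup.normalizer (L : Set H) := by
      rw [hL]; exact Cfsg.Agent.Lib.Lead_Coprime.le_normalizer_commutator B _ Q (hSN B) hBQ
    have hMB := Cfsg.Agent.Lib.Helper3_CommDecomp2.lemmaM hO B hB L hLS hLsn hBL
    have hTL : ⁅L, B⁆ ≤ L := Cfsg.Agent.Lib.Lead_Coprime.commutator_le_of_le_normalizer L B hBL
    have hTcomm : ⁅L, B⁆ ≤ ⁅L, L⁆ := by
      intro z hz
      exact Cfsg.Agent.Lib.Helper3_CommDecomp4.keyK hO L Q hQ hLS hLsn hQL h2 z (hTL hz)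
        (hFcQ (hLBF hz))
    have hTcent : ⁅L, B⁆ ≤ Subgroup.centralizer (L : Set H) := hLBF.trans hFcL
    have hL'B : ⁅L, L⁆ ≤ Subgroup.centralizer (B : Set H) := by
      rw [Subgroup.commutator_le]
      intro a ha b hb
      have hn : L ⊓ Subgroup.centralizer (B : Set H) ≤
          Subgroup.normalizer ((⁅L, B⁆ : Subgroup H) : Set H) :=
        inf_le_left.trans (Cfsg.Agent.Lib.Lead_Coprime.le_normalizer_commutator_left L B)
      have ha' : a ∈ ⁅L, B⁆ ⊔ (L ⊓ Subgroup.centralizer (B : Set H)) := by rw [hMB.1]; exact ha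
      have hb' : b ∈ ⁅L, B⁆ ⊔ (L ⊓ Subgroup.centralizer (B : Set H)) := by rw [hMB.1]; exact hb
      obtain ⟨t1, ht1, c1, hc1, rfl⟩ :=
        Cfsg.Agent.Lib.Helper3_Tight.mem_sup_of_le_normalizer _ _ hn a ha'
      obtain ⟨t2, ht2, c2, hc2, rfl⟩ :=
        Cfsg.Agent.Lib.Helper3_Tight.mem_sup_of_le_normalizer _ _ hn b hb'
      have hcen : ∀ t ∈ (⁅L, B⁆ : Subgroup H), ∀ x ∈ L, Commute t x := by
        intro t ht x hx
        exact (Subgroup.mem_centralizer_iff.mp (hTcent ht) x hx).symm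
      have e1 : ⁅t1 * c1, t2 * c2⁆ = ⁅c1, t2 * c2⁆ :=
        comm_central_left t1 c1 (t2 * c2) (hcen t1 ht1 c1 hc1.1)
          (hcen t1 ht1 _ (L.mul_mem (hTL ht2) hc2.1))
      have e2 : ⁅c1, t2 * c2⁆ = ⁅c1, c2⁆ :=
        comm_central_right t2 c1 c2 (hcen t2 ht2 c1 hc1.1) (hcen t2 ht2 c2 hc2.1)
      rw [e1, e2, commutatorElement_def]
      exact Subgroup.mul_mem _ (Subgroup.mul_mem _ (Subgroup.mul_mem _ hc1.2 hc2.2)
        (Subgroup.inv_mem _ hc1.2)) (Subgroup.inv_mem _ hc2.2)
    have hTB : ⁅L, B⁆ ≤ Subgroup.centralizer (B : Set H) := hTcomm.trans hL'B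
    rw [hMB.2, Subgroup.commutator_eq_bot_iff_le_centralizer]
    exact hTB
  have h5 : (Nat.card ↥(Subgroup.centralizer ((F ⊔ L : Subgroup H) : Set H))).Coprime p := by
    have key : ∀ P : Subgroup H, IsPGroup p ↥P →
        P ≤ Subgroup.centralizer ((F ⊔ L : Subgroup H) : Set H) → P = ⊥ := by
      intro P hP hPX
      have hPF : ⁅F ⊔ L, P⁆ = ⊥ := by
        rw [Subgroup.commutator_eq_bot_iff_le_centralizer, Subgroup.le_centralizer_iff]; exact hPX
      have hLP : ⁅L, P⁆ = ⊥ := by
        rw [eq_bot_iff, ← hPF]; exact Subgroup.commutator_mono le_sup_right le_rfl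
      have hMP := Cfsg.Agent.Lib.Helper3_CommDecomp2.lemmaM hO P hP _ le_rfl hgfn.isSubnormal (hSN P)
      have hNS : ⁅Cfsg.generalizedFittingSubgroup H, P⁆ ≤ Cfsg.generalizedFittingSubgroup H :=
        Cfsg.Agent.Lib.Lead_Coprime.commutator_le_of_le_normalizer _ P (hSN P)
      have hNL : ⁅⁅Cfsg.generalizedFittingSubgroup H, P⁆, L⁆ = ⊥ := by
        apply Subgroup.commutator_commutator_eq_bot_of_rotate
        · rw [Subgroup.commutator_comm P L, hLP, Subgroup.commutator_bot_left]
        · rw [eq_bot_iff, ← hLP]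
          exact Subgroup.commutator_mono
            (Cfsg.Agent.Lib.Lead_Coprime.commutator_le_of_le_normalizer L _ hSL) le_rfl
      have hND : ⁅Cfsg.generalizedFittingSubgroup H, P⁆ ≤
          Cfsg.generalizedFittingSubgroup H ⊓ Subgroup.centralizer (L : Set H) :=
        le_inf hNS (by rw [← Subgroup.commutator_eq_bot_iff_le_centralizer]; exact hNL)
      have hDle : Cfsg.generalizedFittingSubgroup H ⊓ Subgroup.centralizer (L : Set H) ≤ F ⊔ L := by
        have hNcl : ∀ X : Subgroup H, X ≤ Subgroup.normalizer (L : Set H) →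
            X ≤ Subgroup.normalizer ((Cfsg.generalizedFittingSubgroup H ⊓
              Subgroup.centralizer (L : Set H) : Subgroup H) : Set H) := by
          intro X hX c hc
          exact hninf c _ _ (hSN ⊤ (Subgroup.mem_top c))
            (Cfsg.Agent.Lib.Helper3_AltStd2.normalizer_le_normalizer_centralizer L (hX hc))
        have hDsn : (Cfsg.generalizedFittingSubgroup H ⊓
            Subgroup.centralizer (L : Set H) : Subgroup H).IsSubnormal :=
          Subgroup.IsSubnormal.trans inf_le_left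
            (Subgroup.normal_subgroupOf_of_le_normalizer (hNcl _ hSL)).isSubnormal hgfn.isSubnormal
        have hMD := Cfsg.Agent.Lib.Helper3_CommDecomp2.lemmaM hO Q hQ _ inf_le_left hDsn (hNcl Q hQL)
        rw [← hMD.1]
        apply sup_le
        · refine (Subgroup.commutator_mono inf_le_left le_rfl).trans ?_
          rw [← hL]; exact le_sup_right
        · refine le_trans ?_ le_sup_left
          rw [h1]
          intro x hx
          exact ⟨hx.1.1, hcc ⟨hx.1.2, hx.2⟩⟩
      have hNP : ⁅⁅Cfsg.generalizedFittingSubgroup H, P⁆, P⁆ = ⊥ := by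
        rw [eq_bot_iff, ← hPF]
        exact Subgroup.commutator_mono (hND.trans hDle) le_rfl
      apply Cfsg.Agent.Lib.Helper3_CommDecomp2.pgroup_centralizing_gf hO P hP
      rw [hMP.2]; exact hNP
    rw [Nat.coprime_comm, Nat.Prime.coprime_iff_not_dvd hpp]
    intro hdvd
    let P : Sylow p ↥(Subgroup.centralizer ((F ⊔ L : Subgroup H) : Set H)) := default
    have hPb := key ((P : Subgroup _).map (Subgroup.subtype _)) (P.isPGroup'.map _)
      (Subgroup.map_subtype_le _)
    have hPb' : (P : Subgroup ↥(Subgroup.centralizer ((F ⊔ L : Subgroup H) : Set H))) = ⊥ :=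
      (Subgroup.map_eq_bot_iff_of_injective _ (Subgroup.subtype_injective _)).mp hPb
    exact P.ne_bot_of_dvd_card hdvd hPb'
  exact ⟨h1, h2, h3, h4, h5⟩

end Cfsg.Agent.S2817
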