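import Cfsg.Statements.S2818
import Cfsg.Agent.Lib.Helper4_Frattini

set_option autoImplicit false
open Cfsg

namespace Cfsg.Agent.S2818

open scoped commutatorElement


/-- Let P be a finite p-subgroup of a group G and H a subgroup of N_G(P) with [P, H] ≤ Ω₁(Z(P)) (the elements of order dividing p in the centre of P). Then H centralizes the Frattini subgroup of P. -/
theorem result {G : Type*} [Group G] [Finite G] {p : ℕ} [Fact p.Prime] (P : Subgroup G) (hP : IsPGroup p ↥P) (H : Subgroup G) (hH : H ≤ Subgroup.normalizer (P : Set G)) (h : ⁅P, H⁆ ≤ Cfsg.omegaOne p (P ⊓ Subgroup.centralizer (P : Set G))) : ⁅(frattini ↥P).map P.subtype, H⁆ = ⊥ := by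
  set Z : Subgroup G := P ⊓ Subgroup.centralizer (P : Set G) with hZ
  have hZcomm : ∀ a ∈ Z, ∀ b ∈ Z, a * b = b * a := by
    intro a ha b hb
    exact (Subgroup.mem_centralizer_iff.mp hb.2 a ha.1)
  have hΩ : ∀ w ∈ Cfsg.omegaOne p Z, w ∈ Z ∧ w ^ p = 1 := by
    intro w hw
    have hw' : w ∈ Subgroup.closure {x : G | x ∈ Z ∧ x ^ p = 1} := hw
    induction hw' using Subgroup.closure_induction with
    | mem x hx => exact hx
    | one => exact ⟨Z.one_mem, one_pow p⟩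
    | mul x y hx hy ihx ihy =>
      obtain ⟨hxZ, hxp⟩ := ihx hx
      obtain ⟨hyZ, hyp⟩ := ihy hy
      refine ⟨Z.mul_mem hxZ hyZ, ?_⟩
      have hcomm : Commute x y := hZcomm x hxZ y hyZ
      rw [hcomm.mul_pow, hxp, hyp, one_mul]
    | inv x hx ihx =>
      obtain ⟨hxZ, hxp⟩ := ihx hx
      exact ⟨Z.inv_mem hxZ, by rw [inv_pow, hxp, inv_one]⟩
  have hcomm_mem : ∀ x ∈ P, ∀ k ∈ H, ⁅x, k⁆ ∈ Z ∧ ⁅x, k⁆ ^ p = 1 := by
    intro x hx k hk
    exact hΩ _ (h (Subgroup.commutator_mem_commutator hx hk))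
  rw [eq_bot_iff, Subgroup.commutator_le]
  intro x hx k hk
  rw [Subgroup.mem_bot]
  obtain ⟨y, hy, rfl⟩ := Subgroup.mem_map.mp hx
  -- the homomorphism x ↦ [x, k]
  let φ : ↥P →* G := MonoidHom.mk' (fun x => ⁅(x : G), k⁆) (by
    intro a b
    have hb := hcomm_mem (b : G) b.2 k hk
    have ha := hcomm_mem (a : G) a.2 k hk
    have h1 : (a : G) * ⁅(b : G), k⁆ * (a : G)⁻¹ = ⁅(b : G), k⁆ := by
      have := Subgroup.mem_centralizer_iff.mp hb.1.2 (a : G) a.2
      rw [this]; group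
    have h2 : ⁅((a * b : ↥P) : G), k⁆ = ((a : G) * ⁅(b : G), k⁆ * (a : G)⁻¹) * ⁅(a : G), k⁆ := by
      simp only [commutatorElement_def, Subgroup.coe_mul]; group
    show ⁅((a * b : ↥P) : G), k⁆ = ⁅(a : G), k⁆ * ⁅(b : G), k⁆
    rw [h2, h1]
    exact hZcomm _ hb.1 _ ha.1)
  have hφ : ∀ a : ↥P, φ a = ⁅(a : G), k⁆ := fun a => rfl
  have hker : frattini ↥P ≤ φ.ker := by
    apply Cfsg.Agent.Lib.Helper4_Frattini.frattini_le_of_elementary_quotient (p := p)
    · intro a b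
      rw [MonoidHom.mem_ker, map_commutatorElement, commutatorElement_eq_one_iff_mul_comm, hφ, hφ]
      exact hZcomm _ (hcomm_mem _ a.2 k hk).1 _ (hcomm_mem _ b.2 k hk).1
    · intro a
      rw [MonoidHom.mem_ker, map_pow, hφ]
      exact (hcomm_mem _ a.2 k hk).2
  have := hker hy
  rw [MonoidHom.mem_ker, hφ] at this
  exact this

end Cfsg.Agent.S2818
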