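import Cfsg.Statements.S2829
import Cfsg.Agent.Lib.Helper4_PCore

set_option autoImplicit false
open Cfsg

namespace Cfsg.Agent.S2829

open Cfsg.Agent.Lib.Helper4_PCore
open scoped commutatorElement

/-- Every strongly p-irreducible finite group is p-irreducible. -/
theorem result {H : Type*} [Group H] [Finite H] {p : ℕ} [Fact p.Prime] (hH : Cfsg.IsStronglyPIrreducible p H) : Cfsg.IsPIrreducible p H := by
  obtain ⟨hnc, hstr⟩ := hH
  refine ⟨hnc, fun N hN hNnc => hstr N hN ?_⟩
  intro h
  apply hNnc
  intro P
  -- the p-core of H intersected with N is a normal p-subgroup of N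
  have hQn : ((Cfsg.pCore p H).subgroupOf N).Normal := by
    haveI := pCore_normal p H
    infer_instance
  have hQp : IsPGroup p ((Cfsg.pCore p H).subgroupOf N) := by
    have := (pCore_isPGroup (G := H) (p := p))
    exact this.comap_subtype
  have hQP : (Cfsg.pCore p H).subgroupOf N ≤ (P : Subgroup N) :=
    normal_pGroup_le_sylow _ hQn hQp P
  constructor
  intro n hn g
  have hc : ⁅g, n⁆ ∈ (P : Subgroup N) := by
    apply hQP
    rw [Subgroup.mem_subgroupOf]
    apply h
    have : ((⁅g, n⁆ : N) : H) = ⁅(g : H), (n : H)⁆ := by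
      simp [commutatorElement_def]
    rw [this]
    exact Subgroup.commutator_mem_commutator g.2 (Subgroup.mem_top _)
  have : g * n * g⁻¹ = ⁅g, n⁆ * n := by
    simp [commutatorElement_def]
  rw [this]
  exact (P : Subgroup N).mul_mem hc hn

end Cfsg.Agent.S2829
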