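import Cfsg.Statements.S2832
import Cfsg.Agent.Lib.Helper4_Minimal

set_option autoImplicit false
open Cfsg

namespace Cfsg.Agent.S2832

open Cfsg.Agent.Lib.Helper4_Minimal


/-- Let H be a finite group with Sylow p-subgroup T such that H is T-minimal (generated by the conjugates of T, with T in exactly one maximal subgroup), and let N be a normal subgroup of H. Then either H/N is a p-group or H/N is minimal over the image of T in the same sense. -/
theorem result {H : Type*} [Group H] [Finite H] {p : ℕ} [Fact p.Prime] (T : Sylow p H) (hmin : Cfsg.IsMinimalOver (T : Subgroup H)) (N : Subgroup H) [N.Normal] : IsPGroup p (H ⧸ N) ∨ Cfsg.IsMinimalOver ((T : Subgroup H).map (QuotientGroup.mk' N)) := by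
  obtain ⟨M, hM, hTM, hMuniv⟩ := exists_coatom_of_minimalOver hmin
  have hsurj : Function.Surjective (QuotientGroup.mk' N) := QuotientGroup.mk'_surjective N
  by_cases hTN : (T : Subgroup H) ⊔ N = ⊤
  · left
    intro x
    induction x using QuotientGroup.induction_on with
    | H x =>
      have hxtop : x ∈ (T : Subgroup H) ⊔ N := by rw [hTN]; exact Subgroup.mem_top x
      obtain ⟨t, ht, n, hn, rfl⟩ := Subgroup.mem_sup_of_normal_right.mp hxtop
      obtain ⟨k, hk⟩ := T.isPGroup' ⟨t, ht⟩
      have hk' : t ^ (p ^ k) = 1 := by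
        have := congrArg Subtype.val hk
        simpa using this
      refine ⟨k, ?_⟩
      rw [QuotientGroup.mk_mul, (QuotientGroup.eq_one_iff n).mpr hn, mul_one, ← QuotientGroup.mk_pow, hk']
      rfl
  · right
    have hNM : N ≤ M := le_sup_right.trans (hMuniv _ le_sup_left hTN)
    set Mbar : Subgroup (H ⧸ N) := M.map (QuotientGroup.mk' N) with hMbar
    have hMbar_ne : Mbar ≠ ⊤ := by
      intro h
      have h1 : (Mbar).comap (QuotientGroup.mk' N) = ⊤ := by rw [h]; rfl
      rw [hMbar, Subgroup.comap_map_eq, QuotientGroup.ker_mk', sup_eq_left.mpr hNM] at h1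
      exact hM.1 h1
    have hTbar : (T : Subgroup H).map (QuotientGroup.mk' N) ≤ Mbar := Subgroup.map_mono hTM
    -- every proper subgroup over the image of T lies in Mbar
    have huniv : ∀ X : Subgroup (H ⧸ N), (T : Subgroup H).map (QuotientGroup.mk' N) ≤ X → X ≠ ⊤ →
        X ≤ Mbar := by
      intro X hTX hX
      have h1 : (T : Subgroup H) ≤ X.comap (QuotientGroup.mk' N) :=
        Subgroup.map_le_iff_le_comap.mp hTX
      have h2 : X.comap (QuotientGroup.mk' N) ≠ ⊤ := by
        intro h
        apply hX
        rw [← Subgroup.map_comap_eq_self_of_surjective hsurj X, h, ← MonoidHom.range_eq_map,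
          MonoidHom.range_eq_top.mpr hsurj]
      have h3 := hMuniv _ h1 h2
      rw [← Subgroup.map_comap_eq_self_of_surjective hsurj X]
      exact Subgroup.map_mono h3
    have hMbar_coatom : IsCoatom Mbar := by
      rcases eq_top_or_exists_le_coatom Mbar with h | ⟨X, hX, hMX⟩
      · exact absurd h hMbar_ne
      · have h1 := huniv X (hTbar.trans hMX) hX.1
        have : X = Mbar := le_antisymm h1 hMX
        rw [← this]; exact hX
    refine ⟨?_, Mbar, ⟨hMbar_coatom, hTbar⟩, ?_⟩
    · have := Subgroup.map_normalClosure ((T : Subgroup H) : Set H) (QuotientGroup.mk' N) hsurj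
      rw [hmin.1] at this
      rw [Subgroup.coe_map, ← this, ← MonoidHom.range_eq_map, MonoidHom.range_eq_top.mpr hsurj]
    · rintro X ⟨hX, hTX⟩
      have h1 := huniv X hTX hX.1
      by_contra hne
      have hlt : X < Mbar := lt_of_le_of_ne h1 hne
      exact hMbar_ne (hX.2 _ hlt)

end Cfsg.Agent.S2832
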