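import Cfsg.Statements.S2833
import Cfsg.Agent.Lib.Helper4_PIrred

set_option autoImplicit false
open Cfsg

namespace Cfsg.Agent.S2833

open Cfsg.Agent.Lib.Helper4_PIrred
open scoped commutatorElement


/-- Let V be a subgroup of a finite group G normalized by the subgroup L, let X ≤ L and g ∈ L with [V, X, X] = 1 and L generated by X and gXg⁻¹. Put W = [V, L]. Then W = [V, X]·[V, gXg⁻¹], C_W(X) = [V, X], and C_W(L) = [V, X] ∩ [V, gXg⁻¹]. -/
theorem result {G : Type*} [Group G] [Finite G] (V L : Subgroup G) (hLV : L ≤ Subgroup.normalizer (V : Set G)) (X : Subgroup G) (hX : X ≤ L) (g : G) (hg : g ∈ L) (hq : ⁅⁅V, X⁆, X⁆ = ⊥) (hgen : X ⊔ X.map (MulAut.conj g).toMonoidHom = L) (W : Subgroup G) (hW : W = ⁅V, L⁆) : ⁅V, X⁆ ⊔ ⁅V, X.map (MulAut.conj g).toMonoidHom⁆ = W ∧ W ⊓ Subgroup.centralizer (X : Set G) = ⁅V, X⁆ ∧ W ⊓ Subgroup.centralizer (L : Set G) = ⁅V, X⁆ ⊓ ⁅V, X.map (MulAut.conj g).toMonoidHom⁆ := by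
  subst hW
  set Xg : Subgroup G := X.map (MulAut.conj g).toMonoidHom with hXg
  set A : Subgroup G := ⁅V, X⁆ with hA
  set B : Subgroup G := ⁅V, Xg⁆ with hB
  have fV : ∀ l ∈ L, ∀ v ∈ V, l * v * l⁻¹ ∈ V := by
    intro l hl v hv
    exact (Subgroup.mem_normalizer_iff.mp (hLV hl) v).mp hv
  have fXgL : Xg ≤ L := by
    intro y hy
    obtain ⟨x, hx, rfl⟩ := Subgroup.mem_map.mp hy
    simp only [MulEquiv.coe_toMonoidHom, MulAut.conj_apply]
    exact mul_mem (mul_mem hg (hX hx)) (inv_mem hg)
  have comm_le_V : ∀ Y : Subgroup G, Y ≤ L → ⁅V, Y⁆ ≤ V := by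
    intro Y hY
    rw [Subgroup.commutator_le]
    intro v hv y hy
    have h1 : y * v⁻¹ * y⁻¹ ∈ V := fV y (hY hy) _ (inv_mem hv)
    have : ⁅v, y⁆ = v * (y * v⁻¹ * y⁻¹) := by rw [commutatorElement_def]; group
    rw [this]
    exact mul_mem hv h1
  have fAV : A ≤ V := comm_le_V X hX
  have fBV : B ≤ V := comm_le_V Xg fXgL
  have fACX : ∀ a ∈ A, ∀ x ∈ X, a * x = x * a := by
    intro a ha x hx
    have h1 : ⁅a, x⁆ ∈ ⁅A, X⁆ := Subgroup.commutator_mem_commutator ha hx
    rw [hq, Subgroup.mem_bot, commutatorElement_eq_one_iff_mul_comm] at h1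
    exact h1
  have hVmap : V.map (MulAut.conj g).toMonoidHom = V :=
    Subgroup.mem_normalizer_iff_map_conj_eq.mp (hLV hg)
  have hABmap : A.map (MulAut.conj g).toMonoidHom = B := by
    rw [hA, Subgroup.map_commutator, hVmap]
  have fconjAB : ∀ a ∈ A, g * a * g⁻¹ ∈ B := by
    intro a ha
    rw [← hABmap]
    exact Subgroup.mem_map.mpr ⟨a, ha, by simp⟩
  have fconjBA : ∀ b ∈ B, g⁻¹ * b * g ∈ A := by
    intro b hb
    rw [← hABmap] at hb
    obtain ⟨a, ha, rfl⟩ := Subgroup.mem_map.mp hb
    simp only [MulEquiv.coe_toMonoidHom, MulAut.conj_apply]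
    have : g⁻¹ * (g * a * g⁻¹) * g = a := by group
    rw [this]; exact ha
  have fBCXg : ∀ b ∈ B, ∀ y ∈ Xg, b * y = y * b := by
    intro b hb y hy
    obtain ⟨x, hx, rfl⟩ := Subgroup.mem_map.mp hy
    have h1 := fACX _ (fconjBA b hb) x hx
    simp only [MulEquiv.coe_toMonoidHom, MulAut.conj_apply]
    calc b * (g * x * g⁻¹) = g * ((g⁻¹ * b * g) * x) * g⁻¹ := by group
      _ = g * (x * (g⁻¹ * b * g)) * g⁻¹ := by rw [h1]
      _ = g * x * g⁻¹ * b := by group
  have fVNA : V ≤ Subgroup.normalizer (A : Set G) :=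
    le_normalizer_of_conj_mem' V A (commutator_conj_mem_left V X)
  set U : Subgroup G := A ⊔ B with hU
  -- X normalizes U
  have conj_U : ∀ (Y : Subgroup G) (A' B' : Subgroup G), A' ≤ V → B' ≤ V →
      (∀ a ∈ A', ∀ y ∈ Y, a * y = y * a) → ⁅V, Y⁆ = A' →
      ∀ y ∈ Y, ∀ u ∈ A' ⊔ B', y * u * y⁻¹ ∈ A' ⊔ B' := by
    intro Y A' B' hA'V hB'V hcent hcomm y hy
    have : A' ⊔ B' ≤ (A' ⊔ B').comap (MulAut.conj y).toMonoidHom := by
      apply sup_le
      · intro a ha
        rw [Subgroup.mem_comap]
        simp only [MulEquiv.coe_toMonoidHom, MulAut.conj_apply]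
        have h1 := hcent a ha y hy
        have : y * a * y⁻¹ = a := by rw [← h1]; group
        rw [this]
        exact Subgroup.mem_sup_left ha
      · intro b hb
        rw [Subgroup.mem_comap]
        simp only [MulEquiv.coe_toMonoidHom, MulAut.conj_apply]
        have h1 : ⁅b, y⁆ ∈ A' := by
          rw [← hcomm]
          exact Subgroup.commutator_mem_commutator (hB'V hb) hy
        have : y * b * y⁻¹ = ⁅b, y⁆⁻¹ * b := by rw [commutatorElement_def]; group
        rw [this]
        exact mul_mem (Subgroup.mem_sup_left (inv_mem h1)) (Subgroup.mem_sup_right hb)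
    intro u hu
    exact this hu
  have hXU : X ≤ Subgroup.normalizer (U : Set G) :=
    le_normalizer_of_conj_mem' X U (conj_U X A B fAV fBV fACX rfl)
  have hXgU : Xg ≤ Subgroup.normalizer (U : Set G) := by
    apply le_normalizer_of_conj_mem' Xg U
    have := conj_U Xg B A fBV fAV fBCXg rfl
    rw [hU, sup_comm]
    exact this
  have hLU : L ≤ Subgroup.normalizer (U : Set G) := by
    rw [← hgen]; exact sup_le hXU hXgU
  -- [V, L] ≤ U
  have hLcl : L = Subgroup.closure ((X : Set G) ∪ (Xg : Set G)) := by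
    rw [Subgroup.closure_union, Subgroup.closure_eq, Subgroup.closure_eq, hgen]
  have h1 : ⁅V, L⁆ ≤ U := by
    rw [Subgroup.commutator_le]
    intro v hv l hl
    have hl' : l ∈ Subgroup.closure ((X : Set G) ∪ (Xg : Set G)) := by rw [← hLcl]; exact hl
    induction hl' using Subgroup.closure_induction generalizing v with
    | mem x hx =>
      rcases hx with hx | hx
      · exact Subgroup.mem_sup_left (Subgroup.commutator_mem_commutator hv hx)
      · exact Subgroup.mem_sup_right (Subgroup.commutator_mem_commutator hv hx)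
    | one => simp [commutatorElement_def]
    | mul a b ha hb iha ihb =>
      rw [← hLcl] at ha hb
      have h2 := iha v hv ha
      have h3 := ihb v hv hb
      have h4 : a * ⁅v, b⁆ * a⁻¹ ∈ U := (Subgroup.mem_normalizer_iff.mp (hLU ha) _).mp h3
      have : ⁅v, a * b⁆ = ⁅v, a⁆ * (a * ⁅v, b⁆ * a⁻¹) := by
        simp only [commutatorElement_def]; group
      rw [this]
      exact mul_mem h2 h4
    | inv a ha iha =>
      rw [← hLcl] at ha
      have h2 := iha v hv ha
      have h4 : a⁻¹ * ⁅v, a⁆⁻¹ * a⁻¹⁻¹ ∈ U :=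
        (Subgroup.mem_normalizer_iff.mp (hLU (inv_mem ha)) _).mp (inv_mem h2)
      have : ⁅v, a⁻¹⁆ = a⁻¹ * ⁅v, a⁆⁻¹ * a⁻¹⁻¹ := by
        simp only [commutatorElement_def]; group
      rw [this]
      exact h4
  have h1' : U ≤ ⁅V, L⁆ :=
    sup_le (Subgroup.commutator_mono le_rfl hX) (Subgroup.commutator_mono le_rfl fXgL)
  have hUW : U = ⁅V, L⁆ := le_antisymm h1' h1
  -- (2)
  have h2 : ⁅V, L⁆ ⊓ Subgroup.centralizer (X : Set G) = A := by
    apply le_antisymm
    · intro w hw
      rw [Subgroup.mem_inf, ← hUW] at hw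
      obtain ⟨hwU, hwC⟩ := hw
      have hcoe := Subgroup.coe_mul_of_right_le_normalizer_left A B (fBV.trans fVNA)
      have hwU' : w ∈ ((A ⊔ B : Subgroup G) : Set G) := hwU
      rw [hcoe] at hwU'
      obtain ⟨a, ha, b, hb, rfl⟩ := Set.mem_mul.mp hwU'
      have ha' : a ∈ A := ha
      have hb' : b ∈ B := hb
      -- b centralizes X
      have hbX : ∀ x ∈ X, x * b = b * x := by
        intro x hx
        have h3 := Subgroup.mem_centralizer_iff.mp hwC x hx
        have h4 := fACX a ha' x hx
        have : x * b = a⁻¹ * (x * (a * b)) := by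
          calc x * b = a⁻¹ * ((a * x) * b) := by group
            _ = a⁻¹ * ((x * a) * b) := by rw [h4]
            _ = a⁻¹ * (x * (a * b)) := by group
        rw [this, h3]; group
      -- b centralizes L, in particular g
      have hbL : ∀ l ∈ L, l * b = b * l := by
        intro l hl
        have hcent : L ≤ Subgroup.centralizer ({b} : Set G) := by
          rw [← hgen]
          apply sup_le
          · intro x hx
            rw [Subgroup.mem_centralizer_iff]
            intro z hz
            rw [Set.mem_singleton_iff] at hz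
            rw [hz]; exact (hbX x hx).symm
          · intro y hy
            rw [Subgroup.mem_centralizer_iff]
            intro z hz
            rw [Set.mem_singleton_iff] at hz
            rw [hz]; exact fBCXg b hb' y hy
        have := Subgroup.mem_centralizer_iff.mp (hcent hl) b (Set.mem_singleton b)
        exact this.symm
      have hbA : b ∈ A := by
        have h5 := fconjBA b hb'
        have h6 := hbL g hg
        have : g⁻¹ * b * g = b := by
          calc g⁻¹ * b * g = g⁻¹ * (b * g) := by group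
            _ = g⁻¹ * (g * b) := by rw [h6]
            _ = b := by group
        rwa [this] at h5
      exact mul_mem ha' hbA
    · apply le_inf
      · rw [← hUW]; exact le_sup_left
      · intro a ha
        rw [Subgroup.mem_centralizer_iff]
        intro x hx
        exact (fACX a ha x hx).symm
  refine ⟨hUW, h2, ?_⟩
  -- (3)
  apply le_antisymm
  · intro w hw
    rw [Subgroup.mem_inf] at hw
    obtain ⟨hwW, hwC⟩ := hw
    have hwA : w ∈ A := by
      rw [← h2]
      refine ⟨hwW, ?_⟩
      exact Subgroup.centralizer_le (by exact_mod_cast hX) hwC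
    refine ⟨hwA, ?_⟩
    have h5 := fconjAB w hwA
    have h6 := Subgroup.mem_centralizer_iff.mp hwC g hg
    have : g * w * g⁻¹ = w := by rw [h6]; group
    rwa [this] at h5
  · intro w hw
    rw [Subgroup.mem_inf] at hw
    obtain ⟨hwA, hwB⟩ := hw
    refine ⟨?_, ?_⟩
    · rw [← hUW]; exact Subgroup.mem_sup_left hwA
    · have hcent : L ≤ Subgroup.centralizer ({w} : Set G) := by
        rw [← hgen]
        apply sup_le
        · intro x hx
          rw [Subgroup.mem_centralizer_iff]
          intro z hz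
          rw [Set.mem_singleton_iff] at hz
          rw [hz]; exact fACX w hwA x hx
        · intro y hy
          rw [Subgroup.mem_centralizer_iff]
          intro z hz
          rw [Set.mem_singleton_iff] at hz
          rw [hz]; exact fBCXg w hwB y hy
      show w ∈ Subgroup.centralizer (L : Set G)
      rw [Subgroup.mem_centralizer_iff]
      intro l hl
      have := Subgroup.mem_centralizer_iff.mp (hcent hl) w (Set.mem_singleton w)
      exact this.symm

end Cfsg.Agent.S2833
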