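import Cfsg.Statements.S2835
import Cfsg.Agent.Lib.Helper4_Minimal

set_option autoImplicit false
open Cfsg

namespace Cfsg.Agent.S2835

open Cfsg.Agent.Lib.Helper4_Minimal Cfsg.Agent.Lib.Helper4_PCore


/-- Let L be a finite group, L₀ a maximal subgroup, T a Sylow p-subgroup of L₀ and Y ≤ T, and suppose L is Y-minimal (generated by the conjugates of Y, with Y in exactly one maximal subgroup, necessarily L₀). Then N_L(T) ≤ L₀, O_p(L) ≤ L₀ and T is a Sylow p-subgroup of L; N_L(L₀) = L₀; L = ⟨Y, gYg⁻¹⟩ for each g ∈ L outside L₀; and if Y is abelian then Y ∩ gYg⁻¹ = C_Y(L) for each such g. -/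
theorem result {L : Type*} [Group L] [Finite L] {p : ℕ} [Fact p.Prime] (L₀ : Subgroup L) (hL₀ : IsCoatom L₀) (T : Sylow p ↥L₀) (Y : Subgroup L) (hYT : Y ≤ (T : Subgroup ↥L₀).map L₀.subtype) (hmin : Cfsg.IsMinimalOver Y) : Subgroup.normalizer (((T : Subgroup ↥L₀).map L₀.subtype : Subgroup L) : Set L) ≤ L₀ ∧ Cfsg.pCore p L ≤ L₀ ∧ (∃ P : Sylow p L, (P : Subgroup L) = (T : Subgroup ↥L₀).map L₀.subtype) ∧ Subgroup.normalizer (L₀ : Set L) = L₀ ∧ (∀ g : L, g ∉ L₀ → Y ⊔ Y.map (MulAut.conj g).toMonoidHom = ⊤) ∧ (IsMulCommutative ↥Y → ∀ g : L, g ∉ L₀ → Y ⊓ Y.map (MulAut.conj g).toMonoidHom = Y ⊓ Subgroup.center L) := by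
  classical
  obtain ⟨M, hM, hYM, hMuniv⟩ := exists_coatom_of_minimalOver hmin
  set T' : Subgroup L := (T : Subgroup ↥L₀).map L₀.subtype with hT'
  have hT'L₀ : T' ≤ L₀ := by
    intro x hx
    obtain ⟨y, _, rfl⟩ := Subgroup.mem_map.mp hx
    exact y.2
  have hYL₀ : Y ≤ L₀ := hYT.trans hT'L₀
  have hML₀ : M = L₀ := by
    obtain ⟨_, M', _, huniq⟩ := hmin
    rw [huniq M ⟨hM, hYM⟩, huniq L₀ ⟨hL₀, hYL₀⟩]
  rw [hML₀] at hMuniv
  have hT'p : IsPGroup p T' := T.isPGroup'.map _
  -- a normal proper subgroup cannot contain Y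
  have hnn : ∀ K : Subgroup L, K.Normal → Y ≤ K → K = ⊤ := by
    intro K hK hYK
    rw [eq_top_iff, ← hmin.1]
    exact Subgroup.normalClosure_le_normal hYK
  -- (1)
  have h1 : Subgroup.normalizer (T' : Set L) ≤ L₀ := by
    apply hMuniv
    · exact hYT.trans Subgroup.le_normalizer
    · intro htop
      have hn : T'.Normal := Subgroup.normalizer_eq_top_iff.mp htop
      have := hnn T' hn hYT
      exact hL₀.1 (eq_top_iff.mpr (this ▸ hT'L₀))
  -- (3)
  have h3 : ∃ P : Sylow p L, (P : Subgroup L) = T' := by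
    obtain ⟨P, hP⟩ := hT'p.exists_le_sylow
    refine ⟨P, ?_⟩
    by_contra hne
    have hlt : T'.subgroupOf (P : Subgroup L) < ⊤ := by
      rw [lt_top_iff_ne_top]
      intro h
      apply hne
      apply le_antisymm _ hP
      intro x hx
      have : (⟨x, hx⟩ : (P : Subgroup L)) ∈ T'.subgroupOf (P : Subgroup L) := by
        rw [h]; exact Subgroup.mem_top _
      exact this
    haveI : Group.IsNilpotent (P : Subgroup L) := P.isPGroup'.isNilpotent
    have hnc : NormalizerCondition (P : Subgroup L) := Group.normalizerCondition_of_isNilpotent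
    have hlt2 := hnc _ hlt
    obtain ⟨x, hxN, hxT⟩ := SetLike.exists_of_lt hlt2
    have hxT' : (x : L) ∉ T' := hxT
    -- x normalizes T' in L
    have hxNL : (x : L) ∈ Subgroup.normalizer (T' : Set L) := by
      rw [Subgroup.mem_normalizer_iff]
      intro h
      rw [Subgroup.mem_normalizer_iff] at hxN
      constructor
      · intro hh
        have := (hxN ⟨h, hP hh⟩).mp hh
        exact this
      · intro hh
        have hhP : h ∈ (P : Subgroup L) := by
          have h5 : (x : L)⁻¹ * ((x : L) * h * (x : L)⁻¹) * (x : L) ∈ (P : Subgroup L) :=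
            mul_mem (mul_mem (inv_mem x.2) (hP hh)) x.2
          have e : (x : L)⁻¹ * ((x : L) * h * (x : L)⁻¹) * (x : L) = h := by group
          rwa [e] at h5
        exact (hxN ⟨h, hhP⟩).mpr hh
    have hxL₀ : (x : L) ∈ L₀ := h1 hxNL
    set K : Subgroup L := T' ⊔ Subgroup.zpowers (x : L) with hK
    have hKP : K ≤ (P : Subgroup L) := sup_le hP (by rw [Subgroup.zpowers_le]; exact x.2)
    have hKp : IsPGroup p (K.subgroupOf L₀) := (P.isPGroup'.to_le hKP).comap_subtype
    have hTK : (T : Subgroup ↥L₀) ≤ K.subgroupOf L₀ := by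
      intro t ht
      rw [Subgroup.mem_subgroupOf]
      exact Subgroup.mem_sup_left (Subgroup.mem_map.mpr ⟨t, ht, rfl⟩)
    have hKT := T.is_maximal' hKp hTK
    have hxK : (⟨(x : L), hxL₀⟩ : ↥L₀) ∈ K.subgroupOf L₀ := by
      rw [Subgroup.mem_subgroupOf]
      exact Subgroup.mem_sup_right (Subgroup.mem_zpowers _)
    rw [hKT] at hxK
    exact hxT' (Subgroup.mem_map.mpr ⟨_, hxK, rfl⟩)
  -- (4)
  have h4 : Subgroup.normalizer (L₀ : Set L) = L₀ := by
    apply le_antisymm _ Subgroup.le_normalizer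
    apply hMuniv
    · exact hYL₀.trans Subgroup.le_normalizer
    · intro htop
      have hn : L₀.Normal := Subgroup.normalizer_eq_top_iff.mp htop
      exact hL₀.1 (hnn L₀ hn hYL₀)
  -- (5)
  have h5 : ∀ g : L, g ∉ L₀ → Y ⊔ Y.map (MulAut.conj g).toMonoidHom = ⊤ := by
    intro g hg
    by_contra hne
    have hle := hMuniv _ le_sup_left hne
    have hYg : Y.map (MulAut.conj g).toMonoidHom ≤ L₀ := le_sup_right.trans hle
    -- Y ≤ L₀ conjugated by g⁻¹
    have hY2 : Y ≤ L₀.map (MulAut.conj g⁻¹).toMonoidHom := by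
      intro y hy
      refine Subgroup.mem_map.mpr ⟨g * y * g⁻¹, hYg (Subgroup.mem_map.mpr ⟨y, hy, rfl⟩), ?_⟩
      simp [mul_assoc]
    have hco : IsCoatom (L₀.map (MulAut.conj g⁻¹).toMonoidHom) := by
      have := (OrderIso.isCoatom_iff (MulEquiv.mapSubgroup (MulAut.conj g⁻¹)) L₀).mpr hL₀
      exact this
    obtain ⟨_, M', _, huniq⟩ := hmin
    have e1 : L₀.map (MulAut.conj g⁻¹).toMonoidHom = L₀ := by
      rw [huniq _ ⟨hco, hY2⟩, huniq L₀ ⟨hL₀, hYL₀⟩]
    have hgn : g⁻¹ ∈ Subgroup.normalizer (L₀ : Set L) :=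
      Subgroup.mem_normalizer_iff_map_conj_eq.mpr e1
    rw [h4] at hgn
    exact hg (by simpa using L₀.inv_mem hgn)
  refine ⟨h1, ?_, h3, h4, h5, ?_⟩
  · obtain ⟨P, hP⟩ := h3
    exact (pCore_le_sylow P).trans (hP ▸ hT'L₀)
  · intro hab g hg
    have hYcomm : ∀ a ∈ Y, ∀ b ∈ Y, a * b = b * a := by
      intro a ha b hb
      have := hab.is_comm.comm (⟨a, ha⟩ : Y) ⟨b, hb⟩
      exact congrArg Subtype.val this
    apply le_antisymm
    · intro d hd
      rw [Subgroup.mem_inf] at hd ⊢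
      obtain ⟨hdY, hdYg⟩ := hd
      refine ⟨hdY, ?_⟩
      rw [Subgroup.mem_center_iff]
      -- centralizer of d contains Y and Y^g
      have hc : Y ⊔ Y.map (MulAut.conj g).toMonoidHom ≤ Subgroup.centralizer ({d} : Set L) := by
        apply sup_le
        · intro a ha
          rw [Subgroup.mem_centralizer_iff]
          intro x hx
          rw [Set.mem_singleton_iff] at hx
          rw [hx]
          exact hYcomm d hdY a ha
        · intro a ha
          rw [Subgroup.mem_centralizer_iff]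
          intro x hx
          rw [Set.mem_singleton_iff] at hx
          rw [hx]
          obtain ⟨a', ha', rfl⟩ := Subgroup.mem_map.mp ha
          obtain ⟨d', hd', rfl⟩ := Subgroup.mem_map.mp hdYg
          simp only [MulEquiv.coe_toMonoidHom, MulAut.conj_apply]
          have := hYcomm d' hd' a' ha'
          calc g * d' * g⁻¹ * (g * a' * g⁻¹) = g * (d' * a') * g⁻¹ := by group
            _ = g * (a' * d') * g⁻¹ := by rw [this]
            _ = g * a' * g⁻¹ * (g * d' * g⁻¹) := by group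
      rw [h5 g hg] at hc
      intro x
      have := Subgroup.mem_centralizer_iff.mp (hc (Subgroup.mem_top x)) d (Set.mem_singleton d)
      exact this.symm
    · intro z hz
      rw [Subgroup.mem_inf] at hz ⊢
      obtain ⟨hzY, hzc⟩ := hz
      refine ⟨hzY, Subgroup.mem_map.mpr ⟨z, hzY, ?_⟩⟩
      simp only [MulEquiv.coe_toMonoidHom, MulAut.conj_apply]
      rw [Subgroup.mem_center_iff] at hzc
      rw [hzc g]; group

end Cfsg.Agent.S2835
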