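import Mathlib
import Cfsg.Statements.S2838
import Cfsg.Agent.Lib.Helper5_Sylow
import Cfsg.Agent.Lib.Helper5_WC

set_option autoImplicit false
open Cfsg

namespace Cfsg.Agent.S2838

open Cfsg.Agent.Lib.Helper5_Sylow Cfsg.Agent.Lib.Helper5_WC
open Subgroup
open scoped commutatorElement

variable {H : Type*} [Group H]

/-- mutually normalizing -/
def MN (A B : Subgroup H) : Prop := A ≤ normalizer (B : Set H) ∧ B ≤ normalizer (A : Set H)

theorem mn_iff [Finite H] (A B : Subgroup H) : MN A B ↔ ⁅A, B⁆ ≤ A ⊓ B := by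
  constructor
  · rintro ⟨h1, h2⟩
    rw [Subgroup.commutator_le]
    intro a ha b hb
    rw [mem_inf]
    constructor
    · have : ⁅a, b⁆ = a * (b * a⁻¹ * b⁻¹) := by rw [commutatorElement_def]; group
      rw [this]
      exact A.mul_mem ha ((mem_normalizer_iff.mp (h2 hb) a⁻¹).mp (A.inv_mem ha))
    · have : ⁅a, b⁆ = (a * b * a⁻¹) * b⁻¹ := by rw [commutatorElement_def]
      rw [this]
      exact B.mul_mem ((mem_normalizer_iff.mp (h1 ha) b).mp hb) (B.inv_mem hb)
  · intro h
    rw [Subgroup.commutator_le] at h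
    constructor
    · intro a ha
      apply mem_normalizer_of_cj_le
      rintro _ ⟨b, hb, rfl⟩
      simp only [MulEquiv.coe_toMonoidHom, MulAut.conj_apply]
      have : a * b * a⁻¹ = ⁅a, b⁆ * b := by rw [commutatorElement_def]; group
      rw [this]
      exact B.mul_mem (mem_inf.mp (h a ha b hb)).2 hb
    · intro b hb
      apply mem_normalizer_of_cj_le
      rintro _ ⟨a, ha, rfl⟩
      simp only [MulEquiv.coe_toMonoidHom, MulAut.conj_apply]
      have : b * a * b⁻¹ = (⁅a, b⁆)⁻¹ * a := by rw [commutatorElement_def]; group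
      rw [this]
      exact A.mul_mem (A.inv_mem (mem_inf.mp (h a ha b hb)).1) ha

theorem mn_cj {A B : Subgroup H} (g : H) (h : MN A B) : MN (cj g A) (cj g B) :=
  ⟨cj_le_normalizer_cj h.1, cj_le_normalizer_cj h.2⟩

section main

variable [Finite H] {p : ℕ} [Fact p.Prime] (Q : Subgroup H)

theorem c_imp_a (hQp : IsPGroup p ↥Q)
    (hc : ∀ R : Subgroup H, IsPGroup p ↥R → Q ≤ R →
      normalizer (R : Set H) ≤ normalizer (Q : Set H)) :
    Cfsg.IsWeaklyClosedSubgroup p Q := by
  obtain ⟨T, hQT⟩ := hQp.exists_le_sylow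
  refine ⟨T, hQT, ?_⟩
  intro g hg
  show cj g Q = Q
  have hTQ : (T : Subgroup H) ≤ normalizer (Q : Set H) :=
    le_normalizer.trans (hc T T.isPGroup' hQT)
  have h1 : cj g⁻¹ (T : Subgroup H) ≤ normalizer (Q : Set H) :=
    le_normalizer.trans (hc _ (isPGroup_cj T.isPGroup') (le_cj_inv hg))
  have h2 : (T : Subgroup H) ≤ normalizer ((cj g Q : Subgroup H) : Set H) := by
    have := cj_le_normalizer_cj (g := g) h1
    rwa [cj_cj, mul_inv_cancel, cj_one] at this
  have h3 : cj g (T : Subgroup H) ≤ normalizer ((cj g Q : Subgroup H) : Set H) :=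
    cj_le_normalizer_cj hTQ
  obtain ⟨k, hk, R, hR, _, hTR, hBR⟩ :=
    exists_conj_le_common_pgroup h2 h3 T.isPGroup' (isPGroup_cj T.isPGroup')
  have hRT : R = (T : Subgroup H) := T.is_maximal' hR hTR
  rw [hRT] at hBR
  have hBR' : cj k (cj g (T : Subgroup H)) ≤ (T : Subgroup H) := hBR
  rw [cj_cj] at hBR'
  have h4 : k * g ∈ normalizer (Q : Set H) :=
    hc T T.isPGroup' hQT (mem_normalizer_of_cj_le hBR')
  have h5 := cj_eq_of_mem_normalizer h4
  rw [← cj_cj, cj_eq_of_mem_normalizer hk] at h5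
  exact h5

theorem b_imp_a (hQp : IsPGroup p ↥Q)
    (hb : ∀ g : H, MN Q (cj g Q) → cj g Q = Q) :
    Cfsg.IsWeaklyClosedSubgroup p Q := by
  obtain ⟨T, hQT⟩ := hQp.exists_le_sylow
  refine ⟨T, hQT, ?_⟩
  have key : ∀ g : H, cj g Q ≤ (T : Subgroup H) →
      (T : Subgroup H) ≤ normalizer ((cj g Q : Subgroup H) : Set H) := by
    intro g hg
    by_contra hcon
    set P := cj g Q with hP
    set R := (T : Subgroup H) ⊓ normalizer (P : Set H) with hR
    have hRT : R < (T : Subgroup H) := by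
      refine lt_of_le_of_ne inf_le_left ?_
      intro heq
      apply hcon
      rw [← heq]; exact inf_le_right
    have h1 := lt_inf_normalizer T.isPGroup' hRT
    obtain ⟨t, ht, htR⟩ := SetLike.exists_of_lt h1
    rw [mem_inf] at ht
    have htP : t ∉ normalizer (P : Set H) := fun h => htR (mem_inf.mpr ⟨ht.1, h⟩)
    apply htP
    have hPR : P ≤ R := le_inf hg le_normalizer
    have hRt : cj t R = R := cj_eq_of_mem_normalizer ht.2
    have hmn : MN P (cj t P) := by
      constructor
      · have : R ≤ normalizer ((cj t P : Subgroup H) : Set H) := by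
          have := cj_le_normalizer_cj (g := t) (inf_le_right : R ≤ normalizer (P : Set H))
          rwa [hRt] at this
        exact hPR.trans this
      · have : cj t P ≤ R := by
          have := cj_mono t hPR
          rwa [hRt] at this
        exact this.trans inf_le_right
    have hmn' := mn_cj g⁻¹ hmn
    rw [hP, cj_cj, cj_cj, cj_cj, inv_mul_cancel, cj_one] at hmn'
    have h2 := hb _ hmn'
    apply mem_normalizer_of_cj_eq
    rw [hP, cj_cj]
    have h3 := congrArg (cj g) h2
    rw [cj_cj] at h3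
    have e : g * (g⁻¹ * t * g) = t * g := by group
    rw [e] at h3
    exact h3
  intro g hg
  apply hb
  have h1 := key g hg
  have h2 := key 1 (by rw [cj_one]; exact hQT)
  rw [cj_one] at h2
  exact ⟨hQT.trans h1, hg.trans h2⟩

theorem a_imp_b (hQp : IsPGroup p ↥Q) (hwc : Cfsg.IsWeaklyClosedSubgroup p Q) (g : H)
    (h : MN Q (cj g Q)) : cj g Q = Q := by
  have hp : IsPGroup p (Q ⊔ cj g Q : Subgroup H) :=
    IsPGroup.to_sup_of_normal_right' hQp (isPGroup_cj hQp) h.1
  exact wc_eq_of_le_pgroup hwc hp le_sup_left le_sup_right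

end main

/-- For a nontrivial p-subgroup Q of a finite group H the following are equivalent: Q is a weakly closed subgroup (it is the only H-conjugate of itself inside some Sylow p-subgroup containing it); Q = P for every conjugate P of Q with [Q, P] ≤ Q ∩ P; Q is normal in N_H(R) for every p-subgroup R of H containing Q. -/
theorem result {H : Type*} [Group H] [Finite H] {p : ℕ} [Fact p.Prime] (Q : Subgroup H) (hQp : IsPGroup p ↥Q) (hQ1 : Q ≠ ⊥) : (Cfsg.IsWeaklyClosedSubgroup p Q ↔ ∀ g : H, ⁅Q, ((Q : Subgroup H).map (MulAut.conj (g : H)).toMonoidHom)⁆ ≤ Q ⊓ ((Q : Subgroup H).map (MulAut.conj (g : H)).toMonoidHom) → ((Q : Subgroup H).map (MulAut.conj (g : H)).toMonoidHom) = Q) ∧ (Cfsg.IsWeaklyClosedSubgroup p Q ↔ ∀ R : Subgroup H, IsPGroup p ↥R → Q ≤ R → Subgroup.normalizer ((R : Subgroup H) : Set H) ≤ Subgroup.normalizer ((Q : Subgroup H) : Set H)) := by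
  refine ⟨⟨?_, ?_⟩, ⟨?_, ?_⟩⟩
  · intro hwc g hg
    exact a_imp_b Q hQp hwc g ((mn_iff _ _).mpr hg)
  · intro hb
    apply b_imp_a Q hQp
    intro g hg
    exact hb g ((mn_iff _ _).mp hg)
  · intro hwc R hR hQR
    exact wc_normalizer_le hwc hR hQR
  · intro hc
    exact c_imp_a Q hQp hc

end Cfsg.Agent.S2838
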