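import Mathlib
import Cfsg.Statements.S2840
import Cfsg.Agent.Lib.Helper5_WC

set_option autoImplicit false
open Cfsg

namespace Cfsg.Agent.S2840

open Cfsg.Agent.Lib.Helper5_WC
open Subgroup

/-- Let Q be a nontrivial p-subgroup of the finite group H that is a weakly closed subgroup and K a subgroup containing Q; let K° be the weak closure of Q in K (generated by the H-conjugates of Q inside K). Then K° is generated by the K-conjugates of Q, and K° is the subnormal closure of Q in K. -/
theorem result {H : Type*} [Group H] [Finite H] {p : ℕ} [Fact p.Prime] (Q : Subgroup H) (hQp : IsPGroup p ↥Q) (hQ1 : Q ≠ ⊥) (hwc : Cfsg.IsWeaklyClosedSubgroup p Q) (K : Subgroup H) (hQK : Q ≤ K) (Kc : Subgroup H) (hKc : Kc = Cfsg.weakClosure Q K) : Kc = ⨆ k : ↥K, ((Q : Subgroup H).map (MulAut.conj ((k : H) : H)).toMonoidHom) ∧ Kc = (Cfsg.subnormalClosure (Q.subgroupOf K)).map K.subtype := by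
  have part1 : Kc = ⨆ k : ↥K, cj (k : H) Q := by
    rw [hKc]
    unfold Cfsg.weakClosure
    apply le_antisymm
    · apply iSup_le
      rintro ⟨g, hg⟩
      obtain ⟨k, hk, hkQ⟩ := wc_conj_in hwc hQp hQK hg
      show cj g Q ≤ _
      rw [hkQ]
      exact le_iSup (fun k : ↥K => cj (k : H) Q) ⟨k, hk⟩
    · apply iSup_le
      intro k
      have hk : cj (k : H) Q ≤ K := by
        rintro _ ⟨q, hq, rfl⟩
        simp only [MulEquiv.coe_toMonoidHom, MulAut.conj_apply]
        exact K.mul_mem (K.mul_mem k.2 (hQK hq)) (K.inv_mem k.2)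
      exact le_iSup (fun g : {g : H // cj g Q ≤ K} => cj (g : H) Q) ⟨k, hk⟩
  refine ⟨part1, ?_⟩
  rw [part1, wc_subnormalClosure (wc_subgroupOf hwc hQp hQK) hQp.comap_subtype]
  unfold conjClosure
  rw [Subgroup.map_iSup]
  congr 1
  funext k
  exact (map_subtype_cj_subgroupOf hQK k).symm

end Cfsg.Agent.S2840
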