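import Mathlib
import Cfsg.Statements.S2841
import Cfsg.Agent.Lib.Helper5_WC

set_option autoImplicit false
open Cfsg

namespace Cfsg.Agent.S2841

open Cfsg.Agent.Lib.Helper5_WC
open Subgroup
open scoped Pointwise commutatorElement

variable {H : Type*} [Group H]

/-- `Q` normalizes `⁅A, Q⁆` if it normalizes `A` -/
theorem le_normalizer_commutator {A Q : Subgroup H} (hQA : Q ≤ normalizer (A : Set H)) :
    Q ≤ normalizer ((⁅A, Q⁆ : Subgroup H) : Set H) := by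
  intro q hq
  apply mem_normalizer_of_cj_eq
  rw [cj, Subgroup.map_commutator]
  have h1 : cj q A = A := cj_eq_of_mem_normalizer (hQA hq)
  have h2 : cj q Q = Q := cj_eq_of_mem_normalizer (le_normalizer hq)
  show ⁅cj q A, cj q Q⁆ = _
  rw [h1, h2]

theorem commutator_le_of_le_normalizer {A Q : Subgroup H} (hQA : Q ≤ normalizer (A : Set H)) :
    ⁅A, Q⁆ ≤ A := by
  rw [Subgroup.commutator_le]
  intro a ha q hq
  have : ⁅a, q⁆ = a * (q * a⁻¹ * q⁻¹) := by rw [commutatorElement_def]; group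
  rw [this]
  exact A.mul_mem ha ((mem_normalizer_iff.mp (hQA hq) a⁻¹).mp (A.inv_mem ha))

/-- Lemma B -/
theorem cj_le_sup_commutator {A Q : Subgroup H} {a : H} (ha : a ∈ A) :
    cj a Q ≤ Q ⊔ ⁅A, Q⁆ := by
  rintro _ ⟨q, hq, rfl⟩
  simp only [MulEquiv.coe_toMonoidHom, MulAut.conj_apply]
  have : a * q * a⁻¹ = ⁅a, q⁆ * q := by rw [commutatorElement_def]; group
  rw [this]
  exact Subgroup.mul_mem _ (mem_sup_right (Subgroup.commutator_mem_commutator ha hq))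
    (mem_sup_left hq)

section main

variable [Finite H] {p : ℕ} [Fact p.Prime] {Q : Subgroup H}

/-- Lemma A -/
theorem conj_by_M (hwc : Cfsg.IsWeaklyClosedSubgroup p Q) (hQp : IsPGroup p Q)
    {M : Subgroup H} (hQM : Q ≤ normalizer (M : Set H)) {g : H} (hg : cj g Q ≤ Q ⊔ M) :
    ∃ m ∈ M, cj g Q = cj m Q := by
  rw [sup_comm] at hg
  obtain ⟨x, hx, hxQ⟩ := wc_conj_in hwc hQp le_sup_right hg
  have h3 : x ∈ (M : Set H) * (Q : Set H) := by
    rw [← Subgroup.coe_mul_of_right_le_normalizer_left M Q hQM]; exact hx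
  obtain ⟨m, hm, q, hq, rfl⟩ := Set.mem_mul.mp h3
  refine ⟨m, hm, ?_⟩
  rw [hxQ, ← cj_cj, cj_eq_of_mem_normalizer (le_normalizer hq)]

end main

/-- Let Q be a nontrivial p-subgroup of the finite group H that is a weakly closed subgroup and N a normal subgroup of H. Then N = N_N(Q)·[N, Q] and [N, Q] = (Q ∩ [N, Q])·[N, Q, Q]. -/
theorem result {H : Type*} [Group H] [Finite H] {p : ℕ} [Fact p.Prime] (Q : Subgroup H) (hQp : IsPGroup p ↥Q) (hQ1 : Q ≠ ⊥) (hwc : Cfsg.IsWeaklyClosedSubgroup p Q) (N' : Subgroup H) [N'.Normal] : (∀ n : H, n ∈ N' → ∃ a ∈ N' ⊓ Subgroup.normalizer ((Q : Subgroup H) : Set H), ∃ b ∈ ⁅N', Q⁆, n = a * b) ∧ (∀ c : H, c ∈ ⁅N', Q⁆ → ∃ a ∈ Q ⊓ ⁅N', Q⁆, ∃ b ∈ ⁅⁅N', Q⁆, Q⁆, c = a * b) := by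
  have hQN : Q ≤ normalizer (N' : Set H) := by
    intro q _
    rw [normalizer_eq_top]
    trivial
  have hQM : Q ≤ normalizer ((⁅N', Q⁆ : Subgroup H) : Set H) := le_normalizer_commutator hQN
  have hQM2 : Q ≤ normalizer ((⁅⁅N', Q⁆, Q⁆ : Subgroup H) : Set H) := le_normalizer_commutator hQM
  have hMN : ⁅N', Q⁆ ≤ N' := commutator_le_of_le_normalizer hQN
  have hM2M : ⁅⁅N', Q⁆, Q⁆ ≤ ⁅N', Q⁆ := commutator_le_of_le_normalizer hQM
  constructor
  · intro n hn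
    have h1 : cj n⁻¹ Q ≤ Q ⊔ ⁅N', Q⁆ := cj_le_sup_commutator (N'.inv_mem hn)
    obtain ⟨c, hc, hcQ⟩ := conj_by_M hwc hQp hQM h1
    refine ⟨n * c, mem_inf.mpr ⟨N'.mul_mem hn (hMN hc), ?_⟩, c⁻¹, Subgroup.inv_mem _ hc, ?_⟩
    · apply mem_normalizer_of_cj_eq
      rw [← cj_cj, ← hcQ, cj_cj, mul_inv_cancel, cj_one]
    · rw [mul_inv_cancel_right]
  · intro c hc
    have hL : ∀ n ∈ N', cj n Q ≤ Q ⊔ ⁅⁅N', Q⁆, Q⁆ := by
      intro n hn
      have h1 : cj n Q ≤ Q ⊔ ⁅N', Q⁆ := cj_le_sup_commutator hn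
      obtain ⟨m, hm, hmQ⟩ := conj_by_M hwc hQp hQM h1
      rw [hmQ]
      exact cj_le_sup_commutator hm
    have hML : ⁅N', Q⁆ ≤ Q ⊔ ⁅⁅N', Q⁆, Q⁆ := by
      rw [Subgroup.commutator_le]
      intro n hn q hq
      have : ⁅n, q⁆ = (n * q * n⁻¹) * q⁻¹ := by rw [commutatorElement_def]
      rw [this]
      exact Subgroup.mul_mem _ (hL n hn (conj_mem_cj hq)) (mem_sup_left (Q.inv_mem hq))
    have h2 := hML hc
    have h3 : c ∈ (Q : Set H) * ((⁅⁅N', Q⁆, Q⁆ : Subgroup H) : Set H) := by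
      rw [← Subgroup.coe_mul_of_left_le_normalizer_right Q _ hQM2]; exact h2
    obtain ⟨a, ha, b, hb, rfl⟩ := Set.mem_mul.mp h3
    refine ⟨a, mem_inf.mpr ⟨ha, ?_⟩, b, hb, rfl⟩
    have := Subgroup.mul_mem _ hc (Subgroup.inv_mem _ (hM2M hb))
    rwa [mul_inv_cancel_right] at this

end Cfsg.Agent.S2841
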