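import Mathlib
import Cfsg.Statements.S2842
import Cfsg.Agent.Lib.Helper5_CharP3

set_option autoImplicit false
open Cfsg

namespace Cfsg.Agent.S2842

open Cfsg.Agent.Lib.Helper5_Sylow Cfsg.Agent.Lib.Helper5_CharP Cfsg.Agent.Lib.Helper5_CharP2
open Cfsg.Agent.Lib.Helper5_AxB Cfsg.Agent.Lib.Helper5_Large Cfsg.Agent.Lib.Helper5_WC
open Cfsg.Agent.Lib.Helper5_CharP3
open Subgroup
open scoped commutatorElement

variable {H : Type*} [Group H]

theorem centralizer_zpowers_eq (y : H) :
    centralizer ((zpowers y : Subgroup H) : Set H) = centralizer ({y} : Set H) := by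
  apply le_antisymm
  · apply Subgroup.centralizer_le
    intro z hz
    rw [Set.mem_singleton_iff] at hz
    rw [hz]
    exact mem_zpowers y
  · intro g hg
    rw [mem_centralizer_iff] at hg ⊢
    intro h hh
    obtain ⟨k, rfl⟩ := mem_zpowers_iff.mp hh
    have h1 : Commute y g := hg y rfl
    exact (h1.zpow_left k)

section core

variable [Finite H] {p : ℕ} [Fact p.Prime] {Q : Subgroup H}

theorem core (hQp : IsPGroup p ↥Q) (hwc : Cfsg.IsWeaklyClosedSubgroup p Q)
    (hCQ : centralizer (Q : Set H) ≤ Q) (L : Subgroup H) (hQL : Q ≤ L)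
    (y : H) (hyY : y ∈ Cfsg.pCoreOf p L) (hchar : CharPSub p (centralizer ({y} : Set H))) :
    ⁅Q, centralizer ((Cfsg.pCoreOf p L : Subgroup H) : Set H)⁆ ≤ Q ⊓ Cfsg.pCoreOf p L ∧
    IsPGroup p ↥(centralizer ((Cfsg.pCoreOf p L : Subgroup H) : Set H)) ∧
    L ⊓ centralizer ((Cfsg.pCoreOf p L : Subgroup H) : Set H) ≤ Cfsg.pCoreOf p L := by
  set Y := Cfsg.pCoreOf p L with hY
  set D := centralizer (Y : Set H) with hD
  have hYp : IsPGroup p Y := pCoreOf_isPGroup p L
  have hLY : L ≤ normalizer (Y : Set H) := le_normalizer_pCoreOf p L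
  have hLD : L ≤ normalizer (D : Set H) :=
    hLY.trans (Cfsg.Agent.Lib.Helper5_CharP2.normalizer_le_normalizer_centralizer Y)
  have hQD : Q ≤ normalizer (D : Set H) := hQL.trans hLD
  -- (A) `D` has characteristic `p`
  have hDchar : CharPSub p D := by
    set K := centralizer ({y} : Set H) with hK
    set Y0 := Y ⊓ K with hY0
    have hyK : y ∈ K := by
      rw [hK, mem_centralizer_iff]
      intro h hh
      rw [Set.mem_singleton_iff] at hh
      rw [hh]
    have hyY0 : y ∈ Y0 := mem_inf.mpr ⟨hyY, hyK⟩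
    have hY0p : IsPGroup p Y0 := hYp.to_le inf_le_left
    have h1 := charPSub_inf_centralizer hchar (inf_le_right : Y0 ≤ K) hY0p
    have h2 : centralizer (Y0 : Set H) ≤ K := by
      apply Subgroup.centralizer_le
      intro z hz
      rw [Set.mem_singleton_iff] at hz
      rw [hz]; exact hyY0
    rw [inf_eq_right.mpr h2] at h1
    exact charPSub_centralizer_chain hYp _ Y0 inf_le_left rfl h1
  -- (B)
  set E := Cfsg.pCoreOf p D with hE
  have hEp : IsPGroup p E := pCoreOf_isPGroup p D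
  have hED : E ≤ D := pCoreOf_le p D
  have hDE : D ≤ normalizer (E : Set H) := le_normalizer_pCoreOf p D
  have hNDE : normalizer (D : Set H) ≤ normalizer (E : Set H) := normalizer_le_normalizer_pCoreOf p D
  have hQE : Q ≤ normalizer (E : Set H) := hQD.trans hNDE
  have hLE : L ≤ normalizer (E : Set H) := hLD.trans hNDE
  set ZY := Y ⊓ D with hZY
  have hZYD : ZY ≤ D := inf_le_right
  have hDY : D ≤ normalizer (Y : Set H) := centralizer_le_normalizer _
  have hDZY : D ≤ normalizer (ZY : Set H) :=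
    (le_inf hDY le_normalizer).trans (normalizer_inf_le Y D)
  have hQZY : Q ≤ normalizer (ZY : Set H) :=
    (le_inf (hQL.trans hLY) hQD).trans (normalizer_inf_le Y D)
  have hEL : E ⊓ L ≤ ZY := by
    have h1 : E ⊓ L ≤ Y := by
      apply le_pCoreOf inf_le_right (hEp.to_le inf_le_left)
      exact (le_inf hLE le_normalizer).trans (normalizer_inf_le E L)
    exact le_inf h1 (inf_le_left.trans hED)
  have hEQ : E ≤ normalizer (Q : Set H) := by
    have hT : IsPGroup p (Q ⊔ E : Subgroup H) := IsPGroup.to_sup_of_normal_right' hQp hEp hQE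
    exact le_sup_right.trans (wc_le_normalizer hwc hT le_sup_left)
  -- commutators `[E, Q]`
  have hEQcomm : ∀ v ∈ E, ∀ q ∈ Q, v⁻¹ * (q * v * q⁻¹) ∈ ZY := by
    intro v hv q hq
    apply hEL
    refine mem_inf.mpr ⟨?_, hQL ?_⟩
    · exact E.mul_mem (E.inv_mem hv) (conj_mem_of_mem_normalizer (hQE hq) hv)
    · have : v⁻¹ * (q * v * q⁻¹) = (v⁻¹ * q * v) * q⁻¹ := by group
      rw [this]
      exact Q.mul_mem (conj_mem_of_mem_normalizer' (hEQ hv) hq) (Q.inv_mem hq)
  -- the chain stabilizers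
  set M := Q ⊔ D with hM
  have hME : ∀ l ∈ M, ∀ v ∈ E, l * v * l⁻¹ ∈ E := by
    intro l hl v hv
    exact conj_mem_of_mem_normalizer ((sup_le hQE hDE) hl) hv
  have hMZ : ∀ l ∈ M, ∀ v ∈ ZY, l * v * l⁻¹ ∈ ZY := by
    intro l hl v hv
    exact conj_mem_of_mem_normalizer ((sup_le hQZY hDZY) hl) hv
  set M1 := actKer M E ZY hME hMZ with hM1
  have hQM1 : Q ≤ M1 := by
    intro q hq
    exact ⟨(le_sup_left : Q ≤ M) hq, fun v hv => hEQcomm v hv q hq⟩
  have hMM1 : M ≤ normalizer (M1 : Set H) := le_normalizer_actKer hME hMZ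
  have hDE' : ∀ l ∈ D, ∀ v ∈ E, l * v * l⁻¹ ∈ E := fun l hl => hME l ((le_sup_right : D ≤ M) hl)
  have hDZ' : ∀ l ∈ D, ∀ v ∈ ZY, l * v * l⁻¹ ∈ ZY := fun l hl => hMZ l ((le_sup_right : D ≤ M) hl)
  set M0 := actKer D E ZY hDE' hDZ' with hM0
  have hM0p : IsPGroup p M0 := by
    apply isPGroup_of_forall_coprime_eq_one
    intro x hx hc
    obtain ⟨hxD, hxE⟩ := hx
    have hxCE : x ∈ centralizer (E : Set H) := by
      rw [mem_centralizer_iff]
      intro v hv
      have hz := hxE v hv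
      have hzY : v⁻¹ * (x * v * x⁻¹) ∈ Y := (inf_le_left : ZY ≤ Y) hz
      have hcomm : Commute x (v⁻¹ * (x * v * x⁻¹)) := ((mem_centralizer_iff.mp hxD) _ hzY).symm
      have hconj : x * v * x⁻¹ = v * (v⁻¹ * (x * v * x⁻¹)) := by group
      have hz1 := eq_one_of_conj_eq_mul hconj hcomm
        (coprime_orderOf_of_mem_pGroup hYp hzY hc)
      have : x * v * x⁻¹ = v := by rw [hconj, hz1, mul_one]
      calc v * x = (x * v * x⁻¹) * x := by rw [this]
        _ = x * v := by group
    have hxE' : x ∈ E := hDchar (mem_inf.mpr ⟨hxD, hxCE⟩)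
    exact eq_one_of_mem_pGroup_of_coprime hEp hxE' hc
  have hM0E : M0 ≤ E := le_pCoreOf (actKer_le hDE' hDZ') hM0p (le_normalizer_actKer hDE' hDZ')
  -- `[d, q] ∈ E`
  have hcommE : ∀ d ∈ D, ∀ q ∈ Q, d * q * d⁻¹ * q⁻¹ ∈ E := by
    intro d hd q hq
    apply hM0E
    have h1 : d * q * d⁻¹ ∈ M1 :=
      conj_mem_of_mem_normalizer (hMM1 ((le_sup_right : D ≤ M) hd)) (hQM1 hq)
    have h2 : d * q * d⁻¹ * q⁻¹ ∈ M1 := M1.mul_mem h1 (M1.inv_mem (hQM1 hq))
    have h3 : d * q * d⁻¹ * q⁻¹ ∈ D := by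
      have : d * q * d⁻¹ * q⁻¹ = d * (q * d⁻¹ * q⁻¹) := by group
      rw [this]
      exact D.mul_mem hd (conj_mem_of_mem_normalizer (hQD hq) (D.inv_mem hd))
    exact ⟨h3, h2.2⟩
  -- (C) `D` is a `p`-group
  have hDp : IsPGroup p D := by
    apply isPGroup_of_forall_coprime_eq_one
    intro x hx hc
    set T := Q ⊔ E with hT
    have hTp : IsPGroup p T := IsPGroup.to_sup_of_normal_right' hQp hEp hQE
    have hxT : x ∈ normalizer (T : Set H) := by
      apply mem_normalizer_of_cj_le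
      rw [hT, cj, Subgroup.map_sup]
      apply sup_le
      · rintro _ ⟨q, hq, rfl⟩
        simp only [MulEquiv.coe_toMonoidHom, MulAut.conj_apply]
        have : x * q * x⁻¹ = (x * q * x⁻¹ * q⁻¹) * q := by group
        rw [this]
        exact Subgroup.mul_mem _ (mem_sup_right (hcommE x hx q hq)) (mem_sup_left hq)
      · rintro _ ⟨e, he, rfl⟩
        simp only [MulEquiv.coe_toMonoidHom, MulAut.conj_apply]
        exact mem_sup_right (conj_mem_of_mem_normalizer (hDE hx) he)
    have hxQ : x ∈ normalizer (Q : Set H) := wc_normalizer_le hwc hTp le_sup_left hxT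
    have hxCQ : x ∈ centralizer (Q : Set H) := by
      rw [mem_centralizer_iff]
      intro q hq
      have hz1 : q⁻¹ * (x * q * x⁻¹) ∈ Q :=
        Q.mul_mem (Q.inv_mem hq) (conj_mem_of_mem_normalizer hxQ hq)
      have hz2 : q⁻¹ * (x * q * x⁻¹) ∈ E := by
        have h1 := hcommE x hx q hq
        have h2 : q⁻¹ * (x * q * x⁻¹) = q⁻¹ * (x * q * x⁻¹ * q⁻¹) * q⁻¹⁻¹ := by group
        rw [h2]
        exact conj_mem_of_mem_normalizer (hQE (Q.inv_mem hq)) h1
      have hzY : q⁻¹ * (x * q * x⁻¹) ∈ Y :=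
        (inf_le_left : ZY ≤ Y) (hEL (mem_inf.mpr ⟨hz2, hQL hz1⟩))
      have hcomm : Commute x (q⁻¹ * (x * q * x⁻¹)) := ((mem_centralizer_iff.mp hx) _ hzY).symm
      have hconj : x * q * x⁻¹ = q * (q⁻¹ * (x * q * x⁻¹)) := by group
      have hz := eq_one_of_conj_eq_mul hconj hcomm (coprime_orderOf_of_mem_pGroup hQp hz1 hc)
      have : x * q * x⁻¹ = q := by rw [hconj, hz, mul_one]
      calc q * x = (x * q * x⁻¹) * x := by rw [this]
        _ = x * q := by group
    exact eq_one_of_mem_pGroup_of_coprime hQp (hCQ hxCQ) hc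
  -- (D)
  have hDQ : D ≤ normalizer (Q : Set H) := by
    have hT : IsPGroup p (Q ⊔ D : Subgroup H) := IsPGroup.to_sup_of_normal_right' hQp hDp hQD
    exact le_sup_right.trans (wc_le_normalizer hwc hT le_sup_left)
  have hLDY : L ⊓ D ≤ Y := by
    apply le_pCoreOf inf_le_left (hDp.to_le inf_le_right)
    exact (le_inf le_normalizer hLD).trans (normalizer_inf_le L D)
  refine ⟨?_, hDp, hLDY⟩
  rw [Subgroup.commutator_le]
  intro q hq d hd
  have h1 : ⁅q, d⁆ ∈ Q := by
    have : ⁅q, d⁆ = q * (d * q⁻¹ * d⁻¹) := by rw [commutatorElement_def]; group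
    rw [this]
    exact Q.mul_mem hq (conj_mem_of_mem_normalizer (hDQ hd) (Q.inv_mem hq))
  have h2 : ⁅q, d⁆ ∈ D := by
    have : ⁅q, d⁆ = (q * d * q⁻¹) * d⁻¹ := by rw [commutatorElement_def]
    rw [this]
    exact D.mul_mem (conj_mem_of_mem_normalizer (hQD hq) hd) (D.inv_mem hd)
  exact mem_inf.mpr ⟨h1, hLDY (mem_inf.mpr ⟨hQL h1, h2⟩)⟩

end core

/-- Let Q be a nontrivial p-subgroup of the finite group H that is a weakly closed subgroup with C_H(Q) ≤ Q, and Q ≤ L ≤ H. Suppose H has characteristic p, or more generally that C_H(y) has characteristic p for some nonidentity y ∈ C_{O_p(L)}(Q). Then [Q, C_H(O_p(L))] ≤ Q ∩ O_p(L), C_H(O_p(L)) is a p-group, and L has characteristic p. -/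
theorem result {H : Type*} [Group H] [Finite H] {p : ℕ} [Fact p.Prime] (Q : Subgroup H) (hQp : IsPGroup p ↥Q) (hQ1 : Q ≠ ⊥) (hwc : Cfsg.IsWeaklyClosedSubgroup p Q) (hCQ : Subgroup.centralizer ((Q : Subgroup H) : Set H) ≤ Q) (L : Subgroup H) (hQL : Q ≤ L) (hyp : Subgroup.centralizer (Cfsg.pCore p H : Set H) ≤ Cfsg.pCore p H ∨ ∃ y : H, y ≠ 1 ∧ y ∈ (Cfsg.pCoreOf p L) ⊓ Subgroup.centralizer ((Q : Subgroup H) : Set H) ∧ Subgroup.centralizer (Cfsg.pCore p ↥(Subgroup.centralizer ({y} : Set H)) : Set ↥(Subgroup.centralizer ({y} : Set H))) ≤ Cfsg.pCore p ↥(Subgroup.centralizer ({y} : Set H))) : ⁅Q, Subgroup.centralizer (((Cfsg.pCoreOf p L) : Subgroup H) : Set H)⁆ ≤ Q ⊓ (Cfsg.pCoreOf p L) ∧ IsPGroup p ↥(Subgroup.centralizer (((Cfsg.pCoreOf p L) : Subgroup H) : Set H)) ∧ Subgroup.centralizer (Cfsg.pCore p ↥L : Set ↥L) ≤ Cfsg.pCore p ↥L := by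
  have key : ∃ y : H, y ∈ Cfsg.pCoreOf p L ∧ CharPSub p (centralizer ({y} : Set H)) := by
    rcases hyp with hH | ⟨y, _, hy, hchar⟩
    · -- `H` has characteristic `p`
      have hHc : CharPSub p (⊤ : Subgroup H) := (charPSub_top_iff p).mpr hH
      set F := Cfsg.pCore p H with hF
      set Y := Cfsg.pCoreOf p L with hY
      have hFn : F.Normal := pCore_normal p H
      have hFp : IsPGroup p F := pCore_isPGroup
      have hLY : L ≤ normalizer (Y : Set H) := le_normalizer_pCoreOf p L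
      have hYne : Y ≠ ⊥ := by
        intro hbot
        have h1 : F ⊓ L ≤ Y := by
          apply le_pCoreOf inf_le_right (hFp.to_le inf_le_left)
          exact (le_inf (le_normalizer_of_normal hFn L) le_normalizer).trans (normalizer_inf_le F L)
        rw [hbot] at h1
        have hFQ : F ≤ normalizer (Q : Set H) := by
          have hT : IsPGroup p (Q ⊔ F : Subgroup H) :=
            IsPGroup.to_sup_of_normal_right' hQp hFp (le_normalizer_of_normal hFn Q)
          exact le_sup_right.trans (wc_le_normalizer hwc hT le_sup_left)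
        have hFCQ : F ≤ centralizer (Q : Set H) := by
          intro f hf
          rw [mem_centralizer_iff]
          intro q hq
          have h2 : f * q * f⁻¹ * q⁻¹ ∈ F ⊓ L := by
            refine mem_inf.mpr ⟨?_, hQL ?_⟩
            · have : f * q * f⁻¹ * q⁻¹ = f * (q * f⁻¹ * q⁻¹) := by group
              rw [this]
              exact F.mul_mem hf (hFn.conj_mem _ (F.inv_mem hf) q)
            · exact Q.mul_mem (conj_mem_of_mem_normalizer (hFQ hf) hq) (Q.inv_mem hq)
          have h3 := h1 h2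
          rw [Subgroup.mem_bot] at h3
          have h4 : f * q * f⁻¹ = q := by
            rw [mul_inv_eq_one] at h3; exact h3
          calc q * f = (f * q * f⁻¹) * f := by rw [h4]
            _ = f * q := by group
        have hFL : F ≤ F ⊓ L := le_inf le_rfl (hFCQ.trans (hCQ.trans hQL))
        have hFbot : F = ⊥ := by
          rw [eq_bot_iff]; exact hFL.trans h1
        apply hQ1
        rw [eq_bot_iff]
        intro q hq
        have : q ∈ centralizer (F : Set H) := by
          rw [hFbot, mem_centralizer_iff]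
          intro h hh
          rw [SetLike.mem_coe, Subgroup.mem_bot] at hh
          rw [hh]; simp
        have h5 := hH this
        rw [hFbot] at h5
        exact h5
      have hR : IsPGroup p (Q ⊔ Y : Subgroup H) :=
        IsPGroup.to_sup_of_normal_right' hQp (pCoreOf_isPGroup p L) (hQL.trans hLY)
      obtain ⟨y, hyY, _, hyC⟩ := exists_central_of_normal_pgroup hR le_sup_right
        (sup_le (hQL.trans hLY) le_normalizer) hYne
      refine ⟨y, hyY, ?_⟩
      have hU : IsPGroup p (zpowers y) :=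
        (pCoreOf_isPGroup p L).to_le (zpowers_le.mpr hyY)
      have h1 := charPSub_inf_centralizer hHc le_top hU
      rw [top_inf_eq, centralizer_zpowers_eq] at h1
      exact h1
    · exact ⟨y, (mem_inf.mp hy).1, (charPSub_iff p _).mpr hchar⟩
  obtain ⟨y, hyY, hchar⟩ := key
  obtain ⟨h1, h2, h3⟩ := core hQp hwc hCQ L hQL y hyY hchar
  exact ⟨h1, h2, (charP_subgroup_iff p L).mpr h3⟩

end Cfsg.Agent.S2842
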