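import Mathlib
import Cfsg.Statements.S2843
import Cfsg.Agent.Lib.Helper5_Large
import Cfsg.Agent.S2838

set_option autoImplicit false
open Cfsg

namespace Cfsg.Agent.S2843

open Cfsg.Agent.Lib.Helper5_Sylow Cfsg.Agent.Lib.Helper5_WC Cfsg.Agent.Lib.Helper5_Large
open Cfsg.Agent.Lib.Helper5_CharP
open Subgroup
open scoped Pointwise commutatorElement

variable {H : Type*} [Group H]

theorem le_weakClosure {Q L : Subgroup H} {g : H} (hg : cj g Q ≤ L) :
    cj g Q ≤ Cfsg.weakClosure Q L :=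
  le_iSup (fun g : {g : H // cj g Q ≤ L} => cj (g : H) Q) ⟨g, hg⟩

theorem weakClosure_le {Q L K : Subgroup H} (h : ∀ g : H, cj g Q ≤ L → cj g Q ≤ K) :
    Cfsg.weakClosure Q L ≤ K := by
  unfold Cfsg.weakClosure
  apply iSup_le
  rintro ⟨g, hg⟩
  exact h g hg

theorem weakClosure_le_self (Q L : Subgroup H) : Cfsg.weakClosure Q L ≤ L :=
  weakClosure_le (fun _ hg => hg)

/-- the elements of `L°` whose commutators with `C` lie in the normal subgroup `O` -/
def commSub (L0 C O : Subgroup H) (hO : L0 ≤ normalizer (O : Set H)) : Subgroup H where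
  carrier := {x | x ∈ L0 ∧ ∀ c ∈ C, ⁅x, c⁆ ∈ O}
  mul_mem' := by
    rintro x y ⟨hx, hxc⟩ ⟨hy, hyc⟩
    refine ⟨L0.mul_mem hx hy, ?_⟩
    intro c hc
    have : ⁅x * y, c⁆ = x * ⁅y, c⁆ * x⁻¹ * ⁅x, c⁆ := by
      simp only [commutatorElement_def]; group
    rw [this]
    exact O.mul_mem (conj_mem_of_mem_normalizer (hO hx) (hyc c hc)) (hxc c hc)
  one_mem' := by
    refine ⟨L0.one_mem, ?_⟩
    intro c _
    have : ⁅(1 : H), c⁆ = 1 := by simp [commutatorElement_def]
    rw [this]; exact O.one_mem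
  inv_mem' := by
    rintro x ⟨hx, hxc⟩
    refine ⟨L0.inv_mem hx, ?_⟩
    intro c hc
    have : ⁅x⁻¹, c⁆ = x⁻¹ * (⁅x, c⁆)⁻¹ * x := by
      simp only [commutatorElement_def]; group
    rw [this]
    exact conj_mem_of_mem_normalizer' (hO hx) (O.inv_mem (hxc c hc))

/-- Let Q be a nontrivial large p-subgroup of the finite group H, Q ≤ L ≤ H, and Y a nontrivial p-subgroup of H normalized by L. Let L° be the weak closure of Q in L (generated by the conjugates of Q inside L). Then L° equals the weak closure of Q in L·C_H(Y), and [L°, C_H(Y)] ≤ O_p(L°); in particular C_H(Y) normalizes L°. -/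
theorem result {H : Type*} [Group H] [Finite H] {p : ℕ} [Fact p.Prime] (Q : Subgroup H) (hQp : IsPGroup p ↥Q) (hQ1 : Q ≠ ⊥) (hL : Cfsg.IsLarge Q) (L : Subgroup H) (hQL : Q ≤ L) (Y : Subgroup H) (hYp : IsPGroup p ↥Y) (hY1 : Y ≠ ⊥) (hLY : L ≤ Subgroup.normalizer ((Y : Subgroup H) : Set H)) : Cfsg.weakClosure Q L = Cfsg.weakClosure Q (L ⊔ Subgroup.centralizer ((Y : Subgroup H) : Set H)) ∧ ⁅Cfsg.weakClosure Q L, Subgroup.centralizer ((Y : Subgroup H) : Set H)⁆ ≤ (Cfsg.pCoreOf p (Cfsg.weakClosure Q L)) ∧ Subgroup.centralizer ((Y : Subgroup H) : Set H) ≤ Subgroup.normalizer (((Cfsg.weakClosure Q L) : Subgroup H) : Set H) := by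
  set C := centralizer (Y : Set H) with hC
  have hLC : L ≤ normalizer (C : Set H) := hLY.trans (normalizer_le_normalizer_centralizer Y)
  have hCY : C ≤ normalizer (Y : Set H) := centralizer_le_normalizer _
  have hKY : L ⊔ C ≤ normalizer (Y : Set H) := sup_le hLY hCY
  -- Fact A
  have factA : ∀ g : H, cj g Q ≤ L ⊔ C → C ≤ normalizer ((cj g Q : Subgroup H) : Set H) := by
    intro g hg
    exact isLarge_centralizer_le_normalizer (isLarge_cj g hL) (isPGroup_cj hQp) hYp hY1
      (hg.trans hKY)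
  have factA' : ∀ g : H, cj g Q ≤ L → C ≤ normalizer ((cj g Q : Subgroup H) : Set H) :=
    fun g hg => factA g (hg.trans le_sup_left)
  have hCQ : C ≤ normalizer (Q : Set H) := by
    have := factA 1 (by rw [cj_one]; exact hQL.trans le_sup_left)
    rwa [cj_one] at this
  have hwc := isLarge_wc hL hQp hQ1
  set L0 := Cfsg.weakClosure Q L with hL0
  have hL0L : L0 ≤ L := weakClosure_le_self Q L
  -- part 1
  have part1 : L0 = Cfsg.weakClosure Q (L ⊔ C) := by
    apply le_antisymm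
    · apply weakClosure_le
      intro g hg
      exact le_weakClosure (hg.trans le_sup_left)
    · apply weakClosure_le
      intro g hg
      obtain ⟨x, hx, hxQ⟩ := wc_conj_in hwc hQp (hQL.trans le_sup_left) hg
      have h3 : x ∈ (L : Set H) * (C : Set H) := by
        rw [← Subgroup.coe_mul_of_left_le_normalizer_right L C hLC]; exact hx
      obtain ⟨l, hl, c, hc, rfl⟩ := Set.mem_mul.mp h3
      rw [hxQ, ← cj_cj, cj_eq_of_mem_normalizer (hCQ hc)]
      apply le_weakClosure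
      rintro _ ⟨q, hq, rfl⟩
      simp only [MulEquiv.coe_toMonoidHom, MulAut.conj_apply]
      exact L.mul_mem (L.mul_mem hl (hQL hq)) (L.inv_mem hl)
  -- part 3
  have part3 : C ≤ normalizer (L0 : Set H) := by
    intro c hc
    apply mem_normalizer_of_cj_le
    rw [hL0]
    unfold Cfsg.weakClosure
    rw [cj, Subgroup.map_iSup]
    apply iSup_le
    rintro ⟨g, hg⟩
    show cj c (cj g Q) ≤ _
    rw [cj_eq_of_mem_normalizer (factA' g hg hc)]
    exact le_weakClosure hg
  refine ⟨part1, ?_, part3⟩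
  -- part 2
  set O := Cfsg.pCoreOf p L0 with hO
  have hL0O : L0 ≤ normalizer (O : Set H) := le_normalizer_pCoreOf p L0
  -- `E`
  set D := L0 ⊓ C with hD
  have hPg : ∀ g : H, cj g Q ≤ L → cj g Q ⊓ C ≤ Cfsg.pCoreOf p D := by
    intro g hg
    apply le_pCoreOf (inf_le_inf_right C (le_weakClosure hg)) ((isPGroup_cj hQp).to_le inf_le_left)
    refine le_trans (le_inf ?_ ?_) (normalizer_inf_le _ _)
    · exact inf_le_right.trans (factA' g hg)
    · exact inf_le_right.trans le_normalizer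
  set E : Subgroup H := ⨆ g : {g : H // cj g Q ≤ L}, (cj (g : H) Q ⊓ C) with hE
  have hEp : IsPGroup p E := by
    apply (pCoreOf_isPGroup p D).to_le
    apply iSup_le
    rintro ⟨g, hg⟩
    exact hPg g hg
  have hEL0 : E ≤ L0 := by
    apply iSup_le
    rintro ⟨g, hg⟩
    exact inf_le_left.trans (le_weakClosure hg)
  have hLE : L ≤ normalizer (E : Set H) := by
    intro l hl
    apply mem_normalizer_of_cj_le
    rw [hE, cj, Subgroup.map_iSup]
    apply iSup_le
    rintro ⟨g, hg⟩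
    have h1 : cj (l * g) Q ≤ L := by
      rw [← cj_cj]
      rintro _ ⟨q, hq, rfl⟩
      simp only [MulEquiv.coe_toMonoidHom, MulAut.conj_apply]
      exact L.mul_mem (L.mul_mem hl (hg hq)) (L.inv_mem hl)
    refine le_trans ?_ (le_iSup (fun g : {g : H // cj g Q ≤ L} => (cj (g : H) Q ⊓ C)) ⟨l * g, h1⟩)
    show cj l (cj g Q ⊓ C) ≤ cj (l * g) Q ⊓ C
    apply le_inf
    · rw [← cj_cj]; exact cj_mono l inf_le_left
    · have := cj_mono l (inf_le_right : cj g Q ⊓ C ≤ C)
      rwa [cj_eq_of_mem_normalizer (hLC hl)] at this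
  have hEO : E ≤ O := le_pCoreOf hEL0 hEp (hL0L.trans hLE)
  have hgen : ∀ g : H, cj g Q ≤ L → cj g Q ≤ commSub L0 C O hL0O := by
    intro g hg x hx
    refine ⟨le_weakClosure hg hx, ?_⟩
    intro c hc
    apply hEO
    have hmn : Cfsg.Agent.S2838.MN (cj g Q) C := ⟨hg.trans hLC, factA' g hg⟩
    have h2 := (Cfsg.Agent.S2838.mn_iff _ _).mp hmn
    have h3 : ⁅x, c⁆ ∈ cj g Q ⊓ C := h2 (Subgroup.commutator_mem_commutator hx hc)
    exact (le_iSup (fun g : {g : H // cj g Q ≤ L} => (cj (g : H) Q ⊓ C)) ⟨g, hg⟩) h3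
  have hL0S : L0 ≤ commSub L0 C O hL0O := weakClosure_le hgen
  rw [Subgroup.commutator_le]
  intro x hx c hc
  exact (hL0S hx).2 c hc

end Cfsg.Agent.S2843
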