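import Mathlib
import Cfsg.Statements.S2844
import Cfsg.Agent.Lib.Helper5_Large

set_option autoImplicit false
open Cfsg

namespace Cfsg.Agent.S2844

open Cfsg.Agent.Lib.Helper5_WC Cfsg.Agent.Lib.Helper5_Large Cfsg.Agent.Lib.Helper5_CharP
open Subgroup

/-- Let Q be a nontrivial large p-subgroup of the finite group H and Q• = O_p(N_H(Q)). Then for every g ∈ H outside N_H(Q): C_H(Q) ∩ C_H(gQg⁻¹) = 1, C_H(Q•) ∩ C_H(gQ•g⁻¹) = 1, Z(Q) ∩ Z(gQg⁻¹) = 1 and Z(Q•) ∩ Z(gQ•g⁻¹) = 1; moreover N_H(Q) = N_H(Q•) and Q• is large in H. -/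
theorem result {H : Type*} [Group H] [Finite H] {p : ℕ} [Fact p.Prime] (Q : Subgroup H) (hQp : IsPGroup p ↥Q) (hQ1 : Q ≠ ⊥) (hL : Cfsg.IsLarge Q) (Qb : Subgroup H) (hQb : Qb = Cfsg.largeBullet p Q) : (∀ g : H, g ∉ Subgroup.normalizer ((Q : Subgroup H) : Set H) → Subgroup.centralizer ((Q : Subgroup H) : Set H) ⊓ Subgroup.centralizer ((((Q : Subgroup H).map (MulAut.conj (g : H)).toMonoidHom) : Subgroup H) : Set H) = ⊥ ∧ Subgroup.centralizer ((Qb : Subgroup H) : Set H) ⊓ Subgroup.centralizer ((((Qb : Subgroup H).map (MulAut.conj (g : H)).toMonoidHom) : Subgroup H) : Set H) = ⊥ ∧ (Q ⊓ Subgroup.centralizer ((Q : Subgroup H) : Set H)) ⊓ (((Q : Subgroup H).map (MulAut.conj (g : H)).toMonoidHom) ⊓ Subgroup.centralizer ((((Q : Subgroup H).map (MulAut.conj (g : H)).toMonoidHom) : Subgroup H) : Set H)) = ⊥ ∧ (Qb ⊓ Subgroup.centralizer ((Qb : Subgroup H) : Set H)) ⊓ (((Qb : Subgroup H).map (MulAut.conj (g : H)).toMonoidHom) ⊓ Subgroup.centralizer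 ((((Qb : Subgroup H).map (MulAut.conj (g : H)).toMonoidHom) : Subgroup H) : Set H)) = ⊥) ∧ Subgroup.normalizer ((Q : Subgroup H) : Set H) = Subgroup.normalizer ((Qb : Subgroup H) : Set H) ∧ Cfsg.IsLarge Qb := by
  have hQQb : Q ≤ Qb := by
    rw [hQb]
    unfold Cfsg.largeBullet
    exact le_pCoreOf le_normalizer hQp le_rfl
  have hQbp : IsPGroup p Qb := by
    rw [hQb]; exact pCoreOf_isPGroup p _
  have hN1 : normalizer (Q : Set H) ≤ normalizer (Qb : Set H) := by
    rw [hQb]; exact le_normalizer_pCoreOf p _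
  have hN2 : normalizer (Qb : Set H) ≤ normalizer (Q : Set H) :=
    isLarge_normalizer_le hL hQ1 hQbp hQQb
  have hC : centralizer (Qb : Set H) ≤ centralizer (Q : Set H) := Subgroup.centralizer_le hQQb
  have hCg : ∀ g : H, centralizer ((cj g Qb : Subgroup H) : Set H) ≤
      centralizer ((cj g Q : Subgroup H) : Set H) :=
    fun g => Subgroup.centralizer_le (cj_mono g hQQb)
  refine ⟨?_, le_antisymm hN1 hN2, ?_⟩
  · intro g hg
    have h1 := isLarge_centralizer_inf hL hQp hQ1 hg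
    have h2 : centralizer (Qb : Set H) ⊓ centralizer ((cj g Qb : Subgroup H) : Set H) = ⊥ := by
      rw [eq_bot_iff, ← h1]
      exact inf_le_inf hC (hCg g)
    refine ⟨h1, h2, ?_, ?_⟩
    · rw [eq_bot_iff, ← h1]
      exact inf_le_inf inf_le_right inf_le_right
    · rw [eq_bot_iff, ← h2]
      exact inf_le_inf inf_le_right inf_le_right
  · constructor
    · exact hC.trans (hL.1.trans hQQb)
    · intro U hU hU1
      exact (hL.2 U (hU.trans hC) hU1).trans hN1

end Cfsg.Agent.S2844
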