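import Mathlib
import Cfsg.Statements.S2845
import Cfsg.Agent.Lib.Helper5_Large

set_option autoImplicit false
open Cfsg

namespace Cfsg.Agent.S2845

open Cfsg.Agent.Lib.Helper5_Sylow Cfsg.Agent.Lib.Helper5_WC Cfsg.Agent.Lib.Helper5_Large
open Cfsg.Agent.Lib.Helper5_CharP
open Subgroup

variable {H : Type*} [Group H]

theorem pCoreOf_ne_bot {p : ℕ} {L : Subgroup H} (h : Cfsg.pCore p ↥L ≠ ⊥) :
    Cfsg.pCoreOf p L ≠ ⊥ := by
  unfold Cfsg.pCoreOf
  intro h'
  rw [Subgroup.map_eq_bot_iff_of_injective _ L.subtype_injective] at h'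
  exact h h'

theorem pCore_ne_bot_of {p : ℕ} {L : Subgroup H} (h : Cfsg.pCoreOf p L ≠ ⊥) :
    Cfsg.pCore p ↥L ≠ ⊥ := by
  intro h'
  apply h
  unfold Cfsg.pCoreOf
  rw [h', Subgroup.map_bot]

section main

variable [Finite H] {p : ℕ} [Fact p.Prime] {Q : Subgroup H}

theorem partA (hL : Cfsg.IsLarge Q) (hQp : IsPGroup p ↥Q) (hQ1 : Q ≠ ⊥)
    (L : Subgroup H) (hQL : Q ≤ L) (hne : Cfsg.pCore p ↥L ≠ ⊥) :
    IsPGroup p ↥(Subgroup.centralizer (((Cfsg.pCoreOf p L) : Subgroup H) : Set H)) ∧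
    Subgroup.centralizer (Cfsg.pCore p ↥L : Set ↥L) ≤ Cfsg.pCore p ↥L ∧
    (Cfsg.weakClosure Q L = Q ∨
      Subgroup.centralizer (((Cfsg.weakClosure Q L) : Subgroup H) : Set H) = ⊥) := by
  obtain ⟨_, h2, h3⟩ := isLarge_centralizer_pCoreOf hL hQp hQL (pCoreOf_ne_bot hne)
  refine ⟨h2, (charP_subgroup_iff p L).mpr h3, ?_⟩
  by_cases hall : ∀ g : H, cj g Q ≤ L → g ∈ normalizer (Q : Set H)
  · left
    unfold Cfsg.weakClosure
    apply le_antisymm
    · apply iSup_le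
      rintro ⟨g, hg⟩
      show cj g Q ≤ Q
      rw [cj_eq_of_mem_normalizer (hall g hg)]
    · have h1 : cj 1 Q ≤ L := by rw [cj_one]; exact hQL
      have := le_iSup (fun g : {g : H // cj g Q ≤ L} => cj (g : H) Q) ⟨1, h1⟩
      simp only [cj_one] at this
      exact this
  · right
    push Not at hall
    obtain ⟨g, hgL, hgN⟩ := hall
    rw [eq_bot_iff, ← isLarge_centralizer_inf hL hQp hQ1 hgN]
    have h1 : cj 1 Q ≤ L := by rw [cj_one]; exact hQL
    have hQle : Q ≤ Cfsg.weakClosure Q L := by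
      have := le_iSup (fun g : {g : H // cj g Q ≤ L} => cj (g : H) Q) ⟨1, h1⟩
      simp only [cj_one] at this
      exact this
    have hgle : cj g Q ≤ Cfsg.weakClosure Q L :=
      le_iSup (fun g : {g : H // cj g Q ≤ L} => cj (g : H) Q) ⟨g, hgL⟩
    exact le_inf (Subgroup.centralizer_le hQle) (Subgroup.centralizer_le hgle)

theorem partB (hL : Cfsg.IsLarge Q) (hQp : IsPGroup p ↥Q) (hQ1 : Q ≠ ⊥)
    (R : Subgroup H) (hR : Cfsg.IsParabolic p R) (hne : Cfsg.pCore p ↥R ≠ ⊥) :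
    Subgroup.centralizer (((Cfsg.pCoreOf p R) : Subgroup H) : Set H) ≤ (Cfsg.pCoreOf p R) := by
  obtain ⟨T, hTR⟩ := hR
  obtain ⟨g, hg⟩ := exists_conj_le_sylow hQp T
  have hg' : cj g Q ≤ (T : Subgroup H) := hg
  obtain ⟨_, h2, _⟩ := isLarge_centralizer_pCoreOf (isLarge_cj g hL) (isPGroup_cj hQp)
    (hg'.trans hTR) (pCoreOf_ne_bot hne)
  set D := centralizer ((Cfsg.pCoreOf p R : Subgroup H) : Set H) with hD
  have hRD : R ≤ normalizer (D : Set H) :=
    (le_normalizer_pCoreOf p R).trans (normalizer_le_normalizer_centralizer _)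
  have hTD : IsPGroup p ((T : Subgroup H) ⊔ D : Subgroup H) :=
    IsPGroup.to_sup_of_normal_right' T.isPGroup' h2 (hTR.trans hRD)
  have hle : D ≤ (T : Subgroup H) := by
    have := T.is_maximal' hTD le_sup_left
    rw [← this]; exact le_sup_right
  exact le_pCoreOf (hle.trans hTR) h2 hRD

end main

/-- Let Q be a nontrivial large p-subgroup of the finite group H. Then for every subgroup L ≥ Q with O_p(L) ≠ 1, C_H(O_p(L)) is a p-group and L has characteristic p, and either the weak closure L° of Q in L equals Q or C_H(L°) = 1; for every subgroup R of H containing a Sylow p-subgroup of H with O_p(R) ≠ 1, C_H(O_p(R)) ≤ O_p(R); and H has parabolic characteristic p. -/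
theorem result {H : Type*} [Group H] [Finite H] {p : ℕ} [Fact p.Prime] (Q : Subgroup H) (hQp : IsPGroup p ↥Q) (hQ1 : Q ≠ ⊥) (hL : Cfsg.IsLarge Q) : (∀ L : Subgroup H, Q ≤ L → Cfsg.pCore p ↥L ≠ ⊥ → IsPGroup p ↥(Subgroup.centralizer (((Cfsg.pCoreOf p L) : Subgroup H) : Set H)) ∧ Subgroup.centralizer (Cfsg.pCore p ↥L : Set ↥L) ≤ Cfsg.pCore p ↥L ∧ (Cfsg.weakClosure Q L = Q ∨ Subgroup.centralizer (((Cfsg.weakClosure Q L) : Subgroup H) : Set H) = ⊥)) ∧ (∀ R : Subgroup H, Cfsg.IsParabolic p R → Cfsg.pCore p ↥R ≠ ⊥ → Subgroup.centralizer (((Cfsg.pCoreOf p R) : Subgroup H) : Set H) ≤ (Cfsg.pCoreOf p R)) ∧ Cfsg.IsOfParabolicCharacteristic p H := by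
  refine ⟨partA hL hQp hQ1, partB hL hQp hQ1, ?_⟩
  intro R hR hR1 hpar
  rw [charP_subgroup_iff]
  have hRle : R ≤ Cfsg.pCoreOf p (normalizer (R : Set H)) := le_pCoreOf le_normalizer hR le_rfl
  have hne : Cfsg.pCoreOf p (normalizer (R : Set H)) ≠ ⊥ := by
    intro h
    apply hR1
    rw [eq_bot_iff, ← h]; exact hRle
  exact inf_le_right.trans (partB hL hQp hQ1 _ hpar (pCore_ne_bot_of hne))

end Cfsg.Agent.S2845
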