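import Mathlib
import Cfsg.Statements.S2848
import Cfsg.Agent.Lib.Helper5_Large

set_option autoImplicit false
open Cfsg

namespace Cfsg.Agent.S2848

open Cfsg.Agent.Lib.Helper5_Sylow Cfsg.Agent.Lib.Helper5_WC Cfsg.Agent.Lib.Helper5_Large
open Cfsg.Agent.Lib.Helper5_CharP
open Subgroup

/-- `O_p(L)` centralizes every `p`-reduced normal subgroup. -/
theorem pCore_le_centralizer {L : Type*} [Group L] [Finite L] {p : ℕ} [Fact p.Prime]
    {V : Subgroup L} (hV : Cfsg.IsPReducedNormal p V) :
    Cfsg.pCore p L ≤ centralizer (V : Set L) := by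
  obtain ⟨_, _, hCn, hbot⟩ := hV
  have := hCn
  have hn : ((Cfsg.pCore p L).map (QuotientGroup.mk' (centralizer (V : Set L)))).Normal :=
    Subgroup.Normal.map (pCore_normal p L) _ (QuotientGroup.mk'_surjective _)
  have hp : IsPGroup p ((Cfsg.pCore p L).map (QuotientGroup.mk' (centralizer (V : Set L)))) :=
    pCore_isPGroup.map _
  have hle := le_pCore _ hn hp
  rw [hbot] at hle
  intro x hx
  have h1 : QuotientGroup.mk' (centralizer (V : Set L)) x ∈ (⊥ : Subgroup (L ⧸ centralizer (V : Set L))) :=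
    hle ⟨x, hx, rfl⟩
  rw [Subgroup.mem_bot] at h1
  exact (QuotientGroup.eq_one_iff x).mp h1

theorem pCore_le_centralizer_largest {L : Type*} [Group L] [Finite L] {p : ℕ} [Fact p.Prime] :
    Cfsg.pCore p L ≤ centralizer (Cfsg.largestPReduced p L : Set L) := by
  rw [Subgroup.le_centralizer_iff]
  unfold Cfsg.largestPReduced
  apply sSup_le
  intro V hV
  rw [← Subgroup.le_centralizer_iff]
  exact pCore_le_centralizer hV

theorem pCoreOf_le_centralizer {G : Type*} [Group G] [Finite G] {p : ℕ} [Fact p.Prime]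
    (M : Subgroup G) :
    Cfsg.pCoreOf p M ≤ centralizer (Cfsg.largestPReducedOf p M : Set G) := by
  rintro _ ⟨x, hx, rfl⟩
  rw [mem_centralizer_iff]
  rintro _ ⟨y, hy, rfl⟩
  have := (mem_centralizer_iff.mp (pCore_le_centralizer_largest hx)) y hy
  exact congrArg Subtype.val this

theorem le_normalizer_largestPReducedOf {G : Type*} [Group G] {p : ℕ}
    (M : Subgroup G) :
    M ≤ normalizer (Cfsg.largestPReducedOf p M : Set G) := by
  have hn : (Cfsg.largestPReduced p ↥M).Normal := by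
    unfold Cfsg.largestPReduced
    exact Subgroup.sSup_normal _ (fun V hV => hV.1)
  intro m hm
  apply mem_normalizer_of_forall_conj_mem
  · rintro _ ⟨y, hy, rfl⟩
    exact ⟨⟨m, hm⟩ * y * ⟨m, hm⟩⁻¹, hn.conj_mem y hy _, by simp⟩
  · rintro _ ⟨y, hy, rfl⟩
    refine ⟨⟨m, hm⟩⁻¹ * y * ⟨m, hm⟩, ?_, by simp⟩
    have := hn.conj_mem y hy ⟨m, hm⟩⁻¹
    rwa [inv_inv] at this

/-- Standing hypotheses: G a finite group, S a Sylow p-subgroup, Q a nontrivial large p-subgroup of G contained in S (C_G(Q) ≤ Q and N_G(U) ≤ N_G(Q) for all nontrivial U ≤ C_G(Q)), and M a subgroup containing S with the basic property (M ∈ 𝔐_G(S)); Y_M denotes the largest p-reduced normal subgroup of M and M† = M·C_G(Y_M). Then O_p(M) is a weakly closed subgroup of M† (for p): it is the only M†-conjugate of itself inside some Sylow p-subgroup of M† containing it. -/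
theorem result {G : Type*} [Group G] [Finite G] {p : ℕ} [Fact p.Prime] (S : Sylow p G) (Q : Subgroup G) (hQp : IsPGroup p ↥Q) (hQ1 : Q ≠ ⊥) (hQS : Q ≤ (S : Subgroup G)) (hQ : Cfsg.IsLarge Q) (M : Subgroup G) (hSM : (S : Subgroup G) ≤ M) (hM : Cfsg.IsInFrakM p M) : Cfsg.IsWeaklyClosedSubgroup p (((Cfsg.pCoreOf p M)).subgroupOf (M ⊔ Subgroup.centralizer (((Cfsg.largestPReducedOf p M) : Subgroup G) : Set G))) := by
  set Y := Cfsg.largestPReducedOf p M with hY
  set C := centralizer (Y : Set G) with hC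
  set P := Cfsg.pCoreOf p M with hP
  set Md := M ⊔ C with hMd
  have hPC : P ≤ C := pCoreOf_le_centralizer M
  have hPM : P ≤ M := pCoreOf_le p M
  have hMY : M ≤ normalizer (Y : Set G) := le_normalizer_largestPReducedOf M
  have hMC : M ≤ normalizer (C : Set G) := hMY.trans (normalizer_le_normalizer_centralizer Y)
  have hMdC : Md ≤ normalizer (C : Set G) := sup_le hMC le_normalizer
  have hPS : P ≤ (S : Subgroup G) := by
    -- a normal `p`-subgroup of `M` lies in the Sylow `S ≤ M`
    have h1 : IsPGroup p ((S : Subgroup G) ⊔ P : Subgroup G) :=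
      IsPGroup.to_sup_of_normal_right' S.isPGroup' (pCoreOf_isPGroup p M)
        (hSM.trans (le_normalizer_pCoreOf p M))
    have := S.is_maximal' h1 le_sup_left
    rw [← this]; exact le_sup_right
  -- `S ∩ C ≤ P` by `p`-closure
  have hpc : Cfsg.IsPClosed p ↥(M ⊓ C) := hM.2.2.2.2.1
  have hSC : (S : Subgroup G) ⊓ C ≤ P := by
    set R := (S : Subgroup G) ⊓ C with hR
    have hRM : R ≤ M ⊓ C := inf_le_inf_right C hSM
    have hRp : IsPGroup p R := S.isPGroup'.to_le inf_le_left
    -- a Sylow of `M ⊓ C` containing `R`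
    obtain ⟨R', hR'⟩ := (hRp.comap_subtype (K := M ⊓ C)).exists_le_sylow
    have hR'n : (R' : Subgroup ↥(M ⊓ C)).Normal := hpc R'
    -- `R'` mapped to `G`
    set R1 := (R' : Subgroup ↥(M ⊓ C)).map (M ⊓ C).subtype with hR1
    have hR1p : IsPGroup p R1 := R'.isPGroup'.map _
    have hRR1 : R ≤ R1 := by
      intro x hx
      exact ⟨⟨x, hRM hx⟩, hR' (mem_subgroupOf.mpr hx), rfl⟩
    have hR1MC : R1 ≤ M ⊓ C := Subgroup.map_subtype_le _
    -- every `p`-subgroup of `M ⊓ C` lies in `R1`
    have hall : ∀ X : Subgroup G, X ≤ M ⊓ C → IsPGroup p X → X ≤ R1 := by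
      intro X hX hXp
      have h1 : IsPGroup p (X.subgroupOf (M ⊓ C)) := hXp.comap_subtype
      have h2 : X.subgroupOf (M ⊓ C) ≤ (R' : Subgroup ↥(M ⊓ C)) := by
        have h3 : IsPGroup p ((R' : Subgroup ↥(M ⊓ C)) ⊔ X.subgroupOf (M ⊓ C) : Subgroup ↥(M ⊓ C)) := by
          rw [sup_comm]
          exact IsPGroup.to_sup_of_normal_right h1 R'.isPGroup'
        have := R'.is_maximal' h3 le_sup_left
        rw [← this]; exact le_sup_right
      intro x hx
      exact ⟨⟨x, hX hx⟩, h2 (mem_subgroupOf.mpr hx), rfl⟩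
    -- `M` normalizes `R1`
    have hMR1 : M ≤ normalizer (R1 : Set G) := by
      intro m hm
      apply mem_normalizer_of_cj_le
      apply hall _ _ (isPGroup_cj hR1p)
      have h1 : cj m (M ⊓ C) = M ⊓ C := by
        apply cj_eq_of_mem_normalizer
        exact normalizer_inf_le M C (mem_inf.mpr ⟨le_normalizer hm, hMC hm⟩)
      rw [← h1]
      exact cj_mono m hR1MC
    have hR1P : R1 ≤ P := le_pCoreOf (hR1MC.trans inf_le_left) hR1p hMR1
    exact hRR1.trans hR1P
  -- the Sylow of `Md`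
  have hSMd : (S : Subgroup G) ≤ Md := hSM.trans le_sup_left
  refine ⟨S.subtype hSMd, ?_, ?_⟩
  · intro x hx
    rw [Sylow.coe_subtype]
    exact mem_subgroupOf.mpr (hPS (mem_subgroupOf.mp hx))
  · intro g hg
    have hPMd : P ≤ Md := hPM.trans le_sup_left
    have hg' : cj (g : G) P ≤ (S : Subgroup G) := by
      rw [← map_subtype_cj_subgroupOf hPMd g]
      rintro _ ⟨x, hx, rfl⟩
      have := hg hx
      rw [Sylow.coe_subtype] at this
      exact mem_subgroupOf.mp this
    have hgC : cj (g : G) P ≤ C := by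
      have := cj_mono (g : G) hPC
      rwa [cj_eq_of_mem_normalizer (hMdC g.2)] at this
    have h1 : cj (g : G) P = P := cj_eq_of_le _ ((le_inf hg' hgC).trans hSC) le_rfl
    show cj g (P.subgroupOf Md) = P.subgroupOf Md
    apply Subgroup.map_injective Md.subtype_injective
    rw [map_subtype_cj_subgroupOf hPMd g, h1, subgroupOf_map_subtype, inf_eq_left.mpr hPMd]

end Cfsg.Agent.S2848
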