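import Mathlib
import Cfsg.Statements.S2849
import Cfsg.Agent.Lib.Helper5_Large
import Cfsg.Agent.S2838
import Cfsg.Agent.S2848

set_option autoImplicit false
open Cfsg

namespace Cfsg.Agent.S2849

open Cfsg.Agent.Lib.Helper5_Sylow Cfsg.Agent.Lib.Helper5_WC Cfsg.Agent.Lib.Helper5_Large
open Cfsg.Agent.Lib.Helper5_CharP
open Subgroup
open scoped commutatorElement

/-- pairwise commuting elements of order dividing `p` generate an elementary abelian subgroup -/
theorem ea_closure {G : Type*} [Group G] {p : ℕ} {s : Set G}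
    (hc : ∀ x ∈ s, ∀ y ∈ s, x * y = y * x) (hp : ∀ x ∈ s, x ^ p = 1) :
    Cfsg.IsElementaryAbelian p (closure s) := by
  have hcomm := Subgroup.isMulCommutative_closure hc
  refine ⟨hcomm, ?_⟩
  intro a ha
  induction ha using Subgroup.closure_induction with
  | mem x hx => exact hp x hx
  | one => exact one_pow p
  | mul x y hx hy ihx ihy =>
    have hxy : x * y = y * x := congrArg Subtype.val (hcomm.is_comm.comm ⟨x, hx⟩ ⟨y, hy⟩)
    have : Commute x y := hxy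
    rw [this.mul_pow, ihx, ihy, one_mul]
  | inv x hx ih => rw [inv_pow, ih, inv_one]

theorem largestPReduced_le_pCore {L : Type*} [Group L] [Finite L] {p : ℕ} [Fact p.Prime] :
    Cfsg.largestPReduced p L ≤ Cfsg.pCore p L := by
  unfold Cfsg.largestPReduced
  apply sSup_le
  intro V hV
  apply le_pCore V hV.1
  intro a
  refine ⟨1, Subtype.ext ?_⟩
  simpa using hV.2.1.2 a a.2

theorem largestPReduced_ea {L : Type*} [Group L] [Finite L] {p : ℕ} [Fact p.Prime] :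
    Cfsg.IsElementaryAbelian p (Cfsg.largestPReduced p L) := by
  have h1 : Cfsg.largestPReduced p L =
      closure (⋃ V : {V : Subgroup L | Cfsg.IsPReducedNormal p V}, ((V : Subgroup L) : Set L)) := by
    unfold Cfsg.largestPReduced
    rw [sSup_eq_iSup', Subgroup.iSup_eq_closure]
  rw [h1]
  apply ea_closure
  · intro x hx y hy
    simp only [Set.mem_iUnion] at hx hy
    obtain ⟨⟨V, hV⟩, hxV⟩ := hx
    obtain ⟨⟨W, hW⟩, hyW⟩ := hy
    have hVle : V ≤ Cfsg.largestPReduced p L := le_sSup hV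
    have h2 : x ∈ centralizer (W : Set L) :=
      Cfsg.Agent.S2848.pCore_le_centralizer hW (largestPReduced_le_pCore (hVle hxV))
    exact ((mem_centralizer_iff.mp h2) y hyW).symm
  · intro x hx
    simp only [Set.mem_iUnion] at hx
    obtain ⟨⟨V, hV⟩, hxV⟩ := hx
    exact hV.2.1.2 x hxV

theorem largestPReducedOf_ea {G : Type*} [Group G] [Finite G] {p : ℕ} [Fact p.Prime]
    (M : Subgroup G) :
    (∀ x ∈ Cfsg.largestPReducedOf p M, ∀ y ∈ Cfsg.largestPReducedOf p M, x * y = y * x) ∧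
      ∀ x ∈ Cfsg.largestPReducedOf p M, x ^ p = 1 := by
  obtain ⟨hc, he⟩ := largestPReduced_ea (L := ↥M) (p := p)
  constructor
  · rintro _ ⟨x, hx, rfl⟩ _ ⟨y, hy, rfl⟩
    have := congrArg Subtype.val (hc.is_comm.comm ⟨x, hx⟩ ⟨y, hy⟩)
    rw [← map_mul, ← map_mul]
    exact congrArg (M.subtype) this
  · rintro _ ⟨x, hx, rfl⟩
    rw [← map_pow, he x hx, map_one]

/-- Standing hypotheses: G a finite group, S a Sylow p-subgroup, Q a nontrivial large p-subgroup of G contained in S (C_G(Q) ≤ Q and N_G(U) ≤ N_G(Q) for all nontrivial U ≤ C_G(Q)), and M a subgroup containing S with the basic property (M ∈ 𝔐_G(S)); Y_M denotes the largest p-reduced normal subgroup of M and M† = M·C_G(Y_M). Suppose Y_M is asymmetric in G. Then for every subgroup R with Y_M ≤ R ≤ M†, the normal closure of Y_M in N_G(R) is elementary abelian. -/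
theorem result {G : Type*} [Group G] [Finite G] {p : ℕ} [Fact p.Prime] (S : Sylow p G) (Q : Subgroup G) (hQp : IsPGroup p ↥Q) (hQ1 : Q ≠ ⊥) (hQS : Q ≤ (S : Subgroup G)) (hQ : Cfsg.IsLarge Q) (M : Subgroup G) (hSM : (S : Subgroup G) ≤ M) (hM : Cfsg.IsInFrakM p M) (hasym : ¬ Cfsg.IsSymmetricIn (Cfsg.largestPReducedOf p M)) (R : Subgroup G) (hYR : (Cfsg.largestPReducedOf p M) ≤ R) (hRM : R ≤ (M ⊔ Subgroup.centralizer (((Cfsg.largestPReducedOf p M) : Subgroup G) : Set G))) : Cfsg.IsElementaryAbelian p ((Subgroup.normalClosure ((((Cfsg.largestPReducedOf p M)).subgroupOf (Subgroup.normalizer ((R : Subgroup G) : Set G)) : Subgroup ↥(Subgroup.normalizer ((R : Subgroup G) : Set G))) : Set ↥(Subgroup.normalizer ((R : Subgroup G) : Set G)))).map (Subgroup.normalizer ((R : Subgroup G) : Set G)).subtype) := by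
  set Y := Cfsg.largestPReducedOf p M with hY
  set N := normalizer (R : Set G) with hN
  obtain ⟨hYc, hYe⟩ := largestPReducedOf_ea (p := p) M
  have hMdY : M ⊔ centralizer (Y : Set G) ≤ normalizer (Y : Set G) :=
    sup_le (Cfsg.Agent.S2848.le_normalizer_largestPReducedOf M) (centralizer_le_normalizer _)
  have hRY : R ≤ normalizer (Y : Set G) := hRM.trans hMdY
  -- conjugates by elements of `N` commute with `Y`
  have key : ∀ g ∈ N, ∀ y₁ ∈ Y, ∀ y₂ ∈ Y, y₁ * (g * y₂ * g⁻¹) = (g * y₂ * g⁻¹) * y₁ := by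
    intro g hg y₁ hy₁ y₂ hy₂
    have hgR : cj g R = R := cj_eq_of_mem_normalizer hg
    have hmn : Cfsg.Agent.S2838.MN Y (cj g Y) := by
      constructor
      · have h1 : cj g R ≤ normalizer ((cj g Y : Subgroup G) : Set G) := cj_le_normalizer_cj hRY
        rw [hgR] at h1
        exact hYR.trans h1
      · have h1 : cj g Y ≤ cj g R := cj_mono g hYR
        rw [hgR] at h1
        exact h1.trans hRY
    have h2 := (Cfsg.Agent.S2838.mn_iff _ _).mp hmn
    have h3 : ⁅Y, cj g Y⁆ = ⊥ := by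
      by_contra hne
      exact hasym ⟨g, hne, h2⟩
    have h4 : ⁅y₁, g * y₂ * g⁻¹⁆ ∈ ⁅Y, cj g Y⁆ :=
      Subgroup.commutator_mem_commutator hy₁ (conj_mem_cj hy₂)
    rw [h3, Subgroup.mem_bot, commutatorElement_eq_one_iff_mul_comm] at h4
    exact h4
  -- rewrite the normal closure as a closure
  unfold Subgroup.normalClosure
  rw [MonoidHom.map_closure]
  apply ea_closure
  · rintro _ ⟨a, ha, rfl⟩ _ ⟨b, hb, rfl⟩
    rw [Group.mem_conjugatesOfSet_iff] at ha hb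
    obtain ⟨y₁, hy₁, hc₁⟩ := ha
    obtain ⟨y₂, hy₂, hc₂⟩ := hb
    rw [isConj_iff] at hc₁ hc₂
    obtain ⟨n₁, rfl⟩ := hc₁
    obtain ⟨n₂, rfl⟩ := hc₂
    have hy₁' : (y₁ : G) ∈ Y := mem_subgroupOf.mp hy₁
    have hy₂' : (y₂ : G) ∈ Y := mem_subgroupOf.mp hy₂
    have hk := key ((n₁ : G)⁻¹ * n₂) (N.mul_mem (N.inv_mem n₁.2) n₂.2) y₁ hy₁' y₂ hy₂'
    simp only [Subgroup.coe_subtype, Subgroup.coe_mul, Subgroup.coe_inv]
    calc (n₁ : G) * y₁ * (n₁ : G)⁻¹ * ((n₂ : G) * y₂ * (n₂ : G)⁻¹)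
        = n₁ * ((y₁ : G) * (((n₁ : G)⁻¹ * n₂) * y₂ * ((n₁ : G)⁻¹ * n₂)⁻¹)) * (n₁ : G)⁻¹ := by group
      _ = n₁ * ((((n₁ : G)⁻¹ * n₂) * y₂ * ((n₁ : G)⁻¹ * n₂)⁻¹) * (y₁ : G)) * (n₁ : G)⁻¹ := by rw [hk]
      _ = (n₂ : G) * y₂ * (n₂ : G)⁻¹ * ((n₁ : G) * y₁ * (n₁ : G)⁻¹) := by group
  · rintro _ ⟨a, ha, rfl⟩
    rw [Group.mem_conjugatesOfSet_iff] at ha
    obtain ⟨y₁, hy₁, hc₁⟩ := ha
    rw [isConj_iff] at hc₁
    obtain ⟨n₁, rfl⟩ := hc₁
    have hy₁' : (y₁ : G) ∈ Y := mem_subgroupOf.mp hy₁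
    rw [← map_pow, conj_pow]
    have : y₁ ^ p = 1 := Subtype.ext (by simpa using hYe _ hy₁')
    rw [this]
    simp

end Cfsg.Agent.S2849
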