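import Cfsg.Statements.S2872
import Mathlib
import Cfsg.Agent.Lib.Helper5_ThompsonExt
import Cfsg.Agent.Lib.Helper7_PFrattini

set_option autoImplicit false
open Cfsg

namespace Cfsg.Agent.S2872

open Cfsg.Agent.Lib.Helper5_ThompsonExt

/-- Let S be a Sylow 2-subgroup of the finite group G. Then G has a proper normal subgroup of 2-power index (O²(G) ≠ G), or Ω₁(Z(S)) is contained in the Frattini subgroup of S, or N_G(S) acts nontrivially on Ω₁(Z(S)) by conjugation. -/
theorem result {G : Type*} [Group G] [Finite G] (S : Sylow 2 G) : Cfsg.pResidual 2 G ≠ ⊤ ∨ Cfsg.omegaOne 2 ((S : Subgroup G) ⊓ Subgroup.centralizer ((S : Subgroup G) : Set G)) ≤ (frattini ↥(S : Subgroup G)).map (S : Subgroup G).subtype ∨ ∃ g ∈ Subgroup.normalizer ((S : Subgroup G) : Set G), ∃ z ∈ Cfsg.omegaOne 2 ((S : Subgroup G) ⊓ Subgroup.centralizer ((S : Subgroup G) : Set G)), g * z * g⁻¹ ≠ z := by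
  classical
  haveI : Fact (Nat.Prime 2) := ⟨Nat.prime_two⟩
  by_contra hcon
  push_neg at hcon
  obtain ⟨h1, h2, h3⟩ := hcon
  -- an involution of Ω₁(Z(S)) outside Φ(S)
  obtain ⟨z, ⟨hzZ, hz2⟩, hzF⟩ : ∃ z : G, (z ∈ (S : Subgroup G) ⊓ Subgroup.centralizer ((S : Subgroup G) : Set G) ∧ z ^ 2 = 1) ∧
      z ∉ (frattini ↥(S : Subgroup G)).map (S : Subgroup G).subtype := by
    by_contra hall
    push_neg at hall
    apply h2
    unfold Cfsg.omegaOne
    rw [Subgroup.closure_le]
    intro x hx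
    exact hall x hx
  have hzS : z ∈ (S : Subgroup G) := hzZ.1
  have hzC : z ∈ Subgroup.centralizer ((S : Subgroup G) : Set G) := hzZ.2
  have hz1 : z ≠ 1 := by
    intro h
    apply hzF
    rw [h]; exact Subgroup.one_mem _
  have hzo : orderOf z = 2 := orderOf_eq_prime hz2 hz1
  have hzF' : (⟨z, hzS⟩ : (S : Subgroup G)) ∉ frattini ↥(S : Subgroup G) := by
    intro h
    exact hzF ⟨⟨z, hzS⟩, h, rfl⟩
  -- a maximal subgroup avoiding z
  obtain ⟨K, hK, hzK⟩ : ∃ K : Subgroup (S : Subgroup G), IsCoatom K ∧ (⟨z, hzS⟩ : (S : Subgroup G)) ∉ K := by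
    by_contra hall
    push_neg at hall
    apply hzF'
    unfold frattini Order.radical
    simp only [Subgroup.mem_iInf]
    intro K hK
    exact hall K hK
  obtain ⟨hKn, hKi⟩ := Cfsg.Agent.Lib.Helper7_PFrattini.coatom_normal_index S.isPGroup' K hK
  set Q : Subgroup G := K.map (S : Subgroup G).subtype with hQ
  have hQS : Q.subgroupOf (S : Subgroup G) = K := by
    rw [hQ, Subgroup.subgroupOf]
    exact Subgroup.comap_map_eq_self_of_injective (Subgroup.subtype_injective _) K
  have hQi : Q.relIndex (S : Subgroup G) = 2 := by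
    rw [Subgroup.relIndex, hQS, hKi]
  have hzQ : z ∉ Q := by
    rintro ⟨k, hk, hkz⟩
    apply hzK
    have : k = ⟨z, hzS⟩ := Subtype.ext hkz
    rwa [← this]
  have hQle : Q ≤ (S : Subgroup G) := Subgroup.map_subtype_le K
  have hM : ∀ M : Subgroup G, M.Normal → M.index = 2 → z ∈ M := by
    intro M _ hMi
    have : Cfsg.pResidual 2 G ≤ M := by
      unfold Cfsg.pResidual
      rw [Subgroup.closure_le]
      intro g hg
      have hg' : Nat.Coprime (orderOf g) 2 := hg
      have hodd : Odd (orderOf g) := Nat.Coprime.odd_of_right hg'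
      obtain ⟨m, hm⟩ := hodd
      have : g = (g ^ (m + 1)) ^ 2 := by
        rw [← pow_mul]
        have : (m + 1) * 2 = orderOf g + 1 := by omega
        rw [this, pow_succ, pow_orderOf_eq_one, one_mul]
      rw [SetLike.mem_coe, this]
      exact Subgroup.sq_mem_of_index_two hMi _
    rw [h1] at this
    exact this (Subgroup.mem_top z)
  obtain ⟨g, hvQ, T, hTS, hTc, hTmax⟩ := thompson_extremal S Q hQi z hzo hM
  set v := g * z * g⁻¹ with hv
  -- the conjugate of S centralises v
  have hSg : (S : Subgroup G).map (MulAut.conj g).toMonoidHom ≤ Subgroup.centralizer {v} := by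
    rintro _ ⟨s, hs, rfl⟩
    rw [Subgroup.mem_centralizer_iff]
    intro y hy
    rw [Set.mem_singleton_iff] at hy
    rw [hy, hv]
    have h4 := Subgroup.mem_centralizer_iff.mp hzC s hs
    simp only [MulEquiv.coe_toMonoidHom, MulAut.conj_apply]
    calc g * z * g⁻¹ * (g * s * g⁻¹) = g * (z * s) * g⁻¹ := by group
      _ = g * (s * z) * g⁻¹ := by rw [h4]
      _ = g * s * g⁻¹ * (g * z * g⁻¹) := by group
  have hcard1 := hTmax _ (IsPGroup.map S.isPGroup' _) hSg
  rw [Subgroup.card_map_of_injective (MulAut.conj g).injective] at hcard1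
  have hTeq : T = (S : Subgroup G) := Subgroup.eq_of_le_of_card_ge hTS hcard1
  have hvC : v ∈ Subgroup.centralizer ((S : Subgroup G) : Set G) := by
    rw [Subgroup.mem_centralizer_iff]
    intro s hs
    have hs' : s ∈ T := by rw [hTeq]; exact hs
    have := Subgroup.mem_centralizer_iff.mp (hTc hs') v (Set.mem_singleton v)
    exact this.symm
  -- Burnside
  have hv' : (g⁻¹)⁻¹ * z * g⁻¹ ∈ Subgroup.centralizer ((S : Subgroup G) : Set G) := by
    rw [inv_inv]; exact hvC
  obtain ⟨n, hn, hnv⟩ := Sylow.conj_eq_normalizer_conj_of_mem_centralizer S z g⁻¹ hzC hv'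
  rw [inv_inv] at hnv
  have hzΩ : z ∈ Cfsg.omegaOne 2 ((S : Subgroup G) ⊓ Subgroup.centralizer ((S : Subgroup G) : Set G)) :=
    Subgroup.subset_closure ⟨hzZ, hz2⟩
  have h5 := h3 n⁻¹ (Subgroup.inv_mem _ hn) z hzΩ
  rw [inv_inv] at h5
  apply hzQ
  have : v = z := by rw [hv, hnv, h5]
  rw [← this]
  exact hvQ

end Cfsg.Agent.S2872
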