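import Cfsg.Statements.S2873
import Mathlib
import Cfsg.Agent.Lib.Helper5_CharP
import Cfsg.Agent.Lib.Helper5_InvDih
import Cfsg.Agent.Lib.Helper5_Sylow
import Cfsg.Agent.Lib.Helper6_Dihedral

set_option autoImplicit false
open Cfsg

namespace Cfsg.Agent.S2873

open Cfsg.Agent.Lib

/-- Let G be a finite group and r an odd prime such that G ⧸ O₂(G) is dihedral of order 2r, and let R be a Sylow r-subgroup of G with C_{O₂(G)}(R) = 1. Then N_G(R) is dihedral of order 2r; for any involution a of N_G(R), every involution of G outside O₂(G) is conjugate to a; and |C_{O₂(G)}(a)|² = |O₂(G)|. -/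
theorem result {G : Type*} [Group G] [Finite G] {r : ℕ} [Fact r.Prime] (hr : r ≠ 2) [hN : (Cfsg.pCore 2 G).Normal] (hquot : Nonempty (G ⧸ Cfsg.pCore 2 G ≃* DihedralGroup r)) (R : Sylow r G) (hC : Cfsg.pCore 2 G ⊓ Subgroup.centralizer ((R : Subgroup G) : Set G) = ⊥) : Nonempty (↥(Subgroup.normalizer ((R : Subgroup G) : Set G)) ≃* DihedralGroup r) ∧ ∀ a : G, a ∈ Subgroup.normalizer ((R : Subgroup G) : Set G) → orderOf a = 2 → (∀ b : G, orderOf b = 2 → b ∉ Cfsg.pCore 2 G → ∃ g : G, g * a * g⁻¹ = b) ∧ Nat.card ↥(Cfsg.pCore 2 G ⊓ Subgroup.centralizer ({a} : Set G)) ^ 2 = Nat.card ↥(Cfsg.pCore 2 G) := by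
  classical
  have hr' : r.Prime := Fact.out
  have hrodd : Odd r := hr'.eq_two_or_odd'.resolve_left hr
  haveI : NeZero r := ⟨hr'.ne_zero⟩
  haveI : Fact (Nat.Prime 2) := ⟨Nat.prime_two⟩
  set Q : Subgroup G := Cfsg.pCore 2 G with hQdef
  obtain ⟨e⟩ := hquot
  let π : G →* DihedralGroup r := e.toMonoidHom.comp (QuotientGroup.mk' Q)
  have hπsurj : Function.Surjective π := e.surjective.comp (QuotientGroup.mk'_surjective Q)
  have hπker : ∀ g, π g = 1 ↔ g ∈ Q := by
    intro g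
    show e (QuotientGroup.mk' Q g) = 1 ↔ g ∈ Q
    rw [MulEquiv.map_eq_one_iff, QuotientGroup.mk'_apply, QuotientGroup.eq_one_iff]
  have hQ2 : IsPGroup 2 Q := Helper5_CharP.pCore_isPGroup
  have hQconj : ∀ g : G, ∀ q ∈ Q, g * q * g⁻¹ ∈ Q := fun g q hq => hN.conj_mem q hq g
  have hRQ : (R : Subgroup G) ⊓ Q = ⊥ :=
    (IsPGroup.disjoint_of_ne r 2 hr _ _ R.isPGroup' hQ2).eq_bot
  -- π on R
  have hπR : ∀ y ∈ (R : Subgroup G), π y = 1 → y = 1 := by
    intro y hy h1
    have : y ∈ (R : Subgroup G) ⊓ Q := ⟨hy, (hπker y).mp h1⟩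
    rw [hRQ, Subgroup.mem_bot] at this
    exact this
  have hRrot : ∀ y ∈ (R : Subgroup G), ∃ j, π y = DihedralGroup.r j := by
    intro y hy
    rcases hπy : π y with j | j
    · exact ⟨j, rfl⟩
    · exfalso
      obtain ⟨k, hk⟩ := (IsPGroup.iff_orderOf.mp R.isPGroup') ⟨y, hy⟩
      have hk' : orderOf y = r ^ k := by rw [← hk, ← Subgroup.orderOf_coe]
      have hodd : Odd (orderOf y) := by rw [hk']; exact hrodd.pow
      obtain ⟨m, hm⟩ := hodd
      have h1 : (π y) ^ (orderOf y) = 1 := by rw [← map_pow, pow_orderOf_eq_one, map_one]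
      rw [hπy, hm, pow_succ, pow_mul, pow_two, DihedralGroup.sr_mul_self, one_pow, one_mul] at h1
      cases h1
  -- card of R
  have hcardG : Nat.card G = 2 * r * Nat.card Q := by
    rw [← Subgroup.index_mul_card Q, Subgroup.index_eq_card, Nat.card_congr e.toEquiv,
      DihedralGroup.nat_card]
  have hRcard : Nat.card (R : Subgroup G) = r := by
    have hinj : Function.Injective (π.comp (R : Subgroup G).subtype) := by
      rw [injective_iff_map_eq_one]
      intro y hy
      exact Subtype.ext (hπR y y.2 hy)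
    have h1 : Nat.card (R : Subgroup G) ∣ 2 * r := by
      have := Subgroup.card_dvd_of_injective _ hinj
      rwa [DihedralGroup.nat_card] at this
    obtain ⟨k, hk⟩ := IsPGroup.iff_card.mp R.isPGroup'
    have hne : (R : Subgroup G) ≠ ⊥ := by
      apply R.ne_bot_of_dvd_card
      rw [hcardG]
      exact Dvd.dvd.mul_right (Dvd.intro_left 2 rfl) _
    rw [hk] at h1 ⊢
    rcases k with _ | _ | k
    · exfalso
      apply hne
      rw [pow_zero] at hk
      exact Subgroup.card_eq_one.mp hk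
    · simp
    · exfalso
      have h2 : r ^ 2 ∣ 2 * r := dvd_trans (pow_dvd_pow r (by omega)) h1
      rw [pow_two, mul_comm 2 r] at h2
      have h3 : r ∣ 2 := Nat.dvd_of_mul_dvd_mul_left hr'.pos h2
      exact hr ((Nat.prime_dvd_prime_iff_eq hr' Nat.prime_two).mp h3)
  -- a generator of R
  obtain ⟨y, hyR, hy1⟩ : ∃ y ∈ (R : Subgroup G), y ≠ 1 := by
    by_contra hcon
    push Not at hcon
    have : (R : Subgroup G) = ⊥ := by
      rw [Subgroup.eq_bot_iff_forall]; exact hcon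
    rw [this, Subgroup.card_bot] at hRcard
    exact hr'.one_lt.ne hRcard
  have hRy : (R : Subgroup G) = Subgroup.zpowers y := by
    symm
    apply Subgroup.eq_of_le_of_card_ge (Subgroup.zpowers_le.mpr hyR)
    rw [hRcard, Nat.card_zpowers]
    have h1 : orderOf y ∣ r := by
      rw [← hRcard]
      have := orderOf_dvd_natCard (⟨y, hyR⟩ : (R : Subgroup G))
      rwa [Subgroup.orderOf_mk] at this
    rcases (Nat.dvd_prime hr').mp h1 with h | h
    · exact absurd (orderOf_eq_one_iff.mp h) hy1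
    · exact h.ge
  have hgenR : ∀ c ∈ (R : Subgroup G), c ≠ 1 → (R : Subgroup G) = Subgroup.zpowers c := by
    intro c hc hc1
    symm
    apply Subgroup.eq_of_le_of_card_ge (Subgroup.zpowers_le.mpr hc)
    rw [hRcard, Nat.card_zpowers]
    have h1 : orderOf c ∣ r := by
      rw [← hRcard]
      have := orderOf_dvd_natCard (⟨c, hc⟩ : (R : Subgroup G))
      rwa [Subgroup.orderOf_mk] at this
    rcases (Nat.dvd_prime hr').mp h1 with h | h
    · exact absurd (orderOf_eq_one_iff.mp h) hc1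
    · exact h.ge
  obtain ⟨jy, hjy⟩ := hRrot y hyR
  have hjy0 : jy ≠ 0 := by
    rintro rfl
    exact hy1 (hπR y hyR (by rw [hjy]; rfl))
  have h2jy : 2 * jy ≠ 0 := fun h => hjy0 (Helper6_Dihedral.eq_zero_of_two_mul hrodd jy h)
  -- the normalizer
  set N : Subgroup G := Subgroup.normalizer ((R : Subgroup G) : Set G) with hNdef
  have hRN : (R : Subgroup G) ≤ N := Subgroup.le_normalizer
  have hNQ : ∀ g ∈ N, g ∈ Q → g = 1 := by
    intro g hgN hgQ
    have hc : g ∈ Subgroup.centralizer ((R : Subgroup G) : Set G) := by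
      rw [Subgroup.mem_centralizer_iff]
      intro x hx
      have h1 : g * x * g⁻¹ * x⁻¹ ∈ (R : Subgroup G) :=
        mul_mem ((Subgroup.mem_normalizer_iff.mp hgN x).mp hx) (inv_mem hx)
      have h2 : g * x * g⁻¹ * x⁻¹ ∈ Q := by
        have e1 : g * x * g⁻¹ * x⁻¹ = g * (x * g⁻¹ * x⁻¹) := by group
        rw [e1]
        exact mul_mem hgQ (hQconj x _ (inv_mem hgQ))
      have h3 : g * x * g⁻¹ * x⁻¹ ∈ (R : Subgroup G) ⊓ Q := ⟨h1, h2⟩
      rw [hRQ, Subgroup.mem_bot] at h3
      have h4 : g * x * g⁻¹ = x := by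
        have := congrArg (· * x) h3
        simpa using this
      calc x * g = (g * x * g⁻¹) * g := by rw [h4]
        _ = g * x := by group
    have : g ∈ Q ⊓ Subgroup.centralizer ((R : Subgroup G) : Set G) := ⟨hgQ, hc⟩
    rw [hC, Subgroup.mem_bot] at this
    exact this
  have hπNinj : ∀ g ∈ N, ∀ h ∈ N, π g = π h → g = h := by
    intro g hg h hh hgh
    have h1 : π (g⁻¹ * h) = 1 := by rw [map_mul, map_inv, hgh, inv_mul_cancel]
    have h2 := hNQ _ (mul_mem (inv_mem hg) hh) ((hπker _).mp h1)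
    exact inv_mul_eq_one.mp h2
  -- rotations come from R
  have hrotR : ∀ i : ZMod r, ∃ c ∈ (R : Subgroup G), π c = DihedralGroup.r i := by
    intro i
    haveI : Fact r.Prime := ⟨hr'⟩
    refine ⟨y ^ (i * jy⁻¹).val, pow_mem hyR _, ?_⟩
    rw [map_pow, hjy, DihedralGroup.r_pow, ZMod.natCast_val, ZMod.cast_id', id_eq]
    congr 1
    field_simp
  have hπNsurj : ∀ s : DihedralGroup r, ∃ n ∈ N, π n = s := by
    intro s
    haveI : ((Helper5_InvDih.rot r).comap π).Normal := Subgroup.Normal.comap inferInstance π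
    have hRM : (R : Subgroup G) ≤ (Helper5_InvDih.rot r).comap π := by
      intro c hc
      rw [Subgroup.mem_comap]
      exact hRrot c hc
    have hfr := Sylow.normalizer_sup_eq_top' R hRM
    obtain ⟨g, hg⟩ := hπsurj s
    have hg' : g ∈ ((Subgroup.normalizer ((R : Subgroup G) : Set G) ⊔ (Helper5_InvDih.rot r).comap π :
        Subgroup G) : Set G) := by
      have htop : g ∈ (⊤ : Subgroup G) := trivial
      rw [← hfr] at htop
      exact htop
    rw [Subgroup.mul_normal] at hg'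
    obtain ⟨n, hn, m, hm, hnm⟩ := Set.mem_mul.mp hg'
    obtain ⟨i, hi⟩ : ∃ i, π m = DihedralGroup.r i := hm
    obtain ⟨c, hc, hci⟩ := hrotR i
    refine ⟨n * c, mul_mem hn (hRN hc), ?_⟩
    rw [map_mul, hci, ← hi, ← map_mul, hnm, hg]
  have hNQtop : ∀ g : G, ∃ n ∈ N, ∃ q ∈ Q, g = n * q := by
    intro g
    obtain ⟨n, hn, hπn⟩ := hπNsurj (π g)
    refine ⟨n, hn, n⁻¹ * g, ?_, by group⟩
    rw [← hπker, map_mul, map_inv, hπn, inv_mul_cancel]
  -- first claim
  have hfirst : Nonempty (↥N ≃* DihedralGroup r) := by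
    refine ⟨MulEquiv.ofBijective (π.comp N.subtype) ⟨?_, ?_⟩⟩
    · intro g h hgh
      exact Subtype.ext (hπNinj g g.2 h h.2 hgh)
    · intro s
      obtain ⟨n, hn, hs⟩ := hπNsurj s
      exact ⟨⟨n, hn⟩, hs⟩
  -- involutions outside Q map to reflections
  have hinvπ : ∀ t : G, orderOf t = 2 → t ∉ Q → ∃ i, π t = DihedralGroup.sr i := by
    intro t ht htQ
    rcases hπt : π t with j | j
    · exfalso
      have h1 : (π t) ^ 2 = 1 := by rw [← map_pow, ← ht, pow_orderOf_eq_one, map_one]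
      rw [hπt, DihedralGroup.r_pow, DihedralGroup.one_def] at h1
      have h2 : j * ((2 : ℕ) : ZMod r) = 0 := by injection h1
      have h3 : 2 * j = 0 := by rw [← h2]; push_cast; ring
      have h4 := Helper6_Dihedral.eq_zero_of_two_mul hrodd j h3
      apply htQ
      rw [← hπker, hπt, h4]; rfl
    · exact ⟨j, rfl⟩
  have hinv_sq : ∀ t : G, orderOf t = 2 → t * t = 1 ∧ t⁻¹ = t ∧ t ≠ 1 := by
    intro t ht
    have h1 : t * t = 1 := by rw [← pow_two, ← ht, pow_orderOf_eq_one]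
    refine ⟨h1, inv_eq_of_mul_eq_one_right h1, ?_⟩
    rintro rfl
    rw [orderOf_one] at ht
    exact absurd ht (by norm_num)
  -- K1: the product of two involutions over distinct reflections has order r
  have hK1 : ∀ a' b' : G, orderOf a' = 2 → orderOf b' = 2 → a' ∉ Q → b' ∉ Q → π a' ≠ π b' →
      (a' * b') ^ r = 1 ∧ a' * b' ≠ 1 := by
    intro a' b' ha' hb' haQ hbQ hne
    obtain ⟨i, hi⟩ := hinvπ a' ha' haQ
    obtain ⟨j, hj⟩ := hinvπ b' hb' hbQ
    have hij : j - i ≠ 0 := by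
      intro h
      apply hne
      rw [hi, hj, sub_eq_zero.mp h]
    have hπc : π (a' * b') = DihedralGroup.r (j - i) := by
      rw [map_mul, hi, hj, DihedralGroup.sr_mul_sr]
    have hc1 : a' * b' ≠ 1 := by
      intro h
      rw [h, map_one, DihedralGroup.one_def] at hπc
      have : (0 : ZMod r) = j - i := by injection hπc
      exact hij this.symm
    refine ⟨?_, hc1⟩
    set c := a' * b' with hcdef
    have hcrQ : c ^ r ∈ Q := by
      rw [← hπker, map_pow, hπc, DihedralGroup.r_pow, ZMod.natCast_self, mul_zero]; rfl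
    obtain ⟨k, hk⟩ := (IsPGroup.iff_orderOf.mp hQ2) ⟨c ^ r, hcrQ⟩
    have hk' : (c ^ r) ^ (2 ^ k) = 1 := by
      have h1 : orderOf (c ^ r) = 2 ^ k := by rw [← hk, ← Subgroup.orderOf_coe]
      rw [← h1, pow_orderOf_eq_one]
    -- d = c^(2^k) has order r
    set d := c ^ (2 ^ k) with hddef
    have hdr : d ^ r = 1 := by
      rw [hddef, ← pow_mul, mul_comm, pow_mul, hk']
    have hπd : π d = DihedralGroup.r ((j - i) * ((2 ^ k : ℕ) : ZMod r)) := by
      rw [hddef, map_pow, hπc, DihedralGroup.r_pow]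
    have hd1 : d ≠ 1 := by
      intro h
      rw [h, map_one, DihedralGroup.one_def] at hπd
      have h0 : (0 : ZMod r) = (j - i) * ((2 ^ k : ℕ) : ZMod r) := by injection hπd
      haveI : Fact r.Prime := ⟨hr'⟩
      rcases mul_eq_zero.mp h0.symm with h1 | h1
      · exact hij h1
      · rw [ZMod.natCast_eq_zero_iff] at h1
        have h2 : r ∣ 2 := hr'.dvd_of_dvd_pow h1
        exact hr ((Nat.prime_dvd_prime_iff_eq hr' Nat.prime_two).mp h2)
    have hdo : orderOf d = r := orderOf_eq_prime hdr hd1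
    have hdp : IsPGroup r (Subgroup.zpowers d) := by
      apply IsPGroup.of_card (n := 1)
      rw [Nat.card_zpowers, hdo, pow_one]
    obtain ⟨g, hg⟩ := Helper5_Sylow.exists_conj_le_sylow hdp R
    have hgd : g * d * g⁻¹ ∈ (R : Subgroup G) := hg ⟨d, Subgroup.mem_zpowers d, rfl⟩
    have hgd1 : g * d * g⁻¹ ≠ 1 := by
      intro h
      apply hd1
      have := congrArg (fun z => g⁻¹ * z * g) h
      simpa [mul_assoc] using this
    have hRgd := hgenR _ hgd hgd1
    -- c^r commutes with d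
    have hcomm : g * c ^ r * g⁻¹ ∈ Q ⊓ Subgroup.centralizer ((R : Subgroup G) : Set G) := by
      rw [Subgroup.mem_inf]
      refine ⟨hQconj g _ hcrQ, ?_⟩
      rw [hRgd, Subgroup.mem_centralizer_iff]
      intro x hx
      obtain ⟨n, rfl⟩ := Subgroup.mem_zpowers_iff.mp hx
      have h1 : Commute (c ^ r) d := by
        rw [hddef]; exact (Commute.refl c).pow_pow r (2 ^ k)
      have h2 : Commute (g * c ^ r * g⁻¹) (g * d * g⁻¹) := by
        have := h1.eq
        show g * c ^ r * g⁻¹ * (g * d * g⁻¹) = g * d * g⁻¹ * (g * c ^ r * g⁻¹)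
        calc g * c ^ r * g⁻¹ * (g * d * g⁻¹) = g * (c ^ r * d) * g⁻¹ := by group
          _ = g * (d * c ^ r) * g⁻¹ := by rw [this]
          _ = g * d * g⁻¹ * (g * c ^ r * g⁻¹) := by group
      exact ((h2.zpow_right n).eq).symm
    rw [hC, Subgroup.mem_bot] at hcomm
    have := congrArg (fun z => g⁻¹ * z * g) hcomm
    simpa [mul_assoc] using this
  -- K2: conjugacy
  have hK2 : ∀ a' b' : G, orderOf a' = 2 → orderOf b' = 2 → (a' * b') ^ r = 1 →
      ∃ g : G, g * a' * g⁻¹ = b' := by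
    intro a' b' ha' hb' hcr
    obtain ⟨ha1, ha2, -⟩ := hinv_sq a' ha'
    obtain ⟨hb1, hb2, -⟩ := hinv_sq b' hb'
    obtain ⟨m, hm⟩ := hrodd
    set c := a' * b' with hcdef
    have hac : a' * c * a'⁻¹ = c⁻¹ := by
      rw [hcdef, ha2, mul_inv_rev, ha2, hb2]
      calc a' * (a' * b') * a' = (a' * a') * b' * a' := by group
        _ = b' * a' := by rw [ha1, one_mul]
    have hacm : a' * c ^ m * a'⁻¹ = (c ^ m)⁻¹ := by
      rw [← conj_pow, hac, inv_pow]
    refine ⟨c ^ m, ?_⟩
    have h1 : a' * (c ^ m)⁻¹ = c ^ m * a' := by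
      have : a' * (c ^ m)⁻¹ * a'⁻¹ = c ^ m := by
        have e1 : a' * (c ^ m)⁻¹ * a'⁻¹ = (a' * c ^ m * a'⁻¹)⁻¹ := by group
        rw [e1, hacm, inv_inv]
      calc a' * (c ^ m)⁻¹ = (a' * (c ^ m)⁻¹ * a'⁻¹) * a' := by group
        _ = c ^ m * a' := by rw [this]
    have h2 : c ^ m * c ^ m * c = 1 := by
      rw [← pow_add, ← pow_succ, ← two_mul, ← hm]; exact hcr
    calc c ^ m * a' * (c ^ m)⁻¹ = c ^ m * (a' * (c ^ m)⁻¹) := by group
      _ = c ^ m * (c ^ m * a') := by rw [h1]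
      _ = (c ^ m * c ^ m * c) * (c⁻¹ * a') := by group
      _ = c⁻¹ * a' := by rw [h2, one_mul]
      _ = b' := by rw [hcdef, mul_inv_rev, ha2, hb2, mul_assoc, ha1, mul_one]
  refine ⟨hfirst, ?_⟩
  intro a haN ha
  obtain ⟨ha1, ha2, hane1⟩ := hinv_sq a ha
  have haQ : a ∉ Q := fun h => hane1 (hNQ a haN h)
  obtain ⟨ia, hia⟩ := hinvπ a ha haQ
  -- the second involution b₀ = y a y⁻¹
  have hb₀o : orderOf (y * a * y⁻¹) = 2 := by
    rw [← ha]
    exact orderOf_injective (MulAut.conj y).toMonoidHom (MulAut.conj y).injective a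
  have hb₀N : y * a * y⁻¹ ∈ N := mul_mem (mul_mem (hRN hyR) haN) (inv_mem (hRN hyR))
  have hb₀Q : y * a * y⁻¹ ∉ Q := by
    intro h
    apply haQ
    have := hQconj y⁻¹ _ h
    simpa [mul_assoc] using this
  have hπb₀ : π (y * a * y⁻¹) = DihedralGroup.sr (ia - 2 * jy) := by
    rw [map_mul, map_mul, map_inv, hjy, hia, DihedralGroup.inv_r, DihedralGroup.r_mul_sr,
      DihedralGroup.sr_mul_r]
    congr 1; ring
  have hπne : π a ≠ π (y * a * y⁻¹) := by
    rw [hia, hπb₀]
    intro h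
    have h1 : ia = ia - 2 * jy := by injection h
    apply h2jy
    have : ia - (ia - 2 * jy) = 0 := by rw [← h1]; ring
    rw [← this]; ring
  constructor
  · -- conjugacy of involutions
    intro b hb hbQ
    by_cases hab : π a = π b
    · have hne' : π (y * a * y⁻¹) ≠ π b := by rw [← hab]; exact fun h => hπne h.symm
      obtain ⟨hcr, -⟩ := hK1 _ b hb₀o hb hb₀Q hbQ hne'
      obtain ⟨g, hg⟩ := hK2 _ b hb₀o hb hcr
      refine ⟨g * y, ?_⟩
      rw [← hg]; group
    · obtain ⟨hcr, -⟩ := hK1 a b ha hb haQ hbQ hab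
      exact hK2 a b ha hb hcr
  · -- the centralizer
    set b₀ := y * a * y⁻¹ with hb₀def
    obtain ⟨hb1, hb2, hbne1⟩ := hinv_sq b₀ hb₀o
    -- key transitivity
    have hkey : ∀ a' b' : G, orderOf a' = 2 → orderOf b' = 2 → a' ∉ Q → b' ∉ Q → π a' = π a →
        π b' = π b₀ → ∃ q ∈ Q, q * a * q⁻¹ = a' ∧ q * b₀ * q⁻¹ = b' := by
      intro a' b' ha' hb' haQ' hbQ' hπa' hπb'
      have hne' : π a' ≠ π b' := by rw [hπa', hπb']; exact hπne
      obtain ⟨hcr, hc1⟩ := hK1 a' b' ha' hb' haQ' hbQ' hne'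
      obtain ⟨ha1', ha2', -⟩ := hinv_sq a' ha'
      obtain ⟨hb1', hb2', -⟩ := hinv_sq b' hb'
      have hco : orderOf (a' * b') = r := orderOf_eq_prime hcr hc1
      have hcp : IsPGroup r (Subgroup.zpowers (a' * b')) := by
        apply IsPGroup.of_card (n := 1)
        rw [Nat.card_zpowers, hco, pow_one]
      obtain ⟨g, hg⟩ := Helper5_Sylow.exists_conj_le_sylow hcp R
      have hgc : g * (a' * b') * g⁻¹ ∈ (R : Subgroup G) := hg ⟨_, Subgroup.mem_zpowers _, rfl⟩
      have hgc1 : g * (a' * b') * g⁻¹ ≠ 1 := by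
        intro h
        apply hc1
        have := congrArg (fun z => g⁻¹ * z * g) h
        simpa [mul_assoc] using this
      have hRgc := hgenR _ hgc hgc1
      -- g a' g⁻¹ and g b' g⁻¹ normalize R
      have hnorm : ∀ t : G, t * (a' * b') * t⁻¹ = (a' * b')⁻¹ → g * t * g⁻¹ ∈ N := by
        intro t ht
        rw [hNdef, hRgc, Subgroup.mem_normalizer_iff_map_conj_eq, MonoidHom.map_zpowers]
        have e1 : (MulAut.conj (g * t * g⁻¹)).toMonoidHom (g * (a' * b') * g⁻¹) =
            (g * (a' * b') * g⁻¹)⁻¹ := by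
          show g * t * g⁻¹ * (g * (a' * b') * g⁻¹) * (g * t * g⁻¹)⁻¹ = _
          calc g * t * g⁻¹ * (g * (a' * b') * g⁻¹) * (g * t * g⁻¹)⁻¹
              = g * (t * (a' * b') * t⁻¹) * g⁻¹ := by group
            _ = (g * (a' * b') * g⁻¹)⁻¹ := by rw [ht]; group
        show Subgroup.zpowers ((MulAut.conj (g * t * g⁻¹)).toMonoidHom (g * (a' * b') * g⁻¹)) = _
        rw [e1, Subgroup.zpowers_inv]
      have hta : a' * (a' * b') * a'⁻¹ = (a' * b')⁻¹ := by
        rw [ha2', mul_inv_rev, ha2', hb2']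
        calc a' * (a' * b') * a' = (a' * a') * b' * a' := by group
          _ = b' * a' := by rw [ha1', one_mul]
      have htb : b' * (a' * b') * b'⁻¹ = (a' * b')⁻¹ := by
        rw [hb2', mul_inv_rev, ha2', hb2']
        calc b' * (a' * b') * b' = b' * a' * (b' * b') := by group
          _ = b' * a' := by rw [hb1', mul_one]
      have hgaN := hnorm a' hta
      have hgbN := hnorm b' htb
      obtain ⟨n, hn, q', hq', hgnq⟩ := hNQtop g
      -- q' a' q'⁻¹ ∈ N
      have hqa : q' * a' * q'⁻¹ ∈ N := by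
        have e1 : q' * a' * q'⁻¹ = n⁻¹ * (g * a' * g⁻¹) * n := by rw [hgnq]; group
        rw [e1]
        exact mul_mem (mul_mem (inv_mem hn) hgaN) hn
      have hqb : q' * b' * q'⁻¹ ∈ N := by
        have e1 : q' * b' * q'⁻¹ = n⁻¹ * (g * b' * g⁻¹) * n := by rw [hgnq]; group
        rw [e1]
        exact mul_mem (mul_mem (inv_mem hn) hgbN) hn
      have hπq' : π q' = 1 := (hπker q').mpr hq'
      have hqa' : q' * a' * q'⁻¹ = a := by
        apply hπNinj _ hqa _ haN
        rw [map_mul, map_mul, map_inv, hπq', one_mul, inv_one, mul_one, hπa']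
      have hqb' : q' * b' * q'⁻¹ = b₀ := by
        apply hπNinj _ hqb _ hb₀N
        rw [map_mul, map_mul, map_inv, hπq', one_mul, inv_one, mul_one, hπb']
      refine ⟨q'⁻¹, inv_mem hq', ?_, ?_⟩
      · rw [← hqa']; group
      · rw [← hqb']; group
    -- factorization
    set Ca : Subgroup G := Q ⊓ Subgroup.centralizer ({a} : Set G) with hCa
    set Cb : Subgroup G := Q ⊓ Subgroup.centralizer ({b₀} : Set G) with hCb
    have hmemCa : ∀ u : G, u ∈ Ca ↔ u ∈ Q ∧ u * a = a * u := by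
      intro u
      rw [hCa, Subgroup.mem_inf, Subgroup.mem_centralizer_iff]
      constructor
      · rintro ⟨h1, h2⟩
        exact ⟨h1, (h2 a rfl).symm⟩
      · rintro ⟨h1, h2⟩
        refine ⟨h1, ?_⟩
        intro x hx
        rw [Set.mem_singleton_iff] at hx
        rw [hx]; exact h2.symm
    have hmemCb : ∀ u : G, u ∈ Cb ↔ u ∈ Q ∧ u * b₀ = b₀ * u := by
      intro u
      rw [hCb, Subgroup.mem_inf, Subgroup.mem_centralizer_iff]
      constructor
      · rintro ⟨h1, h2⟩
        exact ⟨h1, (h2 b₀ rfl).symm⟩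
      · rintro ⟨h1, h2⟩
        refine ⟨h1, ?_⟩
        intro x hx
        rw [Set.mem_singleton_iff] at hx
        rw [hx]; exact h2.symm
    have hab₀R : a * b₀ ∈ (R : Subgroup G) := by
      have e1 : a * b₀ = (a * y * a⁻¹) * y⁻¹ := by rw [hb₀def, ha2]; group
      rw [e1]
      exact mul_mem ((Subgroup.mem_normalizer_iff.mp haN y).mp hyR) (inv_mem hyR)
    have hab₀1 : a * b₀ ≠ 1 := (hK1 a b₀ ha hb₀o haQ hb₀Q hπne).2
    have hRab := hgenR _ hab₀R hab₀1
    have hinter : ∀ u : G, u ∈ Ca → u ∈ Cb → u = 1 := by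
      intro u hua hub
      obtain ⟨huQ, hua'⟩ := (hmemCa u).mp hua
      obtain ⟨-, hub'⟩ := (hmemCb u).mp hub
      have : u ∈ Q ⊓ Subgroup.centralizer ((R : Subgroup G) : Set G) := by
        rw [Subgroup.mem_inf]
        refine ⟨huQ, ?_⟩
        rw [hRab, Subgroup.mem_centralizer_iff]
        intro x hx
        obtain ⟨n, rfl⟩ := Subgroup.mem_zpowers_iff.mp hx
        have h1 : Commute u (a * b₀) := by
          show u * (a * b₀) = a * b₀ * u
          calc u * (a * b₀) = (u * a) * b₀ := by group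
            _ = (a * u) * b₀ := by rw [hua']
            _ = a * (u * b₀) := by group
            _ = a * (b₀ * u) := by rw [hub']
            _ = a * b₀ * u := by group
        exact ((h1.zpow_right n).eq).symm
      rw [hC, Subgroup.mem_bot] at this
      exact this
    have hfact : ∀ q ∈ Q, ∃ u ∈ Ca, ∃ v ∈ Cb, q = u * v := by
      intro q hq
      have hb'o : orderOf (q * b₀ * q⁻¹) = 2 := by
        rw [← hb₀o]; exact orderOf_injective (MulAut.conj q).toMonoidHom (MulAut.conj q).injective b₀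
      have hb'Q : q * b₀ * q⁻¹ ∉ Q := by
        intro h
        apply hb₀Q
        have := hQconj q⁻¹ _ h
        simpa [mul_assoc] using this
      have hπq : π q = 1 := (hπker q).mpr hq
      have hπb' : π (q * b₀ * q⁻¹) = π b₀ := by
        rw [map_mul, map_mul, map_inv, hπq, one_mul, inv_one, mul_one]
      obtain ⟨q₁, hq₁, h1, h2⟩ := hkey a (q * b₀ * q⁻¹) ha hb'o haQ hb'Q rfl hπb'
      refine ⟨q₁, (hmemCa q₁).mpr ⟨hq₁, ?_⟩, q₁⁻¹ * q, (hmemCb _).mpr ⟨mul_mem (inv_mem hq₁) hq, ?_⟩,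
        by group⟩
      · calc q₁ * a = (q₁ * a * q₁⁻¹) * q₁ := by group
          _ = a * q₁ := by rw [h1]
      · have h3 : q₁⁻¹ * q * b₀ * (q₁⁻¹ * q)⁻¹ = b₀ := by
          calc q₁⁻¹ * q * b₀ * (q₁⁻¹ * q)⁻¹ = q₁⁻¹ * (q * b₀ * q⁻¹) * q₁ := by group
            _ = q₁⁻¹ * (q₁ * b₀ * q₁⁻¹) * q₁ := by rw [h2]
            _ = b₀ := by group
        calc q₁⁻¹ * q * b₀ = (q₁⁻¹ * q * b₀ * (q₁⁻¹ * q)⁻¹) * (q₁⁻¹ * q) := by group
          _ = b₀ * (q₁⁻¹ * q) := by rw [h3]
    -- cardinalities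
    have hCaQ : Ca ≤ Q := inf_le_left
    have hCbQ : Cb ≤ Q := inf_le_left
    have hbij : Function.Bijective (fun uv : ↥Ca × ↥Cb =>
        (⟨(uv.1 : G) * (uv.2 : G), mul_mem (hCaQ uv.1.2) (hCbQ uv.2.2)⟩ : ↥Q)) := by
      constructor
      · rintro ⟨u, v⟩ ⟨u', v'⟩ h
        have h1 : (u : G) * (v : G) = (u' : G) * (v' : G) := congrArg Subtype.val h
        have h2 : (u' : G)⁻¹ * (u : G) = (v' : G) * (v : G)⁻¹ := by
          calc (u' : G)⁻¹ * (u : G) = (u' : G)⁻¹ * ((u : G) * (v : G)) * (v : G)⁻¹ := by group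
            _ = (u' : G)⁻¹ * ((u' : G) * (v' : G)) * (v : G)⁻¹ := by rw [h1]
            _ = (v' : G) * (v : G)⁻¹ := by group
        have h3 : (u' : G)⁻¹ * (u : G) = 1 :=
          hinter _ (mul_mem (inv_mem u'.2) u.2) (by rw [h2]; exact mul_mem v'.2 (inv_mem v.2))
        have h4 : (v' : G) * (v : G)⁻¹ = 1 := by rw [← h2, h3]
        have hu : u = u' := Subtype.ext (inv_mul_eq_one.mp h3).symm
        have hv : v = v' := Subtype.ext (mul_inv_eq_one.mp h4).symm
        rw [hu, hv]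
      · rintro ⟨q, hq⟩
        obtain ⟨u, hu, v, hv, rfl⟩ := hfact q hq
        exact ⟨(⟨u, hu⟩, ⟨v, hv⟩), rfl⟩
    have hcard1 : Nat.card ↥Ca * Nat.card ↥Cb = Nat.card ↥Q := by
      rw [← Nat.card_prod]
      exact Nat.card_congr (Equiv.ofBijective _ hbij)
    have hcard2 : Nat.card ↥Cb = Nat.card ↥Ca := by
      have hmapeq : Cb = Ca.map (MulAut.conj y).toMonoidHom := by
        ext u
        rw [hmemCb, Subgroup.mem_map]
        constructor
        · rintro ⟨huQ, hub⟩
          refine ⟨y⁻¹ * u * y, (hmemCa _).mpr ⟨?_, ?_⟩, ?_⟩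
          · have := hQconj y⁻¹ u huQ
            simpa using this
          · have h5 : u * (y * a * y⁻¹) = (y * a * y⁻¹) * u := hub
            calc y⁻¹ * u * y * a = y⁻¹ * (u * (y * a * y⁻¹)) * y := by group
              _ = y⁻¹ * ((y * a * y⁻¹) * u) * y := by rw [h5]
              _ = a * (y⁻¹ * u * y) := by group
          · show y * (y⁻¹ * u * y) * y⁻¹ = u
            group
        · rintro ⟨w, hw, rfl⟩
          obtain ⟨hwQ, hwa⟩ := (hmemCa w).mp hw
          refine ⟨hQconj y w hwQ, ?_⟩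
          show y * w * y⁻¹ * (y * a * y⁻¹) = (y * a * y⁻¹) * (y * w * y⁻¹)
          calc y * w * y⁻¹ * (y * a * y⁻¹) = y * (w * a) * y⁻¹ := by group
            _ = y * (a * w) * y⁻¹ := by rw [hwa]
            _ = (y * a * y⁻¹) * (y * w * y⁻¹) := by group
      rw [hmapeq]
      exact Subgroup.card_map_of_injective (MulAut.conj y).injective
    rw [pow_two, ← hcard1, hcard2]

end Cfsg.Agent.S2873
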