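import Mathlib
import Cfsg.Statements.S2880
import Cfsg.Agent.Lib.Helper7_PFrattini

set_option autoImplicit false
open Cfsg

namespace Cfsg.Agent.S2880

section general

variable {E : Type*} [Group E]

/-- the commutator homomorphism `b ↦ b x b⁻¹ x⁻¹` on a subgroup, when commutators are central -/
def kappa (hc : ∀ x y : E, x * y * x⁻¹ * y⁻¹ ∈ Subgroup.center E) (B : Subgroup E) (x : E) :
    B →* Subgroup.center E where
  toFun b := ⟨(b : E) * x * (b : E)⁻¹ * x⁻¹, hc b x⟩
  map_one' := by apply Subtype.ext; simp
  map_mul' b₁ b₂ := by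
    apply Subtype.ext
    simp only [Subgroup.coe_mul]
    have h2 := hc (b₂ : E) x
    rw [Subgroup.mem_center_iff] at h2
    have h3 := h2 (b₁ : E)
    have h4 := h2 ((b₁ : E) * x * (b₁ : E)⁻¹ * x⁻¹)
    calc (b₁ : E) * b₂ * x * ((b₁ : E) * b₂)⁻¹ * x⁻¹
        = (b₁ : E) * ((b₂ : E) * x * (b₂ : E)⁻¹ * x⁻¹) * x * (b₁ : E)⁻¹ * x⁻¹ := by group
      _ = ((b₂ : E) * x * (b₂ : E)⁻¹ * x⁻¹) * b₁ * x * (b₁ : E)⁻¹ * x⁻¹ := by rw [h3]
      _ = ((b₂ : E) * x * (b₂ : E)⁻¹ * x⁻¹) * ((b₁ : E) * x * (b₁ : E)⁻¹ * x⁻¹) := by group
      _ = ((b₁ : E) * x * (b₁ : E)⁻¹ * x⁻¹) * ((b₂ : E) * x * (b₂ : E)⁻¹ * x⁻¹) := h4.symm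

theorem kappa_eq_one_iff (hc : ∀ x y : E, x * y * x⁻¹ * y⁻¹ ∈ Subgroup.center E) (B : Subgroup E)
    (x : E) (b : B) : kappa hc B x b = 1 ↔ (b : E) * x = x * b := by
  constructor
  · intro h
    have h1 : (b : E) * x * (b : E)⁻¹ * x⁻¹ = 1 := congrArg Subtype.val h
    have h2 : (b : E) * x * (b : E)⁻¹ = x := mul_inv_eq_one.mp h1
    exact mul_inv_eq_iff_eq_mul.mp h2
  · intro h
    apply Subtype.ext
    show (b : E) * x * (b : E)⁻¹ * x⁻¹ = 1
    rw [h]
    group

/-- a subgroup either centralizes `x`, or exactly half of it does -/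
theorem half [Finite E] (hc : ∀ x y : E, x * y * x⁻¹ * y⁻¹ ∈ Subgroup.center E)
    (hZ : Nat.card (Subgroup.center E) = 2) (B : Subgroup E) (x : E) :
    (∀ b ∈ B, b * x = x * b) ∨ 2 * Nat.card {b : E // b ∈ B ∧ b * x = x * b} = Nat.card B := by
  have hker : Nat.card (kappa hc B x).ker = Nat.card {b : E // b ∈ B ∧ b * x = x * b} := by
    apply Nat.card_congr
    exact
      { toFun := fun k => ⟨k.1.1, k.1.2, (kappa_eq_one_iff hc B x k.1).mp k.2⟩
        invFun := fun s => ⟨⟨s.1, s.2.1⟩, (kappa_eq_one_iff hc B x ⟨s.1, s.2.1⟩).mpr s.2.2⟩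
        left_inv := fun k => rfl
        right_inv := fun s => rfl }
  have h1 : Nat.card (kappa hc B x).ker * Nat.card (kappa hc B x).range = Nat.card B := by
    rw [← Subgroup.index_ker, Subgroup.card_mul_index]
  have h2 : Nat.card (kappa hc B x).range ∣ 2 := hZ ▸ Subgroup.card_subgroup_dvd_card _
  rcases (Nat.dvd_prime Nat.prime_two).mp h2 with h | h
  · left
    intro b hb
    have hr : (kappa hc B x).range = ⊥ := Subgroup.card_eq_one.mp h
    have h3 : kappa hc B x ⟨b, hb⟩ ∈ (kappa hc B x).range := ⟨_, rfl⟩
    rw [hr, Subgroup.mem_bot] at h3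
    exact (kappa_eq_one_iff hc B x ⟨b, hb⟩).mp h3
  · right
    rw [← hker, ← h1, h]
    ring

end general

/-- Let E be an extraspecial 2-group of order 2^(2m+1) of plus type, that is, containing an elementary abelian subgroup of order 2^(m+1) (equivalently, a central product of m dihedral groups of order 8). Then E has exactly 2^(2m) − 2^m elements of order 4. -/
theorem result {E : Type*} [Group E] [Finite E] (m : ℕ) (hm : 1 ≤ m) (hE : Cfsg.IsExtraspecial 2 E) (hcard : Nat.card E = 2 ^ (2 * m + 1)) (hplus : ∃ A : Subgroup E, Cfsg.IsElementaryAbelian 2 A ∧ Nat.card A = 2 ^ (m + 1)) : Nat.card {x : E // orderOf x = 4} = 2 ^ (2 * m) - 2 ^ m := by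
  classical
  haveI := Fintype.ofFinite E
  obtain ⟨A, ⟨hAcomm, hAexp⟩, hAcard⟩ := hplus
  obtain ⟨⟨hP, hfr, hcm⟩, hZ⟩ := hE
  haveI : Fact (Nat.Prime 2) := ⟨Nat.prime_two⟩
  -- basic facts
  have hc : ∀ x y : E, x * y * x⁻¹ * y⁻¹ ∈ Subgroup.center E := by
    intro x y
    rw [← hcm]
    exact Subgroup.commutator_mem_commutator (Subgroup.mem_top x) (Subgroup.mem_top y)
  have hsq : ∀ x : E, x ^ 2 ∈ Subgroup.center E := by
    intro x
    rw [← hfr]
    exact Cfsg.Agent.Lib.Helper7_PFrattini.pow_mem_frattini hP x
  have hZsq : ∀ c ∈ Subgroup.center E, c ^ 2 = 1 := by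
    intro c hcz
    have h1 : (⟨c, hcz⟩ : Subgroup.center E) ^ 2 = 1 := by
      rw [← hZ]; exact pow_card_eq_one'
    exact congrArg Subtype.val h1
  -- the nontrivial central element
  obtain ⟨z, hzZ, hz1, hzall⟩ : ∃ z ∈ Subgroup.center E, z ≠ 1 ∧
      ∀ c ∈ Subgroup.center E, c = 1 ∨ c = z := by
    have h1 : Nat.card (Subgroup.center E) = 2 := hZ
    rw [Nat.card_eq_two_iff] at h1
    obtain ⟨u, v, huv, huniv⟩ := h1
    have h1mem : (1 : Subgroup.center E) ∈ ({u, v} : Set (Subgroup.center E)) := by
      rw [huniv]; trivial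
    rcases h1mem with h | h
    · refine ⟨v, v.2, ?_, ?_⟩
      · intro hv
        apply huv
        rw [← h]
        exact Subtype.ext hv.symm
      · intro c hcz
        have hm : (⟨c, hcz⟩ : Subgroup.center E) ∈ ({u, v} : Set (Subgroup.center E)) := by
          rw [huniv]; trivial
        rcases hm with h' | h'
        · left
          have h2 := congrArg Subtype.val (h'.trans h.symm)
          exact h2
        · right
          exact congrArg Subtype.val h'
    · have h' : (1 : Subgroup.center E) = v := h
      refine ⟨u, u.2, ?_, ?_⟩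
      · intro hu
        apply huv
        rw [← h']
        exact Subtype.ext hu
      · intro c hcz
        have hm : (⟨c, hcz⟩ : Subgroup.center E) ∈ ({u, v} : Set (Subgroup.center E)) := by
          rw [huniv]; trivial
        rcases hm with h'' | h''
        · right
          exact congrArg Subtype.val h''
        · left
          have h2 := congrArg Subtype.val (h''.trans h'.symm)
          exact h2
  -- the half lemma in finset form
  have key : ∀ (B : Subgroup E) (x : E), (∀ b ∈ B, b * x = x * b) ∨
      2 * (Finset.univ.filter (fun b : E => b ∈ B ∧ b * x = x * b)).card = Nat.card B := by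
    intro B x
    rcases half hc hZ B x with h | h
    · exact Or.inl h
    · right
      rw [← h, Nat.card_eq_fintype_card, Fintype.card_subtype]
  have hcardB : ∀ B : Subgroup E, (Finset.univ.filter (fun b : E => b ∈ B)).card = Nat.card B := by
    intro B
    rw [Nat.card_eq_fintype_card, Fintype.card_subtype]
  have hcardE : (Finset.univ : Finset E).card = Nat.card E := by
    rw [Finset.card_univ, Nat.card_eq_fintype_card]
  set Af : Finset E := Finset.univ.filter (fun b : E => b ∈ A) with hAf
  -- commuting in `A`
  have hAab : ∀ a ∈ A, ∀ b ∈ A, a * b = b * a := by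
    intro a ha b hb
    have h1 := hAcomm.is_comm.comm (⟨a, ha⟩ : A) ⟨b, hb⟩
    exact congrArg Subtype.val h1
  -- first double counting
  have dc1 : ∑ b ∈ Af, (Finset.univ.filter (fun x : E => b * x = x * b)).card =
      ∑ x : E, (Finset.univ.filter (fun b : E => b ∈ A ∧ b * x = x * b)).card := by
    simp only [Finset.card_filter]
    rw [Finset.sum_comm]
    refine Finset.sum_congr rfl fun x _ => ?_
    rw [hAf, Finset.sum_filter]
    refine Finset.sum_congr rfl fun b _ => ?_
    by_cases hb : b ∈ A <;> simp [hb]
  have hL : ∀ b : E, 2 * (Finset.univ.filter (fun x : E => b * x = x * b)).card =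
      Nat.card E + (if b ∈ Subgroup.center E then Nat.card E else 0) := by
    intro b
    by_cases hb : b ∈ Subgroup.center E
    · rw [if_pos hb]
      have h1 : Finset.univ.filter (fun x : E => b * x = x * b) = Finset.univ := by
        ext y
        simp only [Finset.mem_filter, Finset.mem_univ, true_and, iff_true]
        exact ((Subgroup.mem_center_iff.mp hb) y).symm
      rw [h1, hcardE]; ring
    · rw [if_neg hb, add_zero]
      have h1 : Finset.univ.filter (fun x : E => b * x = x * b) =
          Finset.univ.filter (fun y : E => y ∈ (⊤ : Subgroup E) ∧ y * b = b * y) := by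
        ext y
        simp only [Finset.mem_filter, Finset.mem_univ, true_and, Subgroup.mem_top]
        exact eq_comm
      rw [h1]
      rcases key ⊤ b with h | h
      · exfalso
        apply hb
        rw [Subgroup.mem_center_iff]
        intro g
        exact h g (Subgroup.mem_top g)
      · rw [h, Subgroup.card_top]
  set C : Subgroup E := Subgroup.centralizer (A : Set E) with hC
  have hR : ∀ x : E, 2 * (Finset.univ.filter (fun b : E => b ∈ A ∧ b * x = x * b)).card =
      Nat.card A + (if x ∈ C then Nat.card A else 0) := by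
    intro x
    by_cases hx : x ∈ C
    · rw [if_pos hx]
      have h1 : Finset.univ.filter (fun b : E => b ∈ A ∧ b * x = x * b) = Af := by
        ext b
        simp only [hAf, Finset.mem_filter, Finset.mem_univ, true_and]
        constructor
        · exact fun h => h.1
        · intro hb
          exact ⟨hb, Subgroup.mem_centralizer_iff.mp hx b hb⟩
      rw [h1, hcardB A]; ring
    · rw [if_neg hx, add_zero]
      rcases key A x with h | h
      · exfalso
        apply hx
        rw [hC, Subgroup.mem_centralizer_iff]
        exact h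
      · exact h
  set zA : ℕ := (Af.filter (fun b => b ∈ Subgroup.center E)).card with hzA
  have heq1 : Nat.card E * zA = Nat.card A * Nat.card C := by
    have h1 : ∑ b ∈ Af, 2 * (Finset.univ.filter (fun x : E => b * x = x * b)).card =
        ∑ x : E, 2 * (Finset.univ.filter (fun b : E => b ∈ A ∧ b * x = x * b)).card := by
      rw [← Finset.mul_sum, ← Finset.mul_sum, dc1]
    rw [Finset.sum_congr rfl (fun b _ => hL b), Finset.sum_congr rfl (fun x _ => hR x),
      Finset.sum_add_distrib, Finset.sum_add_distrib, Finset.sum_const, Finset.sum_const,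
      Finset.sum_ite, Finset.sum_ite, Finset.sum_const_zero, Finset.sum_const_zero, add_zero,
      add_zero, Finset.sum_const, Finset.sum_const, smul_eq_mul, smul_eq_mul, smul_eq_mul,
      smul_eq_mul, hcardB A, hcardE, hcardB C] at h1
    rw [← hzA] at h1
    nlinarith [h1]
  have hAC : A ≤ C := by
    intro a ha
    rw [hC, Subgroup.mem_centralizer_iff]
    intro b hb
    exact hAab b hb a ha
  have hZC : Subgroup.center E ≤ C := by
    intro c hc'
    rw [hC, Subgroup.mem_centralizer_iff]
    intro b _
    exact (Subgroup.mem_center_iff.mp hc' b)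
  have hsub : Af.filter (fun b => b ∈ Subgroup.center E) ⊆
      Finset.univ.filter (fun b : E => b ∈ Subgroup.center E) := by
    intro b hb
    simp only [Finset.mem_filter, Finset.mem_univ, true_and] at hb ⊢
    exact hb.2
  have hcardZ : (Finset.univ.filter (fun b : E => b ∈ Subgroup.center E)).card = 2 := by
    rw [← hZ, Nat.card_eq_fintype_card, Fintype.card_subtype]
  have hzA_le : zA ≤ 2 := by
    have h1 := Finset.card_le_card hsub
    rw [hcardZ] at h1
    exact h1
  have hzA_pos : 1 ≤ zA := by
    apply Finset.card_pos.mpr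
    refine ⟨1, ?_⟩
    simp only [hAf, Finset.mem_filter, Finset.mem_univ, true_and]
    exact ⟨A.one_mem, (Subgroup.center E).one_mem⟩
  have hzA2 : zA = 2 := by
    by_contra hne
    have hzA1 : zA = 1 := by omega
    have hzA' : z ∉ A := by
      intro hzA'
      have h1 : ({1, z} : Finset E) ⊆ Af.filter (fun b => b ∈ Subgroup.center E) := by
        intro b hb
        simp only [Finset.mem_insert, Finset.mem_singleton] at hb
        simp only [hAf, Finset.mem_filter, Finset.mem_univ, true_and]
        rcases hb with rfl | rfl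
        · exact ⟨A.one_mem, (Subgroup.center E).one_mem⟩
        · exact ⟨hzA', hzZ⟩
      have h2 := Finset.card_le_card h1
      rw [Finset.card_pair (Ne.symm hz1)] at h2
      omega
    have hlt : Nat.card A < Nat.card C := by
      have hne' : A ≠ C := by
        intro h
        apply hzA'
        rw [h]
        exact hZC hzZ
      rcases Nat.lt_or_ge (Nat.card A) (Nat.card C) with h | h
      · exact h
      · exact absurd (Subgroup.eq_of_le_of_card_ge hAC h) hne'
    obtain ⟨t, ht⟩ := Subgroup.card_dvd_of_le hAC
    have ht2 : 2 ≤ t := by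
      by_contra hcon
      push Not at hcon
      interval_cases t
      · rw [mul_zero] at ht
        have := Nat.card_pos (α := C)
        omega
      · rw [mul_one] at ht
        omega
    rw [hzA1, mul_one, ht, hcard, hAcard] at heq1
    have h3 : 2 ^ (m + 1) * (2 ^ (m + 1) * t) = 2 ^ (2 * m + 2) * t := by ring
    rw [h3] at heq1
    have h4 : 2 ^ (2 * m + 2) * 2 ≤ 2 ^ (2 * m + 2) * t := Nat.mul_le_mul_left _ ht2
    have h5 : 2 ^ (2 * m + 2) = 2 * 2 ^ (2 * m + 1) := by ring
    have h6 : 0 < 2 ^ (2 * m + 1) := by positivity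
    omega
  have hZA : Subgroup.center E ≤ A := by
    have heq := Finset.eq_of_subset_of_card_le hsub (by rw [hcardZ, ← hzA, hzA2])
    intro c hcz
    have h1 : c ∈ Finset.univ.filter (fun b : E => b ∈ Subgroup.center E) := by
      simp only [Finset.mem_filter, Finset.mem_univ, true_and]
      exact hcz
    rw [← heq] at h1
    simp only [hAf, Finset.mem_filter, Finset.mem_univ, true_and] at h1
    exact h1.1
  have hCA : C = A := by
    symm
    apply Subgroup.eq_of_le_of_card_ge hAC
    rw [hzA2, hcard, hAcard] at heq1
    have h3 : 2 ^ (2 * m + 1) * 2 = 2 ^ (m + 1) * 2 ^ (m + 1) := by ring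
    rw [h3] at heq1
    have h4 := Nat.eq_of_mul_eq_mul_left (by positivity) heq1
    rw [hAcard, ← h4]
  -- elements with square one
  set S0 : Finset E := Finset.univ.filter (fun y : E => y ^ 2 = 1) with hS0
  have dc2 : ∑ a ∈ Af, (Finset.univ.filter (fun x : E => (x * a) ^ 2 = 1)).card =
      ∑ x : E, (Af.filter (fun a : E => (x * a) ^ 2 = 1)).card := by
    simp only [Finset.card_filter]
    rw [Finset.sum_comm]
  have hL2 : ∀ a : E, (Finset.univ.filter (fun x : E => (x * a) ^ 2 = 1)).card = S0.card := by
    intro a
    apply Finset.card_nbij' (fun x => x * a) (fun y => y * a⁻¹)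
    · intro x hx
      simp only [hS0, Finset.coe_filter, Finset.mem_univ, true_and, Set.mem_ofPred_eq] at hx ⊢
      exact hx
    · intro y hy
      simp only [hS0, Finset.coe_filter, Finset.mem_univ, true_and, Set.mem_ofPred_eq] at hy ⊢
      rw [inv_mul_cancel_right]
      exact hy
    · intro x _
      simp
    · intro y _
      simp
  have hR2 : ∀ x : E, 2 * (Af.filter (fun a : E => (x * a) ^ 2 = 1)).card =
      Nat.card A + (if x ∈ A then Nat.card A else 0) := by
    intro x
    by_cases hx : x ∈ A
    · rw [if_pos hx]
      have h1 : Af.filter (fun a : E => (x * a) ^ 2 = 1) = Af := by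
        apply Finset.filter_true_of_mem
        intro a ha
        simp only [hAf, Finset.mem_filter, Finset.mem_univ, true_and] at ha
        exact hAexp _ (A.mul_mem hx ha)
      rw [h1, hcardB A]; ring
    · rw [if_neg hx, add_zero]
      have hxC : x ∉ C := by rw [hCA]; exact hx
      have hk : 2 * (Finset.univ.filter (fun b : E => b ∈ A ∧ b * x = x * b)).card =
          Nat.card A := by
        rcases key A x with h | h
        · exfalso
          apply hxC
          rw [hC, Subgroup.mem_centralizer_iff]
          exact h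
        · exact h
      have hform : ∀ a ∈ A, ((x * a) ^ 2 = 1 ↔ (x ^ 2 = 1 ↔ a * x = x * a)) := by
        intro a ha
        have ha2 : a ^ 2 = 1 := hAexp a ha
        by_cases hax : a * x = x * a
        · have h1 : (x * a) ^ 2 = x ^ 2 := by
            calc (x * a) ^ 2 = x * (a * x) * a := by rw [pow_two]; group
              _ = x * (x * a) * a := by rw [hax]
              _ = x ^ 2 * a ^ 2 := by rw [pow_two, pow_two]; group
              _ = x ^ 2 := by rw [ha2, mul_one]
          rw [h1]
          simp only [hax, iff_true]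
        · have hcz := hc a x
          have hc1 : a * x * a⁻¹ * x⁻¹ ≠ 1 := by
            intro h
            apply hax
            have h2 : a * x * a⁻¹ = x := mul_inv_eq_one.mp h
            exact mul_inv_eq_iff_eq_mul.mp h2
          have hcz' : a * x * a⁻¹ * x⁻¹ = z := (hzall _ hcz).resolve_left hc1
          have hax' : a * x = z * x * a := by rw [← hcz']; group
          have hzc := Subgroup.mem_center_iff.mp hzZ
          have h1 : (x * a) ^ 2 = z * x ^ 2 := by
            calc (x * a) ^ 2 = x * (a * x) * a := by rw [pow_two]; group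
              _ = x * (z * x * a) * a := by rw [hax']
              _ = (x * z) * x * (a * a) := by group
              _ = (z * x) * x * (a * a) := by rw [hzc x]
              _ = z * x ^ 2 * a ^ 2 := by rw [pow_two, pow_two]; group
              _ = z * x ^ 2 := by rw [ha2, mul_one]
          rw [h1]
          simp only [hax, iff_false]
          rcases hzall _ (hsq x) with h | h
          · rw [h, mul_one]
            simp [hz1]
          · rw [h]
            have hzz : z * z = 1 := by
              have h3 := hZsq z hzZ
              rwa [pow_two] at h3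
            simp [hzz, hz1]
      by_cases hx2 : x ^ 2 = 1
      · have h1 : Af.filter (fun a : E => (x * a) ^ 2 = 1) =
            Finset.univ.filter (fun b : E => b ∈ A ∧ b * x = x * b) := by
          ext a
          simp only [hAf, Finset.mem_filter, Finset.mem_univ, true_and]
          constructor
          · rintro ⟨ha, h⟩
            exact ⟨ha, ((hform a ha).mp h).mp hx2⟩
          · rintro ⟨ha, h⟩
            exact ⟨ha, (hform a ha).mpr ⟨fun _ => h, fun _ => hx2⟩⟩
        rw [h1, hk]
      · have h1 : Af.filter (fun a : E => (x * a) ^ 2 = 1) =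
            Af.filter (fun a => ¬ (a * x = x * a)) := by
          ext a
          simp only [hAf, Finset.mem_filter, Finset.mem_univ, true_and]
          constructor
          · rintro ⟨ha, h⟩
            exact ⟨ha, fun hax => hx2 (((hform a ha).mp h).mpr hax)⟩
          · rintro ⟨ha, h⟩
            exact ⟨ha, (hform a ha).mpr ⟨fun h' => absurd h' hx2, fun h' => absurd h' h⟩⟩
        have h2 := Finset.card_filter_add_card_filter_not (s := Af) (fun a => a * x = x * a)
        have h3 : Af.filter (fun a => a * x = x * a) =
            Finset.univ.filter (fun b : E => b ∈ A ∧ b * x = x * b) := by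
          rw [hAf, Finset.filter_filter]
        rw [h3, hcardB A] at h2
        rw [h1]
        omega
  have heq2 : 2 * S0.card = Nat.card E + Nat.card A := by
    have h1 : ∑ a ∈ Af, 2 * (Finset.univ.filter (fun x : E => (x * a) ^ 2 = 1)).card =
        ∑ x : E, 2 * (Af.filter (fun a : E => (x * a) ^ 2 = 1)).card := by
      rw [← Finset.mul_sum, ← Finset.mul_sum, dc2]
    rw [Finset.sum_congr rfl (fun a _ => by rw [hL2 a]),
      Finset.sum_congr rfl (fun x _ => hR2 x), Finset.sum_const, Finset.sum_add_distrib,
      Finset.sum_const, Finset.sum_ite, Finset.sum_const_zero, add_zero, Finset.sum_const,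
      smul_eq_mul, smul_eq_mul, smul_eq_mul, hcardE, hcardB A] at h1
    have hApos : 0 < Nat.card A := Nat.card_pos
    apply Nat.eq_of_mul_eq_mul_left hApos
    rw [h1]
    ring
  have hord : ∀ x : E, orderOf x = 4 ↔ ¬ x ^ 2 = 1 := by
    intro x
    have hx4 : x ^ 4 = 1 := by
      have h1 := hZsq _ (hsq x)
      rw [← pow_mul] at h1
      exact h1
    constructor
    · intro h hx2
      have h1 := orderOf_dvd_of_pow_eq_one hx2
      rw [h] at h1
      omega
    · intro h
      exact orderOf_eq_prime_pow (p := 2) (n := 1) (by simpa using h) (by simpa using hx4)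
  rw [Nat.card_eq_fintype_card, Fintype.card_subtype]
  have h1 : Finset.univ.filter (fun x : E => orderOf x = 4) =
      Finset.univ.filter (fun x : E => ¬ x ^ 2 = 1) := by
    ext x
    simp only [Finset.mem_filter, Finset.mem_univ, true_and]
    exact hord x
  rw [h1]
  have h2 : S0.card + (Finset.univ.filter (fun x : E => ¬ x ^ 2 = 1)).card =
      (Finset.univ : Finset E).card :=
    Finset.card_filter_add_card_filter_not (s := (Finset.univ : Finset E)) (fun x => x ^ 2 = 1)
  rw [hcardE, hcard] at h2
  rw [hcard, hAcard] at heq2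
  have e1 : 2 ^ (2 * m + 1) = 2 * 2 ^ (2 * m) := by ring
  have e2 : 2 ^ (m + 1) = 2 * 2 ^ m := by ring
  omega

end Cfsg.Agent.S2880
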