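import Mathlib
import Cfsg.Statements.S2881
import Cfsg.Agent.S2880

set_option autoImplicit false
open Cfsg

namespace Cfsg.Agent.S2881

/-- Let E be an extraspecial 2-group of order 2^(2m+1) of plus type (containing an elementary abelian subgroup of order 2^(m+1)), and let ω be an automorphism of E of order 5 whose fixed points are exactly the centre of E. Then m is divisible by 4. -/
theorem result {E : Type*} [Group E] [Finite E] (m : ℕ) (hm : 1 ≤ m) (hE : Cfsg.IsExtraspecial 2 E) (hcard : Nat.card E = 2 ^ (2 * m + 1)) (hplus : ∃ A : Subgroup E, Cfsg.IsElementaryAbelian 2 A ∧ Nat.card A = 2 ^ (m + 1)) (ω : E ≃* E) (hω : orderOf ω = 5) (hfix : ∀ x : E, ω x = x ↔ x ∈ Subgroup.center E) : 4 ∣ m := by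
  classical
  haveI := Fintype.ofFinite E
  haveI : Fact (Nat.Prime 5) := ⟨by norm_num⟩
  have hN := Cfsg.Agent.S2880.result m hm hE hcard hplus
  let f : Function.End {x : E // orderOf x = 4} :=
    fun x => ⟨ω x.1, by rw [MulEquiv.orderOf_eq]; exact x.2⟩
  have hpow : ∀ n : ℕ, ∀ x : {x : E // orderOf x = 4}, ((f ^ n) x).1 = (ω ^ n) x.1 := by
    intro n
    induction n with
    | zero => intro x; rfl
    | succ k ih =>
      intro x
      rw [pow_succ, pow_succ]
      show ((f ^ k) (f x)).1 = (ω ^ k) (ω x.1)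
      rw [ih]
  have hf : f ^ 5 ^ 1 = 1 := by
    rw [pow_one]
    funext x
    apply Subtype.ext
    rw [hpow]
    have h1 : ω ^ 5 = 1 := by rw [← hω]; exact pow_orderOf_eq_one ω
    rw [h1]
    rfl
  have h1 := Equiv.Perm.card_fixedPoints_modEq (f := f) (p := 5) (n := 1) hf
  have hfix0 : Fintype.card (Function.fixedPoints f) = 0 := by
    rw [Fintype.card_eq_zero_iff]
    constructor
    rintro ⟨x, hx⟩
    have h2 : ω x.1 = x.1 := congrArg Subtype.val hx
    have h3 := (hfix x.1).mp h2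
    have h4 : x.1 ^ 2 = 1 := by
      have h5 : (⟨x.1, h3⟩ : Subgroup.center E) ^ 2 = 1 := by
        rw [← hE.2]; exact pow_card_eq_one'
      exact congrArg Subtype.val h5
    have h5 := orderOf_dvd_of_pow_eq_one h4
    rw [x.2] at h5
    omega
  rw [hfix0] at h1
  have h5 : 5 ∣ Fintype.card {x : E // orderOf x = 4} := (Nat.modEq_zero_iff_dvd).mp h1
  rw [← Nat.card_eq_fintype_card, hN] at h5
  have e1 : 2 ^ (2 * m) - 2 ^ m = 2 ^ m * (2 ^ m - 1) := by
    rw [Nat.mul_sub, mul_one, two_mul, pow_add]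
  rw [e1] at h5
  have hcop : Nat.Coprime 5 (2 ^ m) := Nat.Coprime.pow_right m (by norm_num)
  have h6 : 5 ∣ 2 ^ m - 1 := hcop.dvd_of_dvd_mul_left h5
  have hpos : 1 ≤ 2 ^ m := Nat.one_le_two_pow
  have h7 : 2 ^ m % 5 = 1 := by omega
  have hmod : 2 ^ m % 5 = 2 ^ (m % 4) % 5 := by
    conv_lhs => rw [← Nat.div_add_mod m 4, pow_add, pow_mul]
    rw [Nat.mul_mod, Nat.pow_mod]
    norm_num
  rw [hmod] at h7
  have hlt : m % 4 < 4 := Nat.mod_lt _ (by norm_num)
  interval_cases h : m % 4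
  · exact Nat.dvd_of_mod_eq_zero h
  · norm_num at h7
  · norm_num at h7
  · norm_num at h7

end Cfsg.Agent.S2881
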