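import Cfsg.Statements.S2897
import Cfsg.Agent.Lib.Helper3_ParChar

set_option autoImplicit false
open Cfsg

namespace Cfsg.Agent.S2897

/-- Let p be a prime dividing the order of the finite group G, suppose G has parabolic characteristic p, let S be a Sylow p-subgroup of G and G₁ a normal subgroup of G. If Ω₁(Z(S ∩ G₁)) is nontrivial and contained in Ω₁(Z(S)), then G₁ has parabolic characteristic p. -/
theorem result {G : Type*} [Group G] [Finite G] {p : ℕ} [Fact p.Prime] (hdiv : p ∣ Nat.card G) (hG : Cfsg.IsOfParabolicCharacteristic p G) (S : Sylow p G) (G₁ : Subgroup G) [G₁.Normal] (hne : Cfsg.omegaOne p (((S : Subgroup G) ⊓ G₁) ⊓ Subgroup.centralizer (((S : Subgroup G) ⊓ G₁ : Subgroup G) : Set G)) ≠ ⊥) (hle : Cfsg.omegaOne p (((S : Subgroup G) ⊓ G₁) ⊓ Subgroup.centralizer (((S : Subgroup G) ⊓ G₁ : Subgroup G) : Set G)) ≤ Cfsg.omegaOne p ((S : Subgroup G) ⊓ Subgroup.centralizer ((S : Subgroup G) : Set G))) : Cfsg.IsOfParabolicCharacteristic p ↥G₁ := by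
  classical
  have hsn : G₁.IsSubnormal := Subgroup.Normal.isSubnormal inferInstance
  apply Cfsg.Agent.Lib.Helper3_ParChar.parabolic_of_subnormal S G₁ hsn
  intro z hzo hz
  have h1 := (Cfsg.Agent.S2896.result hdiv S ⊥ bot_le).2.1.mp hG
  rw [Cfsg.Agent.Lib.Helper3_GFp.gf_pgroup_iff p]
  apply h1 z
  · intro h0
    rw [h0, orderOf_one] at hzo
    exact (Fact.out : p.Prime).one_lt.ne hzo
  · apply hle
    apply Subgroup.subset_closure
    refine ⟨hz, ?_⟩
    rw [← hzo]; exact pow_orderOf_eq_one z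

end Cfsg.Agent.S2897
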