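import Cfsg.Statements.S2898
import Cfsg.Agent.Lib.Helper3_ParChar

set_option autoImplicit false
open Cfsg

namespace Cfsg.Agent.S2898

/-- a central involution of a Sylow 2-subgroup inverts the core -/
theorem inverts {G : Type*} [Group G] [Finite G] (h2 : 2 ∣ Nat.card G)
    (hG : Cfsg.IsOfParabolicCharacteristic 2 G) [hN : (Cfsg.oddCore G).Normal] (S : Sylow 2 G) (z : G)
    (hz2 : orderOf z = 2) (hzS : z ∈ (S : Subgroup G))
    (hzC : z ∈ Subgroup.centralizer ((S : Subgroup G) : Set G)) :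
    ∀ k ∈ Cfsg.oddCore G, z * k * z⁻¹ = k⁻¹ := by
  classical
  haveI : Fact (Nat.Prime 2) := ⟨Nat.prime_two⟩
  have hzz : z ^ 2 = 1 := by rw [← hz2]; exact pow_orderOf_eq_one z
  have hz1 : z ≠ 1 := by
    intro h0
    rw [h0, orderOf_one] at hz2
    omega
  have h1 := (Cfsg.Agent.S2896.result h2 S ⊥ bot_le).2.1.mp hG z hz1
    (Subgroup.subset_closure ⟨⟨hzS, hzC⟩, hzz⟩)
  obtain ⟨hO, -⟩ := Cfsg.Agent.S1293.core_layer_bot_of_gf_eq 2 h1
  have hKc : (Nat.card ↥(Cfsg.oddCore G)).Coprime 2 :=
    Cfsg.Agent.Lib.Helper5_PPrime.pPrimeCore_coprime 2 G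
  have hfix : ∀ k ∈ Cfsg.oddCore G, z * k * z⁻¹ = k → k = 1 := by
    intro k hk hkz
    have hkC : k ∈ Subgroup.centralizer ({z} : Set G) := by
      rw [Subgroup.mem_centralizer_singleton_iff]
      calc k * z = (z * k * z⁻¹) * z := by rw [hkz]
        _ = z * k := by group
    have hle : (Cfsg.oddCore G).subgroupOf (Subgroup.centralizer ({z} : Set G)) ≤
        Cfsg.pPrimeCore 2 ↥(Subgroup.centralizer ({z} : Set G)) := by
      apply le_sSup
      refine ⟨inferInstance, ?_⟩
      let f : ↥((Cfsg.oddCore G).subgroupOf (Subgroup.centralizer ({z} : Set G))) →* ↥(Cfsg.oddCore G) :=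
        { toFun := fun x => ⟨x.1.1, x.2⟩
          map_one' := rfl
          map_mul' := fun _ _ => rfl }
      have hf : Function.Injective f := by
        intro a b hab
        apply Subtype.ext
        apply Subtype.ext
        exact congrArg (fun x : ↥(Cfsg.oddCore G) => (x : G)) hab
      exact Nat.Coprime.coprime_dvd_left (Subgroup.card_dvd_of_injective f hf) hKc
    have hmem : (⟨k, hkC⟩ : ↥(Subgroup.centralizer ({z} : Set G))) ∈
        (Cfsg.oddCore G).subgroupOf (Subgroup.centralizer ({z} : Set G)) :=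
      Subgroup.mem_subgroupOf.mpr hk
    have := hle hmem
    rw [hO, Subgroup.mem_bot] at this
    exact congrArg Subtype.val this
  let φ : MulAut ↥(Cfsg.oddCore G) := MulAut.conjNormal z
  have hφ : ∀ k : ↥(Cfsg.oddCore G), ((φ k : ↥(Cfsg.oddCore G)) : G) = z * k * z⁻¹ :=
    fun k => MulAut.conjNormal_apply z k
  have hfpf : MonoidHom.FixedPointFree φ := by
    intro k hk
    apply Subtype.ext
    apply hfix k k.2
    rw [← hφ, hk]
  have hinv : Function.Involutive φ := by
    intro k
    apply Subtype.ext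
    rw [hφ, hφ]
    have hzi : z⁻¹ = z := by
      rw [inv_eq_iff_mul_eq_one, ← pow_two]; exact hzz
    rw [hzi]
    calc z * (z * ↑k * z) * z = z ^ 2 * ↑k * z ^ 2 := by simp only [pow_two, mul_assoc]
      _ = ↑k := by rw [hzz]; group
  have h3 := hfpf.coe_eq_inv_of_involutive hinv
  intro k hk
  have := congrFun h3 ⟨k, hk⟩
  have h4 := congrArg Subtype.val this
  rw [hφ] at h4
  exact h4

/-- Let G be a finite group of even order with parabolic characteristic 2. If the centre of G ⧸ O(G) is trivial, then O(G) = 1. -/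
theorem result {G : Type*} [Group G] [Finite G] (h2 : 2 ∣ Nat.card G) (hG : Cfsg.IsOfParabolicCharacteristic 2 G) [hN : (Cfsg.oddCore G).Normal] (hZ : Subgroup.center (G ⧸ Cfsg.oddCore G) = ⊥) : Cfsg.oddCore G = ⊥ := by
  classical
  haveI : Fact (Nat.Prime 2) := ⟨Nat.prime_two⟩
  set K := Cfsg.oddCore G with hK
  have hKc : (Nat.card ↥K).Coprime 2 := Cfsg.Agent.Lib.Helper5_PPrime.pPrimeCore_coprime 2 G
  let S : Sylow 2 G := default
  have hSp : IsPGroup 2 ↥(S : Subgroup G) := S.isPGroup'
  have hS1 : (S : Subgroup G) ≠ ⊥ := by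
    intro h0
    have := S.not_dvd_index
    apply this
    have h3 : Nat.card ↥(S : Subgroup G) = 1 := by rw [h0]; exact Subgroup.card_bot
    have h4 := (S : Subgroup G).card_mul_index
    rw [h3, one_mul] at h4
    rw [h4]; exact h2
  set C := Subgroup.centralizer (K : Set G) with hC
  haveI hCn : C.Normal := Subgroup.normal_centralizer
  by_cases hSC : (S : Subgroup G) ⊓ C = ⊥
  · exfalso
    -- `C` has odd order, so `C ≤ K`
    have hCodd : (Nat.card ↥C).Coprime 2 := by
      have h3 := Cfsg.Agent.Lib.Helper5_Residual.not_dvd_relIndex_of_normal S C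
      have h5 : ((S : Subgroup G) ⊓ C).relIndex C = Nat.card ↥C := by
        rw [hSC, Subgroup.relIndex_bot_left]
      rw [Subgroup.inf_relIndex_right] at h5
      rw [← h5]
      exact ((Nat.Prime.coprime_iff_not_dvd Nat.prime_two).mpr h3).symm
    have hCK : C ≤ K := le_sSup ⟨hCn, hCodd⟩
    obtain ⟨z, -, hzS, hzC, hz2⟩ := Cfsg.Agent.Lib.Helper3_ParChar.exists_central_order_p S
      (S : Subgroup G) hSp hS1 Subgroup.le_normalizer
    have hinv := inverts h2 hG S z hz2 hzS hzC
    -- the image of `z` is central in `G / K`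
    have hzcent : (QuotientGroup.mk z : G ⧸ K) ∈ Subgroup.center (G ⧸ K) := by
      rw [Subgroup.mem_center_iff]
      intro y
      obtain ⟨g, rfl⟩ := QuotientGroup.mk_surjective y
      rw [← QuotientGroup.mk_mul, ← QuotientGroup.mk_mul, QuotientGroup.eq]
      apply hCK
      rw [hC, Subgroup.mem_centralizer_iff]
      intro k hk
      -- `(g z)⁻¹ (z g)` centralizes `k`
      have hk1 : g * k * g⁻¹ ∈ K := hN.conj_mem k hk g
      have e1 := hinv _ hk1
      have hk2 : g⁻¹ * k * g ∈ K := by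
        have := hN.conj_mem k hk g⁻¹
        simpa using this
      have e2 := hinv k hk
      -- z (g k g⁻¹) z⁻¹ = g k⁻¹ g⁻¹
      have e3 : z * g * k = g * (z * k) * (z⁻¹ * g⁻¹ * z * g) := by
        have : z * (g * k * g⁻¹) * z⁻¹ = g * (z * k * z⁻¹) * g⁻¹ := by
          rw [e1, e2]; group
        calc z * g * k = (z * (g * k * g⁻¹) * z⁻¹) * z * g := by group
          _ = (g * (z * k * z⁻¹) * g⁻¹) * z * g := by rw [this]
          _ = g * (z * k) * (z⁻¹ * g⁻¹ * z * g) := by group
      calc k * ((g * z)⁻¹ * (z * g)) = (g * z)⁻¹ * ((g * z) * k * (g * z)⁻¹) * (z * g) := by group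
        _ = (g * z)⁻¹ * (g * (z * k * z⁻¹) * g⁻¹) * (z * g) := by group
        _ = (g * z)⁻¹ * (z * (g * k * g⁻¹) * z⁻¹) * (z * g) := by rw [e1, e2]; group
        _ = (g * z)⁻¹ * (z * g) * k := by group
    rw [hZ, Subgroup.mem_bot, QuotientGroup.eq_one_iff] at hzcent
    -- `z ∈ K` has odd order
    have h5 : orderOf z ∣ Nat.card ↥K := by
      have := orderOf_dvd_natCard (⟨z, hzcent⟩ : ↥K)
      rwa [Subgroup.orderOf_mk] at this
    rw [hz2] at h5
    exact (Nat.Prime.coprime_iff_not_dvd Nat.prime_two).mp hKc.symm h5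
  · -- an involution of `Z(S)` in `C` both inverts and centralizes `K`
    haveI hSCn : (((S : Subgroup G) ⊓ C).subgroupOf (S : Subgroup G)).Normal := by
      apply Subgroup.normal_subgroupOf_of_le_normalizer
      intro s hs
      rw [Subgroup.mem_normalizer_iff]
      intro x
      constructor
      · intro hx
        exact ⟨(S : Subgroup G).mul_mem ((S : Subgroup G).mul_mem hs hx.1) ((S : Subgroup G).inv_mem hs),
          hCn.conj_mem x hx.2 s⟩
      · intro hx
        have e : x = s⁻¹ * (s * x * s⁻¹) * s⁻¹⁻¹ := by group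
        rw [e]
        exact ⟨(S : Subgroup G).mul_mem ((S : Subgroup G).mul_mem ((S : Subgroup G).inv_mem hs) hx.1)
          ((S : Subgroup G).inv_mem ((S : Subgroup G).inv_mem hs)), hCn.conj_mem _ hx.2 s⁻¹⟩
    have hnorm : (S : Subgroup G) ≤ Subgroup.normalizer (((S : Subgroup G) ⊓ C : Subgroup G) : Set G) := by
      intro s hs
      rw [Subgroup.mem_normalizer_iff]
      intro x
      constructor
      · intro hx
        exact ⟨(S : Subgroup G).mul_mem ((S : Subgroup G).mul_mem hs hx.1) ((S : Subgroup G).inv_mem hs),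
          hCn.conj_mem x hx.2 s⟩
      · intro hx
        have e : x = s⁻¹ * (s * x * s⁻¹) * s⁻¹⁻¹ := by group
        rw [e]
        exact ⟨(S : Subgroup G).mul_mem ((S : Subgroup G).mul_mem ((S : Subgroup G).inv_mem hs) hx.1)
          ((S : Subgroup G).inv_mem ((S : Subgroup G).inv_mem hs)), hCn.conj_mem _ hx.2 s⁻¹⟩
    obtain ⟨z, hzR, hzS, hzC, hz2⟩ := Cfsg.Agent.Lib.Helper3_ParChar.exists_central_order_p S
      ((S : Subgroup G) ⊓ C) (hSp.to_le inf_le_left) hSC hnorm
    have hinv := inverts h2 hG S z hz2 hzS hzC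
    rw [eq_bot_iff]
    intro k hk
    rw [Subgroup.mem_bot]
    have e1 := hinv k hk
    have e2 : z * k = k * z := (Subgroup.mem_centralizer_iff.mp hzR.2 k hk).symm
    have e3 : k = k⁻¹ := by
      rw [← e1, e2]; group
    have e4 : k ^ 2 = 1 := by
      rw [pow_two]
      nth_rewrite 1 [e3]
      exact inv_mul_cancel k
    have h5 : orderOf k ∣ 2 := orderOf_dvd_of_pow_eq_one e4
    have h6 : orderOf k ∣ Nat.card ↥K := by
      have := orderOf_dvd_natCard (⟨k, hk⟩ : ↥K)
      rwa [Subgroup.orderOf_mk] at this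
    have h7 : orderOf k = 1 := Nat.eq_one_of_dvd_coprimes hKc.symm h5 h6
    exact orderOf_eq_one_iff.mp h7

end Cfsg.Agent.S2898
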