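import Mathlib
import Cfsg.Statements.S2907

set_option autoImplicit false
open Cfsg

namespace Cfsg.Agent.S2907

open scoped commutatorElement

/-- In a group whose commutator subgroup is the centre, `y ↦ [x,y]` is a homomorphism to the centre. -/
noncomputable def commHom {X : Type*} [Group X] (hc : commutator X = Subgroup.center X) (x : X) :
    X →* Subgroup.center X :=
  MonoidHom.mk' (fun y => ⟨x * y * x⁻¹ * y⁻¹, by
      rw [← hc, commutator_def]
      have : x * y * x⁻¹ * y⁻¹ = ⁅x, y⁆ := by rw [commutatorElement_def]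
      rw [this]
      exact Subgroup.commutator_mem_commutator (Subgroup.mem_top x) (Subgroup.mem_top y)⟩) (by
    intro a b
    apply Subtype.ext
    simp only [Subgroup.coe_mul]
    have hb : x * b * x⁻¹ * b⁻¹ ∈ Subgroup.center X := by
      rw [← hc, commutator_def]
      have : x * b * x⁻¹ * b⁻¹ = ⁅x, b⁆ := by rw [commutatorElement_def]
      rw [this]
      exact Subgroup.commutator_mem_commutator (Subgroup.mem_top x) (Subgroup.mem_top b)
    have h1 : a * (x * b * x⁻¹ * b⁻¹) = (x * b * x⁻¹ * b⁻¹) * a :=
      (Subgroup.mem_center_iff.mp hb a)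
    calc x * (a * b) * x⁻¹ * (a * b)⁻¹ = x * a * x⁻¹ * (x * b * x⁻¹ * b⁻¹) * a⁻¹ := by group
      _ = x * a * x⁻¹ * ((x * b * x⁻¹ * b⁻¹) * a⁻¹) := by rw [mul_assoc]
      _ = x * a * x⁻¹ * (a⁻¹ * (x * b * x⁻¹ * b⁻¹)) := by
          congr 1
          have : (x * b * x⁻¹ * b⁻¹) * a⁻¹ = a⁻¹ * (a * (x * b * x⁻¹ * b⁻¹)) * a⁻¹ := by group
          rw [this, h1]; group
      _ = x * a * x⁻¹ * a⁻¹ * (x * b * x⁻¹ * b⁻¹) := by group)

theorem commHom_apply {X : Type*} [Group X] (hc : commutator X = Subgroup.center X) (x y : X) :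
    ((commHom hc x y : Subgroup.center X) : X) = x * y * x⁻¹ * y⁻¹ := rfl

/-- Let X be a finite semi-extraspecial p-group and x an element of X outside the centre. Then the index of C_X(x) in X equals the order of Z(X), and the commutators [x, y], y ∈ X, form exactly the centre Z(X). -/
theorem result {X : Type*} [Group X] [Finite X] {p : ℕ} [Fact p.Prime] (hX : Cfsg.IsSemiExtraspecial p X) (x : X) (hx : x ∉ Subgroup.center X) : (Subgroup.centralizer ({x} : Set X)).index = Nat.card ↥(Subgroup.center X) ∧ {z : X | ∃ y : X, z = x * y * x⁻¹ * y⁻¹} = (Subgroup.center X : Set X) := by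
  have hc : commutator X = Subgroup.center X := hX.1.2.2
  set φ := commHom hc x with hφ
  -- surjectivity
  have hsurj : φ.range = ⊤ := by
    by_contra hne
    obtain ⟨M, hM, hle⟩ := (eq_top_or_exists_le_coatom φ.range).resolve_left hne
    set Y : Subgroup X := M.map (Subgroup.center X).subtype with hY
    have hYZ : Y ≤ Subgroup.center X := Subgroup.map_subtype_le M
    have hYM : Y.subgroupOf (Subgroup.center X) = M := by
      rw [hY]
      exact Subgroup.comap_map_eq_self_of_injective (Subgroup.subtype_injective _) M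
    have hco : IsCoatom (Y.subgroupOf (Subgroup.center X)) := by rw [hYM]; exact hM
    obtain ⟨hYn, hes⟩ := hX.2 Y hYZ hco
    have hcard : Nat.card (Subgroup.center (X ⧸ Y)) = p := hes.2
    -- the image of x is central
    have hxc : (QuotientGroup.mk x : X ⧸ Y) ∈ Subgroup.center (X ⧸ Y) := by
      rw [Subgroup.mem_center_iff]
      intro q
      obtain ⟨y, rfl⟩ := QuotientGroup.mk_surjective q
      rw [← QuotientGroup.mk_mul, ← QuotientGroup.mk_mul, QuotientGroup.eq]
      -- (y * x)⁻¹ * (x * y) ∈ Y
      have h1 : φ y ∈ M := hle ⟨y, rfl⟩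
      have h2 : x * y * x⁻¹ * y⁻¹ ∈ Y := ⟨φ y, h1, rfl⟩
      have h3 : (y * x)⁻¹ * (x * y * x⁻¹ * y⁻¹) * (y * x) ∈ Y := by
        have := hYn.conj_mem _ h2 (y * x)⁻¹
        simpa using this
      have : (y * x)⁻¹ * (x * y) = (y * x)⁻¹ * (x * y * x⁻¹ * y⁻¹) * (y * x) := by group
      rw [this]; exact h3
    -- the image of the centre
    set Zb : Subgroup (X ⧸ Y) := (Subgroup.center X).map (QuotientGroup.mk' Y) with hZb
    have hZble : Zb ≤ Subgroup.center (X ⧸ Y) := by
      rintro _ ⟨z, hz, rfl⟩
      rw [Subgroup.mem_center_iff]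
      intro q
      obtain ⟨y, rfl⟩ := QuotientGroup.mk_surjective q
      simp only [QuotientGroup.mk'_apply]
      rw [← QuotientGroup.mk_mul, ← QuotientGroup.mk_mul, Subgroup.mem_center_iff.mp hz y]
    have hZbne : Zb ≠ ⊥ := by
      intro hbot
      have hZY : Subgroup.center X ≤ Y := by
        intro z hz
        have : QuotientGroup.mk' Y z ∈ Zb := ⟨z, hz, rfl⟩
        rw [hbot, Subgroup.mem_bot, QuotientGroup.mk'_apply, QuotientGroup.eq_one_iff] at this
        exact this
      have : Y.subgroupOf (Subgroup.center X) = ⊤ := by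
        rw [Subgroup.subgroupOf_eq_top]; exact hZY
      exact hco.1 this
    have hZbeq : Zb = Subgroup.center (X ⧸ Y) := by
      have hd : Nat.card Zb ∣ p := by
        rw [← hcard]; exact Subgroup.card_dvd_of_le hZble
      rcases (Nat.dvd_prime Fact.out).mp hd with h1 | h1
      · exact absurd (Subgroup.card_eq_one.mp h1) hZbne
      · exact Subgroup.eq_of_le_of_card_ge hZble (by rw [h1, hcard])
    rw [← hZbeq] at hxc
    obtain ⟨z, hz, hzx⟩ := hxc
    rw [QuotientGroup.mk'_apply, QuotientGroup.eq] at hzx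
    apply hx
    have : x = z * (z⁻¹ * x) := by group
    rw [this]
    exact Subgroup.mul_mem _ hz (hYZ hzx)
  constructor
  · have hker : φ.ker = Subgroup.centralizer ({x} : Set X) := by
      ext y
      rw [MonoidHom.mem_ker, Subgroup.mem_centralizer_singleton_iff]
      constructor
      · intro h
        have h1 : x * y * x⁻¹ * y⁻¹ = 1 := by
          rw [← commHom_apply hc x y, ← hφ, h]; rfl
        have : y * x = (x * y * x⁻¹ * y⁻¹)⁻¹ * (x * y) := by group
        rw [this, h1]; simp
      · intro h
        apply Subtype.ext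
        rw [hφ, commHom_apply]
        rw [← h]
        simp
    rw [← hker, Subgroup.index_ker, hsurj, Subgroup.card_top]
  · ext z
    simp only [Set.mem_setOf_eq, SetLike.mem_coe]
    constructor
    · rintro ⟨y, rfl⟩
      exact (φ y).2
    · intro hz
      have : (⟨z, hz⟩ : Subgroup.center X) ∈ φ.range := by rw [hsurj]; trivial
      obtain ⟨y, hy⟩ := this
      refine ⟨y, ?_⟩
      have := congrArg Subtype.val hy
      rw [hφ, commHom_apply] at this
      exact this.symm

end Cfsg.Agent.S2907
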