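import Mathlib
import Cfsg.Statements.S2908
import Cfsg.Agent.S0029
import Cfsg.Agent.Lib.Lead_Coprime
import Cfsg.Agent.Lib.Helper7_PFrattini
import Cfsg.Agent.Lib.Helper5_WC
import Cfsg.Agent.Lib.Helper5_CharP

set_option autoImplicit false
open Cfsg

namespace Cfsg.Agent.S2908

open Cfsg.Agent.Lib.Helper5_WC Cfsg.Agent.Lib.Helper5_CharP
open Subgroup
open scoped commutatorElement

/-- in a finite `p`-subgroup `S`, `[S,S] ≤ Φ(S)` (as subgroups of the ambient group) -/
theorem commutator_le_map_frattini {G : Type*} [Group G] [Finite G] {p : ℕ} [Fact p.Prime]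
    (S : Subgroup G) (hS : IsPGroup p S) :
    (⁅S, S⁆ : Subgroup G) ≤ (frattini S).map S.subtype := by
  rw [← Subgroup.map_subtype_commutator]
  apply Subgroup.map_mono
  rw [_root_.commutator_def, Subgroup.commutator_le]
  intro a _ b _
  have := Cfsg.Agent.Lib.Helper7_PFrattini.comm_mem_frattini hS a b
  rwa [commutatorElement_def]

/-- Let P be a p-subgroup of a finite group, normalized by a p-subgroup A and by a subgroup B of order prime to p that commutes elementwise with A. If [P, B] ≤ [P, A], then B centralizes P. -/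
theorem result {G : Type*} [Group G] [Finite G] {p : ℕ} [Fact p.Prime] (P A B : Subgroup G) (hP : IsPGroup p ↥P) (hA : IsPGroup p ↥A) (hB : ¬ p ∣ Nat.card ↥B) (hnA : A ≤ Subgroup.normalizer (P : Set G)) (hnB : B ≤ Subgroup.normalizer (P : Set G)) (hAB : ⁅A, B⁆ = ⊥) (hcomm : ⁅P, B⁆ ≤ ⁅P, A⁆) : ⁅P, B⁆ = ⊥ := by
  have hp := (Fact.out : p.Prime)
  set S := A ⊔ P with hSdef
  have hSp : IsPGroup p S := IsPGroup.to_sup_of_normal_right' hA hP hnA
  have hAS : A ≤ S := le_sup_left
  have hPS : P ≤ S := le_sup_right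
  have hABc : A ≤ centralizer (B : Set G) := commutator_eq_bot_iff_le_centralizer.mp hAB
  have hBAc : B ≤ centralizer (A : Set G) := Subgroup.le_centralizer_iff.mp hABc
  have hnBA : B ≤ normalizer (A : Set G) := by
    intro b hb
    apply mem_normalizer_of_forall_conj_mem
    · intro a ha
      have h1 := (mem_centralizer_iff.mp (hBAc hb)) a ha
      have : b * a * b⁻¹ = a := by rw [← h1, mul_inv_cancel_right]
      rw [this]; exact ha
    · intro a ha
      have h1 := (mem_centralizer_iff.mp (hBAc hb)) a ha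
      have : b⁻¹ * a * b = a := by rw [mul_assoc, h1, inv_mul_cancel_left]
      rw [this]; exact ha
  have hBS : B ≤ normalizer (S : Set G) := by
    intro b hb
    apply mem_normalizer_of_cj_eq
    rw [hSdef, cj, Subgroup.map_sup]
    show cj b A ⊔ cj b P = A ⊔ P
    rw [cj_eq_of_mem_normalizer (hnBA hb), cj_eq_of_mem_normalizer (hnB hb)]
  have hcop : (Nat.card B).Coprime (Nat.card (frattini S)) := by
    obtain ⟨k, hk⟩ := (hSp.to_subgroup (frattini S)).exists_card_eq
    rw [hk]
    exact Nat.Coprime.pow_right k ((Nat.Prime.coprime_iff_not_dvd hp).mpr hB).symm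
  have hSS : S ≤ normalizer ((⁅S, S⁆ : Subgroup G) : Set G) :=
    Cfsg.Agent.Lib.Lead_Coprime.le_normalizer_commutator S S S le_normalizer le_normalizer
  have htriv : ∀ b ∈ B, ∀ s ∈ S, b * s * b⁻¹ * s⁻¹ ∈ (frattini S).map S.subtype := by
    intro b hb s hs
    apply commutator_le_map_frattini S hSp
    have hs' : s ∈ ((A ⊔ P : Subgroup G) : Set G) := hs
    rw [Subgroup.coe_mul_of_left_le_normalizer_right A P hnA] at hs'
    obtain ⟨a, ha, x, hx, rfl⟩ := hs'
    have hba : b * a = a * b := (mem_centralizer_iff.mp (hBAc hb)) a ha |>.symm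
    have h1 : b * x * b⁻¹ * x⁻¹ ∈ (⁅S, S⁆ : Subgroup G) := by
      have h2 : ⁅b, x⁆ ∈ (⁅B, P⁆ : Subgroup G) := Subgroup.commutator_mem_commutator hb hx
      rw [Subgroup.commutator_comm] at h2
      have h3 := hcomm h2
      have h4 : (⁅P, A⁆ : Subgroup G) ≤ ⁅S, S⁆ := Subgroup.commutator_mono hPS hAS
      have := h4 h3
      rwa [commutatorElement_def] at this
    have h5 := conj_mem_of_mem_normalizer (hSS (hAS ha)) h1
    have e : b * (a * x) * b⁻¹ * (a * x)⁻¹ = a * (b * x * b⁻¹ * x⁻¹) * a⁻¹ := by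
      have : b * (a * x) * b⁻¹ * (a * x)⁻¹ = (b * a) * x * b⁻¹ * x⁻¹ * a⁻¹ := by group
      rw [this, hba]; group
    rw [e]
    exact h5
  have hcent := Cfsg.Agent.S0029.result B S hBS hcop htriv
  have h1 : B ≤ centralizer (P : Set G) := le_trans hcent (centralizer_le hPS)
  rw [commutator_eq_bot_iff_le_centralizer]
  exact Subgroup.le_centralizer_iff.mp h1

end Cfsg.Agent.S2908
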