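import Mathlib
import Cfsg.Statements.S2909
import Cfsg.Agent.S0028
import Cfsg.Agent.S2908
import Cfsg.Agent.Lib.Lead_Coprime
import Cfsg.Agent.Lib.Helper5_WC
import Cfsg.Agent.Lib.Helper5_CharP
import Cfsg.Agent.Lib.Helper5_CharP2
import Cfsg.Agent.Lib.Helper5_CoprimeGen

set_option autoImplicit false
open Cfsg

namespace Cfsg.Agent.S2909

open Cfsg.Agent.Lib.Helper5_WC Cfsg.Agent.Lib.Helper5_CharP Cfsg.Agent.Lib.Helper5_CharP2
open Cfsg.Agent.Lib.Helper5_CoprimeGen
open Subgroup
open scoped commutatorElement

section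
variable {G : Type*} [Group G]

/-- elements of `R` commuting with `U` modulo the normal subgroup `C` -/
def centMod (R U C : Subgroup G) [C.Normal] : Subgroup G :=
  R ⊓ (centralizer ((U.map (QuotientGroup.mk' C) : Subgroup (G ⧸ C)) : Set (G ⧸ C))).comap
    (QuotientGroup.mk' C)

theorem mem_centMod {R U C : Subgroup G} [C.Normal] {r : G} :
    r ∈ centMod R U C ↔ r ∈ R ∧ ∀ v ∈ U, r * v * r⁻¹ * v⁻¹ ∈ C := by
  unfold centMod
  rw [mem_inf, mem_comap, mem_centralizer_iff]
  constructor
  · rintro ⟨hr, h⟩
    refine ⟨hr, fun v hv => ?_⟩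
    have h1 := h (QuotientGroup.mk' C v) ⟨v, hv, rfl⟩
    rw [← QuotientGroup.eq_one_iff]
    have : ((r * v * r⁻¹ * v⁻¹ : G) : G ⧸ C) =
        QuotientGroup.mk' C r * QuotientGroup.mk' C v * (QuotientGroup.mk' C r)⁻¹ *
          (QuotientGroup.mk' C v)⁻¹ := by
      simp
    rw [this, ← h1]
    group
  · rintro ⟨hr, h⟩
    refine ⟨hr, ?_⟩
    rintro _ ⟨v, hv, rfl⟩
    have h1 := h v hv
    rw [← QuotientGroup.eq_one_iff] at h1
    have h2 : QuotientGroup.mk' C r * QuotientGroup.mk' C v * (QuotientGroup.mk' C r)⁻¹ *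
          (QuotientGroup.mk' C v)⁻¹ = 1 := by
      rw [← h1]; simp
    have h3 : QuotientGroup.mk' C r * QuotientGroup.mk' C v =
        QuotientGroup.mk' C v * QuotientGroup.mk' C r := by
      have := mul_inv_eq_one.mp h2
      exact mul_inv_eq_iff_eq_mul.mp this
    exact h3.symm

end

/-- Let p be a prime, E a normal p-subgroup of the finite group G, and U a non-cyclic elementary abelian p-subgroup of G such that either C_E(U) = C_E(u) for every nontrivial u ∈ U, or [E, U] = [E, ⟨u⟩] for every nontrivial u ∈ U. If R is a subgroup of order prime to p normalized by U, then [R, U] centralizes E. -/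
theorem result {G : Type*} [Group G] [Finite G] {p : ℕ} [Fact p.Prime] (E : Subgroup G) [E.Normal] (hE : IsPGroup p ↥E) (U : Subgroup G) (hU : Cfsg.IsElementaryAbelian p U) (hnc : ¬ IsCyclic ↥U) (hcond : (∀ u ∈ U, u ≠ 1 → E ⊓ Subgroup.centralizer (U : Set G) = E ⊓ Subgroup.centralizer ({u} : Set G)) ∨ (∀ u ∈ U, u ≠ 1 → ⁅E, U⁆ = ⁅E, Subgroup.zpowers u⁆)) (R : Subgroup G) (hR : ¬ p ∣ Nat.card ↥R) (hRU : U ≤ Subgroup.normalizer (R : Set G)) : ⁅R, U⁆ ≤ Subgroup.centralizer (E : Set G) := by
  have hp := (Fact.out : p.Prime)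
  have hEn : E.Normal := inferInstance
  obtain ⟨hUc, hUp⟩ := hU
  have hUcomm : ∀ a ∈ U, ∀ b ∈ U, a * b = b * a := by
    intro a ha b hb
    have := hUc.is_comm.comm (⟨a, ha⟩ : U) ⟨b, hb⟩
    exact congrArg Subtype.val this
  have hUpg : IsPGroup p U := by
    intro a
    refine ⟨1, ?_⟩
    apply Subtype.ext
    rw [pow_one, Subgroup.coe_pow, hUp a a.2]
    rfl
  have hEnorm : ∀ X : Subgroup G, X ≤ normalizer (E : Set G) := by
    intro X; rw [normalizer_eq_top]; exact le_top
  set C := centralizer (E : Set G) with hC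
  have hCn : C.Normal := inferInstance
  -- main claim
  have hmain : ∀ e ∈ U, e ≠ 1 → ⁅R ⊓ centralizer {e}, U⁆ ≤ C := by
    intro e heU he1
    set Re := R ⊓ centralizer ({e} : Set G) with hRe
    set Q := ⁅Re, U⁆ with hQ
    have hZe : zpowers e ≤ U := by rw [zpowers_le]; exact heU
    have hURe : U ≤ normalizer (Re : Set G) := by
      intro u hu
      have huc : u ∈ centralizer ({e} : Set G) :=
        mem_centralizer_singleton_iff.mpr (hUcomm u hu e heU)
      apply mem_normalizer_of_forall_conj_mem
      · intro r hr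
        refine ⟨conj_mem_of_mem_normalizer (hRU hu) hr.1, ?_⟩
        exact (centralizer ({e} : Set G)).mul_mem ((centralizer ({e} : Set G)).mul_mem huc hr.2)
          ((centralizer ({e} : Set G)).inv_mem huc)
      · intro r hr
        refine ⟨conj_mem_of_mem_normalizer' (hRU hu) hr.1, ?_⟩
        exact (centralizer ({e} : Set G)).mul_mem ((centralizer ({e} : Set G)).mul_mem
          ((centralizer ({e} : Set G)).inv_mem huc) hr.2) huc
    have hQRe : Q ≤ Re := Cfsg.Agent.Lib.Lead_Coprime.commutator_le_of_le_normalizer Re U hURe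
    have hQcop : (Nat.card Q).Coprime p := by
      have h1 : Nat.card Q ∣ Nat.card R := Subgroup.card_dvd_of_le (hQRe.trans inf_le_left)
      exact (Nat.Coprime.coprime_dvd_right h1 ((Nat.Prime.coprime_iff_not_dvd hp).mpr hR)).symm
    have hZp : IsPGroup p (zpowers e) := hUpg.to_le hZe
    have hZQ : zpowers e ≤ centralizer (Q : Set G) := by
      rw [zpowers_le, mem_centralizer_iff]
      intro q hq
      have := mem_centralizer_singleton_iff.mp (hQRe hq).2
      exact this
    rcases hcond with ha | hb
    · -- case (a)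
      have hE0 : E ⊓ centralizer (U : Set G) = E ⊓ centralizer ({e} : Set G) := ha e heU he1
      set E0 := E ⊓ centralizer (U : Set G) with hE0def
      have hcz : centralizer ((zpowers e : Subgroup G) : Set G) = centralizer ({e} : Set G) := by
        ext c
        rw [mem_centralizer_iff, mem_centralizer_singleton_iff]
        constructor
        · intro h
          exact (h e (mem_zpowers e)).symm
        · intro h z hz
          obtain ⟨k, rfl⟩ := mem_zpowers_iff.mp hz
          have hc : Commute c e := h
          exact (hc.symm.zpow_left k).eq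
      -- Q centralizes E0
      have hQE0 : Q ≤ centralizer (E0 : Set G) := by
        rw [← commutator_eq_bot_iff_le_centralizer]
        apply Subgroup.commutator_commutator_eq_bot_of_rotate
        · -- ⁅⁅U, E0⁆, Re⁆ = ⊥
          have h1 : ⁅U, E0⁆ = ⊥ := by
            rw [commutator_eq_bot_iff_le_centralizer, Subgroup.le_centralizer_iff]
            exact inf_le_right
          rw [h1, Subgroup.commutator_bot_left]
        · -- ⁅⁅E0, Re⁆, U⁆ = ⊥
          have h1 : Re ≤ normalizer (E0 : Set G) := by
            intro r hr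
            have hrc : r ∈ centralizer ({e} : Set G) := hr.2
            apply mem_normalizer_of_forall_conj_mem
            · intro v hv
              rw [hE0] at hv ⊢
              refine ⟨hEn.conj_mem v hv.1 r, ?_⟩
              exact (centralizer ({e} : Set G)).mul_mem ((centralizer ({e} : Set G)).mul_mem hrc hv.2)
                ((centralizer ({e} : Set G)).inv_mem hrc)
            · intro v hv
              rw [hE0] at hv ⊢
              refine ⟨?_, ?_⟩
              · have := hEn.conj_mem v hv.1 r⁻¹
                simpa using this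
              · exact (centralizer ({e} : Set G)).mul_mem ((centralizer ({e} : Set G)).mul_mem
                  ((centralizer ({e} : Set G)).inv_mem hrc) hv.2) hrc
          have h2 : ⁅E0, Re⁆ ≤ E0 :=
            Cfsg.Agent.Lib.Lead_Coprime.commutator_le_of_le_normalizer E0 Re h1
          have h3 : ⁅E0, U⁆ = ⊥ := by
            rw [commutator_eq_bot_iff_le_centralizer]
            exact inf_le_right
          rw [eq_bot_iff, ← h3]
          exact Subgroup.commutator_mono h2 le_rfl
      have hCc : E ⊓ centralizer ((zpowers e : Subgroup G) : Set G) ≤ centralizer (Q : Set G) := by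
        rw [hcz, ← hE0]
        exact Subgroup.le_centralizer_iff.mp hQE0
      exact Cfsg.Agent.S0028.result p (zpowers e) Q E hZp hQcop hE hZQ (hEnorm _) (hEnorm _) hCc
    · -- case (b)
      have hE1 : ⁅E, U⁆ = ⁅E, zpowers e⁆ := hb e heU he1
      set E1 := ⁅E, U⁆ with hE1def
      set L := normalizer (E1 : Set G) with hL
      have hLV : ∀ l ∈ L, ∀ v ∈ E, l * v * l⁻¹ ∈ E := fun l _ v hv => hEn.conj_mem v hv l
      have hLV0 : ∀ l ∈ L, ∀ v ∈ E1, l * v * l⁻¹ ∈ E1 := fun l hl v hv =>
        conj_mem_of_mem_normalizer hl hv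
      set K := actKer L E E1 hLV hLV0 with hK
      have hUL : U ≤ L := Cfsg.Agent.Lib.Lead_Coprime.le_normalizer_commutator_right E U
      have hUK : U ≤ K := by
        intro u hu
        refine ⟨hUL hu, ?_⟩
        intro v hv
        have h1 : ⁅v⁻¹, u⁆ ∈ (⁅E, U⁆ : Subgroup G) :=
          Subgroup.commutator_mem_commutator (E.inv_mem hv) hu
        have e1 : v⁻¹ * (u * v * u⁻¹) = ⁅v⁻¹, u⁆ := by
          rw [commutatorElement_def]; group
        rw [e1]; exact h1
      have hReL : Re ≤ L := by
        rw [hL, hE1]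
        apply Cfsg.Agent.Lib.Lead_Coprime.le_normalizer_commutator Re E (zpowers e) (hEnorm _)
        intro r hr
        have hrc := mem_centralizer_singleton_iff.mp hr.2
        apply mem_normalizer_of_cj_le
        rw [cj, MonoidHom.map_zpowers, zpowers_le]
        have : (MulAut.conj r).toMonoidHom e = e := by
          show r * e * r⁻¹ = e
          rw [hrc, mul_inv_cancel_right]
        rw [this]
        exact mem_zpowers e
      have hLK : L ≤ normalizer (K : Set G) := le_normalizer_actKer hLV hLV0
      have hQK : Q ≤ K := by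
        have h1 : ⁅Re, U⁆ ≤ ⁅L, K⁆ := Subgroup.commutator_mono hReL hUK
        have h2 : ⁅K, L⁆ ≤ K :=
          Cfsg.Agent.Lib.Lead_Coprime.commutator_le_of_le_normalizer K L hLK
        rw [Subgroup.commutator_comm] at h2
        exact h1.trans h2
      have hEQ : ⁅E, Q⁆ ≤ ⁅E, zpowers e⁆ := by
        rw [← hE1, Subgroup.commutator_le]
        intro v hv q hq
        have h1 := (hQK hq).2 v⁻¹ (E.inv_mem hv)
        have e1 : ⁅v, q⁆ = v * (q * v⁻¹ * q⁻¹) := by
          rw [commutatorElement_def]; group
        rw [e1]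
        simpa using h1
      have hAB : ⁅zpowers e, Q⁆ = ⊥ := by
        rw [commutator_eq_bot_iff_le_centralizer]; exact hZQ
      have hnd : ¬ p ∣ Nat.card Q := fun h => by
        have := Nat.dvd_gcd h (dvd_refl p)
        rw [hQcop] at this
        exact hp.one_lt.ne' (Nat.dvd_one.mp this)
      have := Cfsg.Agent.S2908.result E (zpowers e) Q hE hZp hnd (hEnorm _) (hEnorm _) hAB hEQ
      rw [commutator_eq_bot_iff_le_centralizer] at this
      exact Subgroup.le_centralizer_iff.mp this
  -- generation
  haveI : IsMulCommutative U := hUc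
  obtain ⟨q, hq, x, u, hxU, huU, hxu, hx, hu, hx1, hux⟩ := exists_rank_two U hnc
  have hqp := hq.out
  have hu1 : u ≠ 1 := by
    intro h; apply hux; rw [h]; exact Subgroup.one_mem _
  have hqeq : q = p := by
    have hordx : orderOf x = q := by
      have := orderOf_dvd_of_pow_eq_one hx
      rcases (Nat.dvd_prime hqp).mp this with h1 | h1
      · exact absurd (orderOf_eq_one_iff.mp h1) hx1
      · exact h1
    have h2 : orderOf x ∣ p := orderOf_dvd_of_pow_eq_one (hUp x hxU)
    rw [hordx] at h2
    exact (Nat.prime_dvd_prime_iff_eq hqp hp).mp h2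
  subst hqeq
  have hcop : (Nat.card U).Coprime (Nat.card R) := by
    obtain ⟨k, hk⟩ := hUpg.exists_card_eq
    rw [hk]
    exact Nat.Coprime.pow_left k ((Nat.Prime.coprime_iff_not_dvd hp).mpr hR)
  have hsolv : IsSolvable U := by
    apply isSolvable_of_comm
    intro a b
    exact hUc.is_comm.comm a b
  have hRstar : R ≤ centMod R U C := by
    apply gen_of_rank_two U R hRU hcop (Or.inl hsolv) q hR x u hxU huU hxu hx hu
    · intro j r hr
      rw [mem_centMod]
      refine ⟨hr.1, fun v hv => ?_⟩
      have h1 : ⁅r, v⁆ ∈ (⁅R ⊓ centralizer {x * u ^ j}, U⁆ : Subgroup G) :=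
        Subgroup.commutator_mem_commutator hr hv
      have := hmain (x * u ^ j) (U.mul_mem hxU (U.pow_mem huU j))
        (mul_pow_ne_one q x u hx hu hx1 hux j) h1
      rwa [commutatorElement_def] at this
    · intro i hi0 hiq r hr
      rw [mem_centMod]
      refine ⟨hr.1, fun v hv => ?_⟩
      have h1 : ⁅r, v⁆ ∈ (⁅R ⊓ centralizer {u ^ i}, U⁆ : Subgroup G) :=
        Subgroup.commutator_mem_commutator hr hv
      have := hmain (u ^ i) (U.pow_mem huU i) (pow_ne_one_of_lt q u hu hu1 i hi0 hiq) h1
      rwa [commutatorElement_def] at this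
  rw [Subgroup.commutator_le]
  intro r hr v hv
  have := (mem_centMod.mp (hRstar hr)).2 v hv
  rwa [commutatorElement_def]

end Cfsg.Agent.S2909
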