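import Cfsg.Statements.S2910
import Mathlib
import Cfsg.Agent.S0071
import Cfsg.Agent.Lib.Helper8_Omega

set_option autoImplicit false
open Cfsg

namespace Cfsg.Agent.S2910

/-- Let p be an odd prime dividing the order of the finite group G and P a Sylow p-subgroup of G. If Ω₁(P) (generated by the elements of order dividing p) is contained in the centre of G, then G has a normal p-complement. In particular, if G is quasisimple then Ω₁(P) is not central in G. -/
theorem result {G : Type*} [Group G] [Finite G] {p : ℕ} [Fact p.Prime] (hp : p ≠ 2) (hdiv : p ∣ Nat.card G) (P : Sylow p G) (hZ : Cfsg.omegaOne p (P : Subgroup G) ≤ Subgroup.center G) : Cfsg.HasNormalPComplement p G ∧ ¬ Cfsg.IsQuasisimple G := by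
  classical
  have hcompl : ∃ N : Subgroup G, N.Normal ∧ N.IsComplement' (P : Subgroup G) := by
    rw [Cfsg.Agent.S0071.result P]
    intro Q hQP g hg hcop
    set a : MulAut Q := Q.normalizerMonoidHom ⟨g, hg⟩ with ha
    have haord : Nat.Coprime (orderOf a) p := by
      have h1 : orderOf a ∣ orderOf (⟨g, hg⟩ : Subgroup.normalizer (Q : Set G)) := orderOf_map_dvd _ _
      rw [Subgroup.orderOf_mk] at h1
      exact Nat.Coprime.coprime_dvd_left h1 hcop
    have hQp : IsPGroup p Q := P.isPGroup'.to_le hQP
    have hfix : ∀ x : Q, (x ^ p = 1 ∨ (p = 2 ∧ x ^ 4 = 1)) → a x = x := by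
      intro x hx
      rcases hx with hx | ⟨h2, -⟩
      · have hx' : (x : G) ^ p = 1 := by
          have := congrArg Subtype.val hx
          simpa using this
        have hxΩ : (x : G) ∈ Cfsg.omegaOne p (P : Subgroup G) :=
          Subgroup.subset_closure ⟨hQP x.2, hx'⟩
        have hxZ := hZ hxΩ
        rw [Subgroup.mem_center_iff] at hxZ
        apply Subtype.ext
        rw [ha, Subgroup.normalizerMonoidHom_apply_apply_coe]
        rw [hxZ g, mul_inv_cancel_right]
      · exact absurd h2 hp
    have ha1 := Cfsg.Agent.Lib.Helper8_Omega.omega_mulAut hQp a haord hfix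
    rw [Subgroup.mem_centralizer_iff]
    intro x hx
    have := congrArg (fun f : MulAut Q => ((f ⟨x, hx⟩ : Q) : G)) ha1
    simp only [ha, Subgroup.normalizerMonoidHom_apply_apply_coe, MulAut.one_apply] at this
    calc x * g = (g * x * g⁻¹) * g := by rw [this]
      _ = g * x := by group
  obtain ⟨N, hNn, hNc⟩ := hcompl
  refine ⟨⟨P, N, hNn, hNc⟩, ?_⟩
  rintro ⟨hperf, -⟩
  haveI := hNn
  haveI := hperf
  have e : G ⧸ N ≃* (P : Subgroup G) := hNc.symm.QuotientMulEquiv
  haveI : Group.IsPerfect (G ⧸ N) := inferInstance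
  have hPnil : Group.IsNilpotent (P : Subgroup G) := P.isPGroup'.isNilpotent
  haveI : Group.IsNilpotent (G ⧸ N) := by
    exact Group.nilpotent_of_mulEquiv e.symm
  haveI : Nontrivial (G ⧸ N) := by
    have hPne : (P : Subgroup G) ≠ ⊥ := P.ne_bot_of_dvd_card hdiv
    have : Nontrivial (P : Subgroup G) := (Subgroup.nontrivial_iff_ne_bot _).mpr hPne
    exact e.toEquiv.nontrivial
  exact Group.IsPerfect.not_isNilpotent (G := G ⧸ N) inferInstance

end Cfsg.Agent.S2910
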