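import Cfsg.Statements.S2911
import Mathlib
import Cfsg.Agent.Lib.Helper5_ThompsonExt

set_option autoImplicit false
open Cfsg

namespace Cfsg.Agent.S2911

open Subgroup

/-- The model group `C₂ × D₈`. -/
abbrev W := Multiplicative (ZMod 2) × DihedralGroup 4

def cW : W := (Multiplicative.ofAdd 1, 1)
def zW : W := (1, DihedralGroup.r 2)
def wW : W := (1, DihedralGroup.r 1)

theorem f1 : ∀ y : W, cW * y = y * cW := by decide
theorem f2 : ∀ x : W, x ^ 2 = 1 ∨ x ^ 2 = zW := by decide
theorem f3 : ∀ x : W, x.1 = 1 → (∀ y : W, x * y = y * x) → x = 1 ∨ x = zW := by decide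
theorem f4 : wW ^ 2 = zW := by decide
theorem f5 : cW ≠ zW ∧ zW ≠ 1 ∧ cW ≠ 1 ∧ cW ^ 2 = 1 ∧ ∀ y : W, zW * y = y * zW := by decide

section Main

variable {G : Type*} [Group G] [Finite G]

theorem no_index_two_false (S : Sylow 2 G) (e : ↥(S : Subgroup G) ≃* W)
    (hno : ∀ M : Subgroup G, M.Normal → M.index ≠ 2) : False := by
  haveI : Fact (Nat.Prime 2) := ⟨Nat.prime_two⟩
  obtain ⟨hcz, hz1, hc1, hc2, hzcen⟩ := f5
  set c : ↥(S : Subgroup G) := e.symm cW with hc
  set z : ↥(S : Subgroup G) := e.symm zW with hz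
  set w : ↥(S : Subgroup G) := e.symm wW with hw
  have hec : e c = cW := by rw [hc, MulEquiv.apply_symm_apply]
  have hez : e z = zW := by rw [hz, MulEquiv.apply_symm_apply]
  -- transported facts
  have hccen : ∀ y : ↥(S : Subgroup G), c * y = y * c := by
    intro y
    apply e.injective
    rw [map_mul, map_mul, hec]; exact f1 (e y)
  have hzcen' : ∀ y : ↥(S : Subgroup G), z * y = y * z := by
    intro y
    apply e.injective
    rw [map_mul, map_mul, hez]; exact hzcen (e y)
  have hsq : ∀ y : ↥(S : Subgroup G), y ^ 2 = 1 ∨ y ^ 2 = z := by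
    intro y
    rcases f2 (e y) with h | h
    · left; apply e.injective; rw [map_pow, h, map_one]
    · right; apply e.injective; rw [map_pow, h, hez]
  have hw2 : w ^ 2 = z := by
    apply e.injective; rw [map_pow, hw, MulEquiv.apply_symm_apply, f4, hez]
  have hcne : c ≠ z := by
    intro h; apply hcz; rw [← hec, ← hez, h]
  have hzne : z ≠ 1 := by
    intro h; apply hz1; rw [← hez, h, map_one]
  have hcne1 : c ≠ 1 := by
    intro h; apply hc1; rw [← hec, h, map_one]
  have hcsq : c ^ 2 = 1 := by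
    apply e.injective; rw [map_pow, hec, hc2, map_one]
  have hcord : orderOf (c : G) = 2 := by
    rw [Subgroup.orderOf_coe]
    exact orderOf_eq_prime hcsq hcne1
  -- the index two subgroup Q
  set f : ↥(S : Subgroup G) →* Multiplicative (ZMod 2) :=
    (MonoidHom.fst _ _).comp e.toMonoidHom with hf
  have hfsurj : Function.Surjective f := by
    intro a
    refine ⟨e.symm (a, 1), ?_⟩
    simp [hf]
  set Q : Subgroup G := f.ker.map (S : Subgroup G).subtype with hQ
  have hQS : Q ≤ (S : Subgroup G) := Subgroup.map_subtype_le _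
  have hQi : Q.relIndex (S : Subgroup G) = 2 := by
    show (Q.subgroupOf (S : Subgroup G)).index = 2
    have h0 : Q.subgroupOf (S : Subgroup G) = f.ker := by
      rw [hQ, ← Subgroup.comap_subtype]
      exact Subgroup.comap_map_eq_self_of_injective (Subgroup.subtype_injective _) _
    rw [h0, Subgroup.index_ker, MonoidHom.range_eq_top.mpr hfsurj, Subgroup.card_top]
    simp
  have hmemQ : ∀ y : ↥(S : Subgroup G), (y : G) ∈ Q ↔ (e y).1 = 1 := by
    intro y
    rw [hQ, Subgroup.mem_map]
    constructor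
    · rintro ⟨y', hy', hyy⟩
      have : y' = y := Subtype.ext hyy
      rw [← this]; exact hy'
    · intro h
      exact ⟨y, h, rfl⟩
  -- Thompson transfer
  obtain ⟨g, hgQ, T, hTS, hTC, hTmax⟩ :=
    Cfsg.Agent.Lib.Helper5_ThompsonExt.thompson_extremal S Q hQi (c : G) hcord
      (fun M hM hi => absurd hi (hno M hM))
  set v := g * (c : G) * g⁻¹ with hv
  -- the conjugate Sylow subgroup centralizes v
  have hR : ((g • S : Sylow 2 G) : Subgroup G) ≤ centralizer {v} := by
    intro x hx
    rw [Sylow.coe_subgroup_smul, Subgroup.mem_pointwise_smul_iff_inv_smul_mem] at hx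
    simp only [MulAut.smul_def, map_inv, MulAut.conj_inv_apply] at hx
    have h1 := hccen ⟨g⁻¹ * x * g, hx⟩
    have h2 : (c : G) * (g⁻¹ * x * g) = (g⁻¹ * x * g) * (c : G) := congrArg Subtype.val h1
    rw [Subgroup.mem_centralizer_iff]
    intro y hy
    rw [Set.mem_singleton_iff] at hy
    subst hy
    rw [hv]
    calc g * (c : G) * g⁻¹ * x = g * ((c : G) * (g⁻¹ * x * g)) * g⁻¹ := by group
      _ = g * ((g⁻¹ * x * g) * (c : G)) * g⁻¹ := by rw [h2]
      _ = x * (g * (c : G) * g⁻¹) := by group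
  have hcard : Nat.card ((g • S : Sylow 2 G) : Subgroup G) = Nat.card (S : Subgroup G) := by
    exact (Nat.card_congr (S.equivSMul g).toEquiv).symm
  have hTcard : Nat.card (S : Subgroup G) ≤ Nat.card T := by
    rw [← hcard]
    exact hTmax _ (g • S : Sylow 2 G).isPGroup' hR
  have hTeq : T = (S : Subgroup G) := by
    apply Subgroup.eq_of_le_of_card_ge hTS hTcard
  -- v is central in S and in Q
  have hvS : v ∈ (S : Subgroup G) := hQS hgQ
  have hvcen : ∀ y : ↥(S : Subgroup G), (⟨v, hvS⟩ : ↥(S : Subgroup G)) * y = y * ⟨v, hvS⟩ := by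
    intro y
    have h1 : (y : G) ∈ centralizer {v} := hTC (hTeq ▸ y.2)
    rw [Subgroup.mem_centralizer_iff] at h1
    have := h1 v rfl
    exact Subtype.ext this
  have hvz : (⟨v, hvS⟩ : ↥(S : Subgroup G)) = z := by
    have h1 : (e ⟨v, hvS⟩).1 = 1 := (hmemQ ⟨v, hvS⟩).mp hgQ
    have h2 : ∀ y : W, e ⟨v, hvS⟩ * y = y * e ⟨v, hvS⟩ := by
      intro y
      have := hvcen (e.symm y)
      have h3 := congrArg e this
      rw [map_mul, map_mul, MulEquiv.apply_symm_apply] at h3
      exact h3
    rcases f3 _ h1 h2 with h | h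
    · exfalso
      have h4 : (⟨v, hvS⟩ : ↥(S : Subgroup G)) = 1 := by
        apply e.injective; rw [h, map_one]
      have h5 : v = 1 := congrArg Subtype.val h4
      apply hcne1
      apply Subtype.ext
      have : (c : G) = g⁻¹ * v * g := by rw [hv]; group
      rw [this, h5]; simp
    · apply e.injective; rw [h, hez]
  have hvz' : v = (z : G) := congrArg Subtype.val hvz
  -- Burnside
  have hcC : (c : G) ∈ centralizer ((S : Subgroup G) : Set G) := by
    rw [Subgroup.mem_centralizer_iff]
    intro y hy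
    have := hccen ⟨y, hy⟩
    exact (congrArg Subtype.val this).symm
  have hzC : (z : G) ∈ centralizer ((S : Subgroup G) : Set G) := by
    rw [Subgroup.mem_centralizer_iff]
    intro y hy
    have := hzcen' ⟨y, hy⟩
    exact (congrArg Subtype.val this).symm
  have hy' : (g⁻¹)⁻¹ * (c : G) * g⁻¹ ∈ centralizer ((S : Subgroup G) : Set G) := by
    rw [inv_inv, ← hv, hvz']; exact hzC
  obtain ⟨n, hn, hnc⟩ := S.conj_eq_normalizer_conj_of_mem_centralizer (c : G) g⁻¹ hcC hy'
  rw [inv_inv, ← hv, hvz'] at hnc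
  -- n⁻¹ normalizes S, so fixes z
  have hninv : n⁻¹ ∈ normalizer ((S : Subgroup G) : Set G) := inv_mem hn
  have hwS : n⁻¹ * (w : G) * n⁻¹⁻¹ ∈ (S : Subgroup G) :=
    (mem_normalizer_iff.mp hninv (w : G)).mp w.2
  have h6 : (n⁻¹ * (w : G) * n⁻¹⁻¹) ^ 2 = n⁻¹ * (z : G) * n := by
    rw [conj_pow, inv_inv]
    congr 2
    have := congrArg Subtype.val hw2
    simpa using this
  have h7 : n⁻¹ * (z : G) * n = (z : G) := by
    rcases hsq ⟨_, hwS⟩ with h | h
    · exfalso
      have h8 : (n⁻¹ * (w : G) * n⁻¹⁻¹) ^ 2 = 1 := by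
        have := congrArg Subtype.val h
        simpa using this
      rw [h6] at h8
      apply hzne
      apply Subtype.ext
      have : (z : G) = n * (n⁻¹ * (z : G) * n) * n⁻¹ := by group
      rw [this, h8]; simp
    · have h8 : (n⁻¹ * (w : G) * n⁻¹⁻¹) ^ 2 = (z : G) := by
        have := congrArg Subtype.val h
        simpa using this
      rw [← h6, h8]
  -- so c = z
  apply hcne
  apply Subtype.ext
  have h9 : n⁻¹ * (c : G) * n = n⁻¹ * (z : G) * n := by rw [← hnc, h7]
  have := mul_left_cancel (mul_right_cancel h9)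
  exact this

end Main

/-- If a Sylow 2-subgroup of a finite group G is isomorphic to C₂ × D₈, then G has a subgroup of index 2. -/
theorem result {G : Type*} [Group G] [Finite G] (S : Sylow 2 G) (hS : Nonempty (↥(S : Subgroup G) ≃* Multiplicative (ZMod 2) × DihedralGroup 4)) : ∃ H : Subgroup G, H.index = 2 := by
  by_contra hcon
  push_neg at hcon
  obtain ⟨e⟩ := hS
  exact no_index_two_false S e (fun M _ => hcon M)

end Cfsg.Agent.S2911
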