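import Cfsg.Statements.S2925
import Cfsg.Agent.Lib.Helper3_LStar

set_option autoImplicit false
open Cfsg

namespace Cfsg.Agent.S2925

/-- Let K be a component of the finite group X and T a Sylow 2-subgroup of X. If some abelian normal subgroup Y of T does not normalize K, then K ⧸ Z(K) has abelian Sylow 2-subgroups. -/
theorem result {X : Type*} [Group X] [Finite X] (K : Subgroup X) (hK : Cfsg.IsComponent K) (T : Sylow 2 X) (Y : Subgroup X) (hYT : Y ≤ (T : Subgroup X)) (hYn : (Y.subgroupOf (T : Subgroup X)).Normal) (hYab : IsMulCommutative ↥Y) (hnot : ¬ Y ≤ Subgroup.normalizer (K : Set X)) (P : Sylow 2 (↥K ⧸ Subgroup.center ↥K)) : IsMulCommutative ↥(P : Subgroup (↥K ⧸ Subgroup.center ↥K)) := by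
  classical
  haveI : Fact (Nat.Prime 2) := ⟨Nat.prime_two⟩
  -- an element of `Y` moving `K`
  obtain ⟨y, hyY, hyN⟩ : ∃ y ∈ Y, y ∉ Subgroup.normalizer (K : Set X) := by
    by_contra hcon
    push Not at hcon
    exact hnot hcon
  set K' := K.map (MulAut.conj y).toMonoidHom with hK'
  have hK'c : Cfsg.IsComponent K' := Cfsg.Agent.S1265.component_conj K hK y
  have hne : K ≠ K' := by
    intro h
    apply hyN
    rw [Subgroup.mem_normalizer_iff_map_conj_eq]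
    exact h.symm
  have hcomm := Cfsg.Agent.Lib.Helper3_Components.components_commute K K' hK hK'c hne
  have hc : ∀ a ∈ K, ∀ b ∈ K', a * b = b * a := fun a ha b hb =>
    Cfsg.Agent.Lib.Helper3_Components.commute_of_commutator_eq_bot hcomm ha hb
  have hYc : ∀ u ∈ Y, ∀ v ∈ Y, u * v = v * u := by
    intro u hu v hv
    have := hYab.is_comm.comm (⟨u, hu⟩ : ↥Y) ⟨v, hv⟩
    exact congrArg Subtype.val this
  have hYconj : ∀ s ∈ (T : Subgroup X), ∀ u ∈ Y, s * u * s⁻¹ ∈ Y := by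
    intro s hs u hu
    have := hYn.conj_mem ⟨u, hYT hu⟩ (Subgroup.mem_subgroupOf.mpr hu) ⟨s, hs⟩
    exact Subgroup.mem_subgroupOf.mp this
  -- key computation
  have hkey : ∀ s1 ∈ (T : Subgroup X) ⊓ K, ∀ s2 ∈ (T : Subgroup X) ⊓ K,
      ∀ k ∈ K, (s1 * s2 * s1⁻¹ * s2⁻¹) * k = k * (s1 * s2 * s1⁻¹ * s2⁻¹) := by
    intro s1 hs1 s2 hs2 k hk
    have hu1 : s1⁻¹ * y * s1 * y⁻¹ ∈ Y := by
      have := hYconj s1⁻¹ ((T : Subgroup X).inv_mem hs1.1) y hyY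
      rw [inv_inv] at this
      exact Y.mul_mem this (Y.inv_mem hyY)
    have hu2 : s2⁻¹ * y * s2 * y⁻¹ ∈ Y := by
      have := hYconj s2⁻¹ ((T : Subgroup X).inv_mem hs2.1) y hyY
      rw [inv_inv] at this
      exact Y.mul_mem this (Y.inv_mem hyY)
    have h1 := hYc _ hu1 _ hu2
    have hc1 : y * s1 * y⁻¹ ∈ K' := ⟨s1, hs1.2, rfl⟩
    have hc2 : y * s2 * y⁻¹ ∈ K' := ⟨s2, hs2.2, rfl⟩
    have e1 : s1⁻¹ * y * s1 * y⁻¹ * (s2⁻¹ * y * s2 * y⁻¹) =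
        s1⁻¹ * s2⁻¹ * (y * (s1 * s2) * y⁻¹) := by
      have := hc s2⁻¹ (K.inv_mem hs2.2) _ hc1
      calc s1⁻¹ * y * s1 * y⁻¹ * (s2⁻¹ * y * s2 * y⁻¹)
          = s1⁻¹ * ((y * s1 * y⁻¹) * s2⁻¹) * (y * s2 * y⁻¹) := by group
        _ = s1⁻¹ * (s2⁻¹ * (y * s1 * y⁻¹)) * (y * s2 * y⁻¹) := by rw [this]
        _ = s1⁻¹ * s2⁻¹ * (y * (s1 * s2) * y⁻¹) := by group
    have e2 : s2⁻¹ * y * s2 * y⁻¹ * (s1⁻¹ * y * s1 * y⁻¹) =
        s2⁻¹ * s1⁻¹ * (y * (s2 * s1) * y⁻¹) := by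
      have := hc s1⁻¹ (K.inv_mem hs1.2) _ hc2
      calc s2⁻¹ * y * s2 * y⁻¹ * (s1⁻¹ * y * s1 * y⁻¹)
          = s2⁻¹ * ((y * s2 * y⁻¹) * s1⁻¹) * (y * s1 * y⁻¹) := by group
        _ = s2⁻¹ * (s1⁻¹ * (y * s2 * y⁻¹)) * (y * s1 * y⁻¹) := by rw [this]
        _ = s2⁻¹ * s1⁻¹ * (y * (s2 * s1) * y⁻¹) := by group
    rw [e1, e2] at h1
    have e3 : s1 * s2 * s1⁻¹ * s2⁻¹ = y * ((s2 * s1) * (s1 * s2)⁻¹) * y⁻¹ := by
      have h2 : (s1 * s2) * (s1⁻¹ * s2⁻¹ * (y * (s1 * s2) * y⁻¹)) * (y * (s1 * s2) * y⁻¹)⁻¹ =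
        (s1 * s2) * (s2⁻¹ * s1⁻¹ * (y * (s2 * s1) * y⁻¹)) * (y * (s1 * s2) * y⁻¹)⁻¹ := by rw [h1]
      calc s1 * s2 * s1⁻¹ * s2⁻¹
          = (s1 * s2) * (s1⁻¹ * s2⁻¹ * (y * (s1 * s2) * y⁻¹)) * (y * (s1 * s2) * y⁻¹)⁻¹ := by group
        _ = (s1 * s2) * (s2⁻¹ * s1⁻¹ * (y * (s2 * s1) * y⁻¹)) * (y * (s1 * s2) * y⁻¹)⁻¹ := h2
        _ = y * ((s2 * s1) * (s1 * s2)⁻¹) * y⁻¹ := by group
    have hz : s1 * s2 * s1⁻¹ * s2⁻¹ ∈ K' := by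
      rw [e3]
      exact ⟨_, K.mul_mem (K.mul_mem hs2.2 hs1.2) (K.inv_mem (K.mul_mem hs1.2 hs2.2)), rfl⟩
    exact (hc k hk _ hz).symm
  -- a commutative Sylow 2-subgroup of `K / Z(K)`
  have hidx : ¬ 2 ∣ (T : Subgroup X).relIndex K :=
    Cfsg.Agent.Lib.Helper3_LStar.not_dvd_relIndex_of_subnormal T K hK.1
  let S0 : Sylow 2 ↥K := IsPGroup.toSylow (P := (T : Subgroup X).subgroupOf K)
    (IsPGroup.comap_subtype T.isPGroup' (K := K)) hidx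
  have hS0 : ∀ s : ↥K, s ∈ (S0 : Subgroup ↥K) → (s : X) ∈ (T : Subgroup X) ⊓ K := by
    intro s hs
    exact ⟨Subgroup.mem_subgroupOf.mp hs, s.2⟩
  let P0 : Sylow 2 (↥K ⧸ Subgroup.center ↥K) :=
    S0.mapSurjective (QuotientGroup.mk'_surjective (Subgroup.center ↥K))
  have hP0 : ∀ a ∈ (P0 : Subgroup (↥K ⧸ Subgroup.center ↥K)),
      ∀ b ∈ (P0 : Subgroup (↥K ⧸ Subgroup.center ↥K)), a * b = b * a := by
    rintro _ ⟨s1, hs1, rfl⟩ _ ⟨s2, hs2, rfl⟩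
    show QuotientGroup.mk' (Subgroup.center ↥K) s1 * QuotientGroup.mk' (Subgroup.center ↥K) s2 =
      QuotientGroup.mk' (Subgroup.center ↥K) s2 * QuotientGroup.mk' (Subgroup.center ↥K) s1
    rw [← map_mul, ← map_mul]
    show (QuotientGroup.mk (s1 * s2) : ↥K ⧸ Subgroup.center ↥K) = QuotientGroup.mk (s2 * s1)
    rw [QuotientGroup.eq, Subgroup.mem_center_iff]
    intro k
    have h1 := hkey _ (hS0 _ (Subgroup.inv_mem _ hs2)) _ (hS0 _ (Subgroup.inv_mem _ hs1)) k k.2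
    apply Subtype.ext
    have e : (((s1 * s2)⁻¹ * (s2 * s1) : ↥K) : X) =
        (↑(s2⁻¹) : X) * ↑(s1⁻¹) * (↑(s2⁻¹) : X)⁻¹ * (↑(s1⁻¹) : X)⁻¹ := by
      simp only [Subgroup.coe_mul, Subgroup.coe_inv, mul_inv_rev, inv_inv]
      group
    simp only [Subgroup.coe_mul] at e ⊢
    rw [e]
    exact h1.symm
  obtain ⟨g, hg⟩ := MulAction.exists_smul_eq (↥K ⧸ Subgroup.center ↥K) P0 P
  subst hg
  refine ⟨⟨fun a b => ?_⟩⟩
  have ha : (a : ↥K ⧸ Subgroup.center ↥K) ∈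
      ((g • P0 : Sylow 2 (↥K ⧸ Subgroup.center ↥K)) : Set (↥K ⧸ Subgroup.center ↥K)) := a.2
  have hb : (b : ↥K ⧸ Subgroup.center ↥K) ∈
      ((g • P0 : Sylow 2 (↥K ⧸ Subgroup.center ↥K)) : Set (↥K ⧸ Subgroup.center ↥K)) := b.2
  rw [Sylow.coe_smul] at ha hb
  obtain ⟨a0, ha0, haa⟩ := ha
  obtain ⟨b0, hb0, hbb⟩ := hb
  apply Subtype.ext
  show (a : ↥K ⧸ Subgroup.center ↥K) * b = b * a
  rw [← haa, ← hbb]
  show (MulAut.conj g) a0 * (MulAut.conj g) b0 = (MulAut.conj g) b0 * (MulAut.conj g) a0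
  rw [← map_mul, ← map_mul, hP0 a0 ha0 b0 hb0]

end Cfsg.Agent.S2925
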