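import Mathlib
import Cfsg.Statements.S2955
import Cfsg.Agent.Lib.Helper5_Sylow
import Cfsg.Agent.Lib.Helper5_SylowChain
import Cfsg.Agent.Lib.Helper5_WC

set_option autoImplicit false
open Cfsg

namespace Cfsg.Agent.S2955

open Cfsg.Agent.Lib.Helper5_Sylow Cfsg.Agent.Lib.Helper5_SylowChain Cfsg.Agent.Lib.Helper5_WC
open Subgroup

variable {G : Type*} [Group G] [Finite G] {p : ℕ} [Fact p.Prime]

/-- transport of `sylowMembers` under conjugation -/
theorem conj_sylowMember {𝓕 : Set (Subgroup G)} (h𝓕 : Cfsg.IsNormalSet 𝓕) {S X : Subgroup G} {k : G}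
    (hX : X ∈ Cfsg.sylowMembers p 𝓕 (cj k S)) :
    cj k⁻¹ X ∈ Cfsg.sylowMembers p 𝓕 S := by
  obtain ⟨hXF, P, hP⟩ := hX
  refine ⟨h𝓕 X hXF k, ?_⟩
  set X' := cj k⁻¹ X with hX'
  have h1 : S ⊓ X' = cj k⁻¹ (cj k S ⊓ X) := by
    rw [cj, Subgroup.map_inf _ _ _ (MulAut.conj k⁻¹).injective]
    show _ = cj k⁻¹ (cj k S) ⊓ cj k⁻¹ X
    rw [cj_cj, inv_mul_cancel, cj_one]
  have hcard : Nat.card ↥((S ⊓ X').subgroupOf X') = p ^ (Nat.card ↥X').factorization p := by
    rw [Nat.card_congr (Subgroup.subgroupOfEquivOfLe (inf_le_right : S ⊓ X' ≤ X')).toEquiv, h1,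
      card_map_conj, ← hP, Subgroup.card_map_of_injective X.subtype_injective,
      P.card_eq_multiplicity, hX', card_map_conj]
  refine ⟨Sylow.ofCard _ hcard, ?_⟩
  rw [Sylow.coe_ofCard, subgroupOf_map_subtype, inf_assoc, inf_idem]

/-- Let p be a prime dividing the order of the finite group G and 𝓕 a conjugation-closed family of subgroups that controls Sylow p-intersections in G. Suppose the Sylow p-subgroups of G are chain-connected: any two of them are joined by a chain of Sylow p-subgroups, consecutive ones distinct with nontrivial intersection, all containing the intersection of the two ends (equivalently, the graph on the Sylow p-subgroups whose edges are the distinct pairs meeting nontrivially is connected). Then for every Sylow p-subgroup S, G is generated by N_G(S) together with the members of 𝓕 that meet S in a Sylow p-subgroup of themselves. -/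
theorem result {G : Type*} [Group G] [Finite G] (p : ℕ) [Fact p.Prime] (hdiv : p ∣ Nat.card G)
    (𝓕 : Set (Subgroup G)) (h𝓕 : Cfsg.IsNormalSet 𝓕) (hc : Cfsg.ControlsSylowIntersections p 𝓕)
    (hconn : Cfsg.IsSylowChainConnected p G) (S : Sylow p G) :
    (⨆ X ∈ Cfsg.sylowMembers p 𝓕 (S : Subgroup G), X) ⊔ Subgroup.normalizer ((S : Subgroup G) : Set G) = ⊤ := by
  set K := (⨆ X ∈ Cfsg.sylowMembers p 𝓕 (S : Subgroup G), X) ⊔
    Subgroup.normalizer ((S : Subgroup G) : Set G) with hK
  have hmemK : ∀ X ∈ Cfsg.sylowMembers p 𝓕 (S : Subgroup G), X ≤ K := by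
    intro X hX
    exact le_trans (le_iSup₂ (f := fun X (_ : X ∈ Cfsg.sylowMembers p 𝓕 (S : Subgroup G)) => X) X hX)
      le_sup_left
  have hNK : Subgroup.normalizer ((S : Subgroup G) : Set G) ≤ K := le_sup_right
  -- the predicate
  let Q : Sylow p G → Prop := fun T => ∃ k ∈ K, (T : Subgroup G) = cj k (S : Subgroup G)
  have hQS : Q S := ⟨1, K.one_mem, (cj_one _).symm⟩
  have hstep : ∀ T T' : Sylow p G, Q T → E T T' → Q T' := by
    intro T T' hQT hE
    obtain ⟨n, c, X, x, h0, hl, hst⟩ := hc T T' hE.1 hE.2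
    have hall : ∀ i : Fin (n + 1), Q (c i) := by
      intro i
      induction i using Fin.induction with
      | zero => rw [h0]; exact hQT
      | succ i ih =>
        obtain ⟨k, hk, hck⟩ := ih
        obtain ⟨hX1, _, hxX, hconj, _⟩ := hst i
        rw [hck] at hX1
        have hX' := conj_sylowMember h𝓕 hX1
        have hx'K : k⁻¹ * x i * k ∈ K := by
          apply hmemK _ hX'
          have := conj_mem_cj (g := k⁻¹) hxX
          rwa [inv_inv] at this
        refine ⟨k * (k⁻¹ * x i * k), K.mul_mem hk hx'K, ?_⟩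
        have h2 : cj (x i)⁻¹ (c i.succ : Subgroup G) = (c i.castSucc : Subgroup G) := hconj
        rw [cj_eq_iff, inv_inv, hck, cj_cj] at h2
        rw [h2]
        congr 1
        group
    rw [← hl]
    exact hall (Fin.last n)
  have hallQ : ∀ T : Sylow p G, Q T := by
    intro T
    have hR : R S T := (isSylowChainConnected_iff.mp hconn) S T
    induction hR with
    | refl => exact hQS
    | tail _ hE ih => exact hstep _ _ ih hE
  rw [eq_top_iff]
  intro g _
  obtain ⟨k, hk, hgk⟩ := hallQ (g • S)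
  have h1 : cj g (S : Subgroup G) = cj k (S : Subgroup G) := hgk
  have h2 : k⁻¹ * g ∈ Subgroup.normalizer ((S : Subgroup G) : Set G) := by
    apply mem_normalizer_of_cj_eq
    rw [← cj_cj, h1, cj_cj, inv_mul_cancel, cj_one]
  have : g = k * (k⁻¹ * g) := by group
  rw [this]
  exact K.mul_mem hk (hNK h2)

end Cfsg.Agent.S2955
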