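import Mathlib
import Cfsg.Statements.S2939
import Cfsg.Agent.S2955

set_option autoImplicit false
open Cfsg

namespace Cfsg.Agent.S2939

open Cfsg.Agent.Lib.Helper5_Sylow Cfsg.Agent.Lib.Helper5_SylowChain Cfsg.Agent.Lib.Helper5_WC
open Subgroup

section basics
variable {G : Type*} [Group G]

theorem take_prod_telescope {n : ℕ} (u : ℕ → G) (hu0 : u 0 = 1) (y : Fin n → G)
    (hy : ∀ i : Fin n, y i = (u i)⁻¹ * u (i + 1)) :
    ∀ k ≤ n, ((List.ofFn y).take k).prod = u k := by
  intro k
  induction k with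
  | zero => intro _; simp [hu0]
  | succ k ih =>
    intro hk
    have hk' : k < (List.ofFn y).length := by simp; omega
    rw [List.prod_take_succ _ _ hk', ih (by omega), List.getElem_ofFn, hy]
    simp

theorem mem_conjRight {g a : G} {A : Set G} : a ∈ Cfsg.conjRight g A ↔ g * a * g⁻¹ ∈ A := by
  unfold Cfsg.conjRight
  constructor
  · rintro ⟨b, hb, rfl⟩
    have : g * (g⁻¹ * b * g) * g⁻¹ = b := by group
    rwa [this]
  · intro h
    exact ⟨g * a * g⁻¹, h, by group⟩

theorem take_prod_succ {n : ℕ} (y : Fin n → G) (i : Fin n) :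
    ((List.ofFn y).take (i.val + 1)).prod = ((List.ofFn y).take i.val).prod * y i := by
  have hk' : i.val < (List.ofFn y).length := by simp
  rw [List.prod_take_succ _ _ hk', List.getElem_ofFn]

theorem take_prod_all {n : ℕ} (y : Fin n → G) :
    ((List.ofFn y).take n).prod = (List.ofFn y).prod := by
  rw [List.take_of_length_le (by simp)]

end basics

variable {G : Type*} [Group G] [Finite G] {p : ℕ} [Fact p.Prime]

theorem forward (𝓕 : Set (Subgroup G)) (h𝓕 : Cfsg.IsNormalSet 𝓕)
    (hc : Cfsg.ControlsSylowIntersections p 𝓕) : Cfsg.FamilyStronglyControlsFusion p 𝓕 := by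
  intro S A g hAS hA hAg
  have hAT : ∀ a ∈ A, a ∈ cj g (S : Subgroup G) := by
    intro a ha
    rw [mem_cj]
    apply hAg
    exact ⟨a, ha, rfl⟩
  by_cases hT : g • S = S
  · have hgN : g ∈ normalizer ((S : Subgroup G) : Set G) := by
      apply mem_normalizer_of_cj_eq
      have h : ((g • S : Sylow p G) : Subgroup G) = (S : Subgroup G) := by rw [hT]
      exact h
    refine ⟨0, fun i => i.elim0, fun i => i.elim0, g, hgN, fun i => i.elim0, by simp, fun i => i.elim0⟩
  · have hne : S ≠ g • S := fun h => hT h.symm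
    have hinf : (S : Subgroup G) ⊓ ((g • S : Sylow p G) : Subgroup G) ≠ ⊥ := by
      obtain ⟨a, haA, ha1⟩ := hA
      intro hbot
      apply ha1
      have : a ∈ (S : Subgroup G) ⊓ ((g • S : Sylow p G) : Subgroup G) :=
        ⟨hAS haA, by rw [coe_smul_sylow]; exact hAT a haA⟩
      rw [hbot, Subgroup.mem_bot] at this
      exact this
    obtain ⟨n, c, X, x, h0, hl, hst⟩ := hc S (g • S) hne hinf
    let u : ℕ → G := fun k => Nat.rec 1 (fun j uj => (if h : j < n then x ⟨j, h⟩ else 1) * uj) k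
    have hu0 : u 0 = 1 := rfl
    have hus : ∀ i : Fin n, u (i.val + 1) = x i * u i.val := by
      intro i
      show (if h : i.val < n then x ⟨i.val, h⟩ else 1) * u i.val = x i * u i.val
      rw [dif_pos i.2]
    have hcu : ∀ i : Fin (n + 1), ((c i : Sylow p G) : Subgroup G) = cj (u i.val) (S : Subgroup G) := by
      intro i
      induction i using Fin.induction with
      | zero => rw [h0]; show _ = cj (u 0) _; rw [hu0, cj_one]
      | succ i ih =>
        obtain ⟨_, _, _, hconj, _⟩ := hst i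
        have h2 : cj (x i)⁻¹ (c i.succ : Subgroup G) = (c i.castSucc : Subgroup G) := hconj
        rw [cj_eq_iff, inv_inv, ih, cj_cj] at h2
        rw [h2, Fin.val_succ, Fin.val_castSucc, hus]
    refine ⟨n, fun i => cj (u i.val)⁻¹ (X i), fun i => (u i.val)⁻¹ * u (i.val + 1),
      (u n)⁻¹ * g, ?_, ?_, ?_, ?_⟩
    · apply mem_normalizer_of_cj_eq
      rw [← cj_cj]
      have h1 := hcu (Fin.last n)
      rw [hl, Fin.val_last] at h1
      have h1' : cj g (S : Subgroup G) = cj (u n) (S : Subgroup G) := h1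
      rw [h1', cj_cj, inv_mul_cancel, cj_one]
    · intro i
      obtain ⟨hX1, _, hxX, _, _⟩ := hst i
      constructor
      · rw [hcu, Fin.val_castSucc] at hX1
        exact Cfsg.Agent.S2955.conj_sylowMember h𝓕 hX1
      · show (u i.val)⁻¹ * u (i.val + 1) ∈ cj (u i.val)⁻¹ (X i)
        rw [hus]
        have := conj_mem_cj (g := (u i.val)⁻¹) hxX
        rw [inv_inv] at this
        have h3 : (u i.val)⁻¹ * (x i * u i.val) = (u i.val)⁻¹ * x i * u i.val := by group
        rw [h3]
        exact this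
    · have := take_prod_telescope u hu0 (fun i : Fin n => (u i.val)⁻¹ * u (i.val + 1))
        (fun i => rfl) n le_rfl
      rw [take_prod_all] at this
      rw [this]
      group
    · intro i
      have hprod := take_prod_telescope u hu0 (fun i : Fin n => (u i.val)⁻¹ * u (i.val + 1))
        (fun i => rfl) (i.val + 1) (by omega)
      rw [hprod]
      intro b hb
      rw [mem_conjRight] at hb
      obtain ⟨_, _, _, _, hle⟩ := hst i
      have haST : u (i.val + 1) * b * (u (i.val + 1))⁻¹ ∈
          (S : Subgroup G) ⊓ ((g • S : Sylow p G) : Subgroup G) :=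
        ⟨hAS hb, by rw [coe_smul_sylow]; exact hAT _ hb⟩
      have h4 := hle haST
      have h5 : u (i.val + 1) * b * (u (i.val + 1))⁻¹ ∈ ((c i.succ : Sylow p G) : Subgroup G) := h4.1
      have h6 : u (i.val + 1) * b * (u (i.val + 1))⁻¹ ∈ X i := h4.2
      rw [hcu, Fin.val_succ, mem_cj] at h5
      constructor
      · have : (u (i.val + 1))⁻¹ * (u (i.val + 1) * b * (u (i.val + 1))⁻¹) * u (i.val + 1) = b := by
          group
        rw [this] at h5
        exact h5
      · show b ∈ cj (u i.val)⁻¹ (X i)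
        rw [mem_cj, inv_inv]
        obtain ⟨_, _, hxX, _, _⟩ := hst i
        rw [hus] at h6
        have h7 : u i.val * b * (u i.val)⁻¹ =
            (x i)⁻¹ * (x i * u i.val * b * (x i * u i.val)⁻¹) * x i := by group
        rw [h7]
        exact (X i).mul_mem ((X i).mul_mem ((X i).inv_mem hxX) h6) hxX

theorem backward (𝓕 : Set (Subgroup G)) (h𝓕 : Cfsg.IsNormalSet 𝓕)
    (hf : Cfsg.FamilyStronglyControlsFusion p 𝓕) : Cfsg.ControlsSylowIntersections p 𝓕 := by
  intro S T hne hinf
  obtain ⟨g, hgT⟩ := MulAction.exists_smul_eq G S T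
  have hTc : (T : Subgroup G) = cj g (S : Subgroup G) := by rw [← hgT, coe_smul_sylow]
  set A : Set G := (((S : Subgroup G) ⊓ (T : Subgroup G) : Subgroup G) : Set G) with hAdef
  have hAS : A ⊆ (S : Set G) := fun a ha => ha.1
  have hA : ∃ a ∈ A, a ≠ 1 := by
    by_contra hcon
    push Not at hcon
    apply hinf
    rw [eq_bot_iff]
    intro a ha
    rw [Subgroup.mem_bot]
    exact hcon a ha
  have hAg : Cfsg.conjRight g A ⊆ (S : Set G) := by
    intro b hb
    rw [mem_conjRight] at hb
    have h1 : g * b * g⁻¹ ∈ (T : Subgroup G) := hb.2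
    rw [hTc, mem_cj] at h1
    have : g⁻¹ * (g * b * g⁻¹) * g = b := by group
    rw [this] at h1
    exact h1
  obtain ⟨n, Y, y, y₀, hy₀, hY, hg, hlast⟩ := hf S A g hAS hA hAg
  let v : ℕ → G := fun k => ((List.ofFn y).take k).prod
  have hv0 : v 0 = 1 := by simp [v]
  have hvs : ∀ i : Fin n, v (i.val + 1) = v i.val * y i := fun i => take_prod_succ y i
  have hvn : v n = (List.ofFn y).prod := take_prod_all y
  have hXeq : ∀ i : Fin n, cj (v i.val) (Y i) = cj (v (i.val + 1)) (Y i) := by
    intro i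
    rw [hvs, ← cj_cj, cj_eq_of_mem_normalizer (le_normalizer (hY i).2)]
  have hmem : ∀ (k : G) (Z : Subgroup G), Z ∈ Cfsg.sylowMembers p 𝓕 (S : Subgroup G) →
      cj k Z ∈ Cfsg.sylowMembers p 𝓕 (cj k (S : Subgroup G)) := by
    intro k Z hZ
    have hZ' : Z ∈ Cfsg.sylowMembers p 𝓕 (cj k⁻¹ (cj k (S : Subgroup G))) := by
      rw [cj_cj, inv_mul_cancel, cj_one]; exact hZ
    have := Cfsg.Agent.S2955.conj_sylowMember h𝓕 hZ'
    rwa [inv_inv] at this
  refine ⟨n, fun i => v i.val • S, fun i => cj (v i.val) (Y i),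
    fun i => v i.val * y i * (v i.val)⁻¹, ?_, ?_, ?_⟩
  · show v 0 • S = S
    rw [hv0, one_smul]
  · show v (Fin.last n).val • S = T
    rw [Fin.val_last, hvn]
    apply Sylow.ext
    rw [hTc]
    have h1 : (List.ofFn y).prod = g * y₀⁻¹ := by rw [hg]; group
    show cj ((List.ofFn y).prod) (S : Subgroup G) = cj g (S : Subgroup G)
    rw [h1, ← cj_cj, cj_eq_of_mem_normalizer (inv_mem hy₀)]
  · intro i
    refine ⟨?_, ?_, ?_, ?_, ?_⟩
    · show cj (v i.val) (Y i) ∈ Cfsg.sylowMembers p 𝓕 (cj (v i.castSucc.val) (S : Subgroup G))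
      rw [Fin.val_castSucc]
      exact hmem _ _ (hY i).1
    · show cj (v i.val) (Y i) ∈ Cfsg.sylowMembers p 𝓕 (cj (v i.succ.val) (S : Subgroup G))
      rw [Fin.val_succ, hXeq]
      exact hmem _ _ (hY i).1
    · exact conj_mem_cj (hY i).2
    · show cj (v i.val * y i * (v i.val)⁻¹)⁻¹ (cj (v i.succ.val) (S : Subgroup G)) =
        cj (v i.castSucc.val) (S : Subgroup G)
      rw [Fin.val_succ, Fin.val_castSucc, cj_cj, hvs]
      congr 1
      group
    · intro a ha
      show a ∈ cj (v i.succ.val) (S : Subgroup G) ⊓ cj (v i.val) (Y i)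
      rw [Fin.val_succ, hXeq]
      have hb : (v (i.val + 1))⁻¹ * a * v (i.val + 1) ∈ Cfsg.conjRight (v (i.val + 1)) A := by
        rw [mem_conjRight]
        have : v (i.val + 1) * ((v (i.val + 1))⁻¹ * a * v (i.val + 1)) * (v (i.val + 1))⁻¹ = a := by
          group
        rw [this]
        exact ha
      have h2 := hlast i hb
      exact ⟨mem_cj.mpr h2.1, mem_cj.mpr h2.2⟩

/-- Let p be a prime dividing the order of the finite group G and 𝓕 a family of subgroups of G closed under conjugation, with conjugates taken as X^g = g⁻¹Xg. Then 𝓕 controls Sylow p-intersections in G (any two distinct Sylow p-subgroups S and T with S ∩ T ≠ 1 are joined by a chain S = S₀, S₁, …, Sₙ = T of Sylow p-subgroups where, for each i, some member Xᵢ of 𝓕 meets both S_{i-1} and Sᵢ in Sylow p-subgroups of Xᵢ, satisfies S ∩ T ≤ Sᵢ ∩ Xᵢ, and contains an element xᵢ with Sᵢ^{xᵢ} = S_{i-1}) if and only if 𝓕 strongly controls p-fusion in G (whenever A is a subset of a Sylow p-subgroup S, A contains an element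 other than 1, and A^g ⊆ S, the element g factorises as g = y₁⋯yₙy with y ∈ N_G(S) and each yᵢ in a member Yᵢ of 𝓕 that meets S in a Sylow p-subgroup of Yᵢ, with A^{y₁⋯yᵢ} ⊆ S ∩ Yᵢ for each i). -/
theorem result {G : Type*} [Group G] [Finite G] {p : ℕ} [Fact p.Prime] (hdiv : p ∣ Nat.card G) (𝓕 : Set (Subgroup G)) (h𝓕 : Cfsg.IsNormalSet 𝓕) : Cfsg.ControlsSylowIntersections p 𝓕 ↔ Cfsg.FamilyStronglyControlsFusion p 𝓕 :=
  ⟨forward 𝓕 h𝓕, backward 𝓕 h𝓕⟩

end Cfsg.Agent.S2939
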