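import Mathlib
import Cfsg.Statements.S2940
import Cfsg.Agent.Lib.Helper5_Sylow

set_option autoImplicit false
open Cfsg

namespace Cfsg.Agent.S2940

open Cfsg.Agent.Lib.Helper5_Sylow
open scoped Pointwise

/-- Let S be a Sylow p-subgroup of the finite group G and G₁, G₂ subgroups containing S with G = G₁G₂. Then for every g ∈ G there is a Sylow p-subgroup U of G with S ∩ S^g ≤ U ≤ G₁ ∩ G₂^g (conjugates taken as X^g = g⁻¹Xg). -/
theorem result {G : Type*} [Group G] [Finite G] {p : ℕ} [Fact p.Prime] (S : Sylow p G) (G₁ G₂ : Subgroup G) (h1 : (S : Subgroup G) ≤ G₁) (h2 : (S : Subgroup G) ≤ G₂) (hfact : ∀ g : G, ∃ g₁ ∈ G₁, ∃ g₂ ∈ G₂, g = g₁ * g₂) (g : G) : ∃ U : Sylow p G, (S : Subgroup G) ⊓ Cfsg.subgroupConjRight g (S : Subgroup G) ≤ (U : Subgroup G) ∧ (U : Subgroup G) ≤ G₁ ⊓ Cfsg.subgroupConjRight g G₂ := by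
  obtain ⟨a₁, ha₁, a₂, ha₂, hg⟩ := hfact g⁻¹
  set D : Subgroup G := G₁ ⊓ Cfsg.subgroupConjRight g G₂ with hD
  set A : Subgroup G := (S : Subgroup G) ⊓ Cfsg.subgroupConjRight g (S : Subgroup G) with hA
  set B : Subgroup G := (S : Subgroup G).map (MulAut.conj a₁).toMonoidHom with hB
  have hAD : A ≤ D := by
    apply inf_le_inf h1
    exact Subgroup.map_mono h2
  have hBD : B ≤ D := by
    rintro _ ⟨s, hs, rfl⟩
    refine ⟨?_, ?_⟩
    · exact G₁.mul_mem (G₁.mul_mem ha₁ (h1 hs)) (G₁.inv_mem ha₁)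
    · refine ⟨a₂⁻¹ * s * a₂, G₂.mul_mem (G₂.mul_mem (G₂.inv_mem ha₂) (h2 hs)) ha₂, ?_⟩
      have hg' : g = a₂⁻¹ * a₁⁻¹ := by rw [← mul_inv_rev, ← hg, inv_inv]
      simp only [MulEquiv.coe_toMonoidHom, MulAut.conj_apply, inv_inv]
      rw [hg']
      group
  have hAp : IsPGroup p A := S.2.to_le inf_le_left
  have hBp : IsPGroup p B := S.2.map _
  obtain ⟨k, -, R, hRp, hRD, hAR, hBR⟩ := exists_conj_le_common_pgroup hAD hBD hAp hBp
  obtain ⟨U, hUdef⟩ : ∃ U : Sylow p G, U = (k * a₁) • S := ⟨_, rfl⟩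
  have hU : (U : Subgroup G) = B.map (MulAut.conj k).toMonoidHom := by
    rw [hUdef, Sylow.smul_def, Sylow.pointwise_smul_def, Subgroup.pointwise_smul_def, hB, Subgroup.map_map]
    congr 1
    ext x
    simp [mul_assoc, MulDistribMulAction.toMonoidEnd_apply]
  have hRU : R = (U : Subgroup G) := U.is_maximal' hRp (by rw [hU]; exact hBR)
  refine ⟨U, ?_, ?_⟩
  · rw [← hRU]; exact hAR
  · rw [← hRU]; exact hRD

end Cfsg.Agent.S2940
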