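import Mathlib
import Cfsg.Statements.S2958

set_option autoImplicit false
open Cfsg

namespace Cfsg.Agent.S2958

/-- Let X, A, B be subgroups of a group G such that G is generated by the conjugates of X and every conjugate of X is contained in A or in B. Then A = G or B = G. -/
theorem result {G : Type*} [Group G] (X A B : Subgroup G) (hgen : (⨆ g : G, X.map (MulAut.conj g).toMonoidHom) = ⊤) (hcover : ∀ g : G, X.map (MulAut.conj g).toMonoidHom ≤ A ∨ X.map (MulAut.conj g).toMonoidHom ≤ B) : A = ⊤ ∨ B = ⊤ := by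
  classical
  -- notation
  set c : G → Subgroup G := fun g => X.map (MulAut.conj g).toMonoidHom with hc
  -- conjugating a conjugate
  have hconj : ∀ a g : G, (c g).map (MulAut.conj a).toMonoidHom = c (a * g) := by
    intro a g
    simp only [hc, Subgroup.map_map]
    congr 1
    ext x
    simp [mul_assoc]
  by_cases hall : ∀ g, c g ≤ A
  · left
    rw [eq_top_iff, ← hgen]
    exact iSup_le hall
  · right
    obtain ⟨g₀, hg₀⟩ := not_forall.mp hall
    -- B₁ = join of conjugates not in A
    set B₁ : Subgroup G := ⨆ g : {g : G // ¬ c g ≤ A}, c g.1 with hB₁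
    have hB₁B : B₁ ≤ B := by
      apply iSup_le
      rintro ⟨g, hg⟩
      exact (hcover g).resolve_left hg
    -- A normalizes B₁ (conjugation by a ∈ A permutes the conjugates not in A)
    have hnotA : ∀ a ∈ A, ∀ g, ¬ c g ≤ A → ¬ c (a * g) ≤ A := by
      intro a ha g hg hcon
      apply hg
      intro x hx
      have hx' : a * x * a⁻¹ ∈ c (a * g) := by
        rw [← hconj a g]
        exact ⟨x, hx, by simp⟩
      have := hcon hx'
      have h2 : a⁻¹ * (a * x * a⁻¹) * a ∈ A := A.mul_mem (A.mul_mem (A.inv_mem ha) this) ha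
      simpa [mul_assoc] using h2
    have hAnorm : ∀ a ∈ A, B₁.map (MulAut.conj a).toMonoidHom ≤ B₁ := by
      intro a ha
      rw [hB₁, Subgroup.map_iSup]
      apply iSup_le
      rintro ⟨g, hg⟩
      rw [hconj a g]
      exact le_iSup (fun g : {g : G // ¬ c g ≤ A} => c g.1) ⟨a * g, hnotA a ha g hg⟩
    -- B₁ normalizes B₁ trivially; every conjugate of X lies in A or in B₁, so normalizes B₁
    have hall2 : ∀ g, ∀ y ∈ c g, B₁.map (MulAut.conj y).toMonoidHom ≤ B₁ := by
      intro g y hy
      by_cases hg : c g ≤ A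
      · exact hAnorm y (hg hy)
      · have hyB : y ∈ B₁ := (le_iSup (fun g : {g : G // ¬ c g ≤ A} => c g.1) ⟨g, hg⟩) hy
        rintro _ ⟨x, hx, rfl⟩
        simp only [MulEquiv.coe_toMonoidHom, MulAut.conj_apply]
        exact B₁.mul_mem (B₁.mul_mem hyB hx) (B₁.inv_mem hyB)
    -- the set of elements y with y B₁ y⁻¹ ≤ B₁ and y⁻¹ B₁ y ≤ B₁ is a subgroup containing all conjugates
    have hnormal : ∀ y : G, B₁.map (MulAut.conj y).toMonoidHom ≤ B₁ := by
      intro y
      have hy : y ∈ (⨆ g : G, c g) := by rw [hgen]; trivial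
      refine Subgroup.iSup_induction (C := fun y => B₁.map (MulAut.conj y).toMonoidHom ≤ B₁) c hy ?_ ?_ ?_
      · intro g y hy; exact hall2 g y hy
      · intro x hx; simpa using hx
      · intro y z hy hz
        have : (MulAut.conj (y * z)).toMonoidHom = (MulAut.conj y).toMonoidHom.comp (MulAut.conj z).toMonoidHom := by
          ext x; simp [mul_assoc]
        rw [this, ← Subgroup.map_map]
        exact le_trans (Subgroup.map_mono hz) hy
    -- hence all conjugates of c g₀ lie in B₁, so B₁ = ⊤
    have hg₀B : c g₀ ≤ B₁ := le_iSup (fun g : {g : G // ¬ c g ≤ A} => c g.1) ⟨g₀, hg₀⟩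
    have hallB : ∀ g, c g ≤ B₁ := by
      intro g
      have : c g = (c g₀).map (MulAut.conj (g * g₀⁻¹)).toMonoidHom := by
        rw [hconj]; simp
      rw [this]
      exact le_trans (Subgroup.map_mono hg₀B) (hnormal _)
    rw [eq_top_iff, ← hgen]
    exact le_trans (iSup_le hallB) hB₁B

end Cfsg.Agent.S2958
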