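import Mathlib
import Cfsg.Statements.S2963

set_option autoImplicit false
open Cfsg

namespace Cfsg.Agent.S2963

open Subgroup Equiv

variable {n : ℕ}

/-- the setwise stabilizer of `O` -/
def setStab (O : Set (Fin n)) : Subgroup (Perm (Fin n)) where
  carrier := {g | ∀ z, g z ∈ O ↔ z ∈ O}
  mul_mem' := by
    intro g h hg hh z
    rw [Perm.mul_apply, hg, hh]
  one_mem' := by intro z; simp
  inv_mem' := by
    intro g hg z
    have := hg (g⁻¹ z)
    have h2 : g (g⁻¹ z) = z := by simp
    rw [h2] at this
    exact this.symm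

theorem mem_setStab {O : Set (Fin n)} {g : Perm (Fin n)} : g ∈ setStab O ↔ ∀ z, g z ∈ O ↔ z ∈ O :=
  Iff.rfl

theorem swap_mem_setStab {O : Set (Fin n)} {u v : Fin n} (hu : u ∉ O) (hv : v ∉ O) :
    swap u v ∈ setStab O := by
  intro z
  by_cases hzu : z = u
  · subst hzu; rw [swap_apply_left]; exact ⟨fun h => absurd h hv, fun h => absurd h hu⟩
  by_cases hzv : z = v
  · subst hzv; rw [swap_apply_right]; exact ⟨fun h => absurd h hu, fun h => absurd h hv⟩
  rw [swap_apply_of_ne_of_ne hzu hzv]

/-- Let n be odd. If the symmetric group of degree n is a minimal parabolic group for the prime 2, that is, a Sylow 2-subgroup is not normal and lies in exactly one maximal subgroup, then n = 2^m + 1 for some natural number m. -/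
theorem result (n : ℕ) (hn : Odd n) (h : Cfsg.IsPMinimal 2 (Equiv.Perm (Fin n))) : ∃ m : ℕ, n = 2 ^ m + 1 := by
  haveI : Fact (Nat.Prime 2) := ⟨Nat.prime_two⟩
  obtain ⟨S⟩ : Nonempty (Sylow 2 (Perm (Fin n))) := inferInstance
  obtain ⟨hSn, M, ⟨hMco, hSM⟩, hMuniq⟩ := h S
  -- a fixed point
  have hmod := S.isPGroup'.card_modEq_card_fixedPoints (Fin n)
  rw [Nat.card_eq_fintype_card, Fintype.card_fin] at hmod
  have hfix : (MulAction.fixedPoints ↥(S : Subgroup (Perm (Fin n))) (Fin n)).Nonempty := by
    rw [← Set.nonempty_coe_sort, ← Finite.card_pos_iff]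
    by_contra h0
    have h0' : Nat.card ↥(MulAction.fixedPoints ↥(S : Subgroup (Perm (Fin n))) (Fin n)) = 0 := by omega
    rw [h0'] at hmod
    have : n % 2 = 0 := hmod
    rcases hn with ⟨k, rfl⟩
    omega
  obtain ⟨pt, hpt⟩ := hfix
  have hpt' : ∀ s ∈ (S : Subgroup (Perm (Fin n))), s pt = pt := by
    intro s hs
    exact hpt ⟨s, hs⟩
  -- another point
  have hx : ∃ x : Fin n, x ≠ pt := by
    by_contra hcon
    push Not at hcon
    apply hSn
    have hsub : Subsingleton (Perm (Fin n)) := by
      constructor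
      intro a b
      ext z
      rw [hcon z, hcon (a pt), hcon (b pt)]
    constructor
    intro s hs g
    have : g * s * g⁻¹ = s := Subsingleton.elim _ _
    rw [this]; exact hs
  obtain ⟨x, hxpt⟩ := hx
  set O : Set (Fin n) := MulAction.orbit ↥(S : Subgroup (Perm (Fin n))) x with hO
  obtain ⟨m, hm⟩ := S.isPGroup'.card_orbit x
  have hptO : pt ∉ O := by
    intro hmem
    rw [hO, MulAction.mem_orbit_iff] at hmem
    obtain ⟨s, hs⟩ := hmem
    apply hxpt
    have h1 : (s : Perm (Fin n)) x = pt := hs
    have h2 : (s : Perm (Fin n)) pt = pt := hpt' s s.2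
    exact (s : Perm (Fin n)).injective (h1.trans h2.symm)
  have hxO : x ∈ O := MulAction.mem_orbit_self x
  by_cases hall : ∀ y : Fin n, y ≠ pt → y ∈ O
  · -- `n = 2 ^ m + 1`
    refine ⟨m, ?_⟩
    have huniv : (Set.univ : Set (Fin n)) = insert pt O := by
      ext y
      simp only [Set.mem_univ, Set.mem_insert_iff, true_iff]
      by_cases hy : y = pt
      · left; exact hy
      · right; exact hall y hy
    have h1 : (Set.univ : Set (Fin n)).ncard = n := by
      rw [Set.ncard_univ, Nat.card_eq_fintype_card, Fintype.card_fin]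
    rw [huniv, Set.ncard_insert_of_notMem hptO (Set.toFinite O)] at h1
    rw [← h1, ← hm, Nat.card_coe_set_eq]
  · exfalso
    push Not at hall
    obtain ⟨y, hypt, hyO⟩ := hall
    -- the two overgroups
    set A := MulAction.stabilizer (Perm (Fin n)) pt with hA
    set B := setStab O with hB
    have hSA : (S : Subgroup (Perm (Fin n))) ≤ A := by
      intro s hs
      rw [hA, MulAction.mem_stabilizer_iff]
      exact hpt' s hs
    have hSB : (S : Subgroup (Perm (Fin n))) ≤ B := by
      intro s hs z
      rw [hO]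
      constructor
      · intro hz
        rw [MulAction.mem_orbit_iff] at hz ⊢
        obtain ⟨s', hs'⟩ := hz
        refine ⟨⟨s, hs⟩⁻¹ * s', ?_⟩
        rw [mul_smul, hs']
        show (s⁻¹ : Perm (Fin n)) (s z) = z
        simp
      · intro hz
        rw [MulAction.mem_orbit_iff] at hz ⊢
        obtain ⟨s', hs'⟩ := hz
        refine ⟨⟨s, hs⟩ * s', ?_⟩
        rw [mul_smul, hs']
        rfl
    have hAtop : A ≠ ⊤ := by
      intro htop
      have : swap pt x ∈ A := by rw [htop]; trivial
      rw [hA, MulAction.mem_stabilizer_iff] at this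
      have h2 : swap pt x pt = x := swap_apply_left pt x
      have h3 : swap pt x pt = pt := this
      exact hxpt (h2.symm.trans h3)
    have hBtop : B ≠ ⊤ := by
      intro htop
      have : swap x y ∈ B := by rw [htop]; trivial
      have h2 := (this x).mpr hxO
      rw [swap_apply_left] at h2
      exact hyO h2
    obtain ⟨MA, hMA, hAMA⟩ := (eq_top_or_exists_le_coatom A).resolve_left hAtop
    obtain ⟨MB, hMB, hBMB⟩ := (eq_top_or_exists_le_coatom B).resolve_left hBtop
    have hMAeq : MA = M := hMuniq MA ⟨hMA, hSA.trans hAMA⟩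
    have hMBeq : MB = M := hMuniq MB ⟨hMB, hSB.trans hBMB⟩
    have hAM : A ≤ M := hMAeq ▸ hAMA
    have hBM : B ≤ M := hMBeq ▸ hBMB
    apply hMco.1
    rw [eq_top_iff, ← Equiv.Perm.closure_isSwap, Subgroup.closure_le]
    rintro σ ⟨u, v, huv, rfl⟩
    have hAmem : ∀ u v : Fin n, u ≠ pt → v ≠ pt → swap u v ∈ A := by
      intro u v hu hv
      rw [hA, MulAction.mem_stabilizer_iff]
      exact swap_apply_of_ne_of_ne hu.symm hv.symm
    have hkey : ∀ v : Fin n, v ≠ pt → swap pt v ∈ M := by
      intro v hv
      by_cases hvO : v ∈ O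
      · have h1 : swap y v * swap pt y * swap y v = swap v pt :=
          swap_mul_swap_mul_swap hypt.symm hv.symm
        rw [swap_comm pt v, ← h1]
        have h2 : swap y v ∈ M := hAM (hAmem y v hypt hv)
        have h3 : swap pt y ∈ M := hBM (swap_mem_setStab hptO hyO)
        exact M.mul_mem (M.mul_mem h2 h3) h2
      · exact hBM (swap_mem_setStab hptO hvO)
    by_cases hu : u = pt
    · subst hu
      exact hkey v (Ne.symm huv)
    by_cases hv : v = pt
    · subst hv
      rw [swap_comm]
      exact hkey u hu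
    exact hAM (hAmem u v hu hv)

end Cfsg.Agent.S2963
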