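import Mathlib
import Cfsg.Statements.S2968
import Cfsg.Agent.Lib.Helper5_Isolated

set_option autoImplicit false
open Cfsg

namespace Cfsg.Agent.S2968

open Cfsg.Agent.Lib.Helper5_Isolated

/-- Let G be a finite group, p a prime, P a Sylow p-subgroup of G and x ∈ P an element of p-power order which is isolated in G (the only conjugate of x commuting with x is x itself). Then x lies in the centre of P, and the subgroup generated by x is both strongly closed and weakly closed in P with respect to G. -/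
theorem result {G : Type*} [Group G] [Finite G] {p : ℕ} [Fact p.Prime] (P : Sylow p G) (x : G) (hxP : x ∈ (P : Subgroup G)) (hx : ∃ k : ℕ, orderOf x = p ^ k) (hiso : Cfsg.IsIsolated x) : x ∈ (P : Subgroup G) ⊓ Subgroup.centralizer ((P : Subgroup G) : Set G) ∧ Cfsg.IsStronglyClosed (Subgroup.zpowers x) (P : Subgroup G) ∧ Cfsg.IsWeaklyClosed (Subgroup.zpowers x) (P : Subgroup G) := by
  have hcen : ∀ s ∈ (P : Subgroup G), Commute s x := commute_of_mem_pgroup hiso P.2 hxP
  have hzP : Subgroup.zpowers x ≤ (P : Subgroup G) := by rwa [Subgroup.zpowers_le]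
  refine ⟨⟨hxP, ?_⟩, ⟨hzP, ?_⟩, ⟨hzP, ?_⟩⟩
  · show x ∈ Subgroup.centralizer ((P : Subgroup G) : Set G)
    rw [Subgroup.mem_centralizer_iff]
    intro h hh
    exact hcen h hh
  · intro y hy g hgy
    obtain ⟨k, rfl⟩ := Subgroup.mem_zpowers_iff.mp hy
    -- y' = g x^k g⁻¹ ∈ P commutes with x
    set y' := g * x ^ k * g⁻¹ with hy'
    have hy'pow : y' = (g * x * g⁻¹) ^ k := by
      rw [hy']; exact (conj_zpow (a := g) (b := x) (i := k)).symm
    have hxK : x ∈ Subgroup.centralizer ({y'} : Set G) := by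
      rw [Subgroup.mem_centralizer_singleton_iff]
      exact (hcen y' hgy).eq.symm
    have hgK : g * x * g⁻¹ ∈ Subgroup.centralizer ({y'} : Set G) := by
      rw [Subgroup.mem_centralizer_singleton_iff, hy'pow]
      exact ((Commute.refl (g * x * g⁻¹)).zpow_left k).eq.symm
    obtain ⟨c, hcK, hc⟩ := exists_conj_eq hx hiso _ hxK g hgK
    rw [Subgroup.mem_centralizer_singleton_iff] at hcK
    -- (c g) x^k (c g)⁻¹ = x^k
    have h1 : (c * g) * x ^ k * (c * g)⁻¹ = x ^ k := by
      rw [← conj_zpow, hc]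
    have h2 : (c * g) * x ^ k * (c * g)⁻¹ = c * y' * c⁻¹ := by rw [hy']; group
    have h3 : c * y' * c⁻¹ = y' := by
      rw [hcK]; group
    rw [← h3, ← h2, h1]
    exact Subgroup.zpow_mem_zpowers x k
  · intro g hg
    have hgx : g * x * g⁻¹ ∈ (P : Subgroup G) :=
      hg ⟨x, Subgroup.mem_zpowers x, by simp⟩
    have := hiso g (hcen _ hgx).symm
    rw [MonoidHom.map_zpowers]
    simp only [MulEquiv.coe_toMonoidHom, MulAut.conj_apply]
    rw [this]

end Cfsg.Agent.S2968
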