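import Mathlib
import Cfsg.Statements.S2969
import Cfsg.Agent.Lib.Helper5_Isolated

set_option autoImplicit false
open Cfsg

namespace Cfsg.Agent.S2969

open Cfsg.Agent.Lib.Helper5_Isolated

/-- Let G be a finite group, p a prime and x ∈ G an element of p-power order which is isolated in G. If R is a p-subgroup of G containing x, then N_G(R) ≤ C_G(x); in particular x lies in the centre of R. Moreover, if x lies in a normal subgroup N of a subgroup H of G, then H = N·C_H(x). -/
theorem result {G : Type*} [Group G] [Finite G] {p : ℕ} [Fact p.Prime] (x : G) (hx : ∃ k : ℕ, orderOf x = p ^ k) (hiso : Cfsg.IsIsolated x) : (∀ R : Subgroup G, IsPGroup p ↥R → x ∈ R → Subgroup.normalizer (R : Set G) ≤ Subgroup.centralizer ({x} : Set G)) ∧ (∀ H N : Subgroup G, N ≤ H → H ≤ Subgroup.normalizer (N : Set G) → x ∈ N → N ⊔ (H ⊓ Subgroup.centralizer ({x} : Set G)) = H) := by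
  constructor
  · intro R hR hxR n hn
    have h1 : n * x * n⁻¹ ∈ R := (Subgroup.mem_normalizer_iff.mp hn x).mp hxR
    have h2 := commute_of_mem_pgroup hiso hR hxR _ h1
    have h3 := hiso n h2.symm
    rw [Subgroup.mem_centralizer_singleton_iff]
    have : n * x = (n * x * n⁻¹) * n := by group
    rw [this, h3]
  · intro H N hNH hHN hxN
    apply le_antisymm
    · exact sup_le hNH inf_le_left
    · intro h hh
      have h1 : h * x * h⁻¹ ∈ N := (Subgroup.mem_normalizer_iff.mp (hHN hh) x).mp hxN
      obtain ⟨c, hcN, hc⟩ := exists_conj_eq hx hiso N hxN h h1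
      have h2 : c * h ∈ H ⊓ Subgroup.centralizer ({x} : Set G) := by
        refine ⟨H.mul_mem (hNH hcN) hh, ?_⟩
        show c * h ∈ Subgroup.centralizer ({x} : Set G)
        rw [Subgroup.mem_centralizer_singleton_iff]
        have : (c * h) * x = ((c * h) * x * (c * h)⁻¹) * (c * h) := by group
        rw [this, hc]
      have : h = c⁻¹ * (c * h) := by group
      rw [this]
      exact Subgroup.mul_mem_sup (N.inv_mem hcN) h2

end Cfsg.Agent.S2969
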