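import Mathlib
import Cfsg.Statements.S2970
import Cfsg.Agent.Lib.Helper5_Isolated

set_option autoImplicit false
open Cfsg

namespace Cfsg.Agent.S2970

open Cfsg.Agent.Lib.Helper5_Isolated Cfsg.Agent.Lib.Helper5_Sylow

/-- Let G be a finite group, p a prime and x ∈ G an element of p-power order which is isolated in G. Then the image of x in any quotient G ⧸ N is isolated in G ⧸ N; and if x ≠ 1 and the Sylow p-subgroups of G are cyclic, then G has a normal p-complement. -/
theorem result {G : Type*} [Group G] [Finite G] {p : ℕ} [Fact p.Prime] (x : G) (hx : ∃ k : ℕ, orderOf x = p ^ k) (hiso : Cfsg.IsIsolated x) : (∀ (N : Subgroup G) [N.Normal], Cfsg.IsIsolated (QuotientGroup.mk x : G ⧸ N)) ∧ (x ≠ 1 → (∀ P : Sylow p G, IsCyclic ↥(P : Subgroup G)) → Cfsg.HasNormalPComplement p G) := by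
  constructor
  · intro N _ gbar hcomm
    obtain ⟨g, rfl⟩ := QuotientGroup.mk_surjective gbar
    set xb : G ⧸ N := QuotientGroup.mk x with hxb
    set yb : G ⧸ N := (QuotientGroup.mk g : G ⧸ N) * xb * (QuotientGroup.mk g : G ⧸ N)⁻¹ with hyb
    -- the abelian subgroup generated by xb and yb, and its preimage
    set A : Subgroup (G ⧸ N) := Subgroup.zpowers xb ⊔ Subgroup.zpowers yb with hA
    have hAc : A ≤ Subgroup.centralizer ({yb} : Set (G ⧸ N)) := by
      apply sup_le
      · rw [Subgroup.zpowers_le, Subgroup.mem_centralizer_singleton_iff]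
        exact hcomm.eq
      · rw [Subgroup.zpowers_le, Subgroup.mem_centralizer_singleton_iff]
    set L : Subgroup G := A.comap (QuotientGroup.mk' N) with hL
    have hxL : x ∈ L := by
      rw [hL, Subgroup.mem_comap]
      exact (le_sup_left : Subgroup.zpowers xb ≤ A) (Subgroup.mem_zpowers xb)
    have hgL : g * x * g⁻¹ ∈ L := by
      rw [hL, Subgroup.mem_comap]
      have : (QuotientGroup.mk' N) (g * x * g⁻¹) = yb := by simp [hyb, hxb]
      rw [this]
      exact (le_sup_right : Subgroup.zpowers yb ≤ A) (Subgroup.mem_zpowers yb)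
    obtain ⟨c, hcL, hc⟩ := exists_conj_eq hx hiso L hxL g hgL
    have hcb : (QuotientGroup.mk c : G ⧸ N) ∈ Subgroup.centralizer ({yb} : Set (G ⧸ N)) := hAc hcL
    rw [Subgroup.mem_centralizer_singleton_iff] at hcb
    have h1 := congrArg (QuotientGroup.mk (s := N)) hc
    have h2 : (QuotientGroup.mk ((c * g) * x * (c * g)⁻¹) : G ⧸ N) =
        (QuotientGroup.mk c : G ⧸ N) * yb * (QuotientGroup.mk c : G ⧸ N)⁻¹ := by
      simp only [hyb, hxb, QuotientGroup.mk_mul, QuotientGroup.mk_inv]
      group
    rw [h2, hcb] at h1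
    show yb = xb
    rw [hxb, ← h1]
    group
  · intro hx1 hcyc
    -- x lies in a Sylow p-subgroup
    have hzp : IsPGroup p (Subgroup.zpowers x) := by
      obtain ⟨k, hk⟩ := hx
      apply IsPGroup.of_card (n := k)
      rw [Nat.card_zpowers, hk]
    obtain ⟨P, hP⟩ := hzp.exists_le_sylow
    have hxP : x ∈ (P : Subgroup G) := hP (Subgroup.mem_zpowers x)
    have := hcyc P
    have hNC : Subgroup.normalizer ((P : Subgroup G) : Set G) ≤ Subgroup.centralizer ((P : Subgroup G) : Set G) := by
      intro n hn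
      have h1 : n * x * n⁻¹ ∈ (P : Subgroup G) := (Subgroup.mem_normalizer_iff.mp hn x).mp hxP
      have h2 := commute_of_mem_pgroup hiso P.2 hxP _ h1
      have h3 := hiso n h2.symm
      exact cyclic_sylow_centralizes P n hn x hxP hx1 h3
    exact ⟨P, (MonoidHom.transferSylow P hNC).ker, inferInstance,
      MonoidHom.ker_transferSylow_isComplement' P hNC⟩

end Cfsg.Agent.S2970
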