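import Cfsg.Statements.S4060
import Mathlib
import Cfsg.Agent.Lib.Lead_SZ

set_option autoImplicit false
open Cfsg

namespace Cfsg.Agent.S4060

universe u

/-- a `p`-element normalizing a Sylow `p`-subgroup lies in it -/
theorem mem_sylow_of_mem_normalizer {G : Type*} [Group G] {p : ℕ} [Fact p.Prime] (P : Sylow p G)
    (t : G) (ht : t ∈ Subgroup.normalizer ((P : Subgroup G) : Set G)) (k : ℕ)
    (hk : t ^ (p ^ k) = 1) : t ∈ (P : Subgroup G) := by
  have hz : IsPGroup p (Subgroup.zpowers t) := by
    rintro ⟨g, hg⟩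
    obtain ⟨i, rfl⟩ := Subgroup.mem_zpowers_iff.mp hg
    refine ⟨k, ?_⟩
    apply Subtype.ext
    show (t ^ i) ^ (p ^ k) = 1
    rw [← zpow_natCast, ← zpow_mul, mul_comm, zpow_mul, zpow_natCast, hk, one_zpow]
  have hle : Subgroup.zpowers t ≤ Subgroup.normalizer ((P : Subgroup G) : Set G) :=
    Subgroup.zpowers_le.mpr ht
  have hsup := IsPGroup.to_sup_of_normal_right' hz P.isPGroup' hle
  have := P.is_maximal' hsup le_sup_right
  rw [← this]
  exact (le_sup_left : Subgroup.zpowers t ≤ _) (Subgroup.mem_zpowers t)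

/-- an odd power of an element inverting `x` inverts `x` -/
theorem pow_inverts {G : Type*} [Group G] (h x : G) (hx : h * x * h⁻¹ = x⁻¹) :
    ∀ m : ℕ, Odd m → h ^ m * x * (h ^ m)⁻¹ = x⁻¹ := by
  have h2 : h ^ 2 * x * (h ^ 2)⁻¹ = x := by
    have : h ^ 2 * x * (h ^ 2)⁻¹ = h * (h * x * h⁻¹) * h⁻¹ := by
      simp [pow_two, mul_assoc]
    rw [this, hx]
    have : h * x⁻¹ * h⁻¹ = (h * x * h⁻¹)⁻¹ := by simp [mul_assoc]
    rw [this, hx, inv_inv]
  have heven : ∀ j : ℕ, (h ^ 2) ^ j * x * ((h ^ 2) ^ j)⁻¹ = x := by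
    intro j
    induction j with
    | zero => simp
    | succ j ih =>
      have : (h ^ 2) ^ (j + 1) * x * ((h ^ 2) ^ (j + 1))⁻¹ =
          (h ^ 2) ^ j * (h ^ 2 * x * (h ^ 2)⁻¹) * ((h ^ 2) ^ j)⁻¹ := by
        rw [pow_succ]; simp [mul_assoc]
      rw [this, h2, ih]
  rintro m ⟨j, rfl⟩
  have : h ^ (2 * j + 1) * x * (h ^ (2 * j + 1))⁻¹ =
      (h ^ 2) ^ j * (h * x * h⁻¹) * ((h ^ 2) ^ j)⁻¹ := by
    rw [pow_succ, pow_mul]; simp [mul_assoc]
  rw [this, hx]
  have h3 : (h ^ 2) ^ j * x⁻¹ * ((h ^ 2) ^ j)⁻¹ = ((h ^ 2) ^ j * x * ((h ^ 2) ^ j)⁻¹)⁻¹ := by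
    simp [mul_assoc]
  rw [h3, heven j]

theorem main : ∀ n : ℕ, ∀ (G : Type u) [Group G] [Finite G] [Group.IsSolvable G], Nat.card G = n →
    ∀ (S : Sylow 2 G) (x : G), x ≠ 1 → Odd (orderOf x) →
      x ∈ Subgroup.normalizer ((S : Subgroup G) : Set G) → ¬ IsConj x x⁻¹ := by
  intro n
  induction n using Nat.strong_induction_on with
  | _ n ih =>
    intro G _ _ _ hn S x hx hodd hnorm hconj
    have hnt : Nontrivial G := ⟨⟨x, 1, hx⟩⟩
    obtain ⟨q, hq, M, hMn, hMq, hMne⟩ := Cfsg.Agent.Lib.Lead_SZ.exists_normal_pgroup G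
    have : Fact q.Prime := ⟨hq⟩
    by_cases hxM : x ∈ M
    · -- x ∈ M
      obtain ⟨k, hk⟩ := hMq ⟨x, hxM⟩
      have hk' : x ^ (q ^ k) = 1 := by simpa using congrArg Subtype.val hk
      have hq2 : q ≠ 2 := by
        intro h2
        rw [h2] at hk'
        have hd : orderOf x ∣ 2 ^ k := orderOf_dvd_of_pow_eq_one hk'
        have hcop : Nat.Coprime (orderOf x) (2 ^ k) :=
          Nat.Coprime.pow_right k (Nat.Coprime.symm (Nat.coprime_two_left.mpr hodd))
        have := Nat.Coprime.eq_one_of_dvd hcop hd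
        exact hx (orderOf_eq_one_iff.mp this)
      -- S ∩ M = 1
      have hSM : ∀ c : G, c ∈ (S : Subgroup G) → c ∈ M → c = 1 := by
        intro c hcS hcM
        obtain ⟨a, ha⟩ := S.isPGroup' ⟨c, hcS⟩
        have ha' : c ^ (2 ^ a) = 1 := by simpa using congrArg Subtype.val ha
        obtain ⟨b, hb⟩ := hMq ⟨c, hcM⟩
        have hb' : c ^ (q ^ b) = 1 := by simpa using congrArg Subtype.val hb
        have h1 : orderOf c ∣ 2 ^ a := orderOf_dvd_of_pow_eq_one ha'
        have h2 : orderOf c ∣ q ^ b := orderOf_dvd_of_pow_eq_one hb'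
        have hcop : Nat.Coprime (2 ^ a) (q ^ b) := by
          apply Nat.Coprime.pow
          exact (Nat.coprime_primes Nat.prime_two hq).mpr (Ne.symm hq2)
        exact orderOf_eq_one_iff.mp (Nat.eq_one_of_dvd_coprimes hcop h1 h2)
      -- x centralizes S
      have hcent : ∀ s : G, s ∈ (S : Subgroup G) → x * s = s * x := by
        intro s hs
        have h1 : x * s * x⁻¹ ∈ (S : Subgroup G) :=
          (Subgroup.mem_normalizer_iff.mp hnorm s).mp hs
        have h2 : x * s * x⁻¹ * s⁻¹ ∈ (S : Subgroup G) := Subgroup.mul_mem _ h1 (Subgroup.inv_mem _ hs)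
        have h3 : x * s * x⁻¹ * s⁻¹ ∈ M := by
          have : x * s * x⁻¹ * s⁻¹ = x * (s * x⁻¹ * s⁻¹) := by group
          rw [this]
          exact M.mul_mem hxM (hMn.conj_mem _ (M.inv_mem hxM) s)
        have h4 := hSM _ h2 h3
        have : x * s = (x * s * x⁻¹ * s⁻¹) * (s * x) := by group
        rw [this, h4, one_mul]
      obtain ⟨g, hg⟩ := isConj_iff.mp hconj
      set C : Subgroup G := Subgroup.centralizer {x} with hC
      have hSC : (S : Subgroup G) ≤ C := by
        intro s hs
        rw [hC, Subgroup.mem_centralizer_iff]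
        intro y hy
        rw [Set.mem_singleton_iff] at hy
        subst hy
        exact hcent s hs
      have hgSC : ((g • S : Sylow 2 G) : Subgroup G) ≤ C := by
        intro t ht
        rw [Sylow.coe_subgroup_smul, Subgroup.mem_pointwise_smul_iff_inv_smul_mem] at ht
        have ht' : g⁻¹ * t * g ∈ (S : Subgroup G) := by
          simpa [MulAut.smul_def, mul_assoc] using ht
        have h1 := hcent _ ht'
        rw [hC, Subgroup.mem_centralizer_iff]
        intro y hy
        rw [Set.mem_singleton_iff] at hy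
        subst hy
        -- from x (g⁻¹ t g) = (g⁻¹ t g) x, conjugate by g: x⁻¹ t = t x⁻¹
        have h2 : (g * y * g⁻¹) * t = t * (g * y * g⁻¹) := by
          have e1 : (g * y * g⁻¹) * t = g * (y * (g⁻¹ * t * g)) * g⁻¹ := by group
          have e2 : t * (g * y * g⁻¹) = g * ((g⁻¹ * t * g) * y) * g⁻¹ := by group
          rw [e1, e2, h1]
        rw [hg] at h2
        have : y * t = y * (t * y⁻¹) * y := by group
        rw [this, ← h2]; group
      obtain ⟨c, hc⟩ := MulAction.exists_smul_eq C (S.subtype hSC) ((g • S).subtype hgSC)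
      rw [Sylow.smul_subtype] at hc
      have hc' : c • S = g • S := Sylow.subtype_injective hc
      have hc'' : (c : G) • S = g • S := hc'
      -- h = c⁻¹ g normalizes S and inverts x
      set h : G := (c : G)⁻¹ * g with hh
      have hhS : h • S = S := by
        rw [hh, mul_smul, ← hc'', ← mul_smul, inv_mul_cancel, one_smul]
      have hhN : h ∈ Subgroup.normalizer ((S : Subgroup G) : Set G) :=
        Sylow.smul_eq_iff_mem_normalizer.mp hhS
      have hcx : (c : G) * x = x * (c : G) := by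
        have h0 : (c : G) ∈ Subgroup.centralizer {x} := c.2
        rw [Subgroup.mem_centralizer_iff] at h0
        exact (h0 x rfl).symm
      have hinv : h * x * h⁻¹ = x⁻¹ := by
        have e1 : h * x * h⁻¹ = (c : G)⁻¹ * (g * x * g⁻¹) * (c : G) := by rw [hh]; group
        rw [e1, hg]
        have : (c : G)⁻¹ * x⁻¹ * (c : G) = ((c : G)⁻¹ * x * (c : G))⁻¹ := by group
        rw [this]
        have : (c : G)⁻¹ * x * (c : G) = x := by
          rw [mul_assoc, ← hcx]; group
        rw [this]
      -- 2-part of h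
      have hho : orderOf h ≠ 0 := (orderOf_pos h).ne'
      obtain ⟨e, m, hm, hem⟩ := Nat.exists_eq_two_pow_mul_odd hho
      have hm_inv := pow_inverts h x hinv m hm
      have hmN : h ^ m ∈ Subgroup.normalizer ((S : Subgroup G) : Set G) := Subgroup.pow_mem _ hhN m
      have hm2 : (h ^ m) ^ (2 ^ e) = 1 := by
        rw [← pow_mul, mul_comm, ← hem]; exact pow_orderOf_eq_one h
      have hmS := mem_sylow_of_mem_normalizer S (h ^ m) hmN e hm2
      have hcomm := hcent _ hmS
      have hxx : x = x⁻¹ := by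
        rw [← hm_inv]
        have : h ^ m * x * (h ^ m)⁻¹ = (x * h ^ m) * (h ^ m)⁻¹ := by rw [hcomm]
        rw [this]; group
      have hx2 : x ^ 2 = 1 := by
        rw [pow_two]
        nth_rewrite 2 [hxx]
        exact mul_inv_cancel x
      have hd : orderOf x ∣ 2 := orderOf_dvd_of_pow_eq_one hx2
      have hcop : Nat.Coprime (orderOf x) 2 := Nat.Coprime.symm (Nat.coprime_two_left.mpr hodd)
      exact hx (orderOf_eq_one_iff.mp (Nat.Coprime.eq_one_of_dvd hcop hd))
    · -- x ∉ M : pass to the quotient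
      have hcard : Nat.card (G ⧸ M) < n := by
        rw [← hn, ← Subgroup.index_eq_card]
        have h1 := Subgroup.card_mul_index M
        have h2 : 1 < Nat.card M := by
          rcases Nat.lt_or_ge 1 (Nat.card M) with h | h
          · exact h
          · exfalso
            have : Nat.card M = 1 := le_antisymm h Nat.card_pos
            exact hMne (Subgroup.card_eq_one.mp this)
        have h3 : 0 < M.index := Nat.pos_of_ne_zero Subgroup.index_ne_zero_of_finite
        nlinarith
      let π := QuotientGroup.mk' M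
      have hπs : Function.Surjective π := QuotientGroup.mk'_surjective M
      have hx' : π x ≠ 1 := by
        intro h
        exact hxM ((QuotientGroup.eq_one_iff x).mp h)
      have hodd' : Odd (orderOf (π x)) := by
        have hd : orderOf (π x) ∣ orderOf x := orderOf_map_dvd π x
        obtain ⟨r, hr⟩ := hd
        rw [hr] at hodd
        exact (Nat.odd_mul.mp hodd).1
      have hnorm' : π x ∈ Subgroup.normalizer (((S.mapSurjective hπs : Sylow 2 (G ⧸ M)) : Subgroup (G ⧸ M)) : Set (G ⧸ M)) := by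
        apply Subgroup.mem_normalizer_fintype
        rintro _ ⟨s, hs, rfl⟩
        refine ⟨x * s * x⁻¹, (Subgroup.mem_normalizer_iff.mp hnorm s).mp hs, ?_⟩
        simp
      have hconj' : IsConj (π x) (π x)⁻¹ := by
        have := MonoidHom.map_isConj π hconj
        rwa [map_inv] at this
      exact ih (Nat.card (G ⧸ M)) hcard (G ⧸ M) rfl (S.mapSurjective hπs) (π x) hx' hodd' hnorm' hconj'

/-- Let G be a finite solvable group with Sylow 2-subgroup S, and let x ≠ 1 be an element of odd order normalizing S. Then x is not conjugate to its inverse in G. -/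
theorem result {G : Type*} [Group G] [Finite G] [Group.IsSolvable G]
    (S : Sylow 2 G) (x : G) (hx : x ≠ 1) (hodd : Odd (orderOf x))
    (hnorm : x ∈ Subgroup.normalizer ((S : Subgroup G) : Set G)) : ¬ IsConj x x⁻¹ :=
  main _ G rfl S x hx hodd hnorm

end Cfsg.Agent.S4060
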