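import Mathlib
import Cfsg.Statements.S2971
import Cfsg.Agent.S0056
import Cfsg.Agent.S4060
import Cfsg.Agent.Lib.Helper7_PGroupRank
import Cfsg.Agent.Lib.Helper2_Cyclic
import Cfsg.Agent.Lib.Helper5_SE2
import Cfsg.Agent.Lib.Helper5_PPrime
import Cfsg.Agent.Lib.Helper5_CharP

set_option autoImplicit false
open Cfsg

namespace Cfsg.Agent.S2971

open Cfsg.Agent.Lib.Helper5_SE2 Cfsg.Agent.Lib.Helper5_PPrime Cfsg.Agent.Lib.Helper5_CharP
open Subgroup

section
variable {G : Type*} [Group G] [Finite G] {p : ℕ} [Fact p.Prime]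

/-- rank one: commuting elements of order dividing `p` generate a group of order `≤ p` -/
theorem mem_zpowers_of_rank_one (hrk : Cfsg.PRankLE p 1 G) (a u : G) (hau : a * u = u * a)
    (ha : a ^ p = 1) (hu : u ^ p = 1) (ha1 : a ≠ 1) : u ∈ zpowers a := by
  have hp := (Fact.out : p.Prime)
  set A := closure ({a, u} : Set G) with hA
  have hcomm : ∀ x ∈ ({a, u} : Set G), ∀ y ∈ ({a, u} : Set G), x * y = y * x := by
    intro x hx y hy
    rcases hx with rfl | rfl <;> rcases hy with rfl | rfl
    · rfl
    · exact hau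
    · exact hau.symm
    · rfl
  haveI hAc : IsMulCommutative A := Subgroup.isMulCommutative_closure hcomm
  have hAcomm : ∀ x ∈ A, ∀ y ∈ A, x * y = y * x := by
    intro x hx y hy
    exact congrArg Subtype.val (hAc.is_comm.comm (⟨x, hx⟩ : A) ⟨y, hy⟩)
  have hexp : ∀ z ∈ A, z ^ p = 1 := by
    intro z hz
    induction hz using Subgroup.closure_induction with
    | mem x hx =>
      rcases hx with rfl | rfl
      · exact ha
      · exact hu
    | one => exact one_pow p
    | mul x y hx hy ihx ihy =>
      have hc : Commute x y := hAcomm x hx y hy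
      rw [hc.mul_pow, ihx, ihy, one_mul]
    | inv x hx ih => rw [inv_pow, ih, inv_one]
  have hcard := hrk A hAc hexp
  rw [pow_one] at hcard
  have hao : orderOf a = p := by
    have := orderOf_dvd_of_pow_eq_one ha
    rcases (Nat.dvd_prime hp).mp this with h1 | h1
    · exact absurd (orderOf_eq_one_iff.mp h1) ha1
    · exact h1
  have hle : zpowers a ≤ A := by
    rw [zpowers_le]; exact subset_closure (by simp)
  have heq : zpowers a = A := by
    apply Subgroup.eq_of_le_of_card_ge hle
    rw [Nat.card_zpowers, hao]; exact hcard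
  rw [heq]
  exact subset_closure (by simp)

end

/-- Let G be a finite group and p an odd prime such that G has p-rank at most 1 (no elementary abelian subgroup of order p²). If x ∈ G is an isolated element of order p, then x is central modulo the largest normal subgroup of G of order prime to p. -/
theorem result {G : Type*} [Group G] [Finite G] {p : ℕ} [Fact p.Prime] (hp : p ≠ 2) (hrk : Cfsg.PRankLE p 1 G) (x : G) (hx : orderOf x = p) (hiso : Cfsg.IsIsolated x) : Cfsg.InZStar p x := by
  have hpp := (Fact.out : p.Prime)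
  have hZp : IsPGroup p (zpowers x) := isPGroup_zpowers hx
  obtain ⟨P, hxP⟩ := hZp.exists_le_sylow
  have hxP' : x ∈ (P : Subgroup G) := hxP (mem_zpowers x)
  have hx1 : x ≠ 1 := by
    intro h; rw [h, orderOf_one] at hx; exact hpp.one_lt.ne hx
  -- P is cyclic
  have hcyc : IsCyclic (P : Subgroup G) := by
    rcases Cfsg.Agent.Lib.Helper7_PGroupRank.cyclic_or_quaternion_like P.isPGroup' (by
      intro a u hau ha hu ha1
      have h1 : (u : G) ∈ zpowers (a : G) := by
        apply mem_zpowers_of_rank_one hrk (a : G) (u : G)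
        · exact congrArg Subtype.val hau
        · have := congrArg Subtype.val ha
          simpa using this
        · have := congrArg Subtype.val hu
          simpa using this
        · intro h
          apply ha1
          exact Subtype.ext h
      rw [mem_zpowers_iff] at h1 ⊢
      obtain ⟨k, hk⟩ := h1
      refine ⟨k, ?_⟩
      apply Subtype.ext
      simpa using hk) with h | ⟨h2, _⟩
    · exact h
    · exact absurd h2 hp
  haveI hPc : IsMulCommutative (P : Subgroup G) := IsCyclic.commutative
  have hPcomm : ∀ a ∈ (P : Subgroup G), ∀ b ∈ (P : Subgroup G), a * b = b * a := by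
    intro a ha b hb
    exact congrArg Subtype.val (hPc.is_comm.comm (⟨a, ha⟩ : (P : Subgroup G)) ⟨b, hb⟩)
  -- elements of N(P) centralize x
  have hNx : ∀ n ∈ normalizer ((P : Subgroup G) : Set G), n * x = x * n := by
    intro n hn
    have h1 : n * x * n⁻¹ ∈ (P : Subgroup G) := conj_mem_of_mem_normalizer hn hxP'
    have h2 : Commute x (n * x * n⁻¹) := hPcomm x hxP' _ h1
    have h3 := hiso n h2
    calc n * x = (n * x * n⁻¹) * n := by group
      _ = x * n := by rw [h3]
  -- elements of prime order of P are powers of x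
  have hprime : ∀ v ∈ (P : Subgroup G), (orderOf v).Prime → v ∈ zpowers x := by
    intro v hv hvo
    have hvp : orderOf v = p := by
      obtain ⟨k, hk⟩ := (IsPGroup.iff_orderOf.mp P.isPGroup') ⟨v, hv⟩
      rw [Subgroup.orderOf_mk] at hk
      rw [hk] at hvo
      have hk0 : k ≠ 0 := by
        rintro rfl
        rw [pow_zero] at hvo
        exact Nat.not_prime_one hvo
      have h4 : p ∣ p ^ k := dvd_pow_self p hk0
      have h5 : p = p ^ k := (Nat.prime_dvd_prime_iff_eq hpp hvo).mp h4
      rw [hk, ← h5]
    have h1 : zpowers (⟨v, hv⟩ : (P : Subgroup G)) = zpowers (⟨x, hxP'⟩ : (P : Subgroup G)) := by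
      apply Cfsg.Agent.Lib.Helper2_Cyclic.eq_of_card_eq_of_isCyclic
      rw [Nat.card_zpowers, Nat.card_zpowers, Subgroup.orderOf_mk, Subgroup.orderOf_mk, hvp, hx]
    have h2 : (⟨v, hv⟩ : (P : Subgroup G)) ∈ zpowers (⟨x, hxP'⟩ : (P : Subgroup G)) := by
      rw [← h1]; exact mem_zpowers _
    rw [mem_zpowers_iff] at h2 ⊢
    obtain ⟨k, hk⟩ := h2
    refine ⟨k, ?_⟩
    have := congrArg Subtype.val hk
    simpa using this
  -- N(P) ≤ C(P)
  have hNC : normalizer ((P : Subgroup G) : Set G) ≤ centralizer ((P : Subgroup G) : Set G) := by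
    intro n hn
    set o := orderOf n with ho
    have ho0 : o ≠ 0 := (orderOf_pos n).ne'
    set s := o.factorization p with hs
    set t := o / p ^ s with ht
    have hot : p ^ s * t = o := Nat.ordProj_mul_ordCompl_eq_self o p
    have hcop : Nat.Coprime p t := Nat.coprime_ordCompl hpp ho0
    -- p-part
    set z := n ^ t with hz
    have hzN : z ∈ normalizer ((P : Subgroup G) : Set G) := Subgroup.pow_mem _ hn t
    have hzp : z ^ (p ^ s) = 1 := by
      rw [hz, ← pow_mul, mul_comm, hot, ho, pow_orderOf_eq_one]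
    have hzP : z ∈ (P : Subgroup G) := Cfsg.Agent.S4060.mem_sylow_of_mem_normalizer P z hzN s hzp
    have hzC : z ∈ centralizer ((P : Subgroup G) : Set G) := by
      rw [mem_centralizer_iff]
      intro v hv
      exact hPcomm v hv z hzP
    -- p'-part
    set y := n ^ (p ^ s) with hy
    have hyN : y ∈ normalizer ((P : Subgroup G) : Set G) := Subgroup.pow_mem _ hn _
    have hyt : y ^ t = 1 := by
      rw [hy, ← pow_mul, hot, ho, pow_orderOf_eq_one]
    have hyC : y ∈ centralizer ((P : Subgroup G) : Set G) := by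
      have hAV : zpowers y ≤ normalizer ((P : Subgroup G) : Set G) := by
        rw [zpowers_le]; exact hyN
      have hcop2 : (Nat.card (zpowers y)).Coprime (Nat.card (P : Subgroup G)) := by
        rw [Nat.card_zpowers]
        obtain ⟨k, hk⟩ := P.isPGroup'.exists_card_eq
        rw [hk]
        apply Nat.Coprime.pow_right
        have h1 : orderOf y ∣ t := orderOf_dvd_of_pow_eq_one hyt
        exact (Nat.Coprime.coprime_dvd_right h1 hcop).symm
      have := Cfsg.Agent.S0056.result (zpowers y) (P : Subgroup G) hAV hcop2 (by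
        intro v hv hvo a ha
        have h1 := hprime v hv hvo
        obtain ⟨k, rfl⟩ := mem_zpowers_iff.mp h1
        have h2 : a * x = x * a := hNx a (hAV ha)
        have hc : Commute a x := h2
        exact (hc.zpow_right k).eq)
      exact this (mem_zpowers y)
    -- combine
    have hg : Int.gcd (p ^ s : ℕ) (t : ℕ) = 1 := by
      rw [Int.gcd_natCast_natCast]
      exact Nat.Coprime.pow_left s hcop
    have hb := Int.gcd_eq_gcd_ab ((p ^ s : ℕ) : ℤ) (t : ℤ)
    rw [hg] at hb
    have hn1 : n = y ^ (Int.gcdA ((p ^ s : ℕ) : ℤ) (t : ℤ)) * z ^ (Int.gcdB ((p ^ s : ℕ) : ℤ) (t : ℤ)) := by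
      rw [hy, hz, ← zpow_natCast n (p ^ s), ← zpow_natCast n t, ← zpow_mul, ← zpow_mul, ← zpow_add,
        ← hb]
      simp
    rw [hn1]
    exact Subgroup.mul_mem _ (Subgroup.zpow_mem _ hyC _) (Subgroup.zpow_mem _ hzC _)
  -- Burnside
  set φ := MonoidHom.transferSylow P hNC with hφ
  set K := φ.ker with hK
  have hKn : K.Normal := MonoidHom.normal_ker φ
  have hKp : ¬ p ∣ Nat.card K := MonoidHom.not_dvd_card_ker_transferSylow P hNC
  have hKcop : (Nat.card K).Coprime p := ((Nat.Prime.coprime_iff_not_dvd hpp).mpr hKp).symm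
  have hKle : K ≤ Cfsg.pPrimeCore p G := le_pPrimeCore K hKcop
  intro g
  apply hKle
  rw [hK, MonoidHom.mem_ker, map_mul, map_mul, map_mul, map_inv, map_inv]
  have := hPc.is_comm.comm (φ g) (φ x)
  rw [this]
  group

end Cfsg.Agent.S2971
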