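import Cfsg.Statements.S2972
import Cfsg.Agent.Lib.Helper3_ZStarMin
import Cfsg.Agent.Lib.Helper3_SPESimple
import Cfsg.Agent.Lib.Helper3_LayerPre
import Cfsg.Agent.Lib.Helper3_Sylow
import Cfsg.Agent.Lib.Helper4_PIrred
import Cfsg.Agent.Lib.Helper4_PCore
import Cfsg.Agent.S1265
import Cfsg.Agent.S1268

set_option autoImplicit false
open Cfsg

namespace Cfsg.Agent.S2972

/-- Let G be a finite group, p a prime and x ∈ G an isolated element of order p (the only conjugate of x commuting with x is x) which is not central modulo the largest normal subgroup of order prime to p, while x is central modulo the largest normal subgroup of order prime to p in every proper subgroup containing x, and the image of x is so in every quotient of G by a nontrivial normal subgroup (a minimal counterexample to the Z*_p statement). Then the derived subgroup G' is a non-abelian simple group and G = G'⟨x⟩. -/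
theorem result {G : Type*} [Group G] [Finite G] {p : ℕ} [Fact p.Prime] (x : G) (hx : orderOf x = p) (hiso : Cfsg.IsIsolated x) (hnz : ¬ Cfsg.InZStar p x) (hmin : ∀ (H : Subgroup G) (hxH : x ∈ H), H ≠ ⊤ → Cfsg.InZStar p (⟨x, hxH⟩ : ↥H)) (hquot : ∀ (N : Subgroup G) [N.Normal], N ≠ ⊥ → Cfsg.InZStar p (QuotientGroup.mk x : G ⧸ N)) : IsSimpleGroup ↥(commutator G) ∧ ¬ IsMulCommutative ↥(commutator G) ∧ commutator G ⊔ Subgroup.zpowers x = ⊤ := by
  classical
  have hp : p.Prime := Fact.out
  have hO := Cfsg.Agent.Lib.Helper3_ZStarMin.core_eq_bot x hnz hquot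
  have hcl := Cfsg.Agent.Lib.Helper3_ZStarMin.normalClosure_eq_top x hO hiso hnz hmin
  have hx1 : x ≠ 1 := by
    rintro rfl
    rw [orderOf_one] at hx
    exact hp.one_lt.ne hx
  obtain ⟨E, hEdef⟩ : ∃ E : Subgroup G, E = layer G := ⟨_, rfl⟩
  haveI hEn : E.Normal := by rw [hEdef]; exact Cfsg.Agent.S1265.layer_normal G
  have hEperf : ⁅E, E⁆ = E := by
    rw [hEdef]; exact Cfsg.Agent.Lib.Helper3_LayerPre.layer_perfect G
  have hxp : IsPGroup p ↥(Subgroup.zpowers x) := by
    apply IsPGroup.of_card (n := 1)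
    rw [Nat.card_zpowers, hx, pow_one]
  obtain ⟨S, hS⟩ := hxp.exists_le_sylow
  have hxS : x ∈ S := hS (Subgroup.mem_zpowers x)
  have hScomm : ∀ s ∈ (S : Subgroup G), Commute s x :=
    Cfsg.Agent.Lib.Helper5_Isolated.commute_of_mem_pgroup hiso S.isPGroup' hxS
  -- the layer is nontrivial
  have hEne : E ≠ ⊥ := by
    intro hE
    have hF : generalizedFittingSubgroup G = pCore p G := by
      unfold generalizedFittingSubgroup
      rw [← hEdef, hE, bot_sup_eq, Cfsg.Agent.S1268.fitting_eq_pCore_of_pPrimeCore_eq_bot p hO]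
    have h1 := Cfsg.Agent.S1265.result (G := G)
    rw [hF] at h1
    haveI := Cfsg.Agent.Lib.Helper4_PCore.pCore_normal p G
    have hxC : x ∈ Subgroup.centralizer (pCore p G : Set G) := by
      refine Subgroup.mem_centralizer_iff.mpr ?_
      intro q hq
      exact (hScomm q (Cfsg.Agent.Lib.Helper4_PCore.pCore_le_sylow S hq)).eq
    have h2 : (⊤ : Subgroup G) ≤ Subgroup.centralizer (pCore p G : Set G) := by
      rw [← hcl]
      apply Subgroup.normalClosure_le_normal
      intro y hy
      rw [Set.mem_singleton_iff] at hy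
      rw [hy]; exact hxC
    have h3 : IsPGroup p ↥(⊤ : Subgroup G) :=
      Cfsg.Agent.Lib.Helper4_PCore.pCore_isPGroup.to_le (h2.trans h1)
    apply hnz
    intro g
    have h4 := Cfsg.Agent.Lib.Helper5_Isolated.commute_of_mem_pgroup hiso h3 (Subgroup.mem_top x) g
      (Subgroup.mem_top g)
    rw [h4.eq, mul_inv_cancel_right, mul_inv_cancel]
    exact Subgroup.one_mem _
  -- `C_G(E) = 1`
  haveI hCEn : (Subgroup.centralizer (E : Set G)).Normal := inferInstance
  have hCE : Subgroup.centralizer (E : Set G) = ⊥ := by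
    by_contra hne
    obtain ⟨M, hMn, hM1, hM2⟩ := Cfsg.Agent.Lib.Helper3_ZStarMin.exists_M x hO hquot
      (Subgroup.centralizer (E : Set G)) hne
    apply Cfsg.Agent.Lib.Helper3_ZStarMin.perfect_contra x hcl E hEperf hEne
    intro g
    have hME : M ≤ Subgroup.centralizer (E : Set G) := by
      rw [Subgroup.le_centralizer_iff, hEdef]
      unfold layer
      apply sSup_le
      intro L hL
      have hLE : L ≤ E := by rw [hEdef]; exact le_sSup hL
      have h := hM2 L hL (Subgroup.centralizer_le (by exact_mod_cast hLE))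
      rwa [Subgroup.commutator_eq_bot_iff_le_centralizer] at h
    exact hME (hM1 g)
  have hcomp_le : ∀ L : Subgroup G, IsComponent L → L ≤ E := fun L hL => by
    rw [hEdef]; exact le_sSup hL
  have hZL : ∀ L : Subgroup G, IsComponent L → ∀ z ∈ L, (∀ l ∈ L, l * z = z * l) → z = 1 := by
    intro L hL z hz hzc
    have h0 : z ∈ Subgroup.centralizer (E : Set G) := by
      have h1 : E ≤ Subgroup.centralizer ({z} : Set G) := by
        rw [hEdef]
        unfold layer
        apply sSup_le
        intro K hK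
        by_cases hKL : K = L
        · subst hKL
          intro k hk
          exact Subgroup.mem_centralizer_singleton_iff.mpr (hzc k hk)
        · have hc := Cfsg.Agent.Lib.Helper3_Components.components_commute K L hK hL hKL
          intro k hk
          exact Subgroup.mem_centralizer_singleton_iff.mpr
            (Cfsg.Agent.Lib.Helper3_Components.commute_of_commutator_eq_bot hc hk hz)
      refine Subgroup.mem_centralizer_iff.mpr ?_
      intro e he
      exact Subgroup.mem_centralizer_singleton_iff.mp (h1 he)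
    rw [hCE] at h0
    exact Subgroup.mem_bot.mp h0
  -- `G = E⟨x⟩`
  have hH : E ⊔ Subgroup.zpowers x = ⊤ := by
    by_contra hne
    obtain ⟨H, hHdef⟩ : ∃ H : Subgroup G, H = E ⊔ Subgroup.zpowers x := ⟨_, rfl⟩
    rw [← hHdef] at hne
    have hEH : E ≤ H := by rw [hHdef]; exact le_sup_left
    have hxH : x ∈ H := by rw [hHdef]; exact Subgroup.mem_sup_right (Subgroup.mem_zpowers x)
    have h1 := hmin H hxH hne
    obtain ⟨D, hDdef⟩ : ∃ D : Subgroup ↥H, D = pPrimeCore p ↥H := ⟨_, rfl⟩
    haveI hDn : D.Normal := by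
      rw [hDdef]; exact Cfsg.Agent.Lib.Helper5_PPrime.pPrimeCore_normal p _
    have hDc : (Nat.card D).Coprime p := by
      rw [hDdef]; exact Cfsg.Agent.Lib.Helper5_PPrime.pPrimeCore_coprime p _
    obtain ⟨T, hTdef⟩ : ∃ T : Subgroup G, T = D.map H.subtype ⊓ E := ⟨_, rfl⟩
    have hTE : T ≤ E := by rw [hTdef]; exact inf_le_right
    have hTn : E ≤ Subgroup.normalizer (T : Set G) := by
      apply Cfsg.Agent.Lib.Helper4_PIrred.le_normalizer_of_conj_mem'
      intro e he t ht
      rw [hTdef] at ht ⊢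
      obtain ⟨⟨d, hd, rfl⟩, htE⟩ := ht
      refine ⟨⟨⟨e, hEH he⟩ * d * ⟨e, hEH he⟩⁻¹, hDn.conj_mem d hd _, by simp⟩,
        hEn.conj_mem _ htE e⟩
    have hTsub : T.IsSubnormal := by
      apply Subgroup.IsSubnormal.trans hTE _ hEn.isSubnormal
      exact (Subgroup.normal_subgroupOf_of_le_normalizer hTn).isSubnormal
    have hTc : (Nat.card T).Coprime p := by
      have h2 : Nat.card T ∣ Nat.card D := by
        have h3 : T ≤ D.map H.subtype := by rw [hTdef]; exact inf_le_left
        have h4 := Subgroup.card_dvd_of_le h3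
        rwa [Subgroup.card_map_of_injective H.subtype_injective] at h4
      exact Nat.Coprime.coprime_dvd_left h2 hDc
    have hT : T = ⊥ := by
      have h5 := Cfsg.Agent.Lib.Helper3_PComp.subnormal_coprime_le_pPrimeCore p T hTsub hTc
      rw [hO] at h5
      exact le_bot_iff.mp h5
    have hxE : x ∈ Subgroup.centralizer (E : Set G) := by
      refine Subgroup.mem_centralizer_iff.mpr ?_
      intro e he
      have h2 := h1 ⟨e, hEH he⟩
      rw [← hDdef] at h2
      have h3 : e * x * e⁻¹ * x⁻¹ ∈ T := by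
        rw [hTdef]
        refine ⟨⟨_, h2, by simp⟩, ?_⟩
        have e1 : e * x * e⁻¹ * x⁻¹ = e * (x * e⁻¹ * x⁻¹) := by group
        rw [e1]
        exact E.mul_mem he (hEn.conj_mem _ (E.inv_mem he) x)
      rw [hT, Subgroup.mem_bot] at h3
      calc e * x = (e * x * e⁻¹ * x⁻¹) * x * e := by group
        _ = x * e := by rw [h3, one_mul]
    rw [hCE, Subgroup.mem_bot] at hxE
    exact hx1 hxE
  -- a component normalized by `x`
  have hL0 : ∃ L₀ : Subgroup G, IsComponent L₀ ∧ ∀ l ∈ L₀, x * l * x⁻¹ ∈ L₀ := by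
    have hex : ∃ L : Subgroup G, IsComponent L := by
      by_contra hno
      push Not at hno
      apply hEne
      rw [hEdef]
      unfold layer
      rw [eq_bot_iff]
      apply sSup_le
      intro K hK
      exact absurd hK (hno K)
    obtain ⟨L, hL⟩ := hex
    have hdvd : p ∣ Nat.card ↥L := by
      by_contra hnd
      have hc : (Nat.card ↥L).Coprime p := ((Nat.Prime.coprime_iff_not_dvd hp).mpr hnd).symm
      have h1 := Cfsg.Agent.Lib.Helper3_PComp.subnormal_coprime_le_pPrimeCore p L hL.1 hc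
      rw [hO] at h1
      haveI := Cfsg.Agent.Lib.Helper3_Components.quasisimple_nontrivial hL.2
      exact (Subgroup.nontrivial_iff_ne_bot L).mp inferInstance (le_bot_iff.mp h1)
    obtain ⟨⟨y, hyL⟩, hord⟩ := exists_prime_orderOf_dvd_card' p hdvd
    rw [Subgroup.orderOf_mk] at hord
    have hyp : IsPGroup p ↥(Subgroup.zpowers y) := by
      apply IsPGroup.of_card (n := 1)
      rw [Nat.card_zpowers, hord, pow_one]
    obtain ⟨S', hS'⟩ := hyp.exists_le_sylow
    have hyS' : y ∈ S' := hS' (Subgroup.mem_zpowers y)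
    obtain ⟨g, hg⟩ := MulAction.exists_smul_eq G S S'
    have hx'S' : g * x * g⁻¹ ∈ S' := by
      rw [← hg, Cfsg.Agent.Lib.Helper3_Sylow.mem_smul_sylow_iff]
      have e1 : g⁻¹ * (g * x * g⁻¹) * g = x := by group
      rw [e1]; exact hxS
    have hiso' := Cfsg.Agent.Lib.Helper5_Isolated.isIsolated_conj hiso g
    have hcomm := Cfsg.Agent.Lib.Helper5_Isolated.commute_of_mem_pgroup hiso' S'.isPGroup' hx'S' y hyS'
    have hL'eq : L.map (MulAut.conj (g * x * g⁻¹)).toMonoidHom = L := by
      by_contra hne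
      have hL' := Cfsg.Agent.S1265.component_conj L hL (g * x * g⁻¹)
      have hc := Cfsg.Agent.Lib.Helper3_Components.components_commute _ L hL' hL hne
      have hyL' : y ∈ L.map (MulAut.conj (g * x * g⁻¹)).toMonoidHom := by
        refine ⟨y, hyL, ?_⟩
        simp only [MulEquiv.coe_toMonoidHom, MulAut.conj_apply]
        rw [← hcomm.eq, mul_inv_cancel_right]
      have hy1 : y = 1 := hZL L hL y hyL (fun l hl =>
        (Cfsg.Agent.Lib.Helper3_Components.commute_of_commutator_eq_bot hc hyL' hl).symm)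
      rw [hy1, orderOf_one] at hord
      exact hp.one_lt.ne hord
    refine ⟨L.map (MulAut.conj g⁻¹).toMonoidHom, Cfsg.Agent.S1265.component_conj L hL g⁻¹, ?_⟩
    rintro _ ⟨l, hl, rfl⟩
    have h1 : (g * x * g⁻¹) * l * (g * x * g⁻¹)⁻¹ ∈ L := by
      have h2 : (g * x * g⁻¹) * l * (g * x * g⁻¹)⁻¹ ∈
          L.map (MulAut.conj (g * x * g⁻¹)).toMonoidHom := ⟨l, hl, rfl⟩
      rwa [hL'eq] at h2
    refine ⟨_, h1, ?_⟩
    simp only [MulEquiv.coe_toMonoidHom, MulAut.conj_apply]
    group
  obtain ⟨L₀, hL₀, hxL₀⟩ := hL0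
  have hL₀n : L₀.Normal := by
    rw [← Subgroup.normalizer_eq_top_iff, eq_top_iff, ← hH]
    apply sup_le
    · rw [hEdef]
      unfold layer
      apply sSup_le
      intro K hK
      by_cases hKL : K = L₀
      · rw [hKL]; exact Subgroup.le_normalizer
      · have hc := Cfsg.Agent.Lib.Helper3_Components.components_commute K L₀ hK hL₀ hKL
        rw [Subgroup.commutator_eq_bot_iff_le_centralizer] at hc
        exact hc.trans (Subgroup.centralizer_le_normalizer _)
    · rw [Subgroup.zpowers_le]
      exact Subgroup.mem_normalizer_fintype hxL₀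
  haveI := hL₀n
  haveI hCLn : (Subgroup.centralizer (L₀ : Set G)).Normal := inferInstance
  have hL₀perf : ⁅L₀, L₀⁆ = L₀ := Subgroup.isPerfect_iff.mp hL₀.2.1
  have hL₀ne : L₀ ≠ ⊥ := by
    haveI := Cfsg.Agent.Lib.Helper3_Components.quasisimple_nontrivial hL₀.2
    exact (Subgroup.nontrivial_iff_ne_bot L₀).mp inferInstance
  have hCL : Subgroup.centralizer (L₀ : Set G) = ⊥ := by
    by_contra hne
    obtain ⟨M, hMn, hM1, hM2⟩ := Cfsg.Agent.Lib.Helper3_ZStarMin.exists_M x hO hquot
      (Subgroup.centralizer (L₀ : Set G)) hne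
    apply Cfsg.Agent.Lib.Helper3_ZStarMin.perfect_contra x hcl L₀ hL₀perf hL₀ne
    intro g
    have h := hM2 L₀ hL₀ le_rfl
    rw [Subgroup.commutator_eq_bot_iff_le_centralizer] at h
    exact (Subgroup.le_centralizer_iff.mp h) (hM1 g)
  have hEL : E = L₀ := by
    apply le_antisymm
    · rw [hEdef]
      unfold layer
      apply sSup_le
      intro K hK
      by_contra hKn
      have hKL : K ≠ L₀ := fun h => hKn (h ▸ le_rfl)
      have hc := Cfsg.Agent.Lib.Helper3_Components.components_commute K L₀ hK hL₀ hKL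
      rw [Subgroup.commutator_eq_bot_iff_le_centralizer, hCL] at hc
      haveI := Cfsg.Agent.Lib.Helper3_Components.quasisimple_nontrivial hK.2
      exact (Subgroup.nontrivial_iff_ne_bot K).mp inferInstance (le_bot_iff.mp hc)
    · exact hcomp_le L₀ hL₀
  have hcomm : commutator G = L₀ := by
    apply le_antisymm
    · rw [← hEL]
      refine (Cfsg.Agent.Lib.Helper3_ZStarMin.commutator_le_of_comm_mem x hcl E ?_).1
      intro g
      have hg : g ∈ E ⊔ Subgroup.zpowers x := by rw [hH]; exact Subgroup.mem_top g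
      obtain ⟨e, he, z, hz, rfl⟩ := Cfsg.Agent.Lib.Helper3_SupNormalizer.exists_mul_of_mem_sup
        E (Subgroup.zpowers x) (by rw [Subgroup.normalizer_eq_top]; exact le_top) hg
      obtain ⟨i, rfl⟩ := Subgroup.mem_zpowers_iff.mp hz
      have e1 : e * x ^ i * x * (e * x ^ i)⁻¹ * x⁻¹ = e * (x * e⁻¹ * x⁻¹) := by group
      rw [e1]
      exact E.mul_mem he (hEn.conj_mem _ (E.inv_mem he) x)
    · rw [commutator_def]
      calc L₀ = ⁅L₀, L₀⁆ := hL₀perf.symm
        _ ≤ ⁅(⊤ : Subgroup G), ⊤⁆ := Subgroup.commutator_mono le_top le_top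
  have hZ : Subgroup.center ↥L₀ = ⊥ := by
    rw [eq_bot_iff]
    intro z hz
    rw [Subgroup.mem_bot]
    apply Subtype.ext
    apply hZL L₀ hL₀ z z.2
    intro l hl
    have h1 := Subgroup.mem_center_iff.mp hz ⟨l, hl⟩
    exact congrArg Subtype.val h1
  refine ⟨?_, ?_, ?_⟩
  · rw [hcomm]
    exact Cfsg.Agent.Lib.Helper3_SPESimple.simple_of_quasisimple_of_center_eq_bot hL₀.2 hZ
  · rw [hcomm]
    intro hc
    apply Cfsg.Agent.Lib.Helper3_Components.quasisimple_not_solvable hL₀.2
    letI : CommGroup ↥L₀ := { (inferInstance : Group ↥L₀) with mul_comm := hc.is_comm.comm }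
    infer_instance
  · rw [hcomm, ← hEL]
    exact hH

end Cfsg.Agent.S2972
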