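import Cfsg.Statements.S2975
import Cfsg.Agent.Lib.Helper3_ZStarMin
import Cfsg.Agent.Lib.Helper3_ZStarSylow
import Cfsg.Agent.Lib.Helper5_Isolated
import Cfsg.Agent.Lib.Helper5_Sylow

set_option autoImplicit false
open Cfsg

namespace Cfsg.Agent.S2975

open Cfsg.Agent.Lib.Lead_SZ
open scoped Pointwise

/-- Let G be a finite group, p a prime and x ∈ G an isolated element of order p (the only conjugate of x commuting with x is x) which is not central modulo the largest normal subgroup of order prime to p, while x is central modulo the largest normal subgroup of order prime to p in every proper subgroup containing x, and the image of x is so in every quotient of G by a nontrivial normal subgroup (a minimal counterexample to the Z*_p statement). Then for every prime q, every q-subgroup of G that is normalized by x and maximal among the q-subgroups normalized by x is either trivial or a Sylow q-subgroup of G; and C_G(x) permutes the x-invariant Sylow q-subgroups of G transitively by conjugation. -/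
theorem result {G : Type*} [Group G] [Finite G] {p : ℕ} [Fact p.Prime] (x : G) (hx : orderOf x = p) (hiso : Cfsg.IsIsolated x) (hnz : ¬ Cfsg.InZStar p x) (hmin : ∀ (H : Subgroup G) (hxH : x ∈ H), H ≠ ⊤ → Cfsg.InZStar p (⟨x, hxH⟩ : ↥H)) (hquot : ∀ (N : Subgroup G) [N.Normal], N ≠ ⊥ → Cfsg.InZStar p (QuotientGroup.mk x : G ⧸ N)) (q : ℕ) [Fact q.Prime] : (∀ Q : Subgroup G, IsPGroup q ↥Q → x ∈ Subgroup.normalizer (Q : Set G) → (∀ R : Subgroup G, IsPGroup q ↥R → x ∈ Subgroup.normalizer (R : Set G) → Q ≤ R → R = Q) → Q = ⊥ ∨ ∃ S : Sylow q G, (S : Subgroup G) = Q) ∧ (∀ S₁ S₂ : Sylow q G, x ∈ Subgroup.normalizer ((S₁ : Subgroup G) : Set G) → x ∈ Subgroup.normalizer ((S₂ : Subgroup G) : Set G) → ∃ c ∈ Subgroup.centralizer ({x} : Set G), (S₁ : Subgroup G).map (MulAut.conj c).toMonoidHom = (S₂ : Subgroup G)) := by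
  classical
  have hp : p.Prime := Fact.out
  have hq : q.Prime := Fact.out
  have hO := Cfsg.Agent.Lib.Helper3_ZStarMin.core_eq_bot x hnz hquot
  have hxpow : ∃ k : ℕ, orderOf x = p ^ k := ⟨1, by rw [hx, pow_one]⟩
  constructor
  · intro Q hQq hxQ hmax
    by_cases hQbot : Q = ⊥
    · left; exact hQbot
    right
    rcases eq_or_ne q p with hqp | hqp
    · -- `q = p`
      have hxq : orderOf x = q := by rw [hqp]; exact hx
      have hT : IsPGroup q ↥(Q ⊔ Subgroup.zpowers x) := by
        obtain ⟨a, ha⟩ := IsPGroup.iff_card.mp hQq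
        have h1 := Cfsg.Agent.Lib.Helper3_SupNormalizer.card_sup_dvd_of_le_normalizer Q
          (Subgroup.zpowers x) (by rw [Subgroup.zpowers_le]; exact hxQ)
        rw [ha, Nat.card_zpowers, hxq, ← pow_succ] at h1
        obtain ⟨b, -, hb⟩ := (Nat.dvd_prime_pow hq).mp h1
        exact IsPGroup.of_card hb
      obtain ⟨P, hP⟩ := hT.exists_le_sylow
      have hxP : x ∈ (P : Subgroup G) := hP (Subgroup.mem_sup_right (Subgroup.mem_zpowers x))
      have h2 := hmax P P.isPGroup' (Subgroup.le_normalizer hxP) (le_sup_left.trans hP)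
      exact ⟨P, h2⟩
    · -- `q ≠ p`
      obtain ⟨N, hNdef⟩ : ∃ N : Subgroup G, N = Subgroup.normalizer (Q : Set G) := ⟨_, rfl⟩
      have hxN : x ∈ N := by rw [hNdef]; exact hxQ
      have hQN : Q ≤ N := by rw [hNdef]; exact Subgroup.le_normalizer
      have hNtop : N ≠ ⊤ := by
        intro htop
        rw [hNdef, Subgroup.normalizer_eq_top_iff] at htop
        haveI := htop
        have hc : (Nat.card ↥Q).Coprime p := by
          obtain ⟨a, ha⟩ := IsPGroup.iff_card.mp hQq
          rw [ha]
          exact Nat.Coprime.pow_left a ((Nat.coprime_primes hq hp).mpr hqp)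
        have h1 := Cfsg.Agent.Lib.Helper5_PPrime.le_pPrimeCore Q hc
        rw [hO] at h1
        exact hQbot (le_bot_iff.mp h1)
      have hZ := hmin N hxN hNtop
      have hQ'q : IsPGroup q ↥(Q.subgroupOf N) :=
        hQq.comap_of_injective N.subtype (Subgroup.subtype_injective N)
      obtain ⟨R, hR⟩ := hQ'q.exists_le_sylow
      obtain ⟨d, hdN, hxd⟩ := Cfsg.Agent.Lib.Helper3_ZStarSylow.exists_invariant_sylow x hx N hxN hZ R
      have hR₁q : IsPGroup q ↥(MulAut.conj d • ((R : Subgroup ↥N).map N.subtype) : Subgroup G) :=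
        (R.isPGroup'.map N.subtype).map (MulAut.conj d).toMonoidHom
      have hQR₁ : Q ≤ (MulAut.conj d • ((R : Subgroup ↥N).map N.subtype) : Subgroup G) := by
        intro z hz
        rw [mem_conj_smul]
        have hd' : d⁻¹ ∈ Subgroup.normalizer (Q : Set G) := by
          rw [← hNdef]; exact N.inv_mem hdN
        have h1 : d⁻¹ * z * d⁻¹⁻¹ ∈ Q := (Subgroup.mem_normalizer_iff.mp hd' z).mp hz
        rw [inv_inv] at h1
        exact ⟨⟨d⁻¹ * z * d, hQN h1⟩, hR (Subgroup.mem_subgroupOf.mpr h1), rfl⟩
      have hR₁Q := hmax _ hR₁q hxd hQR₁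
      have hcardQ : Nat.card ↥Q = Nat.card ↥(R : Subgroup ↥N) := by
        rw [← hR₁Q]
        have h : (MulAut.conj d • ((R : Subgroup ↥N).map N.subtype) : Subgroup G) =
            ((R : Subgroup ↥N).map N.subtype).map (MulAut.conj d).toMonoidHom := rfl
        rw [h, Subgroup.card_map_of_injective (MulAut.conj d).injective,
          Subgroup.card_map_of_injective N.subtype_injective]
      obtain ⟨P, hP⟩ := hQq.exists_le_sylow
      refine ⟨P, ?_⟩
      by_contra hne
      have hlt : Q < (P : Subgroup G) := lt_of_le_of_ne hP (fun h => hne h.symm)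
      have h1 := Cfsg.Agent.Lib.Helper5_Sylow.lt_inf_normalizer P.isPGroup' hlt
      rw [← hNdef] at h1
      have h2 := Cfsg.Agent.Lib.Helper5_Sylow.card_lt_of_lt h1
      have h3 : IsPGroup q ↥(((P : Subgroup G) ⊓ N).subgroupOf N) :=
        (P.isPGroup'.to_le inf_le_left).comap_of_injective N.subtype (Subgroup.subtype_injective N)
      obtain ⟨R', hR'⟩ := h3.exists_le_sylow
      have h4 := Subgroup.card_le_of_le hR'
      rw [card_subgroupOf_of_le inf_le_right] at h4
      have h5 : Nat.card ↥(R' : Subgroup ↥N) = Nat.card ↥(R : Subgroup ↥N) := by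
        rw [Sylow.card_eq_multiplicity, Sylow.card_eq_multiplicity]
      omega
  · intro S₁ S₂ h1 h2
    obtain ⟨g, hg⟩ := MulAction.exists_smul_eq G S₁ S₂
    have hS₂ : (S₂ : Subgroup G) = MulAut.conj g • (S₁ : Subgroup G) := by
      rw [← hg, Sylow.coe_subgroup_smul]
    have hgx : g * x * g⁻¹ ∈ Subgroup.normalizer ((S₂ : Subgroup G) : Set G) := by
      rw [conj_smul_le_normalizer, hS₂, conj_smul_smul]
      have e : g * x * g⁻¹ * g = g * x := by group
      rw [e, ← conj_smul_smul, conj_smul_le_normalizer.mp h1]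
    obtain ⟨c, hc, hcx⟩ := Cfsg.Agent.Lib.Helper5_Isolated.exists_conj_eq hxpow hiso
      (Subgroup.normalizer ((S₂ : Subgroup G) : Set G)) h2 g hgx
    refine ⟨c * g, Subgroup.mem_centralizer_singleton_iff.mpr ?_, ?_⟩
    · calc c * g * x = ((c * g) * x * (c * g)⁻¹) * (c * g) := by group
        _ = x * (c * g) := by rw [hcx]
    · show MulAut.conj (c * g) • (S₁ : Subgroup G) = (S₂ : Subgroup G)
      rw [← conj_smul_smul, ← hS₂]
      exact conj_smul_le_normalizer.mp hc

end Cfsg.Agent.S2975
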