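import Mathlib
import Cfsg.Statements.S2998
import Cfsg.Agent.Lib.Helper5_Sylow

set_option autoImplicit false
open Cfsg

namespace Cfsg.Agent.S2998

open Cfsg.Agent.Lib.Helper5_Sylow

/-- Alperin-style induction: any element conjugating a nontrivial subgroup of `P` into `P` centralizes `x`. -/
theorem claim {G : Type*} [Group G] [Finite G] {p : ℕ} [Fact p.Prime] (P : Sylow p G) (x : G)
    (hlc : ∀ R : Subgroup G, R ≤ (P : Subgroup G) → R ≠ ⊥ → Subgroup.normalizer (R : Set G) ≤ Subgroup.centralizer ({x} : Set G)) :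
    ∀ (n : ℕ) (R₀ : Subgroup G) (h : G), R₀ ≤ (P : Subgroup G) → R₀ ≠ ⊥ →
      R₀.map (MulAut.conj h).toMonoidHom ≤ (P : Subgroup G) →
      Nat.card (P : Subgroup G) - Nat.card R₀ = n → h ∈ Subgroup.centralizer ({x} : Set G) := by
  intro n
  induction n using Nat.strong_induction_on with
  | _ n ih =>
    intro R₀ h hR₀P hR₀ne hmap hn
    by_cases hRP : R₀ = (P : Subgroup G)
    · subst hRP
      have heq : (P : Subgroup G).map (MulAut.conj h).toMonoidHom = (P : Subgroup G) :=
        Subgroup.eq_of_le_of_card_ge hmap (card_map_conj h _).ge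
      exact hlc _ le_rfl hR₀ne (mem_normalizer_of_map_eq h _ heq)
    · have hlt : R₀ < (P : Subgroup G) := lt_of_le_of_ne hR₀P hRP
      set R' := R₀.map (MulAut.conj h).toMonoidHom with hR'
      have hR'card : Nat.card R' = Nat.card R₀ := card_map_conj h R₀
      have hR'ne : R' ≠ ⊥ := by
        rw [hR', Ne, Subgroup.map_eq_bot_iff_of_injective _ (MulAut.conj h).injective]
        exact hR₀ne
      have hR'lt : R' < (P : Subgroup G) := by
        refine lt_of_le_of_ne hmap ?_
        intro heq
        have : Nat.card R₀ = Nat.card (P : Subgroup G) := by rw [← hR'card, heq]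
        exact hRP (Subgroup.eq_of_le_of_card_ge hR₀P this.ge)
      set A := (P : Subgroup G) ⊓ Subgroup.normalizer (R' : Set G) with hA
      set R₁ := (P : Subgroup G) ⊓ Subgroup.normalizer (R₀ : Set G) with hR₁
      have hAlt : R' < A := lt_inf_normalizer P.2 hR'lt
      have hR₁lt : R₀ < R₁ := lt_inf_normalizer P.2 hlt
      set B := R₁.map (MulAut.conj h).toMonoidHom with hB
      set M := Subgroup.normalizer (R' : Set G) with hM
      have hAM : A ≤ M := inf_le_right
      have hBM : B ≤ M := by
        have h1 : R₁ ≤ Subgroup.normalizer (R₀ : Set G) := inf_le_right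
        exact (Subgroup.map_mono h1).trans (Subgroup.le_normalizer_map _)
      have hAp : IsPGroup p A := P.2.to_le inf_le_left
      have hBp : IsPGroup p B := (P.2.to_le inf_le_left).map _
      obtain ⟨m, hmM, T, hTp, -, hAT, hBT⟩ := exists_conj_le_common_pgroup hAM hBM hAp hBp
      obtain ⟨k, hk⟩ := exists_conj_le_sylow hTp P
      have hmC : m ∈ Subgroup.centralizer ({x} : Set G) := hlc R' hmap hR'ne hmM
      have hcardP : Nat.card R₀ < Nat.card (P : Subgroup G) := card_lt_of_lt hlt
      -- induction for (A, k)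
      have hkC : k ∈ Subgroup.centralizer ({x} : Set G) := by
        have hcA : Nat.card R' < Nat.card A := card_lt_of_lt hAlt
        have hcA2 : Nat.card A ≤ Nat.card (P : Subgroup G) := Subgroup.card_le_of_le inf_le_left
        refine ih (Nat.card (P : Subgroup G) - Nat.card A) (by omega) A k inf_le_left ?_ ?_ rfl
        · intro hbot
          rw [hbot] at hAlt
          exact not_lt_bot hAlt
        · exact (Subgroup.map_mono hAT).trans hk
      -- induction for (R₁, k * m * h)
      have hkmhC : k * (m * h) ∈ Subgroup.centralizer ({x} : Set G) := by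
        have hcR : Nat.card R₀ < Nat.card R₁ := card_lt_of_lt hR₁lt
        have hcR2 : Nat.card R₁ ≤ Nat.card (P : Subgroup G) := Subgroup.card_le_of_le inf_le_left
        refine ih (Nat.card (P : Subgroup G) - Nat.card R₁) (by omega) R₁ (k * (m * h)) inf_le_left ?_ ?_ rfl
        · intro hbot
          rw [hbot] at hR₁lt
          exact not_lt_bot hR₁lt
        · rw [← map_conj_mul, ← map_conj_mul]
          exact (Subgroup.map_mono hBT).trans hk
      have : h = m⁻¹ * (k⁻¹ * (k * (m * h))) := by group
      rw [this]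
      exact Subgroup.mul_mem _ (Subgroup.inv_mem _ hmC)
        (Subgroup.mul_mem _ (Subgroup.inv_mem _ hkC) hkmhC)

/-- Let G be a finite group, p a prime, P a Sylow p-subgroup of G and x ∈ P an element such that N_G(R) ≤ C_G(x) for every nontrivial subgroup R of P. Then P ≤ C_G(x); every G-conjugate of x lying in P equals x (so g ∈ C_G(x) whenever g x g⁻¹ ∈ P); and for every normal subgroup N of G, the image of x in G ⧸ N has the same property with respect to the image of P: the normalizer of every nontrivial subgroup of the image of P centralizes the image of x. -/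
theorem result {G : Type*} [Group G] [Finite G] {p : ℕ} [Fact p.Prime] (P : Sylow p G) (x : G) (hxP : x ∈ (P : Subgroup G)) (hlc : ∀ R : Subgroup G, R ≤ (P : Subgroup G) → R ≠ ⊥ → Subgroup.normalizer (R : Set G) ≤ Subgroup.centralizer ({x} : Set G)) : (P : Subgroup G) ≤ Subgroup.centralizer ({x} : Set G) ∧ (∀ g : G, g * x * g⁻¹ ∈ (P : Subgroup G) → g * x * g⁻¹ = x) ∧ ∀ (N : Subgroup G) [N.Normal], ∀ R : Subgroup (G ⧸ N), R ≤ (P : Subgroup G).map (QuotientGroup.mk' N) → R ≠ ⊥ → Subgroup.normalizer (R : Set (G ⧸ N)) ≤ Subgroup.centralizer ({(QuotientGroup.mk x : G ⧸ N)} : Set (G ⧸ N)) := by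
  have hPC : (P : Subgroup G) ≤ Subgroup.centralizer ({x} : Set G) := by
    by_cases hbot : (P : Subgroup G) = ⊥
    · rw [hbot]; exact bot_le
    · exact Subgroup.le_normalizer.trans (hlc _ le_rfl hbot)
  refine ⟨hPC, ?_, ?_⟩
  · intro g hg
    by_cases hx1 : x = 1
    · subst hx1; simp
    · have hz : Subgroup.zpowers x ≤ (P : Subgroup G) := by rwa [Subgroup.zpowers_le]
      have hzne : Subgroup.zpowers x ≠ ⊥ := by
        rw [Ne, Subgroup.zpowers_eq_bot]; exact hx1
      have hmap : (Subgroup.zpowers x).map (MulAut.conj g).toMonoidHom ≤ (P : Subgroup G) := by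
        rw [MonoidHom.map_zpowers, Subgroup.zpowers_le]
        simpa using hg
      have := claim P x hlc _ (Subgroup.zpowers x) g hz hzne hmap rfl
      rw [Subgroup.mem_centralizer_singleton_iff] at this
      rw [this]; group
  · intro N _ R hRP hRne n hn
    obtain ⟨n, rfl⟩ := QuotientGroup.mk_surjective n
    -- preimage
    set Rt : Subgroup G := R.comap (QuotientGroup.mk' N) with hRt
    set R₀ : Subgroup G := (P : Subgroup G) ⊓ Rt with hR₀
    have hR₀ne : R₀ ≠ ⊥ := by
      obtain ⟨⟨r, hr⟩, hr1'⟩ := (Subgroup.ne_bot_iff_exists_ne_one).mp hRne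
      have hr1 : r ≠ 1 := fun h' => hr1' (Subtype.ext h')
      obtain ⟨s, hs, hsr⟩ := hRP hr
      intro hbot
      have hsRt : s ∈ Rt := by rw [hRt, Subgroup.mem_comap, hsr]; exact hr
      have hsR₀ : s ∈ R₀ := ⟨hs, hsRt⟩
      rw [hbot, Subgroup.mem_bot] at hsR₀
      apply hr1
      rw [← hsr, hsR₀, map_one]
    -- n normalizes Rt
    have hnRt : n ∈ Subgroup.normalizer (Rt : Set G) := by
      rw [Subgroup.mem_normalizer_iff]
      intro y
      rw [hRt, Subgroup.mem_comap, Subgroup.mem_comap]
      have := (Subgroup.mem_normalizer_iff.mp hn) (QuotientGroup.mk' N y)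
      simpa using this
    have hA : R₀ ≤ Rt := inf_le_right
    have hB : R₀.map (MulAut.conj n).toMonoidHom ≤ Rt := by
      rintro _ ⟨y, hy, rfl⟩
      exact (Subgroup.mem_normalizer_iff.mp hnRt y).mp (hA hy)
    have hAp : IsPGroup p R₀ := P.2.to_le inf_le_left
    have hBp : IsPGroup p (R₀.map (MulAut.conj n).toMonoidHom) := hAp.map _
    obtain ⟨k, hkRt, T, hTp, -, hAT, hBT⟩ := exists_conj_le_common_pgroup hA hB hAp hBp
    obtain ⟨h, hh⟩ := exists_conj_le_sylow hTp P
    have hhC : h ∈ Subgroup.centralizer ({x} : Set G) :=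
      claim P x hlc _ R₀ h inf_le_left hR₀ne ((Subgroup.map_mono hAT).trans hh) rfl
    have hhknC : h * (k * n) ∈ Subgroup.centralizer ({x} : Set G) := by
      refine claim P x hlc _ R₀ (h * (k * n)) inf_le_left hR₀ne ?_ rfl
      rw [← map_conj_mul, ← map_conj_mul]
      exact (Subgroup.map_mono hBT).trans hh
    have hknC : k * n ∈ Subgroup.centralizer ({x} : Set G) := by
      have : k * n = h⁻¹ * (h * (k * n)) := by group
      rw [this]
      exact Subgroup.mul_mem _ (Subgroup.inv_mem _ hhC) hhknC
    -- image of k centralizes image of x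
    have hkbar : (QuotientGroup.mk k : G ⧸ N) ∈ Subgroup.centralizer ({(QuotientGroup.mk x : G ⧸ N)} : Set (G ⧸ N)) := by
      have hkR : (QuotientGroup.mk' N k) ∈ R := hkRt
      obtain ⟨s, hs, hsk⟩ := hRP hkR
      have hsC := hPC hs
      rw [Subgroup.mem_centralizer_singleton_iff] at hsC ⊢
      have : (QuotientGroup.mk k : G ⧸ N) = QuotientGroup.mk' N s := hsk.symm
      rw [this]
      have := congrArg (QuotientGroup.mk' N) hsC
      simpa using this
    have hknbar : (QuotientGroup.mk (k * n) : G ⧸ N) ∈ Subgroup.centralizer ({(QuotientGroup.mk x : G ⧸ N)} : Set (G ⧸ N)) := by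
      rw [Subgroup.mem_centralizer_singleton_iff] at hknC ⊢
      have := congrArg (QuotientGroup.mk' N) hknC
      simpa using this
    have : (QuotientGroup.mk n : G ⧸ N) = (QuotientGroup.mk k : G ⧸ N)⁻¹ * QuotientGroup.mk (k * n) := by
      rw [QuotientGroup.mk_mul]; group
    rw [this]
    exact Subgroup.mul_mem _ (Subgroup.inv_mem _ hkbar) hknbar

end Cfsg.Agent.S2998
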