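import Mathlib
import Cfsg.Statements.S3003
import Cfsg.Agent.S0058
import Cfsg.Agent.Lib.Helper5_CharP
import Cfsg.Agent.Lib.Helper5_PPrime
import Cfsg.Agent.Lib.Helper5_SE2
import Cfsg.Agent.Lib.Helper5_CD
import Cfsg.Agent.Lib.Helper2_Cyclic
import Cfsg.Agent.Lib.Helper7_Maschke
import Cfsg.Agent.Lib.Helper7_PFrattini

set_option autoImplicit false
open Cfsg

namespace Cfsg.Agent.S3003

open Cfsg.Agent.Lib.Helper5_CharP Cfsg.Agent.Lib.Helper5_PPrime Cfsg.Agent.Lib.Helper5_SE2
open Subgroup

section hyper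
variable {G : Type*} [Group G] [Finite G] {p : ℕ} [Fact p.Prime]

theorem isPGroup_of_elem {U : Subgroup G} (hU : Cfsg.IsElementaryAbelian p U) : IsPGroup p U := by
  intro a
  refine ⟨1, ?_⟩
  apply Subtype.ext
  rw [pow_one, Subgroup.coe_pow, hU.2 a a.2]
  rfl

theorem elem_comm {U : Subgroup G} (hU : Cfsg.IsElementaryAbelian p U) :
    ∀ a ∈ U, ∀ b ∈ U, a * b = b * a := by
  intro a ha b hb
  have := hU.1.is_comm.comm (⟨a, ha⟩ : U) ⟨b, hb⟩
  exact congrArg Subtype.val this

theorem elem_of_le {U V : Subgroup G} (hU : Cfsg.IsElementaryAbelian p U) (hVU : V ≤ U) :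
    Cfsg.IsElementaryAbelian p V := by
  refine ⟨⟨⟨fun a b => ?_⟩⟩, fun a ha => hU.2 a (hVU ha)⟩
  apply Subtype.ext
  exact elem_comm hU a (hVU a.2) b (hVU b.2)

/-- index `p` subgroups are coatoms -/
theorem isCoatom_of_card {U X : Subgroup G} (hXU : X ≤ U) (hcard : Nat.card U = p * Nat.card X) :
    IsCoatom (X.subgroupOf U) := by
  have hp := (Fact.out : p.Prime)
  constructor
  · intro h
    rw [subgroupOf_eq_top] at h
    have : X = U := le_antisymm hXU h
    rw [this] at hcard
    have hpos : 0 < Nat.card U := Nat.card_pos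
    have : 1 * Nat.card U = p * Nat.card U := by rw [one_mul]; exact hcard
    have := Nat.eq_of_mul_eq_mul_right hpos this
    exact hp.one_lt.ne this
  · intro Y hY
    set Y' := Y.map U.subtype with hY'
    have hY'U : Y' ≤ U := map_subtype_le _
    have hXY' : X < Y' := by
      constructor
      · intro x hx
        exact ⟨⟨x, hXU hx⟩, hY.le (mem_subgroupOf.mpr hx), rfl⟩
      · intro hle
        apply hY.not_ge
        intro y hy
        rw [mem_subgroupOf]
        exact hle ⟨y, hy, rfl⟩
    have h1 : Nat.card X ∣ Nat.card Y' := Subgroup.card_dvd_of_le hXY'.le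
    have h2 : Nat.card Y' ∣ Nat.card U := Subgroup.card_dvd_of_le hY'U
    have h3 : Nat.card X < Nat.card Y' := by
      by_contra hcon
      push Not at hcon
      have := Subgroup.eq_of_le_of_card_ge hXY'.le hcon
      exact hXY'.ne this
    obtain ⟨a, ha⟩ := h1
    rw [ha, hcard, mul_comm p] at h2
    have hXpos : 0 < Nat.card X := Nat.card_pos
    have h4 : a ∣ p := Nat.dvd_of_mul_dvd_mul_left hXpos h2
    have ha1 : a ≠ 1 := by
      intro h; rw [h, mul_one] at ha; omega
    have hap : a = p := by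
      rcases (Nat.dvd_prime hp).mp h4 with h | h
      · exact absurd h ha1
      · exact h
    have h5 : Nat.card Y' = Nat.card U := by rw [ha, hap, hcard, mul_comm]
    have h6 : Y' = U := Subgroup.eq_of_le_of_card_ge hY'U h5.ge
    rw [eq_top_iff]
    intro u _
    have : (u : G) ∈ Y' := by rw [h6]; exact u.2
    obtain ⟨y, hy, hyu⟩ := this
    have : y = u := Subtype.ext hyu
    rw [← this]; exact hy

/-- coatoms of a `p`-subgroup have index `p` -/
theorem card_of_isCoatom {U X : Subgroup G} (hU : IsPGroup p U) (hXU : X ≤ U)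
    (hX : IsCoatom (X.subgroupOf U)) : Nat.card U = p * Nat.card X := by
  obtain ⟨_, hidx⟩ := Cfsg.Agent.Lib.Helper7_PFrattini.coatom_normal_index hU _ hX
  have h1 := (X.subgroupOf U).card_mul_index
  rw [hidx, Nat.card_congr (Subgroup.subgroupOfEquivOfLe hXU).toEquiv] at h1
  rw [← h1, mul_comm]

theorem centralizer_zpowers (e : G) :
    centralizer ((zpowers e : Subgroup G) : Set G) = centralizer ({e} : Set G) := by
  ext c
  rw [mem_centralizer_iff, mem_centralizer_singleton_iff]
  constructor
  · intro h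
    exact (h e (mem_zpowers e)).symm
  · intro h z hz
    obtain ⟨k, rfl⟩ := mem_zpowers_iff.mp hz
    have hc : Commute c e := h
    exact (hc.symm.zpow_left k).eq

/-- complement of `⟨e⟩` in an elementary abelian group -/
theorem exists_complement {U : Subgroup G} (hU : Cfsg.IsElementaryAbelian p U) {e : G}
    (heU : e ∈ U) : ∃ U' : Subgroup G, U' ≤ U ∧ U' ⊓ zpowers e = ⊥ ∧ U' ⊔ zpowers e = U := by
  have hcomm : ∀ x y : U, x * y = y * x := fun x y => hU.1.is_comm.comm x y
  have hexp : ∀ x : U, x ^ p = 1 := by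
    intro x
    apply Subtype.ext
    rw [Subgroup.coe_pow, hU.2 x x.2]; rfl
  obtain ⟨W, hW1, hW2⟩ := Cfsg.Agent.Lib.Helper7_Maschke.exists_complement_of_elementary hcomm p hexp
    ((zpowers e).subgroupOf U)
  have hZU : zpowers e ≤ U := by rw [zpowers_le]; exact heU
  refine ⟨W.map U.subtype, map_subtype_le _, ?_, ?_⟩
  · rw [eq_bot_iff]
    rintro x ⟨⟨w, hw, rfl⟩, hx2⟩
    have : w ∈ (zpowers e).subgroupOf U ⊓ W := ⟨mem_subgroupOf.mpr hx2, hw⟩
    rw [hW1, mem_bot] at this
    rw [this]; exact Subgroup.one_mem _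
  · apply le_antisymm
    · exact sup_le (map_subtype_le _) hZU
    · intro u hu
      have h1 : (⟨u, hu⟩ : U) ∈ (zpowers e).subgroupOf U ⊔ W := by rw [hW2]; trivial
      have h2 : U.subtype ⟨u, hu⟩ ∈ ((zpowers e).subgroupOf U ⊔ W).map U.subtype :=
        mem_map_of_mem _ h1
      rw [Subgroup.map_sup, Subgroup.subgroupOf_map_subtype, inf_of_le_left hZU, sup_comm] at h2
      exact h2

/-- hyperplane form of generation by centralizers, in the form needed here -/
theorem hyperplane_trivial : ∀ (n : ℕ) (U R : Subgroup G), Nat.card U = n →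
    Cfsg.IsElementaryAbelian p U → U ≠ ⊥ → U ≤ normalizer (R : Set G) → (Nat.card R).Coprime p →
    (∀ U₀ : Subgroup G, U₀ ≤ U → IsCoatom (U₀.subgroupOf U) → R ⊓ centralizer (U₀ : Set G) = ⊥) →
    R = ⊥ := by
  have hp := (Fact.out : p.Prime)
  intro n
  induction n using Nat.strong_induction_on with
  | _ n ih =>
    intro U R hn hU hUne hUR hcop hhyp
    have hUp : IsPGroup p U := isPGroup_of_elem hU
    obtain ⟨k, hk⟩ := hUp.exists_card_eq
    have hk0 : k ≠ 0 := by
      rintro rfl
      rw [pow_zero] at hk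
      exact hUne ((Subgroup.card_eq_one).mp hk)
    by_cases hk1 : k = 1
    · -- |U| = p : ⊥ is a coatom
      have h1 : IsCoatom ((⊥ : Subgroup G).subgroupOf U) := by
        apply isCoatom_of_card (p := p) bot_le
        rw [hk, hk1, pow_one, Subgroup.card_bot, mul_one]
      have := hhyp ⊥ bot_le h1
      rw [Subgroup.coe_bot, centralizer_eq_top_iff_subset.mpr (by simp), inf_top_eq] at this
      exact this
    · have hk2 : 2 ≤ k := by omega
      have hcard2 : p ^ 2 ≤ Nat.card U := by rw [hk]; exact Nat.pow_le_pow_right hp.pos hk2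
      haveI : IsMulCommutative U := hU.1
      have hnc : ¬ IsCyclic U := by
        intro hcyc
        obtain ⟨g, hg⟩ := hcyc.exists_ofOrder_eq_natCard
        have h1 : (g : G) ^ p = 1 := hU.2 g g.2
        have h2 : orderOf (g : G) ∣ p := orderOf_dvd_of_pow_eq_one h1
        rw [Subgroup.orderOf_coe, hg] at h2
        have h3 : Nat.card U ≤ p := Nat.le_of_dvd hp.pos h2
        have h4 : p < p ^ 2 := by
          calc p = p ^ 1 := (pow_one p).symm
            _ < p ^ 2 := Nat.pow_lt_pow_right hp.one_lt (by norm_num)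
        omega
      have hcopUR : (Nat.card U).Coprime (Nat.card R) := by
        rw [hk]; exact Nat.Coprime.pow_left k hcop.symm
      have hgen := Cfsg.Agent.S0058.result U R hnc hUR hcopUR
      rw [← hgen, eq_bot_iff]
      apply iSup₂_le
      rintro e ⟨heU, he1⟩
      -- R_e = ⊥ by induction
      set Re := R ⊓ centralizer ({e} : Set G) with hRe
      have heo : orderOf e = p := by
        have := orderOf_dvd_of_pow_eq_one (hU.2 e heU)
        rcases (Nat.dvd_prime hp).mp this with h1 | h1
        · exact absurd (orderOf_eq_one_iff.mp h1) he1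
        · exact h1
      obtain ⟨U', hU'U, hU'e, hU'sup⟩ := exists_complement hU heU
      have hcommU'e : ∀ a ∈ U', ∀ b ∈ zpowers e, a * b = b * a := by
        intro a ha b hb
        exact elem_comm hU a (hU'U ha) b ((zpowers_le.mpr heU) hb)
      have hcardU : Nat.card U = Nat.card U' * p := by
        have := Cfsg.Agent.Lib.Helper2_Cyclic.card_sup_of_commute_disjoint U' (zpowers e) hcommU'e hU'e
        rw [hU'sup, Nat.card_zpowers, heo] at this
        exact this
      have hU'ne : U' ≠ ⊥ := by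
        intro h
        rw [h, Subgroup.card_bot, one_mul] at hcardU
        have h4 : p < p ^ 2 := by
          calc p = p ^ 1 := (pow_one p).symm
            _ < p ^ 2 := Nat.pow_lt_pow_right hp.one_lt (by norm_num)
        omega
      have hlt : Nat.card U' < n := by
        rw [← hn, hcardU]
        have : 0 < Nat.card U' := Nat.card_pos
        nlinarith [hp.one_lt]
      have hU'Re : U' ≤ normalizer (Re : Set G) := by
        intro u hu
        have huU := hU'U hu
        have huc : u ∈ centralizer ({e} : Set G) :=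
          mem_centralizer_singleton_iff.mpr (elem_comm hU u huU e heU)
        apply mem_normalizer_of_forall_conj_mem
        · intro r hr
          refine ⟨conj_mem_of_mem_normalizer (hUR huU) hr.1, ?_⟩
          exact (centralizer ({e} : Set G)).mul_mem ((centralizer ({e} : Set G)).mul_mem huc hr.2)
            ((centralizer ({e} : Set G)).inv_mem huc)
        · intro r hr
          refine ⟨conj_mem_of_mem_normalizer' (hUR huU) hr.1, ?_⟩
          exact (centralizer ({e} : Set G)).mul_mem ((centralizer ({e} : Set G)).mul_mem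
            ((centralizer ({e} : Set G)).inv_mem huc) hr.2) huc
      have hcopRe : (Nat.card Re).Coprime p :=
        Nat.Coprime.coprime_dvd_left (Subgroup.card_dvd_of_le inf_le_left) hcop
      apply le_of_eq
      apply ih (Nat.card U') hlt U' Re rfl (elem_of_le hU hU'U) hU'ne hU'Re hcopRe
      intro W hWU' hW
      have hcardU' := card_of_isCoatom (hUp.to_le hU'U) hWU' hW
      set U₀ := W ⊔ zpowers e with hU₀
      have hU₀U : U₀ ≤ U := sup_le (hWU'.trans hU'U) (zpowers_le.mpr heU)
      have hWe : W ⊓ zpowers e = ⊥ := by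
        rw [eq_bot_iff, ← hU'e]
        exact inf_le_inf_right _ hWU'
      have hcardU₀ : Nat.card U₀ = Nat.card W * p := by
        have := Cfsg.Agent.Lib.Helper2_Cyclic.card_sup_of_commute_disjoint W (zpowers e)
          (fun a ha b hb => hcommU'e a (hWU' ha) b hb) hWe
        rw [Nat.card_zpowers, heo] at this
        exact this
      have hco : IsCoatom (U₀.subgroupOf U) := by
        apply isCoatom_of_card (p := p) hU₀U
        rw [hcardU, hcardU', hcardU₀]
        ring
      have h1 := hhyp U₀ hU₀U hco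
      rw [hU₀, Cfsg.Agent.Lib.Helper5_CD.centralizer_sup, centralizer_zpowers] at h1
      rw [hRe, inf_assoc, inf_comm (centralizer ({e} : Set G))]
      exact h1

end hyper

/-- Let G be a finite group, p a prime and Q a large p-subgroup of G: C_G(Q) ≤ Q and N_G(U) ≤ N_G(Q) for every nontrivial subgroup U of C_G(Q). Let Q ≤ G₁ ≤ G, let R be a subgroup of order prime to p normalized by G₁, and let U ≤ G₁ be a p-subgroup. If U contains a nontrivial element which is G₁-conjugate to an element of Z(Q), then C_R(U) = 1. In particular, if U is elementary abelian of order at least p² and every maximal subgroup of U contains a nontrivial element G₁-conjugate into Z(Q), then R = 1. -/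
theorem result {G : Type*} [Group G] [Finite G] {p : ℕ} [Fact p.Prime] (Q : Subgroup G) (hQp : IsPGroup p ↥Q) (hlarge : Cfsg.IsLarge Q) (G₁ : Subgroup G) (hQG : Q ≤ G₁) (R : Subgroup G) (hR : (Nat.card ↥R).Coprime p) (hGR : G₁ ≤ Subgroup.normalizer (R : Set G)) (U : Subgroup G) (hUG : U ≤ G₁) (hUp : IsPGroup p ↥U) : ((∃ x ∈ U, x ≠ 1 ∧ ∃ g ∈ G₁, g * x * g⁻¹ ∈ Q ⊓ Subgroup.centralizer (Q : Set G)) → R ⊓ Subgroup.centralizer (U : Set G) = ⊥) ∧ (Cfsg.IsElementaryAbelian p U → p ^ 2 ≤ Nat.card ↥U → (∀ U₀ : Subgroup G, U₀ ≤ U → IsCoatom (U₀.subgroupOf U) → ∃ x ∈ U₀, x ≠ 1 ∧ ∃ g ∈ G₁, g * x * g⁻¹ ∈ Q ⊓ Subgroup.centralizer (Q : Set G)) → R = ⊥) := by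
  have hp := (Fact.out : p.Prime)
  have hQR : Q ⊓ R = ⊥ := inf_eq_bot_of_pGroup_of_coprime hQp hR
  have part1 : ∀ V : Subgroup G, V ≤ G₁ →
      (∃ x ∈ V, x ≠ 1 ∧ ∃ g ∈ G₁, g * x * g⁻¹ ∈ Q ⊓ Subgroup.centralizer (Q : Set G)) →
      R ⊓ Subgroup.centralizer (V : Set G) = ⊥ := by
    rintro V hVG ⟨x, hxV, hx1, g, hg, hz⟩
    set z := g * x * g⁻¹ with hzdef
    have hz1 : z ≠ 1 := by
      intro h
      apply hx1
      have : x = g⁻¹ * z * g := by rw [hzdef]; group
      rw [this, h]; group
    rw [eq_bot_iff]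
    rintro c ⟨hcR, hcV⟩
    rw [mem_bot]
    have hcx : x * c = c * x := (mem_centralizer_iff.mp hcV) x hxV
    set c' := g * c * g⁻¹ with hc'def
    have hc'R : c' ∈ R := conj_mem_of_mem_normalizer (hGR hg) hcR
    have hc'z : c' * z = z * c' := by
      rw [hc'def, hzdef]
      calc g * c * g⁻¹ * (g * x * g⁻¹) = g * (c * x) * g⁻¹ := by group
        _ = g * (x * c) * g⁻¹ := by rw [hcx]
        _ = g * x * g⁻¹ * (g * c * g⁻¹) := by group
    have hc'cent : c' ∈ centralizer ({z} : Set G) := mem_centralizer_singleton_iff.mpr hc'z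
    have hZne : zpowers z ≠ ⊥ := by
      intro h
      rw [zpowers_eq_bot] at h
      exact hz1 h
    have hZle : zpowers z ≤ centralizer (Q : Set G) := by
      rw [zpowers_le]; exact hz.2
    have hc'N : c' ∈ normalizer (Q : Set G) :=
      hlarge.2 (zpowers z) hZle hZne (centralizer_singleton_le_normalizer_zpowers z hc'cent)
    have hc'CQ : c' ∈ centralizer (Q : Set G) := by
      rw [mem_centralizer_iff]
      intro q hq
      have h1 : c' * q * c'⁻¹ * q⁻¹ ∈ Q ⊓ R := by
        constructor
        · exact Q.mul_mem (conj_mem_of_mem_normalizer hc'N hq) (Q.inv_mem hq)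
        · have h2 : q * c'⁻¹ * q⁻¹ ∈ R :=
            conj_mem_of_mem_normalizer (hGR (hQG hq)) (R.inv_mem hc'R)
          have : c' * q * c'⁻¹ * q⁻¹ = c' * (q * c'⁻¹ * q⁻¹) := by group
          rw [this]; exact R.mul_mem hc'R h2
      rw [hQR, mem_bot] at h1
      have : q * c' = (c' * q * c'⁻¹ * q⁻¹)⁻¹ * (c' * q) := by group
      rw [this, h1]; group
    have hc'Q : c' ∈ Q := hlarge.1 hc'CQ
    have hc'1 : c' = 1 := by
      have : c' ∈ Q ⊓ R := ⟨hc'Q, hc'R⟩
      rwa [hQR, mem_bot] at this
    have : c = g⁻¹ * c' * g := by rw [hc'def]; group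
    rw [this, hc'1]; group
  refine ⟨part1 U hUG, ?_⟩
  intro hU hcard hhyp
  have hUne : U ≠ ⊥ := by
    intro h
    rw [h, Subgroup.card_bot] at hcard
    have : 1 < p ^ 2 := Nat.one_lt_pow (by norm_num) hp.one_lt
    omega
  apply hyperplane_trivial (Nat.card U) U R rfl hU hUne (hUG.trans hGR) hR
  intro U₀ hU₀U hco
  exact part1 U₀ (hU₀U.trans hUG) (hhyp U₀ hU₀U hco)

end Cfsg.Agent.S3003
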