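import Mathlib
import Cfsg.Statements.S3006
import Cfsg.Agent.Lib.Helper5_CD

set_option autoImplicit false
open Cfsg

namespace Cfsg.Agent.S3006

open Cfsg.Agent.Lib.Helper5_CD
open scoped Pointwise
open Subgroup

variable {G : Type*} [Group G]

/-- the join of two commuting abelian subgroups is abelian -/
theorem isMulCommutative_sup (A B : Subgroup G) (hA : IsMulCommutative A) (hB : IsMulCommutative B)
    (h : B ≤ centralizer (A : Set G)) : IsMulCommutative ↥(A ⊔ B) := by
  have e : A ⊔ B = closure ((A : Set G) ∪ (B : Set G)) := by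
    rw [Subgroup.closure_union, closure_eq, closure_eq]
  rw [e]
  apply isMulCommutative_closure
  intro x hx y hy
  rcases hx with hx | hx <;> rcases hy with hy | hy
  · exact setLike_mul_comm hx hy
  · exact (mem_centralizer_iff.mp (h hy) x hx)
  · exact (mem_centralizer_iff.mp (h hx) y hy).symm
  · exact setLike_mul_comm hx hy

/-- an abelian subgroup of largest order is self-centralizing -/
theorem centralizer_le_of_maxAbelian {A : Subgroup G} [Finite G] (hA : A ∈ Cfsg.maxAbelianSubgroups G) :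
    centralizer (A : Set G) ≤ A := by
  intro x hx
  have hz : IsMulCommutative (zpowers x) := inferInstance
  have hle : zpowers x ≤ centralizer (A : Set G) := by rw [zpowers_le]; exact hx
  have hab := isMulCommutative_sup A (zpowers x) hA.1 hz hle
  have hcard := hA.2 _ hab
  have heq : A = A ⊔ zpowers x := Subgroup.eq_of_le_of_card_ge le_sup_left hcard
  rw [heq]
  exact mem_sup_right (mem_zpowers x)

theorem exists_maxAbelian [Finite G] : ∃ A : Subgroup G, A ∈ Cfsg.maxAbelianSubgroups G := by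
  have : Nonempty {A : Subgroup G // IsMulCommutative A} := ⟨⟨⊥, inferInstance⟩⟩
  obtain ⟨A₀, hA₀⟩ := Finite.exists_max (fun A : {A : Subgroup G // IsMulCommutative A} => Nat.card A.1)
  exact ⟨A₀.1, A₀.2, fun B hB => hA₀ ⟨B, hB⟩⟩

/-- the core computation for `Q` centrally large and `A` abelian of largest order -/
theorem core [Finite G] (Q A : Subgroup G) (hQ : Cfsg.IsCentrallyLarge Q)
    (hA : A ∈ Cfsg.maxAbelianSubgroups G) :
    ((Q ⊔ A : Subgroup G) : Set G) = (Q : Set G) * (A : Set G) ∧ Cfsg.IsCentrallyLarge (Q ⊔ A) ∧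
    ((Q ⊓ A) ⊔ (Q ⊓ centralizer (Q : Set G))) ∈ Cfsg.maxAbelianSubgroups G ∧
    (((Q ⊓ A) ⊔ (Q ⊓ centralizer (Q : Set G)) : Subgroup G) : Set G) =
      ((Q ⊓ A : Subgroup G) : Set G) * ((Q ⊓ centralizer (Q : Set G) : Subgroup G) : Set G) := by
  set Z : Subgroup G := Q ⊓ centralizer (Q : Set G) with hZ
  set R : Subgroup G := Q ⊔ A with hR
  set B : Subgroup G := (Q ⊓ A) ⊔ Z with hB
  have hQA : IsMulCommutative ↥(Q ⊓ A) := by
    rw [← le_centralizer_iff_isMulCommutative]
    intro x hx
    rw [mem_centralizer_iff]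
    intro y hy
    have := hA.1
    exact setLike_mul_comm hy.2 hx.2
  have hZab : IsMulCommutative ↥Z := by
    rw [← le_centralizer_iff_isMulCommutative]
    intro x hx
    rw [mem_centralizer_iff]
    intro y hy
    exact (mem_centralizer_iff.mp hx.2 y hy.1)
  have hZc : Z ≤ centralizer ((Q ⊓ A : Subgroup G) : Set G) := by
    intro x hx
    rw [mem_centralizer_iff]
    intro y hy
    exact (mem_centralizer_iff.mp hx.2 y hy.1)
  have hBab : IsMulCommutative ↥B := isMulCommutative_sup _ _ hQA hZab hZc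
  have I3b : Nat.card B ≤ Nat.card A := hA.2 B hBab
  have I1 := card_mul_card_le Q A
  have I3a := card_mul_card_le (Q ⊓ A) Z
  have hinf : (Q ⊓ A) ⊓ Z = Z ⊓ A := by
    rw [hZ]
    ext x
    simp only [mem_inf]
    tauto
  rw [hinf] at I3a
  have hZAle : Z ⊓ A ≤ R ⊓ centralizer (R : Set G) := by
    intro x hx
    refine ⟨mem_sup_right hx.2, ?_⟩
    rw [hR, centralizer_sup]
    refine mem_inf.mpr ⟨hx.1.2, ?_⟩
    rw [mem_centralizer_iff]
    intro y hy
    have := hA.1
    exact setLike_mul_comm hy hx.2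
  have I2 : Nat.card ↥(Z ⊓ A) ≤ Nat.card ↥(R ⊓ centralizer (R : Set G)) :=
    Subgroup.card_le_of_le hZAle
  have hf := (isCentrallyLarge_iff Q).mp hQ
  have hRf := czm_le_max R
  unfold czm at hf hRf
  rw [← hZ] at hf
  set q := Nat.card Q
  set z := Nat.card Z
  set a := Nat.card A
  set i := Nat.card ↥(Q ⊓ A)
  set r := Nat.card R
  set za := Nat.card ↥(Z ⊓ A)
  set b := Nat.card B
  set zr := Nat.card ↥(R ⊓ centralizer (R : Set G))
  set f := Cfsg.maxCentralProduct G
  have hqpos : 0 < q := Nat.card_pos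
  have hzpos : 0 < z := Nat.card_pos
  have hapos : 0 < a := Nat.card_pos
  have hipos : 0 < i := Nat.card_pos
  have hzapos : 0 < za := Nat.card_pos
  have hU : i * z ≤ a * zr := by
    calc i * z ≤ b * za := I3a
      _ ≤ a * za := Nat.mul_le_mul_right _ I3b
      _ ≤ a * zr := Nat.mul_le_mul_left _ I2
  have hYW : (r * i) * (a * zr) ≤ (q * a) * (i * z) := by
    calc (r * i) * (a * zr) = (a * i) * (r * zr) := by ring
      _ ≤ (a * i) * f := Nat.mul_le_mul_left _ hRf
      _ = (a * i) * (q * z) := by rw [hf]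
      _ = (q * a) * (i * z) := by ring
  obtain ⟨e1, e2⟩ := nat_eq_of_mul I1 hU hYW (Nat.mul_pos hqpos hapos) (Nat.mul_pos hipos hzpos)
  have e3 : b * za = a * za := by
    have h1 : b * za ≤ a * za := Nat.mul_le_mul_right _ I3b
    have h2 : a * za ≤ a * zr := Nat.mul_le_mul_left _ I2
    omega
  have e4 : b = a := Nat.eq_of_mul_eq_mul_right hzapos e3
  have e5 : i * z = b * za := by
    have h1 : b * za ≤ a * za := Nat.mul_le_mul_right _ I3b
    have h2 : a * za ≤ a * zr := Nat.mul_le_mul_left _ I2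
    omega
  have e6 : r * zr = f := by
    have h1 : (a * i) * (r * zr) = (a * i) * f := by
      have : (r * i) * (a * zr) = (q * a) * (i * z) := by rw [e1, e2]
      calc (a * i) * (r * zr) = (r * i) * (a * zr) := by ring
        _ = (q * a) * (i * z) := this
        _ = (a * i) * (q * z) := by ring
        _ = (a * i) * f := by rw [hf]
    exact Nat.eq_of_mul_eq_mul_left (Nat.mul_pos hapos hipos) h1
  refine ⟨sup_eq_mul_of_card_eq Q A e1, ?_, ⟨hBab, ?_⟩, ?_⟩
  · rw [isCentrallyLarge_iff]; exact e6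
  · intro B' hB'
    have := hA.2 B' hB'
    show Nat.card B' ≤ b
    rw [e4]; exact this
  · apply sup_eq_mul_of_card_eq
    rw [hinf]; exact e5

/-- `J(P) ≤ P_CL` and `C(Z(J(P))) ≤ P_CL`. -/
theorem part5 [Finite G] :
    centralizer ((Cfsg.thompsonSubgroupA G ⊓ centralizer (Cfsg.thompsonSubgroupA G : Set G) : Subgroup G) : Set G) ≤
      Cfsg.centrallyLargeJoin G := by
  set T := Cfsg.centrallyLargeJoin G with hT
  have hTcl : Cfsg.IsCentrallyLarge T := isCentrallyLarge_centrallyLargeJoin
  obtain ⟨hTm, hTc⟩ := isCentrallyLarge_imp hTcl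
  have hAT : ∀ A' ∈ Cfsg.maxAbelianSubgroups G, A' ≤ T := by
    intro A' hA'
    have h1 := (core T A' hTcl hA').2.1
    have h2 : T ⊔ A' ≤ T := le_sSup h1
    exact le_sup_right.trans h2
  have hJT : Cfsg.thompsonSubgroupA G ≤ T := sSup_le hAT
  have hCTab : IsMulCommutative ↥(centralizer (T : Set G)) := by
    rw [← le_centralizer_iff_isMulCommutative]
    have h1 : centralizer (T : Set G) ≤ T := by rw [hTc]; exact inf_le_left
    exact centralizer_le h1
  obtain ⟨A', hA'⟩ := exists_maxAbelian (G := G)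
  have hCTA : centralizer (T : Set G) ≤ A' := by
    have hle : centralizer (T : Set G) ≤ centralizer (A' : Set G) := centralizer_le (hAT A' hA')
    have hab := isMulCommutative_sup A' _ hA'.1 hCTab hle
    have hcard := hA'.2 _ hab
    have heq : A' = A' ⊔ centralizer (T : Set G) := Subgroup.eq_of_le_of_card_ge le_sup_left hcard
    rw [heq]; exact le_sup_right
  have hCTJ : centralizer (T : Set G) ≤
      Cfsg.thompsonSubgroupA G ⊓ centralizer (Cfsg.thompsonSubgroupA G : Set G) :=
    le_inf (hCTA.trans (le_sSup hA')) (centralizer_le hJT)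
  have h1 : centralizer ((Cfsg.thompsonSubgroupA G ⊓ centralizer (Cfsg.thompsonSubgroupA G : Set G) : Subgroup G) : Set G) ≤
      centralizer ((centralizer (T : Set G) : Subgroup G) : Set G) := centralizer_le hCTJ
  have h2 := (cd_centralizer T _ ((isCentralizerLarge_iff T).mp hTm) cdm_le_max).2
  rw [← h2] at h1
  exact h1

/-- Let P be a finite p-group, Q a centrally large subgroup of P (|Q|·|Z(Q)| maximal among subgroups of P) and A an abelian subgroup of P of largest order. Then QA = AQ is a centrally large subgroup of P, C_{QA}(Q ∩ A) = Z(Q)·A, and the subgroup generated by all centrally large subgroups of P contains C_P(Z(J(P))), where J(P) is generated by the abelian subgroups of largest order. -/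
theorem result {p : ℕ} [Fact p.Prime] (P : Type*) [Group P] [Finite P] (hP : IsPGroup p P) (Q A : Subgroup P) (hQ : Cfsg.IsCentrallyLarge Q) (hA : A ∈ Cfsg.maxAbelianSubgroups P) : ((Q ⊔ A : Subgroup P) : Set P) = (Q : Set P) * (A : Set P) ∧ Cfsg.IsCentrallyLarge (Q ⊔ A) ∧ (Q ⊔ A) ⊓ Subgroup.centralizer ((Q ⊓ A : Subgroup P) : Set P) = (Q ⊓ Subgroup.centralizer (Q : Set P)) ⊔ A ∧ (((Q ⊓ Subgroup.centralizer (Q : Set P)) ⊔ A : Subgroup P) : Set P) = ((Q ⊓ Subgroup.centralizer (Q : Set P)) : Set P) * (A : Set P) ∧ Subgroup.centralizer ((Cfsg.thompsonSubgroupA P ⊓ Subgroup.centralizer (Cfsg.thompsonSubgroupA P : Set P) : Subgroup P) : Set P) ≤ Cfsg.centrallyLargeJoin P := by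
  obtain ⟨h1, h2, hBmax, hBset⟩ := core Q A hQ hA
  set Z : Subgroup P := Q ⊓ centralizer (Q : Set P) with hZ
  have hAab := hA.1
  have hZc : Z ≤ centralizer ((Q ⊓ A : Subgroup P) : Set P) := by
    intro x hx
    rw [mem_centralizer_iff]
    intro y hy
    exact (mem_centralizer_iff.mp hx.2 y hy.1)
  have hAc : A ≤ centralizer ((Q ⊓ A : Subgroup P) : Set P) := by
    intro x hx
    rw [mem_centralizer_iff]
    intro y hy
    exact setLike_mul_comm hy.2 hx
  -- three inclusions
  have inc1 : Z ⊔ A ≤ (Q ⊔ A) ⊓ centralizer ((Q ⊓ A : Subgroup P) : Set P) :=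
    le_inf (sup_le (inf_le_left.trans le_sup_left) le_sup_right) (sup_le hZc hAc)
  have inc2 : (Z : Set P) * (A : Set P) ⊆ ((Z ⊔ A : Subgroup P) : Set P) := mul_set_subset_sup Z A
  have inc3 : (((Q ⊔ A) ⊓ centralizer ((Q ⊓ A : Subgroup P) : Set P) : Subgroup P) : Set P) ⊆
      (Z : Set P) * (A : Set P) := by
    intro x hx
    have hxR : x ∈ ((Q ⊔ A : Subgroup P) : Set P) := hx.1
    have hxC : x ∈ centralizer ((Q ⊓ A : Subgroup P) : Set P) := hx.2
    rw [h1] at hxR
    obtain ⟨q, hq, a, ha, rfl⟩ := hxR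
    -- q centralizes Q ⊓ A
    have hqC : q ∈ centralizer ((Q ⊓ A : Subgroup P) : Set P) := by
      have : q = (q * a) * a⁻¹ := by group
      rw [this]
      exact Subgroup.mul_mem _ hxC (Subgroup.inv_mem _ (hAc ha))
    have hqZ : q ∈ centralizer (Z : Set P) := by
      rw [mem_centralizer_iff]
      intro y hy
      exact (mem_centralizer_iff.mp hy.2 q hq).symm
    have hqB : q ∈ centralizer ((((Q ⊓ A) ⊔ Z : Subgroup P)) : Set P) := by
      rw [centralizer_sup]; exact mem_inf.mpr ⟨hqC, hqZ⟩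
    have hqB' := centralizer_le_of_maxAbelian hBmax hqB
    have hqB'' : q ∈ (((Q ⊓ A) ⊔ Z : Subgroup P) : Set P) := hqB'
    rw [hBset] at hqB''
    obtain ⟨c, hc, z', hz', rfl⟩ := hqB''
    have hcz : c * z' = z' * c := (mem_centralizer_iff.mp (hZc hz') c hc)
    refine ⟨z', hz', c * a, A.mul_mem hc.2 ha, ?_⟩
    simp only [hcz, mul_assoc]
  have hset : (((Q ⊔ A) ⊓ centralizer ((Q ⊓ A : Subgroup P) : Set P) : Subgroup P) : Set P) =
      ((Z ⊔ A : Subgroup P) : Set P) :=
    Set.Subset.antisymm (inc3.trans inc2) inc1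
  refine ⟨h1, h2, SetLike.coe_injective hset, ?_, part5⟩
  exact Set.Subset.antisymm (hset ▸ inc3) inc2

end Cfsg.Agent.S3006
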