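import Mathlib
import Cfsg.Statements.S3007
import Cfsg.Agent.Lib.Helper5_CD

set_option autoImplicit false
open Cfsg

namespace Cfsg.Agent.S3007

open Cfsg.Agent.Lib.Helper5_CD
open scoped Pointwise commutatorElement
open Subgroup

variable {G : Type*} [Group G] [Finite G]

/-- Lemma A: `Q` minimal CL, `R` CL. -/
theorem lemmaA {Q R : Subgroup G} (hQ : Cfsg.IsMinimalCentrallyLarge Q) (hR : Cfsg.IsCentrallyLarge R) :
    (Q ⊓ R) ⊔ centralizer (Q : Set G) = Q ∧
    (Q : Set G) = ((Q ⊓ R : Subgroup G) : Set G) * (centralizer (Q : Set G) : Set G) ∧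
    Nat.card Q * Nat.card ↥((Q ⊓ R) ⊓ centralizer (Q : Set G)) =
      Nat.card ↥(Q ⊓ R) * Nat.card (centralizer (Q : Set G)) := by
  obtain ⟨hQm, hQc⟩ := isCentrallyLarge_imp hQ.1
  obtain ⟨hRm, hRc⟩ := isCentrallyLarge_imp hR
  rw [isCentralizerLarge_iff] at hQm hRm
  have hCQle : centralizer (Q : Set G) ≤ Q := by rw [hQc]; exact inf_le_left
  have hCRle : centralizer (R : Set G) ≤ R := by rw [hRc]; exact inf_le_left
  obtain ⟨-, hDm, -, hCset, hCD⟩ := cd_key Q R _ hQm hRm cdm_le_max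
  obtain ⟨hCQm, hQCC⟩ := cd_centralizer Q _ hQm cdm_le_max
  obtain ⟨hD'm, -, hD'set, -, -⟩ := cd_key (Q ⊓ R) (centralizer (Q : Set G)) _ hDm hCQm cdm_le_max
  have hCD' : centralizer (((Q ⊓ R) ⊔ centralizer (Q : Set G) : Subgroup G) : Set G) ≤
      (Q ⊓ R) ⊔ centralizer (Q : Set G) := by
    rw [centralizer_sup, hCD, ← hQCC]
    intro x hx
    have hx1 : x ∈ ((centralizer (Q : Set G) ⊔ centralizer (R : Set G) : Subgroup G) : Set G) := hx.1
    rw [hCset] at hx1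
    obtain ⟨u, hu, v, hv, rfl⟩ := hx1
    have hvQ : v ∈ Q := by
      have : v = u⁻¹ * (u * v) := by group
      rw [this]
      exact Q.mul_mem (Q.inv_mem (hCQle hu)) hx.2
    exact Subgroup.mul_mem _ (mem_sup_right hu) (mem_sup_left ⟨hvQ, hCRle hv⟩)
  have hD'cl : Cfsg.IsCentrallyLarge ((Q ⊓ R) ⊔ centralizer (Q : Set G)) :=
    (isCentrallyLarge_iff_le hD'm).mpr hCD'
  have hD'le : (Q ⊓ R) ⊔ centralizer (Q : Set G) ≤ Q := sup_le inf_le_left hCQle
  have heq := hQ.2 _ hD'le hD'cl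
  refine ⟨heq, ?_, ?_⟩
  · rw [← hD'set, heq]
  · have := card_mul_set (Q ⊓ R) (centralizer (Q : Set G))
    rw [← hD'set, heq] at this
    exact this

/-- Let P be a finite p-group and Q, R minimal centrally large subgroups of P (centrally large: |Q|·|Z(Q)| maximal among subgroups of P; minimal among such under inclusion). Then Q = (Q ∩ R)·Z(Q), the derived subgroups [Q, Q] and [R, R] coincide, |Q| = |R| and |Z(Q)| = |Z(R)|; and if Q is abelian then the minimal centrally large subgroups of P are exactly the abelian subgroups of P of largest order. -/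
theorem main {Q R : Subgroup G} (hQ : Cfsg.IsMinimalCentrallyLarge Q) (hR : Cfsg.IsMinimalCentrallyLarge R) :
    (Q ⊓ R) ⊔ (Q ⊓ centralizer (Q : Set G)) = Q ∧ ⁅Q, Q⁆ = ⁅R, R⁆ ∧ Nat.card ↥Q = Nat.card ↥R ∧
      Nat.card ↥(Q ⊓ centralizer (Q : Set G)) = Nat.card ↥(R ⊓ centralizer (R : Set G)) := by
  obtain ⟨hA1, hA2, hA3⟩ := lemmaA hQ hR.1
  obtain ⟨hB1, hB2, hB3⟩ := lemmaA hR hQ.1
  obtain ⟨hQm, hQc⟩ := isCentrallyLarge_imp hQ.1
  obtain ⟨hRm, hRc⟩ := isCentrallyLarge_imp hR.1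
  have hCQle : centralizer (Q : Set G) ≤ Q := by rw [hQc]; exact inf_le_left
  have hCRle : centralizer (R : Set G) ≤ R := by rw [hRc]; exact inf_le_left
  -- derived subgroups
  have hder : ∀ {Q R : Subgroup G}, centralizer (Q : Set G) ≤ Q →
      (Q : Set G) = ((Q ⊓ R : Subgroup G) : Set G) * (centralizer (Q : Set G) : Set G) →
      ⁅Q, Q⁆ = ⁅Q ⊓ R, Q ⊓ R⁆ := by
    intro Q R hle hset
    apply le_antisymm
    · rw [Subgroup.commutator_le]
      intro g₁ hg₁ g₂ hg₂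
      have h1 : g₁ ∈ (Q : Set G) := hg₁
      have h2 : g₂ ∈ (Q : Set G) := hg₂
      rw [hset] at h1 h2
      obtain ⟨d₁, hd₁, z₁, hz₁, rfl⟩ := h1
      obtain ⟨d₂, hd₂, z₂, hz₂, rfl⟩ := h2
      have c1 : ∀ y ∈ Q, y * z₁ = z₁ * y := fun y hy => mem_centralizer_iff.mp hz₁ y hy
      have c2 : ∀ y ∈ Q, y * z₂ = z₂ * y := fun y hy => mem_centralizer_iff.mp hz₂ y hy
      have hd₁Q : d₁ ∈ Q := hd₁.1
      have hd₂Q : d₂ ∈ Q := hd₂.1
      have e : ⁅d₁ * z₁, d₂ * z₂⁆ = ⁅d₁, d₂⁆ := by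
        rw [commutatorElement_def, commutatorElement_def]
        have e1 : (d₁ * z₁)⁻¹ = z₁⁻¹ * d₁⁻¹ := mul_inv_rev _ _
        have e2 : (d₂ * z₂)⁻¹ = z₂⁻¹ * d₂⁻¹ := mul_inv_rev _ _
        rw [e1, e2]
        have k1 : z₁ * d₂ = d₂ * z₁ := (c1 d₂ hd₂Q).symm
        have k2 : z₁ * z₂ = z₂ * z₁ := (c2 z₁ (hle hz₁)).symm ▸ rfl
        have k3 : z₂ * d₁⁻¹ = d₁⁻¹ * z₂ := (c2 d₁⁻¹ (Q.inv_mem hd₁Q)).symm
        have k4 : z₁ * d₁⁻¹ = d₁⁻¹ * z₁ := (c1 d₁⁻¹ (Q.inv_mem hd₁Q)).symm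
        have k5 : z₂ * d₂⁻¹ = d₂⁻¹ * z₂ := (c2 d₂⁻¹ (Q.inv_mem hd₂Q)).symm
        have k6 : z₁ * d₂⁻¹ = d₂⁻¹ * z₁ := (c1 d₂⁻¹ (Q.inv_mem hd₂Q)).symm
        calc d₁ * z₁ * (d₂ * z₂) * (z₁⁻¹ * d₁⁻¹) * (z₂⁻¹ * d₂⁻¹)
            = d₁ * (z₁ * d₂) * z₂ * z₁⁻¹ * d₁⁻¹ * z₂⁻¹ * d₂⁻¹ := by group
          _ = d₁ * (d₂ * z₁) * z₂ * z₁⁻¹ * d₁⁻¹ * z₂⁻¹ * d₂⁻¹ := by rw [k1]
          _ = d₁ * d₂ * (z₁ * z₂) * z₁⁻¹ * d₁⁻¹ * z₂⁻¹ * d₂⁻¹ := by group
          _ = d₁ * d₂ * (z₂ * z₁) * z₁⁻¹ * d₁⁻¹ * z₂⁻¹ * d₂⁻¹ := by rw [k2]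
          _ = d₁ * d₂ * (z₂ * d₁⁻¹) * z₂⁻¹ * d₂⁻¹ := by group
          _ = d₁ * d₂ * (d₁⁻¹ * z₂) * z₂⁻¹ * d₂⁻¹ := by rw [k3]
          _ = d₁ * d₂ * d₁⁻¹ * d₂⁻¹ := by group
      rw [e]
      exact Subgroup.commutator_mem_commutator hd₁ hd₂
    · exact Subgroup.commutator_mono inf_le_left inf_le_left
  have hinf : Q ⊓ R = R ⊓ Q := inf_comm Q R
  have hd1 := hder hCQle hA2
  have hd2 := hder hCRle hB2
  rw [← hinf] at hd2
  -- the common centre of the intersection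
  have hZD : (Q ⊓ R) ⊓ centralizer (Q : Set G) = (R ⊓ Q) ⊓ centralizer (R : Set G) := by
    have key : ∀ {Q R : Subgroup G},
        (R : Set G) = ((R ⊓ Q : Subgroup G) : Set G) * (centralizer (R : Set G) : Set G) →
        (Q ⊓ R) ⊓ centralizer (Q : Set G) ≤ (R ⊓ Q) ⊓ centralizer (R : Set G) := by
      intro Q R hset x hx
      refine mem_inf.mpr ⟨⟨hx.1.2, hx.1.1⟩, ?_⟩
      rw [mem_centralizer_iff]
      intro y hy
      have hy' : y ∈ (R : Set G) := hy
      rw [hset] at hy'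
      obtain ⟨d, hd, z, hz, rfl⟩ := hy'
      have h1 : d * x = x * d := mem_centralizer_iff.mp hx.2 d hd.2
      have h2 : x * z = z * x := mem_centralizer_iff.mp hz x hx.1.2
      calc d * z * x = d * (z * x) := by rw [mul_assoc]
        _ = d * (x * z) := by rw [h2]
        _ = (d * x) * z := by rw [mul_assoc]
        _ = x * d * z := by rw [h1]
        _ = x * (d * z) := by rw [mul_assoc]
    exact le_antisymm (key hB2) (key hA2)
  rw [← hZD, ← hinf] at hB3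
  -- numerics
  have hfQ := (isCentrallyLarge_iff Q).mp hQ.1
  have hfR := (isCentrallyLarge_iff R).mp hR.1
  unfold czm at hfQ hfR
  rw [← hQc] at hfQ
  rw [← hRc] at hfR
  set q := Nat.card Q
  set r := Nat.card R
  set zq := Nat.card (centralizer (Q : Set G))
  set zr := Nat.card (centralizer (R : Set G))
  set d := Nat.card ↥(Q ⊓ R)
  set w := Nat.card ↥((Q ⊓ R) ⊓ centralizer (Q : Set G))
  set f := Cfsg.maxCentralProduct G
  have hwpos : 0 < w := Nat.card_pos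
  have hdpos : 0 < d := Nat.card_pos
  have hzqpos : 0 < zq := Nat.card_pos
  have hzrpos : 0 < zr := Nat.card_pos
  -- f * w = d * zq^2 = d * zr^2
  have h1 : f * w = d * (zq * zq) := by
    calc f * w = (q * w) * zq := by rw [← hfQ]; ring
      _ = d * zq * zq := by rw [hA3]
      _ = d * (zq * zq) := by ring
  have h2 : f * w = d * (zr * zr) := by
    calc f * w = (r * w) * zr := by rw [← hfR]; ring
      _ = d * zr * zr := by rw [hB3]
      _ = d * (zr * zr) := by ring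
  have h3 : zq * zq = zr * zr := Nat.eq_of_mul_eq_mul_left hdpos (h1.symm.trans h2)
  have h4 : zq = zr := by
    rcases Nat.lt_trichotomy zq zr with h | h | h
    · exfalso
      have := Nat.mul_lt_mul_of_lt_of_lt h h
      omega
    · exact h
    · exfalso
      have := Nat.mul_lt_mul_of_lt_of_lt h h
      omega
  have h5 : q = r := by
    have : q * w = r * w := by rw [hA3, hB3, h4]
    exact Nat.eq_of_mul_eq_mul_right hwpos this
  refine ⟨?_, hd1.trans hd2.symm, h5, ?_⟩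
  · rw [← hQc]; exact hA1
  · rw [← hQc, ← hRc]; exact h4

theorem inf_centralizer_of_comm {X : Subgroup G} (hX : IsMulCommutative X) :
    X ⊓ centralizer (X : Set G) = X :=
  inf_eq_left.mpr (le_centralizer_iff_isMulCommutative.mpr hX)

theorem czm_of_comm {X : Subgroup G} (hX : IsMulCommutative X) : czm X = Nat.card X * Nat.card X := by
  unfold czm
  rw [inf_centralizer_of_comm hX]

theorem nat_le_of_sq_le {a b : ℕ} (h : a * a ≤ b * b) : a ≤ b := by
  by_contra hlt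
  push Not at hlt
  have := Nat.mul_lt_mul_of_lt_of_lt hlt hlt
  omega

theorem part5 {Q : Subgroup G} (hQ : Cfsg.IsMinimalCentrallyLarge Q) (hQab : IsMulCommutative ↥Q)
    (X : Subgroup G) : Cfsg.IsMinimalCentrallyLarge X ↔ X ∈ Cfsg.maxAbelianSubgroups G := by
  have hf : Nat.card Q * Nat.card Q = Cfsg.maxCentralProduct G := by
    rw [← czm_of_comm hQab]; exact (isCentrallyLarge_iff Q).mp hQ.1
  constructor
  · intro hX
    obtain ⟨-, -, h3, h4⟩ := main hQ hX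
    rw [inf_centralizer_of_comm hQab] at h4
    have hXeq : X ⊓ centralizer (X : Set G) = X :=
      Subgroup.eq_of_le_of_card_ge inf_le_left (by rw [← h4, h3])
    have hXab : IsMulCommutative ↥X :=
      le_centralizer_iff_isMulCommutative.mp (inf_eq_left.mp hXeq)
    refine ⟨hXab, ?_⟩
    intro B hB
    have h1 := czm_le_max B
    rw [czm_of_comm hB, ← hf, h3] at h1
    exact nat_le_of_sq_le h1
  · intro hX
    have h1 : Nat.card Q ≤ Nat.card X := hX.2 Q hQab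
    have h2 := czm_le_max X
    rw [czm_of_comm hX.1, ← hf] at h2
    have h3 : Nat.card X ≤ Nat.card Q := nat_le_of_sq_le h2
    have h4 : Nat.card X = Nat.card Q := le_antisymm h3 h1
    have hXcl : Cfsg.IsCentrallyLarge X := by
      rw [isCentrallyLarge_iff, czm_of_comm hX.1, h4]; exact hf
    refine ⟨hXcl, ?_⟩
    intro X' hle hX'
    have hX'ab : IsMulCommutative ↥X' := by
      rw [← le_centralizer_iff_isMulCommutative]
      intro x hx
      rw [mem_centralizer_iff]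
      intro y hy
      have := hX.1
      exact setLike_mul_comm (hle hy) (hle hx)
    have h5 := (isCentrallyLarge_iff X').mp hX'
    rw [czm_of_comm hX'ab, ← hf, ← h4] at h5
    have h6 : Nat.card X ≤ Nat.card X' := nat_le_of_sq_le h5.symm.le
    exact Subgroup.eq_of_le_of_card_ge hle h6

/-- Let P be a finite p-group and Q, R minimal centrally large subgroups of P (centrally large: |Q|·|Z(Q)| maximal among subgroups of P; minimal among such under inclusion). Then Q = (Q ∩ R)·Z(Q), the derived subgroups [Q, Q] and [R, R] coincide, |Q| = |R| and |Z(Q)| = |Z(R)|; and if Q is abelian then the minimal centrally large subgroups of P are exactly the abelian subgroups of P of largest order. -/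
theorem result {p : ℕ} [Fact p.Prime] (P : Type*) [Group P] [Finite P] (hP : IsPGroup p P) (Q R : Subgroup P) (hQ : Cfsg.IsMinimalCentrallyLarge Q) (hR : Cfsg.IsMinimalCentrallyLarge R) : (Q ⊓ R) ⊔ (Q ⊓ Subgroup.centralizer (Q : Set P)) = Q ∧ ⁅Q, Q⁆ = ⁅R, R⁆ ∧ Nat.card ↥Q = Nat.card ↥R ∧ Nat.card ↥(Q ⊓ Subgroup.centralizer (Q : Set P)) = Nat.card ↥(R ⊓ Subgroup.centralizer (R : Set P)) ∧ (IsMulCommutative ↥Q → ∀ X : Subgroup P, Cfsg.IsMinimalCentrallyLarge X ↔ X ∈ Cfsg.maxAbelianSubgroups P) := by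
  obtain ⟨h1, h2, h3, h4⟩ := main hQ hR
  exact ⟨h1, h2, h3, h4, fun hab X => part5 hQ hab X⟩

end Cfsg.Agent.S3007
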