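import Mathlib
import Cfsg.Statements.S3011
import Cfsg.Agent.S0200
import Cfsg.Agent.Lib.Helper7_PCore

set_option autoImplicit false
open Cfsg

namespace Cfsg.Agent.S3011

/-- `g` inverts `h` -/
def Inv {G : Type*} [Group G] (g h : G) : Prop := g * h * g⁻¹ = h⁻¹

/-- `g` centralizes `h` -/
def Cen {G : Type*} [Group G] (g h : G) : Prop := g * h * g⁻¹ = h

section
variable {G : Type*} [Group G]

theorem cen_iff (g h : G) : Cen g h ↔ g * h = h * g := by
  unfold Cen
  constructor
  · intro h1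
    calc g * h = (g * h * g⁻¹) * g := by group
      _ = h * g := by rw [h1]
  · intro h1
    rw [h1]; group

theorem Inv.mul_cen {g g' h : G} (h1 : Inv g h) (h2 : Cen g' h) : Inv (g * g') h := by
  unfold Inv Cen at *
  calc g * g' * h * (g * g')⁻¹ = g * (g' * h * g'⁻¹) * g⁻¹ := by group
    _ = h⁻¹ := by rw [h2, h1]

theorem Cen.mul_inv {g g' h : G} (h1 : Cen g h) (h2 : Inv g' h) : Inv (g * g') h := by
  unfold Inv Cen at *
  calc g * g' * h * (g * g')⁻¹ = g * (g' * h * g'⁻¹) * g⁻¹ := by group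
    _ = g * h⁻¹ * g⁻¹ := by rw [h2]
    _ = (g * h * g⁻¹)⁻¹ := by group
    _ = h⁻¹ := by rw [h1]

theorem Inv.mul_inv {g g' h : G} (h1 : Inv g h) (h2 : Inv g' h) : Cen (g * g') h := by
  unfold Inv Cen at *
  calc g * g' * h * (g * g')⁻¹ = g * (g' * h * g'⁻¹) * g⁻¹ := by group
    _ = g * h⁻¹ * g⁻¹ := by rw [h2]
    _ = (g * h * g⁻¹)⁻¹ := by group
    _ = h := by rw [h1, inv_inv]

theorem Inv.inv_right {g h : G} (h1 : Inv g h) : Inv g h⁻¹ := by
  unfold Inv at *
  calc g * h⁻¹ * g⁻¹ = (g * h * g⁻¹)⁻¹ := by group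
    _ = h⁻¹⁻¹ := by rw [h1]

theorem Inv.pow_right {g h : G} (h1 : Inv g h) (n : ℕ) : Inv g (h ^ n) := by
  unfold Inv at *
  calc g * h ^ n * g⁻¹ = (g * h * g⁻¹) ^ n := by rw [conj_pow]
    _ = (h ^ n)⁻¹ := by rw [h1, inv_pow]

theorem Cen.pow_right {g h : G} (h1 : Cen g h) (n : ℕ) : Cen g (h ^ n) := by
  unfold Cen at *
  calc g * h ^ n * g⁻¹ = (g * h * g⁻¹) ^ n := by rw [conj_pow]
    _ = h ^ n := by rw [h1]

theorem eq_one_of_sq_odd {g : G} (hodd : Odd (orderOf g)) (h2 : g ^ 2 = 1) : g = 1 := by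
  rw [← orderOf_eq_one_iff]
  have h1 : orderOf g ∣ 2 := orderOf_dvd_of_pow_eq_one h2
  exact Nat.eq_one_of_dvd_coprimes (Nat.coprime_two_left.mpr hodd) h1 dvd_rfl

theorem eq_one_of_inv_cen {g h : G} (hodd : Odd (orderOf h)) (h1 : Inv g h) (h2 : Cen g h) :
    h = 1 := by
  apply eq_one_of_sq_odd hodd
  unfold Inv Cen at *
  rw [h2] at h1
  calc h ^ 2 = h * h := pow_two h
    _ = h * h⁻¹ := by rw [← h1]
    _ = 1 := mul_inv_cancel h

/-- an element of odd order cannot invert a nontrivial element of odd order -/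
theorem eq_one_of_odd_inv {h k : G} (hh : Odd (orderOf h)) (hk : Odd (orderOf k))
    (h1 : Inv h k) : k = 1 := by
  apply eq_one_of_sq_odd hk
  obtain ⟨m, hm⟩ := hh
  -- h^(2m+1) = 1 conjugates k to k⁻¹
  have key : ∀ n : ℕ, h ^ (2 * n) * k * (h ^ (2 * n))⁻¹ = k := by
    intro n
    induction n with
    | zero => simp
    | succ n ih =>
      have e : h ^ (2 * (n + 1)) = h * h * h ^ (2 * n) := by
        rw [show 2 * (n + 1) = 2 + 2 * n by ring, pow_add, pow_two]
      rw [e]
      calc h * h * h ^ (2 * n) * k * (h * h * h ^ (2 * n))⁻¹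
          = h * (h * (h ^ (2 * n) * k * (h ^ (2 * n))⁻¹) * h⁻¹) * h⁻¹ := by group
        _ = h * (h * k * h⁻¹) * h⁻¹ := by rw [ih]
        _ = h * k⁻¹ * h⁻¹ := by rw [h1]
        _ = (h * k * h⁻¹)⁻¹ := by group
        _ = k := by rw [h1, inv_inv]
  have h3 : h ^ (2 * m + 1) = 1 := by rw [← hm]; exact pow_orderOf_eq_one h
  have h4 : h ^ (2 * m + 1) * k * (h ^ (2 * m + 1))⁻¹ = k⁻¹ := by
    rw [pow_succ]
    calc h ^ (2 * m) * h * k * (h ^ (2 * m) * h)⁻¹
        = h ^ (2 * m) * (h * k * h⁻¹) * (h ^ (2 * m))⁻¹ := by group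
      _ = h ^ (2 * m) * k⁻¹ * (h ^ (2 * m))⁻¹ := by rw [h1]
      _ = (h ^ (2 * m) * k * (h ^ (2 * m))⁻¹)⁻¹ := by group
      _ = k⁻¹ := by rw [key m]
  rw [h3] at h4
  simp only [one_mul, inv_one, mul_one] at h4
  calc k ^ 2 = k * k := pow_two k
    _ = k * k⁻¹ := by rw [← h4]
    _ = 1 := mul_inv_cancel k

end

theorem conj_mul_conj {G : Type*} [Group G] (g x y : G) :
    g * (x * y) * g⁻¹ = (g * x * g⁻¹) * (g * y * g⁻¹) := by group

theorem conj_conj_conj {G : Type*} [Group G] (g x y : G) :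
    g * (x * y * x⁻¹) * g⁻¹ = (g * x * g⁻¹) * (g * y * g⁻¹) * (g * x * g⁻¹)⁻¹ := by group

/-- The key configuration is impossible. -/
theorem core {G : Type*} [Group G] [Finite G] (V : Subgroup G) (hS : IsSidkiPair V) (a b c : G)
    (hc : c ∈ V) (ha : a ∈ V)
    (hV : ∀ w ∈ V, w = 1 ∨ w = a ∨ w = b ∨ w = c)
    (h k : G) (hh : Odd (orderOf h)) (hk : Odd (orderOf k)) (hh1 : h ≠ 1) (hk1 : k ≠ 1)
    (hah : Inv a h) (hak : Inv a k) (hbh : Inv b h) (hbk : Cen b k) (hch : Cen c h)
    (hck : Inv c k) : False := by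
  obtain ⟨m, hm⟩ := hh
  set x := h ^ (m + 1) with hx
  have hxx : x * x = h := by
    rw [hx, ← pow_add, show m + 1 + (m + 1) = (2 * m + 1) + 1 by ring, pow_succ, ← hm,
      pow_orderOf_eq_one, one_mul]
  have hax : Inv a x := hah.pow_right _
  have hbx : Inv b x := hbh.pow_right _
  have hcx : Cen c x := hch.pow_right _
  set k' := x * k * x⁻¹ with hk'
  have hk'o : orderOf k' = orderOf k := by
    have := (MulAut.conj x).orderOf_eq k
    rwa [MulAut.conj_apply] at this
  have hk'odd : Odd (orderOf k') := by rw [hk'o]; exact hk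
  have hk'1 : k' ≠ 1 := by
    rw [hk', Ne, conj_eq_one_iff]; exact hk1
  have hck' : Inv c k' := by
    unfold Inv Cen at *
    rw [hk', conj_conj_conj, hcx, hck]; group
  have hhk : h * k * h⁻¹ = x * k' * x⁻¹ := by
    rw [← hxx, hk']; group
  obtain ⟨w, hwV, hw1, hwk⟩ := hS k' c hc hk'odd hck'
  rcases hV w hwV with rfl | rfl | rfl | rfl
  · exact hw1 rfl
  · -- w = a
    have h1 : Cen w k' := (cen_iff _ _).mpr hwk
    have h2 : w * k' * w⁻¹ = x⁻¹ * k⁻¹ * x := by
      unfold Inv at hax hak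
      rw [hk', conj_conj_conj, hax, hak, inv_inv]
    unfold Cen at h1
    rw [h1] at h2
    have h3 : Inv h k := by
      unfold Inv
      rw [hhk, h2]; group
    exact hk1 (eq_one_of_odd_inv ⟨m, hm⟩ hk h3)
  · -- w = b
    have h1 : Cen w k' := (cen_iff _ _).mpr hwk
    have h2 : w * k' * w⁻¹ = x⁻¹ * k * x := by
      unfold Inv at hbx
      unfold Cen at hbk
      rw [hk', conj_conj_conj, hbx, hbk, inv_inv]
    unfold Cen at h1
    rw [h1] at h2
    have h3 : Cen h k := by
      unfold Cen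
      rw [hhk, h2]; group
    have hcomm : Commute h k := (cen_iff _ _).mp h3
    -- the product hk
    have hodd : Odd (orderOf (h * k)) := by
      have h4 : orderOf (h * k) ∣ orderOf h * orderOf k :=
        hcomm.orderOf_mul_dvd_lcm.trans (Nat.lcm_dvd_mul _ _)
      exact (Odd.mul ⟨m, hm⟩ hk).of_dvd_nat h4
    have hainv : Inv a (h * k) := by
      unfold Inv at *
      rw [conj_mul_conj, hah, hak, mul_inv_rev, hcomm.inv_inv.eq]
    obtain ⟨w₂, hw₂V, hw₂1, hw₂k⟩ := hS (h * k) a ha hodd hainv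
    have hw₂c : Cen w₂ (h * k) := (cen_iff _ _).mpr hw₂k
    rcases hV w₂ hw₂V with rfl | rfl | rfl | rfl
    · exact hw₂1 rfl
    · -- a centralizes and inverts hk
      have h5 := eq_one_of_inv_cen hodd hainv hw₂c
      have h6 : k = h⁻¹ := by
        rw [eq_comm, inv_eq_iff_mul_eq_one]; exact h5
      have h7 : Inv w h⁻¹ := hbh.inv_right
      rw [← h6] at h7
      exact hk1 (eq_one_of_inv_cen hk h7 hbk)
    · -- b centralizes hk
      unfold Cen Inv at *
      rw [conj_mul_conj, hbh, hbk] at hw₂c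
      have h5 : h⁻¹ = h := mul_right_cancel hw₂c
      apply hh1
      apply eq_one_of_sq_odd ⟨m, hm⟩
      rw [pow_two]
      nth_rewrite 1 [← h5]
      exact inv_mul_cancel h
    · -- c centralizes hk
      unfold Cen Inv at *
      rw [conj_mul_conj, hch, hck] at hw₂c
      have h5 : k⁻¹ = k := mul_left_cancel hw₂c
      apply hk1
      apply eq_one_of_sq_odd hk
      rw [pow_two]
      nth_rewrite 1 [← h5]
      exact inv_mul_cancel k
  · -- w = c
    have h1 : Cen w k' := (cen_iff _ _).mpr hwk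
    exact hk'1 (eq_one_of_inv_cen hk'odd hck' h1)

/-- The statement in a form convenient for reuse: a four-group (or smaller) Sidki pair meets
`O_2(G)`. -/
theorem main {G : Type*} [Group G] [Finite G] (V : Subgroup G) (hV2 : ∀ a ∈ V, a ^ 2 = 1)
    (hV1 : V ≠ ⊥) (hS : IsSidkiPair V) (h4 : Nat.card V ≤ 4) : V ⊓ pCore 2 G ≠ ⊥ := by
  classical
  haveI : Fact (Nat.Prime 2) := ⟨Nat.prime_two⟩
  intro hbot
  have hnot : ∀ v ∈ V, v ≠ 1 → v ∉ pCore 2 G := by
    intro v hv hv1 hvP
    have : v ∈ V ⊓ pCore 2 G := ⟨hv, hvP⟩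
    rw [hbot] at this
    exact hv1 this
  have hBS : ∀ v ∈ V, v ≠ 1 → ∃ h : G, h ≠ 1 ∧ Odd (orderOf h) ∧ Inv v h := by
    intro v hv hv1
    have ho : orderOf v = 2 := orderOf_eq_prime (hV2 v hv) hv1
    exact Cfsg.Agent.S0200.result v ho (fun N hN hN2 hvN =>
      hnot v hv hv1 (Cfsg.Agent.Lib.Helper7_PCore.le_pCore hN hN2 hvN))
  obtain ⟨v, hvV, hv1⟩ : ∃ v ∈ V, v ≠ 1 := by
    by_contra hcon
    push Not at hcon
    apply hV1
    rw [eq_bot_iff]
    intro y hy
    rw [Subgroup.mem_bot]; exact hcon y hy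
  obtain ⟨h, hh1, hhodd, hvh⟩ := hBS v hvV hv1
  obtain ⟨w, hwV, hw1, hwh⟩ := hS h v hvV hhodd hvh
  have hwc : Cen w h := (cen_iff _ _).mpr hwh
  have hwv : w ≠ v := by
    rintro rfl
    exact hh1 (eq_one_of_inv_cen hhodd hvh hwc)
  have hvv : v * v = 1 := by rw [← pow_two]; exact hV2 v hvV
  have hww : w * w = 1 := by rw [← pow_two]; exact hV2 w hwV
  set u := v * w with hu
  have huV : u ∈ V := V.mul_mem hvV hwV
  have hu1 : u ≠ 1 := by
    intro h1
    apply hwv
    calc w = v * (v * w) := by rw [← mul_assoc, hvv, one_mul]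
      _ = v := by rw [← hu, h1, mul_one]
  have huv : u ≠ v := by
    intro h1
    apply hw1
    have : v * w = v * 1 := by rw [mul_one]; exact h1
    exact mul_left_cancel this
  have huw : u ≠ w := by
    intro h1
    apply hv1
    have : v * w = 1 * w := by rw [one_mul]; exact h1
    exact mul_right_cancel this
  have huwv : u * w = v := by rw [hu, mul_assoc, hww, mul_one]
  have huh : Inv u h := hvh.mul_cen hwc
  -- V = {1, v, w, u}
  have hVsub : ∀ y ∈ V, y = 1 ∨ y = v ∨ y = w ∨ y = u := by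
    have hs : ({1, v, w, u} : Finset G).card = 4 := by
      rw [Finset.card_insert_of_notMem, Finset.card_insert_of_notMem,
        Finset.card_insert_of_notMem, Finset.card_singleton]
      · simp [huw.symm]
      · simp [hwv.symm, huv.symm]
      · simp [hv1.symm, hw1.symm, hu1.symm]
    have hsub : ((({1, v, w, u} : Finset G)) : Set G) ⊆ (V : Set G) := by
      intro y hy
      simp only [Finset.coe_insert, Finset.coe_singleton, Set.mem_insert_iff,
        Set.mem_singleton_iff] at hy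
      rcases hy with rfl | rfl | rfl | rfl
      · exact V.one_mem
      · exact hvV
      · exact hwV
      · exact huV
    have heq := Set.eq_of_subset_of_ncard_le hsub (by
      rw [Set.ncard_coe_finset, hs, ← Nat.card_coe_set_eq]; exact h4) (Set.toFinite _)
    intro y hy
    have : y ∈ ((({1, v, w, u} : Finset G)) : Set G) := by rw [heq]; exact hy
    simpa using this
  obtain ⟨k, hk1, hkodd, hwk⟩ := hBS w hwV hw1
  obtain ⟨w', hw'V, hw'1, hw'k⟩ := hS k w hwV hkodd hwk
  have hw'c : Cen w' k := (cen_iff _ _).mpr hw'k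
  have hw'w : w' ≠ w := by
    rintro rfl
    exact hk1 (eq_one_of_inv_cen hkodd hwk hw'c)
  rcases hVsub w' hw'V with rfl | rfl | rfl | rfl
  · exact hw'1 rfl
  · -- v centralizes k
    refine core V hS u w' w hwV huV ?_ h k hhodd hkodd hh1 hk1 huh (hw'c.mul_inv hwk) hvh hw'c
      hwc hwk
    intro y hy
    rcases hVsub y hy with h1 | h1 | h1 | h1
    · exact Or.inl h1
    · exact Or.inr (Or.inr (Or.inl h1))
    · exact Or.inr (Or.inr (Or.inr h1))
    · exact Or.inr (Or.inl h1)
  · exact hw'w rfl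
  · -- u centralizes k
    have hvk : Inv v k := by
      have := hw'c.mul_inv hwk
      rwa [huwv] at this
    refine core V hS v u w hwV hvV ?_ h k hhodd hkodd hh1 hk1 hvh hvk huh hw'c hwc hwk
    intro y hy
    rcases hVsub y hy with h1 | h1 | h1 | h1
    · exact Or.inl h1
    · exact Or.inr (Or.inl h1)
    · exact Or.inr (Or.inr (Or.inr h1))
    · exact Or.inr (Or.inr (Or.inl h1))

/-- Let G be a finite group and V a nontrivial elementary abelian 2-subgroup of G of order at most 4 such that, whenever an element of V inverts an element h of G of odd order, some nontrivial element of V commutes with h. Then V meets O₂(G) nontrivially. (The case of order at most 4 has a short argument from the Baer–Suzuki theorem.) -/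
theorem result {G : Type*} [Group G] [Finite G] (V : Subgroup G) (hV : Cfsg.IsElementaryAbelian 2 V) (hV1 : V ≠ ⊥) (hS : Cfsg.IsSidkiPair V) (h4 : Nat.card V ≤ 4) : V ⊓ Cfsg.pCore 2 G ≠ ⊥ := by
  exact main V hV.2 hV1 hS h4

end Cfsg.Agent.S3011
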