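import Mathlib
import Cfsg.Statements.S3012

set_option autoImplicit false
open Cfsg

namespace Cfsg.Agent.S3012

/-- Let G be a finite group, V a nontrivial elementary abelian 2-subgroup of G satisfying the Sidki pair condition (every odd-order element inverted by an element of V commutes with a nontrivial element of V), and K a normal subgroup of G with V ∩ K = 1. Then the image of V in G/K satisfies the Sidki pair condition in G/K. -/
theorem result {G : Type*} [Group G] [Finite G] (V K : Subgroup G) [K.Normal] (hV : Cfsg.IsElementaryAbelian 2 V) (hV1 : V ≠ ⊥) (hS : Cfsg.IsSidkiPair V) (hVK : V ⊓ K = ⊥) : Cfsg.IsSidkiPair (V.map (QuotientGroup.mk' K)) := by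
  intro hbar vbar hvbar hodd hinv
  obtain ⟨v, hv, rfl⟩ := hvbar
  obtain ⟨h, rfl⟩ := QuotientGroup.mk_surjective hbar
  have hv2 : v ^ 2 = 1 := hV.2 v hv
  have hvinv : v⁻¹ = v := by
    rw [inv_eq_iff_mul_eq_one, ← pow_two]; exact hv2
  set y : G := v * (h * v * h⁻¹) with hy
  have hyinv : v * y * v⁻¹ = y⁻¹ := by
    rw [hy]
    have : (v * (h * v * h⁻¹))⁻¹ = h * v⁻¹ * h⁻¹ * v⁻¹ := by group
    rw [this, hvinv]
    have hvv : v * v = 1 := by rw [← pow_two]; exact hv2
    calc v * (v * (h * v * h⁻¹)) * v = (v * v) * (h * v * h⁻¹) * v := by group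
      _ = h * v * h⁻¹ * v := by rw [hvv, one_mul]
  have hypos : orderOf y ≠ 0 := (orderOf_pos y).ne'
  obtain ⟨k, m, hm, hkm⟩ := Nat.exists_eq_two_pow_mul_odd hypos
  set y' : G := y ^ (2 ^ k) with hy'
  have hy'odd : Odd (orderOf y') := by
    have : y' ^ m = 1 := by
      rw [hy', ← pow_mul, ← hkm]; exact pow_orderOf_eq_one y
    exact Odd.of_dvd_nat hm (orderOf_dvd_of_pow_eq_one this)
  have hy'inv : v * y' * v⁻¹ = y'⁻¹ := by
    rw [hy', ← inv_pow, ← hyinv]
    exact (conj_pow (a := v) (b := y) (i := 2 ^ k)).symm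
  obtain ⟨w, hwV, hw1, hwy⟩ := hS y' v hv hy'odd hy'inv
  refine ⟨QuotientGroup.mk' K w, ⟨w, hwV, rfl⟩, ?_, ?_⟩
  · intro hw
    apply hw1
    have hwK : w ∈ K := by
      rw [QuotientGroup.mk'_apply, QuotientGroup.eq_one_iff] at hw
      exact hw
    have : w ∈ V ⊓ K := ⟨hwV, hwK⟩
    rw [hVK, Subgroup.mem_bot] at this
    exact this
  · -- the image of y is hbar⁻²
    set hb : G ⧸ K := (QuotientGroup.mk h : G ⧸ K) with hhb
    set vb : G ⧸ K := QuotientGroup.mk' K v with hvb
    set wb : G ⧸ K := QuotientGroup.mk' K w with hwb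
    have hvb2 : vb * vb = 1 := by
      rw [hvb, ← map_mul, ← pow_two, hv2, map_one]
    have hvbinv : vb⁻¹ = vb := by
      rw [inv_eq_iff_mul_eq_one]; exact hvb2
    have hyb : QuotientGroup.mk' K y = (hb ^ 2)⁻¹ := by
      rw [hy]
      simp only [map_mul, map_inv]
      have h1 : QuotientGroup.mk' K h = hb := rfl
      rw [h1, ← hvb]
      have h2 : vb * hb * vb = hb⁻¹ := by rw [← hinv, hvbinv]
      calc vb * (hb * vb * hb⁻¹) = (vb * hb * vb) * hb⁻¹ := by group
        _ = hb⁻¹ * hb⁻¹ := by rw [h2]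
        _ = (hb ^ 2)⁻¹ := by group
    have hcomm : Commute wb (QuotientGroup.mk' K y') := by
      show wb * _ = _ * wb
      rw [hwb, ← map_mul, hwy, map_mul]
    have hy'b : QuotientGroup.mk' K y' = (hb ^ (2 ^ (k + 1)))⁻¹ := by
      rw [hy', map_pow, hyb, inv_pow, ← pow_mul, pow_succ, mul_comm]
    rw [hy'b] at hcomm
    have hcomm2 : Commute wb (hb ^ (2 ^ (k + 1))) := by
      have := hcomm.inv_right
      rwa [inv_inv] at this
    have hcop : (2 ^ (k + 1)).Coprime (orderOf hb) := by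
      apply Nat.Coprime.pow_left
      exact Nat.coprime_two_left.mpr hodd
    obtain ⟨j, hj⟩ := exists_pow_eq_self_of_coprime hcop
    have hcomm3 : Commute wb hb := by
      have := hcomm2.pow_right j
      rwa [hj] at this
    exact hcomm3

end Cfsg.Agent.S3012
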