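import Mathlib
import Cfsg.Statements.S3013

set_option autoImplicit false
open Cfsg

namespace Cfsg.Agent.S3013

/-- key step in the ambient group -/
theorem key {G : Type*} [Group G] [Finite G] (V : Subgroup G) (hV : Cfsg.IsElementaryAbelian 2 V)
    (hS : Cfsg.IsSidkiPair V) (v x : G) (hv : v ∈ V) (hx : Odd (orderOf x))
    (hinv : v * x * v⁻¹ = x⁻¹) (h u : G) (hu : u ∈ V) (hh : Odd (orderOf h))
    (hhx : Commute h x) (hhv : Commute h v) (hux : Commute u x)
    (huh : u * h * u⁻¹ = h⁻¹) :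
    ∃ w ∈ V, w ≠ 1 ∧ Commute w v ∧ Commute w x ∧ Commute w h := by
  have hab : ∀ a ∈ V, ∀ b ∈ V, a * b = b * a := by
    intro a ha b hb
    have := hV.1.is_comm.comm (⟨a, ha⟩ : V) ⟨b, hb⟩
    exact congrArg Subtype.val this
  set a : G := x * h with ha
  have haodd : Odd (orderOf a) := by
    have h1 : orderOf a ∣ Nat.lcm (orderOf x) (orderOf h) := hhx.symm.orderOf_mul_dvd_lcm
    have h2 : Nat.lcm (orderOf x) (orderOf h) ∣ orderOf x * orderOf h := Nat.lcm_dvd_mul _ _
    exact Odd.of_dvd_nat (hx.mul hh) (h1.trans h2)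
  have hainv : (u * v) * a * (u * v)⁻¹ = a⁻¹ := by
    have e1 : u * x * u⁻¹ = x := by
      rw [hux.eq, mul_inv_cancel_right]
    have e2 : v * h * v⁻¹ = h := by
      rw [← hhv.eq, mul_inv_cancel_right]
    have hxh : x⁻¹ * h⁻¹ = h⁻¹ * x⁻¹ := by
      have := hhx.inv_inv
      exact this.eq.symm
    calc (u * v) * a * (u * v)⁻¹ = u * ((v * x * v⁻¹) * (v * h * v⁻¹)) * u⁻¹ := by rw [ha]; group
      _ = u * (x⁻¹ * h) * u⁻¹ := by rw [hinv, e2]
      _ = (u * x * u⁻¹)⁻¹ * (u * h * u⁻¹) := by group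
      _ = x⁻¹ * h⁻¹ := by rw [e1, huh]
      _ = a⁻¹ := by rw [ha, mul_inv_rev, hxh]
  obtain ⟨w, hwV, hw1, hwa⟩ := hS a (u * v) (V.mul_mem hu hv) haodd hainv
  have hwv : Commute w v := hab w hwV v hv
  have hwa' : Commute w a := hwa
  -- w commutes with v a v⁻¹ = x⁻¹ h
  have hwb : Commute w (x⁻¹ * h) := by
    have e2 : v * h * v⁻¹ = h := by
      rw [← hhv.eq, mul_inv_cancel_right]
    have : v * a * v⁻¹ = x⁻¹ * h := by
      calc v * a * v⁻¹ = (v * x * v⁻¹) * (v * h * v⁻¹) := by rw [ha]; group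
        _ = x⁻¹ * h := by rw [hinv, e2]
    rw [← this]
    exact (hwv.mul_right hwa').mul_right hwv.inv_right
  have hwh2 : Commute w (h ^ 2) := by
    have : a * (x⁻¹ * h) = h ^ 2 := by
      rw [ha, ← hhx.eq, pow_two]
      simp [mul_assoc]
    rw [← this]
    exact hwa'.mul_right hwb
  have hwh : Commute w h := by
    have hcop : (2 : ℕ).Coprime (orderOf h) := Nat.coprime_two_left.mpr hh
    obtain ⟨j, hj⟩ := exists_pow_eq_self_of_coprime hcop
    have := hwh2.pow_right j
    rwa [hj] at this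
  have hwx : Commute w x := by
    have : a * h⁻¹ = x := by rw [ha]; group
    rw [← this]
    exact hwa'.mul_right hwh.inv_right
  exact ⟨w, hwV, hw1, hwv, hwx, hwh⟩

/-- Let G be a finite group and V a nontrivial elementary abelian 2-subgroup of G satisfying the Sidki pair condition. Let v ∈ V and let x be an element of odd order inverted by v, and put C = C_G(v) ∩ C_G(x), the centralizer of the dihedral subgroup generated by v and x. Then C ∩ V is nontrivial and satisfies the Sidki pair condition inside C: every odd-order element of C inverted by an element of C ∩ V commutes with a nontrivial element of C ∩ V. -/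
theorem result {G : Type*} [Group G] [Finite G] (V : Subgroup G) (hV : Cfsg.IsElementaryAbelian 2 V) (hV1 : V ≠ ⊥) (hS : Cfsg.IsSidkiPair V) (v x : G) (hv : v ∈ V) (hx : Odd (orderOf x)) (hinv : v * x * v⁻¹ = x⁻¹) (C : Subgroup G) (hC : C = Subgroup.centralizer ({v} : Set G) ⊓ Subgroup.centralizer ({x} : Set G)) : C ⊓ V ≠ ⊥ ∧ Cfsg.IsSidkiPair ((C ⊓ V).subgroupOf C) := by
  have hmemC : ∀ g : G, g ∈ C ↔ Commute g v ∧ Commute g x := by
    intro g
    rw [hC, Subgroup.mem_inf, Subgroup.mem_centralizer_iff, Subgroup.mem_centralizer_iff]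
    simp only [Set.mem_singleton_iff, forall_eq]
    constructor
    · rintro ⟨h1, h2⟩; exact ⟨h1.symm, h2.symm⟩
    · rintro ⟨h1, h2⟩; exact ⟨h1.eq.symm, h2.eq.symm⟩
  constructor
  · obtain ⟨w, hwV, hw1, hwv, hwx, -⟩ := key V hV hS v x hv hx hinv 1 1 V.one_mem
      (by simp) (Commute.one_left x) (Commute.one_left v) (Commute.one_left x) (by simp)
    intro hbot
    have : w ∈ C ⊓ V := ⟨(hmemC w).mpr ⟨hwv, hwx⟩, hwV⟩
    rw [hbot, Subgroup.mem_bot] at this
    exact hw1 this
  · intro h u hu hodd huh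
    have hu' : (u : G) ∈ C ⊓ V := by
      simpa [Subgroup.mem_subgroupOf] using hu
    have hhC := (hmemC (h : G)).mp h.2
    have huC := (hmemC (u : G)).mp u.2
    have hodd' : Odd (orderOf (h : G)) := by
      rw [Subgroup.orderOf_coe]; exact hodd
    have huh' : (u : G) * (h : G) * (u : G)⁻¹ = (h : G)⁻¹ := by
      have := congrArg Subtype.val huh
      simpa using this
    obtain ⟨w, hwV, hw1, hwv, hwx, hwh⟩ := key V hV hS v x hv hx hinv (h : G) (u : G) hu'.2
      hodd' hhC.2 hhC.1 huC.2 huh'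
    have hwC : w ∈ C := (hmemC w).mpr ⟨hwv, hwx⟩
    refine ⟨⟨w, hwC⟩, ?_, ?_, ?_⟩
    · rw [Subgroup.mem_subgroupOf]; exact ⟨hwC, hwV⟩
    · intro h1
      apply hw1
      exact congrArg Subtype.val h1
    · apply Subtype.ext
      simpa using hwh.eq

end Cfsg.Agent.S3013
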