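import Mathlib
import Cfsg.Statements.S3014
import Cfsg.Agent.Lib.Helper6_Sylow
import Cfsg.Agent.Lib.Helper5_ThompsonExt

set_option autoImplicit false
open Cfsg

namespace Cfsg.Agent.S3014

section aux
variable {G : Type*} [Group G]

/-- weak closure consequence of extreme closedness -/
theorem weak (H M : Subgroup G)
    (hcl : ∀ g : G, (H ⊔ H.map (MulAut.conj g).toMonoidHom) ⊓ M = H)
    (g x : G) (hx : x ∈ H) (hm : g * x * g⁻¹ ∈ M) : g * x * g⁻¹ ∈ H := by
  rw [← hcl g]
  refine ⟨Subgroup.mem_sup_right ⟨x, hx, ?_⟩, hm⟩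
  simp [MulAut.conj_apply]

theorem key_max (H M : Subgroup G) (hmaxH : IsCoatom (H.subgroupOf M))
    (K : Subgroup G) (hHK : H ≤ K) (m : G) (hmM : m ∈ M) (hmK : m ∈ K) (hmH : m ∉ H) :
    M ≤ K := by
  have h1 : H.subgroupOf M ≤ K.subgroupOf M := fun x hx =>
    Subgroup.mem_subgroupOf.mpr (hHK (Subgroup.mem_subgroupOf.mp hx))
  rcases hmaxH.le_iff.mp h1 with h | h
  · exact Subgroup.subgroupOf_eq_top.mp h
  · exfalso
    have h2 : (⟨m, hmM⟩ : M) ∈ K.subgroupOf M := Subgroup.mem_subgroupOf.mpr hmK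
    rw [h] at h2
    exact hmH (Subgroup.mem_subgroupOf.mp h2)

theorem normal_sub (H M : Subgroup G)
    (hcl : ∀ g : G, (H ⊔ H.map (MulAut.conj g).toMonoidHom) ⊓ M = H) :
    (H.subgroupOf M).Normal := by
  refine ⟨fun n hn g => ?_⟩
  rw [Subgroup.mem_subgroupOf] at hn ⊢
  have h1 : ((g * n * g⁻¹ : M) : G) = (g:G) * (n:G) * (g:G)⁻¹ := by simp
  rw [h1]
  exact weak H M hcl g n hn (M.mul_mem (M.mul_mem g.2 n.2) (M.inv_mem g.2))

/-- not contained -/
theorem not_le (H M : Subgroup G) (hmaxH : IsCoatom (H.subgroupOf M)) : ¬ M ≤ H := by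
  intro h
  apply hmaxH.1
  rw [Subgroup.subgroupOf_eq_top]; exact h

/-- reduction: a normal subgroup containing `H` but not `M` suffices -/
theorem reduce (H M : Subgroup G) (hHM : H ≤ M) (hmaxH : IsCoatom (H.subgroupOf M))
    (hL : ∃ L : Subgroup G, L.Normal ∧ H ≤ L ∧ ¬ M ≤ L) :
    Subgroup.normalClosure (H : Set G) ⊓ M = H := by
  obtain ⟨L, hLn, hHL, hML⟩ := hL
  apply le_antisymm
  · intro x hx
    by_contra hxH
    have hN : Subgroup.normalClosure (H : Set G) ≤ L := Subgroup.normalClosure_le_normal hHL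
    exact hML (key_max H M hmaxH L hHL x hx.2 (hN hx.1) hxH)
  · exact le_inf Subgroup.le_normalClosure hHM

/-- the transfer case -/
theorem transfer_case [Finite G] (H M : Subgroup G) (hHM : H ≤ M)
    (hcl : ∀ g : G, (H ⊔ H.map (MulAut.conj g).toMonoidHom) ⊓ M = H)
    (hmaxH : IsCoatom (H.subgroupOf M))
    (hB : ∀ m ∈ M, ∀ g : G, g ∉ M → g⁻¹ * m * g ∈ M → m ∈ H) :
    ∃ L : Subgroup G, L.Normal ∧ H ≤ L ∧ ¬ M ≤ L := by
  classical
  obtain ⟨m₀, hm₀M, hm₀H⟩ := SetLike.not_le_iff_exists.mp (not_le H M hmaxH)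
  haveI hHn : (H.subgroupOf M).Normal := normal_sub H M hcl
  let ϕ0 : M →* (M ⧸ H.subgroupOf M) := QuotientGroup.mk' _
  haveI : IsCyclic (M ⧸ H.subgroupOf M) := by
    refine ⟨⟨ϕ0 ⟨m₀, hm₀M⟩, fun x => ?_⟩⟩
    obtain ⟨y, rfl⟩ := QuotientGroup.mk'_surjective _ x
    let S : Subgroup G := ((Subgroup.zpowers (ϕ0 ⟨m₀, hm₀M⟩)).comap ϕ0).map M.subtype
    have hHS : H ≤ S := by
      intro h hh
      refine ⟨⟨h, hHM hh⟩, ?_, rfl⟩
      have h1 : ϕ0 ⟨h, hHM hh⟩ = 1 := (QuotientGroup.eq_one_iff _).mpr hh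
      change ϕ0 ⟨h, hHM hh⟩ ∈ Subgroup.zpowers (ϕ0 ⟨m₀, hm₀M⟩)
      rw [h1]; exact one_mem _
    have hmS : m₀ ∈ S := ⟨⟨m₀, hm₀M⟩, Subgroup.mem_zpowers _, rfl⟩
    have hMS := key_max H M hmaxH S hHS m₀ hm₀M hmS hm₀H
    obtain ⟨y', hy', hyy⟩ := hMS y.2
    have h2 : y' = y := Subtype.ext hyy
    rw [← h2]; exact hy'
  letI : CommGroup (M ⧸ H.subgroupOf M) := IsCyclic.commGroup
  let ϕ : M →* (M ⧸ H.subgroupOf M) := QuotientGroup.mk' _
  have hker : ∀ (y : G) (hy : y ∈ M), ϕ ⟨y, hy⟩ = 1 ↔ y ∈ H := by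
    intro y hy
    rw [QuotientGroup.mk'_apply, QuotientGroup.eq_one_iff]; rfl
  refine ⟨(MonoidHom.transfer ϕ).ker, inferInstance, ?_, ?_⟩
  · intro h hh
    rw [MonoidHom.mem_ker]
    letI : Fintype (Quotient (MulAction.orbitRel (Subgroup.zpowers h) (G ⧸ M))) :=
      Fintype.ofFinite _
    rw [MonoidHom.transfer_eq_prod_quotient_orbitRel_zpowers_quot]
    apply Finset.prod_eq_one
    intro q _
    rw [hker]
    have hmem := QuotientGroup.out_conj_pow_minimalPeriod_mem M h q.out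
    have h3 := weak H M hcl (q.out.out⁻¹) (h ^ Function.minimalPeriod (h • ·) q.out)
      (H.pow_mem hh _) (by simpa using hmem)
    simpa using h3
  · intro hMk
    have h1 : MonoidHom.transfer ϕ m₀ = 1 := MonoidHom.mem_ker.mp (hMk hm₀M)
    letI : Fintype (Quotient (MulAction.orbitRel (Subgroup.zpowers m₀) (G ⧸ M))) :=
      Fintype.ofFinite _
    rw [MonoidHom.transfer_eq_prod_quotient_orbitRel_zpowers_quot] at h1
    have hfix : m₀ • (((1 : G) : G ⧸ M)) = ((1 : G) : G ⧸ M) := by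
      rw [MulAction.Quotient.smul_coe, smul_eq_mul, mul_one, QuotientGroup.eq]
      simpa using M.inv_mem hm₀M
    let q₀ : Quotient (MulAction.orbitRel (Subgroup.zpowers m₀) (G ⧸ M)) :=
      Quotient.mk _ ((1 : G) : G ⧸ M)
    have hq₀ : q₀.out = ((1 : G) : G ⧸ M) :=
      Cfsg.Agent.Lib.Helper5_ThompsonExt.out_mk_of_fixed M m₀ _ hfix
    rw [Finset.prod_eq_single q₀] at h1
    · have ht : q₀.out.out ∈ M := by
        have h4 : ((q₀.out.out : G) : G ⧸ M) = ((1 : G) : G ⧸ M) := by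
          rw [QuotientGroup.out_eq', hq₀]
        rw [QuotientGroup.eq] at h4
        have := M.inv_mem h4
        simpa using this
      have hk : Function.minimalPeriod (m₀ • ·) q₀.out = 1 := by
        rw [Function.minimalPeriod_eq_one_iff_isFixedPt, hq₀]
        exact hfix
      have hgen : ∀ (t : G) (ht : t ∈ M) (k : ℕ) (hk : k = 1) (hmem : t⁻¹ * m₀ ^ k * t ∈ M),
          ϕ ⟨t⁻¹ * m₀ ^ k * t, hmem⟩ = ϕ ⟨m₀, hm₀M⟩ := by
        intro t ht k hk hmem
        subst hk
        have h5 : (⟨t⁻¹ * m₀ ^ 1 * t, hmem⟩ : M) = (⟨t, ht⟩ : M)⁻¹ * ⟨m₀, hm₀M⟩ * ⟨t, ht⟩ :=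
          Subtype.ext (by simp)
        rw [h5, map_mul, map_mul, map_inv, mul_comm, mul_inv_cancel_left]
      rw [hgen _ ht _ hk] at h1
      exact hm₀H ((hker m₀ hm₀M).mp h1)
    · intro q _ hq
      have ht : q.out.out ∉ M := by
        intro ht
        apply hq
        have h4 : q.out = ((1 : G) : G ⧸ M) := by
          rw [← QuotientGroup.out_eq' q.out, QuotientGroup.eq]
          simpa using M.inv_mem ht
        have h5 : Quotient.mk _ q.out = q := Quotient.out_eq q
        rw [← h5, h4]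
      have hmem := QuotientGroup.out_conj_pow_minimalPeriod_mem M m₀ q.out
      have h6 : m₀ ^ Function.minimalPeriod (m₀ • ·) q.out ∈ H :=
        hB _ (M.pow_mem hm₀M _) _ ht hmem
      rw [hker]
      have h3 := weak H M hcl (q.out.out⁻¹) (m₀ ^ Function.minimalPeriod (m₀ • ·) q.out)
        h6 (by simpa using hmem)
      simpa using h3
    · intro h; exact absurd (Finset.mem_univ _) h

theorem exists_normal [Finite G] (H M : Subgroup G) (hHM : H ≤ M)
    (hcl : ∀ g : G, (H ⊔ H.map (MulAut.conj g).toMonoidHom) ⊓ M = H)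
    (hmaxH : IsCoatom (H.subgroupOf M)) (hmaxM : IsCoatom M) :
    ∃ L : Subgroup G, L.Normal ∧ H ≤ L ∧ ¬ M ≤ L := by
  classical
  have hne : ¬ M ≤ H := not_le H M hmaxH
  -- M normal case
  by_cases hMn : M.Normal
  · refine ⟨H, ⟨fun n hn g => ?_⟩, le_rfl, hne⟩
    exact weak H M hcl g n hn (hMn.conj_mem n (hHM hn) g)
  have hNM : ∀ g : G, (∀ y ∈ M, g * y * g⁻¹ ∈ M) → g ∈ M := by
    intro g hg
    have h1 : g ∈ Subgroup.normalizer (M : Set G) :=
      Cfsg.Agent.Lib.Helper6_Sylow.mem_normalizer_of_conj_le hg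
    have h2 : M ≤ Subgroup.normalizer (M : Set G) := Subgroup.le_normalizer
    rcases hmaxM.le_iff.mp h2 with h | h
    · exfalso; exact hMn (Subgroup.normalizer_eq_top_iff.mp h)
    · rw [h] at h1; exact h1
  by_cases hA : ∃ m ∈ M, m ∉ H ∧ ∃ g : G, g ∉ M ∧ g⁻¹ * m * g ∈ M
  · obtain ⟨m, hmM, hmH, g, hgM, hgm⟩ := hA
    obtain ⟨L, hL⟩ : ∃ L, L = H ⊔ H.map (MulAut.conj g).toMonoidHom := ⟨_, rfl⟩
    have hLM : L ⊓ M = H := by rw [hL]; exact hcl g
    have hHL : H ≤ L := by rw [hL]; exact le_sup_left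
    have hHgL : ∀ h ∈ H, g * h * g⁻¹ ∈ L := by
      intro h hh
      rw [hL]
      refine Subgroup.mem_sup_right ⟨h, hh, ?_⟩
      simp [MulAut.conj_apply]
    have hmN : m ∈ Subgroup.normalizer (L : Set G) := by
      apply Cfsg.Agent.Lib.Helper6_Sylow.mem_normalizer_of_conj_le
      have h1 : H ⊔ H.map (MulAut.conj g).toMonoidHom ≤ L.comap (MulAut.conj m).toMonoidHom := by
        apply sup_le
        · intro h hh
          rw [Subgroup.mem_comap]
          apply hHL
          have := weak H M hcl m h hh (M.mul_mem (M.mul_mem hmM (hHM hh)) (M.inv_mem hmM))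
          simpa [MulAut.conj_apply] using this
        · rintro _ ⟨h, hh, rfl⟩
          rw [Subgroup.mem_comap]
          have h2 := weak H M hcl (g⁻¹ * m * g) h hh
            (M.mul_mem (M.mul_mem hgm (hHM hh)) (M.inv_mem hgm))
          have h3 := hHgL _ h2
          have h4 : g * (g⁻¹ * m * g * h * (g⁻¹ * m * g)⁻¹) * g⁻¹ = m * (g * h * g⁻¹) * m⁻¹ := by
            group
          rw [h4] at h3
          simpa [MulAut.conj_apply] using h3
      rw [← hL] at h1
      intro y hy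
      have := h1 hy
      simpa [MulAut.conj_apply] using this
    have hMK : M ≤ Subgroup.normalizer (L : Set G) :=
      key_max H M hmaxH _ (hHL.trans Subgroup.le_normalizer) m hmM hmN hmH
    rcases hmaxM.le_iff.mp hMK with h | h
    · refine ⟨L, Subgroup.normalizer_eq_top_iff.mp h, hHL, fun hML => hne ?_⟩
      rw [← hLM]; exact le_inf hML le_rfl
    · exfalso
      apply hgM
      apply hNM
      -- K' = comap
      have hK' : M ≤ (Subgroup.normalizer (L : Set G)).comap (MulAut.conj g).toMonoidHom := by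
        apply key_max H M hmaxH _ _ (g⁻¹ * m * g) hgm
        · rw [Subgroup.mem_comap]
          have : (MulAut.conj g).toMonoidHom (g⁻¹ * m * g) = m := by
            simp [MulAut.conj_apply, mul_assoc]
          rw [this]; exact hmN
        · intro hc
          apply hmH
          have h5 := hHgL _ hc
          have h6 : g * (g⁻¹ * m * g) * g⁻¹ = m := by group
          rw [h6] at h5
          rw [← hLM]; exact ⟨h5, hmM⟩
        · intro x hx
          rw [Subgroup.mem_comap]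
          apply Subgroup.le_normalizer
          have := hHgL x hx
          simpa [MulAut.conj_apply] using this
      intro y hy
      have h7 := hK' hy
      rw [Subgroup.mem_comap, h] at h7
      simpa [MulAut.conj_apply] using h7
  · apply transfer_case H M hHM hcl hmaxH
    intro m hmM g hg hgm
    by_contra hmH
    exact hA ⟨m, hmM, hmH, g, hg, hgm⟩

theorem main [Finite G] (H M : Subgroup G) (hHM : H ≤ M)
    (hcl : ∀ g : G, (H ⊔ H.map (MulAut.conj g).toMonoidHom) ⊓ M = H)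
    (hmaxH : IsCoatom (H.subgroupOf M)) (hmaxM : IsCoatom M) :
    Subgroup.normalClosure (H : Set G) ⊓ M = H :=
  reduce H M hHM hmaxH (exists_normal H M hHM hcl hmaxH hmaxM)

end aux

/-- Let G be a finite group and H ≤ M ≤ G subgroups such that for every g ∈ G the subgroup generated by H and g H g⁻¹ meets M exactly in H. If H is a maximal subgroup of M and M is a maximal subgroup of G, then the normal closure of H in G meets M exactly in H. -/
theorem result {G : Type*} [Group G] [Finite G] (H M : Subgroup G) (hHM : H ≤ M) (hcl : ∀ g : G, (H ⊔ H.map (MulAut.conj g).toMonoidHom) ⊓ M = H) (hmaxH : IsCoatom (H.subgroupOf M)) (hmaxM : IsCoatom M) : Subgroup.normalClosure (H : Set G) ⊓ M = H := by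
  exact main H M hHM hcl hmaxH hmaxM

end Cfsg.Agent.S3014
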