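import Mathlib
import Cfsg.Statements.S3015
import Cfsg.Agent.S3014
import Cfsg.Agent.Lib.Helper7_SmallSimple2
import Cfsg.Agent.Lib.Helper6_Sylow

set_option autoImplicit false
open Cfsg

namespace Cfsg.Agent.S3015

section aux
variable {G : Type*} [Group G]

/-- a subgroup of prime relative index is maximal -/
theorem coatom_of_prime (H M : Subgroup G) (hidx : (H.relIndex M).Prime) :
    IsCoatom (H.subgroupOf M) := by
  constructor
  · intro h
    have h1 : (H.subgroupOf M).index = 1 := by rw [h]; exact Subgroup.index_top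
    have h2 : H.relIndex M = 1 := h1
    rw [h2] at hidx
    exact Nat.not_prime_one hidx
  · intro K hK
    have h1 := Subgroup.relIndex_mul_index hK.le
    have h2 : (H.subgroupOf M).index = H.relIndex M := rfl
    rw [h2] at h1
    have h3 : K.index ∣ H.relIndex M := Dvd.intro_left _ h1
    rcases (Nat.dvd_prime hidx).mp h3 with h | h
    · exact Subgroup.index_eq_one.mp h
    · exfalso
      rw [h] at h1
      have h4 : (H.subgroupOf M).relIndex K = 1 := by
        have hpos : 0 < H.relIndex M := hidx.pos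
        have : (H.subgroupOf M).relIndex K * H.relIndex M = 1 * H.relIndex M := by
          rw [one_mul]; exact h1
        exact Nat.eq_of_mul_eq_mul_right hpos this
      rw [Subgroup.relIndex_eq_one] at h4
      exact absurd h4 (not_le_of_gt hK)

/-- elements of order prime to `p` lie in a normal subgroup of index `p` -/
theorem mem_of_coprime [Finite G] (H M : Subgroup G) (hHn : (H.subgroupOf M).Normal)
    (p : ℕ) (hidx : H.relIndex M = p) (x : G) (hxM : x ∈ M)
    (hco : (orderOf x).Coprime p) : x ∈ H := by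
  haveI := hHn
  have hcard : Nat.card (M ⧸ H.subgroupOf M) = p := by
    rw [← Subgroup.index_eq_card]; exact hidx
  let ϕ : M →* (M ⧸ H.subgroupOf M) := QuotientGroup.mk' _
  have h1 : orderOf (ϕ ⟨x, hxM⟩) ∣ orderOf x := by
    have := orderOf_map_dvd ϕ (⟨x, hxM⟩ : M)
    rwa [Subgroup.orderOf_mk] at this
  have h2 : orderOf (ϕ ⟨x, hxM⟩) ∣ p := by
    rw [← hcard]; exact orderOf_dvd_natCard _
  have h3 : orderOf (ϕ ⟨x, hxM⟩) = 1 := Nat.eq_one_of_dvd_coprimes hco h1 h2
  rw [orderOf_eq_one_iff] at h3
  have h4 : (⟨x, hxM⟩ : M) ∈ H.subgroupOf M := (QuotientGroup.eq_one_iff _).mp h3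
  exact Subgroup.mem_subgroupOf.mp h4

/-- the subgroup generated by the `p'`-elements of `M` -/
def T (M : Subgroup G) (p : ℕ) : Subgroup G :=
  Subgroup.closure {x | x ∈ M ∧ (orderOf x).Coprime p}

theorem T_conj_le (M : Subgroup G) (p : ℕ) (g : G)
    (hg : ∀ x, x ∈ M → (orderOf x).Coprime p → g * x * g⁻¹ ∈ M) :
    ∀ y ∈ T M p, g * y * g⁻¹ ∈ T M p := by
  have h1 : T M p ≤ (T M p).comap (MulAut.conj g).toMonoidHom := by
    unfold T
    rw [Subgroup.closure_le]
    rintro x ⟨hxM, hxo⟩
    simp only [Subgroup.coe_comap, Set.mem_preimage, SetLike.mem_coe]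
    apply Subgroup.subset_closure
    refine ⟨?_, ?_⟩
    · have := hg x hxM hxo
      simpa [MulAut.conj_apply] using this
    · have : orderOf ((MulAut.conj g).toMonoidHom x) = orderOf x := by
        simp only [MulEquiv.coe_toMonoidHom]
        exact MulEquiv.orderOf_eq (MulAut.conj g) x
      rw [this]; exact hxo
  intro y hy
  have := h1 hy
  simpa [MulAut.conj_apply] using this

/-- if `T M p` is trivial, `M` is a `p`-group -/
theorem isPGroup_of_T_bot [Finite G] (M : Subgroup G) (p : ℕ) (hp : p.Prime)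
    (hT : T M p = ⊥) : IsPGroup p M := by
  intro x
  have hpos : 0 < orderOf (x : G) := orderOf_pos _
  obtain ⟨a, b, hb, hab⟩ := Nat.exists_eq_pow_mul_and_not_dvd hpos.ne' p hp.ne_one
  refine ⟨a, ?_⟩
  have h1 : orderOf ((x : G) ^ (p ^ a)) = b := by
    rw [orderOf_pow' _ (pow_pos hp.pos a).ne', hab, Nat.gcd_eq_right (Dvd.intro _ rfl)]
    exact Nat.mul_div_cancel_left _ (pow_pos hp.pos a)
  have h2 : (x : G) ^ (p ^ a) ∈ T M p := by
    apply Subgroup.subset_closure
    refine ⟨M.pow_mem x.2 _, ?_⟩
    rw [h1]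
    exact ((Nat.Prime.coprime_iff_not_dvd hp).mpr hb).symm
  rw [hT, Subgroup.mem_bot] at h2
  exact Subtype.ext (by simpa using h2)

end aux

section main
variable {G : Type*} [Group G]

theorem no_type_two [Finite G] [IsSimpleGroup G] (M H : Subgroup G) (hmaxM : IsCoatom M)
    (hHM : H ≤ M) (hHn : (H.subgroupOf M).Normal) (hidx : (H.relIndex M).Prime) (g : G)
    (hgM : H.map (MulAut.conj g).toMonoidHom ≤ M)
    (hne : H.map (MulAut.conj g).toMonoidHom ≠ H) : False := by
  classical
  obtain ⟨p, hp⟩ : ∃ p, p = H.relIndex M := ⟨_, rfl⟩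
  have hpp : p.Prime := hp ▸ hidx
  haveI : Fact p.Prime := ⟨hpp⟩
  have hnorm : ∀ m ∈ M, ∀ h ∈ H, m * h * m⁻¹ ∈ H := fun m hm h hh =>
    (Subgroup.normal_subgroupOf_iff hHM).mp hHn h m hh hm
  have hgnM : g ∉ M := by
    intro hg
    apply hne
    apply le_antisymm
    · rintro _ ⟨h, hh, rfl⟩
      have := hnorm g hg h hh
      simpa [MulAut.conj_apply] using this
    · intro h hh
      refine ⟨g⁻¹ * h * g, ?_, ?_⟩
      · have := hnorm g⁻¹ (M.inv_mem hg) h hh
        simpa using this
      · simp [MulAut.conj_apply, mul_assoc]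
  have hMtop : M ≠ ⊤ := hmaxM.1
  have hHbot : H ≠ ⊥ := by
    intro h
    apply hne
    rw [h, Subgroup.map_bot]
  have hMnn : ¬ M.Normal := by
    intro hMn
    rcases hMn.eq_bot_or_eq_top with h | h
    · apply hHbot; rw [eq_bot_iff, ← h]; exact hHM
    · exact hMtop h
  have hNM : ∀ x : G, (∀ y ∈ M, x * y * x⁻¹ ∈ M) → x ∈ M := by
    intro x hx
    have h1 : x ∈ Subgroup.normalizer (M : Set G) :=
      Cfsg.Agent.Lib.Helper6_Sylow.mem_normalizer_of_conj_le hx
    have h2 : M ≤ Subgroup.normalizer (M : Set G) := Subgroup.le_normalizer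
    rcases hmaxM.le_iff.mp h2 with h | h
    · exfalso; exact hMnn (Subgroup.normalizer_eq_top_iff.mp h)
    · rw [h] at h1; exact h1
  have hTH : T M p ≤ H := by
    unfold T; rw [Subgroup.closure_le]
    rintro x ⟨hxM, hxo⟩
    exact mem_of_coprime H M hHn p hp.symm x hxM hxo
  have hgT : g ∈ Subgroup.normalizer (T M p : Set G) := by
    apply Cfsg.Agent.Lib.Helper6_Sylow.mem_normalizer_of_conj_le
    apply T_conj_le
    intro x hxM hxo
    apply hgM
    exact ⟨x, mem_of_coprime H M hHn p hp.symm x hxM hxo, by simp [MulAut.conj_apply]⟩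
  have hMT : M ≤ Subgroup.normalizer (T M p : Set G) := by
    intro m hm
    apply Cfsg.Agent.Lib.Helper6_Sylow.mem_normalizer_of_conj_le
    apply T_conj_le
    intro x hxM _
    exact M.mul_mem (M.mul_mem hm hxM) (M.inv_mem hm)
  have hTn : (T M p).Normal := by
    rcases hmaxM.le_iff.mp hMT with h | h
    · exact Subgroup.normalizer_eq_top_iff.mp h
    · exfalso; rw [h] at hgT; exact hgnM hgT
  have hTbot : T M p = ⊥ := by
    rcases hTn.eq_bot_or_eq_top with h | h
    · exact h
    · exfalso; apply hMtop; rw [eq_top_iff, ← h]; exact hTH.trans hHM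
  have hMp : IsPGroup p M := isPGroup_of_T_bot M p hpp hTbot
  obtain ⟨A, hA⟩ : ∃ A, A = H.map (MulAut.conj g).toMonoidHom := ⟨_, rfl⟩
  rw [← hA] at hgM hne
  have hcardA : Nat.card A = Nat.card H := by
    rw [hA]
    exact Subgroup.card_map_of_injective (MulAut.conj g).injective
  have h2 := Cfsg.Agent.Lib.Helper7_SmallSimple2.card_mul_relIndex hHM
  rw [← hp] at h2
  have hAidx : A.relIndex M = p := by
    have h1 := Cfsg.Agent.Lib.Helper7_SmallSimple2.card_mul_relIndex hgM
    rw [hcardA] at h1
    have hpos : 0 < Nat.card H := Nat.card_pos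
    exact Nat.eq_of_mul_eq_mul_left hpos (h1.trans h2.symm)
  have hAn : (A.subgroupOf M).Normal := by
    apply Subgroup.normal_of_index_eq_minFac_card
    obtain ⟨k, hk⟩ := IsPGroup.iff_card.mp hMp
    have hk0 : k ≠ 0 := by
      rintro rfl
      rw [pow_zero] at hk
      rw [hk] at h2
      have := Nat.eq_one_of_mul_eq_one_left h2
      exact hpp.one_lt.ne' this
    rw [hk, Nat.Prime.pow_minFac hpp hk0]
    exact hAidx
  have hMA : M ≤ Subgroup.normalizer (A : Set G) :=
    (Subgroup.normal_subgroupOf_iff_le_normalizer hgM).mp hAn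
  have hMgA : ∀ m ∈ M, g * m * g⁻¹ ∈ Subgroup.normalizer (A : Set G) := by
    intro m hm
    apply Cfsg.Agent.Lib.Helper6_Sylow.mem_normalizer_of_conj_le
    intro y hy
    rw [hA] at hy ⊢
    obtain ⟨h, hh, rfl⟩ := hy
    refine ⟨m * h * m⁻¹, hnorm m hm h hh, ?_⟩
    simp only [MulEquiv.coe_toMonoidHom, MulAut.conj_apply]
    group
  have hAnorm : A.Normal := by
    rcases hmaxM.le_iff.mp hMA with h | h
    · exact Subgroup.normalizer_eq_top_iff.mp h
    · exfalso
      apply hgnM
      apply hNM
      intro y hy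
      have := hMgA y hy
      rwa [h] at this
  rcases hAnorm.eq_bot_or_eq_top with h | h
  · apply hHbot
    rw [h] at hcardA
    rw [Subgroup.card_bot] at hcardA
    exact Subgroup.card_eq_one.mp hcardA.symm
  · apply hMtop; rw [eq_top_iff, ← h]; exact hgM

theorem no_prime_maximal [Finite G] [IsSimpleGroup G] (hG : ¬ IsMulCommutative G)
    (M : Subgroup G) (hmaxM : IsCoatom M) (p : ℕ) (hp : p.Prime) (hcard : Nat.card M = p) :
    False := by
  classical
  haveI : Fact p.Prime := ⟨hp⟩
  have hMtop : M ≠ ⊤ := hmaxM.1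
  have hMp : IsPGroup p M := IsPGroup.of_card (n := 1) (by rw [hcard, pow_one])
  obtain ⟨P, hP⟩ := hMp.exists_le_sylow
  have hPM : (P : Subgroup G) = M := by
    rcases hmaxM.le_iff.mp hP with h | h
    · exfalso
      have hGp : IsPGroup p G := by
        intro x
        obtain ⟨k, hk⟩ := P.2 ⟨x, by rw [h]; exact Subgroup.mem_top x⟩
        exact ⟨k, by simpa using congrArg Subtype.val hk⟩
      haveI : Nontrivial G := IsSimpleGroup.toNontrivial
      haveI hc : Nontrivial (Subgroup.center G) := hGp.center_nontrivial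
      have hct : Subgroup.center G = ⊤ := by
        rcases (inferInstance : (Subgroup.center G).Normal).eq_bot_or_eq_top with h' | h'
        · exfalso
          exact (Subgroup.nontrivial_iff_ne_bot _).mp hc h'
        · exact h'
      apply hG
      refine ⟨⟨fun a b => ?_⟩⟩
      have hb : b ∈ Subgroup.center G := by rw [hct]; exact Subgroup.mem_top b
      exact (Subgroup.mem_center_iff.mp hb a)
    · exact h
  have hMnn : ¬ M.Normal := by
    intro hMn
    rcases hMn.eq_bot_or_eq_top with h | h
    · rw [h, Subgroup.card_bot] at hcard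
      exact hp.one_lt.ne hcard
    · exact hMtop h
  have hNP : Subgroup.normalizer ((P : Subgroup G) : Set G) = P := by
    have h2 : (P : Subgroup G) ≤ Subgroup.normalizer ((P : Subgroup G) : Set G) :=
      Subgroup.le_normalizer
    rw [hPM] at h2 ⊢
    rcases hmaxM.le_iff.mp h2 with h | h
    · exfalso; exact hMnn (Subgroup.normalizer_eq_top_iff.mp h)
    · exact h
  have hcardP : Nat.card (P : Subgroup G) = p := by rw [hPM]; exact hcard
  haveI : IsCyclic (P : Subgroup G) := isCyclic_of_prime_card hcardP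
  have hNC : Subgroup.normalizer ((P : Subgroup G) : Set G) ≤
      Subgroup.centralizer ((P : Subgroup G) : Set G) := by
    rw [hNP]; exact Subgroup.le_centralizer _
  have hc := MonoidHom.ker_transferSylow_isComplement' P hNC
  have hmul := hc.card_mul_card
  rcases (MonoidHom.normal_ker (MonoidHom.transferSylow P hNC)).eq_bot_or_eq_top with h | h
  · rw [h, Subgroup.card_bot, one_mul] at hmul
    have := (Subgroup.card_eq_iff_eq_top (P : Subgroup G)).mp hmul
    rw [hPM] at this
    exact hMtop this
  · rw [h, Subgroup.card_top, hcardP] at hmul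
    have hpos : 0 < Nat.card G := Nat.card_pos
    have : Nat.card G * p = Nat.card G * 1 := by rw [mul_one]; exact hmul
    have := Nat.eq_of_mul_eq_mul_left hpos this
    exact hp.one_lt.ne' this

end main

/-- Let G be a finite non-abelian simple group, M a maximal subgroup of G and H a normal subgroup of M of prime index in M. Then G is generated by H together with one of its conjugates. -/
theorem result {G : Type*} [Group G] [Finite G] [IsSimpleGroup G] (hG : ¬ IsMulCommutative G) (M H : Subgroup G) (hmaxM : IsCoatom M) (hHM : H ≤ M) (hHn : (H.subgroupOf M).Normal) (hidx : (H.relIndex M).Prime) : ∃ g : G, H ⊔ H.map (MulAut.conj g).toMonoidHom = ⊤ := by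
  classical
  by_contra hno
  push Not at hno
  have hmaxH := coatom_of_prime H M hidx
  by_cases hcl : ∀ g : G, (H ⊔ H.map (MulAut.conj g).toMonoidHom) ⊓ M = H
  · have hmain := Cfsg.Agent.S3014.main H M hHM hcl hmaxH hmaxM
    rcases (Subgroup.normalClosure_normal (s := (H : Set G))).eq_bot_or_eq_top with h | h
    · have hH : H = ⊥ := by rw [eq_bot_iff, ← h]; exact Subgroup.le_normalClosure
      have hcard : Nat.card M = H.relIndex M := by
        have := Cfsg.Agent.Lib.Helper7_SmallSimple2.card_mul_relIndex hHM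
        rw [hH] at this ⊢
        simp at this ⊢
      exact no_prime_maximal hG M hmaxM _ hidx hcard
    · rw [h, top_inf_eq] at hmain
      exact Cfsg.Agent.S3014.not_le H M hmaxH hmain.le
  · push Not at hcl
    obtain ⟨g, hg⟩ := hcl
    have h1 : H ≤ (H ⊔ H.map (MulAut.conj g).toMonoidHom) ⊓ M := le_inf le_sup_left hHM
    have h2 : ¬ (H ⊔ H.map (MulAut.conj g).toMonoidHom) ⊓ M ≤ H :=
      fun h => hg (le_antisymm h h1)
    obtain ⟨m, hm, hmH⟩ := SetLike.not_le_iff_exists.mp h2
    have h3 : M ≤ H ⊔ H.map (MulAut.conj g).toMonoidHom :=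
      Cfsg.Agent.S3014.key_max H M hmaxH _ le_sup_left m hm.2 hm.1 hmH
    rcases hmaxM.le_iff.mp h3 with h | h
    · exact hno g h
    · have hgM : H.map (MulAut.conj g).toMonoidHom ≤ M := by rw [← h]; exact le_sup_right
      have hne : H.map (MulAut.conj g).toMonoidHom ≠ H := by
        intro he
        rw [he, sup_idem] at h
        exact Cfsg.Agent.S3014.not_le H M hmaxH h.ge
      exact no_type_two M H hmaxM hHM hHn hidx g hgM hne

end Cfsg.Agent.S3015
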