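import Mathlib
import Cfsg.Statements.S3020
import Cfsg.Agent.Lib.Helper5_Sylow
import Cfsg.Agent.Lib.Helper5_PPrime

set_option autoImplicit false
open Cfsg

namespace Cfsg.Agent.S3020

open Cfsg.Agent.Lib.Helper5_Sylow Cfsg.Agent.Lib.Helper5_PPrime

/-- Let G be a finite group, p a prime and H an abelian p-subgroup of G that is extremely closed (for every g, the subgroup generated by H and g H g⁻¹ meets N_G(H) exactly in H). Then for every g ∈ G, the subgroup T generated by H and g H g⁻¹ is the product of H with O_{p'}(T), and H meets O_{p'}(T) trivially; that is, O_{p'}(T) is a normal p-complement of H in T. -/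
theorem result {G : Type*} [Group G] [Finite G] {p : ℕ} [Fact p.Prime] (H : Subgroup G) (hHp : IsPGroup p H) (hHab : IsMulCommutative H) (hcl : Cfsg.IsExtremelyClosed H) (g : G) (T : Subgroup G) (hT : T = H ⊔ H.map (MulAut.conj g).toMonoidHom) : H ⊔ (Cfsg.pPrimeCore p ↥T).map T.subtype = T ∧ H ⊓ (Cfsg.pPrimeCore p ↥T).map T.subtype = ⊥ := by
  have hHT : H ≤ T := by rw [hT]; exact le_sup_left
  have hNT : T ⊓ Subgroup.normalizer (H : Set G) = H := by rw [hT]; exact hcl g
  -- H' = H as a subgroup of T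
  have hH'p : IsPGroup p (H.subgroupOf T) :=
    hHp.comap_of_injective T.subtype T.subtype_injective
  have hmax : ∀ {Q : Subgroup ↥T}, IsPGroup p Q → H.subgroupOf T ≤ Q → Q = H.subgroupOf T := by
    intro Q hQ hle
    have hQ0 : IsPGroup p (Q.map T.subtype) := hQ.map T.subtype
    have hQ0T : Q.map T.subtype ≤ T := by
      rintro _ ⟨y, _, rfl⟩; exact y.2
    have hHQ0 : H ≤ Q.map T.subtype := by
      intro x hx
      exact ⟨⟨x, hHT hx⟩, hle (by simpa [Subgroup.mem_subgroupOf] using hx), rfl⟩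
    have heq : Q.map T.subtype = H := by
      by_contra hne
      have hlt : H < Q.map T.subtype := lt_of_le_of_ne hHQ0 (Ne.symm hne)
      have h1 := lt_inf_normalizer hQ0 hlt
      have h2 : Q.map T.subtype ⊓ Subgroup.normalizer (H : Set G) ≤ H :=
        (inf_le_inf_right _ hQ0T).trans hNT.le
      exact lt_irrefl _ (lt_of_lt_of_le h1 h2)
    apply le_antisymm _ hle
    intro y hy
    rw [Subgroup.mem_subgroupOf, ← heq]
    exact ⟨y, hy, rfl⟩
  let P : Sylow p ↥T := { toSubgroup := H.subgroupOf T, isPGroup' := hH'p, is_maximal' := hmax }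
  have hPcoe : (P : Subgroup ↥T) = H.subgroupOf T := rfl
  have hP : Subgroup.normalizer ((P : Subgroup ↥T) : Set ↥T) ≤ Subgroup.centralizer ((P : Subgroup ↥T) : Set ↥T) := by
    intro x hx
    rw [hPcoe] at hx ⊢
    have hxN : (x : G) ∈ Subgroup.normalizer (H : Set G) := by
      apply Subgroup.mem_normalizer_fintype
      intro h hh
      have h1 := (Subgroup.mem_normalizer_iff.mp hx ⟨h, hHT hh⟩).mp
        (by simpa [Subgroup.mem_subgroupOf] using hh)
      simpa [Subgroup.mem_subgroupOf] using h1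
    have hxH : (x : G) ∈ H := by
      rw [← hNT]; exact ⟨x.2, hxN⟩
    rw [Subgroup.mem_centralizer_iff]
    intro y hy
    have hy' : (y : G) ∈ H := by simpa [Subgroup.mem_subgroupOf] using hy
    have hc : (⟨(y : G), hy'⟩ : H) * ⟨(x : G), hxH⟩ = ⟨(x : G), hxH⟩ * ⟨(y : G), hy'⟩ :=
      hHab.is_comm.comm _ _
    have hc' := congrArg Subtype.val hc
    apply Subtype.ext
    simpa using hc'
  have hcompl := MonoidHom.ker_transferSylow_isComplement' P hP
  have hnd := MonoidHom.not_dvd_card_ker_transferSylow P hP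
  set K : Subgroup ↥T := (MonoidHom.transferSylow P hP).ker with hK
  have hKcop : (Nat.card K).Coprime p :=
    ((Nat.Prime.coprime_iff_not_dvd Fact.out).mpr hnd).symm
  have hKle : K ≤ Cfsg.pPrimeCore p ↥T := le_pPrimeCore K hKcop
  have hsup : K ⊔ (P : Subgroup ↥T) = ⊤ := hcompl.sup_eq_top
  have hHmap : (H.subgroupOf T).map T.subtype = H := by
    rw [Subgroup.subgroupOf_map_subtype]; exact inf_eq_left.mpr hHT
  constructor
  · apply le_antisymm
    · refine sup_le hHT ?_
      rintro _ ⟨y, _, rfl⟩; exact y.2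
    · intro x hx
      have hx' : (⟨x, hx⟩ : ↥T) ∈ K ⊔ (P : Subgroup ↥T) := by rw [hsup]; trivial
      have h2 : T.subtype ⟨x, hx⟩ ∈ (K ⊔ (P : Subgroup ↥T)).map T.subtype := ⟨_, hx', rfl⟩
      rw [Subgroup.map_sup, hPcoe, hHmap] at h2
      have h3 : K.map T.subtype ⊔ H ≤ H ⊔ (Cfsg.pPrimeCore p ↥T).map T.subtype :=
        sup_le (le_sup_of_le_right (Subgroup.map_mono hKle)) le_sup_left
      exact h3 h2
  · have hcop : (Nat.card ((Cfsg.pPrimeCore p ↥T).map T.subtype)).Coprime p := by
      rw [Subgroup.card_map_of_injective T.subtype_injective]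
      exact pPrimeCore_coprime p ↥T
    exact inf_eq_bot_of_pGroup_of_coprime hHp hcop

end Cfsg.Agent.S3020
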