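import Mathlib
import Cfsg.Statements.S3021
import Cfsg.Agent.Lib.Helper5_Sylow

set_option autoImplicit false
open Cfsg

namespace Cfsg.Agent.S3021

open Cfsg.Agent.Lib.Helper5_Sylow

/-- Let G be a finite group, p a prime and H a p-subgroup of G that is extremely closed (for every g, the subgroup generated by H and g H g⁻¹ meets N_G(H) exactly in H). Then every p-subgroup Q of G containing H has N_G(Q) ≤ N_G(H); in particular every Sylow p-subgroup P of G containing H normalizes H, and H is strongly closed in P with respect to G. -/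
theorem result {G : Type*} [Group G] [Finite G] {p : ℕ} [Fact p.Prime] (H : Subgroup G) (hHp : IsPGroup p H) (hcl : Cfsg.IsExtremelyClosed H) : (∀ Q : Subgroup G, IsPGroup p Q → H ≤ Q → Subgroup.normalizer (Q : Set G) ≤ Subgroup.normalizer (H : Set G)) ∧ ∀ P : Sylow p G, H ≤ (P : Subgroup G) → (P : Subgroup G) ≤ Subgroup.normalizer (H : Set G) ∧ Cfsg.IsStronglyClosed H (P : Subgroup G) := by
  have part1 : ∀ Q : Subgroup G, IsPGroup p Q → H ≤ Q →
      Subgroup.normalizer (Q : Set G) ≤ Subgroup.normalizer (H : Set G) := by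
    intro Q hQ hHQ g hg
    have hH'Q : H.map (MulAut.conj g).toMonoidHom ≤ Q := by
      rintro _ ⟨x, hx, rfl⟩
      simp only [MulEquiv.coe_toMonoidHom, MulAut.conj_apply]
      exact (Subgroup.mem_normalizer_iff.mp hg x).mp (hHQ hx)
    have hJQ : H ⊔ H.map (MulAut.conj g).toMonoidHom ≤ Q := sup_le hHQ hH'Q
    have hJp : IsPGroup p (H ⊔ H.map (MulAut.conj g).toMonoidHom : Subgroup G) := hQ.to_le hJQ
    have hJ : H ⊔ H.map (MulAut.conj g).toMonoidHom = H := by
      by_contra hne
      have hlt : H < H ⊔ H.map (MulAut.conj g).toMonoidHom :=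
        lt_of_le_of_ne le_sup_left (Ne.symm hne)
      have := lt_inf_normalizer hJp hlt
      rw [hcl g] at this
      exact lt_irrefl _ this
    have hle : H.map (MulAut.conj g).toMonoidHom ≤ H := by
      calc H.map (MulAut.conj g).toMonoidHom ≤ H ⊔ H.map (MulAut.conj g).toMonoidHom := le_sup_right
        _ = H := hJ
    have heq : H.map (MulAut.conj g).toMonoidHom = H :=
      Subgroup.eq_of_le_of_card_ge hle (by rw [card_map_conj])
    exact mem_normalizer_of_map_eq g H heq
  refine ⟨part1, ?_⟩
  intro P hHP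
  have hPN : (P : Subgroup G) ≤ Subgroup.normalizer (H : Set G) :=
    Subgroup.le_normalizer.trans (part1 P P.isPGroup' hHP)
  refine ⟨hPN, hHP, ?_⟩
  intro x hx g hgx
  have h1 : g * x * g⁻¹ ∈ (H ⊔ H.map (MulAut.conj g).toMonoidHom) ⊓ Subgroup.normalizer (H : Set G) := by
    refine ⟨?_, hPN hgx⟩
    apply (le_sup_right : H.map (MulAut.conj g).toMonoidHom ≤ _)
    exact ⟨x, hx, rfl⟩
  rw [hcl g] at h1
  exact h1

end Cfsg.Agent.S3021
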