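import Cfsg.Statements.S3025
import Mathlib
import Cfsg.Agent.S0016

set_option autoImplicit false
open Cfsg

namespace Cfsg.Agent.S3025

/-- Let F be a finite group and H a nontrivial subgroup of F that is contained in every nontrivial subgroup of F which H normalizes. Then F has a nontrivial normal subgroup N contained in every nontrivial normal subgroup of F (a unique minimal normal subgroup), N is simple, and one of the following holds: C_F(N) = 1; or H = N has prime order p, C_F(N) is cyclic of order a power of p, and F/C_F(N) is cyclic of order dividing p − 1; or H = N has order 2, N is central in F, and F is a generalized quaternion group. -/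
theorem result {F : Type*} [Group F] [Finite F] (H : Subgroup F) (hH : H ≠ ⊥)
    (hmin : ∀ R : Subgroup F, R ≠ ⊥ → H ≤ Subgroup.normalizer (R : Set F) → H ≤ R) :
    ∃ N : Subgroup F, N.Normal ∧ N ≠ ⊥ ∧ (∀ M : Subgroup F, M.Normal → M ≠ ⊥ → N ≤ M) ∧ IsSimpleGroup ↥N ∧
      (Subgroup.centralizer (N : Set F) = ⊥ ∨
       (H = N ∧ (Nat.card N).Prime ∧ IsCyclic ↥(Subgroup.centralizer (N : Set F)) ∧
          (∃ k : ℕ, 1 ≤ k ∧ Nat.card ↥(Subgroup.centralizer (N : Set F)) = Nat.card N ^ k) ∧
          (∃ g : F, Subgroup.centralizer (N : Set F) ⊔ Subgroup.zpowers g = ⊤) ∧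
          (Subgroup.centralizer (N : Set F)).index ∣ Nat.card N - 1) ∨
       (H = N ∧ Nat.card N = 2 ∧ Subgroup.centralizer (N : Set F) = ⊤ ∧
          ∃ k : ℕ, 1 ≤ k ∧ Nonempty (F ≃* QuaternionGroup (2 ^ k)))) := by
  classical
  set N : Subgroup F := Subgroup.normalClosure (H : Set F) with hN
  have hHN : H ≤ N := Subgroup.le_normalClosure
  have hNn : N.Normal := Subgroup.normalClosure_normal
  have hNbot : N ≠ ⊥ := fun h => hH (le_bot_iff.mp (h ▸ hHN))
  have hNmin : ∀ M : Subgroup F, M.Normal → M ≠ ⊥ → N ≤ M := by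
    intro M hM hMb
    have : H ≤ M := hmin M hMb (by
      intro x _
      rw [Subgroup.mem_normalizer_iff]
      intro y
      constructor
      · intro hy; exact hM.conj_mem y hy x
      · intro hy
        have := hM.conj_mem _ hy x⁻¹
        simpa [mul_assoc] using this)
    exact Subgroup.normalClosure_le_normal this
  have hsimple : IsSimpleGroup ↥N := by
    haveI : Nontrivial N := (Subgroup.nontrivial_iff_ne_bot N).mpr hNbot
    refine ⟨fun K' hK' => ?_⟩
    by_cases hKb : K' = ⊥
    · left; exact hKb
    right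
    set K := K'.map N.subtype with hK
    have hKb' : K ≠ ⊥ := by
      intro h
      apply hKb
      rw [hK, Subgroup.map_eq_bot_iff_of_injective _ N.subtype_injective] at h
      exact h
    have hKN : K ≤ N := Subgroup.map_subtype_le K'
    have hmemK : ∀ x : F, ∀ hx : x ∈ N, (x ∈ K ↔ (⟨x, hx⟩ : N) ∈ K') := by
      intro x hx
      constructor
      · rintro ⟨y, hy, hyx⟩
        have : y = ⟨x, hx⟩ := Subtype.ext hyx
        rwa [← this]
      · intro h; exact ⟨⟨x, hx⟩, h, rfl⟩
    have hNK : ∀ n ∈ N, ∀ x : F, (x ∈ K ↔ n * x * n⁻¹ ∈ K) := by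
      intro n hn x
      constructor
      · intro hx
        have hxN := hKN hx
        have h1 := (hmemK x hxN).mp hx
        have h2 := hK'.conj_mem _ h1 ⟨n, hn⟩
        exact ⟨_, h2, rfl⟩
      · intro hx
        have hxN := hKN hx
        have h1 := (hmemK _ hxN).mp hx
        have h2 := hK'.conj_mem _ h1 ⟨n⁻¹, N.inv_mem hn⟩
        obtain ⟨y, hy, hyx⟩ : (N.subtype (⟨n⁻¹, N.inv_mem hn⟩ * ⟨n * x * n⁻¹, hxN⟩ * ⟨n⁻¹, N.inv_mem hn⟩⁻¹)) ∈ K :=
          ⟨_, h2, rfl⟩
        have : N.subtype (⟨n⁻¹, N.inv_mem hn⟩ * ⟨n * x * n⁻¹, hxN⟩ * ⟨n⁻¹, N.inv_mem hn⟩⁻¹) = x := by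
          simp [mul_assoc]
        rw [← this]
        exact ⟨y, hy, hyx⟩
    have hHcore : H ≤ K.normalCore := by
      intro h hh b
      set R : Subgroup F := K.map (MulAut.conj b⁻¹).toMonoidHom with hR
      have hmemR : ∀ x : F, x ∈ R ↔ b * x * b⁻¹ ∈ K := by
        intro x
        rw [hR, Subgroup.mem_map_equiv]
        simp [MulAut.conj_symm_apply]
      have hRb : R ≠ ⊥ := by
        intro h0
        apply hKb'
        rw [hR, Subgroup.map_eq_bot_iff_of_injective _ (MulAut.conj b⁻¹).injective] at h0
        exact h0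
      have hnorm : H ≤ Subgroup.normalizer (R : Set F) := by
        intro n hn
        rw [Subgroup.mem_normalizer_iff]
        intro x
        rw [hmemR, hmemR]
        have hbn : b * n * b⁻¹ ∈ N := hNn.conj_mem n (hHN hn) b
        have := hNK _ hbn (b * x * b⁻¹)
        rw [this]
        have e : b * n * b⁻¹ * (b * x * b⁻¹) * (b * n * b⁻¹)⁻¹ = b * (n * x * n⁻¹) * b⁻¹ := by
          group
        rw [e]
      exact (hmemR h).mp (hmin R hRb hnorm hh)
    have hcore_ne : K.normalCore ≠ ⊥ := fun h0 => hH (le_bot_iff.mp (h0 ▸ hHcore))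
    have hNK' : N ≤ K := (hNmin _ (Subgroup.normalCore_normal K) hcore_ne).trans (Subgroup.normalCore_le K)
    rw [eq_top_iff]
    intro x _
    exact (hmemK x.1 x.2).mp (hNK' x.2)
  refine ⟨N, hNn, hNbot, hNmin, hsimple, ?_⟩
  by_cases hCb : Subgroup.centralizer (N : Set F) = ⊥
  · left; exact hCb
  right
  set C := Subgroup.centralizer (N : Set F) with hC
  have hCn : C.Normal := Subgroup.normal_centralizer
  have hNC : N ≤ C := hNmin C hCn hCb
  have hcomm : ∀ a b : N, a * b = b * a := by
    intro a b
    have := hNC a.2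
    rw [hC, Subgroup.mem_centralizer_iff] at this
    exact Subtype.ext (this b.1 b.2).symm
  have hprime : (Nat.card N).Prime := by
    letI : CommGroup N := { (inferInstance : Group N) with mul_comm := hcomm }
    exact IsSimpleGroup.prime_card
  haveI hpF : Fact (Nat.card N).Prime := ⟨hprime⟩
  have hHeq : H = N := by
    have hdvd : Nat.card H ∣ Nat.card N := Subgroup.card_dvd_of_le hHN
    rcases (Nat.dvd_prime hprime).mp hdvd with h1 | h1
    · exact absurd (Subgroup.card_eq_one.mp h1) hH
    · exact Subgroup.eq_of_le_of_card_ge hHN h1.ge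
  -- every nontrivial subgroup of C contains N
  have hcontain : ∀ R : Subgroup F, R ≤ C → R ≠ ⊥ → N ≤ R := by
    intro R hRC hRb
    rw [← hHeq]
    apply hmin R hRb
    intro n hn
    rw [Subgroup.mem_normalizer_iff]
    intro x
    by_cases hx : x ∈ R
    · have hxC := hRC hx
      rw [hC, Subgroup.mem_centralizer_iff] at hxC
      have := hxC n (hHN hn)
      rw [this, mul_inv_cancel_right]
    · constructor
      · intro h; exact absurd h hx
      · intro h
        have hxC := hRC h
        rw [hC, Subgroup.mem_centralizer_iff] at hxC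
        have := hxC n (hHN hn)
        have e : n * x * n⁻¹ = x := by
          apply mul_left_cancel (a := n)
          rw [this]; group
        rwa [e] at h
  -- the order of C is a power of p
  have hCcard : ∃ k : ℕ, 1 ≤ k ∧ Nat.card C = Nat.card N ^ k := by
    have hpos : Nat.card C ≠ 0 := Nat.card_pos.ne'
    have hq : ∀ {d : ℕ}, Nat.Prime d → d ∣ Nat.card C → d = Nat.card N := by
      intro d hd hdvd
      haveI : Fact d.Prime := ⟨hd⟩
      obtain ⟨g, hg⟩ := exists_prime_orderOf_dvd_card' d hdvd
      have hle : Subgroup.zpowers (g : F) ≤ C := by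
        rw [Subgroup.zpowers_le]; exact g.2
      have hne : Subgroup.zpowers (g : F) ≠ ⊥ := by
        rw [Ne, Subgroup.zpowers_eq_bot]
        intro h1
        have : g = 1 := Subtype.ext h1
        rw [this, orderOf_one] at hg
        exact hd.one_lt.ne hg
      have h1 := Subgroup.card_dvd_of_le (hcontain _ hle hne)
      rw [Nat.card_zpowers, Subgroup.orderOf_coe, hg] at h1
      exact ((Nat.prime_dvd_prime_iff_eq hprime hd).mp h1).symm
    have h2 := Nat.eq_prime_pow_of_unique_prime_dvd hpos hq
    refine ⟨_, ?_, h2⟩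
    by_contra hlt
    have h0 : (Nat.card C).primeFactorsList.length = 0 := by omega
    rw [h0, pow_zero] at h2
    exact hCb (Subgroup.card_eq_one.mp h2)
  obtain ⟨k, hk1, hCk⟩ := hCcard
  have hCp : IsPGroup (Nat.card N) C := IsPGroup.of_card hCk
  have huniq : ∀ A B : Subgroup C, Nat.card A = Nat.card N → Nat.card B = Nat.card N → A = B := by
    have key : ∀ A : Subgroup C, Nat.card A = Nat.card N → A.map C.subtype = N := by
      intro A hA
      have hAb : A.map C.subtype ≠ ⊥ := by
        rw [Ne, Subgroup.map_eq_bot_iff_of_injective _ C.subtype_injective]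
        intro h0
        rw [h0, Subgroup.card_bot] at hA
        exact hprime.one_lt.ne hA
      have hle := hcontain _ (Subgroup.map_subtype_le A) hAb
      have hc : Nat.card (A.map C.subtype) = Nat.card A :=
        Subgroup.card_map_of_injective C.subtype_injective
      exact (Subgroup.eq_of_le_of_card_ge hle (by rw [hc, hA])).symm
    intro A B hA hB
    apply Subgroup.map_injective C.subtype_injective
    rw [key A hA, key B hB]
  have h16 := Cfsg.Agent.S0016.result (G := C) (Nat.card N) hCp huniq
  -- the conjugation action on N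
  let φ : F →* MulAut N := MulAut.conjNormal
  have hker : φ.ker = C := by
    ext g
    rw [MonoidHom.mem_ker, hC, Subgroup.mem_centralizer_iff]
    constructor
    · intro hg n hn
      have := congrArg (fun f : MulAut N => ((f ⟨n, hn⟩ : N) : F)) hg
      simp only [φ, MulAut.conjNormal_apply, MulAut.one_apply] at this
      calc n * g = (g * n * g⁻¹) * g := by rw [this]
        _ = g * n := by group
    · intro hg
      ext n
      simp only [φ, MulAut.conjNormal_apply, MulAut.one_apply]
      rw [← hg n.1 n.2]; group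
  haveI : IsCyclic N := isCyclic_of_prime_card rfl
  have hcardAut : Nat.card (MulAut N) = Nat.card N - 1 := by
    rw [IsCyclic.card_mulAut, Nat.totient_prime hprime]
  haveI : IsCyclic (MulAut N) := by
    have e := IsCyclic.mulAutMulEquiv N
    exact isCyclic_of_surjective e.symm e.symm.surjective
  have hindex : C.index ∣ Nat.card N - 1 := by
    rw [← hker, Subgroup.index_ker, ← hcardAut]
    exact Subgroup.card_subgroup_dvd_card _
  have hgen : ∃ g : F, C ⊔ Subgroup.zpowers g = ⊤ := by
    haveI : IsCyclic φ.range := inferInstance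
    obtain ⟨⟨a, ha⟩, hgen⟩ := IsCyclic.exists_generator (α := φ.range)
    obtain ⟨g, rfl⟩ := ha
    refine ⟨g, ?_⟩
    rw [eq_top_iff]
    intro x _
    obtain ⟨m, hm⟩ := Subgroup.mem_zpowers_iff.mp (hgen ⟨φ x, ⟨x, rfl⟩⟩)
    have hm' : φ g ^ m = φ x := by
      have := congrArg Subtype.val hm
      simpa using this
    have hxg : x * (g ^ m)⁻¹ ∈ C := by
      rw [← hker, MonoidHom.mem_ker, map_mul, map_inv, map_zpow, hm', mul_inv_cancel]
    have : x = (x * (g ^ m)⁻¹) * g ^ m := by group
    rw [this]
    exact Subgroup.mul_mem_sup hxg (Subgroup.zpow_mem_zpowers g m)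
  by_cases hcyc : IsCyclic C
  · left
    exact ⟨hHeq, hprime, hcyc, ⟨k, hk1, hCk⟩, hgen, hindex⟩
  · right
    rcases h16 with h | ⟨hp2, n, ⟨e⟩⟩
    · exact absurd h hcyc
    have hCtop : C = ⊤ := by
      rw [hp2] at hindex
      exact Subgroup.index_eq_one.mp (Nat.dvd_one.mp hindex)
    refine ⟨hHeq, hp2, hCtop, n, ?_, ⟨?_⟩⟩
    · by_contra hn
      have hn0 : n = 0 := by omega
      rw [hn0, pow_zero] at e
      haveI := QuaternionGroup.quaternionGroup_one_isCyclic
      exact hcyc (isCyclic_of_surjective e.symm e.symm.surjective)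
    · exact (Subgroup.topEquiv.symm.trans (MulEquiv.subgroupCongr hCtop.symm)).trans e

end Cfsg.Agent.S3025
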