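import Mathlib
import Cfsg.Statements.S3027
import Cfsg.Agent.Lib.Helper5_Sylow

set_option autoImplicit false
open Cfsg

namespace Cfsg.Agent.S3027

open Cfsg.Agent.Lib.Helper5_Sylow
open Subgroup
open scoped Pointwise

universe u

theorem commutator_sup_eq_top {G : Type*} [Group G] (D : Subgroup G) [D.Normal]
    (hperf : ⁅(⊤ : Subgroup G), (⊤ : Subgroup G)⁆ ⊔ D = ⊤) {B₁ B₂ : Subgroup G}
    (h1 : B₁ ⊔ D = ⊤) (h2 : B₂ ⊔ D = ⊤) : ⁅B₁, B₂⁆ ⊔ D = ⊤ := by
  set π := QuotientGroup.mk' D with hπ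
  have hsurj : Function.Surjective π := QuotientGroup.mk'_surjective D
  have hker : π.ker = D := QuotientGroup.ker_mk' D
  have hD : D.map π = ⊥ := (Subgroup.map_eq_bot_iff _).mpr (le_of_eq hker.symm)
  have key : ∀ B : Subgroup G, B ⊔ D = ⊤ → B.map π = ⊤ := by
    intro B hB
    have : (B ⊔ D).map π = ⊤ := by
      rw [hB]; exact Subgroup.map_top_of_surjective π hsurj
    rwa [Subgroup.map_sup, hD, sup_bot_eq] at this
  have hq : ⁅(⊤ : Subgroup (G ⧸ D)), (⊤ : Subgroup (G ⧸ D))⁆ = ⊤ := by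
    have := key _ hperf
    rwa [Subgroup.map_commutator, Subgroup.map_top_of_surjective π hsurj] at this
  have h3 : (⁅B₁, B₂⁆).map π = ⊤ := by
    rw [Subgroup.map_commutator, key B₁ h1, key B₂ h2, hq]
  rw [← hker, ← Subgroup.comap_map_eq, h3, Subgroup.comap_top]

theorem main : ∀ n : ℕ, ∀ (G : Type u) [Group G] [Finite G], Nat.card G = n →
    ∀ (D : Subgroup G) [D.Normal], ⁅(⊤ : Subgroup G), (⊤ : Subgroup G)⁆ ⊔ D = ⊤ →
    ∃ B : Subgroup G, B.Normal ∧ B ⊔ D = ⊤ ∧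
      ∀ B' : Subgroup G, B'.IsSubnormal → B' ⊔ D = ⊤ → B ≤ B' := by
  intro n
  induction n using Nat.strong_induction_on with
  | _ n ih =>
  intro G _ _ hn D _ hperf
  -- the normal supplements
  let NS : Set (Subgroup G) := {B | B.Normal ∧ B ⊔ D = ⊤}
  have htop : (⊤ : Subgroup G) ∈ NS := ⟨inferInstance, top_sup_eq _⟩
  have : Nonempty ↥NS := ⟨⟨⊤, htop⟩⟩
  obtain ⟨⟨B₀, hB₀⟩, hmin⟩ := Finite.exists_min (fun B : ↥NS => Nat.card (B : Subgroup G))
  have hleast : ∀ B ∈ NS, B₀ ≤ B := by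
    intro B hB
    have := hB₀.1
    have := hB.1
    have hinf : B₀ ⊓ B ∈ NS := by
      refine ⟨inferInstance, ?_⟩
      rw [eq_top_iff, ← commutator_sup_eq_top D hperf hB₀.2 hB.2]
      exact sup_le_sup_right (Subgroup.commutator_le_inf B₀ B) D
    have h1 := hmin ⟨B₀ ⊓ B, hinf⟩
    have h2 : B₀ ⊓ B = B₀ := Subgroup.eq_of_le_of_card_ge inf_le_left h1
    rw [← h2]; exact inf_le_right
  refine ⟨B₀, hB₀.1, hB₀.2, ?_⟩
  intro B' hsub hsup
  rcases hsub.lt_normal with rfl | ⟨N, hNn, hBN, hNtop⟩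
  · exact le_top
  have := hNn
  have hND : N ⊔ D = ⊤ := by
    rw [eq_top_iff, ← hsup]; exact sup_le_sup_right hBN D
  have hcard : Nat.card ↥N < n := by
    rw [← hn, ← Subgroup.card_top (G := G)]
    exact card_lt_of_lt hNtop
  set DN := D.subgroupOf N with hDN
  have hperfN : ⁅(⊤ : Subgroup ↥N), (⊤ : Subgroup ↥N)⁆ ⊔ DN = ⊤ := by
    have h := commutator_sup_eq_top D hperf hND hND
    have hmap : (⁅(⊤ : Subgroup ↥N), (⊤ : Subgroup ↥N)⁆).map N.subtype = ⁅N, N⁆ := by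
      rw [Subgroup.map_commutator, ← MonoidHom.range_eq_map, Subgroup.range_subtype]
    rw [eq_top_iff]
    intro x _
    have hx : (x : G) ∈ ((⁅N, N⁆ : Subgroup G) : Set G) * (D : Set G) := by
      rw [← Subgroup.mul_normal, h]; trivial
    obtain ⟨c, hc, d, hd, hcd⟩ := Set.mem_mul.mp hx
    have hc' : c ∈ (⁅(⊤ : Subgroup ↥N), (⊤ : Subgroup ↥N)⁆).map N.subtype := by
      rw [hmap]; exact hc
    obtain ⟨c', hc'mem, rfl⟩ := hc'
    have hdN : d ∈ N := by
      have : d = (c' : G)⁻¹ * x := by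
        rw [← hcd]; simp
      rw [this]
      exact N.mul_mem (N.inv_mem c'.2) x.2
    have hx' : x = c' * ⟨d, hdN⟩ := by
      apply Subtype.ext
      simpa using hcd.symm
    rw [hx']
    exact Subgroup.mul_mem_sup hc'mem (mem_subgroupOf.mpr hd)
  obtain ⟨BN, hBNn, hBNsup, hBNleast⟩ := ih _ hcard ↥N rfl DN hperfN
  -- `B'` in `N`
  have hB'sup : B'.subgroupOf N ⊔ DN = ⊤ := by
    rw [eq_top_iff]
    intro x _
    have hx : (x : G) ∈ (B' : Set G) * (D : Set G) := by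
      rw [← Subgroup.mul_normal, hsup]; trivial
    obtain ⟨b, hb, d, hd, hbd⟩ := Set.mem_mul.mp hx
    have hdN : d ∈ N := by
      have : d = b⁻¹ * x := by
        rw [← hbd]; simp
      rw [this]
      exact N.mul_mem (N.inv_mem (hBN hb)) x.2
    have hx' : x = ⟨b, hBN hb⟩ * ⟨d, hdN⟩ := by
      apply Subtype.ext
      simpa using hbd.symm
    rw [hx']
    exact Subgroup.mul_mem_sup (mem_subgroupOf.mpr hb) (mem_subgroupOf.mpr hd)
  have hle : BN ≤ B'.subgroupOf N := hBNleast _ hsub.subgroupOf hB'sup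
  set B₁ := BN.map N.subtype with hB₁
  have hB₁B' : B₁ ≤ B' := by
    rintro _ ⟨b, hb, rfl⟩
    exact mem_subgroupOf.mp (hle hb)
  have hB₁sup : B₁ ⊔ D = ⊤ := by
    rw [eq_top_iff]
    intro g _
    have hg : g ∈ (N : Set G) * (D : Set G) := by
      rw [← Subgroup.mul_normal, hND]; trivial
    obtain ⟨m, hm, d, hd, rfl⟩ := Set.mem_mul.mp hg
    have hm' : (⟨m, hm⟩ : ↥N) ∈ (BN : Set ↥N) * (DN : Set ↥N) := by
      rw [← Subgroup.mul_normal, hBNsup]; trivial
    obtain ⟨b, hb, d', hd', hbd'⟩ := Set.mem_mul.mp hm'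
    have : m = (b : G) * (d' : G) := by
      have := congrArg Subtype.val hbd'
      simpa using this.symm
    rw [this, mul_assoc]
    exact Subgroup.mul_mem_sup ⟨b, hb, rfl⟩ (D.mul_mem (mem_subgroupOf.mp hd') hd)
  have hB₁n : B₁.Normal := by
    constructor
    rintro _ ⟨b, hb, rfl⟩ g
    set φ : MulAut ↥N := MulAut.conjNormal g⁻¹ with hφ
    have hn' : (BN.map φ.toMonoidHom).Normal :=
      Subgroup.Normal.map hBNn _ φ.surjective
    have hs' : BN.map φ.toMonoidHom ⊔ DN = ⊤ := by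
      rw [eq_top_iff]
      intro y _
      have hy : φ.symm y ∈ (BN : Set ↥N) * (DN : Set ↥N) := by
        rw [← Subgroup.mul_normal, hBNsup]; trivial
      obtain ⟨b₂, hb₂, d₂, hd₂, hbd₂⟩ := Set.mem_mul.mp hy
      have hy' : y = φ b₂ * φ d₂ := by
        rw [← map_mul, hbd₂]; simp
      rw [hy']
      refine Subgroup.mul_mem_sup ⟨b₂, hb₂, rfl⟩ ?_
      rw [hDN, mem_subgroupOf, hφ, MulAut.conjNormal_apply]
      have hD : D.Normal := inferInstance
      exact hD.conj_mem _ (mem_subgroupOf.mp hd₂) _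
    have h3 := hBNleast _ hn'.isSubnormal hs' hb
    obtain ⟨b', hb', hbb'⟩ := h3
    refine ⟨b', hb', ?_⟩
    have h4 : ((φ b' : ↥N) : G) = g⁻¹ * b' * g⁻¹⁻¹ := MulAut.conjNormal_apply g⁻¹ b'
    have h5 : (b : G) = g⁻¹ * b' * g := by
      rw [← hbb']
      simpa using h4
    show (b' : G) = g * (b : G) * g⁻¹
    rw [h5]
    group
  exact (hleast B₁ ⟨hB₁n, hB₁sup⟩).trans hB₁B'

/-- Let G be a finite group and D a normal subgroup of G such that G/D is perfect (that is, G = G′D). Then among the subnormal subgroups B of G with BD = G there is a least one, and it is normal in G. -/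
theorem result {G : Type*} [Group G] [Finite G] (D : Subgroup G) [D.Normal] (hperf : ⁅(⊤ : Subgroup G), (⊤ : Subgroup G)⁆ ⊔ D = ⊤) :
    ∃ B : Subgroup G, B.Normal ∧ B ⊔ D = ⊤ ∧ ∀ B' : Subgroup G, B'.IsSubnormal → B' ⊔ D = ⊤ → B ≤ B' :=
  main _ G rfl D hperf

end Cfsg.Agent.S3027
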