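import Cfsg.Statements.S3036
import Mathlib
import Cfsg.Agent.Lib.Helper5_WC

set_option autoImplicit false
open Cfsg

namespace Cfsg.Agent.S3036

open Cfsg.Agent.Lib.Helper5_WC Subgroup

variable {G : Type*} [Group G]

/-- the Chermak–Delgado measure -/
noncomputable def mu (H : Subgroup G) : ℕ := Nat.card H * Nat.card (centralizer (H : Set G))

theorem card_mul_card_le [Finite G] (H K : Subgroup G) :
    Nat.card H * Nat.card K ≤ Nat.card (H ⊔ K : Subgroup G) * Nat.card (H ⊓ K : Subgroup G) := by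
  have h1 : Nat.card (H ⊓ K : Subgroup G) * H.relIndex K = Nat.card K := by
    have := relIndex_mul_relIndex ⊥ (H ⊓ K) K bot_le inf_le_right
    rwa [relIndex_bot_left, relIndex_bot_left, inf_relIndex_right] at this
  have h2 : Nat.card H * H.relIndex (H ⊔ K) = Nat.card (H ⊔ K : Subgroup G) := by
    have := relIndex_mul_relIndex ⊥ H (H ⊔ K) bot_le le_sup_left
    rwa [relIndex_bot_left, relIndex_bot_left] at this
  have h3 : H.relIndex K ≤ H.relIndex (H ⊔ K) := by
    apply relIndex_le_of_le_right le_sup_right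
    intro h0
    rw [h0, mul_zero] at h2
    exact Nat.card_pos.ne' h2.symm
  calc Nat.card H * Nat.card K = Nat.card H * (Nat.card (H ⊓ K : Subgroup G) * H.relIndex K) := by rw [h1]
    _ ≤ Nat.card H * (Nat.card (H ⊓ K : Subgroup G) * H.relIndex (H ⊔ K)) :=
        Nat.mul_le_mul_left _ (Nat.mul_le_mul_left _ h3)
    _ = Nat.card (H ⊔ K : Subgroup G) * Nat.card (H ⊓ K : Subgroup G) := by rw [← h2]; ring

theorem centralizer_sup (H K : Subgroup G) :
    centralizer ((H ⊔ K : Subgroup G) : Set G) = centralizer (H : Set G) ⊓ centralizer (K : Set G) := by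
  apply le_antisymm
  · exact le_inf (centralizer_le (by exact_mod_cast (le_sup_left : H ≤ H ⊔ K)))
      (centralizer_le (by exact_mod_cast (le_sup_right : K ≤ H ⊔ K)))
  · intro x hx
    rw [mem_inf] at hx
    have h1 : H ≤ centralizer {x} := by
      intro h hh
      rw [mem_centralizer_iff]
      intro y hy
      rw [Set.mem_singleton_iff] at hy
      rw [hy]
      exact (mem_centralizer_iff.mp hx.1 h hh).symm
    have h2 : K ≤ centralizer {x} := by
      intro h hh
      rw [mem_centralizer_iff]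
      intro y hy
      rw [Set.mem_singleton_iff] at hy
      rw [hy]
      exact (mem_centralizer_iff.mp hx.2 h hh).symm
    have h3 : H ⊔ K ≤ centralizer {x} := sup_le h1 h2
    rw [mem_centralizer_iff]
    intro y hy
    have := mem_centralizer_iff.mp (h3 hy) x (Set.mem_singleton x)
    exact this.symm

theorem centralizer_sup_le (H K : Subgroup G) :
    centralizer (H : Set G) ⊔ centralizer (K : Set G) ≤ centralizer ((H ⊓ K : Subgroup G) : Set G) :=
  sup_le (centralizer_le (by exact_mod_cast (inf_le_left : H ⊓ K ≤ H)))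
    (centralizer_le (by exact_mod_cast (inf_le_right : H ⊓ K ≤ K)))

/-- the two basic inequalities -/
theorem cd_ineq [Finite G] (H K : Subgroup G) :
    Nat.card (centralizer (H : Set G)) * Nat.card (centralizer (K : Set G)) ≤
      Nat.card (centralizer ((H ⊔ K : Subgroup G) : Set G)) *
        Nat.card (centralizer ((H ⊓ K : Subgroup G) : Set G)) := by
  have h1 := card_mul_card_le (centralizer (H : Set G)) (centralizer (K : Set G))
  rw [← centralizer_sup] at h1
  have h2 : Nat.card (centralizer (H : Set G) ⊔ centralizer (K : Set G) : Subgroup G) ≤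
      Nat.card (centralizer ((H ⊓ K : Subgroup G) : Set G)) :=
    Nat.le_of_dvd Nat.card_pos (card_dvd_of_le (centralizer_sup_le H K))
  calc _ ≤ _ := h1
    _ = Nat.card (centralizer ((H ⊔ K : Subgroup G) : Set G)) *
        Nat.card (centralizer (H : Set G) ⊔ centralizer (K : Set G) : Subgroup G) := by ring
    _ ≤ _ := Nat.mul_le_mul_left _ h2

theorem mu_pos [Finite G] (H : Subgroup G) : 0 < mu H := Nat.mul_pos Nat.card_pos Nat.card_pos

/-- the lattice property of subgroups of maximal measure -/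
theorem cd_lattice [Finite G] {m : ℕ} (hm : ∀ L : Subgroup G, mu L ≤ m) (H K : Subgroup G)
    (hH : mu H = m) (hK : mu K = m) :
    mu (H ⊔ K) = m ∧ mu (H ⊓ K) = m ∧
      Nat.card (H ⊔ K : Subgroup G) * Nat.card (H ⊓ K : Subgroup G) = Nat.card H * Nat.card K := by
  have hmpos : 0 < m := hH ▸ mu_pos H
  have hX := card_mul_card_le H K
  have hY := cd_ineq H K
  have h1 := hm (H ⊔ K)
  have h2 := hm (H ⊓ K)
  set X := Nat.card (H ⊔ K : Subgroup G) * Nat.card (H ⊓ K : Subgroup G) with hXd
  set X₀ := Nat.card H * Nat.card K with hX₀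
  set Y := Nat.card (centralizer ((H ⊔ K : Subgroup G) : Set G)) *
        Nat.card (centralizer ((H ⊓ K : Subgroup G) : Set G)) with hYd
  set Y₀ := Nat.card (centralizer (H : Set G)) * Nat.card (centralizer (K : Set G)) with hY₀
  have e1 : mu (H ⊔ K) * mu (H ⊓ K) = X * Y := by
    simp only [mu, hXd, hYd]; ring
  have e2 : m * m = X₀ * Y₀ :=
    calc m * m = mu H * mu K := by rw [hH, hK]
      _ = X₀ * Y₀ := by simp only [mu, hX₀, hY₀]; ring
  have hY₀pos : 0 < Y₀ := Nat.mul_pos Nat.card_pos Nat.card_pos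
  have hXpos : 0 < X := Nat.mul_pos Nat.card_pos Nat.card_pos
  have h3 : X * Y ≤ m * m := by
    rw [← e1]; exact Nat.mul_le_mul h1 h2
  have h4 : X₀ * Y₀ ≤ X * Y₀ := Nat.mul_le_mul_right _ hX
  have h5 : X * Y₀ ≤ X * Y := Nat.mul_le_mul_left _ hY
  have h6 : X * Y₀ = X₀ * Y₀ := by omega
  have hXX : X = X₀ := Nat.eq_of_mul_eq_mul_right hY₀pos h6
  have h7 : mu (H ⊔ K) * mu (H ⊓ K) = m * m := by rw [e1]; omega
  refine ⟨?_, ?_, hXX⟩
  · by_contra hne
    have hlt : mu (H ⊔ K) < m := lt_of_le_of_ne h1 hne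
    have : mu (H ⊔ K) * mu (H ⊓ K) < m * m :=
      calc mu (H ⊔ K) * mu (H ⊓ K) ≤ mu (H ⊔ K) * m := Nat.mul_le_mul_left _ h2
        _ < m * m := Nat.mul_lt_mul_of_pos_right hlt hmpos
    omega
  · by_contra hne
    have hlt : mu (H ⊓ K) < m := lt_of_le_of_ne h2 hne
    have : mu (H ⊔ K) * mu (H ⊓ K) < m * m :=
      calc mu (H ⊔ K) * mu (H ⊓ K) ≤ m * mu (H ⊓ K) := Nat.mul_le_mul_right _ h1
        _ < m * m := Nat.mul_lt_mul_of_pos_left hlt hmpos
    omega

/-- conjugation preserves the measure -/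
theorem centralizer_cj (g : G) (H : Subgroup G) :
    centralizer ((cj g H : Subgroup G) : Set G) = cj g (centralizer (H : Set G)) := by
  ext x
  rw [mem_cj, mem_centralizer_iff, mem_centralizer_iff]
  constructor
  · intro hx h hh
    have h1 : g * h * g⁻¹ ∈ cj g H := conj_mem_cj hh
    have h2 := hx _ h1
    calc h * (g⁻¹ * x * g) = g⁻¹ * ((g * h * g⁻¹) * x) * g := by group
      _ = g⁻¹ * (x * (g * h * g⁻¹)) * g := by rw [h2]
      _ = g⁻¹ * x * g * h := by group
  · intro hx y hy
    have h1 : g⁻¹ * y * g ∈ H := mem_cj.mp hy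
    have h2 := hx _ h1
    calc y * x = g * ((g⁻¹ * y * g) * (g⁻¹ * x * g)) * g⁻¹ := by group
      _ = g * ((g⁻¹ * x * g) * (g⁻¹ * y * g)) * g⁻¹ := by rw [h2]
      _ = x * y := by group

theorem card_cj (g : G) (H : Subgroup G) : Nat.card (cj g H) = Nat.card H :=
  card_map_of_injective (MulAut.conj g).injective

theorem mu_cj (g : G) (H : Subgroup G) : mu (cj g H) = mu H := by
  unfold mu
  rw [centralizer_cj, card_cj, card_cj]

theorem mu_centralizer_ge [Finite G] (H : Subgroup G) : mu H ≤ mu (centralizer (H : Set G)) := by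
  unfold mu
  rw [mul_comm]
  apply Nat.mul_le_mul_left
  apply Nat.le_of_dvd Nat.card_pos
  apply card_dvd_of_le
  intro h hh
  rw [mem_centralizer_iff]
  intro y hy
  exact (mem_centralizer_iff.mp hy h hh).symm

/-- if `|G| |B ∩ K| = |B| |K|` then `G = K B` -/
theorem exists_mul_of_card [Finite G] (B K : Subgroup G)
    (h : Nat.card G * Nat.card (B ⊓ K : Subgroup G) = Nat.card B * Nat.card K) (x : G) :
    ∃ k ∈ K, ∃ b ∈ B, x = k * b := by
  classical
  set q0 : G ⧸ B := ((1 : G) : G ⧸ B) with hq0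
  have hstab : MulAction.stabilizer K q0 = B.subgroupOf K := by
    ext k
    rw [MulAction.mem_stabilizer_iff, mem_subgroupOf]
    change ((k : G) • q0 = q0) ↔ _
    rw [hq0, MulAction.Quotient.smul_mk, QuotientGroup.eq]
    simp
  have hcs : Nat.card (MulAction.stabilizer K q0) = Nat.card (B ⊓ K : Subgroup G) := by
    rw [hstab, ← inf_subgroupOf_right]
    exact Nat.card_congr (subgroupOfEquivOfLe (inf_le_right : B ⊓ K ≤ K)).toEquiv
  have ho : Nat.card (MulAction.orbit K q0) * Nat.card (B ⊓ K : Subgroup G) = Nat.card K := by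
    rw [Nat.card_congr (MulAction.orbitEquivQuotientStabilizer K q0), ← hcs]
    exact (card_eq_card_quotient_mul_card_subgroup _).symm
  have hG : Nat.card G = Nat.card (G ⧸ B) * Nat.card B := card_eq_card_quotient_mul_card_subgroup B
  have hpos1 : 0 < Nat.card (B ⊓ K : Subgroup G) := Nat.card_pos
  have hpos2 : 0 < Nat.card B := Nat.card_pos
  have hcard : Nat.card (MulAction.orbit K q0) = Nat.card (G ⧸ B) := by
    have e : Nat.card (G ⧸ B) * (Nat.card B * Nat.card (B ⊓ K : Subgroup G)) =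
        Nat.card (MulAction.orbit K q0) * (Nat.card B * Nat.card (B ⊓ K : Subgroup G)) := by
      calc Nat.card (G ⧸ B) * (Nat.card B * Nat.card (B ⊓ K : Subgroup G))
          = Nat.card G * Nat.card (B ⊓ K : Subgroup G) := by rw [hG]; ring
        _ = Nat.card B * Nat.card K := h
        _ = Nat.card B * (Nat.card (MulAction.orbit K q0) * Nat.card (B ⊓ K : Subgroup G)) := by rw [ho]
        _ = _ := by ring
    exact (Nat.eq_of_mul_eq_mul_right (Nat.mul_pos hpos2 hpos1) e).symm
  have huniv : MulAction.orbit K q0 = Set.univ := by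
    apply Set.eq_of_subset_of_ncard_le (Set.subset_univ _)
    rw [Set.ncard_univ, ← hcard, _root_.Nat.card_coe_set_eq]
  have hx : ((x : G) : G ⧸ B) ∈ MulAction.orbit K q0 := huniv ▸ Set.mem_univ _
  obtain ⟨k, hk⟩ := hx
  change ((k : G) • q0 = (x : G ⧸ B)) at hk
  rw [hq0, MulAction.Quotient.smul_mk, QuotientGroup.eq] at hk
  refine ⟨k, k.2, _, hk, ?_⟩
  simp

/-- Let G be a finite non-abelian simple group and A a proper nontrivial subgroup of G. Then |G| > |A| · |C_G(A)|. In particular |G| > |A|² for every nontrivial abelian subgroup A of G. -/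
theorem result {G : Type*} [Group G] [Finite G] [IsSimpleGroup G] (hG : ¬ IsMulCommutative G) (A : Subgroup G) (hA1 : A ≠ ⊥) (hA2 : A ≠ ⊤) : Nat.card A * Nat.card ↥(Subgroup.centralizer (A : Set G)) < Nat.card G := by
  classical
  by_contra hcon
  push_neg at hcon
  obtain ⟨M0, hM0⟩ : ∃ M0 : Subgroup G, ∀ L, mu L ≤ mu M0 := Finite.exists_max mu
  set m := mu M0 with hmdef
  have hm : ∀ L : Subgroup G, mu L ≤ m := hM0
  -- the least member
  haveI : Nonempty {H : Subgroup G // mu H = m} := ⟨⟨M0, rfl⟩⟩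
  obtain ⟨⟨M, hMm⟩, hMmin⟩ := Finite.exists_min (fun H : {H : Subgroup G // mu H = m} => Nat.card H.1)
  have hMle : ∀ H : Subgroup G, mu H = m → M ≤ H := by
    intro H hH
    obtain ⟨-, h2, -⟩ := cd_lattice hm M H hMm hH
    have h3 : Nat.card M ≤ Nat.card (M ⊓ H : Subgroup G) := hMmin ⟨M ⊓ H, h2⟩
    have h4 : M ⊓ H = M := Subgroup.eq_of_le_of_card_ge inf_le_left h3
    exact inf_eq_left.mp h4
  have hMn : M.Normal := by
    constructor
    intro n hn g
    have h1 := hMle (cj g⁻¹ M) (by rw [mu_cj]; exact hMm) hn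
    have h2 := mem_cj.mp h1
    simpa using h2
  have hMC : M ≤ centralizer (M : Set G) :=
    hMle _ (le_antisymm (hm _) (by rw [← hMm]; exact mu_centralizer_ge M))
  have hMbot : M = ⊥ := by
    rcases hMn.eq_bot_or_eq_top with h | h
    · exact h
    · exfalso
      apply hG
      refine ⟨⟨fun a b => ?_⟩⟩
      have ha : a ∈ M := h ▸ mem_top a
      have hb : b ∈ M := h ▸ mem_top b
      exact (mem_centralizer_iff.mp (hMC hb) a ha)
  have hmG : m = Nat.card G := by
    rw [← hMm, hMbot]
    unfold mu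
    have : centralizer (((⊥ : Subgroup G) : Subgroup G) : Set G) = ⊤ := by
      rw [eq_top_iff]
      intro x _
      rw [mem_centralizer_iff]
      intro y hy
      rw [SetLike.mem_coe, mem_bot] at hy
      rw [hy]; simp
    rw [this, card_bot, card_top, one_mul]
  have hAm : mu A = m := le_antisymm (hm A) (by rw [hmG]; exact hcon)
  haveI : Nonempty {H : Subgroup G // mu H = m ∧ H ≠ ⊥ ∧ H ≠ ⊤} := ⟨⟨A, hAm, hA1, hA2⟩⟩
  obtain ⟨⟨B, hBm, hB1, hB2⟩, hBmax⟩ :=
    Finite.exists_max (fun H : {H : Subgroup G // mu H = m ∧ H ≠ ⊥ ∧ H ≠ ⊤} => Nat.card H.1)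
  have hex : ∃ g : G, ¬ cj g B ≤ B := by
    by_contra hall
    push_neg at hall
    have hBn : B.Normal := ⟨fun n hn g => hall g (conj_mem_cj hn)⟩
    rcases hBn.eq_bot_or_eq_top with h | h
    · exact hB1 h
    · exact hB2 h
  obtain ⟨g, hg⟩ := hex
  have hJ := cd_lattice hm B (cj g B) hBm (by rw [mu_cj]; exact hBm)
  have hJtop : B ⊔ cj g B = ⊤ := by
    by_contra hne
    have hJ1 : B ⊔ cj g B ≠ ⊥ := fun h => hB1 (le_bot_iff.mp (h ▸ le_sup_left))
    have h1 : Nat.card (B ⊔ cj g B : Subgroup G) ≤ Nat.card B := hBmax ⟨_, hJ.1, hJ1, hne⟩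
    have h2 : B = B ⊔ cj g B := Subgroup.eq_of_le_of_card_ge le_sup_left h1
    have h3 : cj g B ≤ B ⊔ cj g B := le_sup_right
    rw [← h2] at h3
    exact hg h3
  have hcount : Nat.card G * Nat.card (B ⊓ cj g B : Subgroup G) = Nat.card B * Nat.card (cj g B) := by
    have := hJ.2.2
    rwa [hJtop, card_top] at this
  obtain ⟨k, hk, b, hb, hgkb⟩ := exists_mul_of_card B (cj g B) hcount g
  have hk' := mem_cj.mp hk
  have hgB : g ∈ B := by
    have e : g = b * (g⁻¹ * k * g) := by
      have : k = g * b⁻¹ := by rw [hgkb]; group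
      rw [this]; group
    rw [e]
    exact B.mul_mem hb hk'
  exact hg (by rw [cj_eq_of_mem_normalizer (le_normalizer hgB)])

end Cfsg.Agent.S3036
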