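import Mathlib
import Cfsg.Statements.S3037
import Cfsg.Agent.Lib.Helper5_CD
import Cfsg.Agent.Lib.Helper5_Sylow
import Cfsg.Agent.Lib.Helper5_CharP

set_option autoImplicit false
open Cfsg

namespace Cfsg.Agent.S3037

open Cfsg.Agent.Lib.Helper5_CD Cfsg.Agent.Lib.Helper5_Sylow
open Subgroup

variable {X : Type*} [Group X] [Finite X]

/-- the measure with real exponent -/
noncomputable def fm (V : Subgroup X) (α : ℝ) (B : Subgroup X) : ℝ :=
  (Nat.card B : ℝ) ^ α * (Nat.card ↥(V ⊓ centralizer (B : Set X)) : ℝ)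

theorem fm_pos (V : Subgroup X) (α : ℝ) (B : Subgroup X) : 0 < fm V α B := by
  unfold fm
  apply mul_pos
  · apply Real.rpow_pos_of_pos
    exact_mod_cast Nat.card_pos
  · exact_mod_cast Nat.card_pos

theorem fm_mul_le (V : Subgroup X) (α : ℝ) (hα : 0 < α) (B₁ B₂ : Subgroup X) :
    fm V α B₁ * fm V α B₂ ≤ fm V α (B₁ ⊔ B₂) * fm V α (B₁ ⊓ B₂) := by
  have I1 := card_mul_card_le B₁ B₂
  have I2 := card_mul_card_le (V ⊓ centralizer (B₁ : Set X)) (V ⊓ centralizer (B₂ : Set X))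
  have hsup : (V ⊓ centralizer (B₁ : Set X)) ⊔ (V ⊓ centralizer (B₂ : Set X)) ≤
      V ⊓ centralizer ((B₁ ⊓ B₂ : Subgroup X) : Set X) :=
    sup_le (inf_le_inf_left _ (centralizer_le (fun _ h => h.1)))
      (inf_le_inf_left _ (centralizer_le (fun _ h => h.2)))
  have hinf : (V ⊓ centralizer (B₁ : Set X)) ⊓ (V ⊓ centralizer (B₂ : Set X)) =
      V ⊓ centralizer ((B₁ ⊔ B₂ : Subgroup X) : Set X) := by
    rw [centralizer_sup]
    ext x
    simp only [mem_inf]
    tauto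
  rw [hinf] at I2
  have I3 : Nat.card ↥((V ⊓ centralizer (B₁ : Set X)) ⊔ (V ⊓ centralizer (B₂ : Set X))) ≤
      Nat.card ↥(V ⊓ centralizer ((B₁ ⊓ B₂ : Subgroup X) : Set X)) := Subgroup.card_le_of_le hsup
  have I4 : Nat.card ↥(V ⊓ centralizer (B₁ : Set X)) * Nat.card ↥(V ⊓ centralizer (B₂ : Set X)) ≤
      Nat.card ↥(V ⊓ centralizer ((B₁ ⊓ B₂ : Subgroup X) : Set X)) *
        Nat.card ↥(V ⊓ centralizer ((B₁ ⊔ B₂ : Subgroup X) : Set X)) :=
    I2.trans (Nat.mul_le_mul_right _ I3)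
  have J1 : (Nat.card B₁ : ℝ) * (Nat.card B₂ : ℝ) ≤
      (Nat.card ↥(B₁ ⊔ B₂) : ℝ) * (Nat.card ↥(B₁ ⊓ B₂) : ℝ) := by exact_mod_cast I1
  have J4 : (Nat.card ↥(V ⊓ centralizer (B₁ : Set X)) : ℝ) * (Nat.card ↥(V ⊓ centralizer (B₂ : Set X)) : ℝ) ≤
      (Nat.card ↥(V ⊓ centralizer ((B₁ ⊓ B₂ : Subgroup X) : Set X)) : ℝ) *
        (Nat.card ↥(V ⊓ centralizer ((B₁ ⊔ B₂ : Subgroup X) : Set X)) : ℝ) := by exact_mod_cast I4
  unfold fm
  set a₁ : ℝ := (Nat.card B₁ : ℝ)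
  set a₂ : ℝ := (Nat.card B₂ : ℝ)
  set s : ℝ := (Nat.card ↥(B₁ ⊔ B₂) : ℝ)
  set i : ℝ := (Nat.card ↥(B₁ ⊓ B₂) : ℝ)
  set c₁ : ℝ := (Nat.card ↥(V ⊓ centralizer (B₁ : Set X)) : ℝ)
  set c₂ : ℝ := (Nat.card ↥(V ⊓ centralizer (B₂ : Set X)) : ℝ)
  set cs : ℝ := (Nat.card ↥(V ⊓ centralizer ((B₁ ⊔ B₂ : Subgroup X) : Set X)) : ℝ)
  set ci : ℝ := (Nat.card ↥(V ⊓ centralizer ((B₁ ⊓ B₂ : Subgroup X) : Set X)) : ℝ)
  have ha₁ : 0 ≤ a₁ := Nat.cast_nonneg _
  have ha₂ : 0 ≤ a₂ := Nat.cast_nonneg _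
  have hs : 0 ≤ s := Nat.cast_nonneg _
  have hi : 0 ≤ i := Nat.cast_nonneg _
  have hc₁ : 0 ≤ c₁ := Nat.cast_nonneg _
  have hc₂ : 0 ≤ c₂ := Nat.cast_nonneg _
  have J1' : (a₁ * a₂) ^ α ≤ (s * i) ^ α :=
    Real.rpow_le_rpow (mul_nonneg ha₁ ha₂) J1 hα.le
  rw [Real.mul_rpow ha₁ ha₂, Real.mul_rpow hs hi] at J1'
  have hpos : 0 ≤ s ^ α * i ^ α := mul_nonneg (Real.rpow_nonneg hs _) (Real.rpow_nonneg hi _)
  calc a₁ ^ α * c₁ * (a₂ ^ α * c₂) = (a₁ ^ α * a₂ ^ α) * (c₁ * c₂) := by ring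
    _ ≤ (s ^ α * i ^ α) * (ci * cs) :=
        mul_le_mul J1' J4 (mul_nonneg hc₁ hc₂) hpos
    _ = s ^ α * cs * (i ^ α * ci) := by ring

theorem fm_conj (V : Subgroup X) (α : ℝ) (B : Subgroup X) (g : X)
    (hg : g ∈ normalizer (V : Set X)) :
    fm V α (B.map (MulAut.conj g).toMonoidHom) = fm V α B := by
  unfold fm
  rw [card_map_conj]
  congr 2
  have : V ⊓ centralizer ((B.map (MulAut.conj g).toMonoidHom : Subgroup X) : Set X) =
      (V ⊓ centralizer (B : Set X)).map (MulAut.conj g).toMonoidHom := by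
    ext x
    rw [mem_inf, mem_map]
    constructor
    · rintro ⟨hxV, hxC⟩
      refine ⟨g⁻¹ * x * g, mem_inf.mpr ⟨?_, ?_⟩, ?_⟩
      · exact (mem_normalizer_iff''.mp hg x).mp hxV
      · rw [mem_centralizer_iff]
        intro b hb
        have h1 := mem_centralizer_iff.mp hxC (g * b * g⁻¹) ⟨b, hb, rfl⟩
        calc b * (g⁻¹ * x * g) = g⁻¹ * ((g * b * g⁻¹) * x) * g := by group
          _ = g⁻¹ * (x * (g * b * g⁻¹)) * g := by rw [h1]
          _ = g⁻¹ * x * g * b := by group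
      · simp [MulAut.conj_apply, mul_assoc]
    · rintro ⟨y, hy, rfl⟩
      obtain ⟨hyV, hyC⟩ := mem_inf.mp hy
      refine ⟨?_, ?_⟩
      · simp only [MulEquiv.coe_toMonoidHom, MulAut.conj_apply]
        exact (mem_normalizer_iff.mp hg y).mp hyV
      · rw [mem_centralizer_iff]
        rintro _ ⟨b, hb, rfl⟩
        have h1 := mem_centralizer_iff.mp hyC b hb
        simp only [MulEquiv.coe_toMonoidHom, MulAut.conj_apply]
        calc g * b * g⁻¹ * (g * y * g⁻¹) = g * (b * y) * g⁻¹ := by group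
          _ = g * (y * b) * g⁻¹ := by rw [h1]
          _ = g * y * g⁻¹ * (g * b * g⁻¹) := by group
  rw [this, card_map_conj]

/-- Let V and G be subgroups of a finite group with V an elementary abelian p-group (p prime) on which G acts faithfully and irreducibly by conjugation: G normalizes V, G ∩ C(V) = 1, and the only subgroups of V normalized by G are 1 and V. If for some nontrivial subgroup A of G and some real α > 0 one has |V| ≤ |A|^α · |C_V(A)|, then |V| ≤ |G|^α. -/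
theorem result {X : Type*} [Group X] [Finite X] {p : ℕ} [Fact p.Prime] (V G : Subgroup X) (hV : Cfsg.IsElementaryAbelian p V)
    (hGV : G ≤ Subgroup.normalizer (V : Set X)) (hfaith : G ⊓ Subgroup.centralizer (V : Set X) = ⊥)
    (hirr : ∀ W : Subgroup X, W ≤ V → G ≤ Subgroup.normalizer (W : Set X) → W = ⊥ ∨ W = V)
    (A : Subgroup X) (hA : A ≤ G) (hA1 : A ≠ ⊥) (α : ℝ) (hα : 0 < α)
    (hbig : (Nat.card V : ℝ) ≤ (Nat.card A : ℝ) ^ α * (Nat.card ↥(V ⊓ Subgroup.centralizer (A : Set X)) : ℝ)) :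
    (Nat.card V : ℝ) ≤ (Nat.card G : ℝ) ^ α := by
  have hne : Nonempty {B : Subgroup X // B ≤ G} := ⟨⟨⊥, bot_le⟩⟩
  obtain ⟨B₀, hB₀⟩ := Finite.exists_max (fun B : {B : Subgroup X // B ≤ G} => fm V α B.1)
  set m := fm V α B₀.1 with hm
  have hne2 : Nonempty {B : Subgroup X // B ≤ G ∧ fm V α B = m} := ⟨⟨B₀.1, B₀.2, rfl⟩⟩
  obtain ⟨A₁, hA₁⟩ :=
    Finite.exists_max (fun B : {B : Subgroup X // B ≤ G ∧ fm V α B = m} => Nat.card B.1)
  set As : Subgroup X := A₁.1 with hAs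
  have hAsG : As ≤ G := A₁.2.1
  have hAsm : fm V α As = m := A₁.2.2
  have hmax : ∀ B : Subgroup X, B ≤ G → fm V α B ≤ m := fun B hB => hB₀ ⟨B, hB⟩
  have hcardmax : ∀ B : Subgroup X, B ≤ G → fm V α B = m → Nat.card B ≤ Nat.card As :=
    fun B hB hBm => hA₁ ⟨B, hB, hBm⟩
  have hmpos : 0 < m := fm_pos V α _
  -- As is normalized by G
  have hconj : ∀ g ∈ G, As.map (MulAut.conj g).toMonoidHom ≤ As := by
    intro g hg
    set B := As.map (MulAut.conj g).toMonoidHom with hB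
    have hBG : B ≤ G := by
      rintro _ ⟨a, ha, rfl⟩
      simp only [MulEquiv.coe_toMonoidHom, MulAut.conj_apply]
      exact G.mul_mem (G.mul_mem hg (hAsG ha)) (G.inv_mem hg)
    have hBm : fm V α B = m := by rw [hB, fm_conj V α As g (hGV hg), hAsm]
    have h1 := fm_mul_le V α hα As B
    rw [hAsm, hBm] at h1
    have h2 := hmax (As ⊔ B) (sup_le hAsG hBG)
    have h3 := hmax (As ⊓ B) (inf_le_left.trans hAsG)
    have h4 : fm V α (As ⊔ B) = m := by
      by_contra hne'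
      have hlt : fm V α (As ⊔ B) < m := lt_of_le_of_ne h2 hne'
      have : fm V α (As ⊔ B) * fm V α (As ⊓ B) < m * m := by
        calc fm V α (As ⊔ B) * fm V α (As ⊓ B) ≤ fm V α (As ⊔ B) * m :=
              mul_le_mul_of_nonneg_left h3 (fm_pos V α _).le
          _ < m * m := mul_lt_mul_of_pos_right hlt hmpos
      linarith
    have h5 := hcardmax (As ⊔ B) (sup_le hAsG hBG) h4
    have h6 : As = As ⊔ B := Subgroup.eq_of_le_of_card_ge le_sup_left h5
    rw [h6]; exact le_sup_right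
  have hcard_bot : Nat.card (⊥ : Subgroup X) = 1 := Subgroup.card_bot
  -- As ≠ ⊥
  have hAsne : As ≠ ⊥ := by
    intro hbot
    have hm1 : m = (Nat.card V : ℝ) := by
      rw [← hAsm, hbot]
      unfold fm
      have : V ⊓ centralizer (((⊥ : Subgroup X) : Subgroup X) : Set X) = V := by
        rw [inf_eq_left]
        intro x _
        rw [mem_centralizer_iff]
        intro y hy
        have : y = 1 := hy
        rw [this]; simp
      rw [this, hcard_bot]
      simp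
    have hfA : fm V α A = m := le_antisymm (hmax A hA) (by rw [hm1]; exact hbig)
    have h1 := hcardmax A hA hfA
    rw [hbot, hcard_bot] at h1
    have h2 : 1 < Nat.card A := (Subgroup.one_lt_card_iff_ne_bot A).mpr hA1
    omega
  -- W = C_V(As) is G-invariant
  have hWconj : ∀ g ∈ G, ∀ w ∈ V ⊓ centralizer (As : Set X),
      g * w * g⁻¹ ∈ V ⊓ centralizer (As : Set X) := by
    intro g hg w hw
    refine mem_inf.mpr ⟨(mem_normalizer_iff.mp (hGV hg) w).mp hw.1, ?_⟩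
    rw [mem_centralizer_iff]
    intro a ha
    have h1 : g⁻¹ * a * g ∈ As := by
      have := hconj g⁻¹ (G.inv_mem hg) ⟨a, ha, rfl⟩
      simpa [MulAut.conj_apply] using this
    have h2 : (g⁻¹ * a * g) * w = w * (g⁻¹ * a * g) := mem_centralizer_iff.mp hw.2 _ h1
    calc a * (g * w * g⁻¹) = g * ((g⁻¹ * a * g) * w) * g⁻¹ := by group
      _ = g * (w * (g⁻¹ * a * g)) * g⁻¹ := by rw [h2]
      _ = g * w * g⁻¹ * a := by group
  have hWn : G ≤ normalizer ((V ⊓ centralizer (As : Set X) : Subgroup X) : Set X) := by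
    intro g hg
    apply Cfsg.Agent.Lib.Helper5_CharP.mem_normalizer_of_forall_conj_mem
    · exact hWconj g hg
    · intro w hw
      have := hWconj g⁻¹ (G.inv_mem hg) w hw
      simpa using this
  rcases hirr _ inf_le_left hWn with hW | hW
  · have hm2 : m = (Nat.card As : ℝ) ^ α := by
      rw [← hAsm]
      unfold fm
      rw [hW, hcard_bot]
      simp
    have hfA : fm V α A ≤ m := hmax A hA
    calc (Nat.card V : ℝ) ≤ fm V α A := hbig
      _ ≤ m := hfA
      _ = (Nat.card As : ℝ) ^ α := hm2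
      _ ≤ (Nat.card G : ℝ) ^ α := by
          apply Real.rpow_le_rpow (Nat.cast_nonneg _) _ hα.le
          exact_mod_cast Subgroup.card_le_of_le hAsG
  · exfalso
    have h1 : V ≤ centralizer (As : Set X) := by
      have := inf_eq_left.mp hW
      exact this
    have h2 : As ≤ centralizer (V : Set X) := le_centralizer_iff.mp h1
    apply hAsne
    rw [eq_bot_iff, ← hfaith]
    exact le_inf hAsG h2

end Cfsg.Agent.S3037
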