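import Cfsg.Statements.S3053
import Mathlib
import Cfsg.Agent.Lib.Lead_Coprime
import Cfsg.Agent.Lib.Helper3_Conj
import Cfsg.Agent.Lib.Helper3_SylowRel
import Cfsg.Agent.Lib.Helper3_ExtraP3

set_option autoImplicit false
open Cfsg

namespace Cfsg.Agent.S3053

open Cfsg.Agent.Lib Cfsg.Agent.Lib.Helper3_ExtraP3 Cfsg.Agent.Lib.Helper3_Conj
open scoped commutatorElement

/-- the facts about an extraspecial Sylow subgroup of order `p ^ 3` and exponent `p ^ 2`
in terms of subgroups of the ambient group. -/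
structure Setup {G : Type*} [Group G] (p : ℕ) (P Z E : Subgroup G) : Prop where
  ZE : Z ≤ E
  EP : E ≤ P
  pow_mem : ∀ x ∈ P, x ^ p ∈ Z
  mem_E : ∀ x ∈ P, (x ∈ E ↔ x ^ p = 1)
  comm_mem : ∀ x ∈ P, ∀ y ∈ P, x * y * x⁻¹ * y⁻¹ ∈ Z
  central : ∀ c ∈ Z, ∀ x ∈ P, c * x = x * c
  mem_Z : ∀ x ∈ P, (∀ y ∈ P, x * y = y * x) → x ∈ Z
  E_comm : ∀ a ∈ E, ∀ b ∈ E, a * b = b * a
  cardZ : Nat.card Z = p
  cardE : Nat.card E = p ^ 2
  mul_pow : ∀ x ∈ P, ∀ y ∈ P, (x * y) ^ p = x ^ p * y ^ p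
  conj : ∀ y ∈ E, y ∉ Z → ∀ c ∈ Z, ∃ a ∈ P, a * y * a⁻¹ = y * c

theorem setup_of {G : Type*} [Group G] [Finite G] {p : ℕ} [Fact p.Prime] (hp2 : p ≠ 2)
    (P : Subgroup G) (hE : Cfsg.IsExtraspecial p ↥P) (hcard : Nat.card P = p ^ 3)
    (hexp : Monoid.exponent ↥P = p ^ 2) :
    Setup p P ((Subgroup.center ↥P).map P.subtype) ((Om hE hp2).map P.subtype) where
  ZE := Subgroup.map_mono (center_le_Om hE hp2)
  EP := Subgroup.map_subtype_le _
  pow_mem x hx := ⟨⟨x, hx⟩ ^ p, pow_mem_center hE _, rfl⟩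
  mem_E x hx := by
    have : x = P.subtype ⟨x, hx⟩ := rfl
    rw [this, Subgroup.mem_map_iff_mem P.subtype_injective, mem_Om]
    constructor
    · intro h; exact congrArg Subtype.val h
    · intro h; exact Subtype.ext h
  comm_mem x hx y hy := by
    refine ⟨⁅(⟨x, hx⟩ : P), ⟨y, hy⟩⁆, comm_mem_center hE _ _, ?_⟩
    rw [commutatorElement_def]; rfl
  central c hc x hx := by
    obtain ⟨c', hc', rfl⟩ := hc
    have := Subgroup.mem_center_iff.mp hc' ⟨x, hx⟩
    exact (congrArg Subtype.val this).symm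
  mem_Z x hx h := by
    refine ⟨⟨x, hx⟩, Subgroup.mem_center_iff.mpr ?_, rfl⟩
    intro y
    exact Subtype.ext (h y y.2).symm
  E_comm a ha b hb := by
    obtain ⟨a', ha', rfl⟩ := ha
    obtain ⟨b', hb', rfl⟩ := hb
    exact congrArg Subtype.val (Om_comm hE hp2 hcard hexp a' ha' b' hb')
  cardZ := by rw [Subgroup.card_map_of_injective P.subtype_injective]; exact hE.2
  cardE := by
    rw [Subgroup.card_map_of_injective P.subtype_injective]; exact card_Om hE hp2 hcard hexp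
  mul_pow x hx y hy := congrArg Subtype.val (mul_pow_p hE hp2 (⟨x, hx⟩ : P) ⟨y, hy⟩)
  conj y hy hyZ c hc := by
    obtain ⟨y', hy', rfl⟩ := hy
    obtain ⟨c', hc', rfl⟩ := hc
    have hy'Z : y' ∉ Subgroup.center ↥P := fun h => hyZ ⟨y', h, rfl⟩
    obtain ⟨a, ha⟩ := exists_conj hE hy'Z hc'
    exact ⟨a, a.2, congrArg Subtype.val ha⟩

theorem conj_pow_inv {G : Type*} [Group G] (a e : G) (n : ℕ) :
    (a⁻¹ * e * a) ^ n = a⁻¹ * e ^ n * a := by
  have := conj_pow (a := a⁻¹) (b := e) (i := n)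
  rwa [inv_inv] at this

section fusion

variable {G : Type*} [Group G] [Finite G] {p : ℕ} [Fact p.Prime]

theorem Z_gen {Z : Subgroup G} (hZ : Nat.card Z = p) {c : G} (hc : c ∈ Z) (hc1 : c ≠ 1)
    {d : G} (hd : d ∈ Z) : ∃ i : ℤ, d = c ^ i := by
  have hne : (⟨c, hc⟩ : Z) ≠ 1 := fun h => hc1 (congrArg Subtype.val h)
  have htop := zpowers_eq_top_of_prime_card hZ hne
  have hmem : (⟨d, hd⟩ : Z) ∈ Subgroup.zpowers (⟨c, hc⟩ : Z) := by
    rw [htop]; exact Subgroup.mem_top _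
  obtain ⟨i, hi⟩ := Subgroup.mem_zpowers_iff.mp hmem
  refine ⟨i, ?_⟩
  have := congrArg Subtype.val hi
  simpa using this.symm

theorem eq_one_of_sq_of_pow (hp2 : p ≠ 2) {c : G} (h2 : c * c = 1) (hp : c ^ p = 1) : c = 1 := by
  have h2' : c ^ 2 = 1 := by rw [pow_two]; exact h2
  have d2 := orderOf_dvd_of_pow_eq_one h2'
  have dp := orderOf_dvd_of_pow_eq_one hp
  have hcop : Nat.Coprime 2 p := by
    rw [Nat.coprime_primes Nat.prime_two (Fact.out : p.Prime)]; exact fun h => hp2 h.symm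
  have : orderOf c ∣ 1 := hcop ▸ Nat.dvd_gcd d2 dp
  exact orderOf_eq_one_iff.mp (Nat.dvd_one.mp this)

theorem P_le_normalizer {P Z E : Subgroup G} (S : Setup p P Z E) :
    P ≤ Subgroup.normalizer (E : Set G) := by
  intro x hx
  refine Lead_Coprime.mem_normalizer_of_conj_mem ?_ ?_
  · intro e he
    have heP := S.EP he
    rw [S.mem_E _ (P.mul_mem (P.mul_mem hx heP) (P.inv_mem hx)), conj_pow,
      (S.mem_E e heP).mp he]
    group
  · intro e he
    have heP := S.EP he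
    rw [S.mem_E _ (P.mul_mem (P.mul_mem (P.inv_mem hx) heP) hx), conj_pow_inv,
      (S.mem_E e heP).mp he]
    group

/-- the main fusion argument. -/
theorem no_fusion (hp2 : p ≠ 2) (P : Sylow p G) (Z E : Subgroup G)
    (S : Setup p (P : Subgroup G) Z E) (z : G) (hz : z ∈ Z) (g : G)
    (hgz : g * z * g⁻¹ ∈ (P : Subgroup G)) : g * z * g⁻¹ ∈ Z := by
  have hp := (Fact.out : p.Prime)
  by_contra hnot
  set z' := g * z * g⁻¹ with hz'def
  have hzE : z ∈ E := S.ZE hz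
  have hzP : z ∈ (P : Subgroup G) := S.EP hzE
  have hz1 : z ≠ 1 := by
    intro h
    apply hnot
    rw [hz'def, h]
    simp
  have hzp : z ^ p = 1 := (S.mem_E z hzP).mp hzE
  have hz'p : z' ^ p = 1 := by rw [hz'def, conj_pow, hzp]; group
  have hz'E : z' ∈ E := (S.mem_E z' hgz).mpr hz'p
  have hEp : IsPGroup p E := P.isPGroup'.to_le S.EP
  have hNE := P_le_normalizer S
  -- (C) the Sylow step
  obtain ⟨k, hkz, hkE⟩ : ∃ k : G, k * z * k⁻¹ = z' ∧ ∀ e ∈ E, k⁻¹ * e * k ∈ E := by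
    let CZ : Subgroup G := Subgroup.centralizer ({z'} : Set G)
    have hR_le : ((g • P : Sylow p G) : Subgroup G) ≤ CZ := by
      intro x hx
      rw [mem_smul_sylow_iff'] at hx
      rw [Subgroup.mem_centralizer_iff]
      intro h hh
      rw [Set.mem_singleton_iff] at hh
      subst hh
      have := S.central z hz _ hx
      rw [hz'def]
      calc g * z * g⁻¹ * x = g * (z * (g⁻¹ * x * g)) * g⁻¹ := by group
        _ = g * ((g⁻¹ * x * g) * z) * g⁻¹ := by rw [this]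
        _ = x * (g * z * g⁻¹) := by group
    have hRi : ¬ p ∣ ((g • P : Sylow p G) : Subgroup G).relIndex CZ := fun h =>
      (g • P).not_dvd_index (dvd_trans h (Subgroup.relIndex_dvd_index_of_le hR_le))
    have hE_le : E ≤ CZ := by
      intro e he
      rw [Subgroup.mem_centralizer_iff]
      intro h hh
      rw [Set.mem_singleton_iff] at hh
      subst hh
      exact S.E_comm _ hz'E _ he
    obtain ⟨n, hn, hnE⟩ := Helper3_SylowRel.exists_conj_le_of_relIndex CZ _ E hR_le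
      (g • P).isPGroup' hRi hE_le hEp
    have hnz : z' * n = n * z' :=
      Subgroup.mem_centralizer_iff.mp hn z' (Set.mem_singleton _)
    refine ⟨n⁻¹ * g, ?_, ?_⟩
    · calc n⁻¹ * g * z * (n⁻¹ * g)⁻¹ = n⁻¹ * (g * z * g⁻¹) * n := by group
        _ = n⁻¹ * (z' * n) := by rw [← hz'def]; group
        _ = z' := by rw [hnz]; group
    · intro e he
      have h1 := hnE e he
      rw [mem_smul_sylow_iff'] at h1
      have e1 : (n⁻¹ * g)⁻¹ * e * (n⁻¹ * g) = g⁻¹ * (n * e * n⁻¹) * g := by group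
      rw [e1, S.mem_E _ h1, conj_pow_inv, conj_pow, (S.mem_E e (S.EP he)).mp he]
      group
  -- (D) k normalizes E
  have hkE' : ∀ e ∈ E, k * e * k⁻¹ ∈ E := by
    let f : E → E := fun e => ⟨k⁻¹ * e * k, hkE e e.2⟩
    have hf : Function.Injective f := by
      intro a b hab
      have h1 : k⁻¹ * (a : G) * k = k⁻¹ * (b : G) * k := congrArg Subtype.val hab
      apply Subtype.ext
      have h2 : (a : G) = k * (k⁻¹ * (a : G) * k) * k⁻¹ := by group
      rw [h2, h1]; group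
    have hs := Finite.injective_iff_surjective.mp hf
    intro e he
    obtain ⟨e', he'⟩ := hs ⟨e, he⟩
    have h1 : k⁻¹ * (e' : G) * k = e := congrArg Subtype.val he'
    have : k * e * k⁻¹ = e' := by rw [← h1]; group
    rw [this]; exact e'.2
  have hkN : k ∈ Subgroup.normalizer (E : Set G) :=
    Lead_Coprime.mem_normalizer_of_conj_mem hkE' hkE
  -- (E) z''
  set z'' := k⁻¹ * z * k with hz''def
  have hz''E : z'' ∈ E := hkE z hzE
  have hz''Z : z'' ∉ Z := by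
    intro h
    have h1 : z'' ≠ 1 := by
      intro h1
      apply hz1
      have : z = k * z'' * k⁻¹ := by rw [hz''def]; group
      rw [this, h1]; group
    obtain ⟨i, hi⟩ := Z_gen S.cardZ h h1 hz
    apply hnot
    have : z' = z ^ i := by
      rw [← hkz]
      conv_lhs => rw [hi]
      rw [← conj_zpow]
      congr 1
      rw [hz''def]; group
    rw [this]
    exact Z.zpow_mem hz i
  -- (F) the elements a, b
  obtain ⟨a, haP, ha⟩ := S.conj z' hz'E hnot z hz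
  have haz : a * z * a⁻¹ = z := by
    have := S.central z hz a haP
    rw [← this]; group
  obtain ⟨a', ha'P, ha'⟩ := S.conj z'' hz''E hz''Z z⁻¹ (Z.inv_mem hz)
  have ha'z : a' * z * a'⁻¹ = z := by
    have := S.central z hz a' ha'P
    rw [← this]; group
  set b := k * a' * k⁻¹ with hbdef
  have hbz : b * z * b⁻¹ = z * z'⁻¹ := by
    calc b * z * b⁻¹ = k * (a' * (k⁻¹ * z * k) * a'⁻¹) * k⁻¹ := by rw [hbdef]; group
      _ = k * (z'' * z⁻¹) * k⁻¹ := by rw [← hz''def, ha']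
      _ = (k * z'' * k⁻¹) * (k * z * k⁻¹)⁻¹ := by group
      _ = z * z'⁻¹ := by
        rw [hkz]
        congr 1
        rw [hz''def]; group
  have hbz' : b * z' * b⁻¹ = z' := by
    calc b * z' * b⁻¹ = k * (a' * (k⁻¹ * z' * k) * a'⁻¹) * k⁻¹ := by rw [hbdef]; group
      _ = k * (a' * z * a'⁻¹) * k⁻¹ := by
        have : k⁻¹ * z' * k = z := by rw [← hkz]; group
        rw [this]
      _ = z' := by rw [ha'z, hkz]
  have hzz' : z * z' = z' * z := S.E_comm z hzE z' hz'E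
  set w := a * b * a with hwdef
  have hwz : w * z * w⁻¹ = z'⁻¹ := by
    calc w * z * w⁻¹ = a * (b * (a * z * a⁻¹) * b⁻¹) * a⁻¹ := by rw [hwdef]; group
      _ = a * (z * z'⁻¹) * a⁻¹ := by rw [haz, hbz]
      _ = (a * z * a⁻¹) * (a * z' * a⁻¹)⁻¹ := by group
      _ = z * (z' * z)⁻¹ := by rw [haz, ha]
      _ = z'⁻¹ := by group
  have hwz' : w * z' * w⁻¹ = z := by
    calc w * z' * w⁻¹ = a * (b * (a * z' * a⁻¹) * b⁻¹) * a⁻¹ := by rw [hwdef]; group
      _ = a * (b * (z' * z) * b⁻¹) * a⁻¹ := by rw [ha]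
      _ = a * ((b * z' * b⁻¹) * (b * z * b⁻¹)) * a⁻¹ := by group
      _ = a * (z' * (z * z'⁻¹)) * a⁻¹ := by rw [hbz', hbz]
      _ = a * z * a⁻¹ := by
        congr 2
        rw [← mul_assoc, ← hzz']; group
      _ = z := haz
  set g₀ := w * w with hg₀def
  have hg₀z : g₀ * z * g₀⁻¹ = z⁻¹ := by
    calc g₀ * z * g₀⁻¹ = w * (w * z * w⁻¹) * w⁻¹ := by rw [hg₀def]; group
      _ = (w * z' * w⁻¹)⁻¹ := by rw [hwz]; group
      _ = z⁻¹ := by rw [hwz']
  have hg₀z' : g₀ * z' * g₀⁻¹ = z'⁻¹ := by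
    calc g₀ * z' * g₀⁻¹ = w * (w * z' * w⁻¹) * w⁻¹ := by rw [hg₀def]; group
      _ = z'⁻¹ := by rw [hwz', hwz]
  have hbN : b ∈ Subgroup.normalizer (E : Set G) :=
    Subgroup.mul_mem _ (Subgroup.mul_mem _ hkN (hNE ha'P)) (Subgroup.inv_mem _ hkN)
  have hwN : w ∈ Subgroup.normalizer (E : Set G) :=
    Subgroup.mul_mem _ (Subgroup.mul_mem _ (hNE haP) hbN) (hNE haP)
  have hg₀N : g₀ ∈ Subgroup.normalizer (E : Set G) := Subgroup.mul_mem _ hwN hwN
  -- (G) g₀ inverts E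
  have hg₀Z : ∀ c ∈ Z, g₀ * c * g₀⁻¹ = c⁻¹ := by
    intro c hc
    obtain ⟨i, rfl⟩ := Z_gen S.cardZ hz hz1 hc
    rw [← conj_zpow, hg₀z, inv_zpow]
  have hg₀E : ∀ e ∈ E, g₀ * e * g₀⁻¹ = e⁻¹ := by
    let I : Subgroup G :=
      { carrier := {e | e ∈ E ∧ g₀ * e * g₀⁻¹ = e⁻¹}
        one_mem' := ⟨E.one_mem, by simp⟩
        mul_mem' := by
          rintro x y ⟨hx, hx'⟩ ⟨hy, hy'⟩
          refine ⟨E.mul_mem hx hy, ?_⟩
          have : g₀ * (x * y) * g₀⁻¹ = (g₀ * x * g₀⁻¹) * (g₀ * y * g₀⁻¹) := by group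
          rw [this, hx', hy', mul_inv_rev]
          exact S.E_comm _ (E.inv_mem hx) _ (E.inv_mem hy)
        inv_mem' := by
          rintro x ⟨hx, hx'⟩
          refine ⟨E.inv_mem hx, ?_⟩
          have : g₀ * x⁻¹ * g₀⁻¹ = (g₀ * x * g₀⁻¹)⁻¹ := by group
          rw [this, hx'] }
    have hIE : I ≤ E := fun e he => he.1
    have hZI : Z ≤ I := fun c hc => ⟨S.ZE hc, hg₀Z c hc⟩
    have hz'I : z' ∈ I := ⟨hz'E, hg₀z'⟩
    have hd := Subgroup.card_dvd_of_le hIE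
    rw [S.cardE] at hd
    obtain ⟨m, hm, hcard⟩ := (Nat.dvd_prime_pow hp).mp hd
    have hle := Subgroup.card_le_of_le hZI
    rw [S.cardZ, hcard] at hle
    have hIeq : I = E := by
      apply Subgroup.eq_of_le_of_card_ge hIE
      rw [S.cardE, hcard]
      interval_cases m
      · exfalso
        have := hp.two_le
        rw [pow_zero] at hle
        omega
      · exfalso
        have : Z = I := Subgroup.eq_of_le_of_card_ge hZI (by rw [S.cardZ, hcard, pow_one])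
        exact hnot (this ▸ hz'I)
      · exact le_rfl
    intro e he
    have : e ∈ I := hIeq ▸ he
    exact this.2
  -- (H) the subgroup M and the Frattini step
  let M : Subgroup G :=
    { carrier := {m | m ∈ Subgroup.normalizer (E : Set G) ∧ (∀ c ∈ Z, m * c * m⁻¹ = c) ∧
        ∀ e ∈ E, m * e * m⁻¹ * e⁻¹ ∈ Z}
      one_mem' := ⟨Subgroup.one_mem _, fun c _ => by simp, fun e _ => by simp⟩
      mul_mem' := by
        rintro m₁ m₂ ⟨h1N, h1Z, h1E⟩ ⟨h2N, h2Z, h2E⟩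
        refine ⟨Subgroup.mul_mem _ h1N h2N, ?_, ?_⟩
        · intro c hc
          have : m₁ * m₂ * c * (m₁ * m₂)⁻¹ = m₁ * (m₂ * c * m₂⁻¹) * m₁⁻¹ := by group
          rw [this, h2Z c hc, h1Z c hc]
        · intro e he
          have h3 := h2E e he
          have h4 := h1Z _ h3
          have : m₁ * m₂ * e * (m₁ * m₂)⁻¹ * e⁻¹ =
              (m₁ * (m₂ * e * m₂⁻¹ * e⁻¹) * m₁⁻¹) * (m₁ * e * m₁⁻¹ * e⁻¹) := by group
          rw [this, h4]
          exact Z.mul_mem h3 (h1E e he)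
      inv_mem' := by
        rintro m ⟨hN, hZ, hE'⟩
        refine ⟨Subgroup.inv_mem _ hN, ?_, ?_⟩
        · intro c hc
          have := hZ c hc
          calc m⁻¹ * c * m⁻¹⁻¹ = m⁻¹ * (m * c * m⁻¹) * m := by rw [this]; group
            _ = c := by group
        · intro e he
          have he' : m⁻¹ * e * m ∈ E := by
            have := (Subgroup.mem_normalizer_iff.mp (Subgroup.inv_mem _ hN) e).mp he
            simpa using this
          have h3 := hE' _ he'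
          have : m⁻¹ * e * m⁻¹⁻¹ * e⁻¹ = (m * (m⁻¹ * e * m) * m⁻¹ * (m⁻¹ * e * m)⁻¹)⁻¹ := by group
          rw [this]
          exact Z.inv_mem h3 }
  have hM : ∀ m, m ∈ M ↔ (m ∈ Subgroup.normalizer (E : Set G) ∧ (∀ c ∈ Z, m * c * m⁻¹ = c) ∧
        ∀ e ∈ E, m * e * m⁻¹ * e⁻¹ ∈ Z) := fun m => Iff.rfl
  have hPM : (P : Subgroup G) ≤ M := by
    intro x hx
    rw [hM]
    refine ⟨hNE hx, ?_, ?_⟩
    · intro c hc
      have := S.central c hc x hx
      rw [← this]; group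
    · intro e he
      exact S.comm_mem x hx e (S.EP he)
  have hg₀inv : ∀ e ∈ E, g₀⁻¹ * e * g₀ = e⁻¹ := by
    intro e he
    have := hg₀E e⁻¹ (E.inv_mem he)
    rw [inv_inv] at this
    calc g₀⁻¹ * e * g₀ = g₀⁻¹ * (g₀ * e⁻¹ * g₀⁻¹) * g₀ := by rw [this]
      _ = e⁻¹ := by group
  have hQM : ((g₀ • P : Sylow p G) : Subgroup G) ≤ M := by
    intro q hq
    rw [mem_smul_sylow_iff'] at hq
    set x := g₀⁻¹ * q * g₀ with hxdef
    have hqx : q = g₀ * x * g₀⁻¹ := by rw [hxdef]; group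
    rw [hM]
    refine ⟨?_, ?_, ?_⟩
    · rw [hqx]
      exact Subgroup.mul_mem _ (Subgroup.mul_mem _ hg₀N (hNE hq)) (Subgroup.inv_mem _ hg₀N)
    · intro c hc
      have h1 := hg₀inv c (S.ZE hc)
      have h2 : x * c⁻¹ * x⁻¹ = c⁻¹ := by
        have := S.central c⁻¹ (Z.inv_mem hc) x hq
        rw [← this]; group
      calc q * c * q⁻¹ = g₀ * (x * (g₀⁻¹ * c * g₀) * x⁻¹) * g₀⁻¹ := by rw [hqx]; group
        _ = g₀ * c⁻¹ * g₀⁻¹ := by rw [h1, h2]
        _ = c := by rw [hg₀Z c⁻¹ (Z.inv_mem hc), inv_inv]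
    · intro e he
      have h1 := hg₀inv e he
      have h3 := S.comm_mem x hq e⁻¹ (S.EP (E.inv_mem he))
      rw [inv_inv] at h3
      set c' := x * e⁻¹ * x⁻¹ * e with hc'def
      have h4 : x * e⁻¹ * x⁻¹ = c' * e⁻¹ := by rw [hc'def]; group
      have h5 := hg₀Z c' h3
      have h6 := hg₀E e⁻¹ (E.inv_mem he)
      rw [inv_inv] at h6
      have : q * e * q⁻¹ * e⁻¹ = c'⁻¹ := by
        calc q * e * q⁻¹ * e⁻¹ = g₀ * (x * (g₀⁻¹ * e * g₀) * x⁻¹) * g₀⁻¹ * e⁻¹ := by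
              rw [hqx]; group
          _ = g₀ * (c' * e⁻¹) * g₀⁻¹ * e⁻¹ := by rw [h1, h4]
          _ = (g₀ * c' * g₀⁻¹) * (g₀ * e⁻¹ * g₀⁻¹) * e⁻¹ := by group
          _ = c'⁻¹ := by rw [h5, h6]; group
      rw [this]
      exact Z.inv_mem h3
  have hPi : ¬ p ∣ (P : Subgroup G).relIndex M := fun h =>
    P.not_dvd_index (dvd_trans h (Subgroup.relIndex_dvd_index_of_le hPM))
  obtain ⟨m, hmM, hm⟩ := Helper3_SylowRel.exists_conj_le_of_relIndex M (P : Subgroup G) _ hPM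
    P.isPGroup' hPi hQM (g₀ • P).isPGroup'
  obtain ⟨hmN, hmZ, hmE⟩ := (hM m).mp hmM
  set t := m * g₀ with htdef
  have htP : ∀ x ∈ (P : Subgroup G), t * x * t⁻¹ ∈ (P : Subgroup G) := by
    intro x hx
    have h1 : g₀ * x * g₀⁻¹ ∈ ((g₀ • P : Sylow p G) : Subgroup G) := by
      rw [mem_smul_sylow_iff']
      have : g₀⁻¹ * (g₀ * x * g₀⁻¹) * g₀ = x := by group
      rw [this]; exact hx
    have h2 := hm _ h1
    have : t * x * t⁻¹ = m * (g₀ * x * g₀⁻¹) * m⁻¹ := by rw [htdef]; group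
    rw [this]; exact h2
  have htZ : ∀ c ∈ Z, t * c * t⁻¹ = c⁻¹ := by
    intro c hc
    have : t * c * t⁻¹ = m * (g₀ * c * g₀⁻¹) * m⁻¹ := by rw [htdef]; group
    rw [this, hg₀Z c hc, hmZ _ (Z.inv_mem hc)]
  have htE : ∀ e ∈ E, t * e * t⁻¹ * e ∈ Z := by
    intro e he
    have : t * e * t⁻¹ * e = m * (g₀ * e * g₀⁻¹) * m⁻¹ * e := by rw [htdef]; group
    rw [this, hg₀E e he]
    have := hmE _ (E.inv_mem he)
    rwa [inv_inv] at this
  -- (I) the final contradiction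
  have hcomm : ∀ x ∈ (P : Subgroup G), ∀ y ∈ E, x * y = y * x := by
    intro x hx y hy
    have hyP := S.EP hy
    set c := x * y * x⁻¹ * y⁻¹ with hcdef
    have hcZ : c ∈ Z := S.comm_mem x hx y hyP
    have hcP : c ∈ (P : Subgroup G) := S.EP (S.ZE hcZ)
    set x₁ := t * x * t⁻¹ with hx₁def
    have hx₁P : x₁ ∈ (P : Subgroup G) := htP x hx
    have hx₁p : x₁ ^ p = (x ^ p)⁻¹ := by
      rw [hx₁def, conj_pow, htZ _ (S.pow_mem x hx)]
    set e₁ := x₁ * x with he₁def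
    have he₁E : e₁ ∈ E := by
      rw [S.mem_E _ (Subgroup.mul_mem _ hx₁P hx), S.mul_pow _ hx₁P _ hx, hx₁p, inv_mul_cancel]
    set c₁ := t * y * t⁻¹ * y with hc₁def
    have hc₁Z : c₁ ∈ Z := htE y hy
    have hx₁ : x₁ = e₁ * x⁻¹ := by rw [he₁def]; group
    have hy₁ : t * y * t⁻¹ = c₁ * y⁻¹ := by rw [hc₁def]; group
    -- t c t⁻¹ computed in two ways
    have h1 : t * c * t⁻¹ = c⁻¹ := htZ c hcZ
    have hu : x⁻¹ * y⁻¹ * x ∈ E := by
      have := (Subgroup.mem_normalizer_iff.mp (hNE (Subgroup.inv_mem _ hx)) y⁻¹).mp (E.inv_mem hy)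
      simpa using this
    have hc₁c : ∀ v ∈ (P : Subgroup G), c₁ * v = v * c₁ := S.central c₁ hc₁Z
    have h2 : t * c * t⁻¹ = c := by
      calc t * c * t⁻¹ = (t * x * t⁻¹) * (t * y * t⁻¹) * (t * x * t⁻¹)⁻¹ * (t * y * t⁻¹)⁻¹ := by
            rw [hcdef]; group
        _ = (e₁ * x⁻¹) * (c₁ * y⁻¹) * (e₁ * x⁻¹)⁻¹ * (c₁ * y⁻¹)⁻¹ := by rw [← hx₁def, hx₁, hy₁]
        _ = e₁ * x⁻¹ * (c₁ * (y⁻¹ * x * e₁⁻¹ * y)) * c₁⁻¹ := by group
        _ = e₁ * x⁻¹ * ((y⁻¹ * x * e₁⁻¹ * y) * c₁) * c₁⁻¹ := by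
          rw [hc₁c _ (Subgroup.mul_mem _ (Subgroup.mul_mem _ (Subgroup.mul_mem _
            (Subgroup.inv_mem _ hyP) hx) (Subgroup.inv_mem _ (S.EP he₁E))) hyP)]
        _ = e₁ * (x⁻¹ * y⁻¹ * x) * e₁⁻¹ * y := by group
        _ = (x⁻¹ * y⁻¹ * x) * e₁ * e₁⁻¹ * y := by rw [S.E_comm e₁ he₁E _ hu]
        _ = x⁻¹ * y⁻¹ * (x * y) := by group
        _ = x⁻¹ * y⁻¹ * (c * (y * x)) := by
          congr 1
          rw [hcdef]; group
        _ = x⁻¹ * y⁻¹ * ((y * x) * c) := by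
          rw [S.central c hcZ _ (Subgroup.mul_mem _ hyP hx)]
        _ = c := by group
    have h3 : c * c = 1 := by
      have : c = c⁻¹ := h2.symm.trans h1
      calc c * c = c * c⁻¹ := by rw [← this]
        _ = 1 := mul_inv_cancel c
    have hcp : c ^ p = 1 := (S.mem_E c hcP).mp (S.ZE hcZ)
    have hc1 := eq_one_of_sq_of_pow hp2 h3 hcp
    calc x * y = (x * y * x⁻¹ * y⁻¹) * (y * x) := by group
      _ = y * x := by rw [← hcdef, hc1, one_mul]
  have hEZ : E ≤ Z := by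
    intro y hy
    apply S.mem_Z y (S.EP hy)
    intro x hx
    exact (hcomm x hx y hy).symm
  have := Subgroup.card_le_of_le hEZ
  rw [S.cardE, S.cardZ] at this
  have h2 := hp.two_le
  nlinarith

end fusion

/-- Let p be an odd prime and G a finite group with a Sylow p-subgroup P that is extraspecial of order p³ and exponent p². Then the centre of P is strongly closed in P with respect to G: a G-conjugate of an element of Z(P) that lies in P already lies in Z(P). In particular a nontrivial central element of P is conjugate in G to no noncentral element of P. -/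
theorem result {G : Type*} [Group G] [Finite G]
    {p : ℕ} [Fact p.Prime] (hp : p ≠ 2) (P : Sylow p G) (hE : Cfsg.IsExtraspecial p ↥P)
    (hcard : Nat.card P = p ^ 3) (hexp : Monoid.exponent ↥P = p ^ 2) :
    Cfsg.IsStronglyClosed ((Subgroup.center ↥P).map (P : Subgroup G).subtype) (P : Subgroup G) := by
  have S := setup_of hp (P : Subgroup G) hE hcard hexp
  refine ⟨le_trans S.ZE S.EP, ?_⟩
  intro x hx g hg
  exact no_fusion hp P _ _ S x hx g hg

end Cfsg.Agent.S3053
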