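import Mathlib
import Cfsg.Statements.S3056
import Cfsg.Agent.Lib.Helper5_SEc
import Cfsg.Agent.Lib.Helper5_SylowChain

set_option autoImplicit false
open Cfsg

namespace Cfsg.Agent.S3056

open Cfsg.Agent.Lib.Helper5_SEc Cfsg.Agent.Lib.Helper5_SylowChain Cfsg.Agent.Lib.Helper5_SE2
  Cfsg.Agent.Lib.Helper5_Sylow

/-- the stabilizer of the connected component of `S` -/
def compStab {G : Type*} [Group G] {p : ℕ} (S : Sylow p G) : Subgroup G where
  carrier := {g | R (g • S) S}
  one_mem' := by
    show R ((1 : G) • S) S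
    rw [one_smul]; exact R_refl S
  mul_mem' := by
    intro a b ha hb
    show R ((a * b) • S) S
    rw [mul_smul]
    exact R_trans (R_smul a hb) ha
  inv_mem' := by
    intro a ha
    show R (a⁻¹ • S) S
    have := R_smul a⁻¹ ha
    rw [inv_smul_smul] at this
    exact R_symm this

theorem mem_compStab {G : Type*} [Group G] {p : ℕ} (S : Sylow p G) (g : G) :
    g ∈ compStab S ↔ R (g • S) S := Iff.rfl

theorem forward {G : Type*} [Group G] [Finite G] (p : ℕ) [Fact p.Prime]
    (S T : Sylow p G) (hST : ¬ R S T) :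
    ∃ H : Subgroup G, H ≠ ⊤ ∧ p ∣ Nat.card H ∧
        ∀ g : G, g ∉ H → ¬ p ∣ Nat.card ↥(H ⊓ H.map (MulAut.conj g).toMonoidHom) := by
  obtain ⟨g₀, hg₀⟩ := MulAction.exists_smul_eq G S T
  have hSH : (S : Subgroup G) ≤ compStab S := by
    intro x hx
    rw [mem_compStab]
    have : x • S = S := Sylow.smul_eq_iff_mem_normalizer.mpr (Subgroup.le_normalizer hx)
    rw [this]; exact R_refl S
  have hSne : (S : Subgroup G) ≠ ⊥ := by
    intro h
    apply hST
    have : T = S := by
      apply Sylow.ext
      rw [← hg₀, coe_smul_sylow, h, Subgroup.map_bot]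
    rw [this]; exact R_refl S
  refine ⟨compStab S, ?_, ?_, ?_⟩
  · intro htop
    apply hST
    have : g₀ ∈ compStab S := by rw [htop]; trivial
    rw [mem_compStab, hg₀] at this
    exact R_symm this
  · exact (dvd_card_of_ne_bot S.isPGroup' hSne).trans (Subgroup.card_dvd_of_le hSH)
  · intro g hg hdvd
    apply hg
    obtain ⟨x, hx⟩ := exists_prime_orderOf_dvd_card' p hdvd
    have hxp : orderOf (x : G) = p := by rw [Subgroup.orderOf_coe]; exact hx
    obtain ⟨hxH, y, hyH, hyx⟩ := x.2
    have hyx' : g * y * g⁻¹ = (x : G) := by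
      rw [← hyx]; simp [MulAut.conj_apply]
    have hyp : orderOf y = p := by
      rw [← hxp, ← hyx']
      have := (MulAut.conj g).orderOf_eq y
      simpa [MulAut.conj_apply] using this.symm
    -- lemma L
    have L : ∀ z ∈ compStab S, orderOf z = p →
        ∃ h ∈ compStab S, z ∈ ((h • S : Sylow p G) : Subgroup G) := by
      intro z hz hzp
      obtain ⟨h, hh, hmem⟩ := exists_conj_mem_sylowOf (S.subtype hSH) hz hzp
      rw [Sylow.coe_subtype, Subgroup.subgroupOf_map_subtype] at hmem
      refine ⟨h⁻¹, Subgroup.inv_mem _ hh, ?_⟩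
      rw [coe_smul_sylow]
      refine ⟨h * z * h⁻¹, hmem.1, ?_⟩
      simp [MulAut.conj_apply, mul_assoc]
    obtain ⟨h₁, hh₁, hxU⟩ := L x hxH hxp
    obtain ⟨h₂, hh₂, hyU'⟩ := L y hyH hyp
    have hxV : (x : G) ∈ ((g • (h₂ • S) : Sylow p G) : Subgroup G) := by
      rw [coe_smul_sylow]
      exact ⟨y, hyU', by rw [← hyx']; simp [MulAut.conj_apply]⟩
    have hx1 : (x : G) ≠ 1 := by
      intro h1
      rw [h1, orderOf_one] at hxp
      exact (Fact.out : p.Prime).one_lt.ne hxp
    have hUV : R (h₁ • S) (g • (h₂ • S)) := by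
      apply R_of_inf_ne_bot
      intro hbot
      apply hx1
      have : (x : G) ∈ ((h₁ • S : Sylow p G) : Subgroup G) ⊓ ((g • (h₂ • S) : Sylow p G) : Subgroup G) :=
        ⟨hxU, hxV⟩
      rw [hbot, Subgroup.mem_bot] at this
      exact this
    rw [mem_compStab]
    have h3 : R (g • (h₂ • S)) (g • S) := R_smul g ((mem_compStab S h₂).mp hh₂)
    have h4 : R S (h₁ • S) := R_symm ((mem_compStab S h₁).mp hh₁)
    exact R_symm (R_trans h4 (R_trans hUV h3))

/-- Let G be a finite group and p a prime. Join two Sylow p-subgroups when they are distinct and meet nontrivially. This graph on the Sylow p-subgroups is disconnected (the Sylow p-subgroups are not chain-connected through nontrivial intersections) if and only if G has a strongly p-embedded subgroup in the classical sense: a proper subgroup H of order divisible by p such that H ∩ gHg⁻¹ has order prime to p for every g outside H. -/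
theorem result {G : Type*} [Group G] [Finite G]
    (p : ℕ) [Fact p.Prime] :
    ¬ Cfsg.IsSylowChainConnected p G ↔
      ∃ H : Subgroup G, H ≠ ⊤ ∧ p ∣ Nat.card H ∧
        ∀ g : G, g ∉ H → ¬ p ∣ Nat.card ↥(H ⊓ H.map (MulAut.conj g).toMonoidHom) := by
  rw [isSylowChainConnected_iff]
  constructor
  · intro h
    push Not at h
    obtain ⟨S, T, hST⟩ := h
    exact forward p S T hST
  · rintro ⟨H, hH, hpH, hse⟩ hconn
    have hse' : SEc p H := hse
    obtain ⟨P, hPH⟩ := hse'.exists_sylow_le hpH
    obtain ⟨g, hg⟩ : ∃ g : G, g ∉ H := by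
      by_contra hall
      push Not at hall
      exact hH (eq_top_iff.mpr fun x _ => hall x)
    have hPne : (P : Subgroup G) ≠ ⊥ :=
      P.ne_bot_of_dvd_card (hpH.trans (Subgroup.card_subgroup_dvd_card H))
    have hall : ∀ U : Sylow p G, R P U → (U : Subgroup G) ≤ H := by
      intro U hU
      induction hU with
      | refl => exact hPH
      | @tail V W _ hE ih =>
        exact hse'.sylow_le (inf_le_left.trans ih) hE.2 W inf_le_right
    have h1 := hall (g • P) (hconn P (g • P))
    rw [coe_smul_sylow] at h1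
    exact hg (hse'.mem_of_conj_le hPH P.isPGroup' hPne g h1)

end Cfsg.Agent.S3056
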