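import Mathlib
import Cfsg.Statements.S3058
import Cfsg.Agent.Lib.Helper5_SylowChain
import Cfsg.Agent.Lib.Helper5_WC
import Cfsg.Agent.Lib.Helper5_CharP
import Cfsg.Agent.Lib.Helper5_CoprimeGen
import Cfsg.Agent.Lib.Lead_Coprime

set_option autoImplicit false
open Cfsg

namespace Cfsg.Agent.S3058

open Cfsg.Agent.Lib.Helper5_Sylow Cfsg.Agent.Lib.Helper5_SylowChain Cfsg.Agent.Lib.Helper5_WC
open Cfsg.Agent.Lib.Helper5_CoprimeGen
open Subgroup

section comp
variable {G : Type*} [Group G] [Finite G] {p : ℕ} [Fact p.Prime]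

/-- the stabilizer of the connected component of `S` in the Sylow intersection graph -/
def comp (S : Sylow p G) : Subgroup G where
  carrier := {g | R S (g • S)}
  one_mem' := by
    show R S ((1 : G) • S)
    rw [one_smul]; exact R_refl S
  mul_mem' := by
    intro a b ha hb
    show R S ((a * b) • S)
    rw [mul_smul]
    exact R_trans ha (R_smul a hb)
  inv_mem' := by
    intro a ha
    show R S (a⁻¹ • S)
    have h := R_smul a⁻¹ ha
    rw [inv_smul_smul] at h
    exact R_symm h

theorem mem_comp {S : Sylow p G} {g : G} : g ∈ comp S ↔ R S (g • S) := Iff.rfl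

theorem normalizer_le_comp (S : Sylow p G) {X : Subgroup G} (hX : X ≠ ⊥)
    (hXS : X ≤ (S : Subgroup G)) : normalizer (X : Set G) ≤ comp S := by
  intro g hg
  rw [mem_comp]
  apply R_of_inf_ne_bot
  intro hbot
  apply hX
  rw [eq_bot_iff, ← hbot]
  refine le_inf hXS ?_
  rw [coe_smul_sylow]
  have h : cj g X = X := cj_eq_of_mem_normalizer hg
  rw [← h]
  exact cj_mono g hXS

theorem centralizer_le_comp (S : Sylow p G) {e : G} (he1 : e ≠ 1) (heS : e ∈ (S : Subgroup G)) :
    centralizer {e} ≤ comp S := by
  have hne : zpowers e ≠ ⊥ := by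
    intro h
    apply he1
    have : e ∈ zpowers e := mem_zpowers e
    rw [h, mem_bot] at this
    exact this
  have hle : zpowers e ≤ (S : Subgroup G) := by rw [zpowers_le]; exact heS
  refine le_trans ?_ (normalizer_le_comp S hne hle)
  intro c hc
  rw [mem_centralizer_singleton_iff] at hc
  apply mem_normalizer_of_cj_le
  rw [cj, MonoidHom.map_zpowers, zpowers_le]
  have : (MulAut.conj c).toMonoidHom e = e := by
    show c * e * c⁻¹ = e
    rw [hc, mul_inv_cancel_right]
  rw [this]
  exact mem_zpowers e

end comp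

/-- Let p be a prime and G a finite group whose Sylow p-subgroups are not chain-connected through nontrivial intersections (so G has a strongly p-embedded subgroup). If N and M are normal subgroups of G whose orders are both divisible by p, then the order of N ∩ M is divisible by p. Consequently, among the normal subgroups of G whose order is divisible by p there is a smallest one (the intersection of all of them). -/
theorem result {G : Type*} [Group G] [Finite G]
    (p : ℕ) [Fact p.Prime] (hG : ¬ Cfsg.IsSylowChainConnected p G)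
    (N M : Subgroup G) [N.Normal] [M.Normal] (hN : p ∣ Nat.card N) (hM : p ∣ Nat.card M) :
    p ∣ Nat.card ↥(N ⊓ M) := by
  by_contra hnd
  apply hG
  rw [isSylowChainConnected_iff]
  have hp := (Fact.out : p.Prime)
  have hNn : N.Normal := inferInstance
  have hMn : M.Normal := inferInstance
  set D := N ⊓ M with hD
  have hDn : D.Normal := inferInstance
  -- Sylow of N and of G
  obtain ⟨P⟩ : Nonempty (Sylow p N) := inferInstance
  set P' := (P : Subgroup N).map N.subtype with hP'
  have hP'p : IsPGroup p P' := P.isPGroup'.map _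
  obtain ⟨S, hP'S⟩ := hP'p.exists_le_sylow
  have hP'N : P' ≤ N := map_subtype_le _
  have hcardP' : p ∣ Nat.card P' := by
    have hcard : Nat.card P' = p ^ (Nat.card N).factorization p := by
      rw [hP', card_map_of_injective N.subtype_injective]; exact P.card_eq_multiplicity
    rw [hcard]
    have h1 : 1 ≤ (Nat.card N).factorization p :=
      (hp.dvd_iff_one_le_factorization Nat.card_pos.ne').mp hN
    exact dvd_pow_self p (by omega)
  have hP'ne : P' ≠ ⊥ := by
    intro h
    rw [h, card_bot] at hcardP'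
    exact hp.one_lt.ne' (Nat.dvd_one.mp hcardP')
  -- x
  obtain ⟨x0, hx0⟩ := exists_prime_orderOf_dvd_card' p hcardP'
  set x : G := (x0 : G) with hxdef
  have hxo : orderOf x = p := by rw [hxdef, Subgroup.orderOf_coe]; exact hx0
  have hxP' : x ∈ P' := x0.2
  have hxS : x ∈ (S : Subgroup G) := hP'S hxP'
  have hxN : x ∈ N := hP'N hxP'
  have hx1 : x ≠ 1 := by
    intro h; rw [h, orderOf_one] at hxo; exact hp.one_lt.ne hxo
  have hxp : x ^ p = 1 := by rw [← hxo]; exact pow_orderOf_eq_one x
  -- y
  obtain ⟨y0, hy0⟩ := exists_prime_orderOf_dvd_card' p hM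
  have hy0o : orderOf (y0 : G) = p := by rw [Subgroup.orderOf_coe]; exact hy0
  have hY0p : IsPGroup p (zpowers (y0 : G)) := by
    apply IsPGroup.of_card (n := 1)
    rw [Nat.card_zpowers, hy0o, pow_one]
  obtain ⟨T, hT⟩ := hY0p.exists_le_sylow
  obtain ⟨g, hg⟩ := MulAction.exists_smul_eq G T S
  set y : G := g * (y0 : G) * g⁻¹ with hydef
  have hyS : y ∈ (S : Subgroup G) := by
    rw [← hg, coe_smul_sylow]
    exact conj_mem_cj (hT (mem_zpowers _))
  have hyM : y ∈ M := hMn.conj_mem _ y0.2 g
  have hyp : y ^ p = 1 := by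
    rw [hydef, conj_pow, ← hy0o, pow_orderOf_eq_one]; group
  have hy1 : y ≠ 1 := by
    intro h
    have h2 : (y0 : G) = 1 := by
      have : (y0 : G) = g⁻¹ * y * g := by rw [hydef]; group
      rw [this, h]; group
    rw [h2, orderOf_one] at hy0o
    exact hp.one_lt.ne hy0o
  -- elements of D in S are trivial
  have hDS : ∀ c : G, c ∈ D → c ∈ (S : Subgroup G) → c = 1 := by
    intro c hcD hcS
    apply Cfsg.Agent.Lib.Helper5_CharP.eq_one_of_mem_pGroup_of_coprime S.isPGroup' hcS
    have h1 : orderOf c ∣ Nat.card D := Subgroup.orderOf_dvd_natCard D hcD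
    exact Nat.Coprime.coprime_dvd_left h1 ((Nat.Prime.coprime_iff_not_dvd hp).mpr hnd).symm
  -- x and y commute
  have hxy : x * y = y * x := by
    have hc : x * y * x⁻¹ * y⁻¹ = 1 := by
      apply hDS
      · constructor
        · have h1 : y * x⁻¹ * y⁻¹ ∈ N := hNn.conj_mem _ (N.inv_mem hxN) y
          have : x * y * x⁻¹ * y⁻¹ = x * (y * x⁻¹ * y⁻¹) := by group
          rw [this]; exact N.mul_mem hxN h1
        · have h1 : x * y * x⁻¹ ∈ M := hMn.conj_mem _ hyM x
          exact M.mul_mem h1 (M.inv_mem hyM)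
      · exact (S : Subgroup G).mul_mem ((S : Subgroup G).mul_mem ((S : Subgroup G).mul_mem hxS hyS)
          ((S : Subgroup G).inv_mem hxS)) ((S : Subgroup G).inv_mem hyS)
    have : x * y = (x * y * x⁻¹ * y⁻¹) * (y * x) := by group
    rw [this, hc, one_mul]
  -- y ∉ ⟨x⟩
  have hyx : y ∉ zpowers x := by
    intro h
    have hyN : y ∈ N := (zpowers_le.mpr hxN) h
    exact hy1 (hDS y ⟨hyN, hyM⟩ hyS)
  -- D ≤ comp S
  have hDcomp : D ≤ comp S := by
    have hAK : (S : Subgroup G) ≤ normalizer (D : Set G) := by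
      rw [normalizer_eq_top]; exact le_top
    have hcop : (Nat.card (S : Subgroup G)).Coprime (Nat.card D) := by
      obtain ⟨k, hk⟩ := S.isPGroup'.exists_card_eq
      rw [hk]
      exact Nat.Coprime.pow_left k ((Nat.Prime.coprime_iff_not_dvd hp).mpr hnd)
    have hsolv : Group.IsSolvable (S : Subgroup G) := by
      have : Group.IsNilpotent (S : Subgroup G) := S.isPGroup'.isNilpotent
      infer_instance
    apply gen_of_rank_two (S : Subgroup G) D hAK hcop (Or.inl hsolv) p hnd x y hxS hyS hxy hxp hyp
    · intro j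
      refine le_trans inf_le_right (centralizer_le_comp S (mul_pow_ne_one p x y hxp hyp hx1 hyx j) ?_)
      exact (S : Subgroup G).mul_mem hxS ((S : Subgroup G).pow_mem hyS j)
    · intro i hi0 hip
      refine le_trans inf_le_right (centralizer_le_comp S (pow_ne_one_of_lt p y hyp hy1 i hi0 hip) ?_)
      exact (S : Subgroup G).pow_mem hyS i
  -- N ≤ comp S
  have hYne : zpowers y ≠ ⊥ := by
    intro h
    have : y ∈ zpowers y := mem_zpowers y
    rw [h, mem_bot] at this
    exact hy1 this
  have hYS : zpowers y ≤ (S : Subgroup G) := by rw [zpowers_le]; exact hyS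
  have hNcomp : N ≤ comp S := by
    intro n hn
    have hAD : zpowers y ≤ normalizer (D : Set G) := by
      rw [normalizer_eq_top]; exact le_top
    have hcop : (Nat.card (zpowers y)).Coprime (Nat.card D) := by
      have hyo : orderOf y = p := by
        have := orderOf_dvd_of_pow_eq_one hyp
        rcases (Nat.dvd_prime hp).mp this with h1 | h1
        · exact absurd (orderOf_eq_one_iff.mp h1) hy1
        · exact h1
      rw [Nat.card_zpowers, hyo]
      exact (Nat.Prime.coprime_iff_not_dvd hp).mpr hnd
    have hA₂ : cj n (zpowers y) ≤ D ⊔ zpowers y := by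
      rw [cj, MonoidHom.map_zpowers, zpowers_le]
      show n * y * n⁻¹ ∈ D ⊔ zpowers y
      have h1 : n * y * n⁻¹ * y⁻¹ ∈ D := by
        constructor
        · have h2 : y * n⁻¹ * y⁻¹ ∈ N := hNn.conj_mem _ (N.inv_mem hn) y
          have : n * y * n⁻¹ * y⁻¹ = n * (y * n⁻¹ * y⁻¹) := by group
          rw [this]; exact N.mul_mem hn h2
        · have h2 : n * y * n⁻¹ ∈ M := hMn.conj_mem _ hyM n
          exact M.mul_mem h2 (M.inv_mem hyM)
      have : n * y * n⁻¹ = (n * y * n⁻¹ * y⁻¹) * y := by group
      rw [this]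
      exact mul_mem_sup h1 (mem_zpowers y)
    obtain ⟨d, hd, hdY⟩ := Cfsg.Agent.Lib.Lead_Coprime.exists_conj_of_le_sup D (zpowers y)
      (cj n (zpowers y)) hAD hcop (Or.inl inferInstance) hA₂ (card_map_conj n _)
    have hdY' : cj d (zpowers y) = cj n (zpowers y) := hdY
    have h3 : d⁻¹ * n ∈ normalizer ((zpowers y : Subgroup G) : Set G) := by
      apply mem_normalizer_of_cj_eq
      rw [← cj_cj, ← hdY', cj_cj, inv_mul_cancel, cj_one]
    have h4 : d⁻¹ * n ∈ comp S := normalizer_le_comp S hYne hYS h3
    have : n = d * (d⁻¹ * n) := by group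
    rw [this]
    exact (comp S).mul_mem (hDcomp hd) h4
  -- Frattini
  have htop : comp S = ⊤ := by
    rw [eq_top_iff, ← Sylow.normalizer_sup_eq_top P]
    exact sup_le (normalizer_le_comp S hP'ne hP'S) hNcomp
  intro S1 S2
  obtain ⟨a, ha⟩ := MulAction.exists_smul_eq G S S1
  obtain ⟨b, hb⟩ := MulAction.exists_smul_eq G S S2
  have h1 : R S S1 := by
    rw [← ha]; exact mem_comp.mp (by rw [htop]; trivial)
  have h2 : R S S2 := by
    rw [← hb]; exact mem_comp.mp (by rw [htop]; trivial)
  exact R_trans (R_symm h1) h2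

end Cfsg.Agent.S3058
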