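import Mathlib
import Cfsg.Statements.S3057
import Cfsg.Agent.S0016
import Cfsg.Agent.S3058
import Cfsg.Agent.Lib.Helper4_RankOne
import Cfsg.Agent.Lib.Helper7_PSolvable
import Cfsg.Agent.Lib.Helper1_Index
import Cfsg.Agent.Lib.Helper5_PPrime
import Cfsg.Agent.Lib.Helper5_SE2

set_option autoImplicit false
open Cfsg

namespace Cfsg.Agent.S3057

open Cfsg.Agent.Lib.Helper5_Sylow Cfsg.Agent.Lib.Helper5_SylowChain Cfsg.Agent.Lib.Helper5_WC
open Cfsg.Agent.Lib.Helper5_CoprimeGen Cfsg.Agent.Lib.Helper5_PPrime Cfsg.Agent.Lib.Helper5_SE2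
open Cfsg.Agent.S3058
open Subgroup

section
variable {G : Type*} [Group G] [Finite G] {p : ℕ} [Fact p.Prime]

theorem connected_of_comp_eq_top (S : Sylow p G) (h : comp S = ⊤) :
    Cfsg.IsSylowChainConnected p G := by
  rw [isSylowChainConnected_iff]
  intro S1 S2
  obtain ⟨a, ha⟩ := MulAction.exists_smul_eq G S S1
  obtain ⟨b, hb⟩ := MulAction.exists_smul_eq G S S2
  have h1 : R S S1 := by
    rw [← ha]; exact mem_comp.mp (by rw [h]; trivial)
  have h2 : R S S2 := by
    rw [← hb]; exact mem_comp.mp (by rw [h]; trivial)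
  exact R_trans (R_symm h1) h2

/-- if `O_p(G) ≠ 1` then the Sylow graph is connected -/
theorem connected_of_pCore_ne_bot (h : Cfsg.pCore p G ≠ ⊥) : Cfsg.IsSylowChainConnected p G := by
  rw [isSylowChainConnected_iff]
  intro S T
  apply R_of_inf_ne_bot
  intro hbot
  apply h
  rw [eq_bot_iff, ← hbot]
  exact le_inf (Cfsg.Agent.Lib.Helper5_CharP.pCore_le_sylow S)
    (Cfsg.Agent.Lib.Helper5_CharP.pCore_le_sylow T)

/-- a `p`-solvable group whose Sylow `p`-subgroup has rank at least two has connected Sylow graph -/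
theorem connected_of_rank_two (hdiv : p ∣ Nat.card G) (hsol : Cfsg.IsPSolvable p G) (P : Sylow p G)
    (x y : G) (hxP : x ∈ (P : Subgroup G)) (hyP : y ∈ (P : Subgroup G)) (hxy : x * y = y * x)
    (hxp : x ^ p = 1) (hyp : y ^ p = 1) (hx1 : x ≠ 1) (hyx : y ∉ zpowers x) :
    Cfsg.IsSylowChainConnected p G := by
  have hp := (Fact.out : p.Prime)
  apply connected_of_comp_eq_top P
  have hy1 : y ≠ 1 := by
    intro h; apply hyx; rw [h]; exact Subgroup.one_mem _
  have hPne : (P : Subgroup G) ≠ ⊥ := by
    intro h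
    rw [h, mem_bot] at hxP
    exact hx1 hxP
  set D := Cfsg.pPrimeCore p G with hD
  have hDn : D.Normal := pPrimeCore_normal p G
  have hDcop : (Nat.card D).Coprime p := pPrimeCore_coprime p G
  have hDnd : ¬ p ∣ Nat.card D := by
    intro h
    have := Nat.dvd_gcd h (dvd_refl p)
    rw [hDcop] at this
    exact hp.one_lt.ne' (Nat.dvd_one.mp this)
  -- D ≤ comp P
  have hDcomp : D ≤ comp P := by
    have hAK : (P : Subgroup G) ≤ normalizer (D : Set G) := by
      rw [normalizer_eq_top]; exact le_top
    have hcop : (Nat.card (P : Subgroup G)).Coprime (Nat.card D) := by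
      obtain ⟨k, hk⟩ := P.isPGroup'.exists_card_eq
      rw [hk]
      exact Nat.Coprime.pow_left k hDcop.symm
    have hsolv : Group.IsSolvable (P : Subgroup G) := by
      have : Group.IsNilpotent (P : Subgroup G) := P.isPGroup'.isNilpotent
      infer_instance
    apply gen_of_rank_two (P : Subgroup G) D hAK hcop (Or.inl hsolv) p hDnd x y hxP hyP hxy hxp hyp
    · intro j
      refine le_trans inf_le_right (centralizer_le_comp P (mul_pow_ne_one p x y hxp hyp hx1 hyx j) ?_)
      exact (P : Subgroup G).mul_mem hxP ((P : Subgroup G).pow_mem hyP j)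
    · intro i hi0 hip
      refine le_trans inf_le_right (centralizer_le_comp P (pow_ne_one_of_lt p y hyp hy1 i hi0 hip) ?_)
      exact (P : Subgroup G).pow_mem hyP i
  -- the chain
  obtain ⟨n, H, h0, hlast, hmono, hnorm, hstep⟩ := hsol
  have hex : ∃ i : Fin n, (Nat.card (H i.castSucc)).Coprime p ∧ ¬ (Nat.card (H i.succ)).Coprime p := by
    by_contra hcon
    push Not at hcon
    have hall : ∀ j : Fin (n + 1), (Nat.card (H j)).Coprime p := by
      intro j
      induction j using Fin.induction with
      | zero => rw [h0, Subgroup.card_bot]; exact Nat.coprime_one_left p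
      | succ i ih => exact hcon i ih
    have := hall (Fin.last n)
    rw [hlast, Subgroup.card_top] at this
    have h2 := Nat.dvd_gcd hdiv (dvd_refl p)
    rw [this] at h2
    exact hp.one_lt.ne' (Nat.dvd_one.mp h2)
  obtain ⟨i, hi1, hi2⟩ := hex
  set A := H i.castSucc with hA
  set M := H i.succ with hM
  have hAn : A.Normal := hnorm _
  have hMn : M.Normal := hnorm _
  have hAM : A ≤ M := hmono (Fin.castSucc_le_succ i)
  have hcardM : Nat.card M = A.relIndex M * Nat.card A := by
    have h1 := (A.subgroupOf M).card_mul_index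
    rw [Nat.card_congr (Subgroup.subgroupOfEquivOfLe hAM).toEquiv] at h1
    rw [← h1, mul_comm]; rfl
  obtain ⟨m, hm⟩ : ∃ m : ℕ, A.relIndex M = p ^ m := by
    rcases hstep i with h | h
    · exact h
    · exfalso
      apply hi2
      rw [hcardM]
      exact Nat.Coprime.mul_left h hi1
  have hm0 : m ≠ 0 := by
    rintro rfl
    apply hi2
    rw [hcardM, hm, pow_zero, one_mul]; exact hi1
  -- Sylow of M
  set Q := Cfsg.Agent.Lib.Helper1_Index.sylowOfSubnormal p P M hMn.isSubnormal with hQ
  set P₁ := (P : Subgroup G) ⊓ M with hP₁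
  have hQmap : (Q : Subgroup M).map M.subtype = P₁ := by
    rw [hQ, Cfsg.Agent.Lib.Helper1_Index.coe_sylowOfSubnormal, subgroupOf_map_subtype]
  have hcardP₁ : Nat.card P₁ = p ^ m := by
    rw [← hQmap, card_map_of_injective M.subtype_injective, Q.card_eq_multiplicity, hcardM, hm]
    congr 1
    rw [Nat.factorization_mul (pow_ne_zero m hp.ne_zero) Nat.card_pos.ne']
    simp only [Finsupp.coe_add, Pi.add_apply]
    rw [hp.factorization_pow]
    simp only [Finsupp.single_eq_same]
    have : (Nat.card A).factorization p = 0 := by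
      apply Nat.factorization_eq_zero_of_not_dvd
      intro h
      have h2 := Nat.dvd_gcd h (dvd_refl p)
      rw [hi1] at h2
      exact hp.one_lt.ne' (Nat.dvd_one.mp h2)
    rw [this, add_zero]
  have hP₁ne : P₁ ≠ ⊥ := by
    intro h
    rw [h, Subgroup.card_bot] at hcardP₁
    have : 1 < p ^ m := Nat.one_lt_pow hm0 hp.one_lt
    omega
  have hP₁P : P₁ ≤ (P : Subgroup G) := inf_le_left
  have hP₁M : P₁ ≤ M := inf_le_right
  have hsup : A ⊔ P₁ = M := by
    apply Subgroup.eq_of_le_of_card_ge (sup_le hAM hP₁M)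
    have hn : P₁ ≤ normalizer (A : Set G) := by rw [normalizer_eq_top]; exact le_top
    have hc : (Nat.card P₁).Coprime (Nat.card A) := by
      rw [hcardP₁]; exact Nat.Coprime.pow_left m hi1.symm
    rw [Cfsg.Agent.Lib.Lead_Coprime.card_sup_of_normalizer A P₁ hn hc, hcardP₁, hcardM, hm, mul_comm]
  have hAcomp : A ≤ comp P := le_trans (le_pPrimeCore A hi1) hDcomp
  have hNcomp : normalizer (P₁ : Set G) ≤ comp P := normalizer_le_comp P hP₁ne hP₁P
  have hfr := Sylow.normalizer_sup_eq_top Q
  rw [hQmap] at hfr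
  rw [eq_top_iff, ← hfr, ← hsup]
  exact sup_le hNcomp (sup_le hAcomp (le_trans le_normalizer hNcomp))

/-- unique subgroup of order `p` gives a disconnected Sylow graph when `O_p(G) = 1` -/
theorem not_connected_of_unique (hdiv : p ∣ Nat.card G) (hO : Cfsg.pCore p G = ⊥) (P : Sylow p G)
    (hU : ∀ x y : G, x ∈ (P : Subgroup G) → y ∈ (P : Subgroup G) → orderOf x = p → y ^ p = 1 →
      y ∈ zpowers x) : ¬ Cfsg.IsSylowChainConnected p G := by
  have hp := (Fact.out : p.Prime)
  intro hconn
  rw [isSylowChainConnected_iff] at hconn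
  have hPne : (P : Subgroup G) ≠ ⊥ := P.ne_bot_of_dvd_card hdiv
  obtain ⟨z, hzP, hzo⟩ := exists_orderOf_eq_of_ne_bot P.isPGroup' hPne
  have hzp : z ^ p = 1 := by rw [← hzo]; exact pow_orderOf_eq_one z
  have hz1 : z ≠ 1 := by
    intro h; rw [h, orderOf_one] at hzo; exact hp.one_lt.ne hzo
  -- U for all Sylows
  have hUall : ∀ T : Sylow p G, ∀ x y : G, x ∈ (T : Subgroup G) → y ∈ (T : Subgroup G) →
      orderOf x = p → y ^ p = 1 → y ∈ zpowers x := by
    intro T x y hx hy hxo hyp
    obtain ⟨g, hg⟩ := MulAction.exists_smul_eq G T P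
    have hx' : g * x * g⁻¹ ∈ (P : Subgroup G) := by
      rw [← hg, coe_smul_sylow]; exact conj_mem_cj hx
    have hy' : g * y * g⁻¹ ∈ (P : Subgroup G) := by
      rw [← hg, coe_smul_sylow]; exact conj_mem_cj hy
    have h1 := hU _ _ hx' hy' (by rw [orderOf_conj]; exact hxo) (by rw [conj_pow, hyp]; group)
    rw [mem_zpowers_iff] at h1 ⊢
    obtain ⟨k, hk⟩ := h1
    refine ⟨k, ?_⟩
    rw [conj_zpow] at hk
    have : x ^ k = g⁻¹ * (g * x ^ k * g⁻¹) * g := by group
    rw [this, hk]; group
  have hzall : ∀ T : Sylow p G, R P T → z ∈ (T : Subgroup G) := by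
    intro T hR
    induction hR with
    | refl => exact hzP
    | @tail T1 T2 _ hE ih =>
      obtain ⟨w, hw, hwo⟩ := exists_orderOf_eq_of_ne_bot (T1.isPGroup'.to_le inf_le_left) hE.2
      have h1 := hUall T1 w z hw.1 ih hwo hzp
      exact (zpowers_le.mpr hw.2) h1
  -- normal closure of z inside P
  set N := normalClosure ({z} : Set G) with hN
  have hNP : N ≤ (P : Subgroup G) := by
    rw [hN, normalClosure, closure_le]
    intro a ha
    rw [Group.mem_conjugatesOfSet_iff] at ha
    obtain ⟨b, hb, hba⟩ := ha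
    rw [Set.mem_singleton_iff] at hb
    subst hb
    rw [isConj_iff] at hba
    obtain ⟨c, rfl⟩ := hba
    have h1 := hzall (c⁻¹ • P) (hconn P _)
    rw [coe_smul_sylow, mem_cj, inv_inv] at h1
    exact h1
  have hNn : N.Normal := normalClosure_normal
  have hNle := Cfsg.Agent.Lib.Helper5_CharP.le_pCore N hNn (P.isPGroup'.to_le hNP)
  rw [hO] at hNle
  have : z ∈ N := subset_normalClosure (Set.mem_singleton z)
  have := hNle this
  rw [mem_bot] at this
  exact hz1 this

end

/-- Let p be a prime and G a finite p-solvable group of order divisible by p, with Sylow p-subgroup P. Then the Sylow p-subgroups of G fail to be chain-connected through nontrivial intersections (equivalently, G has a strongly p-embedded subgroup) if and only if O_p(G) = 1 and P is cyclic or, for p = 2, generalized quaternion. -/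
theorem result {G : Type*} [Group G] [Finite G]
    (p : ℕ) [Fact p.Prime] (hdiv : p ∣ Nat.card G) (hsol : Cfsg.IsPSolvable p G) (P : Sylow p G) :
    ¬ Cfsg.IsSylowChainConnected p G ↔
      Cfsg.pCore p G = ⊥ ∧ (IsCyclic ↥P ∨ (p = 2 ∧ ∃ n : ℕ, Nonempty (↥P ≃* QuaternionGroup (2 ^ n)))) := by
  have hp := (Fact.out : p.Prime)
  have hPne : (P : Subgroup G) ≠ ⊥ := P.ne_bot_of_dvd_card hdiv
  constructor
  · intro hnc
    have hO : Cfsg.pCore p G = ⊥ := by
      by_contra h
      exact hnc (connected_of_pCore_ne_bot h)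
    refine ⟨hO, ?_⟩
    apply Cfsg.Agent.S0016.result p P.isPGroup'
    intro H K hH hK
    by_contra hHK
    apply hnc
    -- a central element of order p
    obtain ⟨z, hzP, hzo, hzc⟩ := exists_central_orderOf_eq P.isPGroup' hPne
    have hzp : z ^ p = 1 := by rw [← hzo]; exact pow_orderOf_eq_one z
    have hz1 : z ≠ 1 := by
      intro h; rw [h, orderOf_one] at hzo; exact hp.one_lt.ne hzo
    -- some subgroup of order p different from ⟨z⟩
    have key : ∀ L : Subgroup (P : Subgroup G), Nat.card L = p →
        L ≠ zpowers (⟨z, hzP⟩ : (P : Subgroup G)) → Cfsg.IsSylowChainConnected p G := by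
      intro L hL hLz
      haveI : Fact (Nat.card L).Prime := ⟨by rw [hL]; exact hp⟩
      obtain ⟨w, hw⟩ := (isCyclic_of_prime_card (α := L) hL).exists_generator
      have hw1 : (w : (P : Subgroup G)) ≠ 1 := by
        intro h
        have h1 : w = 1 := Subtype.ext h
        have h2 : ∀ l : L, l = 1 := by
          intro l
          have := hw l
          rw [h1, zpowers_one_eq_bot, mem_bot] at this
          exact this
        have h3 : Nat.card L = 1 := by
          rw [Nat.card_eq_one_iff_unique]
          exact ⟨⟨fun a b => by rw [h2 a, h2 b]⟩, ⟨1⟩⟩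
        rw [hL] at h3
        exact hp.one_lt.ne' h3
      have hwp : (w : (P : Subgroup G)) ^ p = 1 := by
        have h : w ^ Nat.card L = 1 := pow_card_eq_one'
        rw [hL] at h
        have := congrArg Subtype.val h
        simpa using this
      set y : G := ((w : (P : Subgroup G)) : G) with hy
      have hyP : y ∈ (P : Subgroup G) := (w : (P : Subgroup G)).2
      have hyp : y ^ p = 1 := by
        have := congrArg Subtype.val hwp
        simpa using this
      have hyz : y ∉ zpowers z := by
        intro h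
        apply hLz
        -- L = zpowers w ≤ zpowers z, equal cardinalities
        have hle : L ≤ zpowers (⟨z, hzP⟩ : (P : Subgroup G)) := by
          intro l hl
          have h1 := hw ⟨l, hl⟩
          rw [mem_zpowers_iff] at h1 h ⊢
          obtain ⟨k, hk⟩ := h1
          obtain ⟨j, hj⟩ := h
          refine ⟨j * k, ?_⟩
          apply Subtype.ext
          have h2 := congrArg (fun t : L => ((t : (P : Subgroup G)) : G)) hk
          simp only [Subgroup.coe_zpow] at h2
          rw [Subgroup.coe_zpow, zpow_mul]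
          show (z ^ j) ^ k = (l : G)
          rw [hj]; exact h2
        apply Subgroup.eq_of_le_of_card_ge hle
        rw [hL, Nat.card_zpowers, Subgroup.orderOf_mk, hzo]
      exact connected_of_rank_two hdiv hsol P z y hzP hyP (hzc y hyP) hzp hyp hz1 hyz
    by_cases hHz : H = zpowers (⟨z, hzP⟩ : (P : Subgroup G))
    · have hKz : K ≠ zpowers (⟨z, hzP⟩ : (P : Subgroup G)) := by
        intro h; exact hHK (hHz.trans h.symm)
      exact key K hK hKz
    · exact key H hH hHz
  · rintro ⟨hO, hcq⟩
    apply not_connected_of_unique hdiv hO P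
    intro x y hx hy hxo hyp
    have h1 : (⟨y, hy⟩ : (P : Subgroup G)) ∈ zpowers (⟨x, hx⟩ : (P : Subgroup G)) := by
      rcases hcq with hc | ⟨h2, n, ⟨e⟩⟩
      · haveI := hc
        exact Cfsg.Agent.Lib.Helper4_RankOne.uniqueP_of_cyclic (p := p) _ _
          (by rw [Subgroup.orderOf_mk]; exact hxo) (Subtype.ext (by simpa using hyp))
      · exact Cfsg.Agent.Lib.Helper4_RankOne.uniqueP_of_quaternion (p := p) P.isPGroup' _ e _ _
          (by rw [Subgroup.orderOf_mk]; exact hxo) (Subtype.ext (by simpa using hyp))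
    rw [mem_zpowers_iff] at h1 ⊢
    obtain ⟨k, hk⟩ := h1
    refine ⟨k, ?_⟩
    have := congrArg Subtype.val hk
    simpa using this

end Cfsg.Agent.S3057
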