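import Mathlib
import Cfsg.Statements.S3059
import Cfsg.Agent.Lib.Helper5_SEc
import Cfsg.Agent.Lib.Helper5_Residual

set_option autoImplicit false
open Cfsg

namespace Cfsg.Agent.S3059

open Cfsg.Agent.Lib.Helper5_SEc Cfsg.Agent.Lib.Helper5_Residual

/-- Let p be a prime and H a strongly p-embedded subgroup of the finite group G in the classical sense: H is proper, p divides the order of H, and H ∩ gHg⁻¹ has order prime to p for every g outside H. Then for every normal subgroup N of G of order divisible by p, G = H · O^p(N), where O^p(N) is the subgroup generated by the elements of N of order prime to p. -/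
theorem result {G : Type*} [Group G] [Finite G]
    (p : ℕ) [Fact p.Prime] (H : Subgroup G) (hH : H ≠ ⊤) (hpH : p ∣ Nat.card H)
    (hse : ∀ g : G, g ∉ H → ¬ p ∣ Nat.card ↥(H ⊓ H.map (MulAut.conj g).toMonoidHom))
    (N : Subgroup G) [N.Normal] (hN : p ∣ Nat.card N) :
    H ⊔ Subgroup.closure {g : G | g ∈ N ∧ (orderOf g).Coprime p} = ⊤ := by
  have hse' : SEc p H := hse
  obtain ⟨P, hPH⟩ := hse'.exists_sylow_le hpH
  set S : Sylow p ↥N := sylowInfNormal P N with hS
  set R : Subgroup G := (S : Subgroup ↥N).map N.subtype with hR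
  have hRe : R = (P : Subgroup G) ⊓ N := map_sylowInfNormal P N
  have hRH : R ≤ H := by rw [hRe]; exact inf_le_left.trans hPH
  have hRp : IsPGroup p R := S.isPGroup'.map _
  have hRne : R ≠ ⊥ := by
    intro h
    rw [hR, Subgroup.map_eq_bot_iff_of_injective _ N.subtype_injective] at h
    exact S.ne_bot_of_dvd_card hN h
  have hNR : Subgroup.normalizer (R : Set G) ≤ H := hse'.normalizer_le hRH hRp hRne
  have hfr : Subgroup.normalizer (R : Set G) ⊔ N = ⊤ := Sylow.normalizer_sup_eq_top S
  have hrel : ¬ p ∣ R.relIndex N := by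
    rw [hRe, Subgroup.inf_relIndex_right]
    exact not_dvd_relIndex_of_normal P N
  have hNle : N ≤ R ⊔ residualOf p N := le_sup_residualOf p N R hrel
  rw [eq_top_iff, ← hfr]
  refine sup_le (hNR.trans le_sup_left) (hNle.trans ?_)
  exact sup_le (hRH.trans le_sup_left) le_sup_right

end Cfsg.Agent.S3059
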