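import Cfsg.Statements.S3060
import Mathlib
import Cfsg.Agent.S3062
import Cfsg.Agent.S0653
import Cfsg.Agent.Lib.Helper4_PCore
import Cfsg.Agent.Lib.Lead_SZ

set_option autoImplicit false
open Cfsg

namespace Cfsg.Agent.S3060

open Cfsg.Agent.Lib.Helper4_PCore
open scoped commutatorElement

theorem map_conj_normal {G : Type*} [Group G] (W : Subgroup G) [hW : W.Normal] (g : G) :
    W.map (MulAut.conj g).toMonoidHom = W := by
  apply le_antisymm
  · rintro _ ⟨w, hw, rfl⟩
    exact hW.conj_mem w hw g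
  · intro w hw
    refine ⟨g⁻¹ * w * g, ?_, ?_⟩
    · have := hW.conj_mem w hw g⁻¹
      rwa [inv_inv] at this
    · show g * (g⁻¹ * w * g) * g⁻¹ = w
      group


/-- The D*-Theorem. For a finite p-group S let D*(S) be the subgroup generated by the abelian subgroups A of S such that every x ∈ S with ⟨A, x⟩ of nilpotency class at most two centralizes A. Let p be an odd prime and H a finite p-stable group with Sylow p-subgroup S. Here H is p-stable in the following sense: the largest normal p-subgroup O_p(H) contains its centralizer in H, and for every normal p-subgroup P of H, every element acting quadratically on P has image in O_p(H/C_H(P)). Then D*(S) is a normal subgroup of H. -/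
theorem result {G : Type*} [Group G] [Finite G] {p : ℕ} [Fact p.Prime] (hp : p ≠ 2)
    (hc : Subgroup.centralizer (Cfsg.pCore p G : Set G) ≤ Cfsg.pCore p G)
    (hst : ∀ (P : Subgroup G) [P.Normal], IsPGroup p P → Cfsg.IsPStableOn p P) (S : Sylow p G) :
    (Cfsg.dStarOf (S : Subgroup G)).Normal := by
  classical
  have hSp : IsPGroup p ↥(S : Subgroup G) := S.isPGroup'
  obtain ⟨-, hDJ, -⟩ := Cfsg.Agent.S3062.result hSp
  haveI hDn' : (Cfsg.dStar ↥(S : Subgroup G)).Normal := Cfsg.Agent.S3062.dStar_normal _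
  have hDc' : ∀ a ∈ Cfsg.dStar ↥(S : Subgroup G), ∀ b ∈ Cfsg.dStar ↥(S : Subgroup G),
      a * b = b * a := by
    intro a ha b hb
    have h1 := (hDJ ha).1
    have h2 := (hDJ hb).2
    exact Subgroup.mem_centralizer_iff.1 h2 a h1
  -- facts about `D`
  have hDS : Cfsg.dStarOf (S : Subgroup G) ≤ S := Subgroup.map_subtype_le _
  have hDconj : ∀ s ∈ (S : Subgroup G), ∀ d ∈ Cfsg.dStarOf (S : Subgroup G),
      s * d * s⁻¹ ∈ Cfsg.dStarOf (S : Subgroup G) := by
    rintro s hs _ ⟨d, hd, rfl⟩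
    exact ⟨⟨s, hs⟩ * d * ⟨s, hs⟩⁻¹, hDn'.conj_mem d hd ⟨s, hs⟩, rfl⟩
  have hDcomm : ∀ d ∈ Cfsg.dStarOf (S : Subgroup G), ∀ e ∈ Cfsg.dStarOf (S : Subgroup G),
      d * e = e * d := by
    rintro _ ⟨d, hd, rfl⟩ _ ⟨e, he, rfl⟩
    have := hDc' d hd e he
    exact congrArg (fun z : ↥(S : Subgroup G) => (z : G)) this
  have hDZ : Cfsg.dStarOf (S : Subgroup G) ≤ Cfsg.centerThompsonAOf (S : Subgroup G) := by
    rintro _ ⟨d, hd, rfl⟩
    have h1 := hDJ hd
    refine Subgroup.mem_inf.2 ⟨⟨d, h1.1, rfl⟩, ?_⟩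
    rw [Subgroup.mem_centralizer_iff]
    rintro _ ⟨j, hj, rfl⟩
    have := Subgroup.mem_centralizer_iff.1 h1.2 j hj
    exact congrArg (fun z : ↥(S : Subgroup G) => (z : G)) this
  -- the key property of `D`
  have hkey : ∀ t ∈ (S : Subgroup G),
      (∀ d ∈ Cfsg.dStarOf (S : Subgroup G),
        t * (d * t * d⁻¹ * t⁻¹) = (d * t * d⁻¹ * t⁻¹) * t) →
      ∀ d ∈ Cfsg.dStarOf (S : Subgroup G), d * t = t * d := by
    intro t ht hyp
    have hle : Cfsg.dStar ↥(S : Subgroup G) ≤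
        Subgroup.centralizer ({(⟨t, ht⟩ : ↥(S : Subgroup G))} : Set ↥(S : Subgroup G)) := by
      unfold Cfsg.dStar
      apply sSup_le
      intro A hA a ha
      have hAD : A ≤ Cfsg.dStar ↥(S : Subgroup G) := le_sSup hA
      have h1 := Cfsg.Agent.S3062.lemK hA (⟨t, ht⟩ : ↥(S : Subgroup G)) (by
        intro a ha u hu
        have hcD : a * ⟨t, ht⟩ * a⁻¹ * (⟨t, ht⟩ : ↥(S : Subgroup G))⁻¹ ∈
            Cfsg.dStar ↥(S : Subgroup G) := by
          have h5 := hDn'.conj_mem _ (Subgroup.inv_mem _ (hAD ha)) (⟨t, ht⟩ : ↥(S : Subgroup G))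
          have e : a * ⟨t, ht⟩ * a⁻¹ * (⟨t, ht⟩ : ↥(S : Subgroup G))⁻¹ =
              a * (⟨t, ht⟩ * a⁻¹ * (⟨t, ht⟩ : ↥(S : Subgroup G))⁻¹) := by group
          rw [e]
          exact Subgroup.mul_mem _ (hAD ha) h5
        rcases hu with hu | hu
        · exact hDc' _ hcD _ (hAD hu)
        · rw [hu]
          have h6 := hyp (a : G) ⟨a, hAD ha, rfl⟩
          apply Subtype.ext
          simp only [Subgroup.coe_mul, Subgroup.coe_inv]
          exact h6.symm) a ha
      rw [Subgroup.mem_centralizer_iff]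
      intro h hh
      rw [Set.mem_singleton_iff] at hh
      rw [hh]
      exact h1.symm
    rintro _ ⟨d, hd, rfl⟩
    have h2 := hle hd
    rw [Subgroup.mem_centralizer_iff] at h2
    have h3 := h2 ⟨t, ht⟩ rfl
    exact (congrArg (fun z : ↥(S : Subgroup G) => (z : G)) h3).symm
  -- `Z(J(S))` is an abelian normal subgroup containing `D`
  have hZchar := Cfsg.Agent.S0653.result hp hc hst S
  have hZn : (Cfsg.centerThompsonAOf (S : Subgroup G)).Normal := inferInstance
  have hZS : Cfsg.centerThompsonAOf (S : Subgroup G) ≤ S :=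
    inf_le_left.trans (Subgroup.map_subtype_le _)
  have hZc : ∀ a ∈ Cfsg.centerThompsonAOf (S : Subgroup G),
      ∀ b ∈ Cfsg.centerThompsonAOf (S : Subgroup G), a * b = b * a := by
    intro a ha b hb
    exact Subgroup.mem_centralizer_iff.1 hb.2 a ha.1
  -- a minimal such subgroup
  have hfin : {B : Subgroup G | B.Normal ∧ (∀ a ∈ B, ∀ b ∈ B, a * b = b * a) ∧
      Cfsg.dStarOf (S : Subgroup G) ≤ B ∧ B ≤ S}.Finite := Set.toFinite _
  obtain ⟨W, ⟨hWn, hWc, hDW, hWS⟩, hWmin⟩ := Set.exists_min_image _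
    (fun B : Subgroup G => Nat.card B) hfin ⟨_, hZn, hZc, hDZ, hZS⟩
  haveI := hWn
  have hWp : IsPGroup p W := S.isPGroup'.to_le hWS
  -- the quadratic elements
  obtain ⟨Q, hQ⟩ : ∃ Q : Set G, Q = {x : G | ⁅⁅W, Subgroup.zpowers x⁆, Subgroup.zpowers x⁆ = ⊥} :=
    ⟨_, rfl⟩
  have hQconj : ∀ x ∈ Q, ∀ g : G, g * x * g⁻¹ ∈ Q := by
    intro x hx g
    rw [hQ] at hx ⊢
    have hx' : ⁅⁅W, Subgroup.zpowers x⁆, Subgroup.zpowers x⁆ = ⊥ := hx
    show ⁅⁅W, Subgroup.zpowers (g * x * g⁻¹)⁆, Subgroup.zpowers (g * x * g⁻¹)⁆ = ⊥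
    have e1 : Subgroup.zpowers (g * x * g⁻¹) =
        (Subgroup.zpowers x).map (MulAut.conj g).toMonoidHom := by
      rw [MonoidHom.map_zpowers]
      rfl
    have e2 : ⁅⁅W, Subgroup.zpowers (g * x * g⁻¹)⁆, Subgroup.zpowers (g * x * g⁻¹)⁆ =
        (⁅⁅W, Subgroup.zpowers x⁆, Subgroup.zpowers x⁆).map (MulAut.conj g).toMonoidHom := by
      rw [Subgroup.map_commutator, Subgroup.map_commutator, map_conj_normal W g, ← e1]
    rw [e2, hx', Subgroup.map_bot]
  have hCn : (Subgroup.centralizer Q).Normal := by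
    constructor
    intro c hc' g
    rw [Subgroup.mem_centralizer_iff] at hc' ⊢
    intro x hx
    have h1 := hQconj x hx g⁻¹
    rw [inv_inv] at h1
    have h2 := hc' _ h1
    calc x * (g * c * g⁻¹) = g * ((g⁻¹ * x * g) * c) * g⁻¹ := by group
      _ = g * (c * (g⁻¹ * x * g)) * g⁻¹ := by rw [h2]
      _ = _ := by group
  -- `D` centralizes the quadratic elements
  have hDQ : Cfsg.dStarOf (S : Subgroup G) ≤ Subgroup.centralizer Q := by
    intro d hd
    rw [Subgroup.mem_centralizer_iff]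
    intro x hx
    have hx' : ⁅⁅W, Subgroup.zpowers x⁆, Subgroup.zpowers x⁆ = ⊥ := by
      rw [hQ] at hx; exact hx
    have pst := hst W hWp x hx'
    have hsyl := pCore_le_sylow (S.mapSurjective
      (QuotientGroup.mk'_surjective (Subgroup.centralizer (W : Set G)))) pst
    rw [Sylow.coe_mapSurjective] at hsyl
    obtain ⟨t, ht, hte⟩ := hsyl
    have hcW : t⁻¹ * x ∈ Subgroup.centralizer (W : Set G) := QuotientGroup.eq.1 hte
    have hact : ∀ w ∈ W, x * w * x⁻¹ = t * w * t⁻¹ := by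
      intro w hw
      have h1 := Subgroup.mem_centralizer_iff.1 hcW w hw
      calc x * w * x⁻¹ = t * ((t⁻¹ * x) * w) * (t⁻¹ * x)⁻¹ * t⁻¹ := by group
        _ = t * (w * (t⁻¹ * x)) * (t⁻¹ * x)⁻¹ * t⁻¹ := by rw [h1]
        _ = _ := by group
    have hquad : ∀ k ∈ ⁅W, Subgroup.zpowers x⁆, x * k = k * x := by
      intro k hk
      have h1 : ⁅k, x⁆ ∈ ⁅⁅W, Subgroup.zpowers x⁆, Subgroup.zpowers x⁆ :=
        Subgroup.commutator_mem_commutator hk (Subgroup.mem_zpowers x)
      rw [hx', Subgroup.mem_bot, commutatorElement_def] at h1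
      calc x * k = (k * x * k⁻¹ * x⁻¹)⁻¹ * (k * x) := by group
        _ = k * x := by rw [h1, inv_one, one_mul]
    have htD := hkey t ht (by
      intro e he
      have heW : e ∈ W := hDW he
      have heW' : e⁻¹ ∈ W := W.inv_mem heW
      have e1 : e * t * e⁻¹ * t⁻¹ = e * x * e⁻¹ * x⁻¹ := by
        have := hact e⁻¹ heW'
        calc e * t * e⁻¹ * t⁻¹ = e * (t * e⁻¹ * t⁻¹) := by group
          _ = e * (x * e⁻¹ * x⁻¹) := by rw [this]
          _ = _ := by group
      have hk : e * x * e⁻¹ * x⁻¹ ∈ ⁅W, Subgroup.zpowers x⁆ := by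
        have := Subgroup.commutator_mem_commutator heW (Subgroup.mem_zpowers x)
        rwa [commutatorElement_def] at this
      have hkW : e * x * e⁻¹ * x⁻¹ ∈ W := by
        have e2 : e * x * e⁻¹ * x⁻¹ = e * (x * e⁻¹ * x⁻¹) := by group
        rw [e2]
        exact W.mul_mem heW (hWn.conj_mem _ heW' x)
      rw [e1]
      have h3 := hquad _ hk
      have h4 := hact _ hkW
      -- t k t⁻¹ = x k x⁻¹ = k
      have h5 : t * (e * x * e⁻¹ * x⁻¹) * t⁻¹ = e * x * e⁻¹ * x⁻¹ := by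
        rw [← h4, h3]; group
      calc t * (e * x * e⁻¹ * x⁻¹) = (t * (e * x * e⁻¹ * x⁻¹) * t⁻¹) * t := by group
        _ = _ := by rw [h5])
    have h6 := htD d hd
    have h7 := Subgroup.mem_centralizer_iff.1 hcW d (hDW hd)
    calc x * d = t * ((t⁻¹ * x) * d) := by group
      _ = t * (d * (t⁻¹ * x)) := by rw [h7]
      _ = (t * d) * (t⁻¹ * x) := by group
      _ = (d * t) * (t⁻¹ * x) := by rw [h6]
      _ = _ := by group
  -- minimality: `W` centralizes the quadratic elements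
  have hWQ : W ≤ Subgroup.centralizer Q := by
    have hmem : (W ⊓ Subgroup.centralizer Q) ∈ {B : Subgroup G | B.Normal ∧
        (∀ a ∈ B, ∀ b ∈ B, a * b = b * a) ∧ Cfsg.dStarOf (S : Subgroup G) ≤ B ∧ B ≤ S} :=
      ⟨inferInstance, fun a ha b hb => hWc a ha.1 b hb.1, le_inf hDW hDQ, inf_le_left.trans hWS⟩
    have h1 := hWmin _ hmem
    have h2 : W ⊓ Subgroup.centralizer Q = W :=
      Cfsg.Agent.Lib.Lead_SZ.eq_of_le_of_card_eq inf_le_left
        (le_antisymm (Subgroup.card_le_of_le inf_le_left) h1)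
    exact inf_eq_left.1 h2
  -- `W` is a member of the family
  have hWfam : W.subgroupOf (S : Subgroup G) ∈ Cfsg.dStarFamily ↥(S : Subgroup G) := by
    refine ⟨⟨⟨fun a b => Subtype.ext (Subtype.ext (hWc _ (Subgroup.mem_subgroupOf.1 a.2) _
      (Subgroup.mem_subgroupOf.1 b.2)))⟩⟩, ?_⟩
    intro x hx a ha
    have h1 : (⁅⁅W.subgroupOf (S : Subgroup G) ⊔ Subgroup.zpowers x,
        W.subgroupOf (S : Subgroup G) ⊔ Subgroup.zpowers x⁆,
        W.subgroupOf (S : Subgroup G) ⊔ Subgroup.zpowers x⁆).map (S : Subgroup G).subtype = ⊥ := by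
      rw [hx, Subgroup.map_bot]
    rw [Subgroup.map_commutator, Subgroup.map_commutator, Subgroup.map_sup,
      Subgroup.map_subgroupOf_eq_of_le hWS, MonoidHom.map_zpowers] at h1
    have h2 : ⁅⁅W, Subgroup.zpowers (x : G)⁆, Subgroup.zpowers (x : G)⁆ = ⊥ := by
      rw [eq_bot_iff, ← h1]
      exact Subgroup.commutator_mono (Subgroup.commutator_mono le_sup_left le_sup_right)
        le_sup_right
    have hxQ : (x : G) ∈ Q := by rw [hQ]; exact h2
    have h3 := Subgroup.mem_centralizer_iff.1 (hWQ (Subgroup.mem_subgroupOf.1 ha)) _ hxQ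
    exact Subtype.ext h3.symm
  have hWD : W ≤ Cfsg.dStarOf (S : Subgroup G) := by
    have h1 : W.subgroupOf (S : Subgroup G) ≤ Cfsg.dStar ↥(S : Subgroup G) := le_sSup hWfam
    have h2 := Subgroup.map_mono (f := (S : Subgroup G).subtype) h1
    rwa [Subgroup.map_subgroupOf_eq_of_le hWS] at h2
  have heq : Cfsg.dStarOf (S : Subgroup G) = W := le_antisymm hDW hWD
  rw [heq]
  exact hWn

end Cfsg.Agent.S3060
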