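import Mathlib
import Cfsg.Statements.S3061
import Cfsg.Agent.Lib.Helper5_CD

set_option autoImplicit false
open Cfsg

namespace Cfsg.Agent.S3061

open Cfsg.Agent.Lib.Helper5_CD
open Subgroup

variable {S : Type*} [Group S]

/-- members of the family are centralized by `x` once `⟨D, x⟩` has class at most two, for any
  `D` containing them -/
theorem comm_of_class_two {A D : Subgroup S} (hA : A ∈ Cfsg.dStarFamily S) (hAD : A ≤ D) (x : S)
    (h : ⁅⁅D ⊔ zpowers x, D ⊔ zpowers x⁆, D ⊔ zpowers x⁆ = ⊥) : ∀ a ∈ A, a * x = x * a := by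
  apply hA.2 x
  rw [eq_bot_iff, ← h]
  have hle : A ⊔ zpowers x ≤ D ⊔ zpowers x := sup_le_sup_right hAD _
  exact Subgroup.commutator_mono (Subgroup.commutator_mono hle hle) hle

theorem forall_comm_of_family {x : S}
    (h : ∀ A ∈ Cfsg.dStarFamily S, ∀ a ∈ A, a * x = x * a) : ∀ a ∈ Cfsg.dStar S, a * x = x * a := by
  have hle : Cfsg.dStar S ≤ centralizer ({x} : Set S) := by
    unfold Cfsg.dStar
    apply sSup_le
    intro A hA a ha
    rw [mem_centralizer_iff]
    intro y hy
    rw [Set.mem_singleton_iff] at hy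
    rw [hy]
    exact (h A hA a ha).symm
  intro a ha
  have := hle ha
  rw [mem_centralizer_iff] at this
  exact (this x rfl).symm

/-- the key class-two computation inside a group `D` -/
theorem class_two_of_central_mod_center {D : Type*} [Group D] (A : Subgroup D)
    (hA : ∀ a ∈ A, ∀ b ∈ A, a * b = b * a) (x : D)
    (hx : ∀ d : D, x * d * x⁻¹ * d⁻¹ ∈ center D) :
    ⁅⁅A ⊔ zpowers x, A ⊔ zpowers x⁆, A ⊔ zpowers x⁆ = ⊥ := by
  set K := A ⊔ zpowers x with hK
  set π := QuotientGroup.mk' (center D) with hπ
  have hxc : π x ∈ center (D ⧸ center D) := by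
    rw [mem_center_iff]
    intro q
    obtain ⟨d, rfl⟩ := QuotientGroup.mk'_surjective (center D) q
    have h1 := hx d
    have h2 : π (x * d * x⁻¹ * d⁻¹) = 1 := (QuotientGroup.eq_one_iff _).mpr h1
    rw [map_mul, map_mul, map_mul, map_inv, map_inv] at h2
    have h3 : π x * π d * (π x)⁻¹ = π d := by
      rw [mul_inv_eq_one] at h2; exact h2
    calc π d * π x = (π x * π d * (π x)⁻¹) * π x := by rw [h3]
      _ = π x * π d := by group
  have hKmap : K.map π ≤ centralizer ((K.map π : Subgroup (D ⧸ center D)) : Set (D ⧸ center D)) := by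
    rw [hK, Subgroup.map_sup, MonoidHom.map_zpowers, centralizer_sup]
    apply sup_le
    · apply le_inf
      · rintro _ ⟨a, ha, rfl⟩
        rw [mem_centralizer_iff]
        rintro _ ⟨b, hb, rfl⟩
        rw [← map_mul, ← map_mul, hA b hb a ha]
      · rintro _ ⟨a, _, rfl⟩
        rw [mem_centralizer_iff]
        intro y hy
        rw [SetLike.mem_coe] at hy
        obtain ⟨k, rfl⟩ := mem_zpowers_iff.mp hy
        have h1 : Commute (π x) (π a) := (mem_center_iff.mp hxc (π a)).symm
        exact (h1.zpow_left k)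
    · rw [zpowers_le]
      have : π x ∈ centralizer (Set.univ : Set (D ⧸ center D)) := by
        rw [Subgroup.centralizer_univ]; exact hxc
      exact mem_inf.mpr ⟨Subgroup.centralizer_le (Set.subset_univ _) this,
        Subgroup.centralizer_le (Set.subset_univ _) this⟩
  have h1 : (⁅K, K⁆).map π = ⊥ := by
    rw [Subgroup.map_commutator, Subgroup.commutator_eq_bot_iff_le_centralizer]
    exact hKmap
  have h2 : ⁅K, K⁆ ≤ center D := by
    have := (Subgroup.map_eq_bot_iff _).mp h1
    rwa [QuotientGroup.ker_mk'] at this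
  rw [eq_bot_iff]
  refine le_trans (Subgroup.commutator_mono h2 (le_top : K ≤ ⊤)) ?_
  rw [le_bot_iff, Subgroup.commutator_eq_bot_iff_le_centralizer, Subgroup.coe_top,
    Subgroup.centralizer_univ]

/-- Let S be a finite p-group. Then D*(S) itself belongs to the family that generates it: D*(S) is abelian, and every x ∈ S with ⟨D*(S), x⟩ of class at most two centralizes D*(S). Hence D*(S) is the unique maximal member of that family. -/
theorem result {S : Type*} [Group S] [Finite S] {p : ℕ} [Fact p.Prime] (hS : IsPGroup p S) :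
    Cfsg.dStar S ∈ Cfsg.dStarFamily S := by
  set D := Cfsg.dStar S with hD
  have hAD : ∀ A ∈ Cfsg.dStarFamily S, A ≤ D := fun A hA => le_sSup hA
  refine ⟨?_, ?_⟩
  · -- commutativity
    by_contra hcomm
    have hDp : IsPGroup p ↥D := hS.to_subgroup D
    have hex : ∃ a : ↥D, a ∉ center ↥D := by
      by_contra hcon
      push Not at hcon
      apply hcomm
      constructor
      constructor
      intro a b
      exact (mem_center_iff.mp (hcon b) a)
    obtain ⟨a, ha⟩ := hex
    have hne : (QuotientGroup.mk' (center ↥D) a) ≠ 1 := by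
      intro h
      exact ha ((QuotientGroup.eq_one_iff a).mp h)
    haveI : Nontrivial (↥D ⧸ center ↥D) := nontrivial_of_ne _ _ hne
    have hQp : IsPGroup p (↥D ⧸ center ↥D) := hDp.to_quotient (center ↥D)
    have hcn := hQp.center_nontrivial
    obtain ⟨⟨z, hz⟩, hz1⟩ := exists_ne (1 : center (↥D ⧸ center ↥D))
    obtain ⟨x', rfl⟩ := QuotientGroup.mk'_surjective (center ↥D) z
    have hx'nc : x' ∉ center ↥D := by
      intro h
      apply hz1
      apply Subtype.ext
      exact (QuotientGroup.eq_one_iff x').mpr h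
    -- `[x', d] ∈ Z(D)`
    have hx'2 : ∀ d : ↥D, x' * d * x'⁻¹ * d⁻¹ ∈ center ↥D := by
      intro d
      rw [← QuotientGroup.eq_one_iff]
      have h1 := mem_center_iff.mp hz (QuotientGroup.mk' (center ↥D) d)
      have : ((x' * d * x'⁻¹ * d⁻¹ : ↥D) : ↥D ⧸ center ↥D) =
          (QuotientGroup.mk' (center ↥D) x') * (QuotientGroup.mk' (center ↥D) d) *
          (QuotientGroup.mk' (center ↥D) x')⁻¹ * (QuotientGroup.mk' (center ↥D) d)⁻¹ := by
        simp
      rw [this, ← h1]
      group
    -- every member of the family commutes with `x`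
    have hall : ∀ A ∈ Cfsg.dStarFamily S, ∀ a ∈ A, a * (x' : S) = (x' : S) * a := by
      intro A hA
      apply hA.2 (x' : S)
      have hA' : ∀ a ∈ A.subgroupOf D, ∀ b ∈ A.subgroupOf D, a * b = b * a := by
        intro a ha b hb
        apply Subtype.ext
        show (a : S) * (b : S) = (b : S) * (a : S)
        have := congrArg Subtype.val
          (hA.1.is_comm.comm ⟨(a : S), mem_subgroupOf.mp ha⟩ ⟨(b : S), mem_subgroupOf.mp hb⟩)
        exact this
      have h1 := class_two_of_central_mod_center (A.subgroupOf D) hA' x' hx'2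
      have h2 : A ⊔ zpowers (x' : S) = (A.subgroupOf D ⊔ zpowers x').map D.subtype := by
        rw [Subgroup.map_sup, subgroupOf_map_subtype, MonoidHom.map_zpowers,
          inf_eq_left.mpr (hAD A hA)]
        rfl
      rw [h2, ← Subgroup.map_commutator, ← Subgroup.map_commutator, h1, Subgroup.map_bot]
    have hx'c := forall_comm_of_family hall
    apply hx'nc
    rw [mem_center_iff]
    intro d
    apply Subtype.ext
    exact hx'c (d : S) d.2
  · intro x hx
    apply forall_comm_of_family
    intro A hA
    exact comm_of_class_two hA (hAD A hA) x hx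

end Cfsg.Agent.S3061
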