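import Cfsg.Statements.S3063
import Cfsg.Agent.Lib.Helper3_Replacement
import Cfsg.Agent.Lib.Helper4_PIrred

set_option autoImplicit false
open Cfsg

namespace Cfsg.Agent.S3063

theorem le_normalizer_sup {G : Type*} [Group G] (K X₁ X₂ : Subgroup G)
    (h1 : K ≤ Subgroup.normalizer (X₁ : Set G)) (h2 : K ≤ Subgroup.normalizer (X₂ : Set G)) :
    K ≤ Subgroup.normalizer ((X₁ ⊔ X₂ : Subgroup G) : Set G) := by
  apply Cfsg.Agent.Lib.Helper4_PIrred.le_normalizer_of_conj_mem'
  intro g hg w hw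
  have h : X₁ ⊔ X₂ ≤ (X₁ ⊔ X₂).comap (MulAut.conj g).toMonoidHom := by
    apply sup_le
    · intro y hy
      rw [Subgroup.mem_comap]
      exact Subgroup.mem_sup_left ((Subgroup.mem_normalizer_iff.mp (h1 hg) y).mp hy)
    · intro y hy
      rw [Subgroup.mem_comap]
      exact Subgroup.mem_sup_right ((Subgroup.mem_normalizer_iff.mp (h2 hg) y).mp hy)
  exact h hw

theorem card_sup_mul_card_inf {G : Type*} [Group G] [Finite G] (X Y : Subgroup G)
    (hn : Y ≤ Subgroup.normalizer (X : Set G)) :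
    Nat.card ↥(X ⊔ Y) * Nat.card ↥(X ⊓ Y) = Nat.card ↥X * Nat.card ↥Y := by
  have h1 : X.relIndex (Y ⊔ X) = X.relIndex Y := by
    have i1 := Subgroup.normal_subgroupOf_of_le_normalizer hn
    have i2 := Subgroup.normal_subgroupOf_sup_of_le_normalizer hn
    exact (Nat.card_congr (QuotientGroup.quotientInfEquivProdNormalizerQuotient Y X hn).toEquiv).symm
  have h3 : Nat.card (X.subgroupOf (X ⊔ Y)) * X.relIndex (X ⊔ Y) = Nat.card (X ⊔ Y : Subgroup G) :=
    Subgroup.card_mul_index _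
  have h4 : Nat.card (X.subgroupOf (X ⊔ Y)) = Nat.card ↥X :=
    Nat.card_congr (Subgroup.subgroupOfEquivOfLe le_sup_left).toEquiv
  have h5 : Nat.card ↥(X ⊓ Y) * X.relIndex Y = Nat.card ↥Y := by
    have := Subgroup.relIndex_mul_relIndex ⊥ (X ⊓ Y) Y bot_le inf_le_right
    rwa [Subgroup.relIndex_bot_left, Subgroup.relIndex_bot_left, Subgroup.inf_relIndex_right] at this
  rw [← h3, h4, sup_comm, h1, ← h5]
  ring

/-- A weak replacement Theorem for metabelian p-groups: let S be a finite p-group whose derived subgroup is abelian and A an abelian subgroup of S of largest possible order. Then the normal closure of A in S contains an abelian subgroup B of the same order as A that is normal in S. -/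
theorem result {S : Type*} [Group S] [Finite S] {p : ℕ} [Fact p.Prime]
    (hS : IsPGroup p S) (hmeta : IsMulCommutative ↥(commutator S))
    (A : Subgroup S) (hA : A ∈ Cfsg.maxAbelianSubgroups S) :
    ∃ B ∈ Cfsg.maxAbelianSubgroups S, B.Normal ∧ B ≤ Subgroup.normalClosure (A : Set S) := by
  classical
  obtain ⟨V, hVdef⟩ : ∃ V : Subgroup S, V = commutator S := ⟨_, rfl⟩
  have hVc : V ≤ Subgroup.centralizer (V : Set S) := by
    rw [hVdef]; exact Subgroup.le_centralizer_iff_isMulCommutative.mpr hmeta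
  haveI hVn : V.Normal := by rw [hVdef]; infer_instance
  obtain ⟨N, hN⟩ : ∃ N : Subgroup S, N = Subgroup.normalClosure (A : Set S) := ⟨_, rfl⟩
  haveI hNn : N.Normal := by rw [hN]; infer_instance
  have hfin : {B : Subgroup S | B ∈ Cfsg.maxAbelianSubgroups S ∧ B ≤ N}.Finite := Set.toFinite _
  have hne : {B : Subgroup S | B ∈ Cfsg.maxAbelianSubgroups S ∧ B ≤ N}.Nonempty :=
    ⟨A, hA, by rw [hN]; exact Subgroup.le_normalClosure⟩
  obtain ⟨B, ⟨hB, hBN⟩, hmax⟩ := Set.exists_max_image _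
    (fun B : Subgroup S => Nat.card ↥(B ⊓ V)) hfin hne
  refine ⟨B, hB, ?_, by rw [← hN]; exact hBN⟩
  have hBc : B ≤ Subgroup.centralizer (B : Set S) :=
    Subgroup.le_centralizer_iff_isMulCommutative.mpr hB.1
  constructor
  intro b hb x
  obtain ⟨B', hB'def⟩ : ∃ B' : Subgroup S, B' = B.map (MulAut.conj x).toMonoidHom := ⟨_, rfl⟩
  have hB'N : B' ≤ N := by
    rw [hB'def]
    rintro _ ⟨c, hc, rfl⟩
    exact hNn.conj_mem _ (hBN hc) x
  have hB'card : Nat.card ↥B' = Nat.card ↥B := by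
    rw [hB'def]
    exact Subgroup.card_map_of_injective (MulAut.conj x).injective
  have hB'c : B' ≤ Subgroup.centralizer (B' : Set S) := by
    rw [hB'def]
    rintro _ ⟨c, hc, rfl⟩
    refine Subgroup.mem_centralizer_iff.mpr ?_
    rintro _ ⟨d, hd, rfl⟩
    have h1 := Subgroup.mem_centralizer_iff.mp (hBc hc) d hd
    simp only [MulEquiv.coe_toMonoidHom]
    rw [← map_mul, ← map_mul, h1]
  have hxb : x * b * x⁻¹ ∈ B' := by rw [hB'def]; exact ⟨b, hb, rfl⟩
  obtain ⟨H, hHdef⟩ : ∃ H : Subgroup S, H = B ⊔ B' := ⟨_, rfl⟩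
  obtain ⟨Z, hZdef⟩ : ∃ Z : Subgroup S, Z = B ⊓ B' := ⟨_, rfl⟩
  obtain ⟨Y, hYdef⟩ : ∃ Y : Subgroup S, Y = Z ⊔ (H ⊓ V) := ⟨_, rfl⟩
  have hBH : B ≤ H := by rw [hHdef]; exact le_sup_left
  have hB'H : B' ≤ H := by rw [hHdef]; exact le_sup_right
  have hZB : Z ≤ B := by rw [hZdef]; exact inf_le_left
  have hZB' : Z ≤ B' := by rw [hZdef]; exact inf_le_right
  have hHZ : H ≤ Subgroup.centralizer (Z : Set S) := by
    rw [hHdef]
    apply sup_le
    · exact hBc.trans (Subgroup.centralizer_le (by exact_mod_cast hZB))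
    · exact hB'c.trans (Subgroup.centralizer_le (by exact_mod_cast hZB'))
  have hZH : Z ≤ Subgroup.centralizer (H : Set S) := Subgroup.le_centralizer_iff.mp hHZ
  have hYc : Y ≤ Subgroup.centralizer (Y : Set S) := by
    rw [hYdef, Cfsg.Agent.Lib.Helper3_Replacement.centralizer_sup]
    apply sup_le
    · apply le_inf
      · exact (hZB.trans hBH).trans hHZ
      · exact hZH.trans (Subgroup.centralizer_le (by exact_mod_cast (inf_le_left : H ⊓ V ≤ H)))
    · apply le_inf
      · exact inf_le_left.trans hHZ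
      · exact (inf_le_right.trans hVc).trans
          (Subgroup.centralizer_le (by exact_mod_cast (inf_le_right : H ⊓ V ≤ V)))
  have hYcomm : IsMulCommutative ↥Y := Subgroup.le_centralizer_iff_isMulCommutative.mp hYc
  have hYN : Y ≤ N := by
    rw [hYdef]
    apply sup_le (hZB.trans hBN)
    refine inf_le_left.trans ?_
    rw [hHdef]
    exact sup_le hBN hB'N
  -- `B'` normalizes `Y`
  have hB'Y : B' ≤ Subgroup.normalizer (Y : Set S) := by
    rw [hYdef]
    apply le_normalizer_sup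
    · exact (hB'H.trans hHZ).trans (Subgroup.centralizer_le_normalizer _)
    · apply Cfsg.Agent.Lib.Helper4_PIrred.le_normalizer_of_conj_mem'
      intro g hg w hw
      exact ⟨Subgroup.mul_mem _ (Subgroup.mul_mem _ (hB'H hg) hw.1) (Subgroup.inv_mem _ (hB'H hg)),
        hVn.conj_mem w hw.2 g⟩
  -- commutators
  have hcomm : ∀ c ∈ B, x * c * x⁻¹ * c⁻¹ ∈ H ⊓ V := by
    intro c hc
    refine ⟨?_, ?_⟩
    · apply Subgroup.mul_mem _ _ (Subgroup.inv_mem _ (hBH hc))
      apply hB'H
      rw [hB'def]; exact ⟨c, hc, rfl⟩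
    · rw [hVdef, commutator_def]
      have := Subgroup.commutator_mem_commutator (Subgroup.mem_top x) (Subgroup.mem_top c)
      rwa [commutatorElement_def] at this
  -- `Y ⊔ B' = H`
  have hYB' : Y ⊔ B' = H := by
    apply le_antisymm
    · apply sup_le _ hB'H
      rw [hYdef]
      exact sup_le (hZB.trans hBH) inf_le_left
    · rw [hHdef]
      apply sup_le _ le_sup_right
      intro c hc
      have h1 : c = (x * c * x⁻¹ * c⁻¹)⁻¹ * (x * c * x⁻¹) := by group
      rw [h1]
      apply Subgroup.mul_mem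
      · apply Subgroup.inv_mem
        apply Subgroup.mem_sup_left
        rw [hYdef]
        exact Subgroup.mem_sup_right (hcomm c hc)
      · apply Subgroup.mem_sup_right
        rw [hB'def]; exact ⟨c, hc, rfl⟩
  -- counting
  have hc1 := card_sup_mul_card_inf Y B' hB'Y
  rw [hYB'] at hc1
  have hc2 := Cfsg.Agent.Lib.Helper3_Replacement.card_mul_card_le B B'
  rw [← hZdef, ← hHdef] at hc2
  have hc3 : Nat.card ↥Z ≤ Nat.card ↥(Y ⊓ B') := by
    apply Subgroup.card_le_of_le
    apply le_inf _ hZB'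
    rw [hYdef]; exact le_sup_left
  have hYa : Nat.card ↥B ≤ Nat.card ↥Y := by
    have hpos : 0 < Nat.card ↥B := Nat.card_pos
    have h1 : Nat.card ↥B * Nat.card ↥B ≤ Nat.card ↥Y * Nat.card ↥B := by
      calc Nat.card ↥B * Nat.card ↥B = Nat.card ↥B * Nat.card ↥B' := by rw [hB'card]
        _ ≤ Nat.card ↥Z * Nat.card ↥H := hc2
        _ ≤ Nat.card ↥(Y ⊓ B') * Nat.card ↥H := Nat.mul_le_mul_right _ hc3
        _ = Nat.card ↥H * Nat.card ↥(Y ⊓ B') := mul_comm _ _
        _ = Nat.card ↥Y * Nat.card ↥B' := hc1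
        _ = Nat.card ↥Y * Nat.card ↥B := by rw [hB'card]
    exact Nat.le_of_mul_le_mul_right h1 hpos
  have hYA : Y ∈ Cfsg.maxAbelianSubgroups S :=
    ⟨hYcomm, fun C hC => (hB.2 C hC).trans hYa⟩
  have h2 := hmax Y ⟨hYA, hYN⟩
  have h3 : B ⊓ V = H ⊓ V := by
    apply Subgroup.eq_of_le_of_card_ge (inf_le_inf_right V hBH)
    refine le_trans ?_ h2
    apply Subgroup.card_le_of_le
    apply le_inf _ inf_le_right
    rw [hYdef]; exact le_sup_right
  have h4 := hcomm b hb
  rw [← h3] at h4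
  have h5 : x * b * x⁻¹ = (x * b * x⁻¹ * b⁻¹) * b := by group
  rw [h5]
  exact Subgroup.mul_mem _ h4.1 hb

end Cfsg.Agent.S3063
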