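import Cfsg.Statements.S3064
import Mathlib
import Cfsg.Agent.S0035
import Cfsg.Agent.Lib.Helper5_WC

set_option autoImplicit false
open Cfsg

namespace Cfsg.Agent.S3064

open Cfsg.Agent.Lib.Helper5_WC

universe u

variable {p : ℕ} [Fact p.Prime]

/-- the hypotheses of the statement, bundled -/
def Hyp {G : Type u} [Group G] (S : Sylow p G) (x : G) : Prop :=
  x ∈ S ∧ (∀ g : G, g⁻¹ * x * g ∈ S → g⁻¹ * x * g = x) ∧
  (∀ H : Subgroup G, (Nat.card H).Coprime p → (∀ h ∈ H, x * h * x⁻¹ ∈ H) → ∀ h ∈ H, x * h = h * x)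

/-- two conjugates of `x` in a common Sylow subgroup coincide -/
theorem conj_unique {G : Type u} [Group G] [Finite G] {S : Sylow p G} {x : G} (h : Hyp S x)
    (Q : Sylow p G) (g : G) (hxQ : x ∈ Q) (hyQ : g⁻¹ * x * g ∈ Q) : g⁻¹ * x * g = x := by
  obtain ⟨a, ha⟩ := MulAction.exists_smul_eq G S Q
  have hQ : (Q : Subgroup G) = cj a (S : Subgroup G) := by rw [← ha]; rfl
  have h1 : a⁻¹ * x * a ∈ (S : Subgroup G) := by
    have : x ∈ cj a (S : Subgroup G) := hQ ▸ hxQ
    exact mem_cj.mp this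
  have h2 : a⁻¹ * (g⁻¹ * x * g) * a ∈ (S : Subgroup G) := by
    have : g⁻¹ * x * g ∈ cj a (S : Subgroup G) := hQ ▸ hyQ
    exact mem_cj.mp this
  have e1 := h.2.1 a h1
  have h2' : (g * a)⁻¹ * x * (g * a) ∈ (S : Subgroup G) := by
    have : (g * a)⁻¹ * x * (g * a) = a⁻¹ * (g⁻¹ * x * g) * a := by group
    rw [this]; exact h2
  have e2 := h.2.1 (g * a) h2'
  have e3 : a⁻¹ * (g⁻¹ * x * g) * a = a⁻¹ * x * a :=
    calc a⁻¹ * (g⁻¹ * x * g) * a = (g * a)⁻¹ * x * (g * a) := by group
      _ = x := e2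
      _ = a⁻¹ * x * a := e1.symm
  exact mul_left_cancel (mul_right_cancel e3)

theorem isPGroup_zpowers {G : Type u} [Group G] (S : Sylow p G) {x : G} (hx : x ∈ S) :
    ∃ k : ℕ, orderOf x = p ^ k := by
  obtain ⟨k, hk⟩ := (IsPGroup.iff_orderOf.mp S.isPGroup') ⟨x, hx⟩
  exact ⟨k, by rw [← hk, Subgroup.orderOf_mk]⟩

/-- the hypotheses pass to subgroups containing `x` -/
theorem hyp_sub {G : Type u} [Group G] [Finite G] {S : Sylow p G} {x : G} (h : Hyp S x)
    (H : Subgroup G) (hxH : x ∈ H) : ∃ T : Sylow p H, Hyp T (⟨x, hxH⟩ : H) := by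
  obtain ⟨k, hk⟩ := isPGroup_zpowers S h.1
  have hxp : IsPGroup p (Subgroup.zpowers (⟨x, hxH⟩ : H)) := by
    apply IsPGroup.of_card (n := k)
    rw [Nat.card_zpowers, ← hk]
    exact (Subgroup.orderOf_mk x hxH)
  obtain ⟨T, hT⟩ := hxp.exists_le_sylow
  have hTp : IsPGroup p ((T : Subgroup H).map H.subtype) := IsPGroup.map T.isPGroup' H.subtype
  obtain ⟨Q, hQ⟩ := hTp.exists_le_sylow
  have hxT : (⟨x, hxH⟩ : H) ∈ T := hT (Subgroup.mem_zpowers _)
  refine ⟨T, hxT, ?_, ?_⟩
  · intro g hg
    have hxQ : x ∈ Q := hQ ⟨⟨x, hxH⟩, hxT, rfl⟩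
    have hyQ : (g : G)⁻¹ * x * (g : G) ∈ Q := hQ ⟨_, hg, rfl⟩
    have := conj_unique h Q (g : G) hxQ hyQ
    exact Subtype.ext this
  · intro K hK hnorm k hk
    have hcard : Nat.card (K.map H.subtype) = Nat.card K :=
      Subgroup.card_map_of_injective H.subtype_injective
    have := h.2.2 (K.map H.subtype) (by rw [hcard]; exact hK) (by
      rintro _ ⟨k', hk', rfl⟩
      exact ⟨_, hnorm k' hk', rfl⟩) (k : G) ⟨k, hk, rfl⟩
    exact Subtype.ext this

/-- if the `p`-elements of a normal subgroup `K` are central and `x` centralises the `p'`-subgroups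
it normalises, then `x` centralises `K`. -/
theorem comm_of_central_p {G : Type u} [Group G] [Finite G] (K : Subgroup G) [hKn : K.Normal] (x : G)
    (hcent : ∀ k ∈ K, ∀ m : ℕ, k ^ (p ^ m) = 1 → k ∈ Subgroup.center G)
    (hb : ∀ H : Subgroup G, (Nat.card H).Coprime p → (∀ h ∈ H, x * h * x⁻¹ ∈ H) →
      ∀ h ∈ H, x * h = h * x) :
    ∀ k ∈ K, x * k = k * x := by
  obtain ⟨P⟩ : Nonempty (Sylow p K) := inferInstance
  have hPc : ∀ a ∈ P, ((a : K) : G) ∈ Subgroup.center G := by
    intro a ha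
    obtain ⟨m, hm⟩ := (P.isPGroup' ⟨a, ha⟩)
    have hm' : (a : K) ^ (p ^ m) = 1 := by
      have := congrArg Subtype.val hm
      simpa using this
    apply hcent _ a.2 m
    have := congrArg Subtype.val hm'
    simpa using this
  have hPn : (P : Subgroup K).Normal := by
    constructor
    intro a ha g
    have hc := hPc a ha
    rw [Subgroup.mem_center_iff] at hc
    have : g * a * g⁻¹ = a := by
      apply Subtype.ext
      have := hc (g : G)
      simp only [Subgroup.coe_mul, Subgroup.coe_inv]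
      rw [this, mul_inv_cancel_right]
    rw [this]; exact ha
  have hcop : Nat.Coprime (Nat.card (P : Subgroup K)) (P : Subgroup K).index := P.card_coprime_index
  obtain ⟨Q₀, hQ₀⟩ := Subgroup.exists_right_complement'_of_coprime hcop
  have hQcard : Nat.card Q₀ = (P : Subgroup K).index := by
    have := hQ₀.symm.index_eq_card
    exact this.symm
  have hQcop : (Nat.card Q₀).Coprime p := by
    rw [hQcard]
    exact (Nat.Prime.coprime_iff_not_dvd Fact.out).mpr P.not_dvd_index |>.symm
  have hQpow : ∀ b ∈ Q₀, (b : K) ^ (Nat.card Q₀) = 1 := by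
    intro b hb
    have h := pow_card_eq_one' (G := Q₀) (x := ⟨b, hb⟩)
    have h2 : ((⟨b, hb⟩ : Q₀) ^ Nat.card Q₀ : Q₀).1 = (1 : Q₀).1 := congrArg Subtype.val h
    simpa only [Subgroup.coe_pow, Subgroup.coe_one] using h2
  -- decomposition
  have hdec : ∀ k : K, ∃ a ∈ P, ∃ b ∈ Q₀, k = a * b := by
    intro k
    obtain ⟨⟨a, b⟩, hab, -⟩ := (Subgroup.isComplement'_def.mp hQ₀).existsUnique k
    exact ⟨a.1, a.2, b.1, b.2, hab.symm⟩
  -- Q as a subgroup of G
  set Q := Q₀.map K.subtype with hQ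
  have hQc : Nat.card Q = Nat.card Q₀ := Subgroup.card_map_of_injective K.subtype_injective
  have hnormQ : ∀ h ∈ Q, x * h * x⁻¹ ∈ Q := by
    rintro _ ⟨b, hb, rfl⟩
    have hK : x * (b : G) * x⁻¹ ∈ K := hKn.conj_mem _ b.2 x
    obtain ⟨a', ha', b', hb', hk⟩ := hdec ⟨_, hK⟩
    have hcomm : Commute a' b' := by
      have hc := hPc a' ha'
      rw [Subgroup.mem_center_iff] at hc
      apply Subtype.ext
      exact (hc (b' : G)).symm
    have h1 : (⟨_, hK⟩ : K) ^ (Nat.card Q₀) = 1 := by
      apply Subtype.ext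
      simp only [Subgroup.coe_pow, Subgroup.coe_one]
      rw [conj_pow]
      have := congrArg Subtype.val (hQpow b hb)
      simp only [Subgroup.coe_pow, Subgroup.coe_one] at this
      rw [this]; group
    rw [hk, hcomm.mul_pow, hQpow b' hb', mul_one] at h1
    -- a' ^ card Q₀ = 1, a' p-element
    obtain ⟨m, hm⟩ := (P.isPGroup' ⟨a', ha'⟩)
    have hm' : a' ^ (p ^ m) = 1 := by
      have := congrArg Subtype.val hm
      simpa using this
    have hord1 : orderOf a' ∣ Nat.card Q₀ := orderOf_dvd_of_pow_eq_one h1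
    have hord2 : orderOf a' ∣ p ^ m := orderOf_dvd_of_pow_eq_one hm'
    have hcop' : Nat.Coprime (Nat.card Q₀) (p ^ m) := Nat.Coprime.pow_right m hQcop
    have : orderOf a' = 1 := Nat.eq_one_of_dvd_coprimes hcop' hord1 hord2
    have ha1 : a' = 1 := orderOf_eq_one_iff.mp this
    rw [ha1, one_mul] at hk
    refine ⟨b', hb', ?_⟩
    have := congrArg Subtype.val hk
    exact this.symm
  have hxQ := hb Q (by rw [hQc]; exact hQcop) hnormQ
  intro k hk
  obtain ⟨a, ha, b, hb', hkab⟩ := hdec ⟨k, hk⟩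
  have hk' : k = (a : G) * (b : G) := congrArg Subtype.val hkab
  have hc := hPc a ha
  rw [Subgroup.mem_center_iff] at hc
  have hxb := hxQ (b : G) ⟨b, hb', rfl⟩
  rw [hk', ← mul_assoc, hc x, mul_assoc, hxb, ← mul_assoc]

theorem main (n : ℕ) : ∀ (G : Type u) [Group G] [Finite G] (S : Sylow p G) (x : G),
    Nat.card G = n → Hyp S x → x ∈ Subgroup.center G := by
  induction n using Nat.strong_induction_on with
  | _ n ih =>
  intro G _ _ S x hn h
  by_contra hxZ
  -- Step A: `x` is central in every proper subgroup containing it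
  have stepA : ∀ H : Subgroup G, H ≠ ⊤ → x ∈ H → ∀ y ∈ H, y * x = x * y := by
    intro H hH hxH y hy
    obtain ⟨T, hT⟩ := hyp_sub h H hxH
    have hlt : Nat.card H < n := by
      rw [← hn]
      apply lt_of_le_of_ne (Subgroup.card_le_card_group H)
      intro he
      exact hH (Subgroup.card_eq_iff_eq_top H |>.mp he)
    have hz := ih (Nat.card H) hlt H T ⟨x, hxH⟩ rfl hT
    rw [Subgroup.mem_center_iff] at hz
    exact congrArg Subtype.val (hz ⟨y, hy⟩)
  set C : Subgroup G := Subgroup.centralizer {x} with hC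
  have memC : ∀ g : G, g ∈ C ↔ x * g = g * x := by
    intro g
    rw [hC, Subgroup.mem_centralizer_iff]
    simp
  have hSC : (S : Subgroup G) ≤ C := by
    intro s hs
    rw [memC]
    have h1 : s⁻¹ * x * s ∈ (S : Subgroup G) :=
      Subgroup.mul_mem _ (Subgroup.mul_mem _ (Subgroup.inv_mem _ hs) h.1) hs
    have h2 := h.2.1 s h1
    calc x * s = s * (s⁻¹ * x * s) := by group
      _ = s * x := by rw [h2]
  have hxC : x ∈ C := (memC x).mpr rfl
  -- TI property
  have hTI : ∀ g : G, g ∉ C → ∀ c : G, c ∈ C → g⁻¹ * c * g ∈ C → c ∈ Subgroup.center G := by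
    intro g hg c hc hc'
    set y := g * x * g⁻¹ with hy
    have hyx : y ≠ x := by
      intro he
      apply hg
      rw [memC]
      calc x * g = g * (g⁻¹ * x * g) := by group
        _ = g * (g⁻¹ * y * g) := by rw [he]
        _ = g * x := by rw [hy]; group
    have hD : Subgroup.closure ({x, y} : Set G) = ⊤ := by
      by_contra hD
      have hxD : x ∈ Subgroup.closure ({x, y} : Set G) := Subgroup.subset_closure (by simp)
      have hyD : y ∈ Subgroup.closure ({x, y} : Set G) := Subgroup.subset_closure (by simp)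
      have hcomm := stepA _ hD hxD y hyD
      obtain ⟨k, hk⟩ := isPGroup_zpowers S h.1
      have hpx : IsPGroup p (Subgroup.zpowers x) := by
        apply IsPGroup.of_card (n := k); rw [Nat.card_zpowers, hk]
      have hpy : IsPGroup p (Subgroup.zpowers y) := by
        apply IsPGroup.of_card (n := k)
        rw [Nat.card_zpowers, hy, ← MulAut.conj_apply, MulEquiv.orderOf_eq, hk]
      have hxcy : x ∈ Subgroup.centralizer (Subgroup.zpowers y : Set G) := by
        rw [Subgroup.mem_centralizer_iff]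
        intro w hw
        obtain ⟨m, rfl⟩ := Subgroup.mem_zpowers_iff.mp hw
        have hcm : Commute y x := hcomm
        exact (hcm.zpow_left m).eq
      have hnorm : Subgroup.zpowers x ≤ Subgroup.normalizer (Subgroup.zpowers y : Set G) := by
        rw [Subgroup.zpowers_le]
        exact Subgroup.centralizer_le_normalizer _ hxcy
      have hp2 := IsPGroup.to_sup_of_normal_right' hpx hpy hnorm
      obtain ⟨Q, hQ⟩ := hp2.exists_le_sylow
      have hxQ : x ∈ Q := hQ (le_sup_left (a := Subgroup.zpowers x) (Subgroup.mem_zpowers x))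
      have hyQ : y ∈ Q := hQ (le_sup_right (b := Subgroup.zpowers y) (Subgroup.mem_zpowers y))
      have hyQ' : (g⁻¹)⁻¹ * x * g⁻¹ ∈ Q := by rw [inv_inv]; exact hyQ
      have := conj_unique h Q g⁻¹ hxQ hyQ'
      rw [inv_inv] at this
      exact hyx this
    have hcy : y * c = c * y := by
      have h1 := (memC _).mp hc'
      calc y * c = g * (x * (g⁻¹ * c * g)) * g⁻¹ := by rw [hy]; group
        _ = g * ((g⁻¹ * c * g) * x) * g⁻¹ := by rw [h1]
        _ = c * y := by rw [hy]; group
    have hcx : x * c = c * x := (memC c).mp hc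
    rw [Subgroup.center_eq_iInf hD]
    simp only [Subgroup.mem_iInf, Set.mem_insert_iff, Set.mem_singleton_iff]
    rintro w (rfl | rfl)
    · rw [Subgroup.mem_centralizer_iff]; simp [hcx]
    · rw [Subgroup.mem_centralizer_iff]; simp [hcy]
  -- the Frobenius group G / Z(G)
  set Z : Subgroup G := Subgroup.center G with hZ
  have hZC : Z ≤ C := Subgroup.center_le_centralizer _
  set π : G →* G ⧸ Z := QuotientGroup.mk' Z with hπ
  have hπs : Function.Surjective π := QuotientGroup.mk'_surjective Z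
  have hπker : π.ker = Z := QuotientGroup.ker_mk' Z
  have hπ1 : ∀ g : G, π g = 1 ↔ g ∈ Z := fun g => QuotientGroup.eq_one_iff g
  set Hb : Subgroup (G ⧸ Z) := C.map π with hHb
  have hcomap : Hb.comap π = C := by
    rw [hHb, Subgroup.comap_map_eq, hπker]
    exact sup_eq_left.mpr hZC
  have hmemHb : ∀ g : G, π g ∈ Hb ↔ g ∈ C := by
    intro g
    rw [← hcomap, Subgroup.mem_comap]
  have hFrob : IsFrobeniusComplement Hb := by
    refine ⟨?_, ?_, ?_⟩
    · intro hbot
      have : π x ∈ Hb := (hmemHb x).mpr hxC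
      rw [hbot, Subgroup.mem_bot, hπ1] at this
      exact hxZ this
    · intro htop
      have hCtop : C = ⊤ := by rw [← hcomap, htop, Subgroup.comap_top]
      apply hxZ
      rw [Subgroup.mem_center_iff]
      intro g
      have : g ∈ C := hCtop ▸ Subgroup.mem_top g
      exact ((memC g).mp this).symm
    · intro gb hgb
      obtain ⟨g, rfl⟩ := hπs gb
      have hg : g ∉ C := fun hg => hgb ((hmemHb g).mpr hg)
      rw [eq_bot_iff]
      intro w hw
      rw [Subgroup.mem_inf] at hw
      obtain ⟨hw1, hw2⟩ := hw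
      obtain ⟨c, hc, rfl⟩ := hw1
      rw [Subgroup.mem_smul_pointwise_iff_exists] at hw2
      obtain ⟨s, hs, hsw⟩ := hw2
      obtain ⟨c', hc', rfl⟩ := hs
      rw [MulAut.smul_def, MulAut.conj_apply] at hsw
      -- π (g c' g⁻¹) = π c
      have h1 : π (c⁻¹ * (g * c' * g⁻¹)) = 1 := by
        rw [map_mul, map_inv, map_mul, map_mul, map_inv, hsw, inv_mul_cancel]
      rw [hπ1] at h1
      set z := c⁻¹ * (g * c' * g⁻¹) with hz
      have hcz : c * z ∈ C := Subgroup.mul_mem _ hc (hZC h1)
      have hcz' : g⁻¹ * (c * z) * g ∈ C := by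
        have : g⁻¹ * (c * z) * g = c' := by rw [hz]; group
        rw [this]; exact hc'
      have h2 := hTI g hg (c * z) hcz hcz'
      have h3 : c ∈ Z := by
        have : c = (c * z) * z⁻¹ := by group
        rw [this]
        exact Subgroup.mul_mem _ h2 (Subgroup.inv_mem _ h1)
      rw [Subgroup.mem_bot, hπ1]
      exact h3
  obtain ⟨Nb, -, hNbn, hcompl⟩ := Cfsg.Agent.S0035.result Hb hFrob
  have hNcard : Nat.card Nb = C.index := by
    rw [← hcompl.index_eq_card, hHb]
    exact Subgroup.index_map_eq C hπs (by rw [hπker]; exact hZC)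
  have hcopN : (Nat.card Nb).Coprime p := by
    rw [hNcard, Nat.coprime_comm, Nat.Prime.coprime_iff_not_dvd Fact.out]
    intro hdvd
    exact S.not_dvd_index (hdvd.trans (Subgroup.index_dvd_of_le hSC))
  set K : Subgroup G := Nb.comap π with hK
  haveI hKn : K.Normal := Subgroup.Normal.comap hNbn π
  have hcent : ∀ k ∈ K, ∀ m : ℕ, k ^ (p ^ m) = 1 → k ∈ Subgroup.center G := by
    intro k hk m hkm
    have hk' : π k ∈ Nb := hk
    have h1 : (π k) ^ (p ^ m) = 1 := by rw [← map_pow, hkm, map_one]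
    have hord1 : orderOf (π k) ∣ p ^ m := orderOf_dvd_of_pow_eq_one h1
    have hord2 : orderOf (π k) ∣ Nat.card Nb := by
      have := orderOf_dvd_natCard (⟨π k, hk'⟩ : Nb)
      rwa [Subgroup.orderOf_mk] at this
    have hcop' : Nat.Coprime (Nat.card Nb) (p ^ m) := Nat.Coprime.pow_right m hcopN
    have : orderOf (π k) = 1 := Nat.eq_one_of_dvd_coprimes hcop' hord2 hord1
    exact (hπ1 k).mp (orderOf_eq_one_iff.mp this)
  have hKx := comm_of_central_p K x hcent h.2.2
  apply hxZ
  rw [Subgroup.mem_center_iff]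
  intro g
  obtain ⟨⟨a, b⟩, hab, -⟩ := (Subgroup.isComplement'_def.mp hcompl).existsUnique (π g)
  obtain ⟨k, hk⟩ := hπs a.1
  obtain ⟨c, hc, hcb⟩ := b.2
  have hkK : k ∈ K := by
    show π k ∈ Nb
    rw [hk]; exact a.2
  have h1 : π ((k * c)⁻¹ * g) = 1 := by
    rw [map_mul, map_inv, map_mul, hk, hcb]
    simp only at hab
    rw [hab, inv_mul_cancel]
  rw [hπ1] at h1
  set z := (k * c)⁻¹ * g with hz
  have hg : g = k * c * z := by rw [hz]; group
  have e1 := hKx k hkK
  have e2 := (memC c).mp hc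
  have e3 : z * x = x * z := Subgroup.mem_center_iff.mp h1 x |>.symm
  rw [hg]
  calc k * c * z * x = k * c * (x * z) := by rw [mul_assoc, e3]
    _ = k * (c * x) * z := by group
    _ = k * (x * c) * z := by rw [e2]
    _ = (k * x) * c * z := by group
    _ = (x * k) * c * z := by rw [e1]
    _ = x * (k * c * z) := by group

/-- Let S be a Sylow p-subgroup of the finite group G and x an element of S such that (i) x is the only G-conjugate of x lying in S, and (ii) x centralizes every subgroup of order prime to p that it normalizes. Then x lies in the centre of G. -/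
theorem result {G : Type*} [Group G] [Finite G] {p : ℕ} [Fact p.Prime]
    (S : Sylow p G) (x : G) (hx : x ∈ S)
    (hU : ∀ g : G, g⁻¹ * x * g ∈ S → g⁻¹ * x * g = x)
    (hb : ∀ H : Subgroup G, (Nat.card H).Coprime p → (∀ h ∈ H, x * h * x⁻¹ ∈ H) → ∀ h ∈ H, x * h = h * x) :
    x ∈ Subgroup.center G :=
  main (Nat.card G) G S x rfl ⟨hx, hU, hb⟩

end Cfsg.Agent.S3064
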