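import Cfsg.Statements.S3074
import Mathlib
import Cfsg.Agent.Lib.Helper5_QdSylow
import Cfsg.Agent.Lib.Helper8_OrderCube

set_option autoImplicit false
open Cfsg

namespace Cfsg.Agent.S3074

open Cfsg.Agent.Lib

/-- Let p be an odd prime. A Sylow p-subgroup of Qd(p), the split extension of an elementary abelian group of order p² by SL₂(p) acting naturally, is extraspecial of order p³ and exponent p. -/
theorem result (p : ℕ) [Fact p.Prime] (hp : p ≠ 2) (P : Sylow p ↥(Cfsg.qd p)) :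
    Cfsg.IsExtraspecial p ↥P ∧ Nat.card P = p ^ 3 ∧ Monoid.exponent ↥P = p := by
  classical
  have hpp : p.Prime := Fact.out
  have hp3 : 2 < p := lt_of_le_of_ne hpp.two_le (Ne.symm hp)
  have hQ : Cfsg.qd p = Helper4_Qd2.Aff3 (ZMod p) := Helper4_Qd2.qd_eq p
  have hUQ : Helper5_QdSylow.heisSub (ZMod p) ≤ Cfsg.qd p := by
    rw [hQ]; exact Helper5_QdSylow.heisSub_le_aff
  set U : Subgroup ↥(Cfsg.qd p) := (Helper5_QdSylow.heisSub (ZMod p)).subgroupOf (Cfsg.qd p) with hU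
  have hUcard : Nat.card U = p ^ 3 := by
    rw [hU, Nat.card_congr (Subgroup.subgroupOfEquivOfLe hUQ).toEquiv, Helper5_QdSylow.card_heisSub,
      Nat.card_eq_fintype_card, ZMod.card]
  have hdvd3 : p ^ 3 ∣ Nat.card ↥(Cfsg.qd p) := by
    rw [← hUcard]; exact Subgroup.card_subgroup_dvd_card U
  have hnd4 : ¬ p ^ 4 ∣ Nat.card ↥(Cfsg.qd p) := fun h =>
    Helper5_QdSylow.not_pow_four_dvd_GL3 p (h.trans (Helper5_QdSylow.card_dvd_GL3 p _))
  have hne : Nat.card ↥(Cfsg.qd p) ≠ 0 := Nat.card_pos.ne'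
  have hfac : (Nat.card ↥(Cfsg.qd p)).factorization p = 3 := by
    have h1 : 3 ≤ (Nat.card ↥(Cfsg.qd p)).factorization p :=
      (hpp.pow_dvd_iff_le_factorization hne).mp hdvd3
    have h2 : ¬ 4 ≤ (Nat.card ↥(Cfsg.qd p)).factorization p := fun h =>
      hnd4 ((hpp.pow_dvd_iff_le_factorization hne).mpr h)
    omega
  have hPcard : Nat.card P = p ^ 3 := by rw [Sylow.card_eq_multiplicity, hfac]
  -- U is a Sylow subgroup conjugate to P
  have hUp : IsPGroup p U := IsPGroup.of_card hUcard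
  obtain ⟨Q', hQ'⟩ := hUp.exists_le_sylow
  have hQ'card : Nat.card Q' = p ^ 3 := by rw [Sylow.card_eq_multiplicity, hfac]
  have hUeq : U = (Q' : Subgroup ↥(Cfsg.qd p)) :=
    Subgroup.eq_of_le_of_card_ge hQ' (by rw [hQ'card, hUcard])
  obtain ⟨g, hg⟩ := MulAction.exists_smul_eq ↥(Cfsg.qd p) Q' P
  have hPmem : ∀ x : ↥(Cfsg.qd p), x ∈ (P : Subgroup ↥(Cfsg.qd p)) ↔ g⁻¹ * x * g ∈ U := by
    intro x
    rw [← hg, Sylow.coe_subgroup_smul, Subgroup.mem_pointwise_smul_iff_inv_smul_mem, hUeq]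
    simp [MulAut.smul_def]
  have hUmem : ∀ u : ↥(Cfsg.qd p), u ∈ U ↔ ∃ a b c, (u : Matrix.SpecialLinearGroup (Fin 3) (ZMod p)) =
      Helper5_QdSylow.heis a b c := by
    intro u
    rw [hU, Subgroup.mem_subgroupOf]
    exact Iff.rfl
  -- exponent p on U
  have hUpow : ∀ u : ↥(Cfsg.qd p), u ∈ U → u ^ p = 1 := by
    intro u hu
    obtain ⟨a, b, c, habc⟩ := (hUmem u).mp hu
    apply Subtype.ext
    rw [Subgroup.coe_pow, habc, Helper5_QdSylow.heis_pow, Subgroup.coe_one,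
      ← Helper5_QdSylow.heis_zero]
    have h1 : ((p : ℕ) : ZMod p) = 0 := ZMod.natCast_self p
    have h2 : ((p.choose 2 : ℕ) : ZMod p) = 0 := by
      rw [ZMod.natCast_eq_zero_iff]
      exact hpp.dvd_choose_self (by norm_num) hp3
    rw [h1, h2]
    congr 1 <;> ring
  have hPpow : ∀ x : ↥(P : Subgroup ↥(Cfsg.qd p)), x ^ p = 1 := by
    intro x
    have h1 := hUpow _ ((hPmem x).mp x.2)
    apply Subtype.ext
    rw [Subgroup.coe_pow, Subgroup.coe_one]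
    have h2 : (g⁻¹ * (x : ↥(Cfsg.qd p)) * g) ^ p = g⁻¹ * (x : ↥(Cfsg.qd p)) ^ p * g := by
      have := conj_pow (a := g⁻¹) (b := (x : ↥(Cfsg.qd p))) (i := p)
      rw [inv_inv] at this
      exact this
    rw [h2] at h1
    have h3 := congrArg (fun z => g * z * g⁻¹) h1
    simpa [mul_assoc] using h3
  -- nonabelian
  have hna : ∃ a b : ↥(P : Subgroup ↥(Cfsg.qd p)), a * b ≠ b * a := by
    let u₁ : ↥(Cfsg.qd p) := ⟨Helper5_QdSylow.heis 1 0 0, hUQ ⟨_, _, _, rfl⟩⟩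
    let u₂ : ↥(Cfsg.qd p) := ⟨Helper5_QdSylow.heis 0 1 0, hUQ ⟨_, _, _, rfl⟩⟩
    have hu₁ : u₁ ∈ U := (hUmem u₁).mpr ⟨_, _, _, rfl⟩
    have hu₂ : u₂ ∈ U := (hUmem u₂).mpr ⟨_, _, _, rfl⟩
    have hne12 : u₁ * u₂ ≠ u₂ * u₁ := by
      intro h
      have h1 := congrArg Subtype.val h
      simp only [Subgroup.coe_mul] at h1
      have h1' : Helper5_QdSylow.heis (1 : ZMod p) 0 0 * Helper5_QdSylow.heis 0 1 0 =
          Helper5_QdSylow.heis 0 1 0 * Helper5_QdSylow.heis 1 0 0 := h1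
      rw [Helper5_QdSylow.heis_mul, Helper5_QdSylow.heis_mul] at h1'
      have h2 := (Helper5_QdSylow.heis_inj h1').2.2
      haveI : Nontrivial (ZMod p) := ZMod.nontrivial_iff.mpr hpp.ne_one
      simp at h2
    have hm₁ : g * u₁ * g⁻¹ ∈ (P : Subgroup ↥(Cfsg.qd p)) := by
      rw [hPmem]
      have e : g⁻¹ * (g * u₁ * g⁻¹) * g = u₁ := by group
      rw [e]; exact hu₁
    have hm₂ : g * u₂ * g⁻¹ ∈ (P : Subgroup ↥(Cfsg.qd p)) := by
      rw [hPmem]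
      have e : g⁻¹ * (g * u₂ * g⁻¹) * g = u₂ := by group
      rw [e]; exact hu₂
    refine ⟨⟨_, hm₁⟩, ⟨_, hm₂⟩, ?_⟩
    intro h
    apply hne12
    have h1 := congrArg Subtype.val h
    simp only [Subgroup.coe_mul] at h1
    have h2 : g⁻¹ * (g * u₁ * g⁻¹ * (g * u₂ * g⁻¹)) * g = g⁻¹ * (g * u₂ * g⁻¹ * (g * u₁ * g⁻¹)) * g := by
      rw [h1]
    have e1 : g⁻¹ * (g * u₁ * g⁻¹ * (g * u₂ * g⁻¹)) * g = u₁ * u₂ := by group
    have e2 : g⁻¹ * (g * u₂ * g⁻¹ * (g * u₁ * g⁻¹)) * g = u₂ * u₁ := by group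
    rw [e1, e2] at h2
    exact h2
  refine ⟨Helper8_OrderCube.extraspecial hPcard hna, hPcard, ?_⟩
  have hdvd : Monoid.exponent ↥(P : Subgroup ↥(Cfsg.qd p)) ∣ p :=
    Monoid.exponent_dvd_of_forall_pow_eq_one hPpow
  rcases (Nat.dvd_prime hpp).mp hdvd with h | h
  · exfalso
    rw [Monoid.exp_eq_one_iff] at h
    obtain ⟨a, b, hab⟩ := hna
    exact hab (by rw [Subsingleton.elim a b])
  · exact h

end Cfsg.Agent.S3074
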