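import Cfsg.Statements.S3075
import Mathlib

set_option autoImplicit false
open Cfsg

namespace Cfsg.Agent.S3075

/-- an element whose `p`-th power centralises a normal subgroup `B` of order `p` centralises `B` -/
theorem centralizes_of_pow {N : Type*} [Group N] [Finite N] {p : ℕ} [Fact p.Prime]
    (B : Subgroup N) [hBn : B.Normal] (hB : Nat.card B = p) (g : N)
    (hg : ∀ b ∈ B, g ^ p * b = b * g ^ p) : ∀ b ∈ B, g * b = b * g := by
  have hpp := (Fact.out : p.Prime)
  haveI : IsCyclic B := isCyclic_of_prime_card hB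
  set α : MulAut B := MulAut.conjNormal g with hα
  have h1 : α ^ p = 1 := by
    rw [hα, ← map_pow]
    ext b
    simp only [MulAut.conjNormal_apply, MulAut.one_apply]
    rw [hg b.1 b.2, mul_inv_cancel_right]
  have h2 : α ^ (p - 1) = 1 := by
    have hc : Nat.card (MulAut B) = p - 1 := by
      rw [IsCyclic.card_mulAut, hB, Nat.totient_prime hpp]
    rw [← hc]; exact pow_card_eq_one'
  have h3 : α = 1 := by
    have : α ^ p = α ^ (p - 1) * α := by
      rw [← pow_succ]; congr 1; have := hpp.one_lt; omega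
    rw [h1, h2, one_mul] at this
    exact this.symm
  intro b hb
  have := congrArg (fun f : MulAut B => ((f ⟨b, hb⟩ : B) : N)) h3
  simp only [hα, MulAut.conjNormal_apply, MulAut.one_apply] at this
  calc g * b = (g * b * g⁻¹) * g := by group
    _ = b * g := by rw [this]

/-- the abstract splitting argument: a central involution of `N ⧸ A` acting without fixed points -/
theorem split_of_central_involution {N : Type*} [Group N] [Finite N] {p : ℕ} [Fact p.Prime]
    (hp : p ≠ 2) (A : Subgroup N) [hAn : A.Normal] (hAcomm : ∀ a ∈ A, ∀ b ∈ A, a * b = b * a)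
    (hAcard : Nat.card A = p ^ 2) (hAexp : ∀ a ∈ A, a ^ p = 1)
    (hAself : Subgroup.centralizer (A : Set N) = A)
    (c : N ⧸ A) (hc2 : c ^ 2 = 1) (hc1 : c ≠ 1) (hcZ : ∀ x : N ⧸ A, x * c = c * x)
    (v : N ⧸ A) (hv1 : v ≠ 1) (hvp : v ^ p = 1) :
    ∃ U : Subgroup N, A ⊓ U = ⊥ ∧ A ⊔ U = ⊤ := by
  classical
  have hpp := (Fact.out : p.Prime)
  have hpodd : Odd p := hpp.odd_of_ne_two hp
  obtain ⟨k, hk⟩ := hpodd
  -- the involution t
  obtain ⟨x, rfl⟩ := QuotientGroup.mk_surjective c
  have hx2 : x ^ 2 ∈ A := by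
    have : ((x ^ 2 : N) : N ⧸ A) = 1 := by rw [QuotientGroup.mk_pow]; exact hc2
    exact (QuotientGroup.eq_one_iff _).mp this
  set t := x ^ p with ht
  have ht2 : t ^ 2 = 1 := by
    rw [ht, ← pow_mul, mul_comm, pow_mul]
    exact hAexp _ hx2
  have htc : ((t : N) : N ⧸ A) = ((x : N) : N ⧸ A) := by
    rw [ht, QuotientGroup.mk_pow, hk, pow_succ, pow_mul, hc2, one_pow, one_mul]
  have htinv : t⁻¹ = t := by
    rw [inv_eq_iff_mul_eq_one, ← sq, ht2]
  have htA : t ∉ A := by
    intro h
    apply hc1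
    rw [← htc]
    exact (QuotientGroup.eq_one_iff _).mpr h
  -- conjugates of t differ from t by elements of A
  have hconj : ∀ g : N, g * t * g⁻¹ * t⁻¹ ∈ A := by
    intro g
    apply (QuotientGroup.eq_one_iff _).mp
    rw [QuotientGroup.mk_mul, QuotientGroup.mk_mul, QuotientGroup.mk_mul, QuotientGroup.mk_inv,
      QuotientGroup.mk_inv, htc, hcZ, mul_assoc _ _ (g : N ⧸ A)⁻¹, mul_inv_cancel, mul_one,
      mul_inv_cancel]
  -- g⁻¹ t g = a' t
  have hconj' : ∀ g : N, ∃ a' ∈ A, g⁻¹ * t * g = a' * t := by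
    intro g
    refine ⟨g⁻¹ * t * g * t⁻¹, ?_, by group⟩
    have := hconj g⁻¹
    rwa [inv_inv] at this
  have hodd_pow : ∀ a ∈ A, a ^ (2 * (k + 1)) = a := by
    intro a ha
    have : 2 * (k + 1) = p + 1 := by omega
    rw [this, pow_succ, hAexp a ha, one_mul]
  -- the two eigen-subgroups
  let D : Subgroup N := A ⊓ Subgroup.centralizer {t}
  let Am : Subgroup N :=
    { carrier := {m | m ∈ A ∧ t * m * t⁻¹ = m⁻¹}
      one_mem' := ⟨A.one_mem, by simp⟩
      mul_mem' := by
        rintro a b ⟨ha, ha'⟩ ⟨hb, hb'⟩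
        refine ⟨A.mul_mem ha hb, ?_⟩
        have : t * (a * b) * t⁻¹ = (t * a * t⁻¹) * (t * b * t⁻¹) := by group
        rw [this, ha', hb', mul_inv_rev]
        exact hAcomm _ (A.inv_mem ha) _ (A.inv_mem hb)
      inv_mem' := by
        rintro a ⟨ha, ha'⟩
        refine ⟨A.inv_mem ha, ?_⟩
        have : t * a⁻¹ * t⁻¹ = (t * a * t⁻¹)⁻¹ := by group
        rw [this, ha'] }
  have hDmem : ∀ d : N, d ∈ D ↔ d ∈ A ∧ t * d = d * t := by
    intro d
    show d ∈ A ⊓ Subgroup.centralizer {t} ↔ _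
    rw [Subgroup.mem_inf, Subgroup.mem_centralizer_iff]
    simp
  have hAmmem : ∀ m : N, m ∈ Am ↔ m ∈ A ∧ t * m * t⁻¹ = m⁻¹ := fun m => Iff.rfl
  have hDn : D.Normal := by
    constructor
    intro d hd g
    rw [hDmem] at hd ⊢
    refine ⟨hAn.conj_mem d hd.1 g, ?_⟩
    obtain ⟨a', ha', hy⟩ := hconj' g
    have h1 : (g⁻¹ * t * g) * d = d * (g⁻¹ * t * g) := by
      rw [hy, mul_assoc, hd.2, ← mul_assoc, hAcomm a' ha' d hd.1, mul_assoc]
    calc t * (g * d * g⁻¹) = g * ((g⁻¹ * t * g) * d) * g⁻¹ := by group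
      _ = g * (d * (g⁻¹ * t * g)) * g⁻¹ := by rw [h1]
      _ = g * d * g⁻¹ * t := by group
  have hAmn : Am.Normal := by
    constructor
    intro m hm g
    rw [hAmmem] at hm ⊢
    refine ⟨hAn.conj_mem m hm.1 g, ?_⟩
    obtain ⟨a', ha', hy⟩ := hconj' g
    have h1 : (g⁻¹ * t * g) * m * (g⁻¹ * t * g)⁻¹ = m⁻¹ := by
      rw [hy]
      calc a' * t * m * (a' * t)⁻¹ = a' * (t * m * t⁻¹) * a'⁻¹ := by group
        _ = a' * m⁻¹ * a'⁻¹ := by rw [hm.2]
        _ = m⁻¹ := by rw [hAcomm a' ha' _ (A.inv_mem hm.1)]; group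
    calc t * (g * m * g⁻¹) * t⁻¹ = g * ((g⁻¹ * t * g) * m * (g⁻¹ * t * g)⁻¹) * g⁻¹ := by group
      _ = g * m⁻¹ * g⁻¹ := by rw [h1]
      _ = (g * m * g⁻¹)⁻¹ := by group
  have hDA : D ≤ A := inf_le_left
  have hAmA : Am ≤ A := fun m hm => hm.1
  -- Step 1: no fixed points
  have hfix : ∀ d ∈ A, t * d = d * t → d = 1 := by
    intro d₀ hd₀A hd₀t
    by_contra hd₀1
    obtain ⟨g, rfl⟩ := QuotientGroup.mk_surjective v
    have hgp : g ^ p ∈ A := by
      apply (QuotientGroup.eq_one_iff _).mp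
      rw [QuotientGroup.mk_pow]; exact hvp
    have hgpc : ∀ b ∈ A, g ^ p * b = b * g ^ p := fun b hb => hAcomm _ hgp b hb
    -- card D = p
    have hDcard : Nat.card D = p := by
      have h1 : Nat.card D ∣ p ^ 2 := by rw [← hAcard]; exact Subgroup.card_dvd_of_le hDA
      obtain ⟨i, hi2, hi⟩ := (Nat.dvd_prime_pow hpp).mp h1
      have hi0 : i ≠ 0 := by
        intro h0
        rw [h0, pow_zero] at hi
        have : D = ⊥ := Subgroup.card_eq_one.mp hi
        have hd₀D : d₀ ∈ D := (hDmem d₀).mpr ⟨hd₀A, hd₀t⟩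
        rw [this, Subgroup.mem_bot] at hd₀D
        exact hd₀1 hd₀D
      have hi2' : i ≠ 2 := by
        intro h2
        rw [h2, ← hAcard] at hi
        have hDeq : D = A := Subgroup.eq_of_le_of_card_ge hDA hi.ge
        apply htA
        rw [← hAself, Subgroup.mem_centralizer_iff]
        intro a ha
        have : a ∈ D := hDeq ▸ ha
        exact ((hDmem a).mp this).2.symm
      have : i = 1 := by omega
      rw [hi, this, pow_one]
    have hAmcard : Nat.card Am = 1 ∨ Nat.card Am = p := by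
      have h1 : Nat.card Am ∣ p ^ 2 := by rw [← hAcard]; exact Subgroup.card_dvd_of_le hAmA
      obtain ⟨i, hi2, hi⟩ := (Nat.dvd_prime_pow hpp).mp h1
      have hi2' : i ≠ 2 := by
        intro h2
        rw [h2, ← hAcard] at hi
        have hAmeq : Am = A := Subgroup.eq_of_le_of_card_ge hAmA hi.ge
        have : d₀ ∈ Am := hAmeq ▸ hd₀A
        have h3 := ((hAmmem d₀).mp this).2
        have h4 : t * d₀ * t⁻¹ = d₀ := by rw [hd₀t, mul_inv_cancel_right]
        rw [h4] at h3
        have h5 : d₀ ^ 2 = 1 := by rw [sq]; exact mul_eq_one_iff_eq_inv.mpr h3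
        apply hd₀1
        rw [← hodd_pow d₀ hd₀A, pow_mul, h5, one_pow]
      interval_cases i
      · left; rw [hi, pow_zero]
      · right; rw [hi, pow_one]
      · exact absurd rfl hi2'
    have hgD : ∀ d ∈ D, g * d = d * g :=
      haveI := hDn
      centralizes_of_pow D hDcard g (fun b hb => hgpc b (hDA hb))
    have hgAm : ∀ m ∈ Am, g * m = m * g := by
      rcases hAmcard with h1 | h1
      · intro m hm
        have : Am = ⊥ := Subgroup.card_eq_one.mp h1
        rw [this, Subgroup.mem_bot] at hm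
        rw [hm]; simp
      · haveI := hAmn
        exact centralizes_of_pow Am h1 g (fun b hb => hgpc b (hAmA hb))
    -- g centralises A
    have hgA : g ∈ Subgroup.centralizer (A : Set N) := by
      rw [Subgroup.mem_centralizer_iff]
      intro a ha
      have htat : t * a * t⁻¹ ∈ A := hAn.conj_mem a ha t
      have hd : a * (t * a * t⁻¹) ∈ D := by
        rw [hDmem]
        refine ⟨A.mul_mem ha htat, ?_⟩
        have e1 : t * (a * (t * a * t⁻¹)) = (t * a * t⁻¹) * (t * t * a * t⁻¹ * t⁻¹) * t := by group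
        have e2 : t * t * a * t⁻¹ * t⁻¹ = a := by
          rw [← sq, ht2, one_mul, htinv, mul_assoc, ← sq, ht2, mul_one]
        rw [e1, e2, hAcomm _ htat a ha]
      have hm : a * (t * a * t⁻¹)⁻¹ ∈ Am := by
        rw [hAmmem]
        refine ⟨A.mul_mem ha (A.inv_mem htat), ?_⟩
        have e1 : t * (a * (t * a * t⁻¹)⁻¹) * t⁻¹ = (t * a * t⁻¹) * (t * t * a * t⁻¹ * t⁻¹)⁻¹ := by group
        have e2 : t * t * a * t⁻¹ * t⁻¹ = a := by
          rw [← sq, ht2, one_mul, htinv, mul_assoc, ← sq, ht2, mul_one]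
        rw [e1, e2, mul_inv_rev, inv_inv]
      have ha2 : a ^ 2 = (a * (t * a * t⁻¹)) * (a * (t * a * t⁻¹)⁻¹) := by
        rw [sq]
        calc a * a = a * a * ((t * a * t⁻¹) * (t * a * t⁻¹)⁻¹) := by rw [mul_inv_cancel, mul_one]
          _ = a * (a * (t * a * t⁻¹)) * (t * a * t⁻¹)⁻¹ := by group
          _ = a * ((t * a * t⁻¹) * a) * (t * a * t⁻¹)⁻¹ := by rw [hAcomm a ha _ htat]
          _ = (a * (t * a * t⁻¹)) * (a * (t * a * t⁻¹)⁻¹) := by group
      have hg2 : g * a ^ 2 = a ^ 2 * g := by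
        rw [ha2, ← mul_assoc, hgD _ hd, mul_assoc, hgAm _ hm, ← mul_assoc]
      have hcomm : Commute g (a ^ 2) := hg2
      have := (hcomm.pow_right (k + 1)).eq
      rw [← pow_mul, hodd_pow a ha] at this
      exact this.symm
    rw [hAself] at hgA
    exact hv1 ((QuotientGroup.eq_one_iff _).mpr hgA)
  -- Step 2: t inverts A
  have hinv : ∀ a ∈ A, t * a * t⁻¹ = a⁻¹ := by
    intro a ha
    have htat : t * a * t⁻¹ ∈ A := hAn.conj_mem a ha t
    have hb : t * (a * (t * a * t⁻¹)) = (a * (t * a * t⁻¹)) * t := by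
      have e1 : t * (a * (t * a * t⁻¹)) = (t * a * t⁻¹) * (t * t * a * t⁻¹ * t⁻¹) * t := by group
      have e2 : t * t * a * t⁻¹ * t⁻¹ = a := by
        rw [← sq, ht2, one_mul, htinv, mul_assoc, ← sq, ht2, mul_one]
      rw [e1, e2, hAcomm _ htat a ha]
    have := hfix _ (A.mul_mem ha htat) hb
    exact (mul_eq_one_iff_inv_eq.mp this).symm ▸ rfl
  -- Step 3: the complement
  refine ⟨Subgroup.centralizer {t}, ?_, ?_⟩
  · rw [eq_bot_iff]
    intro d hd
    rw [Subgroup.mem_bot]
    exact hfix d hd.1 ((hDmem d).mp hd).2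
  · rw [eq_top_iff]
    intro g _
    set a := g * t * g⁻¹ * t⁻¹ with ha
    have haA : a ∈ A := hconj g
    set h := a ^ (k + 1) with hh
    have hhA : h ∈ A := A.pow_mem haA _
    have hh2 : h * h = a := by
      rw [hh, ← pow_add]
      have : k + 1 + (k + 1) = 2 * (k + 1) := by ring
      rw [this, hodd_pow a haA]
    have hth : t * h⁻¹ * t⁻¹ = h := by
      rw [hinv _ (A.inv_mem hhA), inv_inv]
    have hgt : g * t * g⁻¹ = h * t * h⁻¹ := by
      calc g * t * g⁻¹ = a * t := by rw [ha]; group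
        _ = h * h * t := by rw [hh2]
        _ = h * (t * h⁻¹ * t⁻¹) * t := by rw [hth]
        _ = h * t * h⁻¹ := by group
    have hmem : h⁻¹ * g ∈ Subgroup.centralizer {t} := by
      rw [Subgroup.mem_centralizer_iff]
      intro y hy
      rw [Set.mem_singleton_iff] at hy
      rw [hy]
      calc t * (h⁻¹ * g) = h⁻¹ * (h * t * h⁻¹) * g := by group
        _ = h⁻¹ * (g * t * g⁻¹) * g := by rw [hgt]
        _ = h⁻¹ * g * t := by group
    have : g = h * (h⁻¹ * g) := by group
    rw [this]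
    exact Subgroup.mul_mem_sup hhA hmem

/-- Let p be an odd prime and N a finite group with a normal elementary abelian subgroup A of order p² that is its own centralizer in N, such that N/A is isomorphic to SL₂(p) (over any field F with p elements). Then N splits over A: some subgroup U of N satisfies A ∩ U = 1 and AU = N. -/
theorem result {N : Type*} [Group N] [Finite N] {p : ℕ} [Fact p.Prime] (hp : p ≠ 2)
    (A : Subgroup N) [A.Normal] (hAcomm : IsMulCommutative A) (hAcard : Nat.card A = p ^ 2) (hAexp : Monoid.exponent ↥A = p)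
    (hAself : Subgroup.centralizer (A : Set N) = A)
    {F : Type*} [Field F] [Fintype F] (hF : Fintype.card F = p) (e : N ⧸ A ≃* Matrix.SpecialLinearGroup (Fin 2) F) :
    ∃ U : Subgroup N, A ⊓ U = ⊥ ∧ A ⊔ U = ⊤ := by
  classical
  have hpp := (Fact.out : p.Prime)
  have hcomm : ∀ a ∈ A, ∀ b ∈ A, a * b = b * a := by
    intro a ha b hb
    have := hAcomm.is_comm.comm (⟨a, ha⟩ : A) ⟨b, hb⟩
    exact congrArg Subtype.val this
  have hexp : ∀ a ∈ A, a ^ p = 1 := by
    intro a ha
    have := Monoid.pow_exponent_eq_one (⟨a, ha⟩ : A)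
    rw [hAexp] at this
    exact congrArg Subtype.val this
  -- 2 ≠ 0 in F
  have hpF : (p : F) = 0 := by rw [← hF]; exact FiniteField.cast_card_eq_zero F
  have h2F : (2 : F) ≠ 0 := by
    intro h2
    have hodd : Odd p := hpp.odd_of_ne_two hp
    obtain ⟨k, hk⟩ := hodd
    have : (p : F) = 2 * (k : F) + 1 := by rw [hk]; push_cast; ring
    rw [hpF, h2, zero_mul, zero_add] at this
    exact one_ne_zero this.symm
  -- the central involution of SL₂
  let negI : Matrix.SpecialLinearGroup (Fin 2) F :=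
    ⟨!![-1, 0; 0, -1], by simp [Matrix.det_fin_two]⟩
  have hnegI2 : negI ^ 2 = 1 := by
    rw [sq]
    apply Subtype.ext
    rw [Matrix.SpecialLinearGroup.coe_mul, Matrix.SpecialLinearGroup.coe_one]
    ext i j
    fin_cases i <;> fin_cases j <;> simp [negI, Matrix.mul_apply, Fin.sum_univ_two]
  have hnegI1 : negI ≠ 1 := by
    intro h
    have := congrArg (fun M : Matrix.SpecialLinearGroup (Fin 2) F => M.1 0 0) h
    simp only [negI, Matrix.SpecialLinearGroup.coe_one, Matrix.of_apply, Matrix.cons_val',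
      Matrix.cons_val_zero, Matrix.cons_val_fin_one, Matrix.one_apply_eq] at this
    apply h2F
    have h3 : (2 : F) = 1 + 1 := by norm_num
    rw [h3]
    nth_rewrite 1 [← this]
    ring
  have hnegIZ : ∀ M : Matrix.SpecialLinearGroup (Fin 2) F, M * negI = negI * M := by
    intro M
    apply Subtype.ext
    rw [Matrix.SpecialLinearGroup.coe_mul, Matrix.SpecialLinearGroup.coe_mul]
    ext i j
    fin_cases i <;> fin_cases j <;> simp [negI, Matrix.mul_apply, Fin.sum_univ_two]
  -- a transvection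
  let u : Matrix.SpecialLinearGroup (Fin 2) F :=
    ⟨!![1, 1; 0, 1], by simp [Matrix.det_fin_two]⟩
  have hu1 : u ≠ 1 := by
    intro h
    have := congrArg (fun M : Matrix.SpecialLinearGroup (Fin 2) F => M.1 0 1) h
    simp [u] at this
  have hupow : ∀ m : ℕ, (u ^ m).1 = !![1, (m : F); 0, 1] := by
    intro m
    induction m with
    | zero =>
      ext i j
      fin_cases i <;> fin_cases j <;> simp
    | succ m ih =>
      rw [pow_succ, Matrix.SpecialLinearGroup.coe_mul, ih]
      ext i j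
      fin_cases i <;> fin_cases j <;> simp [u, Matrix.mul_apply, Fin.sum_univ_two, add_comm]
  have hup : u ^ p = 1 := by
    apply Subtype.ext
    rw [hupow, hpF]
    ext i j
    fin_cases i <;> fin_cases j <;> simp
  refine split_of_central_involution hp A hcomm hAcard hexp hAself (e.symm negI) ?_ ?_ ?_
    (e.symm u) ?_ ?_
  · rw [← map_pow, hnegI2, map_one]
  · intro h
    apply hnegI1
    have := congrArg e h
    simpa using this
  · intro x
    apply e.injective
    rw [map_mul, map_mul, e.apply_symm_apply]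
    exact hnegIZ (e x)
  · intro h
    apply hu1
    have := congrArg e h
    simpa using this
  · rw [← map_pow, hup, map_one]

end Cfsg.Agent.S3075
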