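import Cfsg.Statements.S3078
import Mathlib
import Cfsg.Agent.Lib.Lead_ReplOmega

set_option autoImplicit false
open Cfsg

namespace Cfsg.Agent.S3078

open Cfsg.Agent.Lib.Lead_Coprime Cfsg.Agent.Lib.Lead_ReplOmega

theorem omegaOne_map {H K : Type*} [Group H] [Group K] (p : ℕ) (f : H →* K)
    (hf : Function.Injective f) (X : Subgroup H) :
    Cfsg.omegaOne p (X.map f) = (Cfsg.omegaOne p X).map f := by
  unfold Cfsg.omegaOne
  rw [MonoidHom.map_closure]
  congr 1
  ext y
  constructor
  · rintro ⟨⟨x, hx, rfl⟩, hy⟩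
    refine ⟨x, ⟨hx, hf ?_⟩, rfl⟩
    rw [map_pow, hy, map_one]
  · rintro ⟨x, ⟨hx, hxp⟩, rfl⟩
    exact ⟨⟨x, hx, rfl⟩, by rw [← map_pow, hxp, map_one]⟩


/-- A replacement Theorem for abelian subgroups of p-groups, p odd. Let G be a finite p-group with p odd, A an abelian subgroup of G, and B a subgroup of nilpotency class at most 2 with [B, B] ≤ A, such that A normalizes B but B does not normalize A. Then there is an abelian subgroup A* of G of the same order as A with A ∩ B strictly contained in A* ∩ B, A* contained in N_G(A) and in the normal closure of A, the exponent of A* dividing the exponent of A, and with the subgroup generated by the elements of order dividing p in A of order at most that of the corresponding subgroup of A* (the rank of A is at most the rank of A*). -/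
theorem result {G : Type*} [Group G] [Finite G] {p : ℕ} [Fact p.Prime] (hp : p ≠ 2) (hG : IsPGroup p G) (A B : Subgroup G) (hA : IsMulCommutative A) (hB2 : ⁅⁅B, B⁆, B⁆ = ⊥) (hBA : ⁅B, B⁆ ≤ A) (hAB : A ≤ Subgroup.normalizer (B : Set G)) (hBnA : ¬ B ≤ Subgroup.normalizer (A : Set G)) : ∃ Astar : Subgroup G, IsMulCommutative Astar ∧ Nat.card Astar = Nat.card A ∧ A ⊓ B < Astar ⊓ B ∧ Astar ≤ Subgroup.normalizer (A : Set G) ∧ Astar ≤ Subgroup.normalClosure (A : Set G) ∧ Monoid.exponent Astar ∣ Monoid.exponent A ∧ Nat.card (Cfsg.omegaOne p A) ≤ Nat.card (Cfsg.omegaOne p Astar) := by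
  classical
  obtain ⟨H, hH⟩ : ∃ H : Subgroup G, H = A ⊔ B := ⟨_, rfl⟩
  have hAH : A ≤ H := hH ▸ le_sup_left
  have hBH : B ≤ H := hH ▸ le_sup_right
  have hHN : H ≤ Subgroup.normalizer (B : Set G) := hH ▸ sup_le hAB Subgroup.le_normalizer
  haveI hBn : (B.subgroupOf H).Normal := Subgroup.normal_subgroupOf_of_le_normalizer hHN
  have hA' : IsMulCommutative (A.subgroupOf H) := inferInstance
  have hBA' : ⁅B.subgroupOf H, B.subgroupOf H⁆ ≤ A.subgroupOf H := by
    show _ ≤ A.comap H.subtype
    rw [← Subgroup.map_le_iff_le_comap, Subgroup.map_commutator,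
      Subgroup.map_subgroupOf_eq_of_le hBH]
    exact hBA
  have hnot' : ¬ B.subgroupOf H ≤
      Subgroup.normalizer ((A.subgroupOf H : Subgroup H) : Set H) := by
    intro h
    apply hBnA
    have key : ∀ b ∈ B, ∀ a ∈ A, b * a * b⁻¹ ∈ A := by
      intro b hb a ha
      have h1 := h (show (⟨b, hBH hb⟩ : H) ∈ B.subgroupOf H from Subgroup.mem_subgroupOf.2 hb)
      have h2 := (Subgroup.mem_normalizer_iff.1 h1 ⟨a, hAH ha⟩).1 (Subgroup.mem_subgroupOf.2 ha)
      exact Subgroup.mem_subgroupOf.1 h2
    intro b hb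
    exact mem_normalizer_of_conj_mem (key b hb) (fun a ha => by
      have := key b⁻¹ (B.inv_mem hb) a ha
      rwa [inv_inv] at this)
  obtain ⟨T', t1, t2, t3, t4, t5, t6, t7⟩ :=
    repl_normal hp (hG.to_subgroup H) (A.subgroupOf H) (B.subgroupOf H) hA' hBA' hnot'
  refine ⟨T'.map H.subtype, Subgroup.map_isMulCommutative _ _, ?_, ?_, ?_, ?_, ?_, ?_⟩
  · rw [Subgroup.card_map_of_injective H.subtype_injective, t2,
      Cfsg.Agent.Lib.Lead_SZ.card_subgroupOf_of_le hAH]
  · have e1 : (A.subgroupOf H ⊓ B.subgroupOf H).map H.subtype = A ⊓ B := by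
      rw [Subgroup.map_inf _ _ _ H.subtype_injective, Subgroup.map_subgroupOf_eq_of_le hAH,
        Subgroup.map_subgroupOf_eq_of_le hBH]
    have e2 : (T' ⊓ B.subgroupOf H).map H.subtype = T'.map H.subtype ⊓ B := by
      rw [Subgroup.map_inf _ _ _ H.subtype_injective, Subgroup.map_subgroupOf_eq_of_le hBH]
    rw [← e1, ← e2]
    exact (Subgroup.map_lt_map_iff_of_injective H.subtype_injective).2 t3
  · rintro _ ⟨t, ht, rfl⟩
    have h1 := t4 ht
    have key : ∀ s : H, s ∈ Subgroup.normalizer ((A.subgroupOf H : Subgroup H) : Set H) →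
        ∀ a ∈ A, (s : G) * a * (s : G)⁻¹ ∈ A := by
      intro s hs a ha
      have h2 := (Subgroup.mem_normalizer_iff.1 hs ⟨a, hAH ha⟩).1 (Subgroup.mem_subgroupOf.2 ha)
      exact Subgroup.mem_subgroupOf.1 h2
    exact mem_normalizer_of_conj_mem (key t h1) (fun a ha => by
      have := key t⁻¹ (Subgroup.inv_mem _ h1) a ha
      simpa using this)
  · rw [Subgroup.map_le_iff_le_comap]
    refine t5.trans ?_
    haveI : ((Subgroup.normalClosure (A : Set G)).comap H.subtype).Normal :=
      Subgroup.Normal.comap Subgroup.normalClosure_normal _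
    apply Subgroup.normalClosure_le_normal
    intro a ha
    exact Subgroup.subset_normalClosure (Subgroup.mem_subgroupOf.1 ha)
  · have e1 : Monoid.exponent (T'.map H.subtype) = Monoid.exponent T' :=
      (Monoid.exponent_eq_of_mulEquiv
        (Subgroup.equivMapOfInjective T' H.subtype H.subtype_injective)).symm
    have e2 : Monoid.exponent (A.subgroupOf H) = Monoid.exponent A :=
      Monoid.exponent_eq_of_mulEquiv (Subgroup.subgroupOfEquivOfLe hAH)
    rw [e1, ← e2]; exact t6
  · rw [omegaOne_map p H.subtype H.subtype_injective T',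
      Subgroup.card_map_of_injective H.subtype_injective]
    have e : A = (A.subgroupOf H).map H.subtype := (Subgroup.map_subgroupOf_eq_of_le hAH).symm
    have e3 : Nat.card (Cfsg.omegaOne p A) = Nat.card (Cfsg.omegaOne p (A.subgroupOf H)) := by
      conv_lhs => rw [e]
      rw [omegaOne_map p H.subtype H.subtype_injective,
        Subgroup.card_map_of_injective H.subtype_injective]
    rw [e3]; exact t7

end Cfsg.Agent.S3078
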