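import Cfsg.Statements.S3079
import Mathlib
import Cfsg.Agent.Lib.Lead_ZJ

set_option autoImplicit false
open Cfsg

namespace Cfsg.Agent.S3079

open Cfsg.Agent.Lib.Lead_ZJ Cfsg.Agent.Lib.Helper4_PCore

theorem stableOn_of_normalizerStable {G : Type*} [Group G] {p : ℕ} [Fact p.Prime]
    (hst : Cfsg.IsNormalizerPStable p G) (V : Subgroup G) [V.Normal] (hV : IsPGroup p V) :
    Cfsg.IsPStableOn p V := by
  intro a hquad
  have hN : Subgroup.normalizer (V : Set G) = ⊤ := Subgroup.normalizer_eq_top_iff.2 inferInstance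
  have ha : a ∈ Subgroup.normalizer (V : Set G) := by rw [hN]; trivial
  have h := hst V hV a ha hquad
  let ψ : (↥(Subgroup.normalizer (V : Set G)) ⧸
      (Subgroup.centralizer (V : Set G)).subgroupOf (Subgroup.normalizer (V : Set G))) →*
      (G ⧸ Subgroup.centralizer (V : Set G)) :=
    QuotientGroup.map _ _ (Subgroup.normalizer (V : Set G)).subtype (fun x hx => hx)
  have hsurj : Function.Surjective ψ := by
    intro q
    obtain ⟨g, rfl⟩ := QuotientGroup.mk_surjective q
    exact ⟨QuotientGroup.mk ⟨g, by rw [hN]; trivial⟩, rfl⟩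
  have himg : (Cfsg.pCore p (↥(Subgroup.normalizer (V : Set G)) ⧸
      (Subgroup.centralizer (V : Set G)).subgroupOf (Subgroup.normalizer (V : Set G)))).map ψ ≤
      Cfsg.pCore p (G ⧸ Subgroup.centralizer (V : Set G)) := by
    apply le_pCore
    · exact (pCore_normal p _).map ψ hsurj
    · exact pCore_isPGroup.map ψ
  exact himg ⟨_, h, rfl⟩


/-- Glauberman's ZJ-Theorem for strongly closed subgroups, p odd. Let G be a finite group that is p-stable in the normalizer form (for every p-subgroup U and g ∈ N_G(U) with [U, g, g] = 1, the image of g lies in O_p(N_G(U)/C_G(U))), with C_G(O_p(G)) ≤ O_p(G), let P be a Sylow p-subgroup and D a subgroup of P strongly closed in P with respect to G. Then Z(J(D)) is normal in G, where J(D) is generated by the abelian subgroups of D of largest order; and so is Ω₁(Z(J_e(D))), where J_e(D) is generated by the elementary abelian subgroups of D of largest order. -/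
theorem result {G : Type*} [Group G] [Finite G] {p : ℕ} [Fact p.Prime] (hp : p ≠ 2) (P : Sylow p G) (D : Subgroup G) (hD : Cfsg.IsStronglyClosed D (P : Subgroup G)) (hst : Cfsg.IsNormalizerPStable p G) (hc : Subgroup.centralizer ((Cfsg.pCore p G : Subgroup G) : Set G) ≤ Cfsg.pCore p G) : (Cfsg.centerThompsonAOf D).Normal ∧ (Cfsg.omegaOne p (Cfsg.centerThompsonOf p D)).Normal := by
  obtain ⟨hDP, hcl⟩ := hD
  have hst' : ∀ (V : Subgroup G) [V.Normal], IsPGroup p V → Cfsg.IsPStableOn p V :=
    fun V _ hV => stableOn_of_normalizerStable hst V hV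
  constructor
  · rw [centerThompsonA_eq]
    exact zj_normal hp hc hst' P (FA_datum _ _ hDP hcl)
  · have : Cfsg.omegaOne p (Cfsg.centerThompsonOf p D) = Zd (FE p D) (fun b => b ^ p = 1) := by
      unfold Cfsg.omegaOne Cfsg.centerThompsonOf Cfsg.thompsonSubgroupOf Zd
      rw [thompsonE_eq]
    rw [this]
    exact zj_normal hp hc hst' P (FE_datum p _ _ hDP hcl)

end Cfsg.Agent.S3079
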