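import Cfsg.Statements.S3836
import Mathlib
import Cfsg.Agent.Lib.Helper7_PCore

set_option autoImplicit false
open Cfsg

namespace Cfsg.Agent.S3836

open Cfsg.Agent.Lib.Helper7_PCore

/-- Let G be a finite group that is p-stable in the normalizer form: for every p-subgroup Q and every x ∈ N_G(Q) with [Q, x, x] = 1, the image of x in N_G(Q)/C_G(Q) lies in O_p(N_G(Q)/C_G(Q)). Then every subgroup of G is p-stable in the same sense. -/
theorem result {G : Type*} [Group G] [Finite G] {p : ℕ} [Fact p.Prime] (hst : Cfsg.IsNormalizerPStable p G) (H : Subgroup G) : Cfsg.IsNormalizerPStable p ↥H := by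
  intro Q hQ x hx hquad
  set Q' : Subgroup G := Q.map H.subtype with hQ'
  have hQ'p : IsPGroup p Q' := hQ.map _
  have hmemQ' : ∀ q : H, (q : G) ∈ Q' ↔ q ∈ Q := by
    intro q
    constructor
    · rintro ⟨q', hq', hqq⟩
      have : q' = q := Subtype.ext hqq
      rw [← this]; exact hq'
    · intro hq
      exact ⟨q, hq, rfl⟩
  -- normalizer elements
  have hnorm : ∀ h : H, h ∈ Subgroup.normalizer (Q : Set H) →
      (h : G) ∈ Subgroup.normalizer (Q' : Set G) := by
    intro h hh
    apply Subgroup.mem_normalizer_fintype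
    rintro _ ⟨q, hq, rfl⟩
    have := (Subgroup.mem_normalizer_iff.mp hh q).mp hq
    exact ⟨h * q * h⁻¹, this, rfl⟩
  have hx' : (x : G) ∈ Subgroup.normalizer (Q' : Set G) := hnorm x hx
  have hquad' : ⁅⁅Q', Subgroup.zpowers (x : G)⁆, Subgroup.zpowers (x : G)⁆ = ⊥ := by
    have h1 : Subgroup.zpowers (x : G) = (Subgroup.zpowers x).map H.subtype := by
      rw [MonoidHom.map_zpowers]; rfl
    rw [h1, hQ', ← Subgroup.map_commutator, ← Subgroup.map_commutator, hquad, Subgroup.map_bot]
  have hmain := hst Q' hQ'p (x : G) hx' hquad'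
  -- the map between normalizers
  let φ : ↥(Subgroup.normalizer (Q : Set H)) →* ↥(Subgroup.normalizer (Q' : Set G)) :=
    { toFun := fun h => ⟨((h : H) : G), hnorm h h.2⟩
      map_one' := rfl
      map_mul' := fun a b => rfl }
  have hle : (Subgroup.centralizer (Q : Set H)).subgroupOf (Subgroup.normalizer (Q : Set H)) ≤
      ((Subgroup.centralizer (Q' : Set G)).subgroupOf (Subgroup.normalizer (Q' : Set G))).comap φ := by
    intro h hh
    rw [Subgroup.mem_comap, Subgroup.mem_subgroupOf]
    rw [Subgroup.mem_subgroupOf, Subgroup.mem_centralizer_iff] at hh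
    rw [Subgroup.mem_centralizer_iff]
    rintro _ ⟨q, hq, rfl⟩
    have := hh q hq
    exact congrArg Subtype.val this
  let ψ := QuotientGroup.map _ _ φ hle
  have hψinj : Function.Injective ψ := by
    rw [injective_iff_map_eq_one]
    intro a
    induction a using QuotientGroup.induction_on with
    | H h =>
      intro ha
      have ha' := ha
      simp only [ψ, QuotientGroup.map_mk] at ha'
      rw [QuotientGroup.eq_one_iff, Subgroup.mem_subgroupOf, Subgroup.mem_centralizer_iff] at ha'
      rw [QuotientGroup.eq_one_iff, Subgroup.mem_subgroupOf, Subgroup.mem_centralizer_iff]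
      intro q hq
      apply Subtype.ext
      exact ha' (q : G) ⟨q, hq, rfl⟩
  set O := pCore p (↥(Subgroup.normalizer (Q' : Set G)) ⧸
          (Subgroup.centralizer (Q' : Set G)).subgroupOf (Subgroup.normalizer (Q' : Set G))) with hO
  have hOn : O.Normal := Cfsg.Agent.Lib.Helper7_PCore.pCore_normal p
  have hOp : IsPGroup p O := pCore_isPGroup p
  have hcn : (O.comap ψ).Normal := hOn.comap ψ
  have hcp : IsPGroup p (O.comap ψ) := hOp.comap_of_injective ψ hψinj
  have hcle := le_pCore hcn hcp
  apply hcle
  rw [Subgroup.mem_comap]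
  exact hmain

end Cfsg.Agent.S3836
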