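import Cfsg.Statements.S3080
import Mathlib
import Cfsg.Agent.Lib.Lead_SF3
import Cfsg.Agent.Lib.Lead_ZJ
import Cfsg.Agent.Lib.Lead_SC1
import Cfsg.Agent.S3836
import Cfsg.Agent.S1961

set_option autoImplicit false
open Cfsg

namespace Cfsg.Agent.S3080

/-- Let p be an odd prime, G a finite group that is p-stable in the normalizer form, P a Sylow p-subgroup such that N_G(U) is p-constrained for every nontrivial subgroup U of P, and D a subgroup of P strongly closed in P with respect to G. Then N_G(Z(J(D))) controls strong G-fusion in P (for every subset A of P and every g ∈ G with gAg⁻¹ ⊆ P, some element of that normalizer acts on A exactly as g does; J(D) is generated by the abelian subgroups of D of largest order), and so does N_G(Ω₁(Z(J_e(D)))) (J_e(D) generated by the elementary abelian subgroups of largest order). -/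
theorem result {G : Type*} [Group G] [Finite G] {p : ℕ} [Fact p.Prime] (hp : p ≠ 2) (P : Sylow p G) (D : Subgroup G) (hD : Cfsg.IsStronglyClosed D (P : Subgroup G)) (hst : Cfsg.IsNormalizerPStable p G) (hc : ∀ U : Subgroup G, U ≤ (P : Subgroup G) → U ≠ ⊥ → Cfsg.IsPConstrained p ↥(Subgroup.normalizer (U : Set G))) : (∀ A : Set G, A ⊆ (P : Subgroup G) → Cfsg.ControlsStrongFusionOf (Subgroup.normalizer ((Cfsg.centerThompsonAOf D) : Set G)) (P : Subgroup G) A) ∧ (∀ A : Set G, A ⊆ (P : Subgroup G) → Cfsg.ControlsStrongFusionOf (Subgroup.normalizer ((Cfsg.omegaOne p (Cfsg.centerThompsonOf p D)) : Set G)) (P : Subgroup G) A) := by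
  have key : ∀ (𝒵 : Cfsg.Agent.Lib.Lead_GTb.WFun0 p),
      (∀ (Y : Type _) [Group Y] [Finite Y] (S : Sylow p Y) (D : Subgroup Y),
        Cfsg.IsStronglyClosed D (S : Subgroup Y) →
        (∀ (V : Subgroup Y) [V.Normal], IsPGroup p V → Cfsg.IsPStableOn p V) →
        Subgroup.centralizer ((Cfsg.pCore p Y : Subgroup Y) : Set Y) ≤ Cfsg.pCore p Y →
        (𝒵.W Y D).Normal) →
      ∀ A : Set G, A ⊆ (P : Subgroup G) →
        Cfsg.ControlsStrongFusionOf (Subgroup.normalizer ((𝒵.W G D : Subgroup G) : Set G))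
          (P : Subgroup G) A := by
    intro 𝒵 hn A hA
    by_cases hDne : D = ⊥
    · subst hDne
      exact Cfsg.Agent.Lib.Lead_SF3.global_bot 𝒵 P A hA
    · have hloc := fun (T : Subgroup G) (hTne : T ≠ ⊥)
          (hT : Cfsg.IsWellPlaced p (Cfsg.Agent.Lib.Lead_SF3.WD 𝒵 D) (P : Subgroup G) T) =>
        Cfsg.Agent.Lib.Lead_SF3.hloc_WD 𝒵 hn P D hD hDne
          (fun N => Cfsg.Agent.S3836.result hst N) hc T hTne hT
      have hctl := Cfsg.Agent.S1961.result P (Cfsg.Agent.Lib.Lead_SF3.WD 𝒵 D)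
        (Cfsg.Agent.Lib.Lead_SF3.WD_conj 𝒵 D) hloc
      exact Cfsg.Agent.Lib.Lead_SF3.global_of_ctrl 𝒵 P D hD hDne hctl A hA
  constructor
  · refine key (Cfsg.Agent.Lib.Lead_SC1.zA p) ?_
    intro Y _ _ S D' hD' hst' hc'
    obtain ⟨hDP, hcl⟩ := hD'
    show (Cfsg.centerThompsonAOf D').Normal
    rw [Cfsg.Agent.Lib.Lead_ZJ.centerThompsonA_eq]
    exact Cfsg.Agent.Lib.Lead_ZJ.zj_normal hp hc' hst' S
      (Cfsg.Agent.Lib.Lead_ZJ.FA_datum _ _ hDP hcl)
  · refine key (Cfsg.Agent.Lib.Lead_SC1.zE p) ?_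
    intro Y _ _ S D' hD' hst' hc'
    obtain ⟨hDP, hcl⟩ := hD'
    show (Cfsg.omegaOne p (Cfsg.centerThompsonOf p D')).Normal
    have h1 : Cfsg.omegaOne p (Cfsg.centerThompsonOf p D') =
        Cfsg.Agent.Lib.Lead_ZJ.Zd (Cfsg.Agent.Lib.Lead_ZJ.FE p D') (fun b => b ^ p = 1) := by
      unfold Cfsg.omegaOne Cfsg.centerThompsonOf Cfsg.thompsonSubgroupOf Cfsg.Agent.Lib.Lead_ZJ.Zd
      rw [Cfsg.Agent.Lib.Lead_ZJ.thompsonE_eq]
    rw [h1]
    exact Cfsg.Agent.Lib.Lead_ZJ.zj_normal hp hc' hst' S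
      (Cfsg.Agent.Lib.Lead_ZJ.FE_datum p _ _ hDP hcl)

end Cfsg.Agent.S3080
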