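import Mathlib
import Cfsg.Statements.S3087
import Cfsg.Agent.Lib.Helper5_CD

set_option autoImplicit false
open Cfsg

namespace Cfsg.Agent.S3087

open Cfsg.Agent.Lib.Helper5_CD

theorem add_card_mul_card_le {V : Type*} [AddGroup V] [Finite V] (X Y : AddSubgroup V) :
    Nat.card X * Nat.card Y ≤ Nat.card ↥(X ⊔ Y) * Nat.card ↥(X ⊓ Y) := by
  have h := card_mul_card_le (AddSubgroup.toSubgroup X) (AddSubgroup.toSubgroup Y)
  rw [← map_sup, ← map_inf] at h
  exact h

/-- fixed points of a subgroup as an additive subgroup -/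
def CV {G V : Type*} [Group G] [AddCommGroup V] (p : ℕ) [Module (ZMod p) V]
    (ρ : Representation (ZMod p) G V) (B : Subgroup G) : AddSubgroup V where
  carrier := {v | ∀ b ∈ B, ρ b v = v}
  zero_mem' := by intro b _; simp
  add_mem' := by
    intro x y hx hy b hb
    rw [map_add, hx b hb, hy b hb]
  neg_mem' := by
    intro x hx b hb
    rw [map_neg, hx b hb]

/-- Let p be a prime, G a finite group acting linearly on a finite vector space V over the field with p elements, W a G-invariant subspace, and A a subgroup of G with |A|·|C_V(A)| ≥ |B|·|C_V(B)| for every subgroup B of A. Then |A|·|C_W(A)| ≥ |B|·|C_W(B)| for every subgroup B of A that contains C_A(W); that is, the image of A in the group induced on W satisfies the same maximality condition. -/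
theorem result {G V : Type*} [Group G] [Finite G] [AddCommGroup V] [Finite V] (p : ℕ) [Fact p.Prime] [Module (ZMod p) V]
    (ρ : Representation (ZMod p) G V) (W : Submodule (ZMod p) V) (hW : ∀ g : G, ∀ w ∈ W, ρ g w ∈ W)
    (A : Subgroup G)
    (hP : ∀ B : Subgroup G, B ≤ A →
      Nat.card ↥B * Nat.card {v : V // ∀ b ∈ B, ρ b v = v} ≤ Nat.card ↥A * Nat.card {v : V // ∀ a ∈ A, ρ a v = v})
    (B : Subgroup G) (hBA : B ≤ A) (hCB : ∀ a ∈ A, (∀ w ∈ W, ρ a w = w) → a ∈ B) :
    Nat.card ↥B * Nat.card {w : W // ∀ b ∈ B, ρ b w = w} ≤ Nat.card ↥A * Nat.card {w : W // ∀ a ∈ A, ρ a w = w} := by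
  have hcv : ∀ C : Subgroup G, Nat.card {v : V // ∀ b ∈ C, ρ b v = v} = Nat.card (CV p ρ C) :=
    fun C => rfl
  have hcw : ∀ C : Subgroup G, Nat.card {w : W // ∀ b ∈ C, ρ b w = w} =
      Nat.card ↥(W.toAddSubgroup ⊓ CV p ρ C) := by
    intro C
    apply Nat.card_congr
    exact
      { toFun := fun w => ⟨(w.1 : V), w.1.2, w.2⟩
        invFun := fun v => ⟨⟨v.1, v.2.1⟩, v.2.2⟩
        left_inv := fun w => rfl
        right_inv := fun v => rfl }
  have h1 := hP B hBA
  rw [hcv, hcv] at h1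
  rw [hcw, hcw]
  -- X = C_V(A), Y = C_W(B)
  have hle : CV p ρ A ≤ CV p ρ B := fun v hv b hb => hv b (hBA hb)
  have h2 := add_card_mul_card_le (CV p ρ A) (W.toAddSubgroup ⊓ CV p ρ B)
  have h3 : CV p ρ A ⊔ (W.toAddSubgroup ⊓ CV p ρ B) ≤ CV p ρ B := sup_le hle inf_le_right
  have h4 : CV p ρ A ⊓ (W.toAddSubgroup ⊓ CV p ρ B) = W.toAddSubgroup ⊓ CV p ρ A := by
    rw [← inf_assoc, inf_comm (CV p ρ A), inf_assoc, inf_eq_left.mpr hle]
  rw [h4] at h2
  have h5 : Nat.card ↥(CV p ρ A ⊔ (W.toAddSubgroup ⊓ CV p ρ B)) ≤ Nat.card (CV p ρ B) :=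
    AddSubgroup.card_le_of_le h3
  set a := Nat.card A
  set b := Nat.card B
  set va := Nat.card (CV p ρ A)
  set vb := Nat.card (CV p ρ B)
  set wa := Nat.card ↥(W.toAddSubgroup ⊓ CV p ρ A)
  set wb := Nat.card ↥(W.toAddSubgroup ⊓ CV p ρ B)
  have hvapos : 0 < va := Nat.card_pos
  -- va * wb ≤ vb * wa ; b * vb ≤ a * va
  have h6 : va * wb ≤ vb * wa := h2.trans (Nat.mul_le_mul_right _ h5)
  have h7 : va * (b * wb) ≤ va * (a * wa) := by
    calc va * (b * wb) = b * (va * wb) := by ring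
      _ ≤ b * (vb * wa) := Nat.mul_le_mul_left _ h6
      _ = (b * vb) * wa := by ring
      _ ≤ (a * va) * wa := Nat.mul_le_mul_right _ h1
      _ = va * (a * wa) := by ring
  exact Nat.le_of_mul_le_mul_left h7 hvapos

end Cfsg.Agent.S3087
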