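import Mathlib
import Cfsg.Statements.S3116

set_option autoImplicit false
open Cfsg

namespace Cfsg.Agent.S3116

open Subgroup

/-- A finite group with a cyclic subgroup `⟨x⟩` of order `2^n` and index `2` containing all elements
of order `2^n` has a `2`-group of automorphisms. -/
theorem aut_isPGroup {X : Type*} [Group X] [Finite X] (x : X) (n : ℕ) (hn : 1 ≤ n)
    (hx : orderOf x = 2 ^ n) (hidx : (zpowers x).index = 2)
    (hchar : ∀ g : X, orderOf g = 2 ^ n → g ∈ zpowers x) : IsPGroup 2 (MulAut X) := by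
  intro α
  -- (a)
  have hαx : α x ∈ zpowers x := hchar _ (by rw [MulEquiv.orderOf_eq, hx])
  rw [← mem_powers_iff_mem_zpowers] at hαx
  obtain ⟨j, hj⟩ := hαx
  -- (b)
  have hpow : ∀ t : ℕ, (α ^ t) x = x ^ (j ^ t) := by
    intro t
    induction t with
    | zero => simp
    | succ t ih =>
      rw [pow_succ', MulAut.mul_apply, ih, map_pow, ← hj, ← pow_mul, pow_succ']
  -- (c)
  have hcop : Nat.Coprime j (2 ^ n) := by
    have h1 : orderOf (x ^ j) = 2 ^ n := by
      have : x ^ j = α x := hj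
      rw [this, MulEquiv.orderOf_eq, hx]
    rw [orderOf_pow' _ (by
      intro h0
      rw [h0, pow_zero, orderOf_one] at h1
      have : 2 ≤ 2 ^ n := by
        calc 2 = 2 ^ 1 := rfl
          _ ≤ 2 ^ n := Nat.pow_le_pow_right (by norm_num) hn
      omega), hx] at h1
    have hpos : 0 < 2 ^ n := by positivity
    have : Nat.gcd (2 ^ n) j = 1 := by
      rcases Nat.div_eq_self.mp h1 with h0 | h0
      · omega
      · exact h0
    rw [Nat.coprime_comm]; exact this
  have htot : Nat.totient (2 ^ n) = 2 ^ (n - 1) := by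
    rw [Nat.totient_prime_pow Nat.prime_two hn]; simp
  have hβx : (α ^ (2 ^ (n - 1))) x = x := by
    rw [hpow]
    have h1 : j ^ (2 ^ (n - 1)) ≡ 1 [MOD 2 ^ n] := by
      rw [← htot]; exact Nat.ModEq.pow_totient hcop
    have h2 : x ^ (j ^ (2 ^ (n - 1))) = x ^ 1 := by
      rw [pow_eq_pow_iff_modEq, hx]; exact h1
    rw [h2, pow_one]
  set β := α ^ (2 ^ (n - 1)) with hβ
  have hβC : ∀ c ∈ zpowers x, β c = c := by
    intro c hc
    rw [← mem_powers_iff_mem_zpowers] at hc
    obtain ⟨i, rfl⟩ := hc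
    show β (x ^ i) = x ^ i
    rw [map_pow, hβx]
  -- (d)
  obtain ⟨y, hy⟩ : ∃ y : X, y ∉ zpowers x := by
    by_contra hall
    push Not at hall
    have : zpowers x = ⊤ := eq_top_iff.mpr fun g _ => hall g
    rw [this, index_top] at hidx
    omega
  have hβy : β y ∉ zpowers x := by
    intro h
    have h1 := hβC _ h
    have h2 : β y = y := β.injective h1
    rw [h2] at h
    exact hy h
  have hc : y⁻¹ * β y ∈ zpowers x := by
    rw [mul_mem_iff_of_index_two hidx, inv_mem_iff]
    exact ⟨fun h => absurd h hy, fun h => absurd h hβy⟩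
  have hβpow : ∀ s : ℕ, (β ^ s) y = y * (y⁻¹ * β y) ^ s := by
    intro s
    induction s with
    | zero => simp
    | succ s ih =>
      rw [pow_succ', MulAut.mul_apply, ih, map_mul, map_pow, hβC _ hc, pow_succ']
      simp only [mul_assoc, mul_inv_cancel_left]
  have hcpow : (y⁻¹ * β y) ^ (2 ^ n) = 1 := by
    have hc' := hc
    rw [← mem_powers_iff_mem_zpowers] at hc'
    obtain ⟨i, hi⟩ := hc'
    have hi' : x ^ i = y⁻¹ * β y := hi
    rw [← hi', ← pow_mul, mul_comm, pow_mul, ← hx, pow_orderOf_eq_one, one_pow]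
  set γ := β ^ (2 ^ n) with hγ
  have hγy : γ y = y := by rw [hγ, hβpow, hcpow, mul_one]
  have hγC : ∀ c ∈ zpowers x, γ c = c := by
    intro c hc
    have : ∀ s : ℕ, (β ^ s) c = c := by
      intro s
      induction s with
      | zero => simp
      | succ s ih => rw [pow_succ', MulAut.mul_apply, ih, hβC c hc]
    exact this _
  have hγ1 : γ = 1 := by
    ext g
    rw [MulAut.one_apply]
    by_cases hg : g ∈ zpowers x
    · exact hγC g hg
    · have h1 : y⁻¹ * g ∈ zpowers x := by
        rw [mul_mem_iff_of_index_two hidx, inv_mem_iff]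
        exact ⟨fun h => absurd h hy, fun h => absurd h hg⟩
      have h2 : g = y * (y⁻¹ * g) := by group
      rw [h2, map_mul, hγy, hγC _ h1]
  refine ⟨(n - 1) + n, ?_⟩
  rw [pow_add, pow_mul]
  exact hγ1

theorem index_two_of_card {X : Type*} [Group X] [Finite X] (x : X) (k : ℕ) (hk : 0 < k)
    (hx : orderOf x = k) (hX : Nat.card X = 2 * k) : (zpowers x).index = 2 := by
  have h1 := Subgroup.card_mul_index (zpowers x)
  rw [Nat.card_zpowers, hx, hX] at h1
  have : k * (zpowers x).index = k * 2 := by rw [h1]; ring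
  exact Nat.eq_of_mul_eq_mul_left hk this

theorem dihedral_case {X : Type*} [Group X] [Finite X] (h2 : IsPGroup 2 X) (k : ℕ) (hk : 4 ≤ k)
    (e : X ≃* DihedralGroup k) : IsPGroup 2 (MulAut X) := by
  have : NeZero k := ⟨by omega⟩
  set x : X := e.symm (DihedralGroup.r 1) with hxdef
  have hx : orderOf x = k := by
    rw [hxdef, MulEquiv.orderOf_eq, DihedralGroup.orderOf_r_one]
  have hX : Nat.card X = 2 * k := by
    rw [Nat.card_congr e.toEquiv, DihedralGroup.nat_card]
  obtain ⟨m, hm⟩ := IsPGroup.iff_card.mp h2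
  rw [hX] at hm
  have hm1 : 1 ≤ m := by
    rcases Nat.eq_zero_or_pos m with h | h
    · rw [h] at hm; omega
    · exact h
  have hk2 : k = 2 ^ (m - 1) := by
    have : 2 ^ m = 2 * 2 ^ (m - 1) := by
      rw [← pow_succ']; congr 1; omega
    rw [this] at hm
    exact Nat.eq_of_mul_eq_mul_left (by norm_num) hm
  have hn : 1 ≤ m - 1 := by
    rcases Nat.eq_zero_or_pos (m - 1) with h | h
    · rw [h] at hk2; omega
    · exact h
  apply aut_isPGroup x (m - 1) hn (hx.trans hk2) (index_two_of_card x k (by omega) hx hX)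
  intro g hg
  rw [← hk2] at hg
  have hg' : orderOf (e g) = k := by rw [MulEquiv.orderOf_eq]; exact hg
  rcases hgi : e g with i | i
  · -- e g = r i
    have h1 : (DihedralGroup.r 1 : DihedralGroup k) ^ i.val = DihedralGroup.r i := by
      rw [DihedralGroup.r_one_pow, ZMod.natCast_zmod_val]
    have h2 : g = x ^ i.val := by
      rw [hxdef, ← map_pow, h1, ← hgi, MulEquiv.symm_apply_apply]
    rw [h2]
    exact Subgroup.pow_mem _ (mem_zpowers x) _
  · exfalso
    rw [hgi, DihedralGroup.orderOf_sr] at hg'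
    omega

theorem quasi_case {X : Type*} [Group X] [Finite X] (h : Cfsg.IsQuasiDihedral X) :
    IsPGroup 2 (MulAut X) := by
  obtain ⟨n, hn, hX, x, y, hx, hy, hrel⟩ := h
  have hpos : 0 < 2 ^ n := by positivity
  have hX' : Nat.card X = 2 * 2 ^ n := by rw [hX, pow_succ']
  have hidx := index_two_of_card x (2 ^ n) hpos hx hX'
  have hyy : y * y = 1 := by rw [← pow_two, ← hy]; exact pow_orderOf_eq_one y
  have hyinv : y⁻¹ = y := inv_eq_of_mul_eq_one_left hyy
  have h2n : 2 ^ n = 2 * 2 ^ (n - 1) := by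
    rw [← pow_succ']; congr 1; omega
  have h4 : 4 ≤ 2 ^ (n - 1) := by
    calc 4 = 2 ^ 2 := by norm_num
      _ ≤ 2 ^ (n - 1) := Nat.pow_le_pow_right (by norm_num) (by omega)
  -- y ∉ ⟨x⟩
  have hyC : y ∉ zpowers x := by
    intro hmem
    rw [← mem_powers_iff_mem_zpowers] at hmem
    obtain ⟨i, hi⟩ := hmem
    have hi' : x ^ i = y := hi
    have hcomm : y * x * y⁻¹ = x := by
      rw [← hi', ← pow_succ, pow_succ', mul_assoc, mul_inv_cancel, mul_one]
    rw [hcomm] at hrel
    have h1 : x ^ 1 = x ^ (2 ^ (n - 1) - 1) := by rw [pow_one]; exact hrel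
    rw [pow_eq_pow_iff_modEq, hx] at h1
    have h3 := Nat.ModEq.eq_of_lt_of_lt h1 (by omega) (by omega)
    omega
  apply aut_isPGroup x n (by omega) hx hidx
  intro g hg
  by_contra hgC
  have h1 : y⁻¹ * g ∈ zpowers x := by
    rw [mul_mem_iff_of_index_two hidx, inv_mem_iff]
    exact ⟨fun h => absurd h hyC, fun h => absurd h hgC⟩
  rw [← mem_powers_iff_mem_zpowers] at h1
  obtain ⟨i, hi⟩ := h1
  have hi' : x ^ i = y⁻¹ * g := hi
  have hg2 : g = y * x ^ i := by rw [hi']; group
  -- g^2 = x^(2^(n-1) * i)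
  have hconj : y * x ^ i * y⁻¹ = x ^ ((2 ^ (n - 1) - 1) * i) := by
    rw [pow_mul, ← hrel, conj_pow]
  have hsq : g * g = x ^ (2 ^ (n - 1) * i) := by
    have e1 : g * g = (y * x ^ i * y⁻¹) * (y * y) * x ^ i := by rw [hg2]; group
    rw [e1, hyy, mul_one, hconj, ← pow_add]
    congr 1
    have : 2 ^ (n - 1) - 1 + 1 = 2 ^ (n - 1) := by omega
    calc (2 ^ (n - 1) - 1) * i + i = (2 ^ (n - 1) - 1 + 1) * i := by ring
      _ = 2 ^ (n - 1) * i := by rw [this]
  have hg4 : g ^ 4 = 1 := by
    have : g ^ 4 = (g * g) * (g * g) := by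
      simp only [pow_succ, pow_zero, one_mul, mul_assoc]
    rw [this, hsq, ← pow_add, ← two_mul, ← mul_assoc, ← h2n, pow_mul, ← hx, pow_orderOf_eq_one,
      one_pow]
  have hdvd : orderOf g ∣ 4 := orderOf_dvd_of_pow_eq_one hg4
  rw [hg] at hdvd
  have := Nat.le_of_dvd (by norm_num) hdvd
  omega

/-- The automorphism group of a dihedral 2-group of order at least 8, or of a quasi-dihedral (semidihedral) 2-group of order at least 16, is a 2-group. -/
theorem result {X : Type*} [Group X] [Finite X] (h2 : IsPGroup 2 X)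
    (h : (∃ n : ℕ, 4 ≤ n ∧ Nonempty (X ≃* DihedralGroup n)) ∨ Cfsg.IsQuasiDihedral X) : IsPGroup 2 (MulAut X) := by
  rcases h with ⟨k, hk, ⟨e⟩⟩ | h
  · exact dihedral_case h2 k hk e
  · exact quasi_case h

end Cfsg.Agent.S3116
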