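import Mathlib
import Cfsg.Statements.S3155

set_option autoImplicit false
open Cfsg

namespace Cfsg.Agent.S3155

theorem no_sq : ∀ x : ZMod 4, x * x ≠ -1 := by decide

theorem core (g : (ZMod 4 × ZMod 4 × ZMod 4) →+ (ZMod 4 × ZMod 4 × ZMod 4))
    (hg : ∀ x, g (g x) = -x) : False := by
  haveI : Fact (1 < 4) := ⟨by norm_num⟩
  let L : (ZMod 4 × ZMod 4 × ZMod 4) →ₗ[ZMod 4] (ZMod 4 × ZMod 4 × ZMod 4) :=
    AddMonoidHom.toZModLinearMap 4 g
  have hL : L ∘ₗ L = (-1 : ZMod 4) • LinearMap.id := by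
    ext x <;> simp [L, hg]
  have hfr : Module.finrank (ZMod 4) (ZMod 4 × ZMod 4 × ZMod 4) = 3 := by
    rw [Module.finrank_prod, Module.finrank_prod, Module.finrank_self]
  have hdet := congrArg LinearMap.det hL
  rw [LinearMap.det_comp, LinearMap.det_smul, hfr, LinearMap.det_id] at hdet
  apply no_sq (LinearMap.det L)
  rw [hdet]
  decide

/-- Let B be the direct product of three cyclic groups of order 4. Then the automorphism of B inverting every element is not the square of any automorphism of B. -/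
theorem result {B : Type*} [CommGroup B] [Finite B] (hB : Nonempty (B ≃* Multiplicative (ZMod 4 × ZMod 4 × ZMod 4)))
    (τ : B ≃* B) : τ.trans τ ≠ MulEquiv.inv B := by
  intro h
  obtain ⟨e⟩ := hB
  have hτ : ∀ b : B, τ (τ b) = b⁻¹ := by
    intro b
    have := congrArg (fun f : B ≃* B => f b) h
    simpa using this
  let σ : Multiplicative (ZMod 4 × ZMod 4 × ZMod 4) →* Multiplicative (ZMod 4 × ZMod 4 × ZMod 4) :=
    (e.toMonoidHom.comp τ.toMonoidHom).comp e.symm.toMonoidHom
  have hσ : ∀ y, σ (σ y) = y⁻¹ := by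
    intro y
    simp [σ, hτ]
  let g : (ZMod 4 × ZMod 4 × ZMod 4) →+ (ZMod 4 × ZMod 4 × ZMod 4) :=
    AddMonoidHom.toMultiplicative.symm σ
  apply core g
  intro x
  have := hσ (Multiplicative.ofAdd x)
  have h2 : g (g x) = Multiplicative.toAdd (σ (σ (Multiplicative.ofAdd x))) := rfl
  rw [h2, this]
  rfl

end Cfsg.Agent.S3155
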