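import Cfsg.Statements.S3158
import Mathlib

set_option autoImplicit false
open Cfsg

namespace Cfsg.Agent.S3158

open scoped commutatorElement

/-- In a nilpotent group a nontrivial normal subgroup meets the centre nontrivially
(after helper4's `normal_inf_center_ne_bot'`). -/
theorem normal_inf_center {Q : Type*} [Group Q] [Group.IsNilpotent Q] (A : Subgroup Q)
    [hAn : A.Normal] (hA : A ≠ ⊥) : ∃ a ∈ A, a ∈ Subgroup.center Q ∧ a ≠ 1 := by
  classical
  obtain ⟨n, hn⟩ := Group.IsNilpotent.nilpotent Q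
  have hex : ∃ i, A ⊓ Subgroup.upperCentralSeries Q i ≠ ⊥ := ⟨n, by rw [hn, inf_top_eq]; exact hA⟩
  have hspec := Nat.find_spec hex
  have hmin := fun {m : ℕ} (h : m < Nat.find hex) => Nat.find_min hex h
  cases hi : Nat.find hex with
  | zero =>
    rw [hi, Subgroup.upperCentralSeries_zero, inf_bot_eq] at hspec
    exact absurd rfl hspec
  | succ j =>
    rw [hi] at hspec
    have hj : A ⊓ Subgroup.upperCentralSeries Q j = ⊥ := by
      have := hmin (m := j) (by omega)
      rwa [not_not] at this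
    obtain ⟨a, ha1⟩ := (Subgroup.ne_bot_iff_exists_ne_one).mp hspec
    have haA : (a : Q) ∈ A := (Subgroup.mem_inf.mp a.2).1
    have haZ : (a : Q) ∈ Subgroup.upperCentralSeries Q (j + 1) := (Subgroup.mem_inf.mp a.2).2
    refine ⟨a, haA, ?_, fun h => ha1 (Subtype.ext h)⟩
    rw [Subgroup.mem_center_iff]
    intro y
    have h1 : ⁅(a : Q), y⁆ ∈ Subgroup.upperCentralSeries Q j :=
      Subgroup.mem_upperCentralSeries_succ_iff.mp haZ y
    have h2 : ⁅(a : Q), y⁆ ∈ A := by
      have e : ⁅(a : Q), y⁆ = (a : Q) * (y * (a : Q)⁻¹ * y⁻¹) := by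
        simp only [commutatorElement_def]; group
      rw [e]
      exact A.mul_mem haA (hAn.conj_mem _ (A.inv_mem haA) y)
    have h3 : ⁅(a : Q), y⁆ ∈ A ⊓ Subgroup.upperCentralSeries Q j := Subgroup.mem_inf.mpr ⟨h2, h1⟩
    rw [hj, Subgroup.mem_bot, commutatorElement_def] at h3
    have := congrArg (fun z => z * y * (a : Q)) h3
    simp only [one_mul] at this
    rw [← this]; group

/-- a fixed-point-free cyclic group of automorphisms of order `|V| - 1` is transitive on `V ∖ 1` -/
theorem transitive_of_fpf {U : Type*} [Group U] [Finite U] (y : MulAut U) (V : Subgroup U)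
    (hyV : ∀ v ∈ V, y v ∈ V) (hord : orderOf y = Nat.card V - 1)
    (hfp : ∀ k : ℕ, y ^ k ≠ 1 → ∀ u : U, (y ^ k) u = u → u = 1)
    (v₀ : U) (hv₀ : v₀ ∈ V) (hv₀1 : v₀ ≠ 1) (v : U) (hv : v ∈ V) (hv1 : v ≠ 1) :
    ∃ k : ℕ, (y ^ k) v₀ = v := by
  classical
  have hyV' : ∀ k : ℕ, ∀ w ∈ V, (y ^ k) w ∈ V := by
    intro k
    induction k with
    | zero => intro w hw; simpa using hw
    | succ k ih =>
      intro w hw
      rw [pow_succ', MulAut.mul_apply]
      exact hyV _ (ih w hw)
  have hinj : ∀ i j : ℕ, i < orderOf y → j < orderOf y → (y ^ i) v₀ = (y ^ j) v₀ → i = j := by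
    intro i j
    wlog hij : i ≤ j generalizing i j
    · intro hi hj h
      exact (this j i (by omega) hj hi h.symm).symm
    intro hi hj h
    by_contra hne
    have hlt : 0 < j - i := by omega
    have h1 : y ^ (j - i) ≠ 1 := pow_ne_one_of_lt_orderOf (by omega) (by omega)
    have h2 : (y ^ (j - i)) v₀ = v₀ := by
      have : y ^ j = y ^ i * y ^ (j - i) := by rw [← pow_add]; congr 1; omega
      rw [this, MulAut.mul_apply] at h
      exact ((y ^ i).injective h).symm
    exact hv₀1 (hfp _ h1 v₀ h2)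
  letI : Fintype V := Fintype.ofFinite V
  let f : Fin (orderOf y) → V := fun k => ⟨(y ^ (k : ℕ)) v₀, hyV' k v₀ hv₀⟩
  have hfinj : Function.Injective f := by
    intro a b hab
    have := congrArg Subtype.val hab
    exact Fin.ext (hinj a b a.2 b.2 this)
  have hsub : Finset.image f Finset.univ ⊆ (Finset.univ : Finset V).erase 1 := by
    intro w hw
    obtain ⟨k, -, rfl⟩ := Finset.mem_image.mp hw
    rw [Finset.mem_erase]
    refine ⟨?_, Finset.mem_univ _⟩
    intro h1
    have : (y ^ (k : ℕ)) v₀ = 1 := congrArg Subtype.val h1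
    apply hv₀1
    have h2 : (y ^ (k : ℕ)) v₀ = (y ^ (k : ℕ)) 1 := by rw [this, map_one]
    exact (y ^ (k : ℕ)).injective h2
  have hcard : ((Finset.univ : Finset V).erase 1).card ≤ (Finset.image f Finset.univ).card := by
    rw [Finset.card_image_of_injective _ hfinj, Finset.card_erase_of_mem (Finset.mem_univ _),
      Finset.card_univ, Finset.card_univ, Fintype.card_fin, hord, Nat.card_eq_fintype_card]
  have heq := Finset.eq_of_subset_of_card_le hsub hcard
  have hvm : (⟨v, hv⟩ : V) ∈ (Finset.univ : Finset V).erase 1 := by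
    rw [Finset.mem_erase]
    exact ⟨fun h => hv1 (congrArg Subtype.val h), Finset.mem_univ _⟩
  rw [← heq] at hvm
  obtain ⟨k, -, hk⟩ := Finset.mem_image.mp hvm
  exact ⟨k, congrArg Subtype.val hk⟩

/-- Let U be a group of order q² with q = 2^n ≥ 2, and y an automorphism of U of order q − 1 all of whose nontrivial powers fix only the identity. Let V be a proper normal y-invariant subgroup of U such that V and U/V are elementary abelian 2-groups and there is an isomorphism from V to U/V commuting with the actions of y. Then U is abelian. -/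
theorem result {U : Type*} [Group U] [Finite U] (n : ℕ) (hn : 1 ≤ n) (hU : Nat.card U = (2 ^ n) ^ 2)
    (y : MulAut U) (hy : orderOf y = 2 ^ n - 1) (hfp : ∀ k : ℕ, y ^ k ≠ 1 → ∀ u : U, (y ^ k) u = u → u = 1)
    (V : Subgroup U) [V.Normal] (hV : V ≠ ⊤) (hyV : ∀ v ∈ V, y v ∈ V)
    (hVe : ∀ v ∈ V, v ^ 2 = 1) (hQe : ∀ u : U, u ^ 2 ∈ V) (hQc : ∀ u w : U, u * w * u⁻¹ * w⁻¹ ∈ V)
    (φ : ↥V ≃* U ⧸ V) (hφ : ∀ (v : ↥V) (u : U), (QuotientGroup.mk u : U ⧸ V) = φ v → φ ⟨y v, hyV v v.2⟩ = QuotientGroup.mk (y u)) :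
    IsMulCommutative U := by
  classical
  haveI : Fact (Nat.Prime 2) := ⟨Nat.prime_two⟩
  have hU2 : IsPGroup 2 U := IsPGroup.of_card (n := n * 2) (by rw [hU, pow_mul])
  haveI : Group.IsNilpotent U := hU2.isNilpotent
  have hVcard : Nat.card V = 2 ^ n := by
    have h1 : Nat.card V * V.index = Nat.card U := V.card_mul_index
    have h2 : V.index = Nat.card V := by
      rw [Subgroup.index_eq_card]; exact (Nat.card_congr φ.toEquiv).symm
    rw [h2, hU, ← sq] at h1
    exact Nat.pow_left_injective (n := 2) (by norm_num) h1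
  have hord : orderOf y = Nat.card V - 1 := by rw [hVcard, hy]
  have h2n : 2 ≤ 2 ^ n := by
    calc 2 = 2 ^ 1 := by norm_num
      _ ≤ 2 ^ n := Nat.pow_le_pow_right (by norm_num) hn
  have hVne : V ≠ ⊥ := by
    intro h
    rw [h, Subgroup.card_bot] at hVcard
    omega
  have htr := transitive_of_fpf y V hyV hord hfp
  have hyV' : ∀ k : ℕ, ∀ w ∈ V, (y ^ k) w ∈ V := by
    intro k
    induction k with
    | zero => intro w hw; simpa using hw
    | succ k ih =>
      intro w hw
      rw [pow_succ', MulAut.mul_apply]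
      exact hyV _ (ih w hw)
  obtain ⟨a, haV, haZ, ha1⟩ := normal_inf_center V hVne
  have hVZ : ∀ v ∈ V, ∀ u : U, u * v = v * u := by
    intro v hv u
    by_cases hv1 : v = 1
    · rw [hv1]; simp
    obtain ⟨k, hk⟩ := htr a haV ha1 v hv hv1
    rw [← hk]
    have hu : u = (y ^ k) ((y ^ k)⁻¹ u) := by simp
    rw [hu, ← map_mul, ← map_mul]
    rw [Subgroup.mem_center_iff] at haZ
    rw [haZ]
  have hsq_coset : ∀ u : U, ∀ v ∈ V, (u * v) ^ 2 = u ^ 2 := by
    intro u v hv
    rw [sq, sq]
    calc u * v * (u * v) = u * (v * u) * v := by group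
      _ = u * (u * v) * v := by rw [hVZ v hv u]
      _ = u * u * (v * v) := by group
      _ = u * u := by rw [← sq v, hVe v hv, mul_one]
  have hsq_mk : ∀ u w : U, (QuotientGroup.mk u : U ⧸ V) = QuotientGroup.mk w → u ^ 2 = w ^ 2 := by
    intro u w h
    rw [QuotientGroup.eq] at h
    have hw : w = u * (u⁻¹ * w) := by group
    rw [hw, hsq_coset u _ h]
  let lift : V → U := fun v => (φ v).out
  have hlift : ∀ v : V, (QuotientGroup.mk (lift v) : U ⧸ V) = φ v := fun v => QuotientGroup.out_eq' _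
  let t : V → U := fun v => (lift v) ^ 2
  have ht_eq : ∀ (v : V) (u : U), (QuotientGroup.mk u : U ⧸ V) = φ v → u ^ 2 = t v := by
    intro v u h
    exact hsq_mk u (lift v) (h.trans (hlift v).symm)
  have ht_y : ∀ v : V, t ⟨y v, hyV v v.2⟩ = y (t v) := by
    intro v
    have h1 := hφ v (lift v) (hlift v)
    have h2 := ht_eq ⟨y v, hyV v v.2⟩ (y (lift v)) h1.symm
    rw [← h2, map_pow]
  have ht_yk : ∀ (k : ℕ) (v : V), t ⟨(y ^ k) v, hyV' k v v.2⟩ = (y ^ k) (t v) := by
    intro k
    induction k with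
    | zero =>
      intro v
      have : (⟨(y ^ 0) v, hyV' 0 v v.2⟩ : V) = v := Subtype.ext (by simp)
      rw [this]; simp
    | succ k ih =>
      intro v
      have e : (⟨(y ^ (k + 1)) v, hyV' (k + 1) v v.2⟩ : V) =
          ⟨y ((⟨(y ^ k) v, hyV' k v v.2⟩ : V) : U), hyV _ (hyV' k v v.2)⟩ := by
        apply Subtype.ext
        show (y ^ (k + 1)) (v : U) = y ((y ^ k) (v : U))
        rw [pow_succ', MulAut.mul_apply]
      rw [e, ht_y, ih, pow_succ', MulAut.mul_apply]
  have ht_V : ∀ v : V, t v ∈ V := fun v => hQe _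
  have ht1 : t 1 = 1 := by
    have h1 : lift 1 ∈ V := by
      have := hlift 1
      rw [map_one] at this
      exact (QuotientGroup.eq_one_iff _).mp this
    exact hVe _ h1
  -- t is multiplicative
  have ht_mul : ∀ v v' : V, t (v * v') = t v * t v' := by
    by_cases hA : t ⟨a, haV⟩ = 1
    · have hall : ∀ v : V, t v = 1 := by
        intro v
        by_cases hv1 : (v : U) = 1
        · have : v = 1 := Subtype.ext hv1
          rw [this]; exact ht1
        · obtain ⟨i, hi⟩ := htr a haV ha1 v v.2 hv1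
          have e : v = ⟨(y ^ i) ((⟨a, haV⟩ : V) : U), hyV' i a haV⟩ := Subtype.ext hi.symm
          rw [e, ht_yk i ⟨a, haV⟩, hA, map_one]
      intro v v'
      rw [hall, hall, hall, mul_one]
    · obtain ⟨k, hk⟩ := htr a haV ha1 (t ⟨a, haV⟩) (ht_V _) hA
      have hall : ∀ v : V, t v = (y ^ k) (v : U) := by
        intro v
        by_cases hv1 : (v : U) = 1
        · have : v = 1 := Subtype.ext hv1
          rw [this, ht1]; simp
        · obtain ⟨i, hi⟩ := htr a haV ha1 v v.2 hv1
          have e : v = ⟨(y ^ i) ((⟨a, haV⟩ : V) : U), hyV' i a haV⟩ := Subtype.ext hi.symm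
          rw [e, ht_yk i ⟨a, haV⟩, ← hk]
          show (y ^ i) ((y ^ k) a) = (y ^ k) ((y ^ i) a)
          rw [← MulAut.mul_apply, ← MulAut.mul_apply, ← pow_add, ← pow_add, add_comm]
      intro v v'
      rw [hall, hall, hall, Subgroup.coe_mul, map_mul]
  have hsq_mul : ∀ u w : U, (u * w) ^ 2 = u ^ 2 * w ^ 2 := by
    intro u w
    have h1 : (QuotientGroup.mk u : U ⧸ V) = φ (φ.symm (QuotientGroup.mk u)) := by simp
    have h2 : (QuotientGroup.mk w : U ⧸ V) = φ (φ.symm (QuotientGroup.mk w)) := by simp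
    have h3 : (QuotientGroup.mk (u * w) : U ⧸ V) =
        φ (φ.symm (QuotientGroup.mk u) * φ.symm (QuotientGroup.mk w)) := by
      rw [map_mul, ← h1, ← h2]; rfl
    rw [ht_eq _ _ h1, ht_eq _ _ h2, ht_eq _ _ h3, ht_mul]
  refine ⟨⟨fun u w => ?_⟩⟩
  have h := hsq_mul u w
  rw [sq, sq, sq] at h
  have h' : u * (w * u) * w = u * (u * w) * w := by
    calc u * (w * u) * w = u * w * (u * w) := by group
      _ = u * u * (w * w) := h
      _ = u * (u * w) * w := by group
  exact (mul_left_cancel (mul_right_cancel h')).symm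

end Cfsg.Agent.S3158
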