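import Mathlib
import Cfsg.Statements.S3163
import Cfsg.Agent.Lib.Helper5_CD

set_option autoImplicit false
open Cfsg

namespace Cfsg.Agent.S3163

open Cfsg.Agent.Lib.Helper5_CD
open Subgroup
open scoped Pointwise

variable {S : Type*} [Group S]

theorem ea_comm {A : Subgroup S} (hA : Cfsg.IsElementaryAbelian 2 A) :
    ∀ x ∈ A, ∀ y ∈ A, x * y = y * x := by
  intro x hx y hy
  exact congrArg Subtype.val (hA.1.is_comm.comm ⟨x, hx⟩ ⟨y, hy⟩)

theorem inv_eq_of_sq {x : S} (h : x ^ 2 = 1) : x⁻¹ = x := by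
  rw [inv_eq_iff_mul_eq_one, ← pow_two, h]

theorem mem_centralizer_singleton {x y : S} : y ∈ centralizer ({x} : Set S) ↔ x * y = y * x := by
  rw [mem_centralizer_iff]
  simp

/-- the one-sided statement, symmetric in `A`, `B` -/
theorem core [Finite S] (hna : ¬ IsMulCommutative S) (A B : Subgroup S)
    (hA : Cfsg.IsElementaryAbelian 2 A) (hB : Cfsg.IsElementaryAbelian 2 B)
    (hAB : ∀ s : S, ∃ a ∈ A, ∃ b ∈ B, s = a * b)
    (hC : ∀ a ∈ A, a ∉ B → Subgroup.centralizer ({a} : Set S) = A) :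
    (∃ a₀ ∈ A, a₀ ∉ B) ∧ (∃ b₀ ∈ B, b₀ ∉ A) ∧
    (∀ b ∈ B, b ∉ A → Subgroup.centralizer ({b} : Set S) = B) ∧
    (∀ x : S, x ^ 2 = 1 → x ∈ A ∨ x ∈ B) ∧
    Subgroup.center S = A ⊓ B := by
  have hAc := ea_comm hA
  have hBc := ea_comm hB
  have hnotle : ∀ (A B : Subgroup S), (∀ x ∈ B, ∀ y ∈ B, x * y = y * x) →
      (∀ s : S, ∃ a ∈ A, ∃ b ∈ B, s = a * b) → ∃ a₀ ∈ A, a₀ ∉ B := by
    intro A B hBc hAB
    by_contra hcon
    push Not at hcon
    apply hna
    have hall : ∀ s : S, s ∈ B := by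
      intro s
      obtain ⟨a, ha, b, hb, rfl⟩ := hAB s
      exact B.mul_mem (hcon a ha) hb
    exact ⟨⟨fun x y => hBc x (hall x) y (hall y)⟩⟩
  have hAB' : ∀ s : S, ∃ b ∈ B, ∃ a ∈ A, s = b * a := by
    intro s
    obtain ⟨a, ha, b, hb, h⟩ := hAB s⁻¹
    refine ⟨b⁻¹, B.inv_mem hb, a⁻¹, A.inv_mem ha, ?_⟩
    rw [← mul_inv_rev, ← h, inv_inv]
  obtain ⟨a₀, ha₀, ha₀B⟩ := hnotle A B hBc hAB
  obtain ⟨b₀, hb₀, hb₀A⟩ := hnotle B A hAc hAB'
  have h1 : ∀ b ∈ B, b ∉ A → Subgroup.centralizer ({b} : Set S) = B := by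
    intro b hb hbA
    apply le_antisymm
    · intro x hx
      rw [mem_centralizer_singleton] at hx
      obtain ⟨a, ha, b', hb', rfl⟩ := hAB x
      by_cases haB : a ∈ B
      · exact B.mul_mem haB hb'
      · exfalso
        apply hbA
        rw [← hC a ha haB, mem_centralizer_singleton]
        -- `a` commutes with `b`
        have h2 : b * b' = b' * b := hBc b hb b' hb'
        have h3 : b * a * b' = a * b * b' := by
          calc b * a * b' = b * (a * b') := by group
            _ = a * b' * b := hx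
            _ = a * (b' * b) := by group
            _ = a * (b * b') := by rw [h2]
            _ = a * b * b' := by group
        exact (mul_right_cancel h3).symm
    · intro y hy
      rw [mem_centralizer_singleton]
      exact hBc b hb y hy
  have hinv : ∀ x : S, x ^ 2 = 1 → x ∈ A ∨ x ∈ B := by
    intro x hx
    obtain ⟨a, ha, b, hb, rfl⟩ := hAB x
    by_cases haB : a ∈ B
    · right; exact B.mul_mem haB hb
    · left
      have ha2 : a⁻¹ = a := inv_eq_of_sq (hA.2 a ha)
      have hb2 : b⁻¹ = b := inv_eq_of_sq (hB.2 b hb)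
      have h2 : (a * b)⁻¹ = a * b := inv_eq_of_sq hx
      rw [mul_inv_rev, ha2, hb2] at h2
      have : b ∈ centralizer ({a} : Set S) := by
        rw [mem_centralizer_singleton]; exact h2.symm
      rw [hC a ha haB] at this
      exact A.mul_mem ha this
  have hDc : A ⊓ B ≤ center S := by
    intro z hz
    rw [mem_inf] at hz
    rw [mem_center_iff]
    intro g
    obtain ⟨a, ha, b, hb, rfl⟩ := hAB g
    calc a * b * z = a * (b * z) := by group
      _ = a * (z * b) := by rw [hBc b hb z hz.2]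
      _ = (a * z) * b := by group
      _ = (z * a) * b := by rw [hAc a ha z hz.1]
      _ = z * (a * b) := by group
  have hcA : center S ≤ A := by
    intro z hz
    rw [← hC a₀ ha₀ ha₀B, mem_centralizer_singleton]
    exact (mem_center_iff.mp hz a₀)
  have hcB : center S ≤ B := by
    intro z hz
    by_contra hzB
    have h2 := hC z (hcA hz) hzB
    apply hb₀A
    rw [← h2, mem_centralizer_singleton]
    exact (mem_center_iff.mp hz b₀).symm
  exact ⟨⟨a₀, ha₀, ha₀B⟩, ⟨b₀, hb₀, hb₀A⟩, h1, hinv, le_antisymm (le_inf hcA hcB) hDc⟩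

theorem card_centralizer_le [Finite S] (A B : Subgroup S)
    (hAB : ∀ s : S, ∃ a ∈ A, ∃ b ∈ B, s = a * b)
    (hC : ∀ a ∈ A, a ∉ B → Subgroup.centralizer ({a} : Set S) = A)
    (hcen : Subgroup.center S = A ⊓ B) (x : S) (hxA : x ∉ A) :
    Nat.card ↥(Subgroup.centralizer ({x} : Set S)) ≤ Nat.card ↥B := by
  set C := centralizer ({x} : Set S) with hCdef
  have hCA : C ⊓ A = A ⊓ B := by
    apply le_antisymm
    · intro y hy
      rw [mem_inf] at hy
      refine mem_inf.mpr ⟨hy.2, ?_⟩
      by_contra hyB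
      apply hxA
      rw [← hC y hy.2 hyB, mem_centralizer_singleton]
      exact (mem_centralizer_singleton.mp hy.1).symm
    · rw [← hcen]
      apply le_inf
      · intro z hz
        rw [hCdef, mem_centralizer_singleton]
        exact (mem_center_iff.mp hz x)
      · rw [hcen]; exact inf_le_left
  have h1 := card_mul_set C A
  have h2 := card_mul_set A B
  have huniv : (A : Set S) * (B : Set S) = Set.univ := by
    ext s
    simp only [Set.mem_univ, iff_true]
    obtain ⟨a, ha, b, hb, rfl⟩ := hAB s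
    exact Set.mul_mem_mul ha hb
  rw [huniv, Nat.card_coe_set_eq, Set.ncard_univ] at h2
  rw [hCA] at h1
  have h3 : Nat.card ↥((C : Set S) * (A : Set S)) ≤ Nat.card S := by
    rw [Nat.card_coe_set_eq]
    rw [← Set.ncard_univ]
    exact Set.ncard_le_ncard (Set.subset_univ _) (Set.toFinite _)
  have hpos : 0 < Nat.card ↥(A ⊓ B) := Nat.card_pos
  have hposA : 0 < Nat.card ↥A := Nat.card_pos
  have h4 : Nat.card ↥C * Nat.card ↥A ≤ Nat.card ↥A * Nat.card ↥B := by
    rw [← h1, ← h2]
    exact Nat.mul_le_mul_right _ h3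
  rw [mul_comm] at h4
  exact Nat.le_of_mul_le_mul_left h4 hposA

/-- Let S be a non-abelian finite 2-group which is the product S = AB of two elementary abelian subgroups A and B, and suppose that the centralizer in S of every element of A outside B is exactly A. Then the centralizer of every element of B outside A is exactly B; A and B are maximal elementary abelian subgroups of S and the only ones; the centre of S is A ∩ B; and every element of S outside A ∪ B has centralizer of order at most min(|A|, |B|). -/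
theorem result {S : Type*} [Group S] [Finite S] (hS : IsPGroup 2 S) (hna : ¬ IsMulCommutative S) (A B : Subgroup S)
    (hA : Cfsg.IsElementaryAbelian 2 A) (hB : Cfsg.IsElementaryAbelian 2 B) (hAB : ∀ s : S, ∃ a ∈ A, ∃ b ∈ B, s = a * b)
    (hC : ∀ a ∈ A, a ∉ B → Subgroup.centralizer ({a} : Set S) = A) :
    (∀ b ∈ B, b ∉ A → Subgroup.centralizer ({b} : Set S) = B) ∧
      (∀ E : Subgroup S, Cfsg.IsElementaryAbelian 2 E → (∀ E' : Subgroup S, Cfsg.IsElementaryAbelian 2 E' → E ≤ E' → E' = E) → E = A ∨ E = B) ∧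
      (∀ E' : Subgroup S, Cfsg.IsElementaryAbelian 2 E' → A ≤ E' → E' = A) ∧ (∀ E' : Subgroup S, Cfsg.IsElementaryAbelian 2 E' → B ≤ E' → E' = B) ∧
      Subgroup.center S = A ⊓ B ∧
      (∀ x : S, x ∉ A → x ∉ B → Nat.card ↥(Subgroup.centralizer ({x} : Set S)) ≤ min (Nat.card ↥A) (Nat.card ↥B)) := by
  obtain ⟨⟨a₀, ha₀, ha₀B⟩, ⟨b₀, hb₀, hb₀A⟩, h1, hinv, hcen⟩ := core hna A B hA hB hAB hC
  have hAB' : ∀ s : S, ∃ b ∈ B, ∃ a ∈ A, s = b * a := by
    intro s
    obtain ⟨a, ha, b, hb, h⟩ := hAB s⁻¹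
    refine ⟨b⁻¹, B.inv_mem hb, a⁻¹, A.inv_mem ha, ?_⟩
    rw [← mul_inv_rev, ← h, inv_inv]
  -- elementary abelian subgroups lie in `A` or `B`
  have hE : ∀ E : Subgroup S, Cfsg.IsElementaryAbelian 2 E → E ≤ A ∨ E ≤ B := by
    intro E hE
    by_contra hcon
    push Not at hcon
    obtain ⟨h1', h2'⟩ := hcon
    obtain ⟨x, hxE, hxA⟩ := SetLike.not_le_iff_exists.mp h1'
    obtain ⟨y, hyE, hyB⟩ := SetLike.not_le_iff_exists.mp h2'
    have hxB : x ∈ B := (hinv x (hE.2 x hxE)).resolve_left hxA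
    have hyA : y ∈ A := (hinv y (hE.2 y hyE)).resolve_right hyB
    rcases hinv (x * y) (hE.2 _ (E.mul_mem hxE hyE)) with h | h
    · apply hxA
      have := A.mul_mem h (A.inv_mem hyA)
      rwa [mul_inv_cancel_right] at this
    · apply hyB
      have := B.mul_mem (B.inv_mem hxB) h
      rwa [inv_mul_cancel_left] at this
  have hAmax : ∀ E' : Subgroup S, Cfsg.IsElementaryAbelian 2 E' → A ≤ E' → E' = A := by
    intro E' hE' hAE
    rcases hE E' hE' with h | h
    · exact le_antisymm h hAE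
    · exact absurd (h (hAE ha₀)) ha₀B
  have hBmax : ∀ E' : Subgroup S, Cfsg.IsElementaryAbelian 2 E' → B ≤ E' → E' = B := by
    intro E' hE' hBE
    rcases hE E' hE' with h | h
    · exact absurd (h (hBE hb₀)) hb₀A
    · exact le_antisymm h hBE
  refine ⟨h1, ?_, hAmax, hBmax, hcen, ?_⟩
  · intro E hEea hmax
    rcases hE E hEea with h | h
    · left; exact (hmax A hA h).symm
    · right; exact (hmax B hB h).symm
  · intro x hxA hxB
    apply le_min
    · have := card_centralizer_le B A hAB' h1 (by rw [hcen, inf_comm]) x hxB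
      exact this
    · exact card_centralizer_le A B hAB hC hcen x hxA

end Cfsg.Agent.S3163
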