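import Mathlib
import Cfsg.Statements.S3166

set_option autoImplicit false
open Cfsg

namespace Cfsg.Agent.S3166

/-- no perfect square -/
theorem not_sq (q y : ℤ) (hq : 2 ≤ q) (hy : 0 ≤ y)
    (h : y ^ 2 = q ^ 4 - q ^ 3 + q ^ 2 - q + 1) : False := by
  have hu : 0 ≤ 2 * q ^ 2 - q := by nlinarith
  have h1 : (2 * q ^ 2 - q) ^ 2 < (2 * y) ^ 2 := by nlinarith
  have h2 : (2 * y) ^ 2 < (2 * q ^ 2 - q + 1) ^ 2 := by nlinarith
  have h3 : 2 * q ^ 2 - q < 2 * y := by
    by_contra hcon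
    push Not at hcon
    nlinarith
  have h4 : 2 * y < 2 * q ^ 2 - q + 1 := by
    by_contra hcon
    push Not at hcon
    nlinarith
  omega

/-- the cube case -/
theorem not_cube (q k : ℤ) (hq : 2 ≤ q) (hk : 1 ≤ k)
    (h : (q * k + 1) ^ 3 = q ^ 4 - q ^ 3 + q ^ 2 - q + 1) : False := by
  -- divide by q
  have hq0 : q ≠ 0 := by omega
  have h1 : q ^ 2 * k ^ 3 + 3 * q * k ^ 2 + 3 * k + 1 = q ^ 3 - q ^ 2 + q := by
    have : q * (q ^ 2 * k ^ 3 + 3 * q * k ^ 2 + 3 * k + 1) = q * (q ^ 3 - q ^ 2 + q) := by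
      nlinarith
    exact mul_left_cancel₀ hq0 this
  -- k^3 < q
  have h2 : k ^ 3 < q := by
    by_contra hcon
    push Not at hcon
    have : q ^ 2 * q ≤ q ^ 2 * k ^ 3 := by
      apply mul_le_mul_of_nonneg_left hcon (by positivity)
    nlinarith [sq_nonneg k, mul_pos (by omega : (0:ℤ) < q) (by omega : (0:ℤ) < k)]
  -- q ∣ 3k+1
  have h3 : q ∣ 3 * k + 1 := by
    refine ⟨q ^ 2 - q + 1 - q * k ^ 3 - 3 * k ^ 2, ?_⟩
    nlinarith
  have h4 : q ≤ 3 * k + 1 := Int.le_of_dvd (by omega) h3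
  have h5 : k = 1 := by
    by_contra hcon
    have hk2 : 2 ≤ k := by omega
    nlinarith [mul_self_nonneg k, mul_le_mul hk2 hk2 (by norm_num) (by omega)]
  subst h5
  have h6 : q ≤ 4 := by omega
  interval_cases q <;> omega

/-- Let q = 2^n with n ≥ 1. If q⁴ − q³ + q² − q + 1 is a power p^m of a prime p, then m = 1: the value is never a prime power with exponent greater than 1. -/
theorem result (n p m : ℕ) (hn : 1 ≤ n) (hp : p.Prime) (h : (2 ^ n) ^ 4 - (2 ^ n) ^ 3 + (2 ^ n) ^ 2 - 2 ^ n + 1 = p ^ m) : m = 1 := by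
  obtain ⟨q, hq⟩ : ∃ q : ℕ, q = 2 ^ n := ⟨_, rfl⟩
  rw [← hq] at h
  have hq2 : 2 ≤ q := by
    rw [hq]
    calc 2 = 2 ^ 1 := by norm_num
      _ ≤ 2 ^ n := Nat.pow_le_pow_right (by norm_num) hn
  have h34 : q ^ 3 ≤ q ^ 4 := Nat.pow_le_pow_right (by omega) (by norm_num)
  have h12 : q ≤ q ^ 2 := by nlinarith
  have hN : q ^ 4 + q ^ 2 + 1 = p ^ m + q ^ 3 + q := by omega
  have hZ : ((p : ℤ)) ^ m = (q : ℤ) ^ 4 - (q : ℤ) ^ 3 + (q : ℤ) ^ 2 - (q : ℤ) + 1 := by
    have := congrArg (Nat.cast : ℕ → ℤ) hN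
    push_cast at this
    linarith
  have hqZ : (2 : ℤ) ≤ (q : ℤ) := by exact_mod_cast hq2
  have hpZ : (0 : ℤ) ≤ (p : ℤ) := by positivity
  -- m ≠ 0
  have hm0 : m ≠ 0 := by
    rintro rfl
    simp only [pow_zero] at hZ
    nlinarith [mul_self_nonneg ((q : ℤ)), mul_self_nonneg ((q : ℤ) ^ 2)]
  rcases Nat.even_or_odd' m with ⟨j, hj | hj⟩
  · -- m even
    exfalso
    subst hj
    apply not_sq (q : ℤ) ((p : ℤ) ^ j) hqZ (by positivity)
    rw [← hZ]; ring
  · -- m odd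
    by_contra hm1
    have hj1 : 1 ≤ j := by omega
    -- p ≡ 1 mod q
    have hgeom := geom_sum_mul (p : ℤ) m
    -- S is odd
    have hqeven : Even q := by
      rw [hq]; exact (Nat.even_pow' (by omega)).mpr (by norm_num)
    have hNodd : Odd (p ^ m) := by
      have : Odd (q ^ 4 - q ^ 3 + q ^ 2 - q + 1) := by
        have h1 : Even (q ^ 4 - q ^ 3 + q ^ 2 - q) := by
          have e4 : Even (q ^ 4) := (Nat.even_pow' (by norm_num)).mpr hqeven
          have e3 : Even (q ^ 3) := (Nat.even_pow' (by norm_num)).mpr hqeven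
          have e2 : Even (q ^ 2) := (Nat.even_pow' (by norm_num)).mpr hqeven
          obtain ⟨a, ha⟩ := e4
          obtain ⟨b, hb⟩ := e3
          obtain ⟨c, hc⟩ := e2
          obtain ⟨d, hd⟩ := hqeven
          exact ⟨a - b + c - d, by omega⟩
        exact h1.add_one
      rwa [h] at this
    have hpodd : Odd p := (Nat.odd_pow_iff hm0).mp hNodd
    have hSodd : Odd (∑ i ∈ Finset.range m, p ^ i) := by
      rw [Finset.odd_sum_iff_odd_card_odd]
      have : (Finset.range m).filter (fun i => Odd (p ^ i)) = Finset.range m := by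
        apply Finset.filter_true_of_mem
        intro i _
        exact Odd.pow hpodd
      rw [this, Finset.card_range, hj]
      exact ⟨j, rfl⟩
    have hp1 : 1 ≤ p := hp.one_lt.le
    have hdvdZ : (q : ℤ) ∣ ((∑ i ∈ Finset.range m, p ^ i : ℕ) : ℤ) * ((p - 1 : ℕ) : ℤ) := by
      push_cast [Nat.cast_sub hp1]
      rw [hgeom, hZ]
      exact ⟨(q : ℤ) ^ 3 - (q : ℤ) ^ 2 + (q : ℤ) - 1, by ring⟩
    have hdvdN : q ∣ (∑ i ∈ Finset.range m, p ^ i) * (p - 1) := by exact_mod_cast hdvdZ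
    have hcop : Nat.Coprime q (∑ i ∈ Finset.range m, p ^ i) := by
      rw [hq]
      exact Nat.Coprime.pow_left n (Nat.coprime_two_left.mpr hSodd)
    have hqp : q ∣ p - 1 := hcop.dvd_of_dvd_mul_left hdvdN
    obtain ⟨k, hk⟩ := hqp
    have hpk : p = q * k + 1 := by omega
    have hk1 : 1 ≤ k := by
      rcases Nat.eq_zero_or_pos k with h0 | h0
      · subst h0
        have := hp.one_lt
        omega
      · exact h0
    -- m < 4
    have hpq : q < p := by nlinarith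
    have hm4 : m < 4 := by
      by_contra hcon
      push Not at hcon
      have h1 : q ^ 4 < p ^ 4 := Nat.pow_lt_pow_left hpq (by norm_num)
      have h2 : p ^ 4 ≤ p ^ m := Nat.pow_le_pow_right hp1 hcon
      have h3 : q ^ 2 ≤ q ^ 3 := Nat.pow_le_pow_right (by omega) (by norm_num)
      linarith
    have hm3 : m = 3 := by omega
    subst hm3
    apply not_cube (q : ℤ) (k : ℤ) hqZ (by exact_mod_cast hk1)
    rw [← hZ, hpk]
    push_cast
    ring

end Cfsg.Agent.S3166
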