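import Cfsg.Statements.S3178
import Mathlib
import Cfsg.Agent.Lib.Helper7_NPC
import Cfsg.Agent.Lib.Helper7_OmegaAut
import Cfsg.Agent.Lib.Helper5_Sylow

set_option autoImplicit false
open Cfsg

namespace Cfsg.Agent.S3178

open Subgroup

section Structure

variable {G : Type*} [Group G]

/-- The hypotheses on a modular 2-group, with `orderOf a = 8K`. -/
structure Modu (S : Subgroup G) (K : ℕ) (a b : G) : Prop where
  card : Nat.card S = 16 * K
  ha : a ∈ S
  hb : b ∈ S
  hao : orderOf a = 8 * K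
  hb2 : b * b = 1
  hrel : b * a * b⁻¹ = a ^ (4 * K + 1)
  hK : ∃ k : ℕ, K = 2 ^ k

variable {S : Subgroup G} {K : ℕ} {a b : G}

theorem Modu.Kpos (h : Modu S K a b) : 0 < K := by
  obtain ⟨k, hk⟩ := h.hK
  rw [hk]; positivity

theorem Modu.z_sq (h : Modu S K a b) : a ^ (4 * K) * a ^ (4 * K) = 1 := by
  rw [← pow_add, show 4 * K + 4 * K = 8 * K by ring, ← h.hao, pow_orderOf_eq_one]

theorem Modu.z_ne (h : Modu S K a b) : a ^ (4 * K) ≠ 1 := by
  intro h1
  have h2 := orderOf_dvd_of_pow_eq_one h1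
  rw [h.hao] at h2
  have := Nat.le_of_dvd (by have := h.Kpos; omega) h2
  have := h.Kpos
  omega

theorem Modu.binv (h : Modu S K a b) : b⁻¹ = b := inv_eq_of_mul_eq_one_left h.hb2

theorem Modu.pow8 (h : Modu S K a b) {y : G} (hy : y ∈ zpowers a) : y ^ (8 * K) = 1 := by
  obtain ⟨i, rfl⟩ := hy
  rw [← zpow_natCast, ← zpow_mul, mul_comm, zpow_mul, zpow_natCast, ← h.hao, pow_orderOf_eq_one,
    one_zpow]

theorem Modu.conj_pow (h : Modu S K a b) {y : G} (hy : y ∈ zpowers a) :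
    b * y * b⁻¹ = y ^ (4 * K + 1) := by
  obtain ⟨i, rfl⟩ := hy
  have h1 : b * a ^ i * b⁻¹ = (b * a * b⁻¹) ^ i := by
    have := map_zpow (MulAut.conj b).toMonoidHom a i
    simpa [MulAut.conj_apply] using this
  rw [h1, h.hrel, ← zpow_natCast, ← zpow_natCast, ← zpow_mul, ← zpow_mul, mul_comm]

theorem Modu.b_not_mem (h : Modu S K a b) : b ∉ zpowers a := by
  intro hb
  have h1 : b * a * b⁻¹ = a := by
    obtain ⟨i, rfl⟩ := hb
    have : Commute (a ^ i) a := (Commute.refl a).zpow_left i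
    rw [this.eq]; group
  rw [h.hrel, pow_succ] at h1
  have : a ^ (4 * K) = 1 := by
    have h2 : a ^ (4 * K) * a = 1 * a := by rw [one_mul]; exact h1
    exact mul_right_cancel h2
  exact h.z_ne this

theorem Modu.relIndex (h : Modu S K a b) : (zpowers a).relIndex S = 2 := by
  have hle : zpowers a ≤ S := (zpowers_le).mpr h.ha
  have h1 := Subgroup.card_mul_index ((zpowers a).subgroupOf S)
  have h2 : Nat.card ((zpowers a).subgroupOf S) = Nat.card (zpowers a) :=
    Nat.card_congr (Subgroup.subgroupOfEquivOfLe hle).toEquiv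
  rw [h2, Nat.card_zpowers, h.hao, h.card] at h1
  have := h.Kpos
  show ((zpowers a).subgroupOf S).index = 2
  nlinarith

theorem Modu.cases (h : Modu S K a b) {x : G} (hx : x ∈ S) :
    x ∈ zpowers a ∨ ∃ y ∈ zpowers a, x = y * b := by
  have hle : zpowers a ≤ S := (zpowers_le).mpr h.ha
  by_cases hxa : x ∈ zpowers a
  · exact Or.inl hxa
  · right
    have hidx : ((zpowers a).subgroupOf S).index = 2 := h.relIndex
    have h1 := Subgroup.mul_mem_iff_of_index_two hidx (a := (⟨x, hx⟩ : S)) (b := (⟨b, h.hb⟩ : S))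
    have h2 : (⟨x, hx⟩ : S) * ⟨b, h.hb⟩ ∈ (zpowers a).subgroupOf S := by
      rw [h1]
      simp only [Subgroup.mem_subgroupOf]
      exact ⟨fun h' => absurd h' hxa, fun h' => absurd h' h.b_not_mem⟩
    rw [Subgroup.mem_subgroupOf] at h2
    refine ⟨x * b, h2, ?_⟩
    rw [mul_assoc, h.hb2, mul_one]

theorem Modu.sq_yb (h : Modu S K a b) {y : G} (hy : y ∈ zpowers a) :
    (y * b) ^ 2 = y ^ (4 * K + 2) := by
  have h1 := h.conj_pow hy
  rw [h.binv] at h1
  calc (y * b) ^ 2 = y * (b * y * b) := by rw [pow_two]; group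
    _ = y * y ^ (4 * K + 1) := by rw [h1]
    _ = y ^ (4 * K + 2) := by rw [← pow_succ']

theorem Modu.sq_mem (h : Modu S K a b) {x : G} (hx : x ∈ S) : x ^ 2 ∈ zpowers a := by
  rcases h.cases hx with h1 | ⟨y, hy, rfl⟩
  · exact pow_mem h1 2
  · rw [h.sq_yb hy]; exact pow_mem hy _

theorem Modu.invol (h : Modu S K a b) {y : G} (hy : y ∈ zpowers a) (hy2 : y ^ 2 = 1) :
    y = 1 ∨ y = a ^ (4 * K) := by
  obtain ⟨i, rfl⟩ := hy
  have hK := h.Kpos
  simp only at hy2 ⊢
  rw [← zpow_natCast, ← zpow_mul] at hy2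
  have h1 := orderOf_dvd_iff_zpow_eq_one.mpr hy2
  rw [h.hao] at h1
  obtain ⟨c, hc⟩ := h1
  have h2 : i = 4 * K * c := by push_cast at hc; linarith
  have h3 : a ^ (4 * (K : ℤ)) = a ^ (4 * K) := by
    rw [← zpow_natCast]; push_cast; rfl
  rw [h2, zpow_mul, h3]
  rcases Int.even_or_odd' c with ⟨d, hd | hd⟩
  · left
    rw [hd, zpow_mul, zpow_ofNat, pow_two, h.z_sq, one_zpow]
  · right
    rw [hd, zpow_add, zpow_mul, zpow_ofNat, pow_two, h.z_sq, one_zpow, one_mul, zpow_one]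

theorem Modu.gcd_eq (h : Modu S K a b) : Nat.gcd (4 * K + 2) (8 * K) = 2 := by
  obtain ⟨k, hk⟩ := h.hK
  have h1 : 4 * K + 2 = 2 * (2 * K + 1) := by ring
  have h2 : 8 * K = 2 * (2 ^ (k + 2)) := by rw [hk]; ring
  rw [h1, h2, Nat.gcd_mul_left]
  have h3 : Nat.Coprime (2 * K + 1) (2 ^ (k + 2)) := by
    apply Nat.Coprime.pow_right
    rw [Nat.coprime_two_right]
    exact ⟨K, rfl⟩
  rw [h3]

/-- The involutions of `S`. -/
theorem Modu.F1 (h : Modu S K a b) {x : G} (hx : x ∈ S) (hx2 : x ^ 2 = 1) :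
    x = 1 ∨ x = a ^ (4 * K) ∨ x = b ∨ x = a ^ (4 * K) * b := by
  rcases h.cases hx with h1 | ⟨y, hy, rfl⟩
  · rcases h.invol h1 hx2 with h2 | h2
    · exact Or.inl h2
    · exact Or.inr (Or.inl h2)
  · rw [h.sq_yb hy] at hx2
    have h2 : y ^ 2 = 1 := by
      have := pow_gcd_eq_one.mpr ⟨hx2, h.pow8 hy⟩
      rwa [h.gcd_eq] at this
    rcases h.invol hy h2 with h3 | h3
    · right; right; left; rw [h3, one_mul]
    · right; right; right; rw [h3]

theorem Modu.F2 (h : Modu S K a b) {x : G} (hx : x ∈ S) (hx4 : x ^ 4 = 1) :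
    x ^ 2 = 1 ∨ x ^ 2 = a ^ (4 * K) := by
  apply h.invol (h.sq_mem hx)
  rw [← pow_mul]; exact hx4

/-- decomposition of elements with fourth power one -/
theorem Modu.F3aux (h : Modu S K a b) {x : G} (hx : x ∈ S) (hx4 : x ^ 4 = 1) :
    ∃ y ∈ zpowers a, Commute y b ∧ (x = y ∨ x = y * b) := by
  have key : ∀ y ∈ zpowers a, y ^ 4 = 1 → Commute y b := by
    intro y hy hy4
    have h1 := h.conj_pow hy
    rw [pow_succ, mul_comm 4 K, pow_mul', hy4, one_pow, one_mul] at h1
    have : b * y = y * b := by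
      calc b * y = b * y * b⁻¹ * b := by group
        _ = y * b := by rw [h1]
    exact this.symm
  rcases h.cases hx with h1 | ⟨y, hy, rfl⟩
  · exact ⟨x, h1, key x h1 hx4, Or.inl rfl⟩
  · refine ⟨y, hy, key y hy ?_, Or.inr rfl⟩
    have h2 : (y * b) ^ 4 = ((y * b) ^ 2) ^ 2 := by rw [← pow_mul]
    rw [h2, h.sq_yb hy, ← pow_mul, show (4 * K + 2) * 2 = 8 * K + 4 by ring, pow_add,
      h.pow8 hy, one_mul] at hx4
    exact hx4

theorem Modu.F3 (h : Modu S K a b) {x x' : G} (hx : x ∈ S) (hx4 : x ^ 4 = 1)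
    (hx' : x' ∈ S) (hx4' : x' ^ 4 = 1) : Commute x x' := by
  obtain ⟨y, hy, hyb, hxy⟩ := h.F3aux hx hx4
  obtain ⟨y', hy', hyb', hxy'⟩ := h.F3aux hx' hx4'
  have hyy' : Commute y y' := by
    obtain ⟨i, rfl⟩ := hy
    obtain ⟨j, rfl⟩ := hy'
    exact ((Commute.refl a).zpow_left i).zpow_right j
  rcases hxy with rfl | rfl <;> rcases hxy' with rfl | rfl
  · exact hyy'
  · exact hyy'.mul_right hyb
  · exact hyy'.mul_left hyb'.symm
  · exact (hyy'.mul_left hyb'.symm).mul_right (hyb.mul_left (Commute.refl b))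

theorem Modu.z_central (h : Modu S K a b) {x : G} (hx : x ∈ S) : Commute x (a ^ (4 * K)) := by
  have hb : Commute b (a ^ (4 * K)) := by
    have h1 := h.conj_pow (pow_mem (mem_zpowers a) (4 * K))
    have h2 : (a ^ (4 * K)) ^ (4 * K + 1) = a ^ (4 * K) := by
      rw [pow_succ, ← pow_mul, show 4 * K * (4 * K) = 8 * K * (2 * K) by ring, pow_mul, ← h.hao,
        pow_orderOf_eq_one, one_pow, one_mul]
    rw [h2] at h1
    show b * a ^ (4 * K) = a ^ (4 * K) * b
    calc b * a ^ (4 * K) = b * a ^ (4 * K) * b⁻¹ * b := by group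
      _ = a ^ (4 * K) * b := by rw [h1]
  have hA : ∀ y ∈ zpowers a, Commute y (a ^ (4 * K)) := by
    rintro _ ⟨i, rfl⟩
    exact ((Commute.refl a).zpow_left i).pow_right _
  rcases h.cases hx with h1 | ⟨y, hy, rfl⟩
  · exact hA x h1
  · exact (hA y hy).mul_left hb

theorem Modu.z_ne_b (h : Modu S K a b) : a ^ (4 * K) ≠ b := by
  intro h1
  exact h.b_not_mem (h1 ▸ pow_mem (mem_zpowers a) _)

/-- elements of order at least 4 have a power of order exactly four -/
theorem exists_pow_order_four (hS : IsPGroup 2 S) {x : G} (hx : x ∈ S) (hx2 : x ^ 2 ≠ 1) :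
    ∃ j : ℕ, (x ^ j) ^ 4 = 1 ∧ (x ^ j) ^ 2 ≠ 1 := by
  obtain ⟨k, hk⟩ := hS ⟨x, hx⟩
  have hk' : x ^ 2 ^ k = 1 := by
    have := congrArg Subtype.val hk
    simpa using this
  -- minimal such k
  classical
  have hex : ∃ k : ℕ, x ^ 2 ^ k = 1 := ⟨k, hk'⟩
  set m := Nat.find hex with hm
  have hm1 : x ^ 2 ^ m = 1 := Nat.find_spec hex
  have hm2 : 2 ≤ m := by
    by_contra hlt
    push_neg at hlt
    interval_cases m
    · rw [pow_zero, pow_one] at hm1
      rw [hm1, one_pow] at hx2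
      exact hx2 rfl
    · rw [pow_one] at hm1
      exact hx2 hm1
  obtain ⟨m', hm'⟩ : ∃ m', m = m' + 2 := ⟨m - 2, by omega⟩
  refine ⟨2 ^ m', ?_, ?_⟩
  · rw [← pow_mul, show 2 ^ m' * 4 = 2 ^ (m' + 2) by ring, ← hm']
    exact hm1
  · rw [← pow_mul, show 2 ^ m' * 2 = 2 ^ (m' + 1) by ring]
    intro h1
    have := Nat.find_min' hex h1
    omega

end Structure

section Fusion

variable {G : Type*} [Group G] [Finite G] {K : ℕ} {a b : G}

/-- `b` is not conjugate to the central involution. -/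
theorem not_conj (P : Sylow 2 G) (h : Modu (P : Subgroup G) K a b) (g : G) :
    g * a ^ (4 * K) * g⁻¹ ≠ b := by
  intro hg
  set z := a ^ (4 * K) with hz
  -- the conjugate Sylow subgroup lies in the centralizer of b
  have hle : ((g • P : Sylow 2 G) : Subgroup G) ≤ centralizer {b} := by
    intro x hx
    rw [Sylow.coe_subgroup_smul, Subgroup.mem_pointwise_smul_iff_inv_smul_mem] at hx
    simp only [MulAut.smul_def, map_inv, MulAut.conj_inv_apply] at hx
    have h1 := h.z_central hx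
    rw [Subgroup.mem_centralizer_iff]
    intro y hy
    rw [Set.mem_singleton_iff] at hy
    subst hy
    rw [← hg]
    have h2 : (g⁻¹ * x * g) * z = z * (g⁻¹ * x * g) := h1.eq
    calc g * z * g⁻¹ * x = g * (z * (g⁻¹ * x * g)) * g⁻¹ := by group
      _ = g * ((g⁻¹ * x * g) * z) * g⁻¹ := by rw [h2]
      _ = x * (g * z * g⁻¹) := by group
  -- R = C_P(b)
  set R : Subgroup G := (P : Subgroup G) ⊓ centralizer {b} with hR
  have hRp : IsPGroup 2 (R.subgroupOf (centralizer {b})) := by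
    have h1 : IsPGroup 2 R := P.isPGroup'.to_le inf_le_left
    exact h1.comap_of_injective (centralizer {b}).subtype Subtype.coe_injective
  obtain ⟨c, hc⟩ := Cfsg.Agent.Lib.Helper5_Sylow.exists_conj_le_sylow hRp
    ((g • P : Sylow 2 G).subtype hle)
  have key : ∀ r ∈ R, g⁻¹ * c * r * (g⁻¹ * c)⁻¹ ∈ (P : Subgroup G) := by
    intro r hr
    have hrC : r ∈ centralizer {b} := hr.2
    have h1 : (MulAut.conj c).toMonoidHom ⟨r, hrC⟩ ∈
        (R.subgroupOf (centralizer {b})).map (MulAut.conj c).toMonoidHom :=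
      ⟨⟨r, hrC⟩, by rw [SetLike.mem_coe, Subgroup.mem_subgroupOf]; exact hr, rfl⟩
    have h2 := hc h1
    rw [Sylow.coe_subtype, Subgroup.mem_subgroupOf, Sylow.coe_subgroup_smul,
      Subgroup.mem_pointwise_smul_iff_inv_smul_mem] at h2
    simp only [MulAut.smul_def, map_inv, MulAut.conj_inv_apply, MulEquiv.coe_toMonoidHom,
      MulAut.conj_apply, Subgroup.coe_mul, Subgroup.coe_inv] at h2
    have h3 : g⁻¹ * (c : G) * r * (g⁻¹ * c)⁻¹ = g⁻¹ * (↑c * r * (↑c)⁻¹) * g := by group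
    rw [h3]; exact h2
  have hcb : (c : G) * b * (c : G)⁻¹ = b := by
    have := c.2
    rw [Subgroup.mem_centralizer_iff] at this
    have h1 := this b rfl
    rw [← h1]; group
  set t := g⁻¹ * (c : G) with ht
  have htb : t * b * t⁻¹ = z := by
    calc t * b * t⁻¹ = g⁻¹ * ((c : G) * b * (c : G)⁻¹) * g := by rw [ht]; group
      _ = g⁻¹ * b * g := by rw [hcb]
      _ = z := by rw [← hg]; group
  -- a^2 ∈ R
  have ha2 : a ^ 2 ∈ R := by
    refine ⟨pow_mem h.ha 2, ?_⟩
    show a ^ 2 ∈ centralizer {b}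
    rw [Subgroup.mem_centralizer_iff]
    intro y hy
    rw [Set.mem_singleton_iff] at hy
    subst hy
    have h1 := h.conj_pow (pow_mem (mem_zpowers a) 2)
    have h2 : (a ^ 2) ^ (4 * K + 1) = a ^ 2 := by
      rw [pow_succ, ← pow_mul, show 2 * (4 * K) = 8 * K by ring, ← h.hao, pow_orderOf_eq_one,
        one_mul]
    rw [h2] at h1
    calc y * a ^ 2 = y * a ^ 2 * y⁻¹ * y := by group
      _ = a ^ 2 * y := by rw [h1]
  have hw := key (a ^ 2) ha2
  set w := t * a ^ 2 * t⁻¹ with hwdef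
  have hwK : w ^ (2 * K) = t * z * t⁻¹ := by
    have h1 : w ^ (2 * K) = t * (a ^ 2) ^ (2 * K) * t⁻¹ := by
      rw [hwdef]; exact conj_pow
    rw [h1, ← pow_mul, show 2 * (2 * K) = 4 * K by ring]
  have hmem : t * z * t⁻¹ ∈ zpowers a := by
    rw [← hwK, pow_mul]
    exact pow_mem (h.sq_mem hw) K
  have hsq : (t * z * t⁻¹) ^ 2 = 1 := by
    rw [conj_pow, pow_two, hz, h.z_sq]; group
  rcases h.invol hmem hsq with h1 | h1
  · have : z = 1 := by
      have h2 : z = t⁻¹ * (t * z * t⁻¹) * t := by group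
      rw [h2, h1]; group
    exact h.z_ne this
  · have : z = b := by
      have h2 : z = t⁻¹ * (t * z * t⁻¹) * t := by group
      have h3 : b = t⁻¹ * (t * b * t⁻¹) * t := by group
      rw [h2, h3, h1, htb]
    exact h.z_ne_b this

theorem Modu.zb {P : Subgroup G} (h : Modu P K a b) : Modu P K a (a ^ (4 * K) * b) := by
  have hzb : Commute (a ^ (4 * K)) b := (h.z_central h.hb).symm
  refine ⟨h.card, h.ha, mul_mem (pow_mem h.ha _) h.hb, h.hao, ?_, ?_, h.hK⟩
  · calc a ^ (4 * K) * b * (a ^ (4 * K) * b) = a ^ (4 * K) * (b * a ^ (4 * K)) * b := by group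
      _ = a ^ (4 * K) * (a ^ (4 * K) * b) * b := by rw [hzb.eq]
      _ = (a ^ (4 * K) * a ^ (4 * K)) * (b * b) := by group
      _ = 1 := by rw [h.z_sq, h.hb2, mul_one]
  · have h1 : Commute (a ^ (4 * K)) (a ^ (4 * K + 1)) := (Commute.refl a).pow_pow _ _
    calc a ^ (4 * K) * b * a * (a ^ (4 * K) * b)⁻¹
        = a ^ (4 * K) * (b * a * b⁻¹) * (a ^ (4 * K))⁻¹ := by group
      _ = a ^ (4 * K) * a ^ (4 * K + 1) * (a ^ (4 * K))⁻¹ := by rw [h.hrel]
      _ = a ^ (4 * K + 1) := by rw [h1.eq]; group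

/-- The main fusion statement: odd order elements normalizing a subgroup `Q` of `P` centralize
its elements of order dividing four. -/
theorem fix_of_pow_four (P : Sylow 2 G) (h : Modu (P : Subgroup G) K a b) (Q : Subgroup G)
    (hQ : Q ≤ (P : Subgroup G)) (g : G) (hgN : g ∈ normalizer (Q : Set G))
    (hcop : (orderOf g).Coprime 2) (x : G) (hx : x ∈ Q) (hx4 : x ^ 4 = 1) :
    g * x * g⁻¹ = x := by
  set z := a ^ (4 * K) with hz
  have hgQ : ∀ x, x ∈ Q → g * x * g⁻¹ ∈ Q := fun x hx => (mem_normalizer_iff.mp hgN x).mp hx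
  have hzb : Commute z b := (h.z_central h.hb).symm
  have hz2 : z * z = 1 := h.z_sq
  have hcp : ∀ (y : G) (k : ℕ), (g * y * g⁻¹) ^ k = g * y ^ k * g⁻¹ := fun y k => conj_pow
  have hc1 : ∀ y : G, g * y * g⁻¹ = 1 → y = 1 := by
    intro y hy
    have : y = g⁻¹ * (g * y * g⁻¹) * g := by group
    rw [this, hy]; group
  -- star
  have star : ∀ y w : G, g * y * g⁻¹ = y * w → g * w * g⁻¹ = w → w ^ 2 = 1 → w = 1 := by
    intro y w h1 h2 h3
    refine Cfsg.Agent.Lib.Helper7_OmegaAut.eq_one_of_conj_eq_mul (p := 2) g y w h1 ?_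
      ⟨1, by rwa [pow_one]⟩ hcop
    calc g * w = g * w * g⁻¹ * g := by group
      _ = w * g := by rw [h2]
  by_cases hzQ : z ∈ Q
  · -- Step A
    have hA : g * z * g⁻¹ = z := by
      by_cases hex : ∃ y ∈ Q, y ^ 4 = 1 ∧ y ^ 2 ≠ 1
      · obtain ⟨y, hy, hy4, hy2⟩ := hex
        have h1 : y ^ 2 = z := (h.F2 (hQ hy) hy4).resolve_left hy2
        have h2 : (g * y * g⁻¹) ^ 2 = z := by
          refine (h.F2 (hQ (hgQ y hy)) ?_).resolve_left ?_
          · rw [hcp, hy4]; group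
          · rw [hcp]; intro h3; exact hy2 (hc1 _ h3)
        rw [← h1, ← hcp, h2, h1]
      · push_neg at hex
        have h1 : (g * z * g⁻¹) ^ 2 = 1 := by
          rw [hcp, pow_two, hz2]; group
        rcases h.F1 (hQ (hgQ z hzQ)) h1 with h2 | h2 | h2 | h2
        · exact absurd (hc1 _ h2) h.z_ne
        · exact h2
        · exact absurd h2 (not_conj P h g)
        · exact absurd h2 (not_conj P h.zb g)
    -- Step B
    have hB : ∀ t ∈ Q, t ^ 2 = 1 → g * t * g⁻¹ = t := by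
      intro t ht ht2
      have h1 : (g * t * g⁻¹) ^ 2 = 1 := by rw [hcp, ht2]; group
      have hne1 : g * t * g⁻¹ = 1 → t = 1 := hc1 t
      have hnez : g * t * g⁻¹ = z → t = z := by
        intro h2
        have : t = g⁻¹ * (g * t * g⁻¹) * g := by group
        rw [this, h2]
        have h3 : z = g⁻¹ * (g * z * g⁻¹) * g := by group
        rw [hA] at h3
        exact h3.symm
      have hw : ∃ w, (w = 1 ∨ w = z) ∧ g * t * g⁻¹ = t * w := by
        rcases h.F1 (hQ ht) ht2 with h2 | h2 | h2 | h2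
        · exact ⟨1, Or.inl rfl, by rw [h2]; group⟩
        · exact ⟨1, Or.inl rfl, by rw [h2, hA, mul_one]⟩
        · rcases h.F1 (hQ (hgQ t ht)) h1 with h3 | h3 | h3 | h3
          · exact ⟨1, Or.inl rfl, by rw [hne1 h3]; group⟩
          · exact ⟨1, Or.inl rfl, by rw [hnez h3, hA, mul_one]⟩
          · exact ⟨1, Or.inl rfl, by rw [h3, h2, mul_one]⟩
          · exact ⟨z, Or.inr rfl, by rw [h3, h2, ← hz, hzb.eq]⟩
        · rcases h.F1 (hQ (hgQ t ht)) h1 with h3 | h3 | h3 | h3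
          · exact ⟨1, Or.inl rfl, by rw [hne1 h3]; group⟩
          · exact ⟨1, Or.inl rfl, by rw [hnez h3, hA, mul_one]⟩
          · refine ⟨z, Or.inr rfl, ?_⟩
            rw [h3, h2, ← hz, hzb.eq, mul_assoc, hz2, mul_one]
          · exact ⟨1, Or.inl rfl, by rw [h3, h2, mul_one]⟩
      obtain ⟨w, hw1, hw2⟩ := hw
      have hw3 : w = 1 := by
        apply star t w hw2
        · rcases hw1 with rfl | rfl
          · group
          · exact hA
        · rcases hw1 with rfl | rfl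
          · exact one_pow 2
          · rw [pow_two]; exact hz2
      rw [hw2, hw3, mul_one]
    -- Step C
    by_cases hx2 : x ^ 2 = 1
    · exact hB x hx hx2
    · have h1 : x ^ 2 = z := (h.F2 (hQ hx) hx4).resolve_left hx2
      have hx4' : (g * x * g⁻¹) ^ 4 = 1 := by rw [hcp, hx4]; group
      have h2 : (g * x * g⁻¹) ^ 2 = z := by
        refine (h.F2 (hQ (hgQ x hx)) hx4').resolve_left ?_
        rw [hcp]; intro h3; exact hx2 (hc1 _ h3)
      have hcomm : Commute x (g * x * g⁻¹) := h.F3 (hQ hx) hx4 (hQ (hgQ x hx)) hx4'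
      set w := x⁻¹ * (g * x * g⁻¹) with hw
      have hwQ : w ∈ Q := mul_mem (inv_mem hx) (hgQ x hx)
      have hw2 : w ^ 2 = 1 := by
        rw [hw, (hcomm.inv_left).mul_pow, h2, inv_pow, h1, inv_mul_cancel]
      have hgw := hB w hwQ hw2
      have hxw : g * x * g⁻¹ = x * w := by rw [hw]; group
      have := star x w hxw hgw hw2
      rw [hxw, this, mul_one]
  · -- z ∉ Q
    have hnoz : ∀ y ∈ Q, y ^ 4 = 1 → y = 1 ∨ y = b ∨ y = z * b := by
      intro y hy hy4
      have h1 : y ^ 2 = 1 := by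
        rcases h.F2 (hQ hy) hy4 with h2 | h2
        · exact h2
        · exfalso; apply hzQ; rw [hz, ← h2]; exact pow_mem hy 2
      rcases h.F1 (hQ hy) h1 with h2 | h2 | h2 | h2
      · exact Or.inl h2
      · exfalso; apply hzQ; rw [hz, ← h2]; exact hy
      · exact Or.inr (Or.inl h2)
      · exact Or.inr (Or.inr h2)
    have hx4' : (g * x * g⁻¹) ^ 4 = 1 := by rw [hcp, hx4]; group
    have hbz1 : b * (z * b) = z := by
      rw [← mul_assoc, ← hzb.eq, mul_assoc, h.hb2, mul_one]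
    have hbz2 : z * b * b = z := by rw [mul_assoc, h.hb2, mul_one]
    rcases hnoz x hx hx4 with h1 | h1 | h1
    · rw [h1]; group
    · rcases hnoz _ (hgQ x hx) hx4' with h2 | h2 | h2
      · have := hc1 _ h2
        rw [this]; group
      · rw [h2, h1]
      · exfalso; apply hzQ
        have := mul_mem hx (hgQ x hx)
        rwa [h2, h1, hbz1] at this
    · rcases hnoz _ (hgQ x hx) hx4' with h2 | h2 | h2
      · have := hc1 _ h2
        rw [this]; group
      · exfalso; apply hzQ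
        have := mul_mem hx (hgQ x hx)
        rwa [h2, h1, hbz2] at this
      · rw [h2, h1]

end Fusion

/-- Groups with a modular Sylow 2-subgroup have a normal 2-complement. Let S, of order 2^(n+1) with n ≥ 3, be a Sylow 2-subgroup of a finite group G, and suppose S contains an element a of order 2^n and an involution b with b a b⁻¹ = a^(2^(n-1) + 1); so S is the non-abelian 2-group with a cyclic subgroup of index 2 that is neither dihedral, semidihedral nor generalized quaternion. Then G has a normal 2-complement. -/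
theorem result {G : Type*} [Group G] [Finite G]
    (S : Sylow 2 G) (n : ℕ) (hn : 3 ≤ n) (hS : Nat.card ↥(S : Subgroup G) = 2 ^ (n + 1))
    (a b : G) (ha : a ∈ (S : Subgroup G)) (hb : b ∈ (S : Subgroup G))
    (hao : orderOf a = 2 ^ n) (hbo : orderOf b = 2) (hrel : b * a * b⁻¹ = a ^ (2 ^ (n - 1) + 1)) :
    Cfsg.HasNormalPComplement 2 G := by
  haveI : Fact (Nat.Prime 2) := ⟨Nat.prime_two⟩
  obtain ⟨k, rfl⟩ : ∃ k, n = k + 3 := ⟨n - 3, by omega⟩
  have hM : Modu (S : Subgroup G) (2 ^ k) a b := by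
    refine ⟨?_, ha, hb, ?_, ?_, ?_, ⟨k, rfl⟩⟩
    · rw [hS]; ring
    · rw [hao]; ring
    · rw [← pow_two, ← hbo, pow_orderOf_eq_one]
    · rw [hrel, show k + 3 - 1 = k + 2 by omega]
      congr 1; ring
  rw [Cfsg.Agent.Lib.Helper7_NPC.hasNormalPComplement_iff_npc]
  apply Cfsg.Agent.Lib.Helper7_NPC.npc_of_frobHyp
  apply Cfsg.Agent.Lib.Helper7_NPC.frobHyp_of_sylow S
  intro Q hQ g hg hcop
  apply Cfsg.Agent.Lib.Helper7_OmegaAut.mem_centralizer_of_omega g hcop Q (S.isPGroup'.to_le hQ) hg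
  intro x hx hx'
  have hx4 : x ^ 4 = 1 := by
    rcases hx' with h1 | ⟨-, h1⟩
    · rw [show 4 = 2 * 2 by norm_num, pow_mul, h1, one_pow]
    · exact h1
  have := fix_of_pow_four S hM Q hQ g hg hcop x hx hx4
  calc g * x = g * x * g⁻¹ * g := by group
    _ = x * g := by rw [this]

end Cfsg.Agent.S3178
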