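import Mathlib
import Cfsg.Statements.S3180
import Cfsg.Agent.Lib.Helper5_Sylow

set_option autoImplicit false
open Cfsg

namespace Cfsg.Agent.S3180

open Cfsg.Agent.Lib.Helper5_Sylow

theorem map_conj_mul {G : Type*} [Group G] (a b : G) (W : Subgroup G) :
    (W.map (MulAut.conj b).toMonoidHom).map (MulAut.conj a).toMonoidHom = W.map (MulAut.conj (a * b)).toMonoidHom := by
  rw [Subgroup.map_map]
  congr 1
  ext x
  simp [mul_assoc]

theorem mem_normalizer_of_map_eq {G : Type*} [Group G] (a : G) (W : Subgroup G)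
    (h : W.map (MulAut.conj a).toMonoidHom = W) : a ∈ Subgroup.normalizer (W : Set G) := by
  rw [Subgroup.mem_normalizer_iff]
  intro x
  constructor
  · intro hx
    rw [← h]
    exact ⟨x, hx, rfl⟩
  · intro hx
    rw [← h] at hx
    obtain ⟨y, hy, hxy⟩ := hx
    have : y = x := by
      simp only [MulEquiv.coe_toMonoidHom, MulAut.conj_apply] at hxy
      have := mul_left_cancel (mul_right_cancel hxy)
      exact this
    rwa [← this]

/-- Let P be a Sylow p-subgroup of a finite group J and P₁ a subgroup of P that is weakly closed in P with respect to J. If J acts on a set and two points, each fixed by every element of P₁, lie in one J-orbit, then they lie in one orbit of the normalizer of P₁ in J. -/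
theorem result {J : Type*} [Group J] [Finite J]
    {p : ℕ} [Fact p.Prime] (P : Sylow p J) (P₁ : Subgroup J) (hW : Cfsg.IsWeaklyClosed P₁ (P : Subgroup J))
    {Ω : Type*} [MulAction J Ω] (x y : Ω) (hx : ∀ g ∈ P₁, g • x = x) (hy : ∀ g ∈ P₁, g • y = y)
    (hc : ∃ g : J, g • x = y) :
    ∃ g ∈ Subgroup.normalizer (P₁ : Set J), g • x = y := by
  obtain ⟨g, hg⟩ := hc
  obtain ⟨hP₁P, hwc⟩ := hW
  have hP₁p : IsPGroup p P₁ := P.2.to_le hP₁P
  set K : Subgroup J := MulAction.stabilizer J y with hK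
  have hA : P₁ ≤ K := fun a ha => hy a ha
  have hB : P₁.map (MulAut.conj g).toMonoidHom ≤ K := by
    rintro _ ⟨b, hb, rfl⟩
    show (g * b * g⁻¹) • y = y
    rw [← hg, mul_smul, mul_smul, inv_smul_smul, hx b hb]
  have hBp : IsPGroup p (P₁.map (MulAut.conj g).toMonoidHom) := hP₁p.map _
  obtain ⟨k, hkK, R, hRp, -, hAR, hBR⟩ := exists_conj_le_common_pgroup hA hB hP₁p hBp
  obtain ⟨h, hh⟩ := exists_conj_le_sylow hRp P
  -- h P₁ h⁻¹ ≤ P, and (h k g) P₁ (h k g)⁻¹ ≤ P
  have h1 : P₁.map (MulAut.conj h).toMonoidHom ≤ (P : Subgroup J) :=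
    (Subgroup.map_mono hAR).trans hh
  have h2 : P₁.map (MulAut.conj (h * (k * g))).toMonoidHom ≤ (P : Subgroup J) := by
    rw [← map_conj_mul, ← map_conj_mul]
    exact (Subgroup.map_mono hBR).trans hh
  have n1 := mem_normalizer_of_map_eq _ _ (hwc h h1)
  have n2 := mem_normalizer_of_map_eq _ _ (hwc _ h2)
  refine ⟨k * g, ?_, ?_⟩
  · have : k * g = h⁻¹ * (h * (k * g)) := by group
    rw [this]
    exact Subgroup.mul_mem _ (Subgroup.inv_mem _ n1) n2
  · rw [mul_smul, hg]
    exact hkK

end Cfsg.Agent.S3180
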