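import Mathlib
import Cfsg.Statements.S3183
import Cfsg.Agent.Lib.Helper5_CD
import Cfsg.Agent.Lib.Helper5_Sylow
import Cfsg.Agent.Lib.Helper5_SylowChain
import Cfsg.Agent.Lib.Helper5_AxB

set_option autoImplicit false
open Cfsg

namespace Cfsg.Agent.S3183

open Cfsg.Agent.Lib.Helper5_CD Cfsg.Agent.Lib.Helper5_Sylow Cfsg.Agent.Lib.Helper5_SylowChain
open Subgroup

variable {G : Type*} [Group G] [Finite G]

/-- the centre of a Sylow subgroup inside `G` -/
def ZU (U : Sylow 2 G) : Subgroup G := (U : Subgroup G) ⊓ centralizer ((U : Subgroup G) : Set G)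

theorem key (hCI : ∀ S T : Sylow 2 G, S ≠ T → ∃ U : Sylow 2 G,
      (S : Subgroup G) ⊓ (T : Subgroup G) ≤ ZU U) :
    ∀ S T : Sylow 2 G, S ≠ T → (S : Subgroup G) ⊓ (T : Subgroup G) ≤ ZU S := by
  by_contra hbad
  push Not at hbad
  obtain ⟨S₀, T₀, hne₀, hbad₀⟩ := hbad
  have hnonempty : Nonempty {q : Sylow 2 G × Sylow 2 G //
      q.1 ≠ q.2 ∧ ¬ ((q.1 : Subgroup G) ⊓ (q.2 : Subgroup G) ≤ ZU q.1)} :=
    ⟨⟨(S₀, T₀), hne₀, hbad₀⟩⟩
  obtain ⟨⟨⟨S, T⟩, hne, hST⟩, hmax⟩ := Finite.exists_max
    (fun q : {q : Sylow 2 G × Sylow 2 G //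
      q.1 ≠ q.2 ∧ ¬ ((q.1 : Subgroup G) ⊓ (q.2 : Subgroup G) ≤ ZU q.1)} =>
      Nat.card ↥((q.1.1 : Subgroup G) ⊓ (q.1.2 : Subgroup G)))
  simp only at hne hST hmax
  -- any pair with larger intersection is good
  have hgood : ∀ S' T' : Sylow 2 G, S' ≠ T' →
      Nat.card ↥((S : Subgroup G) ⊓ (T : Subgroup G)) < Nat.card ↥((S' : Subgroup G) ⊓ (T' : Subgroup G)) →
      (S' : Subgroup G) ⊓ (T' : Subgroup G) ≤ ZU S' := by
    intro S' T' hne' hlt
    by_contra hb
    have := hmax ⟨(S', T'), hne', hb⟩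
    simp only at this
    omega
  set D : Subgroup G := (S : Subgroup G) ⊓ (T : Subgroup G) with hD
  obtain ⟨U, hU⟩ := hCI S T hne
  have hUS : U ≠ S := by
    intro h
    rw [h] at hU
    exact hST hU
  have hDU : D ≤ (U : Subgroup G) := hU.trans inf_le_left
  have hDS : D ≤ (S : Subgroup G) := inf_le_left
  -- S ⊓ U = D
  have hSU : (S : Subgroup G) ⊓ (U : Subgroup G) = D := by
    by_contra hne'
    have hle : D ≤ (S : Subgroup G) ⊓ (U : Subgroup G) := le_inf hDS hDU
    have hlt : D < (S : Subgroup G) ⊓ (U : Subgroup G) := lt_of_le_of_ne hle (Ne.symm hne')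
    have := hgood S U (Ne.symm hUS) (card_lt_of_lt hlt)
    exact hST (hle.trans this)
  -- D < S
  have hDltS : D < (S : Subgroup G) := by
    refine lt_of_le_of_ne hDS ?_
    intro heq
    have hSleT : (S : Subgroup G) ≤ (T : Subgroup G) := by
      rw [← heq]; exact inf_le_right
    have : (T : Subgroup G) = (S : Subgroup G) := S.is_maximal' T.isPGroup' hSleT
    exact hne (Sylow.ext this.symm)
  have hN := lt_inf_normalizer S.isPGroup' hDltS
  -- U ≤ N(D)
  have hUN : (U : Subgroup G) ≤ normalizer (D : Set G) := by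
    intro u hu
    have hcen : u ∈ centralizer (D : Set G) := by
      rw [mem_centralizer_iff]
      intro d hd
      have := (hU hd).2
      exact (mem_centralizer_iff.mp this u hu).symm
    exact Cfsg.Agent.Lib.Helper5_AxB.centralizer_le_normalizer' D hcen
  obtain ⟨k, hk, R, hRp, -, hAR, hBR⟩ :=
    exists_conj_le_common_pgroup (K := normalizer (D : Set G))
      (A := (S : Subgroup G) ⊓ normalizer (D : Set G)) (B := (U : Subgroup G))
      inf_le_right hUN (S.isPGroup'.to_le inf_le_left) U.isPGroup'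
  have hRU' : R = ((k • U : Sylow 2 G) : Subgroup G) := by
    rw [coe_smul_sylow]
    exact (k • U).is_maximal' hRp (by rw [coe_smul_sylow]; exact hBR)
  have hlt2 : D < (S : Subgroup G) ⊓ ((k • U : Sylow 2 G) : Subgroup G) := by
    refine lt_of_lt_of_le hN ?_
    rw [← hRU']
    exact le_inf inf_le_left hAR
  by_cases hU'S : (k • U : Sylow 2 G) = S
  · -- conjugate the centre
    apply hST
    intro d hd
    have hd' : k⁻¹ * d * k ∈ D := (mem_normalizer_iff''.mp hk d).mp hd
    have h1 := hU hd'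
    refine mem_inf.mpr ⟨hDS hd, ?_⟩
    rw [mem_centralizer_iff]
    intro s hs
    have hs' : s ∈ ((k • U : Sylow 2 G) : Subgroup G) := by rw [hU'S]; exact hs
    rw [coe_smul_sylow] at hs'
    obtain ⟨u, hu, rfl⟩ := hs'
    have h2 : u * (k⁻¹ * d * k) = (k⁻¹ * d * k) * u := mem_centralizer_iff.mp h1.2 u hu
    simp only [MulEquiv.coe_toMonoidHom, MulAut.conj_apply]
    calc k * u * k⁻¹ * d = k * (u * (k⁻¹ * d * k)) * k⁻¹ := by group
      _ = k * ((k⁻¹ * d * k) * u) * k⁻¹ := by rw [h2]
      _ = d * (k * u * k⁻¹) := by group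
  · have := hgood S (k • U) (Ne.symm hU'S) (card_lt_of_lt hlt2)
    exact hST (hlt2.le.trans this)

/-- Let G be a finite group in which the intersection of any two distinct Sylow 2-subgroups is contained in the centre of some Sylow 2-subgroup, and let S be a Sylow 2-subgroup. Then for every x in S the centralizer of x in S is a Sylow 2-subgroup of the centralizer of x in G (no 2-subgroup centralizing x is larger), and for every other Sylow 2-subgroup T the intersection S ∩ T lies in both the centre of S and the centre of T. -/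
theorem result {G : Type*} [Group G] [Finite G]
    (hCI : ∀ S T : Sylow 2 G, S ≠ T → ∃ U : Sylow 2 G,
      (S : Subgroup G) ⊓ (T : Subgroup G) ≤ (Subgroup.center ↥(U : Subgroup G)).map (U : Subgroup G).subtype)
    (S : Sylow 2 G) :
    (∀ x ∈ (S : Subgroup G), ∀ P : Subgroup G, IsPGroup 2 ↥P → P ≤ Subgroup.centralizer ({x} : Set G) →
        Nat.card ↥P ≤ Nat.card ↥((S : Subgroup G) ⊓ Subgroup.centralizer ({x} : Set G))) ∧
    (∀ T : Sylow 2 G, T ≠ S →
        (S : Subgroup G) ⊓ (T : Subgroup G) ≤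
          (Subgroup.center ↥(S : Subgroup G)).map (S : Subgroup G).subtype ⊓
            (Subgroup.center ↥(T : Subgroup G)).map (T : Subgroup G).subtype) := by
  have hCI' : ∀ S T : Sylow 2 G, S ≠ T → ∃ U : Sylow 2 G,
      (S : Subgroup G) ⊓ (T : Subgroup G) ≤ ZU U := by
    intro S T h
    obtain ⟨U, hU⟩ := hCI S T h
    refine ⟨U, ?_⟩
    rw [map_center_subtype] at hU
    exact hU
  have hkey := key hCI'
  have two : Fact (Nat.Prime 2) := ⟨Nat.prime_two⟩
  constructor
  · intro x hx P hP hPC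
    have hxC : x ∈ centralizer ({x} : Set G) := by
      rw [mem_centralizer_singleton_iff]
    obtain ⟨k, hk, R, hRp, hRC, hAR, hBR⟩ :=
      exists_conj_le_common_pgroup (K := centralizer ({x} : Set G))
        (A := (S : Subgroup G) ⊓ centralizer ({x} : Set G)) (B := P)
        inf_le_right hPC (S.isPGroup'.to_le inf_le_left) hP
    have hPR : Nat.card P ≤ Nat.card R := by
      rw [← card_map_conj k P]
      exact Subgroup.card_le_of_le hBR
    obtain ⟨R', hR'⟩ := hRp.exists_le_sylow
    by_cases hR'S : R' = S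
    · have : R ≤ (S : Subgroup G) ⊓ centralizer ({x} : Set G) := by
        rw [← hR'S]; exact le_inf hR' hRC
      exact hPR.trans (Subgroup.card_le_of_le this)
    · have hxSR : x ∈ (S : Subgroup G) ⊓ (R' : Subgroup G) :=
        ⟨hx, hR' (hAR ⟨hx, hxC⟩)⟩
      have hxZ := hkey S R' (Ne.symm hR'S) hxSR
      have hSle : (S : Subgroup G) ≤ centralizer ({x} : Set G) := by
        intro s hs
        rw [mem_centralizer_singleton_iff]
        exact (mem_centralizer_iff.mp hxZ.2 s hs)
      rw [inf_eq_left.mpr hSle]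
      have h1 : Nat.card R ≤ Nat.card R' := Subgroup.card_le_of_le hR'
      have h2 : Nat.card R' = Nat.card S := by
        rw [Sylow.card_eq_multiplicity, Sylow.card_eq_multiplicity]
      omega
  · intro T hT
    rw [map_center_subtype, map_center_subtype]
    refine le_inf (hkey S T (Ne.symm hT)) ?_
    have := hkey T S hT
    rw [inf_comm] at this
    exact this

end Cfsg.Agent.S3183
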