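import Mathlib
import Cfsg.Statements.S3190
import Cfsg.Agent.Lib.Helper5_Large

set_option autoImplicit false
open Cfsg

namespace Cfsg.Agent.S3190

open Cfsg.Agent.Lib.Helper5_Sylow Cfsg.Agent.Lib.Helper5_WC Cfsg.Agent.Lib.Helper5_Large
open Cfsg.Agent.Lib.Helper5_CD Cfsg.Agent.Lib.Helper5_CharP
open Subgroup
open scoped Pointwise IsMulCommutative

variable {X : Type*} [Group X]

/-- conjugation by a normalizing element, restricted -/
def kap (Z : Subgroup X) (n : X) (hn : n ∈ normalizer (Z : Set X)) : ↥Z →* ↥Z where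
  toFun z := ⟨n * z * n⁻¹, (mem_normalizer_iff.mp hn z).mp z.2⟩
  map_one' := by apply Subtype.ext; simp
  map_mul' := by intro a b; apply Subtype.ext; simp [mul_assoc]

theorem kap_coe (Z : Subgroup X) (n : X) (hn : n ∈ normalizer (Z : Set X)) (z : ↥Z) :
    ((kap Z n hn z : ↥Z) : X) = n * z * n⁻¹ := rfl

section norm

variable [Finite X] (Z T : Subgroup X) [IsMulCommutative ↥Z] (hTZ : T ≤ normalizer (Z : Set X))

/-- the norm map -/
noncomputable def nu : ↥Z →* ↥Z :=
  letI : Fintype ↥T := Fintype.ofFinite _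
  ∏ t : ↥T, kap Z (t : X) (hTZ t.2)

theorem nu_apply (z : ↥Z) :
    nu Z T hTZ z = (letI : Fintype ↥T := Fintype.ofFinite _; ∏ t : ↥T, kap Z (t : X) (hTZ t.2) z) := by
  unfold nu
  rw [MonoidHom.finset_prod_apply]

/-- `nu` is invariant under precomposition with `kap s`, `s ∈ T` -/
theorem nu_kap (s : ↥T) (z : ↥Z) : nu Z T hTZ (kap Z (s : X) (hTZ s.2) z) = nu Z T hTZ z := by
  rw [nu_apply, nu_apply]
  let _ : Fintype ↥T := Fintype.ofFinite _
  apply Fintype.prod_equiv (Equiv.mulRight s)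
  intro t
  apply Subtype.ext
  simp only [kap_coe, Equiv.coe_mulRight, Subgroup.coe_mul, mul_inv_rev]
  group

/-- `nu` commutes with `kap c` for `c` centralizing `T` -/
theorem kap_nu (c : X) (hc : c ∈ normalizer (Z : Set X)) (hcT : c ∈ centralizer (T : Set X))
    (z : ↥Z) : nu Z T hTZ (kap Z c hc z) = kap Z c hc (nu Z T hTZ z) := by
  rw [nu_apply, nu_apply, map_prod]
  letI : Fintype ↥T := Fintype.ofFinite _
  apply Finset.prod_congr rfl
  intro t _
  apply Subtype.ext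
  simp only [kap_coe]
  have h := (mem_centralizer_iff.mp hcT) (t : X) t.2
  have h' : c⁻¹ * (t : X)⁻¹ = (t : X)⁻¹ * c⁻¹ := by
    rw [← mul_inv_rev, ← mul_inv_rev, h]
  calc (t : X) * (c * z * c⁻¹) * (t : X)⁻¹ = ((t : X) * c) * z * (c⁻¹ * (t : X)⁻¹) := by group
    _ = (c * (t : X)) * z * ((t : X)⁻¹ * c⁻¹) := by rw [h, h']
    _ = c * ((t : X) * z * (t : X)⁻¹) * c⁻¹ := by group

/-- on `T`-fixed elements `nu` is the `|T|`-th power -/
theorem nu_fixed (z : ↥Z) (hz : ∀ t ∈ T, t * (z : X) * t⁻¹ = z) :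
    nu Z T hTZ z = z ^ Nat.card ↥T := by
  rw [nu_apply]
  letI : Fintype ↥T := Fintype.ofFinite _
  have : ∀ t : ↥T, kap Z (t : X) (hTZ t.2) z = z := by
    intro t
    apply Subtype.ext
    rw [kap_coe]
    exact hz t t.2
  simp only [this]
  rw [Finset.prod_const, Finset.card_univ, Nat.card_eq_fintype_card]

end norm

/-- Let p be an odd prime and, inside a finite group, let P be a p-subgroup normalized by a Klein four-group T. Let R be a subgroup of P, normal in P and normalized by T, such that P is the product of R with the centralizer of T in P. If T centralizes the centre of P, then T centralizes the centre of R. -/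
theorem result {X : Type*} [Group X] [Finite X]
    {p : ℕ} (hp : p.Prime) (hodd : Odd p) (P T R : Subgroup X) (hP : IsPGroup p ↥P) (hT : IsKleinFour ↥T)
    (hTP : T ≤ Subgroup.normalizer (P : Set X)) (hRP : R ≤ P) (hRn : (R.subgroupOf P).Normal)
    (hTR : T ≤ Subgroup.normalizer (R : Set X)) (hfac : R ⊔ (P ⊓ Subgroup.centralizer (T : Set X)) = P)
    (hZ : T ≤ Subgroup.centralizer (((Subgroup.center ↥P).map P.subtype : Subgroup X) : Set X)) :
    T ≤ Subgroup.centralizer (((Subgroup.center ↥R).map R.subtype : Subgroup X) : Set X) := by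
  haveI : Fact p.Prime := ⟨hp⟩
  rw [map_center_subtype] at hZ ⊢
  set Z := R ⊓ centralizer (R : Set X) with hZdef
  have hZR : Z ≤ R := inf_le_left
  have hZcomm : ∀ x ∈ Z, ∀ y ∈ Z, x * y = y * x := by
    intro x hx y hy
    exact ((mem_centralizer_iff.mp (mem_inf.mp hy).2) x (mem_inf.mp hx).1)
  haveI hZc : IsMulCommutative ↥Z := ⟨⟨fun a b => Subtype.ext (hZcomm a a.2 b b.2)⟩⟩
  have hPR : P ≤ normalizer (R : Set X) := (Subgroup.normal_subgroupOf_iff_le_normalizer hRP).mp hRn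
  have hNRZ : normalizer (R : Set X) ≤ normalizer (Z : Set X) := normalizer_le_normalizer_center R
  have hTZ : T ≤ normalizer (Z : Set X) := hTR.trans hNRZ
  have hPZ : P ≤ normalizer (Z : Set X) := hPR.trans hNRZ
  have hcardT : Nat.card ↥T = 4 := hT.card_four
  -- `W = ker nu`
  set W := (nu Z T hTZ).ker.map Z.subtype with hW
  have hWZ : W ≤ Z := Subgroup.map_subtype_le _
  have hWP : W ≤ P := hWZ.trans (hZR.trans hRP)
  -- (a)
  have hWfix : ∀ w ∈ W, (∀ t ∈ T, t * w * t⁻¹ = w) → w = 1 := by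
    rintro _ ⟨z, hz, rfl⟩ hfix
    rw [SetLike.mem_coe, MonoidHom.mem_ker, nu_fixed Z T hTZ z hfix, hcardT] at hz
    -- `z ^ 4 = 1` in a `p`-group, `p` odd
    have hzP : (z : X) ∈ P := hZR.trans hRP z.2
    obtain ⟨k, hk⟩ := hP ⟨(z : X), hzP⟩
    have hk' : (z : X) ^ (p ^ k) = 1 := by
      have := congrArg Subtype.val hk
      simpa using this
    have hz4 : (z : X) ^ 4 = 1 := by
      have := congrArg Subtype.val hz
      simpa using this
    have hcop : Nat.Coprime (p ^ k) 4 := by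
      apply Nat.Coprime.pow_left
      have h2 : Nat.Coprime p 2 := (Nat.coprime_primes hp Nat.prime_two).mpr (by
        intro h; rw [h] at hodd; exact absurd hodd (by decide))
      have : (4 : ℕ) = 2 ^ 2 := by norm_num
      rw [this]
      exact Nat.Coprime.pow_right 2 h2
    have h1 : orderOf (z : X) ∣ p ^ k := orderOf_dvd_of_pow_eq_one hk'
    have h2 : orderOf (z : X) ∣ 4 := orderOf_dvd_of_pow_eq_one hz4
    have h3 : orderOf (z : X) = 1 := Nat.eq_one_of_dvd_coprimes hcop h1 h2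
    rw [Subgroup.coe_subtype]
    exact orderOf_eq_one_iff.mp h3
  -- (b) `P` normalizes `W`
  have hRW : ∀ r ∈ R, ∀ w ∈ W, r * w * r⁻¹ = w := by
    intro r hr w hw
    have := (mem_centralizer_iff.mp (mem_inf.mp (hWZ hw)).2) r hr
    rw [this, mul_inv_cancel_right]
  have hPW : P ≤ normalizer (W : Set X) := by
    intro g hg
    have hg' : g ∈ R ⊔ (P ⊓ centralizer (T : Set X)) := by rw [hfac]; exact hg
    have hg'' : g ∈ (R : Set X) * ((P ⊓ centralizer (T : Set X) : Subgroup X) : Set X) := by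
      rw [← Subgroup.coe_mul_of_right_le_normalizer_left R _ (inf_le_left.trans hPR)]
      exact hg'
    obtain ⟨r, hr, c, hc, rfl⟩ := Set.mem_mul.mp hg''
    rw [SetLike.mem_coe, mem_inf] at hc
    apply mem_normalizer_of_cj_le
    rintro _ ⟨_, ⟨z, hz, rfl⟩, rfl⟩
    simp only [MulEquiv.coe_toMonoidHom, MulAut.conj_apply, Subgroup.coe_subtype]
    have hcZ : c ∈ normalizer (Z : Set X) := hPZ hc.1
    have h1 : c * (z : X) * c⁻¹ ∈ W := by
      refine ⟨kap Z c hcZ z, ?_, rfl⟩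
      rw [SetLike.mem_coe, MonoidHom.mem_ker] at hz
      rw [SetLike.mem_coe, MonoidHom.mem_ker, kap_nu Z T hTZ c hcZ hc.2, hz, map_one]
    have h2 : r * c * (z : X) * (r * c)⁻¹ = r * (c * (z : X) * c⁻¹) * r⁻¹ := by group
    rw [h2, hRW r hr _ h1]
    exact h1
  -- (c) `W = ⊥`
  have hWbot : W = ⊥ := by
    by_contra hne
    obtain ⟨w, hwW, hw1, hwC⟩ := exists_central_of_normal_pgroup hP hWP hPW hne
    apply hw1
    apply hWfix w hwW
    intro t ht
    have hwZP : w ∈ P ⊓ centralizer (P : Set X) := mem_inf.mpr ⟨hWP hwW, hwC⟩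
    have := (mem_centralizer_iff.mp (hZ ht)) w hwZP
    rw [← this, mul_inv_cancel_right]
  -- (d)
  intro t ht
  rw [mem_centralizer_iff]
  intro z hz
  have h1 := nu_kap Z T hTZ ⟨t, ht⟩ ⟨z, hz⟩
  have h2 : (kap Z t (hTZ ht) ⟨z, hz⟩ * (⟨z, hz⟩ : ↥Z)⁻¹ : ↥Z) ∈ (nu Z T hTZ).ker := by
    rw [MonoidHom.mem_ker, map_mul, map_inv, h1, mul_inv_cancel]
  have h3 : ((kap Z t (hTZ ht) ⟨z, hz⟩ * (⟨z, hz⟩ : ↥Z)⁻¹ : ↥Z) : X) ∈ W := ⟨_, h2, rfl⟩
  rw [hWbot, Subgroup.mem_bot] at h3
  have h4 : t * z * t⁻¹ * z⁻¹ = 1 := by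
    simpa [kap_coe] using h3
  have h5 : t * z * t⁻¹ = z := by
    rw [mul_inv_eq_one] at h4; exact h4
  calc z * t = (t * z * t⁻¹) * t := by rw [h5]
    _ = t * z := by group

end Cfsg.Agent.S3190
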