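import Mathlib
import Cfsg.Statements.S3195
import Cfsg.Agent.S3011

set_option autoImplicit false
open Cfsg

namespace Cfsg.Agent.S3195

open Cfsg.Agent.S3011

/-- Let A be a Klein four-subgroup of a finite group G. If every G-conjugate of every involution of A commutes with some involution of A (its centralizer meets A nontrivially), then A meets the largest normal 2-subgroup O₂(G) nontrivially. -/
theorem result {G : Type*} [Group G] [Finite G]
    (A : Subgroup G) (hA : IsKleinFour ↥A)
    (h : ∀ a ∈ A, a ≠ 1 → ∀ g : G, A ⊓ Subgroup.centralizer ({g * a * g⁻¹} : Set G) ≠ ⊥) :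
    A ⊓ Cfsg.pCore 2 G ≠ ⊥ := by
  have hexp : Monoid.exponent ↥A = 2 := IsKleinFour.exponent_two
  have hcard : Nat.card ↥A = 4 := IsKleinFour.card_four
  have hA2 : ∀ a ∈ A, a ^ 2 = 1 := by
    intro a ha
    have := Monoid.pow_exponent_eq_one (⟨a, ha⟩ : A)
    rw [hexp] at this
    exact congrArg Subtype.val this
  have hAc : ∀ x ∈ A, ∀ y ∈ A, x * y = y * x := by
    intro x hx y hy
    have := mul_comm_of_exponent_two hexp (⟨x, hx⟩ : A) ⟨y, hy⟩
    exact congrArg Subtype.val this
  have hA1 : A ≠ ⊥ := by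
    intro h1
    rw [h1, Subgroup.card_bot] at hcard
    omega
  have hex : ∃ w ∈ A, w ≠ 1 := by
    by_contra hcon
    push Not at hcon
    apply hA1
    rw [eq_bot_iff]
    intro y hy
    rw [Subgroup.mem_bot]; exact hcon y hy
  apply main A hA2 hA1 ?_ hcard.le
  intro h₀ v hv hodd hinv
  by_cases hv1 : v = 1
  · -- then h₀ = 1
    have h1 : h₀ = 1 := by
      apply eq_one_of_sq_odd hodd
      rw [hv1] at hinv
      simp only [one_mul, inv_one, mul_one] at hinv
      rw [pow_two]
      nth_rewrite 2 [hinv]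
      exact mul_inv_cancel h₀
    obtain ⟨w, hw, hw1⟩ := hex
    exact ⟨w, hw, hw1, by rw [h1, mul_one, one_mul]⟩
  · obtain ⟨m, hm⟩ := hodd
    set k := h₀ ^ (m + 1) with hk
    have hkk : k * k = h₀ := by
      rw [hk, ← pow_add, show m + 1 + (m + 1) = (2 * m + 1) + 1 by ring, pow_succ, ← hm,
        pow_orderOf_eq_one, one_mul]
    have hvk : S3011.Inv v k := (show S3011.Inv v h₀ from hinv).pow_right _
    have hconj : k * v * k⁻¹ = h₀ * v := by
      unfold S3011.Inv at hvk
      have h2 : v * k⁻¹ = k * v := by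
        calc v * k⁻¹ = (v * k * v⁻¹)⁻¹ * v := by group
          _ = k * v := by rw [hvk, inv_inv]
      rw [mul_assoc, h2, ← mul_assoc, hkk]
    have hne := h v hv hv1 k
    rw [hconj] at hne
    obtain ⟨w, hw, hw1⟩ : ∃ w ∈ A ⊓ Subgroup.centralizer ({h₀ * v} : Set G), w ≠ 1 := by
      by_contra hcon
      push Not at hcon
      apply hne
      rw [eq_bot_iff]
      intro y hy
      rw [Subgroup.mem_bot]; exact hcon y hy
    obtain ⟨hwA, hwc⟩ := Subgroup.mem_inf.mp hw
    have hwc' : w * (h₀ * v) = (h₀ * v) * w := Subgroup.mem_centralizer_singleton_iff.mp hwc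
    have hwv : w * v = v * w := hAc w hwA v hv
    refine ⟨w, hwA, hw1, ?_⟩
    have h3 : w * h₀ * v = h₀ * w * v := by
      calc w * h₀ * v = w * (h₀ * v) := by group
        _ = h₀ * v * w := hwc'
        _ = h₀ * (v * w) := by group
        _ = h₀ * (w * v) := by rw [hwv]
        _ = h₀ * w * v := by group
    exact mul_right_cancel h3

end Cfsg.Agent.S3195
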