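import Mathlib
import Cfsg.Statements.S3196
import Cfsg.Agent.Lib.Helper7_PCore

set_option autoImplicit false
open Cfsg

namespace Cfsg.Agent.S3196

section aux
variable {G : Type*} [Group G]

/-- elements of `E ⊔ zpowers w` when `w` centralizes `E` -/
theorem mem_sup_zpowers (E : Subgroup G) (w : G) (hw : ∀ e ∈ E, Commute e w) (z : G) :
    z ∈ E ⊔ Subgroup.zpowers w ↔ ∃ e ∈ E, ∃ i : ℤ, z = e * w ^ i := by
  constructor
  · intro hz
    let S : Subgroup G :=
      { carrier := {z | ∃ e ∈ E, ∃ i : ℤ, z = e * w ^ i}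
        one_mem' := ⟨1, E.one_mem, 0, by simp⟩
        mul_mem' := by
          rintro _ _ ⟨e, he, i, rfl⟩ ⟨e', he', j, rfl⟩
          refine ⟨e * e', E.mul_mem he he', i + j, ?_⟩
          have h1 : Commute (w ^ i) e' := ((hw e' he').zpow_right i).symm
          calc e * w ^ i * (e' * w ^ j) = e * (w ^ i * e') * w ^ j := by group
            _ = e * (e' * w ^ i) * w ^ j := by rw [h1.eq]
            _ = e * e' * w ^ (i + j) := by rw [zpow_add]; group
        inv_mem' := by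
          rintro _ ⟨e, he, i, rfl⟩
          refine ⟨e⁻¹, E.inv_mem he, -i, ?_⟩
          have h1 : Commute (w ^ i) e := ((hw e he).zpow_right i).symm
          rw [mul_inv_rev, zpow_neg]
          exact (h1.inv_inv).eq }
    have h1 : E ⊔ Subgroup.zpowers w ≤ S := by
      apply sup_le
      · intro e he; exact ⟨e, he, 0, by simp⟩
      · rw [Subgroup.zpowers_le]; exact ⟨1, E.one_mem, 1, by simp⟩
    exact h1 hz
  · rintro ⟨e, he, i, rfl⟩
    exact Subgroup.mul_mem _ (Subgroup.mem_sup_left he)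
      (Subgroup.mem_sup_right (Subgroup.zpow_mem_zpowers w i))

/-- the generating elements of the members of `K` -/
def Pts (K : Set (Subgroup G)) : Set G := {g | g ≠ 1 ∧ Subgroup.zpowers g ∈ K}

/-- the hypotheses -/
structure Hyp (p : ℕ) (K : Set (Subgroup G)) : Prop where
  hp : p.Prime
  card : ∀ X ∈ K, Nat.card ↥X = p
  conj : ∀ X ∈ K, ∀ g : G, X.map (MulAut.conj g).toMonoidHom ∈ K
  ha : ∀ X ∈ K, ∀ Y ∈ K, X ≠ Y → (∀ x ∈ X, ∀ y ∈ Y, x * y = y * x) →
      ∀ Z : Subgroup G, Z ≤ X ⊔ Y → Nat.card ↥Z = p → Z ∈ K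
  hb : ∀ X ∈ K, ∀ Y ∈ K, X ≠ Y → (∀ x ∈ X, ∀ y ∈ Y, x * y = y * x) →
      ∀ W ∈ K, (X ⊔ Y) ⊓ Subgroup.centralizer (W : Set G) ≠ ⊥

variable {p : ℕ} {K : Set (Subgroup G)}

theorem pts_order (h : Hyp p K) {x : G} (hx : x ∈ Pts K) : orderOf x = p := by
  have := h.card _ hx.2
  rwa [Nat.card_zpowers] at this

theorem pts_pow (h : Hyp p K) {x : G} (hx : x ∈ Pts K) : x ^ p = 1 := by
  rw [← pts_order h hx]; exact pow_orderOf_eq_one x

theorem pts_conj (h : Hyp p K) {x : G} (hx : x ∈ Pts K) (g : G) : g * x * g⁻¹ ∈ Pts K := by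
  refine ⟨?_, ?_⟩
  · intro h1
    apply hx.1
    have : x = g⁻¹ * (g * x * g⁻¹) * g := by group
    rw [this, h1]; group
  · have := h.conj _ hx.2 g
    rw [MonoidHom.map_zpowers] at this
    simpa [MulAut.conj_apply] using this

/-- a nonidentity element of a member of `K` generates it -/
theorem pts_of_mem (h : Hyp p K) {X : Subgroup G} (hX : X ∈ K) {x : G} (hx : x ∈ X)
    (hx1 : x ≠ 1) : Subgroup.zpowers x = X ∧ x ∈ Pts K := by
  have hcard := h.card X hX
  haveI : Finite X := Nat.finite_of_card_ne_zero (by rw [hcard]; exact h.hp.ne_zero)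
  have h1 : orderOf x ∣ p := by
    have := orderOf_dvd_natCard (⟨x, hx⟩ : X)
    rwa [← Subgroup.orderOf_coe, hcard] at this
  have h2 : orderOf x = p := by
    rcases (Nat.dvd_prime h.hp).mp h1 with h' | h'
    · exact absurd (orderOf_eq_one_iff.mp h') hx1
    · exact h'
  have h3 : Subgroup.zpowers x = X := by
    apply Subgroup.eq_of_le_of_card_ge
    · rw [Subgroup.zpowers_le]; exact hx
    · rw [hcard, Nat.card_zpowers, h2]
  exact ⟨h3, hx1, by rw [h3]; exact hX⟩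

theorem pts_zpow (h : Hyp p K) {x : G} (hx : x ∈ Pts K) (i : ℤ) (hi : x ^ i ≠ 1) :
    Subgroup.zpowers (x ^ i) = Subgroup.zpowers x ∧ x ^ i ∈ Pts K :=
  pts_of_mem h hx.2 (Subgroup.zpow_mem_zpowers x i) hi

/-- if a nonidentity power commutes, so does the element -/
theorem commute_of_zpow (h : Hyp p K) {x w : G} (hx : x ∈ Pts K) (i : ℤ) (hi : x ^ i ≠ 1)
    (hc : Commute (x ^ i) w) : Commute x w := by
  have h1 := (pts_zpow h hx i hi).1
  have h2 : x ∈ Subgroup.zpowers (x ^ i) := by rw [h1]; exact Subgroup.mem_zpowers x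
  obtain ⟨k, hk⟩ := Subgroup.mem_zpowers_iff.mp h2
  rw [← hk]
  exact hc.zpow_left k

theorem line (h : Hyp p K) {x y : G} (hx : x ∈ Pts K) (hy : y ∈ Pts K) (hc : Commute x y)
    (hne : Subgroup.zpowers x ≠ Subgroup.zpowers y) (i j : ℤ) (hz : x ^ i * y ^ j ≠ 1) :
    x ^ i * y ^ j ∈ Pts K := by
  refine ⟨hz, ?_⟩
  apply h.ha _ hx.2 _ hy.2 hne
  · intro a ha b hb
    obtain ⟨k, rfl⟩ := Subgroup.mem_zpowers_iff.mp ha
    obtain ⟨l, rfl⟩ := Subgroup.mem_zpowers_iff.mp hb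
    exact ((hc.zpow_left k).zpow_right l).eq
  · rw [Subgroup.zpowers_le]
    exact Subgroup.mul_mem _ (Subgroup.mem_sup_left (Subgroup.zpow_mem_zpowers x i))
      (Subgroup.mem_sup_right (Subgroup.zpow_mem_zpowers y j))
  · rw [Nat.card_zpowers]
    haveI : Fact p.Prime := ⟨h.hp⟩
    apply orderOf_eq_prime
    · have hc' : Commute (x ^ i) (y ^ j) := (hc.zpow_left i).zpow_right j
      rw [hc'.mul_pow, ← zpow_natCast, ← zpow_natCast, ← zpow_mul, ← zpow_mul, mul_comm i,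
        mul_comm j, zpow_mul, zpow_mul, zpow_natCast, zpow_natCast, pts_pow h hx, pts_pow h hy]
      simp
    · exact hz

theorem perp (h : Hyp p K) {x y w : G} (hx : x ∈ Pts K) (hy : y ∈ Pts K) (hc : Commute x y)
    (hne : Subgroup.zpowers x ≠ Subgroup.zpowers y) (hw : w ∈ Pts K) :
    ∃ i j : ℤ, x ^ i * y ^ j ≠ 1 ∧ Commute (x ^ i * y ^ j) w := by
  have h1 := h.hb _ hx.2 _ hy.2 hne (by
    intro a ha b hb
    obtain ⟨k, rfl⟩ := Subgroup.mem_zpowers_iff.mp ha
    obtain ⟨l, rfl⟩ := Subgroup.mem_zpowers_iff.mp hb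
    exact ((hc.zpow_left k).zpow_right l).eq) _ hw.2
  obtain ⟨z, hz1⟩ := (Subgroup.ne_bot_iff_exists_ne_one).mp h1
  obtain ⟨hz, hzw⟩ := Subgroup.mem_inf.mp z.2
  have hcomm : ∀ e ∈ Subgroup.zpowers x, Commute e y := by
    intro e he
    obtain ⟨k, rfl⟩ := Subgroup.mem_zpowers_iff.mp he
    exact hc.zpow_left k
  obtain ⟨e, he, j, hej⟩ := (mem_sup_zpowers _ y hcomm _).mp hz
  obtain ⟨i, rfl⟩ := Subgroup.mem_zpowers_iff.mp he
  refine ⟨i, j, ?_, ?_⟩
  · rw [← hej]; intro h2; apply hz1; exact Subtype.ext h2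
  · rw [← hej]
    have := (Subgroup.mem_centralizer_iff.mp hzw) w (Subgroup.mem_zpowers w)
    exact this.symm


/-- singular subgroups: commutative with all nonidentity elements generating members of `K` -/
def Singular (K : Set (Subgroup G)) (E : Subgroup G) : Prop :=
  (∀ a ∈ E, ∀ b ∈ E, Commute a b) ∧ ∀ e ∈ E, e ≠ 1 → e ∈ Pts K

theorem singular_zpowers (h : Hyp p K) {x : G} (hx : x ∈ Pts K) :
    Singular K (Subgroup.zpowers x) := by
  constructor
  · intro a ha b hb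
    obtain ⟨k, rfl⟩ := Subgroup.mem_zpowers_iff.mp ha
    obtain ⟨l, rfl⟩ := Subgroup.mem_zpowers_iff.mp hb
    exact (Commute.refl x).zpow_zpow k l
  · intro e he he1
    obtain ⟨k, rfl⟩ := Subgroup.mem_zpowers_iff.mp he
    exact (pts_zpow h hx k he1).2

theorem singular_ext (h : Hyp p K) {E : Subgroup G} (hE : Singular K E) {w : G}
    (hw : w ∈ Pts K) (hcw : ∀ e ∈ E, Commute e w) : Singular K (E ⊔ Subgroup.zpowers w) := by
  constructor
  · intro a ha b hb
    obtain ⟨e, he, i, rfl⟩ := (mem_sup_zpowers E w hcw a).mp ha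
    obtain ⟨e', he', j, rfl⟩ := (mem_sup_zpowers E w hcw b).mp hb
    have h1 : Commute e e' := hE.1 e he e' he'
    have h2 : Commute e (w ^ j) := (hcw e he).zpow_right j
    have h3 : Commute (w ^ i) e' := ((hcw e' he').zpow_right i).symm
    have h4 : Commute (w ^ i) (w ^ j) := (Commute.refl w).zpow_zpow i j
    exact (h1.mul_right h2).mul_left (h3.mul_right h4)
  · intro z hz hz1
    obtain ⟨e, he, i, rfl⟩ := (mem_sup_zpowers E w hcw z).mp hz
    by_cases hwi : w ^ i = 1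
    · rw [hwi, mul_one] at hz1 ⊢; exact hE.2 e he hz1
    by_cases he1 : e = 1
    · rw [he1, one_mul]; exact (pts_zpow h hw i hwi).2
    have hePts := hE.2 e he he1
    have hwiPts := (pts_zpow h hw i hwi).2
    by_cases heq : Subgroup.zpowers e = Subgroup.zpowers (w ^ i)
    · have h5 : w ^ i ∈ E := by
        have : w ^ i ∈ Subgroup.zpowers e := by rw [heq]; exact Subgroup.mem_zpowers _
        exact (Subgroup.zpowers_le.mpr he) this
      exact hE.2 _ (E.mul_mem he h5) hz1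
    · have := line h hePts hwiPts ((hcw e he).zpow_right i) heq 1 1 (by simpa using hz1)
      simpa using this

theorem exists_maximal [Finite G] (h : Hyp p K) {x y : G} (hx : x ∈ Pts K) (hy : y ∈ Pts K)
    (hc : Commute x y) :
    ∃ E : Subgroup G, Singular K E ∧ x ∈ E ∧ y ∈ E ∧
      ∀ E', Singular K E' → E ≤ E' → E' = E := by
  have h0 : Singular K (Subgroup.zpowers x ⊔ Subgroup.zpowers y) := by
    apply singular_ext h (singular_zpowers h hx) hy
    intro e he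
    obtain ⟨k, rfl⟩ := Subgroup.mem_zpowers_iff.mp he
    exact hc.zpow_left k
  obtain ⟨E, hle, hmax⟩ := (Set.toFinite {E : Subgroup G | Singular K E}).exists_le_maximal h0
  refine ⟨E, hmax.1, hle (Subgroup.mem_sup_left (Subgroup.mem_zpowers x)),
    hle (Subgroup.mem_sup_right (Subgroup.mem_zpowers y)), ?_⟩
  intro E' hE' hEE'
  exact le_antisymm (hmax.2 hE' hEE') hEE'

theorem mem_of_max (h : Hyp p K) {E : Subgroup G} (hE : Singular K E)
    (hmax : ∀ E', Singular K E' → E ≤ E' → E' = E) {w : G} (hw : w ∈ Pts K)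
    (hcw : ∀ e ∈ E, Commute e w) : w ∈ E := by
  have h1 := hmax _ (singular_ext h hE hw hcw) le_sup_left
  rw [← h1]
  exact Subgroup.mem_sup_right (Subgroup.mem_zpowers w)

theorem decomp (h : Hyp p K) {E : Subgroup G} (hE : Singular K E) {w : G} (hw : w ∈ Pts K)
    {x : G} (hxE : x ∈ E) (hxw : ¬ Commute x w) {y : G} (hyE : y ∈ E) :
    ∃ c ∈ E, Commute c w ∧ ∃ k : ℤ, y = c * x ^ k := by
  have hx1 : x ≠ 1 := by rintro rfl; exact hxw (Commute.one_left w)
  have hxP := hE.2 x hxE hx1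
  by_cases hy1 : y = 1
  · exact ⟨1, E.one_mem, Commute.one_left w, 0, by simp [hy1]⟩
  have hyP := hE.2 y hyE hy1
  by_cases heq : Subgroup.zpowers x = Subgroup.zpowers y
  · have : y ∈ Subgroup.zpowers x := by rw [heq]; exact Subgroup.mem_zpowers y
    obtain ⟨k, hk⟩ := Subgroup.mem_zpowers_iff.mp this
    exact ⟨1, E.one_mem, Commute.one_left w, k, by simp [hk]⟩
  obtain ⟨i, j, hz1, hzw⟩ := perp h hxP hyP (hE.1 x hxE y hyE) heq hw
  have hyj : y ^ j ≠ 1 := by
    intro hyj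
    rw [hyj, mul_one] at hz1 hzw
    exact hxw (commute_of_zpow h hxP i hz1 hzw)
  have h1 := (pts_zpow h hyP j hyj).1
  have h2 : y ∈ Subgroup.zpowers (y ^ j) := by rw [h1]; exact Subgroup.mem_zpowers y
  obtain ⟨m, hm⟩ := Subgroup.mem_zpowers_iff.mp h2
  refine ⟨(x ^ i * y ^ j) ^ m,
    E.zpow_mem (E.mul_mem (E.zpow_mem hxE i) (E.zpow_mem hyE j)) m, hzw.zpow_left m,
    -(i * m), ?_⟩
  have hc' : Commute (x ^ i) (y ^ j) := ((hE.1 x hxE y hyE).zpow_left i).zpow_right j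
  rw [hc'.mul_zpow, hm, zpow_neg, zpow_mul]
  have h3 : Commute ((x ^ i) ^ m) y := ((hE.1 x hxE y hyE).zpow_left i).zpow_left m
  rw [h3.eq, mul_inv_cancel_right]

theorem dichotomy (h : Hyp p K) {E : Subgroup G} (hE : Singular K E) {w w' : G}
    (hw : w ∈ Pts K) (hw' : w' ∈ Pts K) (hwE : ∃ e ∈ E, ¬ Commute e w)
    (hw'E : ∃ e ∈ E, ¬ Commute e w') :
    (∀ e ∈ E, Commute e w ↔ Commute e w') ∨
      ((∃ x ∈ E, Commute x w ∧ ¬ Commute x w') ∧ (∃ y ∈ E, Commute y w' ∧ ¬ Commute y w)) := by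
  -- auxiliary: one-sided containment forces equality
  have key : ∀ {u v : G}, u ∈ Pts K → v ∈ Pts K → (∃ e ∈ E, ¬ Commute e u) →
      (∀ e ∈ E, Commute e v → Commute e u) → ∀ e ∈ E, Commute e u → Commute e v := by
    intro u v hu hv hex hsub e he heu
    obtain ⟨y₁, hy₁E, hy₁u⟩ := hex
    have hy₁v : ¬ Commute y₁ v := fun hc => hy₁u (hsub y₁ hy₁E hc)
    have hy₁1 : y₁ ≠ 1 := by rintro rfl; exact hy₁u (Commute.one_left u)
    have hy₁P := hE.2 y₁ hy₁E hy₁1
    obtain ⟨c, hcE, hcv, k, hk⟩ := decomp h hE hv hy₁E hy₁v he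
    have hcu : Commute c u := hsub c hcE hcv
    by_cases hyk : y₁ ^ k = 1
    · rw [hyk, mul_one] at hk
      rw [hk]; exact hcv
    · exfalso
      apply hy₁u
      apply commute_of_zpow h hy₁P k hyk
      have h1 : y₁ ^ k = c⁻¹ * e := by rw [hk]; group
      rw [h1]
      exact hcu.inv_left.mul_left heu
  by_cases hA : ∃ x ∈ E, Commute x w ∧ ¬ Commute x w'
  · by_cases hB : ∃ y ∈ E, Commute y w' ∧ ¬ Commute y w
    · right; exact ⟨hA, hB⟩
    · exfalso
      push Not at hB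
      obtain ⟨x, hxE, hxw, hxw'⟩ := hA
      exact hxw' (key hw hw' hwE hB x hxE hxw)
  · push Not at hA
    left
    intro e he
    exact ⟨hA e he, key hw' hw hw'E hA e he⟩

/-- iterated conjugation -/
theorem conj_pow (g e c : G) (k : ℤ) (hgc : Commute g c) (hge : g * e * g⁻¹ = e * c ^ k)
    (m : ℕ) : g ^ m * e * (g ^ m)⁻¹ = e * c ^ (k * m) := by
  induction m with
  | zero => simp
  | succ m ih =>
    have h1 : g ^ (m + 1) * e * (g ^ (m + 1))⁻¹ = g * (g ^ m * e * (g ^ m)⁻¹) * g⁻¹ := by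
      rw [pow_succ']; group
    rw [h1, ih]
    have h2 : g * (e * c ^ (k * m)) * g⁻¹ = (g * e * g⁻¹) * (g * c ^ (k * (m : ℤ)) * g⁻¹) := by
      group
    rw [h2, hge]
    have h3 : g * c ^ (k * (m : ℤ)) * g⁻¹ = c ^ (k * (m : ℤ)) := by
      rw [(hgc.zpow_right _).eq, mul_inv_cancel_right]
    rw [h3, mul_assoc, ← zpow_add]
    congr 2
    push_cast; ring


theorem comm_of_c1 {X w₁ : G} (hc : X⁻¹ * (w₁ * X * w₁⁻¹) = 1) : Commute X w₁ := by
  have h1 : w₁ * X * w₁⁻¹ = X := by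
    have := congrArg (X * ·) hc
    simpa using this
  calc X * w₁ = (w₁ * X * w₁⁻¹) * w₁ := by rw [h1]
    _ = w₁ * X := by group

theorem core (h : Hyp p K) {E : Subgroup G} (hE : Singular K E)
    (hmax : ∀ E', Singular K E' → E ≤ E' → E' = E) {w w₁ : G} (hw : w ∈ Pts K)
    (hw₁ : w₁ ∈ Pts K) (hww : Commute w w₁) {x y : G} (hxE : x ∈ E) (hyE : y ∈ E)
    (hxw : Commute x w) (hxw₁ : ¬ Commute x w₁) (hyw₁ : Commute y w₁) (hyw : ¬ Commute y w) :
    ∃ c ∈ E, c ≠ 1 ∧ Commute c w ∧ Commute c w₁ ∧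
      (∀ e ∈ E, ∃ k : ℤ, w * e * w⁻¹ = e * c ^ k) ∧
      (∀ e ∈ E, ∃ k : ℤ, w₁ * e * w₁⁻¹ = e * c ^ k) := by
  have hx1 : x ≠ 1 := by rintro rfl; exact hxw₁ (Commute.one_left w₁)
  have hy1 : y ≠ 1 := by rintro rfl; exact hyw (Commute.one_left w)
  have hxP := hE.2 x hxE hx1
  have hyP := hE.2 y hyE hy1
  have hxy : Commute x y := hE.1 x hxE y hyE
  have hne_xy : Subgroup.zpowers x ≠ Subgroup.zpowers y := by
    intro heq
    have : y ∈ Subgroup.zpowers x := by rw [heq]; exact Subgroup.mem_zpowers y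
    obtain ⟨k, hk⟩ := Subgroup.mem_zpowers_iff.mp this
    apply hyw; rw [← hk]; exact hxw.zpow_left k
  have hne_ww : Subgroup.zpowers w ≠ Subgroup.zpowers w₁ := by
    intro heq
    have : w₁ ∈ Subgroup.zpowers w := by rw [heq]; exact Subgroup.mem_zpowers w₁
    obtain ⟨k, hk⟩ := Subgroup.mem_zpowers_iff.mp this
    apply hxw₁; rw [← hk]; exact hxw.zpow_right k
  have hu : w * w₁ ∈ Pts K := by
    have h1 : w ^ (1 : ℤ) * w₁ ^ (1 : ℤ) ≠ 1 := by
      rw [zpow_one, zpow_one]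
      intro h1
      apply hxw₁
      have : w₁ = w⁻¹ := by rw [← mul_eq_one_iff_eq_inv']; exact h1
      rw [this]; exact hxw.inv_right
    have := line h hw hw₁ hww hne_ww 1 1 h1
    simpa using this
  obtain ⟨a, b, hz1, hzu⟩ := perp h hxP hyP hxy hne_xy hu
  obtain ⟨X, hX⟩ : ∃ X, X = x ^ a := ⟨_, rfl⟩
  obtain ⟨Y, hY⟩ : ∃ Y, Y = y ^ b := ⟨_, rfl⟩
  rw [← hX, ← hY] at hz1 hzu
  have hXE : X ∈ E := by rw [hX]; exact E.zpow_mem hxE a
  have hYE : Y ∈ E := by rw [hY]; exact E.zpow_mem hyE b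
  have hXw : Commute X w := by rw [hX]; exact hxw.zpow_left a
  have hYw₁ : Commute Y w₁ := by rw [hY]; exact hyw₁.zpow_left b
  have hXY : Commute X Y := hE.1 X hXE Y hYE
  -- the key identity
  have hP : Commute w (w₁ * X * w₁⁻¹) := (hww.mul_right hXw.symm).mul_right hww.inv_right
  have e1 : (w * w₁) * (X * Y) * (w * w₁)⁻¹ = X * Y := by
    rw [← hzu.eq, mul_inv_cancel_right]
  have e2 : (w * w₁) * (X * Y) * (w * w₁)⁻¹ =
      w * (w₁ * X * w₁⁻¹) * w⁻¹ * (w * (w₁ * Y * w₁⁻¹) * w⁻¹) := by group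
  have e3 : w₁ * Y * w₁⁻¹ = Y := by rw [← hYw₁.eq, mul_inv_cancel_right]
  have e4 : w * (w₁ * X * w₁⁻¹) * w⁻¹ = w₁ * X * w₁⁻¹ := by rw [hP.eq, mul_inv_cancel_right]
  have e5 : w₁ * X * w₁⁻¹ * (w * Y * w⁻¹) = X * Y := by
    rw [← e1, e2, e3, e4]
  obtain ⟨c, hc⟩ : ∃ c, c = X⁻¹ * (w₁ * X * w₁⁻¹) := ⟨_, rfl⟩
  have hc2 : c = Y * (w * Y⁻¹ * w⁻¹) := by
    have h1 : w₁ * X * w₁⁻¹ = X * Y * (w * Y * w⁻¹)⁻¹ := by rw [← e5]; group
    rw [hc, h1]; group
  have hcomm1 : ∀ t, Commute t X → Commute t w₁ → Commute t c := by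
    intro t h1 h2
    rw [hc]
    exact (h1.inv_right).mul_right ((h2.mul_right h1).mul_right h2.inv_right)
  have hcomm2 : ∀ t, Commute t Y → Commute t w → Commute t c := by
    intro t h1 h2
    rw [hc2]
    exact h1.mul_right ((h2.mul_right h1.inv_right).mul_right h2.inv_right)
  have hcw : Commute c w := (hcomm1 w hXw.symm hww).symm
  have hcw₁ : Commute c w₁ := (hcomm2 w₁ hYw₁.symm hww.symm).symm
  have hX1 : X ≠ 1 := by
    intro hX1
    have hY1 : Y ≠ 1 := by intro hY1; apply hz1; rw [hX1, hY1, mul_one]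
    have hc1 : c = 1 := by rw [hc, hX1]; group
    rw [hc1] at hc2
    have h1 : Commute Y w := by
      have h2 : Y * w * Y⁻¹ * w⁻¹ = 1 := by rw [hc2]; group
      have h3 : Y * w = w * Y := by
        have := congrArg (· * w * Y) h2
        simpa [mul_assoc] using this
      exact h3
    rw [hY] at h1 hY1
    exact hyw (commute_of_zpow h hyP b hY1 h1)
  have hXP := (pts_zpow h hxP a (by rw [← hX]; exact hX1)).2
  rw [← hX] at hXP
  have hXw₁ : ¬ Commute X w₁ := by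
    intro hc'
    rw [hX] at hc' hX1
    exact hxw₁ (commute_of_zpow h hxP a hX1 hc')
  have hc1 : c ≠ 1 := by
    intro hc1
    rw [hc] at hc1
    exact hXw₁ (comm_of_c1 hc1)
  have hY1 : Y ≠ 1 := by
    intro hY1
    apply hc1
    rw [hc2, hY1]; group
  have hYw : ¬ Commute Y w := by
    intro hc'
    rw [hY] at hc' hY1
    exact hyw (commute_of_zpow h hyP b hY1 hc')
  -- c commutes with E
  have hcE : ∀ e ∈ E, Commute e c := by
    intro e he
    obtain ⟨c', hc'E, hc'w, k, hk⟩ := decomp h hE hw hyE hyw he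
    rw [hk]
    have h1 : Commute c' c := hcomm2 c' (hE.1 c' hc'E Y hYE) hc'w
    have h2 : Commute y c := hcomm1 y (hE.1 y hyE X hXE) hyw₁
    exact h1.mul_left (h2.zpow_left k)
  -- c is a point
  have hPP : w₁ * X * w₁⁻¹ ∈ Pts K := pts_conj h hXP w₁
  have hXc : w₁ * X * w₁⁻¹ = X * c := by rw [hc]; group
  have hXcc : Commute X c := hcE X hXE
  have hcP : c ∈ Pts K := by
    have hcomm : Commute X (w₁ * X * w₁⁻¹) := by rw [hXc]; exact (Commute.refl X).mul_right hXcc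
    have hne : Subgroup.zpowers X ≠ Subgroup.zpowers (w₁ * X * w₁⁻¹) := by
      intro heq
      have h1 : w₁ * X * w₁⁻¹ ∈ Subgroup.zpowers X := by rw [heq]; exact Subgroup.mem_zpowers _
      have h2 : c ∈ Subgroup.zpowers X := by
        rw [hc]
        exact Subgroup.mul_mem _ (Subgroup.inv_mem _ (Subgroup.mem_zpowers X)) h1
      obtain ⟨k', hk'⟩ := Subgroup.mem_zpowers_iff.mp h2
      apply hXw₁
      apply commute_of_zpow h hXP k' (by rw [hk']; exact hc1)
      rw [hk']; exact hcw₁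
    have := line h hXP hPP hcomm hne (-1) 1 (by
      rw [zpow_neg_one, zpow_one, ← hc]; exact hc1)
    rw [zpow_neg_one, zpow_one, ← hc] at this
    exact this
  have hcmem : c ∈ E := mem_of_max h hE hmax hcP hcE
  refine ⟨c, hcmem, hc1, hcw, hcw₁, ?_, ?_⟩
  · intro e he
    obtain ⟨c'', hc''E, hc''w, k, hk⟩ := decomp h hE hw hYE hYw he
    have hwY : w * Y * w⁻¹ = Y * c⁻¹ := by
      have h1 : w * Y⁻¹ * w⁻¹ = Y⁻¹ * c := by rw [hc2]; group
      have h2 : w * Y * w⁻¹ = (Y⁻¹ * c)⁻¹ := by rw [← h1]; group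
      rw [h2, mul_inv_rev, inv_inv]
      exact ((hcE Y hYE).inv_right).eq.symm
    refine ⟨-k, ?_⟩
    have hYc : Commute Y c⁻¹ := (hcE Y hYE).inv_right
    calc w * e * w⁻¹ = (w * c'' * w⁻¹) * (w * Y ^ k * w⁻¹) := by rw [hk]; group
      _ = c'' * (w * Y * w⁻¹) ^ k := by
          rw [conj_zpow, ← hc''w.eq, mul_inv_cancel_right]
      _ = c'' * (Y * c⁻¹) ^ k := by rw [hwY]
      _ = c'' * (Y ^ k * c⁻¹ ^ k) := by rw [hYc.mul_zpow]
      _ = e * c ^ (-k) := by rw [hk, inv_zpow', mul_assoc]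
  · intro e he
    obtain ⟨c', hc'E, hc'w₁, k, hk⟩ := decomp h hE hw₁ hXE hXw₁ he
    refine ⟨k, ?_⟩
    calc w₁ * e * w₁⁻¹ = (w₁ * c' * w₁⁻¹) * (w₁ * X ^ k * w₁⁻¹) := by rw [hk]; group
      _ = c' * (w₁ * X * w₁⁻¹) ^ k := by
          rw [conj_zpow, ← hc'w₁.eq, mul_inv_cancel_right]
      _ = c' * (X * c) ^ k := by rw [hXc]
      _ = c' * (X ^ k * c ^ k) := by rw [hXcc.mul_zpow]
      _ = e * c ^ k := by rw [hk, mul_assoc]


theorem main_lemma [Finite G] (h : Hyp p K) {E : Subgroup G} (hE : Singular K E)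
    (hmax : ∀ E', Singular K E' → E ≤ E' → E' = E) {w w' : G} (hw : w ∈ Pts K)
    (hw' : w' ∈ Pts K) {x y : G} (hxE : x ∈ E) (hyE : y ∈ E)
    (hxw : Commute x w) (hxw' : ¬ Commute x w') (hyw' : Commute y w') (hyw : ¬ Commute y w) :
    ∃ c ∈ E, c ≠ 1 ∧ Commute c w ∧ Commute c w' ∧
      (∀ e ∈ E, ∃ k : ℤ, w * e * w⁻¹ = e * c ^ k) ∧
      (∀ e ∈ E, ∃ k : ℤ, w' * e * w'⁻¹ = e * c ^ k) := by
  have hy1 : y ≠ 1 := by rintro rfl; exact hyw (Commute.one_left w)
  have hyP := hE.2 y hyE hy1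
  have hne : Subgroup.zpowers w' ≠ Subgroup.zpowers y := by
    intro heq
    have h1 : w' ∈ Subgroup.zpowers y := by rw [← heq]; exact Subgroup.mem_zpowers w'
    have h2 : w' ∈ E := (Subgroup.zpowers_le.mpr hyE) h1
    exact hxw' (hE.1 x hxE w' h2)
  obtain ⟨i, j, hz1, hzw⟩ := perp h hw' hyP hyw'.symm hne hw
  have hwi : w' ^ i ≠ 1 := by
    intro hwi
    rw [hwi, one_mul] at hz1 hzw
    exact hyw (commute_of_zpow h hyP j hz1 hzw)
  obtain ⟨w₁, hw₁⟩ : ∃ w₁, w₁ = w' ^ i * y ^ j := ⟨_, rfl⟩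
  have hw₁P : w₁ ∈ Pts K := by rw [hw₁]; exact line h hw' hyP hyw'.symm hne i j hz1
  rw [← hw₁] at hzw
  have hiff : ∀ e ∈ E, Commute e w₁ ↔ Commute e w' := by
    intro e he
    have hey : Commute e (y ^ j) := (hE.1 e he y hyE).zpow_right j
    constructor
    · intro hc
      have h1 : w' ^ i = w₁ * (y ^ j)⁻¹ := by rw [hw₁]; group
      have h2 : Commute e (w' ^ i) := by rw [h1]; exact hc.mul_right hey.inv_right
      exact (commute_of_zpow h hw' i hwi h2.symm).symm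
    · intro hc
      rw [hw₁]
      exact (hc.zpow_right i).mul_right hey
  have hxw₁ : ¬ Commute x w₁ := fun hc => hxw' ((hiff x hxE).mp hc)
  have hyw₁ : Commute y w₁ := (hiff y hyE).mpr hyw'
  obtain ⟨c, hcE, hc1, hcw, hcw₁, hfw, hfw₁⟩ :=
    core h hE hmax hw hw₁P hzw.symm hxE hyE hxw hxw₁ hyw₁ hyw
  have hcw' : Commute c w' := (hiff c hcE).mp hcw₁
  refine ⟨c, hcE, hc1, hcw, hcw', hfw, ?_⟩
  intro e he
  obtain ⟨k, hk⟩ := hfw₁ e he
  -- conjugation by `w' ^ i`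
  have hge : w' ^ i * e * (w' ^ i)⁻¹ = e * c ^ k := by
    rw [← hk, hw₁]
    have hey : Commute (y ^ j) e := ((hE.1 e he y hyE).zpow_right j).symm
    have : w' ^ i * y ^ j * e * (w' ^ i * y ^ j)⁻¹ = w' ^ i * (y ^ j * e * (y ^ j)⁻¹) * (w' ^ i)⁻¹ := by
      group
    rw [this, hey.eq, mul_inv_cancel_right]
  have hgc : Commute (w' ^ i) c := (hcw'.zpow_right i).symm
  have h1 := (pts_zpow h hw' i hwi).1
  have h2 : w' ∈ Subgroup.zpowers (w' ^ i) := by rw [h1]; exact Subgroup.mem_zpowers w'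
  rw [← mem_powers_iff_mem_zpowers, Submonoid.mem_powers_iff] at h2
  obtain ⟨m, hm⟩ := h2
  have := conj_pow (w' ^ i) e c k hgc hge m
  rw [hm] at this
  exact ⟨k * m, this⟩

/-- comparing two descriptions of a conjugate -/
theorem transfer_c (h : Hyp p K) {c c'' g e w'' : G} (hcP : c ∈ Pts K) (k k'' : ℤ)
    (h1 : g * e * g⁻¹ = e * c ^ k) (h2 : g * e * g⁻¹ = e * c'' ^ k'') (hne : ¬ Commute e g)
    (hc'' : Commute c'' w'') : Commute c w'' := by
  have h3 : c ^ k = c'' ^ k'' := by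
    have := h1.symm.trans h2
    exact mul_left_cancel this
  have h4 : c ^ k ≠ 1 := by
    intro h4
    rw [h4, mul_one] at h1
    apply hne
    have : g * e = e * g := by
      calc g * e = g * e * g⁻¹ * g := by group
        _ = e * g := by rw [h1]
    exact this.symm
  apply commute_of_zpow h hcP k h4
  rw [h3]; exact hc''.zpow_left k''

theorem exists_central [Finite G] (h : Hyp p K)
    (hex : ∃ X ∈ K, ∃ Y ∈ K, X ≠ Y ∧ ∀ x ∈ X, ∀ y ∈ Y, x * y = y * x) :
    ∃ c ∈ Pts K, ∀ w ∈ Pts K, Commute c w := by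
  classical
  obtain ⟨X, hX, Y, hY, hXY, hcomm⟩ := hex
  have hne1 : ∀ Z ∈ K, ∃ z ∈ Z, z ≠ 1 := by
    intro Z hZ
    have hcard := h.card Z hZ
    have hbot : Z ≠ ⊥ := by
      intro hb
      rw [hb, Subgroup.card_bot] at hcard
      exact h.hp.one_lt.ne hcard
    obtain ⟨z, hz⟩ := (Subgroup.ne_bot_iff_exists_ne_one).mp hbot
    exact ⟨z, z.2, fun hz1 => hz (Subtype.ext hz1)⟩
  obtain ⟨x₀, hx₀X, hx₀1⟩ := hne1 X hX
  obtain ⟨y₀, hy₀Y, hy₀1⟩ := hne1 Y hY
  obtain ⟨hzx, hx₀P⟩ := pts_of_mem h hX hx₀X hx₀1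
  obtain ⟨hzy, hy₀P⟩ := pts_of_mem h hY hy₀Y hy₀1
  have hc₀ : Commute x₀ y₀ := hcomm x₀ hx₀X y₀ hy₀Y
  have hne₀ : Subgroup.zpowers x₀ ≠ Subgroup.zpowers y₀ := by rw [hzx, hzy]; exact hXY
  obtain ⟨E, hE, hx₀E, hy₀E, hmax⟩ := exists_maximal h hx₀P hy₀P hc₀
  by_cases hall : ∀ w ∈ Pts K, ∀ e ∈ E, Commute e w
  · exact ⟨x₀, hx₀P, fun w hw => hall w hw x₀ hx₀E⟩
  push Not at hall
  obtain ⟨w₀, hw₀, e₀, he₀E, he₀w⟩ := hall
  have he₀1 : e₀ ≠ 1 := by rintro rfl; exact he₀w (Commute.one_left w₀)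
  have he₀P := hE.2 e₀ he₀E he₀1
  by_cases hsame : ∀ w ∈ Pts K, (∃ e ∈ E, ¬ Commute e w) → ∀ e ∈ E, Commute e w₀ ↔ Commute e w
  · -- a nonidentity element of `E` commuting with `w₀`
    have hex : ∃ c ∈ E, c ≠ 1 ∧ Commute c w₀ := by
      obtain ⟨c₁, hc₁E, hc₁w, k₁, hk₁⟩ := decomp h hE hw₀ he₀E he₀w hx₀E
      obtain ⟨c₂, hc₂E, hc₂w, k₂, hk₂⟩ := decomp h hE hw₀ he₀E he₀w hy₀E
      by_cases h1 : c₁ = 1
      · by_cases h2 : c₂ = 1
        · exfalso
          rw [h1, one_mul] at hk₁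
          rw [h2, one_mul] at hk₂
          apply hne₀
          rw [hk₁, hk₂, (pts_zpow h he₀P k₁ (by rw [← hk₁]; exact hx₀1)).1,
            (pts_zpow h he₀P k₂ (by rw [← hk₂]; exact hy₀1)).1]
        · exact ⟨c₂, hc₂E, h2, hc₂w⟩
      · exact ⟨c₁, hc₁E, h1, hc₁w⟩
    obtain ⟨c, hcE, hc1, hcw₀⟩ := hex
    refine ⟨c, hE.2 c hcE hc1, ?_⟩
    intro w hw
    by_cases hwE : ∀ e ∈ E, Commute e w
    · exact hwE c hcE
    · push Not at hwE
      exact (hsame w hw hwE c hcE).mp hcw₀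
  · have hsame' : ∃ w' ∈ Pts K, (∃ e ∈ E, ¬ Commute e w') ∧
        ¬ ∀ e ∈ E, Commute e w₀ ↔ Commute e w' := by
      by_contra hcon
      apply hsame
      intro w hw hwE
      by_contra hd
      exact hcon ⟨w, hw, hwE, hd⟩
    obtain ⟨w', hw', hw'E, hdiff⟩ := hsame'
    have hw₀E : ∃ e ∈ E, ¬ Commute e w₀ := ⟨e₀, he₀E, he₀w⟩
    rcases dichotomy h hE hw₀ hw' hw₀E hw'E with hd | ⟨⟨x, hxE, hxw, hxw'⟩, ⟨y, hyE, hyw', hyw⟩⟩
    · exact absurd hd hdiff
    obtain ⟨c, hcE, hc1, hcw₀, hcw', hf₀, hf'⟩ :=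
      main_lemma h hE hmax hw₀ hw' hxE hyE hxw hxw' hyw' hyw
    have hcP : c ∈ Pts K := hE.2 c hcE hc1
    refine ⟨c, hcP, ?_⟩
    intro w'' hw''
    by_cases hw''E : ∀ e ∈ E, Commute e w''
    · exact hw''E c hcE
    push Not at hw''E
    rcases dichotomy h hE hw₀ hw'' hw₀E hw''E with hd | ⟨⟨x', hx'E, hx'w, hx'w''⟩, ⟨y', hy'E, hy'w'', hy'w⟩⟩
    · -- same hyperplane as `w₀`, hence different from that of `w'`
      rcases dichotomy h hE hw' hw'' hw'E hw''E with hd' | ⟨⟨x', hx'E, hx'w, hx'w''⟩, ⟨y', hy'E, hy'w'', hy'w⟩⟩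
      · exfalso
        apply hdiff
        intro e he
        exact (hd e he).trans (hd' e he).symm
      · obtain ⟨c'', _, _, _, hc''w'', hg', _⟩ :=
          main_lemma h hE hmax hw' hw'' hx'E hy'E hx'w hx'w'' hy'w'' hy'w
        obtain ⟨e₁, he₁E, he₁w'⟩ := hw'E
        obtain ⟨k, hk⟩ := hf' e₁ he₁E
        obtain ⟨k'', hk''⟩ := hg' e₁ he₁E
        exact transfer_c h hcP k k'' hk hk'' he₁w' hc''w''
    · obtain ⟨c'', _, _, _, hc''w'', hg', _⟩ :=
        main_lemma h hE hmax hw₀ hw'' hx'E hy'E hx'w hx'w'' hy'w'' hy'w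
      obtain ⟨k, hk⟩ := hf₀ e₀ he₀E
      obtain ⟨k'', hk''⟩ := hg' e₀ he₀E
      exact transfer_c h hcP k k'' hk hk'' he₀w hc''w''


/-- the normal closure of a point commuting with all points is an abelian normal `p`-subgroup -/
theorem closure_props [Finite G] (h : Hyp p K) {c : G} (hcP : c ∈ Pts K)
    (hc : ∀ w ∈ Pts K, Commute c w) :
    (∀ a ∈ Subgroup.normalClosure ({c} : Set G), ∀ b ∈ Subgroup.normalClosure ({c} : Set G),
      Commute a b) ∧ IsPGroup p (Subgroup.normalClosure ({c} : Set G)) := by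
  -- generators
  have hgen : ∀ g ∈ Group.conjugatesOfSet ({c} : Set G),
      g ∈ Pts K ∧ ∀ w ∈ Pts K, Commute g w := by
    intro g hg
    rw [Group.mem_conjugatesOfSet_iff] at hg
    obtain ⟨a, ha, hag⟩ := hg
    rw [Set.mem_singleton_iff] at ha
    subst ha
    rw [isConj_iff] at hag
    obtain ⟨t, rfl⟩ := hag
    refine ⟨pts_conj h hcP t, ?_⟩
    intro w hw
    have h1 : Commute a (t⁻¹ * w * t⁻¹⁻¹) := hc _ (pts_conj h hw t⁻¹)
    have h2 : t * a * t⁻¹ * w = w * (t * a * t⁻¹) := by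
      have h3 := h1.eq
      calc t * a * t⁻¹ * w = t * (a * (t⁻¹ * w * t⁻¹⁻¹)) * t⁻¹ := by group
        _ = t * ((t⁻¹ * w * t⁻¹⁻¹) * a) * t⁻¹ := by rw [h3]
        _ = w * (t * a * t⁻¹) := by group
    exact h2
  -- the closure centralizes all points
  have hcent : ∀ a ∈ Subgroup.normalClosure ({c} : Set G), ∀ w ∈ Pts K, Commute a w := by
    intro a ha w hw
    unfold Subgroup.normalClosure at ha
    induction ha using Subgroup.closure_induction with
    | mem x hx => exact (hgen x hx).2 w hw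
    | one => exact Commute.one_left w
    | mul x y _ _ hx hy => exact hx.mul_left hy
    | inv x _ hx => exact hx.inv_left
  have hab : ∀ a ∈ Subgroup.normalClosure ({c} : Set G),
      ∀ b ∈ Subgroup.normalClosure ({c} : Set G), Commute a b := by
    intro a ha b hb
    unfold Subgroup.normalClosure at hb
    induction hb using Subgroup.closure_induction with
    | mem x hx => exact hcent a ha x (hgen x hx).1
    | one => exact Commute.one_right a
    | mul x y _ _ hx hy => exact hx.mul_right hy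
    | inv x _ hx => exact hx.inv_right
  refine ⟨hab, ?_⟩
  have hpow : ∀ a ∈ Subgroup.normalClosure ({c} : Set G), a ^ p = 1 := by
    intro a ha
    have ha' := ha
    unfold Subgroup.normalClosure at ha'
    induction ha' using Subgroup.closure_induction with
    | mem x hx => exact pts_pow h (hgen x hx).1
    | one => exact one_pow p
    | mul x y hx hy ihx ihy =>
      have hx' : x ∈ Subgroup.normalClosure ({c} : Set G) := hx
      have hy' : y ∈ Subgroup.normalClosure ({c} : Set G) := hy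
      rw [(hab x hx' y hy').mul_pow, ihx hx', ihy hy', one_mul]
    | inv x hx ihx =>
      have hx' : x ∈ Subgroup.normalClosure ({c} : Set G) := hx
      rw [inv_pow, ihx hx', inv_one]
  intro a
  refine ⟨1, ?_⟩
  rw [pow_one]
  exact Subtype.ext (by simpa using hpow a a.2)

end aux

/-- Let p be a prime and K a set of subgroups of order p of a finite group G, closed under conjugation, such that at least two distinct members of K commute elementwise, and whenever two distinct members X, Y of K commute: every subgroup of order p of the group XY they generate belongs to K, and every member W of K has centralizer meeting XY nontrivially. Then some member V of K commutes elementwise with every member of K and lies in O_p(G); in particular G is not simple. -/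
theorem result {G : Type*} [Group G] [Finite G]
    {p : ℕ} (hp : p.Prime) (K : Set (Subgroup G)) (hK : ∀ X ∈ K, Nat.card ↥X = p)
    (hKc : ∀ X ∈ K, ∀ g : G, X.map (MulAut.conj g).toMonoidHom ∈ K)
    (hex : ∃ X ∈ K, ∃ Y ∈ K, X ≠ Y ∧ ∀ x ∈ X, ∀ y ∈ Y, x * y = y * x)
    (ha : ∀ X ∈ K, ∀ Y ∈ K, X ≠ Y → (∀ x ∈ X, ∀ y ∈ Y, x * y = y * x) →
      ∀ Z : Subgroup G, Z ≤ X ⊔ Y → Nat.card ↥Z = p → Z ∈ K)
    (hb : ∀ X ∈ K, ∀ Y ∈ K, X ≠ Y → (∀ x ∈ X, ∀ y ∈ Y, x * y = y * x) →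
      ∀ W ∈ K, (X ⊔ Y) ⊓ Subgroup.centralizer (W : Set G) ≠ ⊥) :
    (∃ V ∈ K, (∀ W ∈ K, ∀ v ∈ V, ∀ w ∈ W, v * w = w * v) ∧ V ≤ Cfsg.pCore p G) ∧ ¬ IsSimpleGroup G := by
  classical
  have h : Hyp p K := ⟨hp, hK, hKc, ha, hb⟩
  obtain ⟨c, hcP, hc⟩ := exists_central h hex
  obtain ⟨hab, hpg⟩ := closure_props h hcP hc
  have hcN : c ∈ Subgroup.normalClosure ({c} : Set G) :=
    Subgroup.subset_normalClosure (Set.mem_singleton c)
  refine ⟨⟨Subgroup.zpowers c, hcP.2, ?_, ?_⟩, ?_⟩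
  · intro W hW v hv w hw
    obtain ⟨i, rfl⟩ := Subgroup.mem_zpowers_iff.mp hv
    by_cases hw1 : w = 1
    · rw [hw1, mul_one, one_mul]
    · exact ((hc w (pts_of_mem h hW hw hw1).2).zpow_left i).eq
  · have h1 : Subgroup.normalClosure ({c} : Set G) ≤ Cfsg.pCore p G :=
      Cfsg.Agent.Lib.Helper7_PCore.le_pCore Subgroup.normalClosure_normal hpg
    exact (Subgroup.zpowers_le.mpr hcN).trans h1
  · intro hs
    rcases (Subgroup.normalClosure_normal (s := ({c} : Set G))).eq_bot_or_eq_top with h1 | h1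
    · rw [h1, Subgroup.mem_bot] at hcN
      exact hcP.1 hcN
    · have hcomm : ∀ a b : G, Commute a b := by
        intro a b
        exact hab a (by rw [h1]; exact Subgroup.mem_top a) b (by rw [h1]; exact Subgroup.mem_top b)
      obtain ⟨X, hX, Y, hY, hXY, _⟩ := hex
      have htop : ∀ Z ∈ K, Z = ⊤ := by
        intro Z hZ
        have hZn : Z.Normal := ⟨fun n hn g => by
          rw [(hcomm g n).eq, mul_inv_cancel_right]; exact hn⟩
        rcases hZn.eq_bot_or_eq_top with h2 | h2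
        · exfalso
          have := hK Z hZ
          rw [h2, Subgroup.card_bot] at this
          exact hp.one_lt.ne this
        · exact h2
      exact hXY ((htop X hX).trans (htop Y hY).symm)

end Cfsg.Agent.S3196
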