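import Cfsg.Statements.S3200
import Mathlib
import Cfsg.Agent.S0143
import Cfsg.Agent.Lib.Lead_Hall
import Cfsg.Agent.Lib.Helper2_HallConverse

set_option autoImplicit false
open Cfsg

namespace Cfsg.Agent.S3200

open Cfsg.Agent.Lib.Lead_Hall Cfsg.Agent.Lib.Lead_SZ
open scoped Pointwise

universe u

/-- An abelian subgroup of odd order and 2-power index. -/
def Good (H : Type u) [Group H] : Prop :=
  ∃ C : Subgroup H, IsMulCommutative ↥C ∧ (Nat.card C).Coprime 2 ∧ ∃ k : ℕ, C.index = 2 ^ k

theorem good_of_compl {H : Type u} [Group H] [Finite H] (S : Sylow 2 H) (C : Subgroup H)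
    (hC : IsMulCommutative ↥C) (hSC : Subgroup.IsComplement' (S : Subgroup H) C) : Good H := by
  have h1 : Nat.card (S : Subgroup H) * Nat.card C = Nat.card H := hSC.card_mul_card
  have h2 : C.index * Nat.card C = Nat.card H := by rw [mul_comm]; exact C.card_mul_index
  have h3 : C.index = Nat.card (S : Subgroup H) := by
    have hpos : 0 < Nat.card C := Nat.card_pos
    exact Nat.eq_of_mul_eq_mul_right hpos (h2.trans h1.symm)
  haveI : Fact (Nat.Prime 2) := ⟨Nat.prime_two⟩
  have h4 : Nat.card (S : Subgroup H) = 2 ^ (Nat.card H).factorization 2 := S.card_eq_multiplicity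
  refine ⟨C, hC, ?_, (Nat.card H).factorization 2, h3.trans h4⟩
  rw [Nat.coprime_comm, Nat.Prime.coprime_iff_not_dvd Nat.prime_two]
  intro hdvd
  have h5 : 2 ^ (Nat.card H).factorization 2 * Nat.card C = Nat.card H := by
    rw [← h4]; exact h1
  have : 2 ^ ((Nat.card H).factorization 2 + 1) ∣ Nat.card H := by
    rw [pow_succ]
    exact (Nat.mul_dvd_mul_left _ hdvd).trans (dvd_of_eq h5)
  exact Nat.pow_succ_factorization_not_dvd (Nat.card_pos.ne') Nat.prime_two this

theorem compl_of_good {H : Type u} [Group H] [Finite H] (hG : Good H) :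
    ∃ (P : Sylow 2 H) (D : Subgroup H), IsMulCommutative ↥D ∧
      Subgroup.IsComplement' (P : Subgroup H) D := by
  obtain ⟨C, hC, hodd, k, hk⟩ := hG
  haveI : Fact (Nat.Prime 2) := ⟨Nat.prime_two⟩
  obtain ⟨P⟩ : Nonempty (Sylow 2 H) := inferInstance
  refine ⟨P, C, hC, ?_⟩
  have h2 : Nat.card C * C.index = Nat.card H := C.card_mul_index
  have hnd : ¬ 2 ∣ Nat.card C := by
    rw [← Nat.Prime.coprime_iff_not_dvd Nat.prime_two]; exact hodd.symm
  have hfac : (Nat.card H).factorization 2 = k := by
    rw [← h2, hk, Nat.factorization_mul Nat.card_pos.ne' (by positivity)]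
    simp [Nat.factorization_eq_zero_of_not_dvd hnd, Nat.Prime.factorization_pow Nat.prime_two]
  have h4 : Nat.card (P : Subgroup H) = 2 ^ k := by rw [P.card_eq_multiplicity, hfac]
  apply Subgroup.isComplement'_of_coprime
  · rw [h4, ← hk, mul_comm]; exact h2
  · rw [h4]; exact Nat.Coprime.pow_left k hodd.symm

theorem relIndex_of_normal {G : Type u} [Group G] [Finite G] (C N : Subgroup G) [N.Normal] :
    C.relIndex N ∣ C.index := by
  have h1 : N.relIndex (C ⊔ N) = N.relIndex C := Subgroup.relIndex_sup_right C N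
  have e1 : Nat.card (C ⊓ N : Subgroup G) * C.relIndex N = Nat.card N := by
    have := Subgroup.relIndex_mul_relIndex ⊥ (C ⊓ N) N bot_le inf_le_right
    rwa [Subgroup.relIndex_bot_left, Subgroup.relIndex_bot_left, Subgroup.inf_relIndex_right] at this
  have e2 : Nat.card (C ⊓ N : Subgroup G) * N.relIndex C = Nat.card C := by
    have := Subgroup.relIndex_mul_relIndex ⊥ (C ⊓ N) C bot_le inf_le_left
    rwa [Subgroup.relIndex_bot_left, Subgroup.relIndex_bot_left, Subgroup.inf_relIndex_left] at this
  have e3 : Nat.card N * N.relIndex C = Nat.card (C ⊔ N : Subgroup G) := by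
    have := Subgroup.relIndex_mul_relIndex ⊥ N (C ⊔ N) bot_le le_sup_right
    rwa [Subgroup.relIndex_bot_left, Subgroup.relIndex_bot_left, h1] at this
  have e4 : Nat.card C * C.relIndex (C ⊔ N) = Nat.card (C ⊔ N : Subgroup G) := by
    have := Subgroup.relIndex_mul_relIndex ⊥ C (C ⊔ N) bot_le le_sup_left
    rwa [Subgroup.relIndex_bot_left, Subgroup.relIndex_bot_left] at this
  have hpos : 0 < Nat.card C := Nat.card_pos
  have hpos2 : 0 < Nat.card (C ⊓ N : Subgroup G) * N.relIndex C := by rw [e2]; exact hpos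
  have : C.relIndex N = C.relIndex (C ⊔ N) := by
    apply Nat.eq_of_mul_eq_mul_left hpos2
    calc Nat.card (C ⊓ N : Subgroup G) * N.relIndex C * C.relIndex N
        = (Nat.card (C ⊓ N : Subgroup G) * C.relIndex N) * N.relIndex C := by ring
      _ = Nat.card (C ⊔ N : Subgroup G) := by rw [e1, e3]
      _ = Nat.card (C ⊓ N : Subgroup G) * N.relIndex C * C.relIndex (C ⊔ N) := by rw [e2, e4]
  rw [this]
  exact Subgroup.relIndex_dvd_index_of_le le_sup_left

theorem good_normal {H : Type u} [Group H] [Finite H] (hG : Good H) (N : Subgroup H) [N.Normal] :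
    Good N := by
  obtain ⟨C, hC, hodd, k, hk⟩ := hG
  refine ⟨C.subgroupOf N, inferInstance, ?_, ?_⟩
  · exact Nat.Coprime.coprime_dvd_left
      (Cfsg.Agent.Lib.Helper2_HallConverse.card_subgroupOf_dvd C N) hodd
  · have h := relIndex_of_normal C N
    rw [hk] at h
    obtain ⟨m, -, hm⟩ := (Nat.dvd_prime_pow Nat.prime_two).1 h
    exact ⟨m, hm⟩

theorem good_quot {H : Type u} [Group H] [Finite H] (hG : Good H) (N : Subgroup H) [N.Normal] :
    Good (H ⧸ N) := by
  obtain ⟨C, hC, hodd, k, hk⟩ := hG
  refine ⟨C.map (QuotientGroup.mk' N), inferInstance, ?_, ?_⟩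
  · exact Nat.Coprime.coprime_dvd_left (Subgroup.card_map_dvd C _) hodd
  · have h := Subgroup.index_map_dvd C (QuotientGroup.mk'_surjective N)
    rw [hk] at h
    obtain ⟨m, -, hm⟩ := (Nat.dvd_prime_pow Nat.prime_two).1 h
    exact ⟨m, hm⟩

theorem solv : ∀ n : ℕ, ∀ (H : Type u) [Group H] [Finite H], Nat.card H = n → Good H →
    Group.IsSolvable H := by
  intro n
  induction n using Nat.strong_induction_on with
  | _ n ih =>
    intro H _ _ hn hG
    haveI : Fact (Nat.Prime 2) := ⟨Nat.prime_two⟩
    by_cases hs : IsSimpleGroup H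
    · obtain ⟨C, hC, hodd, k, hk⟩ := hG
      by_cases hCb : C = ⊥
      · rw [hCb, Subgroup.index_bot] at hk
        haveI : Group.IsNilpotent H := (IsPGroup.of_card hk).isNilpotent
        infer_instance
      · obtain ⟨a, ha⟩ := (Subgroup.ne_bot_iff_exists_ne_one (H := C)).1 hCb
        obtain ⟨x, hxC, hx1⟩ : ∃ x : H, x ∈ C ∧ x ≠ 1 :=
          ⟨(a : H), a.2, fun h => ha (Subtype.ext h)⟩
        have hle : C ≤ Subgroup.centralizer ({x} : Set H) := by
          intro c hc
          rw [Subgroup.mem_centralizer_singleton_iff]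
          exact Subgroup.mul_comm_of_mem_isMulCommutative C hc hxC
        have hd : (Subgroup.centralizer ({x} : Set H)).index ∣ 2 ^ k := by
          rw [← hk]; exact Subgroup.index_dvd_of_le hle
        obtain ⟨j, -, hj⟩ := (Nat.dvd_prime_pow Nat.prime_two).1 hd
        have hp : (Nat.card H).Prime := Cfsg.Agent.S0143.result 2 j Nat.prime_two x hx1 hj
        haveI : Fact (Nat.card H).Prime := ⟨hp⟩
        haveI : Group.IsNilpotent H :=
          (IsPGroup.of_card (p := Nat.card H) (n := 1) (pow_one _).symm).isNilpotent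
        infer_instance
    · by_cases hsub : Subsingleton H
      · infer_instance
      · haveI : Nontrivial H := not_subsingleton_iff_nontrivial.1 hsub
        have : ∃ N : Subgroup H, N.Normal ∧ N ≠ ⊥ ∧ N ≠ ⊤ := by
          by_contra hcon
          push_neg at hcon
          exact hs ⟨fun N hN => by
            by_cases hb : N = ⊥
            · exact Or.inl hb
            · exact Or.inr (hcon N hN hb)⟩
        obtain ⟨N, hN, hNb, hNt⟩ := this
        have h1 : Group.IsSolvable N :=
          ih (Nat.card N) (by rw [← hn]; exact (Cfsg.Agent.Lib.Lead_SZ.card_lt (lt_top_iff_ne_top.2 hNt)).trans_eq Subgroup.card_top) N rfl (good_normal hG N)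
        have h2 : Group.IsSolvable (H ⧸ N) :=
          ih (Nat.card (H ⧸ N)) (by rw [← hn]; exact Cfsg.Agent.Lib.Helper2_HallConverse.card_quotient_lt N hNb) (H ⧸ N) rfl (good_quot hG N)
        exact Cfsg.Agent.Lib.Helper2_HallConverse.solvable_of_normal N h1 h2

theorem good_le {H : Type u} [Group H] [Finite H] [Group.IsSolvable H] (hG : Good H)
    (L : Subgroup H) : Good L := by
  obtain ⟨C, hC, hodd, k, hk⟩ := hG
  have hcard : Nat.card L = (Nat.card L / 2 ^ (Nat.card L).factorization 2) *
      2 ^ (Nat.card L).factorization 2 :=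
    (Nat.div_mul_cancel (Nat.ordProj_dvd _ 2)).symm
  have hcop2 : (Nat.card L / 2 ^ (Nat.card L).factorization 2).Coprime 2 :=
    (Nat.coprime_ordCompl Nat.prime_two Nat.card_pos.ne').symm
  obtain ⟨⟨D, hD⟩, -, -⟩ := hall L _ _ hcard (Nat.Coprime.pow_right _ hcop2)
  have hK : Nat.card (D.map L.subtype) = Nat.card D :=
    Subgroup.card_map_of_injective L.subtype_injective
  have hH : Nat.card H = Nat.card C * 2 ^ k := by rw [← hk]; exact C.card_mul_index.symm
  obtain ⟨-, hconj, hdom⟩ := hall H (Nat.card C) (2 ^ k) hH (Nat.Coprime.pow_right k hodd)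
  obtain ⟨E, hE, hKE⟩ := hdom (D.map L.subtype)
    (by rw [hK, hD]; exact Nat.Coprime.pow_right k hcop2)
  obtain ⟨g, hg⟩ := hconj C E rfl hE
  refine ⟨D, ⟨⟨fun a b => ?_⟩⟩, ?_, ?_⟩
  · have ha : ((a : L) : H) ∈ E := hKE (Subgroup.mem_map_of_mem _ a.2)
    have hb : ((b : L) : H) ∈ E := hKE (Subgroup.mem_map_of_mem _ b.2)
    rw [← hg, mem_conj_smul] at ha hb
    have := Subgroup.mul_comm_of_mem_isMulCommutative C ha hb
    apply Subtype.ext; apply Subtype.ext
    simp only [Subgroup.coe_mul]
    have e : g⁻¹ * ((a : L) : H) * g * (g⁻¹ * ((b : L) : H) * g) =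
      g⁻¹ * (((a : L) : H) * ((b : L) : H)) * g := by group
    have e' : g⁻¹ * ((b : L) : H) * g * (g⁻¹ * ((a : L) : H) * g) =
      g⁻¹ * (((b : L) : H) * ((a : L) : H)) * g := by group
    rw [e, e'] at this
    exact mul_left_cancel (mul_right_cancel this)
  · rw [hD]; exact hcop2
  · refine ⟨(Nat.card L).factorization 2, ?_⟩
    have h1 : Nat.card D * D.index = Nat.card L := D.card_mul_index
    have hpos : 0 < Nat.card D := Nat.card_pos
    apply Nat.eq_of_mul_eq_mul_left hpos
    rw [h1, hD]; exact hcard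


/-- Let H be a finite group in which a Sylow 2-subgroup has an abelian complement (an abelian subgroup meeting it trivially whose product with it is all of H). Then H is solvable, and every subgroup and every quotient group of H again has a Sylow 2-subgroup with an abelian complement. -/
theorem result {H : Type*} [Group H] [Finite H]
    (S : Sylow 2 H) (C : Subgroup H) (hC : IsMulCommutative ↥C) (hSC : Subgroup.IsComplement' (S : Subgroup H) C) :
    Group.IsSolvable H ∧
    (∀ L : Subgroup H, ∃ (P : Sylow 2 ↥L) (D : Subgroup ↥L), IsMulCommutative ↥D ∧ Subgroup.IsComplement' (P : Subgroup ↥L) D) ∧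
    (∀ (N : Subgroup H) [N.Normal], ∃ (P : Sylow 2 (H ⧸ N)) (D : Subgroup (H ⧸ N)),
      IsMulCommutative ↥D ∧ Subgroup.IsComplement' (P : Subgroup (H ⧸ N)) D) := by
  have hG := good_of_compl S C hC hSC
  haveI hsolv : Group.IsSolvable H := solv _ H rfl hG
  refine ⟨hsolv, fun L => compl_of_good (good_le hG L), fun N _ => compl_of_good (good_quot hG N)⟩

end Cfsg.Agent.S3200
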