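import Mathlib
import Cfsg.Statements.S3201
import Cfsg.Agent.S0016
import Cfsg.Agent.Lib.Helper7_PFrattini

set_option autoImplicit false

open Cfsg

namespace Cfsg.Agent.S3201

section QuatHom

variable {S : Type*} [Group S]

/-- powers of `a` indexed by `ZMod (2 * m)`, when `a ^ (2 * m) = 1` -/
noncomputable def zp (m : ℕ) (a : S) (ha : a ^ (2 * m) = 1) : ZMod (2 * m) →+ Additive S :=
  ZMod.lift (2 * m) ⟨zmultiplesHom (Additive S) (Additive.ofMul a), by
    rw [zmultiplesHom_apply, natCast_zsmul]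
    exact congrArg Additive.ofMul ha⟩

theorem zp_natCast (m : ℕ) (a : S) (ha : a ^ (2 * m) = 1) (k : ℕ) :
    Additive.toMul (zp m a ha (k : ZMod (2 * m))) = a ^ k := by
  have h1 : ((k : ℤ) : ZMod (2 * m)) = (k : ZMod (2 * m)) := Int.cast_natCast k
  rw [← h1, zp, ZMod.lift_coe]
  show Additive.toMul ((zmultiplesHom (Additive S)) (Additive.ofMul a) (k : ℤ)) = a ^ k
  rw [zmultiplesHom_apply, natCast_zsmul]
  rfl

theorem zp_val (m : ℕ) [NeZero m] (a : S) (ha : a ^ (2 * m) = 1) (i : ZMod (2 * m)) :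
    Additive.toMul (zp m a ha i) = a ^ i.val := by
  haveI : NeZero (2 * m) := ⟨by have := NeZero.ne m; omega⟩
  conv_lhs => rw [← ZMod.natCast_zmod_val i]
  exact zp_natCast m a ha i.val

/-- the homomorphism from the generalized quaternion group determined by `a`, `b` satisfying the
defining relations -/
noncomputable def quatHom (m : ℕ) [NeZero m] (a b : S) (ha : a ^ (2 * m) = 1)
    (hb : b * b = a ^ m) (hab : b * a * b⁻¹ = a⁻¹) : QuaternionGroup m →* S where
  toFun q := match q with
    | QuaternionGroup.a i => Additive.toMul (zp m a ha i)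
    | QuaternionGroup.xa i => b * Additive.toMul (zp m a ha i)
  map_one' := by
    show Additive.toMul (zp m a ha 0) = 1
    rw [map_zero]; rfl
  map_mul' := by
    have hpow : ∀ k : ℕ, a ^ k * b = b * (a ^ k)⁻¹ := by
      intro k
      induction k with
      | zero => simp
      | succ k ih =>
        have h1 : a * b = b * a⁻¹ := by
          have : b * a = a⁻¹ * b := by
            have := hab
            rw [mul_inv_eq_iff_eq_mul] at this
            exact this
          have h2 : a * (b * a) = a * (a⁻¹ * b) := by rw [this]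
          rw [mul_inv_cancel_left] at h2
          calc a * b = a * b * a * a⁻¹ := by group
            _ = a * (b * a) * a⁻¹ := by group
            _ = b * a⁻¹ := by rw [h2]
        rw [pow_succ, mul_assoc, h1, ← mul_assoc, ih, mul_inv_rev]
        group
    have hcomm : ∀ i : ZMod (2 * m), Additive.toMul (zp m a ha i) * b =
        b * Additive.toMul (zp m a ha (-i)) := by
      intro i
      rw [map_neg, zp_val, hpow]
      congr 1
      show (a ^ i.val)⁻¹ = (Additive.toMul (zp m a ha i))⁻¹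
      rw [zp_val]
    have hadd : ∀ i j : ZMod (2 * m), Additive.toMul (zp m a ha (i + j)) =
        Additive.toMul (zp m a ha i) * Additive.toMul (zp m a ha j) := by
      intro i j; rw [map_add]; rfl
    have hm : Additive.toMul (zp m a ha (m : ZMod (2 * m))) = a ^ m := zp_natCast m a ha m
    intro p q
    cases p with
    | a i =>
      cases q with
      | a j =>
        show Additive.toMul (zp m a ha (i + j)) = _
        exact hadd i j
      | xa j =>
        show b * Additive.toMul (zp m a ha (j - i)) =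
          Additive.toMul (zp m a ha i) * (b * Additive.toMul (zp m a ha j))
        rw [← mul_assoc, hcomm, mul_assoc, ← hadd, neg_add_eq_sub]
    | xa i =>
      cases q with
      | a j =>
        show b * Additive.toMul (zp m a ha (i + j)) =
          b * Additive.toMul (zp m a ha i) * Additive.toMul (zp m a ha j)
        rw [hadd, mul_assoc]
      | xa j =>
        show Additive.toMul (zp m a ha ((m : ZMod (2 * m)) + j - i)) =
          b * Additive.toMul (zp m a ha i) * (b * Additive.toMul (zp m a ha j))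
        have e1 : b * Additive.toMul (zp m a ha i) * (b * Additive.toMul (zp m a ha j)) =
            b * (Additive.toMul (zp m a ha i) * b) * Additive.toMul (zp m a ha j) := by group
        rw [e1, hcomm, ← mul_assoc, hb, ← hm, mul_assoc, ← hadd, ← hadd]
        congr 2
        ring

theorem quatHom_a (m : ℕ) [NeZero m] (a b : S) (ha : a ^ (2 * m) = 1)
    (hb : b * b = a ^ m) (hab : b * a * b⁻¹ = a⁻¹) (i : ZMod (2 * m)) :
    quatHom m a b ha hb hab (QuaternionGroup.a i) = a ^ i.val := zp_val m a ha i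

theorem quatHom_xa (m : ℕ) [NeZero m] (a b : S) (ha : a ^ (2 * m) = 1)
    (hb : b * b = a ^ m) (hab : b * a * b⁻¹ = a⁻¹) (i : ZMod (2 * m)) :
    quatHom m a b ha hb hab (QuaternionGroup.xa i) = b * a ^ i.val := by
  show b * Additive.toMul (zp m a ha i) = _
  rw [zp_val]

end QuatHom

/-- Let S be a finite 2-group whose centre Z(S) has n ≥ 2 distinct maximal subgroups C₁, …, Cₙ with trivial intersection such that each quotient S/Cᵢ is a non-abelian group with exactly one involution (a generalized quaternion group). Then S is the internal direct product of an elementary abelian subgroup and a non-abelian subgroup with exactly one involution. -/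
theorem result {S : Type*} [Group S] [Finite S]
    (hS : IsPGroup 2 S) (n : ℕ) (hn : 2 ≤ n) (C : Fin n → Subgroup ↥(Subgroup.center S))
    (hCmax : ∀ i, IsCoatom (C i)) (hCinj : Function.Injective C) (hCint : ⨅ i, C i = ⊥)
    (hCq : ∀ i, ∃ (_ : ((C i).map (Subgroup.center S).subtype).Normal),
      ¬ IsMulCommutative (S ⧸ (C i).map (Subgroup.center S).subtype) ∧
      ∃! x : S ⧸ (C i).map (Subgroup.center S).subtype, orderOf x = 2) :
    ∃ E Q : Subgroup S, Cfsg.IsInternalDirectProduct E Q ⊤ ∧ Cfsg.IsElementaryAbelian 2 E ∧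
      ¬ IsMulCommutative ↥Q ∧ ∃! x : ↥Q, orderOf x = 2 := by
  classical
  haveI : Fact (Nat.Prime 2) := ⟨Nat.prime_two⟩
  have hDZ : ∀ i, (C i).map (Subgroup.center S).subtype ≤ (Subgroup.center S) := fun i => by
    rintro _ ⟨z, _, rfl⟩; exact z.2
  have hmemD : ∀ i (z : S) (hz : z ∈ (Subgroup.center S)), z ∈ (C i).map (Subgroup.center S).subtype ↔ (⟨z, hz⟩ : ↥(Subgroup.center S)) ∈ C i := by
    intro i z hz
    constructor
    · rintro ⟨w, hw, hwz⟩
      have : w = ⟨z, hz⟩ := Subtype.ext hwz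
      rw [← this]; exact hw
    · intro h; exact ⟨⟨z, hz⟩, h, rfl⟩
  have hZ2 : IsPGroup 2 ↥(Subgroup.center S) := hS.to_subgroup (Subgroup.center S)
  have hidx : ∀ i, (C i).index = 2 := fun i =>
    (Cfsg.Agent.Lib.Helper7_PFrattini.coatom_normal_index hZ2 (C i) (hCmax i)).2
  have hZsq : ∀ z ∈ (Subgroup.center S), z ^ 2 = 1 := by
    intro z hz
    have h1 : (⟨z, hz⟩ : ↥(Subgroup.center S)) ^ 2 ∈ ⨅ i, C i := by
      rw [Subgroup.mem_iInf]
      intro i
      rw [sq, Subgroup.mul_mem_iff_of_index_two (hidx i)]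
    rw [hCint, Subgroup.mem_bot] at h1
    have := congrArg Subtype.val h1
    simpa using this
  have hCuniq : ∀ z z' : S, z ∈ (Subgroup.center S) → z' ∈ (Subgroup.center S) → (∀ i, z ∉ (C i).map (Subgroup.center S).subtype) →
      (∀ i, z' ∉ (C i).map (Subgroup.center S).subtype) → z = z' := by
    intro z z' hz hz' h1 h2
    have h3 : (⟨z, hz⟩ : ↥(Subgroup.center S)) * (⟨z', hz'⟩ : ↥(Subgroup.center S))⁻¹ ∈ ⨅ i, C i := by
      rw [Subgroup.mem_iInf]
      intro i
      rw [Subgroup.mul_mem_iff_of_index_two (hidx i), Subgroup.inv_mem_iff]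
      constructor
      · intro h; exact absurd ((hmemD i z hz).mpr h) (h1 i)
      · intro h; exact absurd ((hmemD i z' hz').mpr h) (h2 i)
    rw [hCint, Subgroup.mem_bot] at h3
    have h4 := congrArg Subtype.val h3
    simp only [Subgroup.coe_mul, Subgroup.coe_inv, Subgroup.coe_one] at h4
    exact mul_inv_eq_one.mp h4
  have hA : ∀ i (x : S), x ^ 2 ∈ (C i).map (Subgroup.center S).subtype → x ∈ (Subgroup.center S) := by
    intro i x hx
    obtain ⟨hN, hna, x₀, hx₀, hx₀u⟩ := hCq i
    haveI := hN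
    by_cases hxD : x ∈ (C i).map (Subgroup.center S).subtype
    · exact hDZ i hxD
    · have ho : orderOf (QuotientGroup.mk x : S ⧸ (C i).map (Subgroup.center S).subtype) = 2 := by
        apply orderOf_eq_prime
        · rw [← QuotientGroup.mk_pow, QuotientGroup.eq_one_iff]; exact hx
        · rw [Ne, QuotientGroup.eq_one_iff]; exact hxD
      obtain ⟨z₁, hz₁⟩ : ∃ z₁ : ↥(Subgroup.center S), z₁ ∉ C i := by
        by_contra hcon
        push Not at hcon
        exact (hCmax i).1 (eq_top_iff.mpr fun z _ => hcon z)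
      have hz₁D : (z₁ : S) ∉ (C i).map (Subgroup.center S).subtype := fun h => hz₁ ((hmemD i _ z₁.2).mp h)
      have ho1 : orderOf (QuotientGroup.mk (z₁ : S) : S ⧸ (C i).map (Subgroup.center S).subtype) = 2 := by
        apply orderOf_eq_prime
        · rw [← QuotientGroup.mk_pow, QuotientGroup.eq_one_iff, hZsq _ z₁.2]; exact one_mem _
        · rw [Ne, QuotientGroup.eq_one_iff]; exact hz₁D
      have heq : (QuotientGroup.mk (z₁ : S) : S ⧸ (C i).map (Subgroup.center S).subtype) = QuotientGroup.mk x :=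
        (hx₀u _ ho1).trans (hx₀u _ ho).symm
      have h3 : (z₁ : S)⁻¹ * x ∈ (C i).map (Subgroup.center S).subtype := QuotientGroup.eq.mp heq
      have e1 : x = z₁ * ((z₁ : S)⁻¹ * x) := by group
      rw [e1]; exact (Subgroup.center S).mul_mem z₁.2 (hDZ i h3)
  have hU : ∀ x y : S, x ∉ (Subgroup.center S) → y ∉ (Subgroup.center S) → x ^ 2 ∈ (Subgroup.center S) → y ^ 2 ∈ (Subgroup.center S) → x ^ 2 = y ^ 2 := by
    intro x y hx hy hx2 hy2
    apply hCuniq _ _ hx2 hy2
    · intro i h; exact hx (hA i x h)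
    · intro i h; exact hy (hA i y h)
  -- the first quotient
  let i₀ : Fin n := ⟨0, by omega⟩
  have h0 := hCq i₀
  have hDZ0 := hDZ i₀
  have hA0 := hA i₀
  generalize (C i₀).map (Subgroup.center S).subtype = D₀ at h0 hDZ0 hA0
  obtain ⟨hN, hna, x₀, hx₀, hx₀u⟩ := h0
  haveI := hN
  have hQ2 : IsPGroup 2 (S ⧸ D₀) := hS.to_quotient _
  have key : ∀ H : Subgroup (S ⧸ D₀), Nat.card H = 2 → H = Subgroup.zpowers x₀ := by
    intro H hH
    obtain ⟨h, hh1, -⟩ := (Nat.card_eq_two_iff' (1 : H)).mp hH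
    have ho : orderOf h = 2 := by
      have h1 : orderOf h ∣ 2 := hH ▸ orderOf_dvd_natCard h
      have h2 : orderOf h ≠ 1 := fun h2 => hh1 (orderOf_eq_one_iff.mp h2)
      rcases (Nat.dvd_prime Nat.prime_two).mp h1 with h3 | h3
      · exact absurd h3 h2
      · exact h3
    have ho' : orderOf (h : S ⧸ D₀) = 2 := by
      rw [Subgroup.orderOf_coe]; exact ho
    have hx : (h : S ⧸ D₀) = x₀ := hx₀u _ ho'
    symm
    apply Subgroup.eq_of_le_of_card_ge
    · rw [Subgroup.zpowers_le, ← hx]; exact h.2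
    · rw [hH, Nat.card_zpowers, hx₀]
  have huniq : ∀ H K : Subgroup (S ⧸ D₀), Nat.card H = 2 → Nat.card K = 2 → H = K :=
    fun H K hH hK => (key H hH).trans (key K hK).symm
  rcases Cfsg.Agent.S0016.result 2 hQ2 huniq with hcyc | ⟨-, k, ⟨e⟩⟩
  · exfalso
    apply hna
    have := hcyc
    exact IsCyclic.isMulCommutative
  have hk0 : k ≠ 0 := by
    intro h0
    subst h0
    apply hna
    haveI : IsCyclic (QuaternionGroup (2 ^ 0)) := QuaternionGroup.quaternionGroup_one_isCyclic
    haveI : IsCyclic (S ⧸ D₀) :=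
      isCyclic_of_surjective e.symm.toMonoidHom e.symm.surjective
    exact IsCyclic.isMulCommutative
  obtain ⟨k', rfl⟩ : ∃ k', k = k' + 1 := ⟨k - 1, by omega⟩
  set m := 2 ^ (k' + 1) with hm
  haveI hmz : NeZero m := ⟨by positivity⟩
  haveI hm2z : NeZero (2 * m) := ⟨by have := hmz.ne; omega⟩
  -- facts in the quaternion group
  have hq4 : (QuaternionGroup.a (m : ZMod (2 * m)) : QuaternionGroup m) ≠ 1 := by
    intro h
    rw [QuaternionGroup.one_def] at h
    have h1 : (m : ZMod (2 * m)) = 0 := QuaternionGroup.a.inj h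
    have h2 := (ZMod.natCast_eq_zero_iff m (2 * m)).mp h1
    have h3 := Nat.le_of_dvd (Nat.pos_of_ne_zero hmz.ne) h2
    have := hmz.ne
    omega
  have hq5 : (QuaternionGroup.a (m : ZMod (2 * m)) : QuaternionGroup m) ^ 2 = 1 := by
    rw [sq, QuaternionGroup.a_mul_a, QuaternionGroup.one_def]
    congr 1
    rw [← Nat.cast_add, ← two_mul]
    exact ZMod.natCast_self (2 * m)
  have hgen : ∀ x : S, (e (QuotientGroup.mk x)) ^ 2 = QuaternionGroup.a (m : ZMod (2 * m)) →
      x ∉ (Subgroup.center S) ∧ x ^ 2 ∈ (Subgroup.center S) := by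
    intro x hx
    constructor
    · intro hxZ
      apply hq4
      rw [← hx, ← map_pow, ← QuotientGroup.mk_pow, hZsq x hxZ, QuotientGroup.mk_one, map_one]
    · apply hA0 (x ^ 2)
      rw [← QuotientGroup.eq_one_iff]
      apply e.injective
      rw [map_one, QuotientGroup.mk_pow, QuotientGroup.mk_pow, map_pow, map_pow, hx, hq5]
  obtain ⟨a, ha⟩ := QuotientGroup.mk_surjective (e.symm (QuaternionGroup.a 1))
  obtain ⟨b, hb⟩ := QuotientGroup.mk_surjective (e.symm (QuaternionGroup.xa 0))
  have hea : e (QuotientGroup.mk a) = QuaternionGroup.a 1 := by rw [ha, MulEquiv.apply_symm_apply]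
  have heb : e (QuotientGroup.mk b) = QuaternionGroup.xa 0 := by rw [hb, MulEquiv.apply_symm_apply]
  obtain ⟨hbZ, hb2Z⟩ := hgen b (by rw [heb, QuaternionGroup.xa_sq])
  obtain ⟨hbaZ, hba2Z⟩ := hgen (b * a) (by
    rw [QuotientGroup.mk_mul, map_mul, heb, hea, QuaternionGroup.xa_mul_a, QuaternionGroup.xa_sq])
  obtain ⟨huZ, hu2Z⟩ := hgen (a ^ 2 ^ k') (by
    rw [QuotientGroup.mk_pow, map_pow, hea, ← pow_mul, ← pow_succ, QuaternionGroup.a_one_pow])
  have hu2 : (a ^ 2 ^ k') ^ 2 = a ^ m := by rw [← pow_mul, ← pow_succ]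
  have hbb : b ^ 2 = a ^ m := by rw [← hu2]; exact hU _ _ hbZ huZ hb2Z hu2Z
  have hbab : (b * a) ^ 2 = b ^ 2 := hU _ _ hbaZ hbZ hba2Z hb2Z
  have ha2m : a ^ (2 * m) = 1 := by
    rw [mul_comm, pow_mul, ← hbb]; exact hZsq _ hb2Z
  have hbmul : b * b = a ^ m := by rw [← sq]; exact hbb
  have hconj : b * a * b⁻¹ = a⁻¹ := by
    have h1 : b * a * (b * a) = b * b := by rw [← sq, ← sq]; exact hbab
    have h2 : a * (b * a) = b := by
      have : b * (a * (b * a)) = b * b := by rw [← h1]; group
      exact mul_left_cancel this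
    have h3 : b * a = a⁻¹ * b := by
      have h4 : a⁻¹ * (a * (b * a)) = a⁻¹ * b := by rw [h2]
      rw [← h4]; group
    rw [h3]; group
  set f := quatHom m a b ha2m hbmul hconj with hf
  have hπf : ∀ q : QuaternionGroup m, (QuotientGroup.mk (f q) : S ⧸ D₀) = e.symm q := by
    intro q
    cases q with
    | a i =>
      rw [hf, quatHom_a, QuotientGroup.mk_pow, ha, ← map_pow, QuaternionGroup.a_one_pow,
        ZMod.natCast_zmod_val]
    | xa i =>
      rw [hf, quatHom_xa, QuotientGroup.mk_mul, QuotientGroup.mk_pow, ha, hb, ← map_pow, ← map_mul,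
        QuaternionGroup.a_one_pow, ZMod.natCast_zmod_val, QuaternionGroup.xa_mul_a, zero_add]
  have hfinj : Function.Injective f := by
    intro p q hpq
    apply e.symm.injective
    rw [← hπf, ← hπf, hpq]
  refine ⟨D₀, f.range, ⟨le_top, le_top, ?_, ?_, ?_⟩, ⟨?_, ?_⟩, ?_, ?_⟩
  · intro x hx y _
    exact (Subgroup.mem_center_iff.mp (hDZ0 hx) y).symm
  · rw [eq_bot_iff]
    rintro x ⟨hx1, ⟨q, rfl⟩⟩
    rw [Subgroup.mem_bot]
    have h1 : (QuotientGroup.mk (f q) : S ⧸ D₀) = 1 := (QuotientGroup.eq_one_iff _).mpr hx1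
    rw [hπf] at h1
    have h2 : q = 1 := by
      have := congrArg e h1
      rwa [MulEquiv.apply_symm_apply, map_one] at this
    rw [h2, map_one]
  · rw [eq_top_iff]
    intro s _
    set q := e (QuotientGroup.mk s) with hq
    have h1 : (QuotientGroup.mk (f q) : S ⧸ D₀) = QuotientGroup.mk s := by
      rw [hπf, hq, MulEquiv.symm_apply_apply]
    have h2 : (f q)⁻¹ * s ∈ D₀ := QuotientGroup.eq.mp h1
    have e1 : s = ((f q)⁻¹ * s) * f q := by
      have hc : (f q)⁻¹ * s * f q = f q * ((f q)⁻¹ * s) :=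
        Subgroup.mem_center_iff.mp (hDZ0 h2) (f q) |>.symm
      rw [hc]; group
    rw [e1]
    exact Subgroup.mul_mem _ (Subgroup.mem_sup_left h2) (Subgroup.mem_sup_right ⟨q, rfl⟩)
  · refine ⟨⟨fun x y => Subtype.ext ?_⟩⟩
    exact (Subgroup.mem_center_iff.mp (hDZ0 x.2) y.1).symm
  · intro x hx
    exact hZsq x (hDZ0 hx)
  · intro hc
    apply hna
    refine ⟨⟨fun p q => ?_⟩⟩
    have hp : p = QuotientGroup.mk (f (e p)) := by rw [hπf, MulEquiv.symm_apply_apply]
    have hq' : q = QuotientGroup.mk (f (e q)) := by rw [hπf, MulEquiv.symm_apply_apply]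
    have h1 := hc.is_comm.comm (⟨f (e p), ⟨_, rfl⟩⟩ : ↥f.range) ⟨f (e q), ⟨_, rfl⟩⟩
    have h2 : f (e p) * f (e q) = f (e q) * f (e p) := congrArg Subtype.val h1
    show p * q = q * p
    rw [hp, hq', ← QuotientGroup.mk_mul, ← QuotientGroup.mk_mul, h2]
  · have hox : orderOf (f (e x₀)) = 2 := by
      rw [orderOf_injective f hfinj, MulEquiv.orderOf_eq, hx₀]
    refine ⟨⟨f (e x₀), ⟨_, rfl⟩⟩, ?_, ?_⟩
    · show orderOf (⟨f (e x₀), _⟩ : ↥f.range) = 2
      rw [← Subgroup.orderOf_coe]; exact hox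
    · rintro ⟨y, ⟨q, rfl⟩⟩ hy
      apply Subtype.ext
      show f q = f (e x₀)
      have h1 : orderOf (f q) = 2 := by
        rw [← hy, ← Subgroup.orderOf_coe]
      have h2 : orderOf q = 2 := by rw [← h1, orderOf_injective f hfinj]
      have h3 : orderOf (e.symm q) = 2 := by rw [MulEquiv.orderOf_eq]; exact h2
      have h4 : e.symm q = x₀ := hx₀u _ h3
      rw [← h4, MulEquiv.apply_symm_apply]

end Cfsg.Agent.S3201
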