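import Cfsg.Statements.S3202
import Mathlib
import Cfsg.Agent.S0016

set_option autoImplicit false
open Cfsg

namespace Cfsg.Agent.S3202

open scoped commutatorElement

theorem comm_mul_right' {S : Type*} [Group S] (a b c : S) :
    ⁅a, b * c⁆ = ⁅a, b⁆ * (b * ⁅a, c⁆ * b⁻¹) := by
  simp only [commutatorElement_def]; group

theorem comm_mul_left' {S : Type*} [Group S] (a b c : S) :
    ⁅a * b, c⁆ = a * ⁅b, c⁆ * a⁻¹ * ⁅a, c⁆ := by
  simp only [commutatorElement_def]; group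

theorem core {S : Type*} [Group S] (x y d₀ : S) (hd₀ : d₀ ∈ Subgroup.center S)
    (hyx : y * x * y⁻¹ = x⁻¹ * d₀)
    (hform : ∀ s : S, (∃ i : ℤ, ∃ d ∈ Subgroup.center S, s = x ^ i * d) ∨
                      (∃ i : ℤ, ∃ d ∈ Subgroup.center S, s = y * (x ^ i * d))) :
    commutator S ≤ Subgroup.zpowers ⁅x, y⁆ := by
  set c : S := ⁅x, y⁆ with hc
  set u : S := x⁻¹ * d₀ with hu
  have hcen : ∀ d ∈ Subgroup.center S, ∀ g : S, Commute g d := fun d hd g =>
    Subgroup.mem_center_iff.mp hd g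
  have hxu : Commute x u := (Commute.inv_right (Commute.refl x)).mul_right (hcen d₀ hd₀ x)
  have hcxu : c = x * u⁻¹ := by
    rw [hc, commutatorElement_def, ← hyx]; group
  have hconj : ∀ i : ℤ, y * x ^ i * y⁻¹ = u ^ i := by
    intro i
    rw [← conj_zpow, hyx]
  -- P2
  have P2 : ∀ i : ℤ, ∀ d ∈ Subgroup.center S, ⁅x ^ i * d, y⁆ = c ^ i := by
    intro i d hd
    have h1 : ⁅x ^ i * d, y⁆ = x ^ i * (y * x ^ i * y⁻¹)⁻¹ := by
      rw [commutatorElement_def]
      have := (hcen d hd y).eq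
      have h2 : (x ^ i * d)⁻¹ = d⁻¹ * (x ^ i)⁻¹ := mul_inv_rev _ _
      rw [h2]
      calc x ^ i * d * y * (d⁻¹ * (x ^ i)⁻¹) * y⁻¹
          = x ^ i * (d * y) * d⁻¹ * (x ^ i)⁻¹ * y⁻¹ := by group
        _ = x ^ i * (y * d) * d⁻¹ * (x ^ i)⁻¹ * y⁻¹ := by rw [← this]
        _ = x ^ i * (y * x ^ i * y⁻¹)⁻¹ := by group
    rw [h1, hconj, hcxu, (hxu.inv_right).mul_zpow, inv_zpow]
  -- y c y⁻¹ = c⁻¹
  have hyc : y * c * y⁻¹ = c⁻¹ := by
    have h1 : y * u * y⁻¹ = u⁻¹ * d₀ := by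
      rw [hu]
      have : y * (x⁻¹ * d₀) * y⁻¹ = (y * x * y⁻¹)⁻¹ * (y * d₀ * y⁻¹) := by group
      rw [this, hyx]
      have h2 : y * d₀ * y⁻¹ = d₀ := by
        rw [(hcen d₀ hd₀ y).eq]; group
      rw [h2]
    have h3 : y * c * y⁻¹ = (y * x * y⁻¹) * (y * u * y⁻¹)⁻¹ := by rw [hcxu]; group
    rw [h3, hyx, h1, hcxu]
    have h7 : d₀⁻¹ * u = x⁻¹ := by
      rw [hu, ← mul_assoc, ← (hcen d₀⁻¹ (Subgroup.inv_mem _ hd₀) x⁻¹).eq, mul_assoc,
        inv_mul_cancel, mul_one]
    calc u * (u⁻¹ * d₀)⁻¹ = u * (d₀⁻¹ * u) := by group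
      _ = u * x⁻¹ := by rw [h7]
      _ = (x * u⁻¹)⁻¹ := by group
  have P1 : ∀ g ∈ Subgroup.zpowers c, y * g * y⁻¹ ∈ Subgroup.zpowers c := by
    intro g hg
    obtain ⟨k, rfl⟩ := Subgroup.mem_zpowers_iff.mp hg
    rw [← conj_zpow, hyc]
    exact Subgroup.zpow_mem _ (Subgroup.inv_mem _ (Subgroup.mem_zpowers c)) k
  have P2' : ∀ i : ℤ, ∀ d ∈ Subgroup.center S, ⁅x ^ i * d, y⁆ ∈ Subgroup.zpowers c := by
    intro i d hd
    rw [P2 i d hd]
    exact Subgroup.zpow_mem _ (Subgroup.mem_zpowers c) i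
  have P3 : ∀ i j : ℤ, ∀ d ∈ Subgroup.center S, ∀ d' ∈ Subgroup.center S,
      ⁅x ^ i * d, x ^ j * d'⁆ = 1 := by
    intro i j d hd d' hd'
    rw [commutatorElement_eq_one_iff_commute]
    have h1 : Commute (x ^ i) (x ^ j) := (Commute.refl x).zpow_zpow i j
    exact (h1.mul_right (hcen d' hd' _)).mul_left
      (((hcen d hd (x ^ j)).symm).mul_right ((hcen d' hd' d)))
  -- case (2)
  have Q2 : ∀ i j : ℤ, ∀ d ∈ Subgroup.center S, ∀ d' ∈ Subgroup.center S,
      ⁅x ^ i * d, y * (x ^ j * d')⁆ ∈ Subgroup.zpowers c := by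
    intro i j d hd d' hd'
    rw [comm_mul_right', P3 i j d hd d' hd']
    have : y * 1 * y⁻¹ = (1 : S) := by group
    rw [this, mul_one]
    exact P2' i d hd
  rw [commutator_def, Subgroup.commutator_le]
  intro s _ t _
  rcases hform s with ⟨i, d, hd, rfl⟩ | ⟨i, d, hd, rfl⟩ <;>
  rcases hform t with ⟨j, d', hd', rfl⟩ | ⟨j, d', hd', rfl⟩
  · rw [P3 i j d hd d' hd']; exact one_mem _
  · exact Q2 i j d hd d' hd'
  · rw [← commutatorElement_inv]
    exact Subgroup.inv_mem _ (Q2 j i d' hd' d hd)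
  · rw [comm_mul_left']
    refine Subgroup.mul_mem _ (P1 _ (Q2 i j d hd d' hd')) ?_
    rw [comm_mul_right']
    have h1 : ⁅y, y⁆ = 1 := commutatorElement_self y
    rw [h1, one_mul]
    apply P1
    rw [← commutatorElement_inv]
    exact Subgroup.inv_mem _ (P2' j d' hd')

theorem quat_form (m : ℕ) [NeZero m] (q : QuaternionGroup m) :
    (∃ i : ℕ, q = (QuaternionGroup.a 1) ^ i) ∨
      (∃ i : ℕ, q = QuaternionGroup.xa 0 * (QuaternionGroup.a 1) ^ i) := by
  have : NeZero (2 * m) := ⟨by have := NeZero.ne m; omega⟩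
  cases q with
  | a j =>
    left
    refine ⟨j.val, ?_⟩
    rw [QuaternionGroup.a_one_pow, ZMod.natCast_zmod_val]
  | xa j =>
    right
    refine ⟨j.val, ?_⟩
    rw [QuaternionGroup.a_one_pow, ZMod.natCast_zmod_val, QuaternionGroup.xa_mul_a, zero_add]

theorem quat_rel (m : ℕ) :
    (QuaternionGroup.xa 0 : QuaternionGroup m) * QuaternionGroup.a 1 * (QuaternionGroup.xa 0)⁻¹
      = (QuaternionGroup.a 1)⁻¹ := by
  have h1 : (QuaternionGroup.a 1 : QuaternionGroup m)⁻¹ = QuaternionGroup.a (-1) := by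
    apply inv_eq_of_mul_eq_one_right
    rw [QuaternionGroup.a_mul_a, add_neg_cancel, QuaternionGroup.a_zero]
  rw [mul_inv_eq_iff_eq_mul, h1, QuaternionGroup.xa_mul_a, QuaternionGroup.a_mul_xa]
  congr 1
  ring

/-- Let S be a finite 2-group of 2-rank exactly 2 and D a maximal subgroup of the centre of S such that S/D is a non-abelian group with exactly one involution (a generalized quaternion group). Then S has a nontrivial cyclic characteristic subgroup. -/
theorem result {S : Type*} [Group S]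
    [Finite S] (hS : IsPGroup 2 S) (hr2 : Cfsg.PRankLE 2 2 S) (hr1 : ¬ Cfsg.PRankLE 2 1 S)
    (D : Subgroup ↥(Subgroup.center S)) (hD : IsCoatom D)
    (hq : ∃ (_ : (D.map (Subgroup.center S).subtype).Normal),
      ¬ IsMulCommutative (S ⧸ D.map (Subgroup.center S).subtype) ∧
      ∃! x : S ⧸ D.map (Subgroup.center S).subtype, orderOf x = 2) :
    ∃ C : Subgroup S, C ≠ ⊥ ∧ IsCyclic ↥C ∧ C.Characteristic := by
  classical
  obtain ⟨hN, hna, x₀, hx₀, hx₀u⟩ := hq
  haveI := hN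
  have hD'Z : D.map (Subgroup.center S).subtype ≤ Subgroup.center S := by
    rintro _ ⟨z, _, rfl⟩
    exact z.2
  have : Fact (Nat.Prime 2) := ⟨Nat.prime_two⟩
  have hQ2 : IsPGroup 2 (S ⧸ D.map (Subgroup.center S).subtype) := hS.to_quotient _
  have key : ∀ H : Subgroup (S ⧸ D.map (Subgroup.center S).subtype), Nat.card H = 2 →
      H = Subgroup.zpowers x₀ := by
    intro H hH
    obtain ⟨h, hh1, -⟩ := (Nat.card_eq_two_iff' (1 : H)).mp hH
    have ho : orderOf h = 2 := by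
      have h1 : orderOf h ∣ 2 := hH ▸ orderOf_dvd_natCard h
      have h2 : orderOf h ≠ 1 := fun h2 => hh1 (orderOf_eq_one_iff.mp h2)
      rcases (Nat.dvd_prime Nat.prime_two).mp h1 with h3 | h3
      · exact absurd h3 h2
      · exact h3
    have ho' : orderOf (h : S ⧸ D.map (Subgroup.center S).subtype) = 2 := by
      rw [Subgroup.orderOf_coe]; exact ho
    have hx : (h : S ⧸ D.map (Subgroup.center S).subtype) = x₀ := hx₀u _ ho'
    symm
    apply Subgroup.eq_of_le_of_card_ge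
    · rw [Subgroup.zpowers_le, ← hx]; exact h.2
    · rw [hH, Nat.card_zpowers, hx₀]
  have huniq : ∀ H K : Subgroup (S ⧸ D.map (Subgroup.center S).subtype),
      Nat.card H = 2 → Nat.card K = 2 → H = K := fun H K hH hK => (key H hH).trans (key K hK).symm
  rcases Cfsg.Agent.S0016.result 2 hQ2 huniq with hcyc | ⟨-, n, ⟨e⟩⟩
  · exfalso
    apply hna
    have := hcyc
    exact IsCyclic.commutative
  have hm : NeZero (2 ^ n) := ⟨by positivity⟩
  set q₀ := e.symm (QuaternionGroup.a 1) with hq₀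
  set y₀ := e.symm (QuaternionGroup.xa 0) with hy₀
  have hyq : y₀ * q₀ * y₀⁻¹ = q₀⁻¹ := by
    apply e.injective
    simp only [map_mul, map_inv, hq₀, hy₀, MulEquiv.apply_symm_apply]
    exact quat_rel _
  have hformQ : ∀ q : S ⧸ D.map (Subgroup.center S).subtype,
      (∃ i : ℕ, q = q₀ ^ i) ∨ (∃ i : ℕ, q = y₀ * q₀ ^ i) := by
    intro q
    rcases quat_form (2 ^ n) (e q) with ⟨i, hi⟩ | ⟨i, hi⟩
    · left
      refine ⟨i, ?_⟩
      apply e.injective
      simp only [map_pow, hq₀, MulEquiv.apply_symm_apply]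
      exact hi
    · right
      refine ⟨i, ?_⟩
      apply e.injective
      simp only [map_mul, map_pow, hq₀, hy₀, MulEquiv.apply_symm_apply]
      exact hi
  obtain ⟨x, hx⟩ := QuotientGroup.mk_surjective q₀
  obtain ⟨y, hy⟩ := QuotientGroup.mk_surjective y₀
  have hd₀ : x * (y * x * y⁻¹) ∈ D.map (Subgroup.center S).subtype := by
    rw [← QuotientGroup.eq_one_iff]
    simp only [QuotientGroup.mk_mul, QuotientGroup.mk_inv, hx, hy, hyq]
    exact mul_inv_cancel _
  have hcore := core x y (x * (y * x * y⁻¹)) (hD'Z hd₀) (by group) (by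
    intro s
    rcases hformQ (QuotientGroup.mk s) with ⟨i, hi⟩ | ⟨i, hi⟩
    · left
      refine ⟨(i : ℤ), (x ^ i)⁻¹ * s, hD'Z ?_, by rw [zpow_natCast]; group⟩
      rw [← QuotientGroup.eq, hi, QuotientGroup.mk_pow, hx]
    · right
      refine ⟨(i : ℤ), (y * x ^ i)⁻¹ * s, hD'Z ?_, by rw [zpow_natCast]; group⟩
      rw [← QuotientGroup.eq, hi, QuotientGroup.mk_mul, QuotientGroup.mk_pow, hx, hy])
  refine ⟨commutator S, ?_, ?_, ?_⟩
  · intro hbot
    apply hna
    refine ⟨⟨fun a b => ?_⟩⟩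
    induction a using QuotientGroup.induction_on with
    | H a =>
      induction b using QuotientGroup.induction_on with
      | H b =>
        have h1 : ⁅a, b⁆ ∈ commutator S := by
          rw [commutator_def]
          exact Subgroup.commutator_mem_commutator (Subgroup.mem_top a) (Subgroup.mem_top b)
        rw [hbot, Subgroup.mem_bot, commutatorElement_eq_one_iff_mul_comm] at h1
        rw [← QuotientGroup.mk_mul, ← QuotientGroup.mk_mul, h1]
  · exact Subgroup.isCyclic_of_le hcore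
  · infer_instance

end Cfsg.Agent.S3202
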