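import Mathlib
import Cfsg.Statements.S3203
import Cfsg.Agent.Lib.Helper5_Sylow

set_option autoImplicit false
open Cfsg

namespace Cfsg.Agent.S3203

open Cfsg.Agent.Lib.Helper5_Sylow
open Subgroup

variable {G : Type*} [Group G]

/-- conjugate of a subgroup -/
abbrev cj (g : G) (W : Subgroup G) : Subgroup G := W.map (MulAut.conj g).toMonoidHom

theorem cj_cj (a b : G) (W : Subgroup G) : cj a (cj b W) = cj (a * b) W := map_conj_mul a b W

theorem cj_one (W : Subgroup G) : cj 1 W = W := by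
  ext x
  simp [cj]

theorem cj_mono (g : G) {W W' : Subgroup G} (h : W ≤ W') : cj g W ≤ cj g W' := Subgroup.map_mono h

theorem cj_eq_of_mem_normalizer {g : G} {W : Subgroup G} [Finite G] (hg : g ∈ normalizer (W : Set G)) :
    cj g W = W := by
  apply Subgroup.eq_of_le_of_card_ge
  · rintro _ ⟨x, hx, rfl⟩
    simp only [MulEquiv.coe_toMonoidHom, MulAut.conj_apply]
    exact (mem_normalizer_iff.mp hg x).mp hx
  · rw [card_map_conj]

theorem le_cj_inv {g : G} {W W' : Subgroup G} (h : cj g W ≤ W') : W ≤ cj g⁻¹ W' := by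
  have := cj_mono g⁻¹ h
  rw [cj_cj, inv_mul_cancel, cj_one] at this
  exact this

/-- elementary abelian 2-subgroups, elementwise -/
def EA2 (E : Subgroup G) : Prop := (∀ x ∈ E, ∀ y ∈ E, x * y = y * x) ∧ ∀ x ∈ E, x ^ 2 = 1

theorem ea2_cj (g : G) {E : Subgroup G} (h : EA2 E) : EA2 (cj g E) := by
  constructor
  · rintro _ ⟨x, hx, rfl⟩ _ ⟨y, hy, rfl⟩
    simp only [MulEquiv.coe_toMonoidHom, MulAut.conj_apply]
    have := h.1 x hx y hy
    calc g * x * g⁻¹ * (g * y * g⁻¹) = g * (x * y) * g⁻¹ := by group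
      _ = g * (y * x) * g⁻¹ := by rw [this]
      _ = g * y * g⁻¹ * (g * x * g⁻¹) := by group
  · rintro _ ⟨x, hx, rfl⟩
    rw [← map_pow, h.2 x hx, map_one]

theorem ea2_le_normalizer {A E : Subgroup G} (hE : EA2 E) (hAE : A ≤ E) :
    E ≤ normalizer (A : Set G) := by
  intro e he
  rw [mem_normalizer_iff]
  intro a
  have key : ∀ a ∈ A, e * a * e⁻¹ = a := by
    intro a ha
    rw [hE.1 e he a (hAE ha), mul_inv_cancel_right]
  constructor
  · intro ha; rw [key a ha]; exact ha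
  · intro ha
    have h1 := key _ ha
    have h2 : e * a * e⁻¹ = a := by
      have h3 : e * (e * a * e⁻¹) * e⁻¹ = e * a * e⁻¹ := h1
      have h4 : e * a * e⁻¹ = e⁻¹ * (e * (e * a * e⁻¹) * e⁻¹) * e := by group
      rw [h4, h3]; group
    rw [← h2]; exact ha

section main

variable [Finite G] (S : Sylow 2 G) (A' B' : Subgroup G)

/-- the hypotheses in ambient form -/
structure Hyp : Prop where
  hAS : A' ≤ (S : Subgroup G)
  hBS : B' ≤ (S : Subgroup G)
  hA : EA2 A'
  hB : EA2 B'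
  honly : ∀ E : Subgroup G, E ≤ (S : Subgroup G) → EA2 E → E ≤ A' ∨ E ≤ B'
  hAB : ¬ A' ≤ B'
  hBA : ¬ B' ≤ A'
  hprod : ∀ s ∈ (S : Subgroup G), ∃ a ∈ A', ∃ b ∈ B', a * b = s

theorem Hyp.symm {S : Sylow 2 G} {A' B' : Subgroup G} (h : Hyp S A' B') : Hyp S B' A' where
  hAS := h.hBS
  hBS := h.hAS
  hA := h.hB
  hB := h.hA
  honly := fun E hE hEA => (h.honly E hE hEA).symm
  hAB := h.hBA
  hBA := h.hAB
  hprod := by
    intro s hs
    obtain ⟨a, ha, b, hb, hab⟩ := h.hprod s⁻¹ (Subgroup.inv_mem _ hs)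
    refine ⟨b⁻¹, B'.inv_mem hb, a⁻¹, A'.inv_mem ha, ?_⟩
    rw [← mul_inv_rev, hab, inv_inv]

variable {S A' B'}

theorem cj_le_S {g : G} (hg : g ∈ normalizer (((S : Subgroup G)) : Set G)) {E : Subgroup G}
    (hE : E ≤ (S : Subgroup G)) : cj g E ≤ (S : Subgroup G) := by
  have := cj_mono g hE
  rwa [cj_eq_of_mem_normalizer hg] at this

/-- (b) `S` normalizes `A'` -/
theorem S_le_normalizer (h : Hyp S A' B') : (S : Subgroup G) ≤ normalizer (A' : Set G) := by
  have hb : ∀ b ∈ B', cj b A' ≤ A' := by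
    intro b hb
    have hbS : b ∈ normalizer (((S : Subgroup G)) : Set G) := le_normalizer (h.hBS hb)
    rcases h.honly _ (cj_le_S hbS h.hAS) (ea2_cj b h.hA) with h1 | h1
    · exact h1
    · exfalso
      apply h.hAB
      have h2 := le_cj_inv h1
      have h3 : cj b⁻¹ B' = B' := cj_eq_of_mem_normalizer (le_normalizer (B'.inv_mem hb))
      rwa [h3] at h2
  intro s hs
  obtain ⟨a, ha, b, hb', rfl⟩ := h.hprod s hs
  apply mem_normalizer_of_map_eq
  apply Subgroup.eq_of_le_of_card_ge _ (by rw [card_map_conj])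
  have h1 : cj (a * b) A' = cj a (cj b A') := (cj_cj a b A').symm
  show cj (a * b) A' ≤ A'
  rw [h1]
  refine (cj_mono a (hb b hb')).trans ?_
  rw [cj_eq_of_mem_normalizer (le_normalizer ha)]


/-- a `2`-element normalizing a Sylow `2`-subgroup lies in it -/
theorem mem_sylow_of_pow_two {h : G} {k : ℕ} (hk : h ^ (2 ^ k) = 1)
    (hN : h ∈ normalizer (((S : Subgroup G)) : Set G)) : h ∈ (S : Subgroup G) := by
  have : Fact (Nat.Prime 2) := ⟨Nat.prime_two⟩
  have hP : IsPGroup 2 (zpowers h) := by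
    rintro ⟨x, hx⟩
    obtain ⟨n, rfl⟩ := mem_zpowers_iff.mp hx
    refine ⟨k, ?_⟩
    apply Subtype.ext
    show (h ^ n) ^ (2 ^ k) = 1
    rw [← zpow_natCast, ← zpow_mul, mul_comm, zpow_mul, zpow_natCast, hk, one_zpow]
  have h1 := hP.inf_normalizer_sylow S
  have h2 : h ∈ zpowers h ⊓ normalizer (S : Set G) :=
    mem_inf.mpr ⟨mem_zpowers h, hN⟩
  rw [h1] at h2
  exact (mem_inf.mp h2).2

theorem cj_eq_of_le (g : G) {W W' : Subgroup G} (h1 : cj g W ≤ W') (h2 : Nat.card W' ≤ Nat.card W) :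
    cj g W = W' :=
  Subgroup.eq_of_le_of_card_ge h1 (by rw [card_map_conj]; exact h2)

/-- (c) `N(S)` normalizes `A'` -/
theorem normalizer_S_le (h : Hyp S A' B') :
    normalizer (((S : Subgroup G)) : Set G) ≤ normalizer (A' : Set G) := by
  intro g hg
  rcases h.honly _ (cj_le_S hg h.hAS) (ea2_cj g h.hA) with h1 | h1
  · exact mem_normalizer_of_map_eq g A' (cj_eq_of_le g h1 le_rfl)
  exfalso
  -- `cj g A' ≤ B'`
  have h2 : cj g B' ≤ A' := by
    rcases h.honly _ (cj_le_S hg h.hBS) (ea2_cj g h.hB) with h2 | h2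
    · exact h2
    exfalso
    apply h.hAB
    -- `S ≤ B'`
    have hSB : cj g (S : Subgroup G) ≤ B' := by
      rintro _ ⟨s, hs, rfl⟩
      obtain ⟨a, ha, b, hb, rfl⟩ := h.hprod s hs
      rw [map_mul]
      exact B'.mul_mem (h1 ⟨a, ha, rfl⟩) (h2 ⟨b, hb, rfl⟩)
    rw [cj_eq_of_mem_normalizer hg] at hSB
    exact h.hAS.trans hSB
  have hc1 : Nat.card A' ≤ Nat.card B' := by
    rw [← card_map_conj g A']; exact Subgroup.card_le_of_le h1
  have hc2 : Nat.card B' ≤ Nat.card A' := by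
    rw [← card_map_conj g B']; exact Subgroup.card_le_of_le h2
  have e1 : cj g A' = B' := cj_eq_of_le g h1 hc2
  have e2 : cj g B' = A' := cj_eq_of_le g h2 hc1
  -- even powers fix, odd powers swap
  have even : ∀ j : ℕ, cj (g ^ (2 * j)) A' = A' ∧ cj (g ^ (2 * j)) B' = B' := by
    intro j
    induction j with
    | zero => simp [cj_one]
    | succ j ih =>
      have : g ^ (2 * (j + 1)) = g ^ (2 * j) * (g * g) := by
        rw [mul_add, pow_add, mul_one, pow_two]
      rw [this, ← cj_cj, ← cj_cj, ← cj_cj, ← cj_cj, e1, e2, e1]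
      exact ih
  obtain ⟨k, m, hm, hkm⟩ := Nat.exists_eq_two_pow_mul_odd (orderOf_pos g).ne'
  obtain ⟨j, rfl⟩ := hm
  have hpow : (g ^ (2 * j + 1)) ^ (2 ^ k) = 1 := by
    rw [← pow_mul, mul_comm, ← hkm, pow_orderOf_eq_one]
  have hmem : g ^ (2 * j + 1) ∈ (S : Subgroup G) :=
    mem_sylow_of_pow_two hpow (Subgroup.pow_mem _ hg _)
  have h3 : cj (g ^ (2 * j + 1)) A' = A' := cj_eq_of_mem_normalizer (S_le_normalizer h hmem)
  have h4 : cj (g ^ (2 * j + 1)) A' = B' := by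
    rw [pow_succ, ← cj_cj, e1]
    exact (even j).2
  apply h.hAB
  rw [← h4, h3]


omit [Finite G] in
theorem ea2_isPGroup {E : Subgroup G} (hE : EA2 E) : IsPGroup 2 E := by
  rintro ⟨x, hx⟩
  refine ⟨1, Subtype.ext ?_⟩
  simpa using hE.2 x hx

theorem exists_conj_le_S {K B : Subgroup G} (hSK : (S : Subgroup G) ≤ K) (hBK : B ≤ K)
    (hB : IsPGroup 2 B) : ∃ k ∈ K, cj k B ≤ (S : Subgroup G) := by
  have : Fact (Nat.Prime 2) := ⟨Nat.prime_two⟩
  obtain ⟨k, hk, R, hR, _, hSR, hBR⟩ := exists_conj_le_common_pgroup hSK hBK S.isPGroup' hB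
  have : R = (S : Subgroup G) := S.is_maximal' hR hSR
  exact ⟨k, hk, this ▸ hBR⟩

/-- (d) `A'` is weakly closed in `S` -/
theorem weaklyClosed (h : Hyp S A' B') : Cfsg.IsWeaklyClosed A' (S : Subgroup G) := by
  refine ⟨h.hAS, ?_⟩
  intro g hgS
  show cj g A' = A'
  rcases h.honly _ hgS (ea2_cj g h.hA) with h1 | h1
  · exact cj_eq_of_le g h1 le_rfl
  exfalso
  -- `cj g A' ≤ B'`
  have hB'' : A' ≤ cj g⁻¹ B' := le_cj_inv h1
  have hEA'' : EA2 (cj g⁻¹ B') := ea2_cj _ h.hB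
  have hN'' : cj g⁻¹ B' ≤ normalizer (A' : Set G) := ea2_le_normalizer hEA'' hB''
  obtain ⟨k, hk, hkS⟩ := exists_conj_le_S (S_le_normalizer h) hN'' (ea2_isPGroup hEA'')
  have hkA : cj k A' = A' := cj_eq_of_mem_normalizer hk
  have hle : A' ≤ cj k (cj g⁻¹ B') := by
    have := cj_mono k hB''
    rwa [hkA] at this
  have heq : cj k (cj g⁻¹ B') = A' := by
    rcases h.honly _ hkS (ea2_cj k hEA'') with h2 | h2
    · exact le_antisymm h2 hle
    · exact absurd (hle.trans h2) h.hAB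
  rw [cj_cj] at heq
  -- `cj (k * g⁻¹) B' = A'`
  set x := k * g⁻¹ with hx
  have hxS : cj x (S : Subgroup G) ≤ normalizer (A' : Set G) := by
    rintro _ ⟨s, hs, rfl⟩
    have hsB : cj s B' = B' := cj_eq_of_mem_normalizer (S_le_normalizer h.symm hs)
    apply mem_normalizer_of_map_eq
    show cj (x * s * x⁻¹) A' = A'
    rw [← cj_cj, ← cj_cj]
    have : cj x⁻¹ A' = B' := by
      rw [← heq, cj_cj, inv_mul_cancel, cj_one]
    rw [this, hsB, heq]
  obtain ⟨n, hn, hnS⟩ := exists_conj_le_S (S_le_normalizer h) hxS (S.isPGroup'.map _)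
  rw [cj_cj] at hnS
  have hnx : n * x ∈ normalizer (((S : Subgroup G)) : Set G) :=
    mem_normalizer_of_map_eq _ _ (cj_eq_of_le _ hnS le_rfl)
  have h5 : cj (n * x) B' = B' := cj_eq_of_mem_normalizer (normalizer_S_le h.symm hnx)
  rw [← cj_cj, heq, cj_eq_of_mem_normalizer hn] at h5
  apply h.hAB
  rw [h5]

end main


section translate

variable [Finite G] {S : Sylow 2 G}

theorem ea2_map {A : Subgroup ↥(S : Subgroup G)} (hA : Cfsg.IsElementaryAbelian 2 A) :
    EA2 (A.map (S : Subgroup G).subtype) := by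
  obtain ⟨hc, he⟩ := hA
  constructor
  · rintro _ ⟨x, hx, rfl⟩ _ ⟨y, hy, rfl⟩
    rw [← map_mul, ← map_mul]
    congr 1
    have := hc.is_comm.comm ⟨x, hx⟩ ⟨y, hy⟩
    exact congrArg Subtype.val this
  · rintro _ ⟨x, hx, rfl⟩
    rw [← map_pow, he x hx, map_one]

theorem ea_subgroupOf {E : Subgroup G} (hE : EA2 E) :
    Cfsg.IsElementaryAbelian 2 (E.subgroupOf (S : Subgroup G)) := by
  constructor
  · constructor
    constructor
    rintro ⟨x, hx⟩ ⟨y, hy⟩
    apply Subtype.ext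
    apply Subtype.ext
    exact hE.1 _ (mem_subgroupOf.mp hx) _ (mem_subgroupOf.mp hy)
  · intro a ha
    apply Subtype.ext
    exact hE.2 _ (mem_subgroupOf.mp ha)

theorem hyp_of
    (A B : Subgroup ↥(S : Subgroup G)) (hAB : A ≠ B)
    (hA : Cfsg.IsElementaryAbelian 2 A ∧ ∀ C : Subgroup ↥(S : Subgroup G), Cfsg.IsElementaryAbelian 2 C → A ≤ C → C = A)
    (hB : Cfsg.IsElementaryAbelian 2 B ∧ ∀ C : Subgroup ↥(S : Subgroup G), Cfsg.IsElementaryAbelian 2 C → B ≤ C → C = B)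
    (honly : ∀ C : Subgroup ↥(S : Subgroup G), Cfsg.IsElementaryAbelian 2 C →
      (∀ D : Subgroup ↥(S : Subgroup G), Cfsg.IsElementaryAbelian 2 D → C ≤ D → D = C) → C = A ∨ C = B)
    (hprod : ∀ s : ↥(S : Subgroup G), ∃ a ∈ A, ∃ b ∈ B, a * b = s) :
    Hyp S (A.map (S : Subgroup G).subtype) (B.map (S : Subgroup G).subtype) where
  hAS := Subgroup.map_subtype_le _
  hBS := Subgroup.map_subtype_le _
  hA := ea2_map hA.1
  hB := ea2_map hB.1
  honly := by
    intro E hES hE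
    have hE0 := ea_subgroupOf (S := S) hE
    obtain ⟨C, hEC, hC⟩ := Finite.exists_le_maximal (p := fun D : Subgroup ↥(S : Subgroup G) =>
      Cfsg.IsElementaryAbelian 2 D) hE0
    have hEC' : E ≤ C.map (S : Subgroup G).subtype := by
      intro x hx
      exact ⟨⟨x, hES hx⟩, hEC (mem_subgroupOf.mpr hx), rfl⟩
    have hCmax : ∀ D : Subgroup ↥(S : Subgroup G), Cfsg.IsElementaryAbelian 2 D → C ≤ D → D = C := by
      intro D hD hCD
      exact le_antisymm (hC.2 hD hCD) hCD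
    rcases honly C hC.1 hCmax with rfl | rfl
    · exact Or.inl hEC'
    · exact Or.inr hEC'
  hAB := by
    intro hle
    have : A ≤ B := (Subgroup.map_subtype_le_map_subtype).mp hle
    exact hAB (hA.2 B hB.1 this).symm
  hBA := by
    intro hle
    have : B ≤ A := (Subgroup.map_subtype_le_map_subtype).mp hle
    exact hAB (hB.2 A hA.1 this)
  hprod := by
    intro s hs
    obtain ⟨a, ha, b, hb, hab⟩ := hprod ⟨s, hs⟩
    exact ⟨a, ⟨a, ha, rfl⟩, b, ⟨b, hb, rfl⟩, congrArg Subtype.val hab⟩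

end translate

/-- Let S be a Sylow 2-subgroup of a finite group G having exactly two subgroups A ≠ B that are maximal among its elementary abelian subgroups, with S = AB. Then A and B are each weakly closed in S with respect to G, and the normalizer of S normalizes both A and B. -/
theorem result {G : Type*} [Group G] [Finite G] (S : Sylow 2 G)
    (A B : Subgroup ↥(S : Subgroup G)) (hAB : A ≠ B)
    (hA : Cfsg.IsElementaryAbelian 2 A ∧ ∀ C : Subgroup ↥(S : Subgroup G), Cfsg.IsElementaryAbelian 2 C → A ≤ C → C = A)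
    (hB : Cfsg.IsElementaryAbelian 2 B ∧ ∀ C : Subgroup ↥(S : Subgroup G), Cfsg.IsElementaryAbelian 2 C → B ≤ C → C = B)
    (honly : ∀ C : Subgroup ↥(S : Subgroup G), Cfsg.IsElementaryAbelian 2 C →
      (∀ D : Subgroup ↥(S : Subgroup G), Cfsg.IsElementaryAbelian 2 D → C ≤ D → D = C) → C = A ∨ C = B)
    (hprod : ∀ s : ↥(S : Subgroup G), ∃ a ∈ A, ∃ b ∈ B, a * b = s)
    (A' B' : Subgroup G) (hA' : A' = A.map (S : Subgroup G).subtype) (hB' : B' = B.map (S : Subgroup G).subtype) :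
    Cfsg.IsWeaklyClosed A' (S : Subgroup G) ∧ Cfsg.IsWeaklyClosed B' (S : Subgroup G) ∧
      Subgroup.normalizer ((S : Subgroup G) : Set G) ≤ Subgroup.normalizer (A' : Set G) ⊓ Subgroup.normalizer (B' : Set G) := by
  subst hA' hB'
  have h := hyp_of A B hAB hA hB honly hprod
  exact ⟨weaklyClosed h, weaklyClosed h.symm, le_inf (normalizer_S_le h) (normalizer_S_le h.symm)⟩

end Cfsg.Agent.S3203
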