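import Mathlib
import Cfsg.Statements.S3208
import Cfsg.Agent.Lib.Helper5_Sylow

set_option autoImplicit false
open Cfsg

namespace Cfsg.Agent.S3208

open Cfsg.Agent.Lib.Helper5_Sylow

/-- Let j be an involution of a finite group G, H a subgroup of G, and T a Sylow 2-subgroup of H ∩ C_G(j) containing j such that ⟨j⟩ is a characteristic subgroup of T. Then T is a Sylow 2-subgroup of H. -/
theorem result {G : Type*} [Group G] [Finite G]
    (j : G) (hj : orderOf j = 2) (H T : Subgroup G) (hT : T ≤ H ⊓ Subgroup.centralizer ({j} : Set G)) (h2 : IsPGroup 2 ↥T)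
    (hSyl : ¬ 2 ∣ T.relIndex (H ⊓ Subgroup.centralizer ({j} : Set G))) (hjT : j ∈ T)
    (hchar : ((Subgroup.zpowers j).subgroupOf T).Characteristic) :
    ¬ 2 ∣ T.relIndex H := by
  classical
  intro hdvd
  have : Fact (Nat.Prime 2) := ⟨Nat.prime_two⟩
  have hTH : T ≤ H := hT.trans inf_le_left
  have h1 := dvd_relIndex_inf_normalizer hTH h2 hdvd
  -- N_H(T) ≤ H ∩ C(j)
  have hN : H ⊓ Subgroup.normalizer (T : Set G) ≤ H ⊓ Subgroup.centralizer ({j} : Set G) := by
    rintro n ⟨hnH, hnN⟩
    refine ⟨hnH, ?_⟩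
    -- conjugation by n as an automorphism of T
    have hmap : T.map (MulAut.conj n).toMonoidHom = T := by
      ext x
      constructor
      · rintro ⟨y, hy, rfl⟩
        exact (Subgroup.mem_normalizer_iff.mp hnN y).mp hy
      · intro hx
        refine ⟨n⁻¹ * x * n, ?_, by simp [mul_assoc]⟩
        have := (Subgroup.mem_normalizer_iff.mp (Subgroup.inv_mem _ hnN) x).mp hx
        simpa using this
    let ϕ : T ≃* T := ((MulAut.conj n).subgroupMap T).trans (MulEquiv.subgroupCongr hmap)
    have hϕ : ∀ x : T, ((ϕ x : T) : G) = n * x * n⁻¹ := by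
      intro x; rfl
    have hfix := hchar.fixed ϕ
    have hj' : (⟨j, hjT⟩ : T) ∈ (Subgroup.zpowers j).subgroupOf T := by
      rw [Subgroup.mem_subgroupOf]
      exact Subgroup.mem_zpowers j
    rw [← hfix, Subgroup.mem_comap, Subgroup.mem_subgroupOf] at hj'
    have h3 : n * j * n⁻¹ ∈ Subgroup.zpowers j := by
      have := hϕ ⟨j, hjT⟩
      simp only [MulEquiv.coe_toMonoidHom] at hj'
      rw [this] at hj'
      exact hj'
    rw [mem_zpowers_iff_mem_range_orderOf, hj] at h3
    have h4 : n * j * n⁻¹ = 1 ∨ n * j * n⁻¹ = j := by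
      simp only [Finset.mem_image, Finset.mem_range] at h3
      obtain ⟨k, hk, hk2⟩ := h3
      interval_cases k
      · left; simpa using hk2.symm
      · right; simpa using hk2.symm
    have hj1 : j ≠ 1 := by
      intro h; rw [h, orderOf_one] at hj; omega
    rcases h4 with h4 | h4
    · exfalso
      apply hj1
      have : j = n⁻¹ * (n * j * n⁻¹) * n := by group
      rw [this, h4]; group
    · show n ∈ Subgroup.centralizer ({j} : Set G)
      rw [Subgroup.mem_centralizer_singleton_iff]
      have : n * j = (n * j * n⁻¹) * n := by group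
      rw [this, h4]
  have hTN : T ≤ H ⊓ Subgroup.normalizer (T : Set G) := le_inf hTH Subgroup.le_normalizer
  have := Subgroup.relIndex_mul_relIndex _ _ _ hTN hN
  apply hSyl
  rw [← this]
  exact Dvd.dvd.mul_right h1 _

end Cfsg.Agent.S3208
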