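import Cfsg.Statements.S3209
import Mathlib

set_option autoImplicit false
open Cfsg

namespace Cfsg.Agent.S3209

section SLfacts
variable {F : Type*} [Field F]


theorem entries_mul (A B : Matrix.SpecialLinearGroup (Fin 2) F) (i j : Fin 2) :
    (A * B).1 i j = A.1 i 0 * B.1 0 j + A.1 i 1 * B.1 1 j := by
  change ((A.1 * B.1) i j) = _
  rw [Matrix.mul_apply, Fin.sum_univ_two]

theorem det_eq (A : Matrix.SpecialLinearGroup (Fin 2) F) :
    A.1 0 0 * A.1 1 1 - A.1 0 1 * A.1 1 0 = 1 := by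
  have := A.2
  rwa [Matrix.det_fin_two] at this

theorem ext2 (A B : Matrix.SpecialLinearGroup (Fin 2) F) (h00 : A.1 0 0 = B.1 0 0)
    (h01 : A.1 0 1 = B.1 0 1) (h10 : A.1 1 0 = B.1 1 0) (h11 : A.1 1 1 = B.1 1 1) : A = B := by
  apply Subtype.ext
  ext i j
  fin_cases i <;> fin_cases j <;> assumption

theorem sq_eq_one (h2 : (2 : F) ≠ 0) (A : Matrix.SpecialLinearGroup (Fin 2) F) (h : A * A = 1) :
    A = 1 ∨ A = -1 := by
  have e00 := entries_mul A A 0 0
  have e01 := entries_mul A A 0 1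
  have e10 := entries_mul A A 1 0
  have e11 := entries_mul A A 1 1
  rw [h] at e00 e01 e10 e11
  have hd := det_eq A
  have o00 : (1 : Matrix.SpecialLinearGroup (Fin 2) F).1 0 0 = 1 := by simp
  have o01 : (1 : Matrix.SpecialLinearGroup (Fin 2) F).1 0 1 = 0 := by simp
  have o10 : (1 : Matrix.SpecialLinearGroup (Fin 2) F).1 1 0 = 0 := by simp
  have o11 : (1 : Matrix.SpecialLinearGroup (Fin 2) F).1 1 1 = 1 := by simp
  rw [o00] at e00; rw [o01] at e01; rw [o10] at e10; rw [o11] at e11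
  set a := A.1 0 0
  set b := A.1 0 1
  set c := A.1 1 0
  set d := A.1 1 1
  have hs : a + d ≠ 0 := by
    intro hs
    have hd' : d = -a := by linear_combination hs
    rw [hd'] at hd
    apply h2
    linear_combination e00 - hd
  have hb : b = 0 := by
    have : b * (a + d) = 0 := by linear_combination -e01
    rcases mul_eq_zero.mp this with h | h
    · exact h
    · exact absurd h hs
  have hc : c = 0 := by
    have : c * (a + d) = 0 := by linear_combination -e10
    rcases mul_eq_zero.mp this with h | h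
    · exact h
    · exact absurd h hs
  rw [hb, hc] at hd e00 e11
  have had : a = d := by
    have : a * (a - d) = 0 := by linear_combination -e00 - hd
    have ha : a ≠ 0 := by
      rintro ha
      rw [ha] at e00; simp at e00
    rcases mul_eq_zero.mp this with h | h
    · exact absurd h ha
    · linear_combination h
  have ha2 : (a - 1) * (a + 1) = 0 := by linear_combination -e00
  rcases mul_eq_zero.mp ha2 with h | h
  · left
    have ha1 : a = 1 := by linear_combination h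
    apply ext2
    · rw [o00]; exact ha1
    · rw [o01]; exact hb
    · rw [o10]; exact hc
    · rw [o11]; exact (had ▸ ha1 : d = 1)
  · right
    have ha1 : a = -1 := by linear_combination h
    apply ext2
    · simp; exact ha1
    · simp; exact hb
    · simp; exact hc
    · simp; exact (had ▸ ha1 : d = -1)


theorem trace_zero (A : Matrix.SpecialLinearGroup (Fin 2) F) (h : A * A = -1) :
    A.1 1 1 = - A.1 0 0 := by
  have e00 := entries_mul A A 0 0
  have e01 := entries_mul A A 0 1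
  have e10 := entries_mul A A 1 0
  have e11 := entries_mul A A 1 1
  rw [h] at e00 e01 e10 e11
  have hd := det_eq A
  have o00 : (-1 : Matrix.SpecialLinearGroup (Fin 2) F).1 0 0 = -1 := by simp
  have o01 : (-1 : Matrix.SpecialLinearGroup (Fin 2) F).1 0 1 = 0 := by simp
  have o10 : (-1 : Matrix.SpecialLinearGroup (Fin 2) F).1 1 0 = 0 := by simp
  have o11 : (-1 : Matrix.SpecialLinearGroup (Fin 2) F).1 1 1 = -1 := by simp
  rw [o00] at e00; rw [o01] at e01; rw [o10] at e10; rw [o11] at e11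
  set a := A.1 0 0
  set b := A.1 0 1
  set c := A.1 1 0
  set d := A.1 1 1
  by_contra hne
  have hs : a + d ≠ 0 := by
    intro hs
    apply hne
    linear_combination hs
  have hb : b = 0 := by
    have : b * (a + d) = 0 := by linear_combination -e01
    rcases mul_eq_zero.mp this with h | h
    · exact h
    · exact absurd h hs
  have hc : c = 0 := by
    have : c * (a + d) = 0 := by linear_combination -e10
    rcases mul_eq_zero.mp this with h | h
    · exact h
    · exact absurd h hs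
  rw [hb, hc] at hd e00 e11
  have : a * (a + d) = 0 := by linear_combination -e00 + hd
  rcases mul_eq_zero.mp this with h | h
  · rw [h] at e00; simp at e00
  · exact hs h

theorem mk_entries (p q r t : F) (h : p * t - q * r = 1) :
    ∃ g : Matrix.SpecialLinearGroup (Fin 2) F, g.1 0 0 = p ∧ g.1 0 1 = q ∧ g.1 1 0 = r ∧ g.1 1 1 = t := by
  refine ⟨⟨!![p, q; r, t], ?_⟩, ?_, ?_, ?_, ?_⟩
  · rw [Matrix.det_fin_two]; simpa using h
  all_goals simp

theorem exists_J : ∃ J : Matrix.SpecialLinearGroup (Fin 2) F,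
    J.1 0 0 = 0 ∧ J.1 0 1 = -1 ∧ J.1 1 0 = 1 ∧ J.1 1 1 = 0 := mk_entries 0 (-1) 1 0 (by ring)

noncomputable def J : Matrix.SpecialLinearGroup (Fin 2) F := (exists_J (F := F)).choose

theorem J00 : (J : Matrix.SpecialLinearGroup (Fin 2) F).1 0 0 = 0 := (exists_J (F := F)).choose_spec.1
theorem J01 : (J : Matrix.SpecialLinearGroup (Fin 2) F).1 0 1 = -1 := (exists_J (F := F)).choose_spec.2.1
theorem J10 : (J : Matrix.SpecialLinearGroup (Fin 2) F).1 1 0 = 1 := (exists_J (F := F)).choose_spec.2.2.1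
theorem J11 : (J : Matrix.SpecialLinearGroup (Fin 2) F).1 1 1 = 0 := (exists_J (F := F)).choose_spec.2.2.2

theorem neg_one_entries : (-1 : Matrix.SpecialLinearGroup (Fin 2) F).1 0 0 = -1 ∧
    (-1 : Matrix.SpecialLinearGroup (Fin 2) F).1 0 1 = 0 ∧
    (-1 : Matrix.SpecialLinearGroup (Fin 2) F).1 1 0 = 0 ∧
    (-1 : Matrix.SpecialLinearGroup (Fin 2) F).1 1 1 = -1 := by
  refine ⟨?_, ?_, ?_, ?_⟩ <;> simp

theorem J_sq : (J : Matrix.SpecialLinearGroup (Fin 2) F) * J = -1 := by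
  obtain ⟨n00, n01, n10, n11⟩ := neg_one_entries (F := F)
  apply ext2
  · rw [entries_mul, J00, J01, J10, n00]; ring
  · rw [entries_mul, J00, J01, J11, n01]; ring
  · rw [entries_mul, J00, J10, J11, n10]; ring
  · rw [entries_mul, J01, J10, J11, n11]; ring

theorem conjJ_of_rep (A : Matrix.SpecialLinearGroup (Fin 2) F) (h : A * A = -1)
    (p q : F) (hpq : 2 * A.1 0 0 * p * q - A.1 0 1 * p ^ 2 + A.1 1 0 * q ^ 2 = 1) :
    ∃ g : Matrix.SpecialLinearGroup (Fin 2) F, g * A = J * g := by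
  have ht := trace_zero A h
  have hd := det_eq A
  rw [ht] at hd
  obtain ⟨g, g00, g01, g10, g11⟩ := mk_entries p q (-(p * A.1 0 0 + q * A.1 1 0))
    (q * A.1 0 0 - p * A.1 0 1) (by linear_combination hpq)
  refine ⟨g, ?_⟩
  apply ext2
  · rw [entries_mul, entries_mul, J00, J01, g00, g01, g10]; ring
  · rw [entries_mul, entries_mul, J00, J01, g00, g01, g11, ht]; ring
  · rw [entries_mul, entries_mul, J10, J11, g00, g10, g11]; linear_combination p * hd
  · rw [entries_mul, entries_mul, J10, J11, g01, g10, g11, ht]; linear_combination q * hd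


variable [Fintype F]



theorem two_ne_zero_of_odd (hF : Odd (Fintype.card F)) : (2 : F) ≠ 0 := by
  intro h
  have h2 : ringChar F = 2 := CharP.ringChar_of_prime_eq_zero Nat.prime_two h
  have := FiniteField.even_card_of_char_two h2
  rcases hF with ⟨k, hk⟩
  omega

theorem two_sq (hF : Odd (Fintype.card F)) (x : F) : ∃ u v : F, u ^ 2 + v ^ 2 = x := by
  classical
  let f : Polynomial F := Polynomial.X ^ 2
  let g : Polynomial F := Polynomial.X ^ 2 - Polynomial.C x
  obtain ⟨a, b, hab⟩ : ∃ a b, f.eval a + g.eval b = 0 :=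
    @FiniteField.exists_root_sum_quadratic _ _ _ _ f g (Polynomial.degree_X_pow 2)
      (Polynomial.degree_X_pow_sub_C (by decide) _)
      (by rcases hF with ⟨k, hk⟩; omega)
  refine ⟨a, b, ?_⟩
  rw [← sub_eq_zero]
  simpa only [f, g, Polynomial.eval_C, Polynomial.eval_X, Polynomial.eval_pow, Polynomial.eval_sub,
    ← add_sub_assoc] using hab

theorem form_rep (hF : Odd (Fintype.card F)) (a b c : F) (h : -a ^ 2 - b * c = 1) :
    ∃ p q : F, 2 * a * p * q - b * p ^ 2 + c * q ^ 2 = 1 := by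
  have h2 := two_ne_zero_of_odd hF
  by_cases hc : c = 0
  · by_cases hb : b = 0
    · subst hc hb
      have ha : a ≠ 0 := by
        rintro rfl
        simp at h
      refine ⟨1, 1 / (2 * a), ?_⟩
      field_simp
      ring
    · obtain ⟨X, Y, hXY⟩ := two_sq hF (-b)
      refine ⟨(X + a * Y) / b, Y, ?_⟩
      have : -b * (2 * a * ((X + a * Y) / b) * Y - b * ((X + a * Y) / b) ^ 2 + c * Y ^ 2) = -b := by
        have e1 : -b * (2 * a * ((X + a * Y) / b) * Y - b * ((X + a * Y) / b) ^ 2 + c * Y ^ 2)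
            = X ^ 2 + Y ^ 2 * (-a ^ 2 - b * c) := by
          field_simp
          ring
        rw [e1, h, mul_one, hXY]
      have hnb : -b ≠ 0 := neg_ne_zero.mpr hb
      exact mul_left_cancel₀ hnb (by rw [this, mul_one])
  · obtain ⟨X, Y, hXY⟩ := two_sq hF c
    refine ⟨Y, (X - a * Y) / c, ?_⟩
    have : c * (2 * a * Y * ((X - a * Y) / c) - b * Y ^ 2 + c * ((X - a * Y) / c) ^ 2) = c := by
      have e1 : c * (2 * a * Y * ((X - a * Y) / c) - b * Y ^ 2 + c * ((X - a * Y) / c) ^ 2)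
          = X ^ 2 + Y ^ 2 * (-a ^ 2 - b * c) := by
        field_simp
        ring
      rw [e1, h, mul_one, hXY]
    exact mul_left_cancel₀ hc (by rw [this, mul_one])


theorem conj_sl2 (hF : Odd (Fintype.card F)) (A B : Matrix.SpecialLinearGroup (Fin 2) F)
    (hA : A * A = -1) (hB : B * B = -1) : ∃ g : Matrix.SpecialLinearGroup (Fin 2) F, g * A * g⁻¹ = B := by
  have aux : ∀ A : Matrix.SpecialLinearGroup (Fin 2) F, A * A = -1 →
      ∃ g : Matrix.SpecialLinearGroup (Fin 2) F, g * A = J * g := by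
    intro A hA
    have ht := trace_zero A hA
    have hd := det_eq A
    rw [ht] at hd
    obtain ⟨p, q, hpq⟩ := form_rep hF (A.1 0 0) (A.1 0 1) (A.1 1 0) (by linear_combination hd)
    exact conjJ_of_rep A hA p q hpq
  obtain ⟨g, hg⟩ := aux A hA
  obtain ⟨k, hk⟩ := aux B hB
  refine ⟨k⁻¹ * g, ?_⟩
  have h1 : g * A * g⁻¹ = J := by rw [hg]; group
  have h2 : k⁻¹ * J * k = B := by rw [mul_assoc, ← hk]; group
  calc k⁻¹ * g * A * (k⁻¹ * g)⁻¹ = k⁻¹ * (g * A * g⁻¹) * k := by group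
    _ = B := by rw [h1, h2]

end SLfacts

theorem key {G : Type*} [Group G] {F : Type*} [Field F] [Fintype F] (hF : Odd (Fintype.card F))
    (L : Subgroup G) (e : ↥L ≃* Matrix.SpecialLinearGroup (Fin 2) F) (j : G) (hjL : j ∈ L)
    (hj : orderOf j = 2) :
    (∀ y ∈ L, y * y = 1 → y = 1 ∨ y = j) ∧ (∃ x ∈ L, x * x = j) ∧
    (∀ x ∈ L, ∀ y ∈ L, x * x = j → y * y = j → ∃ g ∈ L, g * x * g⁻¹ = y) := by
  have h2 := two_ne_zero_of_odd hF
  have hjj : j * j = 1 := by rw [← sq, ← hj, pow_orderOf_eq_one]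
  have hj1 : j ≠ 1 := by rintro rfl; simp at hj
  have hej : e ⟨j, hjL⟩ = -1 := by
    have h1 : (⟨j, hjL⟩ : L) * ⟨j, hjL⟩ = 1 := Subtype.ext hjj
    have h2' : e ⟨j, hjL⟩ * e ⟨j, hjL⟩ = 1 := by rw [← map_mul, h1, map_one]
    rcases sq_eq_one h2 _ h2' with h | h
    · exfalso
      have := e.injective (h.trans (map_one e).symm)
      exact hj1 (congrArg Subtype.val this)
    · exact h
  refine ⟨?_, ?_, ?_⟩
  · intro y hy hyy
    have h1 : (⟨y, hy⟩ : L) * ⟨y, hy⟩ = 1 := Subtype.ext hyy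
    have : e ⟨y, hy⟩ * e ⟨y, hy⟩ = 1 := by rw [← map_mul, h1, map_one]
    rcases sq_eq_one h2 _ this with h | h
    · left
      have := e.injective (h.trans (map_one e).symm)
      exact congrArg Subtype.val this
    · right
      have := e.injective (h.trans hej.symm)
      exact congrArg Subtype.val this
  · refine ⟨(e.symm J : G), (e.symm J).2, ?_⟩
    have : e.symm J * e.symm J = ⟨j, hjL⟩ := by
      apply e.injective
      rw [map_mul, e.apply_symm_apply, J_sq, hej]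
    exact congrArg Subtype.val this
  · intro x hx y hy hxx hyy
    have hx' : e ⟨x, hx⟩ * e ⟨x, hx⟩ = -1 := by
      rw [← map_mul, ← hej]; congr 1; exact Subtype.ext hxx
    have hy' : e ⟨y, hy⟩ * e ⟨y, hy⟩ = -1 := by
      rw [← map_mul, ← hej]; congr 1; exact Subtype.ext hyy
    obtain ⟨g, hg⟩ := conj_sl2 hF _ _ hx' hy'
    refine ⟨(e.symm g : G), (e.symm g).2, ?_⟩
    have : e.symm g * ⟨x, hx⟩ * (e.symm g)⁻¹ = ⟨y, hy⟩ := by
      apply e.injective
      rw [map_mul, map_mul, map_inv, e.apply_symm_apply, hg]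
    exact congrArg Subtype.val this

/-- Let L₁ ≅ SL₂(q₁) and L₂ ≅ SL₂(q₂), q₁ and q₂ odd, be elementwise-commuting subgroups of a finite group meeting in ⟨j⟩ for an involution j. Then L₁L₂ has exactly two conjugacy classes of involutions: the central involution j, and one further class (there is an involution x ≠ j in L₁L₂, and every involution of L₁L₂ other than j is conjugate to x by an element of L₁L₂). -/
theorem result {G : Type*} [Group G] [Finite G]
    {F₁ : Type*} [Field F₁] [Fintype F₁] {F₂ : Type*} [Field F₂] [Fintype F₂]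
    (hF₁ : Odd (Fintype.card F₁)) (hF₂ : Odd (Fintype.card F₂)) (L₁ L₂ : Subgroup G)
    (e₁ : ↥L₁ ≃* Matrix.SpecialLinearGroup (Fin 2) F₁) (e₂ : ↥L₂ ≃* Matrix.SpecialLinearGroup (Fin 2) F₂)
    (hc : ∀ x ∈ L₁, ∀ y ∈ L₂, x * y = y * x) (j : G) (hj : orderOf j = 2) (hm : L₁ ⊓ L₂ = Subgroup.zpowers j) :
    ∃ x ∈ L₁ ⊔ L₂, orderOf x = 2 ∧ x ≠ j ∧
      ∀ y ∈ L₁ ⊔ L₂, orderOf y = 2 → y = j ∨ ∃ g ∈ L₁ ⊔ L₂, g * x * g⁻¹ = y := by
  have hjL : j ∈ L₁ ⊓ L₂ := by rw [hm]; exact Subgroup.mem_zpowers j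
  obtain ⟨k1a, ⟨x₁, hx₁L, hx₁⟩, k1c⟩ := key hF₁ L₁ e₁ j hjL.1 hj
  obtain ⟨k2a, ⟨x₂, hx₂L, hx₂⟩, k2c⟩ := key hF₂ L₂ e₂ j hjL.2 hj
  have hjj : j * j = 1 := by rw [← sq, ← hj, pow_orderOf_eq_one]
  have hj1 : j ≠ 1 := by rintro rfl; simp at hj
  have hz : ∀ z ∈ Subgroup.zpowers j, z = 1 ∨ z = j := by
    rintro _ ⟨k, rfl⟩
    rcases Int.even_or_odd k with ⟨m, rfl⟩ | ⟨m, rfl⟩
    · left
      simp only
      rw [← two_mul, zpow_mul, zpow_two, hjj, one_zpow]
    · right
      simp only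
      rw [zpow_add, zpow_mul, zpow_two, hjj, one_zpow, one_mul, zpow_one]
  have hprod : ∀ z ∈ L₁ ⊔ L₂, ∃ a ∈ L₁, ∃ b ∈ L₂, z = a * b := by
    intro z hz
    rw [Subgroup.sup_eq_closure] at hz
    induction hz using Subgroup.closure_induction with
    | mem z hz =>
      rcases hz with hz | hz
      · exact ⟨z, hz, 1, one_mem _, (mul_one z).symm⟩
      · exact ⟨1, one_mem _, z, hz, (one_mul z).symm⟩
    | one => exact ⟨1, one_mem _, 1, one_mem _, (mul_one 1).symm⟩
    | mul u v _ _ hu hv =>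
      obtain ⟨a, ha, b, hb, rfl⟩ := hu
      obtain ⟨a', ha', b', hb', rfl⟩ := hv
      refine ⟨a * a', mul_mem ha ha', b * b', mul_mem hb hb', ?_⟩
      have c1 : b * a' = a' * b := (hc a' ha' b hb).symm
      calc a * b * (a' * b') = a * (b * a') * b' := by group
        _ = a * (a' * b) * b' := by rw [c1]
        _ = a * a' * (b * b') := by group
    | inv u _ hu =>
      obtain ⟨a, ha, b, hb, rfl⟩ := hu
      refine ⟨a⁻¹, inv_mem ha, b⁻¹, inv_mem hb, ?_⟩
      have c1 : a⁻¹ * b⁻¹ = b⁻¹ * a⁻¹ := hc _ (inv_mem ha) _ (inv_mem hb)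
      rw [mul_inv_rev, c1]
  have hx₁not : x₁ ∉ L₂ := by
    intro h
    have : x₁ ∈ Subgroup.zpowers j := by rw [← hm]; exact ⟨hx₁L, h⟩
    rcases hz _ this with h1 | h1
    · rw [h1, one_mul] at hx₁; exact hj1 hx₁.symm
    · rw [h1, hjj] at hx₁; exact hj1 hx₁.symm
  refine ⟨x₁ * x₂, mul_mem (Subgroup.mem_sup_left hx₁L) (Subgroup.mem_sup_right hx₂L), ?_, ?_, ?_⟩
  · apply orderOf_eq_prime
    · have c1 : x₂ * x₁ = x₁ * x₂ := (hc x₁ hx₁L x₂ hx₂L).symm
      calc (x₁ * x₂) ^ 2 = x₁ * (x₂ * x₁) * x₂ := by rw [pow_two]; group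
        _ = x₁ * (x₁ * x₂) * x₂ := by rw [c1]
        _ = (x₁ * x₁) * (x₂ * x₂) := by group
        _ = 1 := by rw [hx₁, hx₂, hjj]
    · intro h
      apply hx₁not
      have : x₁ = x₂⁻¹ := eq_inv_of_mul_eq_one_left h
      rw [this]; exact inv_mem hx₂L
  · intro h
    apply hx₁not
    have : x₁ = j * x₂⁻¹ := by rw [← h]; group
    rw [this]; exact mul_mem hjL.2 (inv_mem hx₂L)
  · intro y hy hy2
    obtain ⟨a, ha, b, hb, rfl⟩ := hprod y hy
    have hyy : (a * b) * (a * b) = 1 := by rw [← sq, ← hy2, pow_orderOf_eq_one]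
    have h1 : (a * a) * (b * b) = 1 := by
      have c1 : b * a = a * b := (hc a ha b hb).symm
      calc (a * a) * (b * b) = a * (a * b) * b := by group
        _ = a * (b * a) * b := by rw [c1]
        _ = (a * b) * (a * b) := by group
        _ = 1 := hyy
    have haa : a * a ∈ L₁ ⊓ L₂ := by
      refine Subgroup.mem_inf.mpr ⟨mul_mem ha ha, ?_⟩
      have : a * a = (b * b)⁻¹ := eq_inv_of_mul_eq_one_left h1
      rw [this]; exact inv_mem (mul_mem hb hb)
    rw [hm] at haa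
    rcases hz _ haa with haa | haa
    · have hbb : b * b = 1 := by rw [haa, one_mul] at h1; exact h1
      left
      rcases k1a a ha haa with rfl | rfl <;> rcases k2a b hb hbb with rfl | rfl
      · exfalso; simp at hy2
      · simp
      · simp
      · exfalso; rw [hjj] at hy2; simp at hy2
    · have hbb : b * b = j := by
        rw [haa] at h1
        have : b * b = j⁻¹ := eq_inv_of_mul_eq_one_right h1
        rw [this]
        exact inv_eq_of_mul_eq_one_left hjj
      right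
      obtain ⟨g₁, hg₁L, hg₁⟩ := k1c x₁ hx₁L a ha hx₁ haa
      obtain ⟨g₂, hg₂L, hg₂⟩ := k2c x₂ hx₂L b hb hx₂ hbb
      refine ⟨g₁ * g₂, mul_mem (Subgroup.mem_sup_left hg₁L) (Subgroup.mem_sup_right hg₂L), ?_⟩
      rw [← hg₁, ← hg₂]
      have c1 : g₂ * x₁ = x₁ * g₂ := (hc x₁ hx₁L g₂ hg₂L).symm
      have c2 : (g₂ * x₂ * g₂⁻¹) * g₁⁻¹ = g₁⁻¹ * (g₂ * x₂ * g₂⁻¹) :=
        (hc g₁⁻¹ (inv_mem hg₁L) _ (mul_mem (mul_mem hg₂L hx₂L) (inv_mem hg₂L))).symm
      calc (g₁ * g₂) * (x₁ * x₂) * (g₁ * g₂)⁻¹ = g₁ * (g₂ * x₁) * x₂ * g₂⁻¹ * g₁⁻¹ := by group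
        _ = g₁ * (x₁ * g₂) * x₂ * g₂⁻¹ * g₁⁻¹ := by rw [c1]
        _ = g₁ * x₁ * ((g₂ * x₂ * g₂⁻¹) * g₁⁻¹) := by group
        _ = g₁ * x₁ * (g₁⁻¹ * (g₂ * x₂ * g₂⁻¹)) := by rw [c2]
        _ = (g₁ * x₁ * g₁⁻¹) * (g₂ * x₂ * g₂⁻¹) := by group

end Cfsg.Agent.S3209
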