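import Mathlib
import Cfsg.Statements.S3215
import Cfsg.Agent.S0044
import Cfsg.Agent.Lib.Lead_Fitting
import Cfsg.Agent.Lib.Helper7_PCore
import Cfsg.Agent.Lib.Helper7_Fpf3
import Cfsg.Agent.Lib.Helper7_NPC
import Cfsg.Agent.Lib.Helper5_AxB
import Cfsg.Agent.Lib.Helper4_PIrred2
import Cfsg.Agent.Lib.Helper2_Hall

set_option autoImplicit false
open Cfsg

namespace Cfsg.Agent.S3215

open Subgroup Cfsg.Agent.Lib.Helper7_PCore Cfsg.Agent.Lib.Helper7_NPC
open scoped commutatorElement

/-- for odd `p`, `O_p(H) ≤ O(H)` -/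
theorem pCore_le_oddCore {H : Type*} [Group H] [Finite H] (p : ℕ) [hp : Fact p.Prime]
    (hp2 : p ≠ 2) : pCore p H ≤ oddCore H := by
  apply le_sSup
  refine ⟨Cfsg.Agent.Lib.Helper7_PCore.pCore_normal p, ?_⟩
  obtain ⟨n, hn⟩ := IsPGroup.iff_card.mp (pCore_isPGroup (G := H) p)
  rw [hn]
  exact Nat.Coprime.pow_left n ((Nat.coprime_primes hp.out Nat.prime_two).mpr hp2)

/-- with `O(H) = 1`, the Fitting subgroup is `O_2(H)` -/
theorem fitting_eq_pCore_two {H : Type*} [Group H] [Finite H] (hO : oddCore H = ⊥) :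
    fittingSubgroup H = pCore 2 H := by
  haveI : Fact (Nat.Prime 2) := ⟨Nat.prime_two⟩
  rw [Cfsg.Agent.Lib.Lead_Fitting.fitting_eq]
  apply le_antisymm
  · apply iSup_le
    intro p
    haveI : Fact (p : ℕ).Prime := ⟨p.2⟩
    by_cases h2 : (p : ℕ) = 2
    · rw [h2]
    · have := pCore_le_oddCore (H := H) (p : ℕ) h2
      rw [hO] at this
      exact this.trans bot_le
  · exact Cfsg.Agent.Lib.Lead_Fitting.pCore_le_F0 2

theorem centralizer_pCore_two_le {H : Type*} [Group H] [Finite H] (hsol : Group.IsSolvable H)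
    (hO : oddCore H = ⊥) : centralizer (pCore 2 H : Set H) ≤ pCore 2 H := by
  have := Cfsg.Agent.S0044.result (G := H)
  rwa [fitting_eq_pCore_two hO] at this

/-- a nontrivial `2`-element has an involution among its powers -/
theorem exists_involution_pow {G : Type*} [Group G] (u : G) (k : ℕ) (hu : orderOf u = 2 ^ k)
    (hu1 : u ≠ 1) : ∃ m : ℕ, orderOf (u ^ m) = 2 := by
  rcases k with _ | j
  · rw [pow_zero, orderOf_eq_one_iff] at hu
    exact absurd hu hu1
  · refine ⟨2 ^ j, ?_⟩
    rw [orderOf_pow_of_dvd (by positivity) ⟨2, by rw [hu, pow_succ]⟩, hu, pow_succ,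
      Nat.mul_div_cancel_left _ (by positivity)]

/-- Key step: an element of odd order commuting with an involution is trivial. -/
theorem eq_one_of_comm_involution {H : Type*} [Group H] [Finite H] (hsol : Group.IsSolvable H)
    (hO : oddCore H = ⊥)
    (hI : ∀ t : H, orderOf t = 2 →
      HasNormalPComplement 2 ↥(centralizer ({t} : Set H)))
    (x t : H) (hx : Odd (orderOf x)) (ht : orderOf t = 2) (hxt : x * t = t * x) : x = 1 := by
  haveI : Fact (Nat.Prime 2) := ⟨Nat.prime_two⟩
  set Y := pCore 2 H with hY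
  haveI hYn : Y.Normal := Cfsg.Agent.Lib.Helper7_PCore.pCore_normal 2
  have hY2 : IsPGroup 2 Y := pCore_isPGroup 2
  set C := centralizer ({t} : Set H) with hC
  have hxC : x ∈ C := mem_centralizer_singleton_iff.mpr hxt
  have hF : FrobHyp 2 C := frobHyp_of_npc (hasNormalPComplement_iff_npc.mp (hI t ht))
  have hcop : (orderOf x).Coprime 2 := Nat.Coprime.symm (Nat.coprime_two_left.mpr hx)
  have hQ : IsPGroup 2 (Y.subgroupOf C) := hY2.comap_subtype
  have hxn : (⟨x, hxC⟩ : C) ∈ normalizer ((Y.subgroupOf C : Subgroup C) : Set C) := by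
    haveI : (Y.subgroupOf C).Normal := inferInstance
    rw [normalizer_eq_top]; trivial
  have hxc := hF (Y.subgroupOf C) hQ ⟨x, hxC⟩ hxn (by rw [Subgroup.orderOf_mk]; exact hcop)
  -- x commutes with C_Y(t)
  have hcomm : ∀ y ∈ Y, y * t = t * y → y * x = x * y := by
    intro y hy hyt
    have hyC : y ∈ C := mem_centralizer_singleton_iff.mpr hyt
    have := mem_centralizer_iff.mp hxc ⟨y, hyC⟩ (by rw [SetLike.mem_coe, mem_subgroupOf]; exact hy)
    exact congrArg Subtype.val this
  -- Thompson A × B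
  have hA : ∀ a ∈ zpowers x, (orderOf a).Coprime 2 := by
    intro a ha
    exact Nat.Coprime.coprime_dvd_left (orderOf_dvd_of_mem_zpowers ha) hcop
  have hB : IsPGroup 2 (zpowers t) := by
    apply IsPGroup.of_card (n := 1)
    rw [Nat.card_zpowers, ht, pow_one]
  have hAB : zpowers x ≤ centralizer ((zpowers t : Subgroup H) : Set H) := by
    rw [zpowers_le, mem_centralizer_iff]
    intro b hb
    obtain ⟨j, rfl⟩ := mem_zpowers_iff.mp hb
    exact ((show Commute t x from hxt.symm).zpow_left j).eq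
  have hth := Cfsg.Agent.Lib.Helper5_AxB.thompson_AxB (p := 2) (zpowers x) (zpowers t) hA hB hAB Y
    hY2 (by rw [normalizer_eq_top]; exact le_top) (by rw [normalizer_eq_top]; exact le_top)
    (by
      intro y hy
      obtain ⟨hyY, hyB⟩ := mem_inf.mp hy
      have hyt : y * t = t * y := ((mem_centralizer_iff.mp hyB) t (mem_zpowers t)).symm
      have hyx := hcomm y hyY hyt
      rw [mem_centralizer_iff]
      intro a ha
      obtain ⟨j, rfl⟩ := mem_zpowers_iff.mp ha
      exact ((show Commute x y from hyx.symm).zpow_left j).eq)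
  have hxY : x ∈ Y := by
    apply centralizer_pCore_two_le hsol hO
    rw [mem_centralizer_iff]
    intro y hy
    have := mem_centralizer_iff.mp (hth hy) x (mem_zpowers x)
    exact this.symm
  obtain ⟨k, hk⟩ := (IsPGroup.iff_orderOf.mp hY2) ⟨x, hxY⟩
  rw [Subgroup.orderOf_mk] at hk
  rw [hk] at hx
  rcases k with _ | j
  · rwa [pow_zero, orderOf_eq_one_iff] at hk
  · exfalso
    rw [pow_succ] at hx
    exact (Nat.not_even_iff_odd.mpr hx) (even_two.mul_left _)

theorem odd_orderOf_of_mem {H : Type*} [Group H] [Finite H] (X : Subgroup H)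
    (hX : Odd (Nat.card X)) {x : H} (hx : x ∈ X) : Odd (orderOf x) :=
  hX.of_dvd_nat (Subgroup.orderOf_dvd_natCard X hx)

/-- Part (i): no nontrivial element of odd order commutes with a nontrivial element of `O_2`. -/
theorem part_one {H : Type*} [Group H] [Finite H] (hsol : Group.IsSolvable H)
    (hO : oddCore H = ⊥)
    (hI : ∀ t : H, orderOf t = 2 →
      HasNormalPComplement 2 ↥(centralizer ({t} : Set H)))
    (x : H) (hx : Odd (orderOf x)) (hx1 : x ≠ 1) (y : H) (hy : y ∈ pCore 2 H) (hy1 : y ≠ 1) :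
    x * y ≠ y * x := by
  haveI : Fact (Nat.Prime 2) := ⟨Nat.prime_two⟩
  intro hxy
  obtain ⟨k, hk⟩ := (IsPGroup.iff_orderOf.mp (pCore_isPGroup (G := H) 2)) ⟨y, hy⟩
  rw [Subgroup.orderOf_mk] at hk
  obtain ⟨m, hm⟩ := exists_involution_pow y k hk hy1
  exact hx1 (eq_one_of_comm_involution hsol hO hI x (y ^ m) hx hm
    ((show Commute x y from hxy).pow_right m).eq)

theorem subsingleton_of_pCore_eq_bot {H : Type*} [Group H] [Finite H] (hsol : Group.IsSolvable H)
    (hO : oddCore H = ⊥) (hYb : pCore 2 H = ⊥) : Subsingleton H := by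
  have hsub : ∀ h : H, h = 1 := by
    intro h
    have h1 : h ∈ centralizer ((pCore 2 H : Subgroup H) : Set H) := by
      rw [hYb, mem_centralizer_iff]
      intro y hy
      have : y = 1 := hy
      rw [this, one_mul, mul_one]
    have := centralizer_pCore_two_le hsol hO h1
    rwa [hYb, mem_bot] at this
  exact ⟨fun a b => by rw [hsub a, hsub b]⟩

open Cfsg.Agent.Lib.Helper7_Fpf Cfsg.Agent.Lib.Helper7_Fpf2 Cfsg.Agent.Lib.Helper7_Fpf3 in
/-- Part (ii): `p`-subgroups of a subgroup of odd order are cyclic. -/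
theorem part_two {H : Type*} [Group H] [Finite H] (hsol : Group.IsSolvable H)
    (hO : oddCore H = ⊥)
    (hI : ∀ t : H, orderOf t = 2 →
      HasNormalPComplement 2 ↥(centralizer ({t} : Set H)))
    (X : Subgroup H) (hXodd : Odd (Nat.card X)) (p : ℕ) [Fact p.Prime] (P : Subgroup X)
    (hP : IsPGroup p P) : IsCyclic P := by
  haveI : Fact (Nat.Prime 2) := ⟨Nat.prime_two⟩
  by_cases hYb : pCore 2 H = ⊥
  · haveI := subsingleton_of_pCore_eq_bot hsol hO hYb
    haveI : Subsingleton P := ⟨fun a b => Subtype.ext (Subtype.ext (Subsingleton.elim _ _))⟩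
    exact isCyclic_of_subsingleton
  · haveI : Nontrivial (pCore 2 H) := (nontrivial_iff_ne_bot _).mpr hYb
    haveI hYn : (pCore 2 H).Normal := Cfsg.Agent.Lib.Helper7_PCore.pCore_normal 2
    have hXY : X ≤ normalizer ((pCore 2 H : Subgroup H) : Set H) := by
      rw [normalizer_eq_top]; exact le_top
    letI : MulDistribMulAction X (pCore 2 H) :=
      Cfsg.Agent.Lib.Helper6_ConjAct.conjNormalizer X (pCore 2 H) hXY
    have hf : Fpf X (pCore 2 H) := fpf_of_internal X (pCore 2 H) hXY (by
      intro h hh hh1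
      rw [eq_bot_iff]
      intro y hy
      obtain ⟨hyY, hyc⟩ := mem_inf.mp hy
      rw [mem_bot]
      by_contra hy1
      have : y * h = h * y := mem_centralizer_singleton_iff.mp hyc
      exact part_one hsol hO hI h (odd_orderOf_of_mem X hXodd hh) hh1 y hyY hy1 this.symm)
    rcases pgroup_cyclic_or hf p P hP with h | ⟨-, a, b, hc1, hc2⟩
    · exact h
    · exfalso
      apply hc1
      rw [← orderOf_eq_one_iff]
      have h1 : orderOf (a * b * a⁻¹ * b⁻¹) ∣ 2 := orderOf_dvd_of_pow_eq_one hc2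
      have h2 : orderOf (a * b * a⁻¹ * b⁻¹) ∣ Nat.card X := orderOf_dvd_natCard _
      have hcop : Nat.Coprime 2 (Nat.card X) := Nat.coprime_two_left.mpr hXodd
      exact Nat.eq_one_of_dvd_coprimes hcop h1 h2

/-- `O_p(G / O_p(G)) = 1` -/
theorem pCore_quotient_pCore {G : Type*} [Group G] [Finite G] (p : ℕ) [Fact p.Prime]
    [hn : (pCore p G).Normal] : pCore p (G ⧸ pCore p G) = ⊥ := by
  have h := Cfsg.Agent.Lib.Helper4_PIrred2.comap_pCore_quotient (pCore p G)
    (pCore_isPGroup (G := G) p)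
  have h2 := Subgroup.map_comap_eq_self_of_surjective (QuotientGroup.mk'_surjective (pCore p G))
    (pCore p (G ⧸ pCore p G))
  rw [h] at h2
  rw [← h2]
  exact QuotientGroup.map_mk'_self _

/-- a normal subgroup of odd order lies in every Hall `2'`-subgroup -/
theorem normal_odd_le_hall {G : Type*} [Group G] [Finite G] (N X : Subgroup G) [N.Normal]
    (hN : Odd (Nat.card N)) (hX : Odd (Nat.card X)) (k : ℕ) (hk : X.index ∣ 2 ^ k) : N ≤ X := by
  have h1 := Cfsg.Agent.Lib.Helper2_Hall.card_sup_dvd_mul N X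
  have hodd : Odd (Nat.card (N ⊔ X : Subgroup G)) := (hN.mul hX).of_dvd_nat h1
  have hle : X ≤ N ⊔ X := le_sup_right
  have h2 : X.relIndex (N ⊔ X) ∣ 2 ^ k :=
    (Dvd.intro _ (Subgroup.relIndex_mul_index hle)).trans hk
  have h3 : X.relIndex (N ⊔ X) ∣ Nat.card (N ⊔ X : Subgroup G) := by
    have := Subgroup.relIndex_mul_relIndex ⊥ X (N ⊔ X) bot_le hle
    rw [Subgroup.relIndex_bot_left, Subgroup.relIndex_bot_left] at this
    exact Dvd.intro_left _ this
  have hcop : Nat.Coprime (2 ^ k) (Nat.card (N ⊔ X : Subgroup G)) :=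
    Nat.Coprime.pow_left k (Nat.coprime_two_left.mpr hodd)
  have h4 : X.relIndex (N ⊔ X) = 1 := Nat.eq_one_of_dvd_coprimes hcop h2 h3
  exact le_sup_left.trans (Subgroup.relIndex_eq_one.mp h4)

/-- the commutator subgroup centralizes every cyclic normal subgroup -/
theorem commutator_le_centralizer_of_cyclic {G : Type*} [Group G] (N : Subgroup G) [hn : N.Normal]
    [hN : IsCyclic N] : commutator G ≤ centralizer (N : Set G) := by
  have hcomm : ∀ σ τ : MulAut N, σ * τ = τ * σ := by
    intro σ τ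
    apply (hN.mulAutMulEquiv N).injective
    rw [map_mul, map_mul, mul_comm]
  rw [commutator_eq_closure, closure_le]
  rintro c ⟨g, h, rfl⟩
  rw [SetLike.mem_coe, mem_centralizer_iff]
  intro n hn'
  have h1 : (MulAut.conjNormal ⁅g, h⁆ : MulAut N) = 1 := by
    rw [commutatorElement_def, map_mul, map_mul, map_mul, map_inv, map_inv,
      hcomm (MulAut.conjNormal g) (MulAut.conjNormal h)]
    group
  have h2 := congrArg (fun σ : MulAut N => ((σ ⟨n, hn'⟩ : N) : G)) h1
  simp only [MulAut.conjNormal_apply, MulAut.one_apply] at h2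
  calc n * ⁅g, h⁆ = (⁅g, h⁆ * n * ⁅g, h⁆⁻¹) * ⁅g, h⁆ := by rw [h2]
    _ = ⁅g, h⁆ * n := by group

theorem normal_of_commutator_le {G : Type*} [Group G] (K : Subgroup G) (h : commutator G ≤ K) :
    K.Normal := by
  constructor
  intro n hn g
  have : g * n * g⁻¹ = ⁅g, n⁆ * n := by rw [commutatorElement_def]; group
  rw [this]
  refine K.mul_mem (h ?_) hn
  rw [commutator_def]
  exact commutator_mem_commutator (mem_top g) (mem_top n)

/-- Structure of `H / O_2(H)`: its Fitting subgroup is cyclic, lies in the image of `X`, and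
contains the commutator subgroup. -/
theorem quotient_structure {H : Type*} [Group H] [Finite H] (hsol : Group.IsSolvable H)
    (hO : oddCore H = ⊥)
    (hI : ∀ t : H, orderOf t = 2 →
      HasNormalPComplement 2 ↥(centralizer ({t} : Set H)))
    (X : Subgroup H) (hXodd : Odd (Nat.card X)) (k : ℕ) (hXidx : X.index = 2 ^ k)
    [hYn : (pCore 2 H).Normal] :
    IsCyclic (fittingSubgroup (H ⧸ pCore 2 H)) ∧
      fittingSubgroup (H ⧸ pCore 2 H) ≤ X.map (QuotientGroup.mk' (pCore 2 H)) ∧
      commutator (H ⧸ pCore 2 H) ≤ fittingSubgroup (H ⧸ pCore 2 H) := by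
  haveI : Fact (Nat.Prime 2) := ⟨Nat.prime_two⟩
  haveI := hsol
  set π := QuotientGroup.mk' (pCore 2 H) with hπ
  have hπs : Function.Surjective π := QuotientGroup.mk'_surjective _
  have hXbodd : Odd (Nat.card (X.map π)) :=
    hXodd.of_dvd_nat (Subgroup.card_dvd_of_surjective (π.subgroupMap X) (π.subgroupMap_surjective X))
  have hXbidx : (X.map π).index ∣ 2 ^ k := by
    rw [← hXidx]; exact Subgroup.index_map_dvd X hπs
  have hFeq := Cfsg.Agent.Lib.Lead_Fitting.fitting_eq (H ⧸ pCore 2 H)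
  have hFle : fittingSubgroup (H ⧸ pCore 2 H) ≤ X.map π := by
    rw [hFeq]
    apply iSup_le
    intro p
    haveI hpf : Fact (p : ℕ).Prime := ⟨p.2⟩
    by_cases h2 : (p : ℕ) = 2
    · rw [h2, pCore_quotient_pCore]; exact bot_le
    · haveI : (pCore (p : ℕ) (H ⧸ pCore 2 H)).Normal :=
        Cfsg.Agent.Lib.Helper7_PCore.pCore_normal _
      apply normal_odd_le_hall _ _ _ hXbodd k hXbidx
      obtain ⟨n, hn⟩ := IsPGroup.iff_card.mp (pCore_isPGroup (G := H ⧸ pCore 2 H) (p : ℕ))
      rw [hn]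
      exact (p.2.odd_of_ne_two h2).pow
  haveI hZX : IsZGroup X := ⟨fun p hp P => by
    haveI : Fact p.Prime := ⟨hp⟩
    exact part_two hsol hO hI X hXodd p (P : Subgroup X) P.isPGroup'⟩
  haveI hZXb : IsZGroup (X.map π) :=
    IsZGroup.of_surjective (f := π.subgroupMap X) (π.subgroupMap_surjective X)
  haveI hZF : IsZGroup (fittingSubgroup (H ⧸ pCore 2 H)) :=
    IsZGroup.of_injective (f := Subgroup.inclusion hFle) (Subgroup.inclusion_injective hFle)
  haveI hnil : Group.IsNilpotent (fittingSubgroup (H ⧸ pCore 2 H)) := by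
    rw [hFeq]; exact Cfsg.Agent.Lib.Lead_Fitting.F0_nilpotent _
  haveI hcyc : IsCyclic (fittingSubgroup (H ⧸ pCore 2 H)) := inferInstance
  haveI hFn : (fittingSubgroup (H ⧸ pCore 2 H)).Normal := Cfsg.Agent.S0044.fitting_normal
  refine ⟨hcyc, hFle, ?_⟩
  exact (commutator_le_centralizer_of_cyclic _).trans (Cfsg.Agent.S0044.result (G := H ⧸ pCore 2 H))

/-- Part (iii): `X O_2(H)` is normal. -/
theorem part_three {H : Type*} [Group H] [Finite H] (hsol : Group.IsSolvable H)
    (hO : oddCore H = ⊥)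
    (hI : ∀ t : H, orderOf t = 2 →
      HasNormalPComplement 2 ↥(centralizer ({t} : Set H)))
    (X : Subgroup H) (hXodd : Odd (Nat.card X)) (k : ℕ) (hXidx : X.index = 2 ^ k) :
    (X ⊔ pCore 2 H).Normal := by
  haveI hYn : (pCore 2 H).Normal := Cfsg.Agent.Lib.Helper7_PCore.pCore_normal 2
  obtain ⟨-, hFle, hcomm⟩ := quotient_structure hsol hO hI X hXodd k hXidx
  haveI hXbn : (X.map (QuotientGroup.mk' (pCore 2 H))).Normal :=
    normal_of_commutator_le _ (hcomm.trans hFle)
  have h1 : ((X.map (QuotientGroup.mk' (pCore 2 H))).comap (QuotientGroup.mk' (pCore 2 H))).Normal :=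
    inferInstance
  rwa [Subgroup.comap_map_eq, QuotientGroup.ker_mk'] at h1

/-- an element commuting with a nontrivial element of odd order has odd order -/
theorem odd_orderOf_of_comm {H : Type*} [Group H] [Finite H] (hsol : Group.IsSolvable H)
    (hO : oddCore H = ⊥)
    (hI : ∀ t : H, orderOf t = 2 →
      HasNormalPComplement 2 ↥(centralizer ({t} : Set H)))
    (x : H) (hx : Odd (orderOf x)) (hx1 : x ≠ 1) (n : H) (hn : n * x = x * n) :
    Odd (orderOf n) := by
  by_contra hodd
  rw [Nat.not_odd_iff_even] at hodd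
  obtain ⟨m, hm⟩ := hodd
  have hpos : 0 < orderOf n := orderOf_pos n
  have hm0 : m ≠ 0 := by rintro rfl; omega
  have ht : orderOf (n ^ m) = 2 := by
    rw [orderOf_pow_of_dvd hm0 ⟨2, by rw [hm]; ring⟩, hm]
    rw [← two_mul, Nat.mul_div_cancel _ (Nat.pos_of_ne_zero hm0)]
  exact hx1 (eq_one_of_comm_involution hsol hO hI x (n ^ m) hx ht
    ((show Commute n x from hn).pow_left m).eq.symm)

/-- Part (iv): the quotient by `X O_2(H)` is cyclic. -/
theorem part_four {H : Type*} [Group H] [Finite H] (hsol : Group.IsSolvable H)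
    (hO : oddCore H = ⊥)
    (hI : ∀ t : H, orderOf t = 2 →
      HasNormalPComplement 2 ↥(centralizer ({t} : Set H)))
    (X : Subgroup H) (hXodd : Odd (Nat.card X)) (k : ℕ) (hXidx : X.index = 2 ^ k)
    [hN : (X ⊔ pCore 2 H).Normal] : IsCyclic (H ⧸ (X ⊔ pCore 2 H)) := by
  classical
  haveI : Fact (Nat.Prime 2) := ⟨Nat.prime_two⟩
  haveI := hsol
  haveI hYn : (pCore 2 H).Normal := Cfsg.Agent.Lib.Helper7_PCore.pCore_normal 2
  obtain ⟨hcyc, hFle, hcomm⟩ := quotient_structure hsol hO hI X hXodd k hXidx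
  set π := QuotientGroup.mk' (pCore 2 H) with hπ
  have hFeq := Cfsg.Agent.Lib.Lead_Fitting.fitting_eq (H ⧸ pCore 2 H)
  -- index of XY
  obtain ⟨j, hj⟩ : ∃ j, (X ⊔ pCore 2 H).index = 2 ^ j := by
    have h1 : (X ⊔ pCore 2 H).index ∣ 2 ^ k := by
      rw [← hXidx]; exact Subgroup.index_dvd_of_le le_sup_left
    obtain ⟨j, -, hj⟩ := (Nat.dvd_prime_pow Nat.prime_two).mp h1
    exact ⟨j, hj⟩
  by_cases hFb : fittingSubgroup (H ⧸ pCore 2 H) = ⊥
  · -- the quotient by O_2 is trivial
    have h1 : ∀ q : H ⧸ pCore 2 H, q = 1 := by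
      intro q
      have h2 : q ∈ centralizer ((fittingSubgroup (H ⧸ pCore 2 H) : Subgroup _) : Set _) := by
        rw [hFb, mem_centralizer_iff]
        intro y hy
        have : y = 1 := hy
        rw [this, one_mul, mul_one]
      have := Cfsg.Agent.S0044.result (G := H ⧸ pCore 2 H) h2
      rwa [hFb, mem_bot] at this
    haveI : Subsingleton (H ⧸ (X ⊔ pCore 2 H)) := by
      refine ⟨fun a b => ?_⟩
      induction a using QuotientGroup.induction_on with
      | H a =>
        induction b using QuotientGroup.induction_on with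
        | H b =>
          rw [QuotientGroup.eq]
          apply (le_sup_right : pCore 2 H ≤ X ⊔ pCore 2 H)
          rw [← QuotientGroup.eq_one_iff]
          exact h1 _
    exact isCyclic_of_subsingleton
  · -- an odd prime p with O_p(H/Y) ≠ 1
    obtain ⟨p, hp⟩ : ∃ p : Nat.Primes, pCore (p : ℕ) (H ⧸ pCore 2 H) ≠ ⊥ := by
      by_contra hall
      push Not at hall
      apply hFb
      rw [hFeq, eq_bot_iff]
      apply iSup_le
      intro p
      rw [hall p]
    haveI hpf : Fact (p : ℕ).Prime := ⟨p.2⟩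
    have hp2 : (p : ℕ) ≠ 2 := by
      intro h2
      apply hp
      rw [h2]; exact pCore_quotient_pCore 2
    have hpodd : Odd (p : ℕ) := p.2.odd_of_ne_two hp2
    set Pb := pCore (p : ℕ) (H ⧸ pCore 2 H) with hPb
    haveI hPbn : Pb.Normal := Cfsg.Agent.Lib.Helper7_PCore.pCore_normal _
    have hPbp : IsPGroup (p : ℕ) Pb := pCore_isPGroup _
    set M := Pb.comap π with hM
    haveI hMn : M.Normal := inferInstance
    have hMle : M ≤ X ⊔ pCore 2 H := by
      have h1 : Pb ≤ X.map π := (Cfsg.Agent.Lib.Lead_Fitting.pCore_le_F0 (p : ℕ)).trans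
        (by rw [← hFeq]; exact hFle)
      have h2 : M ≤ (X.map π).comap π := Subgroup.comap_mono h1
      rwa [Subgroup.comap_map_eq, QuotientGroup.ker_mk'] at h2
    -- p divides |M|
    have hpM : (p : ℕ) ∣ Nat.card M := by
      have h1 : Nat.card Pb ∣ Nat.card M := by
        have hsurj : Function.Surjective (π.subgroupComap Pb) :=
          π.subgroupComap_surjective_of_surjective Pb (QuotientGroup.mk'_surjective _)
        exact Subgroup.card_dvd_of_surjective _ hsurj
      have h2 : (p : ℕ) ∣ Nat.card Pb := by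
        obtain ⟨n, hn⟩ := IsPGroup.iff_card.mp hPbp
        rcases n with _ | n
        · exfalso
          apply hp
          rw [pow_zero] at hn
          exact (Subgroup.card_eq_one).mp hn
        · rw [hn, pow_succ]; exact Dvd.intro_left _ rfl
      exact h2.trans h1
    obtain ⟨S⟩ : Nonempty (Sylow (p : ℕ) M) := inferInstance
    set P₀ := (S : Subgroup M).map M.subtype with hP₀
    have hP₀p : IsPGroup (p : ℕ) P₀ := S.isPGroup'.map _
    have hP₀ne : P₀ ≠ ⊥ := by
      intro h
      have h1 : (S : Subgroup M) = ⊥ := by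
        rw [hP₀] at h
        exact (Subgroup.map_eq_bot_iff_of_injective _ M.subtype_injective).mp h
      exact S.ne_bot_of_dvd_card hpM h1
    have hP₀odd : Odd (Nat.card P₀) := by
      obtain ⟨n, hn⟩ := IsPGroup.iff_card.mp hP₀p
      rw [hn]; exact hpodd.pow
    obtain ⟨x, hxP, hx1⟩ : ∃ x ∈ P₀, x ≠ 1 := by
      by_contra hcon
      push Not at hcon
      apply hP₀ne
      rw [eq_bot_iff]
      intro y hy
      rw [mem_bot]; exact hcon y hy
    have hxodd : Odd (orderOf x) := odd_orderOf_of_mem P₀ hP₀odd hxP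
    -- Frattini
    have hfrat : normalizer (P₀ : Set H) ⊔ M = ⊤ := Sylow.normalizer_sup_eq_top S
    set N := normalizer (P₀ : Set H) with hNdef
    -- P₀ is cyclic, so its automorphism group is cyclic
    haveI hP₀c : IsCyclic P₀ := by
      have h1 := part_two hsol hO hI P₀ hP₀odd (p : ℕ) (⊤ : Subgroup P₀)
        (by
          intro g
          obtain ⟨n, hn⟩ := hP₀p (g : P₀)
          exact ⟨n, Subtype.ext hn⟩)
      exact (Subgroup.topEquiv (G := P₀)).isCyclic.mp h1
    haveI hAutc : IsCyclic (MulAut P₀) := by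
      obtain ⟨n, hn⟩ := IsPGroup.iff_card.mp hP₀p
      have h1 : IsCyclic (ZMod (Nat.card P₀))ˣ := by
        rw [hn]; exact ZMod.isCyclic_units_of_prime_pow (p : ℕ) p.2 hp2 n
      exact (IsCyclic.mulAutMulEquiv P₀).isCyclic.mpr h1
    -- the two homomorphisms from N
    set φ : N →* MulAut P₀ := P₀.normalizerMonoidHom with hφ
    set ψ : N →* H ⧸ (X ⊔ pCore 2 H) := (QuotientGroup.mk' (X ⊔ pCore 2 H)).comp N.subtype with hψ
    have hker : φ.ker ≤ ψ.ker := by
      intro n hn
      rw [hφ, Subgroup.normalizerMonoidHom_ker, mem_subgroupOf] at hn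
      have hnx : (n : H) * x = x * (n : H) := ((mem_centralizer_iff.mp hn) x hxP).symm
      have hnodd := odd_orderOf_of_comm hsol hO hI x hxodd hx1 (n : H) hnx
      rw [MonoidHom.mem_ker, hψ, MonoidHom.comp_apply, QuotientGroup.mk'_apply,
        QuotientGroup.eq_one_iff]
      exact mem_of_index_pow (p := 2) (X ⊔ pCore 2 H) hj (n : H)
        (Nat.Coprime.symm (Nat.coprime_two_left.mpr hnodd))
    have hψs : Function.Surjective ψ := by
      intro q
      induction q using QuotientGroup.induction_on with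
      | H h =>
        have hh : h ∈ ((N ⊔ M : Subgroup H) : Set H) := by rw [hfrat]; trivial
        rw [Subgroup.mul_normal] at hh
        obtain ⟨n, hn, m, hm, rfl⟩ := Set.mem_mul.mp hh
        refine ⟨⟨n, hn⟩, ?_⟩
        rw [hψ, MonoidHom.comp_apply, QuotientGroup.mk'_apply, QuotientGroup.eq]
        simpa using hMle hm
    haveI hQc : IsCyclic (N ⧸ φ.ker) :=
      (QuotientGroup.quotientKerEquivRange φ).isCyclic.mpr inferInstance
    have hls : Function.Surjective (QuotientGroup.lift φ.ker ψ hker) := by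
      intro q
      obtain ⟨n, rfl⟩ := hψs q
      exact ⟨(n : N ⧸ φ.ker), QuotientGroup.lift_mk _ _ _⟩
    exact isCyclic_of_surjective _ hls

/-- Let H be a finite solvable group with no nontrivial normal subgroup of odd order in which the centralizer of every involution has a normal 2-complement. Let X be a Hall 2'-subgroup of H (odd order, index a power of 2) and Y = O₂(H). Then no non-identity element of X commutes with a non-identity element of Y (so for X ≠ 1 the group XY is a Frobenius group with kernel Y), every Sylow subgroup of X is cyclic, XY is normal in H, and H/XY is a cyclic 2-group. -/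
theorem result {H : Type*} [Group H] [Finite H] (hsol : Group.IsSolvable H)
    (hO : Cfsg.oddCore H = ⊥)
    (hI : ∀ t : H, orderOf t = 2 → Cfsg.HasNormalPComplement 2 ↥(Subgroup.centralizer ({t} : Set H)))
    (X : Subgroup H) (hXodd : Odd (Nat.card X)) (hXidx : ∃ k : ℕ, X.index = 2 ^ k) :
    (∀ x ∈ X, x ≠ 1 → ∀ y ∈ Cfsg.pCore 2 H, y ≠ 1 → x * y ≠ y * x) ∧
      (∀ (p : ℕ) [Fact p.Prime] (P : Sylow p ↥X), IsCyclic ↥(P : Subgroup ↥X)) ∧
      (X ⊔ Cfsg.pCore 2 H).Normal ∧
      ∀ hN : (X ⊔ Cfsg.pCore 2 H).Normal, IsCyclic (H ⧸ (X ⊔ Cfsg.pCore 2 H)) ∧ IsPGroup 2 (H ⧸ (X ⊔ Cfsg.pCore 2 H)) := by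
  haveI : Fact (Nat.Prime 2) := ⟨Nat.prime_two⟩
  obtain ⟨k, hk⟩ := hXidx
  refine ⟨?_, ?_, part_three hsol hO hI X hXodd k hk, ?_⟩
  · intro x hx hx1 y hy hy1
    exact part_one hsol hO hI x (odd_orderOf_of_mem X hXodd hx) hx1 y hy hy1
  · intro p _ P
    exact part_two hsol hO hI X hXodd p (P : Subgroup X) P.isPGroup'
  · intro hN
    refine ⟨part_four hsol hO hI X hXodd k hk, ?_⟩
    have h1 : (X ⊔ pCore 2 H).index ∣ 2 ^ k := by
      rw [← hk]; exact Subgroup.index_dvd_of_le le_sup_left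
    obtain ⟨j, -, hj⟩ := (Nat.dvd_prime_pow Nat.prime_two).mp h1
    apply IsPGroup.of_card (n := j)
    rw [← Subgroup.index_eq_card]; exact hj

end Cfsg.Agent.S3215
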