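import Cfsg.Statements.S3224
import Mathlib
import Cfsg.Agent.Lib.Helper5_MaxClassTwo
import Cfsg.Agent.S0112

set_option autoImplicit false
open Cfsg

namespace Cfsg.Agent.S3224

open Subgroup

/-- Involutions of generalized quaternion groups are central. -/
theorem quat_invol_central (m : ℕ) [NeZero m] (y : QuaternionGroup m) (hy : y ^ 2 = 1)
    (w : QuaternionGroup m) : y * w = w * y := by
  rcases y with i | i
  · have h1 : i + i = 0 := by
      rw [pow_two, QuaternionGroup.a_mul_a, QuaternionGroup.one_def] at hy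
      exact QuaternionGroup.a.inj hy
    rcases w with j | j
    · rw [QuaternionGroup.a_mul_a, QuaternionGroup.a_mul_a, add_comm]
    · rw [QuaternionGroup.a_mul_xa, QuaternionGroup.xa_mul_a]
      congr 1
      have : -i = i := by
        rw [neg_eq_iff_add_eq_zero]; exact h1
      rw [sub_eq_add_neg, this]
  · exfalso
    rw [QuaternionGroup.xa_sq, QuaternionGroup.one_def] at hy
    have h1 : ((m : ℕ) : ZMod (2 * m)) = 0 := QuaternionGroup.a.inj hy
    rw [ZMod.natCast_eq_zero_iff] at h1
    have hm : 0 < m := Nat.pos_of_ne_zero (NeZero.ne m)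
    have := Nat.le_of_dvd hm h1
    omega

/-- A finite 2-group in which some involution has centralizer of order 4 is dihedral, semidihedral, or of order 4. -/
theorem result {S : Type*} [Group S] [Finite S] (hS : IsPGroup 2 S)
    (x : S) (hx : orderOf x = 2) (hC : Nat.card ↥(Subgroup.centralizer ({x} : Set S)) = 4) :
    (∃ n : ℕ, Nonempty (S ≃* DihedralGroup n)) ∨ Cfsg.IsQuasiDihedral S ∨ Nat.card S = 4 := by
  haveI : Fact (Nat.Prime 2) := ⟨Nat.prime_two⟩
  obtain ⟨n, hn⟩ := hS.exists_card_eq
  set A := Subgroup.centralizer ({x} : Set S) with hA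
  have h4 : 4 ∣ Nat.card S := by
    rw [← hC]; exact Subgroup.card_subgroup_dvd_card A
  have hn2 : 2 ≤ n := by
    by_contra hlt
    push_neg at hlt
    rw [hn] at h4
    have := Nat.le_of_dvd (by positivity) h4
    have h5 : 2 ^ n ≤ 2 ^ 1 := Nat.pow_le_pow_right (by norm_num) (by omega)
    omega
  by_cases hn2' : n = 2
  · right; right; rw [hn, hn2']; norm_num
  have hn3 : 3 ≤ n := by omega
  have hxA : x ∈ A := by
    rw [hA, Subgroup.mem_centralizer_iff]
    intro y hy
    rw [Set.mem_singleton_iff] at hy
    rw [hy]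
  -- A is self-centralizing
  have hAcomm : ∀ a ∈ A, ∀ b ∈ A, a * b = b * a := by
    have hcard : Nat.card A = 2 ^ 2 := by rw [hC]; norm_num
    have := IsPGroup.commutative_of_card_eq_prime_sq hcard
    intro a ha b hb
    have h1 := this ⟨a, ha⟩ ⟨b, hb⟩
    exact congrArg Subtype.val h1
  have hCA : Subgroup.centralizer (A : Set S) = A := by
    apply le_antisymm
    · intro g hg
      rw [hA, Subgroup.mem_centralizer_iff]
      intro y hy
      rw [Set.mem_singleton_iff] at hy
      rw [hy]
      exact (Subgroup.mem_centralizer_iff.mp hg) x hxA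
    · intro g hg
      rw [Subgroup.mem_centralizer_iff]
      intro y hy
      exact hAcomm y hy g hg
  have hclass := Cfsg.Agent.S0112.result (p := 2) n hn A (by rw [hC]; norm_num) hCA
  rcases Cfsg.Agent.Lib.Helper5_MaxClassTwo.maxclass_classify n hn3 hn hclass with
    h | ⟨h4', a, b, ha, hb, hrel⟩ | h
  · left; exact ⟨_, h⟩
  · right; left
    refine ⟨n - 1, by omega, ?_, a, b, ha, hb, ?_⟩
    · rw [hn]; congr 1; omega
    · rw [hrel]; congr 2
  · exfalso
    obtain ⟨e⟩ := h
    haveI : NeZero (2 ^ (n - 2)) := ⟨by positivity⟩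
    have hx2 : (e x) ^ 2 = 1 := by
      have hx2' : x ^ 2 = 1 := by rw [← hx, pow_orderOf_eq_one]
      rw [← map_pow, hx2', map_one]
    have hcen : ∀ w : S, w ∈ A := by
      intro w
      rw [hA, Subgroup.mem_centralizer_iff]
      intro y hy
      rw [Set.mem_singleton_iff] at hy
      rw [hy]
      apply e.injective
      rw [map_mul, map_mul]
      exact quat_invol_central _ (e x) hx2 (e w)
    have hAtop : A = ⊤ := by
      rw [Subgroup.eq_top_iff']; exact hcen
    have : Nat.card A = Nat.card S := by
      rw [hAtop]; exact Subgroup.card_top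
    rw [hC, hn] at this
    have h8 : 2 ^ 3 ≤ 2 ^ n := Nat.pow_le_pow_right (by norm_num) hn3
    omega

end Cfsg.Agent.S3224
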