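import Cfsg.Statements.S3247
import Cfsg.Agent.Lib.Helper3_PConstr
import Cfsg.Agent.S2896
import Cfsg.Agent.S1293

set_option autoImplicit false
open Cfsg

namespace Cfsg.Agent.S3247

open Cfsg.Agent.Lib.Helper3_PConstr Cfsg.Agent.Lib.Helper3_LStar2 Cfsg.Agent.Lib.Helper3_Transport

theorem pLayer_bot_of_equiv {A B : Type*} [Group A] [Group B] (p : ℕ) (e : A ≃* B)
    (h : Cfsg.pLayer p A = ⊥) : Cfsg.pLayer p B = ⊥ := by
  rw [← pLayer_map_equiv p e, h, Subgroup.map_bot]

/-- normalizers of `p`-subgroups of a group `M` with trivial `p`-layer, seen from outside -/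
theorem sub_local {G : Type*} [Group G] [Finite G] (p : ℕ) [Fact p.Prime] (M T : Subgroup G)
    (hT : IsPGroup p ↥T) (hT1 : T ≠ ⊥) (hTM : T ≤ M) (hM : Cfsg.pLayer p ↥M = ⊥) :
    Cfsg.pLayer p ↥((Subgroup.normalizer (T : Set G)).subgroupOf M) = ⊥ := by
  have hT' : IsPGroup p ↥(T.subgroupOf M) := hT.of_equiv (Subgroup.subgroupOfEquivOfLe hTM).symm
  have hT1' : T.subgroupOf M ≠ ⊥ := by
    intro h0
    rw [Subgroup.subgroupOf_eq_bot] at h0
    exact hT1 (h0.eq_bot_of_le hTM)
  have h1 := (Cfsg.Agent.S1293.result p hM (T.subgroupOf M) hT' hT1').1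
  exact pLayer_bot_of_equiv p (MulEquiv.subgroupCongr (Subgroup.subgroupOf_normalizer_eq hTM).symm) h1

/-- Let G be a finite group and p a prime; here a p-local subgroup means the normalizer of a nontrivial p-subgroup, other than G itself. If every p-local subgroup of G that is maximal among p-local subgroups is p-constrained, or if the centralizer of every element of order p of G is p-constrained, then every p-local subgroup of G is p-constrained. -/
theorem result {G : Type*} [Group G] [Finite G] (p : ℕ) [hp : Fact p.Prime]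
    (h : (∀ M : Subgroup G, (∃ T : Subgroup G, IsPGroup p ↥T ∧ T ≠ ⊥ ∧ M = Subgroup.normalizer (T : Set G)) → M ≠ ⊤ →
        (∀ M' : Subgroup G, (∃ T' : Subgroup G, IsPGroup p ↥T' ∧ T' ≠ ⊥ ∧ M' = Subgroup.normalizer (T' : Set G)) → M' ≠ ⊤ → M ≤ M' → M = M') →
        Cfsg.IsPConstrained p ↥M) ∨
      (∀ x : G, orderOf x = p → Cfsg.IsPConstrained p ↥(Subgroup.centralizer ({x} : Set G))))
    (T : Subgroup G) (hT : IsPGroup p ↥T) (hT1 : T ≠ ⊥) (hTG : Subgroup.normalizer (T : Set G) ≠ ⊤) :
    Cfsg.IsPConstrained p ↥(Subgroup.normalizer (T : Set G)) := by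
  classical
  rw [Cfsg.Agent.S1327.result p]
  rcases h with hA | hB
  · -- a maximal proper `p`-local above `N_G(T)`
    let 𝒮 : Set (Subgroup G) := {M | (∃ T' : Subgroup G, IsPGroup p ↥T' ∧ T' ≠ ⊥ ∧
      M = Subgroup.normalizer (T' : Set G)) ∧ M ≠ ⊤ ∧ Subgroup.normalizer (T : Set G) ≤ M}
    have hne : 𝒮.Nonempty := ⟨Subgroup.normalizer (T : Set G), ⟨T, hT, hT1, rfl⟩, hTG, le_rfl⟩
    obtain ⟨M, hM, hMmax⟩ := (Set.toFinite 𝒮).exists_maximal hne
    have hMc : Cfsg.IsPConstrained p ↥M := by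
      apply hA M hM.1 hM.2.1
      intro M' hM'1 hM'2 hle
      exact le_antisymm hle (hMmax ⟨hM'1, hM'2, hM.2.2.trans hle⟩ hle)
    rw [Cfsg.Agent.S1327.result p] at hMc
    have hTM : T ≤ M := Subgroup.le_normalizer.trans hM.2.2
    have h1 := sub_local p M T hT hT1 hTM hMc
    exact pLayer_bot_of_equiv p (Subgroup.subgroupOfEquivOfLe hM.2.2) h1
  · -- an element of order `p` in `Z(T)`
    have hW1 : T ⊓ Subgroup.centralizer (T : Set G) ≠ ⊥ := by
      haveI : Nontrivial ↥T := (Subgroup.nontrivial_iff_ne_bot T).mpr hT1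
      haveI := hT.center_nontrivial
      obtain ⟨z, hz1⟩ := exists_ne (1 : ↥(Subgroup.center ↥T))
      intro h0
      have : ((z : ↥T) : G) ∈ T ⊓ Subgroup.centralizer (T : Set G) := by
        refine ⟨(z : ↥T).2, Subgroup.mem_centralizer_iff.mpr ?_⟩
        intro t ht
        have := Subgroup.mem_center_iff.mp z.2 ⟨t, ht⟩
        exact congrArg Subtype.val this
      rw [h0, Subgroup.mem_bot] at this
      apply hz1
      apply Subtype.ext
      apply Subtype.ext
      exact this
    obtain ⟨x, hxW, hxo⟩ := Cfsg.Agent.S2896.exists_order_p _ (hT.to_le inf_le_left) hW1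
    have hCg := hB x hxo
    rw [Cfsg.Agent.S1327.result p] at hCg
    set N := Subgroup.normalizer (T : Set G) with hN
    set Cg := Subgroup.centralizer ({x} : Set G) with hCgdef
    have hTC : T ≤ Cg := by
      intro t ht
      rw [hCgdef, Subgroup.mem_centralizer_singleton_iff]
      exact (Subgroup.mem_centralizer_iff.mp hxW.2 t ht)
    have h1 := sub_local p Cg T hT hT1 hTC hCg
    have h2 := pLayer_bot_of_equiv p (subgroupOfSwap N Cg) h1
    have hxN : x ∈ N := Subgroup.le_normalizer hxW.1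
    have e : Subgroup.centralizer ((Subgroup.zpowers (⟨x, hxN⟩ : ↥N) : Subgroup ↥N) : Set ↥N) =
        Cg.subgroupOf N := by
      rw [Cfsg.Agent.Lib.Helper3_GFp3.centralizer_zpowers]
      ext y
      rw [Subgroup.mem_subgroupOf, hCgdef, Subgroup.mem_centralizer_singleton_iff,
        Subgroup.mem_centralizer_singleton_iff]
      constructor
      · intro hy; exact congrArg Subtype.val hy
      · intro hy; exact Subtype.ext hy
    have h3 := pLayer_bot_of_equiv p (MulEquiv.subgroupCongr e.symm) h2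
    apply pLayer_eq_bot_of_centralizer p (Subgroup.zpowers (⟨x, hxN⟩ : ↥N)) _ h3
    rw [Subgroup.zpowers_le]
    haveI : (T.subgroupOf N).Normal := Subgroup.normal_in_normalizer
    have hT' : IsPGroup p ↥(T.subgroupOf N) :=
      hT.of_equiv (Subgroup.subgroupOfEquivOfLe Subgroup.le_normalizer).symm
    exact Cfsg.Agent.Lib.Helper4_PCore.le_pCore _ inferInstance hT' (Subgroup.mem_subgroupOf.mpr hxW.1)

end Cfsg.Agent.S3247
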