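import Mathlib
import Cfsg.Statements.S3276

set_option autoImplicit false
open Cfsg

namespace Cfsg.Agent.S3276

variable {G : Type*} [Group G]

theorem mul_self_of_two {x : G} (hx : orderOf x = 2) : x * x = 1 := by
  rw [← pow_two, ← hx]; exact pow_orderOf_eq_one x

theorem inv_of_mul_self {x : G} (hx : x * x = 1) : x⁻¹ = x :=
  inv_eq_of_mul_eq_one_left hx

/-- Two involutions whose product has odd order are conjugate. -/
theorem isConj_of_odd (x y : G) (hx : x * x = 1) (hy : y * y = 1) (hodd : Odd (orderOf (x * y))) :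
    IsConj x y := by
  obtain ⟨k, hk⟩ := hodd
  set d := x * y with hd
  have hxi := inv_of_mul_self hx
  have hyi := inv_of_mul_self hy
  have hdinv : d⁻¹ = y * x := by rw [hd, mul_inv_rev, hxi, hyi]
  have hsc : SemiconjBy x d d⁻¹ := by
    show x * d = d⁻¹ * x
    rw [hdinv, hd, mul_assoc y x x, hx, mul_one, ← mul_assoc, hx, one_mul]
  have hsck : x * d ^ k = (d⁻¹) ^ k * x := (hsc.pow_right k).eq
  have h1 : d ^ k * x * d ^ k = x := by
    rw [mul_assoc, hsck, ← mul_assoc, inv_pow, mul_inv_cancel, one_mul]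
  have h2 : d ^ (2 * k) * d = 1 := by
    rw [← pow_succ, ← hk]; exact pow_orderOf_eq_one d
  rw [isConj_iff]
  refine ⟨d ^ k, ?_⟩
  have h3 : d ^ k * x = x * (d ^ k)⁻¹ := by
    rw [eq_mul_inv_iff_mul_eq]; exact h1
  have h4 : (d ^ k)⁻¹ * (d ^ k)⁻¹ = d := by
    rw [← mul_inv_rev, ← pow_add, ← two_mul, inv_eq_iff_eq_inv]
    exact (eq_inv_of_mul_eq_one_left h2)
  rw [h3, mul_assoc, h4, hd, ← mul_assoc, hx, one_mul]

/-- Two non-conjugate involutions commute with a common involution (the central involution of the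
dihedral group they generate). -/
theorem exists_central_invol [Finite G] (x y : G) (hx : x * x = 1) (hy : y * y = 1)
    (hnc : ¬ IsConj x y) : ∃ u : G, orderOf u = 2 ∧ Commute u x ∧ Commute y u := by
  set d := x * y with hd
  have hxi := inv_of_mul_self hx
  have hyi := inv_of_mul_self hy
  have hdinv : d⁻¹ = y * x := by rw [hd, mul_inv_rev, hxi, hyi]
  rcases Nat.even_or_odd (orderOf d) with he | ho
  swap
  · exact absurd (isConj_of_odd x y hx hy ho) hnc
  obtain ⟨m, hm⟩ := he
  have hm0 : m ≠ 0 := by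
    intro h0
    rw [h0] at hm
    exact (orderOf_pos d).ne' hm
  have hu2 : orderOf (d ^ m) = 2 := by
    rw [orderOf_pow_of_dvd hm0 ⟨2, by rw [hm]; ring⟩, hm]
    rw [← two_mul, Nat.mul_div_cancel _ (Nat.pos_of_ne_zero hm0)]
  have huu : d ^ m * d ^ m = 1 := mul_self_of_two hu2
  have hui : (d ^ m)⁻¹ = d ^ m := inv_of_mul_self huu
  refine ⟨d ^ m, hu2, ?_, ?_⟩
  · have hsc : SemiconjBy x d d⁻¹ := by
      show x * d = d⁻¹ * x
      rw [hdinv, hd, mul_assoc y x x, hx, mul_one, ← mul_assoc, hx, one_mul]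
    have := (hsc.pow_right m).eq
    rw [inv_pow, hui] at this
    exact this.symm
  · have hsc : SemiconjBy y d d⁻¹ := by
      show y * d = d⁻¹ * y
      rw [hdinv, hd, mul_assoc y x y]
    have := (hsc.pow_right m).eq
    rw [inv_pow, hui] at this
    exact this

theorem card_le_two {Y : Type*} [Group Y] (S : Subgroup Y) (y0 : Y)
    (h : ∀ t ∈ S, t = 1 ∨ t = y0) : Nat.card S ≤ 2 := by
  have h1 : (S : Set Y) ⊆ {1, y0} := by
    intro t ht
    rcases h t ht with h | h
    · left; exact h
    · right; exact h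
  have h2 : Nat.card S = (S : Set Y).ncard := rfl
  rw [h2]
  calc (S : Set Y).ncard ≤ ({1, y0} : Set Y).ncard := Set.ncard_le_ncard h1 (Set.toFinite _)
    _ ≤ ({y0} : Set Y).ncard + 1 := Set.ncard_insert_le _ _
    _ = 2 := by rw [Set.ncard_singleton]

/-- Let x and y be commuting, non-conjugate involutions of a finite group G, and suppose that for every involution u commuting with x, each conjugate of y that commutes with u also commutes with y. Then the normal closure of y is a proper, normal, elementary abelian 2-subgroup of G; and if y is the only involution of that normal closure commuting with x, it has order at most 4. -/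
theorem result {G : Type*} [Group G] [Finite G] (x y : G) (hx : orderOf x = 2) (hy : orderOf y = 2)
    (hxy : Commute x y) (hnc : ¬ IsConj x y)
    (hstar : ∀ u : G, orderOf u = 2 → Commute u x → ∀ g : G, Commute (g * y * g⁻¹) u → Commute (g * y * g⁻¹) y) :
    Subgroup.normalClosure ({y} : Set G) ≠ ⊤ ∧ Cfsg.IsElementaryAbelian 2 (Subgroup.normalClosure ({y} : Set G)) ∧
      ((∀ u ∈ Subgroup.normalClosure ({y} : Set G), orderOf u = 2 → Commute u x → u = y) →
        Nat.card ↥(Subgroup.normalClosure ({y} : Set G)) ≤ 4) := by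
  have hxx := mul_self_of_two hx
  have hyy := mul_self_of_two hy
  have hxi := inv_of_mul_self hxx
  -- Step A
  have hA : ∀ g : G, Commute (g * y * g⁻¹) y := by
    intro g
    have hy'2 : (g * y * g⁻¹) * (g * y * g⁻¹) = 1 := by
      calc (g * y * g⁻¹) * (g * y * g⁻¹) = g * (y * y) * g⁻¹ := by group
        _ = 1 := by rw [hyy]; group
    have hnc' : ¬ IsConj x (g * y * g⁻¹) := by
      intro hc
      apply hnc
      refine hc.trans ?_
      rw [isConj_comm, isConj_iff]
      exact ⟨g, rfl⟩
    obtain ⟨u, hu2, hux, hyu⟩ := exists_central_invol x (g * y * g⁻¹) hxx hy'2 hnc'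
    exact hstar u hu2 hux g hyu
  -- Step B
  have hB : ∀ g h : G, Commute (g * y * g⁻¹) (h * y * h⁻¹) := by
    intro g h
    have h1 := hA (h⁻¹ * g)
    have h2 : Commute (h * ((h⁻¹ * g) * y * (h⁻¹ * g)⁻¹) * h⁻¹) (h * y * h⁻¹) := by
      show _ * _ = _ * _
      calc (h * ((h⁻¹ * g) * y * (h⁻¹ * g)⁻¹) * h⁻¹) * (h * y * h⁻¹)
          = h * (((h⁻¹ * g) * y * (h⁻¹ * g)⁻¹) * y) * h⁻¹ := by group
        _ = h * (y * ((h⁻¹ * g) * y * (h⁻¹ * g)⁻¹)) * h⁻¹ := by rw [h1.eq]
        _ = (h * y * h⁻¹) * (h * ((h⁻¹ * g) * y * (h⁻¹ * g)⁻¹) * h⁻¹) := by group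
    have e : h * ((h⁻¹ * g) * y * (h⁻¹ * g)⁻¹) * h⁻¹ = g * y * g⁻¹ := by group
    rwa [e] at h2
  have hconj : ∀ a ∈ Group.conjugatesOfSet ({y} : Set G), ∃ g : G, a = g * y * g⁻¹ := by
    intro a ha
    rw [Group.mem_conjugatesOfSet_iff] at ha
    obtain ⟨b, hb, hba⟩ := ha
    rw [Set.mem_singleton_iff] at hb
    subst hb
    rw [isConj_iff] at hba
    obtain ⟨c, hc⟩ := hba
    exact ⟨c, hc.symm⟩
  have hcommSet : ∀ a ∈ Group.conjugatesOfSet ({y} : Set G),
      ∀ b ∈ Group.conjugatesOfSet ({y} : Set G), a * b = b * a := by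
    intro a ha b hb
    obtain ⟨g, rfl⟩ := hconj a ha
    obtain ⟨h, rfl⟩ := hconj b hb
    exact (hB g h).eq
  have hYc : IsMulCommutative (Subgroup.normalClosure ({y} : Set G)) := by
    unfold Subgroup.normalClosure
    exact Subgroup.isMulCommutative_closure hcommSet
  have hYcomm : ∀ s ∈ Subgroup.normalClosure ({y} : Set G),
      ∀ t ∈ Subgroup.normalClosure ({y} : Set G), s * t = t * s := by
    intro s hs t ht
    exact setLike_mul_comm hs ht
  have hYsq : ∀ a ∈ Subgroup.normalClosure ({y} : Set G), a ^ 2 = 1 := by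
    intro a ha
    have ha' := ha
    unfold Subgroup.normalClosure at ha'
    induction ha' using Subgroup.closure_induction with
    | mem z hz =>
      obtain ⟨g, rfl⟩ := hconj z hz
      rw [pow_two]
      calc (g * y * g⁻¹) * (g * y * g⁻¹) = g * (y * y) * g⁻¹ := by group
        _ = 1 := by rw [hyy]; group
    | one => simp
    | mul a b ha0 hb0 iha ihb =>
      have ha1 : a ∈ Subgroup.normalClosure ({y} : Set G) := ha0
      have hb1 : b ∈ Subgroup.normalClosure ({y} : Set G) := hb0
      have hc : Commute a b := hYcomm a ha1 b hb1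
      rw [hc.mul_pow, iha ha1, ihb hb1, one_mul]
    | inv a ha0 iha =>
      have ha1 : a ∈ Subgroup.normalClosure ({y} : Set G) := ha0
      rw [inv_pow, iha ha1, inv_one]
  have hYn : (Subgroup.normalClosure ({y} : Set G)).Normal := Subgroup.normalClosure_normal
  have hyY : y ∈ Subgroup.normalClosure ({y} : Set G) :=
    Subgroup.subset_normalClosure (Set.mem_singleton y)
  refine ⟨?_, ⟨hYc, hYsq⟩, ?_⟩
  · intro htop
    have hall : ∀ s t : G, s * t = t * s := by
      intro s t
      exact hYcomm s (by rw [htop]; trivial) t (by rw [htop]; trivial)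
    have hzn : (Subgroup.zpowers y).Normal := by
      constructor
      intro n hn g
      have : g * n * g⁻¹ = n := by rw [hall g n, mul_inv_cancel_right]
      rw [this]; exact hn
    have hle : Subgroup.normalClosure ({y} : Set G) ≤ Subgroup.zpowers y :=
      Subgroup.normalClosure_le_normal (by
        intro a ha
        rw [Set.mem_singleton_iff] at ha
        subst ha
        exact Subgroup.mem_zpowers a)
    have hxz : x ∈ Subgroup.zpowers y := hle (by rw [htop]; trivial)
    rw [Subgroup.mem_zpowers_iff] at hxz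
    obtain ⟨k, hk⟩ := hxz
    rw [← zpow_mod_orderOf, hy] at hk
    push_cast at hk
    have h2 : k % 2 = 0 ∨ k % 2 = 1 := by omega
    rcases h2 with h2 | h2
    · rw [h2, zpow_zero] at hk
      rw [← hk, orderOf_one] at hx
      omega
    · rw [h2, zpow_one] at hk
      apply hnc
      rw [hk]
  · intro huniq
    set Y := Subgroup.normalClosure ({y} : Set G) with hY
    let y0 : ↥Y := ⟨y, hyY⟩
    -- elements of Y commuting with x
    have hCx : ∀ t : ↥Y, Commute (t : G) x → t = 1 ∨ t = y0 := by
      intro t ht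
      by_cases ht1 : t = 1
      · exact Or.inl ht1
      · right
        have h2 : orderOf (t : G) = 2 := by
          apply orderOf_eq_prime (hYsq t t.2)
          intro h1
          apply ht1
          exact Subtype.ext h1
        exact Subtype.ext (huniq t t.2 h2 ht)
    let cj : ↥Y → ↥Y := fun t => ⟨x * t * x⁻¹, hYn.conj_mem t t.2 x⟩
    have hcj : ∀ t : ↥Y, ((cj t : ↥Y) : G) = x * t * x⁻¹ := fun t => rfl
    let f : ↥Y →* ↥Y := MonoidHom.mk' (fun t => t * cj t) (by
      intro a b
      apply Subtype.ext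
      simp only [Subgroup.coe_mul, hcj]
      have h1 : (b : G) * (x * a * x⁻¹) = (x * a * x⁻¹) * b :=
        hYcomm _ b.2 _ (hYn.conj_mem a a.2 x)
      calc (a : G) * b * (x * (a * b) * x⁻¹) = a * (b * (x * a * x⁻¹)) * (x * b * x⁻¹) := by group
        _ = a * ((x * a * x⁻¹) * b) * (x * b * x⁻¹) := by rw [h1]
        _ = a * (x * a * x⁻¹) * (b * (x * b * x⁻¹)) := by group)
    have hf : ∀ t : ↥Y, ((f t : ↥Y) : G) = t * (x * t * x⁻¹) := fun t => rfl
    have hker : ∀ t ∈ f.ker, t = 1 ∨ t = y0 := by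
      intro t ht
      apply hCx
      rw [MonoidHom.mem_ker] at ht
      have h1 : (t : G) * (x * t * x⁻¹) = 1 := by
        rw [← hf, ht]; rfl
      have h2 : (t : G) * t = 1 := by rw [← pow_two]; exact hYsq t t.2
      have h3 : x * t * x⁻¹ = t := by
        have := mul_left_cancel (h1.trans h2.symm)
        exact this
      show (t : G) * x = x * t
      calc (t : G) * x = (x * t * x⁻¹) * x := by rw [h3]
        _ = x * t := by group
    have hrange : ∀ s ∈ f.range, s = 1 ∨ s = y0 := by
      rintro s ⟨t, rfl⟩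
      apply hCx
      show ((f t : ↥Y) : G) * x = x * ((f t : ↥Y) : G)
      rw [hf]
      have h1 : (t : G) * (x * t * x⁻¹) = (x * t * x⁻¹) * t :=
        hYcomm _ t.2 _ (hYn.conj_mem t t.2 x)
      calc (t : G) * (x * t * x⁻¹) * x = (x * t * x⁻¹) * t * x := by rw [h1]
        _ = x * t * x⁻¹ * t * (x * x) * x⁻¹ := by group
        _ = x * t * x⁻¹ * t * x⁻¹ := by rw [hxx, mul_one]
        _ = x * (t * (x * t * x⁻¹)) := by rw [hxi]; group
    have hk2 := card_le_two f.ker y0 hker
    have hr2 := card_le_two f.range y0 hrange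
    have h1 : Nat.card f.ker * f.ker.index = Nat.card ↥Y := Subgroup.card_mul_index f.ker
    have h2 : f.ker.index = Nat.card f.range := Subgroup.index_ker f
    rw [h2] at h1
    calc Nat.card ↥Y = Nat.card f.ker * Nat.card f.range := h1.symm
      _ ≤ 2 * 2 := Nat.mul_le_mul hk2 hr2
      _ = 4 := by norm_num

end Cfsg.Agent.S3276
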