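import Cfsg.Statements.S3294
import Mathlib
import Cfsg.Agent.S0044
import Cfsg.Agent.S1958
import Cfsg.Agent.S3303
import Cfsg.Agent.Lib.Lead_Fitting
import Cfsg.Agent.Lib.Helper4_PCore
import Cfsg.Agent.Lib.Helper5_PPrime

set_option autoImplicit false
open Cfsg

namespace Cfsg.Agent.S3294

open Cfsg.Agent.Lib.Helper4_PCore Cfsg.Agent.Lib.Helper5_PPrime Cfsg.Agent.Lib.Lead_Fitting

/-- a 2-group with a characteristic cyclic subgroup of index 2 has a 2-group of automorphisms -/
theorem aut_two_group {Q : Type*} [Group Q] [Finite Q] (B : Subgroup Q) [hBch : B.Characteristic]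
    (hBc : IsCyclic B) (hB2 : IsPGroup 2 B) (hidx : B.index = 2) : IsPGroup 2 (MulAut Q) := by
  haveI : Fact (Nat.Prime 2) := ⟨Nat.prime_two⟩
  obtain ⟨j, hj⟩ := IsPGroup.iff_card.mp hB2
  have hAutB : ∃ i, Nat.card (MulAut B) = 2 ^ i := by
    rw [IsCyclic.card_mulAut, hj]
    rcases Nat.eq_zero_or_pos j with h0 | hpos
    · exact ⟨0, by rw [h0, pow_zero, Nat.totient_one]⟩
    · refine ⟨j - 1, ?_⟩
      rw [Nat.totient_prime_pow Nat.prime_two hpos]; simp
  obtain ⟨i, hi⟩ := hAutB
  have hpres : ∀ (φ : MulAut Q) (y : Q), y ∈ B → φ y ∈ B := fun φ y hy =>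
    Subgroup.characteristic_iff_le_comap.mp hBch φ hy
  intro σ
  refine ⟨i + j, ?_⟩
  set τ := σ ^ (2 ^ i) with hτ
  have hτB : ∀ b : Q, b ∈ B → τ b = b := by
    have h1 : MulAut.characteristic B τ = 1 := by
      rw [hτ, map_pow, ← hi]; exact pow_card_eq_one'
    intro b hb
    have := congrArg (fun g : MulAut B => ((g ⟨b, hb⟩ : B) : Q)) h1
    simpa using this
  have hτkB : ∀ (k : ℕ) (b : Q), b ∈ B → (τ ^ k) b = b := by
    intro k
    induction k with
    | zero => intro b _; simp
    | succ k ih =>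
      intro b hb
      rw [pow_succ', MulAut.mul_apply, ih b hb, hτB b hb]
  have hτ1 : τ ^ (2 ^ j) = 1 := by
    obtain ⟨q, hq⟩ : ∃ q : Q, q ∉ B := by
      by_contra hall
      push_neg at hall
      have : B = ⊤ := (Subgroup.eq_top_iff' B).mpr hall
      rw [this, Subgroup.index_top] at hidx
      omega
    have hτq : q⁻¹ * τ q ∈ B := by
      rw [Subgroup.mul_mem_iff_of_index_two hidx]
      constructor
      · intro h; exact absurd (by simpa using B.inv_mem h) hq
      · intro h
        exfalso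
        apply hq
        have := hpres τ⁻¹ _ h
        simpa using this
    set β := q⁻¹ * τ q with hβ
    have hq1 : τ q = q * β := by rw [hβ]; group
    have hqk : ∀ k : ℕ, (τ ^ k) q = q * β ^ k := by
      intro k
      induction k with
      | zero => simp
      | succ k ih =>
        rw [pow_succ', MulAut.mul_apply, ih, map_mul, hq1, hτB _ (B.pow_mem hτq k), pow_succ']
        group
    have hβ1 : β ^ (2 ^ j) = 1 := by
      have h := pow_card_eq_one' (G := B) (x := ⟨β, hτq⟩)
      rw [hj] at h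
      have h2 := congrArg Subtype.val h
      simpa only [Subgroup.coe_pow, Subgroup.coe_one] using h2
    ext y
    rw [MulAut.one_apply]
    by_cases hy : y ∈ B
    · exact hτkB _ y hy
    · have hqy : q⁻¹ * y ∈ B := by
        rw [Subgroup.mul_mem_iff_of_index_two hidx]
        constructor
        · intro h; exact absurd (by simpa using B.inv_mem h) hq
        · intro h; exact absurd h hy
      have : y = q * (q⁻¹ * y) := by group
      rw [this, map_mul, hqk, hβ1, mul_one, hτkB _ _ hqy]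
  rw [pow_add, pow_mul, ← hτ, hτ1]

/-- automorphism groups of normal subgroups of a "quaternion-like" 2-group are 2-groups -/
theorem aut_normal_sub {T : Type*} [Group T] [Finite T] (hT2 : IsPGroup 2 T) (a₀ : T)
    (h8 : a₀ ^ 8 ≠ 1) (hidx : (Subgroup.zpowers a₀).index = 2)
    (hout : ∀ t : T, t ∉ Subgroup.zpowers a₀ → t ^ 4 = 1 ∧ t * a₀ * t⁻¹ = a₀⁻¹)
    (Q : Subgroup T) [hQn : Q.Normal] : IsPGroup 2 (MulAut Q) := by
  haveI : Fact (Nat.Prime 2) := ⟨Nat.prime_two⟩
  set A := Subgroup.zpowers a₀ with hA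
  have hQ2 : IsPGroup 2 Q := hT2.to_subgroup Q
  by_cases hQA : Q ≤ A
  · haveI : IsCyclic Q := Subgroup.isCyclic_of_le hQA
    obtain ⟨j, hj⟩ := IsPGroup.iff_card.mp hQ2
    rcases Nat.eq_zero_or_pos j with h0 | hpos
    · apply IsPGroup.of_card (n := 0)
      rw [IsCyclic.card_mulAut, hj, h0, pow_zero, Nat.totient_one]
    · apply IsPGroup.of_card (n := j - 1)
      rw [IsCyclic.card_mulAut, hj, Nat.totient_prime_pow Nat.prime_two hpos]; simp
  · obtain ⟨q, hqQ, hqA⟩ := SetLike.not_le_iff_exists.mp hQA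
    have ha2 : a₀ ^ 2 ∈ Q := by
      have h1 : a₀ * q * a₀⁻¹ ∈ Q := hQn.conj_mem q hqQ a₀
      have h2 : a₀ * q * a₀⁻¹ * q⁻¹ ∈ Q := Q.mul_mem h1 (Q.inv_mem hqQ)
      have h3 : q * a₀⁻¹ * q⁻¹ = a₀ := by
        have := (hout q hqA).2
        have h4 : (q * a₀ * q⁻¹)⁻¹ = (a₀⁻¹)⁻¹ := by rw [this]
        rw [inv_inv] at h4
        calc q * a₀⁻¹ * q⁻¹ = (q * a₀ * q⁻¹)⁻¹ := by group
          _ = a₀ := h4
      have h5 : a₀ * q * a₀⁻¹ * q⁻¹ = a₀ ^ 2 := by
        calc a₀ * q * a₀⁻¹ * q⁻¹ = a₀ * (q * a₀⁻¹ * q⁻¹) := by group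
          _ = a₀ ^ 2 := by rw [h3, sq]
      rwa [h5] at h2
    haveI hAn : A.Normal := Subgroup.normal_of_index_eq_two hidx
    set B : Subgroup Q := A.subgroupOf Q with hB
    have hBidx : B.index = 2 := by
      have h1 : A.relIndex Q ∣ A.index := Subgroup.relIndex_dvd_index_of_normal A Q
      rw [hidx] at h1
      have h2 : A.relIndex Q ≠ 1 := fun h => hQA (Subgroup.relIndex_eq_one.mp h)
      rcases (Nat.dvd_prime Nat.prime_two).mp h1 with h | h
      · exact absurd h h2
      · exact h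
    have hBc : IsCyclic B := by
      have hinj : Function.Injective (Q.subtype.subgroupComap A) := by
        intro x y hxy
        have := congrArg Subtype.val hxy
        exact Subtype.ext (Subtype.ext this)
      exact isCyclic_of_injective (Q.subtype.subgroupComap A) hinj
    have hB2 : IsPGroup 2 B := hQ2.to_subgroup B
    have hBch : B.Characteristic := by
      rw [Subgroup.characteristic_iff_le_comap]
      intro φ y hy
      obtain ⟨b, hb⟩ := IsCyclic.exists_generator (α := B)
      have hb4 : (b : Q) ^ 4 ≠ 1 := by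
        intro h4
        obtain ⟨m, hm⟩ := Subgroup.mem_zpowers_iff.mp (hb ⟨⟨a₀ ^ 2, ha2⟩, Subgroup.mem_zpowers_iff.mpr ⟨2, by simp⟩⟩)
        have h5 : ((b : Q) : T) ^ m = a₀ ^ 2 := by
          have := congrArg (fun z : B => ((z : Q) : T)) hm
          simpa using this
        apply h8
        have h6 : ((b : Q) : T) ^ 4 = 1 := by
          have := congrArg Subtype.val h4
          simpa using this
        calc a₀ ^ 8 = (a₀ ^ 2) ^ 4 := by rw [← pow_mul]
          _ = ((((b : Q) : T) ^ m) ^ (4 : ℕ)) := by rw [h5]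
          _ = ((((b : Q) : T) ^ (4 : ℕ)) ^ m) := by
            rw [← zpow_natCast, ← zpow_natCast, ← zpow_mul, ← zpow_mul, mul_comm]
          _ = 1 := by rw [h6, one_zpow]
      have hφb : φ (b : Q) ∈ B := by
        by_contra hnot
        have hnot' : ((φ (b : Q) : Q) : T) ∉ A := hnot
        have h4 := (hout _ hnot').1
        apply hb4
        have h5 : φ ((b : Q) ^ 4) = 1 := by
          rw [map_pow]
          apply Subtype.ext
          simpa using h4
        have := φ.injective (h5.trans (map_one φ).symm)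
        exact this
      obtain ⟨m, hm⟩ := Subgroup.mem_zpowers_iff.mp (hb ⟨y, hy⟩)
      have hy' : y = (b : Q) ^ m := by
        have := congrArg Subtype.val hm
        simpa using this.symm
      show φ y ∈ B
      rw [hy', map_zpow]
      exact B.zpow_mem hφb m
    exact aut_two_group B hBc hB2 hBidx

/-- the relevant structure of a generalized quaternion group of order at least 32 -/
theorem quat_struct (N : ℕ) (hN : 8 ≤ N) :
    (QuaternionGroup.a 1 : QuaternionGroup N) ^ 8 ≠ 1 ∧
    (Subgroup.zpowers (QuaternionGroup.a 1 : QuaternionGroup N)).index = 2 ∧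
    ∀ t : QuaternionGroup N, t ∉ Subgroup.zpowers (QuaternionGroup.a 1 : QuaternionGroup N) →
      t ^ 4 = 1 ∧ t * QuaternionGroup.a 1 * t⁻¹ = (QuaternionGroup.a 1)⁻¹ := by
  haveI : NeZero N := ⟨by omega⟩
  have hord : orderOf (QuaternionGroup.a 1 : QuaternionGroup N) = 2 * N := QuaternionGroup.orderOf_a_one
  refine ⟨?_, ?_, ?_⟩
  · intro h
    have := orderOf_dvd_of_pow_eq_one h
    rw [hord] at this
    have := Nat.le_of_dvd (by norm_num) this
    omega
  · have h1 := Subgroup.card_mul_index (Subgroup.zpowers (QuaternionGroup.a 1 : QuaternionGroup N))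
    rw [Nat.card_zpowers, hord, Nat.card_eq_fintype_card, QuaternionGroup.card] at h1
    have hpos : 0 < 2 * N := by omega
    have : 2 * N * (Subgroup.zpowers (QuaternionGroup.a 1 : QuaternionGroup N)).index = 2 * N * 2 := by
      rw [h1]; ring
    exact Nat.eq_of_mul_eq_mul_left hpos this
  · intro t ht
    have hinv : (QuaternionGroup.a 1 : QuaternionGroup N)⁻¹ = QuaternionGroup.a (-1) := by
      apply inv_eq_of_mul_eq_one_right
      rw [QuaternionGroup.a_mul_a, add_neg_cancel, QuaternionGroup.a_zero]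
    cases t with
    | a i =>
      exfalso
      apply ht
      rw [Subgroup.mem_zpowers_iff]
      refine ⟨(i.val : ℤ), ?_⟩
      rw [zpow_natCast, QuaternionGroup.a_one_pow]
      haveI : NeZero (2 * N) := ⟨by omega⟩
      rw [ZMod.natCast_zmod_val]
    | xa i =>
      refine ⟨QuaternionGroup.xa_pow_four i, ?_⟩
      rw [mul_inv_eq_iff_eq_mul, hinv, QuaternionGroup.xa_mul_a, QuaternionGroup.a_mul_xa]
      congr 1
      ring

/-- transport of `quat_struct` along an isomorphism -/
theorem quat_like {T : Type*} [Group T] (N : ℕ) (hN : 8 ≤ N) (e : T ≃* QuaternionGroup N) :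
    ∃ a₀ : T, a₀ ^ 8 ≠ 1 ∧ (Subgroup.zpowers a₀).index = 2 ∧
      ∀ t : T, t ∉ Subgroup.zpowers a₀ → t ^ 4 = 1 ∧ t * a₀ * t⁻¹ = a₀⁻¹ := by
  obtain ⟨h1, h2, h3⟩ := quat_struct N hN
  refine ⟨e.symm (QuaternionGroup.a 1), ?_, ?_, ?_⟩
  · intro h
    apply h1
    have := congrArg e h
    simpa using this
  · have : Subgroup.zpowers (e.symm (QuaternionGroup.a 1)) =
        (Subgroup.zpowers (QuaternionGroup.a 1 : QuaternionGroup N)).map (e.symm : QuaternionGroup N →* T) := by
      rw [MonoidHom.map_zpowers]; rfl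
    rw [this, Subgroup.index_map_equiv, h2]
  · intro t ht
    have ht' : e t ∉ Subgroup.zpowers (QuaternionGroup.a 1 : QuaternionGroup N) := by
      intro hmem
      apply ht
      obtain ⟨k, hk⟩ := Subgroup.mem_zpowers_iff.mp hmem
      rw [Subgroup.mem_zpowers_iff]
      refine ⟨k, ?_⟩
      rw [← map_zpow, hk, e.symm_apply_apply]
    obtain ⟨h4, h5⟩ := h3 (e t) ht'
    constructor
    · apply e.injective
      rw [map_pow, h4, map_one]
    · apply e.injective
      rw [map_mul, map_mul, map_inv, map_inv, e.apply_symm_apply, h5]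

/-- a solvable group with `O(X) = 1` such that `Aut(O₂(X))` is a 2-group is a 2-group -/
theorem two_group_of_aut {X : Type*} [Group X] [Finite X] [Group.IsSolvable X]
    (hO : Cfsg.pPrimeCore 2 X = ⊥) (hAut : IsPGroup 2 (MulAut ↥(Cfsg.pCore 2 X))) : IsPGroup 2 X := by
  haveI : Fact (Nat.Prime 2) := ⟨Nat.prime_two⟩
  set Q := Cfsg.pCore 2 X with hQ
  haveI hQn : Q.Normal := pCore_normal 2 X
  have hQp : IsPGroup 2 Q := pCore_isPGroup
  have hF : Cfsg.fittingSubgroup X = Q := by
    rw [fitting_eq]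
    apply le_antisymm
    · apply iSup_le
      intro q
      by_cases hq2 : (q : ℕ) = 2
      · rw [hq2]
      · haveI : Fact (Nat.Prime (q : ℕ)) := ⟨q.2⟩
        haveI : (Cfsg.pCore (q : ℕ) X).Normal := pCore_normal _ X
        have hp : IsPGroup (q : ℕ) (Cfsg.pCore (q : ℕ) X) := pCore_isPGroup
        obtain ⟨k, hk⟩ := IsPGroup.iff_card.mp hp
        have hcop : (Nat.card (Cfsg.pCore (q : ℕ) X)).Coprime 2 := by
          rw [hk]
          apply Nat.Coprime.pow_left
          exact (Nat.coprime_primes q.2 Nat.prime_two).mpr hq2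
        have := le_pPrimeCore (Cfsg.pCore (q : ℕ) X) hcop
        rw [hO] at this
        exact this.trans bot_le
    · exact pCore_le_F0 2
  have hCQ : Subgroup.centralizer (Q : Set X) ≤ Q := by
    have := Cfsg.Agent.S0044.result (G := X)
    rwa [hF] at this
  let φ : X →* MulAut Q := MulAut.conjNormal
  have hker : φ.ker = Subgroup.centralizer (Q : Set X) := Cfsg.Agent.S3303.ker_conjNormal Q
  obtain ⟨n, hn⟩ := IsPGroup.iff_card.mp hQp
  obtain ⟨m, hm⟩ := IsPGroup.iff_card.mp hAut
  have h1 : ∃ a, Nat.card φ.ker = 2 ^ a := by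
    have hdvd : Nat.card φ.ker ∣ 2 ^ n := by
      rw [← hn, hker]; exact Subgroup.card_dvd_of_le hCQ
    obtain ⟨a, -, ha⟩ := (Nat.dvd_prime_pow Nat.prime_two).mp hdvd
    exact ⟨a, ha⟩
  have h2 : ∃ b, Nat.card φ.range = 2 ^ b := by
    have hdvd : Nat.card φ.range ∣ Nat.card (MulAut Q) := Subgroup.card_subgroup_dvd_card _
    rw [hm] at hdvd
    obtain ⟨b, -, hb⟩ := (Nat.dvd_prime_pow Nat.prime_two).mp hdvd
    exact ⟨b, hb⟩
  obtain ⟨a, ha⟩ := h1
  obtain ⟨b, hb⟩ := h2
  apply IsPGroup.of_card (n := a + b)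
  rw [← Subgroup.card_mul_index φ.ker, Subgroup.index_ker, ha, hb, pow_add]

/-- A finite solvable group whose Sylow 2-subgroups are generalized quaternion of order at least 32 has a normal 2-complement. -/
theorem result {G : Type*} [Group G] [Finite G] (hsol : Group.IsSolvable G) (T : Sylow 2 G) (n : ℕ) (hn : 3 ≤ n) (hT : Nonempty ((T : Subgroup G) ≃* QuaternionGroup (2 ^ n))) : Cfsg.HasNormalPComplement 2 G := by
  classical
  haveI : Fact (Nat.Prime 2) := ⟨Nat.prime_two⟩
  haveI := hsol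
  obtain ⟨e⟩ := hT
  set O := Cfsg.pPrimeCore 2 G with hO
  set π : G →* G ⧸ O := QuotientGroup.mk' O with hπ
  have hπs : Function.Surjective π := QuotientGroup.mk'_surjective _
  have hObar : Cfsg.pPrimeCore 2 (G ⧸ O) = ⊥ := Cfsg.Agent.S1958.pPrimeCore_quotient 2 G
  have hOcop : (Nat.card O).Coprime 2 := pPrimeCore_coprime 2 G
  have hTO : (T : Subgroup G) ⊓ O = ⊥ := inf_eq_bot_of_pGroup_of_coprime T.isPGroup' hOcop
  set Tb : Sylow 2 (G ⧸ O) := T.mapSurjective hπs with hTb
  have hTbcoe : (Tb : Subgroup (G ⧸ O)) = (T : Subgroup G).map π := Sylow.coe_mapSurjective hπs T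
  have hinj : Function.Injective (π.subgroupMap (T : Subgroup G)) := by
    rw [injective_iff_map_eq_one]
    intro x hx
    have h1 : π (x : G) = 1 := congrArg Subtype.val hx
    have hxO : (x : G) ∈ O := (QuotientGroup.eq_one_iff _).mp h1
    have h2 : (x : G) ∈ (T : Subgroup G) ⊓ O := ⟨x.2, hxO⟩
    rw [hTO, Subgroup.mem_bot] at h2
    exact Subtype.ext h2
  let eT : (T : Subgroup G) ≃* ((T : Subgroup G).map π) :=
    MulEquiv.ofBijective (π.subgroupMap (T : Subgroup G)) ⟨hinj, π.subgroupMap_surjective _⟩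
  let e' : ((T : Subgroup G).map π) ≃* QuaternionGroup (2 ^ n) := eT.symm.trans e
  have h8n : 8 ≤ 2 ^ n := by
    calc 8 = 2 ^ 3 := by norm_num
      _ ≤ 2 ^ n := Nat.pow_le_pow_right (by norm_num) hn
  obtain ⟨a₀, h8, hidx, hout⟩ := quat_like (2 ^ n) h8n e'
  set Qb := Cfsg.pCore 2 (G ⧸ O) with hQb
  haveI hQbn : Qb.Normal := pCore_normal 2 _
  have hQbT : Qb ≤ (T : Subgroup G).map π := by
    rw [← hTbcoe]; exact pCore_le_sylow Tb
  haveI : (Qb.subgroupOf ((T : Subgroup G).map π)).Normal := Subgroup.Normal.subgroupOf hQbn _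
  have hT2 : IsPGroup 2 ↥((T : Subgroup G).map π) := by
    rw [← hTbcoe]; exact Tb.isPGroup'
  have hAut' := aut_normal_sub hT2 a₀ h8 hidx hout (Qb.subgroupOf ((T : Subgroup G).map π))
  have eQ : ↥(Qb.subgroupOf ((T : Subgroup G).map π)) ≃* Qb := Subgroup.subgroupOfEquivOfLe hQbT
  have hAut : IsPGroup 2 (MulAut Qb) := hAut'.of_equiv (MulAut.congr eQ)
  have h2 := two_group_of_aut hObar hAut
  refine ⟨T, O, inferInstance, ?_⟩
  apply Subgroup.isComplement'_of_coprime
  · have hTbtop : (T : Subgroup G).map π = ⊤ := by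
      rw [← hTbcoe]
      exact (Tb.is_maximal' (h2.to_subgroup ⊤) le_top).symm
    have hcard : Nat.card (T : Subgroup G) = O.index := by
      rw [Nat.card_congr eT.toEquiv, hTbtop, Subgroup.card_top, Subgroup.index_eq_card]
    rw [hcard]; exact Subgroup.card_mul_index O
  · obtain ⟨k, hk⟩ := IsPGroup.iff_card.mp T.isPGroup'
    rw [hk]; exact Nat.Coprime.pow_right k hOcop

end Cfsg.Agent.S3294
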