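import Mathlib
import Cfsg.Statements.S3305
import Cfsg.Agent.Lib.Helper5_Sylow
import Cfsg.Agent.Lib.Helper5_Residual
import Cfsg.Agent.Lib.Helper5_WC

set_option autoImplicit false
open Cfsg

namespace Cfsg.Agent.S3305

open Cfsg.Agent.Lib.Helper5_Sylow Cfsg.Agent.Lib.Helper5_Residual Cfsg.Agent.Lib.Helper5_WC
open Subgroup
open scoped Pointwise

variable {G : Type*} [Group G] [Finite G]

/-- step 4: a `2`-subgroup of `S ⊔ H` lies in an `H`-conjugate of `S` -/
theorem exists_conj_by_normal {p : ℕ} [Fact p.Prime] (S : Sylow p G) (H : Subgroup G) [H.Normal]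
    {R : Subgroup G} (hR : IsPGroup p R) (hRS : R ≤ (S : Subgroup G) ⊔ H) :
    ∃ h ∈ H, R ≤ cj h (S : Subgroup G) := by
  obtain ⟨k, hk, P, hP, _, hSP, hRP⟩ :=
    exists_conj_le_common_pgroup (le_sup_left : (S : Subgroup G) ≤ (S : Subgroup G) ⊔ H) hRS
      S.isPGroup' hR
  have hPS : P = (S : Subgroup G) := S.is_maximal' hP hSP
  rw [hPS] at hRP
  have h1 : R ≤ cj k⁻¹ (S : Subgroup G) := le_cj_inv hRP
  have hk' : k⁻¹ ∈ H ⊔ (S : Subgroup G) := by
    rw [sup_comm]; exact Subgroup.inv_mem _ hk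
  have h3 : k⁻¹ ∈ (H : Set G) * ((S : Subgroup G) : Set G) := by
    rw [← Subgroup.normal_mul]; exact hk'
  obtain ⟨h, hh, s, hs, hhs⟩ := Set.mem_mul.mp h3
  refine ⟨h, hh, ?_⟩
  rw [← hhs, ← cj_cj, cj_eq_of_mem_normalizer (le_normalizer hs)] at h1
  exact h1

theorem map_cj_of_mem {H : Subgroup G} [H.Normal] {h : G} (hh : h ∈ H) (W : Subgroup G) :
    (cj h W).map (QuotientGroup.mk' H) = W.map (QuotientGroup.mk' H) := by
  have h1 : (h : G ⧸ H) = 1 := (QuotientGroup.eq_one_iff h).mpr hh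
  ext y
  constructor
  · rintro ⟨_, ⟨q, hq, rfl⟩, rfl⟩
    refine ⟨q, hq, ?_⟩
    simp [h1]
  · rintro ⟨q, hq, rfl⟩
    refine ⟨h * q * h⁻¹, ⟨q, hq, rfl⟩, ?_⟩
    simp [h1]

/-- If any two distinct Sylow 2-subgroups of the finite group G intersect in a cyclic group, then the same holds in every quotient group G/H, H a normal subgroup of G. -/
theorem result {G : Type*} [Group G] [Finite G]
    (hC : ∀ S T : Sylow 2 G, S ≠ T → IsCyclic ↥((S : Subgroup G) ⊓ (T : Subgroup G))) (H : Subgroup G) [H.Normal] :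
    ∀ S T : Sylow 2 (G ⧸ H), S ≠ T → IsCyclic ↥((S : Subgroup (G ⧸ H)) ⊓ (T : Subgroup (G ⧸ H))) := by
  haveI : Fact (Nat.Prime 2) := ⟨Nat.prime_two⟩
  intro Sb Tb hne
  set π := QuotientGroup.mk' H with hπ
  have hsurj : Function.Surjective π := QuotientGroup.mk'_surjective H
  obtain ⟨S, hS⟩ := Sylow.mapSurjective_surjective hsurj 2 Sb
  obtain ⟨T, hT⟩ := Sylow.mapSurjective_surjective hsurj 2 Tb
  have hS' : (S : Subgroup G).map π = (Sb : Subgroup (G ⧸ H)) := by
    rw [← hS]; rfl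
  have hT' : (T : Subgroup G).map π = (Tb : Subgroup (G ⧸ H)) := by
    rw [← hT]; rfl
  set Db := (Sb : Subgroup (G ⧸ H)) ⊓ (Tb : Subgroup (G ⧸ H)) with hDb
  set X := Db.comap π with hX
  have hXmap : X.map π = Db := Subgroup.map_comap_eq_self_of_surjective hsurj Db
  have hHX : H ≤ X := by
    intro h hh
    rw [hX, Subgroup.mem_comap]
    have : π h = 1 := (QuotientGroup.eq_one_iff h).mpr hh
    rw [this]; exact Subgroup.one_mem _
  have hXS : X ≤ (S : Subgroup G) ⊔ H := by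
    have : X ≤ ((S : Subgroup G).map π).comap π := by
      rw [hS']; exact Subgroup.comap_mono inf_le_left
    rwa [Subgroup.comap_map_eq, QuotientGroup.ker_mk'] at this
  have hXT : X ≤ (T : Subgroup G) ⊔ H := by
    have : X ≤ ((T : Subgroup G).map π).comap π := by
      rw [hT']; exact Subgroup.comap_mono inf_le_right
    rwa [Subgroup.comap_map_eq, QuotientGroup.ker_mk'] at this
  -- Sylow of `X`
  obtain ⟨R⟩ : Nonempty (Sylow 2 ↥X) := inferInstance
  set R' := (R : Subgroup ↥X).map X.subtype with hR'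
  have hR'p : IsPGroup 2 R' := R.isPGroup'.map _
  have hR'X : R' ≤ X := Subgroup.map_subtype_le _
  -- `Db = R'.map π`
  have hDbp : IsPGroup 2 Db := Sb.isPGroup'.to_le inf_le_left
  have hK : IsPGroup 2 (↥X ⧸ H.subgroupOf X) := by
    apply isPGroup_quotient_of_coprime_mem
    intro g hg
    rw [mem_subgroupOf]
    have h1 : π (g : G) ∈ Db := by
      rw [← hXmap]; exact ⟨g, g.2, rfl⟩
    obtain ⟨k, hk⟩ := hDbp ⟨π (g : G), h1⟩
    have hk' : (π (g : G)) ^ (2 ^ k) = 1 := by
      have := congrArg Subtype.val hk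
      simpa using this
    have h2 : orderOf (π (g : G)) ∣ 2 ^ k := orderOf_dvd_of_pow_eq_one hk'
    have h3 : orderOf (π (g : G)) ∣ orderOf (g : G) := orderOf_map_dvd π _
    have h4 : orderOf (g : G) = orderOf g := Subgroup.orderOf_coe g
    rw [h4] at h3
    have h5 : orderOf (π (g : G)) = 1 := by
      have hcop : Nat.Coprime (orderOf (π (g : G))) (2 ^ k) :=
        Nat.Coprime.coprime_dvd_left h3 (Nat.Coprime.pow_right k hg)
      exact Nat.eq_one_of_dvd_coprimes hcop (dvd_refl _) h2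
    rw [orderOf_eq_one_iff] at h5
    exact (QuotientGroup.eq_one_iff _).mp h5
  have htop : (R : Subgroup ↥X) ⊔ H.subgroupOf X = ⊤ :=
    sup_eq_top_of_index_coprime 2 _ _ R.not_dvd_index hK
  have hDbR : Db = R'.map π := by
    apply le_antisymm
    · intro y hy
      rw [← hXmap] at hy
      obtain ⟨x, hx, rfl⟩ := hy
      have h1 : (⟨x, hx⟩ : ↥X) ∈ (R : Subgroup ↥X) ⊔ H.subgroupOf X := by rw [htop]; trivial
      have h2 : (⟨x, hx⟩ : ↥X) ∈ ((R : Subgroup ↥X) : Set ↥X) * (H.subgroupOf X : Set ↥X) := by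
        rw [← Subgroup.mul_normal]; exact h1
      obtain ⟨r, hr, k, hk, hrk⟩ := Set.mem_mul.mp h2
      refine ⟨(r : G), ⟨r, hr, rfl⟩, ?_⟩
      have h3 : x = (r : G) * (k : G) := by
        have := congrArg Subtype.val hrk
        simpa using this.symm
      have h4 : π (k : G) = 1 := (QuotientGroup.eq_one_iff _).mpr (mem_subgroupOf.mp hk)
      rw [h3, map_mul, h4, mul_one]
    · rw [← hXmap]; exact Subgroup.map_mono hR'X
  -- conjugates of `S`, `T` containing `R'`
  obtain ⟨h, hh, hRS⟩ := exists_conj_by_normal S H hR'p (hR'X.trans hXS)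
  obtain ⟨h', hh', hRT⟩ := exists_conj_by_normal T H hR'p (hR'X.trans hXT)
  have hne' : h • S ≠ h' • T := by
    intro heq
    apply hne
    apply Sylow.ext
    have h1 : ((h • S : Sylow 2 G) : Subgroup G).map π = ((h' • T : Sylow 2 G) : Subgroup G).map π := by
      rw [heq]
    have e1 : ((h • S : Sylow 2 G) : Subgroup G) = cj h (S : Subgroup G) := rfl
    have e2 : ((h' • T : Sylow 2 G) : Subgroup G) = cj h' (T : Subgroup G) := rfl
    rw [e1, e2, map_cj_of_mem hh, map_cj_of_mem hh', hS', hT'] at h1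
    exact h1
  have hcyc := hC (h • S) (h' • T) hne'
  have hle : R' ≤ ((h • S : Sylow 2 G) : Subgroup G) ⊓ ((h' • T : Sylow 2 G) : Subgroup G) :=
    le_inf hRS hRT
  haveI : IsCyclic ↥R' :=
    isCyclic_of_injective (Subgroup.inclusion hle) (Subgroup.inclusion_injective hle)
  rw [hDbR]
  exact isCyclic_of_surjective (π.subgroupMap R') (π.subgroupMap_surjective R')

end Cfsg.Agent.S3305
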