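import Cfsg.Statements.S3309
import Mathlib
import Cfsg.Agent.S2911

set_option autoImplicit false
open Cfsg

namespace Cfsg.Agent.S3309

/-- No non-abelian finite simple group has Sylow 2-subgroups isomorphic to the direct product Z2 × D8 of a group of order 2 and a dihedral group of order 8. -/
theorem result {G : Type*} [Group G] [Finite G] (S : Sylow 2 G) (hS : Nonempty (↥(S : Subgroup G) ≃* Multiplicative (ZMod 2) × DihedralGroup 4))
    [IsSimpleGroup G] (hG : ¬ IsMulCommutative G) : False := by
  obtain ⟨H, hH⟩ := Cfsg.Agent.S2911.result S hS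
  haveI hHn : H.Normal := Subgroup.normal_of_index_eq_two hH
  rcases hHn.eq_bot_or_eq_top with h | h
  · rw [h, Subgroup.index_bot] at hH
    apply hG
    have hc : IsCyclic G := isCyclic_of_prime_card (p := 2) hH
    obtain ⟨g, hg⟩ := hc.exists_generator
    refine ⟨⟨fun a b => ?_⟩⟩
    obtain ⟨i, rfl⟩ := hg a
    obtain ⟨j, rfl⟩ := hg b
    exact ((Commute.refl g).zpow_zpow i j).eq
  · rw [h, Subgroup.index_top] at hH
    omega

end Cfsg.Agent.S3309
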