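import Mathlib
import Cfsg.Statements.S3349

set_option autoImplicit false
open Cfsg

namespace Cfsg.Agent.S3349

open scoped commutatorElement

/-- A maximal abelian subgroup contains every element centralizing it. -/
theorem mem_of_centralizes {Q : Type*} [Group Q] (A : Subgroup Q) (hA : IsMulCommutative A)
    (hmax : ∀ B : Subgroup Q, A ≤ B → IsMulCommutative B → B = A) (x : Q)
    (hx : ∀ a ∈ A, x * a = a * x) : x ∈ A := by
  have hcomm : ∀ u ∈ ((A : Set Q) ∪ {x}), ∀ w ∈ ((A : Set Q) ∪ {x}), u * w = w * u := by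
    intro u hu w hw
    rcases hu with hu | hu <;> rcases hw with hw | hw
    · exact setLike_mul_comm hu hw
    · rw [Set.mem_singleton_iff] at hw; subst hw; exact (hx u hu).symm
    · rw [Set.mem_singleton_iff] at hu; subst hu; exact hx w hw
    · rw [Set.mem_singleton_iff] at hu hw; subst hu; subst hw; rfl
  have hB := Subgroup.isMulCommutative_closure hcomm
  have hle : A ≤ Subgroup.closure ((A : Set Q) ∪ {x}) := by
    intro a ha
    exact Subgroup.subset_closure (Or.inl ha)
  have := hmax _ hle hB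
  rw [← this]
  exact Subgroup.subset_closure (Or.inr rfl)

/-- Let Q be a finite extraspecial p-group and α an automorphism of Q fixing every element of some maximal abelian subgroup of Q. Then the order of α is a power of p. -/
theorem result {Q : Type*} [Group Q] [Finite Q]
    (p : ℕ) [Fact p.Prime] (hQ : Cfsg.IsExtraspecial p Q) (α : MulAut Q)
    (A : Subgroup Q) (hA : IsMulCommutative A) (hmax : ∀ B : Subgroup Q, A ≤ B → IsMulCommutative B → B = A)
    (hfix : ∀ a ∈ A, α a = a) :
    ∃ k : ℕ, orderOf α = p ^ k := by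
  have hp : IsPGroup p Q := hQ.1.1
  have hcomm : commutator Q = Subgroup.center Q := hQ.1.2.2
  have hZA : Subgroup.center Q ≤ A := by
    intro z hz
    apply mem_of_centralizes A hA hmax
    intro a _
    exact (Subgroup.mem_center_iff.mp hz a).symm
  -- commutators lie in A
  have hcA : ∀ x a : Q, x * a * x⁻¹ * a⁻¹ ∈ A := by
    intro x a
    apply hZA
    rw [← hcomm, commutator_def]
    have : x * a * x⁻¹ * a⁻¹ = ⁅x, a⁆ := by rw [commutatorElement_def]
    rw [this]
    exact Subgroup.commutator_mem_commutator (Subgroup.mem_top x) (Subgroup.mem_top a)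
  have hc : ∀ x : Q, x⁻¹ * α x ∈ A := by
    intro x
    apply mem_of_centralizes A hA hmax
    intro a ha
    have h1 := hfix _ (hcA x a)
    simp only [map_mul, map_inv, hfix a ha] at h1
    -- h1 : α x * a * (α x)⁻¹ * a⁻¹ = x * a * x⁻¹ * a⁻¹
    have h2 : α x * a * (α x)⁻¹ = x * a * x⁻¹ := mul_right_cancel h1
    calc x⁻¹ * α x * a = x⁻¹ * (α x * a * (α x)⁻¹) * α x := by group
      _ = x⁻¹ * (x * a * x⁻¹) * α x := by rw [h2]
      _ = a * (x⁻¹ * α x) := by group
  have hpow : ∀ (n : ℕ) (x : Q), (α ^ n) x = x * (x⁻¹ * α x) ^ n := by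
    intro n
    induction n with
    | zero => intro x; simp
    | succ n ih =>
      intro x
      rw [pow_succ', MulAut.mul_apply, ih x, map_mul, map_pow, hfix _ (hc x), pow_succ',
        ← mul_assoc, ← mul_assoc, mul_inv_cancel, one_mul]
  obtain ⟨k, hk⟩ := (IsPGroup.iff_card.mp (hp.to_subgroup A))
  have hαn : α ^ (p ^ k) = 1 := by
    ext x
    rw [hpow, MulAut.one_apply]
    have : (x⁻¹ * α x) ^ (p ^ k) = 1 := by
      have h1 : (⟨x⁻¹ * α x, hc x⟩ : A) ^ Nat.card A = 1 := pow_card_eq_one'
      rw [hk] at h1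
      have h2 := congrArg Subtype.val h1
      rw [Subgroup.coe_pow, Subgroup.coe_one] at h2
      exact h2
    rw [this, mul_one]
  have hdvd : orderOf α ∣ p ^ k := orderOf_dvd_of_pow_eq_one hαn
  obtain ⟨j, _, hj⟩ := (Nat.dvd_prime_pow Fact.out).mp hdvd
  exact ⟨j, hj⟩

end Cfsg.Agent.S3349
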