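import Cfsg.Statements.S3362
import Mathlib
import Cfsg.Agent.Lib.Helper9_M11
import Cfsg.Agent.Lib.Helper9_M12gen

set_option autoImplicit false

open Cfsg

namespace Cfsg.Agent.S3362

open Equiv
open Cfsg.Agent.Lib.Helper9_M12gen.Helper9G

abbrev P := Equiv.Perm (Fin 12)

def gs : P := Equiv.swap (3 : Fin 12) 5 * Equiv.swap (3 : Fin 12) 4 * Equiv.swap (6 : Fin 12) 8 * Equiv.swap (6 : Fin 12) 7 * Equiv.swap (9 : Fin 12) 11 * Equiv.swap (9 : Fin 12) 10
def gt : P := Equiv.swap (3 : Fin 12) 9 * Equiv.swap (3 : Fin 12) 6 * Equiv.swap (4 : Fin 12) 10 * Equiv.swap (4 : Fin 12) 7 * Equiv.swap (5 : Fin 12) 11 * Equiv.swap (5 : Fin 12) 8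
def gu : P := Equiv.swap (4 : Fin 12) 9 * Equiv.swap (4 : Fin 12) 5 * Equiv.swap (4 : Fin 12) 6 * Equiv.swap (7 : Fin 12) 10 * Equiv.swap (7 : Fin 12) 11 * Equiv.swap (7 : Fin 12) 8
def gv : P := Equiv.swap (4 : Fin 12) 11 * Equiv.swap (4 : Fin 12) 5 * Equiv.swap (4 : Fin 12) 7 * Equiv.swap (6 : Fin 12) 8 * Equiv.swap (6 : Fin 12) 9 * Equiv.swap (6 : Fin 12) 10
def gw : P := Equiv.swap (4 : Fin 12) 8 * Equiv.swap (4 : Fin 12) 5 * Equiv.swap (4 : Fin 12) 10 * Equiv.swap (6 : Fin 12) 7 * Equiv.swap (6 : Fin 12) 9 * Equiv.swap (6 : Fin 12) 11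
def gx1 : P := Equiv.swap (0 : Fin 12) 3 * Equiv.swap (6 : Fin 12) 7 * Equiv.swap (8 : Fin 12) 10 * Equiv.swap (9 : Fin 12) 11
def gx2 : P := Equiv.swap (0 : Fin 12) 1 * Equiv.swap (6 : Fin 12) 9 * Equiv.swap (7 : Fin 12) 10 * Equiv.swap (8 : Fin 12) 11
def gx3 : P := Equiv.swap (1 : Fin 12) 2 * Equiv.swap (6 : Fin 12) 11 * Equiv.swap (7 : Fin 12) 9 * Equiv.swap (8 : Fin 12) 10

def L3 : List P := [gu, gv, gw]
def L5 : List P := gs :: gt :: L3
def L6 : List P := L5 ++ [gx1]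
def L7 : List P := L6 ++ [gx2]
def L8 : List P := L7 ++ [gx3]

def Q8l : List P := [1, gu, gu * gu, gu * gu * gu, gv, gu * gu * gv, gw, gu * gu * gw]
def Nl : List P :=
  [1, gs, gs * gs, gt, gs * gt, gs * gs * gt, gt * gt, gs * gt * gt, gs * gs * gt * gt]

def Q8 : Subgroup P := Subgroup.closure {z | z ∈ L3}
def M9 : Subgroup P := Subgroup.closure {z | z ∈ L5}
def M10 : Subgroup P := Subgroup.closure {z | z ∈ L6}
def M11 : Subgroup P := Subgroup.closure {z | z ∈ L7}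
def M12 : Subgroup P := Subgroup.closure {z | z ∈ L8}

/-! computational facts (Boolean form for fast kernel evaluation) -/
def tab (f : P) : List (Fin 12) := List.ofFn f
def beq (f g : P) : Bool := decide (tab f = tab g)
def memb (f : P) (L : List P) : Bool := L.any (fun g => beq f g)

theorem beq_iff {f g : P} : beq f g = true ↔ f = g := by
  unfold beq tab
  rw [decide_eq_true_iff]
  constructor
  · intro h
    exact DFunLike.coe_injective (List.ofFn_injective h)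
  · rintro rfl; rfl

theorem memb_iff {f : P} {L : List P} : memb f L = true ↔ f ∈ L := by
  unfold memb
  rw [List.any_eq_true]
  constructor
  · rintro ⟨g, hg, h⟩; rw [beq_iff.mp h]; exact hg
  · intro h; exact ⟨f, h, beq_iff.mpr rfl⟩

theorem q1b : (L3.all fun g => Q8l.all fun a => memb (g * a) Q8l) = true := by decide +kernel
theorem q2b : (Q8l.all fun a => if a 4 = 4 then beq a 1 else true) = true := by decide +kernel
theorem n1b : ([gs, gt].all fun g => Nl.all fun n => memb (g * n) Nl) = true := by decide +kernel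
theorem n2b : (L3.all fun g => Nl.all fun n => Nl.any fun n' => beq (g * n) (n' * g)) = true := by
  decide +kernel
theorem n3b : (Nl.all fun n => if n 3 = 3 then beq n 1 else true) = true := by decide +kernel
theorem n4b : (Nl.all fun n => beq n 1 || Q8l.any fun a => beq (n * a) (a * gs)) = true := by
  decide +kernel
theorem c1b : (L3.all fun g => memb (gx1 * g * gx1) Q8l) = true := by decide +kernel
theorem c2b : (L5.all fun g => Nl.any fun n => Q8l.any fun a => beq (gx2 * g * gx2) (n * a)) = true := by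
  decide +kernel
theorem c3b : (L5.all fun g => Nl.any fun n => Q8l.any fun a => beq (gx3 * g * gx3) (n * a)) = true := by
  decide +kernel
theorem f3b : (L3.all fun g => ([3, 0, 1, 2] : List (Fin 12)).all fun p => decide (g p = p)) = true := by
  decide +kernel
theorem f5b : (L5.all fun g => ([0, 1, 2] : List (Fin 12)).all fun p => decide (g p = p)) = true := by
  decide +kernel
theorem f6b : (L6.all fun g => ([1, 2] : List (Fin 12)).all fun p => decide (g p = p)) = true := by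
  decide +kernel
theorem f7b : (L7.all fun g => ([2] : List (Fin 12)).all fun p => decide (g p = p)) = true := by
  decide +kernel

theorem q1 : ∀ g ∈ L3, ∀ a ∈ Q8l, g * a ∈ Q8l := by
  intro g hg a ha
  exact memb_iff.mp (List.all_eq_true.mp (List.all_eq_true.mp q1b g hg) a ha)
theorem q2 : ∀ a ∈ Q8l, a 4 = 4 → a = 1 := by
  intro a ha h4
  have h : (if a 4 = 4 then beq a 1 else true) = true := List.all_eq_true.mp q2b a ha
  rw [if_pos h4] at h
  exact beq_iff.mp h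
theorem q4 : ∀ p : Fin 12, p ∈ [3, 0, 1, 2] ∨ ∃ g ∈ Q8l, g 4 = p := by decide +kernel
theorem n1 : ∀ g ∈ [gs, gt], ∀ n ∈ Nl, g * n ∈ Nl := by
  intro g hg a ha
  exact memb_iff.mp (List.all_eq_true.mp (List.all_eq_true.mp n1b g hg) a ha)
theorem n2 : ∀ g ∈ L3, ∀ n ∈ Nl, ∃ n' ∈ Nl, g * n = n' * g := by
  intro g hg n hn
  obtain ⟨n', hn', e⟩ :=
    List.any_eq_true.mp (List.all_eq_true.mp (List.all_eq_true.mp n2b g hg) n hn)
  exact ⟨n', hn', beq_iff.mp e⟩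
theorem n3 : ∀ n ∈ Nl, n 3 = 3 → n = 1 := by
  intro a ha h4
  have h : (if a 3 = 3 then beq a 1 else true) = true := List.all_eq_true.mp n3b a ha
  rw [if_pos h4] at h
  exact beq_iff.mp h
theorem n4 : ∀ n ∈ Nl, n = 1 ∨ ∃ a ∈ Q8l, n * a = a * gs := by
  intro n hn
  have h : (beq n 1 || Q8l.any fun a => beq (n * a) (a * gs)) = true :=
    List.all_eq_true.mp n4b n hn
  rcases Bool.or_eq_true_iff.mp h with h | h
  · exact Or.inl (beq_iff.mp h)
  · obtain ⟨a, ha, e⟩ := List.any_eq_true.mp h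
    exact Or.inr ⟨a, ha, beq_iff.mp e⟩
theorem c1 : ∀ g ∈ L3, gx1 * g * gx1 ∈ Q8l := by
  intro g hg
  exact memb_iff.mp (List.all_eq_true.mp c1b g hg)
theorem c2 : ∀ g ∈ L5, ∃ n ∈ Nl, ∃ a ∈ Q8l, gx2 * g * gx2 = n * a := by
  intro g hg
  obtain ⟨n, hn, h⟩ := List.any_eq_true.mp (List.all_eq_true.mp c2b g hg)
  obtain ⟨a, ha, e⟩ := List.any_eq_true.mp h
  exact ⟨n, hn, a, ha, beq_iff.mp e⟩
theorem c3 : ∀ g ∈ L5, ∃ n ∈ Nl, ∃ a ∈ Q8l, gx3 * g * gx3 = n * a := by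
  intro g hg
  obtain ⟨n, hn, h⟩ := List.any_eq_true.mp (List.all_eq_true.mp c3b g hg)
  obtain ⟨a, ha, e⟩ := List.any_eq_true.mp h
  exact ⟨n, hn, a, ha, beq_iff.mp e⟩
theorem f3 : ∀ g ∈ L3, ∀ p ∈ [3, 0, 1, 2], g p = p := by
  intro g hg p hp
  exact of_decide_eq_true (List.all_eq_true.mp (List.all_eq_true.mp f3b g hg) p hp)
theorem f5 : ∀ g ∈ L5, ∀ p ∈ [0, 1, 2], g p = p := by
  intro g hg p hp
  exact of_decide_eq_true (List.all_eq_true.mp (List.all_eq_true.mp f5b g hg) p hp)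
theorem f6 : ∀ g ∈ L6, ∀ p ∈ [1, 2], g p = p := by
  intro g hg p hp
  exact of_decide_eq_true (List.all_eq_true.mp (List.all_eq_true.mp f6b g hg) p hp)
theorem f7 : ∀ g ∈ L7, ∀ p ∈ [2], g p = p := by
  intro g hg p hp
  exact of_decide_eq_true (List.all_eq_true.mp (List.all_eq_true.mp f7b g hg) p hp)

theorem c3' : gx3 * gx1 * gx3 = gx1 := by decide +kernel
theorem r1 : gx1 * gs * gx1 = (gs * gu * gv) * gx1 * (gw * gs) := by decide +kernel
theorem r2 : gx2 * gx1 * gx2 = gx1 * gx2 * gx1 := by decide +kernel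
theorem r3 : gx3 * gx2 * gx3 = gx2 * gx3 * gx2 := by decide +kernel
theorem xx1 : gx1 * gx1 = 1 := by decide +kernel
theorem xx2 : gx2 * gx2 = 1 := by decide +kernel
theorem xx3 : gx3 * gx3 = 1 := by decide +kernel
theorem m1Q : (1 : P) ∈ Q8l := by decide +kernel
theorem m1N : (1 : P) ∈ Nl := by decide +kernel
theorem a1 : gs 3 = 4 := by decide +kernel
theorem a2 : gx1 0 = 3 := by decide +kernel
theorem a3 : gx2 1 = 0 := by decide +kernel
theorem a4 : gx3 2 = 1 := by decide +kernel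

/-! memberships and inclusions -/
theorem mem3 : ∀ g ∈ L3, g ∈ Q8 := fun _ hg => Subgroup.subset_closure hg
theorem mem5 : ∀ g ∈ L5, g ∈ M9 := fun _ hg => Subgroup.subset_closure hg
theorem mem6 : ∀ g ∈ L6, g ∈ M10 := fun _ hg => Subgroup.subset_closure hg
theorem mem7 : ∀ g ∈ L7, g ∈ M11 := fun _ hg => Subgroup.subset_closure hg
theorem mem8 : ∀ g ∈ L8, g ∈ M12 := fun _ hg => Subgroup.subset_closure hg

theorem Q8_le : Q8 ≤ M9 :=
  Subgroup.closure_mono (fun _ hz => List.mem_cons_of_mem _ (List.mem_cons_of_mem _ hz))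
theorem M9_le : M9 ≤ M10 := Subgroup.closure_mono (fun _ hz => List.mem_append_left _ hz)
theorem M10_le : M10 ≤ M11 := Subgroup.closure_mono (fun _ hz => List.mem_append_left _ hz)
theorem M11_le : M11 ≤ M12 := Subgroup.closure_mono (fun _ hz => List.mem_append_left _ hz)

theorem snoc10 : M10 = M9 ⊔ Subgroup.zpowers gx1 := closure_snoc L5 gx1
theorem snoc11 : M11 = M10 ⊔ Subgroup.zpowers gx2 := closure_snoc L6 gx2
theorem snoc12 : M12 = M11 ⊔ Subgroup.zpowers gx3 := closure_snoc L7 gx3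

theorem hu : gu ∈ Q8 := mem3 gu (by decide +kernel)
theorem hv : gv ∈ Q8 := mem3 gv (by decide +kernel)
theorem hw : gw ∈ Q8 := mem3 gw (by decide +kernel)
theorem hs9 : gs ∈ M9 := mem5 gs (by decide +kernel)
theorem ht9 : gt ∈ M9 := mem5 gt (by decide +kernel)
theorem hx1 : gx1 ∈ M10 := mem6 gx1 (by decide +kernel)
theorem hx2 : gx2 ∈ M11 := mem7 gx2 (by decide +kernel)
theorem hx3 : gx3 ∈ M12 := mem8 gx3 (by decide +kernel)

theorem Q8_sub : ∀ a ∈ Q8, a ∈ Q8l := by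
  intro a ha
  exact closure_sub {z | z ∈ L3} {a | a ∈ Q8l} m1Q (fun g hg l hl => q1 g hg l hl) a ha

theorem Q8l_sub : ∀ a ∈ Q8l, a ∈ Q8 := by
  intro a ha
  simp only [Q8l, List.mem_cons, List.not_mem_nil, or_false] at ha
  rcases ha with rfl | rfl | rfl | rfl | rfl | rfl | rfl | rfl
  · exact one_mem _
  · exact hu
  · exact mul_mem hu hu
  · exact mul_mem (mul_mem hu hu) hu
  · exact hv
  · exact mul_mem (mul_mem hu hu) hv
  · exact hw
  · exact mul_mem (mul_mem hu hu) hw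

theorem Nl_sub : ∀ a ∈ Nl, a ∈ M9 := by
  intro a ha
  simp only [Nl, List.mem_cons, List.not_mem_nil, or_false] at ha
  rcases ha with rfl | rfl | rfl | rfl | rfl | rfl | rfl | rfl | rfl
  · exact one_mem _
  · exact hs9
  · exact mul_mem hs9 hs9
  · exact ht9
  · exact mul_mem hs9 ht9
  · exact mul_mem (mul_mem hs9 hs9) ht9
  · exact mul_mem ht9 ht9
  · exact mul_mem (mul_mem hs9 ht9) ht9
  · exact mul_mem (mul_mem (mul_mem hs9 hs9) ht9) ht9

theorem fixQ8 : ∀ k ∈ Q8, ∀ p ∈ [3, 0, 1, 2], k p = p := fix_of_gens L3 _ f3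
theorem fix9 : ∀ k ∈ M9, ∀ p ∈ [0, 1, 2], k p = p := fix_of_gens L5 _ f5
theorem fix10 : ∀ k ∈ M10, ∀ p ∈ [1, 2], k p = p := fix_of_gens L6 _ f6
theorem fix11 : ∀ k ∈ M11, ∀ p ∈ [2], k p = p := fix_of_gens L7 _ f7

theorem M9_form : ∀ h ∈ M9, ∃ n ∈ Nl, ∃ a ∈ Q8, h = n * a := by
  intro h hh
  refine closure_sub {z | z ∈ L5} {h | ∃ n ∈ Nl, ∃ a ∈ Q8, h = n * a}
    ⟨1, m1N, 1, one_mem _, by rw [one_mul]⟩ ?_ h hh
  rintro g hg l ⟨n, hn, a, ha, rfl⟩
  have hg' : g ∈ [gs, gt] ∨ g ∈ L3 := by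
    have hg2 : g ∈ gs :: gt :: L3 := hg
    rw [List.mem_cons, List.mem_cons] at hg2
    rcases hg2 with h | h | h
    · exact Or.inl (by rw [h]; simp)
    · exact Or.inl (by rw [h]; simp)
    · exact Or.inr h
  rcases hg' with hg' | hg'
  · exact ⟨g * n, n1 g hg' n hn, a, ha, by rw [mul_assoc]⟩
  · obtain ⟨n', hn', e⟩ := n2 g hg' n hn
    exact ⟨n', hn', g * a, mul_mem (mem3 g hg') ha, by rw [← mul_assoc, e, mul_assoc]⟩

theorem ext9 : Ext Q8 M9 gs := by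
  refine ⟨Q8_le, hs9, ?_⟩
  intro h hh
  obtain ⟨n, hn, a, ha, rfl⟩ := M9_form h hh
  rcases n4 n hn with rfl | ⟨a₁, ha₁, e⟩
  · refine Or.inl ?_
    rw [one_mul]; exact ha
  · refine Or.inr ⟨a₁, Q8l_sub a₁ ha₁, a₁⁻¹ * a, mul_mem (inv_mem (Q8l_sub a₁ ha₁)) ha, ?_⟩
    rw [← e]
    simp only [mul_assoc, mul_inv_cancel_left]

theorem stab9 : ∀ k ∈ M9, k 3 = 3 → k ∈ Q8 := by
  intro k hk h3
  obtain ⟨n, hn, a, ha, rfl⟩ := M9_form k hk
  have ha3 : a 3 = 3 := fixQ8 a ha 3 (by simp)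
  rw [Equiv.Perm.mul_apply, ha3] at h3
  have e : n = 1 := n3 n hn h3
  rw [e, one_mul]; exact ha

theorem ext10 : Ext M9 M10 gx1 := by
  rw [snoc10]
  refine ext_step ext9 xx1 ?_ ⟨gs * gu * gv, ?_, gw * gs, ?_, r1⟩
  · exact norm_of_gens xx1 {z | z ∈ L3} Q8 (fun g hg => Q8l_sub _ (c1 g hg))
  · exact mul_mem (mul_mem hs9 (Q8_le hu)) (Q8_le hv)
  · exact mul_mem (Q8_le hw) hs9

theorem conj_mem9 (x : P) (h : ∀ g ∈ L5, ∃ n ∈ Nl, ∃ a ∈ Q8l, x * g * x = n * a) :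
    ∀ g ∈ L5, x * g * x ∈ M9 := by
  intro g hg
  obtain ⟨n, hn, a, ha, e⟩ := h g hg
  rw [e]; exact mul_mem (Nl_sub n hn) (Q8_le (Q8l_sub a ha))

theorem ext11 : Ext M10 M11 gx2 := by
  rw [snoc11]
  refine ext_step ext10 xx2 ?_ ⟨gx1, hx1, gx1, hx1, r2⟩
  exact norm_of_gens xx2 {z | z ∈ L5} M9 (fun g hg => conj_mem9 gx2 c2 g hg)

theorem ext12 : Ext M11 M12 gx3 := by
  rw [snoc12]
  refine ext_step ext11 xx3 ?_ ⟨gx2, hx2, gx2, hx2, r3⟩
  refine norm_of_gens xx3 {z | z ∈ L6} M10 (fun g hg => ?_)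
  rcases List.mem_append.mp hg with h | h
  · exact M9_le (conj_mem9 gx3 c3 g h)
  · rw [List.mem_singleton.mp h, c3']; exact hx1

theorem stab10 : ∀ k ∈ M10, k 0 = 0 → k ∈ M9 :=
  stab_of_ext ext10 (fun h hh => fix9 h hh 0 (by simp)) a2 (by decide)
theorem stab11 : ∀ k ∈ M11, k 1 = 1 → k ∈ M10 :=
  stab_of_ext ext11 (fun h hh => fix10 h hh 1 (by simp)) a3 (by decide)
theorem stab12 : ∀ k ∈ M12, k 2 = 2 → k ∈ M11 :=
  stab_of_ext ext12 (fun h hh => fix11 h hh 2 (by simp)) a4 (by decide)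

theorem transQ8 : Trans Q8 4 [3, 0, 1, 2] := by
  intro p hp
  rcases q4 p with h | ⟨g, hg, e⟩
  · exact (hp h).elim
  · exact ⟨g, Q8l_sub g hg, e⟩
theorem trans9 : Trans M9 3 [0, 1, 2] := trans_step Q8_le hs9 a1 transQ8
theorem trans10 : Trans M10 0 [1, 2] := trans_step M9_le hx1 a2 trans9
theorem trans11 : Trans M11 1 [2] := trans_step M10_le hx2 a3 trans10
theorem trans12 : Trans M12 2 [] := trans_step M11_le hx3 a4 trans11

theorem rQ8 : Reach Q8 [3, 0, 1, 2] [4] :=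
  reach_step (H := ⊥) bot_le transQ8 fixQ8
    (fun h hh => by rw [Subgroup.mem_bot.mp hh]; rfl) (reach_nil _ _)
theorem r9 : Reach M9 [0, 1, 2] [3, 4] :=
  reach_step Q8_le trans9 fix9 (fun h hh => fixQ8 h hh 3 (by simp)) rQ8
theorem r10 : Reach M10 [1, 2] [0, 3, 4] :=
  reach_step M9_le trans10 fix10 (fun h hh => fix9 h hh 0 (by simp)) r9
theorem r11 : Reach M11 [2] [1, 0, 3, 4] :=
  reach_step M10_le trans11 fix11 (fun h hh => fix10 h hh 1 (by simp)) r10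
theorem r12 : Reach M12 [] [2, 1, 0, 3, 4] :=
  reach_step M11_le trans12 (fun _ _ p hp => by simp at hp)
    (fun h hh => fix11 h hh 2 (by simp)) r11

def base : Fin 5 → Fin 12 := ![2, 1, 0, 3, 4]

theorem reach5 (z : Fin 5 ↪ Fin 12) : ∃ g ∈ M12, ∀ i, g (base i) = z i := by
  obtain ⟨g, hg, e⟩ := r12 (([0, 1, 2, 3, 4] : List (Fin 5)).map z)
    (List.Nodup.map z.injective (by decide)) (by simp) (by simp)
  refine ⟨g, hg, ?_⟩
  simp only [List.map_cons, List.map_nil, List.cons.injEq, and_true] at e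
  obtain ⟨e0, e1, e2, e3, e4⟩ := e
  intro i
  fin_cases i
  · exact e0
  · exact e1
  · exact e2
  · exact e3
  · exact e4

theorem main_trans : MulAction.IsMultiplyPretransitive M12 (Fin 12) 5 := by
  refine ⟨fun z z' => ?_⟩
  obtain ⟨g, hg, e⟩ := reach5 z
  obtain ⟨g', hg', e'⟩ := reach5 z'
  refine ⟨⟨g' * g⁻¹, mul_mem hg' (inv_mem hg)⟩, ?_⟩
  apply Function.Embedding.ext
  intro i
  show (g' * g⁻¹) (z i) = z' i
  rw [← e i, Equiv.Perm.mul_apply, inv_app, e' i]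

theorem main_sharp (y : Fin 5 ↪ Fin 12) : MulAction.stabilizer M12 y = ⊥ := by
  rw [Subgroup.eq_bot_iff_forall]
  rintro ⟨g, hg⟩ hfix
  rw [MulAction.mem_stabilizer_iff] at hfix
  have hfix' : ∀ i, g (y i) = y i := fun i => DFunLike.congr_fun hfix i
  obtain ⟨k, hk, e⟩ := reach5 y
  have hc : ∀ i, (k⁻¹ * g * k) (base i) = base i := by
    intro i
    rw [Equiv.Perm.mul_apply, Equiv.Perm.mul_apply, e i, hfix' i, ← e i, inv_app]
  have hcM : k⁻¹ * g * k ∈ M12 := mul_mem (mul_mem (inv_mem hk) hg) hk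
  have h11 := stab12 _ hcM (hc 0)
  have h10 := stab11 _ h11 (hc 1)
  have h9 := stab10 _ h10 (hc 2)
  have h8 := stab9 _ h9 (hc 3)
  have h1 : k⁻¹ * g * k = 1 := q2 _ (Q8_sub _ h8) (hc 4)
  have hg1 : g = 1 := by
    calc g = k * (k⁻¹ * g * k) * k⁻¹ := by group
      _ = 1 := by rw [h1]; group
  exact Subtype.ext hg1

theorem card12 : Nat.card M12 = 95040 := by
  have := main_trans
  have x : Fin 5 ↪ Fin 12 := ⟨base, by decide⟩
  have h1 := Cfsg.Agent.Lib.Helper9_M11.Helper9M.card_sharp_gen (H := M12) (β := Fin 12) 5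
    main_sharp x
  rw [Nat.card_eq_fintype_card (α := Fin 5 ↪ Fin 12), Fintype.card_embedding_eq,
    Fintype.card_fin, Fintype.card_fin] at h1
  rw [h1]
  rfl

theorem card11 : Nat.card M11 = 7920 := by
  have : MulAction.IsPretransitive M12 (Fin 12) := by
    refine ⟨fun a b => ?_⟩
    obtain ⟨g, hg, e⟩ := trans12 a (by simp)
    obtain ⟨g', hg', e'⟩ := trans12 b (by simp)
    refine ⟨⟨g' * g⁻¹, mul_mem hg' (inv_mem hg)⟩, ?_⟩
    show (g' * g⁻¹) a = b
    rw [← e, Equiv.Perm.mul_apply, inv_app, e']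
  have h1 : (MulAction.stabilizer M12 (2 : Fin 12)).index = Nat.card (Fin 12) :=
    MulAction.index_stabilizer_of_transitive M12 (2 : Fin 12)
  have h2 := Subgroup.card_mul_index (MulAction.stabilizer M12 (2 : Fin 12))
  have hmap : (MulAction.stabilizer M12 (2 : Fin 12)).map M12.subtype = M11 := by
    ext k
    rw [Subgroup.mem_map]
    constructor
    · rintro ⟨⟨k', hk'⟩, hfix, rfl⟩
      exact stab12 k' hk' (MulAction.mem_stabilizer_iff.mp hfix)
    · intro hk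
      exact ⟨⟨k, M11_le hk⟩, MulAction.mem_stabilizer_iff.mpr (fix11 k hk 2 (by simp)), rfl⟩
  have hc : Nat.card M11 = Nat.card (MulAction.stabilizer M12 (2 : Fin 12)) := by
    rw [← hmap]
    exact Subgroup.card_map_of_injective M12.subtype_injective
  rw [h1, card12, Nat.card_eq_fintype_card (α := Fin 12), Fintype.card_fin] at h2
  omega

theorem eq11 : M11 = M12 ⊓ MulAction.stabilizer (Equiv.Perm (Fin 12)) (2 : Fin 12) := by
  ext k
  rw [Subgroup.mem_inf, MulAction.mem_stabilizer_iff]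
  constructor
  · intro hk; exact ⟨M11_le hk, fix11 k hk 2 (by simp)⟩
  · rintro ⟨hk, h2⟩; exact stab12 k hk h2

theorem e8 : ({gs, gt, gu, gv, gw, gx1, gx2, gx3} : Set P) = {z | z ∈ L8} := by
  ext z
  simp [L8, L7, L6, L5, L3]

theorem e7 : ({gs, gt, gu, gv, gw, gx1, gx2} : Set P) = {z | z ∈ L7} := by
  ext z
  simp [L7, L6, L5, L3]

theorem main :
    MulAction.IsMultiplyPretransitive
      (Subgroup.closure ({gs, gt, gu, gv, gw, gx1, gx2, gx3} : Set P)) (Fin 12) 5 ∧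
    (∀ y : Fin 5 ↪ Fin 12,
      MulAction.stabilizer (Subgroup.closure ({gs, gt, gu, gv, gw, gx1, gx2, gx3} : Set P)) y = ⊥) ∧
    Nat.card (Subgroup.closure ({gs, gt, gu, gv, gw, gx1, gx2, gx3} : Set P)) = 95040 ∧
    Nat.card (Subgroup.closure ({gs, gt, gu, gv, gw, gx1, gx2} : Set P)) = 7920 ∧
    Subgroup.closure ({gs, gt, gu, gv, gw, gx1, gx2} : Set P)
      = Subgroup.closure ({gs, gt, gu, gv, gw, gx1, gx2, gx3} : Set P) ⊓
        MulAction.stabilizer (Equiv.Perm (Fin 12)) (2 : Fin 12) := by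
  rw [e8, e7]
  exact ⟨main_trans, main_sharp, card12, card11, eq11⟩

/-- An explicit construction of the Mathieu groups of degrees 11 and 12. On the points 0, …, 11 let s = (3 4 5)(6 7 8)(9 10 11), t = (3 6 9)(4 7 10)(5 8 11), u = (4 6 5 9)(7 8 11 10), v = (4 7 5 11)(6 10 9 8), w = (4 10 5 8)(6 11 9 7), x₁ = (0 3)(6 7)(8 10)(9 11), x₂ = (0 1)(6 9)(7 10)(8 11), x₃ = (1 2)(6 11)(7 9)(8 10) (each written as a product of transpositions). Then the group M₁₂ generated by all eight permutations is sharply 5-transitive on the 12 points and has order 95040, and the group M₁₁ generated by the first seven has order 7920 and is the stabilizer of the point 2 in M₁₂. -/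
theorem result
    (s t u v w x₁ x₂ x₃ : Equiv.Perm (Fin 12))
    (hs : s = Equiv.swap (3 : Fin 12) 5 * Equiv.swap (3 : Fin 12) 4 * Equiv.swap (6 : Fin 12) 8 * Equiv.swap (6 : Fin 12) 7 * Equiv.swap (9 : Fin 12) 11 * Equiv.swap (9 : Fin 12) 10) (ht : t = Equiv.swap (3 : Fin 12) 9 * Equiv.swap (3 : Fin 12) 6 * Equiv.swap (4 : Fin 12) 10 * Equiv.swap (4 : Fin 12) 7 * Equiv.swap (5 : Fin 12) 11 * Equiv.swap (5 : Fin 12) 8)
    (hu : u = Equiv.swap (4 : Fin 12) 9 * Equiv.swap (4 : Fin 12) 5 * Equiv.swap (4 : Fin 12) 6 * Equiv.swap (7 : Fin 12) 10 * Equiv.swap (7 : Fin 12) 11 * Equiv.swap (7 : Fin 12) 8) (hv : v = Equiv.swap (4 : Fin 12) 11 * Equiv.swap (4 : Fin 12) 5 * Equiv.swap (4 : Fin 12) 7 * Equiv.swap (6 : Fin 12) 8 * Equiv.swap (6 : Fin 12) 9 * Equiv.swap (6 : Fin 12) 10) (hw : w = Equiv.swap (4 : Fin 12) 8 * Equiv.swap (4 : Fin 12) 5 * Equiv.swap (4 : Fin 12) 10 * Equiv.swap (6 : Fin 12) 7 * Equiv.swap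 (6 : Fin 12) 9 * Equiv.swap (6 : Fin 12) 11)
    (hx₁ : x₁ = Equiv.swap (0 : Fin 12) 3 * Equiv.swap (6 : Fin 12) 7 * Equiv.swap (8 : Fin 12) 10 * Equiv.swap (9 : Fin 12) 11) (hx₂ : x₂ = Equiv.swap (0 : Fin 12) 1 * Equiv.swap (6 : Fin 12) 9 * Equiv.swap (7 : Fin 12) 10 * Equiv.swap (8 : Fin 12) 11)
    (hx₃ : x₃ = Equiv.swap (1 : Fin 12) 2 * Equiv.swap (6 : Fin 12) 11 * Equiv.swap (7 : Fin 12) 9 * Equiv.swap (8 : Fin 12) 10)
    (M₁₂ M₁₁ : Subgroup (Equiv.Perm (Fin 12))) (hM₁₂ : M₁₂ = Subgroup.closure {s, t, u, v, w, x₁, x₂, x₃})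
    (hM₁₁ : M₁₁ = Subgroup.closure {s, t, u, v, w, x₁, x₂}) :
    MulAction.IsMultiplyPretransitive M₁₂ (Fin 12) 5 ∧ (∀ y : Fin 5 ↪ Fin 12, MulAction.stabilizer M₁₂ y = ⊥) ∧
    Nat.card M₁₂ = 95040 ∧ Nat.card M₁₁ = 7920 ∧
    M₁₁ = M₁₂ ⊓ MulAction.stabilizer (Equiv.Perm (Fin 12)) (2 : Fin 12) := by
  subst hs ht hu hv hw hx₁ hx₂ hx₃ hM₁₂ hM₁₁
  exact main

end Cfsg.Agent.S3362
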