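import Mathlib
import Cfsg.Statements.S3370
import Cfsg.Agent.S0016
import Cfsg.Agent.S1217

set_option autoImplicit false

open Cfsg

namespace Cfsg.Agent.S3370

/-- if `x^n - y^n = 2^m` with `x` odd, `x ≡ y mod 2` and `n` odd then `x - y = ± 2^m` -/
theorem odd_cofactor (x y : ℤ) (n m : ℕ) (hx : ¬ (2 : ℤ) ∣ x) (hxy : (2 : ℤ) ∣ x - y)
    (hn : ¬ (2 : ℤ) ∣ (n : ℤ)) (h : x ^ n - y ^ n = 2 ^ m) : x - y = 2 ^ m ∨ x - y = -2 ^ m := by
  have h2 : Prime (2 : ℤ) := Int.prime_two
  have hS := not_dvd_geom_sum₂ h2 hxy hx hn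
  set S := ∑ i ∈ Finset.range n, x ^ i * y ^ (n - 1 - i) with hSdef
  have hmul : S * (x - y) = 2 ^ m := by rw [← h]; exact geom_sum₂_mul x y n
  have hSd : S ∣ 2 ^ m := ⟨x - y, hmul.symm⟩
  have hSabs : S.natAbs ∣ 2 ^ m := by
    have := Int.natAbs_dvd_natAbs.mpr hSd
    simpa [Int.natAbs_pow] using this
  obtain ⟨j, _, hj⟩ := (Nat.dvd_prime_pow Nat.prime_two).mp hSabs
  have hj0 : j = 0 := by
    by_contra hne
    apply hS
    have : 2 ∣ S.natAbs := by rw [hj]; exact dvd_pow_self 2 hne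
    exact Int.natCast_dvd.mpr this
  rw [hj0, pow_zero] at hj
  rcases Int.natAbs_eq S with hS1 | hS1
  · left
    rw [hj] at hS1
    rw [hS1] at hmul
    simpa using hmul
  · right
    rw [hj] at hS1
    rw [hS1] at hmul
    have : -(x - y) = 2 ^ m := by simpa using hmul
    rw [← this]; ring

theorem nt (q p n b : ℕ) (hq : q.Prime) (hp : p.Prime) (hn : 1 ≤ n) (hb : 1 ≤ b)
    (h : q ^ n = p ^ b + 1) :
    (q = 2 ∧ b = 1) ∨ (p = 2 ∧ n = 1) ∨ (p = 2 ∧ q = 3 ∧ n = 2) := by
  by_cases hq2 : q = 2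
  · left
    refine ⟨hq2, ?_⟩
    subst hq2
    have hpodd : ¬ 2 ∣ p := by
      intro h2
      have hp2 : p = 2 := ((Nat.prime_dvd_prime_iff_eq Nat.prime_two hp).mp h2).symm
      subst hp2
      have h3 : 2 ∣ 2 ^ n := dvd_pow_self 2 (by omega)
      have h4 : 2 ∣ 2 ^ b := dvd_pow_self 2 (by omega)
      omega
    rcases Nat.even_or_odd b with hbe | hbo
    · exfalso
      obtain ⟨c, hc⟩ := hbe
      have hc1 : 1 ≤ c := by omega
      have hodd : Odd (p ^ c) := (Nat.odd_iff.mpr (by omega : p % 2 = 1)).pow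
      have h4 : (p ^ c) ^ 2 % 4 = 1 := by
        obtain ⟨k, hk⟩ := hodd
        rw [hk]
        have : (2 * k + 1) ^ 2 = 4 * (k * k + k) + 1 := by ring
        rw [this]; omega
      have h5 : p ^ b = (p ^ c) ^ 2 := by rw [hc, ← two_mul, mul_comm, pow_mul]
      rw [h5] at h
      have hn1 : n = 1 := by
        by_contra hne
        have : 4 ∣ 2 ^ n := by
          have : 2 ^ 2 ∣ 2 ^ n := pow_dvd_pow 2 (by omega)
          simpa using this
        omega
      rw [hn1] at h
      have : 1 < p ^ c := Nat.one_lt_pow (by omega) hp.one_lt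
      nlinarith
    · have hbz : ¬ (2 : ℤ) ∣ (b : ℤ) := by
        intro h2
        have : 2 ∣ b := by exact_mod_cast h2
        obtain ⟨k, hk⟩ := hbo
        omega
      have hpz : ¬ (2 : ℤ) ∣ (p : ℤ) := by
        intro h2
        exact hpodd (by exact_mod_cast h2)
      have hxy : (2 : ℤ) ∣ (p : ℤ) - (-1) := by
        have : 2 ∣ p + 1 := by omega
        have h2 : ((2 : ℕ) : ℤ) ∣ ((p + 1 : ℕ) : ℤ) := Int.natCast_dvd_natCast.mpr this
        simpa using h2
      have hmain : (p : ℤ) ^ b - (-1) ^ b = 2 ^ n := by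
        rw [hbo.neg_one_pow]
        have : ((2 ^ n : ℕ) : ℤ) = ((p ^ b + 1 : ℕ) : ℤ) := by rw [h]
        push_cast at this
        rw [this]; ring
      rcases odd_cofactor (p : ℤ) (-1) b n hpz hxy hbz hmain with h1 | h1
      · have h2 : (p : ℤ) + 1 = 2 ^ n := by rw [← h1]; ring
        have h3 : p + 1 = 2 ^ n := by exact_mod_cast h2
        have h4 : p ^ b = p ^ 1 := by rw [pow_one]; omega
        exact Nat.pow_right_injective hp.two_le h4
      · exfalso
        have h2 : (p : ℤ) + 1 = -2 ^ n := by rw [← h1]; ring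
        have h3 : (0 : ℤ) < 2 ^ n := by positivity
        have h4 : (0 : ℤ) ≤ p := Int.natCast_nonneg p
        omega
  · right
    have hqodd : q % 2 = 1 := by
      rcases hq.eq_two_or_odd with h2 | h2
      · exact absurd h2 hq2
      · exact h2
    have hp2 : p = 2 := by
      have hodd : Odd (q ^ n) := (Nat.odd_iff.mpr hqodd).pow
      have heven : 2 ∣ p ^ b := by
        obtain ⟨k, hk⟩ := hodd
        omega
      exact ((Nat.prime_dvd_prime_iff_eq Nat.prime_two hp).mp
        (Nat.prime_two.dvd_of_dvd_pow heven)).symm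
    subst hp2
    rcases Nat.even_or_odd n with hne | hno
    · right
      obtain ⟨k, hk⟩ := hne
      have hk1 : 1 ≤ k := by omega
      obtain ⟨u, hu⟩ : ∃ u, u = q ^ k := ⟨_, rfl⟩
      have hu3 : 3 ≤ u := by
        rw [hu]
        have h3 : 3 ≤ q := by
          have := hq.two_le
          omega
        calc 3 ≤ q := h3
          _ = q ^ 1 := (pow_one q).symm
          _ ≤ q ^ k := Nat.pow_le_pow_right (by omega) hk1
      have hprod : (u - 1) * (u + 1) = 2 ^ b := by
        have h1 : q ^ n = u * u := by rw [hu, hk, pow_add]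
        rw [h1] at h
        obtain ⟨w, hw⟩ : ∃ w, u = w + 1 := ⟨u - 1, by omega⟩
        rw [hw] at h ⊢
        have : (w + 1 - 1) * (w + 1 + 1) + 1 = (w + 1) * (w + 1) := by
          rw [Nat.add_sub_cancel]; ring
        omega
      have hd1 : u - 1 ∣ 2 ^ b := ⟨u + 1, hprod.symm⟩
      have hd2 : u + 1 ∣ 2 ^ b := ⟨u - 1, by rw [mul_comm]; exact hprod.symm⟩
      obtain ⟨i, _, hi⟩ := (Nat.dvd_prime_pow Nat.prime_two).mp hd1
      obtain ⟨j, _, hj⟩ := (Nat.dvd_prime_pow Nat.prime_two).mp hd2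
      have hij : 2 ^ j = 2 ^ i + 2 := by omega
      have hi1 : i = 1 := by
        by_contra hne
        have hi0 : i ≠ 0 := by
          intro h0
          rw [h0] at hi
          omega
        have h4i : 4 ∣ 2 ^ i := by
          have : 2 ^ 2 ∣ 2 ^ i := pow_dvd_pow 2 (by omega)
          simpa using this
        have hj2 : 2 ≤ j := by
          by_contra hlt
          have : j = 0 ∨ j = 1 := by omega
          have hpos : 0 < 2 ^ i := by positivity
          rcases this with rfl | rfl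
          · rw [pow_zero] at hij
            omega
          · rw [pow_one] at hij
            omega
        have h4j : 4 ∣ 2 ^ j := by
          have : 2 ^ 2 ∣ 2 ^ j := pow_dvd_pow 2 hj2
          simpa using this
        omega
      rw [hi1] at hi
      have hu3' : u = 3 := by omega
      rw [hu3'] at hu
      have hq3 : q = 3 := by
        have : q ∣ 3 := by
          rw [hu]; exact dvd_pow_self q (by omega)
        exact (Nat.prime_dvd_prime_iff_eq hq Nat.prime_three).mp this
      refine ⟨rfl, hq3, ?_⟩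
      rw [hq3] at hu
      have : k = 1 := by
        have h3 : (3 : ℕ) ^ k = 3 ^ 1 := by rw [pow_one]; exact hu.symm
        exact Nat.pow_right_injective (by norm_num) h3
      omega
    · left
      refine ⟨rfl, ?_⟩
      have hnz : ¬ (2 : ℤ) ∣ (n : ℤ) := by
        intro h2
        have : 2 ∣ n := by exact_mod_cast h2
        obtain ⟨k, hk⟩ := hno
        omega
      have hqz : ¬ (2 : ℤ) ∣ (q : ℤ) := by
        intro h2
        have : 2 ∣ q := by exact_mod_cast h2
        omega
      have hxy : (2 : ℤ) ∣ (q : ℤ) - 1 := by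
        have : 2 ∣ q - 1 := by omega
        have h2 : ((2 : ℕ) : ℤ) ∣ ((q - 1 : ℕ) : ℤ) := Int.natCast_dvd_natCast.mpr this
        rw [Nat.cast_sub hq.one_le] at h2
        simpa using h2
      have hmain : (q : ℤ) ^ n - 1 ^ n = 2 ^ b := by
        rw [one_pow]
        have : ((q ^ n : ℕ) : ℤ) = ((2 ^ b + 1 : ℕ) : ℤ) := by rw [h]
        push_cast at this
        rw [this]; ring
      rcases odd_cofactor (q : ℤ) 1 n b hqz hxy hnz hmain with h1 | h1
      · have h2 : (q : ℤ) = 2 ^ b + 1 := by rw [← h1]; ring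
        have h3 : q = 2 ^ b + 1 := by exact_mod_cast h2
        have h4 : q ^ n = q ^ 1 := by rw [pow_one, h, ← h3]
        exact Nat.pow_right_injective hq.two_le h4
      · exfalso
        have h3 : (0 : ℤ) < 2 ^ b := by positivity
        have h4 : (1 : ℤ) ≤ q := by exact_mod_cast hq.one_le
        omega

section grp
variable (q : ℕ) [hq : Fact q.Prime] {V : Type*} [AddCommGroup V] [Module (ZMod q) V] [Finite V]
  {G : Type*} [Group G] [Finite G] (ρ : G →* (V ≃ₗ[ZMod q] V))

/-- the action on the nonzero vectors -/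
def permHom : G →* Equiv.Perm {v : V // v ≠ 0} where
  toFun g := (ρ g).toEquiv.subtypeEquiv (fun v => by
    show v ≠ 0 ↔ ρ g v ≠ 0
    rw [Ne, Ne, LinearEquiv.map_eq_zero_iff])
  map_one' := by
    ext v
    simp
  map_mul' g h := by
    ext v
    simp

theorem permHom_apply (g : G) (v : {v : V // v ≠ 0}) : ((permHom q ρ g v : {v : V // v ≠ 0}) : V) = ρ g v := rfl

theorem permHom_injective (hρ : Function.Injective ρ) : Function.Injective (permHom q ρ) := by
  intro g h hgh
  apply hρ
  ext v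
  by_cases hv : v = 0
  · rw [hv, map_zero, map_zero]
  · have := congrArg (fun f => ((f ⟨v, hv⟩ : {v : V // v ≠ 0}) : V)) hgh
    exact this

theorem card_nonzero : Nat.card {v : V // v ≠ 0} = Nat.card V - 1 := by
  classical
  haveI : Fintype V := Fintype.ofFinite V
  rw [Nat.card_eq_fintype_card, Nat.card_eq_fintype_card, Fintype.card_subtype]
  have : (Finset.univ.filter (fun v : V => v ≠ 0)) = Finset.univ.erase 0 := by
    ext v; simp
  rw [this, Finset.card_erase_of_mem (Finset.mem_univ _), Finset.card_univ]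

theorem card_dvd_factorial (hρ : Function.Injective ρ) :
    Nat.card G ∣ (Nat.card V - 1).factorial := by
  have h := Subgroup.card_dvd_of_injective (permHom q ρ) (permHom_injective q ρ hρ)
  rwa [Nat.card_perm, card_nonzero] at h

/-- orbit–stabilizer for the transitive action on nonzero vectors -/
theorem card_eq_mul (htrans : ∀ v w : V, v ≠ 0 → w ≠ 0 → ∃ g : G, ρ g v = w) (v₀ : V)
    (hv₀ : v₀ ≠ 0) :
    Nat.card G = (Nat.card V - 1) * Nat.card {g : G // ρ g v₀ = v₀} := by
  letI : MulAction G V := MulAction.compHom V ρ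
  have hsmul : ∀ (g : G) (v : V), g • v = ρ g v := fun g v => rfl
  have h : Nat.card (MulAction.orbit G v₀) * Nat.card (MulAction.stabilizer G v₀) = Nat.card G := by
    rw [Nat.card_coe_set_eq, ← MulAction.index_stabilizer, mul_comm, Subgroup.card_mul_index]
  have h1 : Nat.card (MulAction.orbit G v₀) = Nat.card V - 1 := by
    rw [← card_nonzero]
    apply Nat.card_congr
    refine Equiv.subtypeEquivRight (fun w => ?_)
    constructor
    · rintro ⟨g, rfl⟩
      show ρ g v₀ ≠ 0
      rw [Ne, LinearEquiv.map_eq_zero_iff]; exact hv₀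
    · intro hw
      obtain ⟨g, hg⟩ := htrans v₀ w hv₀ hw
      exact ⟨g, hg⟩
  have h2 : Nat.card (MulAction.stabilizer G v₀) = Nat.card {g : G // ρ g v₀ = v₀} := by
    apply Nat.card_congr
    exact Equiv.subtypeEquivRight (fun g => Iff.rfl)
  rw [← h, h1, h2]


theorem case1 (hρ : Function.Injective ρ) (p a : ℕ) (hp : p.Prime) (hGa : Nat.card G = p ^ a)
    (hV : Nat.card V - 1 = p) (hdvd : p ∣ Nat.card G) : Nat.card G = p := by
  have h := card_dvd_factorial q ρ hρ
  rw [hV, hGa] at h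
  have ha1 : a ≤ 1 := by
    by_contra hlt
    have h2 : p ^ 2 ∣ p.factorial := (pow_dvd_pow p (by omega)).trans h
    obtain ⟨k, hk⟩ : ∃ k, p = k + 1 := ⟨p - 1, by have := hp.pos; omega⟩
    rw [hk, Nat.factorial_succ, pow_two] at h2
    have h3 : k + 1 ∣ k.factorial := Nat.dvd_of_mul_dvd_mul_left (by omega) h2
    rw [← hk] at h3
    have := (hp.dvd_factorial).mp h3
    omega
  have ha0 : a ≠ 0 := by
    intro h0
    rw [hGa, h0, pow_zero, Nat.dvd_one] at hdvd
    exact hp.ne_one hdvd
  have : a = 1 := by omega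
  rw [hGa, this, pow_one]

theorem case2 (hρ : Function.Injective ρ)
    (htrans : ∀ v w : V, v ≠ 0 → w ≠ 0 → ∃ g : G, ρ g v = w) (hV : Nat.card V = q) :
    Nat.card G = q - 1 ∧ IsCyclic G := by
  have hqq := hq.out
  haveI : Nontrivial V := by
    rw [← Finite.one_lt_card_iff_nontrivial, hV]
    exact hqq.one_lt
  obtain ⟨v₀, hv₀⟩ := exists_ne (0 : V)
  have hinj : Function.Injective (fun c : ZMod q => c • v₀) := by
    intro c d hcd
    have : (c - d) • v₀ = 0 := by rw [sub_smul]; exact sub_eq_zero.mpr hcd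
    rcases smul_eq_zero.mp this with h | h
    · exact sub_eq_zero.mp h
    · exact absurd h hv₀
  have hbij : Function.Bijective (fun c : ZMod q => c • v₀) := by
    apply hinj.bijective_of_nat_card_le
    rw [hV, Nat.card_zmod]
  have hspan : ∀ w : V, ∃ c : ZMod q, c • v₀ = w := hbij.2
  have hsemi : ∀ g : G, ρ g v₀ = v₀ → g = 1 := by
    intro g hg
    apply hρ
    rw [map_one]
    ext w
    obtain ⟨c, rfl⟩ := hspan w
    rw [map_smul, hg]
    rfl
  have hstab : Nat.card {g : G // ρ g v₀ = v₀} = 1 := by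
    rw [Nat.card_eq_one_iff_unique]
    refine ⟨⟨fun a b => Subtype.ext ((hsemi a a.2).trans (hsemi b b.2).symm)⟩, ⟨⟨1, ?_⟩⟩⟩
    rw [map_one]; rfl
  have hcard := card_eq_mul q ρ htrans v₀ hv₀
  rw [hstab, mul_one, hV] at hcard
  refine ⟨hcard, ?_⟩
  let e := Equiv.ofBijective _ hbij
  have he : ∀ w : V, (e.symm w) • v₀ = w := fun w => e.apply_symm_apply w
  let f : G →* ZMod q :=
    { toFun := fun g => e.symm (ρ g v₀)
      map_one' := by
        apply hinj
        show (e.symm (ρ 1 v₀)) • v₀ = (1 : ZMod q) • v₀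
        rw [he, map_one, one_smul]; rfl
      map_mul' := fun g h => by
        apply hinj
        show (e.symm (ρ (g * h) v₀)) • v₀ = (e.symm (ρ g v₀) * e.symm (ρ h v₀)) • v₀
        rw [he, mul_smul, map_mul]
        show ρ g (ρ h v₀) = _
        nth_rewrite 1 [← he (ρ h v₀)]
        rw [map_smul, smul_comm, he] }
  have hf : Function.Injective f := by
    intro g h hgh
    have h1 : ρ g v₀ = ρ h v₀ := by
      have : e.symm (ρ g v₀) = e.symm (ρ h v₀) := hgh
      exact e.symm.injective this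
    have h2 : ρ (h⁻¹ * g) v₀ = v₀ := by
      rw [map_mul]
      show ρ h⁻¹ (ρ g v₀) = v₀
      rw [h1, map_inv]
      exact (ρ h).symm_apply_apply v₀
    have := hsemi _ h2
    calc g = h * (h⁻¹ * g) := by group
      _ = h := by rw [this, mul_one]
  exact isCyclic_of_subgroup_isDomain f hf

end grp


section case3
variable {V : Type*} [AddCommGroup V] [Module (ZMod 3) V] [Finite V]
  {G : Type*} [Group G] [Finite G] (ρ : G →* (V ≃ₗ[ZMod 3] V))

theorem qd_transfer {A B : Type*} [Group A] [Group B] (e : A ≃* B)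
    (h : Cfsg.IsQuasiDihedral B) : Cfsg.IsQuasiDihedral A := by
  obtain ⟨n, hn, hcard, x, y, hx, hy, hrel⟩ := h
  refine ⟨n, hn, ?_, e.symm x, e.symm y, ?_, ?_, ?_⟩
  · rw [← hcard]; exact Nat.card_congr e.toEquiv
  · rw [MulEquiv.orderOf_eq, hx]
  · rw [MulEquiv.orderOf_eq, hy]
  · rw [← map_inv, ← map_mul, ← map_mul, hrel, map_pow]

theorem case3 [h3 : Fact (Nat.Prime 3)] (hρ : Function.Injective ρ)
    (htrans : ∀ v w : V, v ≠ 0 → w ≠ 0 → ∃ g : G, ρ g v = w) (hG : IsPGroup 2 G)
    (hV : Nat.card V = 9) :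
    (IsCyclic G ∧ Nat.card G = 8) ∨ Nonempty (G ≃* QuaternionGroup 2) ∨
      (Cfsg.IsQuasiDihedral G ∧ Nat.card G = 16) := by
  classical
  haveI : Fact (Nat.Prime 2) := ⟨Nat.prime_two⟩
  have hfr : Module.finrank (ZMod 3) V = 2 := by
    have h1 := Module.natCard_eq_pow_finrank (K := ZMod 3) (V := V)
    rw [hV, Nat.card_zmod] at h1
    have h2 : (3 : ℕ) ^ 2 = 3 ^ Module.finrank (ZMod 3) V := by rw [← h1]; norm_num
    exact (Nat.pow_right_injective (by norm_num) h2).symm
  let b : Module.Basis (Fin 2) (ZMod 3) V := Module.finBasisOfFinrankEq (ZMod 3) V hfr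
  let f : G →* Matrix (Fin 2) (Fin 2) (ZMod 3) :=
    { toFun := fun g => LinearMap.toMatrix b b (ρ g : V →ₗ[ZMod 3] V)
      map_one' := by
        rw [map_one]
        exact LinearMap.toMatrix_one b
      map_mul' := fun g h => by
        rw [map_mul]
        exact LinearMap.toMatrix_mul b (ρ g : V →ₗ[ZMod 3] V) (ρ h : V →ₗ[ZMod 3] V) }
  have hf : Function.Injective f := by
    intro g h hgh
    apply hρ
    have h1 : (ρ g : V →ₗ[ZMod 3] V) = ρ h := (LinearMap.toMatrix b b).injective hgh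
    exact LinearEquiv.toLinearMap_injective h1
  let ψ : G →* GL (Fin 2) (ZMod 3) := f.toHomUnits
  have hψ : Function.Injective ψ := by
    intro g h hgh
    apply hf
    have := congrArg (fun u : GL (Fin 2) (ZMod 3) => (u : Matrix (Fin 2) (Fin 2) (ZMod 3))) hgh
    exact this
  have hGL : Nat.card (GL (Fin 2) (ZMod 3)) = 48 := by
    rw [Matrix.card_GL_field]
    simp [Fin.prod_univ_two, ZMod.card]
  have hdvd : Nat.card G ∣ 48 := hGL ▸ Subgroup.card_dvd_of_injective ψ hψ
  haveI : Nontrivial V := by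
    rw [← Finite.one_lt_card_iff_nontrivial, hV]; norm_num
  obtain ⟨v₀, hv₀⟩ := exists_ne (0 : V)
  have hmul : ∀ v : V, v ≠ 0 → Nat.card G = 8 * Nat.card {g : G // ρ g v = v} := by
    intro v hv
    have := card_eq_mul 3 ρ htrans v hv
    rwa [hV] at this
  obtain ⟨a, ha⟩ := IsPGroup.iff_card.mp hG
  have ha4 : a ≤ 4 := by
    by_contra hlt
    have h32 : 2 ^ 5 ∣ 2 ^ a := pow_dvd_pow 2 (by omega)
    have : 2 ^ 5 ∣ 48 := h32.trans (ha ▸ hdvd)
    norm_num at this
  have ha3 : 3 ≤ a := by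
    have h8 : 2 ^ 3 ∣ 2 ^ a := by
      rw [← ha, hmul v₀ hv₀]
      exact Dvd.intro _ rfl
    exact (Nat.pow_dvd_pow_iff_le_right (by norm_num)).mp h8
  have hcase : a = 3 ∨ a = 4 := by omega
  rcases hcase with rfl | rfl
  · -- order 8: regular action
    have hG8 : Nat.card G = 8 := by rw [ha]; norm_num
    have hsemi : ∀ v : V, v ≠ 0 → ∀ g : G, ρ g v = v → g = 1 := by
      intro v hv g hg
      have h1 := hmul v hv
      rw [hG8] at h1
      have h2 : Nat.card {g : G // ρ g v = v} = 1 := by omega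
      rw [Nat.card_eq_one_iff_unique] at h2
      have hone : ρ (1 : G) v = v := by rw [map_one]; rfl
      have := h2.1.elim ⟨g, hg⟩ ⟨1, hone⟩
      exact congrArg Subtype.val this
    have hinvol : ∀ t : G, t ≠ 1 → t * t = 1 → ∀ v : V, ρ t v = -v := by
      intro t ht1 htt v
      have h1 : ρ t (ρ t v) = v := by
        have : ρ (t * t) v = v := by rw [htt, map_one]; rfl
        rwa [map_mul] at this
      by_contra hne
      have hw : v + ρ t v ≠ 0 := fun h => hne (eq_neg_of_add_eq_zero_right h)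
      have hfix : ρ t (v + ρ t v) = v + ρ t v := by rw [map_add, h1, add_comm]
      exact ht1 (hsemi _ hw t hfix)
    have hinvuniq : ∀ s t : G, s ≠ 1 → s * s = 1 → t ≠ 1 → t * t = 1 → s = t := by
      intro s t hs1 hss ht1 htt
      apply hρ
      ext v
      rw [hinvol s hs1 hss v, hinvol t ht1 htt v]
    have hsub : ∀ H : Subgroup G, Nat.card H = 2 → ∃ h : G, h ≠ 1 ∧ h * h = 1 ∧
        H = Subgroup.zpowers h := by
      intro H hH
      haveI : Nontrivial H := by
        rw [← Finite.one_lt_card_iff_nontrivial, hH]; norm_num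
      obtain ⟨⟨h, hh⟩, hne⟩ := exists_ne (1 : H)
      have hh1 : h ≠ 1 := fun e => hne (Subtype.ext e)
      have hh2 : h ^ 2 = 1 := by
        have h1 : (⟨h, hh⟩ : H) ^ Nat.card H = 1 := pow_card_eq_one'
        rw [hH] at h1
        exact congrArg Subtype.val h1
      refine ⟨h, hh1, by rw [← pow_two]; exact hh2, ?_⟩
      symm
      apply Subgroup.eq_of_le_of_card_ge (Subgroup.zpowers_le.mpr hh)
      rw [hH, Nat.card_zpowers, orderOf_eq_prime hh2 hh1]
    have huniq : ∀ H K : Subgroup G, Nat.card H = 2 → Nat.card K = 2 → H = K := by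
      intro H K hH hK
      obtain ⟨h, hh1, hh2, rfl⟩ := hsub H hH
      obtain ⟨k, hk1, hk2, rfl⟩ := hsub K hK
      rw [hinvuniq h k hh1 hh2 hk1 hk2]
    rcases Cfsg.Agent.S0016.result 2 hG huniq with hc | ⟨_, n, ⟨e⟩⟩
    · exact Or.inl ⟨hc, hG8⟩
    · right; left
      have hcardQ : Nat.card (QuaternionGroup (2 ^ n)) = 4 * 2 ^ n := by
        haveI : NeZero (2 ^ n) := ⟨by positivity⟩
        rw [Nat.card_eq_fintype_card, QuaternionGroup.card]
      have h1 : 8 = 4 * 2 ^ n := by rw [← hG8, ← hcardQ]; exact Nat.card_congr e.toEquiv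
      have hn1 : n = 1 := by
        have h2 : 2 ^ n = 2 ^ 1 := by omega
        exact Nat.pow_right_injective (le_refl 2) h2
      subst hn1
      exact ⟨e⟩
  · -- order 16: a Sylow 2-subgroup of GL(2,3)
    have hG16 : Nat.card G = 16 := by rw [ha]; norm_num
    right; right
    refine ⟨?_, hG16⟩
    have hfac : (Nat.card (GL (Fin 2) (ZMod 3))).factorization 2 = 4 := by
      rw [hGL]
      have : (48 : ℕ) = 2 ^ 4 * 3 := by norm_num
      rw [this]
      exact Cfsg.Agent.Lib.Helper4_GL2Sylow.fact2 4 3 (by decide)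
    have hrcard : Nat.card ψ.range = 2 ^ (Nat.card (GL (Fin 2) (ZMod 3))).factorization 2 := by
      rw [hfac, ← Nat.card_congr (MonoidHom.ofInjective hψ).toEquiv, hG16]
      norm_num
    let P : Sylow 2 (GL (Fin 2) (ZMod 3)) := Sylow.ofCard ψ.range hrcard
    have hP : (P : Subgroup (GL (Fin 2) (ZMod 3))) = ψ.range := Sylow.coe_ofCard _ _
    have hqd := (Cfsg.Agent.S1217.result P).1 (by rw [ZMod.card])
    rw [hP] at hqd
    exact qd_transfer (MonoidHom.ofInjective hψ) hqd

end case3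


/-- Let q be a prime, V a non-trivial finite vector space over the field with q elements, and G a non-trivial finite p-group (p prime) acting faithfully and linearly on V and transitively on the non-zero vectors. Then either q = 2 and G has prime order p = |V| − 1; or p = 2, V has q elements with q = 2^m + 1 and G is cyclic of order 2^m; or p = 2, q = 3, V has 9 elements and G is cyclic of order 8, quaternion of order 8, or semidihedral of order 16. -/
theorem result (q : ℕ) [Fact q.Prime] {V : Type*} [AddCommGroup V] [Module (ZMod q) V] [Finite V] [Nontrivial V]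
    {G : Type*} [Group G] [Finite G] [Nontrivial G] (p : ℕ) [Fact p.Prime] (hG : IsPGroup p G)
    (ρ : G →* (V ≃ₗ[ZMod q] V)) (hρ : Function.Injective ρ)
    (htrans : ∀ v w : V, v ≠ 0 → w ≠ 0 → ∃ g : G, ρ g v = w) :
    (q = 2 ∧ p = Nat.card V - 1 ∧ Nat.card G = p) ∨
    (p = 2 ∧ Nat.card V = q ∧ (∃ m : ℕ, q = 2 ^ m + 1 ∧ Nat.card G = 2 ^ m) ∧ IsCyclic G) ∨
    (p = 2 ∧ q = 3 ∧ Nat.card V = 9 ∧
      ((IsCyclic G ∧ Nat.card G = 8) ∨ Nonempty (G ≃* QuaternionGroup 2) ∨ (Cfsg.IsQuasiDihedral G ∧ Nat.card G = 16))) := by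
  classical
  have hqq := (Fact.out : q.Prime)
  have hpp := (Fact.out : p.Prime)
  obtain ⟨v₀, hv₀⟩ := exists_ne (0 : V)
  obtain ⟨n, hn⟩ : ∃ n, Nat.card V = q ^ n :=
    ⟨Module.finrank (ZMod q) V, by
      rw [Module.natCard_eq_pow_finrank (K := ZMod q) (V := V), Nat.card_zmod]⟩
  have hN : 2 ≤ Nat.card V := Finite.one_lt_card
  have hn1 : 1 ≤ n := by
    by_contra h
    have : n = 0 := by omega
    rw [this, pow_zero] at hn
    omega
  obtain ⟨a, ha⟩ := IsPGroup.iff_card.mp hG
  have hmul := card_eq_mul q ρ htrans v₀ hv₀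
  have hdvd : Nat.card V - 1 ∣ p ^ a := by
    rw [← ha, hmul]; exact Dvd.intro _ rfl
  obtain ⟨b, hba, hb⟩ := (Nat.dvd_prime_pow hpp).mp hdvd
  have hN2 : Nat.card V ≠ 2 := by
    intro h2
    have hall : ∀ w : V, w ≠ 0 → w = v₀ := by
      obtain ⟨y, _, huniq⟩ := (Nat.card_eq_two_iff' (0 : V)).mp h2
      intro w hw
      rw [huniq w hw, huniq v₀ hv₀]
    obtain ⟨g, hg⟩ := exists_ne (1 : G)
    apply hg
    apply hρ
    rw [map_one]
    ext w
    by_cases hw : w = 0
    · rw [hw, map_zero]; rfl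
    · have : ρ g w ≠ 0 := by
        rw [Ne, LinearEquiv.map_eq_zero_iff]; exact hw
      rw [hall _ this, hall w hw]; rfl
  have hb1 : 1 ≤ b := by
    by_contra h
    have : b = 0 := by omega
    rw [this, pow_zero] at hb
    omega
  have heq : q ^ n = p ^ b + 1 := by
    rw [← hn, ← hb]; omega
  rcases nt q p n b hqq hpp hn1 hb1 heq with ⟨hq2, hb1'⟩ | ⟨hp2, hn1'⟩ | ⟨hp2, hq3, hn2⟩
  · left
    rw [hb1', pow_one] at hb
    refine ⟨hq2, hb.symm, ?_⟩
    exact case1 q ρ hρ p a hpp ha hb (by rw [hmul, hb]; exact Dvd.intro _ rfl)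
  · right; left
    rw [hn1', pow_one] at hn heq
    obtain ⟨hc1, hc2⟩ := case2 q ρ hρ htrans hn
    refine ⟨hp2, hn, ⟨b, ?_, ?_⟩, hc2⟩
    · rw [heq, hp2]
    · rw [hc1, heq, hp2]; exact Nat.add_sub_cancel _ _
  · right; right
    subst hq3
    subst hp2
    have hV9 : Nat.card V = 9 := by rw [hn, hn2]; norm_num
    exact ⟨rfl, rfl, hV9, case3 ρ hρ htrans hG hV9⟩

end Cfsg.Agent.S3370
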