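import Mathlib
import Cfsg.Statements.S3374
import Cfsg.Agent.Lib.Helper9_FrobCompl
import Cfsg.Agent.S0242

set_option autoImplicit false
open Cfsg

namespace Cfsg.Agent.S3374

open Cfsg.Agent.Lib.Helper9_FrobCompl.Helper9FC

/-- `SL(2,5)`. -/
abbrev SL25 := Matrix.SpecialLinearGroup (Fin 2) (ZMod 5)
/-- `SL(2,11)`. -/
abbrev SL211 := Matrix.SpecialLinearGroup (Fin 2) (ZMod 11)

/-- The table of an embedding `SL(2,5) → SL(2,11)`: the entry at position `125a+25b+5c+d` encodes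
the image `1331e+121f+11g+h` of the matrix `(a b; c d)`. -/
def tblL : List ℕ := [
  0, 0, 0, 0, 0, 0, 0, 0, 0, 0, 0, 0, 0, 0, 0, 0, 0, 0, 0, 0, 0, 0, 0, 0, 0,
  0, 0, 0, 0, 0, 0, 0, 0, 0, 0, 0, 0, 0, 0, 0, 0, 0, 0, 0, 0, 2573, 6388, 7009, 12788, 4913,
  0, 0, 0, 0, 0, 0, 0, 0, 0, 0, 11586, 10367, 3411, 14639, 8298, 0, 0, 0, 0, 0, 0, 0, 0, 0, 0,
  0, 0, 0, 0, 0, 0, 0, 0, 0, 0, 0, 0, 0, 0, 0, 4518, 7806, 1465, 12693, 5737, 0, 0, 0, 0, 0,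
  0, 0, 0, 0, 0, 13531, 11191, 3316, 9095, 9716, 0, 0, 0, 0, 0, 0, 0, 0, 0, 0, 0, 0, 0, 0, 0,
  0, 1332, 0, 0, 0, 0, 2887, 0, 0, 0, 0, 3598, 0, 0, 0, 0, 1850, 0, 0, 0, 0, 7889, 0, 0, 0,
  0, 3997, 0, 0, 0, 0, 0, 8534, 0, 0, 0, 0, 0, 8738, 0, 0, 0, 0, 0, 4705, 6245, 0, 0, 0, 0,
  0, 11984, 0, 0, 0, 0, 0, 0, 9969, 0, 9630, 0, 0, 0, 0, 0, 0, 13133, 0, 0, 0, 0, 0, 0, 2144,
  0, 6664, 0, 0, 0, 0, 0, 0, 0, 14411, 0, 0, 14364, 0, 0, 7069, 0, 0, 0, 0, 0, 0, 0, 4352, 0,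
  0, 5327, 0, 0, 0, 11048, 0, 0, 0, 0, 0, 0, 0, 0, 11971, 0, 0, 0, 5462, 0, 0, 0, 13041, 0, 0,
  0, 0, 0, 572, 0, 0, 0, 0, 13850, 0, 0, 0, 0, 11696, 0, 0, 0, 0, 5145, 0, 0, 0, 0, 2397, 0,
  0, 0, 0, 440, 0, 0, 8391, 0, 0, 0, 0, 0, 0, 0, 10070, 0, 0, 5847, 0, 0, 7460, 0, 0, 0, 0,
  0, 0, 0, 627, 0, 0, 0, 0, 0, 11301, 3983, 0, 0, 0, 0, 0, 12396, 0, 0, 0, 0, 0, 5232, 0, 0,
  0, 0, 0, 231, 0, 0, 0, 9540, 0, 0, 0, 13627, 0, 0, 0, 2037, 0, 0, 0, 0, 0, 0, 0, 0, 5684,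
  0, 0, 0, 1155, 0, 3767, 0, 0, 0, 0, 0, 0, 8925, 0, 0, 0, 0, 0, 0, 6794, 0, 12898, 0, 0, 0,
  0, 0, 880, 0, 0, 0, 0, 13707, 0, 0, 0, 0, 10959, 0, 0, 0, 0, 4408, 0, 0, 0, 0, 2254, 0, 0,
  0, 0, 297, 0, 0, 0, 0, 0, 0, 3206, 0, 9310, 0, 0, 0, 0, 0, 0, 7179, 0, 12337, 0, 0, 0, 0,
  0, 0, 1221, 0, 0, 0, 10420, 0, 0, 0, 14067, 0, 0, 0, 0, 0, 0, 0, 0, 2477, 0, 0, 0, 6564, 0,
  0, 0, 825, 0, 0, 0, 0, 0, 10872, 0, 0, 0, 0, 0, 3708, 12121, 0, 0, 0, 0, 0, 4803, 0, 0, 0,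
  0, 0, 1012, 0, 0, 8644, 0, 0, 0, 0, 0, 0, 0, 10257, 0, 0, 6034, 0, 0, 0, 0, 0, 0, 0, 7713,
  0, 0, 0, 0, 13320, 0, 0, 0, 0, 8215, 0, 0, 0, 0, 14254, 0, 0, 0, 0, 12506, 0, 0, 0, 0, 13217,
  0, 0, 0, 0, 9325, 0, 0, 0, 3063, 0, 0, 0, 10642, 0, 0, 0, 4133, 0, 0, 0, 5056, 0, 0, 0, 0,
  0, 0, 0, 0, 7988, 0, 0, 11752, 0, 0, 9035, 0, 0, 0, 0, 0, 0, 0, 1740, 0, 0, 1693, 0, 0, 0,
  0, 0, 0, 0, 2668, 0, 13960, 0, 0, 0, 0, 0, 0, 2971, 0, 6474, 0, 0, 0, 0, 0, 0, 6135, 0, 0,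
  0, 0, 0, 0, 10655, 9859, 0, 0, 0, 0, 0, 11399, 0, 0, 0, 0, 0, 7366, 0, 0, 0, 0, 0, 7570, 0]

def code (a b c d : ZMod 5) : ℕ :=
  tblL.getD (125 * a.val + 25 * b.val + 5 * c.val + d.val) 0

def t1 (a b c d : ZMod 5) : ZMod 11 := ((code a b c d / 1331 : ℕ) : ZMod 11)
def t2 (a b c d : ZMod 5) : ZMod 11 := ((code a b c d / 121 : ℕ) : ZMod 11)
def t3 (a b c d : ZMod 5) : ZMod 11 := ((code a b c d / 11 : ℕ) : ZMod 11)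
def t4 (a b c d : ZMod 5) : ZMod 11 := ((code a b c d : ℕ) : ZMod 11)

theorem t_det : ∀ a b c d : ZMod 5, a * d - b * c = 1 →
    t1 a b c d * t4 a b c d - t2 a b c d * t3 a b c d = 1 := by decide +kernel

theorem t_inj : ∀ a b c d : ZMod 5, a * d - b * c = 1 →
    t1 a b c d = 1 → t2 a b c d = 0 → t3 a b c d = 0 → t4 a b c d = 1 →
    a = 1 ∧ b = 0 ∧ c = 0 ∧ d = 1 := by decide +kernel

theorem t_mul : ∀ a b c d : ZMod 5, a * d - b * c = 1 →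
    ∀ a' b' c' d' : ZMod 5, a' * d' - b' * c' = 1 →
    (t1 (a * a' + b * c') (a * b' + b * d') (c * a' + d * c') (c * b' + d * d') =
        t1 a b c d * t1 a' b' c' d' + t2 a b c d * t3 a' b' c' d') ∧
    (t2 (a * a' + b * c') (a * b' + b * d') (c * a' + d * c') (c * b' + d * d') =
        t1 a b c d * t2 a' b' c' d' + t2 a b c d * t4 a' b' c' d') ∧
    (t3 (a * a' + b * c') (a * b' + b * d') (c * a' + d * c') (c * b' + d * d') =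
        t3 a b c d * t1 a' b' c' d' + t4 a b c d * t3 a' b' c' d') ∧
    (t4 (a * a' + b * c') (a * b' + b * d') (c * a' + d * c') (c * b' + d * d') =
        t3 a b c d * t2 a' b' c' d' + t4 a b c d * t4 a' b' c' d') := by decide +kernel

theorem det_eq (A : SL25) : A.1 0 0 * A.1 1 1 - A.1 0 1 * A.1 1 0 = 1 := by
  have h0 := A.2
  rwa [Matrix.det_fin_two] at h0

/-- The underlying function of the embedding. -/
def fmap (A : SL25) : SL211 :=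
  ⟨!![t1 (A.1 0 0) (A.1 0 1) (A.1 1 0) (A.1 1 1), t2 (A.1 0 0) (A.1 0 1) (A.1 1 0) (A.1 1 1);
      t3 (A.1 0 0) (A.1 0 1) (A.1 1 0) (A.1 1 1), t4 (A.1 0 0) (A.1 0 1) (A.1 1 0) (A.1 1 1)], by
    rw [Matrix.det_fin_two_of]; exact t_det _ _ _ _ (det_eq A)⟩

theorem fmap_mul (A B : SL25) : fmap (A * B) = fmap A * fmap B := by
  have e00 : (A * B).1 0 0 = A.1 0 0 * B.1 0 0 + A.1 0 1 * B.1 1 0 := by
    rw [Matrix.SpecialLinearGroup.coe_mul, Matrix.mul_apply, Fin.sum_univ_two]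
  have e01 : (A * B).1 0 1 = A.1 0 0 * B.1 0 1 + A.1 0 1 * B.1 1 1 := by
    rw [Matrix.SpecialLinearGroup.coe_mul, Matrix.mul_apply, Fin.sum_univ_two]
  have e10 : (A * B).1 1 0 = A.1 1 0 * B.1 0 0 + A.1 1 1 * B.1 1 0 := by
    rw [Matrix.SpecialLinearGroup.coe_mul, Matrix.mul_apply, Fin.sum_univ_two]
  have e11 : (A * B).1 1 1 = A.1 1 0 * B.1 0 1 + A.1 1 1 * B.1 1 1 := by
    rw [Matrix.SpecialLinearGroup.coe_mul, Matrix.mul_apply, Fin.sum_univ_two]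
  obtain ⟨h1, h2, h3, h4⟩ := t_mul _ _ _ _ (det_eq A) _ _ _ _ (det_eq B)
  apply Subtype.ext
  rw [Matrix.SpecialLinearGroup.coe_mul]
  show !![t1 ((A * B).1 0 0) ((A * B).1 0 1) ((A * B).1 1 0) ((A * B).1 1 1),
        t2 ((A * B).1 0 0) ((A * B).1 0 1) ((A * B).1 1 0) ((A * B).1 1 1);
      t3 ((A * B).1 0 0) ((A * B).1 0 1) ((A * B).1 1 0) ((A * B).1 1 1),
        t4 ((A * B).1 0 0) ((A * B).1 0 1) ((A * B).1 1 0) ((A * B).1 1 1)] =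
    !![t1 (A.1 0 0) (A.1 0 1) (A.1 1 0) (A.1 1 1), t2 (A.1 0 0) (A.1 0 1) (A.1 1 0) (A.1 1 1);
      t3 (A.1 0 0) (A.1 0 1) (A.1 1 0) (A.1 1 1), t4 (A.1 0 0) (A.1 0 1) (A.1 1 0) (A.1 1 1)] *
    !![t1 (B.1 0 0) (B.1 0 1) (B.1 1 0) (B.1 1 1), t2 (B.1 0 0) (B.1 0 1) (B.1 1 0) (B.1 1 1);
      t3 (B.1 0 0) (B.1 0 1) (B.1 1 0) (B.1 1 1), t4 (B.1 0 0) (B.1 0 1) (B.1 1 0) (B.1 1 1)]
  rw [Matrix.mul_fin_two, e00, e01, e10, e11, h1, h2, h3, h4]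

/-- The embedding `SL(2,5) → SL(2,11)`. -/
def fhom : SL25 →* SL211 := MonoidHom.mk' fmap fmap_mul

theorem fhom_injective : Function.Injective fhom := by
  rw [injective_iff_map_eq_one]
  intro A hA
  have hA' : fmap A = 1 := hA
  have h00 : t1 (A.1 0 0) (A.1 0 1) (A.1 1 0) (A.1 1 1) = 1 := by
    simpa [fmap] using congrArg (fun M : SL211 => M.1 0 0) hA'
  have h01 : t2 (A.1 0 0) (A.1 0 1) (A.1 1 0) (A.1 1 1) = 0 := by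
    simpa [fmap] using congrArg (fun M : SL211 => M.1 0 1) hA'
  have h10 : t3 (A.1 0 0) (A.1 0 1) (A.1 1 0) (A.1 1 1) = 0 := by
    simpa [fmap] using congrArg (fun M : SL211 => M.1 1 0) hA'
  have h11 : t4 (A.1 0 0) (A.1 0 1) (A.1 1 0) (A.1 1 1) = 1 := by
    simpa [fmap] using congrArg (fun M : SL211 => M.1 1 1) hA'
  obtain ⟨e1, e2, e3, e4⟩ := t_inj _ _ _ _ (det_eq A) h00 h01 h10 h11
  apply Subtype.ext
  rw [Matrix.eta_fin_two A.1, e1, e2, e3, e4, Matrix.SpecialLinearGroup.coe_one,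
    Matrix.one_fin_two]

theorem card_SL25 : Nat.card SL25 = 120 := by
  have : Fact (Nat.Prime 5) := ⟨by norm_num⟩
  have h := Cfsg.Agent.S0242.result (F := ZMod 5) (q := 5) (by simp [ZMod.card]) 2 (by norm_num)
  rw [Fin.prod_univ_two] at h
  show Nat.card (Matrix.SpecialLinearGroup (Fin 2) (ZMod 5)) = 120
  generalize Nat.card (Matrix.SpecialLinearGroup (Fin 2) (ZMod 5)) = c at h ⊢
  norm_num at h
  omega

/-- The group SL(2,5) occurs as a Frobenius complement. -/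
theorem result :
    ∃ (L : Type) (_ : Group L) (_ : Finite L) (H : Subgroup L),
      Cfsg.IsFrobeniusComplement H ∧ Nonempty (H ≃* Matrix.SpecialLinearGroup (Fin 2) (ZMod 5)) := by
  have : Fact (Nat.Prime 11) := ⟨by norm_num⟩
  let e : SL25 ≃* fhom.range := MonoidHom.ofInjective fhom_injective
  have hcard : Nat.card fhom.range = 120 := by
    rw [← Nat.card_congr e.toEquiv]
    exact card_SL25
  have hne : fhom.range ≠ ⊥ := by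
    intro h
    rw [h] at hcard
    simp at hcard
  have hc : (Nat.card fhom.range).Coprime 11 := by
    rw [hcard]; decide
  obtain ⟨L, hL, hfin, H, hF, ⟨eH⟩⟩ := exists_frob (p := 11) fhom.range hne hc
  exact ⟨L, hL, hfin, H, hF, ⟨eH.trans e.symm⟩⟩

end Cfsg.Agent.S3374
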