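import Mathlib
import Cfsg.Statements.S3375
import Cfsg.Agent.Lib.Helper5_CD

set_option autoImplicit false
open Cfsg

namespace Cfsg.Agent.S3375

open Cfsg.Agent.Lib.Helper5_CD
open Subgroup

variable {H : Type*} [Group H]

theorem sq_apply (γ : MulAut H) (hγ : orderOf γ = 2) (h : H) : γ (γ h) = h := by
  have h1 : γ ^ 2 = 1 := by rw [← hγ]; exact pow_orderOf_eq_one γ
  have h2 : (γ ^ 2) h = h := by rw [h1]; rfl
  rw [pow_two, MulAut.mul_apply] at h2
  exact h2

/-- if `γ` inverts two elements and their product, they commute -/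
theorem comm_of_inverts (γ : MulAut H) (a b : H) (ha : γ a = a⁻¹) (hb : γ b = b⁻¹)
    (hab : γ (a * b) = (a * b)⁻¹) : a * b = b * a := by
  rw [map_mul, ha, hb, mul_inv_rev] at hab
  have := congrArg (fun x => x⁻¹) hab
  simp only [mul_inv_rev, inv_inv] at this
  exact this.symm

theorem inverts_range (γ : MulAut H) (hγ : orderOf γ = 2) (h : H) :
    γ (h⁻¹ * γ h) = (h⁻¹ * γ h)⁻¹ := by
  rw [map_mul, map_inv, sq_apply γ hγ, mul_inv_rev, inv_inv]

theorem part1 [Finite H] (γ : MulAut H) (hγ : orderOf γ = 2) (hfpf : ∀ h : H, γ h = h → h = 1) :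
    (∀ a b : H, a * b = b * a) ∧ ∀ h : H, γ h = h⁻¹ := by
  have hinj : Function.Injective (fun h : H => h⁻¹ * γ h) := by
    intro h k hhk
    have hhk' : h⁻¹ * γ h = k⁻¹ * γ k := hhk
    have h1 : γ (k * h⁻¹) = k * h⁻¹ := by
      rw [map_mul, map_inv]
      have : γ k = k * (h⁻¹ * γ h) := by rw [hhk']; group
      rw [this]; group
    have h2 := hfpf _ h1
    have : k = h := by
      have := mul_inv_eq_one.mp h2
      exact this
    exact this.symm
  have hsurj : Function.Surjective (fun h : H => h⁻¹ * γ h) := Finite.injective_iff_surjective.mp hinj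
  have hinv : ∀ g : H, γ g = g⁻¹ := by
    intro g
    obtain ⟨h, rfl⟩ := hsurj g
    exact inverts_range γ hγ h
  exact ⟨fun a b => comm_of_inverts γ a b (hinv a) (hinv b) (hinv _), hinv⟩

/-- a `γ`-invariant subgroup of index 2, from any subgroup of index 2 -/
theorem exists_invariant [Finite H] (γ : MulAut H) (hγ : orderOf γ = 2) (M : Subgroup H) (hM : M.index = 2) :
    ∃ M' : Subgroup H, M'.index = 2 ∧ ∀ h : H, h ∈ M' ↔ γ h ∈ M' := by
  classical
  by_cases hinv : ∀ h : H, h ∈ M ↔ γ h ∈ M
  · exact ⟨M, hM, hinv⟩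
  · -- the characters
    have hN : (M.comap γ.toMonoidHom).index = 2 := by
      rw [Subgroup.index_comap_of_surjective M γ.surjective]; exact hM
    have mkchar : ∀ K : Subgroup H, K.index = 2 → ∃ χ : H →* ℤˣ, ∀ h, χ h = 1 ↔ h ∈ K := by
      intro K hK
      refine ⟨MonoidHom.mk' (fun h => if h ∈ K then 1 else -1) ?_, ?_⟩
      · intro a b
        have := mul_mem_iff_of_index_two hK (a := a) (b := b)
        by_cases ha : a ∈ K <;> by_cases hb : b ∈ K <;> simp [ha, hb, this]
      · intro h
        simp only [MonoidHom.mk'_apply]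
        by_cases hh : h ∈ K <;> simp [hh]
    obtain ⟨χ₁, hχ₁⟩ := mkchar M hM
    obtain ⟨χ₂, hχ₂⟩ := mkchar _ hN
    have hunits : ∀ u : ℤˣ, u = 1 ∨ u = -1 := Int.units_eq_one_or
    have hker : ∀ h : H, (χ₁ * χ₂) h = 1 ↔ (h ∈ M ↔ γ h ∈ M) := by
      intro h
      rw [MonoidHom.mul_apply]
      have e1 := hχ₁ h
      have e2 : χ₂ h = 1 ↔ γ h ∈ M := hχ₂ h
      rcases hunits (χ₁ h) with h1 | h1 <;> rcases hunits (χ₂ h) with h2 | h2
      · simp [h1, h2, ← e1, ← e2]
      · rw [h1, h2]
        simp only [one_mul]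
        constructor
        · intro hc; exact absurd hc (by decide)
        · intro hc
          have : χ₂ h = 1 := e2.mpr (hc.mp (e1.mp h1))
          rw [h2] at this
          exact absurd this (by decide)
      · rw [h1, h2]
        simp only [mul_one]
        constructor
        · intro hc; exact absurd hc (by decide)
        · intro hc
          have : χ₁ h = 1 := e1.mpr (hc.mpr (e2.mp h2))
          rw [h1] at this
          exact absurd this (by decide)
      · rw [h1, h2]
        simp only [mul_neg, mul_one, neg_neg, true_iff]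
        constructor
        · intro hc
          have : χ₁ h = 1 := e1.mpr hc
          rw [h1] at this
          exact absurd this (by decide)
        · intro hc
          have : χ₂ h = 1 := e2.mpr hc
          rw [h2] at this
          exact absurd this (by decide)
    refine ⟨(χ₁ * χ₂).ker, ?_, ?_⟩
    · rw [Subgroup.index_ker]
      have hsurj : (χ₁ * χ₂).range = ⊤ := by
        rw [eq_top_iff]
        intro u _
        rcases hunits u with rfl | rfl
        · exact Subgroup.one_mem _
        · push Not at hinv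
          obtain ⟨h, hh⟩ := hinv
          refine ⟨h, ?_⟩
          rcases hunits ((χ₁ * χ₂) h) with h1 | h1
          · exfalso
            have := (hker h).mp h1
            tauto
          · exact h1
      rw [hsurj, Subgroup.card_top]
      simp [Nat.card_eq_fintype_card]
    · intro h
      rw [MonoidHom.mem_ker, MonoidHom.mem_ker, hker, hker, sq_apply γ hγ]
      tauto

theorem part2 [Finite H] (γ : MulAut H) (hγ : orderOf γ = 2)
    (hfix : Nat.card {h : H // γ h = h} = 2) (M : Subgroup H) (hM : M.index = 2) :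
    ∃ A : Subgroup H, A.index = 2 ∧ IsMulCommutative A ∧ (∀ a ∈ A, γ a ∈ A) ∧ ∀ a ∈ A, γ a = a⁻¹ := by
  obtain ⟨A, hA2, hAinv⟩ := exists_invariant γ hγ M hM
  -- the range of φ lies in A
  have hφA : ∀ h : H, h⁻¹ * γ h ∈ A := by
    intro h
    rw [mul_mem_iff_of_index_two hA2, inv_mem_iff]
    exact hAinv h
  -- fibres of φ
  have hfib : ∀ h : H, Nat.card {k : H // k⁻¹ * γ k = h⁻¹ * γ h} = 2 := by
    intro h
    rw [← hfix]
    apply Nat.card_congr
    exact
      { toFun := fun k => ⟨k.1 * h⁻¹, by
          have hk : (k.1)⁻¹ * γ k.1 = h⁻¹ * γ h := k.2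
          rw [map_mul, map_inv]
          have : γ k.1 = k.1 * (h⁻¹ * γ h) :=
            calc γ k.1 = k.1 * ((k.1)⁻¹ * γ k.1) := by group
              _ = k.1 * (h⁻¹ * γ h) := congrArg (fun z => k.1 * z) hk
          rw [this]; group⟩
        invFun := fun f => ⟨f.1 * h, by
          rw [map_mul, f.2]; group⟩
        left_inv := fun k => by
          apply Subtype.ext
          simp
        right_inv := fun f => by
          apply Subtype.ext
          simp }
  have hcard := card_eq_card_range_mul (fun h : H => h⁻¹ * γ h) 2 hfib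
  have hcardA := Subgroup.card_mul_index A
  rw [hA2] at hcardA
  have hrange : Nat.card (Set.range (fun h : H => h⁻¹ * γ h)) = Nat.card A := by omega
  have hsub : Set.range (fun h : H => h⁻¹ * γ h) ⊆ (A : Set H) := by
    rintro _ ⟨h, rfl⟩
    exact hφA h
  have heq : Set.range (fun h : H => h⁻¹ * γ h) = (A : Set H) := by
    apply Set.eq_of_subset_of_ncard_le hsub _ (Set.toFinite _)
    rw [← Nat.card_coe_set_eq, ← Nat.card_coe_set_eq, hrange]
    rfl
  have hinvA : ∀ a ∈ A, γ a = a⁻¹ := by
    intro a ha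
    have : a ∈ Set.range (fun h : H => h⁻¹ * γ h) := by rw [heq]; exact ha
    obtain ⟨h, rfl⟩ := this
    exact inverts_range γ hγ h
  refine ⟨A, hA2, ?_, fun a ha => (hAinv a).mp ha, hinvA⟩
  refine ⟨⟨fun a b => ?_⟩⟩
  apply Subtype.ext
  exact comm_of_inverts γ a b (hinvA a a.2) (hinvA b b.2) (hinvA _ (A.mul_mem a.2 b.2))

/-- Let γ be an automorphism of order 2 of a finite group H. (i) If γ fixes only the identity, then H is abelian and γ inverts every element. (ii) If γ has exactly two fixed points and H has a subgroup of index 2, then H has a γ-invariant abelian subgroup of index 2 on which γ acts by inversion. -/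
theorem result {H : Type*} [Group H] [Finite H] (γ : MulAut H) (hγ : orderOf γ = 2) :
    ((∀ h : H, γ h = h → h = 1) → (∀ a b : H, a * b = b * a) ∧ ∀ h : H, γ h = h⁻¹) ∧
    ((Nat.card {h : H // γ h = h} = 2 ∧ ∃ M : Subgroup H, M.index = 2) →
      ∃ A : Subgroup H, A.index = 2 ∧ IsMulCommutative A ∧ (∀ a ∈ A, γ a ∈ A) ∧ ∀ a ∈ A, γ a = a⁻¹) := by
  refine ⟨part1 γ hγ, ?_⟩
  rintro ⟨hfix, M, hM⟩
  exact part2 γ hγ hfix M hM

end Cfsg.Agent.S3375
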