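import Cfsg.Statements.S3377
import Cfsg.Agent.Lib.Helper8_A5Pres

set_option autoImplicit false
open Cfsg

namespace Cfsg.Agent.S3377

/-- The alternating group of degree 5 has the presentation ⟨x, y | x³ = 1, y⁵ = 1, (xy)² = 1⟩: the group so presented is isomorphic to Alt(5). -/
theorem result :
    Nonempty (PresentedGroup ({FreeGroup.of (0 : Fin 2) ^ 3, FreeGroup.of (1 : Fin 2) ^ 5,
        (FreeGroup.of (0 : Fin 2) * FreeGroup.of 1) ^ 2} : Set (FreeGroup (Fin 2))) ≃* alternatingGroup (Fin 5)) := by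
  open Cfsg.Agent.Lib.Helper8_A5Pres Cfsg.Agent.Lib.Helper8_A5Pres.Gen in
  obtain ⟨rels, hrels⟩ : ∃ rels : Set (FreeGroup (Fin 2)), rels = {FreeGroup.of (0 : Fin 2) ^ 3,
      FreeGroup.of (1 : Fin 2) ^ 5, (FreeGroup.of (0 : Fin 2) * FreeGroup.of 1) ^ 2} := ⟨_, rfl⟩
  rw [← hrels]
  have mem1 : FreeGroup.of (0 : Fin 2) ^ 3 ∈ rels := by rw [hrels]; simp
  have mem2 : FreeGroup.of (1 : Fin 2) ^ 5 ∈ rels := by rw [hrels]; simp
  have mem3 : (FreeGroup.of (0 : Fin 2) * FreeGroup.of 1) ^ 2 ∈ rels := by rw [hrels]; simp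
  have hx : (PresentedGroup.of 0 : PresentedGroup rels) ^ 3 = 1 := by
    have := PresentedGroup.one_of_mem mem1
    rw [map_pow] at this
    exact this
  have hy : (PresentedGroup.of 1 : PresentedGroup rels) ^ 5 = 1 := by
    have := PresentedGroup.one_of_mem mem2
    rw [map_pow] at this
    exact this
  have hxy : ((PresentedGroup.of 0 : PresentedGroup rels) * PresentedGroup.of 1) ^ 2 = 1 := by
    have := PresentedGroup.one_of_mem mem3
    rw [map_pow, map_mul] at this
    exact this
  have h1 : eval (gP rels) [X, X, X] = 1 := by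
    show eval (gP rels) (List.replicate 3 X) = 1
    rw [eval_replicate]; exact hx
  have h2 : eval (gP rels) [Y, Y, Y, Y, Y] = 1 := by
    show eval (gP rels) (List.replicate 5 Y) = 1
    rw [eval_replicate]; exact hy
  have h3 : eval (gP rels) [X, Y, X, Y] = 1 := by
    simp only [eval_cons, eval_nil, mul_one]
    have := hxy
    rw [pow_two, mul_assoc] at this
    exact this
  obtain ⟨pr1, pr2, pr3⟩ := perm_rel
  have hf₀ : ∀ r ∈ rels, FreeGroup.lift (![perm X, perm Y] : Fin 2 → Equiv.Perm (Fin 5)) r = 1 := by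
    intro r hr
    rw [hrels] at hr
    simp only [Set.mem_insert_iff, Set.mem_singleton_iff] at hr
    rcases hr with rfl | rfl | rfl
    · rw [map_pow, FreeGroup.lift_apply_of]
      show perm X ^ 3 = 1
      rw [← eval_replicate perm X 3]; exact pr1
    · rw [map_pow, FreeGroup.lift_apply_of]
      show perm Y ^ 5 = 1
      rw [← eval_replicate perm Y 5]; exact pr2
    · rw [map_pow, map_mul, FreeGroup.lift_apply_of, FreeGroup.lift_apply_of]
      show (perm X * perm Y) ^ 2 = 1
      have := pr3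
      simp only [eval_cons, eval_nil, mul_one] at this
      rw [pow_two, mul_assoc]; exact this
  obtain ⟨ψ₀, hψ₀⟩ : ∃ ψ₀ : PresentedGroup rels →* Equiv.Perm (Fin 5),
      ψ₀ = PresentedGroup.toGroup hf₀ := ⟨_, rfl⟩
  have hgen : ∀ s, ψ₀ (gP rels s) = perm s := by
    intro s
    rw [hψ₀]
    cases s
    · exact PresentedGroup.toGroup.of hf₀
    · exact PresentedGroup.toGroup.of hf₀
  have hΦ : ∀ w, ψ₀ (eval (gP rels) w) = eval perm w := by
    intro w
    rw [eval_map]
    congr 1
    funext s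
    exact hgen s
  have hsX : Equiv.Perm.sign (perm X) = 1 := by
    show Equiv.Perm.sign (Equiv.swap 0 3 * Equiv.swap 3 1) = 1
    rw [Equiv.Perm.sign_mul, Equiv.Perm.sign_swap (by decide), Equiv.Perm.sign_swap (by decide)]
    decide
  have hsY : Equiv.Perm.sign (perm Y) = 1 := by
    show Equiv.Perm.sign (Equiv.swap 0 1 * Equiv.swap 1 2 * (Equiv.swap 2 3 * Equiv.swap 3 4)) = 1
    rw [Equiv.Perm.sign_mul, Equiv.Perm.sign_mul, Equiv.Perm.sign_mul,
      Equiv.Perm.sign_swap (by decide), Equiv.Perm.sign_swap (by decide),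
      Equiv.Perm.sign_swap (by decide), Equiv.Perm.sign_swap (by decide)]
    decide
  have hsign : (Equiv.Perm.sign.comp ψ₀) = 1 := by
    apply PresentedGroup.ext
    intro a
    fin_cases a
    · show Equiv.Perm.sign (ψ₀ (gP rels X)) = 1
      rw [hgen]; exact hsX
    · show Equiv.Perm.sign (ψ₀ (gP rels Y)) = 1
      rw [hgen]; exact hsY
  have hmem : ∀ z, ψ₀ z ∈ alternatingGroup (Fin 5) := by
    intro z
    rw [Equiv.Perm.mem_alternatingGroup]
    have := DFunLike.congr_fun hsign z
    exact this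
  have hsurjE : ∀ z : PresentedGroup rels, ∃ w ∈ nforms, z = eval (gP rels) w := by
    intro z
    obtain ⟨l, rfl⟩ := exists_word rels hx hy z
    exact exists_nform (gP rels) h1 h2 h3 l
  have hinj₀ : Function.Injective ψ₀ := by
    intro z z' h
    obtain ⟨w, hw, rfl⟩ := hsurjE z
    obtain ⟨w', hw', rfl⟩ := hsurjE z'
    rw [hΦ, hΦ] at h
    rw [List.inj_on_of_nodup_map nforms_nodup hw hw' h]
  have hnd : nforms.Nodup := List.Nodup.of_map _ nforms_nodup
  have hFinj : Function.Injective (fun i : Fin nforms.length =>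
      (⟨ψ₀ (eval (gP rels) (nforms.get i)), hmem _⟩ : alternatingGroup (Fin 5))) := by
    intro i j hij
    have h : ψ₀ (eval (gP rels) (nforms.get i)) = ψ₀ (eval (gP rels) (nforms.get j)) :=
      congrArg Subtype.val hij
    rw [hΦ, hΦ] at h
    have := List.inj_on_of_nodup_map nforms_nodup (List.get_mem _ i) (List.get_mem _ j) h
    exact List.nodup_iff_injective_get.mp hnd this
  have hFbij := Function.Injective.bijective_of_nat_card_le hFinj (by
    rw [nat_card_alternatingGroup, Nat.card_fin, Nat.card_fin, nforms_length]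
    decide)
  refine ⟨MulEquiv.ofBijective (ψ₀.codRestrict (alternatingGroup (Fin 5)) hmem) ⟨?_, ?_⟩⟩
  · intro z z' h
    apply hinj₀
    exact congrArg Subtype.val h
  · intro σ
    obtain ⟨i, hi⟩ := hFbij.2 σ
    exact ⟨eval (gP rels) (nforms.get i), hi⟩

end Cfsg.Agent.S3377
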