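import Mathlib
import Cfsg.Statements.S3379
import Cfsg.Agent.Lib.Helper7_Regular

set_option autoImplicit false
open Cfsg

namespace Cfsg.Agent.S3379

open Subgroup
open scoped commutatorElement

/-- Let G be a finite group all of whose Sylow subgroups are cyclic. Then G is generated by two elements x and y of coprime orders n and m with x⁻¹yx = y^r, where gcd(r − 1, m) = 1 and r^n ≡ 1 (mod m). -/
theorem result {G : Type*} [Group G] [Finite G]
    (hZ : ∀ (p : ℕ) [Fact p.Prime] (P : Sylow p G), IsCyclic (P : Subgroup G)) :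
    ∃ (x y : G) (n m r : ℕ), Subgroup.closure {x, y} = ⊤ ∧ orderOf x = n ∧ orderOf y = m ∧
      x⁻¹ * y * x = y ^ r ∧ Nat.Coprime (r - 1) m ∧ Nat.Coprime n m ∧ 1 ≤ r ∧ r ^ n % m = 1 % m := by
  haveI hG : IsZGroup G := ⟨fun p hp P => by haveI := Fact.mk hp; exact hZ p P⟩
  set K := commutator G with hK
  have hKn : K.Normal := inferInstance
  have hcop := IsZGroup.coprime_commutator_index G
  obtain ⟨H, hH⟩ := Subgroup.exists_right_complement'_of_coprime hcop
  have hKc : IsCyclic K := IsZGroup.isCyclic_commutator G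
  have hHc : IsCyclic H := by
    have h1 : Abelianization G ≃* H := hH.symm.QuotientMulEquiv
    exact isCyclic_of_surjective _ h1.surjective
  obtain ⟨y0, hy0⟩ := hKc.exists_generator
  obtain ⟨x0, hx0⟩ := hHc.exists_generator
  set x : G := (x0 : G) with hxdef
  set y : G := (y0 : G) with hydef
  have hKy : K = zpowers y := by
    apply le_antisymm
    · intro k hk
      have := hy0 ⟨k, hk⟩
      rw [mem_zpowers_iff] at this ⊢
      obtain ⟨i, hi⟩ := this
      refine ⟨i, ?_⟩
      have := congrArg Subtype.val hi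
      simpa using this
    · rw [zpowers_le]; exact y0.2
  have hHx : H = zpowers x := by
    apply le_antisymm
    · intro k hk
      have := hx0 ⟨k, hk⟩
      rw [mem_zpowers_iff] at this ⊢
      obtain ⟨i, hi⟩ := this
      refine ⟨i, ?_⟩
      have := congrArg Subtype.val hi
      simpa using this
    · rw [zpowers_le]; exact x0.2
  have hcardK : Nat.card K = orderOf y := by rw [hKy, Nat.card_zpowers]
  have hcardH : Nat.card H = orderOf x := by rw [hHx, Nat.card_zpowers]
  have hidx : K.index = Nat.card H := by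
    have h1 := hH.card_mul
    have h2 := K.card_mul_index
    have hpos : 0 < Nat.card K := Nat.card_pos
    exact Nat.eq_of_mul_eq_mul_left hpos (h2.trans h1.symm)
  set m := orderOf y with hm
  set n := orderOf x with hn
  have hm0 : 0 < m := orderOf_pos y
  have hnm : Nat.Coprime n m := by
    rw [← hcardH, ← hidx, ← hcardK]; exact hcop.symm
  have hgen : closure ({x, y} : Set G) = ⊤ := by
    have h1 : K ⊔ H = ⊤ := hH.sup_eq_top
    rw [eq_top_iff, ← h1, hKy, hHx]
    apply sup_le
    · rw [zpowers_le]; exact subset_closure (by simp)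
    · rw [zpowers_le]; exact subset_closure (by simp)
  -- the conjugate
  have hconjK : x⁻¹ * y * x ∈ K := by
    have := hKn.conj_mem y y0.2 x⁻¹
    simpa using this
  rw [hKy, ← mem_powers_iff_mem_zpowers] at hconjK
  obtain ⟨r0, hr0⟩ := hconjK
  set r := r0 + m with hr
  have hr1 : 1 ≤ r := by omega
  have hyr : x⁻¹ * y * x = y ^ r := by
    rw [hr, pow_add, hm, pow_orderOf_eq_one, mul_one]; exact hr0.symm
  -- powers
  have hpow : ∀ k : ℕ, (x ^ k)⁻¹ * y * x ^ k = y ^ (r ^ k) := by
    intro k
    induction k with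
    | zero => simp
    | succ k ih =>
      have e : (x ^ (k + 1))⁻¹ * y * x ^ (k + 1) = x⁻¹ * ((x ^ k)⁻¹ * y * x ^ k) * x := by
        rw [pow_succ]; group
      rw [e, ih]
      have e2 : x⁻¹ * y ^ (r ^ k) * x = (x⁻¹ * y * x) ^ (r ^ k) := by
        have := conj_pow (a := x⁻¹) (b := y) (i := r ^ k)
        rw [inv_inv] at this
        exact this.symm
      rw [e2, hyr, ← pow_mul, pow_succ, mul_comm]
  have hrn : r ^ n % m = 1 % m := by
    have h1 := hpow n
    rw [hn, pow_orderOf_eq_one] at h1
    have h2 : y ^ (r ^ orderOf x) = y ^ 1 := by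
      rw [← h1]; simp
    have := (pow_eq_pow_iff_modEq).mp h2
    exact this
  -- coprimality of r - 1 and m
  have hcopr : Nat.Coprime (r - 1) m := by
    set L := zpowers (y ^ (r - 1)) with hL
    have hLK : L ≤ K := by
      rw [hL, zpowers_le, hKy]; exact Subgroup.pow_mem _ (mem_zpowers y) _
    have hLn : L.Normal := by
      constructor
      intro l hl g
      rw [hL, mem_zpowers_iff] at hl
      obtain ⟨i, rfl⟩ := hl
      have h1 : g * y * g⁻¹ ∈ K := hKn.conj_mem y y0.2 g
      rw [hKy, mem_zpowers_iff] at h1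
      obtain ⟨s, hs⟩ := h1
      have e : g * (y ^ (r - 1)) ^ i * g⁻¹ = ((y ^ (r - 1)) ^ s) ^ i := by
        have h2 : g * (y ^ (r - 1)) ^ i * g⁻¹ = ((g * y * g⁻¹) ^ (r - 1)) ^ i := by
          rw [conj_pow, conj_zpow]
        rw [h2, ← hs, ← zpow_natCast, ← zpow_natCast, ← zpow_mul, ← zpow_mul, ← zpow_mul,
          ← zpow_mul]
        congr 1
        ring
      rw [e]
      exact Subgroup.zpow_mem _ (Subgroup.zpow_mem _ (mem_zpowers _) _) _
    have hcomm : ⁅x⁻¹, y⁆ ∈ L := by
      have e : ⁅x⁻¹, y⁆ = y ^ (r - 1) := by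
        rw [commutatorElement_def, inv_inv, hyr]
        have : r = (r - 1) + 1 := by omega
        rw [this, pow_succ]
        simp
      rw [e]; exact mem_zpowers _
    have hgen' : closure ({x⁻¹, y} : Set G) = ⊤ := by
      rw [eq_top_iff, ← hgen]
      rw [closure_le]
      intro z hz
      rcases hz with hz | hz
      · have h1 : x⁻¹ ∈ closure ({x⁻¹, y} : Set G) := subset_closure (by simp)
        have h2 := Subgroup.inv_mem _ h1
        rw [inv_inv] at h2
        rw [hz]; exact h2
      · rw [Set.mem_singleton_iff] at hz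
        rw [hz]; exact subset_closure (by simp)
    have hKL : K ≤ L :=
      Cfsg.Agent.Lib.Helper7_Regular.commutator_le_of_gen L x⁻¹ y hgen' hcomm
    have hLeq : L = K := le_antisymm hLK hKL
    have hcardL : Nat.card L = m := by rw [hLeq, hcardK]
    rw [hL, Nat.card_zpowers, orderOf_pow y] at hcardL
    have h3 : m / Nat.gcd m (r - 1) = m := hcardL
    have h4 := (Nat.div_eq_self).mp h3
    rcases h4 with h4 | h4
    · omega
    · rw [Nat.Coprime, Nat.gcd_comm]; exact h4
  exact ⟨x, y, n, m, r, hgen, rfl, rfl, hyr, hcopr, hnm, hr1, hrn⟩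

end Cfsg.Agent.S3379
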