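import Mathlib
import Cfsg.Statements.S3381

set_option autoImplicit false

open Cfsg

namespace Cfsg.Agent.S3381

theorem card_mul_le {q : ℕ} {V : Type*} [AddCommGroup V] [Module (ZMod q) V] [Finite V]
    (A B : Submodule (ZMod q) V) (h : ∀ x, x ∈ A → x ∈ B → x = 0) :
    Nat.card A * Nat.card B ≤ Nat.card V := by
  rw [← Nat.card_prod]
  apply Nat.card_le_card_of_injective (fun ab : A × B => (ab.1 : V) + ab.2)
  rintro ⟨a, b⟩ ⟨a', b'⟩ hab
  have hab' : (a : V) + b = a' + b' := hab
  have h1 : (a : V) - a' = b' - b := by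
    rw [sub_eq_sub_iff_add_eq_add, hab', add_comm]
  have h2 : (a : V) - a' = 0 :=
    h _ (A.sub_mem a.2 a'.2) (h1 ▸ B.sub_mem b'.2 b.2)
  have h3 : (b' : V) - b = 0 := by rw [← h1]; exact h2
  have ha : a = a' := Subtype.ext (sub_eq_zero.mp h2)
  have hb : b = b' := Subtype.ext (sub_eq_zero.mp h3).symm
  rw [ha, hb]

theorem card_mul_eq {q : ℕ} {V : Type*} [AddCommGroup V] [Module (ZMod q) V] [Finite V]
    (A B : Submodule (ZMod q) V) (h : ∀ x, x ∈ A → x ∈ B → x = 0)
    (hs : ∀ v : V, ∃ a ∈ A, ∃ b ∈ B, v = a + b) :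
    Nat.card A * Nat.card B = Nat.card V := by
  apply le_antisymm (card_mul_le A B h)
  rw [← Nat.card_prod]
  apply Nat.card_le_card_of_surjective (fun ab : A × B => (ab.1 : V) + ab.2)
  intro v
  obtain ⟨a, ha, b, hb, rfl⟩ := hs v
  exact ⟨(⟨a, ha⟩, ⟨b, hb⟩), rfl⟩

theorem two_cover {q : ℕ} {V : Type*} [AddCommGroup V] [Module (ZMod q) V]
    (f : V ≃ₗ[ZMod q] V) (h : ∀ v, f v = v ∨ f v = -v) : (∀ v, f v = v) ∨ (∀ v, f v = -v) := by
  by_contra hcon
  push Not at hcon
  obtain ⟨⟨a, ha⟩, ⟨b, hb⟩⟩ := hcon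
  have ha' : f a = -a := (h a).resolve_left ha
  have hb' : f b = b := (h b).resolve_right hb
  rcases h (a + b) with h1 | h1
  · rw [map_add, ha', hb'] at h1
    have : -a = a := add_right_cancel h1
    exact ha (by rw [ha', this])
  · rw [map_add, ha', hb', neg_add] at h1
    have : b = -b := add_left_cancel h1
    exact hb (by rw [hb']; exact this)


/-- Let G be a finite group acting faithfully and linearly on a non-trivial finite vector space V over the field with q elements (q prime) so that every non-zero vector has a stabilizer of order 2, and suppose G has a central involution. Then V has q^(2r) elements for some r and G contains exactly q^r + 1 non-central involutions. -/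
theorem result
    (q : ℕ) [Fact q.Prime] {V : Type*} [AddCommGroup V] [Module (ZMod q) V] [Finite V] [Nontrivial V]
    {G : Type*} [Group G] [Finite G] (ρ : G →* (V ≃ₗ[ZMod q] V)) (hρ : Function.Injective ρ)
    (hstab : ∀ v : V, v ≠ 0 → Nat.card {g : G // ρ g v = v} = 2)
    (z : G) (hz : orderOf z = 2) (hzc : z ∈ Subgroup.center G) :
    ∃ r : ℕ, Nat.card V = q ^ (2 * r) ∧
      Nat.card {g : G // orderOf g = 2 ∧ g ∉ Subgroup.center G} = q ^ r + 1 := by
  classical
  have hqq := (Fact.out : q.Prime)
  have hz1 : z ≠ 1 := by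
    intro h
    rw [h, orderOf_one] at hz
    omega
  have hzz : z * z = 1 := by
    have := pow_orderOf_eq_one z
    rwa [hz, pow_two] at this
  have hzc' : ∀ g : G, g * z = z * g := fun g => Subgroup.mem_center_iff.mp hzc g
  -- Step A: the involution fixing a vector
  have hA : ∀ v : V, v ≠ 0 → ∃ t : G, t ≠ 1 ∧ ρ t v = v ∧ (∀ g, ρ g v = v → g = 1 ∨ g = t) ∧
      t * t = 1 := by
    intro v hv
    have h2 := hstab v hv
    have hone : ρ (1 : G) v = v := by rw [map_one]; rfl
    obtain ⟨⟨t, ht⟩, hne, huniq⟩ :=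
      (Nat.card_eq_two_iff' (⟨1, hone⟩ : {g : G // ρ g v = v})).mp h2
    have ht1 : t ≠ 1 := fun h => hne (Subtype.ext h)
    have hall : ∀ g, ρ g v = v → g = 1 ∨ g = t := by
      intro g hg
      by_cases h1 : g = 1
      · exact Or.inl h1
      · right
        have := huniq ⟨g, hg⟩ (fun h => h1 (congrArg Subtype.val h))
        exact congrArg Subtype.val this
    refine ⟨t, ht1, ht, hall, ?_⟩
    have htt : ρ (t * t) v = v := by
      rw [map_mul]
      show ρ t (ρ t v) = v
      rw [ht, ht]
    rcases hall _ htt with h | h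
    · exact h
    · exfalso
      apply ht1
      have : t * t = t * 1 := by rw [h, mul_one]
      exact mul_left_cancel this
  have hC : ∀ v : V, v ≠ 0 → ∀ s t : G, s ≠ 1 → t ≠ 1 → ρ s v = v → ρ t v = v → s = t := by
    intro v hv s t hs ht hsv htv
    obtain ⟨u, _, _, hall, _⟩ := hA v hv
    rcases hall s hsv with h | h
    · exact absurd h hs
    · rcases hall t htv with h' | h'
      · exact absurd h' ht
      · rw [h, h']
  -- Step D: a central involution acts as -1
  have hD : ∀ c : G, c ∈ Subgroup.center G → c ≠ 1 → c * c = 1 → ∀ v : V, ρ c v = -v := by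
    intro c hcc hc1 hcc1
    have hcg : ∀ g : G, g * c = c * g := fun g => Subgroup.mem_center_iff.mp hcc g
    have hsq : ∀ v : V, ρ c (ρ c v) = v := by
      intro v
      have : ρ (c * c) v = v := by rw [hcc1, map_one]; rfl
      rwa [map_mul] at this
    have hdich : ∀ v : V, ρ c v = v ∨ v + ρ c v = 0 := by
      intro v
      by_cases hv : v = 0
      · left; rw [hv, map_zero]
      by_cases hw : v + ρ c v = 0
      · exact Or.inr hw
      left
      obtain ⟨t, ht1, htv, hall, _⟩ := hA v hv
      have htu : ρ t (ρ c v) = ρ c v := by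
        calc ρ t (ρ c v) = ρ (t * c) v := by rw [map_mul]; rfl
          _ = ρ (c * t) v := by rw [hcg t]
          _ = ρ c (ρ t v) := by rw [map_mul]; rfl
          _ = ρ c v := by rw [htv]
      have h1 : ρ t (v + ρ c v) = v + ρ c v := by rw [map_add, htv, htu]
      have h2 : ρ c (v + ρ c v) = v + ρ c v := by rw [map_add, hsq, add_comm]
      have := hC _ hw c t hc1 ht1 h2 h1
      rw [this]; exact htv
    by_contra hcon
    push Not at hcon
    obtain ⟨v₀, hv₀⟩ := hcon
    have hv₀fix : ρ c v₀ = v₀ := by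
      rcases hdich v₀ with h | h
      · exact h
      · exact absurd (eq_neg_of_add_eq_zero_right h) hv₀
    have hall : ∀ w : V, ρ c w = w := by
      intro w
      rcases hdich w with h | h
      · exact h
      · have hw : ρ c w = -w := eq_neg_of_add_eq_zero_right h
        rcases hdich (v₀ + w) with h' | h'
        · rw [map_add, hv₀fix, hw] at h'
          have : -w = w := add_left_cancel h'
          rw [hw, this]
        · rw [map_add, hv₀fix, hw] at h'
          have h3 : v₀ + v₀ = 0 := by
            have : v₀ + w + (v₀ + -w) = v₀ + v₀ := by abel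
            rw [← this]; exact h'
          exfalso
          apply hv₀
          rw [hv₀fix]
          exact eq_neg_of_add_eq_zero_right h3
    apply hc1
    apply hρ
    rw [map_one]
    ext w
    exact hall w
  have hzneg : ∀ v : V, ρ z v = -v := hD z hzc hz1 hzz
  -- q is odd: v + v ≠ 0 for v ≠ 0
  have htwo : ∀ v : V, v + v = 0 → v = 0 := by
    intro v hv
    by_contra hv0
    have hall : ∀ w : V, w + w = 0 := by
      intro w
      have h2 : (2 : ZMod q) • v = 0 := by rw [two_smul]; exact hv
      rcases smul_eq_zero.mp h2 with h | h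
      · rw [← two_smul (ZMod q), h, zero_smul]
      · exact absurd h hv0
    apply hz1
    apply hρ
    rw [map_one]
    ext w
    rw [hzneg]
    exact (eq_neg_of_add_eq_zero_left (hall w)).symm
  -- fixed spaces
  let Fx : G → Submodule (ZMod q) V :=
    fun t => LinearMap.ker ((ρ t : V →ₗ[ZMod q] V) - LinearMap.id)
  have hFx : ∀ t v, v ∈ Fx t ↔ ρ t v = v := by
    intro t v
    simp [Fx, LinearMap.mem_ker, sub_eq_zero]
  -- the relevant involutions
  let Inv : G → Prop := fun g => g ≠ 1 ∧ g * g = 1 ∧ g ≠ z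
  have hI : ∀ g, (orderOf g = 2 ∧ g ∉ Subgroup.center G) ↔ Inv g := by
    intro g
    constructor
    · rintro ⟨ho, hc⟩
      refine ⟨?_, ?_, ?_⟩
      · intro h; rw [h, orderOf_one] at ho; omega
      · have := pow_orderOf_eq_one g
        rwa [ho, pow_two] at this
      · intro h; exact hc (h ▸ hzc)
    · rintro ⟨h1, h2, h3⟩
      refine ⟨orderOf_eq_prime (by rw [pow_two]; exact h2) h1, ?_⟩
      intro hc
      apply h3
      apply hρ
      ext v
      rw [hD g hc h1 h2 v, hzneg v]
  have hG1 : ∀ t, Inv t → ∃ v : V, v ≠ 0 ∧ ρ t v = v := by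
    rintro t ⟨h1, h2, h3⟩
    have hex : ∃ v : V, ρ t v ≠ -v := by
      by_contra hcon
      push Not at hcon
      apply h3
      apply hρ
      ext v
      rw [hcon v, hzneg v]
    obtain ⟨v, hv⟩ := hex
    refine ⟨v + ρ t v, ?_, ?_⟩
    · intro h
      exact hv (eq_neg_of_add_eq_zero_right h)
    · have : ρ t (ρ t v) = v := by
        have : ρ (t * t) v = v := by rw [h2, map_one]; rfl
        rwa [map_mul] at this
      rw [map_add, this, add_comm]
  have hFxz : ∀ t v, v ∈ Fx (t * z) ↔ ρ t v = -v := by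
    intro t v
    rw [hFx, map_mul]
    show ρ t (ρ z v) = v ↔ _
    rw [hzneg, map_neg, neg_eq_iff_eq_neg]
  have hInvz : ∀ t, Inv t → Inv (t * z) := by
    rintro t ⟨h1, h2, h3⟩
    refine ⟨?_, ?_, ?_⟩
    · intro h
      apply h3
      calc t = t * z * z := by rw [mul_assoc, hzz, mul_one]
        _ = z := by rw [h, one_mul]
    · calc t * z * (t * z) = t * (z * t) * z := by group
        _ = t * (t * z) * z := by rw [hzc' t]
        _ = (t * t) * (z * z) := by group
        _ = 1 := by rw [h2, hzz, one_mul]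
    · intro h
      apply h1
      have : t * z = 1 * z := by rw [h, one_mul]
      exact mul_right_cancel this
  have h2ne : (2 : ZMod q) ≠ 0 := by
    intro h
    obtain ⟨v, hv⟩ := exists_ne (0 : V)
    apply hv
    apply htwo
    rw [← two_smul (ZMod q), h, zero_smul]
  -- cardinalities
  have hH1 : ∀ t, Inv t → Nat.card (Fx t) * Nat.card (Fx (t * z)) = Nat.card V := by
    intro t ht
    have htt : ∀ v, ρ t (ρ t v) = v := by
      intro v
      have : ρ (t * t) v = v := by rw [ht.2.1, map_one]; rfl
      rwa [map_mul] at this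
    apply card_mul_eq
    · intro x hx hx'
      rw [hFx] at hx
      rw [hFxz] at hx'
      apply htwo
      have : x = -x := hx.symm.trans hx'
      nth_rewrite 2 [this]
      exact add_neg_cancel x
    · intro v
      refine ⟨(2 : ZMod q)⁻¹ • (v + ρ t v), ?_, (2 : ZMod q)⁻¹ • (v - ρ t v), ?_, ?_⟩
      · rw [hFx, map_smul, map_add, htt, add_comm]
      · rw [hFxz, map_smul, map_sub, htt, ← smul_neg, neg_sub]
      · rw [← smul_add]
        have : v + ρ t v + (v - ρ t v) = (2 : ZMod q) • v := by rw [two_smul]; abel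
        rw [this, smul_smul, inv_mul_cancel₀ h2ne, one_smul]
  have hH2 : ∀ s t, Inv s → Inv t → s ≠ t → Nat.card (Fx s) * Nat.card (Fx t) ≤ Nat.card V := by
    intro s t hs ht hst
    apply card_mul_le
    intro x hx hx'
    by_contra hx0
    exact hst (hC x hx0 s t hs.1 ht.1 ((hFx s x).mp hx) ((hFx t x).mp hx'))
  have hpos : ∀ t, 0 < Nat.card (Fx t) := fun t => Nat.card_pos
  -- a third involution
  have hthird : ∀ t, Inv t → ∃ s, Inv s ∧ s ≠ t ∧ s ≠ t * z := by
    intro t ht
    have hex : ∃ v : V, ρ t v ≠ v ∧ ρ t v ≠ -v := by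
      by_contra hcon
      push Not at hcon
      have hcov : ∀ v, ρ t v = v ∨ ρ t v = -v := by
        intro v
        by_cases h : ρ t v = v
        · exact Or.inl h
        · exact Or.inr (hcon v h)
      rcases two_cover (ρ t) hcov with h | h
      · apply ht.1
        apply hρ
        rw [map_one]
        ext v
        exact h v
      · apply ht.2.2
        apply hρ
        ext v
        rw [h v, hzneg v]
    obtain ⟨v, hv1, hv2⟩ := hex
    have hv0 : v ≠ 0 := by
      intro h
      apply hv1
      rw [h, map_zero]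
    obtain ⟨s, hs1, hsv, hall, hss⟩ := hA v hv0
    refine ⟨s, ⟨hs1, hss, ?_⟩, ?_, ?_⟩
    · intro h
      rw [h, hzneg] at hsv
      apply hv0
      apply htwo
      nth_rewrite 1 [← hsv]
      exact neg_add_cancel v
    · intro h
      exact hv1 (h ▸ hsv)
    · intro h
      rw [h] at hsv
      have := (hFxz t v).mp ((hFx _ v).mpr hsv)
      exact hv2 this
  have hsq : ∀ t, Inv t → Nat.card (Fx t) * Nat.card (Fx t) = Nat.card V := by
    intro t ht
    obtain ⟨s, hs, hst, hstz⟩ := hthird t ht
    have htz := hInvz t ht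
    have hsz := hInvz s hs
    have e1 := hH1 t ht
    have e2 := hH1 s hs
    have hszt : s * z ≠ t := by
      intro h
      apply hstz
      calc s = s * z * z := by rw [mul_assoc, hzz, mul_one]
        _ = t * z := by rw [h]
    have hsztz : s * z ≠ t * z := fun h => hst (mul_right_cancel h)
    have i1 := hH2 s t hs ht hst
    have i2 := hH2 s (t * z) hs htz hstz
    have i3 := hH2 (s * z) t hsz ht hszt
    have i4 := hH2 (s * z) (t * z) hsz htz hsztz
    have p1 := hpos t
    have p2 := hpos (t * z)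
    have p3 := hpos s
    have p4 := hpos (s * z)
    set a := Nat.card (Fx t)
    set b := Nat.card (Fx (t * z))
    set c := Nat.card (Fx s)
    set d := Nat.card (Fx (s * z))
    set N := Nat.card V
    -- c ≤ b, c ≤ a, d ≤ b, d ≤ a, c d = a b
    have hcb : c ≤ b := by
      have : c * a ≤ b * a := by rw [mul_comm b a, e1]; exact i1
      exact Nat.le_of_mul_le_mul_right this p1
    have hca : c ≤ a := by
      have : c * b ≤ a * b := by rw [e1]; exact i2
      exact Nat.le_of_mul_le_mul_right this p2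
    have hdb : d ≤ b := by
      have : d * a ≤ b * a := by rw [mul_comm b a, e1]; exact i3
      exact Nat.le_of_mul_le_mul_right this p1
    have hda : d ≤ a := by
      have : d * b ≤ a * b := by rw [e1]; exact i4
      exact Nat.le_of_mul_le_mul_right this p2
    have hab : a = b := by
      by_contra hne
      rcases Nat.lt_or_gt_of_ne hne with h | h
      · -- a < b: c d ≤ a a < a b
        have : c * d ≤ a * a := Nat.mul_le_mul hca hda
        have h2 : a * a < a * b := Nat.mul_lt_mul_of_pos_left h p1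
        omega
      · have : c * d ≤ b * b := Nat.mul_le_mul hcb hdb
        have h2 : b * b < a * b := Nat.mul_lt_mul_of_pos_right h p2
        omega
    rw [← e1, ← hab]
  -- some involution exists
  obtain ⟨v₁, hv₁⟩ := exists_ne (0 : V)
  obtain ⟨t₀, ht₀1, ht₀v, _, ht₀t⟩ := hA v₁ hv₁
  have ht₀ : Inv t₀ := by
    refine ⟨ht₀1, ht₀t, ?_⟩
    intro h
    rw [h, hzneg] at ht₀v
    apply hv₁
    apply htwo
    nth_rewrite 1 [← ht₀v]
    exact neg_add_cancel v₁
  obtain ⟨r, hr⟩ : ∃ r : ℕ, Nat.card (Fx t₀) = q ^ r := by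
    refine ⟨Module.finrank (ZMod q) (Fx t₀), ?_⟩
    rw [Module.natCard_eq_pow_finrank (K := ZMod q) (V := Fx t₀), Nat.card_zmod]
  have hN : Nat.card V = q ^ (2 * r) := by
    rw [← hsq t₀ ht₀, hr, two_mul, pow_add]
  have hall : ∀ t, Inv t → Nat.card (Fx t) = q ^ r := by
    intro t ht
    have h1 := hsq t ht
    have h2 := hsq t₀ ht₀
    rw [hr] at h2
    exact Nat.mul_self_inj.mp (h1.trans h2.symm)
  have hm2 : 2 ≤ q ^ r := by
    rw [← hr]
    obtain ⟨v, hv0, hv⟩ := hG1 t₀ ht₀
    haveI : Nontrivial (Fx t₀) :=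
      ⟨⟨⟨v, (hFx t₀ v).mpr hv⟩, 0, fun h => hv0 (congrArg Subtype.val h)⟩⟩
    exact Finite.one_lt_card
  refine ⟨r, hN, ?_⟩
  haveI : Fintype G := Fintype.ofFinite G
  haveI : Fintype V := Fintype.ofFinite V
  let τ : V → G := fun v => if h : v ≠ 0 then Classical.choose (hA v h) else 1
  have hτ : ∀ v (h : v ≠ 0), τ v ≠ 1 ∧ ρ (τ v) v = v ∧ τ v * τ v = 1 := by
    intro v h
    have hs := Classical.choose_spec (hA v h)
    have e : τ v = Classical.choose (hA v h) := by simp only [τ, dif_pos h]
    rw [e]
    exact ⟨hs.1, hs.2.1, hs.2.2.2⟩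
  have hτInv : ∀ v (h : v ≠ 0), Inv (τ v) := by
    intro v h
    obtain ⟨h1, h2, h3⟩ := hτ v h
    refine ⟨h1, h3, ?_⟩
    intro hz'
    rw [hz', hzneg] at h2
    apply h
    apply htwo
    nth_rewrite 1 [← h2]
    exact neg_add_cancel v
  let sV : Finset V := Finset.univ.filter (fun v => v ≠ 0)
  let sT : Finset G := Finset.univ.filter (fun g => Inv g)
  have hsV : sV.card = Nat.card V - 1 := by
    have : sV = Finset.univ.erase 0 := by
      ext v; simp [sV]
    rw [this, Finset.card_erase_of_mem (Finset.mem_univ _), Finset.card_univ,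
      Nat.card_eq_fintype_card]
  have hmaps : ∀ v ∈ sV, τ v ∈ sT := by
    intro v hv
    have hv0 : v ≠ 0 := (Finset.mem_filter.mp hv).2
    exact Finset.mem_filter.mpr ⟨Finset.mem_univ _, hτInv v hv0⟩
  have hfib : ∀ b ∈ sT, (sV.filter (fun v => τ v = b)).card = q ^ r - 1 := by
    intro b hb
    have hbI : Inv b := (Finset.mem_filter.mp hb).2
    have e1 : sV.filter (fun v => τ v = b) = (Finset.univ.filter (fun v => v ∈ Fx b)).erase 0 := by
      ext v
      simp only [Finset.mem_filter, Finset.mem_univ, true_and, Finset.mem_erase, sV]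
      constructor
      · rintro ⟨hv0, hτb⟩
        refine ⟨hv0, ?_⟩
        rw [hFx, ← hτb]
        exact (hτ v hv0).2.1
      · rintro ⟨hv0, hvb⟩
        refine ⟨hv0, ?_⟩
        exact hC v hv0 _ _ (hτ v hv0).1 hbI.1 (hτ v hv0).2.1 ((hFx b v).mp hvb)
    rw [e1, Finset.card_erase_of_mem (by simp)]
    congr 1
    rw [← hall b hbI, Nat.card_eq_fintype_card, Fintype.card_subtype]
  have hcount := Finset.card_eq_sum_card_fiberwise hmaps
  rw [Finset.sum_congr rfl hfib, Finset.sum_const, smul_eq_mul, hsV, hN] at hcount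
  have hT : sT.card = q ^ r + 1 := by
    have h1 : q ^ (2 * r) - 1 = (q ^ r + 1) * (q ^ r - 1) := by
      have h3 : q ^ (2 * r) = q ^ r * q ^ r := by rw [two_mul, pow_add]
      rw [h3]
      obtain ⟨k, hk⟩ : ∃ k, q ^ r = k + 2 := ⟨q ^ r - 2, by omega⟩
      rw [hk]
      have : (k + 2) * (k + 2) - 1 = (k + 2 + 1) * (k + 2 - 1) := by
        have h4 : k + 2 - 1 = k + 1 := by omega
        rw [h4]
        have h5 : (k + 2) * (k + 2) = (k + 2 + 1) * (k + 1) + 1 := by ring
        rw [h5]; omega
      exact this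
    rw [h1] at hcount
    have hpos' : 0 < q ^ r - 1 := by omega
    exact (Nat.eq_of_mul_eq_mul_right hpos' hcount).symm
  rw [← hT, Nat.card_eq_fintype_card, Fintype.card_subtype]
  congr 1
  ext g
  simp only [Finset.mem_filter, Finset.mem_univ, true_and, sT]
  exact hI g

end Cfsg.Agent.S3381
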