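import Mathlib
import Cfsg.Statements.S3383

set_option autoImplicit false
open Cfsg

namespace Cfsg.Agent.S3383

open scoped Pointwise

theorem mem_conj_smul {G : Type*} [Group G] (g x : G) (H : Subgroup G) :
    x ∈ MulAut.conj g • H ↔ g⁻¹ * x * g ∈ H := by
  rw [Subgroup.mem_pointwise_smul_iff_inv_smul_mem, MulAut.smul_def, MulAut.conj_inv_apply]

theorem mem_K_iff {L : Type*} [Group L] (H K : Subgroup L)
    (hK : (K : Set L) = Cfsg.frobeniusKernel H) (x : L) :
    x ∈ K ↔ x = 1 ∨ ∀ g : L, g⁻¹ * x * g ∉ H := by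
  have : x ∈ K ↔ x ∈ (K : Set L) := Iff.rfl
  rw [this, hK]
  unfold Cfsg.frobeniusKernel
  simp only [Set.mem_setOf_eq, mem_conj_smul]

theorem K_normal {L : Type*} [Group L] (H K : Subgroup L)
    (hK : (K : Set L) = Cfsg.frobeniusKernel H) : K.Normal := by
  constructor
  intro x hx a
  rw [mem_K_iff H K hK] at hx ⊢
  rcases hx with rfl | hx
  · left; simp
  · right
    intro g
    have := hx (a⁻¹ * g)
    intro hc
    apply this
    have e : (a⁻¹ * g)⁻¹ * x * (a⁻¹ * g) = g⁻¹ * (a * x * a⁻¹) * g := by group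
    rw [e]; exact hc

theorem second_part {L : Type*} [Group L] [Finite L]
    (H : Subgroup L) (hH : Cfsg.IsFrobeniusComplement H)
    (K : Subgroup L) (hK : (K : Set L) = Cfsg.frobeniusKernel H) (N : Subgroup L) (hN : N.Normal) :
    K ≤ N ∨ N ≤ K := by
  have hKn : K.Normal := K_normal H K hK
  by_cases hNK : N ≤ K
  · exact Or.inr hNK
  left
  obtain ⟨x, hxN, hxK⟩ := SetLike.not_le_iff_exists.mp hNK
  rw [mem_K_iff H K hK] at hxK
  push Not at hxK
  obtain ⟨hx1, g, hg⟩ := hxK
  set h : L := g⁻¹ * x * g with hh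
  have hhN : h ∈ N := by
    have := hN.conj_mem x hxN g⁻¹
    simpa [hh] using this
  have hh1 : h ≠ 1 := by
    intro e
    apply hx1
    have : x = g * h * g⁻¹ := by rw [hh]; group
    rw [this, e]; simp
  -- centralizer of h lies in H
  have hcent : ∀ c : L, c * h = h * c → c ∈ H := by
    intro c hc
    by_contra hcH
    have h1 := hH.2.2 c hcH
    have h2 : h ∈ H ⊓ (MulAut.conj c • H) := by
      refine Subgroup.mem_inf.mpr ⟨hg, ?_⟩
      rw [mem_conj_smul]
      have : c⁻¹ * h * c = h := by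
        rw [mul_assoc, ← hc, ← mul_assoc, inv_mul_cancel, one_mul]
      rw [this]; exact hg
    rw [h1, Subgroup.mem_bot] at h2
    exact hh1 h2
  have hKH : ∀ y : L, y ∈ K → y ∈ H → y = 1 := by
    intro y hyK hyH
    rw [mem_K_iff H K hK] at hyK
    rcases hyK with rfl | hy
    · rfl
    · exfalso
      apply hy 1
      simpa using hyH
  -- injective map K → K ⊓ N
  have hmap : ∀ k : K, (k : L) * (h * (k : L)⁻¹ * h⁻¹) ∈ K ⊓ N := by
    intro k
    constructor
    · exact K.mul_mem k.2 (hKn.conj_mem _ (K.inv_mem k.2) h)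
    · have : (k : L) * (h * (k : L)⁻¹ * h⁻¹) = ((k : L) * h * (k : L)⁻¹) * h⁻¹ := by group
      rw [this]
      exact N.mul_mem (hN.conj_mem h hhN _) (N.inv_mem hhN)
  let f : K → ↥(K ⊓ N) := fun k => ⟨_, hmap k⟩
  have hf : Function.Injective f := by
    intro k k' hkk
    have e : (k : L) * (h * (k : L)⁻¹ * h⁻¹) = (k' : L) * (h * (k' : L)⁻¹ * h⁻¹) :=
      congrArg Subtype.val hkk
    have hc : ((k' : L)⁻¹ * (k : L)) * h = h * ((k' : L)⁻¹ * (k : L)) := by
      have e2 : (k : L) * h * (k : L)⁻¹ = (k' : L) * h * (k' : L)⁻¹ := by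
        have := congrArg (· * h) e
        simpa [mul_assoc] using this
      calc ((k' : L)⁻¹ * (k : L)) * h = (k' : L)⁻¹ * ((k : L) * h * (k : L)⁻¹) * (k : L) := by group
        _ = (k' : L)⁻¹ * ((k' : L) * h * (k' : L)⁻¹) * (k : L) := by rw [e2]
        _ = h * ((k' : L)⁻¹ * (k : L)) := by group
    have h3 := hcent _ hc
    have h4 : (k' : L)⁻¹ * (k : L) ∈ K := K.mul_mem (K.inv_mem k'.2) k.2
    have h5 := hKH _ h4 h3
    apply Subtype.ext
    have : (k : L) = (k' : L) * ((k' : L)⁻¹ * (k : L)) := by group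
    rw [this, h5, mul_one]
  have hcard : Nat.card K ≤ Nat.card ↥(K ⊓ N) := Nat.card_le_card_of_injective f hf
  have heq : K ⊓ N = K := Subgroup.eq_of_le_of_card_ge inf_le_left hcard
  rw [← heq]; exact inf_le_right

/-- Let H be a Frobenius complement in a finite group L and K the Frobenius kernel (as a subgroup). Then K is characteristic in L, and every normal subgroup of L either contains K or is contained in K. -/
theorem result {L : Type*} [Group L] [Finite L]
    (H : Subgroup L) (hH : Cfsg.IsFrobeniusComplement H)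
    (K : Subgroup L) (hK : (K : Set L) = Cfsg.frobeniusKernel H) :
    K.Characteristic ∧ ∀ N : Subgroup L, N.Normal → K ≤ N ∨ N ≤ K := by
  refine ⟨?_, fun N hN => second_part H hH K hK N hN⟩
  have hKn : K.Normal := K_normal H K hK
  rw [Subgroup.characteristic_iff_map_le]
  intro φ
  have hn : (K.map φ.toMonoidHom).Normal := hKn.map φ.toMonoidHom φ.surjective
  have hc : Nat.card (K.map φ.toMonoidHom) = Nat.card K :=
    Subgroup.card_map_of_injective φ.injective
  rcases second_part H hH K hK _ hn with h | h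
  · exact (Subgroup.eq_of_le_of_card_ge h hc.le).symm.le
  · exact h

end Cfsg.Agent.S3383
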