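import Mathlib
import Cfsg.Statements.S3389
import Cfsg.Agent.Lib.Helper5_Sylow
import Cfsg.Agent.Lib.Helper5_SE2

set_option autoImplicit false
open Cfsg

namespace Cfsg.Agent.S3389

open Cfsg.Agent.Lib.Helper5_Sylow Cfsg.Agent.Lib.Helper5_SE2
open MulAction

/-- If `m` divides the size of every orbit then `m` divides the size of the set. -/
theorem dvd_card_of_dvd_orbit {H Y : Type*} [Group H] [MulAction H Y] [Finite Y] (m : ℕ)
    (h : ∀ y : Y, m ∣ (orbit H y).ncard) : m ∣ Nat.card Y := by
  classical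
  have := Fintype.ofFinite (orbitRel.Quotient H Y)
  rw [Nat.card_congr (selfEquivSigmaOrbits H Y), Nat.card_sigma]
  refine Finset.dvd_sum fun ω _ => ?_
  rw [Nat.card_coe_set_eq]
  exact h _

/-- part (a): the centre acts semiregularly, so its order divides the number of fixed points of any
element. -/
theorem part_a {G : Type*} [Group G] [Finite G] {Ω : Type*} [Finite Ω] [MulAction G Ω]
    [FaithfulSMul G Ω] [IsPretransitive G Ω] (g : G) :
    Nat.card (Subgroup.center G) ∣ Nat.card (fixedBy Ω g) := by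
  -- semiregularity
  have hsemi : ∀ z ∈ Subgroup.center G, ∀ a : Ω, z • a = a → z = 1 := by
    intro z hz a ha
    apply FaithfulSMul.eq_of_smul_eq_smul (α := Ω)
    intro b
    obtain ⟨h, rfl⟩ := exists_smul_eq G a b
    rw [one_smul, smul_smul, ← (Subgroup.mem_center_iff.mp hz h), ← smul_smul, ha]
  let F : SubMulAction (Subgroup.center G) Ω :=
    { carrier := fixedBy Ω g
      smul_mem' := by
        intro z a ha
        rw [mem_fixedBy] at ha ⊢
        show g • ((z : G) • a) = (z : G) • a
        rw [smul_smul, (Subgroup.mem_center_iff.mp z.2 g), ← smul_smul, ha] }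
  have hcard : Nat.card (fixedBy Ω g) = Nat.card F := rfl
  rw [hcard]
  apply dvd_card_of_dvd_orbit (H := Subgroup.center G)
  intro y
  rw [← index_stabilizer]
  have : stabilizer (Subgroup.center G) y = ⊥ := by
    rw [eq_bot_iff]
    intro z hz
    rw [mem_stabilizer_iff] at hz
    have h1 : (z : G) • (y : Ω) = (y : Ω) := by
      have := congrArg Subtype.val hz
      exact this
    have := hsemi z z.2 _ h1
    rw [Subgroup.mem_bot]
    exact Subtype.ext this
  rw [this, Subgroup.index_bot]

/-- part (c) -/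
theorem part_c {G : Type*} [Group G] [Finite G] {Ω : Type*} [Finite Ω] [MulAction G Ω]
    [IsPretransitive G Ω] (k : ℕ)
    (hfix : ∀ g : G, g ≠ 1 → Nat.card (fixedBy Ω g) ≤ k)
    (p : ℕ) (hp : p.Prime) (hkp : k < p) (α : Ω)
    (h1 : p ∣ Nat.card (stabilizer G α)) (h2 : p ∣ (stabilizer G α).index) : False := by
  have := Fact.mk hp
  rw [index_stabilizer_of_transitive] at h2
  obtain ⟨x, hx⟩ := exists_prime_orderOf_dvd_card' p h1
  have hxG : orderOf (x : G) = p := by rw [Subgroup.orderOf_coe]; exact hx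
  have hx1 : (x : G) ≠ 1 := by
    intro h
    rw [h, orderOf_one] at hxG
    exact hp.one_lt.ne hxG
  have hP : IsPGroup p (Subgroup.zpowers (x : G)) := isPGroup_zpowers hxG
  have hmod := hP.card_modEq_card_fixedPoints Ω
  have hsub : fixedPoints (Subgroup.zpowers (x : G)) Ω ⊆ fixedBy Ω (x : G) := by
    intro a ha
    rw [mem_fixedBy]
    exact ha ⟨x, Subgroup.mem_zpowers _⟩
  have hle : Nat.card (fixedPoints (Subgroup.zpowers (x : G)) Ω) ≤ k :=
    (Nat.card_mono (Set.toFinite _) hsub).trans (hfix _ hx1)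
  have hαmem : α ∈ fixedPoints (Subgroup.zpowers (x : G)) Ω := by
    intro m
    have hm : (m : G) ∈ stabilizer G α := by
      have hle : Subgroup.zpowers (x : G) ≤ stabilizer G α := by
        rw [Subgroup.zpowers_le]; exact x.2
      exact hle m.2
    exact hm
  have hpos : 0 < Nat.card (fixedPoints (Subgroup.zpowers (x : G)) Ω) := by
    have : Nonempty (fixedPoints (Subgroup.zpowers (x : G)) Ω) := ⟨⟨α, hαmem⟩⟩
    exact Nat.card_pos
  have h3 : p ∣ Nat.card (fixedPoints (Subgroup.zpowers (x : G)) Ω) := by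
    rw [← Nat.modEq_zero_iff_dvd] at h2 ⊢
    exact hmod.symm.trans h2
  have := Nat.le_of_dvd hpos h3
  omega

/-- part (b) -/
theorem part_b {G : Type*} [Group G] [Finite G] {Ω : Type*} [Finite Ω] [MulAction G Ω]
    [IsPretransitive G Ω]
    (hfix : ∀ g : G, g ≠ 1 → Nat.card (fixedBy Ω g) ≤ 2)
    (g : G) (hg1 : g ≠ 1) (hg : Nat.card (fixedBy Ω g) = 2) : 2 ∣ Nat.card G := by
  classical
  obtain ⟨a, b, hab, huniv⟩ := Nat.card_eq_two_iff.mp hg
  set α : Ω := (a : Ω) with hα
  set β : Ω := (b : Ω) with hβ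
  have hαβ : α ≠ β := fun h => hab (Subtype.ext h)
  have hgα : g • α = α := a.2
  have hgβ : g • β = β := b.2
  -- L1
  have L1 : ∀ h : G, h ≠ 1 → h • α = α → h • β = β → ∀ γ : Ω, h • γ = γ → γ = α ∨ γ = β := by
    intro h hh1 hhα hhβ γ hγ
    by_contra hne
    push Not at hne
    have hsub : (({α, β, γ} : Finset Ω) : Set Ω) ⊆ fixedBy Ω h := by
      intro δ hδ
      simp only [Finset.coe_insert, Finset.coe_singleton, Set.mem_insert_iff,
        Set.mem_singleton_iff] at hδ
      rcases hδ with rfl | rfl | rfl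
      · exact hhα
      · exact hhβ
      · exact hγ
    have h3 : ({α, β, γ} : Finset Ω).card = 3 := by
      rw [Finset.card_eq_three]
      exact ⟨α, β, γ, hαβ, hne.1.symm, hne.2.symm, rfl⟩
    have h4 : (({α, β, γ} : Finset Ω) : Set Ω).ncard ≤ (fixedBy Ω h).ncard :=
      Set.ncard_le_ncard hsub (Set.toFinite _)
    rw [Set.ncard_coe_finset, h3] at h4
    have h5 := hfix h hh1
    rw [Nat.card_coe_set_eq] at h5
    omega
  -- an element of prime order fixing α and β
  have hog : orderOf g ≠ 1 := by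
    intro h; exact hg1 (orderOf_eq_one_iff.mp h)
  obtain ⟨p, hp, hpd⟩ := Nat.exists_prime_and_dvd hog
  have := Fact.mk hp
  set g' : G := g ^ (orderOf g / p) with hg'
  have hg'p : orderOf g' = p := orderOf_pow_orderOf_div (orderOf_pos g).ne' hpd
  have hg'1 : g' ≠ 1 := by
    intro h
    rw [h, orderOf_one] at hg'p
    exact hp.one_lt.ne hg'p
  have hg'α : g' • α = α := by
    have : g' ∈ stabilizer G α := Subgroup.pow_mem _ hgα _
    exact this
  have hg'β : g' • β = β := by
    have : g' ∈ stabilizer G β := Subgroup.pow_mem _ hgβ _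
    exact this
  have L2 := L1 g' hg'1 hg'α hg'β
  -- Sylow p-subgroup of the stabilizer of α containing g'
  have hZp : IsPGroup p (Subgroup.zpowers (⟨g', hg'α⟩ : stabilizer G α)) := by
    apply isPGroup_zpowers
    rw [← Subgroup.orderOf_coe]
    exact hg'p
  obtain ⟨S, hS⟩ := hZp.exists_le_sylow
  set P' : Subgroup G := (S : Subgroup ↥(stabilizer G α)).map (stabilizer G α).subtype with hP'
  have hP'H : P' ≤ stabilizer G α := sylowOf_le S
  have hP'p : IsPGroup p P' := sylowOf_isPGroup S
  have hg'P' : g' ∈ P' := ⟨⟨g', hg'α⟩, hS (Subgroup.mem_zpowers _), rfl⟩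
  -- Claim 1
  have claim1 : P' ≤ stabilizer G β := by
    by_contra hnot
    have hlt : P' ⊓ stabilizer G β < P' := by
      refine lt_of_le_of_ne inf_le_left ?_
      intro heq
      apply hnot
      rw [← heq]; exact inf_le_right
    have h1 := lt_inf_normalizer hP'p hlt
    obtain ⟨x, hx, hxQ⟩ := SetLike.exists_of_lt h1
    obtain ⟨hxP', hxN⟩ := hx
    have hg'Q : g' ∈ P' ⊓ stabilizer G β := ⟨hg'P', hg'β⟩
    have h2 : x⁻¹ * g' * x ∈ P' ⊓ stabilizer G β :=
      (Subgroup.mem_normalizer_iff''.mp hxN g').mp hg'Q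
    have h3 : (x⁻¹ * g' * x) • β = β := h2.2
    have h4 : g' • (x • β) = x • β := by
      have : g' • (x • β) = x • ((x⁻¹ * g' * x) • β) := by
        simp only [smul_smul]
        congr 1
        group
      rw [this, h3]
    have hxα : x • α = α := hP'H hxP'
    rcases L2 _ h4 with h5 | h5
    · apply hαβ
      have : x • β = x • α := by rw [h5, hxα]
      exact (smul_left_cancel x this).symm
    · exact hxQ ⟨hxP', h5⟩
  -- Claim 2
  obtain ⟨t, ht⟩ := exists_smul_eq G α β
  have htinv : t⁻¹ • β = α := by rw [← ht, inv_smul_smul]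
  have hBH : P'.map (MulAut.conj t⁻¹).toMonoidHom ≤ stabilizer G α := by
    rintro _ ⟨y, hy, rfl⟩
    show ((MulAut.conj t⁻¹) y) • α = α
    rw [MulAut.conj_apply, inv_inv, mul_smul, mul_smul, ht, claim1 hy, htinv]
  have hBp : IsPGroup p (P'.map (MulAut.conj t⁻¹).toMonoidHom) := hP'p.map _
  obtain ⟨h, hhH, hle⟩ := exists_conj_le_sylowOf S hBH hBp
  rw [map_conj_mul] at hle
  have heq : P'.map (MulAut.conj (h * t⁻¹)).toMonoidHom = P' :=
    Subgroup.eq_of_le_of_card_ge hle (by rw [card_map_conj])
  have hmN : h * t⁻¹ ∈ Subgroup.normalizer (P' : Set G) := mem_normalizer_of_map_eq _ _ heq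
  set n : G := t * h⁻¹ with hn
  have hnN : n ∈ Subgroup.normalizer (P' : Set G) := by
    have := Subgroup.inv_mem _ hmN
    rwa [mul_inv_rev, inv_inv] at this
  have hnα : n • α = β := by
    rw [hn, mul_smul]
    have : h⁻¹ • α = α := by
      have : h⁻¹ ∈ stabilizer G α := Subgroup.inv_mem _ hhH
      exact this
    rw [this, ht]
  -- Claim 3
  have hnβ : n • β = α := by
    have h2 : n⁻¹ * g' * n ∈ P' := (Subgroup.mem_normalizer_iff''.mp hnN g').mp hg'P'
    have h3 : (n⁻¹ * g' * n) • β = β := claim1 h2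
    have h4 : g' • (n • β) = n • β := by
      have : g' • (n • β) = n • ((n⁻¹ * g' * n) • β) := by
        simp only [smul_smul]
        congr 1
        group
      rw [this, h3]
    rcases L2 _ h4 with h5 | h5
    · exact h5
    · exfalso
      apply hαβ
      have : n • α = n • β := by rw [h5, hnα]
      exact smul_left_cancel n this
  -- Claim 4
  have hn2 : (n ^ 2) • α = α := by
    rw [pow_two, mul_smul, hnα, hnβ]
  have heven : ¬ Odd (orderOf n) := by
    intro hodd
    have hcop : (2 : ℕ).Coprime (orderOf n) := Nat.coprime_two_left.mpr hodd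
    obtain ⟨j, hj⟩ := exists_pow_eq_self_of_coprime hcop
    have h1 : (n ^ 2) ^ j ∈ stabilizer G α := Subgroup.pow_mem _ hn2 _
    rw [hj] at h1
    have h2 : n • α = α := h1
    rw [hnα] at h2
    exact hαβ h2.symm
  rw [Nat.not_odd_iff_even] at heven
  exact (even_iff_two_dvd.mp heven).trans (orderOf_dvd_natCard n)

/-- Let G be a finite group acting faithfully and transitively on a finite set Ω with fixity k ≥ 1: every non-identity element fixes at most k points and some non-identity element fixes exactly k points. Then |Z(G)| divides k; if k = 2 then |G| is even; and for every prime p > k dividing |G| and every point α, either p does not divide |G_α| or G_α contains a Sylow p-subgroup of G. -/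
theorem result {G : Type*} [Group G] [Finite G] {Ω : Type*} [Fintype Ω] [MulAction G Ω] [FaithfulSMul G Ω]
    (htr : MulAction.IsPretransitive G Ω) (k : ℕ) (hk : 1 ≤ k)
    (hfix : ∀ g : G, g ≠ 1 → Nat.card (MulAction.fixedBy Ω g) ≤ k) (hex : ∃ g : G, g ≠ 1 ∧ Nat.card (MulAction.fixedBy Ω g) = k) :
    Nat.card (Subgroup.center G) ∣ k ∧ (k = 2 → 2 ∣ Nat.card G) ∧
      ∀ (p : ℕ), p.Prime → k < p → p ∣ Nat.card G → ∀ α : Ω,
        ¬ p ∣ Nat.card (MulAction.stabilizer G α) ∨ ¬ p ∣ (MulAction.stabilizer G α).index := by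
  obtain ⟨g, hg1, hgk⟩ := hex
  refine ⟨?_, ?_, ?_⟩
  · rw [← hgk]; exact part_a g
  · intro hk2
    subst hk2
    exact part_b hfix g hg1 hgk
  · intro p hp hkp _ α
    by_contra hcon
    push Not at hcon
    exact part_c k hfix p hp hkp α hcon.1 hcon.2

end Cfsg.Agent.S3389
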