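import Mathlib
import Cfsg.Statements.S3443

set_option autoImplicit false
open Cfsg

namespace Cfsg.Agent.S3443

theorem dvd_or_dvd (a b p : ℕ) (hp : p.Prime) (ha : 0 < a) (hb : 0 < b)
    (h1 : a ∣ p * b) (h2 : b ∣ p * a) : a ∣ b ∨ b ∣ a := by
  obtain ⟨a', b', hcop, ha', hb'⟩ := Nat.exists_coprime a b
  have hd : 0 < Nat.gcd a b := Nat.gcd_pos_of_pos_left b ha
  generalize Nat.gcd a b = d at *
  have e1 : a' ∣ p * b' := by
    have : a' * d ∣ (p * b') * d := by
      rw [mul_assoc, ← hb', ← ha']; exact h1
    exact (Nat.mul_dvd_mul_iff_right hd).mp this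
  have e2 : b' ∣ p * a' := by
    have : b' * d ∣ (p * a') * d := by
      rw [mul_assoc, ← hb', ← ha']; exact h2
    exact (Nat.mul_dvd_mul_iff_right hd).mp this
  have f1 : a' ∣ p := hcop.dvd_of_dvd_mul_right e1
  have f2 : b' ∣ p := hcop.symm.dvd_of_dvd_mul_right e2
  rcases (Nat.dvd_prime hp).mp f1 with h | h
  · left
    rw [ha', hb', h, one_mul]
    exact Dvd.intro_left _ rfl
  · rcases (Nat.dvd_prime hp).mp f2 with h' | h'
    · right
      rw [ha', hb', h', one_mul]
      exact Dvd.intro_left _ rfl
    · exfalso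
      rw [h, h'] at hcop
      have := (Nat.coprime_self p).mp hcop
      exact hp.one_lt.ne' this

/-- Let G be a finite group and V a normal elementary abelian subgroup of G (abelian of prime exponent p, possibly trivial). Then the semidirect product V ⋊ G, with G acting on V by conjugation, has exactly the same set of element orders as G. -/
theorem result {G : Type*} [Group G] [Finite G] (V : Subgroup G) [V.Normal] (p : ℕ) (hp : p.Prime)
    (hcomm : ∀ x y : V, x * y = y * x) (hexp : ∀ x : V, x ^ p = 1) :
    Set.range (orderOf : V ⋊[MulAut.conjNormal] G → ℕ) = Set.range (orderOf : G → ℕ) := by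
  classical
  -- the two homomorphisms
  let π : V ⋊[MulAut.conjNormal] G →* G := SemidirectProduct.rightHom
  let φ : V ⋊[MulAut.conjNormal] G →* G :=
    SemidirectProduct.lift V.subtype (MonoidHom.id G) (by
      intro g
      ext v
      simp [MulAut.conjNormal_apply])
  have hφ : ∀ x : V ⋊[MulAut.conjNormal] G, φ x = (x.left : G) * x.right := by
    intro x
    rfl
  have hinj : Function.Injective (π.prod φ) := by
    rw [injective_iff_map_eq_one]
    intro x hx
    rw [MonoidHom.prod_apply, Prod.mk_eq_one] at hx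
    obtain ⟨hx1, hx2⟩ := hx
    rw [hφ] at hx2
    have hr : x.right = 1 := hx1
    rw [hr, mul_one] at hx2
    ext
    · simpa using hx2
    · simpa using hr
  -- key facts in G
  have key : ∀ (v : V) (g : G), orderOf g ∣ p * orderOf ((v : G) * g) ∧
      orderOf ((v : G) * g) ∣ p * orderOf g := by
    intro v g
    have hmk : (QuotientGroup.mk ((v : G) * g) : G ⧸ V) = QuotientGroup.mk g := by
      rw [QuotientGroup.mk_mul, (QuotientGroup.eq_one_iff (v : G)).mpr v.2, one_mul]
    constructor
    · -- g^b ∈ V
      have h1 : (g ^ orderOf ((v : G) * g)) ∈ V := by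
        rw [← QuotientGroup.eq_one_iff, QuotientGroup.mk_pow, ← hmk, ← QuotientGroup.mk_pow,
          pow_orderOf_eq_one, QuotientGroup.mk_one]
      have h2 := hexp ⟨_, h1⟩
      have h3 : (g ^ orderOf ((v : G) * g)) ^ p = 1 := by
        have := congrArg (Subtype.val) h2
        simpa using this
      rw [← pow_mul, mul_comm] at h3
      exact orderOf_dvd_of_pow_eq_one h3
    · have h1 : (((v : G) * g) ^ orderOf g) ∈ V := by
        rw [← QuotientGroup.eq_one_iff, QuotientGroup.mk_pow, hmk, ← QuotientGroup.mk_pow,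
          pow_orderOf_eq_one, QuotientGroup.mk_one]
      have h2 := hexp ⟨_, h1⟩
      have h3 : (((v : G) * g) ^ orderOf g) ^ p = 1 := by
        have := congrArg (Subtype.val) h2
        simpa using this
      rw [← pow_mul, mul_comm] at h3
      exact orderOf_dvd_of_pow_eq_one h3
  apply Set.eq_of_subset_of_subset
  · rintro _ ⟨x, rfl⟩
    have hx : orderOf x = orderOf ((π.prod φ) x) := (orderOf_injective _ hinj x).symm
    rw [hx, MonoidHom.prod_apply, Prod.orderOf]
    have hπ : π x = x.right := rfl
    simp only [hπ, hφ]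
    obtain ⟨k1, k2⟩ := key x.left x.right
    rcases dvd_or_dvd _ _ p hp (orderOf_pos x.right) (orderOf_pos ((x.left : G) * x.right)) k1 k2 with h | h
    · rw [Nat.lcm_eq_right h]
      exact ⟨_, rfl⟩
    · rw [Nat.lcm_eq_left h]
      exact ⟨_, rfl⟩
  · rintro _ ⟨g, rfl⟩
    refine ⟨SemidirectProduct.inr g, ?_⟩
    exact orderOf_injective _ SemidirectProduct.inr_injective g

end Cfsg.Agent.S3443
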