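import Cfsg.Statements.S3444
import Mathlib
import Cfsg.Agent.S3443

set_option autoImplicit false
open Cfsg

namespace Cfsg.Agent.S3444

universe u

/-- A carrier type in `Type` with no algebraic structure. -/
structure Box (n : ℕ) : Type where
  /-- the underlying index -/
  val : Fin n

/-- `Box n` is equivalent to `Fin n`. -/
def Box.equivFin (n : ℕ) : Box n ≃ Fin n where
  toFun := Box.val
  invFun := Box.mk
  left_inv := fun _ => rfl
  right_inv := fun _ => rfl

/-- A non-trivial solvable normal subgroup contains a non-trivial elementary abelian subgroup that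
is normal in the whole group. -/
theorem exists_elem_abelian_normal {G : Type*} [Group G] [Finite G] (K : Subgroup G) [hKn : K.Normal]
    (hK : K ≠ ⊥) (hs : Group.IsSolvable K) :
    ∃ (V : Subgroup G) (p : ℕ), V.Normal ∧ V ≠ ⊥ ∧ p.Prime ∧ (∀ x y : V, x * y = y * x) ∧
      (∀ x : V, x ^ p = 1) := by
  classical
  obtain ⟨A, hAK, hAmin⟩ := Finite.exists_le_minimal
    (p := fun A : Subgroup G => A.Normal ∧ A ≠ ⊥ ∧ A ≤ K) (a := K) ⟨hKn, hK, le_refl K⟩
  obtain ⟨hAn, hA1, hAK'⟩ := hAmin.prop
  haveI := hAn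
  have hAs : Group.IsSolvable A :=
    Group.isSolvable_of_isSolvable_injective (Subgroup.inclusion_injective hAK')
  haveI : Nontrivial A := (Subgroup.nontrivial_iff_ne_bot A).mpr hA1
  have hcomm_lt : commutator A < ⊤ := Group.IsSolvable.commutator_lt_top_of_nontrivial A
  have hcne : ⁅A, A⁆ ≠ A := by
    intro h
    have h1 : (commutator A).map A.subtype = (⊤ : Subgroup A).map A.subtype := by
      rw [Subgroup.map_subtype_commutator, h, ← MonoidHom.range_eq_map, Subgroup.range_subtype]
    exact hcomm_lt.ne (Subgroup.map_injective A.subtype_injective h1)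
  have hcbot : ⁅A, A⁆ = ⊥ := by
    by_contra hne
    have hP : (⁅A, A⁆ : Subgroup G).Normal ∧ ⁅A, A⁆ ≠ ⊥ ∧ ⁅A, A⁆ ≤ K :=
      ⟨inferInstance, hne, (Subgroup.commutator_le_self A).trans hAK'⟩
    exact hcne (le_antisymm (Subgroup.commutator_le_self A)
      (hAmin.le_of_le hP (Subgroup.commutator_le_self A)))
  have hAc : ∀ x ∈ A, ∀ y ∈ A, x * y = y * x := by
    intro x hx y hy
    have h1 := Subgroup.commutator_eq_bot_iff_le_centralizer.mp hcbot
    exact (Subgroup.mem_centralizer_iff.mp (h1 hy) x hx)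
  have hcard : 1 < Nat.card A := Finite.one_lt_card
  obtain ⟨p, hp, hpdvd⟩ := Nat.exists_prime_and_dvd hcard.ne'
  haveI : Fact p.Prime := ⟨hp⟩
  let V : Subgroup G :=
    { carrier := {a | a ∈ A ∧ a ^ p = 1}
      mul_mem' := fun {a b} ha hb => ⟨A.mul_mem ha.1 hb.1, by
        rw [(show Commute a b from hAc a ha.1 b hb.1).mul_pow, ha.2, hb.2, one_mul]⟩
      one_mem' := ⟨A.one_mem, one_pow p⟩
      inv_mem' := fun {a} ha => ⟨A.inv_mem ha.1, by rw [inv_pow, ha.2, inv_one]⟩ }
  have hVmem : ∀ a : G, a ∈ V ↔ a ∈ A ∧ a ^ p = 1 := fun a => Iff.rfl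
  refine ⟨V, p, ?_, ?_, hp, ?_, ?_⟩
  · constructor
    intro n hn g
    rw [hVmem] at hn ⊢
    refine ⟨hAn.conj_mem n hn.1 g, ?_⟩
    rw [conj_pow, hn.2, mul_one, mul_inv_cancel]
  · obtain ⟨a, ha⟩ := exists_prime_orderOf_dvd_card' p hpdvd
    intro hbot
    have haV : (a : G) ∈ V := by
      rw [hVmem]
      refine ⟨a.2, ?_⟩
      have := pow_orderOf_eq_one a
      rw [ha] at this
      have := congrArg Subtype.val this
      simpa using this
    rw [hbot, Subgroup.mem_bot] at haV
    have : a = 1 := Subtype.ext haV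
    rw [this, orderOf_one] at ha
    exact hp.one_lt.ne ha
  · intro x y
    exact Subtype.ext (hAc x x.2.1 y y.2.1)
  · intro x
    exact Subtype.ext x.2.2

/-- Iterating the semidirect product construction of `S3443`. -/
theorem tower {G : Type u} [Group G] [Finite G] (K : Subgroup G) [K.Normal] (hK : K ≠ ⊥)
    (hs : Group.IsSolvable K) :
    ∀ k : ℕ, ∃ (H : Type u) (_ : Group H) (_ : Finite H), 2 ^ k ≤ Nat.card H ∧
      Set.range (orderOf : H → ℕ) = Set.range (orderOf : G → ℕ) ∧
      ∃ (V : Subgroup H) (p : ℕ), V.Normal ∧ V ≠ ⊥ ∧ p.Prime ∧ (∀ x y : V, x * y = y * x) ∧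
        (∀ x : V, x ^ p = 1) := by
  intro k
  induction k with
  | zero =>
    exact ⟨G, inferInstance, inferInstance, by rw [pow_zero]; exact Nat.card_pos, rfl,
      exists_elem_abelian_normal K hK hs⟩
  | succ k ih =>
    obtain ⟨H, iG, iF, hcard, hspec, V, p, hVn, hV1, hp, hcomm, hexp⟩ := ih
    haveI := hVn
    haveI : Finite (V ⋊[MulAut.conjNormal] H) :=
      Finite.of_equiv _ SemidirectProduct.equivProd.symm
    refine ⟨V ⋊[MulAut.conjNormal] H, inferInstance, inferInstance, ?_, ?_, ?_⟩
    · rw [SemidirectProduct.card, pow_succ, mul_comm]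
      have h2 : 2 ≤ Nat.card V := by
        have := (Subgroup.one_lt_card_iff_ne_bot V).mpr hV1
        omega
      exact Nat.mul_le_mul h2 hcard
    · rw [Cfsg.Agent.S3443.result V p hp hcomm hexp, hspec]
    · refine ⟨(SemidirectProduct.inl : V →* V ⋊[MulAut.conjNormal] H).range, p, ?_, ?_, hp, ?_, ?_⟩
      · rw [SemidirectProduct.range_inl_eq_ker_rightHom]
        exact MonoidHom.normal_ker _
      · intro hbot
        apply hV1
        rw [eq_bot_iff]
        intro v hv
        have h1 : (SemidirectProduct.inl (⟨v, hv⟩ : V) : V ⋊[MulAut.conjNormal] H) ∈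
            (SemidirectProduct.inl : V →* V ⋊[MulAut.conjNormal] H).range := ⟨_, rfl⟩
        rw [hbot, Subgroup.mem_bot] at h1
        have h2 : (⟨v, hv⟩ : V) = 1 := SemidirectProduct.inl_injective (by rw [h1, map_one])
        rw [Subgroup.mem_bot]
        exact congrArg Subtype.val h2
      · rintro ⟨x, ⟨v, rfl⟩⟩ ⟨y, ⟨w, rfl⟩⟩
        apply Subtype.ext
        show SemidirectProduct.inl v * SemidirectProduct.inl w =
          SemidirectProduct.inl w * SemidirectProduct.inl v
        rw [← map_mul, ← map_mul, hcomm v w]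
      · rintro ⟨x, ⟨v, rfl⟩⟩
        apply Subtype.ext
        show (SemidirectProduct.inl v) ^ p = 1
        rw [← map_pow, hexp v, map_one]

/-- A finite group with a non-trivial solvable normal subgroup is not determined by its set of element orders, not even up to finitely many possibilities: for every bound N there is a finite group of order greater than N with exactly the same set of element orders. -/
theorem result {G : Type*} [Group G] [Finite G] (K : Subgroup G) [K.Normal] (hK : K ≠ ⊥)
    (hs : Group.IsSolvable K) (N : ℕ) :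
    ∃ (H : Type) (_ : Group H) (_ : Fintype H), N < Fintype.card H ∧ Set.range (orderOf : H → ℕ) = Set.range (orderOf : G → ℕ) := by
  classical
  obtain ⟨H, iG, iF, hcard, hspec, -⟩ := tower K hK hs N
  let n := Nat.card H
  let e : Box n ≃ H := (Box.equivFin n).trans (Finite.equivFin H).symm
  letI : Group (Box n) := e.group
  letI : Fintype (Box n) := Fintype.ofEquiv (Fin n) (Box.equivFin n).symm
  let me : Box n ≃* H := e.mulEquiv
  refine ⟨Box n, inferInstance, inferInstance, ?_, ?_⟩
  · rw [Fintype.card_congr (Box.equivFin n), Fintype.card_fin]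
    calc N < 2 ^ N := Nat.lt_two_pow_self
      _ ≤ n := hcard
  · rw [← hspec]
    ext m
    constructor
    · rintro ⟨x, rfl⟩
      exact ⟨me x, MulEquiv.orderOf_eq me x⟩
    · rintro ⟨x, rfl⟩
      exact ⟨me.symm x, by rw [← MulEquiv.orderOf_eq me, MulEquiv.apply_symm_apply]⟩

end Cfsg.Agent.S3444
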