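import Mathlib
import Cfsg.Statements.S3448

set_option autoImplicit false
open Cfsg

namespace Cfsg.Agent.S3448

set_option maxRecDepth 100000 in
theorem a5_pow : ∀ g : alternatingGroup (Fin 5), g ^ 2 = 1 ∨ g ^ 3 = 1 ∨ g ^ 5 = 1 := by
  decide

theorem a5_order (g : alternatingGroup (Fin 5)) :
    orderOf g = 1 ∨ orderOf g = 2 ∨ orderOf g = 3 ∨ orderOf g = 5 := by
  rcases a5_pow g with h | h | h
  · have := orderOf_dvd_of_pow_eq_one h
    rcases (Nat.dvd_prime Nat.prime_two).mp this with h1 | h1 <;> simp [h1]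
  · have := orderOf_dvd_of_pow_eq_one h
    rcases (Nat.dvd_prime Nat.prime_three).mp this with h1 | h1 <;> simp [h1]
  · have := orderOf_dvd_of_pow_eq_one h
    rcases (Nat.dvd_prime Nat.prime_five).mp this with h1 | h1 <;> simp [h1]

def e2 : alternatingGroup (Fin 5) := ⟨c[0, 1] * c[2, 3], by rw [Equiv.Perm.mem_alternatingGroup]; decide⟩
def e3 : alternatingGroup (Fin 5) := ⟨c[0, 1, 2], by rw [Equiv.Perm.mem_alternatingGroup]; decide⟩
def e5 : alternatingGroup (Fin 5) := ⟨c[0, 1, 2, 3, 4], by rw [Equiv.Perm.mem_alternatingGroup]; decide⟩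

set_option maxRecDepth 100000 in
theorem o2 : orderOf e2 = 2 := orderOf_eq_prime (by decide) (by decide)
set_option maxRecDepth 100000 in
theorem o3 : orderOf e3 = 3 := orderOf_eq_prime (by decide) (by decide)
set_option maxRecDepth 100000 in
theorem o5 : orderOf e5 = 5 :=
  haveI : Fact (Nat.Prime 5) := ⟨by norm_num⟩
  orderOf_eq_prime (by decide) (by decide)

/-- The set of element orders of the direct product of two copies of the alternating group of degree 5 is {1, 2, 3, 5, 6, 10, 15}. (It is shared by the direct product of two Frobenius groups of orders 50 and 75, so this direct product is not determined by its element orders.) -/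
theorem result : Set.range (orderOf : alternatingGroup (Fin 5) × alternatingGroup (Fin 5) → ℕ) = {1, 2, 3, 5, 6, 10, 15} := by
  ext k
  simp only [Set.mem_range, Set.mem_insert_iff, Set.mem_singleton_iff]
  constructor
  · rintro ⟨⟨g, h⟩, rfl⟩
    rw [Prod.orderOf]
    rcases a5_order g with hg | hg | hg | hg <;> rcases a5_order h with hh | hh | hh | hh <;>
      simp [hg, hh] <;> decide
  · rintro (rfl | rfl | rfl | rfl | rfl | rfl | rfl)
    · exact ⟨(1, 1), by simp⟩
    · exact ⟨(e2, 1), by rw [Prod.orderOf]; simp [o2]⟩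
    · exact ⟨(e3, 1), by rw [Prod.orderOf]; simp [o3]⟩
    · exact ⟨(e5, 1), by rw [Prod.orderOf]; simp [o5]⟩
    · exact ⟨(e2, e3), by rw [Prod.orderOf]; simp [o2, o3]; rfl⟩
    · exact ⟨(e2, e5), by rw [Prod.orderOf]; simp [o2, o5]; rfl⟩
    · exact ⟨(e3, e5), by rw [Prod.orderOf]; simp [o3, o5]; rfl⟩

end Cfsg.Agent.S3448
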