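import Mathlib
import Cfsg.Statements.S3449

set_option autoImplicit false
open Cfsg

namespace Cfsg.Agent.S3449

set_option maxRecDepth 100000 in
theorem a5_pow : ∀ g : alternatingGroup (Fin 5), g ^ 2 = 1 ∨ g ^ 3 = 1 ∨ g ^ 5 = 1 := by
  decide

theorem a5_order (g : alternatingGroup (Fin 5)) :
    orderOf g = 1 ∨ orderOf g = 2 ∨ orderOf g = 3 ∨ orderOf g = 5 := by
  rcases a5_pow g with h | h | h
  · have := orderOf_dvd_of_pow_eq_one h
    rcases (Nat.dvd_prime Nat.prime_two).mp this with h1 | h1 <;> simp [h1]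
  · have := orderOf_dvd_of_pow_eq_one h
    rcases (Nat.dvd_prime Nat.prime_three).mp this with h1 | h1 <;> simp [h1]
  · have := orderOf_dvd_of_pow_eq_one h
    rcases (Nat.dvd_prime Nat.prime_five).mp this with h1 | h1 <;> simp [h1]

def e2 : alternatingGroup (Fin 5) := ⟨c[0, 1] * c[2, 3], by rw [Equiv.Perm.mem_alternatingGroup]; decide⟩
def e3 : alternatingGroup (Fin 5) := ⟨c[0, 1, 2], by rw [Equiv.Perm.mem_alternatingGroup]; decide⟩
def e5 : alternatingGroup (Fin 5) := ⟨c[0, 1, 2, 3, 4], by rw [Equiv.Perm.mem_alternatingGroup]; decide⟩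

set_option maxRecDepth 100000 in
theorem o2 : orderOf e2 = 2 := orderOf_eq_prime (by decide) (by decide)
set_option maxRecDepth 100000 in
theorem o3 : orderOf e3 = 3 := orderOf_eq_prime (by decide) (by decide)
set_option maxRecDepth 100000 in
theorem o5 : orderOf e5 = 5 :=
  haveI : Fact (Nat.Prime 5) := ⟨by norm_num⟩
  orderOf_eq_prime (by decide) (by decide)

theorem lhs : Set.range (orderOf : alternatingGroup (Fin 5) × alternatingGroup (Fin 5) × alternatingGroup (Fin 5) → ℕ) = {1, 2, 3, 5, 6, 10, 15, 30} := by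
  ext k
  simp only [Set.mem_range, Set.mem_insert_iff, Set.mem_singleton_iff]
  constructor
  · rintro ⟨⟨g, h, l⟩, rfl⟩
    rw [Prod.orderOf, Prod.orderOf]
    rcases a5_order g with hg | hg | hg | hg <;> rcases a5_order h with hh | hh | hh | hh <;>
      rcases a5_order l with hl | hl | hl | hl <;>
      simp [hg, hh, hl] <;> decide
  · rintro (rfl | rfl | rfl | rfl | rfl | rfl | rfl | rfl)
    · exact ⟨(1, 1, 1), by simp⟩
    · exact ⟨(e2, 1, 1), by rw [Prod.orderOf, Prod.orderOf]; simp [o2]⟩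
    · exact ⟨(e3, 1, 1), by rw [Prod.orderOf, Prod.orderOf]; simp [o3]⟩
    · exact ⟨(e5, 1, 1), by rw [Prod.orderOf, Prod.orderOf]; simp [o5]⟩
    · exact ⟨(e2, e3, 1), by rw [Prod.orderOf, Prod.orderOf]; simp [o2, o3]; rfl⟩
    · exact ⟨(e2, e5, 1), by rw [Prod.orderOf, Prod.orderOf]; simp [o2, o5]; rfl⟩
    · exact ⟨(e3, e5, 1), by rw [Prod.orderOf, Prod.orderOf]; simp [o3, o5]; rfl⟩
    · exact ⟨(e2, e3, e5), by rw [Prod.orderOf, Prod.orderOf]; simp [o2, o3, o5]; rfl⟩

theorem rhs : Set.range (orderOf : Multiplicative (ZMod 30) → ℕ) = {1, 2, 3, 5, 6, 10, 15, 30} := by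
  ext k
  simp only [Set.mem_range, Set.mem_insert_iff, Set.mem_singleton_iff]
  constructor
  · rintro ⟨x, rfl⟩
    have h : orderOf x ∣ 30 := by
      have := orderOf_dvd_natCard x
      simpa using this
    have h2 : orderOf x ∈ Nat.divisors 30 := Nat.mem_divisors.mpr ⟨h, by norm_num⟩
    have h3 : Nat.divisors 30 = {1, 2, 3, 5, 6, 10, 15, 30} := by decide
    rw [h3] at h2
    simpa using h2
  · have key : ∀ a : ℕ, orderOf (Multiplicative.ofAdd ((a : ℕ) : ZMod 30)) = 30 / Nat.gcd 30 a := by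
      intro a
      rw [orderOf_ofAdd_eq_addOrderOf, ZMod.addOrderOf_coe a (by norm_num)]
    rintro (rfl | rfl | rfl | rfl | rfl | rfl | rfl | rfl)
    · exact ⟨Multiplicative.ofAdd ((30 : ℕ) : ZMod 30), by rw [key]; rfl⟩
    · exact ⟨Multiplicative.ofAdd ((15 : ℕ) : ZMod 30), by rw [key]; rfl⟩
    · exact ⟨Multiplicative.ofAdd ((10 : ℕ) : ZMod 30), by rw [key]; rfl⟩
    · exact ⟨Multiplicative.ofAdd ((6 : ℕ) : ZMod 30), by rw [key]; rfl⟩
    · exact ⟨Multiplicative.ofAdd ((5 : ℕ) : ZMod 30), by rw [key]; rfl⟩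
    · exact ⟨Multiplicative.ofAdd ((3 : ℕ) : ZMod 30), by rw [key]; rfl⟩
    · exact ⟨Multiplicative.ofAdd ((2 : ℕ) : ZMod 30), by rw [key]; rfl⟩
    · exact ⟨Multiplicative.ofAdd ((1 : ℕ) : ZMod 30), by rw [key]; rfl⟩

/-- The direct product of three copies of the alternating group of degree 5 has exactly the same set of element orders as the cyclic group of order 30, namely the divisors of 30; in particular a direct power of a non-abelian simple group need not be determined by its element orders. -/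
theorem result : Set.range (orderOf : alternatingGroup (Fin 5) × alternatingGroup (Fin 5) × alternatingGroup (Fin 5) → ℕ) =
      Set.range (orderOf : Multiplicative (ZMod 30) → ℕ) := by
  rw [lhs, rhs]

end Cfsg.Agent.S3449
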