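import Cfsg.Statements.S3488
import Mathlib

set_option autoImplicit false
open Cfsg

namespace Cfsg.Agent.S3488

open Polynomial in
/-- In characteristic two, a root `t` of `X² + X + 1` gives the factorisation of the fifth
cyclotomic polynomial. -/
theorem poly_factor {F : Type*} [Field F] [CharP F 2] (t : F) (ht : t * t + t + 1 = 0) :
    (X ^ 2 + C t * X + 1 : F[X]) * (X ^ 2 + C (t * t) * X + 1) = X ^ 4 + X ^ 3 + X ^ 2 + X + 1 := by
  have h2 : (2 : F[X]) = 0 := CharTwo.two_eq_zero
  have hc : C t * C t + C t + 1 = (0 : F[X]) := by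
    have h := congrArg (C : F → F[X]) ht
    simpa using h
  rw [C_mul]
  linear_combination (X ^ 3 + X + (C t - 1) * X ^ 2) * hc + (X ^ 2 - X ^ 3 - X) * h2

section aff
variable {F : Type*} [Field F]

/-- The affine matrix with linear part `A` and translation part `v`. -/
def aff (A : Matrix (Fin 2) (Fin 2) F) (v : Fin 2 → F) : Matrix (Fin 3) (Fin 3) F :=
  !![A 0 0, A 0 1, v 0; A 1 0, A 1 1, v 1; 0, 0, 1]

theorem aff_mul (A B : Matrix (Fin 2) (Fin 2) F) (v w : Fin 2 → F) :
    aff A v * aff B w = aff (A * B) (A.mulVec w + v) := by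
  ext i j
  fin_cases i <;> fin_cases j <;>
    simp [aff, Matrix.mul_apply, Fin.sum_univ_three, Fin.sum_univ_two, Matrix.mulVec,
      dotProduct]

theorem aff_one : aff (1 : Matrix (Fin 2) (Fin 2) F) 0 = 1 := by
  ext i j
  fin_cases i <;> fin_cases j <;> simp [aff]

theorem aff_pow (A : Matrix (Fin 2) (Fin 2) F) (v : Fin 2 → F) (k : ℕ) :
    aff A v ^ k = aff (A ^ k) ((∑ i ∈ Finset.range k, A ^ i).mulVec v) := by
  induction k with
  | zero => simp [aff_one]
  | succ k ih =>
    rw [pow_succ', ih, aff_mul, ← pow_succ']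
    congr 1
    rw [Finset.sum_range_succ' (fun i => A ^ i) k, Matrix.add_mulVec, pow_zero, Matrix.one_mulVec,
      Matrix.mulVec_mulVec, Finset.mul_sum]
    congr 2
    refine Finset.sum_congr rfl fun i _ => ?_
    rw [pow_succ']

theorem eq_aff (M : Matrix (Fin 3) (Fin 3) F) (h0 : M 2 0 = 0) (h1 : M 2 1 = 0) (h2 : M 2 2 = 1) :
    M = aff !![M 0 0, M 0 1; M 1 0, M 1 1] ![M 0 2, M 1 2] := by
  ext i j
  fin_cases i <;> fin_cases j <;> simp [aff, h0, h1, h2]

theorem det_aff (A : Matrix (Fin 2) (Fin 2) F) (v : Fin 2 → F) : (aff A v).det = A.det := by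
  rw [Matrix.det_fin_three, Matrix.det_fin_two]
  simp [aff]

theorem cayley (A : Matrix (Fin 2) (Fin 2) F) : A * A = A.trace • A - A.det • 1 := by
  ext i j
  fin_cases i <;> fin_cases j <;>
    simp [Matrix.mul_apply, Fin.sum_univ_two, Matrix.trace, Matrix.det_fin_two] <;> ring

end aff

section char2
variable {F : Type*} [Field F] [CharP F 2]

theorem cayley2 (A : Matrix (Fin 2) (Fin 2) F) (hdet : A.det = 1) :
    A * A = A.trace • A + 1 := by
  rw [cayley, hdet, one_smul, sub_eq_add_neg, CharTwo.neg_eq]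

theorem vec_add_self (w : Fin 2 → F) : w + w = 0 := by
  ext i
  simp [CharTwo.add_self_eq_zero]

theorem pow_four (A : Matrix (Fin 2) (Fin 2) F) (v : Fin 2 → F) (hdet : A.det = 1)
    (ht : A.trace = 0) : aff A v ^ 4 = 1 := by
  have hA : A * A = 1 := by rw [cayley2 A hdet, ht, zero_smul, zero_add]
  have h2 : aff A v ^ 2 = aff 1 (A.mulVec v + v) := by rw [pow_two, aff_mul, hA]
  calc aff A v ^ 4 = (aff A v ^ 2) ^ 2 := by rw [← pow_mul]
    _ = aff 1 ((A.mulVec v + v) + (A.mulVec v + v)) := by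
      rw [h2, pow_two, aff_mul, one_mul, Matrix.one_mulVec]
    _ = 1 := by rw [vec_add_self, aff_one]

theorem pow_three (A : Matrix (Fin 2) (Fin 2) F) (v : Fin 2 → F) (hdet : A.det = 1)
    (ht : A.trace = 1) : aff A v ^ 3 = 1 := by
  have hA : A * A = A + 1 := by rw [cayley2 A hdet, ht, one_smul]
  rw [aff_pow]
  have h3 : A ^ 3 = 1 := by
    calc A ^ 3 = A * (A * A) := by rw [pow_succ', pow_two]
      _ = A * (A + 1) := by rw [hA]
      _ = A * A + A := by rw [mul_add, mul_one]
      _ = (A + 1) + A := by rw [hA]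
      _ = 1 := by rw [add_comm A 1, add_assoc, CharTwo.add_self_eq_zero, add_zero]
  have hS : ∑ i ∈ Finset.range 3, A ^ i = 0 := by
    rw [Finset.sum_range_succ, Finset.sum_range_succ, Finset.sum_range_one, pow_zero, pow_one,
      pow_two, hA]
    calc 1 + A + (A + 1) = (1 + A) + (1 + A) := by rw [add_comm A 1]
      _ = 0 := CharTwo.add_self_eq_zero _
  rw [h3, hS, Matrix.zero_mulVec, aff_one]

open Polynomial in
theorem pow_five (A : Matrix (Fin 2) (Fin 2) F) (v : Fin 2 → F) (hdet : A.det = 1)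
    (ht : A.trace * A.trace + A.trace + 1 = 0) : aff A v ^ 5 = 1 := by
  have hA : A * A = A.trace • A + 1 := cayley2 A hdet
  have hp : aeval A (X ^ 2 + C A.trace * X + 1 : F[X]) = 0 := by
    simp only [map_add, map_mul, map_pow, aeval_X, aeval_C, map_one]
    rw [pow_two, hA, Algebra.algebraMap_eq_smul_one, smul_mul_assoc, one_mul]
    calc A.trace • A + 1 + A.trace • A + 1 = (A.trace • A + 1) + (A.trace • A + 1) := by
          rw [add_assoc]
      _ = 0 := CharTwo.add_self_eq_zero _
  have hS' : aeval A (X ^ 4 + X ^ 3 + X ^ 2 + X + 1 : F[X]) = 0 := by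
    rw [← poly_factor A.trace ht, map_mul, hp, zero_mul]
  have hS : ∑ i ∈ Finset.range 5, A ^ i = 0 := by
    rw [← hS']
    simp only [map_add, map_pow, aeval_X, map_one, Finset.sum_range_succ, Finset.sum_range_zero,
      pow_zero, pow_one, zero_add]
    abel
  have h5 : A ^ 5 = 1 := by
    have h := mul_geom_sum A 5
    rw [hS, mul_zero] at h
    exact (sub_eq_zero.mp h.symm)
  rw [aff_pow, h5, hS, Matrix.zero_mulVec, aff_one]

end char2

theorem charP_two {F : Type*} [Field F] [Fintype F] (hF : Fintype.card F = 4) : CharP F 2 := by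
  obtain ⟨n, hp, hc⟩ := FiniteField.card F (ringChar F)
  rw [hF] at hc
  have h2 : ringChar F = 2 := by
    have h4 : ringChar F ∣ 2 ^ 2 := by
      have : ringChar F ∣ 4 := by rw [hc]; exact dvd_pow_self _ n.ne_zero
      simpa using this
    exact (Nat.prime_dvd_prime_iff_eq hp Nat.prime_two).mp (hp.dvd_of_dvd_pow h4)
  rw [← h2]; exact ringChar.charP F

theorem trace_cases {F : Type*} [Field F] [Fintype F] (hF : Fintype.card F = 4) (t : F) :
    t = 0 ∨ t = 1 ∨ t * t + t + 1 = 0 := by
  by_cases h0 : t = 0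
  · left; exact h0
  · right
    have h3 : t ^ 3 = 1 := by
      have := FiniteField.pow_card_sub_one_eq_one t h0
      rwa [hF] at this
    have : (t - 1) * (t * t + t + 1) = 0 := by linear_combination h3
    rcases mul_eq_zero.mp this with h | h
    · left; exact sub_eq_zero.mp h
    · right; exact h

theorem aff_order_cases {F : Type*} [Field F] [Fintype F] (hF : Fintype.card F = 4)
    (A : Matrix (Fin 2) (Fin 2) F) (v : Fin 2 → F) (hdet : A.det = 1) :
    aff A v ^ 4 = 1 ∨ aff A v ^ 3 = 1 ∨ aff A v ^ 5 = 1 := by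
  haveI := charP_two hF
  rcases trace_cases hF A.trace with h | h | h
  · exact Or.inl (pow_four A v hdet h)
  · exact Or.inr (Or.inl (pow_three A v hdet h))
  · exact Or.inr (Or.inr (pow_five A v hdet h))

section a6

set_option maxRecDepth 1000000 in
set_option maxHeartbeats 4000000 in
theorem a6_pow : ∀ g : alternatingGroup (Fin 6), g ^ 4 = 1 ∨ g ^ 3 = 1 ∨ g ^ 5 = 1 := by
  decide +kernel

theorem order_of_pow_cases {G : Type*} [Group G] {g : G}
    (h : g ^ 4 = 1 ∨ g ^ 3 = 1 ∨ g ^ 5 = 1) :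
    orderOf g = 1 ∨ orderOf g = 2 ∨ orderOf g = 3 ∨ orderOf g = 4 ∨ orderOf g = 5 := by
  rcases h with h | h | h
  · have h1 : orderOf g ∣ 2 ^ 2 := orderOf_dvd_of_pow_eq_one h
    obtain ⟨m, hm, hm'⟩ := (Nat.dvd_prime_pow Nat.prime_two).mp h1
    interval_cases m <;> simp [hm']
  · have h1 := orderOf_dvd_of_pow_eq_one h
    rcases (Nat.dvd_prime Nat.prime_three).mp h1 with h2 | h2 <;> simp [h2]
  · have h1 := orderOf_dvd_of_pow_eq_one h
    rcases (Nat.dvd_prime Nat.prime_five).mp h1 with h2 | h2 <;> simp [h2]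

/-- An involution of `A₆`. -/
def e2 : alternatingGroup (Fin 6) :=
  ⟨c[0, 1] * c[2, 3], by rw [Equiv.Perm.mem_alternatingGroup]; decide⟩
/-- An element of order three of `A₆`. -/
def e3 : alternatingGroup (Fin 6) :=
  ⟨c[0, 1, 2], by rw [Equiv.Perm.mem_alternatingGroup]; decide⟩
/-- An element of order four of `A₆`. -/
def e4 : alternatingGroup (Fin 6) :=
  ⟨c[0, 1, 2, 3] * c[4, 5], by rw [Equiv.Perm.mem_alternatingGroup]; decide⟩
/-- An element of order five of `A₆`. -/
def e5 : alternatingGroup (Fin 6) :=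
  ⟨c[0, 1, 2, 3, 4], by rw [Equiv.Perm.mem_alternatingGroup]; decide⟩

set_option maxRecDepth 100000 in
theorem o2 : orderOf e2 = 2 := orderOf_eq_prime (by decide) (by decide)
set_option maxRecDepth 100000 in
theorem o3 : orderOf e3 = 3 := orderOf_eq_prime (by decide) (by decide)
set_option maxRecDepth 100000 in
theorem o4 : orderOf e4 = 4 :=
  orderOf_eq_prime_pow (p := 2) (n := 1) (by decide) (by decide)
set_option maxRecDepth 100000 in
theorem o5 : orderOf e5 = 5 :=
  haveI : Fact (Nat.Prime 5) := ⟨by norm_num⟩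
  orderOf_eq_prime (by decide) (by decide)

theorem a6_spectrum :
    Set.range (orderOf : alternatingGroup (Fin 6) → ℕ) = {1, 2, 3, 4, 5} := by
  ext k
  simp only [Set.mem_range, Set.mem_insert_iff, Set.mem_singleton_iff]
  constructor
  · rintro ⟨g, rfl⟩
    exact order_of_pow_cases (a6_pow g)
  · rintro (rfl | rfl | rfl | rfl | rfl)
    · exact ⟨1, orderOf_one⟩
    · exact ⟨e2, o2⟩
    · exact ⟨e3, o3⟩
    · exact ⟨e4, o4⟩
    · exact ⟨e5, o5⟩

end a6

section grp
variable {F : Type*} [Field F] [Fintype F]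

open Matrix in
theorem last_row {M : Matrix.SpecialLinearGroup (Fin 3) F}
    (hM : M ∈ Subgroup.closure {M : Matrix.SpecialLinearGroup (Fin 3) F |
        (M : Matrix (Fin 3) (Fin 3) F) 2 0 = 0 ∧ (M : Matrix (Fin 3) (Fin 3) F) 2 1 = 0 ∧
        (M : Matrix (Fin 3) (Fin 3) F) 2 2 = 1}) :
    (M : Matrix (Fin 3) (Fin 3) F) 2 0 = 0 ∧ (M : Matrix (Fin 3) (Fin 3) F) 2 1 = 0 ∧
      (M : Matrix (Fin 3) (Fin 3) F) 2 2 = 1 := by
  induction hM using Subgroup.closure_induction with
  | mem x hx => exact hx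
  | one => simp
  | mul x y _ _ hx hy =>
    obtain ⟨a0, a1, a2⟩ := hx
    obtain ⟨b0, b1, b2⟩ := hy
    simp [Matrix.SpecialLinearGroup.coe_mul, Matrix.mul_apply, Fin.sum_univ_three, a0, a1, a2, b0,
      b1, b2]
  | inv x _ hx =>
    obtain ⟨a0, a1, a2⟩ := hx
    have h : (x : Matrix (Fin 3) (Fin 3) F) *
        ((x⁻¹ : Matrix.SpecialLinearGroup (Fin 3) F) : Matrix (Fin 3) (Fin 3) F) = 1 := by
      rw [← Matrix.SpecialLinearGroup.coe_mul, mul_inv_cancel]; rfl
    have e : ∀ j, ((x⁻¹ : Matrix.SpecialLinearGroup (Fin 3) F) : Matrix (Fin 3) (Fin 3) F) 2 j =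
        (1 : Matrix (Fin 3) (Fin 3) F) 2 j := by
      intro j
      rw [← h, Matrix.mul_apply, Fin.sum_univ_three, a0, a1, a2]; simp
    exact ⟨by rw [e]; simp, by rw [e]; simp, by rw [e]; simp⟩

/-- An element of the affine group from its linear and translation parts. -/
def mk (A : Matrix (Fin 2) (Fin 2) F) (v : Fin 2 → F) (hdet : A.det = 1) :
    Subgroup.closure {M : Matrix.SpecialLinearGroup (Fin 3) F |
        (M : Matrix (Fin 3) (Fin 3) F) 2 0 = 0 ∧ (M : Matrix (Fin 3) (Fin 3) F) 2 1 = 0 ∧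
        (M : Matrix (Fin 3) (Fin 3) F) 2 2 = 1} :=
  ⟨⟨aff A v, by rw [det_aff]; exact hdet⟩,
    Subgroup.subset_closure ⟨by simp [aff], by simp [aff], by simp [aff]⟩⟩

theorem mk_pow_eq_one_iff (A : Matrix (Fin 2) (Fin 2) F) (v : Fin 2 → F) (hdet : A.det = 1)
    (k : ℕ) : mk A v hdet ^ k = 1 ↔ aff A v ^ k = 1 := by
  have hc : (((mk A v hdet ^ k : Subgroup.closure {M : Matrix.SpecialLinearGroup (Fin 3) F |
        (M : Matrix (Fin 3) (Fin 3) F) 2 0 = 0 ∧ (M : Matrix (Fin 3) (Fin 3) F) 2 1 = 0 ∧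
        (M : Matrix (Fin 3) (Fin 3) F) 2 2 = 1}) : Matrix.SpecialLinearGroup (Fin 3) F) :
        Matrix (Fin 3) (Fin 3) F) = aff A v ^ k := by
    rw [SubgroupClass.coe_pow, Matrix.SpecialLinearGroup.coe_pow]
    rfl
  constructor
  · intro h
    rw [← hc, h]; simp
  · intro h
    apply Subtype.ext
    apply Matrix.SpecialLinearGroup.ext
    intro i j
    rw [hc, h]; simp

end grp

section grp2
variable {F : Type*} [Field F] [Fintype F]

theorem mk_ne_one (A : Matrix (Fin 2) (Fin 2) F) (v : Fin 2 → F) (hdet : A.det = 1)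
    (h : aff A v ≠ 1) : mk A v hdet ≠ 1 := by
  intro h1
  apply h
  have := (mk_pow_eq_one_iff A v hdet 1).mp (by rw [pow_one]; exact h1)
  rwa [pow_one] at this

theorem exists_ne_zero_one (hF : Fintype.card F = 4) : ∃ t : F, t ≠ 0 ∧ t ≠ 1 := by
  classical
  by_contra hcon
  push Not at hcon
  have hsub : (Finset.univ : Finset F) ⊆ {0, 1} := by
    intro t _
    by_cases h : t = 0
    · simp [h]
    · simp [hcon t h]
  have : Fintype.card F ≤ 2 := by
    calc Fintype.card F = (Finset.univ : Finset F).card := Finset.card_univ.symm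
      _ ≤ ({0, 1} : Finset F).card := Finset.card_le_card hsub
      _ ≤ 2 := Finset.card_le_two
  omega

end grp2

/-- Let F be the field with four elements. The affine group F² ⋊ SL(2,F), realised as the subgroup of SL(3,F) of matrices with last row (0, 0, 1), has exactly the same set of element orders as the alternating group of degree 6 (namely {1, 2, 3, 4, 5}); so the alternating group of degree 6 is not determined by its element orders. -/
theorem result {F : Type*} [Field F] [Fintype F] (hF : Fintype.card F = 4) :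
    Set.range (orderOf : Subgroup.closure {M : Matrix.SpecialLinearGroup (Fin 3) F |
        (M : Matrix (Fin 3) (Fin 3) F) 2 0 = 0 ∧ (M : Matrix (Fin 3) (Fin 3) F) 2 1 = 0 ∧ (M : Matrix (Fin 3) (Fin 3) F) 2 2 = 1} → ℕ) =
      Set.range (orderOf : alternatingGroup (Fin 6) → ℕ) := by
  classical
  haveI := charP_two hF
  rw [a6_spectrum]
  ext k
  simp only [Set.mem_range, Set.mem_insert_iff, Set.mem_singleton_iff]
  constructor
  · rintro ⟨g, rfl⟩
    obtain ⟨h0, h1, h2⟩ := last_row g.2
    have hM := eq_aff ((g : Matrix.SpecialLinearGroup (Fin 3) F) : Matrix (Fin 3) (Fin 3) F) h0 h1 h2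
    set M : Matrix (Fin 3) (Fin 3) F :=
      ((g : Matrix.SpecialLinearGroup (Fin 3) F) : Matrix (Fin 3) (Fin 3) F) with hMdef
    set A : Matrix (Fin 2) (Fin 2) F := !![M 0 0, M 0 1; M 1 0, M 1 1] with hA
    set v : Fin 2 → F := ![M 0 2, M 1 2] with hv
    have hdet : A.det = 1 := by
      rw [← det_aff A v, ← hM]
      exact (g : Matrix.SpecialLinearGroup (Fin 3) F).2
    have hg : g = mk A v hdet := by
      apply Subtype.ext
      apply Matrix.SpecialLinearGroup.ext
      intro i j
      show M i j = aff A v i j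
      rw [← hM]
    apply order_of_pow_cases
    rw [hg, mk_pow_eq_one_iff, mk_pow_eq_one_iff, mk_pow_eq_one_iff]
    exact aff_order_cases hF A v hdet
  · rintro (rfl | rfl | rfl | rfl | rfl)
    · exact ⟨1, orderOf_one⟩
    · have hdet : (1 : Matrix (Fin 2) (Fin 2) F).det = 1 := Matrix.det_one
      refine ⟨mk 1 ![1, 0] hdet, ?_⟩
      haveI : Fact (Nat.Prime 2) := ⟨Nat.prime_two⟩
      apply orderOf_eq_prime
      · rw [mk_pow_eq_one_iff, pow_two, aff_mul, one_mul, Matrix.one_mulVec, vec_add_self, aff_one]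
      · apply mk_ne_one
        intro h
        have h02 := congrFun (congrFun h 0) 2
        simp [aff] at h02
    · have hdet : (!![0, 1; 1, 1] : Matrix (Fin 2) (Fin 2) F).det = 1 := by
        rw [Matrix.det_fin_two_of]; simp [CharTwo.neg_eq]
      have htr : (!![0, 1; 1, 1] : Matrix (Fin 2) (Fin 2) F).trace = 1 := by
        rw [Matrix.trace_fin_two_of]; simp
      refine ⟨mk _ 0 hdet, ?_⟩
      haveI : Fact (Nat.Prime 3) := ⟨Nat.prime_three⟩
      apply orderOf_eq_prime
      · rw [mk_pow_eq_one_iff]; exact pow_three _ _ hdet htr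
      · apply mk_ne_one
        intro h
        have h00 := congrFun (congrFun h 0) 0
        simp [aff] at h00
    · have hdet : (!![1, 1; 0, 1] : Matrix (Fin 2) (Fin 2) F).det = 1 := by
        rw [Matrix.det_fin_two_of]; simp
      have htr : (!![1, 1; 0, 1] : Matrix (Fin 2) (Fin 2) F).trace = 0 := by
        rw [Matrix.trace_fin_two_of]; exact CharTwo.add_self_eq_zero 1
      refine ⟨mk _ ![0, 1] hdet, ?_⟩
      have := orderOf_eq_prime_pow (p := 2) (n := 1) (x := mk _ ![0, 1] hdet) ?_ ?_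
      · simpa using this
      · rw [mk_pow_eq_one_iff]
        intro h
        rw [pow_one, pow_two, aff_mul] at h
        have h02 := congrFun (congrFun h 0) 2
        simp [aff, Matrix.mulVec, dotProduct] at h02
      · rw [mk_pow_eq_one_iff]; exact pow_four _ _ hdet htr
    · obtain ⟨t, ht0, ht1⟩ := exists_ne_zero_one hF
      have htt : t * t + t + 1 = 0 := by
        rcases trace_cases hF t with h | h | h
        · exact absurd h ht0
        · exact absurd h ht1
        · exact h
      have hdet : (!![0, 1; 1, t] : Matrix (Fin 2) (Fin 2) F).det = 1 := by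
        rw [Matrix.det_fin_two_of]; simp [CharTwo.neg_eq]
      have htr : (!![0, 1; 1, t] : Matrix (Fin 2) (Fin 2) F).trace = t := by
        rw [Matrix.trace_fin_two_of]; simp
      refine ⟨mk _ 0 hdet, ?_⟩
      haveI : Fact (Nat.Prime 5) := ⟨by norm_num⟩
      apply orderOf_eq_prime
      · rw [mk_pow_eq_one_iff]; exact pow_five _ _ hdet (by rw [htr]; exact htt)
      · apply mk_ne_one
        intro h
        have h00 := congrFun (congrFun h 0) 0
        simp [aff] at h00

end Cfsg.Agent.S3488
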