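import Cfsg.Statements.S3491
import Mathlib
import Cfsg.Agent.S3488
import Cfsg.Agent.S3444

set_option autoImplicit false
open Cfsg

namespace Cfsg.Agent.S3491

open Cfsg.Agent.S3488

section
variable {F : Type*} [Field F] [Fintype F]

/-- The affine group as a subgroup of `SL₃(F)`. -/
abbrev Gam (F : Type*) [Field F] [Fintype F] : Subgroup (Matrix.SpecialLinearGroup (Fin 3) F) :=
  Subgroup.closure {M : Matrix.SpecialLinearGroup (Fin 3) F |
    (M : Matrix (Fin 3) (Fin 3) F) 2 0 = 0 ∧ (M : Matrix (Fin 3) (Fin 3) F) 2 1 = 0 ∧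
    (M : Matrix (Fin 3) (Fin 3) F) 2 2 = 1}

/-- The linear part of an element of the affine group. -/
def lin : Gam F →* Matrix (Fin 2) (Fin 2) F where
  toFun g := !![(g : Matrix.SpecialLinearGroup (Fin 3) F).1 0 0,
    (g : Matrix.SpecialLinearGroup (Fin 3) F).1 0 1;
    (g : Matrix.SpecialLinearGroup (Fin 3) F).1 1 0,
    (g : Matrix.SpecialLinearGroup (Fin 3) F).1 1 1]
  map_one' := by
    ext i j
    fin_cases i <;> fin_cases j <;> simp
  map_mul' g h := by
    obtain ⟨h0, h1, h2⟩ := last_row h.2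
    ext i j
    fin_cases i <;> fin_cases j <;>
      simp [Matrix.mul_apply, Fin.sum_univ_three, Fin.sum_univ_two, h0, h1]

end

theorem rep_of_lin_eq_one {F : Type*} [Field F] [Fintype F] (g : Gam F) (hg : lin g = 1) :
    ((g : Matrix.SpecialLinearGroup (Fin 3) F) : Matrix (Fin 3) (Fin 3) F) =
      aff 1 ![(g : Matrix.SpecialLinearGroup (Fin 3) F).1 0 2,
        (g : Matrix.SpecialLinearGroup (Fin 3) F).1 1 2] := by
  obtain ⟨h0, h1, h2⟩ := last_row g.2
  have hM := eq_aff _ h0 h1 h2
  have hA : !![(g : Matrix.SpecialLinearGroup (Fin 3) F).1 0 0,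
    (g : Matrix.SpecialLinearGroup (Fin 3) F).1 0 1;
    (g : Matrix.SpecialLinearGroup (Fin 3) F).1 1 0,
    (g : Matrix.SpecialLinearGroup (Fin 3) F).1 1 1] = (1 : Matrix (Fin 2) (Fin 2) F) := hg
  rw [hA] at hM
  exact hM

/-- The alternating group of degree 6 is not determined by its set of element orders, not even up to finitely many groups: for every bound N there is a finite group of order greater than N with exactly the same set of element orders as the alternating group of degree 6. -/
theorem result (N : ℕ) : ∃ (H : Type) (_ : Group H) (_ : Fintype H), N < Fintype.card H ∧ Set.range (orderOf : H → ℕ) = Set.range (orderOf : alternatingGroup (Fin 6) → ℕ) := by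
  classical
  haveI : Fact (Nat.Prime 2) := ⟨Nat.prime_two⟩
  let F := GaloisField 2 2
  letI : Fintype F := Fintype.ofFinite F
  have hF : Fintype.card F = 4 := by
    rw [← Nat.card_eq_fintype_card, GaloisField.card 2 2 (by norm_num)]; norm_num
  haveI := charP_two hF
  let K : Subgroup (Gam F) := (lin (F := F)).ker
  have hK1 : K ≠ ⊥ := by
    intro hbot
    have hdet : (1 : Matrix (Fin 2) (Fin 2) F).det = 1 := Matrix.det_one
    have hmem : mk 1 ![1, 0] hdet ∈ K := by
      rw [MonoidHom.mem_ker]
      ext i j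
      fin_cases i <;> fin_cases j <;> simp [lin, mk, aff]
    rw [hbot, Subgroup.mem_bot] at hmem
    refine mk_ne_one 1 ![1, 0] hdet ?_ hmem
    intro h
    have h02 := congrFun (congrFun h 0) 2
    simp [aff] at h02
  have hKs : Group.IsSolvable K := by
    apply Group.isSolvable_of_comm
    intro a b
    apply Subtype.ext
    apply Subtype.ext
    apply Matrix.SpecialLinearGroup.ext
    intro i j
    have ha := rep_of_lin_eq_one (a : Gam F) (MonoidHom.mem_ker.mp a.2)
    have hb := rep_of_lin_eq_one (b : Gam F) (MonoidHom.mem_ker.mp b.2)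
    have e1 : (((a * b : K) : Gam F) : Matrix.SpecialLinearGroup (Fin 3) F).1 =
        ((a : Gam F) : Matrix.SpecialLinearGroup (Fin 3) F).1 *
          ((b : Gam F) : Matrix.SpecialLinearGroup (Fin 3) F).1 := rfl
    have e2 : (((b * a : K) : Gam F) : Matrix.SpecialLinearGroup (Fin 3) F).1 =
        ((b : Gam F) : Matrix.SpecialLinearGroup (Fin 3) F).1 *
          ((a : Gam F) : Matrix.SpecialLinearGroup (Fin 3) F).1 := rfl
    show (((a * b : K) : Gam F) : Matrix.SpecialLinearGroup (Fin 3) F).1 i j =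
      (((b * a : K) : Gam F) : Matrix.SpecialLinearGroup (Fin 3) F).1 i j
    rw [e1, e2]
    change ((((a : Gam F) : Matrix.SpecialLinearGroup (Fin 3) F) : Matrix (Fin 3) (Fin 3) F) *
      (((b : Gam F) : Matrix.SpecialLinearGroup (Fin 3) F) : Matrix (Fin 3) (Fin 3) F)) i j =
      ((((b : Gam F) : Matrix.SpecialLinearGroup (Fin 3) F) : Matrix (Fin 3) (Fin 3) F) *
      (((a : Gam F) : Matrix.SpecialLinearGroup (Fin 3) F) : Matrix (Fin 3) (Fin 3) F)) i j
    rw [ha, hb, aff_mul, aff_mul, one_mul, Matrix.one_mulVec, Matrix.one_mulVec, add_comm]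
  obtain ⟨H, iG, iF, hcard, hspec⟩ := Cfsg.Agent.S3444.result K hK1 hKs N
  exact ⟨H, iG, iF, hcard, hspec.trans (Cfsg.Agent.S3488.result hF)⟩

end Cfsg.Agent.S3491
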