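import Cfsg.Statements.S3859
import Mathlib
import Cfsg.Agent.Lib.Helper1_Index

set_option autoImplicit false
open Cfsg

namespace Cfsg.Agent.S3859

open Cfsg.Agent.Lib.Helper1_Index

/-- A simple group which is a `p`-group is commutative. -/
theorem commutative_of_simple_pgroup {T : Type*} [Group T] [Finite T] (hT : IsSimpleGroup T)
    {r : ℕ} [Fact r.Prime] (hp : IsPGroup r T) : IsMulCommutative T := by
  have hnt : Nontrivial T := hT.toNontrivial
  have hc : Nontrivial (Subgroup.center T) := hp.center_nontrivial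
  have hcn : (Subgroup.center T).Normal := inferInstance
  rcases hT.eq_bot_or_eq_top_of_normal _ hcn with h | h
  · exfalso
    have : Subsingleton (Subgroup.center T) := by rw [h]; infer_instance
    exact not_subsingleton _ this
  · refine ⟨⟨fun a b => ?_⟩⟩
    have hb : b ∈ Subgroup.center T := h ▸ Subgroup.mem_top b
    exact Subgroup.mem_center_iff.mp hb a

/-- common part: the normalizer of `R ⊓ T` is proper, contains `R`, and generates `G` with `T`. -/
theorem frattini_setup {G : Type*} [Group G] [Finite G] (T : Subgroup G) [T.Normal]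
    (hT : IsSimpleGroup T) (hna : ¬ IsMulCommutative T) {r : ℕ} [Fact r.Prime] (R : Sylow r G)
    (hR0 : (R : Subgroup G) ⊓ T ≠ ⊥) :
    Subgroup.normalizer (((R : Subgroup G) ⊓ T : Subgroup G) : Set G) ⊔ T = ⊤ ∧
    Subgroup.normalizer (((R : Subgroup G) ⊓ T : Subgroup G) : Set G) ≠ ⊤ ∧
    Subgroup.normalizer ((R : Subgroup G) : Set G) ≤
      Subgroup.normalizer (((R : Subgroup G) ⊓ T : Subgroup G) : Set G) := by
  have hTs : T.IsSubnormal := Subgroup.Normal.isSubnormal inferInstance
  let Q : Sylow r T := sylowOfSubnormal r R T hTs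
  have hQ : (Q : Subgroup T).map T.subtype = (R : Subgroup G) ⊓ T := by
    rw [coe_sylowOfSubnormal, Subgroup.subgroupOf_map_subtype]
  have hfr := Sylow.normalizer_sup_eq_top Q
  rw [hQ] at hfr
  refine ⟨hfr, ?_, ?_⟩
  · intro htop
    have hn : ((R : Subgroup G) ⊓ T).Normal := Subgroup.normalizer_eq_top_iff.mp htop
    have hn' : (((R : Subgroup G) ⊓ T).subgroupOf T).Normal := inferInstance
    rcases hT.eq_bot_or_eq_top_of_normal _ hn' with h | h
    · apply hR0
      rw [Subgroup.subgroupOf_eq_bot] at h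
      rw [disjoint_iff, inf_assoc, inf_idem] at h
      exact h
    · rw [Subgroup.subgroupOf_eq_top] at h
      have hTR : T ≤ (R : Subgroup G) := h.trans inf_le_left
      apply hna
      have hp : IsPGroup r T := R.isPGroup'.to_le hTR
      exact commutative_of_simple_pgroup hT hp
  · intro x hx
    rw [Subgroup.mem_normalizer_iff] at hx ⊢
    intro y
    constructor
    · rintro ⟨hy1, hy2⟩
      exact ⟨(hx y).mp hy1, Subgroup.Normal.conj_mem inferInstance y hy2 x⟩
    · rintro ⟨hy1, hy2⟩
      refine ⟨(hx y).mpr hy1, ?_⟩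
      have := Subgroup.Normal.conj_mem (inferInstance : T.Normal) _ hy2 x⁻¹
      have e : x⁻¹ * (x * y * x⁻¹) * x⁻¹⁻¹ = y := by group
      rwa [e] at this

/-- Let G be a finite group with a normal non-abelian simple subgroup T whose centralizer is trivial (G almost simple with socle T), r a prime and R a Sylow r-subgroup of G meeting T nontrivially. If R lies in exactly one maximal subgroup of G, then G/T is an r-group. -/
theorem result {G : Type*} [Group G] [Finite G] (T : Subgroup G) [T.Normal] (hT : IsSimpleGroup T) (hna : ¬ IsMulCommutative T)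
    (hC : Subgroup.centralizer (T : Set G) = ⊥) {r : ℕ} [Fact r.Prime] (R : Sylow r G) (hR0 : (R : Subgroup G) ⊓ T ≠ ⊥)
    (huniq : ∃! M : Subgroup G, IsCoatom M ∧ (R : Subgroup G) ≤ M) : IsPGroup r (G ⧸ T) := by
  obtain ⟨hfr, hne, hNN⟩ := frattini_setup T hT hna R hR0
  have hRN : (R : Subgroup G) ≤
      Subgroup.normalizer (((R : Subgroup G) ⊓ T : Subgroup G) : Set G) :=
    Subgroup.le_normalizer.trans hNN
  have hRT : (R : Subgroup G) ⊔ T = ⊤ := by
    by_contra hcon
    obtain ⟨M, ⟨hM, hRM⟩, hMu⟩ := huniq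
    rcases eq_top_or_exists_le_coatom ((R : Subgroup G) ⊔ T) with h | ⟨M₁, hM₁, hle₁⟩
    · exact hcon h
    rcases eq_top_or_exists_le_coatom
      (Subgroup.normalizer (((R : Subgroup G) ⊓ T : Subgroup G) : Set G)) with h | ⟨M₂, hM₂, hle₂⟩
    · exact hne h
    have e1 : M₁ = M := hMu M₁ ⟨hM₁, le_sup_left.trans hle₁⟩
    have e2 : M₂ = M := hMu M₂ ⟨hM₂, hRN.trans hle₂⟩
    have hTM : T ≤ M := e1 ▸ (le_sup_right.trans hle₁)
    have hNM : Subgroup.normalizer (((R : Subgroup G) ⊓ T : Subgroup G) : Set G) ≤ M := e2 ▸ hle₂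
    have : (⊤ : Subgroup G) ≤ M := hfr ▸ sup_le hNM hTM
    exact hM.1 (top_le_iff.mp this)
  -- the map R → G/T is surjective
  let φ : (R : Subgroup G) →* G ⧸ T := (QuotientGroup.mk' T).comp (R : Subgroup G).subtype
  have hφ : Function.Surjective φ := by
    intro y
    obtain ⟨g, rfl⟩ := QuotientGroup.mk_surjective y
    have hg : g ∈ ((R : Subgroup G) ⊔ T : Subgroup G) := hRT ▸ Subgroup.mem_top g
    rw [← SetLike.mem_coe, Subgroup.mul_normal] at hg
    obtain ⟨a, ha, b, hb, rfl⟩ := hg
    refine ⟨⟨a, ha⟩, ?_⟩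
    show (QuotientGroup.mk a : G ⧸ T) = QuotientGroup.mk (a * b)
    rw [QuotientGroup.eq]
    have : a⁻¹ * (a * b) = b := by group
    rw [this]; exact hb
  exact IsPGroup.of_surjective R.isPGroup' φ hφ

end Cfsg.Agent.S3859
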