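import Cfsg.Statements.S3498
import Mathlib
import Cfsg.Agent.S3859

set_option autoImplicit false
open Cfsg

namespace Cfsg.Agent.S3498

open scoped Pointwise

theorem comm_of_prime_card {T : Type*} [Group T] {p : ℕ} (hp : p.Prime)
    (h : Nat.card T = p) : IsMulCommutative T := by
  have : Fact p.Prime := ⟨hp⟩
  have hc : IsCyclic T := isCyclic_of_prime_card h
  exact IsCyclic.isMulCommutative

/-- A finite non-abelian simple group has no maximal subgroup of prime order. -/
theorem simple_case {G : Type*} [Group G] [Finite G] (hS : IsSimpleGroup G)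
    (hnc : ¬ IsMulCommutative G) (H : Subgroup G) (hmax : IsCoatom H)
    (hp : (Nat.card H).Prime) : False := by
  have hfact : Fact (Nat.card H).Prime := ⟨hp⟩
  have hHp : IsPGroup (Nat.card H) H := IsPGroup.of_card (n := 1) (by rw [pow_one])
  obtain ⟨P, hHP⟩ := hHp.exists_le_sylow
  have hPtop : (P : Subgroup G) ≠ ⊤ := by
    intro htop
    apply hnc
    have hG : IsPGroup (Nat.card H) G := by
      intro g
      obtain ⟨k, hk⟩ := P.isPGroup' ⟨g, htop ▸ Subgroup.mem_top g⟩
      exact ⟨k, congrArg Subtype.val hk⟩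
    exact S3859.commutative_of_simple_pgroup hS hG
  have hHP' : H = (P : Subgroup G) := by
    rcases eq_or_lt_of_le hHP with h | h
    · exact h
    · exact absurd (hmax.2 _ h) hPtop
  -- normalizer
  have hN : Subgroup.normalizer ((P : Subgroup G) : Set G) = (P : Subgroup G) := by
    have hle : (P : Subgroup G) ≤ Subgroup.normalizer ((P : Subgroup G) : Set G) :=
      Subgroup.le_normalizer
    rcases eq_or_lt_of_le hle with h | h
    · exact h.symm
    · exfalso
      rw [← hHP'] at h
      have htop := hmax.2 _ h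
      have hn : H.Normal := Subgroup.normalizer_eq_top_iff.mp htop
      rcases hS.eq_bot_or_eq_top_of_normal H hn with hb | ht
      · rw [hb, Subgroup.card_bot] at hp
        exact Nat.not_prime_one hp
      · exact hmax.1 ht
  have hPcomm : IsMulCommutative (P : Subgroup G) := by
    apply comm_of_prime_card hp
    rw [← hHP']
  have hNC : Subgroup.normalizer ((P : Subgroup G) : Set G) ≤
      Subgroup.centralizer ((P : Subgroup G) : Set G) := by
    rw [hN]
    intro x hx
    rw [Subgroup.mem_centralizer_iff]
    intro y hy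
    have := hPcomm.is_comm.comm ⟨y, hy⟩ ⟨x, hx⟩
    exact congrArg Subtype.val this
  have hcompl := MonoidHom.ker_transferSylow_isComplement' P hNC
  have hcard := hcompl.card_mul_card
  have hPcard : Nat.card (P : Subgroup G) = Nat.card H := by rw [← hHP']
  rcases hS.eq_bot_or_eq_top_of_normal _
    (MonoidHom.normal_ker (MonoidHom.transferSylow P hNC)) with hb | ht
  · rw [hb, Subgroup.card_bot, one_mul] at hcard
    exact hPtop (Subgroup.eq_top_of_card_eq _ hcard)
  · rw [ht, Subgroup.card_top] at hcard
    have hpos : 0 < Nat.card G := Nat.card_pos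
    have h1 : Nat.card (P : Subgroup G) = 1 := by
      have : Nat.card G * Nat.card (P : Subgroup G) = Nat.card G * 1 := by rw [hcard, mul_one]
      exact Nat.eq_of_mul_eq_mul_left hpos this
    rw [hPcard] at h1
    rw [h1] at hp
    exact Nat.not_prime_one hp

/-- the conjugation action of a subgroup `H` on a normal subgroup `T` -/
@[reducible] def conjAct {G : Type*} [Group G] (H T : Subgroup G) [hn : T.Normal] :
    MulDistribMulAction H T where
  smul h t := ⟨(h : G) * t * (h : G)⁻¹, hn.conj_mem t t.2 h⟩
  one_smul t := Subtype.ext (by show ((1 : H) : G) * t * ((1 : H) : G)⁻¹ = t; simp)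
  mul_smul h₁ h₂ t := Subtype.ext (by
    show ((h₁ * h₂ : H) : G) * t * ((h₁ * h₂ : H) : G)⁻¹ =
      (h₁ : G) * ((h₂ : G) * t * (h₂ : G)⁻¹) * (h₁ : G)⁻¹
    rw [Subgroup.coe_mul]; group)
  smul_mul h t₁ t₂ := Subtype.ext (by
    show (h : G) * ((t₁ * t₂ : T) : G) * (h : G)⁻¹ =
      ((h : G) * t₁ * (h : G)⁻¹) * ((h : G) * t₂ * (h : G)⁻¹)
    rw [Subgroup.coe_mul]; group)
  smul_one h := Subtype.ext (by
    show (h : G) * ((1 : T) : G) * (h : G)⁻¹ = ((1 : T) : G)
    simp)

/-- A maximal subgroup of a finite almost simple group does not have prime order. Here G is almost simple in the sense that it has a non-abelian simple normal subgroup T with trivial centralizer. -/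
theorem result {G : Type*} [Group G] [Finite G] (T : Subgroup G) [T.Normal] (hT : IsSimpleGroup T) (hTc : ¬ IsMulCommutative T)
    (hC : Subgroup.centralizer (T : Set G) = ⊥) (H : Subgroup G) (hmax : IsCoatom H) : ¬ (Nat.card H).Prime := by
  intro hp
  have hfact : Fact (Nat.card H).Prime := ⟨hp⟩
  have hTnt : Nontrivial T := hT.toNontrivial
  have hHp : IsPGroup (Nat.card H) H := IsPGroup.of_card (n := 1) (by rw [pow_one])
  by_cases hTH : T ≤ H
  · have hdvd : Nat.card T ∣ Nat.card H := Subgroup.card_dvd_of_le hTH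
    rcases (Nat.dvd_prime hp).mp hdvd with h1 | h1
    · have : Subsingleton T := (Nat.card_eq_one_iff_unique.mp h1).1
      exact not_subsingleton T this
    · exact hTc (comm_of_prime_card hp h1)
  have hsup : H ⊔ T = ⊤ := by
    apply hmax.2
    refine lt_of_le_of_ne le_sup_left (fun h => hTH ?_)
    rw [h]; exact le_sup_right
  by_cases hHT : H ≤ T
  · have hTtop : T = ⊤ := by rw [← hsup, sup_eq_right.mpr hHT]
    have hsurj : Function.Surjective T.subtype := by
      intro g
      exact ⟨⟨g, hTtop ▸ Subgroup.mem_top g⟩, rfl⟩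
    have hGnt : Nontrivial G := by
      obtain ⟨a, b, hab⟩ := hTnt
      exact ⟨⟨a, b, fun h => hab (Subtype.ext h)⟩⟩
    have hGs : IsSimpleGroup G := IsSimpleGroup.isSimpleGroup_of_surjective T.subtype hsurj
    have hGnc : ¬ IsMulCommutative G := fun h =>
      hTc ⟨⟨fun a b => Subtype.ext (h.is_comm.comm (a : G) (b : G))⟩⟩
    exact simple_case hGs hGnc H hmax hp
  -- now H ⊓ T = ⊥
  have hinf : H ⊓ T = ⊥ := by
    have hdvd : Nat.card (H ⊓ T : Subgroup G) ∣ Nat.card H := Subgroup.card_dvd_of_le inf_le_left
    rcases (Nat.dvd_prime hp).mp hdvd with h1 | h1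
    · exact Subgroup.card_eq_one.mp h1
    · exfalso
      apply hHT
      have : H ⊓ T = H := Subgroup.eq_of_le_of_card_ge inf_le_left (le_of_eq h1.symm)
      rw [← this]; exact inf_le_right
  -- H-invariant subgroups of T are trivial
  have hstar : ∀ L : Subgroup G, L ≤ T → H ≤ Subgroup.normalizer (L : Set G) → L = ⊥ ∨ L = T := by
    intro L hLT hHL
    have hle : H ≤ H ⊔ L := le_sup_left
    rcases eq_or_lt_of_le hle with h | h
    · left
      rw [eq_bot_iff, ← hinf]
      refine le_inf ?_ hLT
      rw [h]; exact le_sup_right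
    · right
      have htop := hmax.2 _ h
      apply le_antisymm hLT
      intro x hx
      have hx' : x ∈ H ⊔ L := htop ▸ Subgroup.mem_top x
      rw [← SetLike.mem_coe, Subgroup.coe_mul_of_left_le_normalizer_right H L hHL] at hx'
      obtain ⟨h', hh', l, hl, hxe⟩ := hx'
      have hxe' : h' * l = x := hxe
      have hh'T : h' ∈ T := by
        have := T.mul_mem hx (T.inv_mem (hLT hl))
        rw [← hxe'] at this
        have e : h' * l * l⁻¹ = h' := by group
        rwa [e] at this
      have : h' ∈ H ⊓ T := ⟨hh', hh'T⟩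
      rw [hinf, Subgroup.mem_bot] at this
      rw [← hxe', this, one_mul]; exact hl
  -- C_T(H) = ⊥
  have hCT : T ⊓ Subgroup.centralizer (H : Set G) = ⊥ := by
    have hnorm : H ≤ Subgroup.normalizer ((T ⊓ Subgroup.centralizer (H : Set G) : Subgroup G) : Set G) := by
      intro h hh
      apply Subgroup.mem_normalizer_fintype
      intro z hz
      rw [SetLike.mem_coe, Subgroup.mem_inf] at hz
      have hz2 := hz.2
      rw [Subgroup.mem_centralizer_iff] at hz2
      have e : h * z * h⁻¹ = z := by rw [hz2 h hh]; group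
      rw [e, SetLike.mem_coe, Subgroup.mem_inf]
      exact hz
    rcases hstar _ inf_le_left hnorm with h | h
    · exact h
    · exfalso
      have hTC : T ≤ Subgroup.centralizer (H : Set G) := by rw [← h]; exact inf_le_right
      have hHC : H ≤ Subgroup.centralizer (T : Set G) := by
        intro x hx
        rw [Subgroup.mem_centralizer_iff]
        intro t ht
        have := hTC ht
        rw [Subgroup.mem_centralizer_iff] at this
        exact (this x hx).symm
      rw [hC] at hHC
      have : H = ⊥ := eq_bot_iff.mpr hHC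
      rw [this, Subgroup.card_bot] at hp
      exact Nat.not_prime_one hp
  -- the conjugation action
  let act : MulDistribMulAction H T := conjAct H T
  have hsmul : ∀ (h : H) (t : T), ((h • t : T) : G) = (h : G) * t * (h : G)⁻¹ := fun h t => rfl
  -- p ∤ |T|
  have hpT : ¬ Nat.card H ∣ Nat.card T := by
    intro hdvd
    have hmod := hHp.card_modEq_card_fixedPoints T
    have hfix : MulAction.fixedPoints H T = {1} := by
      ext t
      rw [MulAction.mem_fixedPoints, Set.mem_singleton_iff]
      constructor
      · intro ht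
        have : (t : G) ∈ T ⊓ Subgroup.centralizer (H : Set G) := by
          rw [Subgroup.mem_inf]
          refine ⟨t.2, ?_⟩
          rw [Subgroup.mem_centralizer_iff]
          intro h hh
          have := congrArg Subtype.val (ht ⟨h, hh⟩)
          rw [hsmul] at this
          have e : h * (t : G) = (h * (t : G) * h⁻¹) * h := by group
          rw [e]
          show (((⟨h, hh⟩ : H) : G) * (t : G) * ((⟨h, hh⟩ : H) : G)⁻¹) * h = (t : G) * h
          rw [this]
        rw [hCT, Subgroup.mem_bot] at this
        exact Subtype.ext this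
      · intro ht h
        rw [ht]
        exact smul_one h
    have hc1 : Nat.card (MulAction.fixedPoints H T) = 1 := by
      rw [hfix, Nat.card_coe_set_eq, Set.ncard_singleton]
    rw [hc1] at hmod
    have h0 : Nat.card T ≡ 0 [MOD Nat.card H] := (Nat.modEq_zero_iff_dvd).mpr hdvd
    have h1 : (1 : ℕ) ≡ 0 [MOD Nat.card H] := hmod.symm.trans h0
    have := (Nat.modEq_zero_iff_dvd).mp h1
    exact hp.one_lt.ne' (Nat.dvd_one.mp this)
  -- a prime q dividing |T| and an H-invariant Sylow q-subgroup
  have hT1 : Nat.card T ≠ 1 := by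
    intro h
    have : Subsingleton T := (Nat.card_eq_one_iff_unique.mp h).1
    exact not_subsingleton T this
  obtain ⟨q, hq, hqT⟩ := Nat.exists_prime_and_dvd hT1
  have hqf : Fact q.Prime := ⟨hq⟩
  obtain ⟨Q0⟩ : Nonempty (Sylow q T) := inferInstance
  have hcardS : ¬ Nat.card H ∣ Nat.card (Sylow q T) := by
    intro hd
    apply hpT
    exact hd.trans ((Sylow.card_dvd_index Q0).trans (Subgroup.index_dvd_card _))
  obtain ⟨Q, hQ⟩ := hHp.nonempty_fixed_point_of_prime_not_dvd_card (Sylow q T) hcardS
  rw [MulAction.mem_fixedPoints] at hQ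
  obtain ⟨L, hL⟩ : ∃ L : Subgroup G, L = (Q : Subgroup T).map T.subtype := ⟨_, rfl⟩
  have hLT : L ≤ T := hL ▸ Subgroup.map_subtype_le _
  have hHL : H ≤ Subgroup.normalizer (L : Set G) := by
    intro h hh
    apply Subgroup.mem_normalizer_fintype
    rw [hL]
    rintro y ⟨t, ht, rfl⟩
    have h1 : ((⟨h, hh⟩ : H) • t : T) ∈ ((⟨h, hh⟩ : H) • (Q : Subgroup T)) :=
      Subgroup.smul_mem_pointwise_smul _ _ _ ht
    have h2 : ((⟨h, hh⟩ : H) • Q : Sylow q T) = Q := hQ ⟨h, hh⟩
    have h3 : ((⟨h, hh⟩ : H) • (Q : Subgroup T)) = (Q : Subgroup T) := by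
      have := congrArg (fun S : Sylow q T => (S : Subgroup T)) h2
      exact this
    rw [h3] at h1
    exact ⟨_, h1, rfl⟩
  rcases hstar L hLT hHL with h | h
  · -- Q = ⊥ contradicts q ∣ |T|
    have hQbot : (Q : Subgroup T) = ⊥ := by
      rw [hL] at h
      exact (Subgroup.map_eq_bot_iff_of_injective _ T.subtype_injective).mp h
    have hcard := Q.card_eq_multiplicity
    rw [hQbot, Subgroup.card_bot] at hcard
    have hpos : 0 < (Nat.card T).factorization q :=
      (hq.factorization_pos_of_dvd Nat.card_pos.ne' hqT)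
    have : 1 < q ^ (Nat.card T).factorization q := Nat.one_lt_pow hpos.ne' hq.one_lt
    omega
  · -- Q = ⊤: T is a q-group
    have hQtop : (Q : Subgroup T) = ⊤ := by
      rw [eq_top_iff]
      intro t _
      have : (t : G) ∈ L := h ▸ t.2
      rw [hL] at this
      obtain ⟨t', ht', hte⟩ := this
      have : t' = t := Subtype.ext hte
      rw [← this]; exact ht'
    apply hTc
    have hTq : IsPGroup q T := by
      intro t
      obtain ⟨k, hk⟩ := Q.isPGroup' ⟨t, hQtop ▸ Subgroup.mem_top t⟩
      exact ⟨k, congrArg Subtype.val hk⟩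
    exact S3859.commutative_of_simple_pgroup hT hTq

end Cfsg.Agent.S3498
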