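import Cfsg.Statements.S3504
import Mathlib

set_option autoImplicit false
open Cfsg

namespace Cfsg.Agent.S3504

open Equiv.Perm

theorem lcm_replicate_succ (k r : ℕ) : (Multiset.replicate (k + 1) r).lcm = r := by
  induction k with
  | zero => simp
  | succ k ih =>
    rw [Multiset.replicate_succ, Multiset.lcm_cons, ih]
    simp

/-- existence of a fixed-point-free permutation of prime order `r` for `r ∣ n` -/
theorem exists_perm (n r : ℕ) (hn : 0 < n) (hr : r.Prime) (hrn : r ∣ n) :
    ∃ g : Equiv.Perm (Fin n), orderOf g = r ∧ (∀ i : Fin n, g i ≠ i) ∧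
      g.cycleType = Multiset.replicate (n / r) r := by
  have hsum : (Multiset.replicate (n / r) r).sum = n := by
    rw [Multiset.sum_replicate, smul_eq_mul, Nat.div_mul_cancel hrn]
  obtain ⟨g, hg⟩ := (Equiv.Perm.exists_with_cycleType_iff (α := Fin n)
    (m := Multiset.replicate (n / r) r)).mpr ⟨by rw [hsum, Fintype.card_fin], fun a ha => by
      rw [Multiset.eq_of_mem_replicate ha]; exact hr.two_le⟩
  refine ⟨g, ?_, ?_, hg⟩
  · rw [← lcm_cycleType, hg]
    have hk : 1 ≤ n / r := Nat.div_pos (Nat.le_of_dvd hn hrn) hr.pos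
    obtain ⟨k, hk'⟩ : ∃ k, n / r = k + 1 := ⟨n / r - 1, by omega⟩
    rw [hk', lcm_replicate_succ]
  · have hsupp : g.support.card = n := by rw [← sum_cycleType, hg, hsum]
    have huniv : g.support = Finset.univ := by
      apply Finset.eq_univ_of_card
      rw [hsupp, Fintype.card_fin]
    intro i
    have : i ∈ g.support := huniv ▸ Finset.mem_univ i
    exact Equiv.Perm.mem_support.mp this

/-- the cycle type of a fixed-point-free permutation of prime order -/
theorem cycleType_of_prime (n : ℕ) (g : Equiv.Perm (Fin n)) (hg : (orderOf g).Prime)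
    (hfix : ∀ i : Fin n, g i ≠ i) :
    orderOf g ∣ n ∧ g.cycleType = Multiset.replicate (n / orderOf g) (orderOf g) := by
  obtain ⟨k, hk⟩ := cycleType_prime_order hg
  have huniv : g.support = Finset.univ := by
    ext i
    simp only [Finset.mem_univ, iff_true]
    exact Equiv.Perm.mem_support.mpr (hfix i)
  have hsum : (k + 1) * orderOf g = n := by
    have := sum_cycleType g
    rw [hk, Multiset.sum_replicate, smul_eq_mul, huniv, Finset.card_univ, Fintype.card_fin] at this
    exact this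
  refine ⟨Dvd.intro_left _ hsum, ?_⟩
  have hdiv : n / orderOf g = k + 1 := by
    have := Nat.mul_div_cancel (k + 1) hg.pos
    rw [hsum] at this
    exact this
  rw [hk, hdiv]

/-- For n ≥ 5, the fixed-point-free permutations of prime order in the symmetric group of degree n form a single conjugacy class if and only if n is a prime power. -/
theorem result (n : ℕ) (hn : 5 ≤ n) :
    Nat.card {c : ConjClasses (Equiv.Perm (Fin n)) // ∃ g : Equiv.Perm (Fin n), ConjClasses.mk g = c ∧ (orderOf g).Prime ∧ ∀ i : Fin n, g i ≠ i} = 1 ↔ IsPrimePow n := by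
  have hn0 : 0 < n := by omega
  rw [isPrimePow_iff_unique_prime_dvd]
  constructor
  · intro hcard
    obtain ⟨hsub, -⟩ := Nat.card_eq_one_iff_unique.mp hcard
    obtain ⟨p, hp, hpn⟩ := Nat.exists_prime_and_dvd (show n ≠ 1 by omega)
    refine ⟨p, ⟨hp, hpn⟩, ?_⟩
    rintro q ⟨hq, hqn⟩
    obtain ⟨g1, hg1, hf1, -⟩ := exists_perm n p hn0 hp hpn
    obtain ⟨g2, hg2, hf2, -⟩ := exists_perm n q hn0 hq hqn
    have h := hsub.elim
      ⟨ConjClasses.mk g1, g1, rfl, hg1 ▸ hp, hf1⟩ ⟨ConjClasses.mk g2, g2, rfl, hg2 ▸ hq, hf2⟩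
    have h' : ConjClasses.mk g1 = ConjClasses.mk g2 := congrArg Subtype.val h
    rw [ConjClasses.mk_eq_mk_iff_isConj] at h'
    obtain ⟨c, hc⟩ := isConj_iff.mp h'
    have : orderOf g2 = orderOf g1 := by
      rw [← hc]
      have := (MulAut.conj c).orderOf_eq g1
      rw [MulAut.conj_apply] at this
      exact this
    rw [hg1, hg2] at this
    exact this
  · rintro ⟨p, ⟨hp, hpn⟩, huniq⟩
    rw [Nat.card_eq_one_iff_unique]
    constructor
    · constructor
      rintro ⟨c1, g1, rfl, hg1, hf1⟩ ⟨c2, g2, rfl, hg2, hf2⟩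
      apply Subtype.ext
      show ConjClasses.mk g1 = ConjClasses.mk g2
      rw [ConjClasses.mk_eq_mk_iff_isConj, isConj_iff_cycleType_eq]
      obtain ⟨hd1, ht1⟩ := cycleType_of_prime n g1 hg1 hf1
      obtain ⟨hd2, ht2⟩ := cycleType_of_prime n g2 hg2 hf2
      have e1 : orderOf g1 = p := huniq _ ⟨hg1, hd1⟩
      have e2 : orderOf g2 = p := huniq _ ⟨hg2, hd2⟩
      rw [ht1, ht2, e1, e2]
    · obtain ⟨g, hg, hf, -⟩ := exists_perm n p hn0 hp hpn
      exact ⟨⟨ConjClasses.mk g, g, rfl, hg ▸ hp, hf⟩⟩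

end Cfsg.Agent.S3504
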