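import Cfsg.Statements.S3511
import Mathlib

set_option autoImplicit false
open Cfsg

namespace Cfsg.Agent.S3511

theorem stab_eq_bot_iff {G : Type*} [Group G] [Finite G] {Ω : Type*} [MulAction G Ω]
    (g : G) (ω : Ω) :
    MulAction.stabilizer (Subgroup.zpowers g) ω = ⊥ ↔ ∀ k : ℕ, g ^ k • ω = ω → g ^ k = 1 := by
  rw [Subgroup.eq_bot_iff_forall]
  constructor
  · intro hx k hk
    have := hx ⟨g ^ k, Subgroup.npow_mem_zpowers g k⟩ (by
      rw [MulAction.mem_stabilizer_iff]; exact hk)
    exact congrArg Subtype.val this
  · intro hx x hxs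
    obtain ⟨x, hxg⟩ := x
    rw [MulAction.mem_stabilizer_iff] at hxs
    have hfin : IsOfFinOrder g := isOfFinOrder_of_finite g
    rw [← hfin.mem_powers_iff_mem_zpowers] at hxg
    obtain ⟨k, rfl⟩ := hxg
    apply Subtype.ext
    exact hx k hxs

theorem main {G : Type*} [Group G] [Finite G] {Ω : Type*} [MulAction G Ω]
    (h : ∀ g : G, Squarefree (orderOf g) → ∃ ω : Ω, ∀ k : ℕ, g ^ k • ω = ω → g ^ k = 1) :
    ∀ N : ℕ, ∀ g : G, orderOf g = N → ∃ ω : Ω, ∀ k : ℕ, g ^ k • ω = ω → g ^ k = 1 := by
  intro N
  induction N using Nat.strong_induction_on with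
  | _ N ih =>
    intro g hgN
    by_cases hsq : Squarefree (orderOf g)
    · exact h g hsq
    · rw [Nat.squarefree_iff_prime_squarefree] at hsq
      push Not at hsq
      obtain ⟨p, hp, hpp⟩ := hsq
      have hNpos : 0 < N := hgN ▸ orderOf_pos g
      have hpN : p ∣ N := hgN ▸ (dvd_trans (dvd_mul_right p p) hpp)
      have hord : orderOf (g ^ p) = N / p := by
        rw [orderOf_pow' g hp.ne_zero, hgN, Nat.gcd_eq_right hpN]
      have hlt : N / p < N := Nat.div_lt_self hNpos hp.one_lt
      obtain ⟨ω, hω⟩ := ih (N / p) hlt (g ^ p) hord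
      refine ⟨ω, ?_⟩
      intro k hk
      by_contra hne
      set x := g ^ k with hx
      have hd1 : orderOf x ≠ 1 := by
        intro h1
        exact hne (orderOf_eq_one_iff.mp h1)
      set d := orderOf x with hd
      have hdpos : 0 < d := orderOf_pos x
      set q := d.minFac with hq
      have hqp : q.Prime := Nat.minFac_prime hd1
      have hqd : q ∣ d := Nat.minFac_dvd d
      -- y = x^(d/q) has order q
      have hy_ord : orderOf (x ^ (d / q)) = q := by
        rw [orderOf_pow' x (by
          intro h0
          have := Nat.div_eq_zero_iff.mp h0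
          rcases this with h | h
          · exact hqp.ne_zero h
          · exact absurd (Nat.le_of_dvd hdpos hqd) (not_le.mpr h))]
        rw [← hd, Nat.gcd_eq_right (Nat.div_dvd_of_dvd hqd)]
        exact Nat.div_div_self hqd hdpos.ne'
      have hy_fix : x ^ (d / q) • ω = ω := by
        have : x ∈ MulAction.stabilizer G ω := hk
        exact (MulAction.stabilizer G ω).pow_mem this _
      set j := k * (d / q) with hj
      have hyj : x ^ (d / q) = g ^ j := by rw [hx, ← pow_mul]
      have hNdvd : N ∣ j * q := by
        rw [← hgN]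
        apply orderOf_dvd_of_pow_eq_one
        have h1 := pow_orderOf_eq_one (x ^ (d / q))
        rw [hy_ord] at h1
        rw [pow_mul, ← hyj]
        exact h1
      have hppjq : p * p ∣ j * q := dvd_trans (hgN ▸ hpp) hNdvd
      have hpj : p ∣ j := by
        by_contra hnd
        have hcop : Nat.Coprime p j := (Nat.Prime.coprime_iff_not_dvd hp).2 hnd
        have hcop2 : Nat.Coprime (p * p) j := Nat.Coprime.mul_left hcop hcop
        have hppq : p * p ∣ q := by
          rw [mul_comm j q] at hppjq
          exact Nat.Coprime.dvd_of_dvd_mul_right hcop2 hppjq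
        have hpq : p ∣ q := dvd_trans (dvd_mul_right p p) hppq
        rcases (Nat.dvd_prime hqp).1 hpq with h1 | h1
        · exact hp.one_lt.ne' h1
        · rw [← h1] at hppq
          have := Nat.le_of_dvd hp.pos hppq
          have h2 := hp.two_le
          nlinarith
      obtain ⟨j', hj'⟩ := hpj
      have hy1 : x ^ (d / q) = 1 := by
        have e : x ^ (d / q) = (g ^ p) ^ j' := by rw [hyj, hj', pow_mul]
        rw [e]
        apply hω
        rw [← e]
        exact hy_fix
      rw [hy1, orderOf_one] at hy_ord
      exact hqp.one_lt.ne' hy_ord.symm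

/-- Let a finite group G act faithfully on a set Ω. If every element of G of square-free order has a regular cycle (an orbit of the cyclic group it generates with trivial stabilizer), then every element of G has a regular cycle. -/
theorem result {G : Type*} [Group G] [Finite G] {Ω : Type*} [MulAction G Ω] [FaithfulSMul G Ω]
    (h : ∀ g : G, Squarefree (orderOf g) → ∃ ω : Ω, MulAction.stabilizer (Subgroup.zpowers g) ω = ⊥) (g : G) :
    ∃ ω : Ω, MulAction.stabilizer (Subgroup.zpowers g) ω = ⊥ := by
  simp only [stab_eq_bot_iff] at h ⊢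
  exact main h (orderOf g) g rfl

end Cfsg.Agent.S3511
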