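import Cfsg.Statements.S3514
import Mathlib
import Cfsg.Agent.Lib.Helper1_Index

set_option autoImplicit false
open Cfsg

namespace Cfsg.Agent.S3514

open Cfsg.Agent.Lib.Helper1_Index

/-- size of the orbit of a subgroup as a relative index of the point stabilizer -/
theorem card_orbit_eq_relIndex {Γ V : Type*} [Group Γ] [MulAction Γ V] (X : Subgroup Γ) (v : V) :
    Nat.card {u : V | ∃ x ∈ X, x • v = u} = (MulAction.stabilizer Γ v).relIndex X := by
  have h1 : {u : V | ∃ x ∈ X, x • v = u} = MulAction.orbit X v := by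
    ext u
    constructor
    · rintro ⟨x, hx, rfl⟩
      exact ⟨⟨x, hx⟩, rfl⟩
    · rintro ⟨x, rfl⟩
      exact ⟨x, x.2, rfl⟩
  have h2 : MulAction.stabilizer X v = (MulAction.stabilizer Γ v).subgroupOf X := by
    ext x
    rfl
  rw [h1, Nat.card_coe_set_eq, ← MulAction.index_stabilizer, h2]
  rfl

/-- the abstract statement -/
theorem abstract {Γ V : Type*} [Group Γ] [Finite Γ] [MulAction Γ V] (p : ℕ) [Fact p.Prime]
    (H : Subgroup Γ) (hH : ∀ v : V, ¬ p ∣ (MulAction.stabilizer Γ v).relIndex H) :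
    (∀ K : Subgroup Γ, K ≤ H → H ≤ Subgroup.normalizer (K : Set Γ) →
        ∀ v : V, ¬ p ∣ (MulAction.stabilizer Γ v).relIndex K) ∧
    (∀ N : Subgroup Γ, ¬ p ∣ Nat.card N → H ≤ Subgroup.normalizer (N : Set Γ) →
        ∀ v : V, ¬ p ∣ (MulAction.stabilizer Γ v).relIndex (N ⊔ H)) := by
  have hp : p.Prime := Fact.out
  constructor
  · intro K hKH hn v hd
    have hnorm : (K.subgroupOf H).Normal := (Subgroup.normal_subgroupOf_iff_le_normalizer hKH).mpr hn
    exact hH v (hd.trans (relIndex_dvd_of_normal _ K H hKH hnorm))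
  · intro N hN hn v hd
    set S := MulAction.stabilizer Γ v with hS
    set X := N ⊔ H with hX
    have hNX : N ≤ X := le_sup_left
    have hHX : H ≤ X := le_sup_right
    have hXn : X ≤ Subgroup.normalizer (N : Set Γ) := sup_le Subgroup.le_normalizer hn
    have hnorm : (N.subgroupOf X).Normal := (Subgroup.normal_subgroupOf_iff_le_normalizer hNX).mpr hXn
    -- |X : H| divides |N|
    have h1 : H.relIndex X = (N ⊓ H).relIndex N := second_iso_rel N H X hNX hHX hnorm
    have h2 : (N ⊓ H).relIndex N ∣ Nat.card N := by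
      have := Subgroup.relIndex_dvd_card (N ⊓ H) N
      exact this
    have h3 : ¬ p ∣ H.relIndex X := fun h => hN ((h1 ▸ h).trans h2)
    -- |X : H ⊓ S|
    have h4 : (H ⊓ S).relIndex H * H.relIndex X = (H ⊓ S).relIndex X :=
      Subgroup.relIndex_mul_relIndex _ _ _ inf_le_left hHX
    have h5 : (H ⊓ S).relIndex H = S.relIndex H := by
      rw [inf_comm, Subgroup.inf_relIndex_right]
    have h6 : ¬ p ∣ (H ⊓ S).relIndex X := by
      rw [← h4, h5]
      intro h
      rcases (Nat.Prime.dvd_mul hp).mp h with h | h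
      · exact hH v h
      · exact h3 h
    have h7 : (H ⊓ S).relIndex (X ⊓ S) * (X ⊓ S).relIndex X = (H ⊓ S).relIndex X :=
      Subgroup.relIndex_mul_relIndex _ _ _ (inf_le_inf_right S hHX) inf_le_left
    have h8 : (X ⊓ S).relIndex X = S.relIndex X := by
      rw [inf_comm, Subgroup.inf_relIndex_right]
    apply h6
    rw [← h7, h8]
    exact Dvd.dvd.mul_left hd _

/-- Let p be a prime, V a finite vector space over the field with p elements, and H a group of linear transformations of V all of whose orbits on V have size coprime to p. (i) Every normal subgroup K of H has all its orbits on V of size coprime to p. (ii) If N is a group of linear transformations of V of order coprime to p that is normalized by H, then the group generated by N and H has all its orbits on V of size coprime to p. -/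
theorem result (p : ℕ) [Fact p.Prime] {V : Type*} [AddCommGroup V] [Module (ZMod p) V] [Finite V]
    (H : Subgroup (V ≃ₗ[ZMod p] V)) (hH : ∀ v : V, ¬ p ∣ Nat.card {u : V | ∃ h ∈ H, h v = u}) :
    (∀ K : Subgroup (V ≃ₗ[ZMod p] V), K ≤ H → H ≤ Subgroup.normalizer (K : Set (V ≃ₗ[ZMod p] V)) →
        ∀ v : V, ¬ p ∣ Nat.card {u : V | ∃ k ∈ K, k v = u}) ∧
    (∀ N : Subgroup (V ≃ₗ[ZMod p] V), ¬ p ∣ Nat.card N → H ≤ Subgroup.normalizer (N : Set (V ≃ₗ[ZMod p] V)) →
        ∀ v : V, ¬ p ∣ Nat.card {u : V | ∃ x ∈ N ⊔ H, x v = u}) := by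
  have hfin : Finite (V ≃ₗ[ZMod p] V) :=
    Finite.of_injective (fun f => (f : V → V)) DFunLike.coe_injective
  have key : ∀ (X : Subgroup (V ≃ₗ[ZMod p] V)) (v : V),
      Nat.card {u : V | ∃ x ∈ X, x v = u} = (MulAction.stabilizer (V ≃ₗ[ZMod p] V) v).relIndex X :=
    fun X v => card_orbit_eq_relIndex X v
  have hH' : ∀ v : V, ¬ p ∣ (MulAction.stabilizer (V ≃ₗ[ZMod p] V) v).relIndex H := by
    intro v; rw [← key]; exact hH v
  obtain ⟨h1, h2⟩ := abstract p H hH'
  constructor
  · intro K hK hn v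
    rw [key]; exact h1 K hK hn v
  · intro N hN hn v
    rw [key]; exact h2 N hN hn v

end Cfsg.Agent.S3514
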