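import Cfsg.Statements.S3517
import Mathlib

set_option autoImplicit false
open Cfsg

namespace Cfsg.Agent.S3517

/-- Two linearly independent families indexed by the same finite type in a finite dimensional
vector space are mapped to each other by a linear automorphism. -/
theorem exists_linearEquiv_map {K V ι : Type*} [Field K] [AddCommGroup V] [Module K V]
    [FiniteDimensional K V] [Fintype ι] (v w : ι → V)
    (hv : LinearIndependent K v) (hw : LinearIndependent K w) :
    ∃ A : V ≃ₗ[K] V, ∀ i, A (v i) = w i := by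
  set W := Submodule.span K (Set.range v) with hW
  set W' := Submodule.span K (Set.range w) with hW'
  let e₁ : W ≃ₗ[K] W' := (Module.Basis.span hv).equiv (Module.Basis.span hw) (Equiv.refl ι)
  obtain ⟨C, hC⟩ := Submodule.exists_isCompl W
  obtain ⟨C', hC'⟩ := Submodule.exists_isCompl W'
  have h1 := Submodule.finrank_add_eq_of_isCompl hC
  have h2 := Submodule.finrank_add_eq_of_isCompl hC'
  have h3 : Module.finrank K W = Fintype.card ι := finrank_span_eq_card hv
  have h4 : Module.finrank K W' = Fintype.card ι := finrank_span_eq_card hw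
  have h5 : Module.finrank K C = Module.finrank K C' := by omega
  let e₂ : C ≃ₗ[K] C' := LinearEquiv.ofFinrankEq C C' h5
  let A : V ≃ₗ[K] V :=
    (Submodule.prodEquivOfIsCompl W C hC).symm ≪≫ₗ (e₁.prodCongr e₂) ≪≫ₗ
      (Submodule.prodEquivOfIsCompl W' C' hC')
  refine ⟨A, ?_⟩
  intro i
  have hvi : v i ∈ W := Submodule.subset_span (Set.mem_range_self i)
  have e1 : (Submodule.prodEquivOfIsCompl W C hC).symm (v i) = ((⟨v i, hvi⟩ : W), 0) :=
    Submodule.prodEquivOfIsCompl_symm_apply_left W C hC ⟨v i, hvi⟩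
  have e2 : e₁ ⟨v i, hvi⟩ = ⟨w i, Submodule.subset_span (Set.mem_range_self i)⟩ := by
    have := (Module.Basis.span hv).equiv_apply i (Module.Basis.span hw) (Equiv.refl ι)
    rw [Module.Basis.span_apply, Equiv.refl_apply, Module.Basis.span_apply] at this
    exact this
  simp only [A, LinearEquiv.trans_apply, e1, LinearEquiv.prodCongr_apply, e2, map_zero,
    Submodule.coe_prodEquivOfIsCompl', Submodule.coe_zero, add_zero]

theorem zmod2_cases (s : ZMod 2) : s = 0 ∨ s = 1 := by
  revert s; decide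

theorem add_eq_zero_char2 {d : ℕ} (x y : Fin d → ZMod 2) (h : x + y = 0) : x = y := by
  funext j
  have hj := congrFun h j
  simp only [Pi.add_apply, Pi.zero_apply] at hj
  have : ∀ a b : ZMod 2, a + b = 0 → a = b := by decide
  exact this _ _ hj

theorem single_map {d : ℕ} (x x' : Fin d → ZMod 2) (hx : x ≠ 0) (hx' : x' ≠ 0) :
    ∃ A : (Fin d → ZMod 2) ≃ₗ[ZMod 2] (Fin d → ZMod 2), A x = x' := by
  obtain ⟨A, hA⟩ := exists_linearEquiv_map (K := ZMod 2) (fun _ : Fin 1 => x) (fun _ : Fin 1 => x')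
    (linearIndependent_unique_iff.mpr hx) (linearIndependent_unique_iff.mpr hx')
  exact ⟨A, hA 0⟩

theorem pair_indep {d : ℕ} (x y : Fin d → ZMod 2) (hx : x ≠ 0) (hy : y ≠ 0) (hxy : x ≠ y) :
    LinearIndependent (ZMod 2) ![x, y] := by
  rw [LinearIndependent.pair_iff]
  intro s t h
  rcases zmod2_cases s with rfl | rfl <;> rcases zmod2_cases t with rfl | rfl
  · exact ⟨rfl, rfl⟩
  · exfalso; simp at h; exact hy h
  · exfalso; simp at h; exact hx h
  · exfalso
    simp only [one_smul] at h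
    exact hxy (add_eq_zero_char2 x y h)

theorem pair_map {d : ℕ} (x y x' y' : Fin d → ZMod 2) (hx : x ≠ 0) (hy : y ≠ 0) (hxy : x ≠ y)
    (hx' : x' ≠ 0) (hy' : y' ≠ 0) (hxy' : x' ≠ y') :
    ∃ A : (Fin d → ZMod 2) ≃ₗ[ZMod 2] (Fin d → ZMod 2), A x = x' ∧ A y = y' := by
  obtain ⟨A, hA⟩ := exists_linearEquiv_map (K := ZMod 2) ![x, y] ![x', y']
    (pair_indep x y hx hy hxy) (pair_indep x' y' hx' hy' hxy')
  exact ⟨A, by simpa using hA 0, by simpa using hA 1⟩

/-- For d ≥ 3, the 3-closure of the affine group AGL_d(2) acting on F_2^d is the full symmetric group: every permutation of F_2^d agrees on every ordered triple of points with some affine map (AGL_d(2) is 3-transitive). -/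
theorem result (d : ℕ) (hd : 3 ≤ d) (σ : Equiv.Perm (Fin d → ZMod 2)) (t : Fin 3 → (Fin d → ZMod 2)) :
    ∃ (A : (Fin d → ZMod 2) ≃ₗ[ZMod 2] (Fin d → ZMod 2)) (b : Fin d → ZMod 2), ∀ i, σ (t i) = A (t i) + b := by
  set u1 := t 1 - t 0 with hu1
  set u2 := t 2 - t 0 with hu2
  set u1' := σ (t 1) - σ (t 0) with hu1'
  set u2' := σ (t 2) - σ (t 0) with hu2'
  have h10 : u1 = 0 ↔ u1' = 0 := by
    rw [hu1, hu1', sub_eq_zero, sub_eq_zero, σ.injective.eq_iff]
  have h20 : u2 = 0 ↔ u2' = 0 := by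
    rw [hu2, hu2', sub_eq_zero, sub_eq_zero, σ.injective.eq_iff]
  have h12 : u1 = u2 ↔ u1' = u2' := by
    rw [hu1, hu2, hu1', hu2', sub_left_inj, sub_left_inj, σ.injective.eq_iff]
  -- it suffices to find A with A u1 = u1', A u2 = u2'
  suffices h : ∃ A : (Fin d → ZMod 2) ≃ₗ[ZMod 2] (Fin d → ZMod 2), A u1 = u1' ∧ A u2 = u2' by
    obtain ⟨A, hA1, hA2⟩ := h
    refine ⟨A, σ (t 0) - A (t 0), ?_⟩
    intro i
    fin_cases i
    · simp
    · have : A (t 1) = u1' + A (t 0) := by
        rw [← hA1, hu1, map_sub]; abel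
      simp only [Fin.mk_one]
      rw [this, hu1']; abel
    · have : A (t 2) = u2' + A (t 0) := by
        rw [← hA2, hu2, map_sub]; abel
      show σ (t 2) = A (t 2) + (σ (t 0) - A (t 0))
      rw [this, hu2']; abel
  by_cases c1 : u1 = 0
  · by_cases c2 : u2 = 0
    · refine ⟨LinearEquiv.refl _ _, ?_, ?_⟩
      · rw [c1, (h10.1 c1)]; simp
      · rw [c2, (h20.1 c2)]; simp
    · obtain ⟨A, hA⟩ := single_map u2 u2' c2 (fun h => c2 (h20.2 h))
      refine ⟨A, ?_, hA⟩
      rw [c1, h10.1 c1, map_zero]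
  · by_cases c2 : u2 = 0
    · obtain ⟨A, hA⟩ := single_map u1 u1' c1 (fun h => c1 (h10.2 h))
      refine ⟨A, hA, ?_⟩
      rw [c2, h20.1 c2, map_zero]
    · by_cases c3 : u1 = u2
      · obtain ⟨A, hA⟩ := single_map u1 u1' c1 (fun h => c1 (h10.2 h))
        refine ⟨A, hA, ?_⟩
        rw [← c3, hA, h12.1 c3]
      · exact pair_map u1 u2 u1' u2' c1 c2 c3 (fun h => c1 (h10.2 h)) (fun h => c2 (h20.2 h))
          (fun h => c3 (h12.2 h))

end Cfsg.Agent.S3517
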