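import Cfsg.Statements.S3518
import Mathlib
import Cfsg.Agent.Lib.Helper9_PrimeDeg4
import Cfsg.Agent.Lib.Helper9_Wagner

set_option autoImplicit false
open Cfsg

namespace Cfsg.Agent.S3518

open Cfsg.Agent.Helper9PD4

section
variable {p : ℕ} [Fact p.Prime]

/-- the 2-closure of `G` -/
def hat (G : Subgroup (Equiv.Perm (ZMod p))) : Subgroup (Equiv.Perm (ZMod p)) where
  carrier := {σ | ∀ t : Fin 2 → ZMod p, ∃ g ∈ G, ∀ i, σ (t i) = g (t i)}
  one_mem' := fun _ => ⟨1, G.one_mem, fun _ => rfl⟩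
  mul_mem' := by
    intro σ τ hσ hτ t
    obtain ⟨h, hh, e1⟩ := hτ t
    obtain ⟨g, hg, e2⟩ := hσ (fun i => h (t i))
    refine ⟨g * h, G.mul_mem hg hh, fun i => ?_⟩
    rw [Equiv.Perm.mul_apply, Equiv.Perm.mul_apply, e1 i]
    exact e2 i
  inv_mem' := by
    intro σ hσ t
    obtain ⟨g, hg, e⟩ := hσ (fun i => σ⁻¹ (t i))
    refine ⟨g⁻¹, G.inv_mem hg, fun i => ?_⟩
    have h1 := e i
    have h2 : σ (σ⁻¹ (t i)) = t i := by simp
    rw [h2] at h1
    exact Equiv.Perm.eq_inv_iff_eq.mpr h1.symm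

theorem aff_eq (g τ : Equiv.Perm (ZMod p)) (a b c d : ZMod p) (hg : ∀ x, g x = a * x + b)
    (hτ : ∀ x, τ x = c * x + d) (h0 : g 0 = τ 0) (h1 : g 1 = τ 1) : g = τ := by
  rw [hg, hτ] at h0 h1
  have hbd : b = d := by simpa using h0
  have hac : a = c := by
    have h2 : a + b = c + d := by simpa using h1
    rw [hbd] at h2; exact add_right_cancel h2
  ext x; rw [hg, hτ, hbd, hac]

theorem part1 (G : Subgroup (Equiv.Perm (ZMod p))) (hG : G ≤ Cfsg.affineGroup (ZMod p))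
    (htrans : ∀ b : ZMod p, ∃ g ∈ G, ∀ x, g x = x + b) (hne : G ≠ Cfsg.affineGroup (ZMod p))
    (σ : Equiv.Perm (ZMod p))
    (hσ : ∀ t : Fin 2 → ZMod p, ∃ g ∈ G, ∀ i, σ (t i) = g (t i)) : σ ∈ G := by
  have hle : G ≤ hat G := fun g hg _ => ⟨g, hg, fun _ => rfl⟩
  have : MulAction.IsPretransitive (hat G) (ZMod p) := by
    refine ⟨fun x y => ?_⟩
    obtain ⟨g, hg, e⟩ := htrans (y - x)
    refine ⟨⟨g, hle hg⟩, ?_⟩
    show g x = y
    rw [e]; ring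
  obtain ⟨g₁, hg₁, e₁⟩ := htrans 1
  have key := affine_or_two_trans (hat G) (ZMod.card p) ⟨g₁, hle hg₁⟩ (Equiv.refl (ZMod p))
    (fun j => (e₁ j).symm)
  have h01 : (0 : ZMod p) ≠ 1 := zero_ne_one
  have pair : ∀ τ ∈ hat G, ∃ g ∈ G, τ 0 = g 0 ∧ τ 1 = g 1 := by
    intro τ hτ
    obtain ⟨g, hg, e⟩ := hτ ![0, 1]
    exact ⟨g, hg, by simpa using e 0, by simpa using e 1⟩
  rcases key with haff | ⟨_, h2t⟩
  · obtain ⟨a, b, hab⟩ := haff ⟨σ, hσ⟩
    obtain ⟨g, hg, e0, e1⟩ := pair σ hσ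
    obtain ⟨c, d, hcd⟩ := hG hg
    have e : σ = g := aff_eq σ g a b (c : ZMod p) d hab hcd e0 e1
    rw [e]; exact hg
  · exfalso
    apply hne
    refine le_antisymm hG (fun τ hτ => ?_)
    obtain ⟨c, d, hcd⟩ := hτ
    have hτ01 : τ 0 ≠ τ 1 := fun h => h01 (τ.injective h)
    obtain ⟨n, hn, n0, n1⟩ := Cfsg.Agent.Lib.Helper9_Wagner.Helper9W.exists_pair (hat G) h2t
      0 1 (τ 0) (τ 1) h01 hτ01
    obtain ⟨g, hg, e0, e1⟩ := pair n hn
    obtain ⟨c', d', hcd'⟩ := hG hg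
    have e : g = τ := aff_eq g τ (c' : ZMod p) d' (c : ZMod p) d hcd' hcd
      (by rw [← e0]; exact n0) (by rw [← e1]; exact n1)
    rw [← e]; exact hg

theorem part2 (σ : Equiv.Perm (ZMod p)) (t : Fin 2 → ZMod p) :
    ∃ g ∈ Cfsg.affineGroup (ZMod p), ∀ i, σ (t i) = g (t i) := by
  by_cases h : t 0 = t 1
  · refine ⟨Equiv.addRight (σ (t 0) - t 0), ⟨1, σ (t 0) - t 0, fun x => by simp⟩, fun i => ?_⟩
    have hi : t i = t 0 := by
      fin_cases i
      · rfl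
      · exact h.symm
    rw [hi]; simp
  · have hne : t 1 - t 0 ≠ 0 := sub_ne_zero.mpr (Ne.symm h)
    have hσne : σ (t 1) - σ (t 0) ≠ 0 := sub_ne_zero.mpr (fun e => h (σ.injective e).symm)
    have ha0 : (σ (t 1) - σ (t 0)) / (t 1 - t 0) ≠ 0 := div_ne_zero hσne hne
    refine ⟨(Equiv.mulLeft₀ _ ha0).trans
        (Equiv.addRight (σ (t 0) - (σ (t 1) - σ (t 0)) / (t 1 - t 0) * t 0)),
      ⟨Units.mk0 _ ha0, σ (t 0) - (σ (t 1) - σ (t 0)) / (t 1 - t 0) * t 0, fun x => rfl⟩,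
      fun i => ?_⟩
    fin_cases i
    · show σ (t 0) = (σ (t 1) - σ (t 0)) / (t 1 - t 0) * t 0 +
        (σ (t 0) - (σ (t 1) - σ (t 0)) / (t 1 - t 0) * t 0)
      ring
    · show σ (t 1) = (σ (t 1) - σ (t 0)) / (t 1 - t 0) * t 1 +
        (σ (t 0) - (σ (t 1) - σ (t 0)) / (t 1 - t 0) * t 0)
      field_simp
      ring

theorem part3 (σ : Equiv.Perm (ZMod p))
    (h : ∀ t : Fin 3 → ZMod p, ∃ g ∈ Cfsg.affineGroup (ZMod p), ∀ i, σ (t i) = g (t i)) :
    σ ∈ Cfsg.affineGroup (ZMod p) := by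
  obtain ⟨g₀, ⟨a, b, hg₀⟩, e₀⟩ := h ![0, 1, 0]
  have e00 : σ 0 = g₀ 0 := by simpa using e₀ 0
  have e01 : σ 1 = g₀ 1 := by simpa using e₀ 1
  refine ⟨a, b, fun x => ?_⟩
  obtain ⟨g, ⟨c, d, hg⟩, e⟩ := h ![0, 1, x]
  have f0 : σ 0 = g 0 := by simpa using e 0
  have f1 : σ 1 = g 1 := by simpa using e 1
  have f2 : σ x = g x := by simpa using e 2
  have e' : g = g₀ := aff_eq g g₀ (c : ZMod p) d (a : ZMod p) b hg hg₀
    (by rw [← f0, e00]) (by rw [← f1, e01])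
  rw [f2, e', hg₀]

end

/-- Closures of subgroups of the one-dimensional affine group. Let p be a prime and G a group of permutations of F_p lying in the affine group AGL₁(p) = {x ↦ ax + b, a ≠ 0} and containing all translations. (1) If G is a proper subgroup of AGL₁(p), then G is 2-closed: a permutation of F_p agreeing on every ordered pair of points with some element of G lies in G. (2) Every permutation of F_p agrees on every ordered pair with some element of AGL₁(p) (the 2-closure of AGL₁(p) is the symmetric group). (3) AGL₁(p) is 3-closed: a permutation agreeing on every ordered triple with some affine map is affine. -/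
theorem result (p : ℕ) [Fact p.Prime] (G : Subgroup (Equiv.Perm (ZMod p))) (hG : G ≤ Cfsg.affineGroup (ZMod p))
    (htrans : ∀ b : ZMod p, ∃ g ∈ G, ∀ x, g x = x + b) :
    (G ≠ Cfsg.affineGroup (ZMod p) → ∀ σ : Equiv.Perm (ZMod p), (∀ t : Fin 2 → ZMod p, ∃ g ∈ G, ∀ i, σ (t i) = g (t i)) → σ ∈ G) ∧
    (∀ σ : Equiv.Perm (ZMod p), (∀ t : Fin 2 → ZMod p, ∃ g ∈ Cfsg.affineGroup (ZMod p), ∀ i, σ (t i) = g (t i))) ∧
    (∀ σ : Equiv.Perm (ZMod p), (∀ t : Fin 3 → ZMod p, ∃ g ∈ Cfsg.affineGroup (ZMod p), ∀ i, σ (t i) = g (t i)) → σ ∈ Cfsg.affineGroup (ZMod p)) := by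
  exact ⟨fun hne σ hσ => part1 G hG htrans hne σ hσ, fun σ t => part2 σ t,
    fun σ h => part3 σ h⟩

end Cfsg.Agent.S3518
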