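import Mathlib
import Cfsg.Statements.S3532
import Cfsg.Agent.Lib.Helper7_AffSpec
import Cfsg.Agent.Lib.Helper4_PSL2Orders

set_option autoImplicit false

open Cfsg

namespace Cfsg.Agent.S3532

theorem range_prod {G₁ G₂ : Type*} [Group G₁] [Group G₂] (S₁ S₂ : Set ℕ)
    (h₁ : Set.range (orderOf : G₁ → ℕ) = S₁) (h₂ : Set.range (orderOf : G₂ → ℕ) = S₂) :
    Set.range (orderOf : G₁ × G₂ → ℕ) = {m | ∃ a ∈ S₁, ∃ b ∈ S₂, m = Nat.lcm a b} := by
  ext m
  simp only [Set.mem_range, Set.mem_ofPred_eq]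
  constructor
  · rintro ⟨x, rfl⟩
    refine ⟨orderOf x.1, ?_, orderOf x.2, ?_, Prod.orderOf x⟩
    · rw [← h₁]; exact ⟨x.1, rfl⟩
    · rw [← h₂]; exact ⟨x.2, rfl⟩
  · rintro ⟨a, ha, b, hb, rfl⟩
    rw [← h₁] at ha
    rw [← h₂] at hb
    obtain ⟨x, rfl⟩ := ha
    obtain ⟨y, rfl⟩ := hb
    exact ⟨(x, y), Prod.orderOf (x, y)⟩

theorem lcm_sets (p m₁ m₂ : ℕ) :
    {m : ℕ | ∃ a ∈ {m : ℕ | m ∣ p ∨ m ∣ m₁}, ∃ b ∈ {m : ℕ | m ∣ p ∨ m ∣ m₂}, m = Nat.lcm a b} =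
    {m : ℕ | ∃ a ∈ {m : ℕ | m ∣ p ∨ m ∣ m₁ ∨ m ∣ m₂}, ∃ b ∈ {m : ℕ | m ∣ p ∨ m ∣ m₁ ∨ m ∣ m₂},
      m = Nat.lcm a b} := by
  ext m
  simp only [Set.mem_ofPred_eq]
  constructor
  · rintro ⟨a, ha, b, hb, rfl⟩
    refine ⟨a, ?_, b, ?_, rfl⟩
    · rcases ha with h | h
      · exact Or.inl h
      · exact Or.inr (Or.inl h)
    · rcases hb with h | h
      · exact Or.inl h
      · exact Or.inr (Or.inr h)
  · rintro ⟨a, ha, b, hb, rfl⟩
    rcases ha with ha | ha | ha <;> rcases hb with hb | hb | hb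
    · exact ⟨Nat.lcm a b, Or.inl (Nat.lcm_dvd ha hb), 1, Or.inl (one_dvd _), by simp⟩
    · exact ⟨b, Or.inr hb, a, Or.inl ha, Nat.lcm_comm a b⟩
    · exact ⟨a, Or.inl ha, b, Or.inr hb, rfl⟩
    · exact ⟨a, Or.inr ha, b, Or.inl hb, rfl⟩
    · exact ⟨Nat.lcm a b, Or.inr (Nat.lcm_dvd ha hb), 1, Or.inl (one_dvd _), by simp⟩
    · exact ⟨a, Or.inr ha, b, Or.inr hb, rfl⟩
    · exact ⟨b, Or.inl hb, a, Or.inr ha, Nat.lcm_comm a b⟩
    · exact ⟨b, Or.inr hb, a, Or.inr ha, Nat.lcm_comm a b⟩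
    · exact ⟨1, Or.inl (one_dvd _), Nat.lcm a b, Or.inr (Nat.lcm_dvd ha hb), by simp⟩

/-- Let q ≥ 4 be a prime power and L = PSL(2,q). There is a finite solvable group with the same set of element orders as L × L (so L × L is not determined by its spectrum). -/
theorem result {F : Type*} [Field F] [Fintype F] (hF : 4 ≤ Fintype.card F) :
    ∃ (H : Type) (_ : Group H) (_ : Finite H), Group.IsSolvable H ∧
      Set.range (orderOf : H → ℕ) = Set.range (orderOf : Matrix.ProjectiveSpecialLinearGroup (Fin 2) F × Matrix.ProjectiveSpecialLinearGroup (Fin 2) F → ℕ) := by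
  classical
  obtain ⟨p, hchar⟩ := CharP.exists F
  haveI : CharP F p := hchar
  obtain ⟨n, hpp, hcard⟩ := FiniteField.card F p
  haveI : Fact p.Prime := ⟨hpp⟩
  set q := Fintype.card F with hq
  have hn0 : (n : ℕ) ≠ 0 := n.pos.ne'
  have hq1 : 1 ≤ q := Fintype.card_pos
  set g := Nat.gcd 2 (q - 1) with hg
  have hg2 : g ∣ 2 := Nat.gcd_dvd_left _ _
  have hgq : g ∣ q - 1 := Nat.gcd_dvd_right _ _
  have hgpos : 0 < g := Nat.gcd_pos_of_pos_left _ (by norm_num)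
  have hgq' : g ∣ q + 1 := by
    have : q + 1 = (q - 1) + 2 := by omega
    rw [this]
    exact dvd_add hgq hg2
  -- the two fields
  letI : Fintype (GaloisField p n) := Fintype.ofFinite _
  letI : Fintype (GaloisField p (2 * n)) := Fintype.ofFinite _
  have hc1 : Fintype.card (GaloisField p n) = q := by
    rw [← Nat.card_eq_fintype_card, GaloisField.card p n hn0, hcard]
  have hc2 : Fintype.card (GaloisField p (2 * n)) = q ^ 2 := by
    rw [← Nat.card_eq_fintype_card, GaloisField.card p (2 * n) (by omega), hcard, ← pow_mul,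
      mul_comm]
  have hm1 : (q - 1) / g ∣ Fintype.card (GaloisField p n) - 1 := by
    rw [hc1]; exact Nat.div_dvd_of_dvd hgq
  have hm2 : (q + 1) / g ∣ Fintype.card (GaloisField p (2 * n)) - 1 := by
    rw [hc2]
    refine dvd_trans (Nat.div_dvd_of_dvd hgq') ?_
    have : q ^ 2 - 1 = (q + 1) * (q - 1) := by
      have := Nat.sq_sub_sq q 1
      simpa using this
    rw [this]
    exact dvd_mul_right _ _
  have hm10 : (q - 1) / g ≠ 0 := by
    have : 0 < (q - 1) / g := Nat.div_pos (Nat.le_of_dvd (by omega) hgq) hgpos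
    omega
  have hm20 : (q + 1) / g ≠ 0 := by
    have : 0 < (q + 1) / g := Nat.div_pos (Nat.le_of_dvd (by omega) hgq') hgpos
    omega
  obtain ⟨H₁, iG₁, iF₁, hs₁, hr₁⟩ :=
    Cfsg.Agent.Lib.Helper7_AffSpec.exists_group (GaloisField p n) p _ hm1 hm10
  obtain ⟨H₂, iG₂, iF₂, hs₂, hr₂⟩ :=
    Cfsg.Agent.Lib.Helper7_AffSpec.exists_group (GaloisField p (2 * n)) p _ hm2 hm20
  refine ⟨H₁ × H₂, inferInstance, inferInstance, inferInstance, ?_⟩
  have hpsl := Cfsg.Agent.Lib.Helper4_PSL2Orders.main (F := F) p hF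
  rw [range_prod _ _ hr₁ hr₂, range_prod _ _ hpsl hpsl]
  exact lcm_sets p _ _

end Cfsg.Agent.S3532
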