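import Cfsg.Statements.S3549
import Mathlib
import Cfsg.Agent.Lib.Helper6_Derangement

set_option autoImplicit false
open Cfsg

namespace Cfsg.Agent.S3549

open Cfsg.Agent.Lib.Helper6_Derangement
open scoped Pointwise

/-- Let G act faithfully, transitively but imprimitively on a finite set with n points, and let D be the subgroup generated by the derangements. Then the index of D in G is at most √n − 1. -/
theorem result {G Ω : Type*} [Group G] [Finite G] [MulAction G Ω] [FaithfulSMul G Ω] [Finite Ω]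
    (htrans : MulAction.IsPretransitive G Ω) (himp : ¬ MulAction.IsPreprimitive G Ω) :
    ((Subgroup.closure {g : G | ∀ ω : Ω, g • ω ≠ ω}).index : ℝ) ≤ Real.sqrt (Nat.card Ω) - 1 := by
  have hex : ∃ B : Set Ω, MulAction.IsBlock G B ∧ ¬ MulAction.IsTrivialBlock B := by
    by_contra hcon
    push Not at hcon
    exact himp { toIsPretransitive := htrans, isTrivialBlock_of_isBlock := fun {B} hB => hcon B hB }
  obtain ⟨B, hB, hBt⟩ := hex
  have hBs : ¬ B.Subsingleton := fun h => hBt (Or.inl h)
  have hBu : B ≠ Set.univ := fun h => hBt (Or.inr h)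
  obtain ⟨x, hx, y, hy, hxy⟩ := Set.not_subsingleton_iff.mp hBs
  have hne : Nonempty Ω := ⟨x⟩
  have hD : ∀ g : G, g ∉ Subgroup.closure {g : G | ∀ ω : Ω, g • ω ≠ ω} → ∃ x : Ω, g • x = x := by
    intro g hg
    by_contra hcon
    push Not at hcon
    exact hg (Subgroup.subset_closure hcon)
  have hn : (Subgroup.closure {g : G | ∀ ω : Ω, g • ω ≠ ω}).Normal := derangement_closure_normal
  have h1 := index_dvd_block _ hD B hB ⟨x, hx⟩
  have h2 := index_dvd (X := Ω) _ hD
  have h3 := hB.ncard_block_mul_ncard_orbit_eq ⟨x, hx⟩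
  have hb2 : 2 ≤ B.ncard := (Set.one_lt_ncard (Set.toFinite B)).mpr ⟨x, hx, y, hy, hxy⟩
  have hnpos : 0 < Nat.card Ω := Nat.card_pos
  have hbn : B.ncard ≠ Nat.card Ω := fun h => hBu ((Set.eq_univ_iff_ncard B).mpr h)
  generalize (Subgroup.closure {g : G | ∀ ω : Ω, g • ω ≠ ω}).index = m at *
  generalize B.ncard = b at *
  generalize (MulAction.orbit G B).ncard = c at *
  generalize Nat.card Ω = n at *
  have hc2 : 2 ≤ c := by
    rcases c with _ | _ | c
    · simp at h3; omega
    · simp at h3; omega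
    · omega
  have hmc : m ∣ c - 1 := by
    have e : c - 1 = (n - 1) - c * (b - 1) := by
      obtain ⟨b', rfl⟩ : ∃ k, b = k + 1 := ⟨b - 1, by omega⟩
      rw [← h3]
      simp only [Nat.add_sub_cancel]
      have : (b' + 1) * c = c * b' + c := by ring
      omega
    rw [e]
    exact Nat.dvd_sub h2 (Dvd.dvd.mul_left h1 c)
  have hmb1 : m + 1 ≤ b := by
    have := Nat.le_of_dvd (by omega) h1
    omega
  have hmc1 : m + 1 ≤ c := by
    have := Nat.le_of_dvd (by omega) hmc
    omega
  have hsq : (m + 1) * (m + 1) ≤ n := by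
    rw [← h3]
    exact Nat.mul_le_mul hmb1 hmc1
  have hsqR : ((m : ℝ) + 1) ^ 2 ≤ (n : ℝ) := by
    have : (((m + 1) * (m + 1) : ℕ) : ℝ) ≤ (n : ℝ) := by exact_mod_cast hsq
    push_cast at this
    nlinarith
  have := Real.le_sqrt_of_sq_le hsqR
  linarith

end Cfsg.Agent.S3549
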