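import Cfsg.Statements.S3554
import Mathlib

set_option autoImplicit false
open Cfsg

namespace Cfsg.Agent.S3554

/-- Let G act faithfully and transitively on a finite set and suppose G has a non-trivial cyclic normal subgroup. Then some element of G of prime order fixes no point. -/
theorem result {G Ω : Type*} [Group G] [Finite G] [MulAction G Ω] [FaithfulSMul G Ω] [Finite Ω]
    (htrans : MulAction.IsPretransitive G Ω) (C : Subgroup G) (hC : C.Normal) (hC1 : C ≠ ⊥) (hcyc : IsCyclic ↥C) :
    ∃ g : G, (orderOf g).Prime ∧ ∀ ω : Ω, g • ω ≠ ω := by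
  obtain ⟨t, ht⟩ := hcyc.exists_generator
  set n := Nat.card C with hn
  have hn1 : n ≠ 1 := by
    intro h
    apply hC1
    exact Subgroup.card_eq_one.mp h
  have hnpos : 0 < n := Nat.card_pos
  have hord : orderOf (t : G) = n := by
    rw [Subgroup.orderOf_coe, orderOf_eq_card_of_forall_mem_zpowers ht]
  set p := n.minFac with hp
  have hpp : p.Prime := Nat.minFac_prime hn1
  have hpn : p ∣ n := Nat.minFac_dvd n
  set c : G := (t : G) ^ (n / p) with hc
  have hcord : orderOf c = p := by
    rw [hc, orderOf_pow' _ (by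
      intro h0
      rcases Nat.div_eq_zero_iff.mp h0 with h | h
      · exact hpp.ne_zero h
      · exact absurd (Nat.le_of_dvd hnpos hpn) (not_le.mpr h)), hord,
      Nat.gcd_eq_right (Nat.div_dvd_of_dvd hpn)]
    exact Nat.div_div_self hpn hnpos.ne'
  refine ⟨c, by rw [hcord]; exact hpp, ?_⟩
  intro ω hω
  -- c fixes every point
  have hall : ∀ ω' : Ω, c • ω' = ω' := by
    intro ω'
    obtain ⟨g, rfl⟩ := MulAction.exists_smul_eq G ω ω'
    -- g⁻¹ t g ∈ C hence a power of t
    have h1 : g⁻¹ * (t : G) * g ∈ C := by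
      have := hC.conj_mem (t : G) t.2 g⁻¹
      simpa using this
    have h2 := ht ⟨g⁻¹ * (t : G) * g, h1⟩
    obtain ⟨k, hk⟩ := Subgroup.mem_zpowers_iff.mp h2
    have hk' : (t : G) ^ k = g⁻¹ * (t : G) * g := by
      have := congrArg Subtype.val hk
      simpa using this
    have h3 : g⁻¹ * c * g = c ^ k := by
      have e1 : g⁻¹ * c * g = (g⁻¹ * (t : G) * g) ^ (n / p) := by
        rw [hc]
        have := conj_pow (a := g⁻¹) (b := (t : G)) (i := n / p)
        simpa using this.symm
      rw [e1, ← hk', hc, ← zpow_natCast, ← zpow_natCast, ← zpow_mul, ← zpow_mul, mul_comm]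
    have h4 : c ^ k • ω = ω := by
      have : c ∈ MulAction.stabilizer G ω := hω
      exact (MulAction.stabilizer G ω).zpow_mem this k
    calc c • g • ω = g • (g⁻¹ * c * g) • ω := by
          simp [mul_smul]
      _ = g • ω := by rw [h3, h4]
  have hc1 : c = 1 := by
    apply FaithfulSMul.eq_of_smul_eq_smul (α := Ω)
    intro ω'
    rw [hall ω', one_smul]
  rw [hc1, orderOf_one] at hcord
  exact hpp.one_lt.ne' hcord.symm

end Cfsg.Agent.S3554
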