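import Mathlib
import Cfsg.Statements.S3560

set_option autoImplicit false

open Cfsg

namespace Cfsg.Agent.S3560

section core

variable {ι : Type*} [Fintype ι] [DecidableEq ι] {m : ℕ}

/-- coordinatewise permutation -/
def coordPerm (s : ι → Equiv.Perm (Fin m)) : Equiv.Perm (ι → Fin m) := Equiv.piCongrRight s

/-- permutation of the coordinates -/
def idxPerm (π : Equiv.Perm ι) : Equiv.Perm (ι → Fin m) := Equiv.arrowCongr π (Equiv.refl _)

lemma coordPerm_apply (s : ι → Equiv.Perm (Fin m)) (f : ι → Fin m) (i : ι) :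
    coordPerm s f i = s i (f i) := rfl

lemma idxPerm_apply (π : Equiv.Perm ι) (f : ι → Fin m) (i : ι) :
    idxPerm π f i = f (π.symm i) := rfl

/-- the wreath product in product action -/
def G0 (ι : Type*) [Fintype ι] [DecidableEq ι] (m : ℕ) : Subgroup (Equiv.Perm (ι → Fin m)) :=
  Subgroup.closure (Set.range (coordPerm (ι := ι) (m := m)) ∪ Set.range (idxPerm (ι := ι) (m := m)))

lemma coord_mem (s : ι → Equiv.Perm (Fin m)) : coordPerm s ∈ G0 ι m :=
  Subgroup.subset_closure (Or.inl ⟨s, rfl⟩)

lemma idx_mem (π : Equiv.Perm ι) : idxPerm (m := m) π ∈ G0 ι m :=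
  Subgroup.subset_closure (Or.inr ⟨π, rfl⟩)

/-- Hamming distance -/
def hd (f g : ι → Fin m) : ℕ := (Finset.univ.filter (fun i => f i ≠ g i)).card

lemma hd_coord (s : ι → Equiv.Perm (Fin m)) (f g : ι → Fin m) :
    hd (coordPerm s f) (coordPerm s g) = hd f g := by
  unfold hd
  congr 1
  apply Finset.filter_congr
  intro i _
  exact (s i).injective.ne_iff

lemma hd_idx (π : Equiv.Perm ι) (f g : ι → Fin m) :
    hd (idxPerm π f) (idxPerm π g) = hd f g := by
  unfold hd
  apply Finset.card_equiv π.symm
  intro i
  rw [Finset.mem_filter, Finset.mem_filter]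
  simp only [Finset.mem_univ, true_and, idxPerm_apply]

lemma hd_G0 (σ : Equiv.Perm (ι → Fin m)) (hσ : σ ∈ G0 ι m) :
    ∀ f g : ι → Fin m, hd (σ f) (σ g) = hd f g := by
  induction hσ using Subgroup.closure_induction with
  | mem x hx =>
    intro f g
    rcases hx with ⟨s, rfl⟩ | ⟨π, rfl⟩
    · exact hd_coord s f g
    · exact hd_idx π f g
  | one => intro f g; rfl
  | mul x y _ _ hx hy =>
    intro f g
    rw [Equiv.Perm.mul_apply, Equiv.Perm.mul_apply, hx, hy]
  | inv x _ hx =>
    intro f g
    have := hx (x⁻¹ f) (x⁻¹ g)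
    have e1 : ∀ h : ι → Fin m, x (x⁻¹ h) = h := by
      intro h
      rw [← Equiv.Perm.mul_apply, mul_inv_cancel, Equiv.Perm.one_apply]
    rw [e1, e1] at this
    exact this.symm

lemma exists_third (hm : 3 ≤ m) (a b : Fin m) : ∃ c : Fin m, c ≠ a ∧ c ≠ b := by
  by_contra hcon
  push Not at hcon
  have hsub : (Finset.univ : Finset (Fin m)) ⊆ {a, b} := by
    intro c _
    by_cases hca : c = a
    · simp [hca]
    · simp [hcon c hca]
  have h1 := Finset.card_le_card hsub
  have h2 : ({a, b} : Finset (Fin m)).card ≤ 2 := Finset.card_le_two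
  rw [Finset.card_univ, Fintype.card_fin] at h1
  omega

/-- a permutation sending two distinct points to two distinct points -/
lemma exists_perm_two (a c x y : Fin m) (hac : a ≠ c) (hxy : x ≠ y) :
    ∃ s : Equiv.Perm (Fin m), s a = x ∧ s c = y := by
  refine ⟨Equiv.swap (Equiv.swap a x c) y * Equiv.swap a x, ?_, ?_⟩
  · rw [Equiv.Perm.mul_apply, Equiv.swap_apply_left]
    apply Equiv.swap_apply_of_ne_of_ne
    · intro h
      apply hac
      have h2 : Equiv.swap a x c = Equiv.swap a x a := by
        rw [Equiv.swap_apply_left]; exact h.symm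
      exact ((Equiv.swap a x).injective h2).symm
    · exact hxy
  · rw [Equiv.Perm.mul_apply, Equiv.swap_apply_left]

end core

section prim

variable {ι : Type*} [Fintype ι] [DecidableEq ι] {m : ℕ}

/-- transitivity on pairs at distance one -/
lemma exists_move (v v' x y : ι → Fin m) (i j : ι) (hvi : v i ≠ v' i)
    (hv : ∀ l, l ≠ i → v l = v' l) (hxj : x j ≠ y j) (hx : ∀ l, l ≠ j → x l = y l) :
    ∃ g ∈ G0 ι m, g v = x ∧ g v' = y := by
  obtain ⟨sj, hsj1, hsj2⟩ := exists_perm_two (v i) (v' i) (x j) (y j) hvi hxj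
  let s : ι → Equiv.Perm (Fin m) := fun l =>
    if l = j then sj else Equiv.swap (v (Equiv.swap i j l)) (x l)
  refine ⟨coordPerm s * idxPerm (Equiv.swap i j),
    Subgroup.mul_mem _ (coord_mem s) (idx_mem _), ?_, ?_⟩
  · funext l
    rw [Equiv.Perm.mul_apply, coordPerm_apply, idxPerm_apply, Equiv.symm_swap]
    by_cases hl : l = j
    · subst hl
      simp only [s, if_true, Equiv.swap_apply_right]
      exact hsj1
    · simp only [s, if_neg hl]
      exact Equiv.swap_apply_left _ _
  · funext l
    rw [Equiv.Perm.mul_apply, coordPerm_apply, idxPerm_apply, Equiv.symm_swap]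
    by_cases hl : l = j
    · subst hl
      simp only [s, if_true, Equiv.swap_apply_right]
      exact hsj2
    · simp only [s, if_neg hl]
      have hne : Equiv.swap i j l ≠ i := by
        intro h
        apply hl
        have : Equiv.swap i j l = Equiv.swap i j j := by rw [Equiv.swap_apply_right]; exact h
        exact (Equiv.swap i j).injective this
      rw [← hv _ hne, Equiv.swap_apply_left]
      exact hx l hl

theorem core (hm : 3 ≤ m) (B : Set (ι → Fin m))
    (hB : ∀ σ ∈ G0 ι m, (∀ x ∈ B, σ x ∈ B) ∨ (∀ x ∈ B, σ x ∉ B))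
    (u v : ι → Fin m) (hu : u ∈ B) (hv : v ∈ B) (huv : u ≠ v) : ∀ y, y ∈ B := by
  obtain ⟨i, hi⟩ := Function.ne_iff.mp huv
  obtain ⟨c, hcu, hcv⟩ := exists_third hm (u i) (v i)
  -- a point v' ∈ B at distance one from v
  have hv' : Function.update v i c ∈ B := by
    let s : ι → Equiv.Perm (Fin m) := fun l => if l = i then Equiv.swap (v i) c else 1
    have hsu : coordPerm s u = u := by
      funext l
      rw [coordPerm_apply]
      by_cases hl : l = i
      · subst hl
        simp only [s, if_true]
        exact Equiv.swap_apply_of_ne_of_ne hi hcu.symm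
      · simp only [s, if_neg hl, Equiv.Perm.one_apply]
    have hsv : coordPerm s v = Function.update v i c := by
      funext l
      rw [coordPerm_apply]
      by_cases hl : l = i
      · subst hl
        simp only [s, if_true, Function.update_self]
        exact Equiv.swap_apply_left _ _
      · simp only [s, if_neg hl, Equiv.Perm.one_apply, Function.update_of_ne hl]
    rcases hB _ (coord_mem s) with h | h
    · rw [← hsv]; exact h v hv
    · exact absurd (hsu ▸ hu) (hsu.symm ▸ h u hu)
  -- points at distance one from a point of B are in B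
  have hstep : ∀ x y : ι → Fin m, ∀ j, x j ≠ y j → (∀ l, l ≠ j → x l = y l) → x ∈ B → y ∈ B := by
    intro x y j hxj hxy hxB
    obtain ⟨g, hg, hgv, hgv'⟩ := exists_move v (Function.update v i c) x y i j
      (by rw [Function.update_self]; exact hcv.symm)
      (fun l hl => (Function.update_of_ne hl _ _).symm) hxj hxy
    rcases hB g hg with h | h
    · rw [← hgv']; exact h _ hv'
    · exact absurd (hgv ▸ hxB) (h v hv)
  intro y
  have hind : ∀ S : Finset ι, (fun l => if l ∈ S then y l else v l) ∈ B := by
    intro S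
    induction S using Finset.induction_on with
    | empty =>
      have : (fun l => if l ∈ (∅ : Finset ι) then y l else v l) = v := by
        funext l; simp
      rw [this]; exact hv
    | insert a S ha ih =>
      by_cases hya : y a = v a
      · have : (fun l => if l ∈ insert a S then y l else v l)
            = (fun l => if l ∈ S then y l else v l) := by
          funext l
          by_cases hl : l = a
          · subst hl
            simp [ha, hya]
          · simp [Finset.mem_insert, hl]
        rw [this]; exact ih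
      · apply hstep _ _ a _ _ ih
        · simp [ha]
          exact fun h => hya h.symm
        · intro l hl
          simp [Finset.mem_insert, hl]
  have := hind Finset.univ
  simpa using this

end prim

section reg

variable {ι : Type*} [Fintype ι] [DecidableEq ι] {m : ℕ} (F : ι → Type*) [∀ i, Group (F i)]
  (b : ∀ i, F i ≃ Fin m)

/-- the regular action of the product -/
def rhoFun (k : ∀ i, F i) : Equiv.Perm (ι → Fin m) :=
  coordPerm (fun i => (b i).symm.trans ((Equiv.mulLeft (k i)).trans (b i)))

lemma rhoFun_apply (k : ∀ i, F i) (f : ι → Fin m) (i : ι) :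
    rhoFun F b k f i = b i (k i * (b i).symm (f i)) := rfl

/-- the regular action as a homomorphism -/
def rho : (∀ i, F i) →* Equiv.Perm (ι → Fin m) where
  toFun := rhoFun F b
  map_one' := by
    apply Equiv.ext
    intro f
    funext i
    rw [rhoFun_apply]
    simp
  map_mul' k k' := by
    apply Equiv.ext
    intro f
    funext i
    rw [Equiv.Perm.mul_apply, rhoFun_apply, rhoFun_apply, rhoFun_apply]
    simp [mul_assoc]

lemma rho_apply (k : ∀ i, F i) (f : ι → Fin m) (i : ι) :
    rho F b k f i = b i (k i * (b i).symm (f i)) := rfl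

lemma rho_mem (k : ∀ i, F i) : rho F b k ∈ G0 ι m := coord_mem _

lemma rho_free (k : ∀ i, F i) (f : ι → Fin m) (h : rho F b k f = f) : k = 1 := by
  funext i
  have h1 := congrFun h i
  rw [rho_apply] at h1
  have h2 : k i * (b i).symm (f i) = (b i).symm (f i) := by
    apply (b i).injective
    rw [h1, Equiv.apply_symm_apply]
  exact mul_eq_right.mp h2

lemma rho_inj : Function.Injective (rho F b) := by
  intro k k' h
  have h1 : rho F b (k'⁻¹ * k) = 1 := by
    rw [map_mul, map_inv, h, inv_mul_cancel]
  have h2 := rho_free F b (k'⁻¹ * k) (fun i => b i (1 : F i)) (by rw [h1]; rfl)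
  exact (inv_mul_eq_one.mp h2).symm

lemma rho_trans (f g : ι → Fin m) : ∃ k : ∀ i, F i, rho F b k f = g := by
  refine ⟨fun i => (b i).symm (g i) * ((b i).symm (f i))⁻¹, ?_⟩
  funext i
  rw [rho_apply, inv_mul_cancel_right, Equiv.apply_symm_apply]

end reg

/-- Let K be a finite group isomorphic to a direct product of r ≥ 2 groups all of the same order m ≥ 3. Then K is not a B-group: there is a primitive but not doubly transitive permutation group (on some finite set) containing a regular subgroup isomorphic to K. -/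
theorem result {K : Type*} [Group K] [Finite K] {ι : Type*} [Fintype ι] (F : ι → Type*) [∀ i, Group (F i)]
    (hr : 2 ≤ Fintype.card ι) (m : ℕ) (hm : 3 ≤ m) (hcard : ∀ i, Nat.card (F i) = m) (e : K ≃* (∀ i, F i)) :
    ∃ (n : ℕ) (G R : Subgroup (Equiv.Perm (Fin n))), R ≤ G ∧ Nonempty (↥R ≃* K) ∧
      MulAction.IsPretransitive ↥R (Fin n) ∧ (∀ a : Fin n, MulAction.stabilizer ↥R a = ⊥) ∧
      MulAction.IsPreprimitive ↥G (Fin n) ∧ ¬ MulAction.IsMultiplyPretransitive ↥G (Fin n) 2 := by
  classical
  have hfin : ∀ i, Finite (F i) := fun i => Nat.finite_of_card_ne_zero (by rw [hcard i]; omega)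
  let b : ∀ i, F i ≃ Fin m := fun i => Finite.equivFinOfCardEq (hcard i)
  let eΩ : (ι → Fin m) ≃ Fin (Fintype.card (ι → Fin m)) := Fintype.equivFin (ι → Fin m)
  let φ : Equiv.Perm (ι → Fin m) ≃* Equiv.Perm (Fin (Fintype.card (ι → Fin m))) :=
    eΩ.permCongrHom
  have hφ : ∀ (σ : Equiv.Perm (ι → Fin m)) (a : Fin (Fintype.card (ι → Fin m))),
      φ σ a = eΩ (σ (eΩ.symm a)) := fun σ a => rfl
  have hRG : ((rho F b).range).map φ.toMonoidHom ≤ (G0 ι m).map φ.toMonoidHom := by
    apply Subgroup.map_mono
    rintro _ ⟨k, rfl⟩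
    exact rho_mem F b k
  have htransR : ∀ a a' : Fin (Fintype.card (ι → Fin m)),
      ∃ k : ∀ i, F i, φ (rho F b k) a = a' := by
    intro a a'
    obtain ⟨k, hk⟩ := rho_trans F b (eΩ.symm a) (eΩ.symm a')
    exact ⟨k, by rw [hφ, hk, Equiv.apply_symm_apply]⟩
  refine ⟨Fintype.card (ι → Fin m), (G0 ι m).map φ.toMonoidHom,
    ((rho F b).range).map φ.toMonoidHom, hRG, ?_, ?_, ?_, ?_, ?_⟩
  · -- R ≅ K
    have e1 : (∀ i, F i) ≃* (rho F b).range := MonoidHom.ofInjective (rho_inj F b)
    have e2 : (rho F b).range ≃* ((rho F b).range).map φ.toMonoidHom :=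
      Subgroup.equivMapOfInjective _ _ φ.injective
    exact ⟨(e.trans (e1.trans e2)).symm⟩
  · -- R transitive
    constructor
    intro a a'
    obtain ⟨k, hk⟩ := htransR a a'
    exact ⟨⟨φ (rho F b k), Subgroup.mem_map_of_mem _ ⟨k, rfl⟩⟩, hk⟩
  · -- R free
    intro a
    rw [eq_bot_iff]
    rintro ⟨g, hg⟩ hstab
    obtain ⟨σ, ⟨k, rfl⟩, rfl⟩ := hg
    rw [MulAction.mem_stabilizer_iff] at hstab
    have h1 : φ (rho F b k) a = a := hstab
    rw [hφ] at h1
    have h2 : rho F b k (eΩ.symm a) = eΩ.symm a := by
      apply eΩ.injective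
      rw [h1, Equiv.apply_symm_apply]
    have h3 := rho_free F b k _ h2
    rw [Subgroup.mem_bot]
    apply Subtype.ext
    show φ.toMonoidHom (rho F b k) = 1
    rw [h3, map_one, map_one]
  · -- G primitive
    refine { toIsPretransitive := ?_, isTrivialBlock_of_isBlock := ?_ }
    · constructor
      intro a a'
      obtain ⟨k, hk⟩ := htransR a a'
      exact ⟨⟨φ (rho F b k), hRG (Subgroup.mem_map_of_mem _ ⟨k, rfl⟩)⟩, hk⟩
    · intro B hB
      rw [MulAction.isBlock_iff_smul_eq_or_disjoint] at hB
      by_contra hnt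
      unfold MulAction.IsTrivialBlock at hnt
      rw [not_or] at hnt
      obtain ⟨hns, hnu⟩ := hnt
      rw [Set.not_subsingleton_iff] at hns
      obtain ⟨a, ha, a', ha', haa'⟩ := hns
      have hB₀ : ∀ σ ∈ G0 ι m, (∀ x ∈ eΩ ⁻¹' B, σ x ∈ eΩ ⁻¹' B) ∨
          (∀ x ∈ eΩ ⁻¹' B, σ x ∉ eΩ ⁻¹' B) := by
        intro σ hσ
        have hact : ∀ x : ι → Fin m,
            (⟨φ σ, Subgroup.mem_map_of_mem _ hσ⟩ : (G0 ι m).map φ.toMonoidHom) • (eΩ x)
              = eΩ (σ x) := by
          intro x
          show φ σ (eΩ x) = eΩ (σ x)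
          rw [hφ, Equiv.symm_apply_apply]
        rcases hB ⟨φ σ, Subgroup.mem_map_of_mem _ hσ⟩ with h | h
        · left
          intro x hx
          show eΩ (σ x) ∈ B
          rw [← hact x, ← h]
          exact Set.smul_mem_smul_set hx
        · right
          intro x hx hσx
          rw [Set.disjoint_left] at h
          apply h (a := eΩ (σ x))
          · rw [← hact x]
            exact Set.smul_mem_smul_set hx
          · exact hσx
      have hall := core hm (eΩ ⁻¹' B) hB₀ (eΩ.symm a) (eΩ.symm a')
        (by show eΩ (eΩ.symm a) ∈ B; rw [Equiv.apply_symm_apply]; exact ha)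
        (by show eΩ (eΩ.symm a') ∈ B; rw [Equiv.apply_symm_apply]; exact ha')
        (fun h => haa' (eΩ.symm.injective h))
      apply hnu
      rw [Set.eq_univ_iff_forall]
      intro c
      have := hall (eΩ.symm c)
      have h2 : eΩ (eΩ.symm c) ∈ B := this
      rwa [Equiv.apply_symm_apply] at h2
  · -- not 2-transitive
    intro h2
    rw [MulAction.is_two_pretransitive_iff] at h2
    obtain ⟨i₀, i₁, h01⟩ := Fintype.one_lt_card_iff.mp (by omega : 1 < Fintype.card ι)
    let z0 : Fin m := ⟨0, by omega⟩
    let z1 : Fin m := ⟨1, by omega⟩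
    have hz : z0 ≠ z1 := by
      intro h
      have := congrArg Fin.val h
      simp [z0, z1] at this
    let u : ι → Fin m := fun _ => z0
    let v : ι → Fin m := Function.update u i₀ z1
    let w : ι → Fin m := Function.update v i₁ z1
    have huv : u ≠ v := by
      intro h
      have := congrFun h i₀
      simp [u, v] at this
      exact hz this
    have huw : u ≠ w := by
      intro h
      have := congrFun h i₁
      simp [u, w] at this
      exact hz this
    have hdv : hd u v = 1 := by
      unfold hd
      rw [Finset.card_eq_one]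
      refine ⟨i₀, ?_⟩
      ext i
      simp only [Finset.mem_filter, Finset.mem_univ, true_and, Finset.mem_singleton]
      by_cases hi : i = i₀
      · subst hi
        simp [u, v, hz]
      · simp [u, v, hi, Function.update_of_ne hi]
    have hdw : hd u w = 2 := by
      unfold hd
      rw [Finset.card_eq_two]
      refine ⟨i₀, i₁, h01, ?_⟩
      ext i
      simp only [Finset.mem_filter, Finset.mem_univ, true_and, Finset.mem_insert,
        Finset.mem_singleton]
      by_cases hi1 : i = i₁
      · subst hi1
        simp [u, w, hz]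
      · by_cases hi0 : i = i₀
        · subst hi0
          simp [u, v, w, hz, Function.update_of_ne hi1]
        · simp [u, v, w, hi0, hi1, Function.update_of_ne hi1, Function.update_of_ne hi0]
    obtain ⟨⟨g, hg⟩, hg1, hg2⟩ := h2 (a := eΩ u) (b := eΩ v) (c := eΩ u) (d := eΩ w)
      (fun h => huv (eΩ.injective h)) (fun h => huw (eΩ.injective h))
    obtain ⟨σ, hσ, rfl⟩ := hg
    have h3 : φ σ (eΩ u) = eΩ u := hg1
    have h4 : φ σ (eΩ v) = eΩ w := hg2
    rw [hφ, Equiv.symm_apply_apply] at h3 h4
    have h5 := hd_G0 σ hσ u v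
    rw [eΩ.injective h3, eΩ.injective h4, hdv, hdw] at h5
    omega

end Cfsg.Agent.S3560
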