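import Cfsg.Statements.S3634
import Mathlib

set_option autoImplicit false
open Cfsg

namespace Cfsg.Agent.S3634

/-- Norm argument for a Frobenius-like group `A⟨y⟩` acting on an abelian group `V`:
if `y` and `A` have no non-trivial fixed points on `V` and the powers of `y` have no
non-trivial fixed points on `A`, then `V` has exponent dividing `|A|`. -/
theorem coprime_action_pow {H V : Type*} [Group H] [CommGroup V] (ρ : H →* MulAut V)
    (A : Subgroup H) [Finite A] (y : H) (r : ℕ) (hr : 0 < r) (hyr : y ^ r = 1)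
    (hyA : ∀ a ∈ A, y * a * y⁻¹ ∈ A)
    (hAy : ∀ i, 0 < i → i < r → ∀ a ∈ A, y ^ i * a = a * y ^ i → a = 1)
    (hA : ∀ w : V, (∀ a ∈ A, ρ a w = w) → w = 1)
    (hy : ∀ w : V, ρ y w = w → w = 1) (v : V) : v ^ Nat.card A = 1 := by
  classical
  letI : Fintype A := Fintype.ofFinite A
  have hnorm : ∀ w : V, ∏ i ∈ Finset.range r, ρ (y ^ i) w = 1 := by
    intro w
    apply hy
    rw [map_prod]
    have h0 : ∀ i, ρ y (ρ (y ^ i) w) = ρ (y ^ (i + 1)) w := by
      intro i; rw [pow_succ', map_mul]; rfl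
    simp_rw [h0]
    have h1 := Finset.prod_range_succ' (fun i => ρ (y ^ i) w) r
    have h2 := Finset.prod_range_succ (fun i => ρ (y ^ i) w) r
    rw [h1] at h2
    simp only [hyr, pow_zero] at h2
    exact mul_right_cancel h2
  have hyiA : ∀ i : ℕ, ∀ a ∈ A, y ^ i * a * (y ^ i)⁻¹ ∈ A := by
    intro i
    induction i with
    | zero => intro a ha; simpa using ha
    | succ k ih =>
      intro a ha
      have := hyA _ (ih a ha)
      have e : y ^ (k + 1) * a * (y ^ (k + 1))⁻¹ = y * (y ^ k * a * (y ^ k)⁻¹) * y⁻¹ := by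
        rw [pow_succ']; group
      rw [e]; exact this
  have hAnorm : ∀ w : V, ∏ a : A, ρ (a : H) w = 1 := by
    intro w
    apply hA
    intro a ha
    rw [map_prod]
    refine Fintype.prod_equiv (Equiv.mulLeft (⟨a, ha⟩ : A)) _ _ (fun b => ?_)
    simp [map_mul]
  -- the double product
  have hα : ∏ i ∈ Finset.range r, ∏ b : A, ρ ((b : H) * y ^ i * (b : H)⁻¹) v = 1 := by
    rw [Finset.prod_comm]
    refine Finset.prod_eq_one fun b _ => ?_
    have : ∀ i, ρ ((b : H) * y ^ i * (b : H)⁻¹) v = ρ (b : H) (ρ (y ^ i) (ρ ((b : H)⁻¹) v)) := by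
      intro i; rw [map_mul, map_mul]; rfl
    simp_rw [this]
    rw [← map_prod, hnorm, map_one]
  have hβ : ∏ i ∈ Finset.range r, ∏ b : A, ρ ((b : H) * y ^ i * (b : H)⁻¹) v = v ^ Nat.card A := by
    rw [Finset.prod_eq_single 0]
    · simp [Nat.card_eq_fintype_card]
    · intro i hi hi0
      rw [Finset.mem_range] at hi
      have hipos : 0 < i := Nat.pos_of_ne_zero hi0
      set σ : A → A := fun b => ⟨(b : H) * (y ^ i * (b : H)⁻¹ * (y ^ i)⁻¹),
        A.mul_mem b.2 (hyiA i _ (A.inv_mem b.2))⟩ with hσ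
      have hσinj : Function.Injective σ := by
        intro b c hbc
        have h1 : (b : H) * (y ^ i * (b : H)⁻¹ * (y ^ i)⁻¹) =
            (c : H) * (y ^ i * (c : H)⁻¹ * (y ^ i)⁻¹) := congrArg Subtype.val hbc
        have h2 : y ^ i * ((c : H)⁻¹ * b) = ((c : H)⁻¹ * b) * y ^ i := by
          have h3 : (b : H) * y ^ i * (b : H)⁻¹ = (c : H) * y ^ i * (c : H)⁻¹ := by
            have := congrArg (· * y ^ i) h1
            simpa [mul_assoc] using this
          calc y ^ i * ((c : H)⁻¹ * b) = (c : H)⁻¹ * ((c : H) * y ^ i * (c : H)⁻¹) * b := by group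
            _ = (c : H)⁻¹ * ((b : H) * y ^ i * (b : H)⁻¹) * b := by rw [h3]
            _ = ((c : H)⁻¹ * b) * y ^ i := by group
        have h4 := hAy i hipos hi _ (A.mul_mem (A.inv_mem c.2) b.2) h2
        exact Subtype.ext (inv_mul_eq_one.mp h4).symm
      have hσbij : Function.Bijective σ := Finite.injective_iff_bijective.mp hσinj
      have : ∀ b : A, ρ ((b : H) * y ^ i * (b : H)⁻¹) v = ρ ((σ b : A) : H) (ρ (y ^ i) v) := by
        intro b
        have e : (b : H) * y ^ i * (b : H)⁻¹ = ((σ b : A) : H) * y ^ i := by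
          simp only [hσ]; group
        rw [e, map_mul]; rfl
      simp_rw [this]
      rw [Function.Bijective.prod_comp hσbij (fun a : A => ρ (a : H) (ρ (y ^ i) v))]
      exact hAnorm _
    · intro h0
      exact absurd (Finset.mem_range.mpr hr) h0
  rw [← hβ, hα]

/-- Commuting elements: `x` of prime order `q` and `w` with `p ∣ orderOf w` give an element of
order `p * q`. -/
theorem exists_order_mul {H : Type*} [Group H] [Finite H] {p q : ℕ} (hp : p.Prime) (hq : q.Prime)
    (hpq : p ≠ q) {x w : H} (hx : orderOf x = q) (hw : p ∣ orderOf w) (hc : x * w = w * x) :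
    ∃ z : H, orderOf z = p * q := by
  have h1 : orderOf (w ^ (orderOf w / p)) = p :=
    orderOf_pow_orderOf_div (orderOf_pos w).ne' hw
  have hc' : Commute (w ^ (orderOf w / p)) x := Commute.pow_left (show Commute w x from hc.symm) _
  have := hc'.orderOf_mul_eq_mul_orderOf_of_coprime
    (by rw [h1, hx]; exact (Nat.coprime_primes hp hq).mpr hpq)
  exact ⟨_, by rw [this, h1, hx]⟩

theorem pdvd {H : Type*} [Group H] {p : ℕ} [Fact p.Prime] {V : Subgroup H} (hV : IsPGroup p V) {w : H}
    (hw : w ∈ V) (hw1 : w ≠ 1) : p ∣ orderOf w := by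
  obtain ⟨k, hk⟩ := IsPGroup.iff_orderOf.mp hV ⟨w, hw⟩
  rw [Subgroup.orderOf_mk] at hk
  have hk0 : k ≠ 0 := by
    rintro rfl
    rw [pow_zero, orderOf_eq_one_iff] at hk
    exact hw1 hk
  rw [hk]; exact dvd_pow_self p hk0

theorem core {H : Type*} [Group H] [Finite H] {p q r : ℕ} (hp : p.Prime) (hq : q.Prime)
    (hr : r.Prime) (hpq : p ≠ q) (hpr : p ≠ r) (hqr : q ≠ r)
    (V : Subgroup H) [hVn : V.Normal] (hVc : ∀ x ∈ V, ∀ y ∈ V, x * y = y * x)
    (hVp : IsPGroup p V) (hV1 : V ≠ ⊥)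
    (A : Subgroup H) (hAq : IsPGroup q A) (hA1 : A ≠ ⊥) (y : H) (hy : orderOf y = r)
    (hyA : ∀ a ∈ A, y * a * y⁻¹ ∈ A) :
    (∃ x : H, orderOf x = p * q) ∨ (∃ x : H, orderOf x = p * r) ∨ (∃ x : H, orderOf x = q * r) := by
  haveI : Fact p.Prime := ⟨hp⟩
  haveI : Fact q.Prime := ⟨hq⟩
  haveI : Fact r.Prime := ⟨hr⟩
  by_contra hcon
  push Not at hcon
  obtain ⟨h1, h2, h3⟩ := hcon
  letI : CommGroup V :=
    { (inferInstance : Group V) with mul_comm := fun a b => Subtype.ext (hVc a a.2 b b.2) }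
  let ρ : H →* MulAut V := MulAut.conjNormal
  have hρ : ∀ (h : H) (v : V), ((ρ h v : V) : H) = h * v * h⁻¹ :=
    fun h v => MulAut.conjNormal_apply h v
  obtain ⟨a₀, ha₀, ha₀q⟩ : ∃ a₀ ∈ A, orderOf a₀ = q := by
    haveI : Fact q.Prime := ⟨hq⟩
    have hdvd : q ∣ Nat.card A := by
      obtain ⟨k, hk⟩ := IsPGroup.iff_card.mp hAq
      have hk0 : k ≠ 0 := by
        rintro rfl
        rw [pow_zero] at hk
        exact hA1 (Subgroup.card_eq_one.mp hk)
      rw [hk]; exact dvd_pow_self q hk0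
    obtain ⟨a, ha⟩ := exists_prime_orderOf_dvd_card' q hdvd
    exact ⟨a, a.2, by rw [← ha]; exact Subgroup.orderOf_coe a⟩
  have key := coprime_action_pow ρ A y r hr.pos (by rw [← hy]; exact pow_orderOf_eq_one y) hyA
    ?_ ?_ ?_
  · apply hV1
    rw [eq_bot_iff]
    intro v hv
    rw [Subgroup.mem_bot]
    have hk := key ⟨v, hv⟩
    have hk' : v ^ Nat.card A = 1 := by
      have := congrArg Subtype.val hk
      simpa using this
    have hd1 : orderOf v ∣ Nat.card A := orderOf_dvd_of_pow_eq_one hk'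
    obtain ⟨k, hk2⟩ := IsPGroup.iff_card.mp hAq
    obtain ⟨j, hj⟩ := IsPGroup.iff_orderOf.mp hVp ⟨v, hv⟩
    rw [Subgroup.orderOf_mk] at hj
    rw [hk2, hj] at hd1
    have hcop : Nat.Coprime (p ^ j) (q ^ k) :=
      Nat.Coprime.pow _ _ ((Nat.coprime_primes hp hq).mpr hpq)
    have := Nat.Coprime.eq_one_of_dvd hcop hd1
    rw [← hj, orderOf_eq_one_iff] at this
    exact this
  · intro i hi0 hir a ha hcomm
    by_contra ha1
    have hyi : orderOf (y ^ i) = r := by
      rw [Nat.Coprime.orderOf_pow, hy]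
      rw [hy]; exact (Nat.Prime.coprime_iff_not_dvd hr).mpr (Nat.not_dvd_of_pos_of_lt hi0 hir)
    obtain ⟨z, hz⟩ := exists_order_mul hq hr hqr hyi (pdvd hAq ha ha1) hcomm
    exact h3 z hz
  · intro w hw
    by_contra hw1
    have hw1' : (w : H) ≠ 1 := fun h => hw1 (Subtype.ext h)
    have hcomm : a₀ * (w : H) = (w : H) * a₀ := by
      have h4 := congrArg Subtype.val (hw a₀ ha₀)
      rw [hρ] at h4
      calc a₀ * (w : H) = (a₀ * w * a₀⁻¹) * a₀ := by group
        _ = w * a₀ := by rw [h4]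
    obtain ⟨z, hz⟩ := exists_order_mul hp hq hpq ha₀q (pdvd hVp w.2 hw1') hcomm
    exact h1 z hz
  · intro w hw
    by_contra hw1
    have hw1' : (w : H) ≠ 1 := fun h => hw1 (Subtype.ext h)
    have hcomm : y * (w : H) = (w : H) * y := by
      have h4 := congrArg Subtype.val hw
      rw [hρ] at h4
      calc y * (w : H) = (y * w * y⁻¹) * y := by group
        _ = w * y := by rw [h4]
    obtain ⟨z, hz⟩ := exists_order_mul hp hr hpr hy (pdvd hVp w.2 hw1') hcomm
    exact h2 z hz

theorem lemmaB {H : Type*} [Group H] [Finite H] {p q r : ℕ} (hp : p.Prime) (hq : q.Prime)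
    (hr : r.Prime) (hpq : p ≠ q) (hpr : p ≠ r) (hqr : q ≠ r)
    (P₁ : Subgroup H) [P₁.Normal] (hP₁ : IsPGroup p P₁) (hP₁1 : P₁ ≠ ⊥)
    (L : Subgroup H) [L.Normal] (hqL : q ∣ Nat.card L) (hrL : r ∣ L.index) :
    (∃ x : H, orderOf x = p * q) ∨ (∃ x : H, orderOf x = p * r) ∨ (∃ x : H, orderOf x = q * r) := by
  haveI : Fact q.Prime := ⟨hq⟩
  haveI : Fact r.Prime := ⟨hr⟩
  haveI : Fact p.Prime := ⟨hp⟩
  set V : Subgroup H := P₁ ⊓ Subgroup.centralizer (P₁ : Set H) with hV
  haveI : V.Normal := Subgroup.normal_inf_normal _ _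
  have hVc : ∀ x ∈ V, ∀ y ∈ V, x * y = y * x := by
    intro x hx y hy
    exact (Subgroup.mem_centralizer_iff.mp (Subgroup.mem_inf.mp hy).2) x (Subgroup.mem_inf.mp hx).1
  have hVp : IsPGroup p V := hP₁.to_le inf_le_left
  have hV1 : V ≠ ⊥ := by
    haveI : Nontrivial P₁ := (Subgroup.nontrivial_iff_ne_bot P₁).mpr hP₁1
    haveI := hP₁.center_nontrivial
    obtain ⟨⟨z, hz⟩, hz1⟩ := exists_ne (1 : Subgroup.center P₁)
    intro hbot
    have : ((z : P₁) : H) ∈ V := by
      refine Subgroup.mem_inf.mpr ⟨z.2, ?_⟩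
      rw [Subgroup.mem_centralizer_iff]
      intro h hh
      have := Subgroup.mem_center_iff.mp hz ⟨h, hh⟩
      exact congrArg Subtype.val this
    rw [hbot, Subgroup.mem_bot] at this
    apply hz1; exact Subtype.ext (Subtype.ext this)
  obtain Q : Sylow q L := default
  set A : Subgroup H := (Q : Subgroup L).map L.subtype with hA
  have hAq : IsPGroup q A := Q.isPGroup'.map _
  have hA1 : A ≠ ⊥ := by
    intro h
    have : (Q : Subgroup L) = ⊥ := (Subgroup.map_eq_bot_iff_of_injective _ L.subtype_injective).mp h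
    exact Q.ne_bot_of_dvd_card hqL this
  have hfrat : Subgroup.normalizer (A : Set H) ⊔ L = ⊤ := Sylow.normalizer_sup_eq_top Q
  have hrN : r ∣ Nat.card (Subgroup.normalizer (A : Set H)) := by
    have h1 : L.relIndex (Subgroup.normalizer (A : Set H)) = L.index := by
      rw [← Subgroup.relIndex_sup_right, hfrat, Subgroup.relIndex_top_right]
    rw [← h1] at hrL
    exact hrL.trans (Subgroup.relIndex_dvd_card _ _)
  obtain ⟨y', hy'⟩ := exists_prime_orderOf_dvd_card' r hrN
  refine core hp hq hr hpq hpr hqr V hVc hVp hV1 A hAq hA1 (y' : H)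
    (by rw [Subgroup.orderOf_coe]; exact hy') ?_
  intro a ha
  exact (Subgroup.mem_normalizer_iff.mp y'.2 a).mp ha

/-- Let G be a finite group with normal subgroups K ≤ M, and let p, q, r be distinct primes with p dividing the order of K, q dividing the order of M/K and r dividing the order of G/M. Then p, q, r are not pairwise non-adjacent in the prime graph of G: G has an element of order pq, pr or qr. -/
theorem result {G : Type*} [Group G] [Finite G] (K M : Subgroup G) [K.Normal] [M.Normal] (hKM : K ≤ M)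
    (p q r : ℕ) (hp : p.Prime) (hq : q.Prime) (hr : r.Prime) (hpq : p ≠ q) (hpr : p ≠ r) (hqr : q ≠ r)
    (hpK : p ∣ Nat.card ↥K) (hqM : q ∣ Nat.card ↥M / Nat.card ↥K) (hrG : r ∣ Nat.card G / Nat.card ↥M) :
    (∃ x : G, orderOf x = p * q) ∨ (∃ x : G, orderOf x = p * r) ∨ (∃ x : G, orderOf x = q * r) := by
  classical
  haveI : Fact p.Prime := ⟨hp⟩
  obtain P : Sylow p K := default
  set P₀ : Subgroup G := (P : Subgroup K).map K.subtype with hP₀
  have hP₀p : IsPGroup p P₀ := P.isPGroup'.map _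
  have hP₀1 : P₀ ≠ ⊥ := by
    intro h
    have : (P : Subgroup K) = ⊥ := (Subgroup.map_eq_bot_iff_of_injective _ K.subtype_injective).mp h
    exact P.ne_bot_of_dvd_card hpK this
  have hfrat : Subgroup.normalizer (P₀ : Set G) ⊔ K = ⊤ := Sylow.normalizer_sup_eq_top P
  set N : Subgroup G := Subgroup.normalizer (P₀ : Set G) with hN
  set P₁ : Subgroup N := P₀.subgroupOf N with hP₁
  haveI : P₁.Normal := Subgroup.normal_in_normalizer
  have hP₁p : IsPGroup p P₁ := hP₀p.comap_subtype
  have hP₁1 : P₁ ≠ ⊥ := by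
    intro h
    apply hP₀1
    rw [eq_bot_iff]
    intro x hx
    have hxN : x ∈ N := Subgroup.le_normalizer hx
    have : (⟨x, hxN⟩ : N) ∈ P₁ := by rw [hP₁, Subgroup.mem_subgroupOf]; exact hx
    rw [h, Subgroup.mem_bot] at this
    rw [Subgroup.mem_bot]
    exact congrArg Subtype.val this
  set L : Subgroup N := M.subgroupOf N with hL
  haveI : L.Normal := inferInstance
  have hNM : N ⊔ M = ⊤ := by
    rw [eq_top_iff, ← hfrat]
    exact sup_le_sup_left hKM N
  have hrL : r ∣ L.index := by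
    have h1 : L.index = M.index := by
      change M.relIndex N = M.index
      rw [← Subgroup.relIndex_sup_right, hNM, Subgroup.relIndex_top_right]
    have h2 : Nat.card G / Nat.card M = M.index := by
      rw [← M.card_mul_index]
      exact Nat.mul_div_cancel_left _ Nat.card_pos
    rw [h1, ← h2]; exact hrG
  have hqL : q ∣ Nat.card L := by
    have h1 : Nat.card M / Nat.card K = K.relIndex M := by
      have h2 := (K.subgroupOf M).card_mul_index
      rw [Nat.card_congr (Subgroup.subgroupOfEquivOfLe hKM).toEquiv] at h2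
      change Nat.card K * K.relIndex M = Nat.card M at h2
      rw [← h2]
      exact Nat.mul_div_cancel_left _ Nat.card_pos
    have h3 : (M ⊓ N) ⊔ K = M := by
      apply le_antisymm
      · exact sup_le inf_le_left hKM
      · intro m hm
        have hm' : m ∈ N ⊔ K := by rw [hfrat]; exact Subgroup.mem_top m
        obtain ⟨n, hn, k, hk, rfl⟩ := Subgroup.mem_sup_of_normal_right.mp hm'
        have hnM : n ∈ M := by
          have := M.mul_mem hm (M.inv_mem (hKM hk))
          rwa [mul_inv_cancel_right] at this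
        exact Subgroup.mul_mem _ (Subgroup.mem_sup_left (Subgroup.mem_inf.mpr ⟨hnM, hn⟩))
          (Subgroup.mem_sup_right hk)
    have h4 : K.relIndex M = K.relIndex (M ⊓ N) := by
      conv_lhs => rw [← h3]
      exact Subgroup.relIndex_sup_right _ _
    have h5 : Nat.card L = Nat.card (M ⊓ N : Subgroup G) := by
      rw [hL, ← Subgroup.inf_subgroupOf_right M N]
      exact Nat.card_congr (Subgroup.subgroupOfEquivOfLe inf_le_right).toEquiv
    rw [h5]
    rw [h1, h4] at hqM
    exact hqM.trans (Subgroup.relIndex_dvd_card _ _)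
  rcases lemmaB hp hq hr hpq hpr hqr P₁ hP₁p hP₁1 L hqL hrL with ⟨x, hx⟩ | ⟨x, hx⟩ | ⟨x, hx⟩
  · left; exact ⟨(x : G), by rw [Subgroup.orderOf_coe]; exact hx⟩
  · right; left; exact ⟨(x : G), by rw [Subgroup.orderOf_coe]; exact hx⟩
  · right; right; exact ⟨(x : G), by rw [Subgroup.orderOf_coe]; exact hx⟩

end Cfsg.Agent.S3634
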