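import Cfsg.Statements.S3633
import Mathlib
import Cfsg.Agent.S3634

set_option autoImplicit false
open Cfsg

namespace Cfsg.Agent.S3633

/-- A non-trivial solvable normal subgroup `K` of `G` has a proper subgroup `K₀`, normal in `G`,
of prime-power index in `K`. -/
theorem exists_normal_pindex {G : Type*} [Group G] [Finite G] (K : Subgroup G) [hKn : K.Normal]
    (hK : Group.IsSolvable K) (hK1 : K ≠ ⊥) :
    ∃ K₀ : Subgroup G, K₀.Normal ∧ K₀ ≤ K ∧ ∃ u : ℕ, u.Prime ∧ ∃ j : ℕ, 0 < j ∧
      Nat.card K = Nat.card K₀ * u ^ j := by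
  classical
  haveI : Nontrivial K := (Subgroup.nontrivial_iff_ne_bot K).mpr hK1
  have hlt : commutator K < ⊤ := Group.IsSolvable.commutator_lt_top_of_nontrivial K
  have hB1 : 1 < Nat.card (Abelianization K) := by
    have h0 : Nat.card (Abelianization K) = (commutator K).index := (Subgroup.index_eq_card _).symm
    rw [h0]
    by_contra hcon
    have h1 : (commutator K).index = 1 := by
      have := Subgroup.index_ne_zero_of_finite (H := commutator K); omega
    exact hlt.ne (Subgroup.index_eq_one.mp h1)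
  obtain ⟨u, hu, hudvd⟩ := Nat.exists_prime_and_dvd hB1.ne'
  haveI : Fact u.Prime := ⟨hu⟩
  set φ : Abelianization K →* Abelianization K := powMonoidHom u with hφ
  have hrange : φ.range ≠ ⊤ := by
    intro htop
    obtain ⟨b, hb⟩ := exists_prime_orderOf_dvd_card' u hudvd
    have hsurj : Function.Surjective φ := MonoidHom.range_eq_top.mp htop
    have hinj : Function.Injective φ := Finite.injective_iff_surjective.mpr hsurj
    have h1 : φ b = φ 1 := by rw [map_one, hφ, powMonoidHom_apply, ← hb, pow_orderOf_eq_one]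
    have h2 := hinj h1
    rw [h2, orderOf_one] at hb
    exact hu.one_lt.ne hb
  have hpg : IsPGroup u (Abelianization K ⧸ φ.range) := by
    intro x
    refine ⟨1, ?_⟩
    induction x using QuotientGroup.induction_on with
    | H b =>
      rw [pow_one, ← QuotientGroup.mk_pow, QuotientGroup.eq_one_iff]
      exact ⟨b, rfl⟩
  obtain ⟨j, hj⟩ := IsPGroup.iff_card.mp hpg
  have hj0 : 0 < j := by
    by_contra hcon
    have : j = 0 := by omega
    subst this
    rw [pow_zero, ← Subgroup.index_eq_card, Subgroup.index_eq_one] at hj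
    exact hrange hj
  set C : Subgroup K := φ.range.comap Abelianization.of with hC
  have hCidx : C.index = u ^ j := by
    rw [hC, Subgroup.index_comap_of_surjective _ (QuotientGroup.mk_surjective)]
    rw [Subgroup.index_eq_card]; exact hj
  refine ⟨C.map K.subtype, ?_, Subgroup.map_subtype_le _, u, hu, j, hj0, ?_⟩
  · constructor
    rintro x ⟨x', hx', rfl⟩ g
    refine ⟨MulAut.conjNormal g x', ?_, ?_⟩
    · obtain ⟨b, hb⟩ := Subgroup.mem_comap.mp hx'
      refine Subgroup.mem_comap.mpr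
        ⟨Abelianization.map (MulAut.conjNormal g : MulAut K).toMonoidHom b, ?_⟩
      have hb' : b ^ u = Abelianization.of x' := hb
      show (Abelianization.map (MulAut.conjNormal g : MulAut K).toMonoidHom b) ^ u = _
      rw [← map_pow, hb', Abelianization.map_of]; rfl
    · exact MulAut.conjNormal_apply g x'
  · rw [Subgroup.card_map_of_injective K.subtype_injective, ← hCidx]
    exact (C.card_mul_index).symm

section
variable {G : Type*} [Group G] [Finite G]

theorem solvable_of_le' {A B : Subgroup G} (hAB : A ≤ B) (h : Group.IsSolvable B) :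
    Group.IsSolvable A :=
  Group.isSolvable_of_isSolvable_injective (Subgroup.inclusion_injective hAB)

theorem relIndex_mul_card {A B : Subgroup G} (hAB : A ≤ B) :
    A.relIndex B * Nat.card A = Nat.card B := by
  have h2 := (A.subgroupOf B).card_mul_index
  rw [Nat.card_congr (Subgroup.subgroupOfEquivOfLe hAB).toEquiv] at h2
  rw [mul_comm]; exact h2

theorem prime_dvd_cases {r u a j : ℕ} (hr : r.Prime) (hu : u.Prime) (h : r ∣ a * u ^ j) :
    r ∣ a ∨ r = u := by
  rcases (Nat.Prime.dvd_mul hr).mp h with h1 | h1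
  · exact Or.inl h1
  · exact Or.inr ((Nat.prime_dvd_prime_iff_eq hr hu).mp (hr.dvd_of_dvd_pow h1))

/-- Two primes dividing the order of a solvable normal subgroup can be separated by a normal
subgroup. -/
theorem split_two {s t : ℕ} (hs : s.Prime) (ht : t.Prime) (hst : s ≠ t) :
    ∀ (n : ℕ) (K : Subgroup G) [K.Normal], Nat.card K = n → Group.IsSolvable K →
      s ∣ Nat.card K → t ∣ Nat.card K →
      ∃ M : Subgroup G, M.Normal ∧ M ≤ K ∧
        ((s ∣ Nat.card M ∧ t ∣ M.relIndex K) ∨ (t ∣ Nat.card M ∧ s ∣ M.relIndex K)) := by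
  intro n
  induction n using Nat.strong_induction_on with
  | _ n ih =>
    intro K hKn hn hK hsK htK
    have hK1 : K ≠ ⊥ := by
      intro h
      rw [h, Subgroup.card_bot] at hsK
      exact hs.one_lt.ne' (Nat.dvd_one.mp hsK)
    obtain ⟨K₀, hK₀n, hK₀K, u, hu, j, hj0, hcard⟩ := exists_normal_pindex K hK hK1
    have hrel : K₀.relIndex K = u ^ j := by
      have h1 := relIndex_mul_card hK₀K
      rw [hcard, mul_comm] at h1
      exact Nat.eq_of_mul_eq_mul_left Nat.card_pos h1
    have hudvd : u ∣ K₀.relIndex K := by rw [hrel]; exact dvd_pow_self u hj0.ne'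
    by_cases hs0 : s ∣ Nat.card K₀
    · by_cases ht0 : t ∣ Nat.card K₀
      · have hlt : Nat.card K₀ < n := by
          rw [← hn, hcard]
          have : 2 ≤ u ^ j := by
            calc 2 ≤ u := hu.two_le
              _ = u ^ 1 := (pow_one u).symm
              _ ≤ u ^ j := Nat.pow_le_pow_right hu.pos hj0
          have hpos : 0 < Nat.card K₀ := Nat.card_pos
          nlinarith
        obtain ⟨M, hMn, hMK₀, hM⟩ := ih _ hlt K₀ rfl (solvable_of_le' hK₀K hK) hs0 ht0
        refine ⟨M, hMn, hMK₀.trans hK₀K, ?_⟩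
        have hmul := Subgroup.relIndex_mul_relIndex M K₀ K hMK₀ hK₀K
        rcases hM with ⟨h1, h2⟩ | ⟨h1, h2⟩
        · exact Or.inl ⟨h1, hmul ▸ Dvd.dvd.mul_right h2 _⟩
        · exact Or.inr ⟨h1, hmul ▸ Dvd.dvd.mul_right h2 _⟩
      · have htu : t = u := by
          rw [hcard] at htK
          rcases prime_dvd_cases ht hu htK with h | h
          · exact absurd h ht0
          · exact h
        exact ⟨K₀, hK₀n, hK₀K, Or.inl ⟨hs0, htu ▸ hudvd⟩⟩
    · have hsu : s = u := by
        rw [hcard] at hsK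
        rcases prime_dvd_cases hs hu hsK with h | h
        · exact absurd h hs0
        · exact h
      have ht0 : t ∣ Nat.card K₀ := by
        rw [hcard] at htK
        rcases prime_dvd_cases ht hu htK with h | h
        · exact h
        · exact absurd (h.trans hsu.symm) (Ne.symm hst)
      exact ⟨K₀, hK₀n, hK₀K, Or.inr ⟨ht0, hsu ▸ hudvd⟩⟩

/-- Three primes, two of which divide the order of a solvable normal subgroup, can be spread
along a normal series. -/
theorem triple {r s t : ℕ} (hr : r.Prime) (hs : s.Prime) (ht : t.Prime) (hrs : r ≠ s)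
    (hrt : r ≠ t) (hst : s ≠ t) (htG : t ∣ Nat.card G) :
    ∀ (n : ℕ) (K : Subgroup G) [K.Normal], Nat.card K = n → Group.IsSolvable K →
      r ∣ Nat.card K → s ∣ Nat.card K →
      ∃ (K₁ M₁ : Subgroup G), K₁.Normal ∧ M₁.Normal ∧ K₁ ≤ M₁ ∧ ∃ a b c : ℕ,
        (a = r ∨ a = s ∨ a = t) ∧ (b = r ∨ b = s ∨ b = t) ∧ (c = r ∨ c = s ∨ c = t) ∧
        a ≠ b ∧ a ≠ c ∧ b ≠ c ∧ a ∣ Nat.card K₁ ∧ b ∣ K₁.relIndex M₁ ∧ c ∣ M₁.index := by
  intro n
  induction n using Nat.strong_induction_on with
  | _ n ih =>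
    intro K hKn hn hK hrK hsK
    have hK1 : K ≠ ⊥ := by
      intro h
      rw [h, Subgroup.card_bot] at hsK
      exact hs.one_lt.ne' (Nat.dvd_one.mp hsK)
    obtain ⟨K₀, hK₀n, hK₀K, u, hu, j, hj0, hcard⟩ := exists_normal_pindex K hK hK1
    have hrel : K₀.relIndex K = u ^ j := by
      have h1 := relIndex_mul_card hK₀K
      rw [hcard, mul_comm] at h1
      exact Nat.eq_of_mul_eq_mul_left Nat.card_pos h1
    have hudvd : u ∣ K₀.relIndex K := by rw [hrel]; exact dvd_pow_self u hj0.ne'
    have hK₀idx : K₀.relIndex K * K.index = K₀.index := Subgroup.relIndex_mul_index hK₀K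
    -- the generic step: `x = u` does not divide `|K₀|`, `y` does
    have step : ∀ x y : ℕ, x.Prime → y.Prime → x ≠ y → x ≠ t → y ≠ t →
        (x = r ∨ x = s ∨ x = t) → (y = r ∨ y = s ∨ y = t) → x = u → y ∣ Nat.card K₀ →
        ∃ (K₁ M₁ : Subgroup G), K₁.Normal ∧ M₁.Normal ∧ K₁ ≤ M₁ ∧ ∃ a b c : ℕ,
        (a = r ∨ a = s ∨ a = t) ∧ (b = r ∨ b = s ∨ b = t) ∧ (c = r ∨ c = s ∨ c = t) ∧
        a ≠ b ∧ a ≠ c ∧ b ≠ c ∧ a ∣ Nat.card K₁ ∧ b ∣ K₁.relIndex M₁ ∧ c ∣ M₁.index := by
      intro x y hx hy hxy hxt hyt hxm hym hxu hy0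
      have hxrel : x ∣ K₀.relIndex K := hxu ▸ hudvd
      by_cases htK : t ∣ K.index
      · exact ⟨K₀, K, hK₀n, hKn, hK₀K, y, x, t, hym, hxm, Or.inr (Or.inr rfl), hxy.symm, hyt, hxt,
          hy0, hxrel, htK⟩
      · have htK' : t ∣ Nat.card K := by
          have h1 := K.card_mul_index
          rw [← h1] at htG
          rcases (Nat.Prime.dvd_mul ht).mp htG with h | h
          · exact h
          · exact absurd h htK
        have ht0 : t ∣ Nat.card K₀ := by
          rw [hcard] at htK'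
          rcases prime_dvd_cases ht hu htK' with h | h
          · exact h
          · exact absurd (h.trans hxu.symm) (Ne.symm hxt)
        have hxK₀idx : x ∣ K₀.index := hK₀idx ▸ Dvd.dvd.mul_right hxrel _
        obtain ⟨M, hMn, hMK₀, hM⟩ := split_two hy ht hyt _ K₀ rfl (solvable_of_le' hK₀K hK) hy0 ht0
        rcases hM with ⟨h1, h2⟩ | ⟨h1, h2⟩
        · exact ⟨M, K₀, hMn, hK₀n, hMK₀, y, t, x, hym, Or.inr (Or.inr rfl), hxm, hyt, hxy.symm,
            Ne.symm hxt, h1, h2, hxK₀idx⟩
        · exact ⟨M, K₀, hMn, hK₀n, hMK₀, t, y, x, Or.inr (Or.inr rfl), hym, hxm, Ne.symm hyt,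
            Ne.symm hxt, hxy.symm, h1, h2, hxK₀idx⟩
    by_cases hr0 : r ∣ Nat.card K₀
    · by_cases hs0 : s ∣ Nat.card K₀
      · have hlt : Nat.card K₀ < n := by
          rw [← hn, hcard]
          have : 2 ≤ u ^ j := by
            calc 2 ≤ u := hu.two_le
              _ = u ^ 1 := (pow_one u).symm
              _ ≤ u ^ j := Nat.pow_le_pow_right hu.pos hj0
          have hpos : 0 < Nat.card K₀ := Nat.card_pos
          nlinarith
        exact ih _ hlt K₀ rfl (solvable_of_le' hK₀K hK) hr0 hs0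
      · have hsu : s = u := by
          rw [hcard] at hsK
          rcases prime_dvd_cases hs hu hsK with h | h
          · exact absurd h hs0
          · exact h
        exact step s r hs hr (Ne.symm hrs) hst hrt (Or.inr (Or.inl rfl)) (Or.inl rfl) hsu hr0
    · have hru : r = u := by
        rw [hcard] at hrK
        rcases prime_dvd_cases hr hu hrK with h | h
        · exact absurd h hr0
        · exact h
      have hs0 : s ∣ Nat.card K₀ := by
        rw [hcard] at hsK
        rcases prime_dvd_cases hs hu hsK with h | h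
        · exact h
        · exact absurd (hru.trans h.symm) hrs
      exact step r s hr hs hrs hrt hst (Or.inl rfl) (Or.inr (Or.inl rfl)) hru hs0

/-- At most one prime of an independent set of at least three vertices of the prime graph divides
the order of a solvable normal subgroup. -/
theorem at_most_one (ρ : Finset ℕ) (hρ : 3 ≤ ρ.card)
    (hc : ((∀ r ∈ ρ, r.Prime ∧ r ∣ Nat.card G) ∧
      (∀ r ∈ ρ, ∀ s ∈ ρ, r ≠ s → ¬ ∃ x : G, orderOf x = r * s)))
    (K : Subgroup G) [K.Normal] (hK : Group.IsSolvable ↥K) :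
    ∀ r ∈ ρ, ∀ s ∈ ρ, r ∣ Nat.card ↥K → s ∣ Nat.card ↥K → r = s := by
  classical
  intro r hr s hs hrK hsK
  by_contra hrs
  obtain ⟨t, ht, htr, hts⟩ : ∃ t ∈ ρ, t ≠ r ∧ t ≠ s := by
    have hpos : 0 < ((ρ.erase r).erase s).card := by
      have h1 := Finset.card_erase_of_mem hr
      have h2 : (ρ.erase r).card - 1 ≤ ((ρ.erase r).erase s).card := Finset.pred_card_le_card_erase
      omega
    obtain ⟨t, ht⟩ := Finset.card_pos.mp hpos
    rw [Finset.mem_erase, Finset.mem_erase] at ht
    exact ⟨t, ht.2.2, ht.2.1, ht.1⟩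
  obtain ⟨K₁, M₁, hK₁n, hM₁n, hKM, a, b, c, ha, hb, hc', hab, hac, hbc, haK, hbM, hcG⟩ :=
    triple (hc.1 r hr).1 (hc.1 s hs).1 (hc.1 t ht).1 hrs (Ne.symm htr) (Ne.symm hts)
      (hc.1 t ht).2 _ K rfl hK hrK hsK
  have haρ : a ∈ ρ := by rcases ha with rfl | rfl | rfl <;> assumption
  have hbρ : b ∈ ρ := by rcases hb with rfl | rfl | rfl <;> assumption
  have hcρ : c ∈ ρ := by rcases hc' with rfl | rfl | rfl <;> assumption
  have hbM' : b ∣ Nat.card M₁ / Nat.card K₁ := by
    have h1 := relIndex_mul_card hKM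
    rw [← h1, Nat.mul_div_cancel _ Nat.card_pos]; exact hbM
  have hcG' : c ∣ Nat.card G / Nat.card M₁ := by
    have h1 := M₁.card_mul_index
    rw [← h1, Nat.mul_div_cancel_left _ Nat.card_pos]; exact hcG
  rcases Cfsg.Agent.S3634.result K₁ M₁ hKM a b c (hc.1 a haρ).1 (hc.1 b hbρ).1 (hc.1 c hcρ).1
    hab hac hbc haK hbM' hcG' with h | h | h
  · exact hc.2 a haρ b hbρ hab h
  · exact hc.2 a haρ c hcρ hac h
  · exact hc.2 b hbρ c hcρ hbc h

end

/-- Let G be a finite group and ρ a set of at least three prime divisors of the order of G that are pairwise non-adjacent in the prime graph (no element of order rs for distinct r, s ∈ ρ). Then at most one prime of ρ divides the order of any given solvable normal subgroup of G; in particular G is not solvable. -/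
theorem result {G : Type*} [Group G] [Finite G] (ρ : Finset ℕ) (hρ : 3 ≤ ρ.card) (hc : ((∀ r ∈ ρ, r.Prime ∧ r ∣ Nat.card G) ∧ (∀ r ∈ ρ, ∀ s ∈ ρ, r ≠ s → ¬ ∃ x : G, orderOf x = r * s)))
    (K : Subgroup G) [K.Normal] (hK : Group.IsSolvable ↥K) :
    (∀ r ∈ ρ, ∀ s ∈ ρ, r ∣ Nat.card ↥K → s ∣ Nat.card ↥K → r = s) ∧ ¬ Group.IsSolvable G := by
  classical
  refine ⟨at_most_one ρ hρ hc K hK, ?_⟩
  intro hsolv
  have htop : Group.IsSolvable (⊤ : Subgroup G) :=
    Group.isSolvable_of_isSolvable_injective (Subgroup.subtype_injective _)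
  obtain ⟨r, hr, s, hs, hrs⟩ : ∃ r ∈ ρ, ∃ s ∈ ρ, r ≠ s := by
    have h1 : 1 < ρ.card := by omega
    obtain ⟨r, hr, s, hs, hrs⟩ := Finset.one_lt_card.mp h1
    exact ⟨r, hr, s, hs, hrs⟩
  apply hrs
  refine at_most_one ρ hρ hc ⊤ htop r hr s hs ?_ ?_
  · rw [Subgroup.card_top]; exact (hc.1 r hr).2
  · rw [Subgroup.card_top]; exact (hc.1 s hs).2

end Cfsg.Agent.S3633
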