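import Cfsg.Statements.S3683
import Mathlib

set_option autoImplicit false
open Cfsg

namespace Cfsg.Agent.S3683

open MulAction
open scoped Pointwise

/-- Let a finite group G act faithfully and primitively on a set Ω, and suppose the stabilizer of a point a fixes a second point b ≠ a (a suborbit of length 1 other than {a}). Then the stabilizer of a is trivial and G is cyclic of prime order. -/
theorem result {G Ω : Type*} [Group G] [Finite G] [MulAction G Ω] [FaithfulSMul G Ω] [Finite Ω]
    (hprim : MulAction.IsPreprimitive G Ω) (a b : Ω) (hab : a ≠ b) (hfix : ∀ g : G, g • a = a → g • b = b) :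
    MulAction.stabilizer G a = ⊥ ∧ IsCyclic G ∧ (Nat.card G).Prime := by
  have hnt : Nontrivial Ω := ⟨⟨a, b, hab⟩⟩
  have hle : stabilizer G a ≤ stabilizer G b := fun g hg => hfix g hg
  have hcoa : IsCoatom (stabilizer G a) := IsPreprimitive.isCoatom_stabilizer_of_isPreprimitive G a
  have hcob : IsCoatom (stabilizer G b) := IsPreprimitive.isCoatom_stabilizer_of_isPreprimitive G b
  have heq : stabilizer G a = stabilizer G b := by
    rcases eq_or_lt_of_le hle with h | h
    · exact h
    · exact absurd (hcoa.2 _ h) hcob.1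
  let B : Set Ω := {ω | stabilizer G ω = stabilizer G a}
  have hB : IsBlock G B := by
    rw [isBlock_iff_smul_eq_of_mem]
    intro g ω hω hgω
    have hω' : stabilizer G ω = stabilizer G a := hω
    have hgω' : stabilizer G (g • ω) = stabilizer G a := hgω
    rw [stabilizer_smul_eq_stabilizer_map_conj, hω'] at hgω'
    ext x
    rw [Set.mem_smul_set_iff_inv_smul_mem]
    show stabilizer G (g⁻¹ • x) = stabilizer G a ↔ stabilizer G x = stabilizer G a
    have hx : stabilizer G x = (stabilizer G (g⁻¹ • x)).map (MulAut.conj g).toMonoidHom := by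
      rw [← stabilizer_smul_eq_stabilizer_map_conj, smul_inv_smul]
    constructor
    · intro h
      rw [hx, h, hgω']
    · intro h
      rw [hx] at h
      have hinj : Function.Injective (Subgroup.map (MulAut.conj g).toMonoidHom) :=
        Subgroup.map_injective (MulAut.conj g).injective
      apply hinj
      rw [h, hgω']
  have hBu : B = Set.univ := by
    rcases hprim.isTrivialBlock_of_isBlock hB with h | h
    · exact absurd (h (show a ∈ B from rfl) (show b ∈ B from heq.symm)) hab
    · exact h
  have hbot : stabilizer G a = ⊥ := by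
    rw [eq_bot_iff]
    intro g hg
    rw [Subgroup.mem_bot]
    apply FaithfulSMul.eq_of_smul_eq_smul (α := Ω)
    intro ω
    have hω : ω ∈ B := hBu ▸ Set.mem_univ ω
    have hω' : stabilizer G ω = stabilizer G a := hω
    rw [← hω'] at hg
    rw [one_smul]
    exact hg
  refine ⟨hbot, ?_⟩
  rw [hbot] at hcoa
  -- ⊥ is a coatom
  have hall : ∀ H : Subgroup G, H ≠ ⊥ → H = ⊤ := fun H hH => hcoa.2 H (bot_lt_iff_ne_bot.mpr hH)
  have hcard1 : Nat.card G ≠ 1 := by
    intro h
    have : Subsingleton G := (Nat.card_eq_one_iff_unique.mp h).1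
    exact hcoa.1 (Subsingleton.elim _ _)
  obtain ⟨p, hp, hpd⟩ := Nat.exists_prime_and_dvd hcard1
  have : Fact p.Prime := ⟨hp⟩
  obtain ⟨x, hx⟩ := exists_prime_orderOf_dvd_card' p hpd
  have hx1 : x ≠ 1 := by
    intro h
    rw [h, orderOf_one] at hx
    exact hp.one_lt.ne hx
  have htop : Subgroup.zpowers x = ⊤ := hall _ (Subgroup.zpowers_ne_bot.mpr hx1)
  refine ⟨⟨⟨x, fun y => ?_⟩⟩, ?_⟩
  · have : y ∈ Subgroup.zpowers x := htop ▸ Subgroup.mem_top y
    exact this
  · have h1 : Nat.card (Subgroup.zpowers x) = p := by rw [Nat.card_zpowers, hx]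
    rw [htop, Subgroup.card_top] at h1
    rw [h1]; exact hp

end Cfsg.Agent.S3683
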