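import Cfsg.Statements.S3704
import Mathlib
import Cfsg.Agent.Lib.Helper2_PermChar
import Cfsg.Agent.Lib.Helper2_CharComplete

set_option autoImplicit false
open Cfsg
open scoped ComplexConjugate

namespace Cfsg.Agent.S3704

open Cfsg.Agent.Lib.Helper2_ClassFn
open Cfsg.Agent.Lib.Helper2_CharBasic
open Cfsg.Agent.Lib.Helper2_CharOrtho
open Cfsg.Agent.Lib.Helper2_CharComplete
open Cfsg.Agent.Lib.Helper2_PermChar

universe u

section Core

variable {G : Type u} [Group G] [Fintype G]

/-- the trivial character -/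
noncomputable abbrev One (G : Type u) : G → ℂ := fun _ => (1 : ℂ)

theorem one_one : classInner (One G) (One G) = 1 := by
  rw [classInner_irr isIrrCharacter_one isIrrCharacter_one, if_pos rfl]

/-- if `π` is a character containing the trivial character exactly once, `π - 1` is a character -/
theorem sub_one_isCharacter {π : G → ℂ} (hπ : IsCharacter G π)
    (hπ1 : classInner π (One G) = 1) : IsCharacter G (π - One G) := by
  apply isCharacter_of_classInner_nat
  · exact IsClassFunction.sub (IsCharacter.isClassFunction hπ) (IsCharacter.isClassFunction isCharacter_one)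
  · intro ψ hψ
    rw [classInner_sub_left]
    by_cases h : One G = ψ
    · refine ⟨0, ?_⟩
      rw [← h, hπ1, one_one]; simp
    · obtain ⟨a, ha⟩ := IsCharacter.classInner_irr_nat hπ hψ
      refine ⟨a, ?_⟩
      rw [ha, classInner_irr isIrrCharacter_one hψ, if_neg h, sub_zero]

theorem key_bound (π ρ : G → ℂ) (hπ : IsCharacter G π) (hρ : IsCharacter G ρ)
    (hπ1 : classInner π (One G) = 1) (hρ1 : classInner ρ (One G) = 1)
    (hππ : classInner π π = 2) (n₀ : ℕ) (hn : 1 ≤ n₀) (hπn : π 1 = (n₀ : ℂ) + 1)
    (hρn : ρ 1 = (n₀ : ℂ) + 1) :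
    ∃ m : ℕ, classInner π ρ = 1 + m ∧ m ≤ 1 := by
  have h1π : classInner (One G) π = 1 := by
    rw [← classInner_conj_symm, hπ1, map_one]
  have h1ρ : classInner (One G) ρ = 1 := by
    rw [← classInner_conj_symm, hρ1, map_one]
  set χ := π - One G with hχ
  set ψ₀ := ρ - One G with hψ₀
  have hχc : IsCharacter G χ := sub_one_isCharacter hπ hπ1
  have hψ₀c : IsCharacter G ψ₀ := sub_one_isCharacter hρ hρ1
  have hχnorm : classInner χ χ = 1 := by
    rw [hχ, classInner_sub_left, classInner_sub_right, classInner_sub_right, hππ, hπ1, h1π,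
      one_one]
    norm_num
  have hχirr : IsIrrCharacter G χ := IsCharacter.isIrr_of_norm_one hχc hχnorm
  have hχ1 : classInner χ (One G) = 0 := by
    rw [hχ, classInner_sub_left, hπ1, one_one, sub_self]
  have hψ₀1 : classInner ψ₀ (One G) = 0 := by
    rw [hψ₀, classInner_sub_left, hρ1, one_one, sub_self]
  have h1ψ₀ : classInner (One G) ψ₀ = 0 := by
    rw [← classInner_conj_symm, hψ₀1, map_zero]
  obtain ⟨m, hm⟩ := IsCharacter.classInner_irr_nat hψ₀c hχirr
  have hχψ₀ : classInner χ ψ₀ = m := by
    rw [← classInner_conj_symm, hm, Complex.conj_natCast]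
  refine ⟨m, ?_, ?_⟩
  · have e1 : π = One G + χ := by rw [hχ]; abel
    have e2 : ρ = One G + ψ₀ := by rw [hψ₀]; abel
    rw [e1, e2, classInner_add_left, classInner_add_right, classInner_add_right, one_one, h1ψ₀,
      hχ1, hχψ₀]
    ring
  · -- θ = ψ₀ - m • χ is a character
    set θ := ψ₀ - m • χ with hθ
    have hθc : IsCharacter G θ := by
      apply isCharacter_of_classInner_nat
      · exact IsClassFunction.sub (IsCharacter.isClassFunction hψ₀c) (IsCharacter.isClassFunction (IsCharacter.nsmul m hχc))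
      · intro ψ hψ
        rw [hθ, classInner_sub_left, classInner_nsmul_left]
        by_cases h : χ = ψ
        · refine ⟨0, ?_⟩
          rw [← h, hm, hχnorm]; simp
        · obtain ⟨a, ha⟩ := IsCharacter.classInner_irr_nat hψ₀c hψ
          refine ⟨a, ?_⟩
          rw [ha, classInner_irr hχirr hψ, if_neg h]; simp
    obtain ⟨k, hk⟩ := IsCharacter.apply_one hθc
    have e : (k : ℂ) + (m : ℂ) * (n₀ : ℂ) = (n₀ : ℂ) := by
      have e0 : θ 1 = ρ 1 - 1 - (m : ℂ) * (π 1 - 1) := by
        rw [hθ, hψ₀, hχ]
        simp [Pi.sub_apply, Pi.smul_apply]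
      rw [← hk, e0, hπn, hρn]
      ring
    have e' : k + m * n₀ = n₀ := by exact_mod_cast e
    have : m * n₀ ≤ 1 * n₀ := by omega
    exact Nat.le_of_mul_le_mul_right this (by omega)

end Core

section Perm

open MulAction

theorem card_orbits_subgroup {G Ω : Type*} [Group G] [MulAction G Ω] (H : Subgroup G) :
    Nat.card (orbitRel.Quotient H Ω) = Nat.card (orbitRel.Quotient G (Ω × G ⧸ H)) := by
  apply Nat.card_congr
  have hwd : ∀ a b : Ω, orbitRel H Ω a b →
      orbitRel G (Ω × G ⧸ H) (a, ((1 : G) : G ⧸ H)) (b, ((1 : G) : G ⧸ H)) := by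
    rintro a b ⟨h, rfl⟩
    refine ⟨(h : G), ?_⟩
    show ((h : G) • b, (h : G) • ((1 : G) : G ⧸ H)) = (h • b, ((1 : G) : G ⧸ H))
    congr 1
    rw [MulAction.Quotient.smul_mk, QuotientGroup.eq]
    simp
  refine Equiv.ofBijective (Quotient.map' (fun ω => (ω, ((1 : G) : G ⧸ H))) hwd) ⟨?_, ?_⟩
  · intro x y
    induction x using Quotient.inductionOn' with | h a => ?_
    induction y using Quotient.inductionOn' with | h b => ?_
    intro hab
    rw [Quotient.map'_mk'', Quotient.map'_mk'', Quotient.eq''] at hab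
    obtain ⟨g, hg⟩ := hab
    have hg' : (g • b, g • ((1 : G) : G ⧸ H)) = (a, ((1 : G) : G ⧸ H)) := hg
    rw [Prod.mk.injEq] at hg'
    obtain ⟨h1, h2⟩ := hg'
    rw [MulAction.Quotient.smul_mk, QuotientGroup.eq] at h2
    have hgH : g ∈ H := by
      have : (g • (1 : G))⁻¹ * 1 ∈ H := h2
      simpa using H.inv_mem this
    rw [Quotient.eq'']
    exact ⟨⟨g, hgH⟩, h1⟩
  · intro y
    induction y using Quotient.inductionOn' with | h p => ?_
    obtain ⟨ω, q⟩ := p
    obtain ⟨g, rfl⟩ := QuotientGroup.mk_surjective q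
    refine ⟨Quotient.mk'' (g⁻¹ • ω), ?_⟩
    rw [Quotient.map'_mk'', Quotient.eq'']
    refine ⟨g⁻¹, ?_⟩
    show (g⁻¹ • ω, g⁻¹ • ((g : G) : G ⧸ H)) = (g⁻¹ • ω, ((1 : G) : G ⧸ H))
    congr 1
    rw [MulAction.Quotient.smul_mk]
    simp

theorem card_orbits_of_pretransitive {G X : Type*} [Group G] [MulAction G X] [Nonempty X]
    [IsPretransitive G X] : Nat.card (orbitRel.Quotient G X) = 1 := by
  rw [Nat.card_eq_one_iff_unique]
  refine ⟨(pretransitive_iff_subsingleton_quotient (G := G) (α := X)).mp inferInstance, ?_⟩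
  exact ⟨Quotient.mk'' (Classical.arbitrary X)⟩

theorem card_orbits_pairs {G X : Type*} [Group G] [MulAction G X]
    (h2 : IsMultiplyPretransitive G X 2) (htr : IsPretransitive G X) (a b : X) (hab : a ≠ b) :
    Nat.card (orbitRel.Quotient G (X × X)) = 2 := by
  classical
  rw [is_two_pretransitive_iff] at h2
  have hwd : ∀ p q : X × X, orbitRel G (X × X) p q → (decide (p.1 = p.2)) = decide (q.1 = q.2) := by
    rintro p q ⟨g, rfl⟩
    have : (g • q).1 = (g • q).2 ↔ q.1 = q.2 := by
      show g • q.1 = g • q.2 ↔ _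
      exact smul_left_cancel_iff g
    simp only [this]
  have hbij : Function.Bijective (Quotient.lift (fun p : X × X => decide (p.1 = p.2))
      (fun p q h => hwd p q h) : orbitRel.Quotient G (X × X) → Bool) := by
    constructor
    · intro x y
      induction x using Quotient.inductionOn' with | h p => ?_
      induction y using Quotient.inductionOn' with | h q => ?_
      intro hpq
      have hpq' : decide (p.1 = p.2) = decide (q.1 = q.2) := hpq
      rw [Quotient.eq'']
      by_cases hp : p.1 = p.2
      · have hq : q.1 = q.2 := by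
          rw [decide_eq_true hp] at hpq'
          exact of_decide_eq_true hpq'.symm
        obtain ⟨g, hg⟩ := exists_smul_eq G q.1 p.1
        refine ⟨g, ?_⟩
        show (g • q.1, g • q.2) = p
        rw [← hq, hg]
        exact Prod.ext rfl hp
      · have hq : q.1 ≠ q.2 := by
          intro hq
          rw [decide_eq_true hq, decide_eq_false hp] at hpq'
          exact Bool.false_ne_true hpq'
        obtain ⟨g, hg1, hg2⟩ := h2 hq hp
        refine ⟨g, ?_⟩
        show (g • q.1, g • q.2) = p
        rw [hg1, hg2]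
    · intro c
      cases c with
      | false =>
        refine ⟨Quotient.mk'' (a, b), ?_⟩
        show decide (a = b) = false
        exact decide_eq_false hab
      | true =>
        refine ⟨Quotient.mk'' (a, a), ?_⟩
        show decide (a = a) = true
        exact decide_eq_true rfl
  rw [Nat.card_congr (Equiv.ofBijective _ hbij)]
  simp

theorem fixedBy_one {G X : Type*} [Group G] [MulAction G X] :
    MulAction.fixedBy X (1 : G) = Set.univ := by
  ext x; simp

end Perm

/-- Let G be a finite group acting faithfully and 2-transitively on a finite set Ω of size n, and let H be a subgroup of index n in G which is not transitive on Ω and fixes no point of Ω. Then H has exactly two orbits on Ω. -/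
theorem result {G Ω : Type*} [Group G] [Finite G] [MulAction G Ω] [FaithfulSMul G Ω] [Finite Ω] (h2 : MulAction.IsMultiplyPretransitive G Ω 2) (H : Subgroup G) (hidx : H.index = Nat.card Ω) (hnt : ¬ MulAction.IsPretransitive H Ω) (hfix : ∀ a : Ω, ∃ h : H, h • a ≠ a) : Nat.card (MulAction.orbitRel.Quotient H Ω) = 2 := by
  classical
  have hfG : Fintype G := Fintype.ofFinite G
  -- two distinct points
  obtain ⟨a, b, hab⟩ : ∃ a b : Ω, a ≠ b := by
    by_contra hcon
    push Not at hcon
    apply hnt
    exact ⟨fun x y => ⟨1, by rw [one_smul]; exact hcon x y⟩⟩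
  have hne : Nonempty Ω := ⟨a⟩
  have htr : MulAction.IsPretransitive G Ω := MulAction.isPretransitive_of_is_two_pretransitive
  have hcard2 : 2 ≤ Nat.card Ω := by
    have := Finite.one_lt_card_iff_nontrivial.mpr (⟨⟨a, b, hab⟩⟩ : Nontrivial Ω)
    omega
  obtain ⟨n₀, hn₀⟩ : ∃ n₀ : ℕ, Nat.card Ω = n₀ + 1 := ⟨Nat.card Ω - 1, by omega⟩
  have hn₀1 : 1 ≤ n₀ := by omega
  -- the two permutation characters
  set π := permChar G Ω with hπ
  set ρ := permChar G (G ⧸ H) with hρ
  have hπc : IsCharacter G π := isCharacter_permChar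
  have hρc : IsCharacter G ρ := isCharacter_permChar
  have hπ1 : classInner π (One G) = 1 := by
    rw [hπ, classInner_permChar_one, card_orbits_of_pretransitive]; simp
  have hρ1 : classInner ρ (One G) = 1 := by
    rw [hρ, classInner_permChar_one, card_orbits_of_pretransitive]; simp
  have hππ : classInner π π = 2 := by
    rw [hπ, classInner_permChar, card_orbits_pairs h2 htr a b hab]; simp
  have hπn : π 1 = (n₀ : ℂ) + 1 := by
    rw [hπ, permChar_apply, fixedBy_one, Nat.card_coe_set_eq, Set.ncard_univ, hn₀]; simp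
  have hρn : ρ 1 = (n₀ : ℂ) + 1 := by
    rw [hρ, permChar_apply, fixedBy_one, Nat.card_coe_set_eq, Set.ncard_univ, ← Subgroup.index_eq_card,
      hidx, hn₀]; simp
  obtain ⟨m, hm, hm1⟩ := key_bound π ρ hπc hρc hπ1 hρ1 hππ n₀ hn₀1 hπn hρn
  rw [hπ, hρ, classInner_permChar, ← card_orbits_subgroup H] at hm
  have ht : Nat.card (MulAction.orbitRel.Quotient H Ω) = 1 + m := by exact_mod_cast hm
  rw [ht]
  rcases Nat.lt_or_ge m 1 with h0 | h1
  · exfalso
    have hm0 : m = 0 := by omega
    rw [hm0, add_zero] at ht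
    apply hnt
    rw [MulAction.pretransitive_iff_subsingleton_quotient]
    exact (Nat.card_eq_one_iff_unique.mp ht).1
  · omega

end Cfsg.Agent.S3704
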