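import Mathlib
import Cfsg.Statements.S3707

set_option autoImplicit false

open Cfsg

namespace Cfsg.Agent.S3707

section count
open Finset

variable {G Ω : Type*} [Group G] [Fintype G] [MulAction G Ω] [Fintype Ω] [DecidableEq Ω]

/-- translate of a finset -/
def Tr (Γ : Finset Ω) (g : G) : Finset Ω := Γ.image (fun x => g • x)

lemma mem_Tr (Γ : Finset Ω) (g : G) (y : Ω) : y ∈ Tr Γ g ↔ g⁻¹ • y ∈ Γ := by
  unfold Tr
  rw [Finset.mem_image]
  constructor
  · rintro ⟨x, hx, rfl⟩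
    rwa [inv_smul_smul]
  · intro h
    exact ⟨g⁻¹ • y, h, smul_inv_smul g y⟩

lemma card_Tr (Γ : Finset Ω) (g : G) : (Tr Γ g).card = Γ.card := by
  unfold Tr
  exact Finset.card_image_of_injective _ (MulAction.injective g)

/-- double counting -/
lemma dcount (Γ : Finset Ω) (Q : G → Prop) [DecidablePred Q] (x : Ω) (hQ : ∀ g, Q g → x ∈ Tr Γ g) :
    ∑ y ∈ (univ : Finset Ω).erase x, (univ.filter (fun g : G => Q g ∧ y ∈ Tr Γ g)).card
      = (univ.filter Q).card * (Γ.card - 1) := by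
  simp only [Finset.card_filter]
  rw [Finset.sum_comm]
  rw [Finset.sum_mul]
  apply Finset.sum_congr rfl
  intro g _
  by_cases hg : Q g
  · simp only [hg, true_and, if_true, one_mul]
    rw [← Finset.card_filter]
    have : ((univ : Finset Ω).erase x).filter (fun y => y ∈ Tr Γ g) = (Tr Γ g).erase x := by
      ext y
      simp only [Finset.mem_filter, Finset.mem_erase, Finset.mem_univ, and_true]
    rw [this, Finset.card_erase_of_mem (hQ g hg), card_Tr]
  · simp [hg]

lemma count_split (P Q : G → Prop) [DecidablePred P] [DecidablePred Q] :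
    (univ.filter P).card = (univ.filter (fun g => P g ∧ Q g)).card
      + (univ.filter (fun g => P g ∧ ¬ Q g)).card := by
  rw [← Finset.filter_filter, ← Finset.filter_filter]
  exact (Finset.card_filter_add_card_filter_not (s := univ.filter P) Q).symm

end count

section core
open Finset

variable {G Ω : Type*} [Group G] [Fintype G] [MulAction G Ω] [Fintype Ω] [DecidableEq Ω]

lemma mem_Tr_mul (Γ : Finset Ω) (h g : G) (x : Ω) : h • x ∈ Tr Γ (h * g) ↔ x ∈ Tr Γ g := by
  rw [mem_Tr, mem_Tr, mul_inv_rev, mul_smul, inv_smul_smul]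

lemma card_filter_mulLeft (h : G) (P Q : G → Prop) [DecidablePred P] [DecidablePred Q]
    (hPQ : ∀ g, P g ↔ Q (h * g)) : (univ.filter P).card = (univ.filter Q).card := by
  apply Finset.card_equiv (Equiv.mulLeft h)
  intro g
  simp [hPQ]

/-- number of translates through a point -/
def cnt1 (G : Type*) {Ω : Type*} [Group G] [Fintype G] [MulAction G Ω] [DecidableEq Ω]
    (Γ : Finset Ω) (x : Ω) : ℕ := (univ.filter (fun g : G => x ∈ Tr Γ g)).card

/-- number of translates through two points -/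
def cnt2 (G : Type*) {Ω : Type*} [Group G] [Fintype G] [MulAction G Ω] [DecidableEq Ω]
    (Γ : Finset Ω) (x y : Ω) : ℕ :=
  (univ.filter (fun g : G => x ∈ Tr Γ g ∧ y ∈ Tr Γ g)).card

lemma cnt2_smul (Γ : Finset Ω) (h : G) (x y : Ω) :
    cnt2 G Γ (h • x) (h • y) = cnt2 G Γ x y := by
  unfold cnt2
  symm
  apply card_filter_mulLeft h
  intro g
  rw [mem_Tr_mul, mem_Tr_mul]

lemma cnt2_eq (Γ : Finset Ω)
    (h2 : ∀ a b c d : Ω, a ≠ b → c ≠ d → ∃ g : G, g • a = c ∧ g • b = d)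
    (x y x' y' : Ω) (hxy : x ≠ y) (hxy' : x' ≠ y') : cnt2 G Γ x y = cnt2 G Γ x' y' := by
  obtain ⟨g, hg1, hg2⟩ := h2 x y x' y' hxy hxy'
  have := cnt2_smul Γ g x y
  rw [hg1, hg2] at this
  exact this.symm

lemma cnt_identity (Γ : Finset Ω)
    (h2 : ∀ a b c d : Ω, a ≠ b → c ≠ d → ∃ g : G, g • a = c ∧ g • b = d)
    (x y₀ : Ω) (hxy : x ≠ y₀) :
    cnt1 G Γ x * (Γ.card - 1) = (Fintype.card Ω - 1) * cnt2 G Γ x y₀ := by
  have hd := dcount Γ (fun g : G => x ∈ Tr Γ g) x (fun g hg => hg)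
  unfold cnt1
  rw [← hd]
  have hc : ∀ y ∈ (univ : Finset Ω).erase x,
      (univ.filter (fun g : G => x ∈ Tr Γ g ∧ y ∈ Tr Γ g)).card = cnt2 G Γ x y₀ := by
    intro y hy
    have hyx : x ≠ y := fun h => (Finset.mem_erase.mp hy).1 h.symm
    exact cnt2_eq Γ h2 x y x y₀ hyx hxy
  rw [Finset.sum_congr rfl hc, Finset.sum_const, Finset.card_erase_of_mem (mem_univ x),
    Finset.card_univ, smul_eq_mul]

lemma cnt2_pos (Γ : Finset Ω) (hm : 2 ≤ Γ.card)
    (h2 : ∀ a b c d : Ω, a ≠ b → c ≠ d → ∃ g : G, g • a = c ∧ g • b = d)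
    (x y : Ω) (hxy : x ≠ y) : 0 < cnt2 G Γ x y := by
  obtain ⟨x₀, hx₀, y₀, hy₀, hne⟩ := Finset.one_lt_card.mp hm
  obtain ⟨g, hg1, hg2⟩ := h2 x₀ y₀ x y hne hxy
  unfold cnt2
  apply Finset.card_pos.mpr
  refine ⟨g, ?_⟩
  simp only [mem_filter, mem_univ, true_and, mem_Tr]
  rw [← hg1, ← hg2, inv_smul_smul, inv_smul_smul]
  exact ⟨hx₀, hy₀⟩

lemma Tr_jordan (Γ : Finset Ω)
    (htr : ∀ x ∈ Γ, ∀ y ∈ Γ, ∃ g : G, (∀ z ∉ Γ, g • z = z) ∧ g • x = y)
    (g : G) (x y : Ω) (hx : x ∈ Tr Γ g) (hy : y ∈ Tr Γ g) :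
    ∃ h : G, (∀ z ∉ Tr Γ g, h • z = z) ∧ h • x = y := by
  rw [mem_Tr] at hx hy
  obtain ⟨h₀, hfix, hmap⟩ := htr _ hx _ hy
  refine ⟨g * h₀ * g⁻¹, ?_, ?_⟩
  · intro z hz
    rw [mem_Tr] at hz
    rw [mul_smul, mul_smul, hfix _ hz, smul_inv_smul]
  · rw [mul_smul, mul_smul, hmap, smul_inv_smul]

lemma dichotomy (Γ : Finset Ω)
    (htr : ∀ x ∈ Γ, ∀ y ∈ Γ, ∃ g : G, (∀ z ∉ Γ, g • z = z) ∧ g • x = y)
    (a : Ω) (B : Finset Ω)
    (hblock : ∀ g : G, g • a = a → (∀ x ∈ B, g • x ∈ B) ∨ (∀ x ∈ B, g • x ∉ B))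
    (g : G) (ha : a ∉ Tr Γ g) (β : Ω) (hβB : β ∈ B) (hβT : β ∈ Tr Γ g) :
    B ⊆ Tr Γ g ∨ Tr Γ g ⊆ B := by
  by_contra hcon
  rw [not_or] at hcon
  obtain ⟨h1, h2⟩ := hcon
  obtain ⟨x, hxB, hxT⟩ := Finset.not_subset.mp h1
  obtain ⟨t, htT, htB⟩ := Finset.not_subset.mp h2
  obtain ⟨h, hfix, hmap⟩ := Tr_jordan Γ htr g β t hβT htT
  rcases hblock h (hfix a ha) with hb | hb
  · exact htB (hmap ▸ hb β hβB)
  · exact hb x hxB (by rw [hfix x hxT]; exact hxB)

end core

section core2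
open Finset

variable {G Ω : Type*} [Group G] [Fintype G] [MulAction G Ω] [Fintype Ω] [DecidableEq Ω]

lemma second_block (h2 : ∀ a b c d : Ω, a ≠ b → c ≠ d → ∃ g : G, g • a = c ∧ g • b = d)
    (a : Ω) (B : Finset Ω) (haB : a ∉ B) (β : Ω) (hβ : β ∈ B)
    (c : Ω) (hca : c ≠ a) (hcB : c ∉ B)
    (hblock : ∀ g : G, g • a = a → (∀ x ∈ B, g • x ∈ B) ∨ (∀ x ∈ B, g • x ∉ B)) :
    2 * B.card + 1 ≤ Fintype.card Ω := by
  have haβ : a ≠ β := fun h => haB (h ▸ hβ)
  obtain ⟨k, hk1, hk2⟩ := h2 a β a c haβ hca.symm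
  have hdisj : ∀ x ∈ B, k • x ∉ B := by
    rcases hblock k hk1 with hb | hb
    · exact absurd (hk2 ▸ hb β hβ) hcB
    · exact hb
  have hd1 : Disjoint B (B.image (fun x => k • x)) := by
    rw [Finset.disjoint_left]
    intro y hy hy'
    obtain ⟨x, hx, rfl⟩ := Finset.mem_image.mp hy'
    exact hdisj x hx hy
  have hd2 : Disjoint (B ∪ B.image (fun x => k • x)) {a} := by
    rw [Finset.disjoint_singleton_right, Finset.mem_union, not_or]
    refine ⟨haB, ?_⟩
    intro hy'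
    obtain ⟨x, hx, hxa⟩ := Finset.mem_image.mp hy'
    have : x = a := by
      have h' : k • x = k • a := by rw [hxa, hk1]
      exact MulAction.injective k h'
    exact haB (this ▸ hx)
  have hcard : (B ∪ B.image (fun x => k • x) ∪ {a}).card = 2 * B.card + 1 := by
    rw [Finset.card_union_of_disjoint hd2, Finset.card_union_of_disjoint hd1,
      Finset.card_image_of_injective _ (MulAction.injective k), Finset.card_singleton]
    ring
  rw [← hcard]
  exact Finset.card_le_univ _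

theorem marggraf_core (Γ : Finset Ω) (hm : 2 ≤ Γ.card) (hn : 2 * Γ.card ≤ Fintype.card Ω)
    (htr : ∀ x ∈ Γ, ∀ y ∈ Γ, ∃ g : G, (∀ z ∉ Γ, g • z = z) ∧ g • x = y)
    (h2 : ∀ a b c d : Ω, a ≠ b → c ≠ d → ∃ g : G, g • a = c ∧ g • b = d)
    (a : Ω) (B : Finset Ω) (haB : a ∉ B) (hB2 : 2 ≤ B.card)
    (c : Ω) (hca : c ≠ a) (hcB : c ∉ B)
    (hblock : ∀ g : G, g • a = a → (∀ x ∈ B, g • x ∈ B) ∨ (∀ x ∈ B, g • x ∉ B)) : False := by
  obtain ⟨β, hβ, γ, hγ, hβγ⟩ := Finset.one_lt_card.mp hB2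
  have haβ : a ≠ β := fun h => haB (h ▸ hβ)
  have haγ : a ≠ γ := fun h => haB (h ▸ hγ)
  have hnb := second_block h2 a B haB β hβ c hca hcB hblock
  have hid := cnt_identity Γ h2 β γ hβγ
  have hLpos := cnt2_pos Γ hm h2 β γ hβγ
  obtain ⟨m', hm'⟩ : ∃ m', Γ.card = m' + 1 := ⟨Γ.card - 1, by omega⟩
  obtain ⟨n', hn'⟩ : ∃ n', Fintype.card Ω = n' + 1 := ⟨Fintype.card Ω - 1, by omega⟩
  obtain ⟨b', hb'⟩ : ∃ b', B.card = b' + 1 := ⟨B.card - 1, by omega⟩
  rw [hm', hn'] at hid
  simp only [Nat.add_sub_cancel] at hid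
  set L := cnt2 G Γ β γ with hL
  by_cases hbm : B.card ≤ Γ.card
  · -- case b ≤ m
    have hsplit := count_split (fun g : G => β ∈ Tr Γ g) (fun g : G => γ ∈ Tr Γ g)
    have hle : (univ.filter (fun g : G => β ∈ Tr Γ g ∧ ¬ γ ∈ Tr Γ g)).card
        ≤ (univ.filter (fun g : G => a ∈ Tr Γ g ∧ β ∈ Tr Γ g)).card := by
      apply Finset.card_le_card
      intro g hg
      simp only [mem_filter, mem_univ, true_and] at hg ⊢
      obtain ⟨hβT, hγT⟩ := hg
      refine ⟨?_, hβT⟩
      by_contra haT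
      rcases dichotomy Γ htr a B hblock g haT β hβ hβT with h | h
      · exact hγT (h hγ)
      · have : Tr Γ g = B := Finset.eq_of_subset_of_card_le h (by rw [card_Tr]; exact hbm)
        exact hγT (this ▸ hγ)
    have haβL : (univ.filter (fun g : G => a ∈ Tr Γ g ∧ β ∈ Tr Γ g)).card = L :=
      cnt2_eq Γ h2 a β β γ haβ hβγ
    have h1 : cnt1 G Γ β = L + (univ.filter (fun g : G => β ∈ Tr Γ g ∧ ¬ γ ∈ Tr Γ g)).card :=
      hsplit
    have h3 : cnt1 G Γ β ≤ 2 * L := by omega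
    have h4 : n' * L ≤ 2 * L * m' := by
      calc n' * L = cnt1 G Γ β * m' := hid.symm
        _ ≤ 2 * L * m' := Nat.mul_le_mul_right _ h3
    have h5 : L * n' ≤ L * (2 * m') := by nlinarith
    have h6 := Nat.le_of_mul_le_mul_left h5 hLpos
    omega
  · -- case m < b
    rw [not_le] at hbm
    have hsplit := count_split (fun g : G => β ∈ Tr Γ g) (fun g : G => a ∈ Tr Γ g)
    have hβaL : (univ.filter (fun g : G => β ∈ Tr Γ g ∧ a ∈ Tr Γ g)).card = L :=
      cnt2_eq Γ h2 β a β γ haβ.symm hβγ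
    set D := (univ.filter (fun g : G => β ∈ Tr Γ g ∧ ¬ a ∈ Tr Γ g)).card with hD
    have h1 : cnt1 G Γ β = L + D := by
      have : cnt1 G Γ β = (univ.filter (fun g : G => β ∈ Tr Γ g ∧ a ∈ Tr Γ g)).card + D := hsplit
      rw [this, hβaL]
    have hd := dcount Γ (fun g : G => β ∈ Tr Γ g ∧ ¬ a ∈ Tr Γ g) β (fun g hg => hg.1)
    rw [hm'] at hd
    simp only [Nat.add_sub_cancel] at hd
    have hbound : ∑ y ∈ (univ : Finset Ω).erase β,
        (univ.filter (fun g : G => (β ∈ Tr Γ g ∧ ¬ a ∈ Tr Γ g) ∧ y ∈ Tr Γ g)).card ≤ b' * L := by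
      have hsub : B.erase β ⊆ (univ : Finset Ω).erase β :=
        Finset.erase_subset_erase β (Finset.subset_univ B)
      rw [← Finset.sum_subset hsub]
      · have hcard : (B.erase β).card = b' := by
          rw [Finset.card_erase_of_mem hβ, hb']; rfl
        rw [← hcard, ← smul_eq_mul]
        apply Finset.sum_le_card_nsmul
        intro y hy
        have hyβ : y ≠ β := (Finset.mem_erase.mp hy).1
        have : (univ.filter (fun g : G => β ∈ Tr Γ g ∧ y ∈ Tr Γ g)).card = L :=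
          cnt2_eq Γ h2 β y β γ hyβ.symm hβγ
        rw [← this]
        apply Finset.card_le_card
        intro g hg
        simp only [mem_filter, mem_univ, true_and] at hg ⊢
        exact ⟨hg.1.1, hg.2⟩
      · intro y hy hyB
        have hyβ : y ≠ β := (Finset.mem_erase.mp hy).1
        have hyB' : y ∉ B := fun h => hyB (Finset.mem_erase.mpr ⟨hyβ, h⟩)
        apply Finset.card_eq_zero.mpr
        apply Finset.filter_eq_empty_iff.mpr
        intro g _ hg
        obtain ⟨⟨hβT, haT⟩, hyT⟩ := hg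
        rcases dichotomy Γ htr a B hblock g haT β hβ hβT with h | h
        · have := Finset.card_le_card h
          rw [card_Tr] at this
          omega
        · exact hyB' (h hyT)
    rw [hd] at hbound
    rw [h1] at hid
    have h5 : L * n' ≤ L * (m' + b') := by nlinarith
    have h6 := Nat.le_of_mul_le_mul_left h5 hLpos
    omega

end core2

/-- Let G be a finite primitive permutation group on Ω of degree n and Γ ⊂ Ω a subset with 1 < #Γ ≤ n/2 such that the pointwise stabilizer of Ω ∖ Γ is transitive on Γ. Then G is 3-transitive on Ω. -/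
theorem result {G Ω : Type*} [Group G] [Finite G] [MulAction G Ω] [FaithfulSMul G Ω] [Finite Ω] (hprim : MulAction.IsPreprimitive G Ω) (Γ : Set Ω) (h1 : 1 < Γ.ncard) (h2 : 2 * Γ.ncard ≤ Nat.card Ω) (htr : ∀ x ∈ Γ, ∀ y ∈ Γ, ∃ g : G, (∀ z ∉ Γ, g • z = z) ∧ g • x = y) : MulAction.IsMultiplyPretransitive G Ω 3 := by
  classical
  haveI : Fintype G := Fintype.ofFinite G
  haveI : Fintype Ω := Fintype.ofFinite Ω
  have hΓfin : Γ.Finite := Set.toFinite Γ
  have hmemΓ : ∀ x, x ∈ hΓfin.toFinset ↔ x ∈ Γ := fun x => Set.Finite.mem_toFinset hΓfin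
  have hcardΓ : hΓfin.toFinset.card = Γ.ncard := (Set.ncard_eq_toFinset_card Γ hΓfin).symm
  have hnc : Nat.card Ω = Fintype.card Ω := Nat.card_eq_fintype_card
  have hcompl : Γ.ncard + (Γᶜ).ncard = Nat.card Ω := Set.ncard_add_ncard_compl Γ
  have htrf : ∀ x ∈ hΓfin.toFinset, ∀ y ∈ hΓfin.toFinset,
      ∃ g : G, (∀ z ∉ hΓfin.toFinset, g • z = z) ∧ g • x = y := by
    intro x hx y hy
    obtain ⟨g, hfix, hmap⟩ := htr x ((hmemΓ x).mp hx) y ((hmemΓ y).mp hy)
    exact ⟨g, fun z hz => hfix z (fun h => hz ((hmemΓ z).mpr h)), hmap⟩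
  -- step 1: 2-transitivity by Jordan
  have hsn : (Γᶜ).ncard = (Nat.card Ω - Γ.ncard - 1) + 1 := by omega
  have hsn' : (Nat.card Ω - Γ.ncard - 1) + 2 < Nat.card Ω := by omega
  have hs_trans : MulAction.IsPretransitive (fixingSubgroup G Γᶜ)
      (SubMulAction.ofFixingSubgroup G Γᶜ) := by
    constructor
    intro x y
    have hx : (x : Ω) ∈ Γ := Set.notMem_compl_iff.mp x.prop
    have hy : (y : Ω) ∈ Γ := Set.notMem_compl_iff.mp y.prop
    obtain ⟨g, hfix, hmap⟩ := htr _ hx _ hy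
    refine ⟨⟨g, ?_⟩, ?_⟩
    · rw [mem_fixingSubgroup_iff]
      intro z hz
      exact hfix z hz
    · apply Subtype.ext
      exact hmap
  have h2t : MulAction.IsMultiplyPretransitive G Ω 2 :=
    hprim.is_two_pretransitive hsn hsn' hs_trans
  have h2e : ∀ a b c d : Ω, a ≠ b → c ≠ d → ∃ g : G, g • a = c ∧ g • b = d := by
    intro a b c d hab hcd
    exact MulAction.is_two_pretransitive_iff.mp h2t hab hcd
  -- pick a point outside Γ
  obtain ⟨a, ha⟩ : (Γᶜ).Nonempty := by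
    apply Set.nonempty_of_ncard_ne_zero
    omega
  have haΓ : a ∉ Γ := ha
  haveI hpt : MulAction.IsPretransitive G Ω := hprim.toIsPretransitive
  have hKX : MulAction.IsPretransitive (MulAction.stabilizer G a)
      (SubMulAction.ofStabilizer G a) := by
    rw [← MulAction.is_one_pretransitive_iff,
      ← SubMulAction.ofStabilizer.isMultiplyPretransitive]
    exact h2t
  -- step 2: the stabilizer is primitive
  have hKprim : MulAction.IsPreprimitive (MulAction.stabilizer G a)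
      (SubMulAction.ofStabilizer G a) := by
    refine { toIsPretransitive := hKX, isTrivialBlock_of_isBlock := ?_ }
    intro B hB
    by_contra hnt
    unfold MulAction.IsTrivialBlock at hnt
    rw [not_or] at hnt
    obtain ⟨hns, hntop⟩ := hnt
    have hmemB : ∀ x : Ω, x ∈ (Subtype.val '' B).toFinset ↔
        ∃ x' : SubMulAction.ofStabilizer G a, x' ∈ B ∧ (x' : Ω) = x := by
      intro x
      rw [Set.mem_toFinset, Set.mem_image]
    have haBf : a ∉ (Subtype.val '' B).toFinset := by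
      rw [hmemB]
      rintro ⟨x', _, hx'⟩
      exact x'.prop hx'
    have hB2 : 2 ≤ (Subtype.val '' B).toFinset.card := by
      rw [Set.not_subsingleton_iff] at hns
      obtain ⟨x, hx, y, hy, hxy⟩ := hns
      apply Finset.one_lt_card.mpr
      refine ⟨x, (hmemB _).mpr ⟨x, hx, rfl⟩, y, (hmemB _).mpr ⟨y, hy, rfl⟩, ?_⟩
      exact fun h => hxy (Subtype.ext h)
    obtain ⟨c', hc'⟩ := (Set.ne_univ_iff_exists_notMem B).mp hntop
    have hca : (c' : Ω) ≠ a := c'.prop
    have hcB : (c' : Ω) ∉ (Subtype.val '' B).toFinset := by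
      rw [hmemB]
      rintro ⟨x', hx'B, hx'⟩
      exact hc' (Subtype.ext hx' ▸ hx'B)
    have hblock : ∀ g : G, g • a = a →
        (∀ x ∈ (Subtype.val '' B).toFinset, g • x ∈ (Subtype.val '' B).toFinset) ∨
        (∀ x ∈ (Subtype.val '' B).toFinset, g • x ∉ (Subtype.val '' B).toFinset) := by
      intro g hga
      rcases MulAction.isBlock_iff_smul_eq_or_disjoint.mp hB
        (⟨g, MulAction.mem_stabilizer_iff.mpr hga⟩ : MulAction.stabilizer G a) with h | h
      · left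
        intro x hx
        obtain ⟨x', hx'B, rfl⟩ := (hmemB x).mp hx
        rw [hmemB]
        refine ⟨(⟨g, MulAction.mem_stabilizer_iff.mpr hga⟩ : MulAction.stabilizer G a) • x',
          ?_, rfl⟩
        rw [← h]
        exact Set.smul_mem_smul_set hx'B
      · right
        intro x hx hgx
        obtain ⟨x', hx'B, rfl⟩ := (hmemB x).mp hx
        obtain ⟨y', hy'B, hy'⟩ := (hmemB _).mp hgx
        have hy'eq : y' = (⟨g, MulAction.mem_stabilizer_iff.mpr hga⟩ :
            MulAction.stabilizer G a) • x' := Subtype.ext hy'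
        rw [Set.disjoint_left] at h
        exact h (Set.smul_mem_smul_set hx'B) (hy'eq ▸ hy'B)
    exact marggraf_core hΓfin.toFinset (by rw [hcardΓ]; omega) (by rw [hcardΓ, ← hnc]; exact h2)
      htrf h2e a (Subtype.val '' B).toFinset haBf hB2 (c' : Ω) hca hcB hblock
  -- step 3: Jordan again for the stabilizer
  have himg : Subtype.val '' {x : SubMulAction.ofStabilizer G a | (x : Ω) ∉ Γ} = Γᶜ \ {a} := by
    ext x
    constructor
    · rintro ⟨x', hx', rfl⟩
      exact ⟨hx', x'.prop⟩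
    · rintro ⟨hxΓ, hxa⟩
      exact ⟨⟨x, hxa⟩, hxΓ, rfl⟩
  have hs'card : ({x : SubMulAction.ofStabilizer G a | (x : Ω) ∉ Γ}).ncard
      = (Γᶜ).ncard - 1 := by
    rw [← Set.ncard_image_of_injective _ Subtype.val_injective, himg,
      Set.ncard_sdiff_singleton_of_mem ha]
  have hXcard : Nat.card (SubMulAction.ofStabilizer G a) + 1 = Nat.card Ω :=
    SubMulAction.nat_card_ofStabilizer_add_one_eq G a
  have hsn1 : ({x : SubMulAction.ofStabilizer G a | (x : Ω) ∉ Γ}).ncard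
      = (Nat.card Ω - Γ.ncard - 2) + 1 := by
    rw [hs'card]; omega
  have hsn1' : (Nat.card Ω - Γ.ncard - 2) + 2 < Nat.card (SubMulAction.ofStabilizer G a) := by
    omega
  have hs_trans' : MulAction.IsPretransitive
      (fixingSubgroup (MulAction.stabilizer G a)
        {x : SubMulAction.ofStabilizer G a | (x : Ω) ∉ Γ})
      (SubMulAction.ofFixingSubgroup (MulAction.stabilizer G a)
        {x : SubMulAction.ofStabilizer G a | (x : Ω) ∉ Γ}) := by
    constructor
    intro x y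
    have hx : ((x : SubMulAction.ofStabilizer G a) : Ω) ∈ Γ := not_not.mp x.prop
    have hy : ((y : SubMulAction.ofStabilizer G a) : Ω) ∈ Γ := not_not.mp y.prop
    obtain ⟨g, hfix, hmap⟩ := htr _ hx _ hy
    have hga : g • a = a := hfix a haΓ
    refine ⟨⟨⟨g, MulAction.mem_stabilizer_iff.mpr hga⟩, ?_⟩, ?_⟩
    · rw [mem_fixingSubgroup_iff]
      intro z hz
      apply Subtype.ext
      exact hfix z.val hz
    · apply Subtype.ext
      apply Subtype.ext
      exact hmap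
  have h2K : MulAction.IsMultiplyPretransitive (MulAction.stabilizer G a)
      (SubMulAction.ofStabilizer G a) 2 :=
    hKprim.is_two_pretransitive hsn1 hsn1' hs_trans'
  rw [show (3 : ℕ) = Nat.succ 2 from rfl,
    SubMulAction.ofStabilizer.isMultiplyPretransitive (a := a)]
  exact h2K

end Cfsg.Agent.S3707
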