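import Cfsg.Statements.S3733
import Mathlib

set_option autoImplicit false
open Cfsg

namespace Cfsg.Agent.S3733

/-- Let A and V be subgroups of a finite group with V abelian and nontrivial and A normalizing V. Suppose a nonempty finite family of proper subgroups of A partitions A: every non-identity element of A lies in exactly one member. If the number of members minus one is coprime to the order of V, then some member B of the family has a non-identity fixed point on V, that is V ∩ C(B) ≠ 1. -/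
theorem result {G : Type*} [Group G] [Finite G] (A V : Subgroup G) (hVab : IsMulCommutative V) (hV : V ≠ ⊥) (hAV : A ≤ Subgroup.normalizer (V : Set G)) (𝒜 : Finset (Subgroup G)) (hne : 𝒜.Nonempty) (hprop : ∀ B ∈ 𝒜, B < A) (hpart : ∀ a ∈ A, a ≠ 1 → ∃! B, B ∈ 𝒜 ∧ a ∈ B) (hk : (𝒜.card - 1).Coprime (Nat.card V)) : ∃ B ∈ 𝒜, V ⊓ Subgroup.centralizer (B : Set G) ≠ ⊥ := by
  classical
  by_contra hcon
  push Not at hcon
  have : Fintype G := Fintype.ofFinite G
  let _ : CommGroup V := { (inferInstance : Group V) with mul_comm := fun a b => mul_comm' a b }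
  -- conjugation action of A on V
  have hconj : ∀ a ∈ A, ∀ v ∈ V, a * v * a⁻¹ ∈ V := by
    intro a ha v hv
    exact (Subgroup.mem_normalizer_iff.mp (hAV ha) v).1 hv
  -- it suffices to show every v ∈ V is trivial
  apply hV
  rw [Subgroup.eq_bot_iff_forall]
  intro v hv
  -- the function f
  let f : G → V := fun a => if h : a ∈ A then ⟨a * v * a⁻¹, hconj a h v hv⟩ else 1
  have hf : ∀ a (h : a ∈ A), f a = ⟨a * v * a⁻¹, hconj a h v hv⟩ := by
    intro a h; simp only [f, dif_pos h]
  let S : Subgroup G → Finset G := fun B => Finset.univ.filter (· ∈ B)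
  have hS : ∀ B a, a ∈ S B ↔ a ∈ B := by
    intro B a; simp [S]
  -- norm over a subgroup B ≤ A is fixed by B
  have hnorm : ∀ B : Subgroup G, B ≤ A →
      ((∏ b ∈ S B, f b : V) : G) ∈ V ⊓ Subgroup.centralizer (B : Set G) := by
    intro B hBA
    refine Subgroup.mem_inf.mpr ⟨(∏ b ∈ S B, f b : V).2, ?_⟩
    rw [Subgroup.mem_centralizer_iff]
    intro c hc
    have hcA : c ∈ A := hBA hc
    -- conjugation by c as a hom V →* V
    let φ : V →* V :=
      { toFun := fun w => ⟨c * w * c⁻¹, hconj c hcA w w.2⟩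
        map_one' := by ext; simp
        map_mul' := by intro w₁ w₂; ext; simp [mul_assoc] }
    have h1 : φ (∏ b ∈ S B, f b) = ∏ b ∈ S B, f b := by
      rw [map_prod]
      apply Finset.prod_bij (fun b _ => c * b)
      · intro b hb
        rw [hS] at hb ⊢
        exact B.mul_mem hc hb
      · intro b₁ _ b₂ _ h
        exact mul_left_cancel h
      · intro b hb
        rw [hS] at hb
        refine ⟨c⁻¹ * b, ?_, by simp⟩
        rw [hS]
        exact B.mul_mem (B.inv_mem hc) hb
      · intro b hb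
        rw [hS] at hb
        have hbA : b ∈ A := hBA hb
        rw [hf b hbA, hf (c * b) (A.mul_mem hcA hbA)]
        ext
        simp [φ, mul_assoc]
    have h2 := congrArg Subtype.val h1
    simp only [φ, MonoidHom.coe_mk, OneHom.coe_mk] at h2
    -- h2 : c * P * c⁻¹ = P
    calc c * ((∏ b ∈ S B, f b : V) : G) = (c * ((∏ b ∈ S B, f b : V) : G) * c⁻¹) * c := by
          simp [mul_assoc]
      _ = ((∏ b ∈ S B, f b : V) : G) * c := by rw [h2]
  have hnormB : ∀ B ∈ 𝒜, (∏ b ∈ S B, f b : V) = 1 := by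
    intro B hB
    have := hnorm B (hprop B hB).le
    rw [hcon B hB] at this
    exact Subtype.ext (Subgroup.mem_bot.mp this)
  have hnormA : (∏ b ∈ S A, f b : V) = 1 := by
    obtain ⟨B, hB⟩ := hne
    have h1 := hnorm A le_rfl
    have h2 : ((∏ b ∈ S A, f b : V) : G) ∈ V ⊓ Subgroup.centralizer (B : Set G) := by
      refine Subgroup.mem_inf.mpr ⟨(Subgroup.mem_inf.mp h1).1, ?_⟩
      exact Subgroup.centralizer_le (by
        intro x hx; exact (hprop B hB).le hx) (Subgroup.mem_inf.mp h1).2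
    rw [hcon B hB] at h2
    exact Subtype.ext (Subgroup.mem_bot.mp h2)
  -- decomposition of S A
  have hdecomp : S A = insert 1 (𝒜.biUnion (fun B => (S B).erase 1)) := by
    ext a
    simp only [hS, Finset.mem_insert, Finset.mem_biUnion, Finset.mem_erase]
    constructor
    · intro ha
      by_cases h1 : a = 1
      · left; exact h1
      · right
        obtain ⟨B, ⟨hB, haB⟩, _⟩ := hpart a ha h1
        exact ⟨B, hB, h1, haB⟩
    · rintro (rfl | ⟨B, hB, _, haB⟩)
      · exact A.one_mem
      · exact (hprop B hB).le haB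
  have hnotmem : (1 : G) ∉ 𝒜.biUnion (fun B => (S B).erase 1) := by
    simp
  have hdisj : (𝒜 : Set (Subgroup G)).PairwiseDisjoint (fun B => (S B).erase 1) := by
    intro B hB B' hB' hne'
    rw [Function.onFun, Finset.disjoint_left]
    intro a ha ha'
    rw [Finset.mem_erase, hS] at ha ha'
    obtain ⟨B₀, _, huniq⟩ := hpart a ((hprop B hB).le ha.2) ha.1
    have e1 := huniq B ⟨hB, ha.2⟩
    have e2 := huniq B' ⟨hB', ha'.2⟩
    exact hne' (e1.trans e2.symm)
  have hf1 : f 1 = ⟨v, hv⟩ := by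
    rw [hf 1 A.one_mem]; ext; simp
  have herase : ∀ B ∈ 𝒜, (∏ b ∈ (S B).erase 1, f b : V) = (⟨v, hv⟩ : V)⁻¹ := by
    intro B hB
    have h1 : (1 : G) ∈ S B := by rw [hS]; exact B.one_mem
    have := Finset.mul_prod_erase (S B) f h1
    rw [hnormB B hB, hf1] at this
    exact eq_inv_of_mul_eq_one_right this
  have hmain : (⟨v, hv⟩ : V) * ((⟨v, hv⟩ : V)⁻¹) ^ 𝒜.card = 1 := by
    rw [← hnormA, hdecomp, Finset.prod_insert hnotmem, Finset.prod_biUnion hdisj, hf1]
    congr 1
    rw [Finset.prod_congr rfl herase, Finset.prod_const]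
  -- conclude v^(k-1) = 1
  have hkpos : 1 ≤ 𝒜.card := Finset.card_pos.mpr hne
  have hpow : (⟨v, hv⟩ : V) ^ (𝒜.card - 1) = 1 := by
    obtain ⟨k, hk'⟩ : ∃ k, 𝒜.card = k + 1 := ⟨𝒜.card - 1, by omega⟩
    rw [hk'] at hmain ⊢
    rw [pow_succ, ← mul_assoc, mul_comm _ ((⟨v, hv⟩ : V)⁻¹ ^ k), mul_assoc, mul_inv_cancel,
      mul_one, inv_pow, inv_eq_one] at hmain
    simpa using hmain
  have h1 : orderOf (⟨v, hv⟩ : V) ∣ 𝒜.card - 1 := orderOf_dvd_of_pow_eq_one hpow
  have h2 : orderOf (⟨v, hv⟩ : V) ∣ Nat.card V := orderOf_dvd_natCard _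
  have h3 := Nat.eq_one_of_dvd_coprimes hk h1 h2
  have h4 := orderOf_eq_one_iff.mp h3
  exact congrArg Subtype.val h4

end Cfsg.Agent.S3733
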