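import Cfsg.Statements.S3734
import Mathlib
import Cfsg.Agent.Lib.Lead_CoprimeGen

set_option autoImplicit false
open Cfsg

namespace Cfsg.Agent.S3734

open Cfsg.Agent.Lib.Lead_SZ Cfsg.Agent.Lib.Lead_Coprime Cfsg.Agent.Lib.Lead_CoprimeGen

open scoped Pointwise commutatorElement

theorem inv_biSup {T : Type*} [Group T] (X : Subgroup T) (S : Set (Subgroup T))
    (f : Subgroup T → Subgroup T) (h : ∀ B ∈ S, X ≤ Subgroup.normalizer ((f B : Subgroup T) : Set T)) :
    X ≤ Subgroup.normalizer ((⨆ B ∈ S, f B : Subgroup T) : Set T) := by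
  refine le_trans ?_ (Subgroup.iInf_normalizer_le_normalizer_iSup _)
  refine le_iInf (fun B => ?_)
  refine le_trans ?_ (Subgroup.iInf_normalizer_le_normalizer_iSup _)
  exact le_iInf (fun hB => h B hB)


/-- Let A and G be subgroups of a finite group with A abelian, A normalizing G and the orders of A and G coprime. Then G is generated by the fixed-point subgroups C_G(B) of those subgroups B of A for which A/B is cyclic (that is, A = ⟨B, a⟩ for some a), and [G, A] is generated by the commutator subgroups [C_G(B), A] over the same subgroups B. -/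
theorem result {X : Type*} [Group X] [Finite X] (A G : Subgroup X) (hAab : IsMulCommutative A) (hAG : A ≤ Subgroup.normalizer (G : Set X)) (hcop : (Nat.card A).Coprime (Nat.card G)) : (⨆ B ∈ {B : Subgroup X | B ≤ A ∧ ∃ a ∈ A, B ⊔ Subgroup.zpowers a = A}, G ⊓ Subgroup.centralizer (B : Set X)) = G ∧ (⨆ B ∈ {B : Subgroup X | B ≤ A ∧ ∃ a ∈ A, B ⊔ Subgroup.zpowers a = A}, ⁅G ⊓ Subgroup.centralizer (B : Set X), A⁆) = ⁅G, A⁆ := by
  classical
  have hAc : ∀ a ∈ A, ∀ b ∈ A, a * b = b * a := by
    intro a ha b hb
    exact congrArg Subtype.val (mul_comm' (⟨a, ha⟩ : A) ⟨b, hb⟩)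
  have hAsolv : Group.IsSolvable A := by
    letI : CommGroup A :=
      { (inferInstance : Group A) with mul_comm := fun a b => Subtype.ext (hAc a a.2 b b.2) }
    infer_instance
  have hgen : gen A G = G := le_antisymm (gen_le A G) (main A hAc _ G rfl hAG hcop)
  refine ⟨hgen, ?_⟩
  set M : Subgroup X := ⨆ B ∈ cocyclic A, ⁅G ⊓ Subgroup.centralizer (B : Set X), A⁆ with hM
  show M = ⁅G, A⁆
  apply le_antisymm
  · apply iSup₂_le
    intro B hB
    exact Subgroup.commutator_mono inf_le_left le_rfl
  · -- invariance facts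
    have hinvB : ∀ B ∈ cocyclic A, A ≤ Subgroup.normalizer
        ((G ⊓ Subgroup.centralizer (B : Set X) : Subgroup X) : Set X) := fun B hB =>
      Cfsg.Agent.S3735.inv_inf A G _ hAG (centralizer_inv A B hAc hB.1)
    have hAM : A ≤ Subgroup.normalizer (M : Set X) := by
      apply inv_biSup A (cocyclic A) (fun B => ⁅G ⊓ Subgroup.centralizer (B : Set X), A⁆)
      intro B hB
      exact le_normalizer_commutator A _ A (hinvB B hB) Subgroup.le_normalizer
    set C := G ⊓ Subgroup.centralizer (A : Set X) with hC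
    have hCM : C ≤ Subgroup.normalizer (M : Set X) := by
      apply inv_biSup C (cocyclic A) (fun B => ⁅G ⊓ Subgroup.centralizer (B : Set X), A⁆)
      intro B hB
      have h1 : C ≤ Subgroup.normalizer
          ((G ⊓ Subgroup.centralizer (B : Set X) : Subgroup X) : Set X) := by
        apply Cfsg.Agent.S3735.inv_inf C G _ (inf_le_left.trans Subgroup.le_normalizer)
        have key : ∀ c ∈ C, ∀ x ∈ Subgroup.centralizer (B : Set X),
            c * x * c⁻¹ ∈ Subgroup.centralizer (B : Set X) := by
          intro c hc x hx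
          rw [Subgroup.mem_centralizer_iff] at hx ⊢
          intro b hb
          have h1 : Commute x b := (hx b hb).symm
          have h2 : Commute c b :=
            ((Subgroup.mem_centralizer_iff.mp (Subgroup.mem_inf.mp hc).2) b (hB.1 hb)).symm
          exact (((h2.mul_left h1).mul_left h2.inv_left) : Commute (c * x * c⁻¹) b).eq.symm
        intro c hc
        refine mem_normalizer_of_conj_mem (key c hc) ?_
        intro x hx
        have := key c⁻¹ (C.inv_mem hc) x hx
        rwa [inv_inv] at this
      have h2 : C ≤ Subgroup.normalizer (A : Set X) :=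
        inf_le_right.trans (Subgroup.centralizer_le_normalizer (A : Set X))
      exact le_normalizer_commutator C _ A h1 h2
    have hGMC : G ≤ M ⊔ C := by
      rw [← hgen]
      apply iSup₂_le
      intro B hB
      intro k hk
      have hcopB : (Nat.card A).Coprime
          (Nat.card (G ⊓ Subgroup.centralizer (B : Set X) : Subgroup X)) :=
        Nat.Coprime.coprime_dvd_right (Subgroup.card_dvd_of_le inf_le_left) hcop
      obtain ⟨n, hn, c, hc, rfl⟩ := decomp A _ (hinvB B hB) hcopB (Or.inl hAsolv) k hk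
      refine Subgroup.mul_mem _ (Subgroup.mem_sup_left ?_) (Subgroup.mem_sup_right ?_)
      · exact (le_iSup₂ (f := fun (B : Subgroup X) (_ : B ∈ cocyclic A) =>
          ⁅G ⊓ Subgroup.centralizer (B : Set X), A⁆) B hB) hn
      · exact Subgroup.mem_inf.mpr ⟨(Subgroup.mem_inf.mp (Subgroup.mem_inf.mp hc).1).1,
          (Subgroup.mem_inf.mp hc).2⟩
    rw [Subgroup.commutator_le]
    intro g hg a ha
    have h1 : g ∈ ((M ⊔ C : Subgroup X) : Set X) := hGMC hg
    rw [Subgroup.coe_mul_of_right_le_normalizer_left M C hCM] at h1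
    obtain ⟨m, hm, c, hc, rfl⟩ := Set.mem_mul.mp h1
    have hca : c * a = a * c :=
      (Subgroup.mem_centralizer_iff.mp (Subgroup.mem_inf.mp hc).2 a ha).symm
    have e : ⁅m * c, a⁆ = m * (a * m⁻¹ * a⁻¹) := by
      rw [commutatorElement_def]
      have : m * c * a * (m * c)⁻¹ * a⁻¹ = m * (c * a) * c⁻¹ * m⁻¹ * a⁻¹ := by group
      rw [this, hca]
      group
    rw [e]
    exact M.mul_mem hm ((Subgroup.mem_normalizer_iff.mp (hAM ha) m⁻¹).mp (M.inv_mem hm))

end Cfsg.Agent.S3734
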