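import Cfsg.Statements.S3736
import Mathlib
import Cfsg.Agent.Lib.Lead_Coprime
import Cfsg.Agent.Lib.Helper7_PFrattini
import Cfsg.Agent.Lib.Helper6_MinAction

set_option autoImplicit false
open Cfsg
open Cfsg.Agent.Lib.Lead_Coprime Cfsg.Agent.Lib.Helper6_MinAction Cfsg.Agent.Lib.Helper7_PFrattini
open scoped commutatorElement

namespace Cfsg.Agent.S3736

/-- The Hall–Higman reduction for a minimal non-trivial action. Let B, A and P be subgroups of a finite group with P a p-group, B normalizing P, and A a normal subgroup of B of order prime to p. Suppose A does not centralize P but centralizes every proper B-invariant subgroup of P. Then [P, A] = P; P is elementary abelian or special; B acts irreducibly on P/Φ(P), that is, the only B-invariant subgroups of P containing Φ(P) are Φ(P) and P; and if p is odd then every element of P has order dividing p. -/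
theorem result {X : Type*} [Group X] [Finite X] {p : ℕ} [Fact p.Prime] (B A P : Subgroup X) (hP : IsPGroup p P) (hBP : B ≤ Subgroup.normalizer (P : Set X)) (hAB : A ≤ B) (hAn : B ≤ Subgroup.normalizer (A : Set X)) (hAp : (Nat.card A).Coprime p) (hnt : ⁅P, A⁆ ≠ ⊥) (hmin : ∀ U : Subgroup X, U < P → B ≤ Subgroup.normalizer (U : Set X) → ⁅U, A⁆ = ⊥) : ⁅P, A⁆ = P ∧ (Cfsg.IsElementaryAbelian p P ∨ Cfsg.IsSpecial p ↥P) ∧ (∀ U : Subgroup X, (frattini ↥P).map P.subtype ≤ U → U ≤ P → B ≤ Subgroup.normalizer (U : Set X) → U = (frattini ↥P).map P.subtype ∨ U = P) ∧ (p ≠ 2 → ∀ x ∈ P, x ^ p = 1) := by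
  have hp := (Fact.out : p.Prime)
  have hAP : A ≤ Subgroup.normalizer (P : Set X) := hAB.trans hBP
  have hcopP : (Nat.card A).Coprime (Nat.card P) := by
    obtain ⟨k, hk⟩ := hP.exists_card_eq
    rw [hk]; exact Nat.Coprime.pow_right k hAp
  have hsolvP : Group.IsSolvable P := by
    haveI := hP.isNilpotent; infer_instance
  have hPne : P ≠ ⊥ := by
    rintro rfl
    exact hnt (Subgroup.commutator_bot_left A)
  -- Step 1
  have hPA_le : ⁅P, A⁆ ≤ P := commutator_le_of_le_normalizer P A hAP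
  have hBPA : B ≤ Subgroup.normalizer ((⁅P, A⁆ : Subgroup X) : Set X) :=
    le_normalizer_commutator B P A hBP hAn
  have h1 : ⁅P, A⁆ = P := by
    by_contra hne
    have hlt : ⁅P, A⁆ < P := lt_of_le_of_ne hPA_le hne
    have := hmin _ hlt hBPA
    rw [commutator_commutator_eq A P hAP hcopP (Or.inr hsolvP)] at this
    exact hnt this
  refine ⟨h1, ?_⟩
  -- characteristic subgroups
  have hchar : ∀ (C : Subgroup ↥P) [C.Characteristic], C ≠ ⊤ →
      ⁅C.map P.subtype, A⁆ = ⊥ ∧ C ≤ Subgroup.center ↥P := by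
    intro C _ hC
    have hlt : C.map P.subtype < P := by
      refine lt_of_le_of_ne (Subgroup.map_subtype_le C) ?_
      intro h
      apply hC
      rw [eq_top_iff]; intro x _
      have : (x : X) ∈ C.map P.subtype := by rw [h]; exact x.2
      obtain ⟨z, hz, hzx⟩ := this
      have : z = x := Subtype.ext hzx
      rwa [← this]
    have hB : B ≤ Subgroup.normalizer ((C.map P.subtype : Subgroup X) : Set X) :=
      hBP.trans (normalizer_le_normalizer_char_map C)
    have hCA := hmin _ hlt hB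
    refine ⟨hCA, ?_⟩
    have hPn : P ≤ Subgroup.normalizer ((C.map P.subtype : Subgroup X) : Set X) :=
      (Subgroup.le_normalizer).trans (normalizer_le_normalizer_char_map C)
    have hCP : ⁅C.map P.subtype, P⁆ ≤ C.map P.subtype :=
      commutator_le_of_le_normalizer _ _ hPn
    have e1 : ⁅⁅A, C.map P.subtype⁆, P⁆ = ⊥ := by
      rw [Subgroup.commutator_comm A, hCA, Subgroup.commutator_bot_left]
    have e2 : ⁅⁅C.map P.subtype, P⁆, A⁆ = ⊥ := by
      rw [eq_bot_iff, ← hCA]; exact Subgroup.commutator_mono hCP le_rfl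
    have e3 := Subgroup.commutator_commutator_eq_bot_of_rotate e1 e2
    rw [h1] at e3
    intro c hc
    rw [Subgroup.mem_center_iff]
    intro g
    have h2 : ⁅(g : X), (c : X)⁆ ∈ (⁅P, C.map P.subtype⁆ : Subgroup X) :=
      Subgroup.commutator_mem_commutator g.2 ⟨c, hc, rfl⟩
    rw [e3, Subgroup.mem_bot, commutatorElement_eq_one_iff_mul_comm] at h2
    exact Subtype.ext h2
  -- Frattini is proper
  haveI : Nontrivial ↥P := (Subgroup.nontrivial_iff_ne_bot P).mpr hPne
  have hfr : frattini ↥P ≠ ⊤ := by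
    intro h
    obtain ⟨M, hM⟩ : ∃ M : Subgroup ↥P, IsCoatom M := by
      rcases eq_top_or_exists_le_coatom (⊥ : Subgroup ↥P) with h | ⟨M, hM, _⟩
      · exact absurd h bot_ne_top
      · exact ⟨M, hM⟩
    have := frattini_le_coatom hM
    rw [h, top_le_iff] at this
    exact hM.1 this
  have hcf : commutator ↥P ≤ frattini ↥P := by
    rw [commutator_def, Subgroup.commutator_le]
    intro x _ y _
    exact comm_mem_frattini hP x y
  -- fixed points lie in the commutator subgroup
  have hK : ∀ U : Subgroup X, U ≤ P → ⁅U, A⁆ = ⊥ → U ≤ (commutator ↥P).map P.subtype := by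
    intro U hUP hUA u hu
    refine ⟨⟨u, hUP hu⟩, ?_, rfl⟩
    apply fixed_mem_commutator A P hP hAP hAp h1
    intro a ha
    have h2 : ⁅u, a⁆ ∈ (⁅U, A⁆ : Subgroup X) := Subgroup.commutator_mem_commutator hu ha
    rw [hUA, Subgroup.mem_bot, commutatorElement_eq_one_iff_mul_comm] at h2
    exact h2.symm
  -- irreducibility
  have part3 : ∀ U : Subgroup X, (frattini ↥P).map P.subtype ≤ U → U ≤ P →
      B ≤ Subgroup.normalizer (U : Set X) → U = (frattini ↥P).map P.subtype ∨ U = P := by
    intro U hΦU hUP hBU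
    by_cases hU : U = P
    · exact Or.inr hU
    · left
      have hUA := hmin U (lt_of_le_of_ne hUP hU) hBU
      exact le_antisymm ((hK U hUP hUA).trans (Subgroup.map_mono hcf)) hΦU
  -- p-th powers are centralized by A
  have hΦA := (hchar (frattini ↥P) hfr).1
  have hpowA : ∀ y ∈ P, ∀ a ∈ A, a * y ^ p = y ^ p * a := by
    intro y hy a ha
    have h2 : ⁅y ^ p, a⁆ ∈ (⁅(frattini ↥P).map P.subtype, A⁆ : Subgroup X) :=
      Subgroup.commutator_mem_commutator ⟨⟨y, hy⟩ ^ p, pow_mem_frattini hP _, rfl⟩ ha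
    rw [hΦA, Subgroup.mem_bot, commutatorElement_eq_one_iff_mul_comm] at h2
    exact h2.symm
  -- exponent p from multiplicativity of the power map
  have hexp : (∀ y ∈ P, ∀ z ∈ P, (y * z) ^ p = y ^ p * z ^ p) → ∀ x ∈ P, x ^ p = 1 := by
    intro hmul
    let T : Subgroup X :=
      { carrier := {y | y ∈ P ∧ y ^ p = 1}
        mul_mem' := by
          rintro y z ⟨hy, hy1⟩ ⟨hz, hz1⟩
          exact ⟨P.mul_mem hy hz, by rw [hmul y hy z hz, hy1, hz1, one_mul]⟩
        one_mem' := ⟨P.one_mem, one_pow p⟩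
        inv_mem' := by
          rintro y ⟨hy, hy1⟩
          exact ⟨P.inv_mem hy, by rw [inv_pow, hy1, inv_one]⟩ }
    have hT : ⁅P, A⁆ ≤ T := by
      rw [Subgroup.commutator_le]
      intro k hk a ha
      have hk' : a * k⁻¹ * a⁻¹ ∈ P :=
        (Subgroup.mem_normalizer_iff.mp (hAP ha) k⁻¹).mp (P.inv_mem hk)
      have e : ⁅k, a⁆ = k * (a * k⁻¹ * a⁻¹) := by
        simp only [commutatorElement_def]; group
      refine ⟨by rw [e]; exact P.mul_mem hk hk', ?_⟩
      rw [e, hmul k hk _ hk', conj_pow, inv_pow]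
      have h3 := hpowA k hk a ha
      have h4 : a * (k ^ p)⁻¹ * a⁻¹ = (k ^ p)⁻¹ := by
        have : a * (k ^ p)⁻¹ = (k ^ p)⁻¹ * a := by
          calc a * (k ^ p)⁻¹ = (k ^ p)⁻¹ * (k ^ p * a) * (k ^ p)⁻¹ := by group
            _ = (k ^ p)⁻¹ * (a * k ^ p) * (k ^ p)⁻¹ := by rw [h3]
            _ = (k ^ p)⁻¹ * a := by group
        rw [this]; group
      rw [h4, mul_inv_cancel]
    intro x hx
    have : x ∈ T := hT (by rw [h1]; exact hx)
    exact this.2
  by_cases hab : IsMulCommutative ↥P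
  · have hx : ∀ x ∈ P, x ^ p = 1 := by
      apply hexp
      intro y hy z hz
      have hc : Commute y z := by
        have := hab.is_comm.comm (⟨y, hy⟩ : ↥P) ⟨z, hz⟩
        show y * z = z * y
        exact congrArg Subtype.val this
      exact hc.mul_pow p
    exact ⟨Or.inl ⟨hab, hx⟩, part3, fun _ => hx⟩
  · have hZ : Subgroup.center ↥P ≠ ⊤ := by
      intro h
      apply hab
      refine ⟨⟨fun a b => ?_⟩⟩
      have hb : b ∈ Subgroup.center ↥P := by rw [h]; trivial
      exact (Subgroup.mem_center_iff.mp hb a)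
    have hZA := (hchar (Subgroup.center ↥P) hZ).1
    have hΦZ := (hchar (frattini ↥P) hfr).2
    have hD : commutator ↥P ≠ ⊤ := by
      intro h; rw [h, top_le_iff] at hcf; exact hfr hcf
    have hDZ := (hchar (commutator ↥P) hD).2
    have hZD : Subgroup.center ↥P ≤ commutator ↥P := by
      have := hK _ (Subgroup.map_subtype_le _) hZA
      intro z hz
      obtain ⟨w, hw, hwz⟩ := this ⟨z, hz, rfl⟩
      have : w = z := Subtype.ext hwz
      rwa [← this]
    have e1 : frattini ↥P = Subgroup.center ↥P :=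
      le_antisymm hΦZ (hZD.trans hcf)
    have e2 : commutator ↥P = Subgroup.center ↥P := le_antisymm hDZ hZD
    refine ⟨Or.inr ⟨hP, e1, e2⟩, part3, ?_⟩
    intro hp2
    apply hexp
    intro y hy z hz
    have hcen : ∀ r : ↥P, Commute ⁅(⟨z, hz⟩ : ↥P), ⟨y, hy⟩⁆ r := by
      intro r
      have hm : ⁅(⟨z, hz⟩ : ↥P), ⟨y, hy⟩⁆ ∈ Subgroup.center ↥P := by
        rw [← e2, commutator_def]
        exact Subgroup.commutator_mem_commutator (Subgroup.mem_top _) (Subgroup.mem_top _)
      exact (Subgroup.mem_center_iff.mp hm r).symm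
    have f1 := mul_pow_class_two (⟨y, hy⟩ : ↥P) ⟨z, hz⟩ hcen p
    have f2 := commutator_pow_class_two (⟨y, hy⟩ : ↥P) ⟨z, hz⟩ hcen p
    have f3 : ⁅(⟨z, hz⟩ : ↥P) ^ p, (⟨y, hy⟩ : ↥P)⁆ = 1 := by
      rw [commutatorElement_eq_one_iff_mul_comm]
      have hm : (⟨z, hz⟩ : ↥P) ^ p ∈ Subgroup.center ↥P := by
        rw [← e1]; exact pow_mem_frattini hP _
      exact (Subgroup.mem_center_iff.mp hm _).symm
    have f4 : p ∣ p.choose 2 := by
      apply Nat.Prime.dvd_choose_self hp (by norm_num)
      have := hp.two_le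
      omega
    obtain ⟨m, hm⟩ := f4
    rw [hm, pow_mul, ← f2, f3, one_pow, mul_one] at f1
    exact congrArg Subtype.val f1

end Cfsg.Agent.S3736
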