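import Cfsg.Statements.S3737
import Mathlib
import Cfsg.Agent.Lib.Lead_Coprime
import Cfsg.Agent.Lib.Helper3_BaerTrick

set_option autoImplicit false
open Cfsg

namespace Cfsg.Agent.S3737

open Cfsg.Agent.Lib Cfsg.Agent.Lib.Helper3_BaerTrick
open scoped commutatorElement

theorem mem_normalizer_commutator {X : Type*} [Group X] (H K : Subgroup X) (a : X)
    (hH : a ∈ Subgroup.normalizer (H : Set X)) (hK : a ∈ Subgroup.normalizer (K : Set X)) :
    a ∈ Subgroup.normalizer ((⁅H, K⁆ : Subgroup X) : Set X) := by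
  have key : ∀ b : X, b ∈ Subgroup.normalizer (H : Set X) → b ∈ Subgroup.normalizer (K : Set X) →
      ∀ n ∈ (⁅H, K⁆ : Subgroup X), b * n * b⁻¹ ∈ (⁅H, K⁆ : Subgroup X) := by
    intro b hbH hbK n hn
    rw [Subgroup.commutator_def] at hn ⊢
    refine Lead_Coprime.conj_mem_closure_of_forall ?_ n hn
    rintro s ⟨h, hh, k, hk, rfl⟩
    apply Subgroup.subset_closure
    refine ⟨b * h * b⁻¹, (Subgroup.mem_normalizer_iff.mp hbH h).mp hh, b * k * b⁻¹,
      (Subgroup.mem_normalizer_iff.mp hbK k).mp hk, ?_⟩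
    simp only [commutatorElement_def]; group
  refine Lead_Coprime.mem_normalizer_of_conj_mem (key a hH hK) ?_
  intro n hn
  have := key a⁻¹ (Subgroup.inv_mem _ hH) (Subgroup.inv_mem _ hK) n hn
  simpa using this

/-- conjugation action of the normalizer. -/
@[reducible] def conjAction {X : Type*} [Group X] (G : Subgroup X) :
    MulDistribMulAction ↥(Subgroup.normalizer (G : Set X)) ↥G where
  smul a x := ⟨(a : X) * x * (a : X)⁻¹, (Subgroup.mem_normalizer_iff.mp a.2 x).mp x.2⟩
  one_smul x := Subtype.ext (by show (1 : X) * x * (1 : X)⁻¹ = x; simp)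
  mul_smul a b x := Subtype.ext (by
    show ((a : X) * (b : X)) * x * ((a : X) * (b : X))⁻¹ = (a : X) * ((b : X) * x * (b : X)⁻¹) * (a : X)⁻¹
    group)
  smul_mul a x y := Subtype.ext (by
    show (a : X) * ((x : X) * (y : X)) * (a : X)⁻¹ = ((a : X) * x * (a : X)⁻¹) * ((a : X) * y * (a : X)⁻¹)
    group)
  smul_one a := Subtype.ext (by show (a : X) * (1 : X) * (a : X)⁻¹ = 1; simp)

theorem class_two_sub {X : Type*} [Group X] [Finite X] {p : ℕ} [Fact p.Prime] (hp : p ≠ 2)
    (P Q G : Subgroup X) (hP : IsPGroup p P) (hQ : (Nat.card Q).Coprime p)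
    (hPQ : P ≤ Subgroup.normalizer (Q : Set X)) (hG : IsPGroup p G)
    (hPG : P ≤ Subgroup.normalizer (G : Set X)) (hQG : Q ≤ Subgroup.normalizer (G : Set X))
    (hC : G ⊓ Subgroup.centralizer (P : Set X) ≤ Subgroup.centralizer (Q : Set X))
    (hc2 : G ≤ Subgroup.centralizer ((⁅G, G⁆ : Subgroup X) : Set X)) :
    Q ≤ Subgroup.centralizer (G : Set X) := by
  letI := conjAction G
  have hsm : ∀ (a : ↥(Subgroup.normalizer (G : Set X))) (x : ↥G),
      ((a • x : ↥G) : X) = (a : X) * x * (a : X)⁻¹ := fun a x => rfl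
  let P' := P.subgroupOf (Subgroup.normalizer (G : Set X))
  let Q' := Q.subgroupOf (Subgroup.normalizer (G : Set X))
  have hP' : IsPGroup p P' := hP.of_equiv (Subgroup.subgroupOfEquivOfLe hPG).symm
  have hQ' : (Nat.card Q').Coprime p := by
    rw [Nat.card_congr (Subgroup.subgroupOfEquivOfLe hQG).toEquiv]; exact hQ
  have hPQ' : ∀ a ∈ P', ∀ q ∈ Q', a * q * a⁻¹ ∈ Q' := by
    intro a ha q hq
    rw [Subgroup.mem_subgroupOf] at ha hq ⊢
    exact (Subgroup.mem_normalizer_iff.mp (hPQ ha) q).mp hq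
  have hc : ∀ a b c : ↥G, Commute ⁅a, b⁆ c := by
    intro a b c
    have h1 : ((⁅a, b⁆ : ↥G) : X) ∈ (⁅G, G⁆ : Subgroup X) := by
      have : ((⁅a, b⁆ : ↥G) : X) = ⁅(a : X), (b : X)⁆ := by
        simp only [commutatorElement_def]; rfl
      rw [this]
      exact Subgroup.commutator_mem_commutator a.2 b.2
    have h2 := Subgroup.mem_centralizer_iff.mp (hc2 c.2) _ h1
    exact Subtype.ext h2
  have hC' : ∀ x : ↥G, (∀ a ∈ P', a • x = x) → ∀ q ∈ Q', q • x = x := by
    intro x hx q hq
    have hxC : (x : X) ∈ Subgroup.centralizer (P : Set X) := by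
      rw [Subgroup.mem_centralizer_iff]
      intro a ha
      have h1 := hx ⟨a, hPG ha⟩ (Subgroup.mem_subgroupOf.mpr ha)
      have h2 : a * (x : X) * a⁻¹ = x := by
        have := congrArg Subtype.val h1
        rwa [hsm] at this
      calc a * (x : X) = (a * x * a⁻¹) * a := by group
        _ = x * a := by rw [h2]
    have hxQ := hC ⟨x.2, hxC⟩
    rw [Subgroup.mem_centralizer_iff] at hxQ
    have h3 := hxQ q (Subgroup.mem_subgroupOf.mp hq)
    apply Subtype.ext
    rw [hsm, h3]; group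
  have key := class_two_case hp hG hc P' Q' hP' hQ' hPQ' hC'
  intro q hq
  rw [Subgroup.mem_centralizer_iff]
  intro g hg
  have h1 := key ⟨q, hQG hq⟩ (Subgroup.mem_subgroupOf.mpr hq) ⟨g, hg⟩
  have h2 : q * g * q⁻¹ = g := by
    have := congrArg Subtype.val h1
    rwa [hsm] at this
  calc g * q = (q * g * q⁻¹) * q := by rw [h2]
    _ = q * g := by group

theorem comm_le_comm_comm {X : Type*} [Group X] [Finite X] {p : ℕ} [Fact p.Prime]
    (Q G : Subgroup X) (hQ : (Nat.card Q).Coprime p) (hG : IsPGroup p G)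
    (hQG : Q ≤ Subgroup.normalizer (G : Set X)) : ⁅G, Q⁆ ≤ ⁅⁅G, Q⁆, Q⁆ := by
  obtain ⟨k, hk⟩ := IsPGroup.iff_card.mp hG
  have hcop : (Nat.card Q).Coprime (Nat.card G) := by rw [hk]; exact hQ.pow_right k
  haveI := hG.isNilpotent
  have hsolv : Group.IsSolvable Q ∨ Group.IsSolvable G := Or.inr inferInstance
  rw [Subgroup.commutator_le]
  intro g hg q hq
  obtain ⟨n, hn, c, hc, rfl⟩ := Lead_Coprime.decomp Q G hQG hcop hsolv g hg
  have hcq := Subgroup.mem_centralizer_iff.mp hc.2 q hq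
  have e : ⁅n * c, q⁆ = ⁅n, q⁆ := by
    simp only [commutatorElement_def]
    calc n * c * q * (n * c)⁻¹ * q⁻¹ = n * (c * q) * c⁻¹ * n⁻¹ * q⁻¹ := by group
      _ = n * (q * c) * c⁻¹ * n⁻¹ * q⁻¹ := by rw [hcq]
      _ = n * q * n⁻¹ * q⁻¹ := by group
  rw [e]
  exact Subgroup.commutator_mem_commutator hn hq

theorem main {X : Type*} [Group X] [Finite X] {p : ℕ} [Fact p.Prime] (hp : p ≠ 2)
    (P Q : Subgroup X) (hP : IsPGroup p P) (hQ : (Nat.card Q).Coprime p)
    (hPQ : P ≤ Subgroup.normalizer (Q : Set X)) :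
    ∀ (n : ℕ) (G : Subgroup X), Nat.card G = n → IsPGroup p G →
      P ≤ Subgroup.normalizer (G : Set X) → Q ≤ Subgroup.normalizer (G : Set X) →
      G ⊓ Subgroup.centralizer (P : Set X) ≤ Subgroup.centralizer (Q : Set X) →
      Q ≤ Subgroup.centralizer (G : Set X) := by
  intro n
  induction n using Nat.strong_induction_on with
  | _ n ih =>
  intro G hn hG hPG hQG hC
  have hlt : ∀ H : Subgroup X, H ≤ G → H ≠ G → Nat.card H < n := by
    intro H hHG hne
    by_contra hcon
    push Not at hcon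
    exact hne (Subgroup.eq_of_le_of_card_ge hHG (hn ▸ hcon))
  have hG₁G : ⁅G, Q⁆ ≤ G := Lead_Coprime.commutator_le_of_le_normalizer G Q hQG
  have hPG₁ : P ≤ Subgroup.normalizer ((⁅G, Q⁆ : Subgroup X) : Set X) :=
    fun a ha => mem_normalizer_commutator G Q a (hPG ha) (hPQ ha)
  have hQG₁ : Q ≤ Subgroup.normalizer ((⁅G, Q⁆ : Subgroup X) : Set X) :=
    Lead_Coprime.le_normalizer_commutator_right G Q
  by_cases h1 : ⁅G, Q⁆ = G
  swap
  · have h2 := ih _ (hlt _ hG₁G h1) ⁅G, Q⁆ rfl (hG.to_le hG₁G) hPG₁ hQG₁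
      (le_trans (inf_le_inf_right _ hG₁G) hC)
    have h3 : ⁅⁅G, Q⁆, Q⁆ = ⊥ := by
      rw [Subgroup.commutator_eq_bot_iff_le_centralizer]
      exact Subgroup.le_centralizer_iff.mp h2
    have h4 : ⁅G, Q⁆ = ⊥ := by
      have := comm_le_comm_comm Q G hQ hG hQG
      rw [h3] at this
      exact le_bot_iff.mp this
    rw [Subgroup.commutator_eq_bot_iff_le_centralizer] at h4
    exact Subgroup.le_centralizer_iff.mp h4
  · by_cases hGbot : G = ⊥
    · rw [hGbot]
      intro q _
      rw [Subgroup.mem_centralizer_iff]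
      intro g hg
      have : g = 1 := hg
      rw [this, one_mul, mul_one]
    have hDG : ⁅G, G⁆ ≤ G := Subgroup.commutator_le_self G
    have hDne : ⁅G, G⁆ ≠ G := by
      intro heq
      haveI : Nontrivial ↥G := (Subgroup.nontrivial_iff_ne_bot G).mpr hGbot
      haveI := hG.isNilpotent
      have h5 := Group.IsSolvable.commutator_lt_top_of_nontrivial ↥G
      have h6 : (commutator ↥G).map G.subtype = (⊤ : Subgroup ↥G).map G.subtype := by
        rw [Subgroup.map_subtype_commutator, heq, ← MonoidHom.range_eq_map, Subgroup.range_subtype]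
      exact h5.ne (Subgroup.map_injective G.subtype_injective h6)
    have hPD : P ≤ Subgroup.normalizer ((⁅G, G⁆ : Subgroup X) : Set X) :=
      fun a ha => mem_normalizer_commutator G G a (hPG ha) (hPG ha)
    have hQD : Q ≤ Subgroup.normalizer ((⁅G, G⁆ : Subgroup X) : Set X) :=
      fun a ha => mem_normalizer_commutator G G a (hQG ha) (hQG ha)
    have h2 := ih _ (hlt _ hDG hDne) ⁅G, G⁆ rfl (hG.to_le hDG) hPD hQD
      (le_trans (inf_le_inf_right _ hDG) hC)
    have t1 : ⁅⁅Q, ⁅G, G⁆⁆, G⁆ = ⊥ := by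
      have : ⁅Q, ⁅G, G⁆⁆ = ⊥ := Subgroup.commutator_eq_bot_iff_le_centralizer.mpr h2
      rw [this, Subgroup.commutator_bot_left]
    have t2 : ⁅⁅⁅G, G⁆, G⁆, Q⁆ = ⊥ := by
      rw [Subgroup.commutator_eq_bot_iff_le_centralizer]
      refine le_trans ?_ (Subgroup.le_centralizer_iff.mp h2)
      exact Lead_Coprime.commutator_le_of_le_normalizer _ _
        (fun a ha => mem_normalizer_commutator G G a (Subgroup.le_normalizer ha)
          (Subgroup.le_normalizer ha))
    have t3 : ⁅⁅G, Q⁆, ⁅G, G⁆⁆ = ⊥ := Subgroup.commutator_commutator_eq_bot_of_rotate t1 t2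
    rw [h1, Subgroup.commutator_eq_bot_iff_le_centralizer] at t3
    exact class_two_sub hp P Q G hP hQ hPQ hG hPG hQG hC t3

/-- Thompson's strengthening of the P × Q lemma for odd primes. Let p be an odd prime and let P, Q and G be subgroups of a finite group with P a p-group, Q of order prime to p and normalized by P, and G a p-group normalized by both P and Q. If every element of G centralized by P is centralized by Q, then Q centralizes G. -/
theorem result {X : Type*} [Group X] [Finite X] {p : ℕ} [Fact p.Prime] (hp : p ≠ 2) (P Q G : Subgroup X) (hP : IsPGroup p P) (hQ : (Nat.card Q).Coprime p) (hPQ : P ≤ Subgroup.normalizer (Q : Set X)) (hG : IsPGroup p G) (hPG : P ≤ Subgroup.normalizer (G : Set X)) (hQG : Q ≤ Subgroup.normalizer (G : Set X)) (hC : G ⊓ Subgroup.centralizer (P : Set X) ≤ Subgroup.centralizer (Q : Set X)) : Q ≤ Subgroup.centralizer (G : Set X) := by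
  exact main hp P Q hP hQ hPQ (Nat.card G) G rfl hG hPG hQG hC

end Cfsg.Agent.S3737
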