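import Cfsg.Statements.S3744
import Mathlib
import Cfsg.Agent.Lib.Helper7_PSolvable
import Cfsg.Agent.Lib.Lead_SZ
import Cfsg.Agent.Lib.Helper1_Card

set_option autoImplicit false
open Cfsg
open scoped Pointwise

namespace Cfsg.Agent.S3744

open Cfsg.Agent.Lib.Helper7_PSolvable
open Cfsg.Agent.Lib.Lead_SZ (mem_conj_smul sz_conj sub_step conj_smul_smul)

universe u

/-- a number dividing a power of `p` and coprime to `p` is one -/
theorem eq_one_of_dvd_pow_of_coprime {p d m : ℕ} (h1 : d ∣ p ^ m) (h2 : d.Coprime p) : d = 1 :=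
  Nat.Coprime.eq_one_of_dvd (Nat.Coprime.pow_right m h2) h1

/-- dominance: in a `p`-solvable group every `p'`-subgroup is conjugate into a given Hall
`p'`-subgroup -/
theorem dominate (p : ℕ) (hp : p.Prime) : ∀ (n : ℕ) (G : Type u) [Group G] [Finite G],
    Nat.card G = n → Cfsg.IsPSolvable p G → ∀ H U : Subgroup G, (Nat.card H).Coprime p →
    (∃ m : ℕ, H.index = p ^ m) → (Nat.card U).Coprime p → ∃ g : G, MulAut.conj g • U ≤ H := by
  intro n
  induction n using Nat.strong_induction_on with
  | _ n ih =>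
    intro G _ _ hcard hG H U hH hHi hU
    have hfact : Fact p.Prime := ⟨hp⟩
    rcases subsingleton_or_nontrivial G with hsub | hnt
    · refine ⟨1, ?_⟩
      intro x _
      rw [Subsingleton.elim x 1]
      exact H.one_mem
    obtain ⟨N, hNn, hN1, hNpc⟩ := exists_normal_PorC hG
    obtain ⟨m, hm⟩ := hHi
    -- quotient
    have hlt : Nat.card (G ⧸ N) < n := by
      rw [← hcard, ← Subgroup.index_eq_card, ← Subgroup.card_mul_index N]
      have h1 : 1 < Nat.card N := by
        rw [Subgroup.one_lt_card_iff_ne_bot]; exact hN1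
      have h2 : 0 < N.index := Nat.pos_of_ne_zero Subgroup.index_ne_zero_of_finite
      nlinarith
    have hHbar : (Nat.card (H.map (QuotientGroup.mk' N))).Coprime p := by
      apply Nat.Coprime.coprime_dvd_left _ hH
      exact Subgroup.card_map_dvd _ _
    have hUbar : (Nat.card (U.map (QuotientGroup.mk' N))).Coprime p := by
      apply Nat.Coprime.coprime_dvd_left _ hU
      exact Subgroup.card_map_dvd _ _
    have hHbari : ∃ m' : ℕ, (H.map (QuotientGroup.mk' N)).index = p ^ m' := by
      have h1 : (H.map (QuotientGroup.mk' N)).index ∣ H.index :=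
        Subgroup.index_map_dvd H (QuotientGroup.mk'_surjective N)
      rw [hm] at h1
      obtain ⟨j, -, hj⟩ := (Nat.dvd_prime_pow hp).mp h1
      exact ⟨j, hj⟩
    obtain ⟨gbar, hgbar⟩ := ih _ hlt (G ⧸ N) rfl (quotient hp hG N) _ _ hHbar hHbari hUbar
    obtain ⟨g, rfl⟩ := QuotientGroup.mk_surjective gbar
    -- U' = conj g • U ≤ H ⊔ N
    set U' : Subgroup G := MulAut.conj g • U with hU'
    have hU'card : Nat.card U' = Nat.card U := Cfsg.Agent.Lib.Lead_SZ.card_conj_smul g U
    have hU'le : U' ≤ H ⊔ N := by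
      intro x hx
      have h1 : (QuotientGroup.mk' N) x ∈ MulAut.conj ((g : G) : G ⧸ N) • U.map (QuotientGroup.mk' N) := by
        rw [mem_conj_smul]
        refine ⟨g⁻¹ * x * g, (mem_conj_smul g x U).mp hx, ?_⟩
        simp
      obtain ⟨h, hh, hhe⟩ := hgbar h1
      have h2 : h⁻¹ * x ∈ N := QuotientGroup.eq.mp hhe
      have h3 : x = h * (h⁻¹ * x) := by group
      rw [h3]
      exact Subgroup.mul_mem _ (Subgroup.mem_sup_left hh) (Subgroup.mem_sup_right h2)
    rcases hNpc with ⟨k, hk⟩ | hNc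
    · -- N is a p-group
      have hNp : IsPGroup p N := IsPGroup.of_card hk
      have hNsolv : Group.IsSolvable N := by
        have : Group.IsNilpotent N := hNp.isNilpotent
        infer_instance
      set L : Subgroup G := U' ⊔ N with hL
      set H₀ : Subgroup G := H ⊓ L with hH₀
      have hNL : N ≤ L := le_sup_right
      have hU'L : U' ≤ L := le_sup_left
      have hH₀L : H₀ ≤ L := inf_le_right
      have hcopNU : (Nat.card N).Coprime (Nat.card U') := by
        rw [hk, hU'card]
        exact Nat.Coprime.pow_left _ hU.symm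
      have hcopNH₀ : (Nat.card N).Coprime (Nat.card H₀) := by
        rw [hk]
        apply Nat.Coprime.pow_left
        apply Nat.Coprime.symm
        exact Nat.Coprime.coprime_dvd_left (Subgroup.card_dvd_of_le inf_le_left) hH
      have hinf1 : U' ⊓ N = ⊥ := disjoint_iff.mp (Subgroup.disjoint_of_coprime_natCard hcopNU.symm)
      have hinf2 : H₀ ⊓ N = ⊥ := disjoint_iff.mp (Subgroup.disjoint_of_coprime_natCard hcopNH₀.symm)
      have hc1 : Nat.card N * Nat.card U' = Nat.card L := by
        have := Cfsg.Agent.Lib.Helper1_Card.card_sup_mul_card_inf_of_normal U' N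
        rw [hinf1, Subgroup.card_bot, mul_one] at this
        rw [hL, this, mul_comm]
      have hLeq : L = H₀ ⊔ N := by
        apply le_antisymm
        · intro l hl
          have hl' : l ∈ ((H ⊔ N : Subgroup G) : Set G) := (sup_le hU'le le_sup_right) hl
          rw [Subgroup.mul_normal] at hl'
          obtain ⟨h, hh, n', hn', rfl⟩ := Set.mem_mul.mp hl'
          have hhL : h ∈ L := by
            have : h = (h * n') * n'⁻¹ := by group
            rw [this]
            exact Subgroup.mul_mem _ hl (Subgroup.inv_mem _ (hNL hn'))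
          exact Subgroup.mul_mem _ (Subgroup.mem_sup_left ⟨hh, hhL⟩) (Subgroup.mem_sup_right hn')
        · exact sup_le hH₀L hNL
      have hc2 : Nat.card N * Nat.card H₀ = Nat.card L := by
        have := Cfsg.Agent.Lib.Helper1_Card.card_sup_mul_card_inf_of_normal H₀ N
        rw [hinf2, Subgroup.card_bot, mul_one] at this
        rw [hLeq, this, mul_comm]
      obtain ⟨l, -, hl⟩ := sub_step L (sz_conj ↥L) N U' H₀ inferInstance hNL hU'L hH₀L hcopNU
        hc1 hc2 (Or.inl hNsolv)
      refine ⟨l * g, ?_⟩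
      rw [← conj_smul_smul, ← hU', hl]
      exact inf_le_left
    · -- N is a p'-group: N ≤ H
      have hNH : N ≤ H := by
        have h1 : Nat.card (H ⊔ N : Subgroup G) ∣ Nat.card H * Nat.card N := by
          have := Cfsg.Agent.Lib.Helper1_Card.card_sup_mul_card_inf_of_normal H N
          exact Dvd.intro _ this
        have h2 : (Nat.card (H ⊔ N : Subgroup G)).Coprime p :=
          Nat.Coprime.coprime_dvd_left h1 (Nat.Coprime.mul_left hH hNc)
        have h3 : H.relIndex (H ⊔ N) ∣ p ^ m := by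
          rw [← hm]
          exact Dvd.intro _ (Subgroup.relIndex_mul_index (le_sup_left : H ≤ H ⊔ N))
        have h4 : H.relIndex (H ⊔ N) ∣ Nat.card (H ⊔ N : Subgroup G) := Subgroup.relIndex_dvd_card _ _
        have h5 : H.relIndex (H ⊔ N) = 1 :=
          eq_one_of_dvd_pow_of_coprime h3 (Nat.Coprime.coprime_dvd_left h4 h2)
        exact le_trans le_sup_right (Subgroup.relIndex_eq_one.mp h5)
      refine ⟨g, ?_⟩
      exact le_trans hU'le (sup_le le_rfl hNH)

/-- two Hall `p'`-subgroups have the same order -/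
theorem card_eq_of_hall {G : Type*} [Group G] [Finite G] {p : ℕ} (_hp : p.Prime)
    (H₁ H₂ : Subgroup G) (h1 : (Nat.card H₁).Coprime p) (n1 : ℕ) (hi1 : H₁.index = p ^ n1)
    (h2 : (Nat.card H₂).Coprime p) (n2 : ℕ) (hi2 : H₂.index = p ^ n2) :
    Nat.card H₁ = Nat.card H₂ := by
  have e1 := Subgroup.card_mul_index H₁
  have e2 := Subgroup.card_mul_index H₂
  rw [hi1] at e1
  rw [hi2] at e2
  have hd1 : Nat.card H₁ ∣ Nat.card H₂ := by
    have : Nat.card H₁ ∣ Nat.card H₂ * p ^ n2 := by rw [e2, ← e1]; exact Dvd.intro _ rfl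
    exact (Nat.Coprime.dvd_mul_right (Nat.Coprime.pow_right n2 h1)).mp this
  have hd2 : Nat.card H₂ ∣ Nat.card H₁ := by
    have : Nat.card H₂ ∣ Nat.card H₁ * p ^ n1 := by rw [e1, ← e2]; exact Dvd.intro _ rfl
    exact (Nat.Coprime.dvd_mul_right (Nat.Coprime.pow_right n1 h2)).mp this
  exact Nat.dvd_antisymm hd1 hd2

/-- A finite p-soluble group has a p-complement, all its p-complements are conjugate, and every subgroup of order prime to p lies in one of them. Here a p-complement is a subgroup of order prime to p whose index is a power of p. -/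
theorem result {G : Type*} [Group G] [Finite G] {p : ℕ} [Fact p.Prime] (hG : Cfsg.IsPSolvable p G) : (∃ H : Subgroup G, (Nat.card H).Coprime p ∧ ∃ n : ℕ, H.index = p ^ n) ∧ (∀ H₁ H₂ : Subgroup G, (Nat.card H₁).Coprime p → (∃ n : ℕ, H₁.index = p ^ n) → (Nat.card H₂).Coprime p → (∃ n : ℕ, H₂.index = p ^ n) → ∃ g : G, H₂ = H₁.map (MulAut.conj g).toMonoidHom) ∧ (∀ U : Subgroup G, (Nat.card U).Coprime p → ∃ H : Subgroup G, (Nat.card H).Coprime p ∧ (∃ n : ℕ, H.index = p ^ n) ∧ ∃ g : G, U.map (MulAut.conj g).toMonoidHom ≤ H) := by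
  have hp : p.Prime := Fact.out
  obtain ⟨H, hH, hHi⟩ := exists_hall hp hG
  refine ⟨⟨H, hH, hHi⟩, ?_, ?_⟩
  · intro H₁ H₂ h1 hi1 h2 hi2
    obtain ⟨g, hg⟩ := dominate p hp _ G rfl hG H₂ H₁ h2 hi2 h1
    refine ⟨g, ?_⟩
    obtain ⟨n1, hn1⟩ := hi1
    obtain ⟨n2, hn2⟩ := hi2
    symm
    apply Subgroup.eq_of_le_of_card_ge hg
    rw [Cfsg.Agent.Lib.Lead_SZ.card_conj_smul g H₁,
      card_eq_of_hall hp H₁ H₂ h1 n1 hn1 h2 n2 hn2]
  · intro U hU
    obtain ⟨g, hg⟩ := dominate p hp _ G rfl hG H U hH hHi hU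
    exact ⟨H, hH, hHi, g, hg⟩

end Cfsg.Agent.S3744
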