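import Mathlib
import Cfsg.Statements.S3746
import Cfsg.Agent.S1754
import Cfsg.Agent.Lib.Helper3_PComp

set_option autoImplicit false

open Cfsg

namespace Cfsg.Agent.S3746

open scoped commutatorElement

theorem comm_central_left {G : Type*} [Group G] (a b c : G) (hc : ∀ g : G, g * c = c * g) :
    ⁅a * c, b⁆ = ⁅a, b⁆ := by
  have h1 : c * b * c⁻¹ = b := by rw [← hc b]; group
  calc ⁅a * c, b⁆ = a * (c * b * c⁻¹) * a⁻¹ * b⁻¹ := by rw [commutatorElement_def]; group
    _ = a * b * a⁻¹ * b⁻¹ := by rw [h1]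
    _ = ⁅a, b⁆ := by rw [commutatorElement_def]

theorem comm_central_right {G : Type*} [Group G] (a b c : G) (hc : ∀ g : G, g * c = c * g) :
    ⁅a, b * c⁆ = ⁅a, b⁆ := by
  have h1 : c * a⁻¹ * c⁻¹ = a⁻¹ := by rw [← hc a⁻¹]; group
  calc ⁅a, b * c⁆ = a * b * (c * a⁻¹ * c⁻¹) * b⁻¹ := by rw [commutatorElement_def]; group
    _ = a * b * a⁻¹ * b⁻¹ := by rw [h1]
    _ = ⁅a, b⁆ := by rw [commutatorElement_def]

/-- Let Z ≤ Z(G) be a central subgroup of a finite group G and E a subgroup of G containing Z whose image E/Z is a component of G/Z (subnormal and quasisimple). Then the derived subgroup [E, E] is a component of G. -/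
theorem result {G : Type*} [Group G] [Finite G] (Z : Subgroup G) (hZ : Z ≤ Subgroup.center G) [Z.Normal] (E : Subgroup G) (hZE : Z ≤ E) (hE : Cfsg.IsComponent (E.map (QuotientGroup.mk' Z))) : Cfsg.IsComponent ⁅E, E⁆ := by
  classical
  obtain ⟨hsub, hqs⟩ := hE
  -- `E` is subnormal
  have hker : (QuotientGroup.mk' Z).ker = Z := QuotientGroup.ker_mk' Z
  have hEcomap : (E.map (QuotientGroup.mk' Z)).comap (QuotientGroup.mk' Z) = E := by
    rw [Subgroup.comap_map_eq, hker]
    exact sup_eq_left.mpr hZE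
  have hEsub : E.IsSubnormal := by
    rw [← hEcomap]
    exact Subgroup.IsSubnormal.comap _ hsub
  have hKE : ⁅E, E⁆ ≤ E := by
    rw [Subgroup.commutator_le]
    intro a ha b hb
    exact E.mul_mem (E.mul_mem (E.mul_mem ha hb) (E.inv_mem ha)) (E.inv_mem hb)
  have hKn : (⁅E, E⁆.subgroupOf E).Normal := by
    have : ⁅E, E⁆.subgroupOf E = commutator E := by
      rw [← Subgroup.map_subtype_commutator E, Subgroup.subgroupOf,
        Subgroup.comap_map_eq_self_of_injective E.subtype_injective]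
    rw [this]
    infer_instance
  have hKsub : ⁅E, E⁆.IsSubnormal :=
    Subgroup.IsSubnormal.trans hKE hKn.isSubnormal hEsub
  refine ⟨hKsub, ?_⟩
  -- the image of `K` is the image of `E`
  haveI hperfE : Group.IsPerfect (E.map (QuotientGroup.mk' Z)) := hqs.1
  have hmapK : ⁅E, E⁆.map (QuotientGroup.mk' Z) = E.map (QuotientGroup.mk' Z) := by
    rw [Subgroup.map_commutator]
    exact Subgroup.isPerfect_iff.mp hperfE
  have hEKZ : E ≤ ⁅E, E⁆ ⊔ Z := by
    calc E ≤ (E.map (QuotientGroup.mk' Z)).comap (QuotientGroup.mk' Z) := Subgroup.le_comap_map _ _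
      _ = (⁅E, E⁆.map (QuotientGroup.mk' Z)).comap (QuotientGroup.mk' Z) := by rw [hmapK]
      _ = ⁅E, E⁆ ⊔ Z := by rw [Subgroup.comap_map_eq, hker]
  -- `K` is perfect
  have hperfK : ⁅⁅E, E⁆, ⁅E, E⁆⁆ = ⁅E, E⁆ := by
    apply le_antisymm
    · rw [Subgroup.commutator_le]
      intro a ha b hb
      exact Subgroup.mul_mem _ (Subgroup.mul_mem _ (Subgroup.mul_mem _ ha hb)
        (Subgroup.inv_mem _ ha)) (Subgroup.inv_mem _ hb)
    · rw [Subgroup.commutator_le]
      intro a ha b hb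
      obtain ⟨k, hk, z, hz, rfl⟩ := Subgroup.mem_sup_of_normal_right.mp (hEKZ ha)
      obtain ⟨k', hk', z', hz', rfl⟩ := Subgroup.mem_sup_of_normal_right.mp (hEKZ hb)
      have hzc : ∀ g : G, g * z = z * g := fun g => Subgroup.mem_center_iff.mp (hZ hz) g
      have hzc' : ∀ g : G, g * z' = z' * g := fun g => Subgroup.mem_center_iff.mp (hZ hz') g
      have : ⁅k * z, k' * z'⁆ = ⁅k, k'⁆ := by
        rw [comm_central_left _ _ _ hzc, comm_central_right _ _ _ hzc']
      rw [this]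
      exact Subgroup.commutator_mem_commutator hk hk'
  haveI hperfK' : Group.IsPerfect ↥⁅E, E⁆ := Subgroup.isPerfect_iff.mpr hperfK
  -- the surjection `K → K.map π`
  have hsurj : Function.Surjective ((QuotientGroup.mk' Z).subgroupMap ⁅E, E⁆) :=
    MonoidHom.subgroupMap_surjective _ _
  have hq1 : Cfsg.IsQuasisimple ↥(⁅E, E⁆.map (QuotientGroup.mk' Z)) :=
    Cfsg.Agent.S1754.quasisimple_of_equiv (MulEquiv.subgroupCongr hmapK.symm) hqs
  have hq2 : Cfsg.IsQuasisimple (↥⁅E, E⁆ ⧸ ((QuotientGroup.mk' Z).subgroupMap ⁅E, E⁆).ker) :=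
    Cfsg.Agent.S1754.quasisimple_of_equiv
      (QuotientGroup.quotientKerEquivOfSurjective _ hsurj).symm hq1
  have hkc : ((QuotientGroup.mk' Z).subgroupMap ⁅E, E⁆).ker ≤ Subgroup.center ↥⁅E, E⁆ := by
    intro k hk
    rw [MonoidHom.mem_ker] at hk
    have h1 : (QuotientGroup.mk' Z) (k : G) = 1 := congrArg Subtype.val hk
    rw [QuotientGroup.mk'_apply, QuotientGroup.eq_one_iff] at h1
    rw [Subgroup.mem_center_iff]
    intro g
    apply Subtype.ext
    exact Subgroup.mem_center_iff.mp (hZ h1) g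
  exact Cfsg.Agent.Lib.Helper3_PComp.quasisimple_of_central_quotient _ hkc hq2

end Cfsg.Agent.S3746
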