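import Cfsg.Statements.S3748
import Mathlib
import Cfsg.Agent.S0064
import Cfsg.Agent.Lib.Lead_Fitting
import Cfsg.Agent.Lib.Helper6_Wielandt

set_option autoImplicit false
open Cfsg

namespace Cfsg.Agent.S3748

open Cfsg.Agent.Lib.Helper6_Wielandt

/-- If every `g ∈ T` permutes the family `S` of subgroups by conjugation, `T` normalizes `sSup S`. -/
theorem le_normalizer_sSup {G : Type*} [Group G] (S : Set (Subgroup G)) (T : Subgroup G)
    (h : ∀ g ∈ T, ∀ L ∈ S, L.map (MulAut.conj g).toMonoidHom ∈ S) :
    T ≤ Subgroup.normalizer ((sSup S : Subgroup G) : Set G) := by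
  rw [Subgroup.le_normalizer_iff]
  intro g hg k hk
  have hle : sSup S ≤ (sSup S).comap (MulAut.conj g).toMonoidHom := by
    apply sSup_le
    intro L hL
    rw [← Subgroup.map_le_iff_le_comap]
    exact le_sSup (h g hg L hL)
  have := hle hk
  simpa [Subgroup.mem_comap] using this

/-- A subgroup of a nilpotent normal subgroup is subnormal. -/
theorem isSubnormal_inf_fitting {G : Type*} [Group G] [Finite G] (M : Subgroup G) :
    (M ⊓ Cfsg.fittingSubgroup G).IsSubnormal := by
  have hFn : (Cfsg.fittingSubgroup G).Normal := by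
    rw [Cfsg.Agent.Lib.Lead_Fitting.fitting_eq]
    exact Cfsg.Agent.Lib.Lead_Fitting.F0_normal G
  have hFnil : Group.IsNilpotent (Cfsg.fittingSubgroup G) := by
    rw [Cfsg.Agent.Lib.Lead_Fitting.fitting_eq]
    exact Cfsg.Agent.Lib.Lead_Fitting.F0_nilpotent G
  have h1 : ((M ⊓ Cfsg.fittingSubgroup G).subgroupOf (Cfsg.fittingSubgroup G)).IsSubnormal :=
    (Cfsg.Agent.S0064.result.mp hFnil) _
  exact Subgroup.IsSubnormal.trans inf_le_right h1 hFn.isSubnormal

/-- Call a proper subgroup M of G primitive when M = N_G(N) for every non-trivial normal subgroup N of M. If M is a primitive subgroup of the finite group G, then no non-trivial subnormal subgroup of G is contained in M; in particular M ∩ F(G) = 1. -/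
theorem result {G : Type*} [Group G] [Finite G] (M : Subgroup G) (hM : M ≠ ⊤) (hprim : ∀ N : Subgroup G, N ≤ M → M ≤ Subgroup.normalizer (N : Set G) → N ≠ ⊥ → Subgroup.normalizer (N : Set G) = M) : (∀ L : Subgroup G, L.IsSubnormal → L ≤ M → L = ⊥) ∧ M ⊓ Cfsg.fittingSubgroup G = ⊥ := by
  have part1 : ∀ L : Subgroup G, L.IsSubnormal → L ≤ M → L = ⊥ := by
    intro L hL hLM
    by_contra hL0
    set S : Set (Subgroup G) := {L | L.IsSubnormal ∧ L ≤ M} with hS
    set N : Subgroup G := sSup S with hN
    have hNM : N ≤ M := sSup_le (fun K hK => hK.2)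
    have hLN : L ≤ N := le_sSup ⟨hL, hLM⟩
    have hN0 : N ≠ ⊥ := by
      intro h
      apply hL0
      rw [h] at hLN
      exact le_bot_iff.mp hLN
    have hMnorm : M ≤ Subgroup.normalizer (N : Set G) := by
      apply le_normalizer_sSup
      intro g hg K hK
      refine ⟨hK.1.map (MulAut.conj g).surjective, ?_⟩
      rintro _ ⟨k, hk, rfl⟩
      simp only [MulEquiv.coe_toMonoidHom, MulAut.conj_apply]
      exact M.mul_mem (M.mul_mem hg (hK.2 hk)) (M.inv_mem hg)
    have hNeq : Subgroup.normalizer (N : Set G) = M := hprim N hNM hMnorm hN0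
    -- minimal normal subgroup
    have htop0 : (⊤ : Subgroup G) ≠ ⊥ := by
      intro h
      apply hL0
      have : L ≤ ⊤ := le_top
      rw [h] at this
      exact le_bot_iff.mp this
    obtain ⟨A, hA, -⟩ := exists_isMinNormal_le (⊤ : Subgroup G) inferInstance htop0
    have hAN : A ≤ Subgroup.normalizer (N : Set G) := by
      apply le_normalizer_sSup
      intro g hg K hK
      have h1 : g ∈ Subgroup.normalizer (K : Set G) := hA.le_normalizer hK.1 hg
      rw [Subgroup.mem_normalizer_iff_map_conj_eq] at h1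
      have h2 : K.map (MulAut.conj g).toMonoidHom = K := h1
      rw [h2]
      exact hK
    have hAM : A ≤ M := hNeq ▸ hAN
    have hAnormal : A.Normal := hA.1
    have hMA : M ≤ Subgroup.normalizer (A : Set G) := by
      rw [Subgroup.normalizer_eq_top]
      exact le_top
    have h3 := hprim A hAM hMA hA.2.1
    rw [Subgroup.normalizer_eq_top] at h3
    exact hM h3.symm
  refine ⟨part1, ?_⟩
  exact part1 _ (isSubnormal_inf_fitting M) inf_le_left

end Cfsg.Agent.S3748
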