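import Cfsg.Statements.S3749
import Mathlib
import Cfsg.Agent.Lib.Lead_SZ
import Cfsg.Agent.Lib.Lead_Coprime
import Cfsg.Agent.Lib.Helper6_ConjAct
import Cfsg.Agent.Lib.Helper7_PCore

set_option autoImplicit false
open Cfsg

namespace Cfsg.Agent.S3749

open scoped Pointwise
open Cfsg.Agent.Lib.Lead_SZ

/-- A `p`-group `P` acting on a normal subgroup `N` with `C_N(P) = 1` forces `p ∤ |N|`. -/
theorem not_dvd_card_of_centralizer_inf {G : Type*} [Group G] [Finite G] {p : ℕ} [Fact p.Prime]
    (P N : Subgroup G) [N.Normal] (hP : IsPGroup p P)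
    (h : Subgroup.centralizer (P : Set G) ⊓ N = ⊥) : ¬ p ∣ Nat.card N := by
  have hPN : P ≤ Subgroup.normalizer (N : Set G) := by
    rw [Subgroup.normalizer_eq_top]; exact le_top
  let act : MulDistribMulAction P N := Cfsg.Agent.Lib.Helper6_ConjAct.conjNormalizer P N hPN
  have hsmul : ∀ (k : P) (c : N), ((k • c : N) : G) = (k : G) * (c : G) * (k : G)⁻¹ :=
    fun k c => rfl
  have h1 := hP.card_modEq_card_fixedPoints N
  have hfix : ∀ a : N, a ∈ MulAction.fixedPoints P N → a = 1 := by
    intro a ha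
    have hmem : (a : G) ∈ Subgroup.centralizer (P : Set G) ⊓ N := by
      refine Subgroup.mem_inf.mpr ⟨?_, a.2⟩
      rw [Subgroup.mem_centralizer_iff]
      intro k hk
      have := congrArg (fun z : N => (z : G)) (ha ⟨k, hk⟩)
      simp only [hsmul] at this
      calc k * (a : G) = (k * (a : G) * k⁻¹) * k := by group
        _ = (a : G) * k := by rw [this]
    rw [h] at hmem
    exact Subtype.ext (Subgroup.mem_bot.mp hmem)
  have h2 : Nat.card (MulAction.fixedPoints P N) = 1 := by
    rw [Nat.card_eq_one_iff_unique]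
    refine ⟨⟨?_⟩, ⟨⟨1, fun k => smul_one k⟩⟩⟩
    rintro ⟨a, ha⟩ ⟨b, hb⟩
    apply Subtype.ext
    show a = b
    rw [hfix a ha, hfix b hb]
  rw [h2] at h1
  intro hd
  have hp := (Fact.out : p.Prime)
  have h3 : Nat.card N % p = 0 := Nat.mod_eq_zero_of_dvd hd
  have h4 : 1 % p = 0 := by
    have : Nat.card N % p = 1 % p := h1
    rw [← this]; exact h3
  rw [Nat.mod_eq_of_lt hp.one_lt] at h4
  exact one_ne_zero h4

theorem conj_smul_inv_smul {G : Type*} [Group G] (a : G) (H : Subgroup G) :
    MulAut.conj a⁻¹ • (MulAut.conj a • H) = H := by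
  rw [conj_smul_smul, inv_mul_cancel, map_one, one_smul]

theorem conj_smul_smul_inv {G : Type*} [Group G] (a : G) (H : Subgroup G) :
    MulAut.conj a • (MulAut.conj a⁻¹ • H) = H := by
  rw [conj_smul_smul, mul_inv_cancel, map_one, one_smul]

/-- Uniqueness of the `P`-invariant Sylow `q`-subgroup of `N` when `N_N(P) = 1`. -/
theorem invariant_sylow_unique {G : Type*} [Group G] [Finite G] {p q : ℕ} [Fact p.Prime]
    [Fact q.Prime] (P N : Subgroup G) [N.Normal] (hP : IsPGroup p P)
    (hpN : ¬ p ∣ Nat.card N) (hNP : Subgroup.normalizer (P : Set G) ⊓ N = ⊥)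
    (Q1 Q2 : Sylow q N)
    (h1 : P ≤ Subgroup.normalizer ((Q1 : Subgroup N).map N.subtype : Set G))
    (h2 : P ≤ Subgroup.normalizer ((Q2 : Subgroup N).map N.subtype : Set G)) : Q1 = Q2 := by
  have hp := (Fact.out : p.Prime)
  obtain ⟨n, hn⟩ := MulAction.exists_smul_eq N Q1 Q2
  set Q1g : Subgroup G := (Q1 : Subgroup N).map N.subtype with hQ1g
  set Q2g : Subgroup G := (Q2 : Subgroup N).map N.subtype with hQ2g
  have hn' : MulAut.conj (n : G) • Q1g = Q2g := by
    have h3 : ((n • Q1 : Sylow q N) : Subgroup N) = MulAut.conj n • (Q1 : Subgroup N) := by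
      rw [Sylow.smul_def, Sylow.pointwise_smul_def]
    rw [hQ2g, ← hn, h3, map_conj_smul]
    rfl
  set K : Subgroup G := N ⊓ Subgroup.normalizer (Q1g : Set G) with hK
  have hPK : P ≤ Subgroup.normalizer (K : Set G) := by
    rw [Subgroup.le_normalizer_iff]
    intro x hx k hk
    refine Subgroup.mem_inf.mpr ⟨?_, ?_⟩
    · exact Subgroup.Normal.conj_mem inferInstance k (Subgroup.mem_inf.mp hk).1 x
    · exact Subgroup.mul_mem _ (Subgroup.mul_mem _ (h1 hx) (Subgroup.mem_inf.mp hk).2)
        (Subgroup.inv_mem _ (h1 hx))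
  have hcop : (Nat.card P).Coprime (Nat.card K) := by
    obtain ⟨k, hk⟩ := hP.exists_card_eq
    rw [hk]
    apply Nat.Coprime.pow_left
    rw [Nat.Prime.coprime_iff_not_dvd hp]
    intro hd
    exact hpN (hd.trans (Subgroup.card_dvd_of_le inf_le_left))
  have hsolv : Group.IsSolvable P := by
    have : Group.IsNilpotent P := hP.isNilpotent
    infer_instance
  set A₂ : Subgroup G := MulAut.conj (n : G)⁻¹ • P with hA₂
  have hA₂le : A₂ ≤ K ⊔ P := by
    intro y hy
    rw [hA₂, mem_conj_smul, inv_inv] at hy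
    set x := (n : G) * y * (n : G)⁻¹ with hx
    have hyx : y = (n : G)⁻¹ * x * (n : G) := by rw [hx]; group
    have hy_norm : y ∈ Subgroup.normalizer (Q1g : Set G) := by
      rw [conj_smul_le_normalizer, hyx, ← conj_smul_smul, ← conj_smul_smul, hn',
        conj_smul_le_normalizer.mp (h2 hy), ← hn', conj_smul_inv_smul]
    have hx_norm : x ∈ Subgroup.normalizer (Q1g : Set G) := h1 hy
    have hyxN : y * x⁻¹ ∈ N := by
      have h5 : y * x⁻¹ = (n : G)⁻¹ * (x * (n : G) * x⁻¹) := by rw [hyx]; group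
      rw [h5]
      exact N.mul_mem (N.inv_mem n.2) (Subgroup.Normal.conj_mem inferInstance _ n.2 x)
    have h6 : y = (y * x⁻¹) * x := by group
    rw [h6]
    exact Subgroup.mul_mem_sup (Subgroup.mem_inf.mpr ⟨hyxN,
      Subgroup.mul_mem _ hy_norm (Subgroup.inv_mem _ hx_norm)⟩) hy
  have hcard : Nat.card A₂ = Nat.card P := card_conj_smul _ _
  obtain ⟨d, hd, hdP⟩ := Cfsg.Agent.Lib.Lead_Coprime.exists_conj_of_le_sup K P A₂ hPK hcop
    (Or.inl hsolv) hA₂le hcard
  have hnd : (n : G) * d ∈ Subgroup.normalizer (P : Set G) ⊓ N := by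
    refine Subgroup.mem_inf.mpr ⟨?_, N.mul_mem n.2 (Subgroup.mem_inf.mp hd).1⟩
    rw [conj_smul_le_normalizer, ← conj_smul_smul, hdP, hA₂, conj_smul_smul_inv]
  rw [hNP, Subgroup.mem_bot] at hnd
  have hnK : (n : G) ∈ K := by
    have : (n : G) = d⁻¹ := eq_inv_of_mul_eq_one_left hnd
    rw [this]
    exact K.inv_mem hd
  have hfin : Q1g = Q2g := by
    rw [← hn']
    exact (conj_smul_le_normalizer.mp (Subgroup.mem_inf.mp hnK).2).symm
  apply Sylow.ext
  exact Subgroup.map_injective N.subtype_injective hfin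

/-- Call a proper subgroup M of G primitive when M = N_G(N) for every non-trivial normal subgroup N of M. Let M be a primitive subgroup of the finite group G, p a prime with O_p(M) ≠ 1, and N a normal subgroup of G with M ∩ N = 1. Then p does not divide the order of N; for every prime q there is exactly one Sylow q-subgroup of N normalized by M; and if the order of N has at least two prime divisors then M is not a maximal subgroup of G. -/
theorem result {G : Type*} [Group G] [Finite G] (M : Subgroup G) (hM : M ≠ ⊤) (hprim : ∀ N : Subgroup G, N ≤ M → M ≤ Subgroup.normalizer (N : Set G) → N ≠ ⊥ → Subgroup.normalizer (N : Set G) = M) {p : ℕ} [Fact p.Prime] (hOp : Cfsg.pCore p ↥M ≠ ⊥) (N : Subgroup G) [N.Normal] (hMN : M ⊓ N = ⊥) : ¬ p ∣ Nat.card N ∧ (∀ q : ℕ, [Fact q.Prime] → ∃! Q : Sylow q ↥N, M ≤ Subgroup.normalizer ((Q : Subgroup ↥N).map N.subtype : Set G)) ∧ ((∃ q r : ℕ, q.Prime ∧ r.Prime ∧ q ≠ r ∧ q ∣ Nat.card N ∧ r ∣ Nat.card N) → ¬ IsCoatom M) := by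
  set P : Subgroup G := (Cfsg.pCore p ↥M).map M.subtype with hPdef
  have hPM : P ≤ M := Subgroup.map_subtype_le _
  have hP0 : P ≠ ⊥ := by
    intro h
    exact hOp ((Subgroup.map_eq_bot_iff_of_injective _ M.subtype_injective).mp h)
  have hPp : IsPGroup p P := (Cfsg.Agent.Lib.Helper7_PCore.pCore_isPGroup p).map M.subtype
  have hMP : M ≤ Subgroup.normalizer (P : Set G) := by
    have hn : (Cfsg.pCore p ↥M).Normal := Cfsg.Agent.Lib.Helper7_PCore.pCore_normal p
    have h := Subgroup.le_normalizer_map (H := Cfsg.pCore p ↥M) M.subtype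
    rw [Subgroup.normalizer_eq_top, ← MonoidHom.range_eq_map, Subgroup.range_subtype] at h
    exact h
  have hNP : Subgroup.normalizer (P : Set G) = M := hprim P hPM hMP hP0
  have hpN : ¬ p ∣ Nat.card N := by
    apply not_dvd_card_of_centralizer_inf P N hPp
    apply le_bot_iff.mp
    rw [← hMN, ← hNP]
    exact inf_le_inf_right _ (Subgroup.centralizer_le_normalizer _)
  have hNP' : Subgroup.normalizer (P : Set G) ⊓ N = ⊥ := by rw [hNP]; exact hMN
  have hPN : P ≤ Subgroup.normalizer (N : Set G) := by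
    rw [Subgroup.normalizer_eq_top]; exact le_top
  -- existence and uniqueness
  have key : ∀ q : ℕ, [Fact q.Prime] → ∃ Q : Sylow q ↥N,
      M ≤ Subgroup.normalizer ((Q : Subgroup ↥N).map N.subtype : Set G) ∧
      ∀ Q2 : Sylow q ↥N, P ≤ Subgroup.normalizer ((Q2 : Subgroup ↥N).map N.subtype : Set G) →
        Q2 = Q := by
    intro q _
    obtain ⟨Q, hQ⟩ := Cfsg.Agent.Lib.Helper6_ConjAct.exists_invariant_sylow q p P N hPN hPp hpN
    have huniq : ∀ Q2 : Sylow q ↥N,
        P ≤ Subgroup.normalizer ((Q2 : Subgroup ↥N).map N.subtype : Set G) → Q2 = Q :=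
      fun Q2 h2 => invariant_sylow_unique P N hPp hpN hNP' Q2 Q h2 hQ
    refine ⟨Q, ?_, huniq⟩
    intro m hm
    set Q' : Sylow q ↥N := (MulAut.conjNormal m : MulAut N) • Q with hQ'
    have hQ'map : (Q' : Subgroup ↥N).map N.subtype
        = MulAut.conj m • ((Q : Subgroup ↥N).map N.subtype) := by
      ext y
      rw [mem_conj_smul, hQ', Sylow.pointwise_smul_def]
      constructor
      · rintro ⟨z, hz, rfl⟩
        have hz' : z ∈ (MulAut.conjNormal m : MulAut N) • (Q : Subgroup N) := hz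
        rw [Subgroup.mem_pointwise_smul_iff_inv_smul_mem] at hz'
        refine ⟨_, hz', ?_⟩
        rw [← map_inv, MulAut.smul_def]
        simp [MulAut.conjNormal_apply]
      · rintro ⟨z, hz, hzy⟩
        refine ⟨(MulAut.conjNormal m : MulAut N) z, Subgroup.smul_mem_pointwise_smul _ _ _ hz, ?_⟩
        have hzy' : (z : G) = m⁻¹ * y * m := hzy
        show (((MulAut.conjNormal m : MulAut N) z : N) : G) = y
        rw [MulAut.conjNormal_apply, hzy']
        group
    have hPQ' : P ≤ Subgroup.normalizer ((Q' : Subgroup ↥N).map N.subtype : Set G) := by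
      intro x hx
      rw [hQ'map, conj_smul_le_normalizer]
      have hx' : m⁻¹ * x * m ∈ P := by
        have := (Subgroup.mem_normalizer_iff.mp (hMP (M.inv_mem hm)) x).mp hx
        simpa using this
      have h3 := conj_smul_le_normalizer.mp (hQ hx')
      have h4 : x * m = m * (m⁻¹ * x * m) := by group
      rw [conj_smul_smul, h4, ← conj_smul_smul, h3]
    have h5 := huniq Q' hPQ'
    rw [conj_smul_le_normalizer, ← hQ'map, h5]
  refine ⟨hpN, ?_, ?_⟩
  · intro q _
    obtain ⟨Q, hQ, huniq⟩ := key q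
    exact ⟨Q, hQ, fun Q2 h2 => huniq Q2 (hPM.trans h2)⟩
  · rintro ⟨q, r, hq, hr, hqr, hqN, hrN⟩ hco
    have : Fact q.Prime := ⟨hq⟩
    obtain ⟨Q, hQ, -⟩ := key q
    set Qg : Subgroup G := (Q : Subgroup ↥N).map N.subtype with hQg
    have hQgN : Qg ≤ N := Subgroup.map_subtype_le _
    have hQgp : IsPGroup q Qg := Q.isPGroup'.map N.subtype
    have hQg0 : Qg ≠ ⊥ := by
      intro h
      have h1 : (Q : Subgroup ↥N) = ⊥ := (Subgroup.map_eq_bot_iff_of_injective _ N.subtype_injective).mp h
      have h2 : Nat.card (Q : Subgroup ↥N) = 1 := by rw [h1]; exact Subgroup.card_bot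
      have h3 := Q.card_eq_multiplicity
      rw [h2] at h3
      have h4 : (Nat.card ↥N).factorization q = 0 := by
        by_contra h0
        have : 1 < q ^ (Nat.card ↥N).factorization q := Nat.one_lt_pow h0 hq.one_lt
        omega
      have h5 : 0 < (Nat.card ↥N).factorization q :=
        hq.factorization_pos_of_dvd Nat.card_pos.ne' hqN
      omega
    rcases eq_or_lt_of_le (le_sup_left : M ≤ M ⊔ Qg) with heq | hlt
    · have h1 : Qg ≤ M := by rw [heq]; exact le_sup_right
      have h2 : Qg ≤ M ⊓ N := le_inf h1 hQgN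
      rw [hMN] at h2
      exact hQg0 (le_bot_iff.mp h2)
    · have htop : M ⊔ Qg = ⊤ := hco.2 _ hlt
      have hNQ : N ≤ Qg := by
        intro n hn
        have h1 : n ∈ ((Qg ⊔ M : Subgroup G) : Set G) := by
          rw [sup_comm, htop]; trivial
        rw [Subgroup.coe_mul_of_right_le_normalizer_left Qg M hQ] at h1
        obtain ⟨u, hu, m, hm, rfl⟩ := h1
        simp only at hn ⊢
        have h2 : m ∈ M ⊓ N := by
          refine Subgroup.mem_inf.mpr ⟨hm, ?_⟩
          have h3 : m = u⁻¹ * (u * m) := by group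
          rw [h3]
          exact N.mul_mem (N.inv_mem (hQgN hu)) hn
        rw [hMN, Subgroup.mem_bot] at h2
        rw [h2, mul_one]
        exact hu
      have hNeq : N = Qg := le_antisymm hNQ hQgN
      obtain ⟨k, hk⟩ := hQgp.exists_card_eq
      rw [hNeq, hk] at hrN
      have := (Nat.prime_dvd_prime_iff_eq hr hq).mp (hr.dvd_of_dvd_pow hrN)
      exact hqr this.symm

end Cfsg.Agent.S3749
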