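import Cfsg.Statements.S3750
import Mathlib
import Cfsg.Agent.S1265
import Cfsg.Agent.S1320
import Cfsg.Agent.Lib.Helper3_Components
import Cfsg.Agent.Lib.Helper3_LayerPre
import Cfsg.Agent.Lib.Lead_Fitting

set_option autoImplicit false
open Cfsg

namespace Cfsg.Agent.S3750

/-- Call a proper subgroup M of G primitive when M = N_G(N) for every non-trivial normal subgroup N of M. Let M be a primitive subgroup of the finite group G and N a normal subgroup of G with M ∩ F*(N) ≠ 1. Then F(G) = 1 and F*(N) = F*(G) = E(G); in particular every minimal normal subgroup of G is contained in N. -/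
theorem result {G : Type*} [Group G] [Finite G] (M : Subgroup G) (hM : M ≠ ⊤) (hprim : ∀ N : Subgroup G, N ≤ M → M ≤ Subgroup.normalizer (N : Set G) → N ≠ ⊥ → Subgroup.normalizer (N : Set G) = M) (N : Subgroup G) [N.Normal] (hMF : M ⊓ (Cfsg.generalizedFittingSubgroup ↥N).map N.subtype ≠ ⊥) : Cfsg.fittingSubgroup G = ⊥ ∧ (Cfsg.generalizedFittingSubgroup ↥N).map N.subtype = Cfsg.generalizedFittingSubgroup G ∧ Cfsg.generalizedFittingSubgroup G = Cfsg.layer G ∧ ∀ K : Subgroup G, K.Normal → K ≠ ⊥ → (∀ K' : Subgroup G, K'.Normal → K' ≤ K → K' = ⊥ ∨ K' = K) → K ≤ N := by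
  classical
  have hL : (Cfsg.generalizedFittingSubgroup ↥N).map N.subtype =
      Cfsg.generalizedFittingSubgroup G ⊓ N := (Cfsg.Agent.S1320.result (A := G) N).symm
  rw [hL] at hMF ⊢
  haveI hgn : (Cfsg.generalizedFittingSubgroup G).Normal := Cfsg.Agent.S1265.gf_normal G
  haveI hLn : (Cfsg.generalizedFittingSubgroup G ⊓ N).Normal := inferInstance
  -- no nontrivial normal subgroup of `G` lies in `M`
  have KL : ∀ D : Subgroup G, D.Normal → D ≠ ⊥ → ¬ D ≤ M := by
    intro D hD hD1 hDM
    have h1 : Subgroup.normalizer (D : Set G) = ⊤ := Subgroup.normalizer_eq_top_iff.mpr hD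
    have h2 := hprim D hDM (by rw [h1]; exact le_top) hD1
    rw [h1] at h2
    exact hM h2.symm
  have hXM : M ⊓ (Cfsg.generalizedFittingSubgroup G ⊓ N) ≤ M := inf_le_left
  have hXn : M ≤ Subgroup.normalizer
      ((M ⊓ (Cfsg.generalizedFittingSubgroup G ⊓ N) : Subgroup G) : Set G) := by
    intro m hm
    rw [Subgroup.mem_normalizer_iff]
    intro x
    constructor
    · rintro ⟨hx1, hx2⟩
      exact ⟨M.mul_mem (M.mul_mem hm hx1) (M.inv_mem hm), hLn.conj_mem x hx2 m⟩
    · rintro ⟨hx1, hx2⟩
      have e : x = m⁻¹ * (m * x * m⁻¹) * m⁻¹⁻¹ := by group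
      rw [e]
      exact ⟨M.mul_mem (M.mul_mem (M.inv_mem hm) hx1) (M.inv_mem (M.inv_mem hm)),
        hLn.conj_mem _ hx2 m⁻¹⟩
  have hNX := hprim _ hXM hXn hMF
  have hCX : Subgroup.centralizer
      ((M ⊓ (Cfsg.generalizedFittingSubgroup G ⊓ N) : Subgroup G) : Set G) ≤ M := by
    exact le_of_le_of_eq (Subgroup.centralizer_le_normalizer _) hNX
  have NC : ∀ D : Subgroup G, D.Normal → D ≤ Subgroup.centralizer
      ((M ⊓ (Cfsg.generalizedFittingSubgroup G ⊓ N) : Subgroup G) : Set G) → D = ⊥ := by
    intro D hD hDC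
    by_contra h1
    exact KL D hD h1 (hDC.trans hCX)
  have hCN : Subgroup.centralizer (N : Set G) = ⊥ := by
    apply NC _ inferInstance
    apply Subgroup.centralizer_le
    intro x hx
    exact hx.2.2
  -- `F(G) = 1`
  have hF : Cfsg.fittingSubgroup G = ⊥ := by
    by_contra hF1
    haveI hFn : (Cfsg.fittingSubgroup G).Normal := Cfsg.Agent.S1265.fitting_normal G
    haveI hnil : Group.IsNilpotent ↥(Cfsg.fittingSubgroup G) := by
      have h1 := Cfsg.Agent.Lib.Lead_Fitting.F0_nilpotent G
      rw [← Cfsg.Agent.Lib.Lead_Fitting.fitting_eq G] at h1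
      exact h1
    haveI : Nontrivial ↥(Cfsg.fittingSubgroup G) := (Subgroup.nontrivial_iff_ne_bot _).mpr hF1
    have hZn : ((Subgroup.center ↥(Cfsg.fittingSubgroup G)).map
        (Cfsg.fittingSubgroup G).subtype).Normal := ConjAct.normal_of_characteristic_of_normal
    have hZ1 : (Subgroup.center ↥(Cfsg.fittingSubgroup G)).map
        (Cfsg.fittingSubgroup G).subtype ≠ ⊥ := by
      intro h
      have h2 : Subgroup.center ↥(Cfsg.fittingSubgroup G) = ⊥ :=
        (Subgroup.map_eq_bot_iff_of_injective _ (Subgroup.subtype_injective _)).mp h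
      exact Group.IsNilpotent.center_ne_bot ↥(Cfsg.fittingSubgroup G) h2
    have hZF : (Subgroup.center ↥(Cfsg.fittingSubgroup G)).map
        (Cfsg.fittingSubgroup G).subtype ≤ Cfsg.fittingSubgroup G := Subgroup.map_subtype_le _
    have hZsolv : Group.IsSolvable ↥((Subgroup.center ↥(Cfsg.fittingSubgroup G)).map
        (Cfsg.fittingSubgroup G).subtype) := by
      haveI : Group.IsSolvable ↥(Cfsg.fittingSubgroup G) := inferInstance
      exact Group.isSolvable_of_isSolvable_injective (f := Subgroup.inclusion hZF)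
        (Subgroup.inclusion_injective hZF)
    have hZc : (Subgroup.center ↥(Cfsg.fittingSubgroup G)).map
        (Cfsg.fittingSubgroup G).subtype ≤ Subgroup.centralizer
      ((M ⊓ (Cfsg.generalizedFittingSubgroup G ⊓ N) : Subgroup G) : Set G) := by
      rw [Subgroup.le_centralizer_iff]
      refine (inf_le_right.trans inf_le_left : _ ≤ Cfsg.generalizedFittingSubgroup G).trans ?_
      unfold Cfsg.generalizedFittingSubgroup
      apply sup_le
      · rw [← Subgroup.commutator_eq_bot_iff_le_centralizer]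
        haveI := hZn
        exact Cfsg.Agent.Lib.Helper3_LayerPre.layer_commute_normal_solvable _ hZsolv
      · intro f hf
        rw [Subgroup.mem_centralizer_iff]
        rintro _ ⟨z, hz, rfl⟩
        have h3 := Subgroup.mem_center_iff.mp hz ⟨f, hf⟩
        have h4 := congrArg Subtype.val h3
        exact h4.symm
    exact hZ1 (NC _ hZn hZc)
  have hGF : Cfsg.generalizedFittingSubgroup G = Cfsg.layer G := by
    unfold Cfsg.generalizedFittingSubgroup
    rw [hF, sup_bot_eq]
  refine ⟨hF, ?_, hGF, ?_⟩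
  · -- `F*(G) ≤ N`
    rw [inf_eq_left, hGF]
    apply sSup_le
    intro C hC
    haveI hNn : N.Normal := inferInstance
    rcases Cfsg.Agent.Lib.Helper3_Components.component_le_or_commute C N hC hNn.isSubnormal
      with h | h
    · exact h
    · exfalso
      rw [Subgroup.commutator_eq_bot_iff_le_centralizer, hCN] at h
      haveI := Cfsg.Agent.Lib.Helper3_Components.quasisimple_nontrivial hC.2
      have h2 : C = ⊥ := le_bot_iff.mp h
      have h3 : Nontrivial ↥C := inferInstance
      rw [Subgroup.nontrivial_iff_ne_bot] at h3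
      exact h3 h2
  · intro K hK hK1 hmin
    haveI := hK
    have hKN : (K ⊓ N).Normal := inferInstance
    rcases hmin (K ⊓ N) hKN inf_le_left with h | h
    · exfalso
      have h2 : ⁅K, N⁆ = ⊥ := by
        rw [eq_bot_iff, ← h]
        exact Subgroup.commutator_le_inf K N
      rw [Subgroup.commutator_eq_bot_iff_le_centralizer, hCN] at h2
      exact hK1 (le_bot_iff.mp h2)
    · rw [← h]; exact inf_le_right

end Cfsg.Agent.S3750
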