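import Cfsg.Statements.S3760
import Mathlib

set_option autoImplicit false
open Cfsg

namespace Cfsg.Agent.S3760

theorem mem_map_conj {G : Type*} [Group G] (K : Subgroup G) (g x : G) :
    x ∈ K.map (MulAut.conj g).toMonoidHom ↔ g⁻¹ * x * g ∈ K := by
  constructor
  · rintro ⟨k, hk, rfl⟩
    have : g⁻¹ * ((MulAut.conj g).toMonoidHom k) * g = k := by
      show g⁻¹ * (g * k * g⁻¹) * g = k
      group
    rw [this]; exact hk
  · intro h
    refine ⟨g⁻¹ * x * g, h, ?_⟩
    show g * (g⁻¹ * x * g) * g⁻¹ = x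
    group

/-- Let the group G act transitively on a set X, let x ∈ X with stabilizer H = G_x, and let K ≤ H. Then N_G(K) acts transitively on the set of fixed points of K if and only if every G-conjugate of K contained in H is already an H-conjugate of K. -/
theorem result {G : Type*} [Group G] {X : Type*} [MulAction G X] (htrans : ∀ a b : X, ∃ g : G, g • a = b) (x : X) (K : Subgroup G) (hK : K ≤ MulAction.stabilizer G x) : (∀ a b : X, (∀ k ∈ K, k • a = a) → (∀ k ∈ K, k • b = b) → ∃ g ∈ Subgroup.normalizer (K : Set G), g • a = b) ↔ ∀ g : G, K.map (MulAut.conj g).toMonoidHom ≤ MulAction.stabilizer G x → ∃ h ∈ MulAction.stabilizer G x, K.map (MulAut.conj g).toMonoidHom = K.map (MulAut.conj h).toMonoidHom := by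
  constructor
  · intro hN g hg
    -- K fixes g⁻¹ x and x
    have hfix1 : ∀ k ∈ K, k • (g⁻¹ • x) = g⁻¹ • x := by
      intro k hk
      have hmem : g * k * g⁻¹ ∈ K.map (MulAut.conj g).toMonoidHom := by
        rw [mem_map_conj]
        have : g⁻¹ * (g * k * g⁻¹) * g = k := by group
        rw [this]; exact hk
      have := hg hmem
      rw [MulAction.mem_stabilizer_iff] at this
      rw [← smul_smul, ← smul_smul] at this
      have h2 : g⁻¹ • (g • (k • (g⁻¹ • x))) = g⁻¹ • x := by rw [this]
      rwa [inv_smul_smul] at h2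
    have hfix2 : ∀ k ∈ K, k • x = x := fun k hk => MulAction.mem_stabilizer_iff.mp (hK hk)
    obtain ⟨n, hn, hnx⟩ := hN x (g⁻¹ • x) hfix2 hfix1
    refine ⟨g * n, ?_, ?_⟩
    · rw [MulAction.mem_stabilizer_iff, mul_smul, hnx, smul_inv_smul]
    · ext y
      rw [mem_map_conj, mem_map_conj]
      rw [Subgroup.mem_normalizer_iff] at hn
      have : (g * n)⁻¹ * y * (g * n) = n⁻¹ * (g⁻¹ * y * g) * n := by group
      rw [this]
      constructor
      · intro hy
        have := (hn (n⁻¹ * (g⁻¹ * y * g) * n)).mpr (by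
          have : n * (n⁻¹ * (g⁻¹ * y * g) * n) * n⁻¹ = g⁻¹ * y * g := by group
          rw [this]; exact hy)
        exact this
      · intro hy
        have := (hn _).mp hy
        have h2 : n * (n⁻¹ * (g⁻¹ * y * g) * n) * n⁻¹ = g⁻¹ * y * g := by group
        rwa [h2] at this
  · intro hH a b ha hb
    -- for a fixed point a find n ∈ N(K) with n • x = a
    have key : ∀ a : X, (∀ k ∈ K, k • a = a) → ∃ n ∈ Subgroup.normalizer (K : Set G), n • x = a := by
      intro a ha
      obtain ⟨g, hg⟩ := htrans x a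
      have hle : K.map (MulAut.conj g⁻¹).toMonoidHom ≤ MulAction.stabilizer G x := by
        intro y hy
        rw [mem_map_conj, inv_inv] at hy
        rw [MulAction.mem_stabilizer_iff]
        have := ha _ hy
        rw [← hg, smul_smul] at this
        have h2 : g * y * g⁻¹ * g = g * y := by group
        rw [h2, mul_smul] at this
        exact smul_left_cancel g this
      obtain ⟨h, hh, heq⟩ := hH g⁻¹ hle
      refine ⟨g * h, ?_, ?_⟩
      · rw [Subgroup.mem_normalizer_iff]
        intro k
        have e1 : ∀ y : G, y ∈ K.map (MulAut.conj g⁻¹).toMonoidHom ↔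
            y ∈ K.map (MulAut.conj h).toMonoidHom := fun y => by rw [heq]
        have e2 := e1 (g⁻¹ * (g * h * k * (g * h)⁻¹) * g)
        rw [mem_map_conj, mem_map_conj, inv_inv] at e2
        have h3 : g * (g⁻¹ * (g * h * k * (g * h)⁻¹) * g) * g⁻¹ = g * h * k * (g * h)⁻¹ := by group
        have h4 : h⁻¹ * (g⁻¹ * (g * h * k * (g * h)⁻¹) * g) * h = k := by group
        rw [h3, h4] at e2
        exact e2.symm
      · rw [mul_smul, MulAction.mem_stabilizer_iff.mp hh, hg]
    obtain ⟨n1, hn1, h1⟩ := key a ha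
    obtain ⟨n2, hn2, h2⟩ := key b hb
    refine ⟨n2 * n1⁻¹, Subgroup.mul_mem _ hn2 (Subgroup.inv_mem _ hn1), ?_⟩
    rw [mul_smul, ← h1, inv_smul_smul, h2]

end Cfsg.Agent.S3760
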