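import Cfsg.Statements.S3761
import Mathlib
import Cfsg.Agent.Lib.Helper6_CyclicSC

set_option autoImplicit false
open Cfsg

namespace Cfsg.Agent.S3761

open Cfsg.Agent.Lib.Helper6_CyclicSC

/-- Let G be a finite non-abelian p-group with a cyclic normal subgroup U of order p^n such that C_G(U) = U. Then either p = 2 and G is dihedral, generalized quaternion or semidihedral of order 2^(n+1); or, writing U₁ for the subgroup generated by the p-th powers of elements of U and M = C_G(U₁), the subgroup U has index p in M and the subgroup Ω₁(M) generated by the elements of M of order dividing p is elementary abelian of order p² and characteristic in G. -/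
theorem result {G : Type*} [Group G] [Finite G] {p : ℕ} [Fact p.Prime] (hG : IsPGroup p G) (hna : ¬ IsMulCommutative G) (U : Subgroup G) [U.Normal] (hU : IsCyclic U) (n : ℕ) (hUn : Nat.card U = p ^ n) (hC : Subgroup.centralizer (U : Set G) = U) : (p = 2 ∧ Nat.card G = 2 ^ (n + 1) ∧ ((∃ m : ℕ, Nonempty (G ≃* DihedralGroup m)) ∨ (∃ m : ℕ, Nonempty (G ≃* QuaternionGroup m)) ∨ Cfsg.IsQuasiDihedral G)) ∨ (U.relIndex (Subgroup.centralizer (Cfsg.powerClosure p 1 U : Set G)) = p ∧ Cfsg.IsElementaryAbelian p (Cfsg.omegaOne p (Subgroup.centralizer (Cfsg.powerClosure p 1 U : Set G))) ∧ Nat.card ↥(Cfsg.omegaOne p (Subgroup.centralizer (Cfsg.powerClosure p 1 U : Set G))) = p ^ 2 ∧ (Cfsg.omegaOne p (Subgroup.centralizer (Cfsg.powerClosure p 1 U : Set G))).Characteristic) := by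
  have hpp : p.Prime := Fact.out
  obtain ⟨g0, hg0⟩ := hU.exists_generator
  obtain ⟨u, hu⟩ : ∃ u : G, u = (g0 : G) := ⟨_, rfl⟩
  have huU : u ∈ U := by rw [hu]; exact g0.2
  have hUu : U = Subgroup.zpowers u := by
    apply le_antisymm
    · intro y hy
      have h1 := hg0 ⟨y, hy⟩
      rw [Subgroup.mem_zpowers_iff] at h1 ⊢
      obtain ⟨k, hk⟩ := h1
      refine ⟨k, ?_⟩
      have h2 := congrArg Subtype.val hk
      rw [Subgroup.coe_zpow] at h2
      rw [hu]; exact h2
    · rw [Subgroup.zpowers_le]; exact huU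
  have hord : orderOf u = p ^ n := by
    rw [← Nat.card_zpowers, ← hUn, hUu]
  have hfin : IsOfFinOrder u := by
    rw [← orderOf_pos_iff, hord]; exact pow_pos hpp.pos n
  have hSC : SC p n u := by
    refine ⟨hG, hord, ?_, ?_⟩
    · intro g
      have h1 : g * u * g⁻¹ ∈ U := Subgroup.Normal.conj_mem inferInstance u huU g
      rw [hUu, ← hfin.mem_powers_iff_mem_zpowers, Submonoid.mem_powers_iff] at h1
      obtain ⟨r, hr⟩ := h1
      exact ⟨r, hr.symm⟩
    · intro g hg
      rw [← hUu, ← hC, Subgroup.mem_centralizer_iff]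
      intro y hy
      have hy' : y ∈ Subgroup.zpowers u := by rw [← hUu]; exact hy
      rw [Subgroup.mem_zpowers_iff] at hy'
      obtain ⟨k, rfl⟩ := hy'
      exact ((hg.zpow_right k).eq).symm
  have hnotall : ∃ g, g ∉ Subgroup.zpowers u := by
    by_contra hall
    push Not at hall
    apply hna
    refine ⟨⟨fun a b => ?_⟩⟩
    have ha := hall a
    have hb := hall b
    rw [Subgroup.mem_zpowers_iff] at ha hb
    obtain ⟨i, rfl⟩ := ha
    obtain ⟨j, rfl⟩ := hb
    exact zpow_mul_comm u i j
  obtain ⟨g1, hg1⟩ := hnotall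
  have hn2 : 2 ≤ n := by
    by_contra hlt
    apply hg1
    apply hSC.2.2.2
    rcases Nat.lt_or_ge n 1 with h0 | h1
    · have hn0 : n = 0 := by omega
      rw [hn0, pow_zero, orderOf_eq_one_iff] at hord
      rw [hord]; exact Commute.one_right g1
    · have hn1 : n = 1 := by omega
      have := z_central hSC h1 g1
      rw [hn1] at this
      simpa using this
  have hn1 : 1 ≤ n := by omega
  by_cases hMU : ∀ g, Commute g (u ^ p) → g ∈ Subgroup.zpowers u
  · left
    exact caseB_main hSC hn1 hMU ⟨g1, hg1⟩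
  · push Not at hMU
    obtain ⟨x, hx, hxU⟩ := hMU
    by_cases hcase : p ≠ 2 ∨ 3 ≤ n
    · right
      have hmain := caseA_main hSC hn1 hcase (Subgroup.centralizer (Cfsg.powerClosure p 1 U : Set G))
        (mem_M_iff U hUu) hx hxU
      rw [← hUu] at hmain
      exact hmain
    · left
      push Not at hcase
      obtain ⟨hp2, hn3⟩ := hcase
      subst hp2
      have hn2' : n = 2 := by omega
      subst hn2'
      obtain ⟨h1, h2⟩ := small_case hSC hxU
      refine ⟨rfl, h1, ?_⟩
      rcases h2 with h2 | h2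
      · exact Or.inl h2
      · exact Or.inr (Or.inl h2)

end Cfsg.Agent.S3761
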