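import Cfsg.Statements.S3763
import Mathlib
import Cfsg.Agent.Lib.Helper3_Extra2b

set_option autoImplicit false
open Cfsg

namespace Cfsg.Agent.S3763

/-- Let E be an extraspecial 2-group of order 2^(2n+1). Then the largest elementary abelian subgroups of E have order 2^n or 2^(n+1); and two extraspecial 2-groups of the same order whose largest elementary abelian subgroups have the same order are isomorphic. -/
theorem result {E : Type*} [Group E] [Finite E] (hE : Cfsg.IsExtraspecial 2 E) (n : ℕ) (hn : Nat.card E = 2 ^ (2 * n + 1)) : ((Cfsg.PRankLE 2 n E ∧ ¬ Cfsg.PRankLE 2 (n - 1) E) ∨ (Cfsg.PRankLE 2 (n + 1) E ∧ ¬ Cfsg.PRankLE 2 n E)) ∧ ∀ (E' : Type*) [Group E'] [Finite E'], Cfsg.IsExtraspecial 2 E' → Nat.card E' = Nat.card E → (∀ k : ℕ, Cfsg.PRankLE 2 k E ↔ Cfsg.PRankLE 2 k E') → Nonempty (E ≃* E') := by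
  have hsq := Cfsg.Agent.Lib.Helper3_Extra2b.sgn_sq hE
  have hne : Cfsg.Agent.Lib.Helper3_Extra2b.sgn E ≠ 0 := by
    intro h0
    rw [h0] at hsq
    have : 0 < Nat.card E := Nat.card_pos
    have : (0 : ℤ) < (Nat.card E : ℤ) := by exact_mod_cast this
    norm_num at hsq
    omega
  constructor
  · rcases lt_trichotomy 0 (Cfsg.Agent.Lib.Helper3_Extra2b.sgn E) with h | h | h
    · right; exact Cfsg.Agent.Lib.Helper3_Extra2b.rank_pos hE n hn h
    · exact absurd h.symm hne
    · left; exact Cfsg.Agent.Lib.Helper3_Extra2b.rank_neg hE n hn h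
  · intro E' _ _ hE' hc hiff
    have hn' : Nat.card E' = 2 ^ (2 * n + 1) := hc.trans hn
    have hsq' := Cfsg.Agent.Lib.Helper3_Extra2b.sgn_sq hE'
    have hcz : (Nat.card E' : ℤ) = (Nat.card E : ℤ) := by exact_mod_cast hc
    have heq : Cfsg.Agent.Lib.Helper3_Extra2b.sgn E ^ 2 = Cfsg.Agent.Lib.Helper3_Extra2b.sgn E' ^ 2 := by
      rw [hsq, hsq', hcz]
    have hsame : Cfsg.Agent.Lib.Helper3_Extra2b.sgn E = Cfsg.Agent.Lib.Helper3_Extra2b.sgn E' := by
      rcases sq_eq_sq_iff_eq_or_eq_neg.mp heq with h | h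
      · exact h
      · exfalso
        rcases lt_trichotomy 0 (Cfsg.Agent.Lib.Helper3_Extra2b.sgn E) with h0 | h0 | h0
        · have h1 := Cfsg.Agent.Lib.Helper3_Extra2b.rank_pos hE n hn h0
          have h2 := Cfsg.Agent.Lib.Helper3_Extra2b.rank_neg hE' n hn' (by linarith)
          exact h1.2 ((hiff n).mpr h2.1)
        · exact hne h0.symm
        · have h1 := Cfsg.Agent.Lib.Helper3_Extra2b.rank_neg hE n hn h0
          have h2 := Cfsg.Agent.Lib.Helper3_Extra2b.rank_pos hE' n hn' (by linarith)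
          exact h2.2 ((hiff n).mp h1.1)
    apply Cfsg.Agent.Lib.Helper3_Extra2.iso_of_card hE hE' hc.symm
    unfold Cfsg.Agent.Lib.Helper3_Extra2b.sgn at hsame
    rw [hcz] at hsame
    have : (Nat.card {x : E // x ^ 2 = 1} : ℤ) = (Nat.card {x : E' // x ^ 2 = 1} : ℤ) := by linarith
    exact_mod_cast this

end Cfsg.Agent.S3763
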