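import Cfsg.Statements.S3766
import Mathlib
import Cfsg.Agent.S0008
import Cfsg.Agent.Lib.Lead_SZ

set_option autoImplicit false
open Cfsg

namespace Cfsg.Agent.S3766

open scoped commutatorElement Pointwise

variable {G : Type*} [Group G]

/-- chief factor predicate -/
def IsChief (U V : Subgroup G) : Prop :=
  U.Normal ∧ V.Normal ∧ V < U ∧ ∀ W : Subgroup G, W.Normal → V ≤ W → W ≤ U → W = V ∨ W = U

theorem fitting_char (X : Type*) [Group X] : (Cfsg.fittingSubgroup X).Characteristic := by
  rw [Subgroup.characteristic_iff_map_le]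
  intro φ
  rw [Subgroup.map_le_iff_le_comap]
  unfold Cfsg.fittingSubgroup
  apply sSup_le
  rintro M ⟨hMn, hMnil⟩
  refine (Subgroup.le_comap_map φ.toMonoidHom M).trans (Subgroup.comap_mono (le_sSup ⟨?_, ?_⟩))
  · exact Subgroup.Normal.map hMn _ φ.surjective
  · haveI := hMnil
    exact (Group.nilpotent_of_mulEquiv (M.equivMapOfInjective φ.toMonoidHom φ.injective))

set_option maxHeartbeats 1000000 in
/-- a nilpotent normal subgroup centralizes every chief factor -/
theorem centralizes_of_nilpotent [Finite G] (K : Subgroup G) [K.Normal] (hK : Group.IsNilpotent ↥K)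
    (U V : Subgroup G) (hUV : IsChief U V) : ∀ g ∈ K, ∀ u ∈ U, u * g * u⁻¹ * g⁻¹ ∈ V := by
  obtain ⟨hUn, hVn, hlt, hmax⟩ := hUV
  haveI := hUn
  haveI := hVn
  have hW : (⁅U, K⁆ ⊔ V).Normal := inferInstance
  have hWU : ⁅U, K⁆ ⊔ V ≤ U := sup_le (Subgroup.commutator_le_left U K) hlt.le
  rcases hmax _ hW le_sup_right hWU with h | h
  · intro g hg u hu
    have h1 : ⁅u, g⁆ ∈ ⁅U, K⁆ := Subgroup.commutator_mem_commutator hu hg
    have h2 := h.le (Subgroup.mem_sup_left h1)
    rwa [commutatorElement_def] at h2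
  · exfalso
    obtain ⟨n, H, ⟨hH0, hHs⟩, hHn⟩ :=
      (Subgroup.nilpotent_iff_finite_descending_central_series ↥K).mp hK
    obtain ⟨T, hT⟩ : ∃ T : ℕ → Subgroup G, T = fun j => Nat.rec U (fun _ T => ⁅T, K⁆) j := ⟨_, rfl⟩
    have hT0 : T 0 = U := by subst hT; rfl
    have hTs : ∀ j, T (j + 1) = ⁅T j, K⁆ := by intro j; subst hT; rfl
    have hTn : ∀ j, (T j).Normal := by
      intro j
      induction j with
      | zero => rw [hT0]; exact hUn
      | succ j ih => rw [hTs]; haveI := ih; infer_instance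
    have hTV : ∀ j, U ≤ T j ⊔ V := by
      intro j
      induction j with
      | zero => rw [hT0]; exact le_sup_left
      | succ j ih =>
        haveI := hTn j
        haveI := hTn (j + 1)
        have h3 : ⁅U, K⁆ ≤ T (j + 1) ⊔ V := by
          rw [Subgroup.commutator_le]
          intro u hu k hk
          have h4 : u ∈ ((T j ⊔ V : Subgroup G) : Set G) := ih hu
          rw [Subgroup.mul_normal] at h4
          obtain ⟨t, ht, v, hv, rfl⟩ := Set.mem_mul.mp h4
          have e : ⁅t * v, k⁆ = t * (v * (k * v⁻¹ * k⁻¹)) * t⁻¹ * ⁅t, k⁆ := by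
            simp only [commutatorElement_def]; group
          rw [e]
          refine Subgroup.mul_mem _ (Subgroup.mem_sup_right ?_) (Subgroup.mem_sup_left ?_)
          · apply hVn.conj_mem
            exact V.mul_mem hv (hVn.conj_mem _ (V.inv_mem hv) k)
          · rw [hTs]; exact Subgroup.commutator_mem_commutator ht hk
        calc U = ⁅U, K⁆ ⊔ V := h.symm
          _ ≤ T (j + 1) ⊔ V := sup_le h3 le_sup_right
    have hTH : ∀ j, T (j + 1) ≤ (H j).map K.subtype := by
      intro j
      induction j with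
      | zero =>
        rw [hTs, hT0, hH0, ← MonoidHom.range_eq_map, Subgroup.range_subtype]
        exact Subgroup.commutator_le_right U K
      | succ j ih =>
        rw [hTs (j + 1), Subgroup.commutator_le]
        intro x hx k hk
        obtain ⟨x', hx', rfl⟩ := Subgroup.mem_map.mp (ih hx)
        have := hHs x' j hx' ⟨k, hk⟩
        exact ⟨_, this, rfl⟩
    have h6 : T (n + 1) = ⊥ := by
      rw [eq_bot_iff]
      refine (hTH n).trans ?_
      rw [hHn, Subgroup.map_bot]
    have h7 := hTV (n + 1)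
    rw [h6, bot_sup_eq] at h7
    exact not_le_of_gt hlt h7

/-- the elements of `N` centralizing every chief factor below `F` -/
def cent (N F : Subgroup G) [hN : N.Normal] : Subgroup G where
  carrier := {g | g ∈ N ∧ ∀ U V : Subgroup G, IsChief U V → U ≤ F →
    ∀ u ∈ U, u * g * u⁻¹ * g⁻¹ ∈ V}
  one_mem' := by
    refine ⟨N.one_mem, ?_⟩
    intro U V _ _ u _
    simp
  mul_mem' := by
    rintro g h ⟨hgN, hg⟩ ⟨hhN, hh⟩
    refine ⟨N.mul_mem hgN hhN, ?_⟩
    intro U V hUV hUF u hu
    have e : u * (g * h) * u⁻¹ * (g * h)⁻¹ =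
        (u * g * u⁻¹ * g⁻¹) * (g * (u * h * u⁻¹ * h⁻¹) * g⁻¹) := by group
    rw [e]
    exact V.mul_mem (hg U V hUV hUF u hu) (hUV.2.1.conj_mem _ (hh U V hUV hUF u hu) g)
  inv_mem' := by
    rintro g ⟨hgN, hg⟩
    refine ⟨N.inv_mem hgN, ?_⟩
    intro U V hUV hUF u hu
    have e : u * g⁻¹ * u⁻¹ * g⁻¹⁻¹ = g⁻¹ * (u * g * u⁻¹ * g⁻¹)⁻¹ * g⁻¹⁻¹ := by group
    rw [e]
    exact hUV.2.1.conj_mem _ (V.inv_mem (hg U V hUV hUF u hu)) g⁻¹

theorem mem_cent (N F : Subgroup G) [hN : N.Normal] (g : G) :
    g ∈ cent N F ↔ g ∈ N ∧ ∀ U V : Subgroup G, IsChief U V → U ≤ F →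
      ∀ u ∈ U, u * g * u⁻¹ * g⁻¹ ∈ V := Iff.rfl

instance cent_normal (N F : Subgroup G) [hN : N.Normal] : (cent N F).Normal := by
  constructor
  rintro g ⟨hgN, hg⟩ x
  refine ⟨hN.conj_mem g hgN x, ?_⟩
  intro U V hUV hUF u hu
  have e : u * (x * g * x⁻¹) * u⁻¹ * (x * g * x⁻¹)⁻¹ =
      x * ((x⁻¹ * u * x⁻¹⁻¹) * g * (x⁻¹ * u * x⁻¹⁻¹)⁻¹ * g⁻¹) * x⁻¹ := by group
  rw [e]
  exact hUV.2.1.conj_mem _ (hg U V hUV hUF _ (hUV.1.conj_mem u hu x⁻¹)) x

theorem exists_chief_below [Finite G] (K : Subgroup G) (hK : K.Normal) (hne : K ≠ ⊥) :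
    ∃ V : Subgroup G, IsChief K V := by
  have hbot : (⊥ : Subgroup G) ∈ {V : Subgroup G | V.Normal ∧ V < K} :=
    ⟨inferInstance, bot_lt_iff_ne_bot.mpr hne⟩
  obtain ⟨V, -, hV⟩ := Set.Finite.exists_le_maximal (Set.toFinite _) hbot
  refine ⟨V, hK, hV.1.1, hV.1.2, ?_⟩
  intro W hWn hVW hWK
  rcases eq_or_lt_of_le hWK with h | h
  · right; exact h
  · left; exact le_antisymm (hV.2 ⟨hWn, h⟩ hVW) hVW

open Classical in
/-- a chosen maximal normal subgroup below -/
noncomputable def next (K : Subgroup G) : Subgroup G :=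
  if h : ∃ V, IsChief K V then h.choose else ⊥

theorem next_normal (K : Subgroup G) : (next K).Normal := by
  unfold next
  split_ifs with h
  · exact h.choose_spec.2.1
  · infer_instance

theorem next_le (K : Subgroup G) : next K ≤ K := by
  unfold next
  split_ifs with h
  · exact h.choose_spec.2.2.1.le
  · exact bot_le

theorem next_chief [Finite G] (K : Subgroup G) (hK : K.Normal) (hne : K ≠ ⊥) :
    IsChief K (next K) := by
  have h := exists_chief_below K hK hne
  unfold next
  rw [dif_pos h]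
  exact h.choose_spec

/-- the descending chain of normal subgroups -/
noncomputable def chain (F : Subgroup G) : ℕ → Subgroup G
  | 0 => F
  | n + 1 => next (chain F n)

theorem chain_normal (F : Subgroup G) [hF : F.Normal] (n : ℕ) : (chain F n).Normal := by
  cases n with
  | zero => exact hF
  | succ n => exact next_normal _

theorem chain_le (F : Subgroup G) (n : ℕ) : chain F n ≤ F := by
  induction n with
  | zero => exact le_rfl
  | succ n ih => exact (next_le _).trans ih

theorem chain_bot [Finite G] (F : Subgroup G) [hF : F.Normal] : ∃ n, chain F n = ⊥ := by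
  have key : ∀ n, chain F n = ⊥ ∨ Nat.card (chain F n) + n ≤ Nat.card F := by
    intro n
    induction n with
    | zero => right; exact le_rfl
    | succ n ih =>
      by_cases hb : chain F n = ⊥
      · left
        have := next_le (chain F n)
        rw [hb, le_bot_iff] at this
        show next (chain F n) = ⊥
        rw [hb]
        exact this
      · right
        have h1 := (next_chief _ (chain_normal F n) hb).2.2.1
        have h2 := Cfsg.Agent.Lib.Lead_SZ.card_lt h1
        rcases ih with h | h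
        · exact absurd h hb
        · have : Nat.card (chain F (n + 1)) < Nat.card (chain F n) := h2
          omega
  refine ⟨Nat.card F + 1, ?_⟩
  rcases key (Nat.card F + 1) with h | h
  · exact h
  · omega

theorem nilpotent_of_chain [Finite G] (N F D : Subgroup G) [N.Normal] [F.Normal] (hD : D ≤ cent N F)
    (hDD : ⁅D, D⁆ ≤ F) : Group.IsNilpotent ↥D := by
  rw [Subgroup.nilpotent_iff_finite_descending_central_series]
  obtain ⟨m, hm⟩ := chain_bot F
  refine ⟨m + 1, fun n => Nat.casesOn n ⊤ (fun j => (chain F j).subgroupOf D), ⟨rfl, ?_⟩, ?_⟩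
  · intro x n hx g
    cases n with
    | zero =>
      show ⁅x, g⁆ ∈ (chain F 0).subgroupOf D
      rw [Subgroup.mem_subgroupOf]
      exact hDD (Subgroup.commutator_mem_commutator x.2 g.2)
    | succ j =>
      show ⁅x, g⁆ ∈ (chain F (j + 1)).subgroupOf D
      have hx' : (x : G) ∈ chain F j := hx
      rw [Subgroup.mem_subgroupOf]
      by_cases hb : chain F j = ⊥
      · rw [hb, Subgroup.mem_bot] at hx'
        have : x = 1 := Subtype.ext hx'
        rw [this]
        simp
      · have hch := next_chief _ (chain_normal F j) hb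
        have := ((mem_cent N F _).mp (hD g.2)).2 _ _ hch (chain_le F j) _ hx'
        exact this
  · show (chain F m).subgroupOf D = ⊥
    rw [hm]
    exact Subgroup.bot_subgroupOf D

theorem cent_le_fitting [Finite G] (hG : IsSolvable G) (N : Subgroup G) [N.Normal] :
    cent N ((Cfsg.fittingSubgroup ↥N).map N.subtype) ≤
      (Cfsg.fittingSubgroup ↥N).map N.subtype := by
  haveI := fitting_char ↥N
  obtain ⟨F, hF⟩ : ∃ F : Subgroup G, F = (Cfsg.fittingSubgroup ↥N).map N.subtype := ⟨_, rfl⟩
  rw [← hF]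
  haveI hFn : F.Normal := by rw [hF]; infer_instance
  obtain ⟨D, hD⟩ : ∃ D : ℕ → Subgroup G,
      D = fun i => Nat.rec (cent N F) (fun _ D => ⁅D, D⁆) i := ⟨_, rfl⟩
  have hD0 : D 0 = cent N F := by subst hD; rfl
  have hDs : ∀ i, D (i + 1) = ⁅D i, D i⁆ := by intro i; subst hD; rfl
  have hDn : ∀ i, (D i).Normal := by
    intro i
    induction i with
    | zero => rw [hD0]; infer_instance
    | succ i ih => rw [hDs]; haveI := ih; infer_instance
  have hDC : ∀ i, D i ≤ cent N F := by
    intro i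
    induction i with
    | zero => rw [hD0]
    | succ i ih => rw [hDs]; haveI := hDn i; exact (Subgroup.commutator_le_left _ _).trans ih
  have hDder : ∀ i, D i ≤ derivedSeries G i := by
    intro i
    induction i with
    | zero => exact le_top
    | succ i ih => rw [hDs, derivedSeries_succ]; exact Subgroup.commutator_mono ih ih
  obtain ⟨k, hk⟩ := hG.solvable
  have hDk : D k = ⊥ := by rw [eq_bot_iff, ← hk]; exact hDder k
  have hCN : cent N F ≤ N := fun g hg => hg.1
  have step : ∀ j, D (j + 1) ≤ F → D j ≤ F := by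
    intro j hj
    rw [hDs] at hj
    haveI := nilpotent_of_chain N F (D j) (hDC j) hj
    have hDN : D j ≤ N := (hDC j).trans hCN
    have h1 : (D j).subgroupOf N ≤ Cfsg.fittingSubgroup ↥N := by
      unfold Cfsg.fittingSubgroup
      apply le_sSup
      refine ⟨?_, ?_⟩
      · haveI := hDn j; infer_instance
      · exact Group.nilpotent_of_mulEquiv (Subgroup.subgroupOfEquivOfLe hDN).symm
    have h2 := Subgroup.map_mono (f := N.subtype) h1
    rwa [Subgroup.map_subgroupOf_eq_of_le hDN, ← hF] at h2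
  have all : ∀ d j, j + d = k → D j ≤ F := by
    intro d
    induction d with
    | zero => intro j hj; rw [add_zero] at hj; rw [hj, hDk]; exact bot_le
    | succ d ih => intro j hj; exact step j (ih (j + 1) (by omega))
  rw [← hD0]; exact all k 0 (by omega)


/-- Let G be a finite solvable group and N a normal subgroup of G. Call a pair V < U of normal subgroups of G a chief factor of G when no normal subgroup of G lies strictly between them; an element g centralizes the chief factor U/V when u g u⁻¹ g⁻¹ ∈ V for all u ∈ U. Then an element of G lies in the Fitting subgroup F(N) if and only if it lies in N and centralizes every chief factor of G; and also if and only if it lies in N and centralizes every chief factor U/V of G with U ≤ F(N). -/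
theorem result {G : Type*} [Group G] [Finite G] (hG : Group.IsSolvable G) (N : Subgroup G) [N.Normal] (g : G) : (g ∈ (Cfsg.fittingSubgroup ↥N).map N.subtype ↔ g ∈ N ∧ ∀ U V : Subgroup G, (U.Normal ∧ V.Normal ∧ V < U ∧ ∀ W : Subgroup G, W.Normal → V ≤ W → W ≤ U → W = V ∨ W = U) → ∀ u ∈ U, u * g * u⁻¹ * g⁻¹ ∈ V) ∧ (g ∈ (Cfsg.fittingSubgroup ↥N).map N.subtype ↔ g ∈ N ∧ ∀ U V : Subgroup G, (U.Normal ∧ V.Normal ∧ V < U ∧ ∀ W : Subgroup G, W.Normal → V ≤ W → W ≤ U → W = V ∨ W = U) → U ≤ (Cfsg.fittingSubgroup ↥N).map N.subtype → ∀ u ∈ U, u * g * u⁻¹ * g⁻¹ ∈ V) := by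
  haveI := fitting_char ↥N
  obtain ⟨F, hF⟩ : ∃ F : Subgroup G, F = (Cfsg.fittingSubgroup ↥N).map N.subtype := ⟨_, rfl⟩
  rw [← hF]
  haveI hFn : F.Normal := by rw [hF]; infer_instance
  have hFnil : Group.IsNilpotent ↥F := by
    rw [hF]
    haveI : Group.IsNilpotent ↥(Cfsg.fittingSubgroup ↥N) := Cfsg.Agent.S0008.result
    exact Group.nilpotent_of_mulEquiv
      ((Cfsg.fittingSubgroup ↥N).equivMapOfInjective N.subtype N.subtype_injective)
  have hFN : F ≤ N := by rw [hF]; exact Subgroup.map_subtype_le _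
  have h12 : g ∈ F → g ∈ N ∧ ∀ U V : Subgroup G, IsChief U V →
      ∀ u ∈ U, u * g * u⁻¹ * g⁻¹ ∈ V :=
    fun hg => ⟨hFN hg, fun U V hUV u hu => centralizes_of_nilpotent F hFnil U V hUV g hg u hu⟩
  have h31 : (g ∈ N ∧ ∀ U V : Subgroup G, IsChief U V → U ≤ F →
      ∀ u ∈ U, u * g * u⁻¹ * g⁻¹ ∈ V) → g ∈ F := by
    intro h
    have := cent_le_fitting hG N
    rw [← hF] at this
    exact this ((mem_cent N F g).mpr h)
  exact ⟨⟨fun hg => h12 hg, fun h => h31 ⟨h.1, fun U V hUV _ => h.2 U V hUV⟩⟩,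
    ⟨fun hg => ⟨(h12 hg).1, fun U V hUV _ => (h12 hg).2 U V hUV⟩, fun h => h31 h⟩⟩

end Cfsg.Agent.S3766
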