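import Cfsg.Statements.S3768
import Mathlib
import Cfsg.Agent.Lib.Helper7_FrobGroup

set_option autoImplicit false
open Cfsg
open scoped Pointwise

namespace Cfsg.Agent.S3768

open Cfsg.Agent.Lib.Helper7_FrobGroup

/-- Let R be a Frobenius complement in the finite group G and N a normal subgroup of G not containing the Frobenius kernel. Then the image of R is a Frobenius complement in G/N, with kernel the image of the kernel. -/
theorem result {G : Type*} [Group G] [Finite G] (R : Subgroup G) (hR : Cfsg.IsFrobeniusComplement R) (N : Subgroup G) [N.Normal] (hKN : ¬ Cfsg.frobeniusKernel R ⊆ N) : Cfsg.IsFrobeniusComplement (R.map (QuotientGroup.mk' N)) ∧ Cfsg.frobeniusKernel (R.map (QuotientGroup.mk' N)) = QuotientGroup.mk' N '' Cfsg.frobeniusKernel R := by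
  set K := kernel R hR with hK
  have hKn : K.Normal := kernel_normal R hR
  set π := QuotientGroup.mk' N with hπ
  have hπ1 : ∀ x : G, π x = 1 ↔ x ∈ N := fun x => QuotientGroup.eq_one_iff x
  -- step 0
  have hNK : N ≤ K := by
    rcases normal_le_or_ge R hR N with h | h
    · exact h
    · exfalso
      apply hKN
      rw [← kernel_coe R hR]
      exact h
  have hKR : ∀ x : G, x ∈ K → x ∈ R → x = 1 := fun x hx hxR => kernel_inf R hR hx hxR
  -- an element of K outside N
  obtain ⟨k₀, hk₀K, hk₀N⟩ : ∃ k₀ ∈ K, k₀ ∉ N := by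
    by_contra hcon
    push Not at hcon
    apply hKN
    rw [← kernel_coe R hR]
    exact hcon
  -- images
  have hKbarR : ∀ k ∈ K, ∀ r ∈ R, π k = π r → r = 1 := by
    intro k hk r hr he
    have h1 : k⁻¹ * r ∈ N := QuotientGroup.eq.mp he
    have h2 : r = k * (k⁻¹ * r) := by group
    have h3 : r ∈ K := by
      rw [h2]; exact K.mul_mem hk (hNK h1)
    exact hKR r h3 hr
  -- the fixed-point-free trick
  have hfpf : ∀ r ∈ R, r ≠ 1 → ∀ k ∈ K, r⁻¹ * k⁻¹ * r * k ∈ N → k ∈ N := by
    intro r hr hr1 k hk hkN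
    let φ : G → G := fun x => r⁻¹ * x⁻¹ * r * x
    have hφinj : Set.InjOn φ (K : Set G) := by
      intro x hx y hy hxy
      have h1 : r⁻¹ * x⁻¹ * r * x = r⁻¹ * y⁻¹ * r * y := hxy
      have h2 : (y * x⁻¹) * r = r * (y * x⁻¹) := by
        have h3 : x⁻¹ * r * x = y⁻¹ * r * y := by
          have := congrArg (fun z => r * z) h1
          simpa [mul_assoc] using this
        have h4 : y * (x⁻¹ * r * x) * x⁻¹ = y * (y⁻¹ * r * y) * x⁻¹ := by rw [h3]
        have e1 : y * (x⁻¹ * r * x) * x⁻¹ = (y * x⁻¹) * r := by group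
        have e2 : y * (y⁻¹ * r * y) * x⁻¹ = r * (y * x⁻¹) := by group
        rw [e1, e2] at h4
        exact h4
      have h5 : y * x⁻¹ ∈ R := mem_of_commute hR hr hr1 h2
      have h6 : y * x⁻¹ ∈ K := K.mul_mem hy (K.inv_mem hx)
      have h7 := hKR _ h6 h5
      have : y = (y * x⁻¹) * x := by group
      rw [h7, one_mul] at this
      exact this.symm
    have hφN : Set.MapsTo φ (N : Set G) (N : Set G) := by
      intro x hx
      show r⁻¹ * x⁻¹ * r * x ∈ N
      have h1 : r⁻¹ * x⁻¹ * r⁻¹⁻¹ ∈ N := Subgroup.Normal.conj_mem inferInstance _ (N.inv_mem hx) _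
      rw [inv_inv] at h1
      exact N.mul_mem h1 hx
    have hφNinj : Set.InjOn φ (N : Set G) := hφinj.mono hNK
    have hbij : Set.BijOn φ (N : Set G) (N : Set G) :=
      ((Set.toFinite (N : Set G)).injOn_iff_bijOn_of_mapsTo hφN).mp hφNinj
    obtain ⟨n, hn, hne⟩ := hbij.surjOn hkN
    have := hφinj (hNK hn) hk hne
    rw [← this]
    exact hn
  -- the image of R is a Frobenius complement
  have hRbar : Cfsg.IsFrobeniusComplement (R.map π) := by
    refine ⟨?_, ?_, ?_⟩
    · -- nontrivial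
      intro hbot
      obtain ⟨r, hr, hr1⟩ : ∃ r ∈ R, r ≠ 1 := by
        by_contra hcon
        push Not at hcon
        exact hR.1 ((Subgroup.eq_bot_iff_forall R).mpr hcon)
      have h1 : π r ∈ R.map π := ⟨r, hr, rfl⟩
      rw [hbot, Subgroup.mem_bot] at h1
      have h2 : π r = π 1 := by rw [h1, map_one]
      exact hr1 (hKR r (hNK ((hπ1 r).mp h1)) hr)
    · -- proper
      intro htop
      have h1 : π k₀ ∈ R.map π := by rw [htop]; trivial
      obtain ⟨r, hr, hre⟩ := h1
      have h2 := hKbarR k₀ hk₀K r hr hre.symm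
      rw [h2, map_one] at hre
      exact hk₀N ((hπ1 k₀).mp hre.symm)
    · -- malnormal
      intro gbar hgbar
      obtain ⟨g, rfl⟩ := QuotientGroup.mk'_surjective N gbar
      rw [Subgroup.eq_bot_iff_forall]
      rintro x ⟨hx1, hx2⟩
      obtain ⟨r₁, hr₁, rfl⟩ := hx1
      have hx2' : π r₁ ∈ MulAut.conj ((QuotientGroup.mk' N) g) • Subgroup.map π R := hx2
      rw [mem_conj_smul_iff] at hx2'
      obtain ⟨r₂, hr₂, hr₂e⟩ := hx2'
      obtain ⟨k, hk, h, hh, rfl⟩ := exists_mul R hR g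
      have hkN : k ∉ N := by
        intro hkN
        apply hgbar
        refine ⟨h, hh, ?_⟩
        show π h = π (k * h)
        rw [map_mul, (hπ1 k).mpr hkN, one_mul]
      -- r₃ = h r₂ h⁻¹
      set r₃ := h * r₂ * h⁻¹ with hr₃
      have hr₃R : r₃ ∈ R := R.mul_mem (R.mul_mem hh hr₂) (R.inv_mem hh)
      have he : π r₃ = π (k⁻¹ * r₁ * k) := by
        have e1 : π r₂ = (π (k * h))⁻¹ * π r₁ * π (k * h) := hr₂e
        rw [hr₃, map_mul, map_mul, e1]
        simp only [map_mul, map_inv]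
        group
      have h1 : r₃⁻¹ * (k⁻¹ * r₁ * k) ∈ N := QuotientGroup.eq.mp he
      -- r₃ = r₁
      have h2 : r₃⁻¹ * r₁ ∈ K := by
        have e2 : r₃⁻¹ * r₁ = (r₃⁻¹ * (k⁻¹ * r₁ * k)) * (k⁻¹ * (r₁⁻¹ * k * r₁⁻¹⁻¹)) := by group
        rw [e2]
        exact K.mul_mem (hNK h1) (K.mul_mem (K.inv_mem hk) (hKn.conj_mem k hk r₁⁻¹))
      have h3 : r₃⁻¹ * r₁ = 1 := hKR _ h2 (R.mul_mem (R.inv_mem hr₃R) hr₁)
      have h4 : r₃ = r₁ := by
        have : r₁ = r₃ * (r₃⁻¹ * r₁) := by group
        rw [h3, mul_one] at this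
        exact this.symm
      rw [h4] at h1
      by_contra hne
      have hr₁1 : r₁ ≠ 1 := by
        rintro rfl
        exact hne (map_one π)
      have h5 : r₁⁻¹ * k⁻¹ * r₁ * k ∈ N := by
        have : r₁⁻¹ * k⁻¹ * r₁ * k = r₁⁻¹ * (k⁻¹ * r₁ * k) := by group
        rw [this]; exact h1
      exact hkN (hfpf r₁ hr₁ hr₁1 k hk h5)
  refine ⟨hRbar, ?_⟩
  -- the kernel
  rw [← kernel_coe _ hRbar, ← kernel_coe R hR]
  have hKbar : (K.map π : Set (G ⧸ N)) = π '' (K : Set G) := rfl
  rw [← hKbar]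
  congr 1
  apply le_antisymm
  · intro x hx
    obtain ⟨g, rfl⟩ := QuotientGroup.mk'_surjective N x
    obtain ⟨k, hk, h, hh, rfl⟩ := exists_mul R hR g
    have hk' : π k ∈ kernel (R.map π) hRbar := by
      rw [mem_kernel_iff]
      by_cases h1 : π k = 1
      · exact Or.inl h1
      · right
        intro gbar hmem
        obtain ⟨g', rfl⟩ := QuotientGroup.mk'_surjective N gbar
        rw [mem_conj_smul_iff] at hmem
        obtain ⟨r, hr, hre⟩ := hmem
        have e1 : π r = π (g'⁻¹ * k * g') := by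
          rw [hre]; simp only [map_mul, map_inv]; rfl
        have h2 : g'⁻¹ * k * g'⁻¹⁻¹ ∈ K := hKn.conj_mem k hk g'⁻¹
        rw [inv_inv] at h2
        have h3 := hKbarR _ h2 r hr e1.symm
        rw [h3, map_one] at e1
        apply h1
        have e2 : π k = π g' * π (g'⁻¹ * k * g') * (π g')⁻¹ := by
          simp only [map_mul, map_inv]; group
        rw [e2, ← e1]; group
    have hh' : π h ∈ kernel (R.map π) hRbar := by
      have e : π h = (π k)⁻¹ * π (k * h) := by rw [map_mul]; group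
      rw [e]
      exact Subgroup.mul_mem _ (Subgroup.inv_mem _ hk') hx
    have h1 : π h = 1 := kernel_inf _ hRbar hh' ⟨h, hh, rfl⟩
    refine ⟨k, hk, ?_⟩
    rw [map_mul, h1, mul_one]
  · rintro _ ⟨k, hk, rfl⟩
    rw [mem_kernel_iff]
    by_cases h1 : π k = 1
    · exact Or.inl h1
    · right
      intro gbar hmem
      obtain ⟨g', rfl⟩ := QuotientGroup.mk'_surjective N gbar
      rw [mem_conj_smul_iff] at hmem
      obtain ⟨r, hr, hre⟩ := hmem
      have e1 : π r = π (g'⁻¹ * k * g') := by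
        rw [hre]; simp only [map_mul, map_inv]; rfl
      have h2 : g'⁻¹ * k * g'⁻¹⁻¹ ∈ K := hKn.conj_mem k hk g'⁻¹
      rw [inv_inv] at h2
      have h3 := hKbarR _ h2 r hr e1.symm
      rw [h3, map_one] at e1
      apply h1
      have e2 : π k = π g' * π (g'⁻¹ * k * g') * (π g')⁻¹ := by
        simp only [map_mul, map_inv]; group
      rw [e2, ← e1]; group

end Cfsg.Agent.S3768
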