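import Cfsg.Statements.S3772
import Mathlib
import Cfsg.Agent.Lib.Helper7_PFrattini
import Cfsg.Agent.Lib.Helper4_Frattini

set_option autoImplicit false
open Cfsg

namespace Cfsg.Agent.S3772

section signs
variable {G : Type*} [Group G]

/-- `1` if `g² = 1`, `-1` otherwise. -/
noncomputable def sq (g : G) : ℤ := by
  classical exact if g * g = 1 then 1 else -1

/-- `1` if `g` and `h` commute, `-1` otherwise. -/
noncomputable def cm (g h : G) : ℤ := by
  classical exact if g * h = h * g then 1 else -1

variable {z : G} (hz1 : z ≠ 1) (hzz : z * z = 1) (hzc : ∀ g : G, g * z = z * g)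
  (hsq : ∀ g : G, g * g = 1 ∨ g * g = z)
  (hcomm : ∀ g h : G, g * h = h * g ∨ g * h = h * g * z)

include hz1 hzz hzc hsq hcomm in
theorem key1 (g h : G) : sq (g * h) * sq h = sq g * cm g h := by
  classical
  have e : (g * h) * (g * h) = g * (h * g) * h := by group
  unfold sq cm
  rcases hcomm g h with hc | hc
  · have e2 : (g * h) * (g * h) = (g * g) * (h * h) := by rw [e, ← hc]; group
    rw [if_pos hc, e2]
    rcases hsq g with hg | hg <;> rcases hsq h with hh | hh <;> simp [hg, hh, hz1, hzz]
  · have hne : g * h ≠ h * g := by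
      rw [hc]; intro h'
      exact hz1 (mul_left_cancel (h'.trans (mul_one _).symm))
    have hc' : h * g = g * h * z := by rw [hc, mul_assoc, hzz, mul_one]
    have e2 : (g * h) * (g * h) = (g * g) * (h * h) * z := by
      rw [e, hc']
      calc g * (g * h * z) * h = g * g * h * (z * h) := by group
        _ = g * g * h * (h * z) := by rw [hzc h]
        _ = g * g * (h * h) * z := by group
    rw [if_neg hne, e2]
    rcases hsq g with hg | hg <;> rcases hsq h with hh | hh <;> simp [hg, hh, hz1, hzz]

include hz1 hzz hzc hcomm in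
/-- Translating by a non-commuting element flips the commutation sign. -/
theorem cm_flip {g h₀ : G} (h0 : g * h₀ ≠ h₀ * g) (h : G) : cm g (h₀ * h) = - cm g h := by
  classical
  have hc0 : g * h₀ = h₀ * g * z := by
    rcases hcomm g h₀ with hc | hc
    · exact absurd hc h0
    · exact hc
  unfold cm
  rcases hcomm g h with hc | hc
  · have hne : g * (h₀ * h) ≠ h₀ * h * g := by
      intro h'
      have e : g * (h₀ * h) = h₀ * h * g * z := by
        calc g * (h₀ * h) = (g * h₀) * h := by group
          _ = h₀ * g * z * h := by rw [hc0]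
          _ = h₀ * g * (z * h) := by group
          _ = h₀ * g * (h * z) := by rw [hzc h]
          _ = h₀ * (g * h) * z := by group
          _ = h₀ * (h * g) * z := by rw [hc]
          _ = h₀ * h * g * z := by group
      rw [e] at h'
      exact hz1 (mul_left_cancel (h'.trans (mul_one _).symm))
    rw [if_neg hne, if_pos hc]
  · have hne : g * h ≠ h * g := by
      rw [hc]; intro h'
      exact hz1 (mul_left_cancel (h'.trans (mul_one _).symm))
    have heq : g * (h₀ * h) = h₀ * h * g := by
      calc g * (h₀ * h) = (g * h₀) * h := by group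
        _ = h₀ * g * z * h := by rw [hc0]
        _ = h₀ * g * (z * h) := by group
        _ = h₀ * g * (h * z) := by rw [hzc h]
        _ = h₀ * (g * h) * z := by group
        _ = h₀ * (h * g * z) * z := by rw [hc]
        _ = h₀ * h * g * (z * z) := by group
        _ = h₀ * h * g := by rw [hzz, mul_one]
    rw [if_pos heq, if_neg hne]; simp

open scoped Classical in
include hz1 hzz hzc hcomm in
theorem key2 [Fintype G] (g : G) :
    ∑ h : G, cm g h = if g ∈ Subgroup.center G then (Fintype.card G : ℤ) else 0 := by
  classical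
  split_ifs with hg
  · have : ∀ h : G, cm g h = 1 := by
      intro h
      unfold cm
      rw [if_pos ((Subgroup.mem_center_iff.mp hg h).symm)]
    simp [this]
  · have : ∃ h₀ : G, g * h₀ ≠ h₀ * g := by
      by_contra hcon
      push Not at hcon
      exact hg (Subgroup.mem_center_iff.mpr fun h => (hcon h).symm)
    obtain ⟨h₀, h0⟩ := this
    have e1 : ∑ h : G, cm g (h₀ * h) = ∑ h : G, cm g h :=
      Equiv.sum_comp (Equiv.mulLeft h₀) (cm g)
    have e2 : ∑ h : G, cm g (h₀ * h) = - ∑ h : G, cm g h := by
      rw [← Finset.sum_neg_distrib]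
      exact Finset.sum_congr rfl fun h _ => cm_flip hz1 hzz hzc hcomm h0 h
    omega

include hz1 hzz hsq in
/-- Translating by a central element of order four flips the squaring sign. -/
theorem sq_flip {g₀ : G} (hg₀ : g₀ ∈ Subgroup.center G) (h0 : g₀ * g₀ ≠ 1) (g : G) :
    sq (g₀ * g) = - sq g := by
  classical
  have h0z : g₀ * g₀ = z := by
    rcases hsq g₀ with h | h
    · exact absurd h h0
    · exact h
  have e : (g₀ * g) * (g₀ * g) = z * (g * g) := by
    have := Subgroup.mem_center_iff.mp hg₀ g
    calc (g₀ * g) * (g₀ * g) = g₀ * (g * g₀) * g := by group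
      _ = g₀ * (g₀ * g) * g := by rw [this]
      _ = (g₀ * g₀) * (g * g) := by group
      _ = z * (g * g) := by rw [h0z]
  unfold sq
  rw [e]
  rcases hsq g with hg | hg <;> simp [hg, hz1, hzz]

open scoped Classical in
include hz1 hzz hsq in
theorem key3 [Fintype G] :
    (∑ g : G, (if g ∈ Subgroup.center G then sq g else 0) = (Nat.card (Subgroup.center G) : ℤ) ∧
      ∀ g ∈ Subgroup.center G, g * g = 1) ∨
    ∑ g : G, (if g ∈ Subgroup.center G then sq g else 0) = 0 := by
  classical
  by_cases hall : ∀ g ∈ Subgroup.center G, g * g = 1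
  · left
    refine ⟨?_, hall⟩
    have : ∀ g : G, (if g ∈ Subgroup.center G then sq g else 0) =
        (if g ∈ Subgroup.center G then (1 : ℤ) else 0) := by
      intro g
      split_ifs with hg
      · unfold sq; rw [if_pos (hall g hg)]
      · rfl
    rw [Finset.sum_congr rfl fun g _ => this g, Finset.sum_boole, Nat.card_eq_fintype_card,
      Fintype.card_subtype]
  · right
    push Not at hall
    obtain ⟨g₀, hg₀, h0⟩ := hall
    set f : G → ℤ := fun g => if g ∈ Subgroup.center G then sq g else 0 with hf
    have e1 : ∑ g : G, f (g₀ * g) = ∑ g : G, f g := Equiv.sum_comp (Equiv.mulLeft g₀) f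
    have e2 : ∑ g : G, f (g₀ * g) = - ∑ g : G, f g := by
      rw [← Finset.sum_neg_distrib]
      refine Finset.sum_congr rfl fun g _ => ?_
      have hiff : g₀ * g ∈ Subgroup.center G ↔ g ∈ Subgroup.center G := by
        constructor
        · intro h
          have := (Subgroup.center G).mul_mem ((Subgroup.center G).inv_mem hg₀) h
          rwa [inv_mul_cancel_left] at this
        · intro h; exact (Subgroup.center G).mul_mem hg₀ h
      simp only [hf]
      by_cases hg : g ∈ Subgroup.center G
      · rw [if_pos (hiff.mpr hg), if_pos hg]; exact sq_flip hz1 hzz hsq hg₀ h0 g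
      · rw [if_neg (fun h => hg (hiff.mp h)), if_neg hg]; simp
    have : ∑ g : G, f g = 0 := by omega
    exact this

open scoped Classical in
include hz1 hzz hzc hsq hcomm in
/-- The square of the squaring character sum. -/
theorem key4 [Fintype G] :
    (∑ g : G, sq g) ^ 2 =
      (Fintype.card G : ℤ) * ∑ g : G, (if g ∈ Subgroup.center G then sq g else 0) := by
  classical
  calc (∑ g : G, sq g) ^ 2 = ∑ h : G, ∑ g : G, sq g * sq h := by
        rw [pow_two, Finset.sum_mul_sum, Finset.sum_comm]
    _ = ∑ h : G, ∑ g : G, sq (g * h) * sq h := by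
        refine Finset.sum_congr rfl fun h _ => ?_
        exact (Equiv.sum_comp (Equiv.mulRight h) (fun g => sq g * sq h)).symm
    _ = ∑ h : G, ∑ g : G, sq g * cm g h := by
        refine Finset.sum_congr rfl fun h _ => Finset.sum_congr rfl fun g _ => ?_
        exact key1 hz1 hzz hzc hsq hcomm g h
    _ = ∑ g : G, sq g * ∑ h : G, cm g h := by
        rw [Finset.sum_comm]
        refine Finset.sum_congr rfl fun g _ => ?_
        rw [Finset.mul_sum]
    _ = ∑ g : G, sq g * (if g ∈ Subgroup.center G then (Fintype.card G : ℤ) else 0) := by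
        refine Finset.sum_congr rfl fun g _ => ?_
        rw [key2 hz1 hzz hzc hcomm g]
    _ = (Fintype.card G : ℤ) * ∑ g : G, (if g ∈ Subgroup.center G then sq g else 0) := by
        rw [Finset.mul_sum]
        refine Finset.sum_congr rfl fun g _ => ?_
        split_ifs <;> ring

/-- The squaring character sum in terms of the number of solutions of `x² = 1`. -/
theorem sum_sq [Fintype G] :
    ∑ g : G, sq g = 2 * (Nat.card {x : G // x ^ 2 = 1} : ℤ) - (Fintype.card G : ℤ) := by
  classical
  unfold sq
  rw [Finset.sum_ite]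
  simp only [Finset.sum_const, nsmul_eq_mul, mul_one, mul_neg]
  have h1 : Nat.card {x : G // x ^ 2 = 1} = (Finset.univ.filter fun g : G => g * g = 1).card := by
    rw [Nat.card_eq_fintype_card, Fintype.card_subtype]
    congr 1
    ext g
    simp [pow_two]
  have h2 := Finset.card_filter_add_card_filter_not (s := (Finset.univ : Finset G))
    (fun g : G => g * g = 1)
  rw [Finset.card_univ] at h2
  rw [h1]
  push_cast [← h2]
  ring

end signs

/-- Let G be a finite 2-group whose Frattini subgroup Φ(G) has order 2, with |G : Φ(G)| = 2^d, and let j be the number of elements x of G with x² = 1. Then j = 2^d, or j = 2^d + 2^(d−r) or j = 2^d − 2^(d−r) for some positive integer r with 2r ≤ d. Moreover if d = 2r and j is 2^d + 2^r or 2^d − 2^r, then G is extraspecial. -/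
theorem result {G : Type*} [Group G] [Finite G] (hG : IsPGroup 2 G) (hΦ : Nat.card (frattini G) = 2) (d : ℕ) (hd : (frattini G).index = 2 ^ d) : (Nat.card {x : G // x ^ 2 = 1} = 2 ^ d ∨ ∃ r : ℕ, 1 ≤ r ∧ 2 * r ≤ d ∧ (Nat.card {x : G // x ^ 2 = 1} = 2 ^ d + 2 ^ (d - r) ∨ Nat.card {x : G // x ^ 2 = 1} + 2 ^ (d - r) = 2 ^ d)) ∧ (∀ r : ℕ, d = 2 * r → (Nat.card {x : G // x ^ 2 = 1} = 2 ^ d + 2 ^ r ∨ Nat.card {x : G // x ^ 2 = 1} + 2 ^ r = 2 ^ d) → Cfsg.IsExtraspecial 2 G) := by
  classical
  haveI : Fact (Nat.Prime 2) := ⟨Nat.prime_two⟩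
  letI : Fintype G := Fintype.ofFinite G
  -- the non-identity element of `Φ(G)`
  obtain ⟨z', hz'1, hz'u⟩ := (Nat.card_eq_two_iff' (1 : frattini G)).mp hΦ
  set z : G := (z' : G) with hz
  have hzΦ : z ∈ frattini G := z'.2
  have hz1 : z ≠ 1 := fun h => hz'1 (Subtype.ext h)
  have hΦz : ∀ x ∈ frattini G, x = 1 ∨ x = z := by
    intro x hx
    by_cases h : x = 1
    · left; exact h
    · right
      have := hz'u ⟨x, hx⟩ (fun h' => h (congrArg Subtype.val h'))
      exact congrArg Subtype.val this
  have hzz : z * z = 1 := by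
    rcases hΦz (z * z) (mul_mem hzΦ hzΦ) with h | h
    · exact h
    · exfalso; apply hz1
      exact mul_left_cancel (h.trans (mul_one z).symm)
  have hnorm : (frattini G).Normal := inferInstance
  have hzc : ∀ g : G, g * z = z * g := by
    intro g
    rcases hΦz (g * z * g⁻¹) (hnorm.conj_mem z hzΦ g) with h | h
    · exfalso; apply hz1
      have : z = g⁻¹ * (g * z * g⁻¹) * g := by group
      rw [this, h]; group
    · calc g * z = (g * z * g⁻¹) * g := by group
        _ = z * g := by rw [h]
  have hsq : ∀ g : G, g * g = 1 ∨ g * g = z := by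
    intro g
    have := Cfsg.Agent.Lib.Helper7_PFrattini.pow_mem_frattini hG g
    rw [pow_two] at this
    exact hΦz _ this
  have hcomm : ∀ g h : G, g * h = h * g ∨ g * h = h * g * z := by
    intro g h
    rcases hΦz _ (Cfsg.Agent.Lib.Helper7_PFrattini.comm_mem_frattini hG g h) with h1 | h1
    · left
      calc g * h = (g * h * g⁻¹ * h⁻¹) * (h * g) := by group
        _ = h * g := by rw [h1, one_mul]
    · right
      calc g * h = (g * h * g⁻¹ * h⁻¹) * (h * g) := by group
        _ = z * (h * g) := by rw [h1]
        _ = h * g * z := (hzc (h * g)).symm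
  -- cardinalities
  have hcardG : Nat.card G = 2 ^ (d + 1) := by
    rw [← (frattini G).card_mul_index, hΦ, hd, pow_succ]; ring
  have hFc : (Fintype.card G : ℤ) = 2 ^ (d + 1) := by
    rw [← Nat.card_eq_fintype_card, hcardG]; push_cast; rfl
  obtain ⟨e, he⟩ := IsPGroup.iff_card.mp (hG.to_subgroup (Subgroup.center G))
  have hΦZ : frattini G ≤ Subgroup.center G := by
    intro x hx
    rcases hΦz x hx with h | h
    · rw [h]; exact Subgroup.one_mem _
    · rw [h]; exact Subgroup.mem_center_iff.mpr fun g => hzc g
  have he1 : 1 ≤ e := by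
    have := Subgroup.card_le_of_le hΦZ
    rw [hΦ, he] at this
    by_contra hcon
    have : e = 0 := by omega
    subst this
    simp at this
  -- the character sum
  set j := Nat.card {x : G // x ^ 2 = 1} with hj
  have hS : ∑ g : G, sq g = 2 * (j : ℤ) - 2 ^ (d + 1) := by rw [sum_sq, hFc]
  have hS2 := key4 hz1 hzz hzc hsq hcomm
  rw [hS, hFc] at hS2
  rcases key3 (G := G) hz1 hzz hsq with ⟨hT, hall⟩ | hT
  · -- the non-degenerate case
    rw [hT, he] at hS2
    -- `G` is not abelian
    have hZtop : Subgroup.center G ≠ ⊤ := by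
      intro htop
      have h1 : frattini G = ⊥ := by
        apply Cfsg.Agent.Lib.Helper4_Frattini.frattini_eq_bot_of_elementary (p := 2)
        · intro a b
          have : a ∈ Subgroup.center G := by rw [htop]; exact Subgroup.mem_top a
          exact (Subgroup.mem_center_iff.mp this b).symm
        · intro x
          rw [pow_two]
          exact hall x (by rw [htop]; exact Subgroup.mem_top x)
      rw [h1, Subgroup.card_bot] at hΦ
      omega
    have hed : e ≤ d := by
      have h1 := (Subgroup.center G).card_mul_index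
      rw [he, hcardG] at h1
      have h2 : (Subgroup.center G).index ∣ 2 ^ (d + 1) := Dvd.intro_left _ h1
      obtain ⟨k, hk, hk'⟩ := (Nat.dvd_prime_pow Nat.prime_two).mp h2
      have hk1 : k ≠ 0 := by
        intro h0
        rw [h0, pow_zero] at hk'
        exact hZtop (Subgroup.index_eq_one.mp hk')
      rw [hk', ← pow_add] at h1
      have := Nat.pow_right_injective (le_refl 2) h1
      omega
    obtain ⟨e', rfl⟩ : ∃ e', e = e' + 1 := ⟨e - 1, by omega⟩
    -- the absolute value of `j - 2^d`
    obtain ⟨a, ha⟩ : ∃ a : ℕ, (j = 2 ^ d + a ∨ j + a = 2 ^ d) := by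
      rcases le_total (2 ^ d) j with h | h
      · exact ⟨j - 2 ^ d, Or.inl (by omega)⟩
      · exact ⟨2 ^ d - j, Or.inr (by omega)⟩
    have ha2 : a ^ 2 = 2 ^ (d + e') := by
      have h3 : ((a : ℤ)) ^ 2 * 4 = 2 ^ (d + e') * 4 := by
        have h4 : (2 * (j : ℤ) - 2 ^ (d + 1)) ^ 2 = (a : ℤ) ^ 2 * 4 := by
          rcases ha with h | h
          · rw [h]; push_cast; ring
          · have : (j : ℤ) = 2 ^ d - a := by
              have := congrArg (fun n : ℕ => (n : ℤ)) h
              push_cast at this
              linarith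
            rw [this]; ring
        rw [← h4, hS2]
        push_cast
        ring
      have h5 : (a : ℤ) ^ 2 = 2 ^ (d + e') := by linarith
      exact_mod_cast h5
    obtain ⟨m, hm, ham⟩ := (Nat.dvd_prime_pow Nat.prime_two).mp
      (Dvd.intro_left (a ^ 1) (by rw [← ha2]; ring) : a ∣ 2 ^ (d + e'))
    have h2m : 2 * m = d + e' := by
      rw [ham, ← pow_mul] at ha2
      have := Nat.pow_right_injective (le_refl 2) ha2
      omega
    refine ⟨Or.inr ⟨d - m, by omega, by omega, ?_⟩, ?_⟩
    · have : d - (d - m) = m := by omega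
      rw [this, ← ham]; exact ha
    · intro r hr hjr
      have har : a = 2 ^ r := by
        rcases ha with h | h <;> rcases hjr with h' | h'
        · omega
        · have : 0 < 2 ^ r := pow_pos (by norm_num) r
          omega
        · have : 0 < 2 ^ r := pow_pos (by norm_num) r
          have : 0 < 2 ^ m := pow_pos (by norm_num) m
          omega
        · omega
      have hmr : m = r := by
        rw [ham] at har
        exact Nat.pow_right_injective (le_refl 2) har
      have he0 : e' = 0 := by omega
      subst he0
      have hZ2 : Nat.card (Subgroup.center G) = 2 := by rw [he]; norm_num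
      have hΦeq : frattini G = Subgroup.center G :=
        Subgroup.eq_of_le_of_card_ge hΦZ (by rw [hZ2, hΦ])
      have hcomΦ : commutator G ≤ frattini G := by
        rw [commutator_def, Subgroup.commutator_le]
        intro g _ h _
        rw [commutatorElement_def]
        exact Cfsg.Agent.Lib.Helper7_PFrattini.comm_mem_frattini hG g h
      have hcomne : commutator G ≠ ⊥ := by
        intro h0
        exact hZtop ((_root_.commutator_eq_bot_iff_center_eq_top (G := G)).mp h0)
      have hcomeq : commutator G = frattini G := by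
        apply Subgroup.eq_of_le_of_card_ge hcomΦ
        rw [hΦ]
        have h1 : Nat.card (commutator G) ∣ 2 := by
          rw [← hΦ]; exact Subgroup.card_dvd_of_le hcomΦ
        rcases (Nat.Prime.eq_one_or_self_of_dvd Nat.prime_two _ h1) with h | h
        · exact absurd (Subgroup.card_eq_one.mp h) hcomne
        · omega
      exact ⟨⟨hG, hΦeq, hcomeq.trans hΦeq⟩, hZ2⟩
  · -- the degenerate case
    rw [hT, mul_zero] at hS2
    have h0 : 2 * (j : ℤ) - 2 ^ (d + 1) = 0 := by
      exact pow_eq_zero_iff (two_ne_zero) |>.mp hS2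
    have hjd : j = 2 ^ d := by
      have : (j : ℤ) = 2 ^ d := by rw [pow_succ] at h0; linarith
      exact_mod_cast this
    refine ⟨Or.inl hjd, ?_⟩
    intro r _ hjr
    have : 0 < 2 ^ r := pow_pos (by norm_num) r
    omega

end Cfsg.Agent.S3772
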