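import Cfsg.Statements.S3773
import Mathlib
import Cfsg.Agent.Lib.Helper7_PFrattini
import Cfsg.Agent.Lib.Helper4_Frattini

set_option autoImplicit false
open Cfsg
open scoped commutatorElement

namespace Cfsg.Agent.S3773

/-- An elementary abelian 2-group is additively a coordinate space over `ZMod 2`. -/
theorem exists_coord {E : Type*} [Group E] [Finite E] (h2 : ∀ e : E, e ^ 2 = 1) :
    ∃ (n : ℕ) (φ : E → (Fin n → ZMod 2)), Function.Bijective φ ∧
      ∀ e e' : E, φ (e * e') = φ e + φ e' := by
  classical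
  letI : CommGroup E :=
    { (inferInstance : Group E) with
      mul_comm := by
        intro a b
        have ha : a⁻¹ = a := by
          have := h2 a
          rw [pow_two] at this
          exact inv_eq_of_mul_eq_one_left this
        have hb : b⁻¹ = b := by
          have := h2 b
          rw [pow_two] at this
          exact inv_eq_of_mul_eq_one_left this
        have hab : (a * b)⁻¹ = a * b := by
          have := h2 (a * b)
          rw [pow_two] at this
          exact inv_eq_of_mul_eq_one_left this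
        rw [mul_inv_rev, ha, hb] at hab
        exact hab.symm }
  letI : Module (ZMod 2) (Additive E) := AddCommGroup.zmodModule (n := 2) (by
    intro x
    have := h2 (Additive.toMul x)
    exact congrArg Additive.ofMul this)
  haveI : Finite (Additive E) := inferInstanceAs (Finite E)
  let b := Module.finBasis (ZMod 2) (Additive E)
  refine ⟨_, fun e => b.equivFun (Additive.ofMul e), ?_, ?_⟩
  · exact b.equivFun.bijective.comp Additive.ofMul.bijective
  · intro e e'
    show b.equivFun (Additive.ofMul (e * e')) = b.equivFun (Additive.ofMul e) + b.equivFun (Additive.ofMul e')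
    rw [← map_add]
    rfl


/-- Ordered product of powers `x 0 ^ a 0 * x 1 ^ a 1 * ⋯`. -/
def yprod {G : Type*} [Group G] : (n : ℕ) → (Fin n → G) → (Fin n → ZMod 2) → G
  | 0, _, _ => 1
  | (n+1), x, a => x 0 ^ (a 0).val * yprod n (fun i => x i.succ) (fun i => a i.succ)

theorem yprod_zero {G : Type*} [Group G] (n : ℕ) (x : Fin n → G) :
    yprod n x 0 = 1 := by
  induction n with
  | zero => rfl
  | succ n ih =>
    show x 0 ^ ((0 : Fin (n+1) → ZMod 2) 0).val * yprod n (fun i => x i.succ) (fun i => (0 : Fin (n+1) → ZMod 2) i.succ) = 1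
    have : (fun i : Fin n => (0 : Fin (n+1) → ZMod 2) i.succ) = 0 := rfl
    rw [this, ih]
    simp

theorem map_yprod {G A : Type*} [Group G] [AddCommGroup A] (ψ : G → A)
    (hψ : ∀ g h : G, ψ (g * h) = ψ g + ψ h) (n : ℕ) (x : Fin n → G) (a : Fin n → ZMod 2) :
    ψ (yprod n x a) = ∑ i, (a i).val • ψ (x i) := by
  have h1 : ψ 1 = 0 := by
    have := hψ 1 1
    rw [mul_one] at this
    exact left_eq_add.mp this
  have hpow : ∀ (g : G) (k : ℕ), ψ (g ^ k) = k • ψ g := by
    intro g k
    induction k with
    | zero => simp [h1]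
    | succ k ih => rw [pow_succ, hψ, ih, succ_nsmul]
  induction n with
  | zero => simp [yprod, h1]
  | succ n ih =>
    show ψ (x 0 ^ (a 0).val * yprod n (fun i => x i.succ) (fun i => a i.succ)) = _
    rw [hψ, hpow, ih, Fin.sum_univ_succ]

section class2

variable {G : Type*} [Group G] (hc : ∀ a b c : G, ⁅a, b⁆ * c = c * ⁅a, b⁆)
include hc

theorem comm_mul_left (a b g : G) : ⁅a * b, g⁆ = ⁅a, g⁆ * ⁅b, g⁆ := by
  have h1 : ⁅a * b, g⁆ = a * ⁅b, g⁆ * a⁻¹ * ⁅a, g⁆ := by
    simp only [commutatorElement_def]; group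
  rw [h1, ← hc b g a, mul_inv_cancel_right, hc]

theorem comm_pow_left (a g : G) (k : ℕ) : ⁅a ^ k, g⁆ = ⁅a, g⁆ ^ k := by
  induction k with
  | zero => simp
  | succ k ih => rw [pow_succ, comm_mul_left hc, ih, pow_succ]

theorem comm_pow_right (g a : G) (k : ℕ) : ⁅g, a ^ k⁆ = ⁅g, a⁆ ^ k := by
  rw [← commutatorElement_inv (a ^ k) g, comm_pow_left hc, ← inv_pow, commutatorElement_inv]

theorem mul_sq (u v : G) : (u * v) ^ 2 = u ^ 2 * v ^ 2 * ⁅v, u⁆ := by
  have h1 : (u * v) ^ 2 = u * (⁅v, u⁆ * u * v) * v := by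
    simp only [commutatorElement_def, pow_two]; group
  rw [h1, ← mul_assoc, ← mul_assoc, ← hc v u u, mul_assoc (⁅v, u⁆ * u), mul_assoc (⁅v, u⁆ * u),
    mul_assoc ⁅v, u⁆, ← hc]
  simp only [pow_two, mul_assoc]

end class2


section poly

variable {G : Type*} [Group G] (hc : ∀ a b c : G, ⁅a, b⁆ * c = c * ⁅a, b⁆)
  (W : Subgroup G) (hcomm : ∀ g h : G, ⁅g, h⁆ ∈ W) (hsq : ∀ g : G, g ^ 2 ∈ W)
  (χ : G → ZMod 2) (hχ : ∀ w w' : G, w ∈ W → w' ∈ W → χ (w * w') = χ w + χ w')

include hχ in
theorem chi_one : χ 1 = 0 := by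
  have := hχ 1 1 W.one_mem W.one_mem
  rw [mul_one] at this
  exact left_eq_add.mp this

include hχ in
theorem chi_pow (w : G) (hw : w ∈ W) (k : ℕ) : χ (w ^ k) = (k : ZMod 2) * χ w := by
  induction k with
  | zero => simp [chi_one W χ hχ]
  | succ k ih =>
    rw [pow_succ, hχ _ _ (W.pow_mem hw k) hw, ih]
    push_cast; ring

include hc hcomm hχ in
theorem poly1 (n : ℕ) (x : Fin n → G) (g : G) :
    ∃ f : MvPolynomial (Fin n) (ZMod 2), f.totalDegree ≤ 1 ∧
      ∀ a, MvPolynomial.eval a f = χ ⁅yprod n x a, g⁆ := by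
  induction n with
  | zero =>
    refine ⟨0, by simp, ?_⟩
    intro a
    simp [yprod, chi_one W χ hχ]
  | succ n ih =>
    obtain ⟨f', hf'd, hf'e⟩ := ih (fun i => x i.succ)
    refine ⟨MvPolynomial.C (χ ⁅x 0, g⁆) * MvPolynomial.X 0 + MvPolynomial.rename Fin.succ f', ?_, ?_⟩
    · refine (MvPolynomial.totalDegree_add _ _).trans (max_le ?_ ?_)
      · refine (MvPolynomial.totalDegree_mul _ _).trans ?_
        rw [MvPolynomial.totalDegree_C, MvPolynomial.totalDegree_X]
      · exact (MvPolynomial.totalDegree_rename_le _ _).trans hf'd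
    · intro a
      show _ = χ ⁅x 0 ^ (a 0).val * yprod n (fun i => x i.succ) (fun i => a i.succ), g⁆
      rw [comm_mul_left hc, comm_pow_left hc, hχ _ _ (W.pow_mem (hcomm _ _) _) (hcomm _ _),
        chi_pow W χ hχ _ (hcomm _ _), ← hf'e]
      simp only [map_add, map_mul, MvPolynomial.eval_C, MvPolynomial.eval_X,
        MvPolynomial.eval_rename, ZMod.natCast_zmod_val]
      rw [mul_comm]
      rfl

include hc hcomm hsq hχ in
theorem poly2 (n : ℕ) (x : Fin n → G) :
    ∃ f : MvPolynomial (Fin n) (ZMod 2), f.totalDegree ≤ 2 ∧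
      ∀ a, MvPolynomial.eval a f = χ ((yprod n x a) ^ 2) := by
  induction n with
  | zero =>
    refine ⟨0, by simp, ?_⟩
    intro a
    simp [yprod, chi_one W χ hχ]
  | succ n ih =>
    obtain ⟨f2, hf2d, hf2e⟩ := ih (fun i => x i.succ)
    obtain ⟨f1, hf1d, hf1e⟩ := poly1 hc W hcomm χ hχ n (fun i => x i.succ) (x 0)
    refine ⟨MvPolynomial.C (χ (x 0 ^ 2)) * MvPolynomial.X 0 + MvPolynomial.rename Fin.succ f2
      + MvPolynomial.X 0 * MvPolynomial.rename Fin.succ f1, ?_, ?_⟩
    · refine (MvPolynomial.totalDegree_add _ _).trans (max_le ?_ ?_)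
      · refine (MvPolynomial.totalDegree_add _ _).trans (max_le ?_ ?_)
        · refine (MvPolynomial.totalDegree_mul _ _).trans ?_
          rw [MvPolynomial.totalDegree_C, MvPolynomial.totalDegree_X]
          norm_num
        · exact (MvPolynomial.totalDegree_rename_le _ _).trans hf2d
      · refine (MvPolynomial.totalDegree_mul _ _).trans ?_
        rw [MvPolynomial.totalDegree_X]
        have := (MvPolynomial.totalDegree_rename_le Fin.succ f1).trans hf1d
        omega
    · intro a
      show _ = χ ((x 0 ^ (a 0).val * yprod n (fun i => x i.succ) (fun i => a i.succ)) ^ 2)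
      rw [mul_sq hc, comm_pow_right hc, ← pow_mul, mul_comm (a 0).val 2, pow_mul,
        hχ _ _ (W.mul_mem (W.pow_mem (hsq _) _) (hsq _)) (W.pow_mem (hcomm _ _) _),
        hχ _ _ (W.pow_mem (hsq _) _) (hsq _),
        chi_pow W χ hχ _ (hsq _), chi_pow W χ hχ _ (hcomm _ _), ← hf2e, ← hf1e]
      simp only [map_add, map_mul, MvPolynomial.eval_C, MvPolynomial.eval_X,
        MvPolynomial.eval_rename, ZMod.natCast_zmod_val]
      rw [mul_comm (χ (x 0 ^ 2))]
      rfl

end poly


theorem card_coord (n : ℕ) : Nat.card (Fin n → ZMod 2) = 2 ^ n := by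
  rw [Nat.card_eq_fintype_card, Fintype.card_fun, ZMod.card, Fintype.card_fin]

theorem lemmaB {G : Type*} [Group G] [Finite G]
    (hc : ∀ a b c : G, ⁅a, b⁆ * c = c * ⁅a, b⁆)
    (W S M : Subgroup G) [M.Normal] (hSW : S ≤ W) (hW2 : ∀ w ∈ W, w ^ 2 = 1)
    (hsq : ∀ g : G, g ^ 2 ∈ W) (hcomm : ∀ g h : G, ⁅g, h⁆ ∈ W)
    (hM : ∀ x, x ∈ M ↔ x ^ 2 ∈ S) :
    Nat.card G * Nat.card S ^ 2 ≤ Nat.card M * Nat.card W ^ 2 := by
  classical
  -- coordinates on G ⧸ M
  have hE1 : ∀ e : G ⧸ M, e ^ 2 = 1 := by
    intro e
    induction e using QuotientGroup.induction_on with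
    | H g =>
      rw [← QuotientGroup.mk_pow, QuotientGroup.eq_one_iff, hM, hW2 _ (hsq g)]
      exact S.one_mem
  obtain ⟨n, φ1, hφ1b, hφ1a⟩ := exists_coord hE1
  have hφ1one : φ1 1 = 0 := by
    have := hφ1a 1 1
    rw [mul_one] at this
    exact left_eq_add.mp this
  have hcardG : Nat.card G = 2 ^ n * Nat.card M := by
    rw [Subgroup.card_eq_card_quotient_mul_card_subgroup M,
      Nat.card_congr (Equiv.ofBijective φ1 hφ1b), card_coord]
  -- coordinates on W ⧸ S
  have hWcomm : ∀ a b : G, a ∈ W → b ∈ W → a * b = b * a := by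
    intro a b ha hb
    have h1 := hW2 a ha
    have h2 := hW2 b hb
    have h3 := hW2 (a * b) (W.mul_mem ha hb)
    rw [pow_two] at h1 h2 h3
    have ha' : a⁻¹ = a := inv_eq_of_mul_eq_one_left h1
    have hb' : b⁻¹ = b := inv_eq_of_mul_eq_one_left h2
    have hab' : (a * b)⁻¹ = a * b := inv_eq_of_mul_eq_one_left h3
    rw [mul_inv_rev, ha', hb'] at hab'
    exact hab'.symm
  haveI : (S.subgroupOf W).Normal := by
    constructor
    intro s hs w
    have : w * s * w⁻¹ = s := by
      apply Subtype.ext
      have := hWcomm w s w.2 s.2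
      simp only [Subgroup.coe_mul, Subgroup.coe_inv]
      rw [this, mul_inv_cancel_right]
    rw [this]
    exact hs
  have hE2 : ∀ e : W ⧸ (S.subgroupOf W), e ^ 2 = 1 := by
    intro e
    induction e using QuotientGroup.induction_on with
    | H w =>
      rw [← QuotientGroup.mk_pow]
      have : w ^ 2 = 1 := Subtype.ext (by simpa using hW2 w w.2)
      rw [this]
      rfl
  obtain ⟨r, φ2, hφ2b, hφ2a⟩ := exists_coord hE2
  have hφ2one : φ2 1 = 0 := by
    have := hφ2a 1 1
    rw [mul_one] at this
    exact left_eq_add.mp this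
  have hcardW : Nat.card W = 2 ^ r * Nat.card S := by
    rw [Subgroup.card_eq_card_quotient_mul_card_subgroup (S.subgroupOf W),
      Nat.card_congr (Equiv.ofBijective φ2 hφ2b), card_coord,
      Nat.card_congr (Subgroup.subgroupOfEquivOfLe hSW).toEquiv]
  -- key inequality
  have key : n ≤ 2 * r := by
    by_contra hlt
    rw [not_le] at hlt
    -- generators
    have hx : ∀ i : Fin n, ∃ g : G, φ1 (QuotientGroup.mk g) = Pi.single i 1 := by
      intro i
      obtain ⟨e, he⟩ := hφ1b.2 (Pi.single i 1)
      induction e using QuotientGroup.induction_on with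
      | H g => exact ⟨g, he⟩
    choose x hx using hx
    let ψ : G → (Fin n → ZMod 2) := fun g => φ1 (QuotientGroup.mk g)
    have hψ : ∀ g h : G, ψ (g * h) = ψ g + ψ h := by
      intro g h
      show φ1 (QuotientGroup.mk (g * h)) = _
      rw [QuotientGroup.mk_mul, hφ1a]
    have hψy : ∀ a, ψ (yprod n x a) = a := by
      intro a
      rw [map_yprod ψ hψ]
      funext j
      rw [Finset.sum_apply, Finset.sum_eq_single j]
      · show ((a j).val • φ1 (QuotientGroup.mk (x j))) j = a j
        rw [hx j]
        simp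
      · intro i _ hij
        show ((a i).val • φ1 (QuotientGroup.mk (x i))) j = 0
        rw [hx i]
        simp [hij.symm]
      · intro h; exact absurd (Finset.mem_univ j) h
    -- characters
    let χ : Fin r → G → ZMod 2 := fun k g =>
      if h : g ∈ W then φ2 (QuotientGroup.mk ⟨g, h⟩) k else 0
    have hχ : ∀ k, ∀ w w' : G, w ∈ W → w' ∈ W → χ k (w * w') = χ k w + χ k w' := by
      intro k w w' hw hw'
      simp only [χ, dif_pos hw, dif_pos hw', dif_pos (W.mul_mem hw hw')]
      have : (QuotientGroup.mk (⟨w * w', W.mul_mem hw hw'⟩ : W) : W ⧸ S.subgroupOf W)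
          = QuotientGroup.mk ⟨w, hw⟩ * QuotientGroup.mk ⟨w', hw'⟩ := rfl
      rw [this, hφ2a]
      rfl
    have hχker : ∀ w : G, w ∈ W → (∀ k, χ k w = 0) → w ∈ S := by
      intro w hw h0
      have h1 : φ2 (QuotientGroup.mk ⟨w, hw⟩) = φ2 1 := by
        rw [hφ2one]
        funext k
        have := h0 k
        simp only [χ, dif_pos hw] at this
        exact this
      have h2 := hφ2b.1 h1
      rw [QuotientGroup.eq_one_iff] at h2
      exact h2
    -- polynomials
    have hf : ∀ k : Fin r, ∃ f : MvPolynomial (Fin n) (ZMod 2), f.totalDegree ≤ 2 ∧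
        ∀ a, MvPolynomial.eval a f = χ k ((yprod n x a) ^ 2) :=
      fun k => poly2 hc W hcomm hsq (χ k) (hχ k) n x
    choose f hfd hfe using hf
    have hdeg : (∑ k ∈ (Finset.univ : Finset (Fin r)), (f k).totalDegree)
        < Fintype.card (Fin n) := by
      calc (∑ k ∈ (Finset.univ : Finset (Fin r)), (f k).totalDegree)
          ≤ ∑ _k ∈ (Finset.univ : Finset (Fin r)), 2 := Finset.sum_le_sum (fun k _ => hfd k)
        _ = 2 * r := by simp [mul_comm]
        _ < Fintype.card (Fin n) := by rw [Fintype.card_fin]; exact hlt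
    have hdvd := char_dvd_card_solutions_of_sum_lt 2 hdeg
    have hzero : ∀ a : Fin n → ZMod 2,
        (∀ k ∈ (Finset.univ : Finset (Fin r)), MvPolynomial.eval a (f k) = 0) → a = 0 := by
      intro a ha
      have h1 : (yprod n x a) ^ 2 ∈ S := by
        apply hχker _ (hsq _)
        intro k
        rw [← hfe k a]
        exact ha k (Finset.mem_univ k)
      have h2 : yprod n x a ∈ M := (hM _).2 h1
      have h3 : ψ (yprod n x a) = 0 := by
        show φ1 (QuotientGroup.mk (yprod n x a)) = 0
        rw [(QuotientGroup.eq_one_iff _).2 h2, hφ1one]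
      rw [hψy] at h3
      exact h3
    have hmem0 : ∀ k ∈ (Finset.univ : Finset (Fin r)),
        MvPolynomial.eval (0 : Fin n → ZMod 2) (f k) = 0 := by
      intro k _
      rw [hfe, yprod_zero, one_pow, chi_one W (χ k) (hχ k)]
    have hcard1 : ∀ (inst : Fintype { a : Fin n → ZMod 2 //
        ∀ k ∈ (Finset.univ : Finset (Fin r)), MvPolynomial.eval a (f k) = 0 }),
        @Fintype.card _ inst = 1 := by
      intro inst
      rw [Fintype.card_eq_one_iff]
      refine ⟨⟨0, hmem0⟩, ?_⟩
      rintro ⟨a, ha⟩
      exact Subtype.ext (hzero a ha)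
    rw [hcard1] at hdvd
    exact absurd hdvd (by norm_num)
  have hpow : 2 ^ n ≤ (2 ^ r) ^ 2 := by
    rw [← pow_mul, mul_comm]
    exact Nat.pow_le_pow_right (by norm_num) key
  calc Nat.card G * Nat.card S ^ 2 = 2 ^ n * (Nat.card M * Nat.card S ^ 2) := by
        rw [hcardG]; ring
    _ ≤ (2 ^ r) ^ 2 * (Nat.card M * Nat.card S ^ 2) := Nat.mul_le_mul_right _ hpow
    _ = Nat.card M * Nat.card W ^ 2 := by rw [hcardW]; ring


/-- Let G be a finite 2-group of nilpotency class at most 2 and exponent dividing 4 in which the elements x with x² = 1 form a subgroup N. Then |G| ≤ |N|³, and |G| < |N|³ unless G is special. -/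
theorem result {G : Type*} [Group G] [Finite G] (hG : IsPGroup 2 G) (hcl : (⊤ : Subgroup G).lowerCentralSeries 2 = ⊥) (hexp : ∀ x : G, x ^ 4 = 1) (hN : ∀ x y : G, x ^ 2 = 1 → y ^ 2 = 1 → (x * y) ^ 2 = 1) : Nat.card G ≤ Nat.card {x : G // x ^ 2 = 1} ^ 3 ∧ (¬ Cfsg.IsSpecial 2 G → Nat.card G < Nat.card {x : G // x ^ 2 = 1} ^ 3) := by
  classical
  haveI : Fact (Nat.Prime 2) := ⟨Nat.prime_two⟩
  -- commutators are central
  have hc : ∀ a b c : G, ⁅a, b⁆ * c = c * ⁅a, b⁆ := by
    intro a b c
    have e : (⊤ : Subgroup G).lowerCentralSeries 2 = ⁅commutator G, (⊤ : Subgroup G)⁆ := rfl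
    have h1 : ⁅⁅a, b⁆, c⁆ ∈ ⁅commutator G, (⊤ : Subgroup G)⁆ := by
      apply Subgroup.commutator_mem_commutator _ (Subgroup.mem_top c)
      rw [commutator_def]
      exact Subgroup.commutator_mem_commutator (Subgroup.mem_top a) (Subgroup.mem_top b)
    rw [← e, hcl, Subgroup.mem_bot] at h1
    rw [commutatorElement_def] at h1
    have h2 : ⁅a, b⁆ * c * ⁅a, b⁆⁻¹ = c := by
      have := congrArg (· * c) h1
      simpa using this
    calc ⁅a, b⁆ * c = ⁅a, b⁆ * c * ⁅a, b⁆⁻¹ * ⁅a, b⁆ := by group
      _ = c * ⁅a, b⁆ := by rw [h2]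
  -- the subgroup N
  let N : Subgroup G :=
    { carrier := {x | x ^ 2 = 1}
      mul_mem' := fun {x y} hx hy => hN x y hx hy
      one_mem' := one_pow 2
      inv_mem' := fun {x} hx => by
        show (x⁻¹) ^ 2 = 1
        rw [inv_pow, show x ^ 2 = 1 from hx, inv_one] }
  have hNmem : ∀ x : G, x ∈ N ↔ x ^ 2 = 1 := fun x => Iff.rfl
  haveI hNn : N.Normal := by
    constructor
    intro x hx g
    rw [hNmem] at hx ⊢
    rw [pow_two] at hx ⊢
    calc g * x * g⁻¹ * (g * x * g⁻¹) = g * (x * x) * g⁻¹ := by group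
      _ = 1 := by rw [hx]; group
  have hcardN : Nat.card {x : G // x ^ 2 = 1} = Nat.card N := rfl
  have hsqN : ∀ g : G, g ^ 2 ∈ N := by
    intro g
    rw [hNmem, ← pow_mul]
    exact hexp g
  have hcommN : ∀ g h : G, ⁅g, h⁆ ∈ N := by
    intro g h
    have : ⁅g, h⁆ = g ^ 2 * (g⁻¹ * h) ^ 2 * (h⁻¹) ^ 2 := by
      rw [commutatorElement_def]; simp only [pow_two]; group
    rw [this]
    exact N.mul_mem (N.mul_mem (hsqN _) (hsqN _)) (hsqN _)
  have hN2 : ∀ w ∈ N, w ^ 2 = 1 := fun w hw => hw
  rw [hcardN]
  have hfirst : Nat.card G ≤ Nat.card N ^ 3 := by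
    have := lemmaB hc N ⊥ N bot_le hN2 hsqN hcommN (fun x => by rw [Subgroup.mem_bot]; rfl)
    rw [Subgroup.card_bot] at this
    calc Nat.card G = Nat.card G * 1 ^ 2 := by ring
      _ ≤ Nat.card N * Nat.card N ^ 2 := this
      _ = Nat.card N ^ 3 := by ring
  refine ⟨hfirst, ?_⟩
  intro hns
  by_contra hlt
  apply hns
  have hGN : Nat.card G = Nat.card N ^ 3 := le_antisymm hfirst (not_lt.mp hlt)
  have hNpos : 0 < Nat.card N := Nat.card_pos
  -- Step 1: commutator G = N
  have hDN : commutator G ≤ N := by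
    rw [commutator_def, Subgroup.commutator_le]
    intro g _ h _
    exact hcommN g h
  have hD : commutator G = N := by
    let sq : Abelianization G →* Abelianization G := powMonoidHom 2
    let H : Subgroup G := sq.ker.comap Abelianization.of
    have hHmem : ∀ x : G, x ∈ H ↔ x ^ 2 ∈ commutator G := by
      intro x
      show (Abelianization.of x) ^ 2 = 1 ↔ _
      rw [← map_pow]
      exact QuotientGroup.eq_one_iff _
    have hNH : N ≤ H := fun x hx => by
      rw [hHmem, (hNmem x).1 hx]; exact Subgroup.one_mem _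
    have hDH : commutator G ≤ H := hDN.trans hNH
    -- (1a)
    have h1a : Nat.card H ≤ Nat.card N * Nat.card (commutator G) ^ 2 := by
      have hcH : ∀ a b c : H, ⁅a, b⁆ * c = c * ⁅a, b⁆ := by
        intro a b c
        apply Subtype.ext
        have := hc a.1 b.1 c.1
        simpa [commutatorElement_def] using this
      have := lemmaB hcH ((commutator G).subgroupOf H) ⊥ (N.subgroupOf H) bot_le
        (by
          intro w hw
          rw [Subgroup.mem_subgroupOf] at hw
          apply Subtype.ext
          simpa using hN2 _ (hDN hw))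
        (by
          intro g
          rw [Subgroup.mem_subgroupOf]
          simpa using (hHmem g.1).1 g.2)
        (by
          intro g h
          rw [Subgroup.mem_subgroupOf]
          have : ((⁅g, h⁆ : H) : G) = ⁅(g : G), (h : G)⁆ := by
            simp [commutatorElement_def]
          rw [this, commutator_def]
          exact Subgroup.commutator_mem_commutator (Subgroup.mem_top _) (Subgroup.mem_top _))
        (by
          intro x
          rw [Subgroup.mem_subgroupOf, Subgroup.mem_bot, hNmem, Subtype.ext_iff]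
          simp)
      rw [Subgroup.card_bot, Nat.card_congr (Subgroup.subgroupOfEquivOfLe hNH).toEquiv,
        Nat.card_congr (Subgroup.subgroupOfEquivOfLe hDH).toEquiv] at this
      simpa using this
    -- (1b)
    have h1b : Nat.card G * Nat.card (commutator G) ≤ Nat.card H * Nat.card N := by
      have hsurj : Function.Surjective (Abelianization.of : G →* Abelianization G) :=
        QuotientGroup.mk'_surjective _
      have hidx : H.index = Nat.card sq.range := by
        show (sq.ker.comap Abelianization.of).index = _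
        rw [Subgroup.index_comap_of_surjective _ hsurj, Subgroup.index_ker]
      have hrange : sq.range ≤ N.map Abelianization.of := by
        rintro _ ⟨q, rfl⟩
        obtain ⟨g, rfl⟩ := hsurj q
        show (Abelianization.of g) ^ 2 ∈ _
        rw [← map_pow]
        exact Subgroup.mem_map_of_mem _ (hsqN g)
      have hle : Nat.card sq.range ≤ Nat.card (N.map Abelianization.of) :=
        Subgroup.card_le_of_le hrange
      let gN : N →* Abelianization G := (Abelianization.of).comp N.subtype
      have hgr : gN.range = N.map Abelianization.of := by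
        show ((Abelianization.of).comp N.subtype).range = _
        rw [MonoidHom.range_comp, Subgroup.range_subtype]
      have hgk : gN.ker = (commutator G).subgroupOf N := by
        ext x
        rw [MonoidHom.mem_ker, Subgroup.mem_subgroupOf]
        show Abelianization.of (x : G) = 1 ↔ _
        exact QuotientGroup.eq_one_iff _
      have hmapcard : Nat.card (N.map Abelianization.of) * Nat.card (commutator G)
          = Nat.card N := by
        have h1 := Subgroup.index_mul_card gN.ker
        rw [Subgroup.index_ker, hgr, hgk,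
          Nat.card_congr (Subgroup.subgroupOfEquivOfLe hDN).toEquiv] at h1
        exact h1
      have hGH := Subgroup.index_mul_card H
      calc Nat.card G * Nat.card (commutator G)
          = Nat.card sq.range * Nat.card H * Nat.card (commutator G) := by
            rw [← hGH, hidx]
        _ ≤ Nat.card (N.map Abelianization.of) * Nat.card H * Nat.card (commutator G) :=
            Nat.mul_le_mul_right _ (Nat.mul_le_mul_right _ hle)
        _ = Nat.card H * Nat.card N := by rw [← hmapcard]; ring
    have hDpos : 0 < Nat.card (commutator G) := Nat.card_pos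
    have h2 : Nat.card N ^ 2 * Nat.card (commutator G) * Nat.card N
        ≤ Nat.card N ^ 2 * Nat.card (commutator G) * Nat.card (commutator G) := by
      calc Nat.card N ^ 2 * Nat.card (commutator G) * Nat.card N
          = Nat.card G * Nat.card (commutator G) := by rw [hGN]; ring
        _ ≤ Nat.card H * Nat.card N := h1b
        _ ≤ Nat.card N * Nat.card (commutator G) ^ 2 * Nat.card N :=
            Nat.mul_le_mul_right _ h1a
        _ = _ := by ring
    have h3 : Nat.card N ≤ Nat.card (commutator G) :=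
      Nat.le_of_mul_le_mul_left h2 (by positivity)
    exact Subgroup.eq_of_le_of_card_ge hDN h3
  -- Step 2: center G = N
  have hNZ : N ≤ Subgroup.center G := by
    rw [← hD, commutator_def, Subgroup.commutator_le]
    intro a _ b _
    rw [Subgroup.mem_center_iff]
    intro g
    exact (hc a b g).symm
  have hZ : Subgroup.center G = N := by
    let sqZ : Subgroup.center G →* Subgroup.center G :=
      { toFun := fun z => z ^ 2
        map_one' := one_pow 2
        map_mul' := fun a b => by
          apply Subtype.ext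
          have hcm : Commute (a : G) (b : G) := Subgroup.mem_center_iff.1 b.2 a.1
          simpa using hcm.mul_pow 2 }
    have hsqZ : ∀ z : Subgroup.center G, sqZ z = z ^ 2 := fun z => rfl
    let S : Subgroup G := sqZ.range.map (Subgroup.center G).subtype
    have hSmem : ∀ x : G, x ∈ S ↔ ∃ z ∈ Subgroup.center G, z ^ 2 = x := by
      intro x
      constructor
      · rintro ⟨_, ⟨z, rfl⟩, rfl⟩
        exact ⟨z.1, z.2, by rw [hsqZ]; simp⟩
      · rintro ⟨z, hz, rfl⟩
        exact ⟨sqZ ⟨z, hz⟩, ⟨⟨z, hz⟩, rfl⟩, by rw [hsqZ]; simp⟩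
    have hSN : S ≤ N := by
      intro x hx
      obtain ⟨z, _, rfl⟩ := (hSmem x).1 hx
      exact hsqN z
    have hM : ∀ x, x ∈ Subgroup.center G ↔ x ^ 2 ∈ S := by
      intro x
      constructor
      · intro hx
        exact (hSmem _).2 ⟨x, hx, rfl⟩
      · intro hx
        obtain ⟨z, hz, hzx⟩ := (hSmem _).1 hx
        have hzc : ∀ g : G, g * z = z * g := Subgroup.mem_center_iff.1 hz
        have h1 : (x * z⁻¹) ^ 2 = 1 := by
          have : (x * z⁻¹) ^ 2 = x ^ 2 * (z ^ 2)⁻¹ := by
            rw [pow_two, pow_two, pow_two]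
            calc x * z⁻¹ * (x * z⁻¹) = x * (z⁻¹ * (x * z) * z⁻¹) * z⁻¹ := by group
              _ = x * (z⁻¹ * (z * x) * z⁻¹) * z⁻¹ := by rw [hzc x]
              _ = x * x * (z * z)⁻¹ := by group
          rw [this, hzx, mul_inv_cancel]
        have h2 : x * z⁻¹ ∈ Subgroup.center G := hNZ h1
        have := (Subgroup.center G).mul_mem h2 hz
        simpa using this
    have hB := lemmaB hc N S (Subgroup.center G) hSN hN2 hsqN hcommN hM
    have hcardZ : Nat.card (Subgroup.center G) = Nat.card S * Nat.card N := by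
      have h1 := Subgroup.index_mul_card sqZ.ker
      have hk : sqZ.ker = N.subgroupOf (Subgroup.center G) := by
        ext x
        rw [MonoidHom.mem_ker, Subgroup.mem_subgroupOf, hNmem, hsqZ, Subtype.ext_iff]
        simp
      have hS : Nat.card S = Nat.card sqZ.range :=
        Subgroup.card_map_of_injective (Subgroup.subtype_injective _)
      rw [Subgroup.index_ker, hk, Nat.card_congr (Subgroup.subgroupOfEquivOfLe hNZ).toEquiv,
        ← hS] at h1
      exact h1.symm
    have hSpos : 0 < Nat.card S := Nat.card_pos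
    rw [hGN, hcardZ] at hB
    have h2 : Nat.card N ^ 3 * Nat.card S * Nat.card S ≤ Nat.card N ^ 3 * Nat.card S * 1 := by
      calc Nat.card N ^ 3 * Nat.card S * Nat.card S = Nat.card N ^ 3 * Nat.card S ^ 2 := by ring
        _ ≤ Nat.card S * Nat.card N * Nat.card N ^ 2 := hB
        _ = _ := by ring
    have h3 : Nat.card S ≤ 1 := Nat.le_of_mul_le_mul_left h2 (by positivity)
    have h4 : Nat.card (Subgroup.center G) ≤ Nat.card N := by
      rw [hcardZ]
      calc Nat.card S * Nat.card N ≤ 1 * Nat.card N := Nat.mul_le_mul_right _ h3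
        _ = Nat.card N := one_mul _
    exact (Subgroup.eq_of_le_of_card_ge hNZ h4).symm
  -- Step 3: frattini
  have hF : frattini G = N := by
    apply le_antisymm
    · exact Cfsg.Agent.Lib.Helper4_Frattini.frattini_le_of_elementary_quotient (p := 2) N hcommN hsqN
    · rw [← hD, commutator_def, Subgroup.commutator_le]
      intro g _ h _
      rw [commutatorElement_def]
      exact Cfsg.Agent.Lib.Helper7_PFrattini.comm_mem_frattini hG g h
  exact ⟨hG, by rw [hF, hZ], by rw [hD, hZ]⟩

end Cfsg.Agent.S3773
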