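import Cfsg.Statements.S3774
import Mathlib

set_option autoImplicit false
open Cfsg

namespace Cfsg.Agent.S3774

variable {G : Type*} [Group G] [Finite G]

/-- The involution in the cyclic group generated by a nontrivial 2-element. -/
noncomputable def inv2 (x : G) : G := x ^ (orderOf x / 2)

theorem inv2_spec (hG : IsPGroup 2 G) (x : G) (hx : x ≠ 1) : inv2 x ≠ 1 ∧ inv2 x ^ 2 = 1 := by
  obtain ⟨k, hk⟩ := hG x
  obtain ⟨e, -, he⟩ := (Nat.dvd_prime_pow Nat.prime_two).1 (orderOf_dvd_of_pow_eq_one hk)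
  have he0 : e ≠ 0 := by
    rintro rfl
    rw [pow_zero, orderOf_eq_one_iff] at he
    exact hx he
  obtain ⟨e', rfl⟩ := Nat.exists_eq_succ_of_ne_zero he0
  have h2 : 2 ∣ orderOf x := by rw [he, pow_succ]; exact dvd_mul_left _ _
  have hpos : 0 < orderOf x := orderOf_pos x
  constructor
  · unfold inv2
    apply pow_ne_one_of_lt_orderOf
    · have : 2 ≤ orderOf x := Nat.le_of_dvd hpos h2
      omega
    · exact Nat.div_lt_self hpos (by norm_num)
  · unfold inv2
    rw [← pow_mul, Nat.div_mul_cancel h2, pow_orderOf_eq_one]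

theorem inv2_map (a : MulAut G) (x : G) : inv2 (a x) = a (inv2 x) := by
  unfold inv2
  rw [MulEquiv.orderOf_eq, map_pow]


/-- Let G be a nontrivial finite 2-group whose automorphism group permutes the involutions of G transitively. Then every involution of G is central, so that the involutions together with 1 form the subgroup Ω₁(Z(G)), and if this subgroup has order q then |G| is a power of q. -/
theorem result {G : Type*} [Group G] [Finite G] [Nontrivial G] (hG : IsPGroup 2 G) (htrans : ∀ x y : G, x ≠ 1 → x ^ 2 = 1 → y ≠ 1 → y ^ 2 = 1 → ∃ a : MulAut G, a x = y) : (∀ x : G, x ^ 2 = 1 → x ∈ Subgroup.center G) ∧ ∃ m : ℕ, Nat.card G = Nat.card {z : G // z ^ 2 = 1} ^ m := by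
  classical
  haveI := hG.center_nontrivial
  obtain ⟨z, hz⟩ := exists_ne (1 : Subgroup.center G)
  have hz1 : (z : G) ≠ 1 := fun h => hz (Subtype.ext h)
  obtain ⟨hz2, hz3⟩ := inv2_spec hG (z : G) hz1
  have hzc : inv2 (z : G) ∈ Subgroup.center G := Subgroup.pow_mem _ z.2 _
  have hcenter : ∀ x : G, x ^ 2 = 1 → x ∈ Subgroup.center G := by
    intro x hx
    by_cases hx1 : x = 1
    · rw [hx1]; exact Subgroup.one_mem _
    obtain ⟨a, ha⟩ := htrans (inv2 (z : G)) x hz2 hz3 hx1 hx
    rw [← ha, Subgroup.mem_center_iff]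
    intro g
    have h := Subgroup.mem_center_iff.1 hzc (a.symm g)
    have h' := congrArg a h
    simpa using h'
  refine ⟨hcenter, ?_⟩
  let W : Subgroup G :=
    { carrier := {z | z ^ 2 = 1}
      one_mem' := one_pow 2
      mul_mem' := by
        intro x y hx hy
        have hc : Commute x y := (Subgroup.mem_center_iff.1 (hcenter x hx) y).symm
        show (x * y) ^ 2 = 1
        rw [hc.mul_pow, hx, hy, one_mul]
      inv_mem' := by
        intro x hx
        show x⁻¹ ^ 2 = 1
        rw [inv_pow, hx, inv_one] }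
  have hWcard : Nat.card W = Nat.card {z : G // z ^ 2 = 1} := rfl
  obtain ⟨k, hk⟩ := IsPGroup.iff_card.mp (hG.to_subgroup W)
  obtain ⟨a, ha⟩ := IsPGroup.iff_card.mp hG
  -- fibres
  let f : {x : G // x ≠ 1} → {w : W // w ≠ 1} := fun x =>
    ⟨⟨inv2 (x : G), (inv2_spec hG x x.2).2⟩, fun h => (inv2_spec hG x x.2).1 (congrArg Subtype.val h)⟩
  have hle : ∀ w w' : {w : W // w ≠ 1},
      Nat.card {x : {x : G // x ≠ 1} // f x = w} ≤ Nat.card {x : {x : G // x ≠ 1} // f x = w'} := by
    intro w w'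
    obtain ⟨α, hα⟩ := htrans (w : W) (w' : W) (fun h => w.2 (Subtype.ext h)) (w : W).2
      (fun h => w'.2 (Subtype.ext h)) (w' : W).2
    refine Nat.card_le_card_of_injective
      (fun x => ⟨⟨α (x : G), fun h => x.1.2 (by
        have := congrArg α.symm h
        simpa using this)⟩, ?_⟩) ?_
    · apply Subtype.ext
      apply Subtype.ext
      show inv2 (α (x : G)) = ((w' : W) : G)
      rw [inv2_map, ← hα]
      have := congrArg (fun u : {w : W // w ≠ 1} => ((u : W) : G)) x.2
      exact congrArg α this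
    · intro x y hxy
      have h1 : α (x : G) = α (y : G) := congrArg (fun u => ((u.1 : {x : G // x ≠ 1}) : G)) hxy
      exact Subtype.ext (Subtype.ext (α.injective h1))
  have hfib : ∀ w : {w : W // w ≠ 1}, Nat.card {x : {x : G // x ≠ 1} // f x = w} =
      Nat.card {x : {x : G // x ≠ 1} // f x =
        ⟨⟨inv2 (z : G), hz3⟩, fun h => hz2 (congrArg Subtype.val h)⟩} :=
    fun w => le_antisymm (hle _ _) (hle _ _)
  have hX : Nat.card {x : G // x ≠ 1} = Nat.card {w : W // w ≠ 1} *
      Nat.card {x : {x : G // x ≠ 1} // f x =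
        ⟨⟨inv2 (z : G), hz3⟩, fun h => hz2 (congrArg Subtype.val h)⟩} := by
    haveI : Fintype {w : W // w ≠ 1} := Fintype.ofFinite _
    rw [Nat.card_congr (Equiv.sigmaFiberEquiv f).symm, Nat.card_sigma]
    rw [Finset.sum_congr rfl (fun w _ => hfib w), Finset.sum_const, Finset.card_univ,
      smul_eq_mul, ← Nat.card_eq_fintype_card]
  have hG1 : Nat.card G = Nat.card {x : G // x ≠ 1} + 1 := by
    rw [← Finite.card_option, Nat.card_congr (Equiv.optionSubtypeNe (1 : G))]
  have hW1 : Nat.card W = Nat.card {w : W // w ≠ 1} + 1 := by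
    rw [← Finite.card_option, Nat.card_congr (Equiv.optionSubtypeNe (1 : W))]
  set n := Nat.card {x : {x : G // x ≠ 1} // f x =
        ⟨⟨inv2 (z : G), hz3⟩, fun h => hz2 (congrArg Subtype.val h)⟩} with hn
  have hI : Nat.card {w : W // w ≠ 1} = 2 ^ k - 1 := by omega
  have hdvd : 2 ^ k - 1 ∣ 2 ^ a - 1 := by
    refine ⟨n, ?_⟩
    rw [← hI, ← hX]
    omega
  have hgcd := Nat.pow_sub_one_gcd_pow_sub_one 2 k a
  rw [Nat.gcd_eq_left hdvd] at hgcd
  have hpow : 2 ^ k = 2 ^ Nat.gcd k a := by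
    have h1 : 1 ≤ 2 ^ k := Nat.one_le_two_pow
    have h2 : 1 ≤ 2 ^ Nat.gcd k a := Nat.one_le_two_pow
    omega
  have hkg : k = Nat.gcd k a := Nat.pow_right_injective (le_refl 2) hpow
  have hka : k ∣ a := by
    rw [hkg]
    exact Nat.gcd_dvd_right k a
  obtain ⟨m, hm⟩ := hka
  refine ⟨m, ?_⟩
  rw [← hWcard, hk, ha, hm, pow_mul]

end Cfsg.Agent.S3774
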