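import Cfsg.Statements.S3775
import Mathlib

set_option autoImplicit false
open Cfsg

namespace Cfsg.Agent.S3775

section general

variable {M : Type*} [CommGroup M] [Finite M] {Γ : Type*} [Group Γ]
  (ρ : Γ →* MulAut M) {p : ℕ} [hp : Fact p.Prime]

/-- Invariance of a subgroup under the action. -/
def Inv (B : Subgroup M) : Prop := ∀ g : Γ, ∀ b ∈ B, ρ g b ∈ B

theorem Inv.map_eq {B : Subgroup M} (hB : Inv ρ B) (g : Γ) :
    B.map (ρ g).toMonoidHom = B := by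
  apply le_antisymm
  · rintro _ ⟨b, hb, rfl⟩
    exact hB g b hb
  · intro b hb
    rw [Subgroup.mem_map]
    have h := hB g⁻¹ b hb
    rw [map_inv] at h
    exact ⟨(ρ g).symm b, h, MulEquiv.apply_symm_apply (ρ g) b⟩

/-- Non-equivariant complement of a "pure homocyclic" subgroup. -/
theorem exists_compl (T B : Subgroup M) (e' : ℕ) (hBT : B ≤ T)
    (hT : ∀ a ∈ T, a ^ p ^ (e' + 1) = 1)
    (hPB : ∀ b ∈ B, b ^ p ^ e' = 1 → ∃ b₁ ∈ B, b₁ ^ p = b) :
    ∃ C : Subgroup M, C ≤ T ∧ B ⊓ C = ⊥ ∧ B ⊔ C = T := by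
  classical
  have hpp := hp.out
  let 𝒮 : Set (Subgroup M) := {C | C ≤ T ∧ B ⊓ C = ⊥}
  haveI : Nonempty 𝒮 := ⟨⟨⊥, bot_le, inf_bot_eq _⟩⟩
  obtain ⟨⟨C, hCT, hBC⟩, hmax⟩ := Finite.exists_max (fun C : 𝒮 => Nat.card (C : Subgroup M))
  refine ⟨C, hCT, hBC, ?_⟩
  by_contra hne
  have hle : B ⊔ C ≤ T := sup_le hBT hCT
  have hnle : ¬ T ≤ B ⊔ C := fun h => hne (le_antisymm hle h)
  obtain ⟨a, haT, haBC⟩ := SetLike.not_le_iff_exists.1 hnle
  have hex : ∃ j, a ^ p ^ j ∈ B ⊔ C := ⟨e' + 1, by rw [hT a haT]; exact Subgroup.one_mem _⟩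
  have hj0 : Nat.find hex ≠ 0 := by
    intro h0
    have := Nat.find_spec hex
    rw [h0, pow_zero, pow_one] at this
    exact haBC this
  obtain ⟨j', hj'⟩ := Nat.exists_eq_succ_of_ne_zero hj0
  have ha1 : a ^ p ^ j' ∉ B ⊔ C := Nat.find_min hex (by rw [hj']; exact Nat.lt_succ_self _)
  have ha1p : (a ^ p ^ j') ^ p ∈ B ⊔ C := by
    have := Nat.find_spec hex
    rw [hj', Nat.succ_eq_add_one, pow_succ, pow_mul] at this
    exact this
  set a₁ := a ^ p ^ j' with ha₁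
  have ha₁T : a₁ ∈ T := T.pow_mem haT _
  obtain ⟨b, hb, c, hc, hbc⟩ := Subgroup.mem_sup.1 ha1p
  have h1 : (b * c) ^ p ^ e' = 1 := by
    rw [hbc, ← pow_mul, ← pow_succ']
    exact hT a₁ ha₁T
  have hb1 : b ^ p ^ e' = 1 := by
    rw [mul_pow] at h1
    have h2 : b ^ p ^ e' = (c ^ p ^ e')⁻¹ := eq_inv_of_mul_eq_one_left h1
    have h3 : b ^ p ^ e' ∈ B ⊓ C :=
      ⟨B.pow_mem hb _, by rw [h2]; exact C.inv_mem (C.pow_mem hc _)⟩
    rw [hBC, Subgroup.mem_bot] at h3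
    exact h3
  obtain ⟨b₁, hb₁, hb₁p⟩ := hPB b hb hb1
  set a' := a₁ * b₁⁻¹ with ha'
  have ha'T : a' ∈ T := T.mul_mem ha₁T (T.inv_mem (hBT hb₁))
  have ha'p : a' ^ p = c := by
    rw [ha', mul_pow, inv_pow, hb₁p, ← hbc]
    rw [mul_comm b c, mul_inv_cancel_right]
  have ha'n : a' ∉ B ⊔ C := by
    intro h
    apply ha1
    have : a₁ = a' * b₁ := by rw [ha', inv_mul_cancel_right]
    rw [this]
    exact (B ⊔ C).mul_mem h (Subgroup.mem_sup_left hb₁)
  have hC' : B ⊓ (C ⊔ Subgroup.zpowers a') = ⊥ := by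
    rw [eq_bot_iff]
    intro y hy
    rw [Subgroup.mem_bot]
    obtain ⟨hyB, hyC'⟩ := hy
    obtain ⟨c₀, hc₀, z, hz, hcz⟩ := Subgroup.mem_sup.1 hyC'
    obtain ⟨k, rfl⟩ := Subgroup.mem_zpowers_iff.1 hz
    by_cases hpk : (p : ℤ) ∣ k
    · obtain ⟨k', rfl⟩ := hpk
      have h2 : a' ^ ((p : ℤ) * k') ∈ C := by
        rw [zpow_mul, zpow_natCast, ha'p]
        exact C.zpow_mem hc _
      have h3 : y ∈ B ⊓ C := ⟨hyB, by rw [← hcz]; exact C.mul_mem hc₀ h2⟩
      rw [hBC, Subgroup.mem_bot] at h3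
      exact h3
    · exfalso
      apply ha'n
      have hcop : IsCoprime k (p : ℤ) := by
        have hprime : Prime (p : ℤ) := Nat.prime_iff_prime_int.1 hpp
        exact (hprime.coprime_iff_not_dvd.2 hpk).symm
      obtain ⟨u, v, huv⟩ := hcop
      have h2 : a' ^ k ∈ B ⊔ C := by
        have : a' ^ k = c₀⁻¹ * y := by rw [← hcz, inv_mul_cancel_left]
        rw [this]
        exact (B ⊔ C).mul_mem (Subgroup.mem_sup_right (C.inv_mem hc₀)) (Subgroup.mem_sup_left hyB)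
      have h3 : a' ^ (p : ℤ) ∈ B ⊔ C := by
        rw [zpow_natCast, ha'p]
        exact Subgroup.mem_sup_right hc
      have h4 : a' = (a' ^ k) ^ u * (a' ^ (p : ℤ)) ^ v := by
        rw [← zpow_mul, ← zpow_mul, ← zpow_add, mul_comm k u, mul_comm (p : ℤ) v, huv, zpow_one]
      rw [h4]
      exact (B ⊔ C).mul_mem ((B ⊔ C).zpow_mem h2 _) ((B ⊔ C).zpow_mem h3 _)
  have hC'T : C ⊔ Subgroup.zpowers a' ≤ T :=
    sup_le hCT (by rw [Subgroup.zpowers_le]; exact ha'T)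
  have hcard := hmax ⟨C ⊔ Subgroup.zpowers a', hC'T, hC'⟩
  have heq : C = C ⊔ Subgroup.zpowers a' := Subgroup.eq_of_le_of_card_ge le_sup_left hcard
  apply ha'n
  apply Subgroup.mem_sup_right
  rw [heq]
  exact Subgroup.mem_sup_right (Subgroup.mem_zpowers a')

/-- Averaging: an invariant subgroup with a complement has an invariant complement. -/
theorem exists_inv_compl [Finite Γ] (hcop : (Nat.card Γ).Coprime p) (T B C : Subgroup M) (e : ℕ)
    (hTinv : Inv ρ T) (hBinv : Inv ρ B) (hBT : B ≤ T) (hCT : C ≤ T)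
    (hBC : B ⊓ C = ⊥) (hsup : B ⊔ C = T) (hT : ∀ a ∈ T, a ^ p ^ e = 1) :
    ∃ C' : Subgroup M, Inv ρ C' ∧ C' ≤ T ∧ B ⊓ C' = ⊥ ∧ B ⊔ C' = T := by
  classical
  haveI : Fintype Γ := Fintype.ofFinite Γ
  have hpp := hp.out
  set n := Nat.card Γ with hn
  have hdec : ∀ t ∈ T, ∃ b ∈ B, ∃ c ∈ C, b * c = t := by
    intro t ht
    rw [← hsup] at ht
    exact Subgroup.mem_sup.1 ht
  have hdec' : ∀ t : M, ∃ b : M, b ∈ B ∧ (t ∈ T → ∃ c ∈ C, b * c = t) := by
    intro t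
    by_cases h : t ∈ T
    · obtain ⟨b, hb, c, hc, hbc⟩ := hdec t h
      exact ⟨b, hb, fun _ => ⟨c, hc, hbc⟩⟩
    · exact ⟨1, B.one_mem, fun h' => absurd h' h⟩
  choose π hπB hπdec using hdec'
  have huniq : ∀ b ∈ B, ∀ c ∈ C, π (b * c) = b := by
    intro b hb c hc
    have h : b * c ∈ T := T.mul_mem (hBT hb) (hCT hc)
    obtain ⟨c', hc', hbc'⟩ := hπdec (b * c) h
    have hb' := hπB (b * c)
    generalize π (b * c) = b' at hb' hbc'
    have h1 : b'⁻¹ * b = c' * c⁻¹ := by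
      rw [inv_mul_eq_iff_eq_mul, ← mul_assoc, hbc', mul_inv_cancel_right]
    have h2 : b'⁻¹ * b ∈ B ⊓ C :=
      ⟨B.mul_mem (B.inv_mem hb') hb, by rw [h1]; exact C.mul_mem hc' (C.inv_mem hc)⟩
    rw [hBC, Subgroup.mem_bot, inv_mul_eq_one] at h2
    exact h2
  have hπmul : ∀ t ∈ T, ∀ t' ∈ T, π (t * t') = π t * π t' := by
    intro t ht t' ht'
    obtain ⟨c, hc, hct⟩ := hπdec t ht
    obtain ⟨c', hc', hct'⟩ := hπdec t' ht'
    have : t * t' = (π t * π t') * (c * c') := by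
      calc t * t' = (π t * c) * (π t' * c') := by rw [hct, hct']
        _ = _ := mul_mul_mul_comm _ _ _ _
    rw [this]
    exact huniq _ (B.mul_mem (hπB t) (hπB t')) _ (C.mul_mem hc hc')
  have hπid : ∀ b ∈ B, π b = b := by
    intro b hb
    have := huniq b hb 1 C.one_mem
    rwa [mul_one] at this
  let σ : M → M := fun t => ∏ g : Γ, ρ g (π ((ρ g).symm t))
  have hsymm : ∀ (g : Γ) (S : Subgroup M), Inv ρ S → ∀ t ∈ S, (ρ g).symm t ∈ S := by
    intro g S hS t ht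
    have h := hS g⁻¹ t ht
    rw [map_inv] at h
    exact h
  have hσmul : ∀ t ∈ T, ∀ t' ∈ T, σ (t * t') = σ t * σ t' := by
    intro t ht t' ht'
    simp only [σ]
    rw [← Finset.prod_mul_distrib]
    apply Finset.prod_congr rfl
    intro g _
    rw [map_mul, hπmul _ (hsymm g T hTinv t ht) _ (hsymm g T hTinv t' ht'), map_mul]
  have hσB : ∀ t, σ t ∈ B := by
    intro t
    simp only [σ]
    apply Subgroup.prod_mem
    intro g _
    exact hBinv g _ (hπB _)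
  have hσid : ∀ b ∈ B, σ b = b ^ n := by
    intro b hb
    simp only [σ]
    have : ∀ g : Γ, ρ g (π ((ρ g).symm b)) = b := by
      intro g
      rw [hπid _ (hsymm g B hBinv b hb), MulEquiv.apply_symm_apply]
    rw [Finset.prod_congr rfl (fun g _ => this g), Finset.prod_const, Finset.card_univ, hn,
      Nat.card_eq_fintype_card]
  have hσeq : ∀ (h : Γ) (t : M), σ (ρ h t) = ρ h (σ t) := by
    intro h t
    simp only [σ]
    rw [map_prod]
    apply Fintype.prod_equiv (Equiv.mulLeft h⁻¹)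
    intro g
    show ρ g (π ((ρ g).symm (ρ h t))) = ρ h (ρ (h⁻¹ * g) (π ((ρ (h⁻¹ * g)).symm t)))
    have h1 : (ρ (h⁻¹ * g)).symm t = (ρ g).symm (ρ h t) := by
      rw [MulEquiv.symm_apply_eq, map_mul, MulAut.mul_apply, MulEquiv.apply_symm_apply, map_inv]
      exact (MulAut.inv_apply_self _ _ _).symm
    rw [h1, map_mul, MulAut.mul_apply, map_inv, MulAut.apply_inv_self]
  -- Bezout
  have hcop' : IsCoprime (n : ℤ) ((p ^ e : ℕ) : ℤ) := by
    rw [Nat.isCoprime_iff_coprime]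
    exact Nat.Coprime.pow_right e hcop
  obtain ⟨u, v, huv⟩ := hcop'
  have hrec : ∀ b ∈ T, (b ^ n) ^ u = b := by
    intro b hb
    have h1 : b ^ ((p ^ e : ℕ) : ℤ) = 1 := by rw [zpow_natCast]; exact hT b hb
    calc (b ^ n) ^ u = b ^ ((n : ℤ) * u) := by rw [← zpow_natCast b n, ← zpow_mul]
      _ = b ^ ((n : ℤ) * u) * (b ^ ((p ^ e : ℕ) : ℤ)) ^ v := by rw [h1, one_zpow, mul_one]
      _ = b ^ ((n : ℤ) * u + ((p ^ e : ℕ) : ℤ) * v) := by rw [zpow_add, zpow_mul, zpow_mul]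
      _ = b := by rw [mul_comm (n : ℤ), mul_comm ((p ^ e : ℕ) : ℤ), huv, zpow_one]
  have hσ1 : σ 1 = 1 := by
    rw [hσid 1 B.one_mem, one_pow]
  let C' : Subgroup M :=
    { carrier := {t | t ∈ T ∧ σ t = 1}
      mul_mem' := fun {a b} ha hb => ⟨T.mul_mem ha.1 hb.1, by
        rw [hσmul a ha.1 b hb.1, ha.2, hb.2, one_mul]⟩
      one_mem' := ⟨T.one_mem, hσ1⟩
      inv_mem' := fun {a} ha => ⟨T.inv_mem ha.1, by
        have := hσmul a⁻¹ (T.inv_mem ha.1) a ha.1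
        rw [inv_mul_cancel, hσ1, ha.2, mul_one] at this
        exact this.symm⟩ }
  have hC'mem : ∀ t, t ∈ C' ↔ t ∈ T ∧ σ t = 1 := fun t => Iff.rfl
  refine ⟨C', ?_, fun t ht => ht.1, ?_, ?_⟩
  · intro h t ht
    exact ⟨hTinv h t ht.1, by rw [hσeq, ht.2, map_one]⟩
  · rw [eq_bot_iff]
    intro b hb
    rw [Subgroup.mem_bot]
    have h1 := hrec b (hBT hb.1)
    rw [← hσid b hb.1, ((hC'mem b).1 hb.2).2, one_zpow] at h1
    exact h1.symm
  · apply le_antisymm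
    · exact sup_le hBT (fun t ht => ht.1)
    · intro t ht
      set b := (σ t) ^ u with hb
      have hbB : b ∈ B := B.zpow_mem (hσB t) u
      have hσb : σ b = σ t := by
        rw [hσid b hbB, hb, ← zpow_natCast, ← zpow_mul, mul_comm, zpow_mul, zpow_natCast]
        exact hrec _ (hBT (hσB t))
      have htb : t * b⁻¹ ∈ T := T.mul_mem ht (T.inv_mem (hBT hbB))
      have h2 : σ (t * b⁻¹) = 1 := by
        have := hσmul (t * b⁻¹) htb b (hBT hbB)
        rw [inv_mul_cancel_right, hσb] at this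
        exact (mul_eq_right.1 this.symm)
      have : t = b * (t * b⁻¹) := by rw [mul_comm t, mul_inv_cancel_left]
      rw [this]
      exact Subgroup.mul_mem_sup hbB ⟨htb, h2⟩

/-- An invariant pure-homocyclic subgroup has an invariant complement. -/
theorem exists_inv_compl' [Finite Γ] (hcop : (Nat.card Γ).Coprime p) (T B : Subgroup M) (e' : ℕ)
    (hTinv : Inv ρ T) (hBinv : Inv ρ B) (hBT : B ≤ T)
    (hT : ∀ a ∈ T, a ^ p ^ (e' + 1) = 1)
    (hPB : ∀ b ∈ B, b ^ p ^ e' = 1 → ∃ b₁ ∈ B, b₁ ^ p = b) :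
    ∃ C' : Subgroup M, Inv ρ C' ∧ C' ≤ T ∧ B ⊓ C' = ⊥ ∧ B ⊔ C' = T := by
  obtain ⟨C, hCT, hBC, hsup⟩ := exists_compl (p := p) T B e' hBT hT hPB
  exact exists_inv_compl ρ hcop T B C (e' + 1) hTinv hBinv hBT hCT hBC hsup hT

/-- The induced action on a quotient by an invariant subgroup. -/
noncomputable def quotAction (N : Subgroup M) (hN : Inv ρ N) : Γ →* MulAut (M ⧸ N) where
  toFun g := QuotientGroup.congr N N (ρ g) (hN.map_eq ρ g)
  map_one' := by
    ext x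
    induction x using QuotientGroup.induction_on with
    | H a =>
      show QuotientGroup.mk' N ((ρ 1) a) = QuotientGroup.mk' N a
      rw [map_one]
      rfl
  map_mul' g h := by
    ext x
    induction x using QuotientGroup.induction_on with
    | H a =>
      show QuotientGroup.mk' N ((ρ (g * h)) a) = QuotientGroup.mk' N ((ρ g) ((ρ h) a))
      rw [map_mul]
      rfl

theorem quotAction_mk (N : Subgroup M) (hN : Inv ρ N) (g : Γ) (a : M) :
    quotAction ρ N hN g (QuotientGroup.mk a) = QuotientGroup.mk (ρ g a) := rfl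

theorem irreducible_of_indecomposable [Finite Γ] (hcop : (Nat.card Γ).Coprime p)
    (hMp : IsPGroup p M)
    (hind : ¬ ∃ B C : Subgroup M, B ≠ ⊥ ∧ C ≠ ⊥ ∧ Inv ρ B ∧ Inv ρ C ∧ B ⊓ C = ⊥ ∧ B ⊔ C = ⊤)
    (F : Subgroup M) (hF : Inv ρ F) (hFp : ∀ b ∈ F, b ^ p = 1) (hF0 : F ≠ ⊥) :
    ∀ a : M, a ^ p = 1 → a ∈ F := by
  classical
  have hpp := hp.out
  have hexp : ∃ e, ∀ a : M, a ^ p ^ e = 1 := by
    obtain ⟨k, hk⟩ := IsPGroup.iff_card.1 hMp
    exact ⟨k, fun a => by rw [← hk]; exact pow_card_eq_one'⟩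
  obtain ⟨f, hfF, hf1⟩ := (F.bot_or_exists_ne_one).resolve_left hF0
  have he0 : Nat.find hexp ≠ 0 := by
    intro h0
    have := Nat.find_spec hexp
    rw [h0] at this
    apply hf1
    have h1 := this f
    rw [pow_zero, pow_one] at h1
    exact h1
  obtain ⟨e', he'⟩ := Nat.exists_eq_succ_of_ne_zero he0
  have hT : ∀ a : M, a ^ p ^ (e' + 1) = 1 := by
    have := Nat.find_spec hexp
    rwa [he'] at this
  have hmin : ¬ ∀ a : M, a ^ p ^ e' = 1 :=
    Nat.find_min hexp (by rw [he']; exact Nat.lt_succ_self _)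
  rw [not_forall] at hmin
  obtain ⟨a₀, ha₀⟩ := hmin
  let ψ : M →* M := powMonoidHom (p ^ e')
  have hψ : ∀ a, ψ a = a ^ p ^ e' := fun a => rfl
  have hψρ : ∀ (g : Γ) (a : M), ψ (ρ g a) = ρ g (ψ a) := by
    intro g a
    rw [hψ, hψ, map_pow]
  have hUinv : Inv ρ ψ.range := by
    rintro g _ ⟨a, rfl⟩
    exact ⟨ρ g a, hψρ g a⟩
  -- minimal nontrivial invariant subgroup of the range
  let 𝒰 : Set (Subgroup M) := {V | V ≤ ψ.range ∧ Inv ρ V ∧ V ≠ ⊥}
  haveI : Nonempty 𝒰 := ⟨⟨ψ.range, le_rfl, hUinv, by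
    intro h
    apply ha₀
    have : ψ a₀ ∈ ψ.range := ⟨a₀, rfl⟩
    rw [h, Subgroup.mem_bot] at this
    exact this⟩⟩
  obtain ⟨⟨U₁, hU₁U, hU₁inv, hU₁0⟩, hU₁min⟩ :=
    Finite.exists_min (fun V : 𝒰 => Nat.card (V : Subgroup M))
  have hU₁min' : ∀ V : Subgroup M, V ≤ U₁ → Inv ρ V → V ≠ ⊥ → V = U₁ := by
    intro V hV hVinv hV0
    exact Subgroup.eq_of_le_of_card_ge hV (hU₁min ⟨V, hV.trans hU₁U, hVinv, hV0⟩)
  -- minimal invariant B mapping onto U₁
  let ℬ : Set (Subgroup M) := {B | Inv ρ B ∧ B.map ψ = U₁}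
  haveI : Nonempty ℬ := ⟨⟨U₁.comap ψ, by
    intro g b hb
    rw [Subgroup.mem_comap] at hb ⊢
    rw [hψρ]
    exact hU₁inv g _ hb, by
    rw [Subgroup.map_comap_eq]
    exact inf_eq_right.2 hU₁U⟩⟩
  obtain ⟨⟨B, hBinv, hBmap⟩, hBmin⟩ :=
    Finite.exists_min (fun B : ℬ => Nat.card (B : Subgroup M))
  set N : Subgroup M := B.map (powMonoidHom p) with hNdef
  set K : Subgroup M := B ⊓ ψ.ker with hKdef
  have hNinv : Inv ρ N := by
    rintro g _ ⟨b, hb, rfl⟩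
    refine ⟨ρ g b, hBinv g b hb, ?_⟩
    show (ρ g b) ^ p = ρ g (b ^ p)
    rw [map_pow]
  have hKinv : Inv ρ K := by
    intro g k hk
    rw [hKdef, Subgroup.mem_inf] at hk ⊢
    refine ⟨hBinv g k hk.1, ?_⟩
    rw [MonoidHom.mem_ker, hψρ, (MonoidHom.mem_ker).1 hk.2, map_one]
  have hNB : N ≤ B := by
    rintro _ ⟨b, hb, rfl⟩
    exact B.pow_mem hb p
  -- the quotient by N
  let ρ' := quotAction ρ N hNinv
  let mk : M →* M ⧸ N := QuotientGroup.mk' N
  have hρ'mk : ∀ (g : Γ) (a : M), ρ' g (mk a) = mk (ρ g a) := fun g a => rfl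
  have hTinv' : Inv ρ' (B.map mk) := by
    rintro g _ ⟨b, hb, rfl⟩
    exact ⟨ρ g b, hBinv g b hb, (hρ'mk g b).symm⟩
  have hKinv' : Inv ρ' (K.map mk) := by
    rintro g _ ⟨b, hb, rfl⟩
    exact ⟨ρ g b, hKinv g b hb, (hρ'mk g b).symm⟩
  have hTexp' : ∀ a ∈ B.map mk, a ^ p ^ (0 + 1) = 1 := by
    rintro _ ⟨b, hb, rfl⟩
    rw [zero_add, pow_one, ← map_pow]
    exact (QuotientGroup.eq_one_iff _).2 ⟨b, hb, rfl⟩
  have hPK' : ∀ b ∈ K.map mk, b ^ p ^ 0 = 1 → ∃ b₁ ∈ K.map mk, b₁ ^ p = b := by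
    intro b _ hb1
    rw [pow_zero, pow_one] at hb1
    exact ⟨1, Subgroup.one_mem _, by rw [hb1, one_pow]⟩
  obtain ⟨Cq, hCqinv, hCqT, hKCq, hKCqsup⟩ := exists_inv_compl' ρ' hcop (B.map mk) (K.map mk) 0
    hTinv' hKinv' (Subgroup.map_mono inf_le_left) hTexp' hPK'
  set B' : Subgroup M := B ⊓ Cq.comap mk with hB'def
  have hB'inv : Inv ρ B' := by
    intro g b hb
    rw [hB'def, Subgroup.mem_inf] at hb ⊢
    refine ⟨hBinv g b hb.1, ?_⟩
    rw [Subgroup.mem_comap, ← hρ'mk]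
    exact hCqinv g _ hb.2
  have hB'map : B'.map ψ = U₁ := by
    apply le_antisymm
    · rw [← hBmap]
      exact Subgroup.map_mono inf_le_left
    · intro u hu
      rw [← hBmap] at hu
      obtain ⟨b, hb, rfl⟩ := hu
      have hmb : mk b ∈ K.map mk ⊔ Cq := by
        rw [hKCqsup]
        exact Subgroup.mem_map_of_mem _ hb
      obtain ⟨kq, hkq, cq, hcq, hkc⟩ := Subgroup.mem_sup.1 hmb
      obtain ⟨k, hk, rfl⟩ := hkq
      have hk : k ∈ B ⊓ ψ.ker := hk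
      rw [Subgroup.mem_inf] at hk
      refine ⟨b * k⁻¹, Subgroup.mem_inf.2 ⟨B.mul_mem hb (B.inv_mem hk.1), ?_⟩, ?_⟩
      · rw [Subgroup.mem_comap, map_mul, map_inv, ← hkc]
        rw [mul_comm (mk k) cq, mul_inv_cancel_right]
        exact hcq
      · rw [map_mul, map_inv, (MonoidHom.mem_ker).1 hk.2, inv_one, mul_one]
  have hB'B : B' = B :=
    Subgroup.eq_of_le_of_card_ge inf_le_left (hBmin ⟨B', hB'inv, hB'map⟩)
  have hKN : K ≤ N := by
    intro k hk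
    have hk' := hk
    rw [hKdef, Subgroup.mem_inf] at hk'
    have h1 : mk k ∈ Cq := by
      have : k ∈ B' := by rw [hB'B]; exact hk'.1
      rw [hB'def, Subgroup.mem_inf] at this
      exact this.2
    have h2 : mk k ∈ K.map mk ⊓ Cq := Subgroup.mem_inf.2 ⟨Subgroup.mem_map_of_mem _ hk, h1⟩
    rw [hKCq, Subgroup.mem_bot] at h2
    exact (QuotientGroup.eq_one_iff _).1 h2
  have hPB : ∀ b ∈ B, b ^ p ^ e' = 1 → ∃ b₁ ∈ B, b₁ ^ p = b := by
    intro b hb hb1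
    have : b ∈ N := hKN (Subgroup.mem_inf.2 ⟨hb, (MonoidHom.mem_ker).2 hb1⟩)
    obtain ⟨b₁, hb₁, hb₁p⟩ := this
    exact ⟨b₁, hb₁, hb₁p⟩
  have hTopinv : Inv ρ (⊤ : Subgroup M) := fun _ _ _ => Subgroup.mem_top _
  obtain ⟨C, hCinv, _, hBC, hBCsup⟩ := exists_inv_compl' ρ hcop ⊤ B e' hTopinv hBinv le_top
    (fun a _ => hT a) hPB
  have hB0 : B ≠ ⊥ := by
    intro h
    apply hU₁0
    rw [← hBmap, h, Subgroup.map_bot]
  have hC0 : C = ⊥ := by
    by_contra hC0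
    exact hind ⟨B, C, hB0, hC0, hBinv, hCinv, hBC, hBCsup⟩
  have hBtop : B = ⊤ := by rw [hC0, sup_bot_eq] at hBCsup; exact hBCsup
  have hPM : ∀ a : M, a ^ p ^ e' = 1 → ∃ c : M, c ^ p = a := by
    intro a ha
    obtain ⟨c, _, hc⟩ := hPB a (by rw [hBtop]; exact Subgroup.mem_top _) ha
    exact ⟨c, hc⟩
  have hroot : ∀ j, j ≤ e' → ∀ a : M, a ^ p = 1 → ∃ c : M, c ^ p ^ j = a := by
    intro j
    induction j with
    | zero => intro _ a _; exact ⟨a, by rw [pow_zero, pow_one]⟩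
    | succ j ih =>
      intro hj a ha
      obtain ⟨c, hc⟩ := ih (by omega) a ha
      have hc1 : c ^ p ^ e' = 1 := by
        obtain ⟨d, hd⟩ : ∃ d, e' = j + 1 + d := ⟨e' - (j + 1), by omega⟩
        rw [hd, pow_add, pow_succ, mul_assoc, pow_mul, hc, pow_mul, ha, one_pow]
      obtain ⟨d, hd⟩ := hPM c hc1
      exact ⟨d, by rw [pow_succ', pow_mul, hd, hc]⟩
  have hΩU : ∀ a : M, a ^ p = 1 → a ∈ U₁ := by
    intro a ha
    obtain ⟨c, hc⟩ := hroot e' le_rfl a ha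
    rw [← hBmap, hBtop]
    exact ⟨c, Subgroup.mem_top _, hc⟩
  have hFU : F = U₁ := hU₁min' F (fun b hb => hΩU b (hFp b hb)) hF hF0
  intro a ha
  rw [hFU]
  exact hΩU a ha

end general

/-- Let A be a finite abelian p-group and X a group of automorphisms of A of order prime to p. Call a subgroup of A invariant when every element of X maps it onto itself. Then the following are equivalent: (i) A is not the direct product of two nontrivial invariant subgroups; (ii) every invariant subgroup of A is one of the subgroups Ω_i(A) = {a : a^(p^i) = 1}; (iii) the subgroup Ω₁(A) of elements of order dividing p has no invariant subgroups other than 1 and itself. -/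
theorem result {A : Type*} [CommGroup A] [Finite A] {p : ℕ} [Fact p.Prime] (hA : IsPGroup p A) (X : Subgroup (MulAut A)) (hX : (Nat.card X).Coprime p) : ((¬ ∃ B C : Subgroup A, B ≠ ⊥ ∧ C ≠ ⊥ ∧ (∀ x ∈ X, B.map x.toMonoidHom = B) ∧ (∀ x ∈ X, C.map x.toMonoidHom = C) ∧ B ⊓ C = ⊥ ∧ B ⊔ C = ⊤) ↔ (∀ B : Subgroup A, (∀ x ∈ X, B.map x.toMonoidHom = B) → ∃ i : ℕ, ∀ a : A, a ∈ B ↔ a ^ p ^ i = 1)) ∧ ((∀ B : Subgroup A, (∀ x ∈ X, B.map x.toMonoidHom = B) → ∃ i : ℕ, ∀ a : A, a ∈ B ↔ a ^ p ^ i = 1) ↔ (∀ B : Subgroup A, (∀ x ∈ X, B.map x.toMonoidHom = B) → (∀ b ∈ B, b ^ p = 1) → B = ⊥ ∨ ∀ a : A, a ∈ B ↔ a ^ p = 1)) := by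
  classical
  let ρ : X →* MulAut A := X.subtype
  have hconv1 : ∀ B : Subgroup A, (∀ x ∈ X, B.map x.toMonoidHom = B) → Inv ρ B := by
    intro B h g b hb
    have h1 : (g.1).toMonoidHom b ∈ B.map (g.1).toMonoidHom := Subgroup.mem_map_of_mem _ hb
    rw [h g.1 g.2] at h1
    exact h1
  have hconv2 : ∀ B : Subgroup A, Inv ρ B → (∀ x ∈ X, B.map x.toMonoidHom = B) := by
    intro B h x hx
    exact Inv.map_eq ρ h ⟨x, hx⟩
  have hpowadd : ∀ (a : A) (i d : ℕ), a ^ p ^ i = 1 → a ^ p ^ (i + d) = 1 := by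
    intro a i d h
    rw [pow_add, pow_mul, h, one_pow]
  have h_II_I : (∀ B : Subgroup A, (∀ x ∈ X, B.map x.toMonoidHom = B) →
      ∃ i : ℕ, ∀ a : A, a ∈ B ↔ a ^ p ^ i = 1) →
      (¬ ∃ B C : Subgroup A, B ≠ ⊥ ∧ C ≠ ⊥ ∧ (∀ x ∈ X, B.map x.toMonoidHom = B) ∧
        (∀ x ∈ X, C.map x.toMonoidHom = C) ∧ B ⊓ C = ⊥ ∧ B ⊔ C = ⊤) := by
    rintro hII ⟨B, C, hB0, hC0, hBi, hCi, hBC, _⟩
    obtain ⟨i, hi⟩ := hII B hBi
    obtain ⟨j, hj⟩ := hII C hCi
    rcases le_total i j with hij | hij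
    · apply hB0
      obtain ⟨d, rfl⟩ := Nat.exists_eq_add_of_le hij
      have hle : B ≤ C := fun b hb => (hj b).2 (hpowadd b i d ((hi b).1 hb))
      rw [← hBC]
      exact (inf_eq_left.2 hle).symm
    · apply hC0
      obtain ⟨d, rfl⟩ := Nat.exists_eq_add_of_le hij
      have hle : C ≤ B := fun b hb => (hi b).2 (hpowadd b j d ((hj b).1 hb))
      rw [← hBC]
      exact (inf_eq_right.2 hle).symm
  have h_II_III : (∀ B : Subgroup A, (∀ x ∈ X, B.map x.toMonoidHom = B) →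
      ∃ i : ℕ, ∀ a : A, a ∈ B ↔ a ^ p ^ i = 1) →
      (∀ B : Subgroup A, (∀ x ∈ X, B.map x.toMonoidHom = B) → (∀ b ∈ B, b ^ p = 1) →
        B = ⊥ ∨ ∀ a : A, a ∈ B ↔ a ^ p = 1) := by
    intro hII B hB hBp
    obtain ⟨i, hi⟩ := hII B hB
    cases i with
    | zero =>
      left
      rw [Subgroup.eq_bot_iff_forall]
      intro b hb
      have := (hi b).1 hb
      rwa [pow_zero, pow_one] at this
    | succ i =>
      right
      intro a
      refine ⟨hBp a, fun ha => (hi a).2 ?_⟩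
      rw [pow_succ', pow_mul, ha, one_pow]
  have h_III_II : (∀ B : Subgroup A, (∀ x ∈ X, B.map x.toMonoidHom = B) → (∀ b ∈ B, b ^ p = 1) →
        B = ⊥ ∨ ∀ a : A, a ∈ B ↔ a ^ p = 1) →
      (∀ B : Subgroup A, (∀ x ∈ X, B.map x.toMonoidHom = B) →
        ∃ i : ℕ, ∀ a : A, a ∈ B ↔ a ^ p ^ i = 1) := by
    intro hIII
    have R : ∀ i : ℕ, ∀ B : Subgroup A, Inv ρ B → (∀ b ∈ B, b ^ p ^ i = 1) →
        (i = 0 ∨ ∃ b ∈ B, b ^ p ^ (i - 1) ≠ 1) → ∀ a : A, a ^ p ^ i = 1 → a ∈ B := by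
      intro i
      induction i with
      | zero =>
        intro B _ _ _ a ha
        rw [pow_zero, pow_one] at ha
        rw [ha]
        exact B.one_mem
      | succ i ih =>
        intro B hBinv hBexp hB1 a ha
        obtain ⟨b₀, hb₀, hb₀1⟩ : ∃ b ∈ B, b ^ p ^ i ≠ 1 := by
          rcases hB1 with h | h
          · exact absurd h (Nat.succ_ne_zero i)
          · simpa using h
        set πB : Subgroup A := B.map (powMonoidHom (p ^ i)) with hπB
        have hπinv : Inv ρ πB := by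
          rintro g _ ⟨b, hb, rfl⟩
          refine ⟨ρ g b, hBinv g b hb, ?_⟩
          show (ρ g b) ^ p ^ i = ρ g (b ^ p ^ i)
          rw [map_pow]
        have hπexp : ∀ b ∈ πB, b ^ p = 1 := by
          rintro _ ⟨b, hb, rfl⟩
          show (b ^ p ^ i) ^ p = 1
          rw [← pow_mul, ← pow_succ]
          exact hBexp b hb
        have hπ0 : πB ≠ ⊥ := by
          intro h
          apply hb₀1
          have : b₀ ^ p ^ i ∈ πB := ⟨b₀, hb₀, rfl⟩
          rw [h, Subgroup.mem_bot] at this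
          exact this
        have hΩ : ∀ a : A, a ^ p = 1 → a ∈ πB := by
          intro a ha
          rcases hIII πB (hconv2 πB hπinv) hπexp with h | h
          · exact absurd h hπ0
          · exact (h a).2 ha
        set B' : Subgroup A := B ⊓ (powMonoidHom (p ^ i) : A →* A).ker with hB'
        have hB'inv : Inv ρ B' := by
          intro g b hb
          rw [hB', Subgroup.mem_inf] at hb ⊢
          refine ⟨hBinv g b hb.1, ?_⟩
          rw [MonoidHom.mem_ker] at hb ⊢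
          show (ρ g b) ^ p ^ i = 1
          rw [← map_pow]
          have : b ^ p ^ i = 1 := hb.2
          rw [this, map_one]
        have hB'exp : ∀ b ∈ B', b ^ p ^ i = 1 := by
          intro b hb
          rw [hB', Subgroup.mem_inf] at hb
          exact hb.2
        have hB'1 : i = 0 ∨ ∃ b ∈ B', b ^ p ^ (i - 1) ≠ 1 := by
          cases i with
          | zero => left; rfl
          | succ i' =>
            right
            refine ⟨b₀ ^ p, ?_, ?_⟩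
            · rw [hB', Subgroup.mem_inf]
              refine ⟨B.pow_mem hb₀ p, ?_⟩
              rw [MonoidHom.mem_ker]
              show (b₀ ^ p) ^ p ^ (i' + 1) = 1
              rw [← pow_mul, ← pow_succ']
              exact hBexp b₀ hb₀
            · show (b₀ ^ p) ^ p ^ (i' + 1 - 1) ≠ 1
              rw [Nat.add_sub_cancel, ← pow_mul, ← pow_succ']
              exact hb₀1
        have hIH := ih B' hB'inv hB'exp hB'1
        have h1 : (a ^ p ^ i) ^ p = 1 := by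
          rw [← pow_mul, ← pow_succ]
          exact ha
        obtain ⟨b, hb, hba⟩ := hΩ _ h1
        have hba' : b ^ p ^ i = a ^ p ^ i := hba
        have h2 : (a * b⁻¹) ^ p ^ i = 1 := by
          rw [mul_pow, inv_pow, hba', mul_inv_cancel]
        have h3 : a * b⁻¹ ∈ B' := hIH _ h2
        rw [hB', Subgroup.mem_inf] at h3
        have : a = a * b⁻¹ * b := by rw [inv_mul_cancel_right]
        rw [this]
        exact B.mul_mem h3.1 hb
    intro B hB
    have hexp : ∃ i, ∀ b ∈ B, b ^ p ^ i = 1 := by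
      obtain ⟨k, hk⟩ := IsPGroup.iff_card.1 hA
      exact ⟨k, fun a _ => by rw [← hk]; exact pow_card_eq_one'⟩
    refine ⟨Nat.find hexp, fun a => ⟨Nat.find_spec hexp a, ?_⟩⟩
    apply R (Nat.find hexp) B (hconv1 B hB) (Nat.find_spec hexp)
    by_cases h0 : Nat.find hexp = 0
    · left; exact h0
    · right
      have := Nat.find_min hexp (Nat.sub_lt (Nat.pos_of_ne_zero h0) Nat.one_pos)
      push Not at this
      exact this
  have h_I_III : (¬ ∃ B C : Subgroup A, B ≠ ⊥ ∧ C ≠ ⊥ ∧ (∀ x ∈ X, B.map x.toMonoidHom = B) ∧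
        (∀ x ∈ X, C.map x.toMonoidHom = C) ∧ B ⊓ C = ⊥ ∧ B ⊔ C = ⊤) →
      (∀ B : Subgroup A, (∀ x ∈ X, B.map x.toMonoidHom = B) → (∀ b ∈ B, b ^ p = 1) →
        B = ⊥ ∨ ∀ a : A, a ∈ B ↔ a ^ p = 1) := by
    intro hI B hB hBp
    by_cases hB0 : B = ⊥
    · left; exact hB0
    · right
      intro a
      refine ⟨hBp a, ?_⟩
      apply irreducible_of_indecomposable ρ hX hA _ B (hconv1 B hB) hBp hB0
      rintro ⟨B₁, C₁, h1, h2, h3, h4, h5, h6⟩
      exact hI ⟨B₁, C₁, h1, h2, hconv2 B₁ h3, hconv2 C₁ h4, h5, h6⟩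
  exact ⟨⟨fun h => h_III_II (h_I_III h), h_II_I⟩, ⟨h_II_III, h_III_II⟩⟩

end Cfsg.Agent.S3775
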