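import Mathlib
import Cfsg.Statements.S3778

set_option autoImplicit false

open Cfsg

namespace Cfsg.Agent.S3778

open scoped commutatorElement

/-- the two-step centralizer `C_G(γ_k / γ_{k+2})` -/
def twoStep (G : Type*) [Group G] (k : ℕ) : Subgroup G where
  carrier := {x | ∀ y ∈ (⊤ : Subgroup G).lowerCentralSeries k,
    ⁅x, y⁆ ∈ (⊤ : Subgroup G).lowerCentralSeries (k + 2)}
  mul_mem' := by
    intro a b ha hb y hy
    have e : ⁅a * b, y⁆ = a * ⁅b, y⁆ * a⁻¹ * ⁅a, y⁆ := by
      simp only [commutatorElement_def]; group
    rw [e]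
    exact mul_mem (Subgroup.Normal.conj_mem inferInstance _ (hb y hy) a) (ha y hy)
  one_mem' := by
    intro y hy
    simp
  inv_mem' := by
    intro a ha y hy
    have e : ⁅a⁻¹, y⁆ = a⁻¹ * (⁅a, y⁆)⁻¹ * (a⁻¹)⁻¹ := by
      simp only [commutatorElement_def]; group
    rw [e]
    exact Subgroup.Normal.conj_mem inferInstance _ (inv_mem (ha y hy)) a⁻¹

theorem mem_twoStep {G : Type*} [Group G] (k : ℕ) (x : G) :
    x ∈ twoStep G k ↔ ∀ y ∈ (⊤ : Subgroup G).lowerCentralSeries k,
      ⁅x, y⁆ ∈ (⊤ : Subgroup G).lowerCentralSeries (k + 2) := Iff.rfl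

theorem relIndex_ge {G : Type*} [Group G] [Finite G] {p : ℕ} [hp : Fact p.Prime]
    (hG : IsPGroup p G) (H K : Subgroup G) (h : ¬ K ≤ H) : p ≤ H.relIndex K := by
  have h1 : H.relIndex K ≠ 1 := fun e => h (Subgroup.relIndex_eq_one.mp e)
  obtain ⟨n, hn⟩ := IsPGroup.iff_card.mp hG
  have h2 : H.relIndex K ∣ p ^ n := by
    rw [← hn]
    exact (Subgroup.relIndex_dvd_card H K).trans (Subgroup.card_subgroup_dvd_card K)
  obtain ⟨i, -, hi⟩ := (Nat.dvd_prime_pow hp.out).mp h2
  rcases Nat.eq_zero_or_pos i with h0 | hpos
  · rw [h0, pow_zero] at hi; exact absurd hi h1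
  · rw [hi]
    calc p = p ^ 1 := (pow_one p).symm
      _ ≤ p ^ i := Nat.pow_le_pow_right hp.out.pos hpos

open Classical in
theorem breadth_ge {G : Type*} [Group G] [Finite G] {p : ℕ} [hp : Fact p.Prime]
    (hG : IsPGroup p G) (x : G) (j : ℕ) :
    p ^ ((Finset.range j).filter (fun k => x ∉ twoStep G k)).card ≤
      (Subgroup.centralizer ({x} : Set G) ⊔ (⊤ : Subgroup G).lowerCentralSeries j).index := by
  classical
  induction j with
  | zero =>
    simp only [Finset.range_zero, Finset.filter_empty, Finset.card_empty, pow_zero]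
    exact Nat.one_le_iff_ne_zero.mpr Subgroup.index_ne_zero_of_finite
  | succ j ih =>
    set C := Subgroup.centralizer ({x} : Set G) with hC
    set Lj := (⊤ : Subgroup G).lowerCentralSeries j with hLj
    set Lj1 := (⊤ : Subgroup G).lowerCentralSeries (j + 1) with hLj1
    have hle : C ⊔ Lj1 ≤ C ⊔ Lj :=
      sup_le_sup_left ((⊤ : Subgroup G).lowerCentralSeries_antitone (Nat.le_succ j)) C
    have hmul := Subgroup.relIndex_mul_index hle
    rw [← hmul]
    have hpos : 1 ≤ (C ⊔ Lj1).relIndex (C ⊔ Lj) :=
      Nat.pos_of_dvd_of_pos (Subgroup.relIndex_dvd_card _ _) Nat.card_pos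
    by_cases hx : x ∈ twoStep G j
    · have hf : (Finset.range (j + 1)).filter (fun k => x ∉ twoStep G k) =
          (Finset.range j).filter (fun k => x ∉ twoStep G k) := by
        rw [Finset.range_add_one, Finset.filter_insert, if_neg (by simpa using hx)]
      rw [hf]
      calc p ^ ((Finset.range j).filter (fun k => x ∉ twoStep G k)).card
          ≤ (C ⊔ Lj).index := ih
        _ = 1 * (C ⊔ Lj).index := (one_mul _).symm
        _ ≤ _ := Nat.mul_le_mul_right _ hpos
    · have hf : (Finset.range (j + 1)).filter (fun k => x ∉ twoStep G k) =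
          insert j ((Finset.range j).filter (fun k => x ∉ twoStep G k)) := by
        rw [Finset.range_add_one, Finset.filter_insert, if_pos hx]
      rw [hf, Finset.card_insert_of_notMem (by simp), pow_succ']
      apply Nat.mul_le_mul _ ih
      apply relIndex_ge hG
      intro hcon
      apply hx
      intro y hy
      have hy' : y ∈ ((C ⊔ Lj1 : Subgroup G) : Set G) := hcon (Subgroup.mem_sup_right hy)
      rw [Subgroup.mul_normal] at hy'
      obtain ⟨c', hc', h, hh, rfl⟩ := hy'
      have hcx : c' * x = x * c' := (Subgroup.mem_centralizer_iff.mp hc' x rfl).symm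
      have e : ⁅x, c' * h⁆ = c' * ⁅x, h⁆ * c'⁻¹ := by
        simp only [commutatorElement_def]
        have e1 : x * (c' * h) * x⁻¹ * (c' * h)⁻¹ = (x * c') * h * x⁻¹ * h⁻¹ * c'⁻¹ := by group
        rw [e1, ← hcx]; group
      rw [e]
      apply Subgroup.Normal.conj_mem inferInstance
      have h3 : ⁅h, x⁆ ∈ (⊤ : Subgroup G).lowerCentralSeries (j + 2) := by
        show ⁅h, x⁆ ∈ ⁅(⊤ : Subgroup G).lowerCentralSeries (j + 1), (⊤ : Subgroup G)⁆
        exact Subgroup.commutator_mem_commutator hh (Subgroup.mem_top x)
      rw [← commutatorElement_inv]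
      exact inv_mem h3

theorem twoStep_ne_top {G : Type*} [Group G] (c : ℕ)
    (hc : (⊤ : Subgroup G).lowerCentralSeries c = ⊥)
    (hmin : ∀ j < c, (⊤ : Subgroup G).lowerCentralSeries j ≠ ⊥) (k : ℕ) (hk : k + 1 < c) :
    twoStep G k ≠ ⊤ := by
  intro htop
  have hle : (⊤ : Subgroup G).lowerCentralSeries (k + 1) ≤
      (⊤ : Subgroup G).lowerCentralSeries (k + 2) := by
    rw [Subgroup.lowerCentralSeries_succ, Subgroup.commutator_le]
    intro y hy x _
    have hx : x ∈ twoStep G k := by rw [htop]; trivial
    have := hx y hy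
    rw [← commutatorElement_inv]
    exact inv_mem this
  have heq : (⊤ : Subgroup G).lowerCentralSeries (k + 2) =
      (⊤ : Subgroup G).lowerCentralSeries (k + 1) :=
    le_antisymm ((⊤ : Subgroup G).lowerCentralSeries_antitone (Nat.le_succ _)) hle
  have hall : ∀ i, (⊤ : Subgroup G).lowerCentralSeries (k + 1 + i) =
      (⊤ : Subgroup G).lowerCentralSeries (k + 1) := by
    intro i
    induction i with
    | zero => rfl
    | succ i ih =>
      have e : k + 1 + (i + 1) = (k + 1 + i) + 1 := by ring
      rw [e, Subgroup.lowerCentralSeries_succ, ih, ← Subgroup.lowerCentralSeries_succ]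
      exact heq
  have h1 := hall (c - (k + 1))
  rw [Nat.add_sub_cancel' (by omega), hc] at h1
  exact hmin (k + 1) hk h1.symm

theorem card_twoStep_le {G : Type*} [Group G] [Finite G] {p : ℕ} [hp : Fact p.Prime]
    (hG : IsPGroup p G) (k : ℕ) (h : twoStep G k ≠ ⊤) :
    Nat.card (twoStep G k) * p ≤ Nat.card G := by
  have h1 : (twoStep G k).index ≠ 1 := fun e => h (Subgroup.index_eq_one.mp e)
  obtain ⟨n, hn⟩ := IsPGroup.iff_card.mp hG
  have h2 : (twoStep G k).index ∣ p ^ n := by
    rw [← hn]; exact Subgroup.index_dvd_card _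
  obtain ⟨i, -, hi⟩ := (Nat.dvd_prime_pow hp.out).mp h2
  have hpi : p ≤ (twoStep G k).index := by
    rcases Nat.eq_zero_or_pos i with h0 | hpos
    · rw [h0, pow_zero] at hi; exact absurd hi h1
    · rw [hi]
      calc p = p ^ 1 := (pow_one p).symm
        _ ≤ p ^ i := Nat.pow_le_pow_right hp.out.pos hpos
  calc Nat.card (twoStep G k) * p ≤ Nat.card (twoStep G k) * (twoStep G k).index :=
        Nat.mul_le_mul_left _ hpi
    _ = Nat.card G := Subgroup.card_mul_index _

/-- If G is a finite p-group in which every conjugacy class has at most p^b elements (every element has centralizer of index at most p^b), then G is abelian when b = 0, and when b ≥ 1 its nilpotency class c satisfies (c − 1)(p − 1) < bp, that is c < bp/(p − 1) + 1, and hence c ≤ 2b. -/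
theorem result {G : Type*} [Group G] [Finite G] {p : ℕ} [Fact p.Prime] (hG : IsPGroup p G) (b : ℕ) (hb : ∀ x : G, (Subgroup.centralizer ({x} : Set G)).index ≤ p ^ b) : ∃ c : ℕ, (⊤ : Subgroup G).lowerCentralSeries c = ⊥ ∧ (b ≠ 0 → (c - 1) * (p - 1) < b * p ∧ c ≤ 2 * b) ∧ (b = 0 → c ≤ 1) := by
  classical
  have hp := (Fact.out : p.Prime)
  have hnil : ∃ n, (⊤ : Subgroup G).lowerCentralSeries n = ⊥ :=
    Subgroup.nilpotent_iff_lowerCentralSeries.mp hG.isNilpotent
  set c := Nat.find hnil with hcdef
  have hc : (⊤ : Subgroup G).lowerCentralSeries c = ⊥ := Nat.find_spec hnil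
  have hmin : ∀ j < c, (⊤ : Subgroup G).lowerCentralSeries j ≠ ⊥ :=
    fun j hj => Nat.find_min hnil hj
  refine ⟨c, hc, ?_, ?_⟩
  · intro hb0
    have hb1 : 1 ≤ b := Nat.one_le_iff_ne_zero.mpr hb0
    have key : (c - 1) * (p - 1) < b * p := by
      by_cases hcb : c - 1 ≤ b
      · calc (c - 1) * (p - 1) ≤ b * (p - 1) := Nat.mul_le_mul_right _ hcb
          _ < b * p := by
            apply Nat.mul_lt_mul_of_pos_left _ hb1
            have := hp.pos
            omega
      · push Not at hcb
        set n := c - 1 with hn
        obtain ⟨d, hd⟩ : ∃ d, n = b + d := ⟨n - b, by omega⟩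
        have hd1 : 1 ≤ d := by omega
        letI : Fintype G := Fintype.ofFinite G
        -- per-element bound
        have hper : ∀ x : G, d ≤ ((Finset.range n).filter (fun k => x ∈ twoStep G k)).card := by
          intro x
          have h1 := breadth_ge hG x c
          rw [hc, sup_bot_eq] at h1
          have h2 : p ^ ((Finset.range c).filter (fun k => x ∉ twoStep G k)).card ≤ p ^ b :=
            h1.trans (hb x)
          have h3 : ((Finset.range c).filter (fun k => x ∉ twoStep G k)).card ≤ b :=
            (Nat.pow_le_pow_iff_right hp.one_lt).mp h2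
          have h4 : ((Finset.range n).filter (fun k => x ∉ twoStep G k)).card ≤
              ((Finset.range c).filter (fun k => x ∉ twoStep G k)).card := by
            apply Finset.card_le_card
            apply Finset.filter_subset_filter
            apply Finset.range_subset_range.mpr
            omega
          have h5 := Finset.card_filter_add_card_filter_not (s := Finset.range n)
            (fun k => x ∈ twoStep G k)
          rw [Finset.card_range] at h5
          omega
        have hone : ((Finset.range n).filter (fun k => (1 : G) ∈ twoStep G k)).card = n := by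
          rw [Finset.filter_true_of_mem (fun k _ => Subgroup.one_mem _), Finset.card_range]
        -- double counting
        have hdc := Finset.sum_card_bipartiteAbove_eq_sum_card_bipartiteBelow
          (fun (k : ℕ) (x : G) => x ∈ twoStep G k) (s := Finset.range n)
          (t := (Finset.univ : Finset G))
        have hupper : (∑ k ∈ Finset.range n,
            (Finset.bipartiteAbove (fun (k : ℕ) (x : G) => x ∈ twoStep G k) Finset.univ k).card) * p
            ≤ n * Nat.card G := by
          rw [Finset.sum_mul]
          calc ∑ k ∈ Finset.range n,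
              (Finset.bipartiteAbove (fun (k : ℕ) (x : G) => x ∈ twoStep G k) Finset.univ k).card * p
              ≤ ∑ k ∈ Finset.range n, Nat.card G := by
                apply Finset.sum_le_sum
                intro k hk
                have hk' : k + 1 < c := by
                  have := Finset.mem_range.mp hk
                  omega
                have h1 := card_twoStep_le hG k (twoStep_ne_top c hc hmin k hk')
                have h2 : (Finset.bipartiteAbove (fun (k : ℕ) (x : G) => x ∈ twoStep G k)
                    Finset.univ k).card = Nat.card (twoStep G k) := by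
                  rw [Nat.card_eq_fintype_card, Fintype.card_subtype]
                  congr 1
                rw [h2]; exact h1
            _ = n * Nat.card G := by rw [Finset.sum_const, Finset.card_range, smul_eq_mul]
        have hlower : (Nat.card G - 1) * d + n ≤ ∑ x ∈ (Finset.univ : Finset G),
            (Finset.bipartiteBelow (fun (k : ℕ) (x : G) => x ∈ twoStep G k) (Finset.range n) x).card := by
          rw [← Finset.add_sum_erase _ _ (Finset.mem_univ (1 : G))]
          have h1 : (Finset.bipartiteBelow (fun (k : ℕ) (x : G) => x ∈ twoStep G k)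
              (Finset.range n) (1 : G)).card = n := hone
          rw [h1, add_comm]
          apply Nat.add_le_add_left
          calc (Nat.card G - 1) * d = ∑ _x ∈ (Finset.univ : Finset G).erase 1, d := by
                rw [Finset.sum_const, Finset.card_erase_of_mem (Finset.mem_univ _),
                  Finset.card_univ, Nat.card_eq_fintype_card, smul_eq_mul]
            _ ≤ _ := Finset.sum_le_sum (fun x _ => hper x)
        rw [hdc] at hupper
        have hg1 : 1 ≤ Nat.card G := Nat.card_pos
        have hfin : ((Nat.card G - 1) * d + n) * p ≤ n * Nat.card G :=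
          (Nat.mul_le_mul_right p hlower).trans hupper
        -- arithmetic
        by_contra hcon
        push Not at hcon
        -- hcon : b * p ≤ n * (p - 1)
        obtain ⟨g, hg⟩ : ∃ g, Nat.card G = g + 1 := ⟨Nat.card G - 1, by omega⟩
        obtain ⟨q, hq⟩ : ∃ q, p = q + 2 := ⟨p - 2, by have := hp.two_le; omega⟩
        rw [hg, hq, hd] at hfin
        rw [hq, hd] at hcon
        simp only [Nat.add_sub_cancel] at hfin
        have e1 : q + 2 - 1 = q + 1 := by omega
        rw [e1] at hcon
        nlinarith
    refine ⟨key, ?_⟩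
    by_contra hcon
    push Not at hcon
    have h1 : 2 * b ≤ c - 1 := by omega
    have h2 : p ≤ 2 * (p - 1) := by have := hp.two_le; omega
    have h3 : b * p ≤ (c - 1) * (p - 1) := by
      calc b * p ≤ b * (2 * (p - 1)) := Nat.mul_le_mul_left _ h2
        _ = (2 * b) * (p - 1) := by ring
        _ ≤ (c - 1) * (p - 1) := Nat.mul_le_mul_right _ h1
    omega
  · intro hb0
    subst hb0
    have hcomm : ∀ x y : G, x * y = y * x := by
      intro x y
      have h1 := hb y
      rw [pow_zero] at h1
      have h2 : (Subgroup.centralizer ({y} : Set G)).index = 1 := by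
        have : (Subgroup.centralizer ({y} : Set G)).index ≠ 0 := Subgroup.index_ne_zero_of_finite
        omega
      have h3 := Subgroup.index_eq_one.mp h2
      have h4 : x ∈ Subgroup.centralizer ({y} : Set G) := by rw [h3]; trivial
      exact (Subgroup.mem_centralizer_iff.mp h4 y rfl).symm
    have h1 : (⊤ : Subgroup G).lowerCentralSeries 1 = ⊥ := by
      rw [Subgroup.lowerCentralSeries_succ, Subgroup.lowerCentralSeries_zero, eq_bot_iff,
        Subgroup.commutator_le]
      intro x _ y _
      rw [Subgroup.mem_bot, commutatorElement_def, hcomm x y]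
      group
    exact Nat.find_min' hnil h1

end Cfsg.Agent.S3778
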