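import Cfsg.Statements.S3780
import Mathlib

set_option autoImplicit false
open Cfsg

namespace Cfsg.Agent.S3780

/-- For an endomorphism `a` of an additive commutative group with `a ^ p = 1`, the endomorphism
`(a - 1) ^ p` kills every element of order dividing `p`. -/
theorem sub_one_pow_apply {A : Type*} [AddCommGroup A] {p : ℕ} (hp : p.Prime)
    (a : AddMonoid.End A) (ha : a ^ p = 1) (x : A) (hx : p • x = 0) : ((a - 1) ^ p) x = 0 := by
  have hc : Commute a (-1 : AddMonoid.End A) := (Commute.one_right a).neg_right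
  obtain ⟨r, hr⟩ := hc.exists_add_pow_prime_eq hp
  have h1 : (a - 1) ^ p = 1 + (-1) ^ p + (p : AddMonoid.End A) * a * (-1) * r := by
    rw [sub_eq_add_neg, hr, ha]
  have h2 : ∃ s : AddMonoid.End A, (1 : AddMonoid.End A) + (-1) ^ p = (p : AddMonoid.End A) * s := by
    rcases hp.eq_two_or_odd' with rfl | hodd
    · exact ⟨1, by norm_num⟩
    · exact ⟨0, by rw [hodd.neg_one_pow]; simp⟩
  obtain ⟨s, hs⟩ := h2
  have h3 : (a - 1) ^ p = (p : AddMonoid.End A) * (s + a * (-1) * r) := by
    rw [h1, hs, mul_add, mul_assoc, mul_assoc, mul_assoc]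
  rw [h3]
  change (p : AddMonoid.End A) ((s + a * (-1) * r) x) = 0
  rw [AddMonoid.End.natCast_apply, ← map_nsmul, hx, map_zero]

/-- The kernel of a composite of endomorphisms of a finite abelian group has at most the product of
the orders of the kernels. -/
theorem card_ker_comp_le {A : Type*} [AddCommGroup A] [Finite A] (f g : A →+ A) :
    Nat.card (f.comp g).ker ≤ Nat.card f.ker * Nat.card g.ker := by
  -- the map g : ker (f ∘ g) → ker f
  let φ : (f.comp g).ker →+ f.ker :=
    { toFun := fun x => ⟨g x, by
        have := x.2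
        rw [AddMonoidHom.mem_ker, AddMonoidHom.comp_apply] at this
        exact AddMonoidHom.mem_ker.mpr this⟩
      map_zero' := by ext; simp
      map_add' := by intro x y; ext; simp }
  have h1 : Nat.card φ.ker * Nat.card φ.range = Nat.card (f.comp g).ker := by
    rw [← AddSubgroup.index_ker, AddSubgroup.card_mul_index]
  have h2 : Nat.card φ.range ≤ Nat.card f.ker :=
    Nat.card_le_card_of_injective (fun x : φ.range => (x : f.ker)) Subtype.val_injective
  have h3 : Nat.card φ.ker ≤ Nat.card g.ker := by
    apply Nat.card_le_card_of_injective (fun x : φ.ker => (⟨(x : (f.comp g).ker), by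
      have := x.2
      rw [AddMonoidHom.mem_ker] at this
      have := congrArg Subtype.val this
      exact AddMonoidHom.mem_ker.mpr this⟩ : g.ker))
    intro x y hxy
    have := congrArg Subtype.val hxy
    exact Subtype.ext (Subtype.ext this)
  calc Nat.card (f.comp g).ker = Nat.card φ.ker * Nat.card φ.range := h1.symm
    _ ≤ Nat.card g.ker * Nat.card f.ker := Nat.mul_le_mul h3 h2
    _ = Nat.card f.ker * Nat.card g.ker := mul_comm _ _

theorem card_ker_comp_le' {A : Type*} [AddCommGroup A] [Finite A] (f g : A →+ A) :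
    Nat.card {x : A // f (g x) = 0} ≤ Nat.card {x : A // f x = 0} * Nat.card {x : A // g x = 0} := by
  have e1 : Nat.card {x : A // f (g x) = 0} = Nat.card (f.comp g).ker :=
    Nat.card_congr (Equiv.subtypeEquivRight (fun x => by
      rw [AddMonoidHom.mem_ker, AddMonoidHom.comp_apply]))
  have e2 : Nat.card {x : A // f x = 0} = Nat.card f.ker :=
    Nat.card_congr (Equiv.subtypeEquivRight (fun x => by rw [AddMonoidHom.mem_ker]))
  have e3 : Nat.card {x : A // g x = 0} = Nat.card g.ker :=
    Nat.card_congr (Equiv.subtypeEquivRight (fun x => by rw [AddMonoidHom.mem_ker]))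
  rw [e1, e2, e3]
  exact card_ker_comp_le f g

theorem card_ker_pow_le {A : Type*} [AddCommGroup A] [Finite A] (f : AddMonoid.End A) (k : ℕ) :
    Nat.card {x : A // (f ^ k) x = 0} ≤ Nat.card {x : A // f x = 0} ^ k := by
  induction k with
  | zero =>
    rw [pow_zero, pow_zero]
    have : ∀ x : A, (1 : AddMonoid.End A) x = 0 ↔ x = 0 := fun x => Iff.rfl
    rw [Nat.card_congr (Equiv.subtypeEquivRight this)]
    simp
  | succ k ih =>
    have h : ∀ x : A, (f ^ (k + 1)) x = 0 ↔ (f ^ k) (f x) = 0 := by
      intro x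
      rw [pow_succ]
      rfl
    rw [Nat.card_congr (Equiv.subtypeEquivRight h), pow_succ]
    exact (card_ker_comp_le' (f ^ k) f).trans (Nat.mul_le_mul_right _ ih)

/-- Greedy generation: a subgroup whose index divides `p ^ j` can be completed to the whole group
by adjoining at most `j` elements. -/
theorem exists_gens {V : Type*} [Group V] [Finite V] {p : ℕ} (hp : p.Prime) :
    ∀ (j : ℕ) (H : Subgroup V), H.index ∣ p ^ j →
      ∃ S : Finset V, S.card ≤ j ∧ H ⊔ Subgroup.closure (S : Set V) = ⊤ := by
  classical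
  intro j
  induction j with
  | zero =>
    intro H hH
    rw [pow_zero, Nat.dvd_one, Subgroup.index_eq_one] at hH
    exact ⟨∅, by simp, by rw [hH]; simp⟩
  | succ j ih =>
    intro H hH
    by_cases hHtop : H = ⊤
    · exact ⟨∅, by simp, by rw [hHtop]; simp⟩
    obtain ⟨x, hx⟩ : ∃ x : V, x ∉ H := by
      by_contra hcon
      push Not at hcon
      exact hHtop (eq_top_iff.mpr fun x _ => hcon x)
    set H' : Subgroup V := H ⊔ Subgroup.zpowers x with hH'
    have hlt : H < H' := by
      refine lt_of_le_of_ne le_sup_left ?_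
      intro heq
      apply hx
      rw [heq]
      exact (le_sup_right : Subgroup.zpowers x ≤ H') (Subgroup.mem_zpowers x)
    have hidx_lt : H'.index < H.index := Subgroup.index_strictAnti hlt
    have hdvd : H'.index ∣ H.index := Subgroup.index_dvd_of_le hlt.le
    obtain ⟨i, hi, hidx⟩ := (Nat.dvd_prime_pow hp).mp (hdvd.trans hH)
    obtain ⟨i', hi', hidx'⟩ := (Nat.dvd_prime_pow hp).mp hH
    have hii : i < i' := by
      rw [hidx, hidx'] at hidx_lt
      exact (Nat.pow_lt_pow_iff_right hp.one_lt).mp hidx_lt
    have hij : H'.index ∣ p ^ j := by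
      rw [hidx]
      exact pow_dvd_pow p (by omega)
    obtain ⟨S, hS, hSgen⟩ := ih H' hij
    refine ⟨insert x S, (Finset.card_insert_le x S).trans (by omega), ?_⟩
    rw [Finset.coe_insert, Set.insert_eq, Subgroup.closure_union, ← Subgroup.zpowers_eq_closure,
      ← sup_assoc, ← hH', hSgen]

/-- In a finite commutative `p`-group, a subgroup which together with the `p`-th powers generates
the group is the whole group. -/
theorem eq_top_of_sup_pow {V : Type*} [CommGroup V] [Finite V] {p : ℕ} [Fact p.Prime]
    (hV : IsPGroup p V) (H : Subgroup V)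
    (h : (powMonoidHom p : V →* V).range ⊔ H = ⊤) : H = ⊤ := by
  have hstep : ∀ v : V, ∃ h ∈ H, ∃ u : V, v = h * u ^ p := by
    intro v
    have hv : v ∈ (powMonoidHom p : V →* V).range ⊔ H := by rw [h]; exact Subgroup.mem_top v
    obtain ⟨y, hy, z, hz, rfl⟩ := Subgroup.mem_sup.mp hv
    obtain ⟨u, rfl⟩ := hy
    exact ⟨z, hz, u, by rw [powMonoidHom_apply, mul_comm]⟩
  have hk : ∀ k : ℕ, ∀ v : V, ∃ h ∈ H, ∃ u : V, v = h * u ^ (p ^ k) := by
    intro k
    induction k with
    | zero =>
      intro v
      exact ⟨1, H.one_mem, v, by simp⟩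
    | succ k ih =>
      intro v
      obtain ⟨h₁, hh₁, u, rfl⟩ := ih v
      obtain ⟨h₂, hh₂, w, rfl⟩ := hstep u
      refine ⟨h₁ * h₂ ^ (p ^ k), H.mul_mem hh₁ (H.pow_mem hh₂ _), w, ?_⟩
      rw [mul_pow, ← pow_mul, pow_succ', mul_assoc]
  obtain ⟨K, hK⟩ := IsPGroup.iff_card.mp hV
  rw [eq_top_iff]
  intro v _
  obtain ⟨h₁, hh₁, u, rfl⟩ := hk K v
  have : u ^ (p ^ K) = 1 := by rw [← hK]; exact pow_card_eq_one'
  rw [this, mul_one]
  exact hh₁

/-- Let V be a finite abelian p-group and α an automorphism of V of order p whose fixed-point subgroup has order p^n. Then V can be generated by pn elements: some subset of V with at most pn elements generates V. -/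
theorem result {V : Type*} [CommGroup V] [Finite V] {p : ℕ} [Fact p.Prime] (hV : IsPGroup p V) (α : MulAut V) (hα : orderOf α = p) (n : ℕ) (hfix : Nat.card {v : V // α v = v} = p ^ n) : ∃ S : Finset V, S.card ≤ p * n ∧ Subgroup.closure (S : Set V) = ⊤ := by
  have hp := (Fact.out : p.Prime)
  let a : AddMonoid.End (Additive V) := MonoidHom.toAdditive α.toMonoidHom
  have ha1 : ∀ x : Additive V, a x = Additive.ofMul (α (Additive.toMul x)) := fun x => rfl
  have ha_apply : ∀ (k : ℕ) (x : Additive V),
      (a ^ k) x = Additive.ofMul ((α ^ k) (Additive.toMul x)) := by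
    intro k
    induction k with
    | zero => intro x; rfl
    | succ k ih =>
      intro x
      rw [pow_succ, pow_succ]
      change (a ^ k) (a x) = _
      rw [ih]
      rfl
  have hap : a ^ p = 1 := by
    have h : ∀ x : Additive V, (a ^ p) x = (1 : AddMonoid.End (Additive V)) x := by
      intro x
      rw [ha_apply, ← hα, pow_orderOf_eq_one]
      rfl
    exact DFunLike.ext _ _ h
  have hker1 : Nat.card {x : Additive V // (a - 1) x = 0} = p ^ n := by
    rw [← hfix]
    refine Nat.card_congr (Equiv.subtypeEquiv Additive.toMul ?_)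
    intro x
    change a x - x = 0 ↔ _
    rw [sub_eq_zero, ha1]
    constructor
    · intro h; exact congrArg Additive.toMul h
    · intro h; exact congrArg Additive.ofMul h
  have hkerp : Nat.card {x : Additive V // ((a - 1) ^ p) x = 0} ≤ (p ^ n) ^ p := by
    rw [← hker1]; exact card_ker_pow_le (a - 1) p
  have hmem : ∀ v : V, v ^ p = 1 → ((a - 1) ^ p) (Additive.ofMul v) = 0 := by
    intro v hv
    apply sub_one_pow_apply hp a hap
    rw [← ofMul_pow, hv]
    rfl
  have hOmega : Nat.card (powMonoidHom p : V →* V).ker ≤ (p ^ n) ^ p := by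
    refine le_trans ?_ hkerp
    apply Nat.card_le_card_of_injective
      (fun v : (powMonoidHom p : V →* V).ker =>
        (⟨Additive.ofMul (v : V), hmem v (by
          have := v.2
          rwa [MonoidHom.mem_ker, powMonoidHom_apply] at this)⟩ :
          {x : Additive V // ((a - 1) ^ p) x = 0}))
    intro v w h
    have := congrArg Subtype.val h
    exact Subtype.ext (congrArg Additive.toMul this)
  set H : Subgroup V := (powMonoidHom p : V →* V).range with hH
  have hidx : H.index = Nat.card (powMonoidHom p : V →* V).ker := by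
    have h1 := Subgroup.card_mul_index (powMonoidHom p : V →* V).ker
    rw [Subgroup.index_ker] at h1
    have h2 := Subgroup.card_mul_index H
    have h3 : Nat.card H * H.index = Nat.card H * Nat.card (powMonoidHom p : V →* V).ker := by
      rw [h2, ← h1, mul_comm]
    exact Nat.eq_of_mul_eq_mul_left Nat.card_pos h3
  obtain ⟨j, hj⟩ := IsPGroup.iff_card.mp (hV.to_subgroup (powMonoidHom p : V →* V).ker)
  have hjle : j ≤ p * n := by
    rw [hj, ← pow_mul] at hOmega
    have := (Nat.pow_le_pow_iff_right hp.one_lt).mp hOmega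
    rw [mul_comm]; exact this
  have hdiv : H.index ∣ p ^ (p * n) := by
    rw [hidx, hj]
    exact pow_dvd_pow p hjle
  obtain ⟨S, hS, hSgen⟩ := exists_gens hp (p * n) H hdiv
  exact ⟨S, hS, eq_top_of_sup_pow hV _ hSgen⟩

end Cfsg.Agent.S3780
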