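import Cfsg.Statements.S3781
import Mathlib
import Cfsg.Agent.Lib.Lead_Coprime

set_option autoImplicit false
open Cfsg

namespace Cfsg.Agent.S3781

section
variable {G : Type*} [Group G]

/-- three subgroups lemma modulo a normal subgroup -/
theorem three_subgroups_mod (A B C K : Subgroup G) [K.Normal]
    (h1 : ⁅⁅A, B⁆, C⁆ ≤ K) (h2 : ⁅⁅C, A⁆, B⁆ ≤ K) : ⁅⁅B, C⁆, A⁆ ≤ K := by
  have key : ∀ X Y Z : Subgroup G, ⁅⁅X, Y⁆, Z⁆ ≤ K ↔
      ⁅⁅X.map (QuotientGroup.mk' K), Y.map (QuotientGroup.mk' K)⁆,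
        Z.map (QuotientGroup.mk' K)⁆ = ⊥ := by
    intro X Y Z
    rw [← Subgroup.map_commutator, ← Subgroup.map_commutator, Subgroup.map_eq_bot_iff,
      QuotientGroup.ker_mk']
  rw [key] at h1 h2 ⊢
  exact Subgroup.commutator_commutator_eq_bot_of_rotate h2 h1

/-- iterated commutator with the whole group -/
def mser (T : Subgroup G) : ℕ → Subgroup G
  | 0 => T
  | j + 1 => ⁅mser T j, ⊤⁆

theorem mser_normal (T : Subgroup G) [hT : T.Normal] : ∀ j, (mser T j).Normal
  | 0 => hT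
  | j + 1 => by
    haveI := mser_normal T j
    show (⁅mser T j, ⊤⁆ : Subgroup G).Normal
    infer_instance

theorem mser_lcs (T : Subgroup G) [hT : T.Normal] : ∀ m j,
    ⁅mser T j, (⊤ : Subgroup G).lowerCentralSeries m⁆ ≤ mser T (j + m + 1) := by
  intro m
  induction m with
  | zero =>
    intro j
    exact le_of_eq rfl
  | succ m ih =>
    intro j
    rw [Subgroup.lowerCentralSeries_succ, Subgroup.commutator_comm]
    haveI := mser_normal T (j + (m + 1) + 1)
    apply three_subgroups_mod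
    · calc ⁅⁅mser T j, (⊤ : Subgroup G).lowerCentralSeries m⁆, ⊤⁆
          ≤ ⁅mser T (j + m + 1), ⊤⁆ := Subgroup.commutator_mono (ih j) le_rfl
        _ = mser T (j + (m + 1) + 1) := rfl
    · rw [Subgroup.commutator_comm ⊤ (mser T j)]
      have := ih (j + 1)
      have e : j + 1 + m + 1 = j + (m + 1) + 1 := by omega
      rw [e] at this
      exact this

end


section
variable {G : Type*} [Group G] [Finite G] {p : ℕ} [Fact p.Prime]

/-- for normal subgroups `Z < Y` of a finite `p`-group: `[Y,G] Z < Y`. -/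
theorem comm_sup_lt (hG : IsPGroup p G) (Y Z : Subgroup G) [Y.Normal] [Z.Normal] (hZY : Z < Y) :
    ⁅Y, ⊤⁆ ⊔ Z < Y := by
  have hle : ⁅Y, ⊤⁆ ⊔ Z ≤ Y := sup_le (Subgroup.commutator_le_left Y ⊤) hZY.le
  refine lt_of_le_of_ne hle ?_
  intro heq
  set f := QuotientGroup.mk' Z with hf
  have hQ : IsPGroup p (G ⧸ Z) := hG.to_quotient Z
  have hYb : Y.map f ≠ ⊥ := by
    intro h
    rw [Subgroup.map_eq_bot_iff, QuotientGroup.ker_mk'] at h
    exact absurd (le_antisymm h hZY.le) (ne_of_gt hZY)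
  have hlt := Cfsg.Agent.Lib.Lead_Coprime.commutator_lt_of_pgroup p (Y.map f) ⊤
    (hQ.to_subgroup _) (hQ.to_subgroup _) (by
      intro x _
      have : (Y.map f).Normal := Subgroup.Normal.map inferInstance f (QuotientGroup.mk'_surjective Z)
      rw [Subgroup.normalizer_eq_top]; trivial) hYb
  have htop : (⊤ : Subgroup (G ⧸ Z)) = (⊤ : Subgroup G).map f := by
    rw [← MonoidHom.range_eq_map]
    exact (MonoidHom.range_eq_top.mpr (QuotientGroup.mk'_surjective Z)).symm
  rw [htop, ← Subgroup.map_commutator] at hlt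
  have h2 : (⁅Y, ⊤⁆ : Subgroup G).map f = Y.map f := by
    have h3 : (⁅Y, ⊤⁆ ⊔ Z).map f = (⁅Y, ⊤⁆ : Subgroup G).map f := by
      rw [Subgroup.map_sup]
      have : Z.map f = ⊥ := by
        rw [Subgroup.map_eq_bot_iff, QuotientGroup.ker_mk']
      rw [this, sup_bot_eq]
    rw [← h3, heq]
  exact absurd h2 (ne_of_lt hlt)

theorem card_mul_p_le (hG : IsPGroup p G) {A B : Subgroup G} (h : A < B) :
    Nat.card A * p ≤ Nat.card B := by
  obtain ⟨a, ha⟩ := (IsPGroup.iff_card.mp (hG.to_subgroup A))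
  obtain ⟨b, hb⟩ := (IsPGroup.iff_card.mp (hG.to_subgroup B))
  have hlt : Nat.card A < Nat.card B := Cfsg.Agent.Lib.Lead_SZ.card_lt h
  rw [ha, hb] at hlt ⊢
  have hp : 1 < p := (Fact.out : p.Prime).one_lt
  have hab : a < b := (Nat.pow_lt_pow_iff_right hp).mp hlt
  rw [← pow_succ]
  exact Nat.pow_le_pow_right hp.le hab

theorem mser_le (hG : IsPGroup p G) (T Z : Subgroup G) [T.Normal] [Z.Normal] (hZT : Z ≤ T) :
    ∀ j, mser T j ≤ Z ∨ Nat.card (mser T j ⊔ Z : Subgroup G) * p ^ j ≤ Nat.card T := by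
  intro j
  induction j with
  | zero =>
    right
    show Nat.card (T ⊔ Z : Subgroup G) * p ^ 0 ≤ Nat.card T
    rw [sup_eq_left.mpr hZT]; simp
  | succ j ih =>
    haveI := mser_normal T j
    by_cases hle : mser T j ≤ Z
    · left
      show ⁅mser T j, ⊤⁆ ≤ Z
      exact (Subgroup.commutator_mono hle le_rfl).trans (Subgroup.commutator_le_left Z ⊤)
    · right
      have ih' := ih.resolve_left hle
      have hlt : Z < mser T j ⊔ Z := by
        refine lt_of_le_of_ne le_sup_right ?_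
        intro h
        exact hle (h ▸ le_sup_left)
      haveI : (mser T j ⊔ Z).Normal := inferInstance
      have h1 := comm_sup_lt hG (mser T j ⊔ Z) Z hlt
      have h2 : mser T (j + 1) ⊔ Z ≤ ⁅mser T j ⊔ Z, ⊤⁆ ⊔ Z :=
        sup_le_sup_right (Subgroup.commutator_mono le_sup_left le_rfl) Z
      have h3 : mser T (j + 1) ⊔ Z < mser T j ⊔ Z := lt_of_le_of_lt h2 h1
      have h4 := card_mul_p_le hG h3
      calc Nat.card (mser T (j + 1) ⊔ Z : Subgroup G) * p ^ (j + 1)
          = (Nat.card (mser T (j + 1) ⊔ Z : Subgroup G) * p) * p ^ j := by ring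
        _ ≤ Nat.card (mser T j ⊔ Z : Subgroup G) * p ^ j := Nat.mul_le_mul_right _ h4
        _ ≤ Nat.card T := ih'

end

theorem result {G : Type*} [Group G] [Finite G] {p : ℕ} [Fact p.Prime] (hG : IsPGroup p G) (n : ℕ) (hn : 1 ≤ n) (N : Subgroup G) [N.Normal] (hN : N ≤ (⊤ : Subgroup G).lowerCentralSeries (n - 1)) (i : ℕ) (hi : 1 < i) (hne : N.lowerCentralSeries i ≠ ⊥) : p ^ n ≤ (N.lowerCentralSeries i).relIndex (N.lowerCentralSeries (i - 1)) := by
  classical
  have hNn : ∀ j, (N.lowerCentralSeries j).Normal := by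
    intro j
    induction j with
    | zero => exact (inferInstance : N.Normal)
    | succ j ih =>
      haveI := ih
      rw [Subgroup.lowerCentralSeries_succ]; infer_instance
  obtain ⟨i', rfl⟩ : ∃ i', i = i' + 1 := ⟨i - 1, by omega⟩
  rw [Nat.add_sub_cancel]
  set T := N.lowerCentralSeries i' with hT
  set Z := N.lowerCentralSeries (i' + 1) with hZ
  haveI : T.Normal := hNn i'
  haveI : Z.Normal := hNn (i' + 1)
  have hZT : Z ≤ T := Subgroup.lowerCentralSeries_antitone N (Nat.le_succ i')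
  have hZdef : Z = ⁅T, N⁆ := rfl
  obtain ⟨k, hk⟩ : ∃ k, Z.relIndex T = p ^ k := (hG.to_subgroup T).index (Z.subgroupOf T)
  rw [hk]
  by_contra hlt
  rw [not_le] at hlt
  have hp : 1 < p := (Fact.out : p.Prime).one_lt
  have hkn : k < n := (Nat.pow_lt_pow_iff_right hp).mp hlt
  -- `mser T k ≤ Z`
  have hcardT : Nat.card T = Nat.card Z * p ^ k := by
    rw [← hk]
    have h1 := Subgroup.card_mul_index (Z.subgroupOf T)
    rw [Cfsg.Agent.Lib.Lead_SZ.card_subgroupOf_of_le hZT] at h1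
    exact h1.symm
  have hMk : mser T k ≤ Z := by
    rcases mser_le hG T Z hZT k with h | h
    · exact h
    · rw [hcardT] at h
      have hpk : 0 < p ^ k := Nat.pos_of_ne_zero (pow_ne_zero _ (by omega))
      have h2 : Nat.card (mser T k ⊔ Z : Subgroup G) ≤ Nat.card Z := Nat.le_of_mul_le_mul_right h hpk
      have h3 : Z = mser T k ⊔ Z := by
        by_contra hne'
        have : Z < mser T k ⊔ Z := lt_of_le_of_ne le_sup_right hne'
        have := Cfsg.Agent.Lib.Lead_SZ.card_lt this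
        omega
      rw [h3]; exact le_sup_left
  have h1 : Z ≤ ⁅T, (⊤ : Subgroup G).lowerCentralSeries k⁆ := by
    rw [hZdef]
    refine Subgroup.commutator_mono le_rfl (hN.trans ?_)
    exact Subgroup.lowerCentralSeries_antitone _ (by omega)
  have h2 : ⁅T, (⊤ : Subgroup G).lowerCentralSeries k⁆ ≤ mser T (0 + k + 1) := mser_lcs T k 0
  have h3 : mser T (0 + k + 1) ≤ ⁅Z, ⊤⁆ := by
    rw [Nat.zero_add]
    exact Subgroup.commutator_mono hMk le_rfl
  have h4 : ⁅Z, ⊤⁆ < Z := Cfsg.Agent.Lib.Lead_Coprime.commutator_lt_of_pgroup p Z ⊤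
    (hG.to_subgroup _) (hG.to_subgroup _) (by
      intro x _
      rw [Subgroup.normalizer_eq_top]; trivial) hne
  exact absurd (h1.trans (h2.trans h3)) (not_le_of_gt h4)

end Cfsg.Agent.S3781
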