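import Cfsg.Statements.S3784
import Mathlib

set_option autoImplicit false
open Cfsg

namespace Cfsg.Agent.S3784

theorem pow2_odd_dvd {d k : ℕ} (h : d ∣ 2 ^ k) (hd : d % 2 = 1) : d = 1 := by
  obtain ⟨j, _, rfl⟩ := (Nat.dvd_prime_pow Nat.prime_two).1 h
  cases j with
  | zero => simp
  | succ j => rw [pow_succ] at hd; omega

theorem two_pow_mod_four {a : ℕ} (ha : 2 ≤ a) : 2 ^ a % 4 = 0 := by
  obtain ⟨k, rfl⟩ : ∃ k, a = k + 2 := ⟨a - 2, by omega⟩
  rw [pow_add]; omega

theorem geom_odd (x a : ℕ) (hx : x % 2 = 1) (ha : a % 2 = 1) :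
    (∑ i ∈ Finset.range a, x ^ i) % 2 = 1 := by
  rw [Finset.sum_nat_mod]
  have : ∀ i, x ^ i % 2 = 1 := by
    intro i; rw [Nat.pow_mod, hx, one_pow]; rfl
  simp [this, ha]

theorem caseA (q a b : ℕ) (hq : q.Prime) (hqodd : q % 2 = 1) (ha : 1 ≤ a) (hb : 1 ≤ b)
    (h : 2 ^ a = q ^ b + 1) : b = 1 := by
  rcases Nat.even_or_odd b with hbe | hbo
  · exfalso
    obtain ⟨c, hc⟩ := hbe
    have hc' : b = 2 * c := by omega
    have h4 : q ^ b % 4 = 1 := by
      rw [hc', pow_mul, Nat.pow_mod]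
      have : q ^ 2 % 4 = 1 := by
        have h1 : q % 4 = 1 ∨ q % 4 = 3 := by omega
        rw [Nat.pow_mod]
        rcases h1 with h1 | h1 <;> rw [h1]
      rw [this, one_pow]; rfl
    have ha1 : a = 1 := by
      by_contra hne
      have : 2 ≤ a := by omega
      have := two_pow_mod_four this
      omega
    rw [ha1] at h
    have : 1 < q ^ b := Nat.one_lt_pow (by omega) hq.one_lt
    omega
  · -- b odd
    set S : ℤ := ∑ i ∈ Finset.range b, (-(q : ℤ)) ^ i with hS
    have hgeo : (1 + (q : ℤ)) * S = 1 + (q : ℤ) ^ b := by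
      have := mul_neg_geom_sum (-(q : ℤ)) b
      rw [hbo.neg_pow] at this
      simpa using this
    have hSodd : S % 2 = 1 := by
      rw [hS, Finset.sum_int_mod]
      have : ∀ i, (-(q : ℤ)) ^ i % 2 = 1 := by
        intro i
        apply Int.odd_iff.mp
        apply Odd.pow
        apply Odd.neg
        exact_mod_cast Nat.odd_iff.mpr hqodd
      simp only [this, Finset.sum_const, Finset.card_range, nsmul_eq_mul, mul_one]
      have := Nat.odd_iff.mp hbo
      omega
    have hdvd : S ∣ (2 : ℤ) ^ a := by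
      refine ⟨1 + (q : ℤ), ?_⟩
      have : ((2 ^ a : ℕ) : ℤ) = ((q ^ b + 1 : ℕ) : ℤ) := by rw [h]
      push_cast at this
      rw [this, mul_comm, hgeo]; ring
    have hnat : S.natAbs ∣ 2 ^ a := by
      have := Int.natAbs_dvd_natAbs.mpr hdvd
      simpa [Int.natAbs_pow] using this
    have hnatodd : S.natAbs % 2 = 1 := by
      apply Nat.odd_iff.mp
      rw [Int.natAbs_odd]
      exact Int.odd_iff.mpr hSodd
    have hS1 := pow2_odd_dvd hnat hnatodd
    have hqb : (0 : ℤ) ≤ (q : ℤ) ^ b := by positivity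
    have hq0 : (0 : ℤ) ≤ (q : ℤ) := by positivity
    rcases Int.natAbs_eq S with hs | hs
    · rw [hS1] at hs
      rw [hs] at hgeo
      have hqq : (q : ℤ) ^ b = (q : ℤ) := by push_cast at hgeo; linarith
      have hqq' : q ^ b = q ^ 1 := by rw [pow_one]; exact_mod_cast hqq
      exact Nat.pow_right_injective hq.two_le hqq'
    · rw [hS1] at hs
      rw [hs] at hgeo
      push_cast at hgeo
      nlinarith

theorem caseB (p a b : ℕ) (hp : p.Prime) (hpodd : p % 2 = 1) (ha : 2 ≤ a) (hb : 1 ≤ b)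
    (h : p ^ a = 2 ^ b + 1) : p ^ a = 9 ∧ 2 ^ b = 8 := by
  rcases Nat.even_or_odd a with hae | hao
  · obtain ⟨c, hc⟩ := hae
    have hc' : a = 2 * c := by omega
    have hc1 : 1 ≤ c := by omega
    have hx1 : 1 ≤ p ^ c := Nat.one_le_pow _ _ hp.pos
    obtain ⟨y, hy⟩ : ∃ y, p ^ c = y + 1 := ⟨p ^ c - 1, by omega⟩
    have hxx : p ^ a = (y + 1) * (y + 1) := by
      rw [hc', mul_comm, pow_mul, hy]; ring
    have hprod : y * (y + 2) = 2 ^ b := by
      have : (y + 1) * (y + 1) = 2 ^ b + 1 := by rw [← hxx, h]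
      nlinarith
    have hy1 : y ∣ 2 ^ b := Dvd.intro _ hprod
    have hy2 : y + 2 ∣ 2 ^ b := Dvd.intro_left _ hprod
    obtain ⟨s, _, hs⟩ := (Nat.dvd_prime_pow Nat.prime_two).1 hy1
    obtain ⟨t, _, ht⟩ := (Nat.dvd_prime_pow Nat.prime_two).1 hy2
    have hst : 2 ^ s + 2 = 2 ^ t := by rw [← hs, ← ht]
    have hspos : 0 < 2 ^ s := by positivity
    have hs1 : s = 1 := by
      rcases Nat.lt_or_ge s 2 with hlt | hge
      · interval_cases s
        · exfalso
          rcases Nat.lt_or_ge t 2 with hlt' | hge'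
          · interval_cases t <;> omega
          · have := two_pow_mod_four hge'; omega
        · rfl
      · exfalso
        have h0 := two_pow_mod_four hge
        rcases Nat.lt_or_ge t 2 with hlt' | hge'
        · interval_cases t <;> omega
        · have := two_pow_mod_four hge'; omega
    have hy' : y = 2 := by rw [hs, hs1]; rfl
    have hpc : p ^ c = 3 := by rw [hy, hy']
    obtain ⟨hp3, hc1'⟩ := (Nat.Prime.pow_eq_iff Nat.prime_three).1 hpc
    constructor
    · rw [hxx, hy']
    · rw [← hprod, hy']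
  · exfalso
    have hp1 : p - 1 + 1 = p := Nat.sub_add_cancel hp.pos
    have hgeo := geom_sum_mul_add (p - 1) a
    rw [hp1] at hgeo
    set S := ∑ i ∈ Finset.range a, p ^ i with hS
    have hSm : S * (p - 1) = 2 ^ b := by omega
    have hSd : S ∣ 2 ^ b := Dvd.intro _ hSm
    have hSodd : S % 2 = 1 := geom_odd p a hpodd (Nat.odd_iff.mp hao)
    have hS1 := pow2_odd_dvd hSd hSodd
    rw [hS1, one_mul] at hgeo
    have hpa : p ^ a = p ^ 1 := by rw [pow_one]; omega
    have := Nat.pow_right_injective hp.two_le hpa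
    omega

/-- Let p, q be primes and a, b positive integers with p^a = q^b + 1. Then either p = 2, b = 1, a is prime and q = 2^a − 1; or q = 2, a = 1, b is a power of 2 and p = 2^b + 1; or p^a = 9 and q^b = 8. -/
theorem result (p q a b : ℕ) (hp : p.Prime) (hq : q.Prime) (ha : 1 ≤ a) (hb : 1 ≤ b) (h : p ^ a = q ^ b + 1) : (p = 2 ∧ b = 1 ∧ a.Prime ∧ q + 1 = 2 ^ a) ∨ (q = 2 ∧ a = 1 ∧ (∃ m : ℕ, b = 2 ^ m) ∧ p = 2 ^ b + 1) ∨ (p ^ a = 9 ∧ q ^ b = 8) := by
  have hpow_even : ∀ k : ℕ, 1 ≤ k → 2 ^ k % 2 = 0 := by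
    intro k hk
    obtain ⟨j, rfl⟩ : ∃ j, k = j + 1 := ⟨k - 1, by omega⟩
    rw [pow_succ]; omega
  have hpow_odd : ∀ x k : ℕ, x % 2 = 1 → x ^ k % 2 = 1 := by
    intro x k hx
    rw [Nat.pow_mod, hx, one_pow]; rfl
  rcases hp.eq_two_or_odd with rfl | hpo
  · -- p = 2
    have hqo : q % 2 = 1 := by
      rcases hq.eq_two_or_odd with rfl | hqo
      · exfalso
        have h1 := hpow_even a ha
        have h2 := hpow_even b hb
        omega
      · exact hqo
    have hb1 : b = 1 := caseA q a b hq hqo ha hb h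
    left
    subst hb1
    rw [pow_one] at h
    refine ⟨rfl, rfl, ?_, h.symm⟩
    have ha1 : a ≠ 1 := by
      intro h1
      rw [h1] at h
      have : q = 1 := by omega
      exact hq.one_lt.ne' this
    have hP : (2 ^ a - 1).Prime := by
      have : 2 ^ a - 1 = q := by omega
      rw [this]; exact hq
    exact (Nat.prime_of_pow_sub_one_prime ha1 hP).2
  · -- p odd, so q = 2
    have hq2 : q = 2 := by
      rcases hq.eq_two_or_odd with rfl | hqo
      · rfl
      · exfalso
        have h1 := hpow_odd p a hpo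
        have h2 := hpow_odd q b hqo
        omega
    subst hq2
    right
    rcases Nat.lt_or_ge a 2 with hlt | hge
    · left
      have ha1 : a = 1 := by omega
      subst ha1
      rw [pow_one] at h
      refine ⟨rfl, rfl, ?_, h⟩
      apply Nat.pow_of_pow_add_prime (a := 2) one_lt_two (by omega)
      rw [← h]; exact hp
    · right
      exact caseB p a b hp hpo hge hb h

end Cfsg.Agent.S3784
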