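import Cfsg.Statements.S3785
import Mathlib
import Cfsg.Agent.S0044
import Cfsg.Agent.S0120
import Cfsg.Agent.S0199
import Cfsg.Agent.Lib.Lead_Fitting
import Cfsg.Agent.Lib.Lead_Subnormal
import Cfsg.Agent.Lib.Lead_MinNonNil
import Cfsg.Agent.Lib.Helper4_PCore

set_option autoImplicit false
open Cfsg

namespace Cfsg.Agent.S3785

open Cfsg.Agent.Lib.Helper4_PCore Cfsg.Agent.Lib.Lead_Fitting

variable {G : Type*} [Group G]

/-- The elements of prime order of the Fitting subgroup. -/
def Cset (G : Type*) [Group G] : Set G := {t | t ∈ Cfsg.fittingSubgroup G ∧ (orderOf t).Prime}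

/-- their centralizer -/
def Cc (G : Type*) [Group G] : Subgroup G := Subgroup.centralizer (Cset G)

theorem Cc_normal : (Cc G).Normal := by
  haveI hFn : (Cfsg.fittingSubgroup G).Normal := Cfsg.Agent.S0044.fitting_normal
  constructor
  intro c hc h
  unfold Cc at hc ⊢
  rw [Subgroup.mem_centralizer_iff] at hc ⊢
  rintro t ⟨htF, hto⟩
  have hmem : h⁻¹ * t * h ∈ Cset G := by
    refine ⟨?_, ?_⟩
    · have := hFn.conj_mem t htF h⁻¹
      rwa [inv_inv] at this
    · have : orderOf (h⁻¹ * t * h) = orderOf t := by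
        have := MulEquiv.orderOf_eq (MulAut.conj h⁻¹) t
        rwa [MulAut.conj_apply, inv_inv] at this
      rw [this]; exact hto
  have h1 := hc _ hmem
  calc t * (h * c * h⁻¹) = h * ((h⁻¹ * t * h) * c) * h⁻¹ := by group
    _ = h * (c * (h⁻¹ * t * h)) * h⁻¹ := by rw [h1]
    _ = h * c * h⁻¹ * t := by group

theorem A1 [Finite G] (hodd : Odd (Nat.card (Cfsg.fittingSubgroup G))) (p : ℕ) [Fact p.Prime]
    (y : G) (hy : y ∈ Cc G) (hcop : (orderOf y).Coprime p) :
    y ∈ Subgroup.centralizer (Cfsg.pCore p G : Set G) := by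
  haveI := pCore_normal p G
  have hPF : Cfsg.pCore p G ≤ Cfsg.fittingSubgroup G := by
    rw [fitting_eq]; exact pCore_le_F0 p
  have hPp : IsPGroup p (Cfsg.pCore p G) := pCore_isPGroup
  by_cases hp2 : p = 2
  · subst hp2
    have h1 : Nat.card (Cfsg.pCore 2 G) ∣ Nat.card (Cfsg.fittingSubgroup G) :=
      Subgroup.card_dvd_of_le hPF
    obtain ⟨k, hk⟩ := IsPGroup.iff_card.mp hPp
    have hk0 : k = 0 := by
      by_contra hk0
      have h2 : 2 ∣ Nat.card (Cfsg.fittingSubgroup G) := by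
        refine dvd_trans ?_ h1
        rw [hk]
        exact dvd_pow_self 2 hk0
      exact (Nat.not_even_iff_odd.2 hodd) (even_iff_two_dvd.2 h2)
    rw [hk0, pow_zero, Subgroup.card_eq_one] at hk
    rw [hk, Subgroup.mem_centralizer_iff]
    intro t ht
    rw [Subgroup.coe_bot, Set.mem_singleton_iff] at ht
    rw [ht, one_mul, mul_one]
  · have h := Cfsg.Agent.S0120.result (G := ↥(Cfsg.pCore p G)) hp2 hPp (MulAut.conjNormal y)
      (Nat.Coprime.coprime_dvd_left (orderOf_map_dvd _ y) hcop) (by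
        intro t ht
        apply Subtype.ext
        rw [MulAut.conjNormal_apply]
        by_cases ht1 : t = 1
        · subst ht1; simp
        · have hord : orderOf (t : G) = p := by
            have h1 : orderOf t = p := orderOf_eq_prime ht ht1
            rwa [Subgroup.orderOf_coe]
          have hmem : (t : G) ∈ Cset G := ⟨hPF t.2, by rw [hord]; exact Fact.out⟩
          have := Subgroup.mem_centralizer_iff.1 hy _ hmem
          rw [← this]
          group)
    rw [Subgroup.mem_centralizer_iff]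
    intro t ht
    have h2 := congrArg (fun a : MulAut ↥(Cfsg.pCore p G) => ((a ⟨t, ht⟩ : ↥(Cfsg.pCore p G)) : G)) h
    simp only [MulAut.conjNormal_apply, MulAut.one_apply] at h2
    calc t * y = (y * t * y⁻¹) * y := by rw [h2]
      _ = y * t := by group

/-- an `r`-subgroup of the Fitting subgroup lies in `O_r(G)` -/
theorem le_pCore_of_le_fitting [Finite G] (r : ℕ) [Fact r.Prime] (Y : Subgroup G)
    (hY : IsPGroup r Y) (hYF : Y ≤ Cfsg.fittingSubgroup G) : Y ≤ Cfsg.pCore r G := by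
  rw [fitting_eq] at hYF
  have h1 : IsPGroup r (Y.subgroupOf (F0 G)) :=
    hY.comap_of_injective _ (Subgroup.subtype_injective _)
  obtain ⟨P, hP⟩ := h1.exists_le_sylow
  rw [sylow_F0 G r P] at hP
  intro y hy
  have : (⟨y, hYF hy⟩ : F0 G) ∈ (Cfsg.pCore r G).subgroupOf (F0 G) :=
    hP (Subgroup.mem_subgroupOf.2 hy)
  exact Subgroup.mem_subgroupOf.1 this

theorem key [Finite G] [Group.IsSolvable G] (hodd : Odd (Nat.card (Cfsg.fittingSubgroup G)))
    (q : ℕ) [Fact q.Prime] (X Y : Subgroup G) (hX : IsPGroup q X) (hY : IsPGroup q Y)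
    (hXC : X ≤ Cc G) (hYC : Y ≤ Cc G) : IsPGroup q (X ⊔ Y : Subgroup G) := by
  have hqel : ∀ Z : Subgroup G, IsPGroup q Z → Z ≤ Cc G → ∀ (p : ℕ) [Fact p.Prime], p ≠ q →
      Z ≤ Subgroup.centralizer (Cfsg.pCore p G : Set G) := by
    intro Z hZ hZC p _ hpq z hz
    apply A1 hodd p z (hZC hz)
    obtain ⟨k, hk⟩ := hZ ⟨z, hz⟩
    have h1 : z ^ q ^ k = 1 := by
      have := congrArg Subtype.val hk
      simpa using this
    obtain ⟨j, -, hj⟩ := (Nat.dvd_prime_pow Fact.out).1 (orderOf_dvd_of_pow_eq_one h1)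
    rw [hj]
    exact Nat.Coprime.pow_left j ((Nat.coprime_primes Fact.out Fact.out).2 (Ne.symm hpq))
  have hDC : X ⊔ Y ≤ Cc G := sup_le hXC hYC
  have hDcent : ∀ (p : ℕ) [Fact p.Prime], p ≠ q →
      X ⊔ Y ≤ Subgroup.centralizer (Cfsg.pCore p G : Set G) := by
    intro p _ hpq
    exact sup_le (hqel X hX hXC p hpq) (hqel Y hY hYC p hpq)
  -- Sylow r-subgroups of D, r ≠ q, are central
  have hcentral : ∀ (r : ℕ) [Fact r.Prime], r ≠ q → ∀ R : Sylow r ↥(X ⊔ Y),
      (R : Subgroup ↥(X ⊔ Y)) ≤ Subgroup.center ↥(X ⊔ Y) := by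
    intro r _ hrq R y hy
    have hyo : ∃ j, orderOf (y : G) = r ^ j := by
      obtain ⟨k, hk⟩ := R.isPGroup' ⟨y, hy⟩
      have h1 : (y : G) ^ r ^ k = 1 := by
        have := congrArg (fun u : ↥(R : Subgroup ↥(X ⊔ Y)) => ((u : ↥(X ⊔ Y)) : G)) hk
        simpa using this
      obtain ⟨j, -, hj⟩ := (Nat.dvd_prime_pow Fact.out).1 (orderOf_dvd_of_pow_eq_one h1)
      exact ⟨j, hj⟩
    obtain ⟨j, hj⟩ := hyo
    have hyC : (y : G) ∈ Cc G := hDC y.2
    -- y centralizes every p-core
    have hall : ∀ p : Nat.Primes, Cfsg.pCore (p : ℕ) G ≤ Subgroup.centralizer {(y : G)} := by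
      intro p
      haveI : Fact (p : ℕ).Prime := ⟨p.2⟩
      intro t ht
      rw [Subgroup.mem_centralizer_singleton_iff]
      by_cases hpr : (p : ℕ) = r
      · have h1 := hDcent (p : ℕ) (by rw [hpr]; exact hrq) y.2
        exact (Subgroup.mem_centralizer_iff.1 h1 t ht)
      · have h1 := A1 hodd (p : ℕ) (y : G) hyC (by
          rw [hj]
          exact Nat.Coprime.pow_left j ((Nat.coprime_primes Fact.out p.2).2 (Ne.symm hpr)))
        exact (Subgroup.mem_centralizer_iff.1 h1 t ht)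
    have hyF : (y : G) ∈ Cfsg.fittingSubgroup G := by
      apply Cfsg.Agent.S0044.result
      rw [Subgroup.mem_centralizer_iff]
      intro t ht
      rw [fitting_eq] at ht
      have h1 : F0 G ≤ Subgroup.centralizer {(y : G)} := iSup_le hall
      exact (Subgroup.mem_centralizer_singleton_iff.1 (h1 ht))
    have hyr : (y : G) ∈ Cfsg.pCore r G := by
      apply le_pCore_of_le_fitting r (Subgroup.zpowers (y : G)) ?_
        (Subgroup.zpowers_le.2 hyF) (Subgroup.mem_zpowers _)
      exact IsPGroup.of_card (by rw [Nat.card_zpowers, hj])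
    rw [Subgroup.mem_center_iff]
    intro d
    have h1 := hDcent r hrq d.2
    have h2 := Subgroup.mem_centralizer_iff.1 h1 (y : G) hyr
    exact Subtype.ext h2.symm
  -- index of the centre is a power of q
  have hidx : ∃ n, (Subgroup.center ↥(X ⊔ Y)).index = q ^ n := by
    refine ⟨_, Nat.eq_prime_pow_of_unique_prime_dvd
      (Subgroup.index_ne_zero_of_finite) ?_⟩
    intro r hr hrd
    by_contra hrq
    haveI : Fact r.Prime := ⟨hr⟩
    obtain ⟨R⟩ : Nonempty (Sylow r ↥(X ⊔ Y)) := inferInstance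
    exact R.not_dvd_index (hrd.trans (Subgroup.index_dvd_of_le (hcentral r hrq R)))
  obtain ⟨n, hn⟩ := hidx
  have hquot : IsPGroup q (↥(X ⊔ Y) ⧸ Subgroup.center ↥(X ⊔ Y)) :=
    IsPGroup.of_card (by rw [← Subgroup.index_eq_card, hn])
  have hnilq : Group.IsNilpotent (↥(X ⊔ Y) ⧸ Subgroup.center ↥(X ⊔ Y)) := hquot.isNilpotent
  have hnil : Group.IsNilpotent ↥(X ⊔ Y) := Group.of_quotient_center_nilpotent hnilq
  exact Cfsg.Agent.Lib.Lead_Subnormal.isPGroup_sup_of_nilpotent hnil le_sup_left le_sup_right hX hY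

theorem main [Finite G] [Group.IsSolvable G] (hodd : Odd (Nat.card (Cfsg.fittingSubgroup G)))
    (q : ℕ) [Fact q.Prime] (X : Subgroup G) (hX : IsPGroup q X) (hXC : X ≤ Cc G) :
    X ≤ Cfsg.fittingSubgroup G := by
  haveI := Cc_normal (G := G)
  obtain ⟨N, hN, hNp, hXN⟩ := Cfsg.Agent.S0199.result X hX (fun g => by
    apply key hodd q X _ hX (hX.map _) hXC
    rintro _ ⟨x, hx, rfl⟩
    exact (Cc_normal (G := G)).conj_mem x (hXC hx) g)
  refine hXN.trans ?_
  unfold Cfsg.fittingSubgroup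
  exact le_sSup ⟨hN, hNp.isNilpotent⟩


/-- Let G be a finite solvable group whose Fitting subgroup F(G) has odd order. If an element g of G commutes with every element of prime order of F(G), then g ∈ F(G). -/
theorem result {G : Type*} [Group G] [Finite G] (hG : Group.IsSolvable G) (hodd : Odd (Nat.card (Cfsg.fittingSubgroup G))) (g : G) (hg : ∀ x ∈ Cfsg.fittingSubgroup G, (orderOf x).Prime → g * x = x * g) : g ∈ Cfsg.fittingSubgroup G := by
  haveI := hG
  have hgC : g ∈ Cc G := by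
    unfold Cc
    rw [Subgroup.mem_centralizer_iff]
    rintro t ⟨htF, hto⟩
    exact (hg t htF hto).symm
  have hZC : Subgroup.zpowers g ≤ Cc G := Subgroup.zpowers_le.2 hgC
  have htop : (Cfsg.fittingSubgroup G).subgroupOf (Subgroup.zpowers g) = ⊤ := by
    apply Cfsg.Agent.Lib.Lead_MinNonNil.eq_top_of_forall_sylow_le
    intro r _
    obtain ⟨S⟩ : Nonempty (Sylow r ↥(Subgroup.zpowers g)) := inferInstance
    refine ⟨S, ?_⟩
    intro x hx
    rw [Subgroup.mem_subgroupOf]
    have h1 : (S : Subgroup ↥(Subgroup.zpowers g)).map (Subgroup.zpowers g).subtype ≤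
        Cfsg.fittingSubgroup G := by
      apply main hodd r _ (S.isPGroup'.map _)
      exact (Subgroup.map_subtype_le _).trans hZC
    exact h1 ⟨x, hx, rfl⟩
  rw [Subgroup.subgroupOf_eq_top] at htop
  exact htop (Subgroup.mem_zpowers g)

end Cfsg.Agent.S3785
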