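import Cfsg.Statements.S3791
import Mathlib
import Cfsg.Agent.Lib.Helper4_PCore
import Cfsg.Agent.Lib.Helper5_PPrime
import Cfsg.Agent.Lib.Helper1_MinNormal

set_option autoImplicit false
open Cfsg

namespace Cfsg.Agent.S3791

universe u

open Cfsg.Agent.Lib

/-- an elementwise normal `p`-series with `k` factors of `p`-type. -/
def HasPChain (p k : ℕ) (G : Type*) [Group G] : Prop :=
  ∃ N : ℕ → Subgroup G, N 0 = ⊥ ∧ N (2 * k + 1) = ⊤ ∧ (∀ j, (N j).Normal) ∧
    (∀ j, Even j → ∀ x ∈ N (j + 1), ∃ m : ℕ, m.Coprime p ∧ x ^ m ∈ N j) ∧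
    (∀ j, ¬ Even j → ∀ x ∈ N (j + 1), ∃ m : ℕ, x ^ p ^ m ∈ N j)

theorem upper_succ_even {G : Type*} [Group G] (p j : ℕ) (hj : Even j) :
    (Cfsg.upperPSeries p G (j + 1)).1 =
      (Cfsg.pPrimeCore p (G ⧸ (Cfsg.upperPSeries p G j).1)).comap (QuotientGroup.mk' _) := by
  rw [Cfsg.upperPSeries, if_pos hj]

theorem upper_succ_odd {G : Type*} [Group G] (p j : ℕ) (hj : ¬ Even j) :
    (Cfsg.upperPSeries p G (j + 1)).1 =
      (Cfsg.pCore p (G ⧸ (Cfsg.upperPSeries p G j).1)).comap (QuotientGroup.mk' _) := by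
  rw [Cfsg.upperPSeries, if_neg hj]

theorem chain_of_plength {G : Type*} [Group G] [Finite G] {p k : ℕ} [Fact p.Prime]
    (hl : Cfsg.PLengthLE p k G) : HasPChain p k G := by
  refine ⟨fun j => (Cfsg.upperPSeries p G j).1, rfl, hl, fun j => (Cfsg.upperPSeries p G j).2, ?_, ?_⟩
  · intro j hj x hx
    replace hx : x ∈ (Cfsg.upperPSeries p G (j + 1)).1 := hx
    show ∃ m : ℕ, m.Coprime p ∧ x ^ m ∈ (Cfsg.upperPSeries p G j).1
    rw [upper_succ_even p j hj, Subgroup.mem_comap] at hx
    refine ⟨Nat.card (Cfsg.pPrimeCore p (G ⧸ (Cfsg.upperPSeries p G j).1)),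
      Helper5_PPrime.pPrimeCore_coprime p _, ?_⟩
    have h1 : (⟨_, hx⟩ : Cfsg.pPrimeCore p (G ⧸ (Cfsg.upperPSeries p G j).1)) ^
        Nat.card (Cfsg.pPrimeCore p (G ⧸ (Cfsg.upperPSeries p G j).1)) = 1 := pow_card_eq_one'
    have h2 := congrArg Subtype.val h1
    rw [Subgroup.coe_pow, Subgroup.coe_one] at h2
    simp only at h2
    rw [← map_pow] at h2
    exact (QuotientGroup.eq_one_iff _).mp h2
  · intro j hj x hx
    replace hx : x ∈ (Cfsg.upperPSeries p G (j + 1)).1 := hx
    show ∃ m : ℕ, x ^ p ^ m ∈ (Cfsg.upperPSeries p G j).1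
    rw [upper_succ_odd p j hj, Subgroup.mem_comap] at hx
    obtain ⟨m, hm⟩ := (Helper4_PCore.pCore_isPGroup (G := G ⧸ (Cfsg.upperPSeries p G j).1) (p := p))
      ⟨_, hx⟩
    refine ⟨m, ?_⟩
    have h2 := congrArg Subtype.val hm
    rw [Subgroup.coe_pow, Subgroup.coe_one] at h2
    simp only at h2
    rw [← map_pow] at h2
    exact (QuotientGroup.eq_one_iff _).mp h2

theorem HasPChain.quotient {G : Type*} [Group G] {p k : ℕ} (h : HasPChain p k G)
    (R : Subgroup G) [R.Normal] : HasPChain p k (G ⧸ R) := by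
  obtain ⟨N, h0, htop, hn, he, ho⟩ := h
  refine ⟨fun j => (N j).map (QuotientGroup.mk' R), ?_, ?_, ?_, ?_, ?_⟩
  · show (N 0).map _ = ⊥
    rw [h0, Subgroup.map_bot]
  · show (N (2 * k + 1)).map _ = ⊤
    rw [htop]; exact Subgroup.map_top_of_surjective _ (QuotientGroup.mk'_surjective R)
  · intro j
    haveI := hn j
    exact Subgroup.Normal.map (hn j) _ (QuotientGroup.mk'_surjective R)
  · rintro j hj _ ⟨x, hx, rfl⟩
    obtain ⟨m, hm, hxm⟩ := he j hj x hx
    exact ⟨m, hm, ⟨x ^ m, hxm, map_pow _ _ _⟩⟩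
  · rintro j hj _ ⟨x, hx, rfl⟩
    obtain ⟨m, hxm⟩ := ho j hj x hx
    exact ⟨m, ⟨x ^ p ^ m, hxm, map_pow _ _ _⟩⟩

theorem quotient_shift {G : Type*} [Group G] {p k : ℕ} (N : ℕ → Subgroup G)
    (htop : N (2 * (k + 1) + 1) = ⊤) (hn : ∀ j, (N j).Normal)
    (he : ∀ j, Even j → ∀ x ∈ N (j + 1), ∃ m : ℕ, m.Coprime p ∧ x ^ m ∈ N j)
    (ho : ∀ j, ¬ Even j → ∀ x ∈ N (j + 1), ∃ m : ℕ, x ^ p ^ m ∈ N j)
    (R : Subgroup G) [R.Normal] (h2 : N 2 ≤ R) : HasPChain p k (G ⧸ R) := by
  refine ⟨fun j => (N (j + 2)).map (QuotientGroup.mk' R), ?_, ?_, ?_, ?_, ?_⟩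
  · show (N (0 + 2)).map _ = ⊥
    rw [Subgroup.map_eq_bot_iff, QuotientGroup.ker_mk']
    exact h2
  · show (N (2 * k + 1 + 2)).map _ = ⊤
    have : 2 * k + 1 + 2 = 2 * (k + 1) + 1 := by ring
    rw [this, htop]; exact Subgroup.map_top_of_surjective _ (QuotientGroup.mk'_surjective R)
  · intro j
    exact Subgroup.Normal.map (hn _) _ (QuotientGroup.mk'_surjective R)
  · rintro j hj _ ⟨x, hx, rfl⟩
    have hj2 : Even (j + 2) := by
      rw [Nat.even_add]; simp [hj]
    have hx' : x ∈ N (j + 2 + 1) := by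
      have : j + 1 + 2 = j + 2 + 1 := by ring
      rw [← this]; exact hx
    obtain ⟨m, hm, hxm⟩ := he (j + 2) hj2 x hx'
    exact ⟨m, hm, ⟨x ^ m, hxm, map_pow _ _ _⟩⟩
  · rintro j hj _ ⟨x, hx, rfl⟩
    have hj2 : ¬ Even (j + 2) := by
      rw [Nat.even_add]; simp [hj]
    have hx' : x ∈ N (j + 2 + 1) := by
      have : j + 1 + 2 = j + 2 + 1 := by ring
      rw [← this]; exact hx
    obtain ⟨m, hxm⟩ := ho (j + 2) hj2 x hx'
    exact ⟨m, ⟨x ^ p ^ m, hxm, map_pow _ _ _⟩⟩

theorem derived_le_of_quotient {G : Type*} [Group G] (R : Subgroup G) [R.Normal] (a : ℕ)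
    (ha : derivedSeries (G ⧸ R) a = ⊥) : derivedSeries G a ≤ R := by
  have := map_derivedSeries_le_derivedSeries (QuotientGroup.mk' R) a
  rw [ha, le_bot_iff, Subgroup.map_eq_bot_iff, QuotientGroup.ker_mk'] at this
  exact this

theorem derived_add {G : Type*} [Group G] (R : Subgroup G) [R.Normal] (a b : ℕ)
    (ha : derivedSeries (G ⧸ R) a = ⊥) (hb : derivedSeries ↥R b = ⊥) :
    derivedSeries G (a + b) = ⊥ := by
  have h1 := derived_le_of_quotient R a ha
  have key : ∀ b, derivedSeries G (a + b) ≤ (derivedSeries ↥R b).map R.subtype := by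
    intro b
    induction b with
    | zero =>
      rw [add_zero, derivedSeries_zero, ← MonoidHom.range_eq_map, Subgroup.range_subtype]
      exact h1
    | succ b ih =>
      rw [← add_assoc, derivedSeries_succ, derivedSeries_succ, Subgroup.map_commutator]
      exact Subgroup.commutator_mono ih ih
  have := key b
  rw [hb, Subgroup.map_bot] at this
  exact le_bot_iff.mp this

theorem derived_of_le {G : Type*} [Group G] {R S : Subgroup G} (h : R ≤ S) (b : ℕ)
    (hS : derivedSeries ↥S b = ⊥) : derivedSeries ↥R b = ⊥ := by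
  have := map_derivedSeries_le_derivedSeries (Subgroup.inclusion h) b
  rw [hS, le_bot_iff, Subgroup.map_eq_bot_iff_of_injective _ (Subgroup.inclusion_injective h)] at this
  exact this

theorem derived_map {G H : Type*} [Group G] [Group H] (f : G →* H) (S : Subgroup G) (b : ℕ)
    (hS : derivedSeries ↥S b = ⊥) : derivedSeries ↥(S.map f) b = ⊥ := by
  have := derivedSeries_le_map_derivedSeries (f.subgroupMap_surjective S) b
  rw [hS, Subgroup.map_bot] at this
  exact le_bot_iff.mp this

theorem card_quotient_lt {G : Type*} [Group G] [Finite G] (R : Subgroup G) [R.Normal] (hR : R ≠ ⊥) :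
    Nat.card (G ⧸ R) < Nat.card G := by
  have h1 := Subgroup.card_eq_card_quotient_mul_card_subgroup R
  have h2 : 1 < Nat.card R := by rw [Subgroup.one_lt_card_iff_ne_bot]; exact hR
  have h3 : 0 < Nat.card (G ⧸ R) := Nat.card_pos
  rw [h1]
  nlinarith

theorem card_quotient_dvd {G : Type*} [Group G] [Finite G] (R : Subgroup G) [R.Normal] :
    Nat.card (G ⧸ R) ∣ Nat.card G :=
  ⟨Nat.card R, Subgroup.card_eq_card_quotient_mul_card_subgroup R⟩

theorem exists_min_normal {G : Type*} [Group G] [Finite G] [Nontrivial G] :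
    ∃ M : Subgroup G, M.Normal ∧ M ≠ ⊥ ∧ ∀ K : Subgroup G, K.Normal → K ≤ M → K = ⊥ ∨ K = M := by
  obtain ⟨M, ⟨hMn, hM⟩, hmin⟩ := WellFounded.has_min (wellFounded_lt (α := Subgroup G))
    {K : Subgroup G | K.Normal ∧ K ≠ ⊥} ⟨⊤, inferInstance, top_ne_bot⟩
  refine ⟨M, hMn, hM, ?_⟩
  intro K hK hKM
  by_cases hKb : K = ⊥
  · exact Or.inl hKb
  · right
    rcases eq_or_lt_of_le hKM with h | h
    · exact h
    · exact absurd h (hmin K ⟨hK, hKb⟩)

theorem eq_one_of_pow_coprime {G : Type*} [Group G] {x : G} {a b : ℕ} (hab : a.Coprime b)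
    (ha : x ^ a = 1) (hb : x ^ b = 1) : x = 1 := by
  have := pow_gcd_eq_one.mpr ⟨ha, hb⟩
  rw [Nat.Coprime.gcd_eq_one hab, pow_one] at this
  exact this

theorem main : ∀ (n : ℕ) {G : Type u} [Group G] [Finite G], Nat.card G ≤ n → Group.IsSolvable G →
    ∀ (r : ℕ) (q : Fin r → ℕ) (hq : ∀ i, (q i).Prime)
    (_hcover : ∀ s : ℕ, s.Prime → s ∣ Nat.card G → ∃ i, q i = s) (d l : Fin r → ℕ)
    (_hd : ∀ i, ∀ P : Subgroup G, (∃ S : Sylow (q i) G, (S : Subgroup G) = P) →
      derivedSeries ↥P (d i) = ⊥)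
    (_hl : ∀ i, HasPChain (q i) (l i) G),
    derivedSeries G (Finset.univ.sum fun i => d i * l i) = ⊥ := by
  intro n
  induction n with
  | zero =>
    intro G _ _ hn
    have : 0 < Nat.card G := Nat.card_pos
    omega
  | succ n ih =>
    intro G _ _ hn hsol r q hq hcover d l hd hl
    by_cases hsub : Subsingleton G
    · rw [eq_bot_iff]
      intro x _
      rw [Subgroup.mem_bot]; exact Subsingleton.elim _ _
    rw [not_subsingleton_iff_nontrivial] at hsub
    haveI := hsol
    obtain ⟨M, hMn, hM, hmin⟩ := exists_min_normal (G := G)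
    haveI := hMn
    obtain ⟨s, hs, hpow⟩ := Helper1_MinNormal.exists_prime_pow_eq_one M hM hmin
    obtain ⟨x, hxM, hx1⟩ := M.bot_or_exists_ne_one.resolve_left hM
    have hsG : s ∣ Nat.card G := by
      haveI : Fact s.Prime := ⟨hs⟩
      have : orderOf x = s := orderOf_eq_prime (hpow x hxM) hx1
      rw [← this]; exact orderOf_dvd_natCard x
    obtain ⟨i₀, hi₀⟩ := hcover s hs hsG
    subst hi₀
    haveI : Fact (q i₀).Prime := ⟨hs⟩
    have hMpg : IsPGroup (q i₀) M := by
      intro y
      refine ⟨1, ?_⟩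
      rw [pow_one]
      apply Subtype.ext
      simpa using hpow y y.2
    have hMR : M ≤ Cfsg.pCore (q i₀) G := Helper4_PCore.le_pCore M hMn hMpg
    have hR : Cfsg.pCore (q i₀) G ≠ ⊥ := fun h => hM (le_bot_iff.mp (h ▸ hMR))
    haveI hRn : (Cfsg.pCore (q i₀) G).Normal := Helper4_PCore.pCore_normal _ _
    have IHq : ∀ (N : Subgroup G) [N.Normal], N ≠ ⊥ → ∀ l' : Fin r → ℕ,
        (∀ i, HasPChain (q i) (l' i) (G ⧸ N)) →
        derivedSeries (G ⧸ N) (Finset.univ.sum fun i => d i * l' i) = ⊥ := by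
      intro N _ hN l' hl'
      have hlt := card_quotient_lt N hN
      apply ih (G := G ⧸ N) (by omega) inferInstance r q hq ?_ d l' ?_ hl'
      · intro t ht htd
        exact hcover t ht (htd.trans (card_quotient_dvd N))
      · intro i P' hP'
        haveI := Fact.mk (hq i)
        obtain ⟨S', rfl⟩ := hP'
        obtain ⟨S, rfl⟩ := Sylow.mapSurjective_surjective (QuotientGroup.mk'_surjective N) (q i) S'
        rw [Sylow.coe_mapSurjective]
        exact derived_map _ _ _ (hd i S ⟨S, rfl⟩)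
    by_cases hO : Cfsg.pPrimeCore (q i₀) G = ⊥
    · -- case B
      obtain ⟨N, h0, htop, hnn, he, ho⟩ := hl i₀
      cases hk : l i₀ with
      | zero =>
        exfalso
        rw [hk] at htop
        have hx' : x ∈ N (0 + 1) := by
          have : 2 * 0 + 1 = 0 + 1 := by norm_num
          rw [← this, htop]; exact Subgroup.mem_top x
        obtain ⟨m, hm, hxm⟩ := he 0 Even.zero x hx'
        rw [h0, Subgroup.mem_bot] at hxm
        exact hx1 (eq_one_of_pow_coprime hm hxm (hpow x hxM))
      | succ k =>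
        rw [hk] at htop
        have hN1 : N 1 = ⊥ := by
          haveI := hnn 1
          have hcop : (Nat.card (N 1)).Coprime (q i₀) := by
            rw [Nat.coprime_comm, Nat.Prime.coprime_iff_not_dvd hs]
            intro hdvd
            obtain ⟨y, hy⟩ := exists_prime_orderOf_dvd_card' (q i₀) hdvd
            obtain ⟨m, hm, hym⟩ := he 0 Even.zero (y : G) y.2
            rw [h0, Subgroup.mem_bot] at hym
            have hyp : (y : G) ^ (q i₀) = 1 := by
              have : y ^ (q i₀) = 1 := by rw [← hy]; exact pow_orderOf_eq_one y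
              have h2 := congrArg Subtype.val this
              simpa using h2
            have hy1 : (y : G) = 1 := eq_one_of_pow_coprime hm hym hyp
            have : y = 1 := Subtype.ext hy1
            rw [this, orderOf_one] at hy
            exact hs.one_lt.ne hy
          have := Helper5_PPrime.le_pPrimeCore (N 1) hcop
          rw [hO] at this
          exact le_bot_iff.mp this
        have hN2 : N 2 ≤ Cfsg.pCore (q i₀) G := by
          apply Helper4_PCore.le_pCore (N 2) (hnn 2)
          intro y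
          obtain ⟨m, hym⟩ := ho 1 (by decide) (y : G) y.2
          rw [hN1, Subgroup.mem_bot] at hym
          exact ⟨m, Subtype.ext (by simpa using hym)⟩
        have chain' : HasPChain (q i₀) k (G ⧸ Cfsg.pCore (q i₀) G) :=
          quotient_shift N htop hnn he ho _ hN2
        have hl' : ∀ i, HasPChain (q i) (Function.update l i₀ k i) (G ⧸ Cfsg.pCore (q i₀) G) := by
          intro i
          by_cases hi : i = i₀
          · subst hi
            rw [Function.update_self]; exact chain'
          · rw [Function.update_of_ne hi]; exact (hl i).quotient _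
        have h1 := IHq (Cfsg.pCore (q i₀) G) hR (Function.update l i₀ k) hl'
        obtain ⟨S⟩ : Nonempty (Sylow (q i₀) G) := inferInstance
        have hRd : derivedSeries ↥(Cfsg.pCore (q i₀) G) (d i₀) = ⊥ :=
          derived_of_le (Helper4_PCore.pCore_le_sylow S) _ (hd i₀ S ⟨S, rfl⟩)
        have h2 := derived_add _ _ _ h1 hRd
        have hsum : (Finset.univ.sum fun i => d i * l i) =
            (Finset.univ.sum fun i => d i * Function.update l i₀ k i) + d i₀ := by
          rw [← Finset.add_sum_erase _ _ (Finset.mem_univ i₀),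
            ← Finset.add_sum_erase _ (fun i => d i * Function.update l i₀ k i) (Finset.mem_univ i₀)]
          have e2 : ∑ i ∈ Finset.univ.erase i₀, d i * Function.update l i₀ k i =
              ∑ i ∈ Finset.univ.erase i₀, d i * l i :=
            Finset.sum_congr rfl (fun i hi => by
              rw [Function.update_of_ne (Finset.ne_of_mem_erase hi)])
          rw [e2, Function.update_self, hk]; ring
        rw [hsum]; exact h2
    · -- case A
      haveI hOn : (Cfsg.pPrimeCore (q i₀) G).Normal := Helper5_PPrime.pPrimeCore_normal _ _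
      have h1 := derived_le_of_quotient _ _
        (IHq (Cfsg.pCore (q i₀) G) hR l (fun i => (hl i).quotient _))
      have h2 := derived_le_of_quotient _ _
        (IHq (Cfsg.pPrimeCore (q i₀) G) hO l (fun i => (hl i).quotient _))
      have h3 := Helper5_PPrime.inf_eq_bot_of_pGroup_of_coprime
        (Helper4_PCore.pCore_isPGroup (G := G) (p := q i₀))
        (Helper5_PPrime.pPrimeCore_coprime (q i₀) G)
      exact le_bot_iff.mp (h3 ▸ le_inf h1 h2)

/-- The Hall–Higman bound on derived length: let G be a finite solvable group, let p₁, …, p_r be distinct primes that include every prime dividing the order of G, and suppose that for each i the Sylow p_i-subgroups of G have derived length at most d_i and G has p_i-length at most l_i. Then G has derived length at most Σ d_i l_i. -/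
theorem result {G : Type*} [Group G] [Finite G] (hG : Group.IsSolvable G) (r : ℕ) (q : Fin r → ℕ) (hq : ∀ i, (q i).Prime) (hinj : Function.Injective q) (hcover : ∀ s : ℕ, s.Prime → s ∣ Nat.card G → ∃ i, q i = s) (d l : Fin r → ℕ) (hd : ∀ i, ∀ P : Subgroup G, (haveI := Fact.mk (hq i); ∃ S : Sylow (q i) G, (S : Subgroup G) = P) → derivedSeries ↥P (d i) = ⊥) (hl : ∀ i, Cfsg.PLengthLE (q i) (l i) G) : derivedSeries G (Finset.univ.sum fun i => d i * l i) = ⊥ := by
  apply main (Nat.card G) le_rfl hG r q hq hcover d l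
  · intro i P hP
    exact hd i P hP
  · intro i
    haveI := Fact.mk (hq i)
    exact chain_of_plength (hl i)

end Cfsg.Agent.S3791
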