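import Cfsg.Statements.S3800
import Mathlib
import Cfsg.Agent.Lib.Helper6_Sylow

set_option autoImplicit false
open Cfsg

namespace Cfsg.Agent.S3800

open Cfsg.Agent.Lib.Helper6_Sylow

/-- Let G be a finite group, N a normal subgroup of G whose order is prime to p, and P a p-subgroup of G. Then in G/N the normalizer of the image of P is the image of N_G(P), and the centralizer of the image of P is the image of C_G(P). -/
theorem result {G : Type*} [Group G] [Finite G] {p : ℕ} [Fact p.Prime] (N : Subgroup G) [N.Normal] (hN : (Nat.card N).Coprime p) (P : Subgroup G) (hP : IsPGroup p P) : Subgroup.normalizer ((P.map (QuotientGroup.mk' N)) : Set (G ⧸ N)) = (Subgroup.normalizer (P : Set G)).map (QuotientGroup.mk' N) ∧ Subgroup.centralizer ((P.map (QuotientGroup.mk' N)) : Set (G ⧸ N)) = (Subgroup.centralizer (P : Set G)).map (QuotientGroup.mk' N) := by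
  set π := QuotientGroup.mk' N with hπ
  have hsurj : Function.Surjective π := QuotientGroup.mk'_surjective N
  have hker : ∀ g : G, π g = 1 ↔ g ∈ N := fun g => QuotientGroup.eq_one_iff g
  -- image of a normalizing element normalizes the image
  have key : ∀ a : G, a ∈ Subgroup.normalizer (P : Set G) →
      ∀ z : G ⧸ N, z ∈ P.map π → π a * z * (π a)⁻¹ ∈ P.map π := by
    intro a ha z hz
    obtain ⟨z, hzP, rfl⟩ := hz
    refine ⟨a * z * a⁻¹, (Subgroup.mem_normalizer_iff.mp ha z).1 hzP, ?_⟩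
    simp
  -- lifting a normalizing element
  have lift : ∀ g : G, π g ∈ Subgroup.normalizer ((P.map π) : Set (G ⧸ N)) →
      ∃ n ∈ N, n⁻¹ * g ∈ Subgroup.normalizer (P : Set G) := by
    intro g hg
    -- Q = g P g⁻¹ ≤ N ⊔ P
    let Q : Subgroup G := P.map (MulAut.conj g).toMonoidHom
    have hQmem : ∀ y, y ∈ Q ↔ ∃ z ∈ P, g * z * g⁻¹ = y := by
      intro y
      simp only [Q, Subgroup.mem_map, MulEquiv.coe_toMonoidHom, MulAut.conj_apply]
    have hQ : IsPGroup p Q := hP.map _
    have hQK : Q ≤ N ⊔ P := by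
      intro y hy
      obtain ⟨z, hz, rfl⟩ := (hQmem y).1 hy
      have h1 : π (g * z * g⁻¹) ∈ P.map π := by
        have := (Subgroup.mem_normalizer_iff.mp hg (π z)).1 ⟨z, hz, rfl⟩
        simpa using this
      obtain ⟨w, hw, hw'⟩ := h1
      have h2 : w⁻¹ * (g * z * g⁻¹) ∈ N := by
        rw [← hker]
        rw [map_mul, map_inv, hw']; simp [mul_assoc]
      have : g * z * g⁻¹ = w * (w⁻¹ * (g * z * g⁻¹)) := by simp [mul_assoc]
      rw [this]
      exact Subgroup.mul_mem _ ((le_sup_right : P ≤ N ⊔ P) hw) ((le_sup_left : N ≤ N ⊔ P) h2)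
    obtain ⟨n, hn, hnQ⟩ := exists_conj_le_of_le_sup N hN P Q hP hQ hQK
    refine ⟨n, hn, ?_⟩
    apply mem_normalizer_of_conj_le
    intro y hy
    have := hnQ (g * y * g⁻¹) ((hQmem _).2 ⟨y, hy, rfl⟩)
    have e : n⁻¹ * g * y * (n⁻¹ * g)⁻¹ = n⁻¹ * (g * y * g⁻¹) * n := by simp [mul_assoc]
    rw [e]; exact this
  have hπn : ∀ n ∈ N, ∀ g : G, π (n⁻¹ * g) = π g := by
    intro n hn g
    rw [map_mul, map_inv, (hker n).2 hn]; simp
  constructor
  · apply le_antisymm
    · intro xbar hx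
      obtain ⟨g, rfl⟩ := hsurj xbar
      obtain ⟨n, hn, hng⟩ := lift g hx
      exact ⟨n⁻¹ * g, hng, hπn n hn g⟩
    · rintro _ ⟨a, ha, rfl⟩
      rw [Subgroup.mem_normalizer_iff]
      intro z
      constructor
      · exact key a ha z
      · intro hz
        have := key a⁻¹ (Subgroup.inv_mem _ ha) _ hz
        simpa [mul_assoc] using this
  · apply le_antisymm
    · intro xbar hx
      obtain ⟨g, rfl⟩ := hsurj xbar
      have hxn : π g ∈ Subgroup.normalizer ((P.map π) : Set (G ⧸ N)) :=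
        Subgroup.centralizer_le_normalizer _ hx
      obtain ⟨n, hn, hng⟩ := lift g hxn
      refine ⟨n⁻¹ * g, ?_, hπn n hn g⟩
      set g₁ := n⁻¹ * g with hg₁
      have hg₁π : π g₁ = π g := hπn n hn g
      rw [SetLike.mem_coe, Subgroup.mem_centralizer_iff]
      intro y hy
      have hyP : y ∈ P := hy
      -- commutator lies in P ∩ N
      have hcP : g₁ * y * g₁⁻¹ * y⁻¹ ∈ P :=
        P.mul_mem ((Subgroup.mem_normalizer_iff.mp hng y).1 hyP) (P.inv_mem hyP)
      have hcN : g₁ * y * g₁⁻¹ * y⁻¹ ∈ N := by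
        rw [← hker]
        simp only [map_mul, map_inv, hg₁π]
        rw [Subgroup.mem_centralizer_iff] at hx
        have := hx (π y) ⟨y, hyP, rfl⟩
        rw [← this]; simp
      have hbot := inf_eq_bot_of_coprime hN hP
      have h1 : g₁ * y * g₁⁻¹ * y⁻¹ = 1 := by
        have : g₁ * y * g₁⁻¹ * y⁻¹ ∈ P ⊓ N := Subgroup.mem_inf.mpr ⟨hcP, hcN⟩
        rw [hbot] at this
        exact Subgroup.mem_bot.mp this
      calc y * g₁ = (g₁ * y * g₁⁻¹ * y⁻¹)⁻¹ * (g₁ * y) := by simp [mul_assoc]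
        _ = g₁ * y := by rw [h1]; simp
    · rintro _ ⟨a, ha, rfl⟩
      rw [SetLike.mem_coe, Subgroup.mem_centralizer_iff] at ha
      rw [Subgroup.mem_centralizer_iff]
      rintro _ ⟨y, hy, rfl⟩
      rw [← map_mul, ← map_mul, ha y hy]

end Cfsg.Agent.S3800
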