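import Cfsg.Statements.S3803
import Mathlib
import Cfsg.Agent.S3736
import Cfsg.Agent.Lib.Lead_Coprime
import Cfsg.Agent.Lib.Helper6_QuatAut
import Cfsg.Agent.Lib.Helper6_MinAction
import Cfsg.Agent.Lib.Helper7_PFrattini

set_option autoImplicit false
open Cfsg
open Cfsg.Agent.Lib.Lead_Coprime Cfsg.Agent.Lib.Helper6_QuatAut Cfsg.Agent.Lib.Helper6_MinAction
open scoped commutatorElement

namespace Cfsg.Agent.S3803

variable {X : Type*} [Group X] [Finite X]

/-- intermediate subgroups of a `p`-subgroup -/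
theorem exists_between {p : ℕ} [Fact p.Prime] (P : Subgroup X) (hP : IsPGroup p P) (H : Subgroup X)
    (hHP : H ≤ P) (m : ℕ) (h1 : Nat.card H ≤ p ^ m) (h2 : p ^ m ≤ Nat.card P) :
    ∃ T : Subgroup X, H ≤ T ∧ T ≤ P ∧ Nat.card T = p ^ m := by
  have hp := (Fact.out : p.Prime)
  obtain ⟨n, hn⟩ := hP.exists_card_eq
  obtain ⟨k, hk⟩ := (hP.to_le hHP).exists_card_eq
  have hkm : k ≤ m := by
    rw [hk] at h1; exact (Nat.pow_le_pow_iff_right hp.one_lt).mp h1
  have hmn : m ≤ n := by
    rw [hn] at h2; exact (Nat.pow_le_pow_iff_right hp.one_lt).mp h2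
  have hcard : Nat.card (H.subgroupOf P) = p ^ k := by
    rw [← hk]; exact Nat.card_congr (Subgroup.subgroupOfEquivOfLe hHP).toEquiv
  obtain ⟨K, hK, hHK⟩ := Sylow.exists_subgroup_card_pow_prime_le p
    (show p ^ m ∣ Nat.card P by rw [hn]; exact pow_dvd_pow p hmn) (H.subgroupOf P) hcard hkm
  refine ⟨K.map P.subtype, ?_, Subgroup.map_subtype_le K, ?_⟩
  · intro h hh
    exact ⟨⟨h, hHP hh⟩, hHK (Subgroup.mem_subgroupOf.mpr hh), rfl⟩
  · rw [Subgroup.card_map_of_injective P.subtype_injective, hK]

/-- a proper subgroup of a `2`-subgroup lies in a subgroup of index `2` -/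
theorem exists_index_two (T : Subgroup X) (hT : IsPGroup 2 T) (C : Subgroup X) (hCT : C ≤ T)
    (hne : C ≠ T) : ∃ M : Subgroup X, C ≤ M ∧ M ≤ T ∧ (M.subgroupOf T).index = 2 := by
  haveI : Fact (Nat.Prime 2) := ⟨Nat.prime_two⟩
  have h1 : C.subgroupOf T ≠ ⊤ := by
    intro h
    apply hne
    apply le_antisymm hCT
    rw [← Subgroup.subgroupOf_eq_top]; exact h
  obtain ⟨M', hM', hCM'⟩ := (eq_top_or_exists_le_coatom (C.subgroupOf T)).resolve_left h1
  obtain ⟨_, hidx⟩ := Cfsg.Agent.Lib.Helper7_PFrattini.coatom_normal_index hT M' hM'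
  refine ⟨M'.map T.subtype, ?_, Subgroup.map_subtype_le M', ?_⟩
  · intro c hc
    exact ⟨⟨c, hCT hc⟩, hCM' (Subgroup.mem_subgroupOf.mpr hc), rfl⟩
  · have : (M'.map T.subtype).subgroupOf T = M' := by
      ext x
      rw [Subgroup.mem_subgroupOf]
      constructor
      · rintro ⟨y, hy, hyx⟩
        have : y = x := Subtype.ext hyx
        rwa [← this]
      · intro hx; exact ⟨x, hx, rfl⟩
    rw [this, hidx]

/-- If `A` (of odd order) normalizes a `2`-subgroup `T` and all its subgroups of index `2`, then `A`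
centralizes `T`. -/
theorem centralizes_of_index_two (T A : Subgroup X) (hT : IsPGroup 2 T) (hA : Odd (Nat.card A))
    (hAT : A ≤ Subgroup.normalizer (T : Set X))
    (hM : ∀ M : Subgroup X, M ≤ T → (M.subgroupOf T).index = 2 → A ≤ Subgroup.normalizer (M : Set X)) :
    A ≤ Subgroup.centralizer (T : Set X) := by
  haveI : Fact (Nat.Prime 2) := ⟨Nat.prime_two⟩
  obtain ⟨n, hn⟩ := hT.exists_card_eq
  have hcop : (Nat.card A).Coprime (Nat.card T) := by
    rw [hn]; exact Nat.Coprime.pow_right n (Nat.coprime_two_right.mpr hA)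
  have hsolv : Group.IsSolvable A ∨ Group.IsSolvable T := by
    right
    haveI := hT.isNilpotent
    infer_instance
  set C := T ⊓ Subgroup.centralizer (A : Set X) with hC
  have hCT : C ≤ T := inf_le_left
  by_cases hCeq : C = T
  · rw [← Subgroup.le_centralizer_iff]
    rw [← hCeq]; exact inf_le_right
  · exfalso
    obtain ⟨M, hCM, hMT, hidx⟩ := exists_index_two T hT C hCT hCeq
    have hAM := hM M hMT hidx
    have hcomm : ⁅T, A⁆ ≤ M := by
      rw [Subgroup.commutator_le]
      intro t ht a ha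
      have hs : a * t⁻¹ * a⁻¹ ∈ T := (Subgroup.mem_normalizer_iff.mp (hAT ha) t⁻¹).mp (T.inv_mem ht)
      have e : ⁅t, a⁆ = t * (a * t⁻¹ * a⁻¹) := by simp only [commutatorElement_def]; group
      rw [e]
      have key := Subgroup.mul_mem_iff_of_index_two hidx (a := (⟨t, ht⟩ : T)) (b := ⟨a * t⁻¹ * a⁻¹, hs⟩)
      rw [Subgroup.mem_subgroupOf, Subgroup.mem_subgroupOf, Subgroup.mem_subgroupOf] at key
      apply key.mpr
      constructor
      · intro htM
        exact (Subgroup.mem_normalizer_iff.mp (hAM ha) t⁻¹).mp (M.inv_mem htM)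
      · intro hsM
        have h1 := (Subgroup.mem_normalizer_iff.mp (hAM ha) t⁻¹).mpr hsM
        have := M.inv_mem h1
        rwa [inv_inv] at this
    have hTM : T ≤ M := by
      intro t ht
      obtain ⟨n', hn', c, hc, rfl⟩ := decomp A T hAT hcop hsolv t ht
      exact M.mul_mem (hcomm hn') (hCM hc)
    have h1 : M.subgroupOf T = ⊤ := Subgroup.subgroupOf_eq_top.mpr hTM
    rw [h1, Subgroup.index_top] at hidx
    omega

/-- odd-order groups centralize the cyclic `2`-subgroups they normalize -/
theorem centralizes_cyclic (H A : Subgroup X) (hH : IsPGroup 2 H) [IsCyclic ↥H] (hA : Odd (Nat.card A))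
    (hAH : A ≤ Subgroup.normalizer (H : Set X)) : A ≤ Subgroup.centralizer (H : Set X) := by
  intro a ha
  rw [Subgroup.mem_centralizer_iff]
  intro h hh
  have hord : Odd (orderOf a) := by
    have h1 : orderOf a ∣ Nat.card A := by
      have := orderOf_dvd_natCard (⟨a, ha⟩ : A)
      rwa [Subgroup.orderOf_mk] at this
    exact Odd.of_dvd_nat hA h1
  have h1 := odd_aut_cyclic_trivial hH (conjAut H a (hAH ha)) (orderOf a) hord
    (conjAut_pow_orderOf H a (hAH ha))
  have h2 := conjAut_apply H a (hAH ha) ⟨h, hh⟩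
  rw [h1] at h2
  simp only [MulAut.one_apply] at h2
  have h3 : a * h * a⁻¹ = h := h2.symm
  calc h * a = (a * h * a⁻¹) * a := by rw [h3]
    _ = a * h := by group

/-- a `2`-subgroup with a unique subgroup of index `2` is cyclic -/
theorem isCyclic_of_unique_index_two (T H : Subgroup X) (hT : IsPGroup 2 T) (hHT : H ≤ T)
    (hne : H ≠ T)
    (huniq : ∀ M : Subgroup X, M ≤ T → (M.subgroupOf T).index = 2 → M = H) : IsCyclic ↥T := by
  obtain ⟨x, hxT, hxH⟩ : ∃ x ∈ T, x ∉ H := by
    by_contra hcon
    push Not at hcon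
    exact hne (le_antisymm hHT hcon)
  have hz : Subgroup.zpowers x = T := by
    by_contra hne2
    have hle : Subgroup.zpowers x ≤ T := by rw [Subgroup.zpowers_le]; exact hxT
    obtain ⟨M, hxM, hMT, hidx⟩ := exists_index_two T hT _ hle hne2
    have := huniq M hMT hidx
    exact hxH (this ▸ hxM (Subgroup.mem_zpowers x))
  rw [← hz]
  infer_instance

/-- in a special `2`-group the derived subgroup has exponent `2` -/
theorem sq_eq_one_of_special {R : Type*} [Group R] [Finite R] (hR : IsPGroup 2 R)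
    (hΦ : frattini R = Subgroup.center R) (hc : commutator R = Subgroup.center R) :
    ∀ z ∈ commutator R, z ^ 2 = 1 := by
  haveI : Fact (Nat.Prime 2) := ⟨Nat.prime_two⟩
  have key : ∀ z ∈ commutator R, z ∈ Subgroup.center R ∧ z ^ 2 = 1 := by
    intro z hz
    rw [commutator_eq_closure] at hz
    induction hz using Subgroup.closure_induction with
    | mem z hz =>
      obtain ⟨u, v, rfl⟩ := hz
      have hcen : ⁅u, v⁆ ∈ Subgroup.center R := by
        rw [← hc, commutator_def]
        exact Subgroup.commutator_mem_commutator (Subgroup.mem_top _) (Subgroup.mem_top _)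
      refine ⟨hcen, ?_⟩
      have hcomm : ∀ r, Commute ⁅u, v⁆ r := fun r => (Subgroup.mem_center_iff.mp hcen r).symm
      rw [← commutator_pow_class_two v u hcomm 2]
      have hu2 : u ^ 2 ∈ Subgroup.center R := by
        rw [← hΦ]; exact Cfsg.Agent.Lib.Helper7_PFrattini.pow_mem_frattini hR u
      rw [commutatorElement_eq_one_iff_mul_comm]
      exact (Subgroup.mem_center_iff.mp hu2 v).symm
    | one => exact ⟨Subgroup.one_mem _, one_pow 2⟩
    | mul x y _ _ hx hy =>
      refine ⟨Subgroup.mul_mem _ hx.1 hy.1, ?_⟩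
      have : Commute x y := (Subgroup.mem_center_iff.mp hx.1 y).symm
      rw [this.mul_pow, hx.2, hy.2, one_mul]
    | inv x _ hx =>
      exact ⟨Subgroup.inv_mem _ hx.1, by rw [inv_pow, hx.2, inv_one]⟩
  exact fun z hz => (key z hz).2

/-- Let P be a 2-subgroup and A a subgroup of odd order of a finite group, with A normalizing P. Let D ≤ P with 1 < |D| < |P|. If every subgroup of P of order |D|, and also every subgroup of P of order 4 in case |D| = 2, is normalized by A, then A centralizes P. -/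
theorem result {X : Type*} [Group X] [Finite X] (P A D : Subgroup X) (hP : IsPGroup 2 P) (hA : Odd (Nat.card A))
    (hAP : A ≤ Subgroup.normalizer (P : Set X)) (hDP : D ≤ P) (hD1 : 1 < Nat.card D) (hD2 : Nat.card D < Nat.card P)
    (hinv : ∀ E : Subgroup X, E ≤ P → (Nat.card E = Nat.card D ∨ (Nat.card D = 2 ∧ Nat.card E = 4)) → A ≤ Subgroup.normalizer (E : Set X)) :
    A ≤ Subgroup.centralizer (P : Set X) := by
  haveI : Fact (Nat.Prime 2) := ⟨Nat.prime_two⟩
  obtain ⟨n, hn⟩ := hP.exists_card_eq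
  obtain ⟨d, hd⟩ := (hP.to_le hDP).exists_card_eq
  have hd1 : 1 ≤ d := by
    rcases Nat.eq_zero_or_pos d with rfl | h
    · rw [hd, pow_zero] at hD1; omega
    · exact h
  have hdn : d < n := by
    rw [hd, hn] at hD2
    exact (Nat.pow_lt_pow_iff_right (by norm_num)).mp hD2
  -- (i) subgroups of order `2 ^ d` are centralized
  have hi : ∀ H : Subgroup X, H ≤ P → Nat.card H = 2 ^ d → A ≤ Subgroup.centralizer (H : Set X) := by
    intro H hHP hH
    have hAH : A ≤ Subgroup.normalizer (H : Set X) := hinv H hHP (Or.inl (hH.trans hd.symm))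
    obtain ⟨T, hHT, hTP, hT⟩ := exists_between P hP H hHP (d + 1)
      (by rw [hH]; exact Nat.pow_le_pow_right (by norm_num) (by omega))
      (by rw [hn]; exact Nat.pow_le_pow_right (by norm_num) (by omega))
    have hTp : IsPGroup 2 T := hP.to_le hTP
    have hHne : H ≠ T := by
      intro h
      rw [h, hT] at hH
      have := Nat.pow_right_injective (le_refl 2) hH
      omega
    have hidx_iff : ∀ M : Subgroup X, M ≤ T → ((M.subgroupOf T).index = 2 ↔ Nat.card M = 2 ^ d) := by
      intro M hMT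
      have h1 := (M.subgroupOf T).card_mul_index
      have h2 : Nat.card (M.subgroupOf T) = Nat.card M :=
        Nat.card_congr (Subgroup.subgroupOfEquivOfLe hMT).toEquiv
      rw [h2, hT, pow_succ] at h1
      constructor
      · intro h
        rw [h] at h1
        exact Nat.eq_of_mul_eq_mul_right (by norm_num) h1
      · intro h
        rw [h] at h1
        exact Nat.eq_of_mul_eq_mul_left (by positivity) h1
    by_cases huniq : ∀ M : Subgroup X, M ≤ T → (M.subgroupOf T).index = 2 → M = H
    · haveI := isCyclic_of_unique_index_two T H hTp hHT hHne huniq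
      haveI : IsCyclic ↥H := Subgroup.isCyclic_of_le hHT
      exact centralizes_cyclic H A (hP.to_le hHP) hA hAH
    · push Not at huniq
      obtain ⟨H', hH'T, hH'idx, hH'ne⟩ := huniq
      have hH' : Nat.card H' = 2 ^ d := (hidx_iff H' hH'T).mp hH'idx
      have hAH' : A ≤ Subgroup.normalizer (H' : Set X) :=
        hinv H' (hH'T.trans hTP) (Or.inl (hH'.trans hd.symm))
      have hsup : H ⊔ H' = T := by
        apply Subgroup.eq_of_le_of_card_ge (sup_le hHT hH'T)
        obtain ⟨k, hk⟩ := (hTp.to_le (sup_le hHT hH'T)).exists_card_eq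
        rw [hT, hk]
        apply Nat.pow_le_pow_right (by norm_num)
        by_contra hlt
        push Not at hlt
        have h1 : Nat.card ↥(H ⊔ H') ≤ Nat.card ↥H := by
          rw [hk, hH]; exact Nat.pow_le_pow_right (by norm_num) (by omega)
        have h2 : H = H ⊔ H' := Subgroup.eq_of_le_of_card_ge le_sup_left h1
        have h3 : H' ≤ H := by rw [h2]; exact le_sup_right
        exact hH'ne (Subgroup.eq_of_le_of_card_ge h3 (by rw [hH, hH']))
      have hAT : A ≤ Subgroup.normalizer (T : Set X) := by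
        rw [← hsup]
        intro a ha
        exact Subgroup.normalizer_inf_normalizer_le_normalizer_sup H H' ⟨hAH ha, hAH' ha⟩
      have hcen := centralizes_of_index_two T A hTp hA hAT (fun M hMT hidx =>
        hinv M (hMT.trans hTP) (Or.inl (((hidx_iff M hMT).mp hidx).trans hd.symm)))
      exact hcen.trans (Subgroup.centralizer_le (SetLike.coe_subset_coe.mpr hHT))
  -- (ii) elements of order at most `4` are centralized
  have hii : ∀ x ∈ P, x ^ 4 = 1 → ∀ a ∈ A, x * a = a * x := by
    intro x hxP hx4 a ha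
    have hZP : Subgroup.zpowers x ≤ P := by rw [Subgroup.zpowers_le]; exact hxP
    have hZdvd : Nat.card (Subgroup.zpowers x) ∣ 4 := by
      rw [Nat.card_zpowers]; exact orderOf_dvd_of_pow_eq_one hx4
    by_cases hle : Nat.card (Subgroup.zpowers x) ≤ 2 ^ d
    · obtain ⟨H, hZH, hHP, hH⟩ := exists_between P hP _ hZP d hle
        (by rw [hn]; exact Nat.pow_le_pow_right (by norm_num) (by omega))
      have := hi H hHP hH ha
      exact (Subgroup.mem_centralizer_iff.mp this) x (hZH (Subgroup.mem_zpowers x))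
    · push Not at hle
      have h4 : Nat.card (Subgroup.zpowers x) ≤ 4 := Nat.le_of_dvd (by norm_num) hZdvd
      have hd1' : d = 1 := by
        by_contra hne
        have : 2 ^ 2 ≤ 2 ^ d := Nat.pow_le_pow_right (by norm_num) (by omega)
        omega
      subst hd1'
      have hZ4 : Nat.card (Subgroup.zpowers x) = 4 := by
        have h5 : 2 < Nat.card (Subgroup.zpowers x) := by simpa using hle
        have h6 : Nat.card (Subgroup.zpowers x) ≠ 3 := by
          intro h; rw [h] at hZdvd; omega
        omega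
      have hAZ : A ≤ Subgroup.normalizer ((Subgroup.zpowers x : Subgroup X) : Set X) :=
        hinv _ hZP (Or.inr ⟨by rw [hd, pow_one], hZ4⟩)
      have := centralizes_cyclic _ A (hP.to_le hZP) hA hAZ ha
      exact (Subgroup.mem_centralizer_iff.mp this) x (Subgroup.mem_zpowers x)
  -- (iii) minimal counterexample
  by_contra hcon
  have hntP : ⁅P, A⁆ ≠ ⊥ := by
    intro h
    rw [Subgroup.commutator_eq_bot_iff_le_centralizer, Subgroup.le_centralizer_iff] at h
    exact hcon h
  have hex : ∃ k : ℕ, ∃ U : Subgroup X, U ≤ P ∧ A ≤ Subgroup.normalizer (U : Set X) ∧ ⁅U, A⁆ ≠ ⊥ ∧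
      Nat.card U = k := ⟨_, P, le_rfl, hAP, hntP, rfl⟩
  classical
  obtain ⟨U, hUP, hAU, hntU, hUk⟩ := Nat.find_spec hex
  have hmin : ∀ U' : Subgroup X, U' < U → A ≤ Subgroup.normalizer (U' : Set X) → ⁅U', A⁆ = ⊥ := by
    intro U' hlt hAU'
    by_contra hne
    have hcard : Nat.card U' < Nat.card U := by
      apply lt_of_le_of_ne (Subgroup.card_le_of_le hlt.le)
      intro heq
      exact hlt.ne (Subgroup.eq_of_le_of_card_ge hlt.le heq.ge)
    rw [hUk] at hcard
    exact Nat.find_min hex hcard ⟨U', hlt.le.trans hUP, hAU', hne, rfl⟩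
  have hUp : IsPGroup 2 U := hP.to_le hUP
  have hcop2 : (Nat.card A).Coprime 2 := Nat.coprime_two_right.mpr hA
  obtain ⟨_, hstruct, _, _⟩ := Cfsg.Agent.S3736.result A A U hUp hAU le_rfl Subgroup.le_normalizer hcop2
    hntU hmin
  have hexp : ∀ x ∈ U, x ^ 4 = 1 := by
    intro x hx
    rcases hstruct with hel | hsp
    · have := hel.2 x hx
      calc x ^ 4 = (x ^ 2) ^ 2 := by rw [← pow_mul]
        _ = 1 := by rw [this, one_pow]
    · obtain ⟨hUp', hΦ, hc⟩ := hsp
      have h1 : (⟨x, hx⟩ : U) ^ 2 ∈ commutator ↥U := by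
        rw [hc, ← hΦ]; exact Cfsg.Agent.Lib.Helper7_PFrattini.pow_mem_frattini hUp' _
      have h2 := sq_eq_one_of_special hUp' hΦ hc _ h1
      have h3 := congrArg Subtype.val h2
      simp only [Subgroup.coe_pow, Subgroup.coe_one] at h3
      calc x ^ 4 = (x ^ 2) ^ 2 := by rw [← pow_mul]
        _ = 1 := h3
  apply hntU
  rw [Subgroup.commutator_eq_bot_iff_le_centralizer]
  intro x hx
  rw [Subgroup.mem_centralizer_iff]
  intro a ha
  exact (hii x (hUP hx) (hexp x hx) a ha).symm

end Cfsg.Agent.S3803
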