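import Cfsg.Statements.S3804
import Mathlib
import Cfsg.Agent.Lib.Helper5_CD

set_option autoImplicit false
open Cfsg

namespace Cfsg.Agent.S3804

open scoped Pointwise
open Cfsg.Agent.Lib.Helper5_CD

/-- real-number core of the Chermak–Delgado argument -/
theorem real_core (α : ℝ) (hα : 0 < α) (x y u v : ℝ) (hx : 0 < x) (hxy : x ≤ y) (hu : 0 < u)
    (huv : u ≤ v) (h : y ^ α * v ≤ x ^ α * u) : x = y ∧ u = v := by
  have hy : 0 < y := lt_of_lt_of_le hx hxy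
  have hxα : 0 < x ^ α := Real.rpow_pos_of_pos hx α
  have hyα : 0 < y ^ α := Real.rpow_pos_of_pos hy α
  have h1 : x = y := by
    rcases hxy.eq_or_lt with h1 | h1
    · exact h1
    · exfalso
      have h2 : x ^ α < y ^ α := Real.rpow_lt_rpow hx.le h1 hα
      have h3 : x ^ α * u < y ^ α * u := mul_lt_mul_of_pos_right h2 hu
      have h4 : y ^ α * u ≤ y ^ α * v := mul_le_mul_of_nonneg_left huv hyα.le
      linarith
  refine ⟨h1, le_antisymm huv ?_⟩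
  rw [← h1] at h
  exact le_of_mul_le_mul_left h hxα

/-- Let G and H be subgroups of a finite group with G normalizing H, fix a real number α > 0, and for a subgroup A of G put m(A) = |A|^α · |C_H(A)|. Let A and B be nontrivial subgroups of G at which m attains its maximum over all nontrivial subgroups of G, and assume that A ∩ B ≠ 1 or that this maximum is at least |H|. Then AB = BA is a subgroup at which m is again maximal, C_H(A ∩ B) = C_H(A) C_H(B), and if A ∩ B ≠ 1 then m is maximal at A ∩ B as well. -/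
theorem result {X : Type*} [Group X] [Finite X] (G H : Subgroup X) (hGH : G ≤ Subgroup.normalizer (H : Set X)) (α : ℝ) (hα : 0 < α)
    (A B : Subgroup X) (hA : A ≤ G) (hB : B ≤ G) (hA1 : A ≠ ⊥) (hB1 : B ≠ ⊥)
    (hAmax : ∀ A' : Subgroup X, A' ≤ G → A' ≠ ⊥ → (fun A : Subgroup X => ((Nat.card A : ℝ) ^ α) * (Nat.card ↥(H ⊓ Subgroup.centralizer (A : Set X)) : ℝ)) A' ≤ (fun A : Subgroup X => ((Nat.card A : ℝ) ^ α) * (Nat.card ↥(H ⊓ Subgroup.centralizer (A : Set X)) : ℝ)) A)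
    (hBmax : ∀ A' : Subgroup X, A' ≤ G → A' ≠ ⊥ → (fun A : Subgroup X => ((Nat.card A : ℝ) ^ α) * (Nat.card ↥(H ⊓ Subgroup.centralizer (A : Set X)) : ℝ)) A' ≤ (fun A : Subgroup X => ((Nat.card A : ℝ) ^ α) * (Nat.card ↥(H ⊓ Subgroup.centralizer (A : Set X)) : ℝ)) B)
    (hcase : A ⊓ B ≠ ⊥ ∨ (Nat.card H : ℝ) ≤ (fun A : Subgroup X => ((Nat.card A : ℝ) ^ α) * (Nat.card ↥(H ⊓ Subgroup.centralizer (A : Set X)) : ℝ)) A) :
    (∀ a ∈ A, ∀ b ∈ B, ∃ b' ∈ B, ∃ a' ∈ A, a * b = b' * a') ∧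
    (∀ A' : Subgroup X, A' ≤ G → A' ≠ ⊥ → (fun A : Subgroup X => ((Nat.card A : ℝ) ^ α) * (Nat.card ↥(H ⊓ Subgroup.centralizer (A : Set X)) : ℝ)) A' ≤ (fun A : Subgroup X => ((Nat.card A : ℝ) ^ α) * (Nat.card ↥(H ⊓ Subgroup.centralizer (A : Set X)) : ℝ)) (A ⊔ B)) ∧
    (∀ h ∈ H ⊓ Subgroup.centralizer ((A ⊓ B : Subgroup X) : Set X), ∃ u ∈ H ⊓ Subgroup.centralizer (A : Set X), ∃ v ∈ H ⊓ Subgroup.centralizer (B : Set X), h = u * v) ∧
    (A ⊓ B ≠ ⊥ → ∀ A' : Subgroup X, A' ≤ G → A' ≠ ⊥ → (fun A : Subgroup X => ((Nat.card A : ℝ) ^ α) * (Nat.card ↥(H ⊓ Subgroup.centralizer (A : Set X)) : ℝ)) A' ≤ (fun A : Subgroup X => ((Nat.card A : ℝ) ^ α) * (Nat.card ↥(H ⊓ Subgroup.centralizer (A : Set X)) : ℝ)) (A ⊓ B)) := by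
  classical
  set m : Subgroup X → ℝ := fun A : Subgroup X => ((Nat.card A : ℝ) ^ α) * (Nat.card ↥(H ⊓ Subgroup.centralizer (A : Set X)) : ℝ) with hm
  have hAmax' : ∀ A' : Subgroup X, A' ≤ G → A' ≠ ⊥ → m A' ≤ m A := hAmax
  have hBmax' : ∀ A' : Subgroup X, A' ≤ G → A' ≠ ⊥ → m A' ≤ m B := hBmax
  have hcase' : A ⊓ B ≠ ⊥ ∨ (Nat.card H : ℝ) ≤ m A := hcase
  have mpos : ∀ Y : Subgroup X, 0 < m Y := by
    intro Y
    apply mul_pos
    · apply Real.rpow_pos_of_pos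
      exact_mod_cast Nat.card_pos
    · exact_mod_cast Nat.card_pos
  have hM : m A = m B := le_antisymm (hBmax' A hA hA1) (hAmax' B hB hB1)
  have hsupne : A ⊔ B ≠ ⊥ := by
    intro h
    apply hA1
    rw [eq_bot_iff, ← h]; exact le_sup_left
  have hs : m (A ⊔ B) ≤ m A := hAmax' (A ⊔ B) (sup_le hA hB) hsupne
  have hi : m (A ⊓ B) ≤ m A := by
    by_cases h : A ⊓ B = ⊥
    · rcases hcase' with h' | h'
      · exact absurd h h'
      · have : m (A ⊓ B) = (Nat.card H : ℝ) := by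
          show ((Nat.card ↥(A ⊓ B) : ℝ) ^ α) * (Nat.card ↥(H ⊓ Subgroup.centralizer ((A ⊓ B : Subgroup X) : Set X)) : ℝ) = _
          rw [h, Subgroup.card_bot]
          have : Subgroup.centralizer (((⊥ : Subgroup X)) : Set X) = ⊤ := by
            rw [Subgroup.centralizer_eq_top_iff_subset]
            intro x hx
            rw [SetLike.mem_coe, Subgroup.mem_bot] at hx
            rw [hx]; exact Subgroup.one_mem _
          rw [this, inf_top_eq]
          simp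
        rw [this]; exact h'
    · exact hAmax' (A ⊓ B) (inf_le_left.trans hA) h
  -- natural number inequalities
  set cH : Subgroup X → Subgroup X := fun Y => H ⊓ Subgroup.centralizer (Y : Set X) with hcH
  have n1 : Nat.card A * Nat.card B ≤ Nat.card ↥(A ⊔ B) * Nat.card ↥(A ⊓ B) := card_mul_card_le A B
  have n2 : Nat.card (cH A) * Nat.card (cH B) ≤
      Nat.card ↥(cH A ⊔ cH B) * Nat.card ↥(cH A ⊓ cH B) := card_mul_card_le _ _
  have e1 : cH A ⊓ cH B = cH (A ⊔ B) := by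
    show (H ⊓ Subgroup.centralizer (A : Set X)) ⊓ (H ⊓ Subgroup.centralizer (B : Set X)) =
      H ⊓ Subgroup.centralizer ((A ⊔ B : Subgroup X) : Set X)
    rw [centralizer_sup]
    ext x
    simp only [Subgroup.mem_inf]
    tauto
  have l1 : cH A ⊔ cH B ≤ cH (A ⊓ B) := by
    apply sup_le
    · exact inf_le_inf_left H (Subgroup.centralizer_le (fun _ hx => hx.1))
    · exact inf_le_inf_left H (Subgroup.centralizer_le (fun _ hx => hx.2))
  have n3 : Nat.card ↥(cH A ⊔ cH B) ≤ Nat.card ↥(cH (A ⊓ B)) := Subgroup.card_le_of_le l1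
  have n4 : Nat.card (cH A) * Nat.card (cH B) ≤ Nat.card ↥(cH (A ⊓ B)) * Nat.card ↥(cH (A ⊔ B)) := by
    rw [← e1]
    exact n2.trans (Nat.mul_le_mul_right _ n3)
  -- real computation
  have hmul : ∀ Y Z : Subgroup X, m Y * m Z =
      (((Nat.card Y * Nat.card Z : ℕ) : ℝ) ^ α) * ((Nat.card (cH Y) * Nat.card (cH Z) : ℕ) : ℝ) := by
    intro Y Z
    show ((Nat.card Y : ℝ) ^ α) * (Nat.card (cH Y) : ℝ) * (((Nat.card Z : ℝ) ^ α) * (Nat.card (cH Z) : ℝ)) = _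
    push_cast
    rw [Real.mul_rpow (Nat.cast_nonneg _) (Nat.cast_nonneg _)]
    ring
  have hprod : m (A ⊔ B) * m (A ⊓ B) ≤ m A * m B := by
    rw [← hM]
    exact mul_le_mul hs hi (mpos _).le (mpos _).le
  rw [hmul, hmul] at hprod
  have hcore := real_core α hα ((Nat.card A * Nat.card B : ℕ) : ℝ)
    ((Nat.card ↥(A ⊔ B) * Nat.card ↥(A ⊓ B) : ℕ) : ℝ)
    ((Nat.card (cH A) * Nat.card (cH B) : ℕ) : ℝ)
    ((Nat.card (cH (A ⊔ B)) * Nat.card (cH (A ⊓ B)) : ℕ) : ℝ)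
    (by exact_mod_cast Nat.mul_pos Nat.card_pos Nat.card_pos)
    (by exact_mod_cast n1)
    (by exact_mod_cast Nat.mul_pos Nat.card_pos Nat.card_pos)
    (by rw [mul_comm (Nat.card ↥(cH (A ⊔ B)))]; exact_mod_cast n4)
    hprod
  obtain ⟨hc1, hc2⟩ := hcore
  have hc1' : Nat.card A * Nat.card B = Nat.card ↥(A ⊔ B) * Nat.card ↥(A ⊓ B) := by exact_mod_cast hc1
  have hc2' : Nat.card (cH A) * Nat.card (cH B) = Nat.card (cH (A ⊔ B)) * Nat.card (cH (A ⊓ B)) := by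
    exact_mod_cast hc2
  -- m (A ⊔ B) = m A = m (A ⊓ B)
  have hprodeq : m (A ⊔ B) * m (A ⊓ B) = m A * m A := by
    nth_rewrite 2 [hM]
    rw [hmul, hmul, hc1, hc2]
  have hsupM : m (A ⊔ B) = m A := by
    apply le_antisymm hs
    by_contra hlt
    push Not at hlt
    have : m (A ⊔ B) * m (A ⊓ B) < m A * m A :=
      mul_lt_mul hlt hi (mpos _) (mpos _).le
    linarith
  have hinfM : m (A ⊓ B) = m A := by
    rw [hsupM] at hprodeq
    exact mul_left_cancel₀ (mpos A).ne' hprodeq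
  refine ⟨?_, ?_, ?_, ?_⟩
  · -- AB = BA
    intro a ha b hb
    have h1 : Nat.card B * Nat.card A = Nat.card ↥(B ⊔ A) * Nat.card ↥(B ⊓ A) := by
      rw [mul_comm, sup_comm, inf_comm]; exact hc1'
    have h2 := sup_eq_mul_of_card_eq B A h1
    have h3 : a * b ∈ ((B ⊔ A : Subgroup X) : Set X) :=
      Subgroup.mul_mem _ (Subgroup.mem_sup_right ha) (Subgroup.mem_sup_left hb)
    rw [h2, Set.mem_mul] at h3
    obtain ⟨b', hb', a', ha', h⟩ := h3
    exact ⟨b', hb', a', ha', h.symm⟩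
  · intro A' hA' hA'1
    show m A' ≤ m (A ⊔ B)
    rw [hsupM]; exact hAmax' A' hA' hA'1
  · intro h hh
    have hh' : h ∈ cH (A ⊓ B) := hh
    -- card (cH A ⊔ cH B) = card (cH (A ⊓ B))
    have hpos : 0 < Nat.card ↥(cH (A ⊔ B)) := Nat.card_pos
    have h1 : Nat.card ↥(cH A ⊔ cH B) * Nat.card ↥(cH (A ⊔ B)) = Nat.card ↥(cH (A ⊓ B)) * Nat.card ↥(cH (A ⊔ B)) := by
      apply le_antisymm (Nat.mul_le_mul_right _ n3)
      rw [← e1] at hc2' ⊢
      calc Nat.card ↥(cH (A ⊓ B)) * Nat.card ↥(cH A ⊓ cH B)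
          = Nat.card (cH A) * Nat.card (cH B) := by rw [hc2', mul_comm]
        _ ≤ _ := n2
    have h2 : Nat.card ↥(cH A ⊔ cH B) = Nat.card ↥(cH (A ⊓ B)) := Nat.eq_of_mul_eq_mul_right hpos h1
    have h3 : cH A ⊔ cH B = cH (A ⊓ B) := Subgroup.eq_of_le_of_card_ge l1 h2.ge
    have h4 : Nat.card (cH A) * Nat.card (cH B) = Nat.card ↥(cH A ⊔ cH B) * Nat.card ↥(cH A ⊓ cH B) := by
      rw [hc2', h2, e1, mul_comm]
    have h5 := sup_eq_mul_of_card_eq (cH A) (cH B) h4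
    rw [← h3] at hh'
    have h6 : h ∈ ((cH A ⊔ cH B : Subgroup X) : Set X) := hh'
    rw [h5, Set.mem_mul] at h6
    obtain ⟨u, hu, v, hv, huv⟩ := h6
    exact ⟨u, hu, v, hv, huv.symm⟩
  · intro _ A' hA' hA'1
    show m A' ≤ m (A ⊓ B)
    rw [hinfM]; exact hAmax' A' hA' hA'1

end Cfsg.Agent.S3804
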