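import Cfsg.Statements.S3807
import Mathlib
import Cfsg.Agent.S0662
import Cfsg.Agent.Lib.Lead_Coprime
import Cfsg.Agent.Lib.Helper6_MinNonPClosed

set_option autoImplicit false
open Cfsg
open Cfsg.Agent.Lib.Lead_Coprime Cfsg.Agent.Lib.Helper6_MinNonPClosed
open scoped commutatorElement

namespace Cfsg.Agent.S3807

variable {S : Type*} [Group S] [Finite S]

omit [Finite S] in
/-- an abelian subgroup of prime index in a nonabelian group contains the centre -/
theorem center_le_of_abelian_index {p : ℕ} (hp : p.Prime) (hna : ¬ IsMulCommutative S)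
    (B : Subgroup S) (hB : IsMulCommutative ↥B) (hBi : B.index = p) : Subgroup.center S ≤ B := by
  by_contra hcon
  obtain ⟨z, hz, hzB⟩ := SetLike.not_le_iff_exists.mp hcon
  have h1 : B ≤ Subgroup.centralizer (B : Set S) := fun b hb => by
    rw [Subgroup.mem_centralizer_iff]; intro c hc
    exact congrArg Subtype.val (hB.is_comm.comm ⟨c, hc⟩ ⟨b, hb⟩)
  have h2 : z ∈ Subgroup.centralizer (B : Set S) := by
    rw [Subgroup.mem_centralizer_iff]; intro c _
    exact Subgroup.mem_center_iff.mp hz c
  have h3 : Subgroup.centralizer (B : Set S) = ⊤ := by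
    rcases eq_or_eq_top_of_prime_index hp B hBi _ h1 with h | h
    · exact absurd (h ▸ h2) hzB
    · exact h
  have h4 : B ≤ Subgroup.center S := by
    intro b hb; rw [Subgroup.mem_center_iff]; intro g
    have : g ∈ Subgroup.centralizer (B : Set S) := by rw [h3]; trivial
    exact ((Subgroup.mem_centralizer_iff.mp this) b hb).symm
  rcases eq_or_eq_top_of_prime_index hp B hBi _ h4 with h | h
  · exact hzB (h ▸ hz)
  · apply hna; refine ⟨⟨fun a b => ?_⟩⟩
    have : b ∈ Subgroup.center S := by rw [h]; trivial
    exact Subgroup.mem_center_iff.mp this a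

/-- the index formula `[S : Z(S)] = p · #S'` -/
theorem index_center_eq {p : ℕ} [Fact p.Prime] (hS : IsPGroup p S) (hna : ¬ IsMulCommutative S)
    (A : Subgroup S) (hA : IsMulCommutative ↥A) (hAi : A.index = p) :
    (Subgroup.center S).index = p * Nat.card (commutator S) := by
  have hp := (Fact.out : p.Prime)
  have hcomm : ∀ u ∈ A, ∀ v ∈ A, u * v = v * u := fun u hu v hv =>
    congrArg Subtype.val (hA.is_comm.comm ⟨u, hu⟩ ⟨v, hv⟩)
  have hAn : A.Normal := by
    apply Subgroup.normal_of_index_eq_minFac_card
    obtain ⟨k, hk⟩ := hS.exists_card_eq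
    have hk0 : k ≠ 0 := by
      rintro rfl
      have h1 := A.index_dvd_card
      rw [hk, hAi, pow_zero, Nat.dvd_one] at h1
      exact hp.one_lt.ne' h1
    rw [hAi, hk, Nat.Prime.pow_minFac hp hk0]
  obtain ⟨x, hx⟩ : ∃ x : S, x ∉ A := by
    by_contra hcon
    push Not at hcon
    have : A = ⊤ := by rw [eq_top_iff]; intro y _; exact hcon y
    rw [this, Subgroup.index_top] at hAi
    exact hp.one_lt.ne hAi
  have hsup : ∀ H : Subgroup S, A ≤ H → x ∈ H → H = ⊤ := by
    intro H hAH hxH
    rcases eq_or_eq_top_of_prime_index hp A hAi H hAH with h | h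
    · exact absurd (h ▸ hxH) hx
    · exact h
  have hZA : Subgroup.center S ≤ A := center_le_of_abelian_index hp hna A hA hAi
  have hmem : ∀ a ∈ A, ⁅a, x⁆ ∈ A := by
    intro a ha
    have h1 : x * a⁻¹ * x⁻¹ ∈ A := hAn.conj_mem a⁻¹ (A.inv_mem ha) x
    have e : ⁅a, x⁆ = a * (x * a⁻¹ * x⁻¹) := by simp only [commutatorElement_def]; group
    rw [e]; exact A.mul_mem ha h1
  let φ : ↥A →* ↥A :=
    { toFun := fun a => ⟨⁅(a : S), x⁆, hmem a a.2⟩
      map_one' := by
        apply Subtype.ext
        simp
      map_mul' := by
        intro a b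
        apply Subtype.ext
        have ha' : x * (a : S)⁻¹ * x⁻¹ ∈ A := hAn.conj_mem _ (A.inv_mem a.2) x
        have hb' : x * (b : S)⁻¹ * x⁻¹ ∈ A := hAn.conj_mem _ (A.inv_mem b.2) x
        have h1 := hcomm _ (A.mul_mem b.2 hb') _ ha'
        show ⁅(a : S) * (b : S), x⁆ = ⁅(a : S), x⁆ * ⁅(b : S), x⁆
        calc ⁅(a : S) * (b : S), x⁆
            = (a : S) * (((b : S) * (x * (b : S)⁻¹ * x⁻¹)) * (x * (a : S)⁻¹ * x⁻¹)) := by
              simp only [commutatorElement_def]; group
          _ = (a : S) * ((x * (a : S)⁻¹ * x⁻¹) * ((b : S) * (x * (b : S)⁻¹ * x⁻¹))) := by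
              rw [h1]
          _ = ⁅(a : S), x⁆ * ⁅(b : S), x⁆ := by
              simp only [commutatorElement_def]; group }
  have hφ : ∀ a : ↥A, ((φ a : ↥A) : S) = ⁅(a : S), x⁆ := fun a => rfl
  -- kernel
  have hker : φ.ker = (Subgroup.center S).subgroupOf A := by
    ext a
    rw [MonoidHom.mem_ker, Subgroup.mem_subgroupOf]
    constructor
    · intro h
      have h1 : ⁅(a : S), x⁆ = 1 := by rw [← hφ, h]; rfl
      rw [commutatorElement_eq_one_iff_mul_comm] at h1
      have h2 : Subgroup.centralizer ({(a : S)} : Set S) = ⊤ := by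
        apply hsup
        · intro b hb
          rw [Subgroup.mem_centralizer_singleton_iff]
          exact hcomm b hb a a.2
        · rw [Subgroup.mem_centralizer_singleton_iff]
          exact h1.symm
      rw [Subgroup.mem_center_iff]
      intro g
      have : g ∈ Subgroup.centralizer ({(a : S)} : Set S) := by rw [h2]; trivial
      exact Subgroup.mem_centralizer_singleton_iff.mp this
    · intro h
      apply Subtype.ext
      rw [hφ]
      rw [Subgroup.coe_one, commutatorElement_eq_one_iff_mul_comm]
      exact (Subgroup.mem_center_iff.mp h x).symm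
  -- range
  have hR1 : (φ.range).map A.subtype ≤ commutator S := by
    rintro _ ⟨_, ⟨a, rfl⟩, rfl⟩
    rw [commutator_def]
    exact Subgroup.commutator_mem_commutator (Subgroup.mem_top _) (Subgroup.mem_top _)
  have hRA : (φ.range).map A.subtype ≤ A := Subgroup.map_subtype_le _
  have hRmem : ∀ a ∈ A, ⁅a, x⁆ ∈ (φ.range).map A.subtype := by
    intro a ha
    exact ⟨φ ⟨a, ha⟩, ⟨⟨a, ha⟩, rfl⟩, rfl⟩
  have hRnorm : ((φ.range).map A.subtype).Normal := by
    rw [← Subgroup.normalizer_eq_top_iff]
    apply hsup
    · intro a ha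
      have key : ∀ b ∈ A, ∀ r ∈ (φ.range).map A.subtype, b * r * b⁻¹ ∈ (φ.range).map A.subtype := by
        intro b hb r hr
        have : b * r * b⁻¹ = r := by
          rw [hcomm b hb r (hRA hr)]; group
        rw [this]; exact hr
      refine mem_normalizer_of_conj_mem (key a ha) ?_
      intro r hr
      have := key a⁻¹ (A.inv_mem ha) r hr
      rwa [inv_inv] at this
    · refine mem_normalizer_of_conj_mem ?_ ?_
      · rintro _ ⟨_, ⟨a, rfl⟩, rfl⟩
        have e : x * A.subtype (φ a) * x⁻¹ = ⁅x * (a : S) * x⁻¹, x⁆ := by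
          rw [Subgroup.coe_subtype, hφ]
          simp only [commutatorElement_def]; group
        rw [e]
        exact hRmem _ (hAn.conj_mem _ a.2 x)
      · rintro _ ⟨_, ⟨a, rfl⟩, rfl⟩
        have e : x⁻¹ * A.subtype (φ a) * x = ⁅x⁻¹ * (a : S) * x, x⁆ := by
          rw [Subgroup.coe_subtype, hφ]
          simp only [commutatorElement_def]; group
        rw [e]
        have := hAn.conj_mem _ a.2 x⁻¹
        rw [inv_inv] at this
        exact hRmem _ this
  have hR2 : commutator S ≤ (φ.range).map A.subtype := by
    set R := (φ.range).map A.subtype with hR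
    apply Subgroup.Normal.quotient_commutative_iff_commutator_le.mp
    let π := QuotientGroup.mk' R
    have hπx : ∀ g : S, π g * π x = π x * π g := by
      have h1 : (Subgroup.centralizer ({π x} : Set (S ⧸ R))).comap π = ⊤ := by
        apply hsup
        · intro a ha
          rw [Subgroup.mem_comap, Subgroup.mem_centralizer_singleton_iff]
          rw [← commutatorElement_eq_one_iff_mul_comm, ← map_commutatorElement]
          exact (QuotientGroup.eq_one_iff _).mpr (hRmem a ha)
        · rw [Subgroup.mem_comap, Subgroup.mem_centralizer_singleton_iff]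
      intro g
      have : g ∈ (Subgroup.centralizer ({π x} : Set (S ⧸ R))).comap π := by rw [h1]; trivial
      rw [Subgroup.mem_comap, Subgroup.mem_centralizer_singleton_iff] at this
      exact this
    have hπa : ∀ a ∈ A, ∀ g : S, π g * π a = π a * π g := by
      intro a ha
      have h1 : (Subgroup.centralizer ({π a} : Set (S ⧸ R))).comap π = ⊤ := by
        apply hsup
        · intro b hb
          rw [Subgroup.mem_comap, Subgroup.mem_centralizer_singleton_iff]
          rw [← map_mul, ← map_mul, hcomm b hb a ha]
        · rw [Subgroup.mem_comap, Subgroup.mem_centralizer_singleton_iff]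
          exact (hπx a).symm
      intro g
      have : g ∈ (Subgroup.centralizer ({π a} : Set (S ⧸ R))).comap π := by rw [h1]; trivial
      rw [Subgroup.mem_comap, Subgroup.mem_centralizer_singleton_iff] at this
      exact this
    have hcen : (Subgroup.center (S ⧸ R)).comap π = ⊤ := by
      apply hsup
      · intro a ha
        rw [Subgroup.mem_comap, Subgroup.mem_center_iff]
        intro g'
        obtain ⟨g, rfl⟩ := QuotientGroup.mk'_surjective R g'
        exact hπa a ha g
      · rw [Subgroup.mem_comap, Subgroup.mem_center_iff]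
        intro g'
        obtain ⟨g, rfl⟩ := QuotientGroup.mk'_surjective R g'
        exact hπx g
    refine ⟨⟨fun u v => ?_⟩⟩
    obtain ⟨g, rfl⟩ := QuotientGroup.mk'_surjective R v
    have : g ∈ (Subgroup.center (S ⧸ R)).comap π := by rw [hcen]; trivial
    rw [Subgroup.mem_comap, Subgroup.mem_center_iff] at this
    exact this u
  have hRange : (φ.range).map A.subtype = commutator S := le_antisymm hR1 hR2
  -- cardinalities
  have c1 : Nat.card ↥A = Nat.card φ.ker * Nat.card φ.range := by
    rw [Subgroup.card_eq_card_quotient_mul_card_subgroup φ.ker,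
      Nat.card_congr (QuotientGroup.quotientKerEquivRange φ).toEquiv, mul_comm]
  have c2 : Nat.card φ.ker = Nat.card (Subgroup.center S) := by
    rw [hker]
    exact Nat.card_congr (Subgroup.subgroupOfEquivOfLe hZA).toEquiv
  have c3 : Nat.card φ.range = Nat.card (commutator S) := by
    rw [← hRange]
    exact (Subgroup.card_map_of_injective A.subtype_injective).symm
  have c4 := A.card_mul_index
  have c5 := (Subgroup.center S).card_mul_index
  rw [hAi, c1, c2, c3] at c4
  have hpos : 0 < Nat.card (Subgroup.center S) := Nat.card_pos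
  have : Nat.card (Subgroup.center S) * (Subgroup.center S).index =
      Nat.card (Subgroup.center S) * (p * Nat.card (commutator S)) := by
    rw [c5, ← c4]; ring
  exact Nat.eq_of_mul_eq_mul_left hpos this

/-- Let S be a non-abelian finite p-group with an abelian subgroup A of index p. Then [S : Z(S)] = p·#[S,S], and either [S,S] has order p, S/Z(S) is elementary abelian of order p², and S has exactly p + 1 abelian subgroups of index p; or [S,S] has order at least p² and A is the only abelian subgroup of index p in S. -/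
theorem result {S : Type*} [Group S] [Finite S] (p : ℕ) [Fact p.Prime] (hS : IsPGroup p S) (hna : ¬ IsMulCommutative S)
    (A : Subgroup S) (hA : IsMulCommutative ↥A) (hAi : A.index = p) :
    (Subgroup.center S).index = p * Nat.card (commutator S) ∧
      ((Nat.card (commutator S) = p ∧ Cfsg.IsElementaryAbelian p (⊤ : Subgroup (S ⧸ Subgroup.center S)) ∧
          Nat.card (S ⧸ Subgroup.center S) = p ^ 2 ∧
          Nat.card {B : Subgroup S // IsMulCommutative ↥B ∧ B.index = p} = p + 1) ∨
        (p ^ 2 ≤ Nat.card (commutator S) ∧ ∀ B : Subgroup S, IsMulCommutative ↥B → B.index = p → B = A)) := by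
  have hp := (Fact.out : p.Prime)
  have hidx := index_center_eq hS hna A hA hAi
  refine ⟨hidx, ?_⟩
  obtain ⟨k, hk⟩ := (hS.to_subgroup (commutator S)).exists_card_eq
  have hk0 : k ≠ 0 := by
    rintro rfl
    rw [pow_zero, Subgroup.card_eq_one] at hk
    apply hna
    refine ⟨⟨fun a b => ?_⟩⟩
    have : ⁅a, b⁆ ∈ commutator S := by
      rw [commutator_def]
      exact Subgroup.commutator_mem_commutator (Subgroup.mem_top _) (Subgroup.mem_top _)
    rw [hk, Subgroup.mem_bot, commutatorElement_eq_one_iff_mul_comm] at this
    exact this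
  by_cases hk1 : k = 1
  · left
    rw [hk1, pow_one] at hk
    have hq : Nat.card (S ⧸ Subgroup.center S) = p ^ 2 := by
      rw [← Subgroup.index_eq_card, hidx, hk, sq]
    have hqcomm : IsMulCommutative (S ⧸ Subgroup.center S) :=
      IsPGroup.isMulCommutative_of_card_eq_prime_sq hq
    have hexp : ∀ g : S ⧸ Subgroup.center S, g ^ p = 1 := by
      intro g
      have h1 : orderOf g ∣ p ^ 2 := by rw [← hq]; exact orderOf_dvd_natCard g
      obtain ⟨m, hm, hmo⟩ := (Nat.dvd_prime_pow hp).mp h1
      have hm2 : m ≠ 2 := by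
        rintro rfl
        have hcyc : IsCyclic (S ⧸ Subgroup.center S) :=
          isCyclic_of_orderOf_eq_card g (by rw [hmo, hq])
        apply hna
        exact (QuotientGroup.mk' (Subgroup.center S)).isMulCommutative_of_isCyclic_of_ker_le_center
          (by rw [QuotientGroup.ker_mk'])
      have hm1 : m ≤ 1 := by omega
      have : orderOf g ∣ p := by
        rw [hmo]
        calc p ^ m ∣ p ^ 1 := pow_dvd_pow p hm1
          _ = p := pow_one p
      exact orderOf_dvd_iff_pow_eq_one.mp this
    refine ⟨hk, ⟨⟨⟨fun a b => Subtype.ext (hqcomm.is_comm.comm a.1 b.1)⟩⟩, fun a _ => hexp a⟩, hq, ?_⟩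
    rw [← Cfsg.Agent.S0662.card_subgroups_of_prime_sq hq hexp]
    let π := QuotientGroup.mk' (Subgroup.center S)
    have hπs : Function.Surjective π := QuotientGroup.mk'_surjective _
    have hkerπ : π.ker = Subgroup.center S := QuotientGroup.ker_mk' _
    apply Nat.card_congr
    refine
      { toFun := fun B => ⟨B.1.map π, ?_⟩
        invFun := fun K => ⟨K.1.comap π, ?_, ?_⟩
        left_inv := ?_
        right_inv := ?_ }
    · have hZB : π.ker ≤ B.1 := by
        rw [hkerπ]; exact center_le_of_abelian_index hp hna B.1 B.2.1 B.2.2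
      have h1 : (B.1.map π).index = p := by
        rw [Subgroup.index_map_eq _ hπs hZB]; exact B.2.2
      have h2 := (B.1.map π).card_mul_index
      rw [h1, hq, sq] at h2
      exact Nat.eq_of_mul_eq_mul_right hp.pos h2
    · have hcyc : IsCyclic ↥K.1 := isCyclic_of_prime_card K.2
      apply (π.subgroupComap K.1).isMulCommutative_of_isCyclic_of_ker_le_center
      intro u hu
      rw [MonoidHom.mem_ker] at hu
      have h1 : π (u : S) = 1 := congrArg Subtype.val hu
      have h2 : (u : S) ∈ Subgroup.center S := (QuotientGroup.eq_one_iff _).mp h1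
      rw [Subgroup.mem_center_iff]
      intro g
      exact Subtype.ext (Subgroup.mem_center_iff.mp h2 g)
    · rw [Subgroup.index_comap_of_surjective _ hπs]
      have h2 := K.1.card_mul_index
      rw [K.2, hq, sq] at h2
      exact Nat.eq_of_mul_eq_mul_left hp.pos h2
    · intro B
      apply Subtype.ext
      have hZB : π.ker ≤ B.1 := by
        rw [hkerπ]; exact center_le_of_abelian_index hp hna B.1 B.2.1 B.2.2
      exact Subgroup.comap_map_eq_self hZB
    · intro K
      apply Subtype.ext
      exact Subgroup.map_comap_eq_self_of_surjective hπs K.1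
  · right
    have hk2 : 2 ≤ k := by omega
    refine ⟨by rw [hk]; exact Nat.pow_le_pow_right hp.pos hk2, ?_⟩
    intro B hB hBi
    by_contra hBA
    have hsupAB : A ⊔ B = ⊤ := by
      rcases eq_or_eq_top_of_prime_index hp A hAi (A ⊔ B) le_sup_left with h | h
      · exfalso
        have hBleA : B ≤ A := by rw [← h]; exact le_sup_right
        rcases eq_or_eq_top_of_prime_index hp B hBi A hBleA with h' | h'
        · exact hBA h'.symm
        · rw [h', Subgroup.index_top] at hAi
          exact hp.one_lt.ne hAi
      · exact h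
    have hcen : A ⊓ B ≤ Subgroup.center S := by
      intro z hz
      have h1 : Subgroup.centralizer ({z} : Set S) = ⊤ := by
        rw [eq_top_iff, ← hsupAB, sup_le_iff]
        constructor
        · intro a ha
          rw [Subgroup.mem_centralizer_singleton_iff]
          exact congrArg Subtype.val (hA.is_comm.comm ⟨a, ha⟩ ⟨z, hz.1⟩)
        · intro b hb
          rw [Subgroup.mem_centralizer_singleton_iff]
          exact congrArg Subtype.val (hB.is_comm.comm ⟨b, hb⟩ ⟨z, hz.2⟩)
      rw [Subgroup.mem_center_iff]
      intro g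
      have : g ∈ Subgroup.centralizer ({z} : Set S) := by rw [h1]; trivial
      exact Subgroup.mem_centralizer_singleton_iff.mp this
    have h1 : (A ⊓ B).index ≤ p * p := by
      have := Subgroup.index_inf_le (H := A) (K := B)
      rwa [hAi, hBi] at this
    have h2 : (Subgroup.center S).index ∣ (A ⊓ B).index := Subgroup.index_dvd_of_le hcen
    have h3 : (A ⊓ B).index ≠ 0 := Subgroup.index_ne_zero_of_finite
    have h4 : (Subgroup.center S).index ≤ p * p := (Nat.le_of_dvd (Nat.pos_of_ne_zero h3) h2).trans h1
    rw [hidx, hk] at h4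
    have h5 : p ^ k ≤ p := Nat.le_of_mul_le_mul_left h4 hp.pos
    have h6 : p ^ 2 ≤ p ^ k := Nat.pow_le_pow_right hp.pos hk2
    have h7 : p < p ^ 2 := by
      calc p = p ^ 1 := (pow_one p).symm
        _ < p ^ 2 := Nat.pow_lt_pow_right hp.one_lt (by norm_num)
    omega

end Cfsg.Agent.S3807
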