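import Cfsg.Statements.S3808
import Mathlib

set_option autoImplicit false
open Cfsg

namespace Cfsg.Agent.S3808

/-- Let S be a finite p-group with an extraspecial subgroup Q of index p. Then either Z(S) = Z(Q), or S = Q·Z(S) and Z(S) has order p². -/
theorem result {S : Type*} [Group S] [Finite S] (p : ℕ) [Fact p.Prime] (hS : IsPGroup p S) (Q : Subgroup S) (hQ : Cfsg.IsExtraspecial p ↥Q) (hQi : Q.index = p) :
    Subgroup.center S = (Subgroup.center ↥Q).map Q.subtype ∨
      (Q ⊔ Subgroup.center S = ⊤ ∧ Nat.card (Subgroup.center S) = p ^ 2) := by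
  have hp : p.Prime := Fact.out
  have hcQ : Nat.card ((Subgroup.center ↥Q).map Q.subtype) = p := by
    rw [Subgroup.card_map_of_injective Q.subtype_injective]; exact hQ.2
  -- general inclusion
  have hle : Subgroup.center S ⊓ Q ≤ (Subgroup.center ↥Q).map Q.subtype := by
    intro z hz
    rw [Subgroup.mem_inf] at hz
    refine ⟨⟨z, hz.2⟩, ?_, rfl⟩
    rw [SetLike.mem_coe, Subgroup.mem_center_iff]
    intro g
    apply Subtype.ext
    have := (Subgroup.mem_center_iff.mp hz.1) (g : S)
    simpa using this
  obtain ⟨n, hn⟩ := IsPGroup.iff_card.mp hS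
  have hn0 : 0 < n := by
    rcases Nat.eq_zero_or_pos n with h0 | h0
    · exfalso
      rw [h0, pow_zero] at hn
      have : Q.index ∣ 1 := hn ▸ Q.index_dvd_card
      rw [hQi] at this
      exact hp.one_lt.ne' (Nat.dvd_one.mp this)
    · exact h0
  by_cases hZQ : Subgroup.center S ≤ Q
  · left
    have h1 : Subgroup.center S ≤ (Subgroup.center ↥Q).map Q.subtype := by
      refine le_trans ?_ hle
      exact le_inf le_rfl hZQ
    have : Finite ((Subgroup.center ↥Q).map Q.subtype) := inferInstance
    apply Subgroup.eq_of_le_of_card_ge h1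
    rw [hcQ]
    obtain ⟨k, hk0, hk⟩ := IsPGroup.card_center_eq_prime_pow hn hn0
    rw [hk]
    calc p = p ^ 1 := (pow_one p).symm
      _ ≤ p ^ k := Nat.pow_le_pow_right hp.pos hk0
  · right
    have hQn : Q.Normal := by
      apply Subgroup.normal_of_index_eq_minFac_card
      rw [hQi, hn, Nat.Prime.pow_minFac hp hn0.ne']
    have htop : Q ⊔ Subgroup.center S = ⊤ := by
      have h1 := Subgroup.relIndex_mul_index (le_sup_left : Q ≤ Q ⊔ Subgroup.center S)
      rw [hQi] at h1
      have hdvd : (Q ⊔ Subgroup.center S).index ∣ p := Dvd.intro_left _ h1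
      rcases (Nat.dvd_prime hp).mp hdvd with h2 | h2
      · exact Subgroup.index_eq_one.mp h2
      · exfalso
        rw [h2] at h1
        have h3 : Q.relIndex (Q ⊔ Subgroup.center S) = 1 := by
          have := hp.pos
          exact Nat.eq_of_mul_eq_mul_right this (by rw [h1, one_mul])
        rw [Subgroup.relIndex_eq_one] at h3
        exact hZQ (le_trans le_sup_right h3)
    refine ⟨htop, ?_⟩
    -- Z(Q) ≤ Z(S)
    have hge : (Subgroup.center ↥Q).map Q.subtype ≤ Subgroup.center S ⊓ Q := by
      rintro _ ⟨x, hx, rfl⟩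
      rw [Subgroup.mem_inf]
      refine ⟨?_, x.2⟩
      have h1 : Q ≤ Subgroup.centralizer {(x : S)} := by
        intro q hq
        rw [Subgroup.mem_centralizer_iff]
        intro y hy
        rw [Set.mem_singleton_iff] at hy
        subst hy
        have := (Subgroup.mem_center_iff.mp hx) ⟨q, hq⟩
        have := congrArg Subtype.val this
        simpa using this.symm
      have h2 : Subgroup.center S ≤ Subgroup.centralizer {(x : S)} :=
        Subgroup.center_le_centralizer _
      have h3 : (⊤ : Subgroup S) ≤ Subgroup.centralizer {(x : S)} := by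
        rw [← htop]; exact sup_le h1 h2
      rw [Subgroup.coe_subtype, Subgroup.mem_center_iff]
      intro g
      have := (Subgroup.mem_centralizer_iff.mp (h3 (Subgroup.mem_top g))) (x : S) rfl
      exact this.symm
    have heq : Subgroup.center S ⊓ Q = (Subgroup.center ↥Q).map Q.subtype := le_antisymm hle hge
    have hrel : Q.relIndex (Subgroup.center S) = p := by
      rw [← Subgroup.relIndex_sup_left (K := Q) (H := Subgroup.center S), htop,
        Subgroup.relIndex_top_right, hQi]
    have h4 : (Subgroup.center S ⊓ Q).relIndex (Subgroup.center S) = p := by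
      rw [inf_comm, Subgroup.inf_relIndex_right, hrel]
    have h5 := Subgroup.card_mul_index ((Subgroup.center S ⊓ Q).subgroupOf (Subgroup.center S))
    rw [← Subgroup.relIndex, h4,
      Nat.card_congr (Subgroup.subgroupOfEquivOfLe (inf_le_left : Subgroup.center S ⊓ Q ≤ Subgroup.center S)).toEquiv,
      heq, hcQ] at h5
    rw [← h5, pow_two]

end Cfsg.Agent.S3808
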