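import Cfsg.Statements.S3809
import Mathlib
import Cfsg.Agent.S0095
import Cfsg.Agent.Lib.Helper7_PFrattini

set_option autoImplicit false
open Cfsg
open Cfsg.Agent.Lib.Helper7_PFrattini

namespace Cfsg.Agent.S3809

/-- Let S be a finite p-group with an extraspecial subgroup of index p. Then S has order p^(2+2n) for some n ≥ 1, derived length at most 3, and exponent dividing p³. -/
theorem result {S : Type*} [Group S] [Finite S] (p : ℕ) [Fact p.Prime] (hS : IsPGroup p S) (Q : Subgroup S) (hQ : Cfsg.IsExtraspecial p ↥Q) (hQi : Q.index = p) :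
    (∃ n : ℕ, 1 ≤ n ∧ Nat.card S = p ^ (2 + 2 * n)) ∧ derivedSeries S 3 = ⊥ ∧ ∀ x : S, x ^ (p ^ 3) = 1 := by
  have hp := (Fact.out : p.Prime)
  obtain ⟨n, hn, hcard⟩ := Cfsg.Agent.S0095.result hQ
  have hcS : Nat.card S = p ^ (2 + 2 * n) := by
    rw [← Q.card_mul_index, hcard, hQi]; ring
  -- Q is normal
  have hQn : Q.Normal := by
    apply Subgroup.normal_of_index_eq_minFac_card
    rw [hQi, hcS, Nat.Prime.pow_minFac hp (by omega)]
  have hquot : Nat.card (S ⧸ Q) = p := by rw [← Subgroup.index_eq_card]; exact hQi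
  -- derived series
  have hcyc : IsCyclic (S ⧸ Q) := isCyclic_of_prime_card hquot
  have hcomm : IsMulCommutative (S ⧸ Q) := ⟨⟨fun a b => IsCyclic.commGroup.mul_comm a b⟩⟩
  have hD1 : derivedSeries S 1 ≤ Q := by
    rw [derivedSeries_one]
    exact Subgroup.Normal.quotient_commutative_iff_commutator_le.mp hcomm
  have hQQ : ⁅Q, Q⁆ = (Subgroup.center ↥Q).map Q.subtype := by
    have h1 : (commutator ↥Q).map Q.subtype = ⁅Q, Q⁆ := by
      rw [commutator_def, Subgroup.map_commutator, ← MonoidHom.range_eq_map, Subgroup.range_subtype]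
    rw [← h1, hQ.1.2.2]
  have hD2 : derivedSeries S 2 ≤ (Subgroup.center ↥Q).map Q.subtype := by
    rw [derivedSeries_succ, ← hQQ]
    exact Subgroup.commutator_mono hD1 hD1
  have hD3 : derivedSeries S 3 = ⊥ := by
    rw [eq_bot_iff, derivedSeries_succ]
    refine (Subgroup.commutator_mono hD2 hD2).trans ?_
    rw [Subgroup.commutator_le]
    rintro _ ⟨a, ha, rfl⟩ _ ⟨b, hb, rfl⟩
    rw [Subgroup.mem_bot, commutatorElement_eq_one_iff_mul_comm]
    have := Subgroup.mem_center_iff.mp hb a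
    change (a : S) * (b : S) = (b : S) * (a : S)
    exact congrArg Subtype.val this
  refine ⟨⟨n, hn, hcS⟩, hD3, ?_⟩
  intro x
  have hxQ : x ^ p ∈ Q := by
    have h2 : (QuotientGroup.mk' Q x) ^ p = 1 := by
      rw [← hquot]; exact pow_card_eq_one'
    rw [← map_pow] at h2
    exact (QuotientGroup.eq_one_iff _).mp h2
  have h3 : (⟨x ^ p, hxQ⟩ : ↥Q) ^ p ∈ Subgroup.center ↥Q := by
    rw [← hQ.1.2.1]
    exact pow_mem_frattini hQ.1.1 _
  have h4 : ((⟨x ^ p, hxQ⟩ : ↥Q) ^ p) ^ p = 1 := by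
    have h5 := pow_card_eq_one' (G := Subgroup.center ↥Q) (x := ⟨_, h3⟩)
    rw [hQ.2] at h5
    have := congrArg Subtype.val h5
    simpa using this
  have h6 := congrArg Subtype.val h4
  simp only [Subgroup.coe_pow, Subgroup.coe_one] at h6
  rw [← h6, ← pow_mul, ← pow_mul]
  congr 1
  ring

end Cfsg.Agent.S3809
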