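import Cfsg.Statements.S3810
import Mathlib
import Cfsg.Agent.S0095
import Cfsg.Agent.S3807
import Cfsg.Agent.Lib.Helper6_OrderP4

set_option autoImplicit false
open Cfsg
open Cfsg.Agent.Lib.Helper6_OrderP4

namespace Cfsg.Agent.S3810

/-- Let S be a finite p-group with an extraspecial subgroup of index p. Then S has an abelian subgroup of index p if and only if S has order p⁴. -/
theorem result {S : Type*} [Group S] [Finite S] (p : ℕ) [Fact p.Prime] (hS : IsPGroup p S) (Q : Subgroup S) (hQ : Cfsg.IsExtraspecial p ↥Q) (hQi : Q.index = p) :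
    (∃ A : Subgroup S, IsMulCommutative ↥A ∧ A.index = p) ↔ Nat.card S = p ^ 4 := by
  have hp := (Fact.out : p.Prime)
  constructor
  · rintro ⟨A, hA, hAi⟩
    obtain ⟨n, hn, hcard⟩ := Cfsg.Agent.S0095.result hQ
    have hcS : Nat.card S = p ^ (2 * n + 2) := by
      rw [← Q.card_mul_index, hcard, hQi]; ring
    have hQna : ¬ IsMulCommutative ↥Q := by
      intro hc
      have h1 : Subgroup.center ↥Q = ⊤ := by
        rw [eq_top_iff]; intro b _
        rw [Subgroup.mem_center_iff]; intro g
        exact hc.is_comm.comm g b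
      have h2 := hQ.2
      rw [h1, Subgroup.card_top, hcard] at h2
      have h3 : p ^ 1 < p ^ (2 * n + 1) := Nat.pow_lt_pow_right hp.one_lt (by omega)
      rw [pow_one] at h3
      omega
    have hAn : A.Normal := by
      apply Subgroup.normal_of_index_eq_minFac_card
      rw [hAi, hcS, Nat.Prime.pow_minFac hp (by omega)]
    have h1 : A.relIndex Q ∣ p := by
      have := Subgroup.relIndex_dvd_index_of_normal A Q
      rwa [hAi] at this
    rcases (Nat.dvd_prime hp).mp h1 with h2 | h2
    · exfalso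
      apply hQna
      have hQA : Q ≤ A := Subgroup.relIndex_eq_one.mp h2
      refine ⟨⟨fun a b => Subtype.ext ?_⟩⟩
      have h3 : (a : S) * (b : S) = (b : S) * (a : S) :=
        congrArg Subtype.val (hA.is_comm.comm ⟨a.1, hQA a.2⟩ ⟨b.1, hQA b.2⟩)
      exact h3
    · have hAQ : IsMulCommutative ↥(A.subgroupOf Q) := by
        refine ⟨⟨fun a b => ?_⟩⟩
        have ha : ((a : ↥Q) : S) ∈ A := Subgroup.mem_subgroupOf.mp a.2
        have hb : ((b : ↥Q) : S) ∈ A := Subgroup.mem_subgroupOf.mp b.2
        apply Subtype.ext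
        apply Subtype.ext
        have h3 : ((a : ↥Q) : S) * ((b : ↥Q) : S) = ((b : ↥Q) : S) * ((a : ↥Q) : S) :=
          congrArg Subtype.val (hA.is_comm.comm ⟨_, ha⟩ ⟨_, hb⟩)
        exact h3
      have h3 := Cfsg.Agent.S3807.index_center_eq hQ.1.1 hQna (A.subgroupOf Q) hAQ h2
      rw [hQ.1.2.2, hQ.2] at h3
      have h4 := (Subgroup.center ↥Q).card_mul_index
      rw [h3, hQ.2] at h4
      rw [← Q.card_mul_index, ← h4, hQi]; ring
  · intro hcard
    exact exists_abelian_index_p hcard

end Cfsg.Agent.S3810
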