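import Cfsg.Statements.S3811
import Mathlib
import Cfsg.Agent.Lib.Helper6_Soft

set_option autoImplicit false
open Cfsg

namespace Cfsg.Agent.S3811

open Cfsg.Agent.Lib.Helper6_Soft

/-- Let P be a finite p-group and E an abelian subgroup of P that contains its centralizer, has index p in its normalizer, and has index at least p² in P. Then the subgroups of P containing E are totally ordered by inclusion, each proper one has index p in its normalizer (so they form the normalizer tower of E, with all steps of index p), and the i-th member of the tower above E has nilpotency class i + 1 whenever it is a proper subgroup of P. -/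
theorem result {P : Type*} [Group P] [Finite P] (p : ℕ) [Fact p.Prime] (hP : IsPGroup p P)
    (E : Subgroup P) (hEab : IsMulCommutative ↥E) (hC : Subgroup.centralizer (E : Set P) ≤ E)
    (hN : (E.subgroupOf (Subgroup.normalizer (E : Set P))).index = p) (hidx : p ^ 2 ≤ E.index) :
    (∀ K L : Subgroup P, E ≤ K → E ≤ L → K ≤ L ∨ L ≤ K) ∧
      (∀ K : Subgroup P, E ≤ K → K ≠ ⊤ → (K.subgroupOf (Subgroup.normalizer (K : Set P))).index = p) ∧
      ∀ (i : ℕ) (K : Subgroup P) [Group.IsNilpotent ↥K], E ≤ K → K ≠ ⊤ → K.index * p ^ i = E.index →
        Group.nilpotencyClass ↥K = i + 1 := by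
  have hpp : p.Prime := Fact.out
  have hE : Soft p E := by
    refine ⟨?_, hC, hN⟩
    intro a ha b hb
    have := hEab.is_comm.comm ⟨a, ha⟩ ⟨b, hb⟩
    exact congrArg Subtype.val this
  refine ⟨fun K L hK hL => chain hP E hE K L hK hL, fun K hK hKt => NI hP E hE K hK hKt, ?_⟩
  intro i K _ hEK hKt hi
  have hrel : E.relIndex K = p ^ i := by
    have h1 := Subgroup.relIndex_mul_index hEK
    rw [← hi, mul_comm] at h1
    have hpos : 0 < K.index := Nat.pos_of_ne_zero Subgroup.index_ne_zero_of_finite
    exact Nat.eq_of_mul_eq_mul_left hpos h1
  rcases Nat.eq_zero_or_pos i with rfl | hipos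
  · -- K = E
    have hKE : K = E := by
      rw [pow_zero, Subgroup.relIndex_eq_one] at hrel
      exact le_antisymm hrel hEK
    apply le_antisymm
    · rw [← Subgroup.upperCentralSeries_eq_top_iff_nilpotencyClass_le, zero_add,
        Subgroup.upperCentralSeries_one, eq_top_iff]
      intro x _
      rw [Subgroup.mem_center_iff]
      intro y
      apply Subtype.ext
      have hx : (x : P) ∈ E := by rw [← hKE]; exact x.2
      have hy : (y : P) ∈ E := by rw [← hKE]; exact y.2
      exact hE.1 y hy x hx
    · rw [zero_add, Nat.one_le_iff_ne_zero]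
      intro h0
      rw [Group.nilpotencyClass_zero_iff_subsingleton] at h0
      -- the centre of P is nontrivial and contained in E = K
      haveI : Nontrivial P := by
        by_contra hnt
        rw [not_nontrivial_iff_subsingleton] at hnt
        apply hKt
        exact Subsingleton.elim _ _
      haveI := hP.center_nontrivial
      obtain ⟨z, hz⟩ := exists_ne (1 : ↥(Subgroup.center P))
      have hzK : (z : P) ∈ K := hEK (center_le_of_soft hE z.2)
      have : (⟨(z : P), hzK⟩ : ↥K) = 1 := Subsingleton.elim _ _
      apply hz
      apply Subtype.ext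
      have h2 : ((⟨(z : P), hzK⟩ : ↥K) : P) = ((1 : ↥K) : P) := congrArg Subtype.val this
      exact h2
  · obtain ⟨j, rfl⟩ : ∃ j, i = j + 1 := ⟨i - 1, by omega⟩
    apply le_antisymm
    · rw [← Subgroup.upperCentralSeries_eq_top_iff_nilpotencyClass_le]
      exact class_upper hP E K hE hEK hKt j hrel
    · by_contra hlt
      push Not at hlt
      have hle : Group.nilpotencyClass ↥K ≤ j + 1 := by omega
      rw [← Subgroup.upperCentralSeries_eq_top_iff_nilpotencyClass_le] at hle
      exact class_lower hP E K hE hEK hKt j hrel hle

end Cfsg.Agent.S3811
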