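import Cfsg.Statements.S3815
import Mathlib

set_option autoImplicit false
open Cfsg

namespace Cfsg.Agent.S3815

/-- Let G be a finite group, p a prime and d ∈ G an element of order prime to p. If dg has order prime to p for every element g ∈ G of order prime to p, then d ∈ O_{p'}(G). -/
theorem result {G : Type*} [Group G] [Finite G] {p : ℕ} [Fact p.Prime]
    (d : G) (hd : (orderOf d).Coprime p)
    (h : ∀ g : G, (orderOf g).Coprime p → (orderOf (d * g)).Coprime p) :
    d ∈ Cfsg.pPrimeCore p G := by
  -- the set of all such elements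
  let D : Set G := {x | ∀ g : G, (orderOf g).Coprime p → (orderOf (x * g)).Coprime p}
  have hDord : ∀ x ∈ D, (orderOf x).Coprime p := by
    intro x hx
    have := hx 1 (by simp)
    rwa [mul_one] at this
  have hone : (1 : G) ∈ D := by
    intro g hg
    rwa [one_mul]
  have hmul : ∀ x ∈ D, ∀ y ∈ D, x * y ∈ D := by
    intro x hx y hy g hg
    rw [mul_assoc]
    exact hx _ (hy g hg)
  have hconj : ∀ x ∈ D, ∀ c : G, c * x * c⁻¹ ∈ D := by
    intro x hx c g hg
    have h1 : (orderOf (c⁻¹ * g * c)).Coprime p := by
      have : orderOf (c⁻¹ * g * c) = orderOf g := by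
        have := (MulAut.conj c⁻¹).orderOf_eq g
        rw [MulAut.conj_apply, inv_inv] at this
        exact this
      rw [this]; exact hg
    have h2 := hx _ h1
    have h3 : c * x * c⁻¹ * g = c * (x * (c⁻¹ * g * c)) * c⁻¹ := by group
    rw [h3]
    have : orderOf (c * (x * (c⁻¹ * g * c)) * c⁻¹) = orderOf (x * (c⁻¹ * g * c)) := by
      have := (MulAut.conj c).orderOf_eq (x * (c⁻¹ * g * c))
      rw [MulAut.conj_apply] at this
      exact this
    rw [this]; exact h2
  -- D is a subgroup
  have hinv : ∀ x ∈ D, x⁻¹ ∈ D := by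
    intro x hx
    have hpow : ∀ n : ℕ, x ^ n ∈ D := by
      intro n
      induction n with
      | zero => rw [pow_zero]; exact hone
      | succ n ih => rw [pow_succ]; exact hmul _ ih _ hx
    have : x⁻¹ = x ^ (orderOf x - 1) := by
      have hpos := orderOf_pos x
      rw [eq_comm, ← mul_eq_one_iff_eq_inv, ← pow_succ]
      have : orderOf x - 1 + 1 = orderOf x := by omega
      rw [this, pow_orderOf_eq_one]
    rw [this]; exact hpow _
  let N : Subgroup G :=
    { carrier := D
      mul_mem' := fun {a b} ha hb => hmul a ha b hb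
      one_mem' := hone
      inv_mem' := fun {a} ha => hinv a ha }
  have hNn : N.Normal := ⟨fun n hn g => hconj n hn g⟩
  have hNc : (Nat.card N).Coprime p := by
    rw [Nat.coprime_comm, Nat.Prime.coprime_iff_not_dvd Fact.out]
    intro hdvd
    obtain ⟨x, hx⟩ := exists_prime_orderOf_dvd_card' p hdvd
    have := hDord (x : G) x.2
    rw [Subgroup.orderOf_coe, hx] at this
    exact (Nat.Prime.one_lt Fact.out).ne' (Nat.coprime_self p |>.mp this)
  have hdN : d ∈ N := h
  exact (le_sSup (show N ∈ {N : Subgroup G | N.Normal ∧ (Nat.card N).Coprime p} from ⟨hNn, hNc⟩)) hdN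

end Cfsg.Agent.S3815
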