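import Cfsg.Statements.S3820
import Mathlib
import Cfsg.Agent.Lib.Helper6_Pronormal

set_option autoImplicit false
open Cfsg

namespace Cfsg.Agent.S3820

open Cfsg.Agent.Lib.Helper6_Pronormal

/-- Call a subgroup H of G pronormal if H and gHg⁻¹ are conjugate inside ⟨H, gHg⁻¹⟩ for every g ∈ G. Let S ≤ H ≤ G be subgroups of a finite group with S pronormal in G (for instance S a Sylow subgroup). Then H is pronormal in G if and only if H and gHg⁻¹ are conjugate inside ⟨H, gHg⁻¹⟩ for every g ∈ N_G(S). In particular H is pronormal whenever N_G(S) ≤ H. -/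
theorem result {G : Type*} [Group G] [Finite G] (S H : Subgroup G) (hSH : S ≤ H)
    (hS : Cfsg.IsPronormal S) :
    Cfsg.IsPronormal H ↔
      ∀ g ∈ Subgroup.normalizer (S : Set G), ∃ w ∈ H ⊔ H.map (MulAut.conj g).toMonoidHom,
        H.map (MulAut.conj g).toMonoidHom = H.map (MulAut.conj w).toMonoidHom := by
  constructor
  · intro h g _
    exact h g
  · intro h g
    obtain ⟨x, hx, hxe⟩ := hS g
    have hn := mem_normalizer_of_map_eq S g x hxe
    obtain ⟨w, hw, hwe⟩ := h _ hn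
    have hSJ : S ⊔ S.map (MulAut.conj g).toMonoidHom ≤ H ⊔ H.map (MulAut.conj g).toMonoidHom :=
      sup_le_sup hSH (Subgroup.map_mono hSH)
    have hxJ : x ∈ H ⊔ H.map (MulAut.conj g).toMonoidHom := hSJ hx
    have hle : H ⊔ H.map (MulAut.conj (x⁻¹ * g)).toMonoidHom ≤
        H ⊔ H.map (MulAut.conj g).toMonoidHom := by
      refine sup_le le_sup_left ?_
      intro y hy
      rw [mem_map_conj] at hy
      have h1 : g * ((x⁻¹ * g)⁻¹ * y * (x⁻¹ * g)) * g⁻¹ ∈ H.map (MulAut.conj g).toMonoidHom :=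
        conj_mem_map_conj H g _ hy
      have h2 : g * ((x⁻¹ * g)⁻¹ * y * (x⁻¹ * g)) * g⁻¹ = x * y * x⁻¹ := by group
      rw [h2] at h1
      have h3 : x * y * x⁻¹ ∈ H ⊔ H.map (MulAut.conj g).toMonoidHom :=
        (le_sup_right : _ ≤ H ⊔ H.map (MulAut.conj g).toMonoidHom) h1
      have h4 := Subgroup.mul_mem _ (Subgroup.mul_mem _ (Subgroup.inv_mem _ hxJ) h3) hxJ
      have h5 : x⁻¹ * (x * y * x⁻¹) * x = y := by group
      rwa [h5] at h4
    refine ⟨x * w, Subgroup.mul_mem _ hxJ (hle hw), ?_⟩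
    have hg : g = x * (x⁻¹ * g) := by group
    conv_lhs => rw [hg]
    rw [map_conj_mul, hwe, ← map_conj_mul]

end Cfsg.Agent.S3820
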