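import Cfsg.Statements.S3821
import Mathlib
import Cfsg.Agent.Lib.Helper6_Pronormal

set_option autoImplicit false
open Cfsg

namespace Cfsg.Agent.S3821

open Cfsg.Agent.Lib.Helper6_Pronormal
open scoped Pointwise

/-- Let A be a normal subgroup of the finite group G and H a subgroup of A. Then H is pronormal in G (H and gHg⁻¹ conjugate inside ⟨H, gHg⁻¹⟩ for every g ∈ G) if and only if H is pronormal in A and G = A · N_G(H). -/
theorem result {G : Type*} [Group G] [Finite G] (A H : Subgroup G) [A.Normal] (hHA : H ≤ A) :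
    Cfsg.IsPronormal H ↔ (Cfsg.IsPronormal (H.subgroupOf A) ∧ A ⊔ Subgroup.normalizer (H : Set G) = ⊤) := by
  have hmapA : ∀ g : G, H.map (MulAut.conj g).toMonoidHom ≤ A := by
    intro g y hy
    rw [mem_map_conj] at hy
    have := Subgroup.Normal.conj_mem (inferInstance : A.Normal) _ (hHA hy) g
    have e : g * (g⁻¹ * y * g) * g⁻¹ = y := by group
    rwa [e] at this
  constructor
  · intro h
    constructor
    · intro a
      obtain ⟨x, hx, hxe⟩ := h (a : G)
      have hxA : x ∈ A := (sup_le hHA (hmapA a)) hx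
      refine ⟨⟨x, hxA⟩, ?_, ?_⟩
      · rw [subgroupOf_map_conj, ← Subgroup.subgroupOf_sup hHA (hmapA a), Subgroup.mem_subgroupOf]
        exact hx
      · rw [subgroupOf_map_conj, subgroupOf_map_conj, hxe]
    · rw [eq_top_iff]
      intro g _
      obtain ⟨x, hx, hxe⟩ := h g
      have hxA : x ∈ A := (sup_le hHA (hmapA g)) hx
      have hn := mem_normalizer_of_map_eq H g x hxe
      have : g = x * (x⁻¹ * g) := by group
      rw [this]
      exact Subgroup.mul_mem _ (Subgroup.mem_sup_left hxA) (Subgroup.mem_sup_right hn)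
  · rintro ⟨hA, hsup⟩ g
    have hg : g ∈ A ⊔ Subgroup.normalizer (H : Set G) := hsup ▸ Subgroup.mem_top g
    rw [← SetLike.mem_coe, Subgroup.normal_mul] at hg
    obtain ⟨a, ha, n, hn, rfl⟩ := hg
    have e1 : H.map (MulAut.conj (a * n)).toMonoidHom = H.map (MulAut.conj a).toMonoidHom :=
      map_conj_mul_normalizer H a n hn
    obtain ⟨x, hx, hxe⟩ := hA ⟨a, ha⟩
    rw [subgroupOf_map_conj, ← Subgroup.subgroupOf_sup hHA (hmapA a), Subgroup.mem_subgroupOf] at hx
    rw [subgroupOf_map_conj, subgroupOf_map_conj, Subgroup.subgroupOf_inj,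
      inf_eq_left.mpr (hmapA _), inf_eq_left.mpr (hmapA _)] at hxe
    refine ⟨(x : G), ?_, ?_⟩
    · rw [e1]; exact hx
    · rw [e1]; exact hxe

end Cfsg.Agent.S3821
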