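import Cfsg.Statements.S3824
import Mathlib
import Cfsg.Agent.S0143
import Cfsg.Agent.Lib.Helper1_Index

set_option autoImplicit false
open Cfsg

namespace Cfsg.Agent.S3824

universe u

theorem aux : ∀ (n : ℕ) (G : Type u) [Group G] [Finite G], Nat.card G = n →
    ∀ (A : Subgroup G), IsMulCommutative A → (∃ k : ℕ, A.index = 2 ^ k) →
    Group.IsSolvable G := by
  intro n
  induction n using Nat.strong_induction_on with
  | _ n ih =>
    intro G _ _ hcard A hA hidx
    obtain ⟨k, hk⟩ := hidx
    by_cases hsimple : IsSimpleGroup G
    · by_cases hA0 : A = ⊥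
      · -- G is a 2-group
        have h2 : IsPGroup 2 G := by
          have : Fact (Nat.Prime 2) := ⟨Nat.prime_two⟩
          apply IsPGroup.of_card (n := k)
          rw [← hk, hA0, Subgroup.index_bot]
        have : Fact (Nat.Prime 2) := ⟨Nat.prime_two⟩
        have hnil : Group.IsNilpotent G := h2.isNilpotent
        infer_instance
      · obtain ⟨g, hg1⟩ := (Subgroup.ne_bot_iff_exists_ne_one).mp hA0
        have hg1' : (g : G) ≠ 1 := fun h => hg1 (Subtype.ext h)
        have hle : A ≤ Subgroup.centralizer ({(g : G)} : Set G) := by
          intro a ha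
          rw [Subgroup.mem_centralizer_iff]
          intro x hx
          rw [Set.mem_singleton_iff] at hx
          subst hx
          have := hA.is_comm.comm ⟨a, ha⟩ g
          have h2 := congrArg (fun z : A => (z : G)) this
          simpa using h2.symm
        have hdvd : (Subgroup.centralizer ({(g : G)} : Set G)).index ∣ 2 ^ k := by
          rw [← hk]; exact Subgroup.index_dvd_of_le hle
        obtain ⟨j, -, hj⟩ := (Nat.dvd_prime_pow Nat.prime_two).mp hdvd
        have hprime := Cfsg.Agent.S0143.result 2 j Nat.prime_two (g : G) hg1' hj
        have : Fact (Nat.card G).Prime := ⟨hprime⟩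
        have hcyc : IsCyclic G := isCyclic_of_prime_card rfl
        have : IsMulCommutative G := inferInstance
        exact Group.isSolvable_of_comm (fun a b => IsMulCommutative.is_comm.comm a b)
    · by_cases htriv : Subsingleton G
      · infer_instance
      · have hnt : Nontrivial G := not_subsingleton_iff_nontrivial.mp htriv
        -- there is a proper nontrivial normal subgroup
        have hex : ∃ N : Subgroup G, N.Normal ∧ N ≠ ⊥ ∧ N ≠ ⊤ := by
          by_contra hcon
          push Not at hcon
          apply hsimple
          exact ⟨fun N hN => by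
            by_cases h : N = ⊥
            · exact Or.inl h
            · exact Or.inr (hcon N hN h)⟩
        obtain ⟨N, hN, hN0, hNtop⟩ := hex
        have hNcard : Nat.card N < n := by
          rw [← hcard]
          have hlt : N < ⊤ := lt_top_iff_ne_top.mpr hNtop
          have h1 : ((N : Set G)) ⊂ ((⊤ : Subgroup G) : Set G) := SetLike.coe_ssubset_coe.mpr hlt
          have h2 := Set.ncard_lt_ncard h1 (Set.toFinite _)
          rw [← Nat.card_coe_set_eq, ← Nat.card_coe_set_eq] at h2
          have h3 : Nat.card ((⊤ : Subgroup G) : Set G) = Nat.card G := Subgroup.card_top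
          rw [h3] at h2
          exact h2
        have hQcard : Nat.card (G ⧸ N) < n := by
          rw [← hcard]
          have h1 := Subgroup.card_eq_card_quotient_mul_card_subgroup N
          have h2 : 1 < Nat.card N := by
            rw [Subgroup.one_lt_card_iff_ne_bot]; exact hN0
          have h3 : 0 < Nat.card (G ⧸ N) := Nat.card_pos
          nlinarith
        -- N is solvable
        have hNsolv : Group.IsSolvable N := by
          refine ih _ hNcard N rfl (A.subgroupOf N) ?_ ?_
          · exact ⟨⟨fun a b => Subtype.ext (Subtype.ext (by
              have := hA.is_comm.comm ⟨(a : N), a.2⟩ ⟨(b : N), b.2⟩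
              exact congrArg (fun z : A => (z : G)) this))⟩⟩
          · have h1 : A.relIndex N ∣ A.relIndex ⊤ :=
              Cfsg.Agent.Lib.Helper1_Index.relIndex_dvd_of_normal A N ⊤ le_top inferInstance
            rw [Subgroup.relIndex_top_right, hk] at h1
            obtain ⟨j, -, hj⟩ := (Nat.dvd_prime_pow Nat.prime_two).mp h1
            exact ⟨j, hj⟩
        have hQsolv : Group.IsSolvable (G ⧸ N) := by
          refine ih _ hQcard (G ⧸ N) rfl (A.map (QuotientGroup.mk' N)) ?_ ?_
          · refine ⟨⟨?_⟩⟩
            rintro ⟨_, a, ha, rfl⟩ ⟨_, b, hb, rfl⟩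
            apply Subtype.ext
            show QuotientGroup.mk' N a * QuotientGroup.mk' N b
              = QuotientGroup.mk' N b * QuotientGroup.mk' N a
            rw [← map_mul, ← map_mul]
            have := hA.is_comm.comm ⟨a, ha⟩ ⟨b, hb⟩
            have h2 : a * b = b * a := congrArg (fun z : A => (z : G)) this
            rw [h2]
          · have h1 : (A.map (QuotientGroup.mk' N)).index ∣ A.index :=
              Subgroup.index_map_dvd A (QuotientGroup.mk'_surjective N)
            rw [hk] at h1
            obtain ⟨j, -, hj⟩ := (Nat.dvd_prime_pow Nat.prime_two).mp h1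
            exact ⟨j, hj⟩
        exact Group.isSolvable_of_ker_le_range N.subtype (QuotientGroup.mk' N) (by
          rw [QuotientGroup.ker_mk', Subgroup.range_subtype])

/-- Every finite group having an abelian subgroup whose index is a power of 2 is solvable. -/
theorem result {G : Type*} [Group G] [Finite G]
    (A : Subgroup G) (hA : IsMulCommutative A) (hidx : ∃ k : ℕ, A.index = 2 ^ k) : Group.IsSolvable G := by
  exact aux _ G rfl A hA hidx

end Cfsg.Agent.S3824
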