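import Cfsg.Statements.S3825
import Mathlib
import Cfsg.Agent.Lib.Helper6_Fpf

set_option autoImplicit false
open Cfsg

namespace Cfsg.Agent.S3825

open scoped commutatorElement

/-- a subgroup all of whose elements are `1` or `y` has at most two elements -/
theorem card_le_two {V : Type*} [Group V] [Finite V] (K : Subgroup V) (y : V)
    (h : ∀ k ∈ K, k = 1 ∨ k = y) : Nat.card K ≤ 2 := by
  classical
  let f : K → Bool := fun k => decide ((k : V) = 1)
  have hinj : Function.Injective f := by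
    intro a b hab
    apply Subtype.ext
    by_cases ha : (a : V) = 1
    · have hb : (b : V) = 1 := by
        have : f b = true := by rw [← hab]; exact decide_eq_true ha
        exact of_decide_eq_true this
      rw [ha, hb]
    · have hb : ¬ (b : V) = 1 := by
        intro hb
        have : f a = true := by rw [hab]; exact decide_eq_true hb
        exact ha (of_decide_eq_true this)
      rcases h a a.2 with h1 | h1
      · exact absurd h1 ha
      · rcases h b b.2 with h2 | h2
        · exact absurd h2 hb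
        · rw [h1, h2]
  have := Nat.card_le_card_of_injective f hinj
  simpa using this

/-- Let U be a subgroup of a finite group H and w an involution of H normalizing U and commuting with exactly two elements of U, the identity and y. If V is a non-cyclic elementary abelian 2-subgroup of U containing y which is normal in U and invariant under w, then V is a Sylow 2-subgroup of U, V has order 4, and U/V is abelian. -/
theorem result {H : Type*} [Group H] [Finite H] (U : Subgroup H) (w : H) (hw : orderOf w = 2)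
    (hwU : w ∈ Subgroup.normalizer (U : Set H)) (y : H) (hy : y ≠ 1) (hyU : y ∈ U)
    (hfix : ∀ u ∈ U, w * u * w⁻¹ = u ↔ (u = 1 ∨ u = y))
    (V : Subgroup H) (hVU : V ≤ U) (hVn : (V.subgroupOf U).Normal) (hVw : ∀ v ∈ V, w * v * w⁻¹ ∈ V)
    (hVe : Cfsg.IsElementaryAbelian 2 V) (hVc : ¬ IsCyclic ↥V) (hyV : y ∈ V) :
    ¬ 2 ∣ V.relIndex U ∧ Nat.card ↥V = 4 ∧ ⁅U, U⁆ ≤ V := by
  obtain ⟨hVcomm, hVexp⟩ := hVe
  have hw2 : w * w = 1 := by rw [← pow_two, ← hw]; exact pow_orderOf_eq_one w
  have hwinv : w⁻¹ = w := inv_eq_of_mul_eq_one_left hw2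
  have hσσ : ∀ u : H, w * (w * u * w⁻¹) * w⁻¹ = u := by
    intro u
    rw [hwinv]
    have : w * (w * u * w) * w = (w * w) * u * (w * w) := by group
    rw [this, hw2]; simp
  have hVinv : ∀ v ∈ V, v⁻¹ = v := by
    intro v hv
    rw [inv_eq_iff_mul_eq_one, ← pow_two]; exact hVexp v hv
  have hVc2 : ∀ a ∈ V, ∀ b ∈ V, a * b = b * a := by
    intro a ha b hb
    have := hVcomm.is_comm.comm ⟨a, ha⟩ ⟨b, hb⟩
    exact congrArg Subtype.val this
  -- the map v ↦ v σ(v)
  let φ : V →* V := MonoidHom.mk' (fun v => ⟨(v : H) * (w * (v : H) * w⁻¹), V.mul_mem v.2 (hVw v v.2)⟩) (by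
    intro a b
    apply Subtype.ext
    show ((a : H) * (b : H)) * (w * ((a : H) * (b : H)) * w⁻¹) =
      ((a : H) * (w * (a : H) * w⁻¹)) * ((b : H) * (w * (b : H) * w⁻¹))
    have e1 : w * ((a : H) * (b : H)) * w⁻¹ = (w * (a : H) * w⁻¹) * (w * (b : H) * w⁻¹) := by group
    rw [e1]
    have c := hVc2 (b : H) b.2 (w * (a : H) * w⁻¹) (hVw a a.2)
    calc (a : H) * (b : H) * ((w * (a : H) * w⁻¹) * (w * (b : H) * w⁻¹))
        = (a : H) * ((b : H) * (w * (a : H) * w⁻¹)) * (w * (b : H) * w⁻¹) := by group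
      _ = (a : H) * ((w * (a : H) * w⁻¹) * (b : H)) * (w * (b : H) * w⁻¹) := by rw [c]
      _ = _ := by group)
  have hφ : ∀ v : V, ((φ v : V) : H) = (v : H) * (w * (v : H) * w⁻¹) := fun v => rfl
  -- fixed points of σ in V
  have hfixV : ∀ v ∈ V, w * v * w⁻¹ = v → (v = 1 ∨ v = y) := fun v hv h => (hfix v (hVU hv)).mp h
  have hker : ∀ k ∈ φ.ker, k = 1 ∨ k = ⟨y, hyV⟩ := by
    intro k hk
    rw [MonoidHom.mem_ker] at hk
    have h1 : (k : H) * (w * (k : H) * w⁻¹) = 1 := by rw [← hφ, hk]; rfl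
    have h2 : w * (k : H) * w⁻¹ = (k : H) := by
      have : w * (k : H) * w⁻¹ = (k : H)⁻¹ := (inv_eq_of_mul_eq_one_right h1).symm
      rw [this, hVinv _ k.2]
    rcases hfixV _ k.2 h2 with h | h
    · left; exact Subtype.ext h
    · right; exact Subtype.ext h
  have hrange : ∀ k ∈ φ.range, k = 1 ∨ k = ⟨y, hyV⟩ := by
    rintro _ ⟨v, rfl⟩
    have h2 : w * ((φ v : V) : H) * w⁻¹ = ((φ v : V) : H) := by
      rw [hφ]
      have e1 : w * ((v : H) * (w * (v : H) * w⁻¹)) * w⁻¹ =
          (w * (v : H) * w⁻¹) * (w * (w * (v : H) * w⁻¹) * w⁻¹) := by group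
      rw [e1, hσσ]
      exact hVc2 _ (hVw v v.2) _ v.2
    rcases hfixV _ (φ v).2 h2 with h | h
    · left; exact Subtype.ext h
    · right; exact Subtype.ext h
  have hck : Nat.card φ.ker ≤ 2 := card_le_two _ _ hker
  have hcr : Nat.card φ.range ≤ 2 := card_le_two _ _ hrange
  have hcV : Nat.card φ.ker * Nat.card φ.range = Nat.card V := by
    rw [← Subgroup.index_ker]; exact Subgroup.card_mul_index _
  -- V is a 2-group
  have hV2 : IsPGroup 2 V := by
    intro v
    refine ⟨1, ?_⟩
    apply Subtype.ext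
    rw [pow_one]
    exact hVexp v v.2
  have : Fact (Nat.Prime 2) := ⟨Nat.prime_two⟩
  obtain ⟨k, hk⟩ := IsPGroup.iff_card.mp hV2
  have hVle : Nat.card V ≤ 4 := by rw [← hcV]; nlinarith
  have hk2 : k = 2 := by
    rcases Nat.lt_or_ge k 3 with h | h
    · interval_cases k
      · exfalso
        rw [pow_zero] at hk
        have : Subsingleton V := (Nat.card_eq_one_iff_unique.mp hk).1
        exact hVc inferInstance
      · exfalso
        rw [pow_one] at hk
        exact hVc (isCyclic_of_prime_card hk)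
      · rfl
    · exfalso
      have : 2 ^ 3 ≤ 2 ^ k := Nat.pow_le_pow_right (by norm_num) h
      omega
  have hV4 : Nat.card V = 4 := by rw [hk, hk2]; norm_num
  have hr2 : Nat.card φ.range = 2 := by
    rw [hV4] at hcV
    have h1 : 0 < Nat.card φ.ker := Nat.card_pos
    nlinarith
  -- v₀ with v₀ σ(v₀) = y
  obtain ⟨v₀, hv₀⟩ : ∃ v₀ : V, (v₀ : H) * (w * (v₀ : H) * w⁻¹) = y := by
    have hnt : Nontrivial φ.range := by
      rw [← Finite.one_lt_card_iff_nontrivial, hr2]; norm_num
    obtain ⟨r, hr⟩ := exists_ne (1 : φ.range)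
    obtain ⟨v, hv⟩ := r.2
    refine ⟨v, ?_⟩
    rcases hrange r r.2 with h | h
    · exfalso; apply hr; exact Subtype.ext h
    · rw [← hφ, hv, h]
  -- Part B : σ is fixed-point-free on U/V
  have hB : ∀ u ∈ U, u⁻¹ * (w * u * w⁻¹) ∈ V → u ∈ V := by
    intro u hu hv
    set v := u⁻¹ * (w * u * w⁻¹) with hvdef
    have hσu : w * u * w⁻¹ = u * v := by rw [hvdef]; group
    have h1 : u = (u * v) * (w * v * w⁻¹) := by
      calc u = w * (w * u * w⁻¹) * w⁻¹ := (hσσ u).symm
        _ = w * (u * v) * w⁻¹ := by rw [hσu]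
        _ = (w * u * w⁻¹) * (w * v * w⁻¹) := by group
        _ = (u * v) * (w * v * w⁻¹) := by rw [hσu]
    have h2 : v * (w * v * w⁻¹) = 1 := by
      have : u * (v * (w * v * w⁻¹)) = u * 1 := by rw [mul_one, ← mul_assoc]; exact h1.symm
      exact mul_left_cancel this
    have h3 : w * v * w⁻¹ = v := by
      have : w * v * w⁻¹ = v⁻¹ := (inv_eq_of_mul_eq_one_right h2).symm
      rw [this, hVinv v hv]
    rcases hfixV v hv h3 with hv1 | hvy
    · -- σ u = u
      rw [hv1, mul_one] at hσu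
      rcases (hfix u hu).mp hσu with h | h
      · rw [h]; exact V.one_mem
      · rw [h]; exact hyV
    · -- σ u = u y
      rw [hvy] at hσu
      have hσv₀ : w * (v₀ : H) * w⁻¹ = (v₀ : H) * y := by
        have : w * (v₀ : H) * w⁻¹ = (v₀ : H)⁻¹ * y := by rw [← hv₀]; group
        rw [this, hVinv _ v₀.2]
      have h4 : w * (u * (v₀ : H)) * w⁻¹ = u * (v₀ : H) := by
        have : w * (u * (v₀ : H)) * w⁻¹ = (w * u * w⁻¹) * (w * (v₀ : H) * w⁻¹) := by group
        rw [this, hσu, hσv₀]
        have c := hVc2 y hyV (v₀ : H) v₀.2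
        have hy2 : y * y = 1 := by rw [← pow_two]; exact hVexp y hyV
        calc u * y * ((v₀ : H) * y) = u * (y * (v₀ : H)) * y := by group
          _ = u * ((v₀ : H) * y) * y := by rw [c]
          _ = u * (v₀ : H) * (y * y) := by group
          _ = u * (v₀ : H) := by rw [hy2, mul_one]
      have h5 : u * (v₀ : H) ∈ V := by
        rcases (hfix _ (U.mul_mem hu (hVU v₀.2))).mp h4 with h | h
        · rw [h]; exact V.one_mem
        · rw [h]; exact hyV
      have : u = (u * (v₀ : H)) * (v₀ : H)⁻¹ := by group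
      rw [this]
      exact V.mul_mem h5 (V.inv_mem v₀.2)
  -- the quotient
  let σU : U →* U := MonoidHom.mk' (fun u => ⟨w * (u : H) * w⁻¹,
      (Subgroup.mem_normalizer_iff.mp hwU u).mp u.2⟩) (by
    intro a b
    apply Subtype.ext
    show w * ((a : H) * (b : H)) * w⁻¹ = (w * (a : H) * w⁻¹) * (w * (b : H) * w⁻¹)
    group)
  have hσU : ∀ u : U, ((σU u : U) : H) = w * (u : H) * w⁻¹ := fun u => rfl
  have hle : V.subgroupOf U ≤ (V.subgroupOf U).comap σU := by
    intro u hu
    rw [Subgroup.mem_comap, Subgroup.mem_subgroupOf, hσU]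
    exact hVw _ (Subgroup.mem_subgroupOf.mp hu)
  let σbar : (↥U ⧸ V.subgroupOf U) →* (↥U ⧸ V.subgroupOf U) :=
    QuotientGroup.map (V.subgroupOf U) (V.subgroupOf U) σU hle
  have hσbar : ∀ u : U, σbar (u : ↥U ⧸ V.subgroupOf U) = ((σU u : U) : ↥U ⧸ V.subgroupOf U) :=
    fun u => rfl
  have h2 : ∀ q, σbar (σbar q) = q := by
    intro q
    induction q using QuotientGroup.induction_on with
    | H u =>
      rw [hσbar, hσbar]
      congr 1
      apply Subtype.ext
      rw [hσU, hσU]
      exact hσσ _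
  have hfp : ∀ q, σbar q = q → q = 1 := by
    intro q
    induction q using QuotientGroup.induction_on with
    | H u =>
      intro h
      rw [hσbar] at h
      have h1 : u⁻¹ * σU u ∈ V.subgroupOf U := QuotientGroup.eq.mp h.symm
      rw [Subgroup.mem_subgroupOf] at h1
      have h3 : (u : H)⁻¹ * (w * (u : H) * w⁻¹) ∈ V := by
        simpa [hσU] using h1
      have h4 := hB (u : H) u.2 h3
      rw [QuotientGroup.eq_one_iff, Subgroup.mem_subgroupOf]
      exact h4
  obtain ⟨-, hcommQ, hoddQ⟩ := Cfsg.Agent.Lib.Helper6_Fpf.fpf_involution σbar h2 hfp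
  refine ⟨?_, hV4, ?_⟩
  · rw [Subgroup.relIndex, Subgroup.index_eq_card]
    intro hdvd
    rw [← even_iff_two_dvd, ← Nat.not_odd_iff_even] at hdvd
    exact hdvd hoddQ
  · rw [Subgroup.commutator_le]
    intro a ha b hb
    have h1 := hcommQ ((⟨a, ha⟩ : U) : ↥U ⧸ V.subgroupOf U) ((⟨b, hb⟩ : U) : ↥U ⧸ V.subgroupOf U)
    have h3 : ((⁅(⟨a, ha⟩ : U), (⟨b, hb⟩ : U)⁆ : U) : ↥U ⧸ V.subgroupOf U) = 1 := by
      rw [commutatorElement_def]
      rw [QuotientGroup.mk_mul, QuotientGroup.mk_mul, QuotientGroup.mk_mul, QuotientGroup.mk_inv,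
        QuotientGroup.mk_inv, h1]
      group
    rw [QuotientGroup.eq_one_iff, Subgroup.mem_subgroupOf] at h3
    exact h3

end Cfsg.Agent.S3825
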