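import Mathlib
import Cfsg.Statements.S3838
import Cfsg.Agent.Lib.Helper7_Tate
import Cfsg.Agent.Lib.Helper7_NPC

set_option autoImplicit false

open Cfsg

namespace Cfsg.Agent.S3838

open Subgroup Cfsg.Agent.Lib.Helper7_Tate Cfsg.Agent.Lib.Helper7_NPC
  Cfsg.Agent.Lib.Helper3_PResidual Cfsg.Agent.Lib.Helper7_Basic
open scoped commutatorElement

/-- a group with a normal Sylow `p`-subgroup and a normal `p`-complement is `C(P) · P`. -/
theorem exists_mul_of_npc {N : Type*} [Group N] [Finite N] {p : ℕ} [Fact p.Prime]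
    (P : Sylow p N) [hPn : (P : Subgroup N).Normal] (h : NPC p N) (n : N) :
    ∃ l ∈ centralizer ((P : Subgroup N) : Set N), ∃ y ∈ (P : Subgroup N), n = l * y := by
  obtain ⟨L, hLn, hLc, k, hk⟩ := h
  have hC : L.IsComplement' (P : Subgroup N) := NPC.isComplement' hLc hk P
  obtain ⟨⟨⟨l, hl⟩, ⟨y, hy⟩⟩, hly, -⟩ := hC.existsUnique n
  refine ⟨l, ?_, y, hy, hly.symm⟩
  rw [mem_centralizer_iff]
  intro x hx
  have h1 : l * x * l⁻¹ * x⁻¹ ∈ L ⊓ (P : Subgroup N) := by
    refine Subgroup.mem_inf.mpr ⟨?_, ?_⟩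
    · have : l * x * l⁻¹ * x⁻¹ = l * (x * l⁻¹ * x⁻¹) := by group
      rw [this]
      exact mul_mem hl (hLn.conj_mem _ (inv_mem hl) x)
    · exact mul_mem (hPn.conj_mem _ hx l) (inv_mem hx)
  rw [hC.disjoint.eq_bot, mem_bot] at h1
  have : x * l = (l * x * l⁻¹ * x⁻¹)⁻¹ * (l * x) := by group
  rw [this, h1, inv_one, one_mul]

/-- the abstract core: `Q ⊴ H`, `P' ≤ Q ≤ Φ(P)`, `N_H(P) = C_H(P) P`  ⇒  `H` has a normal
`p`-complement (Burnside in `H/Q`, then Tate). -/
theorem core {H : Type*} [Group H] [Finite H] {p : ℕ} [Fact p.Prime] (P : Sylow p H)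
    (Q : Subgroup H) [Q.Normal] (hQP : Q ≤ P)
    (hcomm : ∀ x ∈ (P : Subgroup H), ∀ y ∈ (P : Subgroup H), x * y * x⁻¹ * y⁻¹ ∈ Q)
    (hfr : Q ≤ (frattini P).map (P : Subgroup H).subtype)
    (hA : ∀ n ∈ normalizer ((P : Subgroup H) : Set H),
      ∃ l ∈ centralizer ((P : Subgroup H) : Set H), ∃ y ∈ (P : Subgroup H), n = l * y) :
    NPC p H := by
  have hπ : Function.Surjective (QuotientGroup.mk' Q) := QuotientGroup.mk'_surjective _
  have hPbar : ((P.mapSurjective hπ : Sylow p (H ⧸ Q)) : Subgroup (H ⧸ Q)) =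
      (P : Subgroup H).map (QuotientGroup.mk' Q) := Sylow.coe_mapSurjective _ _
  have hsub : ∀ b : H, QuotientGroup.mk' Q b ∈
        normalizer (((P.mapSurjective hπ : Sylow p (H ⧸ Q)) : Subgroup (H ⧸ Q)) : Set (H ⧸ Q)) →
      ∀ x ∈ (P : Subgroup H), b * x * b⁻¹ ∈ (P : Subgroup H) := by
    intro b hb x hx
    have h3 : QuotientGroup.mk' Q x ∈
        ((P.mapSurjective hπ : Sylow p (H ⧸ Q)) : Subgroup (H ⧸ Q)) := by
      rw [hPbar]
      exact mem_map_of_mem _ hx
    have h4 := (mem_normalizer_iff.mp hb _).mp h3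
    rw [hPbar] at h4
    obtain ⟨z, hz, hzb⟩ := h4
    have h5 : z⁻¹ * (b * x * b⁻¹) ∈ Q := by
      rw [← QuotientGroup.eq]
      rw [QuotientGroup.mk'_apply] at hzb
      rw [hzb]
      simp
    have e : b * x * b⁻¹ = z * (z⁻¹ * (b * x * b⁻¹)) := by group
    rw [e]
    exact mul_mem hz (hQP h5)
  have hle : normalizer (((P.mapSurjective hπ : Sylow p (H ⧸ Q)) : Subgroup (H ⧸ Q)) :
        Set (H ⧸ Q)) ≤
      centralizer (((P.mapSurjective hπ : Sylow p (H ⧸ Q)) : Subgroup (H ⧸ Q)) : Set (H ⧸ Q)) := by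
    intro abar habar
    obtain ⟨a, rfl⟩ := hπ abar
    have haN : a ∈ normalizer ((P : Subgroup H) : Set H) := by
      rw [mem_normalizer_iff]
      intro x
      refine ⟨hsub a habar x, fun hx => ?_⟩
      have := hsub a⁻¹ (by rw [map_inv]; exact inv_mem habar) _ hx
      have e : a⁻¹ * (a * x * a⁻¹) * a⁻¹⁻¹ = x := by group
      rwa [e] at this
    obtain ⟨l, hl, y, hy, hly⟩ := hA _ haN
    rw [mem_centralizer_iff]
    intro xbar hxbar
    rw [SetLike.mem_coe, hPbar] at hxbar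
    obtain ⟨x, hxP, rfl⟩ := hxbar
    rw [← map_mul, ← map_mul, QuotientGroup.mk'_apply, QuotientGroup.mk'_apply, QuotientGroup.eq]
    have hlx : x⁻¹ * l = l * x⁻¹ := (mem_centralizer_iff.mp hl) _ (inv_mem hxP)
    have e : (x * a)⁻¹ * (a * x) = y⁻¹ * x⁻¹ * y⁻¹⁻¹ * (x⁻¹)⁻¹ := by
      rw [hly]
      have : (x * (l * y))⁻¹ * (l * y * x) = y⁻¹ * (l⁻¹ * (x⁻¹ * l)) * y * x := by group
      rw [this, hlx]
      group
    rw [e]
    exact hcomm _ (inv_mem hy) _ (inv_mem hxP)
  -- Burnside's transfer theorem in the quotient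
  have hB := MonoidHom.ker_transferSylow_isComplement' (P.mapSurjective hπ) hle
  obtain ⟨Mbar, hMn, hMc, k, hMk⟩ := (exists_complement_iff_npc
    (P.mapSurjective hπ)).mp ⟨_, inferInstance, hB⟩
  haveI := hMn
  have hMidx : (Mbar.comap (QuotientGroup.mk' Q)).index = p ^ k := by
    rw [index_comap_of_surjective _ hπ, hMk]
  have hMP : Mbar.comap (QuotientGroup.mk' Q) ⊓ (P : Subgroup H) ≤
      (frattini P).map (P : Subgroup H).subtype := by
    intro y hy
    obtain ⟨hyM, hyP⟩ := Subgroup.mem_inf.mp hy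
    rw [mem_comap] at hyM
    have hyPbar : QuotientGroup.mk' Q y ∈
        ((P.mapSurjective hπ : Sylow p (H ⧸ Q)) : Subgroup (H ⧸ Q)) := by
      rw [hPbar]
      exact mem_map_of_mem _ hyP
    have hone : QuotientGroup.mk' Q y = 1 := by
      have h3 : (⟨_, hyM⟩ : Mbar) ^ Nat.card Mbar = 1 := pow_card_eq_one'
      have h4 : (QuotientGroup.mk' Q y) ^ Nat.card Mbar = 1 := congrArg Subtype.val h3
      obtain ⟨j, hj⟩ := (P.mapSurjective hπ).isPGroup' ⟨_, hyPbar⟩
      have h5 : (QuotientGroup.mk' Q y) ^ (p ^ j) = 1 := congrArg Subtype.val hj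
      have h6 : orderOf (QuotientGroup.mk' Q y) ∣ Nat.gcd (Nat.card Mbar) (p ^ j) :=
        Nat.dvd_gcd (orderOf_dvd_of_pow_eq_one h4) (orderOf_dvd_of_pow_eq_one h5)
      rw [Nat.Coprime.pow_right j hMc] at h6
      exact orderOf_eq_one_iff.mp (Nat.dvd_one.mp h6)
    have hyQ : y ∈ Q := by
      rw [QuotientGroup.mk'_apply, QuotientGroup.eq_one_iff] at hone
      exact hone
    exact hfr hyQ
  obtain ⟨K, hKn, hKM, hKc, j, hj⟩ := exists_normal_pComplement P
    (Mbar.comap (QuotientGroup.mk' Q)) hMP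
  refine ⟨K, hKn, hKc, j + k, ?_⟩
  rw [← relIndex_mul_index hKM, hj, hMidx, pow_add]

/-- Let G be a finite group with Sylow p-subgroup P such that N_G(P) has a normal p-complement. Then N_G(Q) has a normal p-complement for every subgroup Q with [P, P] ≤ Q ≤ Φ(P). -/
theorem result {G : Type*} [Group G] [Finite G] {p : ℕ} [Fact p.Prime] (P : Sylow p G) (hN : Cfsg.HasNormalPComplement p ↥(Subgroup.normalizer ((P : Subgroup G) : Set G))) (Q : Subgroup G) (h1 : (commutator ↥(P : Subgroup G)).map (P : Subgroup G).subtype ≤ Q) (h2 : Q ≤ (frattini ↥(P : Subgroup G)).map (P : Subgroup G).subtype) : Cfsg.HasNormalPComplement p ↥(Subgroup.normalizer (Q : Set G)) := by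
  have hp := (Fact.out : p.Prime)
  have hQP : Q ≤ P := h2.trans (map_subtype_le _)
  have hcomm : ∀ x ∈ (P : Subgroup G), ∀ y ∈ (P : Subgroup G), x * y * x⁻¹ * y⁻¹ ∈ Q := by
    intro x hx y hy
    apply h1
    refine ⟨⁅(⟨x, hx⟩ : (P : Subgroup G)), ⟨y, hy⟩⁆, ?_, ?_⟩
    · rw [SetLike.mem_coe, _root_.commutator_def]
      exact commutator_mem_commutator (mem_top _) (mem_top _)
    · rw [commutatorElement_def]; rfl
  have hPnormQ : ∀ y ∈ (P : Subgroup G), ∀ q ∈ Q, y * q * y⁻¹ ∈ Q := by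
    intro y hy q hq
    have : y * q * y⁻¹ = (y * q * y⁻¹ * q⁻¹) * q := by group
    rw [this]
    exact mul_mem (hcomm y hy q (hQP hq)) hq
  have hPH : (P : Subgroup G) ≤ normalizer (Q : Set G) := by
    intro y hy
    rw [mem_normalizer_iff]
    intro h
    refine ⟨hPnormQ y hy h, fun hh => ?_⟩
    have := hPnormQ y⁻¹ (inv_mem hy) _ hh
    have e : y⁻¹ * (y * h * y⁻¹) * y⁻¹⁻¹ = h := by group
    rwa [e] at this
  -- structure of N_G(P)
  have hA : ∀ n ∈ normalizer ((P : Subgroup G) : Set G),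
      ∃ l ∈ centralizer ((P : Subgroup G) : Set G), ∃ y ∈ (P : Subgroup G), n = l * y := by
    intro n hn
    haveI : ((P.subtype le_normalizer : Sylow p (normalizer ((P : Subgroup G) : Set G))) :
        Subgroup (normalizer ((P : Subgroup G) : Set G))).Normal := by
      rw [Sylow.coe_subtype]; infer_instance
    obtain ⟨l, hl, y, hy, hly⟩ := exists_mul_of_npc (P.subtype le_normalizer)
      (hasNormalPComplement_iff_npc.mp hN) ⟨n, hn⟩
    refine ⟨l, ?_, y, ?_, congrArg Subtype.val hly⟩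
    · rw [mem_centralizer_iff]
      intro x hx
      rw [mem_centralizer_iff] at hl
      have := hl ⟨x, le_normalizer hx⟩ (by
        rw [SetLike.mem_coe, Sylow.coe_subtype, mem_subgroupOf]; exact hx)
      exact congrArg Subtype.val this
    · have : y ∈ ((P : Subgroup G).subgroupOf (normalizer ((P : Subgroup G) : Set G))) := by
        rw [← Sylow.coe_subtype]; exact hy
      exact mem_subgroupOf.mp this
  -- work inside H = N_G(Q)
  haveI hQHn : (Q.subgroupOf (normalizer (Q : Set G))).Normal := normal_in_normalizer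
  have hPHc : ((P.subtype hPH : Sylow p (normalizer (Q : Set G))) :
      Subgroup (normalizer (Q : Set G))) = (P : Subgroup G).subgroupOf (normalizer (Q : Set G)) :=
    Sylow.coe_subtype _ _
  have hmemP : ∀ x : normalizer (Q : Set G),
      x ∈ ((P.subtype hPH : Sylow p (normalizer (Q : Set G))) :
        Subgroup (normalizer (Q : Set G))) ↔ (x : G) ∈ (P : Subgroup G) := by
    intro x
    rw [hPHc, mem_subgroupOf]
  apply hasNormalPComplement_iff_npc.mpr
  refine core (P.subtype hPH) (Q.subgroupOf (normalizer (Q : Set G))) ?_ ?_ ?_ ?_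
  · intro x hx
    rw [hmemP]
    exact hQP (mem_subgroupOf.mp hx)
  · intro x hx y hy
    rw [mem_subgroupOf]
    exact hcomm _ ((hmemP x).mp hx) _ ((hmemP y).mp hy)
  · intro y hy
    have hyQ : (y : G) ∈ Q := mem_subgroupOf.mp hy
    obtain ⟨w, hw, hwy⟩ := h2 hyQ
    let e : (P : Subgroup G) →* ((P.subtype hPH : Sylow p (normalizer (Q : Set G))) :
        Subgroup (normalizer (Q : Set G))) :=
      { toFun := fun x => ⟨⟨x, hPH x.2⟩, (hmemP _).mpr x.2⟩
        map_one' := rfl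
        map_mul' := fun _ _ => rfl }
    have he : Function.Surjective e := by
      rintro ⟨z, hz⟩
      exact ⟨⟨z, (hmemP z).mp hz⟩, rfl⟩
    have h7 := frattini_le_comap_frattini_of_surjective he hw
    rw [mem_comap] at h7
    refine ⟨e w, h7, ?_⟩
    apply Subtype.ext
    exact hwy
  · intro n hn
    have hnN : (n : G) ∈ normalizer ((P : Subgroup G) : Set G) := by
      rw [mem_normalizer_iff] at hn ⊢
      intro x
      constructor
      · intro hx
        have := (hn ⟨x, hPH hx⟩).mp ((hmemP _).mpr hx)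
        exact (hmemP _).mp this
      · intro hx
        have hxH : x ∈ normalizer (Q : Set G) := by
          have h3 : (n : G)⁻¹ * ((n : G) * x * (n : G)⁻¹) * (n : G) ∈ normalizer (Q : Set G) :=
            mul_mem (mul_mem (inv_mem n.2) (hPH hx)) n.2
          have e : (n : G)⁻¹ * ((n : G) * x * (n : G)⁻¹) * (n : G) = x := by group
          rwa [e] at h3
        have := (hn ⟨x, hxH⟩).mpr ((hmemP _).mpr hx)
        exact (hmemP _).mp this
    obtain ⟨l, hl, y, hy, hly⟩ := hA _ hnN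
    have hlH : l ∈ normalizer (Q : Set G) := by
      have : l = (n : G) * y⁻¹ := by rw [hly]; group
      rw [this]
      exact mul_mem n.2 (inv_mem (hPH hy))
    refine ⟨⟨l, hlH⟩, ?_, ⟨y, hPH hy⟩, (hmemP _).mpr hy, Subtype.ext hly⟩
    rw [mem_centralizer_iff]
    intro x hx
    apply Subtype.ext
    exact (mem_centralizer_iff.mp hl) _ ((hmemP x).mp hx)

end Cfsg.Agent.S3838
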