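import Mathlib
import Cfsg.Statements.S3839
import Cfsg.Agent.Lib.Helper7_NPC
import Cfsg.Agent.Lib.Helper7_Basic
import Cfsg.Agent.Lib.Helper4_Stab
import Cfsg.Agent.Lib.Helper4_Fusion2
import Cfsg.Agent.Lib.Helper5_Sylow
import Cfsg.Agent.Lib.Helper6_Sylow
import Cfsg.Agent.Lib.Helper1_Index

set_option autoImplicit false
open Cfsg

namespace Cfsg.Agent.S3839

open Subgroup
open scoped commutatorElement
open Cfsg.Agent.Lib.Helper7_NPC

section Gen

variable {G : Type*} [Group G]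

/-- the `p'`-elements of `N_G(H)` centralize `H`. -/
def Good (p : ℕ) (H : Subgroup G) : Prop :=
  ∀ x ∈ normalizer (H : Set G), (orderOf x).Coprime p → x ∈ centralizer (H : Set G)

theorem good_of_conj (p : ℕ) (H : Subgroup G) (t : G)
    (h : Good p (H.map (MulAut.conj t).toMonoidHom)) : Good p H := by
  intro g hg hcop
  have h1 : t * g * t⁻¹ ∈
      normalizer ((H.map (MulAut.conj t).toMonoidHom : Subgroup G) : Set G) := by
    apply Subgroup.le_normalizer_map (MulAut.conj t).toMonoidHom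
    exact ⟨g, hg, by simp⟩
  have h2 := h (t * g * t⁻¹) h1 (by rwa [Cfsg.Agent.Lib.Helper7_Basic.orderOf_conj'])
  rw [Subgroup.mem_centralizer_iff] at h2 ⊢
  intro x hx
  have h3 := h2 (t * x * t⁻¹) ⟨x, hx, by simp⟩
  have h4 : t * (x * g) * t⁻¹ = t * (g * x) * t⁻¹ := by
    calc t * (x * g) * t⁻¹ = t * x * t⁻¹ * (t * g * t⁻¹) := by group
      _ = t * g * t⁻¹ * (t * x * t⁻¹) := h3
      _ = _ := by group
  exact mul_left_cancel (mul_right_cancel h4)

/-- The stability group of the chain `1 ≤ E ≤ H` inside `N_G(H)`. -/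
def stab (H E : Subgroup G) : Subgroup G where
  carrier := {l | l ∈ normalizer (H : Set G) ∧ (∀ h ∈ H, ⁅h, l⁆ ∈ E) ∧
    l ∈ centralizer (E : Set G)}
  one_mem' := by
    refine ⟨one_mem _, ?_, one_mem _⟩
    intro h _
    simp only [commutatorElement_def, mul_one, inv_one, mul_inv_cancel]
    exact E.one_mem
  mul_mem' := by
    rintro a b ⟨ha1, ha2, ha3⟩ ⟨hb1, hb2, hb3⟩
    refine ⟨mul_mem ha1 hb1, ?_, mul_mem ha3 hb3⟩
    intro h hh
    have e : ⁅h, a * b⁆ = ⁅h, a⁆ * (a * ⁅h, b⁆ * a⁻¹) := by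
      simp only [commutatorElement_def]; group
    rw [e]
    have h1 : a * ⁅h, b⁆ * a⁻¹ = ⁅h, b⁆ := by
      have := (Subgroup.mem_centralizer_iff.mp ha3) _ (hb2 h hh)
      rw [← this]; group
    rw [h1]; exact E.mul_mem (ha2 h hh) (hb2 h hh)
  inv_mem' := by
    rintro a ⟨ha1, ha2, ha3⟩
    refine ⟨inv_mem ha1, ?_, inv_mem ha3⟩
    intro h hh
    have e : ⁅h, a⁻¹⁆ = a⁻¹ * (⁅h, a⁆)⁻¹ * a := by
      simp only [commutatorElement_def]; group
    rw [e]
    have hz : (⁅h, a⁆)⁻¹ ∈ E := E.inv_mem (ha2 h hh)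
    have := (Subgroup.mem_centralizer_iff.mp ha3) _ hz
    have h1 : a⁻¹ * (⁅h, a⁆)⁻¹ * a = (⁅h, a⁆)⁻¹ := by
      rw [mul_assoc, this]; group
    rw [h1]; exact hz

theorem mem_stab {H E : Subgroup G} {l : G} : l ∈ stab H E ↔
    l ∈ normalizer (H : Set G) ∧ (∀ h ∈ H, ⁅h, l⁆ ∈ E) ∧ l ∈ centralizer (E : Set G) := Iff.rfl

theorem stab_le_normalizer (H E : Subgroup G) : stab H E ≤ normalizer (H : Set G) :=
  fun _ h => h.1

theorem centralizer_le_stab (H E : Subgroup G) (hE : E ≤ H) :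
    centralizer (H : Set G) ≤ stab H E := by
  intro l hl
  refine ⟨centralizer_le_normalizer _ hl, ?_, centralizer_le (by exact_mod_cast hE) hl⟩
  intro h hh
  have := (Subgroup.mem_centralizer_iff.mp hl) h hh
  have e : ⁅h, l⁆ = 1 := by
    rw [commutatorElement_def, this]; group
  rw [e]; exact E.one_mem

theorem conj_mem_stab {H E : Subgroup G} {n l : G} (hnH : n ∈ normalizer (H : Set G))
    (hnE : n ∈ normalizer (E : Set G)) (hl : l ∈ stab H E) : n * l * n⁻¹ ∈ stab H E := by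
  obtain ⟨hl1, hl2, hl3⟩ := hl
  refine ⟨mul_mem (mul_mem hnH hl1) (inv_mem hnH), ?_, ?_⟩
  · intro h hh
    have h1 : n⁻¹ * h * n ∈ H := by
      have := (mem_normalizer_iff.mp (inv_mem hnH) h).mp hh
      simpa using this
    have h2 := hl2 _ h1
    have h3 : n * ⁅n⁻¹ * h * n, l⁆ * n⁻¹ ∈ E := (mem_normalizer_iff.mp hnE _).mp h2
    have e : ⁅h, n * l * n⁻¹⁆ = n * ⁅n⁻¹ * h * n, l⁆ * n⁻¹ := by
      simp only [commutatorElement_def]; group
    rw [e]; exact h3
  · rw [Subgroup.mem_centralizer_iff]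
    intro z hz
    have h1 : n⁻¹ * z * n ∈ E := by
      have := (mem_normalizer_iff.mp (inv_mem hnE) z).mp hz
      simpa using this
    have h2 := (Subgroup.mem_centralizer_iff.mp hl3) _ h1
    calc z * (n * l * n⁻¹) = n * ((n⁻¹ * z * n) * l) * n⁻¹ := by group
      _ = n * (l * (n⁻¹ * z * n)) * n⁻¹ := by rw [h2]
      _ = n * l * n⁻¹ * z := by group

theorem conj_mem_centralizer {E : Subgroup G} {n l : G} (hnE : n ∈ normalizer (E : Set G))
    (hl : l ∈ centralizer (E : Set G)) : n * l * n⁻¹ ∈ centralizer (E : Set G) := by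
  rw [Subgroup.mem_centralizer_iff]
  intro z hz
  have h1 : n⁻¹ * z * n ∈ E := by
    have := (mem_normalizer_iff.mp (inv_mem hnE) z).mp hz
    simpa using this
  have h2 := (Subgroup.mem_centralizer_iff.mp hl) _ h1
  calc z * (n * l * n⁻¹) = n * ((n⁻¹ * z * n) * l) * n⁻¹ := by group
    _ = n * (l * (n⁻¹ * z * n)) * n⁻¹ := by rw [h2]
    _ = n * l * n⁻¹ * z := by group

theorem stab_centralizes [Finite G] {p : ℕ} [Fact p.Prime] {H E : Subgroup G}
    (hE : IsPGroup p E) {x : G} (hx : x ∈ stab H E) (hcop : (orderOf x).Coprime p) :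
    x ∈ centralizer (H : Set G) := by
  obtain ⟨_, hx2, hx3⟩ := hx
  have hc : ∀ z ∈ E, x * z = z * x := fun z hz =>
    ((Subgroup.mem_centralizer_iff.mp hx3) z hz).symm
  have hp : ∀ z ∈ E, ∃ k : ℕ, orderOf z = p ^ k := by
    intro z hz
    obtain ⟨k, hk⟩ := (IsPGroup.iff_orderOf.mp hE) ⟨z, hz⟩
    exact ⟨k, by rw [← hk, Subgroup.orderOf_mk]⟩
  have := Cfsg.Agent.Lib.Helper4_Stab.stab_step x hcop H E hx2 hc hp
  rw [Subgroup.mem_centralizer_iff]
  intro h hh
  exact (this h hh).symm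

theorem pow_mul_mem {C : Subgroup G} {c x : G} (hc : c ∈ C) (hx : x ∈ normalizer (C : Set G))
    (n : ℕ) : (c * x) ^ n * (x ^ n)⁻¹ ∈ C := by
  induction n with
  | zero => simp
  | succ n ih =>
    have h1 : x ^ n * c * (x ^ n)⁻¹ ∈ C := (mem_normalizer_iff.mp (pow_mem hx n) c).mp hc
    have e : (c * x) ^ (n + 1) * (x ^ (n + 1))⁻¹ =
        ((c * x) ^ n * (x ^ n)⁻¹) * (x ^ n * c * (x ^ n)⁻¹) := by
      rw [pow_succ, pow_succ]; group
    rw [e]; exact C.mul_mem ih h1

theorem not_dvd_relIndex_inf [Finite G] {p : ℕ} {T C L : Subgroup G} (hTL : T ≤ L) (hCL : C ≤ L)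
    (hn : (C.subgroupOf L).Normal) (hT : ¬ p ∣ T.relIndex L) : ¬ p ∣ (T ⊓ C).relIndex C := by
  have h1 := Cfsg.Agent.Lib.Helper1_Index.second_iso_rel C T L hCL hTL hn
  have h2 := Subgroup.relIndex_mul_relIndex T (C ⊔ T) L le_sup_right (sup_le hCL hTL)
  intro h
  apply hT
  rw [← h2, h1, inf_comm]
  exact Dvd.dvd.mul_right h _

end Gen

section Main

variable {G : Type*} [Group G] [Finite G] {p : ℕ} [Fact p.Prime] (S : Sylow p G) (D : Subgroup G)

omit [Fact p.Prime] in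
theorem normalizer_le_normalizer_inf (hD : Cfsg.IsStronglyClosed D (S : Subgroup G))
    (H : Subgroup G) (hHS : H ≤ S) :
    normalizer (H : Set G) ≤ normalizer ((H ⊓ D : Subgroup G) : Set G) := by
  intro n hn
  apply Cfsg.Agent.Lib.Helper6_Sylow.mem_normalizer_of_conj_le
  intro y hy
  have h1 : n * y * n⁻¹ ∈ H := (mem_normalizer_iff.mp hn y).mp hy.1
  exact Subgroup.mem_inf.mpr ⟨h1, hD.2 y hy.2 n (hHS h1)⟩

theorem caseA (hD : Cfsg.IsStronglyClosed D (S : Subgroup G)) (H : Subgroup G) (hHS : H ≤ S)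
    (hnpc : Cfsg.HasNormalPComplement p ↥(normalizer ((H ⊓ D : Subgroup G) : Set G))) :
    Good p H := by
  intro x hx hcop
  have hNE := normalizer_le_normalizer_inf S D hD H hHS
  have hF : FrobHyp p ↥(normalizer ((H ⊓ D : Subgroup G) : Set G)) :=
    frobHyp_of_npc (hasNormalPComplement_iff_npc.mp hnpc)
  have hQ : IsPGroup p (H.subgroupOf (normalizer ((H ⊓ D : Subgroup G) : Set G))) :=
    (S.isPGroup'.to_le hHS).comap_subtype
  have hxn : (⟨x, hNE hx⟩ : normalizer ((H ⊓ D : Subgroup G) : Set G)) ∈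
      normalizer ((H.subgroupOf (normalizer ((H ⊓ D : Subgroup G) : Set G)) : Subgroup _) :
        Set _) := by
    rw [mem_normalizer_iff]
    intro y
    rw [mem_subgroupOf, mem_subgroupOf]
    exact (mem_normalizer_iff.mp hx) y
  have hord : orderOf (⟨x, hNE hx⟩ : normalizer ((H ⊓ D : Subgroup G) : Set G)) = orderOf x :=
    Subgroup.orderOf_mk _ _
  have key := hF _ hQ _ hxn (by rwa [hord])
  rw [mem_centralizer_iff] at key ⊢
  intro h hh
  have := key ⟨h, hNE (le_normalizer hh)⟩ (mem_subgroupOf.mpr hh)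
  exact congrArg Subtype.val this

theorem step (hD : Cfsg.IsStronglyClosed D (S : Subgroup G)) (H : Subgroup G) (hHS : H ≤ S)
    (hfn : ¬ p ∣ ((S : Subgroup G) ⊓ normalizer (H : Set G)).relIndex (normalizer (H : Set G)))
    (hB : ¬ D ⊓ centralizer ((H ⊓ D : Subgroup G) : Set G) ≤ H ⊓ D)
    (IH : ∀ H₁ : Subgroup G, H₁ ≤ S → H < H₁ → Good p H₁) : Good p H := by
  have hp : p.Prime := Fact.out
  intro x hx hcop
  have hNE := normalizer_le_normalizer_inf S D hD H hHS
  have hEp : IsPGroup p (H ⊓ D : Subgroup G) := S.isPGroup'.to_le (inf_le_left.trans hHS)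
  suffices hxC : x ∈ stab H (H ⊓ D) from stab_centralizes hEp hxC hcop
  have hCL : stab H (H ⊓ D) ≤ normalizer (H : Set G) := stab_le_normalizer H _
  have hLC : normalizer (H : Set G) ≤ normalizer ((stab H (H ⊓ D) : Subgroup G) : Set G) := by
    intro n hn
    apply Cfsg.Agent.Lib.Helper6_Sylow.mem_normalizer_of_conj_le
    intro l hl
    exact conj_mem_stab hn (hNE hn) hl
  have hCn : ((stab H (H ⊓ D)).subgroupOf (normalizer (H : Set G))).Normal :=
    (normal_subgroupOf_iff_le_normalizer hCL).mpr hLC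
  have hPidx : ¬ p ∣ (((S : Subgroup G) ⊓ normalizer (H : Set G)) ⊓ stab H (H ⊓ D)).relIndex
      (stab H (H ⊓ D)) := not_dvd_relIndex_inf inf_le_right hCL hCn hfn
  have hPS : ((S : Subgroup G) ⊓ normalizer (H : Set G)) ⊓ stab H (H ⊓ D) ≤ S :=
    inf_le_left.trans inf_le_left
  have hPp : IsPGroup p (((S : Subgroup G) ⊓ normalizer (H : Set G)) ⊓ stab H (H ⊓ D) :
      Subgroup G) := S.isPGroup'.to_le hPS
  -- `D` is normal in `S`
  have hDS : ∀ s ∈ (S : Subgroup G), ∀ d ∈ D, s * d * s⁻¹ ∈ D := by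
    intro s hs d hd
    exact hD.2 d hd s (mul_mem (mul_mem hs (hD.1 hd)) (inv_mem hs))
  -- the new part
  have hD₃H : ¬ ((((S : Subgroup G) ⊓ normalizer (H : Set G)) ⊓ stab H (H ⊓ D)) ⊓ D) ≤ H := by
    obtain ⟨a, ha, haN, haH⟩ := Cfsg.Agent.Lib.Helper4_Fusion2.exists_normalizer_mem_not_mem
      (p := p)
      ((S : Subgroup G) ⊓ normalizer ((H ⊓ D : Subgroup G) : Set G))
      (D ⊓ centralizer ((H ⊓ D : Subgroup G) : Set G)) H
      (S.isPGroup'.to_le inf_le_left)
      (le_inf (inf_le_left.trans hD.1) (inf_le_right.trans (centralizer_le_normalizer _)))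
      (le_inf hHS (le_normalizer.trans hNE))
      (by
        intro s hs
        apply Cfsg.Agent.Lib.Helper6_Sylow.mem_normalizer_of_conj_le
        intro y hy
        refine Subgroup.mem_inf.mpr ⟨hDS s hs.1 y hy.1, ?_⟩
        exact conj_mem_centralizer hs.2 hy.2)
      (by
        intro hle
        apply hB
        intro y hy
        exact Subgroup.mem_inf.mpr ⟨hle hy, hy.1⟩)
    intro hle
    apply haH
    apply hle
    refine Subgroup.mem_inf.mpr ⟨Subgroup.mem_inf.mpr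
      ⟨Subgroup.mem_inf.mpr ⟨hD.1 ha.1, haN⟩, ?_⟩, ha.1⟩
    refine ⟨haN, ?_, ha.2⟩
    intro h hh
    refine Subgroup.mem_inf.mpr ⟨?_, ?_⟩
    · have h1 : a * h⁻¹ * a⁻¹ ∈ H := (mem_normalizer_iff.mp haN _).mp (H.inv_mem hh)
      have e : ⁅h, a⁆ = h * (a * h⁻¹ * a⁻¹) := by
        simp only [commutatorElement_def]; group
      rw [e]; exact H.mul_mem hh h1
    · have h1 : h * a * h⁻¹ ∈ D := hDS h (hHS hh) a ha.1
      have e : ⁅h, a⁆ = (h * a * h⁻¹) * a⁻¹ := by
        simp only [commutatorElement_def]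
      rw [e]; exact D.mul_mem h1 (D.inv_mem ha.1)
  have hH₁S : H ⊔ ((((S : Subgroup G) ⊓ normalizer (H : Set G)) ⊓ stab H (H ⊓ D)) ⊓ D) ≤ S :=
    sup_le hHS (inf_le_left.trans hPS)
  have hlt : H < H ⊔ ((((S : Subgroup G) ⊓ normalizer (H : Set G)) ⊓ stab H (H ⊓ D)) ⊓ D) := by
    refine lt_of_le_of_ne le_sup_left ?_
    intro h
    exact hD₃H (le_sup_right.trans h.ge)
  have hgood := IH _ hH₁S hlt
  -- Frattini argument
  obtain ⟨y, hyC, hy⟩ := Cfsg.Agent.Lib.Helper4_Fusion2.sylow_conj_rel (stab H (H ⊓ D))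
    (((S : Subgroup G) ⊓ normalizer (H : Set G)) ⊓ stab H (H ⊓ D))
    ((((S : Subgroup G) ⊓ normalizer (H : Set G)) ⊓ stab H (H ⊓ D)).map
      (MulAut.conj x).toMonoidHom) inf_le_right hPp hPidx
    (by
      rintro _ ⟨z, hz, rfl⟩
      have := (mem_normalizer_iff.mp (hLC hx) z).mp hz.2
      simpa using this)
    (hPp.map _)
  have hmP : y * x ∈ normalizer (((((S : Subgroup G) ⊓ normalizer (H : Set G)) ⊓
      stab H (H ⊓ D)) : Subgroup G) : Set G) := by
    apply Cfsg.Agent.Lib.Helper6_Sylow.mem_normalizer_of_conj_le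
    intro z hz
    have := hy (x * z * x⁻¹) ⟨z, hz, by simp⟩
    have e : y * x * z * (y * x)⁻¹ = y * (x * z * x⁻¹) * y⁻¹ := by group
    rw [e]; exact this
  have hmL : y * x ∈ normalizer (H : Set G) := mul_mem (hCL hyC) hx
  have hmD₃ : y * x ∈ normalizer ((((((S : Subgroup G) ⊓ normalizer (H : Set G)) ⊓
      stab H (H ⊓ D)) ⊓ D : Subgroup G)) : Set G) := by
    apply Cfsg.Agent.Lib.Helper6_Sylow.mem_normalizer_of_conj_le
    intro z hz
    have hz1 := (mem_normalizer_iff.mp hmP z).mp hz.1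
    exact Subgroup.mem_inf.mpr ⟨hz1, hD.2 z hz.2 (y * x) (hPS hz1)⟩
  have hmH₁ : y * x ∈ normalizer ((H ⊔ ((((S : Subgroup G) ⊓ normalizer (H : Set G)) ⊓
      stab H (H ⊓ D)) ⊓ D) : Subgroup G) : Set G) :=
    Subgroup.normalizer_inf_normalizer_le_normalizer_sup _ _ (Subgroup.mem_inf.mpr ⟨hmL, hmD₃⟩)
  obtain ⟨k, r, hr, hkr⟩ := Nat.exists_eq_pow_mul_and_not_dvd (orderOf_pos (y * x)).ne' p
    hp.one_lt.ne'
  have hm' : (y * x) ^ (p ^ k) ∈ stab H (H ⊓ D) := by
    apply centralizer_le_stab H _ inf_le_left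
    have hord : (orderOf ((y * x) ^ (p ^ k))).Coprime p := by
      have h1 : ((y * x) ^ (p ^ k)) ^ r = 1 := by
        rw [← pow_mul, ← hkr]; exact pow_orderOf_eq_one _
      have h2 : orderOf ((y * x) ^ (p ^ k)) ∣ r := orderOf_dvd_of_pow_eq_one h1
      exact Nat.Coprime.coprime_dvd_left h2 ((Nat.Prime.coprime_iff_not_dvd hp).mpr hr).symm
    have h1 := hgood _ (pow_mem hmH₁ _) hord
    exact centralizer_le (by exact_mod_cast (le_sup_left : H ≤ _)) h1
  have hx' : x ^ (p ^ k) ∈ stab H (H ⊓ D) := by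
    have h1 := pow_mul_mem hyC (hLC hx) (p ^ k)
    have e : x ^ (p ^ k) = ((y * x) ^ (p ^ k) * (x ^ (p ^ k))⁻¹)⁻¹ * (y * x) ^ (p ^ k) := by
      group
    rw [e]; exact mul_mem (inv_mem h1) hm'
  obtain ⟨j, hj⟩ := exists_pow_eq_self_of_coprime
    (Nat.Coprime.pow_left k hcop.symm : (p ^ k).Coprime (orderOf x))
  rw [← hj]; exact pow_mem hx' j

theorem all_good (hD : Cfsg.IsStronglyClosed D (S : Subgroup G))
    (Hyp : ∀ U : Subgroup G, U ≤ D → D ⊓ Subgroup.centralizer (U : Set G) ≤ U →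
      Cfsg.HasNormalPComplement p ↥(Subgroup.normalizer (U : Set G))) :
    ∀ n : ℕ, ∀ H : Subgroup G, H ≤ S → Nat.card (S : Subgroup G) - Nat.card H = n →
      Good p H := by
  intro n
  induction n using Nat.strong_induction_on with
  | _ n ih =>
  intro H hHS hn
  obtain ⟨g, hgS, hfn⟩ := Cfsg.Agent.Lib.Helper4_Fusion2.exists_fully_normalized S H hHS
  apply good_of_conj p H g
  have hcard : Nat.card (H.map (MulAut.conj g).toMonoidHom) = Nat.card H :=
    Cfsg.Agent.Lib.Helper5_Sylow.card_map_conj g H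
  by_cases hA : D ⊓ centralizer (((H.map (MulAut.conj g).toMonoidHom) ⊓ D : Subgroup G) : Set G) ≤
      (H.map (MulAut.conj g).toMonoidHom) ⊓ D
  · exact caseA S D hD _ hgS (Hyp _ inf_le_right hA)
  · apply step S D hD _ hgS hfn hA
    intro H₁ hH₁S hlt
    apply ih (Nat.card (S : Subgroup G) - Nat.card H₁) ?_ H₁ hH₁S rfl
    have h1 := Cfsg.Agent.Lib.Helper5_Sylow.card_lt_of_lt hlt
    have h2 := Subgroup.card_le_of_le hH₁S
    omega

end Main

/-- A Frobenius normal p-complement criterion relative to a strongly closed subgroup. Let G be a finite group, S a Sylow p-subgroup and D a subgroup of S strongly closed in S with respect to G. Then G has a normal p-complement if and only if N_G(U) has a normal p-complement for every subgroup U of D with C_D(U) ≤ U. -/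
theorem result {G : Type*} [Group G] [Finite G] {p : ℕ} [Fact p.Prime] (S : Sylow p G) (D : Subgroup G) (hD : Cfsg.IsStronglyClosed D (S : Subgroup G)) : Cfsg.HasNormalPComplement p G ↔ ∀ U : Subgroup G, U ≤ D → D ⊓ Subgroup.centralizer (U : Set G) ≤ U → Cfsg.HasNormalPComplement p ↥(Subgroup.normalizer (U : Set G)) := by
  constructor
  · intro h U _ _
    exact hasNormalPComplement_iff_npc.mpr
      ((hasNormalPComplement_iff_npc.mp h).subgroup Fact.out _)
  · intro Hyp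
    apply hasNormalPComplement_iff_npc.mpr
    apply npc_of_frobHyp
    apply frobHyp_of_sylow S
    intro Q hQ g hg hcop
    exact all_good S D hD Hyp _ Q hQ rfl g hg hcop

end Cfsg.Agent.S3839
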