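import Cfsg.Statements.S3857
import Mathlib
import Cfsg.Agent.Lib.Helper6_PrimeGraph
import Cfsg.Agent.Lib.Helper7_Fpf3
import Cfsg.Agent.Lib.Helper7_FrobInternal

set_option autoImplicit false
open Cfsg

namespace Cfsg.Agent.S3857

open Cfsg.Agent.Lib.Lead_SZ Cfsg.Agent.Lib.Lead_Hall Cfsg.Agent.Lib.Helper6_PiElements
open Cfsg.Agent.Lib.Helper6_PrimeGraph
open Cfsg.Agent.Lib.Helper7_Fpf Cfsg.Agent.Lib.Helper7_Fpf3
open scoped commutatorElement

set_option maxHeartbeats 1600000 in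
theorem main {G : Type*} [Group G] [Finite G] (hsol : Group.IsSolvable G) (A : Set ℕ)
    (hne : NoEdge A G)
    (hP : ∃ p : ℕ, p.Prime ∧ p ∈ A ∧ ∃ P : Subgroup G, P.Normal ∧ IsPGroup p P ∧ P ≠ ⊥)
    (hb : ∃ b : ℕ, b.Prime ∧ b ∉ A ∧ b ∣ Nat.card G) :
    (∃ C : Subgroup G, Cfsg.IsFrobeniusComplement C) ∨
    (∃ (H K : Subgroup G) (_ : H.Normal), K.Normal ∧ H < K ∧
      (∃ C : Subgroup ↥K, Cfsg.IsFrobeniusComplement C ∧ Cfsg.frobeniusKernel C = (H.subgroupOf K : Set ↥K)) ∧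
      (∃ C : Subgroup (G ⧸ H), Cfsg.IsFrobeniusComplement C ∧ Cfsg.frobeniusKernel C = (K.map (QuotientGroup.mk' H) : Set (G ⧸ H)))) := by
  classical
  obtain ⟨N, hNn, hNπ, hNmax, hQπ⟩ := exists_max_normal_pi A G
  haveI := hNn
  have hNne : N ≠ ⊥ := by
    obtain ⟨p, hp, hpA, P, hPn, hPp, hPne⟩ := hP
    intro hN
    apply hPne
    rw [hN] at hNmax
    apply hNmax P hPn bot_le
    haveI : Fact p.Prime := ⟨hp⟩
    obtain ⟨k, hk⟩ := IsPGroup.iff_card.mp hPp
    intro q hq hd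
    rw [hk] at hd
    rw [(Nat.prime_dvd_prime_iff_eq hq hp).mp (hq.dvd_of_dvd_pow hd)]
    exact hpA
  haveI : Nontrivial N := (Subgroup.nontrivial_iff_ne_bot N).mpr hNne
  have hQne : NoEdge A (G ⧸ N) := noEdge_quotient hne N
  obtain ⟨Kb, hKbn, hKbπ, hKbmax, hKbQ⟩ := exists_max_normal_pi Aᶜ (G ⧸ N)
  haveI := hKbn
  obtain ⟨b, hbp, hbA, hbG⟩ := hb
  -- the quotient is nontrivial
  haveI : Nontrivial (G ⧸ N) := by
    by_contra hnt
    rw [not_nontrivial_iff_subsingleton] at hnt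
    have h1 : Nat.card (G ⧸ N) = 1 := Nat.card_eq_one_iff_unique.mpr ⟨hnt, ⟨1⟩⟩
    have h2 := N.card_mul_index
    rw [Subgroup.index_eq_card, h1, mul_one] at h2
    rw [← h2] at hbG
    exact hbA (hNπ b hbp hbG)
  obtain ⟨r, hr, Pb, hPbn, hPbp, hPbne⟩ := exists_normal_pgroup (G ⧸ N)
  haveI : Fact r.Prime := ⟨hr⟩
  haveI := hPbn
  have hrA : r ∉ A := by
    intro hrA
    apply hPbne
    apply hQπ Pb hPbn
    obtain ⟨k, hk⟩ := IsPGroup.iff_card.mp hPbp
    intro q hq hd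
    rw [hk] at hd
    rw [(Nat.prime_dvd_prime_iff_eq hq hr).mp (hq.dvd_of_dvd_pow hd)]
    exact hrA
  -- the centre of Pb
  haveI : Nontrivial Pb := (Subgroup.nontrivial_iff_ne_bot Pb).mpr hPbne
  haveI : Nontrivial (Subgroup.center Pb) := hPbp.center_nontrivial
  set Zb : Subgroup (G ⧸ N) := (Subgroup.center Pb).map Pb.subtype with hZb
  haveI hZbn : Zb.Normal := ConjAct.normal_of_characteristic_of_normal
  have hZbp : IsPGroup r Zb := (hPbp.to_subgroup _).map _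
  have hZbne : Zb ≠ ⊥ := by
    intro h
    rw [hZb, Subgroup.map_eq_bot_iff_of_injective _ Pb.subtype_injective] at h
    exact (Subgroup.nontrivial_iff_ne_bot _).mp inferInstance h
  have hZbcomm : ∀ x ∈ Zb, ∀ y ∈ Zb, x * y = y * x := by
    rintro _ ⟨x, hx, rfl⟩ _ ⟨y, hy, rfl⟩
    have := Subgroup.mem_center_iff.mp hx y
    have := congrArg Pb.subtype this
    simpa using this.symm
  obtain ⟨kz, hkz⟩ := IsPGroup.iff_card.mp hZbp
  have hcopr : ∀ m : ℕ, PiNum A m → (r ^ kz).Coprime m := by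
    intro m hm
    apply Nat.Coprime.pow_left
    rw [Nat.Prime.coprime_iff_not_dvd hr]
    exact fun h => hrA (hm r hr h)
  -- lift
  set V : Subgroup G := Zb.comap (QuotientGroup.mk' N) with hV
  obtain ⟨H₀, hH₀V, hH₀card, hH₀dec⟩ := exists_complement_in N V (le_comap_mk N Zb) (Nat.card Zb)
    (card_comap_mk N Zb) (by rw [hkz]; exact hcopr _ hNπ)
  have hH₀N : ∀ x : G, x ∈ H₀ → x ∈ N → x = 1 := by
    intro x hx1 hx2
    have : H₀ ⊓ N = ⊥ := (Subgroup.disjoint_of_coprime_natCard (by rw [hH₀card, hkz]; exact hcopr _ hNπ)).eq_bot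
    have h3 : x ∈ H₀ ⊓ N := ⟨hx1, hx2⟩
    rw [this] at h3
    exact h3
  have hH₀comm : ∀ x ∈ H₀, ∀ y ∈ H₀, x * y = y * x := by
    intro x hx y hy
    have h1 := hZbcomm _ (hH₀V hx) _ (hH₀V hy)
    have h2 : (x * y) * (y * x)⁻¹ ∈ N := by
      rw [← QuotientGroup.eq_one_iff, QuotientGroup.mk_mul, QuotientGroup.mk_inv,
        QuotientGroup.mk_mul, QuotientGroup.mk_mul]
      have h1' : (QuotientGroup.mk x : G ⧸ N) * QuotientGroup.mk y = QuotientGroup.mk y * QuotientGroup.mk x := h1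
      rw [h1', mul_inv_cancel]
    have h3 := hH₀N _ (H₀.mul_mem (H₀.mul_mem hx hy) (H₀.inv_mem (H₀.mul_mem hy hx))) h2
    exact mul_inv_eq_one.mp h3
  have hH₀π : ∀ x ∈ H₀, PiNum Aᶜ (orderOf x) := by
    intro x hx q hq hd
    have h1 : orderOf x ∣ Nat.card H₀ := by
      have := orderOf_dvd_natCard (⟨x, hx⟩ : H₀)
      rwa [Subgroup.orderOf_mk] at this
    rw [hH₀card, hkz] at h1
    rw [(Nat.prime_dvd_prime_iff_eq hq hr).mp (hq.dvd_of_dvd_pow (hd.trans h1))]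
    exact hrA
  have hNelt : ∀ x ∈ N, PiNum A (orderOf x) := by
    intro x hx
    apply hNπ.of_dvd
    have := orderOf_dvd_natCard (⟨x, hx⟩ : N)
    rwa [Subgroup.orderOf_mk] at this
  have hfpf₀ : ∀ h ∈ H₀, h ≠ 1 → N ⊓ Subgroup.centralizer {h} = ⊥ := by
    intro h hh h1
    rw [Subgroup.eq_bot_iff_forall]
    intro x hx
    obtain ⟨hxN, hxc⟩ := Subgroup.mem_inf.mp hx
    rw [Subgroup.mem_centralizer_singleton_iff] at hxc
    by_contra hx1
    exact noEdge_commute hne (x := x) (y := h) hxc hx1 h1 (hNelt x hxN) (hH₀π h hh)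
  have hnorm₀ : H₀ ≤ Subgroup.normalizer (N : Set G) := by
    rw [Subgroup.normalizer_eq_top]; exact le_top
  letI act₀ : MulDistribMulAction H₀ N := Cfsg.Agent.Lib.Helper6_ConjAct.conjNormalizer H₀ N hnorm₀
  have hf₀ : Fpf H₀ N := fpf_of_internal H₀ N hnorm₀ hfpf₀
  haveI : IsMulCommutative ↥(⊤ : Subgroup H₀) := ⟨⟨fun x y => Subtype.ext (Subtype.ext
    (hH₀comm _ x.1.2 _ y.1.2))⟩⟩
  have hcyc₀ : IsCyclic ↥(⊤ : Subgroup H₀) := cyclic_of_abelian hf₀ ⊤
  obtain ⟨⟨⟨h₀, hh₀⟩, _⟩, hgen₀⟩ := hcyc₀.exists_generator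
  have hgen₀' : ∀ h ∈ H₀, h ∈ Subgroup.zpowers h₀ := by
    intro h hh
    have := hgen₀ ⟨⟨h, hh⟩, Subgroup.mem_top _⟩
    obtain ⟨i, hi⟩ := Subgroup.mem_zpowers_iff.mp this
    rw [Subgroup.mem_zpowers_iff]
    refine ⟨i, ?_⟩
    have := congrArg (fun z : ↥(⊤ : Subgroup H₀) => ((z : H₀) : G)) hi
    simpa using this
  set v : G ⧸ N := QuotientGroup.mk h₀ with hv
  have hvZ : v ∈ Zb := hH₀V hh₀
  have hZbv : ∀ z ∈ Zb, z ∈ Subgroup.zpowers v := by
    intro z hz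
    obtain ⟨l, rfl⟩ := QuotientGroup.mk_surjective z
    obtain ⟨k, hk, h, hh, rfl⟩ := hH₀dec l hz
    obtain ⟨i, rfl⟩ := Subgroup.mem_zpowers_iff.mp (hgen₀' h hh)
    rw [Subgroup.mem_zpowers_iff]
    refine ⟨i, ?_⟩
    rw [QuotientGroup.mk_mul, (QuotientGroup.eq_one_iff k).mpr hk, one_mul, hv,
      QuotientGroup.mk_zpow]
  have hv1 : v ≠ 1 := by
    intro h1
    apply hZbne
    rw [Subgroup.eq_bot_iff_forall]
    intro z hz
    obtain ⟨i, rfl⟩ := Subgroup.mem_zpowers_iff.mp (hZbv z hz)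
    rw [h1, one_zpow]
  have hvπ : PiNum Aᶜ (orderOf v) := by
    intro q hq hd
    have h1 : orderOf v ∣ Nat.card Zb := by
      have := orderOf_dvd_natCard (⟨v, hvZ⟩ : Zb)
      rwa [Subgroup.orderOf_mk] at this
    rw [hkz] at h1
    rw [(Nat.prime_dvd_prime_iff_eq hq hr).mp (hq.dvd_of_dvd_pow (hd.trans h1))]
    exact hrA
  -- conjugation acts on v by powers
  have hconj : ∀ g : G ⧸ N, ∃ i : ℤ, g * v * g⁻¹ = v ^ i := by
    intro g
    obtain ⟨i, hi⟩ := Subgroup.mem_zpowers_iff.mp (hZbv _ (hZbn.conj_mem v hvZ g))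
    exact ⟨i, hi.symm⟩
  have hswap : ∀ x y : G ⧸ N, (x * y) * v * (x * y)⁻¹ = (y * x) * v * (y * x)⁻¹ := by
    intro x y
    obtain ⟨i, hi⟩ := hconj x
    obtain ⟨j, hj⟩ := hconj y
    have e1 : (x * y) * v * (x * y)⁻¹ = x * (y * v * y⁻¹) * x⁻¹ := by group
    have e2 : (y * x) * v * (y * x)⁻¹ = y * (x * v * x⁻¹) * y⁻¹ := by group
    rw [e1, e2, hi, hj, ← conj_zpow, ← conj_zpow, hi, hj, ← zpow_mul, ← zpow_mul, mul_comm]
  have hcommv : ∀ x y : G ⧸ N, Commute ⁅x, y⁆ v := by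
    intro x y
    have h1 := hswap x⁻¹ y⁻¹
    show ⁅x, y⁆ * v = v * ⁅x, y⁆
    rw [commutatorElement_def]
    have h2 : (y⁻¹ * x⁻¹)⁻¹ * ((x⁻¹ * y⁻¹) * v * (x⁻¹ * y⁻¹)⁻¹) * (y⁻¹ * x⁻¹) = v := by
      rw [h1]; group
    calc x * y * x⁻¹ * y⁻¹ * v
        = ((y⁻¹ * x⁻¹)⁻¹ * ((x⁻¹ * y⁻¹) * v * (x⁻¹ * y⁻¹)⁻¹) * (y⁻¹ * x⁻¹)) * (x * y * x⁻¹ * y⁻¹) := by
          group
      _ = v * (x * y * x⁻¹ * y⁻¹) := by rw [h2]
  -- the derived subgroup of G/N centralizes v
  have hDle : commutator (G ⧸ N) ≤ Subgroup.centralizer {v} := by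
    rw [commutator_def, Subgroup.commutator_le]
    intro x _ y _
    rw [Subgroup.mem_centralizer_singleton_iff]
    exact (hcommv x y).eq
  have hDπ : PiNum Aᶜ (Nat.card (commutator (G ⧸ N))) := by
    intro a ha hd
    rw [Set.mem_compl_iff]
    intro haA
    haveI : Fact a.Prime := ⟨ha⟩
    obtain ⟨d, hd⟩ := exists_prime_orderOf_dvd_card' (G := commutator (G ⧸ N)) a hd
    have hd1 : orderOf (d : G ⧸ N) = a := by rw [Subgroup.orderOf_coe, hd]
    have hdc := hDle d.2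
    rw [Subgroup.mem_centralizer_singleton_iff] at hdc
    refine noEdge_commute hQne (x := (d : G ⧸ N)) (y := v) hdc ?_ hv1 ?_ hvπ
    · intro h1
      rw [h1, orderOf_one] at hd1
      exact ha.one_lt.ne hd1
    · intro q hq hqd
      rw [hd1] at hqd
      rw [(Nat.prime_dvd_prime_iff_eq hq ha).mp hqd]
      exact haA
  have hDK : commutator (G ⧸ N) ≤ Kb := by
    have h1 : (commutator (G ⧸ N)).map (QuotientGroup.mk' Kb) = ⊥ := by
      apply hKbQ _ (Subgroup.Normal.map inferInstance _ (QuotientGroup.mk'_surjective Kb))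
      exact hDπ.of_dvd (Subgroup.card_map_dvd _ _)
    rw [Subgroup.map_eq_bot_iff, QuotientGroup.ker_mk'] at h1
    exact h1
  haveI hQcomm : IsMulCommutative ((G ⧸ N) ⧸ Kb) :=
    Subgroup.Normal.quotient_commutative_iff_commutator_le.mpr hDK
  have hQQπ : PiNum A (Nat.card ((G ⧸ N) ⧸ Kb)) := by
    intro q hq hd
    by_contra hqA
    haveI : Fact q.Prime := ⟨hq⟩
    obtain ⟨S⟩ : Nonempty (Sylow q ((G ⧸ N) ⧸ Kb)) := inferInstance
    have hSn : (S : Subgroup ((G ⧸ N) ⧸ Kb)).Normal := by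
      constructor
      intro n hn g
      have : g * n * g⁻¹ = n := by
        rw [hQcomm.is_comm.comm g n, mul_assoc, mul_inv_cancel, mul_one]
      rw [this]; exact hn
    have hSbot : (S : Subgroup ((G ⧸ N) ⧸ Kb)) = ⊥ := by
      apply hKbQ _ hSn
      obtain ⟨k, hk⟩ := IsPGroup.iff_card.mp S.2
      intro t ht htd
      rw [hk] at htd
      rw [(Nat.prime_dvd_prime_iff_eq ht hq).mp (ht.dvd_of_dvd_pow htd)]
      exact hqA
    exact S.ne_bot_of_dvd_card hd hSbot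
  -- orders
  have hcardQ : Nat.card Kb * Nat.card ((G ⧸ N) ⧸ Kb) = Nat.card (G ⧸ N) := by
    rw [← Subgroup.index_eq_card]; exact Kb.card_mul_index
  have hcardG : Nat.card N * Nat.card (G ⧸ N) = Nat.card G := by
    rw [← Subgroup.index_eq_card]; exact N.card_mul_index
  have hbKb : b ∣ Nat.card Kb := by
    rw [← hcardG, ← hcardQ] at hbG
    rcases (Nat.Prime.dvd_mul hbp).mp hbG with h | h
    · exact absurd (hNπ b hbp h) hbA
    · rcases (Nat.Prime.dvd_mul hbp).mp h with h | h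
      · exact h
      · exact absurd (hQQπ b hbp h) hbA
  have hKbne : Kb ≠ ⊥ := by
    intro h
    rw [h, Subgroup.card_bot] at hbKb
    exact hbp.one_lt.ne' (Nat.dvd_one.mp hbKb)
  have hcop21 : (Nat.card Kb).Coprime (Nat.card N) :=
    (coprime_of_pi hNπ (fun p hp hd => hKbπ p hp hd)).symm
  have hcop32 : (Nat.card ((G ⧸ N) ⧸ Kb)).Coprime (Nat.card Kb) :=
    coprime_of_pi hQQπ (fun p hp hd => hKbπ p hp hd)
  -- K and its complement
  set K : Subgroup G := Kb.comap (QuotientGroup.mk' N) with hK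
  haveI hKn : K.Normal := hKbn.comap _
  have hNK : N ≤ K := le_comap_mk N Kb
  obtain ⟨H₁, hH₁K, hH₁card, hH₁dec⟩ := exists_complement_in N K hNK (Nat.card Kb)
    (card_comap_mk N Kb) hcop21
  have hH₁N : N ⊓ H₁ = ⊥ := (Subgroup.disjoint_of_coprime_natCard (by rw [hH₁card]; exact hcop21.symm)).eq_bot
  have hH₁ne : H₁ ≠ ⊥ := by
    intro h
    rw [h, Subgroup.card_bot] at hH₁card
    rw [← hH₁card] at hbKb
    exact hbp.one_lt.ne' (Nat.dvd_one.mp hbKb)
  have hH₁π : ∀ x ∈ H₁, PiNum Aᶜ (orderOf x) := by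
    intro x hx
    apply PiNum.of_dvd hKbπ
    rw [← hH₁card]
    have := orderOf_dvd_natCard (⟨x, hx⟩ : H₁)
    rwa [Subgroup.orderOf_mk] at this
  have hfpf₁ : ∀ h ∈ H₁, h ≠ 1 → ∀ n ∈ N, h * n = n * h → n = 1 := by
    intro h hh h1 n hn hc
    by_contra hn1
    exact noEdge_commute hne (x := n) (y := h) hc.symm hn1 h1 (hNelt n hn) (hH₁π h hh)
  have hsup₁ : N ⊔ H₁ = K := by
    apply le_antisymm (sup_le hNK hH₁K)
    intro l hl
    obtain ⟨k, hk, h, hh, rfl⟩ := hH₁dec l hl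
    exact Subgroup.mul_mem_sup hk hh
  by_cases hKtop : K = ⊤
  · left
    refine ⟨H₁, ?_⟩
    exact (Cfsg.Agent.Lib.Helper7_FrobInternal.frobenius_of_fpf N H₁ (by rw [hsup₁, hKtop]) hH₁N
      hNne hH₁ne hfpf₁).1
  · right
    have hlt : N < K := by
      refine lt_of_le_of_ne hNK ?_
      intro h
      have h1 := card_comap_mk N Kb
      rw [← hK, ← h] at h1
      have hpos : 0 < Nat.card N := Nat.card_pos
      have h2 : Nat.card Kb = 1 := by
        apply Nat.eq_of_mul_eq_mul_right hpos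
        rw [← h1, one_mul]
      exact hKbne (Subgroup.card_eq_one.mp h2)
    refine ⟨N, K, hNn, hKn, hlt, ?_, ?_⟩
    · -- K is Frobenius with kernel N
      have hsup' : N.subgroupOf K ⊔ H₁.subgroupOf K = ⊤ := by
        rw [← Subgroup.subgroupOf_sup hNK hH₁K, hsup₁, Subgroup.subgroupOf_self]
      have hinf' : N.subgroupOf K ⊓ H₁.subgroupOf K = ⊥ := by
        rw [Subgroup.eq_bot_iff_forall]
        intro x hx
        obtain ⟨h1, h2⟩ := Subgroup.mem_inf.mp hx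
        rw [Subgroup.mem_subgroupOf] at h1 h2
        have h3 : (x : G) ∈ N ⊓ H₁ := ⟨h1, h2⟩
        rw [hH₁N] at h3
        exact Subtype.ext h3
      have hN' : N.subgroupOf K ≠ ⊥ := by
        intro h
        apply hNne
        rw [Subgroup.eq_bot_iff_forall]
        intro x hx
        have h1 : (⟨x, hNK hx⟩ : K) ∈ N.subgroupOf K := by
          rw [Subgroup.mem_subgroupOf]; exact hx
        rw [h] at h1
        exact congrArg Subtype.val (Subgroup.mem_bot.mp h1)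
      have hH' : H₁.subgroupOf K ≠ ⊥ := by
        intro h
        apply hH₁ne
        rw [Subgroup.eq_bot_iff_forall]
        intro x hx
        have h1 : (⟨x, hH₁K hx⟩ : K) ∈ H₁.subgroupOf K := by
          rw [Subgroup.mem_subgroupOf]; exact hx
        rw [h] at h1
        exact congrArg Subtype.val (Subgroup.mem_bot.mp h1)
      have hfpf' : ∀ h ∈ H₁.subgroupOf K, h ≠ 1 → ∀ n ∈ N.subgroupOf K, h * n = n * h → n = 1 := by
        intro h hh h1 n hn hc
        rw [Subgroup.mem_subgroupOf] at hh hn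
        apply Subtype.ext
        apply hfpf₁ (h : G) hh (fun h0 => h1 (Subtype.ext h0)) (n : G) hn
        exact congrArg Subtype.val hc
      exact ⟨H₁.subgroupOf K, Cfsg.Agent.Lib.Helper7_FrobInternal.frobenius_of_fpf
        (N.subgroupOf K) (H₁.subgroupOf K) hsup' hinf' hN' hH' hfpf'⟩
    · -- G/N is Frobenius with kernel K/N
      have hmapK : K.map (QuotientGroup.mk' N) = Kb :=
        Subgroup.map_comap_eq_self_of_surjective (QuotientGroup.mk'_surjective N) Kb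
      rw [hmapK]
      obtain ⟨Lb, -, hLbcard, hLbdec⟩ := exists_complement_in Kb ⊤ le_top
        (Nat.card ((G ⧸ N) ⧸ Kb)) (by rw [Subgroup.card_top, ← hcardQ, mul_comm]) hcop32
      have hsupL : Kb ⊔ Lb = ⊤ := by
        rw [eq_top_iff]
        intro l hl
        obtain ⟨k, hk, h, hh, rfl⟩ := hLbdec l hl
        exact Subgroup.mul_mem_sup hk hh
      have hinfL : Kb ⊓ Lb = ⊥ :=
        (Subgroup.disjoint_of_coprime_natCard (by rw [hLbcard]; exact hcop32.symm)).eq_bot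
      have hLbne : Lb ≠ ⊥ := by
        intro h
        apply hKtop
        rw [h, Subgroup.card_bot] at hLbcard
        have h1 : Kb = ⊤ := by
          rw [← Subgroup.index_eq_one, Subgroup.index_eq_card, ← hLbcard]
        rw [hK, h1]
        exact Subgroup.comap_top _
      have hfpfL : ∀ h ∈ Lb, h ≠ 1 → ∀ n ∈ Kb, h * n = n * h → n = 1 := by
        intro h hh h1 n hn hc
        by_contra hn1
        refine noEdge_commute hQne (x := h) (y := n) hc h1 hn1 ?_ ?_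
        · apply PiNum.of_dvd hQQπ
          rw [← hLbcard]
          have := orderOf_dvd_natCard (⟨h, hh⟩ : Lb)
          rwa [Subgroup.orderOf_mk] at this
        · apply PiNum.of_dvd hKbπ
          have := orderOf_dvd_natCard (⟨n, hn⟩ : Kb)
          rwa [Subgroup.orderOf_mk] at this
      exact ⟨Lb, Cfsg.Agent.Lib.Helper7_FrobInternal.frobenius_of_fpf Kb Lb hsupL hinfL hKbne hLbne
        hfpfL⟩

/-- A finite solvable group whose prime graph (prime divisors of the order, two distinct primes joined when there is an element of order their product) is disconnected is a Frobenius group or a 2-Frobenius group (it has normal subgroups H < K with K a Frobenius group with kernel H and G/H a Frobenius group with kernel K/H). -/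
theorem result {G : Type*} [Group G] [Finite G] (hsol : Group.IsSolvable G)
    (hdisc : (∃ A : Set ℕ, (∃ a ∈ A, a.Prime ∧ a ∣ Nat.card G) ∧ (∃ b ∉ A, b.Prime ∧ b ∣ Nat.card G) ∧
      ∀ a ∈ A, ∀ b ∉ A, a.Prime → b.Prime → a ∣ Nat.card G → b ∣ Nat.card G → ¬ ∃ g : G, orderOf g = a * b)) :
    (∃ C : Subgroup G, Cfsg.IsFrobeniusComplement C) ∨
    (∃ (H K : Subgroup G) (_ : H.Normal), K.Normal ∧ H < K ∧
      (∃ C : Subgroup ↥K, Cfsg.IsFrobeniusComplement C ∧ Cfsg.frobeniusKernel C = (H.subgroupOf K : Set ↥K)) ∧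
      (∃ C : Subgroup (G ⧸ H), Cfsg.IsFrobeniusComplement C ∧ Cfsg.frobeniusKernel C = (K.map (QuotientGroup.mk' H) : Set (G ⧸ H)))) := by
  obtain ⟨A, ⟨a, haA, hap, haG⟩, ⟨b, hbA, hbp, hbG⟩, hno⟩ := hdisc
  have hne : NoEdge A G := by
    intro a' b' ha' hb' haA' hbA' ⟨g, hg⟩
    have h1 : a' * b' ∣ Nat.card G := hg ▸ orderOf_dvd_natCard g
    exact hno a' haA' b' hbA' ha' hb' ((dvd_mul_right _ _).trans h1) ((dvd_mul_left _ _).trans h1)
      ⟨g, hg⟩
  haveI : Nontrivial G := by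
    apply Finite.one_lt_card_iff_nontrivial.mp
    exact lt_of_lt_of_le hap.one_lt (Nat.le_of_dvd Nat.card_pos haG)
  haveI := hsol
  obtain ⟨p, hp, P, hPn, hPp, hPne⟩ := exists_normal_pgroup G
  by_cases hpA : p ∈ A
  · exact main hsol A hne ⟨p, hp, hpA, P, hPn, hPp, hPne⟩ ⟨b, hbp, hbA, hbG⟩
  · exact main hsol Aᶜ (noEdge_compl hne) ⟨p, hp, hpA, P, hPn, hPp, hPne⟩
      ⟨a, hap, fun h => h haA, haG⟩

end Cfsg.Agent.S3857
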