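import Cfsg.Statements.S3858
import Mathlib
import Cfsg.Agent.S3859

set_option autoImplicit false
open Cfsg

namespace Cfsg.Agent.S3858

open scoped Pointwise

theorem mem_map_conj {G : Type*} [Group G] (K : Subgroup G) (g x : G) :
    x ∈ K.map (MulAut.conj g).toMonoidHom ↔ g⁻¹ * x * g ∈ K := by
  constructor
  · rintro ⟨k, hk, rfl⟩
    have : g⁻¹ * ((MulAut.conj g).toMonoidHom k) * g = k := by
      show g⁻¹ * (g * k * g⁻¹) * g = k
      group
    rw [this]; exact hk
  · intro h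
    refine ⟨g⁻¹ * x * g, h, ?_⟩
    show g * (g⁻¹ * x * g) * g⁻¹ = x
    group

theorem mem_smul_sylow {G : Type*} [Group G] {r : ℕ} (R : Sylow r G) (g x : G) :
    x ∈ ((g • R : Sylow r G) : Subgroup G) ↔ g⁻¹ * x * g ∈ (R : Subgroup G) := by
  rw [Sylow.coe_subgroup_smul, Subgroup.mem_pointwise_smul_iff_inv_smul_mem]
  rw [← map_inv, MulAut.smul_def, MulAut.conj_apply, inv_inv]

theorem coatom_map_conj {G : Type*} [Group G] (M : Subgroup G) (hM : IsCoatom M) (g : G) :
    IsCoatom (M.map (MulAut.conj g).toMonoidHom) := by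
  have := (OrderIso.isCoatom_iff (MulEquiv.mapSubgroup (MulAut.conj g)) M).mpr hM
  exact this

/-- a subgroup of index prime to `r` contains a conjugate of the Sylow subgroup -/
theorem exists_smul_le {G : Type*} [Group G] [Finite G] {r : ℕ} [Fact r.Prime] (R : Sylow r G)
    (H : Subgroup G) (hH : ¬ r ∣ H.index) : ∃ g : G, ((g • R : Sylow r G) : Subgroup G) ≤ H := by
  obtain ⟨P'⟩ : Nonempty (Sylow r H) := inferInstance
  have hcard : Nat.card ((P' : Subgroup H).map H.subtype) = r ^ (Nat.card G).factorization r := by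
    rw [Subgroup.card_map_of_injective H.subtype_injective, P'.card_eq_multiplicity]
    have h1 := H.card_mul_index
    rw [← h1, Nat.factorization_mul Nat.card_pos.ne' Subgroup.index_ne_zero_of_finite,
      Finsupp.add_apply, Nat.factorization_eq_zero_of_not_dvd hH, add_zero]
  let S := Sylow.ofCard _ hcard
  obtain ⟨g, hg⟩ := MulAction.exists_smul_eq G R S
  refine ⟨g, ?_⟩
  rw [hg]
  exact Subgroup.map_subtype_le _

/-- Let G be a finite group with a normal non-abelian simple subgroup T whose centralizer is trivial (G almost simple with socle T), r a prime and R a Sylow r-subgroup of G meeting T nontrivially. Then R lies in exactly one maximal subgroup of G if and only if G has exactly one conjugacy class of maximal subgroups whose index is prime to r. -/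
theorem result {G : Type*} [Group G] [Finite G] (T : Subgroup G) [T.Normal] (hT : IsSimpleGroup T) (hna : ¬ IsMulCommutative T)
    (hC : Subgroup.centralizer (T : Set G) = ⊥) {r : ℕ} [Fact r.Prime] (R : Sylow r G) (hR0 : (R : Subgroup G) ⊓ T ≠ ⊥) :
    (∃! M : Subgroup G, IsCoatom M ∧ (R : Subgroup G) ≤ M) ↔
      ((∃ M : Subgroup G, IsCoatom M ∧ ¬ r ∣ M.index) ∧
        ∀ M₁ M₂ : Subgroup G, IsCoatom M₁ → ¬ r ∣ M₁.index → IsCoatom M₂ → ¬ r ∣ M₂.index → ∃ g : G, M₂ = M₁.map (MulAut.conj g).toMonoidHom) := by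
  have hidx : ∀ M' : Subgroup G, (R : Subgroup G) ≤ M' → ¬ r ∣ M'.index :=
    fun M' h hd => R.not_dvd_index (hd.trans (Subgroup.index_dvd_of_le h))
  constructor
  · rintro ⟨M, ⟨hM, hRM⟩, hMu⟩
    refine ⟨⟨M, hM, hidx M hRM⟩, ?_⟩
    intro M₁ M₂ h1 h1' h2 h2'
    have key : ∀ M' : Subgroup G, IsCoatom M' → ¬ r ∣ M'.index →
        ∃ g : G, M'.map (MulAut.conj g).toMonoidHom = M := by
      intro M' hM' hi
      obtain ⟨g, hg⟩ := exists_smul_le R M' hi
      refine ⟨g⁻¹, hMu _ ⟨coatom_map_conj M' hM' g⁻¹, ?_⟩⟩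
      intro x hx
      rw [mem_map_conj, inv_inv]
      apply hg
      rw [mem_smul_sylow]
      have : g⁻¹ * (g * x * g⁻¹) * g = x := by group
      rw [this]; exact hx
    obtain ⟨g1, hg1⟩ := key M₁ h1 h1'
    obtain ⟨g2, hg2⟩ := key M₂ h2 h2'
    refine ⟨g2⁻¹ * g1, ?_⟩
    ext x
    rw [mem_map_conj]
    have e1 : x ∈ M₂ ↔ g2 * x * g2⁻¹ ∈ M := by
      rw [← hg2, mem_map_conj]
      have : g2⁻¹ * (g2 * x * g2⁻¹) * g2 = x := by group
      rw [this]
    have e2 : g2 * x * g2⁻¹ ∈ M ↔ g1⁻¹ * (g2 * x * g2⁻¹) * g1 ∈ M₁ := by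
      rw [← hg1, mem_map_conj]
    rw [e1, e2]
    have : (g2⁻¹ * g1)⁻¹ * x * (g2⁻¹ * g1) = g1⁻¹ * (g2 * x * g2⁻¹) * g1 := by group
    rw [this]
  · rintro ⟨⟨M₀, hM₀, hi₀⟩, hconj⟩
    obtain ⟨hfr, hne, hNN⟩ := S3859.frattini_setup T hT hna R hR0
    rcases eq_top_or_exists_le_coatom
      (Subgroup.normalizer (((R : Subgroup G) ⊓ T : Subgroup G) : Set G)) with h | ⟨Ms, hMs, hNMs⟩
    · exact absurd h hne
    have hRMs : (R : Subgroup G) ≤ Ms := (Subgroup.le_normalizer.trans hNN).trans hNMs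
    refine ⟨Ms, ⟨hMs, hRMs⟩, ?_⟩
    rintro M' ⟨hM', hRM'⟩
    obtain ⟨g, hg⟩ := hconj Ms M' hMs (hidx Ms hRMs) hM' (hidx M' hRM')
    have h2 : ((g⁻¹ • R : Sylow r G) : Subgroup G) ≤ Ms := by
      intro x hx
      rw [mem_smul_sylow, inv_inv] at hx
      have := hRM' hx
      rw [hg, mem_map_conj] at this
      have e : g⁻¹ * (g * x * g⁻¹) * g = x := by group
      rwa [e] at this
    obtain ⟨m, hm⟩ := MulAction.exists_smul_eq Ms ((g⁻¹ • R : Sylow r G).subtype h2)
      (R.subtype hRMs)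
    rw [Sylow.smul_subtype] at hm
    have hm2 : m • (g⁻¹ • R : Sylow r G) = R := Sylow.subtype_injective hm
    have hn : (m : G) * g⁻¹ ∈ Subgroup.normalizer ((R : Subgroup G) : Set G) := by
      apply Sylow.smul_eq_iff_mem_normalizer.mp
      rw [mul_smul]
      exact hm2
    have hmem : (m : G) * g⁻¹ ∈ Ms := hNMs (hNN hn)
    have hgMs : g ∈ Ms := by
      have := Subgroup.mul_mem _ (Subgroup.inv_mem _ hmem) m.2
      have e : ((m : G) * g⁻¹)⁻¹ * (m : G) = g := by group
      rwa [e] at this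
    rw [hg]
    ext x
    rw [mem_map_conj]
    constructor
    · intro hx
      have := Subgroup.mul_mem _ (Subgroup.mul_mem _ hgMs hx) (Subgroup.inv_mem _ hgMs)
      have e : g * (g⁻¹ * x * g) * g⁻¹ = x := by group
      rwa [e] at this
    · intro hx
      exact Subgroup.mul_mem _ (Subgroup.mul_mem _ (Subgroup.inv_mem _ hgMs) hx) hgMs

end Cfsg.Agent.S3858
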