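import Cfsg.Statements.S4028
import Mathlib

set_option autoImplicit false
open Cfsg

namespace Cfsg.Agent.S4028

/-- if `u x u⁻¹ = x ^ a` then `u ^ j x u ^ (-j) = x ^ (a ^ j)` -/
theorem conj_pow_eq {G : Type*} [Group G] (u x : G) (a : ℕ) (h : u * x * u⁻¹ = x ^ a) :
    ∀ j : ℕ, u ^ j * x * (u ^ j)⁻¹ = x ^ (a ^ j) := by
  intro j
  induction j with
  | zero => simp
  | succ j ih =>
    have e1 : u ^ (j + 1) * x * (u ^ (j + 1))⁻¹ = u * (u ^ j * x * (u ^ j)⁻¹) * u⁻¹ := by
      rw [pow_succ']; simp [mul_assoc]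
    rw [e1, ih]
    have e2 : u * x ^ (a ^ j) * u⁻¹ = (u * x * u⁻¹) ^ (a ^ j) := by
      rw [conj_pow]
    rw [e2, h, ← pow_mul, pow_succ']

/-- an element of odd order normalizing the cyclic 2-group `⟨x⟩` centralizes `x` -/
theorem commute_of_odd {G : Type*} [Group G] [Finite G] (x u : G) (k : ℕ) (hx : orderOf x = 2 ^ k)
    (hu : Odd (orderOf u)) (hn : u * x * u⁻¹ ∈ Subgroup.zpowers x) : u * x = x * u := by
  rcases Nat.eq_zero_or_pos k with hk0 | hkpos
  · rw [hk0, pow_zero, orderOf_eq_one_iff] at hx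
    rw [hx]; simp
  obtain ⟨a, ha⟩ : ∃ a : ℕ, u * x * u⁻¹ = x ^ a := by
    have := hn
    rw [← mem_powers_iff_mem_zpowers] at this
    obtain ⟨a, ha⟩ := this
    exact ⟨a, ha.symm⟩
  set m := orderOf u with hm
  have h1 := conj_pow_eq u x a ha m
  rw [hm, pow_orderOf_eq_one] at h1
  simp only [one_mul, inv_one, mul_one] at h1
  -- a ^ m ≡ 1 mod 2 ^ k
  have h2 : x ^ (a ^ m) = x ^ 1 := by rw [pow_one]; exact h1.symm
  rw [pow_eq_pow_iff_modEq, hx] at h2
  have h3 : ((a : ZMod (2 ^ k)) ^ m) = 1 := by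
    have := (ZMod.natCast_eq_natCast_iff _ _ _).mpr h2
    push_cast at this
    exact this
  have hm0 : m ≠ 0 := (orderOf_pos u).ne'
  let ua : (ZMod (2 ^ k))ˣ := Units.ofPowEqOne _ m h3 hm0
  have hua : ua ^ m = 1 := Units.pow_ofPowEqOne h3 hm0
  have ho1 : orderOf ua ∣ m := orderOf_dvd_of_pow_eq_one hua
  have : NeZero (2 ^ k) := ⟨by positivity⟩
  have ho2 : orderOf ua ∣ 2 ^ (k - 1) := by
    have h := orderOf_dvd_card (x := ua)
    rw [ZMod.card_units_eq_totient, Nat.totient_prime_pow Nat.prime_two hkpos] at h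
    simpa using h
  have hcop : Nat.Coprime m (2 ^ (k - 1)) :=
    Nat.Coprime.pow_right _ (Nat.Coprime.symm (Nat.coprime_two_left.mpr hu))
  have ho : orderOf ua = 1 := Nat.eq_one_of_dvd_coprimes hcop ho1 ho2
  have hua1 : ua = 1 := orderOf_eq_one_iff.mp ho
  have ha1 : (a : ZMod (2 ^ k)) = 1 := by
    have := congrArg Units.val hua1
    simpa [ua] using this
  have h4 : a ≡ 1 [MOD 2 ^ k] := by
    apply (ZMod.natCast_eq_natCast_iff _ _ _).mp
    push_cast
    exact ha1
  have h5 : x ^ a = x ^ 1 := by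
    rw [pow_eq_pow_iff_modEq, hx]; exact h4
  rw [pow_one] at h5
  rw [h5] at ha
  have : u * x = (u * x * u⁻¹) * u := by group
  rw [this, ha]

/-- membership in the normalizer of a cyclic subgroup -/
theorem mem_normalizer_zpowers {G : Type*} [Group G] [Finite G] (g x : G)
    (h : g * x * g⁻¹ ∈ Subgroup.zpowers x) :
    g ∈ Subgroup.normalizer ((Subgroup.zpowers x : Subgroup G) : Set G) := by
  apply Subgroup.mem_normalizer_fintype
  intro z hz
  obtain ⟨i, rfl⟩ := Subgroup.mem_zpowers_iff.mp hz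
  have : g * x ^ i * g⁻¹ = (g * x * g⁻¹) ^ i := by rw [conj_zpow]
  show g * x ^ i * g⁻¹ ∈ Subgroup.zpowers x
  rw [this]
  exact Subgroup.zpow_mem _ h i

theorem conj_mem_of_mem_normalizer {G : Type*} [Group G] (g x : G)
    (h : g ∈ Subgroup.normalizer ((Subgroup.zpowers x : Subgroup G) : Set G)) :
    g * x * g⁻¹ ∈ Subgroup.zpowers x :=
  (Subgroup.mem_normalizer_iff.mp h x).mp (Subgroup.mem_zpowers x)

/-- Let G be a finite group with Sylow 2-subgroup P. Then N_G(⟨x⟩) = C_G(x) holds for every 2-element x of G if and only if N_P(⟨y⟩) = C_P(y) holds for every y ∈ P (computed inside P). -/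
theorem result {G : Type*} [Group G] [Finite G] (P : Sylow 2 G) :
    (∀ x : G, (∀ r : ℕ, r.Prime → r ∣ orderOf x → r = 2) →
      Subgroup.normalizer ((Subgroup.zpowers x : Subgroup G) : Set G) ≤ Subgroup.centralizer {x}) ↔
    (∀ y : ↥(P : Subgroup G), Subgroup.normalizer ((Subgroup.zpowers y : Subgroup ↥(P : Subgroup G)) : Set ↥(P : Subgroup G)) ≤
        Subgroup.centralizer {y}) := by
  constructor
  · intro hG y g hg
    have hy2 : ∀ r : ℕ, r.Prime → r ∣ orderOf (y : G) → r = 2 := by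
      intro r hr hd
      obtain ⟨k, hk⟩ := P.isPGroup' y
      have hk' : (y : G) ^ (2 ^ k) = 1 := by simpa using congrArg Subtype.val hk
      have h1 : r ∣ 2 ^ k := hd.trans (orderOf_dvd_of_pow_eq_one hk')
      exact (Nat.prime_dvd_prime_iff_eq hr Nat.prime_two).mp (hr.dvd_of_dvd_pow h1)
    have h1 : g * y * g⁻¹ ∈ Subgroup.zpowers y := conj_mem_of_mem_normalizer g y hg
    obtain ⟨i, hi⟩ := Subgroup.mem_zpowers_iff.mp h1
    have h2 : (g : G) * (y : G) * (g : G)⁻¹ ∈ Subgroup.zpowers (y : G) := by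
      rw [Subgroup.mem_zpowers_iff]
      refine ⟨i, ?_⟩
      have := congrArg Subtype.val hi
      simpa using this
    have h3 := hG (y : G) hy2 (mem_normalizer_zpowers (g : G) (y : G) h2)
    rw [Subgroup.mem_centralizer_iff] at h3 ⊢
    intro z hz
    rw [Set.mem_singleton_iff] at hz
    subst hz
    apply Subtype.ext
    simpa using h3 (z : G) rfl
  · intro hP x hx2 g hg
    by_contra hgc
    have hcomm : ¬ (g * x = x * g) := by
      intro h
      apply hgc
      rw [Subgroup.mem_centralizer_iff]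
      intro z hz
      rw [Set.mem_singleton_iff] at hz
      subst hz
      exact h.symm
    -- order of x is a power of 2
    have hxo : orderOf x = 2 ^ (orderOf x).primeFactorsList.length :=
      Nat.eq_prime_pow_of_unique_prime_dvd (orderOf_pos x).ne' (fun {d} hd hdvd => hx2 d hd hdvd)
    set k := (orderOf x).primeFactorsList.length with hk
    -- decompose the order of g
    obtain ⟨e, m, hm, hem⟩ := Nat.exists_eq_two_pow_mul_odd (orderOf_pos g).ne'
    have hgn : g * x * g⁻¹ ∈ Subgroup.zpowers x := conj_mem_of_mem_normalizer g x hg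
    have hN : ∀ j : ℕ, g ^ j ∈ Subgroup.normalizer ((Subgroup.zpowers x : Subgroup G) : Set G) :=
      fun j => Subgroup.pow_mem _ hg j
    -- g ^ (2 ^ e) has odd order, so commutes with x
    have hodd : Odd (orderOf (g ^ (2 ^ e))) := by
      have hd : orderOf (g ^ (2 ^ e)) ∣ m := by
        apply orderOf_dvd_of_pow_eq_one
        rw [← pow_mul, ← hem]; exact pow_orderOf_eq_one g
      obtain ⟨r, hr⟩ := hd
      rw [hr] at hm
      exact (Nat.odd_mul.mp hm).1
    have hc1 : g ^ (2 ^ e) * x = x * g ^ (2 ^ e) :=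
      commute_of_odd x (g ^ (2 ^ e)) k hxo hodd (conj_mem_of_mem_normalizer _ x (hN _))
    -- h = g ^ m does not commute with x
    set h := g ^ m with hh
    have hnc : ¬ (h * x = x * h) := by
      intro hc2
      apply hcomm
      have hcop : Nat.Coprime (2 ^ e) m :=
        Nat.Coprime.pow_left _ (Nat.coprime_two_left.mpr hm)
      -- Bezout
      have hb := Nat.gcd_eq_gcd_ab (2 ^ e) m
      rw [hcop.gcd_eq_one] at hb
      have hg1 : g = (g ^ (2 ^ e)) ^ (Nat.gcdA (2 ^ e) m) * (g ^ m) ^ (Nat.gcdB (2 ^ e) m) := by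
        rw [← zpow_natCast g (2 ^ e), ← zpow_natCast g m, ← zpow_mul, ← zpow_mul, ← zpow_add,
          ← hb]
        simp
      have c1 : Commute (g ^ (2 ^ e)) x := hc1
      have c2 : Commute (g ^ m) x := hc2
      have c3 : Commute ((g ^ (2 ^ e)) ^ (Nat.gcdA (2 ^ e) m) * (g ^ m) ^ (Nat.gcdB (2 ^ e) m)) x :=
        (c1.zpow_left _).mul_left (c2.zpow_left _)
      rw [← hg1] at c3
      exact c3.eq
    have hh2 : h ^ (2 ^ e) = 1 := by
      rw [hh, ← pow_mul, mul_comm, ← hem]; exact pow_orderOf_eq_one g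
    have hhN : h ∈ Subgroup.normalizer ((Subgroup.zpowers x : Subgroup G) : Set G) := hN m
    -- the 2-group ⟨h⟩⟨x⟩
    have hz1 : IsPGroup 2 (Subgroup.zpowers h) := by
      rintro ⟨z, hz⟩
      obtain ⟨i, rfl⟩ := Subgroup.mem_zpowers_iff.mp hz
      refine ⟨e, ?_⟩
      apply Subtype.ext
      show (h ^ i) ^ (2 ^ e) = 1
      rw [← zpow_natCast, ← zpow_mul, mul_comm, zpow_mul, zpow_natCast, hh2, one_zpow]
    have hz2 : IsPGroup 2 (Subgroup.zpowers x) := by
      rintro ⟨z, hz⟩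
      obtain ⟨i, rfl⟩ := Subgroup.mem_zpowers_iff.mp hz
      refine ⟨k, ?_⟩
      apply Subtype.ext
      show (x ^ i) ^ (2 ^ k) = 1
      rw [← zpow_natCast, ← zpow_mul, mul_comm, zpow_mul, zpow_natCast, ← hxo, pow_orderOf_eq_one,
        one_zpow]
    have hsup := IsPGroup.to_sup_of_normal_right' hz1 hz2 (Subgroup.zpowers_le.mpr hhN)
    obtain ⟨Q, hQ⟩ := hsup.exists_le_sylow
    obtain ⟨c, hc⟩ := MulAction.exists_smul_eq G Q P
    have hconj : ∀ z ∈ (Q : Subgroup G), c * z * c⁻¹ ∈ (P : Subgroup G) := by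
      intro z hz
      rw [← hc, Sylow.coe_subgroup_smul, Subgroup.mem_pointwise_smul_iff_inv_smul_mem]
      simpa [MulAut.smul_def, mul_assoc] using hz
    have hxQ : x ∈ (Q : Subgroup G) :=
      hQ ((le_sup_right : Subgroup.zpowers x ≤ _) (Subgroup.mem_zpowers x))
    have hhQ : h ∈ (Q : Subgroup G) :=
      hQ ((le_sup_left : Subgroup.zpowers h ≤ _) (Subgroup.mem_zpowers h))
    set x' : ↥(P : Subgroup G) := ⟨c * x * c⁻¹, hconj x hxQ⟩ with hx'
    set h' : ↥(P : Subgroup G) := ⟨c * h * c⁻¹, hconj h hhQ⟩ with hh'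
    have hh'N : h' ∈ Subgroup.normalizer ((Subgroup.zpowers x' : Subgroup ↥(P : Subgroup G)) : Set ↥(P : Subgroup G)) := by
      apply mem_normalizer_zpowers
      obtain ⟨i, hi⟩ := Subgroup.mem_zpowers_iff.mp (conj_mem_of_mem_normalizer h x hhN)
      rw [Subgroup.mem_zpowers_iff]
      refine ⟨i, ?_⟩
      apply Subtype.ext
      show ((x' ^ i : ↥(P : Subgroup G)) : G) = (c * h * c⁻¹) * (c * x * c⁻¹) * (c * h * c⁻¹)⁻¹
      have e1 : (c * h * c⁻¹) * (c * x * c⁻¹) * (c * h * c⁻¹)⁻¹ = c * (h * x * h⁻¹) * c⁻¹ := by group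
      rw [e1, ← hi, Subgroup.coe_zpow]
      show (c * x * c⁻¹) ^ i = _
      rw [conj_zpow]
    have hcen := hP x' hh'N
    rw [Subgroup.mem_centralizer_iff] at hcen
    have h5 := congrArg Subtype.val (hcen x' rfl)
    have h6 : (c * x * c⁻¹) * (c * h * c⁻¹) = (c * h * c⁻¹) * (c * x * c⁻¹) := h5
    apply hnc
    have e1 : h * x = c⁻¹ * ((c * h * c⁻¹) * (c * x * c⁻¹)) * c := by group
    have e2 : x * h = c⁻¹ * ((c * x * c⁻¹) * (c * h * c⁻¹)) * c := by group
    rw [e1, e2, h6]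

end Cfsg.Agent.S4028
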