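import Cfsg.Statements.S4032
import Mathlib
import Cfsg.Agent.Lib.Lead_SZ
import Cfsg.Agent.S4028

set_option autoImplicit false
open Cfsg

namespace Cfsg.Agent.S4032

open Cfsg.Agent.S4028 (mem_normalizer_zpowers conj_mem_of_mem_normalizer)
open scoped Pointwise

/-- a `π`-element of `G ⧸ N` has a lift which is a `π`-element -/
theorem exists_lift {G : Type*} [Group G] [Finite G] (π : Set ℕ) (N : Subgroup G) [N.Normal]
    (y : G ⧸ N) (hy : ∀ r : ℕ, r.Prime → r ∣ orderOf y → r ∈ π) :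
    ∃ x : G, (x : G ⧸ N) = y ∧ ∀ r : ℕ, r.Prime → r ∣ orderOf x → r ∈ π := by
  set S : Set G := {x | (x : G ⧸ N) = y} with hS
  have hne : S.Nonempty := by
    obtain ⟨x, hx⟩ := QuotientGroup.mk_surjective y
    exact ⟨x, hx⟩
  obtain ⟨x, hxS, hmin⟩ := Set.exists_min_image S orderOf (Set.toFinite S) hne
  refine ⟨x, hxS, ?_⟩
  intro r hr hrd
  by_contra hrπ
  set m := orderOf y with hm
  have hrm : ¬ r ∣ m := fun h => hrπ (hy r hr h)
  rcases Nat.lt_or_ge 1 m with hm1 | hm1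
  · have hcop : Nat.Coprime r m := (Nat.Prime.coprime_iff_not_dvd hr).mpr hrm
    obtain ⟨s, -, hs⟩ := Nat.exists_mul_mod_eq_one_of_coprime hcop hm1
    set x' := x ^ (r * s) with hx'
    have hx'S : x' ∈ S := by
      show ((x ^ (r * s) : G) : G ⧸ N) = y
      rw [QuotientGroup.mk_pow, hxS, ← pow_mod_orderOf, ← hm, hs, pow_one]
    have h1 := hmin x' hx'S
    obtain ⟨t, ht⟩ := hrd
    have h2 : x' ^ t = 1 := by
      rw [hx', ← pow_mul]
      have : r * s * t = orderOf x * s := by rw [ht]; ring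
      rw [this, pow_mul, pow_orderOf_eq_one, one_pow]
    have h3 : orderOf x' ∣ t := orderOf_dvd_of_pow_eq_one h2
    have htpos : 0 < t := by
      rcases Nat.eq_zero_or_pos t with h0 | h0
      · rw [h0, mul_zero] at ht
        exact absurd ht (orderOf_pos x).ne'
      · exact h0
    have h4 : orderOf x' ≤ t := Nat.le_of_dvd htpos h3
    have h5 : t < orderOf x := by
      rw [ht]
      have := hr.one_lt
      nlinarith
    omega
  · -- y = 1
    have hm1' : m = 1 := le_antisymm hm1 (orderOf_pos y)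
    have hy1 : y = 1 := orderOf_eq_one_iff.mp hm1'
    have h1S : (1 : G) ∈ S := by
      show ((1 : G) : G ⧸ N) = y
      rw [hy1]; rfl
    have := hmin 1 h1S
    rw [orderOf_one] at this
    have hx1 : orderOf x = 1 := le_antisymm this (orderOf_pos x)
    rw [hx1] at hrd
    exact hr.one_lt.ne' (Nat.dvd_one.mp hrd)

/-- Let π be a set of primes and G a finite group in which N_G(⟨x⟩) = C_G(x) for every π-element x. If N is a normal subgroup of G whose order is divisible by no prime of π, then G/N has the same property: N_{G/N}(⟨y⟩) = C_{G/N}(y) for every π-element y of G/N. -/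
theorem result {G : Type*} [Group G] [Finite G] (π : Set ℕ)
    (hirr : ∀ x : G, (∀ r : ℕ, r.Prime → r ∣ orderOf x → r ∈ π) →
      Subgroup.normalizer ((Subgroup.zpowers x : Subgroup G) : Set G) ≤ Subgroup.centralizer {x})
    (N : Subgroup G) [N.Normal] (hN : ∀ r : ℕ, r.Prime → r ∣ Nat.card N → r ∉ π) :
    ∀ y : G ⧸ N, (∀ r : ℕ, r.Prime → r ∣ orderOf y → r ∈ π) →
      Subgroup.normalizer ((Subgroup.zpowers y : Subgroup (G ⧸ N)) : Set (G ⧸ N)) ≤ Subgroup.centralizer {y} := by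
  intro ybar hybar gbar hgbar
  obtain ⟨y, rfl, hyπ⟩ := exists_lift π N ybar hybar
  obtain ⟨g, rfl⟩ := QuotientGroup.mk_surjective gbar
  set L : Subgroup G := Subgroup.zpowers y ⊔ N with hL
  set H : Subgroup G := Subgroup.zpowers y with hH
  set K : Subgroup G := Subgroup.zpowers (g * y * g⁻¹) with hK
  have hHL : H ≤ L := le_sup_left
  have hNL : N ≤ L := le_sup_right
  -- g y g⁻¹ ∈ L
  have hgy : g * y * g⁻¹ ∈ L := by
    have h1 := conj_mem_of_mem_normalizer _ _ hgbar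
    obtain ⟨i, hi⟩ := Subgroup.mem_zpowers_iff.mp h1
    have h2 : ((y ^ i)⁻¹ * (g * y * g⁻¹) : G) ∈ N := by
      rw [← QuotientGroup.eq_one_iff]
      have e : (((y ^ i)⁻¹ * (g * y * g⁻¹) : G) : G ⧸ N) =
          ((y : G ⧸ N) ^ i)⁻¹ * ((g : G ⧸ N) * (y : G ⧸ N) * (g : G ⧸ N)⁻¹) := rfl
      rw [e, hi, inv_mul_cancel]
    have : g * y * g⁻¹ = y ^ i * ((y ^ i)⁻¹ * (g * y * g⁻¹)) := by group
    rw [this]
    exact L.mul_mem (hHL (Subgroup.zpow_mem _ (Subgroup.mem_zpowers y) i)) (hNL h2)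
  have hKL : K ≤ L := Subgroup.zpowers_le.mpr hgy
  -- cardinalities
  have hcH : Nat.card H = orderOf y := Nat.card_zpowers y
  have hcK : Nat.card K = orderOf y := by
    rw [hK, Nat.card_zpowers]
    have : g * y * g⁻¹ = MulAut.conj g y := by simp
    rw [this, MulEquiv.orderOf_eq]
  have hcop : (Nat.card N).Coprime (Nat.card H) := by
    apply Nat.coprime_of_dvd
    intro r hr hrN hrH
    rw [hcH] at hrH
    exact hN r hr hrN (hyπ r hr hrH)
  have hinf : N ⊓ H = ⊥ := by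
    rw [Subgroup.eq_bot_iff_forall]
    intro z hz
    rw [Subgroup.mem_inf] at hz
    have h1 : orderOf z ∣ Nat.card N := Subgroup.orderOf_dvd_natCard N hz.1
    have h2 : orderOf z ∣ Nat.card H := Subgroup.orderOf_dvd_natCard H hz.2
    exact orderOf_eq_one_iff.mp (Nat.eq_one_of_dvd_coprimes hcop h1 h2)
  have hcL : Nat.card N * Nat.card H = Nat.card L := by
    have h1 := Subgroup.card_mul_index (N.subgroupOf L)
    rw [← Subgroup.relIndex, Nat.card_congr (Subgroup.subgroupOfEquivOfLe hNL).toEquiv] at h1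
    rw [← h1]
    congr 1
    rw [hL, Subgroup.relIndex_sup_right, ← Subgroup.inf_relIndex_right, hinf,
      Subgroup.relIndex_bot_left]
  have hcL2 : Nat.card N * Nat.card K = Nat.card L := by rw [hcK, ← hcH, hcL]
  have hNLn : (N.subgroupOf L).Normal := inferInstance
  have hsolv : Group.IsSolvable H := by
    apply Group.isSolvable_of_comm
    rintro ⟨a, ha⟩ ⟨b, hb⟩
    obtain ⟨i, rfl⟩ := Subgroup.mem_zpowers_iff.mp ha
    obtain ⟨j, rfl⟩ := Subgroup.mem_zpowers_iff.mp hb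
    apply Subtype.ext
    show y ^ i * y ^ j = y ^ j * y ^ i
    rw [← zpow_add, ← zpow_add, add_comm]
  obtain ⟨l, hlL, hl⟩ := Cfsg.Agent.Lib.Lead_SZ.sub_step L (Cfsg.Agent.Lib.Lead_SZ.sz_conj ↥L) N H K
    hNLn hNL hHL hKL hcop hcL hcL2 (Or.inr hsolv)
  -- l⁻¹ g normalizes ⟨y⟩
  have h1 : g * y * g⁻¹ ∈ MulAut.conj l • H := by
    rw [hl]; exact Subgroup.mem_zpowers _
  rw [Cfsg.Agent.Lib.Lead_SZ.mem_conj_smul] at h1
  have h2 : (l⁻¹ * g) * y * (l⁻¹ * g)⁻¹ ∈ Subgroup.zpowers y := by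
    have : (l⁻¹ * g) * y * (l⁻¹ * g)⁻¹ = l⁻¹ * (g * y * g⁻¹) * l := by group
    rw [this]; exact h1
  have h3 := hirr y hyπ (mem_normalizer_zpowers _ _ h2)
  rw [Subgroup.mem_centralizer_iff] at h3
  have h4 : y * (l⁻¹ * g) = (l⁻¹ * g) * y := h3 y rfl
  -- the image of l commutes with the image of y
  have h5 : ((l : G) : G ⧸ N) * (y : G ⧸ N) = (y : G ⧸ N) * ((l : G) : G ⧸ N) := by
    have hl' : l ∈ ((Subgroup.zpowers y ⊔ N : Subgroup G) : Set G) := hlL
    rw [Subgroup.mul_normal, Set.mem_mul] at hl'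
    obtain ⟨a, ha, n, hn, rfl⟩ := hl'
    obtain ⟨i, rfl⟩ := Subgroup.mem_zpowers_iff.mp ha
    have hn1 : ((n : G) : G ⧸ N) = 1 := (QuotientGroup.eq_one_iff n).mpr hn
    rw [QuotientGroup.mk_mul, hn1, mul_one, QuotientGroup.mk_zpow]
    rw [← zpow_add_one, ← zpow_one_add, add_comm]
  rw [Subgroup.mem_centralizer_iff]
  intro z hz
  rw [Set.mem_singleton_iff] at hz
  subst hz
  have h6 : ((g : G) : G ⧸ N) = ((l : G) : G ⧸ N) * (((l⁻¹ * g : G)) : G ⧸ N) := by
    rw [← QuotientGroup.mk_mul]; congr 1; group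
  have h7 : (y : G ⧸ N) * ((l⁻¹ * g : G) : G ⧸ N) = ((l⁻¹ * g : G) : G ⧸ N) * (y : G ⧸ N) := by
    rw [← QuotientGroup.mk_mul, ← QuotientGroup.mk_mul, h4]
  rw [h6, ← mul_assoc, ← h5, mul_assoc, h7, mul_assoc]

end Cfsg.Agent.S4032
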