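import Cfsg.Statements.S3861
import Mathlib
import Cfsg.Agent.S0199
import Cfsg.Agent.S0216
import Cfsg.Agent.S4032
import Cfsg.Agent.S4060
import Cfsg.Agent.Lib.Helper6_Sylow

set_option autoImplicit false
open Cfsg

namespace Cfsg.Agent.S3861

universe u

/-- the hypothesis: no nontrivial real element of odd order -/
def NoReal (G : Type*) [Group G] : Prop :=
  ∀ x : G, x ≠ 1 → Odd (orderOf x) → ¬ IsConj x x⁻¹

/-- under `NoReal`, the product of two involutions has 2-power order -/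
theorem orderOf_mul_involutions {G : Type*} [Group G] [Finite G] (hG : NoReal G) (s t : G)
    (hs : orderOf s = 2) (ht : orderOf t = 2) : ∃ a : ℕ, orderOf (s * t) = 2 ^ a := by
  have hss : s * s = 1 := Cfsg.Agent.Lib.Lead_Dihedral.mul_self_of_orderOf_two s hs
  have htt : t * t = 1 := Cfsg.Agent.Lib.Lead_Dihedral.mul_self_of_orderOf_two t ht
  have hsi : s⁻¹ = s := Cfsg.Agent.Lib.Lead_Dihedral.inv_eq_self_of_orderOf_two s hs
  have hti : t⁻¹ = t := Cfsg.Agent.Lib.Lead_Dihedral.inv_eq_self_of_orderOf_two t ht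
  set u := s * t with hu
  have hconj : s * u * s⁻¹ = u⁻¹ := by
    rw [hu, mul_inv_rev, hsi, hti, ← mul_assoc, hss, one_mul]
  have hpos : orderOf u ≠ 0 := (orderOf_pos u).ne'
  obtain ⟨a, m, hm, hom⟩ := Nat.exists_eq_two_pow_mul_odd hpos
  refine ⟨a, ?_⟩
  set w := u ^ (2 ^ a) with hw
  have how : orderOf w = m := by
    rw [hw, orderOf_pow_of_dvd (pow_ne_zero _ two_ne_zero) ⟨m, hom⟩, hom,
      Nat.mul_div_cancel_left _ (pow_pos two_pos a)]
  have hwconj : s * w * s⁻¹ = w⁻¹ := by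
    rw [hw, ← conj_pow, hconj, inv_pow]
  have hw1 : w = 1 := by
    by_contra hne
    exact hG w hne (by rw [how]; exact hm) (isConj_iff.mpr ⟨s, hwconj⟩)
  have hm1 : m = 1 := by rw [← how, hw1, orderOf_one]
  rw [hom, hm1, mul_one]

/-- `NoReal` passes to quotients by normal 2-subgroups -/
theorem noReal_quotient {G : Type*} [Group G] [Finite G] (hG : NoReal G) (N : Subgroup G)
    [N.Normal] (hN : IsPGroup 2 N) : NoReal (G ⧸ N) := by
  intro x hx1 hxodd hxconj
  obtain ⟨c, hc⟩ := isConj_iff.mp hxconj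
  have ho1 : orderOf x ≠ 1 := fun h => hx1 (orderOf_eq_one_iff.mp h)
  obtain ⟨r, hr, hrd⟩ := Nat.exists_prime_and_dvd ho1
  have hfr : Fact r.Prime := ⟨hr⟩
  have hrodd : Odd r := by
    obtain ⟨k, hk⟩ := hrd
    rw [hk] at hxodd
    exact (Nat.odd_mul.mp hxodd).1
  have hr2 : r ≠ 2 := by
    rintro rfl
    exact (Nat.not_odd_iff_even.mpr even_two) hrodd
  -- element of order r
  set y := x ^ (orderOf x / r) with hy
  have hoy : orderOf y = r := by
    have hd : orderOf x / r ∣ orderOf x := Nat.div_dvd_of_dvd hrd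
    have hne : orderOf x / r ≠ 0 := by
      intro h0
      have := Nat.div_mul_cancel hrd
      rw [h0, zero_mul] at this
      exact (orderOf_pos x).ne' this.symm
    rw [hy, orderOf_pow_of_dvd hne hd]
    exact Nat.div_div_self hrd (orderOf_pos x).ne'
  have hcy : c * y * c⁻¹ = y⁻¹ := by
    rw [hy, ← conj_pow, hc, inv_pow]
  -- lift
  obtain ⟨y₀, hy₀, hy₀π⟩ := Cfsg.Agent.S4032.exists_lift ({r} : Set ℕ) N y (by
    intro q hq hqd
    rw [hoy] at hqd
    exact ((Nat.prime_dvd_prime_iff_eq hq hr).mp hqd))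
  obtain ⟨c₀, hc₀⟩ := QuotientGroup.mk_surjective c
  have hoy₀ : ∃ k : ℕ, orderOf y₀ = r ^ k := by
    refine ⟨_, Nat.eq_prime_pow_of_unique_prime_dvd (orderOf_pos y₀).ne' ?_⟩
    intro d hd hdd
    exact hy₀π d hd hdd
  obtain ⟨k, hk⟩ := hoy₀
  have hPg : IsPGroup r (Subgroup.zpowers y₀) := by
    apply IsPGroup.of_card (n := k)
    rw [Nat.card_zpowers, hk]
  have hQg : IsPGroup r (Subgroup.zpowers (c₀ * y₀ * c₀⁻¹)) := by
    apply IsPGroup.of_card (n := k)
    rw [Nat.card_zpowers]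
    have : c₀ * y₀ * c₀⁻¹ = MulAut.conj c₀ y₀ := rfl
    rw [this, MulEquiv.orderOf_eq, hk]
  have hNcop : (Nat.card N).Coprime r := by
    obtain ⟨j, hj⟩ := IsPGroup.iff_card.mp hN
    rw [hj]
    apply Nat.Coprime.pow_left
    rw [Nat.coprime_primes Nat.prime_two hr]
    exact fun h => hr2 h.symm
  have hmk : ((c₀ * y₀ * c₀⁻¹ : G) : G ⧸ N) = ((y₀⁻¹ : G) : G ⧸ N) := by
    rw [QuotientGroup.mk_mul, QuotientGroup.mk_mul, QuotientGroup.mk_inv, QuotientGroup.mk_inv,
      hc₀, hy₀, hcy]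
  have hQle : Subgroup.zpowers (c₀ * y₀ * c₀⁻¹) ≤ N ⊔ Subgroup.zpowers y₀ := by
    rw [Subgroup.zpowers_le]
    have h1 : (y₀⁻¹)⁻¹ * (c₀ * y₀ * c₀⁻¹) ∈ N := QuotientGroup.eq.mp hmk.symm
    have h2 : c₀ * y₀ * c₀⁻¹ = y₀⁻¹ * ((y₀⁻¹)⁻¹ * (c₀ * y₀ * c₀⁻¹)) := by group
    rw [h2]
    exact Subgroup.mul_mem _
      (Subgroup.mem_sup_right (Subgroup.inv_mem _ (Subgroup.mem_zpowers y₀)))
      (Subgroup.mem_sup_left h1)
  obtain ⟨n, hnN, hn⟩ := Cfsg.Agent.Lib.Helper6_Sylow.exists_conj_le_of_le_sup N hNcop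
    (Subgroup.zpowers y₀) (Subgroup.zpowers (c₀ * y₀ * c₀⁻¹)) hPg hQg hQle
  have h1 := hn _ (Subgroup.mem_zpowers (c₀ * y₀ * c₀⁻¹))
  -- v = n⁻¹ c₀ y₀ c₀⁻¹ n * y₀ ∈ zpowers y₀ ∩ N
  set v := n⁻¹ * (c₀ * y₀ * c₀⁻¹) * n * y₀ with hv
  have hvP : v ∈ Subgroup.zpowers y₀ := Subgroup.mul_mem _ h1 (Subgroup.mem_zpowers y₀)
  have hvN : v ∈ N := by
    rw [← QuotientGroup.eq_one_iff]
    have hn1 : ((n : G) : G ⧸ N) = 1 := (QuotientGroup.eq_one_iff n).mpr hnN
    rw [hv, QuotientGroup.mk_mul, QuotientGroup.mk_mul, QuotientGroup.mk_mul, hmk,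
      QuotientGroup.mk_inv, QuotientGroup.mk_inv, hn1]
    simp
  have hv1 : v = 1 := by
    have hbot := Cfsg.Agent.Lib.Helper6_Sylow.inf_eq_bot_of_coprime (N := N) hNcop hPg
    have : v ∈ Subgroup.zpowers y₀ ⊓ N := ⟨hvP, hvN⟩
    rw [hbot] at this
    exact Subgroup.mem_bot.mp this
  have hreal : (n⁻¹ * c₀) * y₀ * (n⁻¹ * c₀)⁻¹ = y₀⁻¹ := by
    have h2 : (n⁻¹ * c₀) * y₀ * (n⁻¹ * c₀)⁻¹ = n⁻¹ * (c₀ * y₀ * c₀⁻¹) * n := by group
    rw [h2]
    exact eq_inv_of_mul_eq_one_left hv1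
  have hy₀1 : y₀ ≠ 1 := by
    rintro rfl
    have : y = 1 := by rw [← hy₀]; rfl
    rw [this, orderOf_one] at hoy
    exact hr.one_lt.ne hoy
  exact hG y₀ hy₀1 (by rw [hk]; exact hrodd.pow) (isConj_iff.mpr ⟨_, hreal⟩)

/-- main direction, by induction on the order -/
theorem normal_of_noReal (n : ℕ) : ∀ (G : Type u) [Group G] [Finite G], Nat.card G = n →
    NoReal G → ∀ P : Sylow 2 G, (P : Subgroup G).Normal := by
  induction n using Nat.strong_induction_on with
  | _ n ih =>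
    intro G _ _ hcard hG P
    by_cases hinv : ∃ s : G, orderOf s = 2
    · obtain ⟨s, hs⟩ := hinv
      -- Baer–Suzuki
      have hXg : IsPGroup 2 (Subgroup.zpowers s) := by
        apply IsPGroup.of_card (n := 1)
        rw [Nat.card_zpowers, hs, pow_one]
      obtain ⟨N, hNn, hNp, hXN⟩ := Cfsg.Agent.S0199.result (Subgroup.zpowers s) hXg (by
        intro g
        have ht : orderOf (g * s * g⁻¹) = 2 := by
          have : g * s * g⁻¹ = MulAut.conj g s := rfl
          rw [this, MulEquiv.orderOf_eq, hs]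
        obtain ⟨a, ha⟩ := orderOf_mul_involutions hG s (g * s * g⁻¹) hs ht
        have h1 := Cfsg.Agent.S0216.isPGroup_closure s (g * s * g⁻¹) hs ht a ha
        have h2 : Subgroup.zpowers s ⊔ (Subgroup.zpowers s).map (MulAut.conj g).toMonoidHom
            = Subgroup.closure ({s, g * s * g⁻¹} : Set G) := by
          rw [MonoidHom.map_zpowers, Subgroup.zpowers_eq_closure, Subgroup.zpowers_eq_closure,
            ← Subgroup.closure_union]
          rfl
        rw [h2]
        exact h1)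
      have hN1 : N ≠ ⊥ := by
        intro h
        rw [h] at hXN
        have := hXN (Subgroup.mem_zpowers s)
        rw [Subgroup.mem_bot] at this
        rw [this, orderOf_one] at hs
        exact absurd hs (by norm_num)
      have hlt : Nat.card (G ⧸ N) < n := by
        rw [← hcard, ← Subgroup.index_eq_card, ← Subgroup.card_mul_index N]
        have h1 : 1 < Nat.card N := by
          rw [Subgroup.one_lt_card_iff_ne_bot]; exact hN1
        have h2 : 0 < N.index := Nat.pos_of_ne_zero Subgroup.index_ne_zero_of_finite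
        nlinarith
      have hquot := ih _ hlt (G ⧸ N) rfl (noReal_quotient hG N hNp)
      have hNP : N ≤ P := hNp.le_sylow_of_normal P
      have hbar := hquot (P.mapSurjective (QuotientGroup.mk'_surjective N))
      constructor
      intro x hx g
      have h1 : (QuotientGroup.mk' N) x ∈
          ((P.mapSurjective (QuotientGroup.mk'_surjective N) : Sylow 2 (G ⧸ N)) : Subgroup (G ⧸ N)) :=
        ⟨x, hx, rfl⟩
      have h2 := hbar.conj_mem _ h1 ((QuotientGroup.mk' N) g)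
      obtain ⟨x', hx', hx'e⟩ := h2
      have h3 : ((x' : G) : G ⧸ N) = ((g * x * g⁻¹ : G) : G ⧸ N) := by
        have : (QuotientGroup.mk' N) x' = (QuotientGroup.mk' N) g * (QuotientGroup.mk' N) x *
            ((QuotientGroup.mk' N) g)⁻¹ := hx'e
        show (QuotientGroup.mk' N) x' = (QuotientGroup.mk' N) (g * x * g⁻¹)
        rw [this]
        simp
      have h4 : x'⁻¹ * (g * x * g⁻¹) ∈ N := QuotientGroup.eq.mp h3
      have h5 : g * x * g⁻¹ = x' * (x'⁻¹ * (g * x * g⁻¹)) := by group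
      rw [h5]
      exact Subgroup.mul_mem _ hx' (hNP h4)
    · -- no involutions: P trivial
      have hP1 : (P : Subgroup G) = ⊥ := by
        obtain ⟨m, hm⟩ := IsPGroup.iff_card.mp P.isPGroup'
        rcases Nat.eq_zero_or_pos m with h0 | hpos
        · rw [h0, pow_zero] at hm
          exact Subgroup.card_eq_one.mp hm
        · exfalso
          have h2 : 2 ∣ Nat.card G := by
            have h3 : 2 ∣ Nat.card (P : Subgroup G) := by
              rw [hm]; exact dvd_pow_self 2 (by omega)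
            exact dvd_trans h3 (Subgroup.card_subgroup_dvd_card _)
          obtain ⟨s, hs⟩ := exists_prime_orderOf_dvd_card' 2 h2
          exact hinv ⟨s, hs⟩
      rw [hP1]
      infer_instance

/-- A finite group G has no non-identity element of odd order that is conjugate to its inverse if and only if the Sylow 2-subgroups of G are normal. -/
theorem result {G : Type*} [Group G] [Finite G] (P : Sylow 2 G) : (∀ x : G, x ≠ 1 → Odd (orderOf x) → ¬ IsConj x x⁻¹) ↔ (P : Subgroup G).Normal := by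
  constructor
  · intro h
    exact normal_of_noReal _ G rfl h P
  · intro hPn x hx1 hxodd hxconj
    obtain ⟨c, hc⟩ := isConj_iff.mp hxconj
    obtain ⟨a, m, hm, hom⟩ := Nat.exists_eq_two_pow_mul_odd (orderOf_pos c).ne'
    have hc' := Cfsg.Agent.S4060.pow_inverts c x hc m hm
    have hc2 : (c ^ m) ^ (2 ^ a) = 1 := by
      rw [← pow_mul, mul_comm, ← hom, pow_orderOf_eq_one]
    have hcP : c ^ m ∈ (P : Subgroup G) := by
      apply Cfsg.Agent.S4060.mem_sylow_of_mem_normalizer P _ _ a hc2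
      rw [Subgroup.normalizer_eq_top]
      trivial
    have h1 : c ^ m * (x * (c ^ m)⁻¹ * x⁻¹) ∈ (P : Subgroup G) :=
      Subgroup.mul_mem _ hcP (hPn.conj_mem _ (Subgroup.inv_mem _ hcP) x)
    have h2 : c ^ m * (x * (c ^ m)⁻¹ * x⁻¹) = (x⁻¹) ^ 2 := by
      have : c ^ m * (x * (c ^ m)⁻¹ * x⁻¹) = (c ^ m * x * (c ^ m)⁻¹) * x⁻¹ := by group
      rw [this, hc', pow_two]
    rw [h2] at h1
    obtain ⟨k, hk⟩ := P.isPGroup' ⟨_, h1⟩
    have hk' : ((x⁻¹) ^ 2) ^ (2 ^ k) = 1 := by
      simpa using congrArg Subtype.val hk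
    have h3 : x ^ (2 ^ (k + 1)) = 1 := by
      rw [inv_pow, inv_pow, inv_eq_one, ← pow_mul, ← pow_succ'] at hk'
      exact hk'
    have h4 : orderOf x ∣ 2 ^ (k + 1) := orderOf_dvd_of_pow_eq_one h3
    have h5 : Nat.Coprime (orderOf x) (2 ^ (k + 1)) :=
      Nat.Coprime.pow_right _ (Nat.coprime_two_right.mpr hxodd)
    have h6 : orderOf x = 1 := Nat.Coprime.eq_one_of_dvd h5 h4
    exact hx1 (orderOf_eq_one_iff.mp h6)

end Cfsg.Agent.S3861
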