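import Mathlib
import Cfsg.Statements.S3862
import Cfsg.Agent.Lib.Helper7_NPC
import Cfsg.Agent.Lib.Lead_Coprime

set_option autoImplicit false

open Cfsg

namespace Cfsg.Agent.S3862

open Subgroup Cfsg.Agent.Lib.Helper7_NPC Cfsg.Agent.Lib.Lead_Coprime

section
variable {G : Type*} [Group G]

/-- the subgroup generated by the squares of `Q`. -/
def sq (Q : Subgroup G) : Subgroup G := closure {x : G | ∃ u ∈ Q, x = u ^ 2}

theorem sq_le (Q : Subgroup G) : sq Q ≤ Q := by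
  rw [sq, closure_le]
  rintro _ ⟨u, hu, rfl⟩
  exact pow_mem hu 2

theorem conj_mem_sq (Q : Subgroup G) (n : G) (hn : ∀ u ∈ Q, n * u * n⁻¹ ∈ Q) (x : G)
    (hx : x ∈ sq Q) : n * x * n⁻¹ ∈ sq Q := by
  induction hx using closure_induction with
  | mem x hx =>
    obtain ⟨u, hu, rfl⟩ := hx
    apply Subgroup.subset_closure
    exact ⟨n * u * n⁻¹, hn u hu, by rw [pow_two, pow_two]; group⟩
  | one => simp
  | mul a b _ _ ha hb =>
    have : n * (a * b) * n⁻¹ = (n * a * n⁻¹) * (n * b * n⁻¹) := by group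
    rw [this]; exact mul_mem ha hb
  | inv a _ ha =>
    have : n * a⁻¹ * n⁻¹ = (n * a * n⁻¹)⁻¹ := by group
    rw [this]; exact inv_mem ha

theorem card_sq_lt [Finite G] (Q : Subgroup G) (hQ : IsPGroup 2 Q) (hne : Q ≠ ⊥) :
    Nat.card (sq Q) < Nat.card Q := by
  haveI : Fact (Nat.Prime 2) := ⟨Nat.prime_two⟩
  obtain ⟨k, hk⟩ := IsPGroup.iff_card.mp hQ
  have hk0 : k ≠ 0 := by
    intro h0
    rw [h0, pow_zero] at hk
    exact hne ((Subgroup.eq_bot_iff_card Q).mpr hk)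
  obtain ⟨j, rfl⟩ : ∃ j, k = j + 1 := ⟨k - 1, by omega⟩
  obtain ⟨M, hM⟩ := Sylow.exists_subgroup_card_pow_prime (G := Q) 2 (n := j)
    (by rw [hk]; exact pow_dvd_pow 2 (Nat.le_succ j))
  have hidx : M.index = 2 := by
    have h1 := M.card_mul_index
    rw [hM, hk, pow_succ] at h1
    exact Nat.eq_of_mul_eq_mul_left (pow_pos (by norm_num) j) h1
  have hle : sq Q ≤ M.map Q.subtype := by
    rw [sq, closure_le]
    rintro _ ⟨u, hu, rfl⟩
    exact ⟨(⟨u, hu⟩ : Q) ^ 2, sq_mem_of_index_two hidx _, rfl⟩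
  calc Nat.card (sq Q) ≤ Nat.card (M.map Q.subtype) := Subgroup.card_le_of_le hle
    _ = 2 ^ j := by rw [card_map_of_injective Q.subtype_injective, hM]
    _ < Nat.card Q := by rw [hk]; exact Nat.pow_lt_pow_right (by norm_num) (Nat.lt_succ_self j)

end

/-- If every 2-element of the finite group G that is conjugate to its inverse lies in the centre of G, then G has a normal 2-complement. -/
theorem result {G : Type*} [Group G] [Finite G] (h : ∀ x : G, (∃ j : ℕ, orderOf x = 2 ^ j) → IsConj x x⁻¹ → x ∈ Subgroup.center G) : Cfsg.HasNormalPComplement 2 G := by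
  haveI : Fact (Nat.Prime 2) := ⟨Nat.prime_two⟩
  apply hasNormalPComplement_iff_npc.mpr
  apply npc_of_frobHyp
  have key : ∀ n : ℕ, ∀ Q : Subgroup G, Nat.card Q = n → IsPGroup 2 Q →
      ∀ g ∈ normalizer (Q : Set G), (orderOf g).Coprime 2 → g ∈ centralizer (Q : Set G) := by
    intro n
    induction n using Nat.strong_induction_on with
    | _ n ih =>
    intro Q hn hQ g hg hcop
    by_cases hne : Q = ⊥
    · rw [hne, coe_bot, centralizer_eq_top_iff_subset.mpr]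
      · exact mem_top g
      · intro x hx
        rw [Set.mem_singleton_iff] at hx
        rw [hx]; exact one_mem _
    have hgQ : ∀ u ∈ Q, g * u * g⁻¹ ∈ Q := fun u hu => (mem_normalizer_iff.mp hg u).mp hu
    have hgQ' : ∀ u ∈ Q, g⁻¹ * u * g ∈ Q := fun u hu => by
      have := (mem_normalizer_iff.mp (inv_mem hg) u).mp hu
      rwa [inv_inv] at this
    have hgT : g ∈ normalizer ((sq Q : Subgroup G) : Set G) := by
      apply mem_normalizer_of_conj_mem
      · exact fun x hx => conj_mem_sq Q g hgQ x hx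
      · intro x hx
        have := conj_mem_sq Q g⁻¹ (fun u hu => by rw [inv_inv]; exact hgQ' u hu) x hx
        rwa [inv_inv] at this
    have hTc : g ∈ centralizer ((sq Q : Subgroup G) : Set G) :=
      ih (Nat.card (sq Q)) (hn ▸ card_sq_lt Q hQ hne) (sq Q) rfl (hQ.to_le (sq_le Q)) g hgT hcop
    rw [mem_centralizer_iff]
    intro u hu
    -- v = g u g⁻¹, c = u⁻¹ v
    have hsq : g * u ^ 2 * g⁻¹ = u ^ 2 := by
      have := (mem_centralizer_iff.mp hTc) (u ^ 2) (Subgroup.subset_closure ⟨u, hu, rfl⟩)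
      rw [← this]; group
    have hv : (g * u * g⁻¹) ^ 2 = u ^ 2 := by
      rw [← hsq, pow_two, pow_two]; group
    have hcQ : u⁻¹ * (g * u * g⁻¹) ∈ Q := mul_mem (inv_mem hu) (hgQ u hu)
    have hinv : u⁻¹ * (u⁻¹ * (g * u * g⁻¹)) * u⁻¹⁻¹ = (u⁻¹ * (g * u * g⁻¹))⁻¹ := by
      have h1 : (g * u * g⁻¹) * (g * u * g⁻¹) = u * u := by
        rw [← pow_two, ← pow_two]; exact hv
      have h2 : (u⁻¹ * (g * u * g⁻¹)) * (u⁻¹ * (u⁻¹ * (g * u * g⁻¹)) * u⁻¹⁻¹) = 1 := by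
        have : (u⁻¹ * (g * u * g⁻¹)) * (u⁻¹ * (u⁻¹ * (g * u * g⁻¹)) * u⁻¹⁻¹) =
            u⁻¹ * ((g * u * g⁻¹) * u⁻¹ * u⁻¹ * (g * u * g⁻¹)) * u := by group
        rw [this]
        have h3 : (g * u * g⁻¹) * u⁻¹ * u⁻¹ * (g * u * g⁻¹) = 1 := by
          have : (g * u * g⁻¹) * u⁻¹ * u⁻¹ * (g * u * g⁻¹) =
              (g * u * g⁻¹) * (u * u)⁻¹ * (g * u * g⁻¹) := by group
          rw [this, ← h1]; group
        rw [h3]; group
      exact eq_inv_of_mul_eq_one_right h2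
    have hc2 : ∃ j : ℕ, orderOf (u⁻¹ * (g * u * g⁻¹)) = 2 ^ j := by
      obtain ⟨j, hj⟩ := (IsPGroup.iff_orderOf.mp hQ) ⟨_, hcQ⟩
      exact ⟨j, by rw [← hj]; exact (Subgroup.orderOf_mk _ hcQ).symm⟩
    have hcen : u⁻¹ * (g * u * g⁻¹) ∈ center G :=
      h _ hc2 (isConj_iff.mpr ⟨u⁻¹, hinv⟩)
    rw [mem_center_iff] at hcen
    -- c² = 1
    have hcc : (u⁻¹ * (g * u * g⁻¹)) * (u⁻¹ * (g * u * g⁻¹)) = 1 := by
      have h1 := hcen u⁻¹
      have h2 : u⁻¹ * (u⁻¹ * (g * u * g⁻¹)) * u⁻¹⁻¹ = u⁻¹ * (g * u * g⁻¹) := by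
        rw [h1]; group
      rw [h2] at hinv
      exact mul_eq_one_iff_eq_inv.mpr hinv
    -- g² commutes with u
    have hg2 : g ^ 2 * u * (g ^ 2)⁻¹ = u := by
      have h1 : g * (u⁻¹ * (g * u * g⁻¹)) * g⁻¹ = u⁻¹ * (g * u * g⁻¹) := by
        rw [hcen g]; group
      have h2 : g ^ 2 * u * (g ^ 2)⁻¹ =
          (g * u * g⁻¹) * (g * (u⁻¹ * (g * u * g⁻¹)) * g⁻¹) := by rw [pow_two]; group
      rw [h2, h1]
      have h3 : (g * u * g⁻¹) * (u⁻¹ * (g * u * g⁻¹)) =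
          u * ((u⁻¹ * (g * u * g⁻¹)) * (u⁻¹ * (g * u * g⁻¹))) := by group
      rw [h3, hcc, mul_one]
    -- g is a power of g²
    have hodd : (orderOf g).Coprime 2 := hcop
    obtain ⟨m, hm⟩ := exists_pow_eq_self_of_coprime (Nat.Coprime.symm hodd)
    have hcomm : Commute (g ^ 2) u := by
      show g ^ 2 * u = u * g ^ 2
      calc g ^ 2 * u = (g ^ 2 * u * (g ^ 2)⁻¹) * g ^ 2 := by group
        _ = u * g ^ 2 := by rw [hg2]
    have : Commute g u := by
      rw [← hm]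
      exact hcomm.pow_left m
    exact this.eq.symm
  intro Q hQ g hg hcop
  exact key _ Q rfl hQ g hg hcop

end Cfsg.Agent.S3862
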