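import Cfsg.Statements.S3863
import Mathlib

set_option autoImplicit false
open Cfsg

namespace Cfsg.Agent.S3863

variable {G : Type*} [Group G]

/-- odd powers of an inverting element invert. -/
theorem odd_pow_inverts {c x : G} (h : c * x * c⁻¹ = x⁻¹) (k : ℕ) :
    c ^ (2 * k + 1) * x * (c ^ (2 * k + 1))⁻¹ = x⁻¹ := by
  have h2 : c ^ 2 * x * (c ^ 2)⁻¹ = x := by
    have : c ^ 2 * x * (c ^ 2)⁻¹ = c * (c * x * c⁻¹) * c⁻¹ := by
      rw [pow_two]; simp [mul_assoc]
    rw [this, h]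
    have : c * x⁻¹ * c⁻¹ = (c * x * c⁻¹)⁻¹ := by simp [mul_assoc]
    rw [this, h, inv_inv]
  have h2k : ∀ k : ℕ, c ^ (2 * k) * x * (c ^ (2 * k))⁻¹ = x := by
    intro k
    induction k with
    | zero => simp
    | succ k ih =>
      have : c ^ (2 * (k + 1)) * x * (c ^ (2 * (k + 1)))⁻¹
          = c ^ 2 * (c ^ (2 * k) * x * (c ^ (2 * k))⁻¹) * (c ^ 2)⁻¹ := by
        have e : 2 * (k + 1) = 2 + 2 * k := by ring
        rw [e, pow_add]
        simp [mul_assoc]
      rw [this, ih, h2]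
  have : c ^ (2 * k + 1) * x * (c ^ (2 * k + 1))⁻¹
      = c ^ (2 * k) * (c * x * c⁻¹) * (c ^ (2 * k))⁻¹ := by
    rw [pow_succ]; simp [mul_assoc]
  rw [this, h]
  have : c ^ (2 * k) * x⁻¹ * (c ^ (2 * k))⁻¹ = (c ^ (2 * k) * x * (c ^ (2 * k))⁻¹)⁻¹ := by
    simp [mul_assoc]
  rw [this, h2k]

theorem part1 [Finite G] (x : G) (hx : IsConj x x⁻¹) :
    ∃ t : G, (∃ j : ℕ, orderOf t = 2 ^ j) ∧ t * x * t⁻¹ = x⁻¹ := by
  obtain ⟨c, hc⟩ := isConj_iff.mp hx
  have hm0 : orderOf c ≠ 0 := (orderOf_pos c).ne'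
  obtain ⟨e, m', hm'odd, hm'⟩ := Nat.exists_eq_two_pow_mul_odd hm0
  refine ⟨c ^ m', ⟨e, ?_⟩, ?_⟩
  · have hm'0 : m' ≠ 0 := by
      rintro rfl
      simp at hm'odd
    rw [orderOf_pow' _ hm'0, hm', Nat.gcd_eq_right (Dvd.intro_left _ rfl)]
    exact Nat.mul_div_cancel _ (Nat.pos_of_ne_zero hm'0)
  · obtain ⟨k, rfl⟩ := hm'odd
    exact odd_pow_inverts hc k

/-- in a group of odd order, an element killed by a power of two is trivial. -/
theorem eq_one_of_odd_card {Q : Type*} [Group Q] [Finite Q] (hQ : Odd (Nat.card Q)) {y : Q} {j : ℕ}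
    (hy : y ^ (2 ^ j) = 1) : y = 1 := by
  rw [← orderOf_eq_one_iff]
  have h1 : orderOf y ∣ 2 ^ j := orderOf_dvd_of_pow_eq_one hy
  have h2 : orderOf y ∣ Nat.card Q := orderOf_dvd_natCard y
  have hcop : Nat.Coprime (2 ^ j) (Nat.card Q) :=
    Nat.Coprime.pow_left _ (Nat.coprime_two_left.mpr hQ)
  exact Nat.eq_one_of_dvd_coprimes hcop h1 h2

theorem part2 [Finite G] (x : G) (hx : IsConj x x⁻¹)
    (hodd : Odd (Subgroup.centralizer ({x} : Set G)).index) : x ^ 2 = 1 := by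
  classical
  set K : Set G := MulAction.orbit (ConjAct G) x with hK
  have hcard : K.ncard = (Subgroup.centralizer ({x} : Set G)).index := by
    rw [hK, ← MulAction.index_stabilizer]
    have h1 := Subgroup.card_mul_index (Subgroup.centralizer ({x} : Set G))
    have h2 := Subgroup.card_mul_index (MulAction.stabilizer (ConjAct G) x)
    have h3 := Subgroup.nat_card_centralizer_nat_card_stabilizer x
    have h4 : Nat.card (ConjAct G) = Nat.card G := rfl
    have hpos : 0 < Nat.card (Subgroup.centralizer ({x} : Set G)) := Nat.card_pos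
    rw [h4, ← h3] at h2
    exact Nat.eq_of_mul_eq_mul_left hpos (h2.trans h1.symm)
  have hmem : ∀ y : G, y ∈ K ↔ IsConj y x := fun y => ConjAct.mem_orbit_conjAct
  have hinv : ∀ y : G, y ∈ K → y⁻¹ ∈ K := by
    intro y hy
    rw [hmem] at hy ⊢
    have h1 : IsConj y⁻¹ x⁻¹ := by
      obtain ⟨c, hc⟩ := isConj_iff.mp hy
      rw [isConj_iff]
      refine ⟨c, ?_⟩
      rw [← hc]; simp [mul_assoc]
    exact h1.trans hx.symm
  have : Fintype K := Fintype.ofFinite K
  let σ : Equiv.Perm K :=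
    { toFun := fun y => ⟨(y : G)⁻¹, hinv y y.2⟩
      invFun := fun y => ⟨(y : G)⁻¹, hinv y y.2⟩
      left_inv := fun y => by simp
      right_inv := fun y => by simp }
  have hσ : σ ^ 2 ^ 1 = 1 := by
    ext y
    simp [σ, pow_two]
  have hnd : ¬ 2 ∣ Fintype.card K := by
    rw [← Nat.card_eq_fintype_card, Nat.card_coe_set_eq, hcard]
    intro h2
    exact (Nat.not_even_iff_odd.mpr hodd) (even_iff_two_dvd.mpr h2)
  have : Fact (Nat.Prime 2) := ⟨Nat.prime_two⟩
  obtain ⟨y, hy⟩ := Equiv.Perm.exists_fixed_point_of_prime (p := 2) (n := 1) hnd hσ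
  have hy' : (y : G)⁻¹ = (y : G) := congrArg Subtype.val hy
  have hyx : IsConj (y : G) x := (hmem _).1 y.2
  obtain ⟨c, hc⟩ := isConj_iff.mp hyx
  have hy2 : (y : G) ^ 2 = 1 := by
    rw [pow_two]
    nth_rewrite 1 [← hy']
    simp
  rw [← hc, conj_pow, hy2]
  simp

/-- Let x be an element of the finite group G that is conjugate to its inverse. Then some 2-element conjugates x to its inverse; if the conjugacy class of x has odd size then x ^ 2 = 1; and x lies in, and is conjugate to its inverse inside, every normal subgroup of odd index. -/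
theorem result {G : Type*} [Group G] [Finite G] (x : G) (hx : IsConj x x⁻¹) : (∃ t : G, (∃ j : ℕ, orderOf t = 2 ^ j) ∧ t * x * t⁻¹ = x⁻¹) ∧ (Odd (Subgroup.centralizer ({x} : Set G)).index → x ^ 2 = 1) ∧ ∀ (N : Subgroup G) [N.Normal], Odd N.index → ∃ hxN : x ∈ N, IsConj (⟨x, hxN⟩ : N) (⟨x, hxN⟩ : N)⁻¹ := by
  refine ⟨part1 x hx, part2 x hx, ?_⟩
  intro N _ hN
  obtain ⟨t, ⟨j, hj⟩, ht⟩ := part1 x hx
  have hQ : Odd (Nat.card (G ⧸ N)) := by rw [← Subgroup.index_eq_card]; exact hN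
  have htN : t ∈ N := by
    rw [← QuotientGroup.eq_one_iff]
    apply eq_one_of_odd_card hQ (j := j)
    rw [← QuotientGroup.mk_pow, ← hj, pow_orderOf_eq_one]
    rfl
  have hxN : x ∈ N := by
    rw [← QuotientGroup.eq_one_iff]
    apply eq_one_of_odd_card hQ (j := 1)
    have h1 : ((t : G) : G ⧸ N) = 1 := (QuotientGroup.eq_one_iff t).mpr htN
    have h2 : ((t * x * t⁻¹ : G) : G ⧸ N) = ((x⁻¹ : G) : G ⧸ N) := by rw [ht]
    rw [QuotientGroup.mk_mul, QuotientGroup.mk_mul, QuotientGroup.mk_inv, h1] at h2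
    simp only [one_mul, inv_one, mul_one] at h2
    rw [pow_one, pow_two]
    nth_rewrite 1 [h2]
    rw [QuotientGroup.mk_inv]
    simp
  refine ⟨hxN, ?_⟩
  rw [isConj_iff]
  refine ⟨⟨t, htN⟩, ?_⟩
  apply Subtype.ext
  simpa using ht

end Cfsg.Agent.S3863
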