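import Cfsg.Statements.S3866
import Mathlib
import Cfsg.Agent.Lib.Helper6_Stem

set_option autoImplicit false
open Cfsg

namespace Cfsg.Agent.S3866

open scoped commutatorElement
open Cfsg.Agent.Lib.Helper6_Stem

/-- Let A be a commutative normal subgroup of the finite group G with G generated by A and an element x. Then a ↦ x a x⁻¹ a⁻¹ is a surjective homomorphism from A onto the commutator subgroup of G whose kernel is the centralizer of x in A; in particular the commutator subgroup has order equal to the index in A of that centralizer. -/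
theorem result {G : Type*} [Group G] [Finite G] (A : Subgroup G) [A.Normal] (hA : IsMulCommutative A) (x : G) (hgen : A ⊔ Subgroup.zpowers x = ⊤) : (∀ a ∈ A, x * a * x⁻¹ * a⁻¹ ∈ commutator G) ∧ (∀ c ∈ commutator G, ∃ a ∈ A, x * a * x⁻¹ * a⁻¹ = c) ∧ (∀ a ∈ A, ∀ b ∈ A, x * (a * b) * x⁻¹ * (a * b)⁻¹ = (x * a * x⁻¹ * a⁻¹) * (x * b * x⁻¹ * b⁻¹)) ∧ Nat.card (commutator G) * Nat.card ↥(A ⊓ Subgroup.centralizer ({x} : Set G)) = Nat.card A := by
  have hAn : A.Normal := inferInstance
  have hcomm : ∀ u ∈ A, ∀ v ∈ A, u * v = v * u := by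
    intro u hu v hv
    have := mul_comm' (⟨u, hu⟩ : A) ⟨v, hv⟩
    exact congrArg Subtype.val this
  have hconj : ∀ a ∈ A, x * a * x⁻¹ ∈ A := fun a ha => hAn.conj_mem a ha x
  have hconj' : ∀ a ∈ A, x⁻¹ * a * x ∈ A := fun a ha => by
    have := hAn.conj_mem a ha x⁻¹
    simpa using this
  have hfA : ∀ a ∈ A, x * a * x⁻¹ * a⁻¹ ∈ A := fun a ha => A.mul_mem (hconj a ha) (A.inv_mem ha)
  have h1 : ∀ a ∈ A, x * a * x⁻¹ * a⁻¹ ∈ commutator G := by
    intro a _
    rw [_root_.commutator_def]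
    have := Subgroup.commutator_mem_commutator (Subgroup.mem_top x) (Subgroup.mem_top a)
    rwa [commutatorElement_def] at this
  have h3 : ∀ a ∈ A, ∀ b ∈ A, x * (a * b) * x⁻¹ * (a * b)⁻¹ =
      (x * a * x⁻¹ * a⁻¹) * (x * b * x⁻¹ * b⁻¹) := by
    intro a ha b hb
    have hb' := hconj b hb
    have hbb : x * b * x⁻¹ * b⁻¹ ∈ A := hfA b hb
    have e1 : x * (a * b) * x⁻¹ * (a * b)⁻¹ = (x * a * x⁻¹) * ((x * b * x⁻¹ * b⁻¹) * a⁻¹) := by
      simp [mul_assoc]
    rw [e1, hcomm _ hbb _ (A.inv_mem ha)]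
    simp [mul_assoc]
  -- the image subgroup
  let S : Subgroup G :=
    { carrier := {c | ∃ a ∈ A, x * a * x⁻¹ * a⁻¹ = c}
      one_mem' := ⟨1, A.one_mem, by simp⟩
      mul_mem' := by
        rintro _ _ ⟨a, ha, rfl⟩ ⟨b, hb, rfl⟩
        exact ⟨a * b, A.mul_mem ha hb, h3 a ha b hb⟩
      inv_mem' := by
        rintro _ ⟨a, ha, rfl⟩
        refine ⟨a⁻¹, A.inv_mem ha, ?_⟩
        have := h3 a ha a⁻¹ (A.inv_mem ha)
        rw [mul_inv_cancel] at this
        have h0 : x * 1 * x⁻¹ * (1 : G)⁻¹ = 1 := by simp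
        rw [h0] at this
        exact (eq_inv_of_mul_eq_one_right this.symm) }
  have hSmem : ∀ c, c ∈ S ↔ ∃ a ∈ A, x * a * x⁻¹ * a⁻¹ = c := fun c => Iff.rfl
  have hSA : S ≤ A := by
    rintro _ ⟨a, ha, rfl⟩
    exact hfA a ha
  -- S is normal
  have hxS : ∀ c ∈ S, x * c * x⁻¹ ∈ S := by
    rintro _ ⟨a, ha, rfl⟩
    refine ⟨x * a * x⁻¹, hconj a ha, ?_⟩
    simp [mul_assoc]
  have hxS' : ∀ c ∈ S, x⁻¹ * c * x ∈ S := by
    rintro _ ⟨a, ha, rfl⟩
    refine ⟨x⁻¹ * a * x, hconj' a ha, ?_⟩
    simp [mul_assoc]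
  have hxN : x ∈ Subgroup.normalizer (S : Set G) := by
    rw [Subgroup.mem_normalizer_iff]
    intro c
    constructor
    · exact hxS c
    · intro h
      have := hxS' _ h
      simpa [mul_assoc] using this
  have hAN : A ≤ Subgroup.normalizer (S : Set G) := by
    intro a ha
    rw [Subgroup.mem_normalizer_iff]
    intro c
    constructor
    · intro hc
      have : a * c * a⁻¹ = c := by
        rw [hcomm a ha c (hSA hc)]; simp
      rw [this]; exact hc
    · intro hc
      have hcA : c ∈ A := by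
        have := A.mul_mem (A.mul_mem (A.inv_mem ha) (hSA hc)) ha
        simpa [mul_assoc] using this
      have : a * c * a⁻¹ = c := by
        rw [hcomm a ha c hcA]; simp
      rwa [this] at hc
  have hSnormal : S.Normal := by
    rw [← Subgroup.normalizer_eq_top_iff]
    apply top_le_iff.mp
    rw [← hgen]
    apply sup_le hAN
    rw [Subgroup.zpowers_le]
    exact hxN
  have hle : commutator G ≤ S := by
    apply commutator_le_of_gen S ((A : Set G) ∪ {x})
    · rw [Subgroup.closure_union, Subgroup.closure_eq, ← Subgroup.zpowers_eq_closure]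
      exact hgen
    · intro u hu v hv
      rcases hu with hu | hu <;> rcases hv with hv | hv
      · have : ⁅u, v⁆ = 1 := by
          rw [commutatorElement_eq_one_iff_mul_comm]
          exact hcomm u hu v hv
        rw [this]; exact S.one_mem
      · rw [Set.mem_singleton_iff] at hv
        rw [hv]
        have : ⁅u, x⁆ = (x * u * x⁻¹ * u⁻¹)⁻¹ := by
          rw [commutatorElement_def]; simp [mul_assoc]
        rw [this]
        exact S.inv_mem ⟨u, hu, rfl⟩
      · rw [Set.mem_singleton_iff] at hu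
        rw [hu]
        exact ⟨v, hv, rfl⟩
      · rw [Set.mem_singleton_iff] at hu hv
        rw [hu, hv]
        have : ⁅x, x⁆ = 1 := by simp
        rw [this]; exact S.one_mem
  have hSeq : S = commutator G := by
    apply le_antisymm
    · rintro _ ⟨a, ha, rfl⟩
      exact h1 a ha
    · exact hle
  refine ⟨h1, fun c hc => hle hc, h3, ?_⟩
  -- cardinality
  let φ : ↥A →* G := MonoidHom.mk' (fun a => x * (a : G) * x⁻¹ * (a : G)⁻¹) (by
    intro a b
    exact h3 a a.2 b b.2)
  have hrange : φ.range = commutator G := by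
    rw [← hSeq]
    ext c
    constructor
    · rintro ⟨a, rfl⟩
      exact ⟨a, a.2, rfl⟩
    · rintro ⟨a, ha, rfl⟩
      exact ⟨⟨a, ha⟩, rfl⟩
  have hker : φ.ker = (A ⊓ Subgroup.centralizer ({x} : Set G)).subgroupOf A := by
    ext a
    rw [MonoidHom.mem_ker, Subgroup.mem_subgroupOf, Subgroup.mem_inf, Subgroup.mem_centralizer_iff]
    change x * (a : G) * x⁻¹ * (a : G)⁻¹ = 1 ↔ _
    constructor
    · intro h
      refine ⟨a.2, ?_⟩
      intro y hy
      rw [Set.mem_singleton_iff] at hy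
      subst hy
      have : y * (a : G) = (y * (a : G) * y⁻¹ * (a : G)⁻¹) * ((a : G) * y) := by simp [mul_assoc]
      rw [this, h, one_mul]
    · rintro ⟨_, h⟩
      have := h x rfl
      rw [this]; simp
  have hc1 := Subgroup.card_mul_index φ.ker
  rw [Subgroup.index_ker, hrange, hker] at hc1
  have hc2 : Nat.card ↥((A ⊓ Subgroup.centralizer ({x} : Set G)).subgroupOf A)
      = Nat.card ↥(A ⊓ Subgroup.centralizer ({x} : Set G)) :=
    Nat.card_congr (Subgroup.subgroupOfEquivOfLe inf_le_left).toEquiv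
  rw [hc2] at hc1
  rw [mul_comm]; exact hc1

end Cfsg.Agent.S3866
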