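import Cfsg.Statements.S3867
import Mathlib
import Cfsg.Agent.Lib.Helper7_SylowCount

set_option autoImplicit false
open Cfsg

namespace Cfsg.Agent.S3867

open Subgroup
open scoped Pointwise

/-- number of Sylow subgroups of a quotient -/
theorem card_sylow_quotient {G : Type*} [Group G] [Finite G] (p : ℕ) [Fact p.Prime]
    (K : Subgroup G) [K.Normal] (P : Sylow p G) :
    Nat.card (Sylow p (G ⧸ K)) = (normalizer ((P : Subgroup G) : Set G) ⊔ K).index := by
  have hPL : (P : Subgroup G) ≤ (P : Subgroup G) ⊔ K := le_sup_left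
  have hsurj := QuotientGroup.mk'_surjective K
  have e1 : Nat.card (Sylow p (G ⧸ K)) = (normalizer
      (((P.mapSurjective hsurj : Sylow p (G ⧸ K)) : Subgroup (G ⧸ K)) : Set (G ⧸ K))).index :=
    Sylow.card_eq_index_normalizer (P.mapSurjective hsurj)
  rw [e1, ← index_comap_of_surjective _ hsurj, comap_normalizer_eq_of_surjective _ hsurj,
    Sylow.coe_mapSurjective, comap_map_eq, QuotientGroup.ker_mk']
  have hNN : normalizer ((P : Subgroup G) : Set G) ≤
      normalizer (((P : Subgroup G) ⊔ K : Subgroup G) : Set G) := by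
    have := normalizer_inf_normalizer_le_normalizer_sup (P : Subgroup G) K
    rw [normalizer_eq_top_iff.mpr (inferInstance : K.Normal), inf_top_eq] at this
    exact this
  have hfrat : ((P : Subgroup G) ⊔ K) ⊔ normalizer ((P : Subgroup G) : Set G) =
      normalizer (((P : Subgroup G) ⊔ K : Subgroup G) : Set G) :=
    le_antisymm (sup_le le_normalizer hNN)
      (Cfsg.Agent.Lib.Helper7_SylowCount.normalizer_le_sup_normalizer P _ hPL)
  rw [← hfrat]
  congr 1
  apply le_antisymm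
  · apply sup_le (sup_le (le_trans le_normalizer le_sup_left) le_sup_right) le_sup_left
  · apply sup_le le_sup_right (le_trans le_sup_right le_sup_left)

/-- key claim -/
theorem inf_sup_le {G : Type*} [Group G] [Finite G] (p : ℕ) [Fact p.Prime] (M N : Subgroup G)
    [hMn : M.Normal] [hNn : N.Normal] (hMN : M ⊓ N = ⊥) (P : Sylow p G) :
    M ⊓ (normalizer ((P : Subgroup G) : Set G) ⊔ N) ≤ normalizer ((P : Subgroup G) : Set G) := by
  -- sublemma : (P ⊔ M) ⊓ N ≤ P
  have hK : ((P : Subgroup G) ⊔ M) ⊓ N ≤ (P : Subgroup G) := by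
    set K := ((P : Subgroup G) ⊔ M) ⊓ N with hKdef
    have hKp : IsPGroup p K := by
      rintro ⟨t, ht⟩
      have ht1 : t ∈ (((P : Subgroup G) ⊔ M : Subgroup G) : Set G) := (Subgroup.mem_inf.mp ht).1
      have ht2 : t ∈ N := (Subgroup.mem_inf.mp ht).2
      rw [Subgroup.mul_normal, Set.mem_mul] at ht1
      obtain ⟨u, hu, m', hm', rfl⟩ := ht1
      obtain ⟨k, hk⟩ := P.isPGroup' ⟨u, hu⟩
      have hk' : u ^ (p ^ k) = 1 := by simpa using congrArg Subtype.val hk
      refine ⟨k, ?_⟩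
      apply Subtype.ext
      show (u * m') ^ (p ^ k) = 1
      have h1 : (u * m') ^ (p ^ k) ∈ M := by
        rw [← QuotientGroup.eq_one_iff, QuotientGroup.mk_pow, QuotientGroup.mk_mul,
          (QuotientGroup.eq_one_iff m').mpr hm', mul_one, ← QuotientGroup.mk_pow, hk']
        rfl
      have h2 : (u * m') ^ (p ^ k) ∈ N := Subgroup.pow_mem _ ht2 _
      have h3 : (u * m') ^ (p ^ k) ∈ M ⊓ N := Subgroup.mem_inf.mpr ⟨h1, h2⟩
      rw [hMN, Subgroup.mem_bot] at h3
      exact h3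
    have hPK : (P : Subgroup G) ≤ normalizer (K : Set G) := by
      intro x hx
      apply Subgroup.mem_normalizer_fintype
      intro t ht
      have ht' : t ∈ K := ht
      rw [hKdef, Subgroup.mem_inf] at ht'
      show x * t * x⁻¹ ∈ K
      rw [hKdef, Subgroup.mem_inf]
      have hx' : x ∈ (P : Subgroup G) ⊔ M := (le_sup_left : (P : Subgroup G) ≤ _) hx
      exact ⟨Subgroup.mul_mem _ (Subgroup.mul_mem _ hx' ht'.1) (Subgroup.inv_mem _ hx'),
        hNn.conj_mem t ht'.2 x⟩
    have hsup := IsPGroup.to_sup_of_normal_right' P.isPGroup' hKp hPK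
    have := P.is_maximal' hsup le_sup_left
    rw [← this]
    exact le_sup_right
  intro m hm
  rw [Subgroup.mem_inf] at hm
  obtain ⟨hmM, hmHN⟩ := hm
  have hmHN' : m ∈ ((normalizer ((P : Subgroup G) : Set G) ⊔ N : Subgroup G) : Set G) := hmHN
  rw [Subgroup.mul_normal, Set.mem_mul] at hmHN'
  obtain ⟨h, hh, n, hn, rfl⟩ := hmHN'
  apply Subgroup.mem_normalizer_fintype
  intro x hx
  have hx' : x ∈ (P : Subgroup G) := hx
  show h * n * x * (h * n)⁻¹ ∈ (P : Subgroup G)
  -- v = h x h⁻¹ ∈ P, n' ∈ N with w = v n'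
  set w := h * n * x * (h * n)⁻¹ with hw
  set v := h * x * h⁻¹ with hv
  have hvP : v ∈ (P : Subgroup G) := (Subgroup.mem_normalizer_iff.mp hh x).mp hx'
  set n' := v⁻¹ * w with hn'
  have hn'N : n' ∈ N := by
    have : n' = h * (x⁻¹ * n * x * n⁻¹) * h⁻¹ := by
      rw [hn', hv, hw]; group
    rw [this]
    apply hNn.conj_mem
    have h1 : x⁻¹ * n * x ∈ N := by
      have := hNn.conj_mem n hn x⁻¹
      simpa using this
    exact N.mul_mem h1 (N.inv_mem hn)
  have hn'PM : n' ∈ (P : Subgroup G) ⊔ M := by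
    -- w = x (x⁻¹ m x m⁻¹) with m = h n
    have hwPM : w ∈ (P : Subgroup G) ⊔ M := by
      have : w = x * (x⁻¹ * (h * n) * x * (h * n)⁻¹) := by rw [hw]; group
      rw [this]
      apply Subgroup.mul_mem _ ((le_sup_left : (P : Subgroup G) ≤ _) hx')
      apply (le_sup_right : M ≤ (P : Subgroup G) ⊔ M)
      have h1 : x⁻¹ * (h * n) * x ∈ M := by
        have := hMn.conj_mem (h * n) hmM x⁻¹
        simpa using this
      exact M.mul_mem h1 (M.inv_mem hmM)
    rw [hn']
    exact Subgroup.mul_mem _ (Subgroup.inv_mem _ ((le_sup_left : (P : Subgroup G) ≤ _) hvP)) hwPM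
  have hn'P : n' ∈ (P : Subgroup G) := hK (Subgroup.mem_inf.mpr ⟨hn'PM, hn'N⟩)
  have : w = v * n' := by rw [hn']; group
  rw [this]
  exact Subgroup.mul_mem _ hvP hn'P

/-- Let M and N be nontrivial normal subgroups of the finite group G with M ⊓ N trivial, and let p be a prime. Writing n(X) for the number of Sylow p-subgroups of a group X, one has n(G) · n(G/MN) = n(G/M) · n(G/N). -/
theorem result {G : Type*} [Group G] [Finite G] (p : ℕ) [Fact p.Prime] (M N : Subgroup G) [M.Normal] [N.Normal] (hM : M ≠ ⊥) (hN : N ≠ ⊥) (hMN : M ⊓ N = ⊥) : Nat.card (Sylow p G) * Nat.card (Sylow p (G ⧸ (M ⊔ N))) = Nat.card (Sylow p (G ⧸ M)) * Nat.card (Sylow p (G ⧸ N)) := by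
  obtain ⟨P⟩ : Nonempty (Sylow p G) := inferInstance
  set H := normalizer ((P : Subgroup G) : Set G) with hH
  have f0 : Nat.card (Sylow p G) = H.index := Sylow.card_eq_index_normalizer P
  have f1 : Nat.card (Sylow p (G ⧸ M)) = (H ⊔ M).index := card_sylow_quotient p M P
  have f2 : Nat.card (Sylow p (G ⧸ N)) = (H ⊔ N).index := card_sylow_quotient p N P
  have f3 : Nat.card (Sylow p (G ⧸ (M ⊔ N))) = (H ⊔ (M ⊔ N)).index :=
    card_sylow_quotient p (M ⊔ N) P
  rw [f0, f1, f2, f3]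
  have h1 : H.relIndex (M ⊔ H) = (M ⊓ H).relIndex M := Cfsg.Agent.S4244.second_iso_abs M H
  have h2 : (H ⊔ N).relIndex (M ⊔ (H ⊔ N)) = (M ⊓ (H ⊔ N)).relIndex M :=
    Cfsg.Agent.S4244.second_iso_abs M (H ⊔ N)
  have h3 : M ⊓ H = M ⊓ (H ⊔ N) := by
    apply le_antisymm
    · exact inf_le_inf_left M le_sup_left
    · exact le_inf inf_le_left (inf_sup_le p M N hMN P)
  have h4 : H.relIndex (M ⊔ H) = (H ⊔ N).relIndex (M ⊔ (H ⊔ N)) := by rw [h1, h2, h3]
  have e1 : H.relIndex (M ⊔ H) * (M ⊔ H).index = H.index :=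
    Subgroup.relIndex_mul_index le_sup_right
  have e2 : (H ⊔ N).relIndex (M ⊔ (H ⊔ N)) * (M ⊔ (H ⊔ N)).index = (H ⊔ N).index :=
    Subgroup.relIndex_mul_index le_sup_right
  have s1 : H ⊔ M = M ⊔ H := sup_comm _ _
  have s2 : H ⊔ (M ⊔ N) = M ⊔ (H ⊔ N) := by
    rw [← sup_assoc, sup_comm H M, sup_assoc]
  rw [s1, s2, ← e1, ← e2, h4]
  ring

end Cfsg.Agent.S3867
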