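import Cfsg.Statements.S3868
import Mathlib
import Cfsg.Agent.Lib.Helper6_MinNonPClosed
import Cfsg.Agent.Lib.Helper6_ConjAct

set_option autoImplicit false
open Cfsg

namespace Cfsg.Agent.S3868

open Cfsg.Agent.Lib.Helper6_MinNonPClosed

/-- a minimal normal subgroup below a nontrivial normal subgroup -/
theorem exists_minimal_normal {G : Type*} [Group G] [Finite G] (M : Subgroup G) [M.Normal]
    (hM : M ≠ ⊥) :
    ∃ A : Subgroup G, A.Normal ∧ A ≠ ⊥ ∧ A ≤ M ∧
      ∀ B : Subgroup G, B.Normal → B ≤ A → B = ⊥ ∨ B = A := by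
  classical
  let S := {B : Subgroup G // B.Normal ∧ B ≠ ⊥ ∧ B ≤ M}
  haveI : Nonempty S := ⟨⟨M, inferInstance, hM, le_rfl⟩⟩
  obtain ⟨⟨A, hAn, hA1, hAM⟩, hmin⟩ := Finite.exists_min (fun B : S => Nat.card B.1)
  refine ⟨A, hAn, hA1, hAM, ?_⟩
  intro B hBn hBA
  by_cases hB : B = ⊥
  · left; exact hB
  · right
    have := hmin ⟨B, hBn, hB, hBA.trans hAM⟩
    exact Subgroup.eq_of_le_of_card_ge hBA this

set_option maxHeartbeats 1600000 in
/-- Structure of the non-simple minimal non-p-closed groups. Call a finite group p-closed when its Sylow p-subgroups are normal, and minimal non-p-closed when it is not p-closed but every proper subgroup and every proper quotient is. If such a group G is not simple, then there is a prime q ≠ p such that G has order p · q^e, where e is the multiplicative order of q modulo p, and G has a normal subgroup A of order q^e that is elementary abelian and is a minimal normal subgroup of G (so G is the semidirect product of A by a group of order p acting irreducibly). -/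
theorem result {G : Type*} [Group G] [Finite G] {p : ℕ} [Fact p.Prime]
    (hnc : ¬ Cfsg.IsPClosed p G) (hsub : ∀ H : Subgroup G, H ≠ ⊤ → Cfsg.IsPClosed p ↥H)
    (hquo : ∀ (N : Subgroup G) [N.Normal], N ≠ ⊥ → Cfsg.IsPClosed p (G ⧸ N)) (hns : ¬ IsSimpleGroup G) :
    ∃ q : ℕ, q.Prime ∧ q ≠ p ∧ Nat.card G = p * q ^ orderOf (q : ZMod p) ∧
      ∃ A : Subgroup G, A.Normal ∧ Nat.card ↥A = q ^ orderOf (q : ZMod p) ∧ Cfsg.IsElementaryAbelian q A ∧
        ∀ B : Subgroup G, B.Normal → B ≤ A → B = ⊥ ∨ B = A := by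
  classical
  have hp : p.Prime := Fact.out
  -- a non-normal Sylow
  have hex : ∃ P : Sylow p G, ¬ (P : Subgroup G).Normal := by
    by_contra h
    push Not at h
    exact hnc h
  obtain ⟨P, hPnn⟩ := hex
  haveI : Nontrivial G := by
    by_contra hnt
    rw [not_nontrivial_iff_subsingleton] at hnt
    apply hPnn
    constructor
    intro n hn g
    rw [Subsingleton.elim (g * n * g⁻¹) n]
    exact hn
  have hM : ∃ M : Subgroup G, M.Normal ∧ M ≠ ⊥ ∧ M ≠ ⊤ := by
    by_contra h
    push Not at h
    apply hns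
    exact ⟨fun H hH => by
      by_cases h1 : H = ⊥
      · left; exact h1
      · right; exact h H hH h1⟩
  obtain ⟨M, hMn, hM1, hMtop⟩ := hM
  haveI := hMn
  obtain ⟨A, hAn, hA1, hAM, hAmin⟩ := exists_minimal_normal M hM1
  haveI := hAn
  have hAtop : A ≠ ⊤ := fun h => hMtop (top_le_iff.mp (h ▸ hAM))
  -- a nontrivial normal subgroup inside P is impossible
  have hQ : ∀ (N : Subgroup G) [N.Normal], N ≠ ⊥ → N ≤ (P : Subgroup G) → False := by
    intro N hNn hN1 hNP
    apply hPnn
    have h1 := hquo N hN1 (Sylow.mapSurjective (QuotientGroup.mk'_surjective N) P)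
    rw [Sylow.coe_mapSurjective] at h1
    have h2 := h1.comap (QuotientGroup.mk' N)
    rw [Subgroup.comap_map_eq, QuotientGroup.ker_mk', sup_eq_left.mpr hNP] at h2
    exact h2
  -- A is a p'-group
  obtain ⟨S⟩ : Nonempty (Sylow p A) := inferInstance
  have hSn : (S : Subgroup A).Normal := hsub A hAtop S
  haveI : (S : Subgroup A).Characteristic := Sylow.characteristic_of_normal S hSn
  have hS'n : ((S : Subgroup A).map A.subtype).Normal := ConjAct.normal_of_characteristic_of_normal
  have hAp' : (Nat.card A).Coprime p := by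
    rcases hAmin _ hS'n (Subgroup.map_subtype_le _) with h | h
    · rw [Subgroup.map_eq_bot_iff_of_injective _ A.subtype_injective] at h
      rw [Nat.coprime_comm, Nat.Prime.coprime_iff_not_dvd hp]
      intro hd
      exact S.ne_bot_of_dvd_card hd h
    · exfalso
      have hStop : (S : Subgroup A) = ⊤ := by
        rw [eq_top_iff]
        intro a _
        have : (a : G) ∈ (S : Subgroup A).map A.subtype := by rw [h]; exact a.2
        obtain ⟨b, hb, hba⟩ := this
        have : b = a := Subtype.ext hba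
        rwa [this] at hb
      have hApg : IsPGroup p A := by
        intro a
        obtain ⟨k, hk⟩ := S.2 ⟨a, by rw [hStop]; trivial⟩
        exact ⟨k, by simpa using congrArg Subtype.val hk⟩
      have hAP : A ≤ P := by
        have h3 : IsPGroup p ((P : Subgroup G) ⊔ A : Subgroup G) :=
          IsPGroup.to_sup_of_normal_right P.2 hApg
        have h4 := P.is_maximal' h3 le_sup_left
        rw [← h4]; exact le_sup_right
      exact hQ A hA1 hAP
  have hpA : ¬ p ∣ Nat.card A := by
    rw [← Nat.Prime.coprime_iff_not_dvd hp]; exact hAp'.symm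
  -- P ⊔ A = ⊤
  have hPA : (P : Subgroup G) ⊔ A = ⊤ := by
    by_contra hne
    apply hPnn
    have hLn : ((P : Subgroup G) ⊔ A).Normal := by
      have h1 := hquo A hA1 (Sylow.mapSurjective (QuotientGroup.mk'_surjective A) P)
      rw [Sylow.coe_mapSurjective] at h1
      have h2 := h1.comap (QuotientGroup.mk' A)
      rw [Subgroup.comap_map_eq, QuotientGroup.ker_mk'] at h2
      exact h2
    haveI := hLn
    have hPL : (P : Subgroup G) ≤ (P : Subgroup G) ⊔ A := le_sup_left
    have h3 : ((P.subtype hPL : Sylow p ↥((P : Subgroup G) ⊔ A)) : Subgroup ↥((P : Subgroup G) ⊔ A)).Normal :=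
      hsub _ hne (P.subtype hPL)
    haveI : ((P.subtype hPL : Sylow p ↥((P : Subgroup G) ⊔ A)) :
        Subgroup ↥((P : Subgroup G) ⊔ A)).Characteristic := Sylow.characteristic_of_normal _ h3
    have h4 : (((P.subtype hPL : Sylow p ↥((P : Subgroup G) ⊔ A)) :
        Subgroup ↥((P : Subgroup G) ⊔ A)).map ((P : Subgroup G) ⊔ A).subtype).Normal :=
      ConjAct.normal_of_characteristic_of_normal
    rw [Sylow.coe_subtype, Subgroup.map_subgroupOf_eq_of_le hPL] at h4
    exact h4
  have hPAinf : (P : Subgroup G) ⊓ A = ⊥ := by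
    obtain ⟨k, hk⟩ := IsPGroup.iff_card.mp P.2
    exact (Subgroup.disjoint_of_coprime_natCard (by rw [hk]; exact (hAp'.symm).pow_left k)).eq_bot
  have hdec : ∀ g : G, ∃ a ∈ A, ∃ h ∈ (P : Subgroup G), g = a * h := by
    intro g
    have hg : g ∈ ((A ⊔ (P : Subgroup G) : Subgroup G) : Set G) := by rw [sup_comm, hPA]; trivial
    rw [Subgroup.normal_mul] at hg
    obtain ⟨a, ha, h, hh, rfl⟩ := Set.mem_mul.mp hg
    exact ⟨a, ha, h, hh, rfl⟩
  -- P acts faithfully on A
  have hC : (P : Subgroup G) ⊓ Subgroup.centralizer (A : Set G) = ⊥ := by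
    by_contra hne
    have hCn : ((P : Subgroup G) ⊓ Subgroup.centralizer (A : Set G)).Normal := by
      constructor
      intro c hc g
      obtain ⟨a, ha, h, hh, rfl⟩ := hdec g
      have h1 : h * c * h⁻¹ ∈ (P : Subgroup G) ⊓ Subgroup.centralizer (A : Set G) :=
        ⟨(P : Subgroup G).mul_mem ((P : Subgroup G).mul_mem hh hc.1) ((P : Subgroup G).inv_mem hh),
          (Subgroup.normal_centralizer (H := A)).conj_mem _ hc.2 _⟩
      have h2 : a * h * c * (a * h)⁻¹ = a * (h * c * h⁻¹) * a⁻¹ := by group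
      rw [h2]
      have h3 := (Subgroup.mem_centralizer_iff.mp h1.2) a ha
      rw [h3]
      have h4 : h * c * h⁻¹ * a * a⁻¹ = h * c * h⁻¹ := by group
      rw [h4]
      exact h1
    exact hQ _ hne inf_le_left
  -- proper subgroups of P are trivial
  have hprop : ∀ P₁ : Subgroup G, P₁ ≤ (P : Subgroup G) → P₁ ≠ (P : Subgroup G) → P₁ = ⊥ := by
    intro P₁ hP₁ hne
    have hL1 : P₁ ⊔ A ≠ ⊤ := by
      intro htop
      apply hne
      apply le_antisymm hP₁
      intro g hg
      have hg' : g ∈ ((A ⊔ P₁ : Subgroup G) : Set G) := by rw [sup_comm, htop]; trivial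
      rw [Subgroup.normal_mul] at hg'
      obtain ⟨a, ha, h, hh, rfl⟩ := Set.mem_mul.mp hg'
      have ha' : a ∈ (P : Subgroup G) ⊓ A := by
        refine ⟨?_, ha⟩
        have h0 := (P : Subgroup G).mul_mem hg ((P : Subgroup G).inv_mem (hP₁ hh))
        have e : a * h * h⁻¹ = a := by group
        rw [e] at h0
        exact h0
      rw [hPAinf] at ha'
      rw [Subgroup.mem_bot.mp ha', one_mul]
      exact hh
    have hcent : P₁ ≤ Subgroup.centralizer (A : Set G) := by
      have hP₁L : P₁ ≤ P₁ ⊔ A := le_sup_left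
      have hAL : A ≤ P₁ ⊔ A := le_sup_right
      have hP₁p : IsPGroup p (P₁.subgroupOf (P₁ ⊔ A)) := (P.2.to_le hP₁).comap_subtype
      obtain ⟨S₁, hS₁⟩ := hP₁p.exists_le_sylow
      have hS₁n := hsub _ hL1 S₁
      have hALn : (A.subgroupOf (P₁ ⊔ A)).Normal := inferInstance
      have hdis : Disjoint (S₁ : Subgroup ↥(P₁ ⊔ A)) (A.subgroupOf (P₁ ⊔ A)) := by
        obtain ⟨k, hk⟩ := IsPGroup.iff_card.mp S₁.2
        apply Subgroup.disjoint_of_coprime_natCard
        rw [hk, Nat.card_congr (Subgroup.subgroupOfEquivOfLe hAL).toEquiv]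
        exact (hAp'.symm).pow_left k
      intro h hh
      rw [Subgroup.mem_centralizer_iff]
      intro a ha
      have := Subgroup.commute_of_normal_of_disjoint _ _ hS₁n hALn hdis ⟨h, hP₁L hh⟩ ⟨a, hAL ha⟩
        (hS₁ (Subgroup.mem_subgroupOf.mpr hh)) (Subgroup.mem_subgroupOf.mpr ha)
      exact (congrArg Subtype.val this.eq).symm
    rw [eq_bot_iff, ← hC]
    exact le_inf hP₁ hcent
  -- |P| = p
  have hPne : (P : Subgroup G) ≠ ⊥ := by
    intro h
    apply hAtop
    rw [h, bot_sup_eq] at hPA
    exact hPA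
  obtain ⟨x, hxP, hx⟩ : ∃ x ∈ (P : Subgroup G), orderOf x = p := by
    obtain ⟨k, hk⟩ := IsPGroup.iff_card.mp P.2
    have hk0 : k ≠ 0 := by
      rintro rfl
      rw [pow_zero] at hk
      exact hPne (Subgroup.card_eq_one.mp hk)
    obtain ⟨y, hy⟩ := exists_prime_orderOf_dvd_card' (G := (P : Subgroup G)) p
      (by rw [hk]; exact dvd_pow_self p hk0)
    exact ⟨y, y.2, by rw [Subgroup.orderOf_coe]; exact hy⟩
  have hPx : Subgroup.zpowers x = (P : Subgroup G) := by
    by_contra hne
    have h1 := hprop (Subgroup.zpowers x) (by rw [Subgroup.zpowers_le]; exact hxP) hne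
    have h2 : x ∈ Subgroup.zpowers x := Subgroup.mem_zpowers x
    rw [h1, Subgroup.mem_bot] at h2
    rw [h2, orderOf_one] at hx
    exact hp.one_lt.ne hx
  have hPcard : Nat.card (P : Subgroup G) = p := by
    rw [← hPx, Nat.card_zpowers, hx]
  have hcompl : Subgroup.IsComplement' A (P : Subgroup G) := by
    apply Subgroup.isComplement'_of_disjoint_and_mul_eq_univ
    · rw [disjoint_iff, inf_comm]; exact hPAinf
    · rw [← Subgroup.normal_mul, sup_comm, hPA]; rfl
  have hAidx : A.index = p := by
    rw [hcompl.symm.index_eq_card, hPcard]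
  -- A is a q-group
  have hBne : A ⊓ Subgroup.centralizer ((P : Subgroup G) : Set G) ≠ A := by
    intro h
    apply hPne
    rw [eq_bot_iff, ← hC]
    refine le_inf le_rfl ?_
    intro h' hh'
    rw [Subgroup.mem_centralizer_iff]
    intro a ha
    have ha' : a ∈ A ⊓ Subgroup.centralizer ((P : Subgroup G) : Set G) := by rw [h]; exact ha
    exact ((Subgroup.mem_centralizer_iff.mp ha'.2) h' hh').symm
  set B := A ⊓ Subgroup.centralizer ((P : Subgroup G) : Set G) with hB
  have hBA : B ≤ A := inf_le_left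
  have hr1 : B.relIndex A ≠ 1 := by
    intro h
    apply hBne
    exact le_antisymm hBA (Subgroup.relIndex_eq_one.mp h)
  set q := (B.relIndex A).minFac with hq
  have hqp : q.Prime := Nat.minFac_prime hr1
  haveI : Fact q.Prime := ⟨hqp⟩
  have hqr : q ∣ B.relIndex A := Nat.minFac_dvd _
  have hqA : q ∣ Nat.card A := hqr.trans (Subgroup.relIndex_dvd_card B A)
  have hqne : q ≠ p := by
    rintro h
    exact hpA (h ▸ hqA)
  obtain ⟨Q, hQn⟩ := Cfsg.Agent.Lib.Helper6_ConjAct.exists_invariant_sylow q p (P : Subgroup G) A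
    (by rw [Subgroup.normalizer_eq_top]; exact le_top) P.2 hpA
  have hQ'A : (Q : Subgroup A).map A.subtype ≤ A := Subgroup.map_subtype_le _
  have hQA : (Q : Subgroup A).map A.subtype = A := by
    by_contra hne
    -- the normalizer of Q' is proper, so p-closed
    have hNtop : Subgroup.normalizer (((Q : Subgroup A).map A.subtype : Subgroup G) : Set G) ≠ ⊤ := by
      intro h
      have hn : ((Q : Subgroup A).map A.subtype).Normal := Subgroup.normalizer_eq_top_iff.mp h
      rcases hAmin _ hn hQ'A with h1 | h1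
      · rw [Subgroup.map_eq_bot_iff_of_injective _ A.subtype_injective] at h1
        exact Q.ne_bot_of_dvd_card hqA h1
      · exact hne h1
    have h3 := hsub _ hNtop (P.subtype hQn)
    rw [Sylow.coe_subtype] at h3
    -- Q' centralizes P
    have hcen : (Q : Subgroup A).map A.subtype ≤ B := by
      intro y hy
      rw [hB]
      refine Subgroup.mem_inf.mpr ⟨hQ'A hy, ?_⟩
      rw [Subgroup.mem_centralizer_iff]
      intro h hh
      have hyN : y ∈ Subgroup.normalizer (((Q : Subgroup A).map A.subtype : Subgroup G) : Set G) :=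
        Subgroup.le_normalizer hy
      -- y h y⁻¹ ∈ P
      have h4 : (⟨y, hyN⟩ : ↥(Subgroup.normalizer (((Q : Subgroup A).map A.subtype : Subgroup G) : Set G))) *
          ⟨h, hQn hh⟩ * (⟨y, hyN⟩)⁻¹ ∈ (P : Subgroup G).subgroupOf _ :=
        h3.conj_mem _ (Subgroup.mem_subgroupOf.mpr hh) _
      rw [Subgroup.mem_subgroupOf] at h4
      have h4' : y * h * y⁻¹ ∈ (P : Subgroup G) := h4
      -- h y⁻¹ h⁻¹ ∈ Q'
      have h5 : h * y⁻¹ * h⁻¹ ∈ (Q : Subgroup A).map A.subtype :=
        (Subgroup.mem_normalizer_iff.mp (hQn hh) y⁻¹).mp (Subgroup.inv_mem _ hy)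
      have h6 : y * h * y⁻¹ * h⁻¹ ∈ (P : Subgroup G) ⊓ A := by
        refine ⟨(P : Subgroup G).mul_mem h4' ((P : Subgroup G).inv_mem hh), ?_⟩
        have : y * h * y⁻¹ * h⁻¹ = y * (h * y⁻¹ * h⁻¹) := by group
        rw [this]
        exact A.mul_mem (hQ'A hy) (hQ'A h5)
      rw [hPAinf, Subgroup.mem_bot] at h6
      have : y * h = h * y := by
        calc y * h = (y * h * y⁻¹ * h⁻¹) * h * y := by group
          _ = h * y := by rw [h6, one_mul]
      exact this.symm
    -- order contradiction
    have hcardQ' : Nat.card ((Q : Subgroup A).map A.subtype) = q ^ (Nat.card A).factorization q := by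
      rw [Subgroup.card_subtype, Q.card_eq_multiplicity]
    have h7 : q ^ (Nat.card A).factorization q ∣ Nat.card B := by
      rw [← hcardQ']
      exact Subgroup.card_dvd_of_le hcen
    have h8 : Nat.card B * B.relIndex A = Nat.card A := by
      have := Subgroup.card_mul_index (B.subgroupOf A)
      rw [Nat.card_congr (Subgroup.subgroupOfEquivOfLe hBA).toEquiv] at this
      exact this
    have h9 : q ^ ((Nat.card A).factorization q + 1) ∣ Nat.card A := by
      have := Nat.mul_dvd_mul h7 hqr
      rw [h8] at this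
      rw [pow_succ]
      exact this
    exact Nat.pow_succ_factorization_not_dvd Nat.card_pos.ne' hqp h9
  have hQtop : (Q : Subgroup A) = ⊤ := by
    rw [eq_top_iff]
    intro a _
    have : (a : G) ∈ (Q : Subgroup A).map A.subtype := by rw [hQA]; exact a.2
    obtain ⟨b, hb, hba⟩ := this
    have : b = a := Subtype.ext hba
    rwa [this] at hb
  have hAq : IsPGroup q A := by
    intro a
    obtain ⟨k, hk⟩ := Q.2 ⟨a, by rw [hQtop]; trivial⟩
    exact ⟨k, by simpa using congrArg Subtype.val hk⟩
  -- A is abelian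
  haveI : Nontrivial A := (Subgroup.nontrivial_iff_ne_bot A).mpr hA1
  have hAcomm : ∀ a ∈ A, ∀ b ∈ A, a * b = b * a := by
    haveI : Nontrivial (Subgroup.center A) := hAq.center_nontrivial
    have hZn : ((Subgroup.center A).map A.subtype).Normal := ConjAct.normal_of_characteristic_of_normal
    rcases hAmin _ hZn (Subgroup.map_subtype_le _) with h | h
    · exfalso
      rw [Subgroup.map_eq_bot_iff_of_injective _ A.subtype_injective] at h
      exact (Subgroup.nontrivial_iff_ne_bot _).mp inferInstance h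
    · intro a ha b hb
      have : a ∈ (Subgroup.center A).map A.subtype := by rw [h]; exact ha
      obtain ⟨a', ha', rfl⟩ := this
      have := Subgroup.mem_center_iff.mp ha' ⟨b, hb⟩
      exact (congrArg Subtype.val this).symm
  -- exponent q
  have hAexp : ∀ a ∈ A, a ^ q = 1 := by
    let Ω : Subgroup G :=
      { carrier := {a | a ∈ A ∧ a ^ q = 1}
        mul_mem' := by
          rintro a b ⟨ha, ha1⟩ ⟨hb, hb1⟩
          refine ⟨A.mul_mem ha hb, ?_⟩
          have : Commute a b := hAcomm a ha b hb
          rw [this.mul_pow, ha1, hb1, one_mul]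
        one_mem' := ⟨A.one_mem, one_pow _⟩
        inv_mem' := by
          rintro a ⟨ha, ha1⟩
          exact ⟨A.inv_mem ha, by rw [inv_pow, ha1, inv_one]⟩ }
    have hΩn : Ω.Normal := by
      constructor
      rintro a ⟨ha, ha1⟩ g
      exact ⟨hAn.conj_mem a ha g, by rw [conj_pow, ha1, mul_one, mul_inv_cancel]⟩
    have hΩA : Ω ≤ A := fun a ha => ha.1
    rcases hAmin Ω hΩn hΩA with h | h
    · exfalso
      obtain ⟨y, hy⟩ := exists_prime_orderOf_dvd_card' (G := A) q hqA
      have hyΩ : (y : G) ∈ Ω := ⟨y.2, by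
        have := pow_orderOf_eq_one y
        rw [hy] at this
        simpa using congrArg Subtype.val this⟩
      rw [h, Subgroup.mem_bot] at hyΩ
      have : y = 1 := Subtype.ext hyΩ
      rw [this, orderOf_one] at hy
      exact hqp.one_lt.ne hy
    · intro a ha
      have : a ∈ Ω := by rw [h]; exact ha
      exact this.2
  have hAel : Cfsg.IsElementaryAbelian q A :=
    ⟨⟨⟨fun a b => Subtype.ext (hAcomm a a.2 b b.2)⟩⟩, hAexp⟩
  -- G is not abelian
  have hna : ¬ IsMulCommutative G := by
    intro hc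
    apply hPnn
    constructor
    intro n hn g
    have : g * n * g⁻¹ = n := by
      rw [hc.is_comm.comm g n, mul_assoc, mul_inv_cancel, mul_one]
    rw [this]; exact hn
  have hcardA := card_minimal_normal hqne hna A hAel hAidx hAmin
  refine ⟨q, hqp, hqne, ?_, A, hAn, hcardA, hAel, hAmin⟩
  rw [← A.card_mul_index, hAidx, hcardA, mul_comm]

end Cfsg.Agent.S3868
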