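import Cfsg.Statements.S3869
import Mathlib
import Cfsg.Agent.Lib.Helper6_MinNonPClosed

set_option autoImplicit false
open Cfsg

namespace Cfsg.Agent.S3869

open Cfsg.Agent.Lib.Helper6_MinNonPClosed

theorem isPGroup_of_card_dvd {H : Type*} [Group H] {p : ℕ} (hp : p.Prime) (h : Nat.card H ∣ p) :
    IsPGroup p H := by
  rcases (Nat.dvd_prime hp).mp h with h1 | h1
  · exact IsPGroup.of_card (n := 0) (by rw [h1, pow_zero])
  · exact IsPGroup.of_card (n := 1) (by rw [h1, pow_one])

/-- Let p and q be distinct primes and G a finite non-abelian group with a normal elementary abelian q-subgroup A that is a minimal normal subgroup of G and has index p. Then A has order q^e with e the multiplicative order of q modulo p, and G is minimal non-p-closed: its Sylow p-subgroups are not normal, while in every proper subgroup and in every proper quotient of G the Sylow p-subgroups are normal. -/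
theorem result {G : Type*} [Group G] [Finite G] {p q : ℕ} [Fact p.Prime] (hq : q.Prime) (hpq : q ≠ p)
    (hna : ¬ IsMulCommutative G) (A : Subgroup G) [A.Normal] (hA : Cfsg.IsElementaryAbelian q A) (hidx : A.index = p)
    (hmin : ∀ B : Subgroup G, B.Normal → B ≤ A → B = ⊥ ∨ B = A) :
    Nat.card ↥A = q ^ orderOf (q : ZMod p) ∧ ¬ Cfsg.IsPClosed p G ∧ (∀ H : Subgroup G, H ≠ ⊤ → Cfsg.IsPClosed p ↥H) ∧
      ∀ (N : Subgroup G) [N.Normal], N ≠ ⊥ → Cfsg.IsPClosed p (G ⧸ N) := by
  classical
  haveI : Fact q.Prime := ⟨hq⟩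
  have hp : p.Prime := Fact.out
  have hAn : A.Normal := inferInstance
  refine ⟨card_minimal_normal hpq hna A hA hidx hmin, ?_⟩
  obtain ⟨hAc, hAq⟩ := hA
  have hApg : IsPGroup q A := fun a => ⟨1, by rw [pow_one]; exact Subtype.ext (hAq a a.2)⟩
  -- no element outside A centralizes A
  have L1 : ∀ y : G, y ∉ A → ∃ a ∈ A, y * a ≠ a * y := by
    intro y hy
    by_contra hcon
    push Not at hcon
    apply hna
    apply comm_of_centralizes A hAc y _ hcon
    rcases eq_or_eq_top_of_prime_index hp A hidx (A ⊔ Subgroup.zpowers y) le_sup_left with h | h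
    · exfalso; apply hy; rw [← h]; exact Subgroup.mem_sup_right (Subgroup.mem_zpowers y)
    · exact h
  obtain ⟨x, hx, hxA, hsup⟩ := exists_generator hpq A hAq hidx
  refine ⟨?_, ?_, ?_⟩
  · -- not p-closed
    intro hcl
    have hxp : IsPGroup p (Subgroup.zpowers x) := by
      apply IsPGroup.of_card (n := 1)
      rw [Nat.card_zpowers, hx, pow_one]
    obtain ⟨P, hP⟩ := hxp.exists_le_sylow
    have hPn := hcl P
    have hdis : Disjoint (P : Subgroup G) A := IsPGroup.disjoint_of_ne p q (Ne.symm hpq) _ _ P.2 hApg
    obtain ⟨a, ha, hne⟩ := L1 x hxA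
    apply hne
    exact Subgroup.commute_of_normal_of_disjoint _ _ hPn hAn hdis x a (hP (Subgroup.mem_zpowers x)) ha
  · -- proper subgroups
    intro H hH P
    by_cases hHA : H ≤ A
    · have hHq : IsPGroup q H := hApg.to_le hHA
      have hPq : IsPGroup q (P : Subgroup H) := hHq.to_subgroup _
      have hdis : Disjoint (P : Subgroup H) (P : Subgroup H) :=
        IsPGroup.disjoint_of_ne p q (Ne.symm hpq) _ _ P.2 hPq
      rw [disjoint_self] at hdis
      rw [hdis]
      infer_instance
    · obtain ⟨h, hhH, hhA⟩ := SetLike.not_le_iff_exists.mp hHA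
      have hsuph : A ⊔ Subgroup.zpowers h = ⊤ := by
        rcases eq_or_eq_top_of_prime_index hp A hidx (A ⊔ Subgroup.zpowers h) le_sup_left with h' | h'
        · exfalso; apply hhA; rw [← h']; exact Subgroup.mem_sup_right (Subgroup.mem_zpowers h)
        · exact h'
      have hDn : (H ⊓ A).Normal := by
        constructor
        intro d hd g
        obtain ⟨a, ha, i, rfl⟩ := exists_mul_pow A h hsuph g
        have h1 : h ^ i * d * (h ^ i)⁻¹ ∈ H ⊓ A :=
          ⟨H.mul_mem (H.mul_mem (H.pow_mem hhH i) hd.1) (H.inv_mem (H.pow_mem hhH i)),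
            hAn.conj_mem _ hd.2 _⟩
        have h2 : a * h ^ i * d * (a * h ^ i)⁻¹ = a * (h ^ i * d * (h ^ i)⁻¹) * a⁻¹ := by group
        have h3 := congrArg Subtype.val (hAc.is_comm.comm (⟨a, ha⟩ : A) ⟨_, h1.2⟩)
        simp only [Subgroup.coe_mul] at h3
        rw [h2, h3]
        have h4 : h ^ i * d * (h ^ i)⁻¹ * a * a⁻¹ = h ^ i * d * (h ^ i)⁻¹ := by group
        rw [h4]
        exact h1
      rcases hmin _ hDn inf_le_right with hD | hD
      · -- H embeds in G/A
        have hinj : Function.Injective ((QuotientGroup.mk' A).comp H.subtype) := by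
          rw [injective_iff_map_eq_one]
          intro y hy
          have h1 : (y : G) ∈ A := by
            rw [← QuotientGroup.eq_one_iff]
            exact hy
          have h2 : (y : G) ∈ H ⊓ A := ⟨y.2, h1⟩
          rw [hD] at h2
          exact Subtype.ext h2
        have h1 := Subgroup.card_dvd_of_injective _ hinj
        rw [← Subgroup.index_eq_card, hidx] at h1
        exact sylow_normal_of_isPGroup (isPGroup_of_card_dvd hp h1) P
      · exfalso
        apply hH
        rw [eq_top_iff, ← hsuph, sup_le_iff]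
        refine ⟨?_, ?_⟩
        · rw [← hD]; exact inf_le_left
        · rw [Subgroup.zpowers_le]; exact hhH
  · -- proper quotients
    intro N hNn hN P
    have hDn : (N ⊓ A).Normal := inferInstance
    rcases hmin _ hDn inf_le_right with hD | hD
    · exfalso
      obtain ⟨y, hyN⟩ := (Subgroup.ne_bot_iff_exists_ne_one.mp hN)
      have hyN' : (y : G) ∈ N := y.2
      have hyA : (y : G) ∉ A := by
        intro h
        have h2 : (y : G) ∈ N ⊓ A := ⟨y.2, h⟩
        rw [hD] at h2
        exact hyN (Subtype.ext h2)
      obtain ⟨a, ha, hne⟩ := L1 y hyA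
      apply hne
      exact Subgroup.commute_of_normal_of_disjoint _ _ hNn hAn (disjoint_iff.mpr hD) y a hyN' ha
    · have hAN : A ≤ N := by rw [← hD]; exact inf_le_left
      have h1 : N.index ∣ p := by
        rw [← hidx]; exact Subgroup.index_dvd_of_le hAN
      rw [Subgroup.index_eq_card] at h1
      exact sylow_normal_of_isPGroup (isPGroup_of_card_dvd hp h1) P

end Cfsg.Agent.S3869
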