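import Cfsg.Statements.S3870
import Mathlib
import Cfsg.Agent.Lib.Helper2_Conj

set_option autoImplicit false
open Cfsg

namespace Cfsg.Agent.S3870

open scoped Pointwise

theorem mem_smul_sylow {G : Type*} [Group G] {r : ℕ} (R : Sylow r G) (g x : G) :
    x ∈ ((g • R : Sylow r G) : Subgroup G) ↔ g⁻¹ * x * g ∈ (R : Subgroup G) := by
  rw [Sylow.coe_subgroup_smul, Subgroup.mem_pointwise_smul_iff_inv_smul_mem]
  rw [← map_inv, MulAut.smul_def, MulAut.conj_apply, inv_inv]

/-- the key step: given two Sylow subgroups with nontrivial intersection `D` and `D ≠ P`, there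
is a Sylow subgroup `R` such that `P ⊓ N(D)` and `Q ⊓ N(D)` both lie in `R`. -/
theorem exists_sylow_ge {G : Type*} [Group G] [Finite G] [IsSimpleGroup G] {p : ℕ} [Fact p.Prime]
    (hsub : ∀ H : Subgroup G, H ≠ ⊤ → Cfsg.IsPClosed p ↥H) (D : Subgroup G) (hD : D ≠ ⊥)
    (hDtop : D ≠ ⊤) :
    ∃ R : Sylow p G, ∀ P : Sylow p G,
      (P : Subgroup G) ⊓ Subgroup.normalizer (D : Set G) ≤ (R : Subgroup G) := by
  set N := Subgroup.normalizer (D : Set G) with hN
  have hNtop : N ≠ ⊤ := by
    intro htop
    have hn : D.Normal := Subgroup.normalizer_eq_top_iff.mp htop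
    rcases IsSimpleGroup.eq_bot_or_eq_top_of_normal D hn with h | h
    · exact hD h
    · exact hDtop h
  have hcl := hsub N hNtop
  obtain ⟨S⟩ : Nonempty (Sylow p N) := inferInstance
  have hSn : (S : Subgroup N).Normal := hcl S
  have huniq : Unique (Sylow p N) := Sylow.unique_of_normal S hSn
  obtain ⟨R, hR⟩ := IsPGroup.exists_le_sylow (S.isPGroup'.map N.subtype)
  refine ⟨R, fun P x hx => ?_⟩
  have hK : IsPGroup p ((P : Subgroup G).subgroupOf N) := IsPGroup.comap_subtype P.isPGroup'
  obtain ⟨S', hS'⟩ := IsPGroup.exists_le_sylow hK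
  have hSS : S' = S := Subsingleton.elim _ _
  rw [hSS] at hS'
  apply hR
  refine ⟨⟨x, hx.2⟩, hS' ?_, rfl⟩
  rw [Subgroup.mem_subgroupOf]
  exact hx.1

/-- Let G be a finite simple group whose Sylow p-subgroups are not normal but such that every proper subgroup of G has a normal Sylow p-subgroup. Then any two distinct Sylow p-subgroups of G intersect trivially, and for every Sylow p-subgroup P the normalizer of every non-identity subgroup of P lies in the normalizer of P. -/
theorem result {G : Type*} [Group G] [Finite G] [IsSimpleGroup G] {p : ℕ} [Fact p.Prime]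
    (hnc : ¬ Cfsg.IsPClosed p G) (hsub : ∀ H : Subgroup G, H ≠ ⊤ → Cfsg.IsPClosed p ↥H) :
    (∀ P Q : Sylow p G, P ≠ Q → (P : Subgroup G) ⊓ (Q : Subgroup G) = ⊥) ∧
      ∀ (P : Sylow p G) (R : Subgroup G), R ≤ P → R ≠ ⊥ →
        Subgroup.normalizer (R : Set G) ≤ Subgroup.normalizer ((P : Subgroup G) : Set G) := by
  -- no Sylow subgroup is everything
  have hPtop : ∀ P : Sylow p G, (P : Subgroup G) ≠ ⊤ := by
    intro P htop
    apply hnc
    intro Q
    have : (Q : Subgroup G) = ⊤ := by
      have h1 : Nat.card (Q : Subgroup G) = Nat.card (P : Subgroup G) := by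
        rw [Sylow.card_eq_multiplicity, Sylow.card_eq_multiplicity]
      rw [htop, Subgroup.card_top] at h1
      exact Subgroup.eq_top_of_card_eq _ h1
    rw [this]; infer_instance
  -- key claim by strong induction
  have key : ∀ n : ℕ, ∀ P Q : Sylow p G, (P : Subgroup G) ⊓ (Q : Subgroup G) ≠ ⊥ →
      Nat.card (P : Subgroup G) - Nat.card ((P : Subgroup G) ⊓ (Q : Subgroup G) : Subgroup G) = n →
      P = Q := by
    intro n
    induction n using Nat.strong_induction_on with
    | _ n ih =>
      intro P Q hne hn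
      by_contra hPQ
      set D := (P : Subgroup G) ⊓ (Q : Subgroup G) with hD
      have hcardPQ : Nat.card (Q : Subgroup G) = Nat.card (P : Subgroup G) := by
        rw [Sylow.card_eq_multiplicity, Sylow.card_eq_multiplicity]
      have hDP : D ≠ (P : Subgroup G) := by
        intro h
        have hle : (P : Subgroup G) ≤ (Q : Subgroup G) := h ▸ inf_le_right
        have := Subgroup.eq_of_le_of_card_ge hle (le_of_eq hcardPQ)
        exact hPQ (Sylow.ext this)
      have hDQ : D ≠ (Q : Subgroup G) := by
        intro h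
        have hle : (Q : Subgroup G) ≤ (P : Subgroup G) := h ▸ inf_le_left
        have := Subgroup.eq_of_le_of_card_ge hle (le_of_eq hcardPQ.symm)
        exact hPQ (Sylow.ext this.symm)
      have hDtop : D ≠ ⊤ := by
        intro h
        apply hPtop P
        rw [eq_top_iff, ← h]; exact inf_le_left
      obtain ⟨R, hR⟩ := exists_sylow_ge hsub D hne hDtop
      -- D < P ⊓ N(D)
      have hgrow : ∀ X : Sylow p G, D ≤ (X : Subgroup G) → D ≠ (X : Subgroup G) →
          Nat.card D < Nat.card ((X : Subgroup G) ⊓ (R : Subgroup G) : Subgroup G) := by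
        intro X hDX hne'
        have h1 : ¬ (X : Subgroup G) ⊓ Subgroup.normalizer (D : Set G) ≤ D := by
          intro hle
          apply hne'
          exact Cfsg.Agent.Lib.Helper2_Conj.eq_of_self_normalizing_in_pgroup X.isPGroup' hDX
            (fun x hx hxn => hle ⟨hx, hxn⟩)
        have h2 : D ≤ (X : Subgroup G) ⊓ Subgroup.normalizer (D : Set G) :=
          le_inf hDX Subgroup.le_normalizer
        have h3 : D < (X : Subgroup G) ⊓ Subgroup.normalizer (D : Set G) :=
          lt_of_le_of_ne h2 (fun h => h1 (h ▸ le_refl _))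
        have h4 : (X : Subgroup G) ⊓ Subgroup.normalizer (D : Set G) ≤
            (X : Subgroup G) ⊓ (R : Subgroup G) := le_inf inf_le_left (hR X)
        have h5 : Nat.card D < Nat.card ((X : Subgroup G) ⊓ Subgroup.normalizer (D : Set G) : Subgroup G) :=
          lt_of_not_ge (fun h => ne_of_lt h3 (Subgroup.eq_of_le_of_card_ge h3.le h))
        exact lt_of_lt_of_le h5 (Subgroup.card_le_of_le h4)
      have hP1 := hgrow P inf_le_left hDP
      have hQ1 := hgrow Q inf_le_right hDQ
      have hDpos : Nat.card D ≤ Nat.card (P : Subgroup G) := Subgroup.card_le_of_le inf_le_left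
      have hPRle : Nat.card ((P : Subgroup G) ⊓ (R : Subgroup G) : Subgroup G) ≤
          Nat.card (P : Subgroup G) := Subgroup.card_le_of_le inf_le_left
      have hQRle : Nat.card ((Q : Subgroup G) ⊓ (R : Subgroup G) : Subgroup G) ≤
          Nat.card (Q : Subgroup G) := Subgroup.card_le_of_le inf_le_left
      have hneP : (P : Subgroup G) ⊓ (R : Subgroup G) ≠ ⊥ := by
        intro h
        rw [h, Subgroup.card_bot] at hP1
        have : 0 < Nat.card D := Nat.card_pos
        omega
      have hneQ : (Q : Subgroup G) ⊓ (R : Subgroup G) ≠ ⊥ := by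
        intro h
        rw [h, Subgroup.card_bot] at hQ1
        have : 0 < Nat.card D := Nat.card_pos
        omega
      have e1 : P = R := ih _ (by omega) P R hneP rfl
      have hDQ' : Nat.card ((Q : Subgroup G) ⊓ (P : Subgroup G) : Subgroup G) = Nat.card D := by
        rw [inf_comm]
      have e2 : Q = R := by
        refine ih (Nat.card (Q : Subgroup G) -
          Nat.card ((Q : Subgroup G) ⊓ (R : Subgroup G) : Subgroup G)) (by omega) Q R hneQ rfl
      exact hPQ (e1.trans e2.symm)
  constructor
  · intro P Q hPQ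
    by_contra hne
    exact hPQ (key _ P Q hne rfl)
  · intro P R hRP hR g hg
    apply Sylow.smul_eq_iff_mem_normalizer.mp
    symm
    apply key _ P (g • P) ?_ rfl
    intro hbot
    apply hR
    rw [eq_bot_iff, ← hbot]
    intro x hx
    refine ⟨hRP hx, ?_⟩
    show x ∈ ((g • P : Sylow p G) : Subgroup G)
    rw [mem_smul_sylow]
    apply hRP
    have hg' := Subgroup.inv_mem _ hg
    rw [Subgroup.mem_normalizer_iff] at hg'
    have := (hg' x).mp hx
    rwa [inv_inv] at this

end Cfsg.Agent.S3870
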