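import Cfsg.Statements.S3873
import Mathlib
import Cfsg.Agent.Lib.Helper6_MinNonPClosed2

set_option autoImplicit false
open Cfsg

namespace Cfsg.Agent.S3873

open Cfsg.Agent.Lib.Helper6_MinNonPClosed Cfsg.Agent.Lib.Helper6_MinNonPClosed2

set_option maxHeartbeats 1600000 in
/-- Say that a finite group is p-exponent closed when its elements of order dividing p form a subgroup. Let G be a finite group that is not p-exponent closed, but all of whose proper subgroups and proper quotients are, and suppose G is neither simple nor a p-group. Then there is a prime q ≠ p such that G has order p · q^e, where e is the multiplicative order of q modulo p, and G has a normal elementary abelian subgroup of order q^e that is a minimal normal subgroup of G. -/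
theorem result {G : Type*} [Group G] [Finite G] {p : ℕ} [Fact p.Prime]
    (hnc : ¬ (∃ H : Subgroup G, (H : Set G) = {g : G | g ^ p = 1})) (hsub : ∀ K : Subgroup G, K ≠ ⊤ → (∃ H : Subgroup ↥K, (H : Set ↥K) = {g : ↥K | g ^ p = 1}))
    (hquo : ∀ (N : Subgroup G) [N.Normal], N ≠ ⊥ → (∃ H : Subgroup (G ⧸ N), (H : Set (G ⧸ N)) = {g : (G ⧸ N) | g ^ p = 1}))
    (hns : ¬ IsSimpleGroup G) (hnp : ¬ IsPGroup p G) :
    ∃ q : ℕ, q.Prime ∧ q ≠ p ∧ Nat.card G = p * q ^ orderOf (q : ZMod p) ∧
      ∃ A : Subgroup G, A.Normal ∧ Nat.card ↥A = q ^ orderOf (q : ZMod p) ∧ Cfsg.IsElementaryAbelian q A ∧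
        ∀ B : Subgroup G, B.Normal → B ≤ A → B = ⊥ ∨ B = A := by
  classical
  have hp : p.Prime := Fact.out
  -- a bad pair
  obtain ⟨x, y, hx, hy, hxy⟩ : ∃ x y : G, x ^ p = 1 ∧ y ^ p = 1 ∧ (x * y) ^ p ≠ 1 := by
    by_contra hcon
    push Not at hcon
    apply hnc
    exact ⟨{ carrier := {g | g ^ p = 1}
             mul_mem' := fun {a b} ha hb => hcon a b ha hb
             one_mem' := one_pow _
             inv_mem' := fun {a} ha => by
               show (a⁻¹) ^ p = 1
               rw [inv_pow, show a ^ p = 1 from ha, inv_one] }, rfl⟩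
  -- any subgroup containing x and y is everything
  have hgen : ∀ K : Subgroup G, x ∈ K → y ∈ K → K = ⊤ := by
    intro K hxK hyK
    by_contra hK
    obtain ⟨H, hH⟩ := hsub K hK
    have h1 : (⟨x, hxK⟩ : K) ∈ H := by
      rw [← SetLike.mem_coe, hH]
      exact Subtype.ext (by simpa using hx)
    have h2 : (⟨y, hyK⟩ : K) ∈ H := by
      rw [← SetLike.mem_coe, hH]
      exact Subtype.ext (by simpa using hy)
    have h3 := H.mul_mem h1 h2
    rw [← SetLike.mem_coe, hH] at h3
    apply hxy
    have := congrArg Subtype.val (show ((⟨x, hxK⟩ : K) * ⟨y, hyK⟩) ^ p = 1 from h3)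
    simpa using this
  haveI : Nontrivial G := by
    by_contra hnt
    rw [not_nontrivial_iff_subsingleton] at hnt
    apply hnp
    intro g
    exact ⟨0, by rw [pow_zero, pow_one]; exact Subsingleton.elim _ _⟩
  have hM : ∃ M : Subgroup G, M.Normal ∧ M ≠ ⊥ ∧ M ≠ ⊤ := by
    by_contra h
    push Not at h
    apply hns
    exact ⟨fun H hH => by
      by_cases h1 : H = ⊥
      · left; exact h1
      · right; exact h H hH h1⟩
  obtain ⟨M, hMn, hM1, hMtop⟩ := hM
  haveI := hMn
  obtain ⟨A, hAn, hA1, hAM, hAmin⟩ := exists_minimal_normal' M hM1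
  haveI := hAn
  have hAtop : A ≠ ⊤ := fun h => hMtop (top_le_iff.mp (h ▸ hAM))
  -- G/A has exponent p
  have hGA : ∀ g : G, g ^ p ∈ A := by
    obtain ⟨Hb, hHb⟩ := hquo A hA1
    have h1 : Hb.comap (QuotientGroup.mk' A) = ⊤ := by
      apply hgen
      · rw [Subgroup.mem_comap, ← SetLike.mem_coe, hHb]
        show (QuotientGroup.mk' A x) ^ p = 1
        rw [← map_pow, hx, map_one]
      · rw [Subgroup.mem_comap, ← SetLike.mem_coe, hHb]
        show (QuotientGroup.mk' A y) ^ p = 1
        rw [← map_pow, hy, map_one]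
    intro g
    have h2 : g ∈ Hb.comap (QuotientGroup.mk' A) := by rw [h1]; trivial
    rw [Subgroup.mem_comap, ← SetLike.mem_coe, hHb] at h2
    have h3 : (QuotientGroup.mk' A g) ^ p = 1 := h2
    rw [← map_pow] at h3
    exact (QuotientGroup.eq_one_iff _).mp h3
  -- A has no elements of order p
  have hpA : ¬ p ∣ Nat.card A := by
    obtain ⟨HA, hHA⟩ := hsub A hAtop
    have hmemA : ∀ a : A, a ∈ HA ↔ a ^ p = 1 := by
      intro a
      rw [← SetLike.mem_coe, hHA]
      rfl
    have hΩn : (HA.map A.subtype).Normal := by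
      constructor
      rintro _ ⟨a, ha, rfl⟩ g
      have ha' : a ^ p = 1 := (hmemA a).mp ha
      refine ⟨⟨g * a * g⁻¹, hAn.conj_mem _ a.2 g⟩, ?_, rfl⟩
      apply (hmemA _).mpr
      apply Subtype.ext
      show (g * (a : G) * g⁻¹) ^ p = 1
      rw [conj_pow]
      have := congrArg Subtype.val ha'
      simp only [SubmonoidClass.coe_pow, OneMemClass.coe_one] at this
      rw [this, mul_one, mul_inv_cancel]
    rcases hAmin _ hΩn (Subgroup.map_subtype_le _) with h | h
    · intro hd
      obtain ⟨a, ha⟩ := exists_prime_orderOf_dvd_card' (G := A) p hd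
      have haH : a ∈ HA := by
        rw [hmemA, ← ha]; exact pow_orderOf_eq_one a
      have : (a : G) ∈ HA.map A.subtype := ⟨a, haH, rfl⟩
      rw [h, Subgroup.mem_bot] at this
      have ha1 : a = 1 := Subtype.ext this
      rw [ha1, orderOf_one] at ha
      exact hp.one_lt.ne ha
    · exfalso
      apply hnp
      intro g
      refine ⟨2, ?_⟩
      have h1 : g ^ p ∈ HA.map A.subtype := by rw [h]; exact hGA g
      obtain ⟨a, ha, hag⟩ := h1
      have ha' : a ^ p = 1 := (hmemA a).mp ha
      have := congrArg Subtype.val ha'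
      simp only [SubmonoidClass.coe_pow, OneMemClass.coe_one] at this
      rw [pow_two, pow_mul, ← hag]
      exact this
  have hAp' : (Nat.card A).Coprime p := by
    rw [Nat.coprime_comm, Nat.Prime.coprime_iff_not_dvd hp]; exact hpA
  -- Sylow
  obtain ⟨P⟩ : Nonempty (Sylow p G) := inferInstance
  have hPAinf : (P : Subgroup G) ⊓ A = ⊥ := by
    obtain ⟨k, hk⟩ := IsPGroup.iff_card.mp P.2
    exact (Subgroup.disjoint_of_coprime_natCard (by rw [hk]; exact (hAp'.symm).pow_left k)).eq_bot
  have hPexp : ∀ h ∈ (P : Subgroup G), h ^ p = 1 := by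
    intro h hh
    have h1 : h ^ p ∈ (P : Subgroup G) ⊓ A := ⟨(P : Subgroup G).pow_mem hh p, hGA h⟩
    rw [hPAinf] at h1
    exact h1
  have hPA : (P : Subgroup G) ⊔ A = ⊤ := by
    have hQp : IsPGroup p (G ⧸ A) := by
      intro g
      obtain ⟨g, rfl⟩ := QuotientGroup.mk_surjective g
      refine ⟨1, ?_⟩
      rw [pow_one, ← QuotientGroup.mk_pow]
      exact (QuotientGroup.eq_one_iff _).mpr (hGA g)
    have h1 : (⊤ : Subgroup (G ⧸ A)) =
        ((Sylow.mapSurjective (QuotientGroup.mk'_surjective A) P : Sylow p (G ⧸ A)) : Subgroup (G ⧸ A)) :=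
      (Sylow.mapSurjective (QuotientGroup.mk'_surjective A) P).is_maximal' (hQp.to_subgroup ⊤) le_top
    rw [Sylow.coe_mapSurjective] at h1
    have h2 := congrArg (Subgroup.comap (QuotientGroup.mk' A)) h1
    rw [Subgroup.comap_map_eq, QuotientGroup.ker_mk', Subgroup.comap_top] at h2
    exact h2.symm
  -- the p-exponent subgroup of a proper subgroup containing a subgroup of P
  have hΩ : ∀ L : Subgroup G, L ≠ ⊤ → ∃ S : Subgroup ↥L, S.Normal ∧ IsPGroup p S ∧
      ∀ h : ↥L, (h : G) ∈ (P : Subgroup G) → h ∈ S := by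
    intro L hL
    obtain ⟨S, hS⟩ := hsub L hL
    have hmem : ∀ g : ↥L, g ∈ S ↔ g ^ p = 1 := by
      intro g
      rw [← SetLike.mem_coe, hS]
      rfl
    refine ⟨S, ?_, ?_, ?_⟩
    · constructor
      intro n hn g
      rw [hmem] at hn ⊢
      rw [conj_pow, hn, mul_one, mul_inv_cancel]
    · intro g
      refine ⟨1, ?_⟩
      rw [pow_one]
      exact Subtype.ext (by
        simpa only [SubmonoidClass.coe_pow, OneMemClass.coe_one] using (hmem g.1).mp g.2)
    · intro h hh
      rw [hmem]
      exact Subtype.ext (by simpa using hPexp _ hh)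
  -- P normal in proper overgroups
  have hnorm : ∀ L : Subgroup G, L ≠ ⊤ → (P : Subgroup G) ≤ L →
      ((P : Subgroup G).subgroupOf L).Normal := by
    intro L hL hPL
    obtain ⟨S, hSn, hSp, hSP⟩ := hΩ L hL
    have h1 : S = ((P.subtype hPL : Sylow p L) : Subgroup L) := by
      apply (P.subtype hPL).is_maximal' hSp
      rw [Sylow.coe_subtype]
      intro h hh
      exact hSP h (Subgroup.mem_subgroupOf.mp hh)
    rw [Sylow.coe_subtype] at h1
    rw [← h1]
    exact hSn
  -- proper subgroups of P centralize A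
  have hprop : ∀ P₁ : Subgroup G, P₁ ≤ (P : Subgroup G) → P₁ ≠ (P : Subgroup G) →
      P₁ ≤ Subgroup.centralizer (A : Set G) := by
    intro P₁ hP₁ hne
    have hL1 : P₁ ⊔ A ≠ ⊤ := by
      intro htop
      apply hne
      apply le_antisymm hP₁
      intro g hg
      have hg' : g ∈ ((A ⊔ P₁ : Subgroup G) : Set G) := by rw [sup_comm, htop]; trivial
      rw [Subgroup.normal_mul] at hg'
      obtain ⟨a, ha, h, hh, rfl⟩ := Set.mem_mul.mp hg'
      have ha' : a ∈ (P : Subgroup G) ⊓ A := by
        refine ⟨?_, ha⟩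
        have h0 := (P : Subgroup G).mul_mem hg ((P : Subgroup G).inv_mem (hP₁ hh))
        have e : a * h * h⁻¹ = a := by group
        rw [e] at h0
        exact h0
      rw [hPAinf] at ha'
      rw [Subgroup.mem_bot.mp ha', one_mul]
      exact hh
    have hP₁L : P₁ ≤ P₁ ⊔ A := le_sup_left
    have hAL : A ≤ P₁ ⊔ A := le_sup_right
    obtain ⟨S₁, hS₁n, hS₁p, hS₁P⟩ := hΩ _ hL1
    have hALn : (A.subgroupOf (P₁ ⊔ A)).Normal := inferInstance
    have hdis : Disjoint S₁ (A.subgroupOf (P₁ ⊔ A)) := by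
      obtain ⟨k, hk⟩ := IsPGroup.iff_card.mp hS₁p
      apply Subgroup.disjoint_of_coprime_natCard
      rw [hk, Nat.card_congr (Subgroup.subgroupOfEquivOfLe hAL).toEquiv]
      exact (hAp'.symm).pow_left k
    intro h hh
    rw [Subgroup.mem_centralizer_iff]
    intro a ha
    have := Subgroup.commute_of_normal_of_disjoint _ _ hS₁n hALn hdis ⟨h, hP₁L hh⟩ ⟨a, hAL ha⟩
      (hS₁P ⟨h, hP₁L hh⟩ (hP₁ hh)) (Subgroup.mem_subgroupOf.mpr ha)
    exact (congrArg Subtype.val this.eq).symm
  have hdec : ∀ g : G, ∃ a ∈ A, ∃ h ∈ (P : Subgroup G), g = a * h := by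
    intro g
    have hg : g ∈ ((A ⊔ (P : Subgroup G) : Subgroup G) : Set G) := by rw [sup_comm, hPA]; trivial
    rw [Subgroup.normal_mul] at hg
    obtain ⟨a, ha, h, hh, rfl⟩ := Set.mem_mul.mp hg
    exact ⟨a, ha, h, hh, rfl⟩
  -- P does not centralize A
  have hPcent : ¬ (P : Subgroup G) ≤ Subgroup.centralizer (A : Set G) := by
    intro hc
    apply hnc
    refine ⟨(P : Subgroup G), ?_⟩
    ext g
    constructor
    · intro hg; exact hPexp g hg
    · intro hg
      have hg' : g ^ p = 1 := hg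
      obtain ⟨a, ha, h, hh, rfl⟩ := hdec g
      have hcomm : Commute a h := (Subgroup.mem_centralizer_iff.mp (hc hh)) a ha
      rw [hcomm.mul_pow, hPexp h hh, mul_one] at hg'
      have h1 : orderOf a ∣ p := orderOf_dvd_of_pow_eq_one hg'
      have h2 : orderOf a ∣ Nat.card A := by
        have := orderOf_dvd_natCard (⟨a, ha⟩ : A)
        rwa [Subgroup.orderOf_mk] at this
      have h3 : orderOf a = 1 := Nat.eq_one_of_dvd_coprimes hAp' h2 h1
      rw [orderOf_eq_one_iff] at h3
      rw [h3, one_mul]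
      exact hh
  -- |P| = p
  obtain ⟨h₀, hh₀P, hh₀c⟩ := SetLike.not_le_iff_exists.mp hPcent
  have hPz : Subgroup.zpowers h₀ = (P : Subgroup G) := by
    by_contra hne
    exact hh₀c (hprop _ (by rw [Subgroup.zpowers_le]; exact hh₀P) hne (Subgroup.mem_zpowers h₀))
  have hh₀1 : h₀ ≠ 1 := by
    rintro rfl
    apply hh₀c
    exact Subgroup.one_mem _
  have hPcard : Nat.card (P : Subgroup G) = p := by
    rw [← hPz, Nat.card_zpowers]
    exact orderOf_eq_prime (hPexp h₀ hh₀P) hh₀1
  exact core P hPcard A hA1 hAmin hpA hPA hPcent hnorm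

end Cfsg.Agent.S3873
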