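import Cfsg.Statements.S3879
import Mathlib
import Cfsg.Agent.Lib.Lead_H6MetacyclicOld
import Cfsg.Agent.Lib.Lead_SZ

set_option autoImplicit false
open Cfsg

namespace Cfsg.Agent.S3879

open Cfsg.Agent.Helper6MetacyclicOld
open scoped commutatorElement

/-- Let p be an odd prime and G a finite metacyclic p-group (G has a cyclic normal subgroup with cyclic quotient). Then the index of the center of G is the square of the order of the derived subgroup: |G : Z(G)| = |G'|². -/
theorem result {G : Type*} [Group G] [Finite G] {p : ℕ} [Fact p.Prime] (hp : p ≠ 2) (hG : IsPGroup p G) (hmc : Cfsg.IsMetacyclic G) : (Subgroup.center G).index = Nat.card ↥(commutator G) ^ 2 := by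
  classical
  have hpp : p.Prime := Fact.out
  obtain ⟨a, b, r, hr1, hAn, hba, hgen⟩ := metacyclic_struct hmc
  set A : Subgroup G := Subgroup.zpowers a with hA
  haveI : A.Normal := hAn
  have haA : a ∈ A := Subgroup.mem_zpowers a
  -- conj by b on powers
  have hbai : ∀ i : ℕ, b * a ^ i * b⁻¹ = (a ^ i) ^ r := by
    intro i
    rw [← conj_pow, hba, ← pow_mul, ← pow_mul, mul_comm]
  have hbk : ∀ k : ℕ, b ^ k * a * (b ^ k)⁻¹ = a ^ (r ^ k) := by
    intro k
    induction k with
    | zero => simp
    | succ k ih =>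
      have : b ^ (k + 1) * a * (b ^ (k + 1))⁻¹ = b * (b ^ k * a * (b ^ k)⁻¹) * b⁻¹ := by
        rw [pow_succ']; group
      rw [this, ih, hbai, ← pow_mul, pow_succ]
  -- orders
  obtain ⟨m, hm⟩ : ∃ m, orderOf a = p ^ m := by
    obtain ⟨k, hk⟩ := hG a
    exact (Nat.dvd_prime_pow hpp).mp (orderOf_dvd_of_pow_eq_one hk) |>.imp fun _ h => h.2
  -- a ^ k = a ↔ p^m ∣ k - 1
  have hak : ∀ k : ℕ, 1 ≤ k → (a ^ k = a ↔ p ^ m ∣ k - 1) := by
    intro k hk
    rw [← hm, orderOf_dvd_iff_pow_eq_one]
    constructor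
    · intro h
      have : a ^ (k - 1) * a = 1 * a := by rw [← pow_succ, Nat.sub_add_cancel hk, h, one_mul]
      exact mul_right_cancel this
    · intro h
      have : a ^ k = a ^ (k - 1) * a := by rw [← pow_succ, Nat.sub_add_cancel hk]
      rw [this, h, one_mul]
  -- the subgroups
  set C : Subgroup G := Subgroup.centralizer (A : Set G) with hC
  haveI hCn : C.Normal := Subgroup.normal_centralizer
  set Cb : Subgroup G := Subgroup.centralizer ({b} : Set G) with hCb
  have hmemC : ∀ g : G, g ∈ C ↔ g * a * g⁻¹ = a := by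
    intro g
    rw [hC, Subgroup.mem_centralizer_iff]
    constructor
    · intro h
      have := h a haA
      rw [← this]; group
    · intro h x hx
      have hc : Commute g a := by
        show g * a = a * g
        calc g * a = g * a * g⁻¹ * g := by group
          _ = a * g := by rw [h]
      obtain ⟨k, rfl⟩ := Subgroup.mem_zpowers_iff.mp hx
      exact ((hc.zpow_right k).eq).symm
  have hAC : A ≤ C := by
    intro x hx
    rw [hA, Subgroup.mem_zpowers_iff] at hx
    obtain ⟨k, rfl⟩ := hx
    rw [hmemC]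
    have : Commute (a ^ k) a := (Commute.refl a).zpow_left k
    rw [this.eq]; group
  have hmemCb : ∀ g : G, g ∈ Cb ↔ g * b = b * g := by
    intro g
    rw [hCb, Subgroup.mem_centralizer_iff]
    constructor
    · intro h; exact (h b rfl).symm
    · intro h x hx
      rw [Set.mem_singleton_iff] at hx
      subst hx
      exact h.symm
  have hbCb : ∀ j : ℕ, b ^ j ∈ Cb := by
    intro j
    rw [hmemCb]
    exact ((Commute.refl b).pow_left j).eq
  -- center
  have hcenter : Subgroup.center G = C ⊓ Cb := by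
    ext z
    rw [Subgroup.mem_inf, Subgroup.mem_center_iff, hmemC, hmemCb]
    constructor
    · intro h
      refine ⟨?_, (h b).symm⟩
      rw [← h a]; group
    · rintro ⟨h1, h2⟩ g
      obtain ⟨i, j, rfl⟩ := hgen g
      have c1 : Commute z a := by
        show z * a = a * z
        calc z * a = z * a * z⁻¹ * z := by group
          _ = a * z := by rw [h1]
      have c2 : Commute z b := h2
      exact (((c1.pow_right i).mul_right (c2.pow_right j)).eq).symm
  have hsup : C ⊔ Cb = ⊤ := by
    rw [eq_top_iff]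
    intro g _
    obtain ⟨i, j, rfl⟩ := hgen g
    exact Subgroup.mul_mem_sup (hAC (A.pow_mem haA i)) (hbCb j)
  -- K
  set y : G := a ^ (r - 1) with hy
  set K : Subgroup G := Subgroup.zpowers y with hK
  have har : a ^ r = y * a := by rw [hy, ← pow_succ, Nat.sub_add_cancel hr1]
  have hyK : y ∈ K := Subgroup.mem_zpowers y
  have hyA : y ∈ A := A.pow_mem haA _
  have hKA : K ≤ A := by
    rw [hK, Subgroup.zpowers_le]; exact hyA
  have hKn : K.Normal := by
    constructor
    intro x hx g
    have h1 : g * a * g⁻¹ ∈ A := hAn.conj_mem a haA g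
    rw [hA, Subgroup.mem_zpowers_iff] at h1
    obtain ⟨s, hs⟩ := h1
    rw [hK, Subgroup.mem_zpowers_iff] at hx
    obtain ⟨k, rfl⟩ := hx
    have h2 : g * y * g⁻¹ = y ^ s := by
      rw [hy, ← conj_pow, ← hs, ← zpow_natCast, ← zpow_natCast, ← zpow_mul, ← zpow_mul, mul_comm]
    rw [← conj_zpow, h2]
    exact K.zpow_mem (K.zpow_mem hyK s) k
  have hcomm : commutator G = K := by
    apply le_antisymm
    · haveI := hKn
      rw [← Subgroup.Normal.quotient_commutative_iff_commutator_le]
      have hab : Commute (QuotientGroup.mk a : G ⧸ K) (QuotientGroup.mk b) := by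
        show (QuotientGroup.mk a : G ⧸ K) * QuotientGroup.mk b = QuotientGroup.mk b * QuotientGroup.mk a
        rw [← QuotientGroup.mk_mul, ← QuotientGroup.mk_mul, QuotientGroup.eq]
        have : (a * b)⁻¹ * (b * a) = b⁻¹ * (a⁻¹ * (b * a * b⁻¹)) * b := by group
        rw [this, hba, har]
        have h3 : a⁻¹ * (y * a) ∈ K := by
          have := hKn.conj_mem y hyK a⁻¹
          simpa [mul_assoc] using this
        have := hKn.conj_mem _ h3 b⁻¹
        simpa [mul_assoc] using this
      refine ⟨⟨fun u v => ?_⟩⟩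
      obtain ⟨g, rfl⟩ := QuotientGroup.mk_surjective u
      obtain ⟨h, rfl⟩ := QuotientGroup.mk_surjective v
      obtain ⟨i, j, rfl⟩ := hgen g
      obtain ⟨i', j', rfl⟩ := hgen h
      simp only [QuotientGroup.mk_mul, QuotientGroup.mk_pow]
      have c1 : Commute ((QuotientGroup.mk a : G ⧸ K) ^ i) ((QuotientGroup.mk a : G ⧸ K) ^ i') :=
        (Commute.refl _).pow_pow i i'
      have c2 : Commute ((QuotientGroup.mk a : G ⧸ K) ^ i) ((QuotientGroup.mk b : G ⧸ K) ^ j') :=
        hab.pow_pow i j'
      have c3 : Commute ((QuotientGroup.mk b : G ⧸ K) ^ j) ((QuotientGroup.mk a : G ⧸ K) ^ i') :=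
        hab.symm.pow_pow j i'
      have c4 : Commute ((QuotientGroup.mk b : G ⧸ K) ^ j) ((QuotientGroup.mk b : G ⧸ K) ^ j') :=
        (Commute.refl _).pow_pow j j'
      exact ((c1.mul_right c2).mul_left (c3.mul_right c4)).eq
    · rw [hK, Subgroup.zpowers_le, commutator_def]
      have : y = ⁅b, a⁆ := by
        rw [commutatorElement_def, hba, har]; group
      rw [this]
      exact Subgroup.commutator_mem_commutator (Subgroup.mem_top b) (Subgroup.mem_top a)
  have hKcard : Nat.card K = orderOf y := Nat.card_zpowers y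
  -- |G : C| = orderOf (mk b)
  have hCidx : C.index = orderOf (QuotientGroup.mk b : G ⧸ C) := by
    rw [Subgroup.index_eq_card]
    symm
    apply orderOf_eq_card_of_forall_mem_zpowers
    intro x
    obtain ⟨g, rfl⟩ := QuotientGroup.mk_surjective x
    obtain ⟨i, j, rfl⟩ := hgen g
    rw [Subgroup.mem_zpowers_iff]
    refine ⟨j, ?_⟩
    rw [QuotientGroup.mk_mul, (QuotientGroup.eq_one_iff _).mpr (hAC (A.pow_mem haA i)), one_mul,
      QuotientGroup.mk_pow, zpow_natCast]
  -- (mk b)^k = 1 ↔ p^m ∣ r^k - 1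
  have hmkb : ∀ k : ℕ, (QuotientGroup.mk b : G ⧸ C) ^ k = 1 ↔ p ^ m ∣ r ^ k - 1 := by
    intro k
    rw [← QuotientGroup.mk_pow, QuotientGroup.eq_one_iff, hmemC, hbk, hak _ (Nat.one_le_pow _ _ hr1)]
  -- y^k = 1 ↔ p^m ∣ k * (r-1)
  have hyk : ∀ k : ℕ, y ^ k = 1 ↔ p ^ m ∣ k * (r - 1) := by
    intro k
    rw [hy, ← pow_mul, ← hm, orderOf_dvd_iff_pow_eq_one, mul_comm]
  -- number theory: orderOf (mk b) = orderOf y
  have hord : orderOf (QuotientGroup.mk b : G ⧸ C) = orderOf y := by
    obtain ⟨e, he⟩ : ∃ e, orderOf y = p ^ e := by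
      obtain ⟨k, hk⟩ := hG y
      exact (Nat.dvd_prime_pow hpp).mp (orderOf_dvd_of_pow_eq_one hk) |>.imp fun _ h => h.2
    rcases Nat.eq_zero_or_pos e with he0 | he0
    · subst he0
      rw [pow_zero, orderOf_eq_one_iff] at he
      rw [he, orderOf_one, orderOf_eq_one_iff, QuotientGroup.eq_one_iff, hmemC, hba, har, he, one_mul]
    · obtain ⟨e', rfl⟩ : ∃ e', e = e' + 1 := ⟨e - 1, by omega⟩
      rw [he]
      -- m ≥ 1
      have hm1 : 1 ≤ m := by
        rcases Nat.eq_zero_or_pos m with h0 | h0
        · exfalso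
          rw [h0, pow_zero, orderOf_eq_one_iff] at hm
          have : y = 1 := by rw [hy, hm, one_pow]
          rw [this, orderOf_one] at he
          have := Nat.one_lt_pow (n := e' + 1) (by omega) hpp.one_lt
          omega
        · exact h0
      -- p ∣ r - 1
      have hpr : p ∣ r - 1 := by
        obtain ⟨t, ht⟩ := hG b
        have h1 : (QuotientGroup.mk b : G ⧸ C) ^ (p ^ t) = 1 := by
          rw [← QuotientGroup.mk_pow, ht]; rfl
        rw [hmkb] at h1
        have h2 : p ∣ r ^ (p ^ t) - 1 := (dvd_pow_self p (by omega : m ≠ 0)).trans h1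
        rw [← ZMod.natCast_eq_zero_iff, Nat.cast_sub (Nat.one_le_pow _ _ hr1), Nat.cast_pow,
          ZMod.pow_card_pow, Nat.cast_one] at h2
        rw [← ZMod.natCast_eq_zero_iff, Nat.cast_sub hr1, Nat.cast_one]
        exact h2
      have hiff : ∀ j : ℕ, (QuotientGroup.mk b : G ⧸ C) ^ (p ^ j) = 1 ↔ y ^ (p ^ j) = 1 := by
        intro j
        rw [hmkb, hyk, key_dvd hpp hp hr1 hpr]
      apply orderOf_eq_prime_pow
      · rw [hiff]
        intro h
        have := orderOf_dvd_of_pow_eq_one h
        rw [he, Nat.pow_dvd_pow_iff_le_right hpp.one_lt] at this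
        omega
      · rw [hiff, ← he]
        exact pow_orderOf_eq_one y
  -- |G : Cb| = |K|
  have hCbidx : Cb.index = Nat.card K := by
    -- hom f : A → G, x ↦ x^(r-1)
    let f : A →* G := MonoidHom.mk' (fun x : A => (x : G) ^ (r - 1)) (by
      intro x y'
      obtain ⟨x, hx⟩ := x
      obtain ⟨y', hy'⟩ := y'
      simp only [Subgroup.coe_mul]
      rw [hA, Subgroup.mem_zpowers_iff] at hx hy'
      obtain ⟨k, rfl⟩ := hx
      obtain ⟨l, rfl⟩ := hy'
      have : Commute (a ^ k) (a ^ l) := (Commute.refl a).zpow_zpow k l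
      exact this.mul_pow _)
    have hfx : ∀ x : A, f x = (x : G) ^ (r - 1) := fun x => rfl
    have hrange : f.range = K := by
      apply le_antisymm
      · rintro _ ⟨⟨x, hx⟩, rfl⟩
        rw [hfx]
        rw [hA, Subgroup.mem_zpowers_iff] at hx
        obtain ⟨k, rfl⟩ := hx
        show (a ^ k) ^ (r - 1) ∈ K
        have : (a ^ k) ^ (r - 1) = y ^ k := by
          rw [hy, ← zpow_natCast, ← zpow_natCast, ← zpow_mul, ← zpow_mul, mul_comm]
        rw [this]
        exact K.zpow_mem hyK k
      · rw [hK, Subgroup.zpowers_le]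
        exact ⟨⟨a, haA⟩, rfl⟩
    have hker : Nat.card f.ker = Nat.card (Cb ⊓ A : Subgroup G) := by
      have h1 : f.ker = (Cb ⊓ A).subgroupOf A := by
        ext ⟨x, hx⟩
        rw [MonoidHom.mem_ker, hfx, Subgroup.mem_subgroupOf, Subgroup.mem_inf]
        show x ^ (r - 1) = 1 ↔ x ∈ Cb ∧ x ∈ A
        have hx' := hx
        rw [hA, Subgroup.mem_zpowers_iff] at hx'
        obtain ⟨k, rfl⟩ := hx'
        rw [hmemCb]
        have hconj : b * a ^ k * b⁻¹ = (a ^ k) ^ r := by
          rw [← conj_zpow, hba, ← zpow_natCast, ← zpow_natCast, ← zpow_mul, ← zpow_mul, mul_comm]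
        have hsplit : (a ^ k) ^ r = (a ^ k) ^ (r - 1) * a ^ k := by
          rw [← pow_succ, Nat.sub_add_cancel hr1]
        constructor
        · intro h
          refine ⟨?_, hx⟩
          rw [hsplit, h, one_mul] at hconj
          calc a ^ k * b = (b * a ^ k * b⁻¹) * b := by rw [hconj]
            _ = b * a ^ k := by group
        · rintro ⟨h, -⟩
          have : b * a ^ k * b⁻¹ = a ^ k := by rw [← h]; group
          rw [this, hsplit] at hconj
          have h5 : 1 * a ^ k = (a ^ k) ^ (r - 1) * a ^ k := by rw [one_mul]; exact hconj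
          exact (mul_right_cancel h5).symm
      rw [h1]
      exact Nat.card_congr (Subgroup.subgroupOfEquivOfLe (inf_le_right : Cb ⊓ A ≤ A)).toEquiv
    have e1 : Nat.card f.ker * Nat.card K = Nat.card A := by
      have := Subgroup.card_mul_index f.ker
      rw [Subgroup.index_ker, hrange] at this
      exact this
    have e2 := Cfsg.Agent.Lib.Lead_SZ.card_map_mul A Cb
    have hmap : Cb.map (QuotientGroup.mk' A) = ⊤ := by
      rw [eq_top_iff]
      intro x _
      obtain ⟨g, rfl⟩ := QuotientGroup.mk_surjective x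
      obtain ⟨i, j, rfl⟩ := hgen g
      refine ⟨b ^ j, hbCb j, ?_⟩
      show (QuotientGroup.mk (b ^ j) : G ⧸ A) = QuotientGroup.mk (a ^ i * b ^ j)
      rw [QuotientGroup.mk_mul, (QuotientGroup.eq_one_iff _).mpr (A.pow_mem haA i), one_mul]
    rw [hmap, Subgroup.card_top, ← Subgroup.index_eq_card] at e2
    have e3 := Subgroup.card_mul_index A
    have e4 := Subgroup.card_mul_index Cb
    rw [← hker] at e2
    -- |A|*idxA = |G|, idxA * |ker| = |Cb|, |ker| * |K| = |A|, |Cb| * idx = |G|
    have hpos : 0 < Nat.card Cb := Nat.card_pos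
    have : Nat.card Cb * Cb.index = Nat.card Cb * Nat.card K := by
      rw [e4, ← e3, ← e1, ← e2]; ring
    exact Nat.eq_of_mul_eq_mul_left hpos this
  -- assemble
  have h1 : C.relIndex (C ⊔ Cb) = C.relIndex Cb := Subgroup.relIndex_sup_left Cb C
  rw [hsup, Subgroup.relIndex_top_right] at h1
  have h2 : (C ⊓ Cb).relIndex Cb * Cb.index = (C ⊓ Cb).index :=
    Subgroup.relIndex_mul_index inf_le_right
  rw [Subgroup.inf_relIndex_right, ← h1] at h2
  rw [hcenter, ← h2, hCidx, hord, hCbidx, hcomm, hKcard, sq]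

end Cfsg.Agent.S3879
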