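import Cfsg.Statements.S3880
import Mathlib
import Cfsg.Agent.Lib.Helper6_Metacyclic

set_option autoImplicit false
open Cfsg
open Cfsg.Agent.Lib.Helper6_Metacyclic

namespace Cfsg.Agent.S3880

variable {G : Type*} [Group G] [Finite G] {p : ℕ} [hp : Fact p.Prime] {a b : G} {r e m t : ℕ}

/-- A subgroup is abelian iff its order is at most `[G : G']`. -/
theorem abelian_iff_card_le (h : MC p G a b r e m t) (hp1 : Odd p) (L : Subgroup G) :
    IsMulCommutative ↥L ↔ Nat.card ↥L ≤ (commutator G).index := by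
  obtain ⟨i, j, l, hie, hjm, hi, h1, h2, hL⟩ := h.sub hp1 L
  rw [hL.isMulCommutative_iff, hL.card_eq, h.index_commutator,
    Nat.pow_le_pow_iff_right hp.out.one_lt]
  omega

/-- Let p be an odd prime and G a finite metacyclic p-group (G has a cyclic normal subgroup with cyclic quotient). Then a subgroup L of G is abelian if and only if |L| ≤ |G : G'|, and L is a maximal abelian subgroup of G if and only if |L| = |G : G'|. -/
theorem result {G : Type*} [Group G] [Finite G] {p : ℕ} [Fact p.Prime] (hp : p ≠ 2) (hG : IsPGroup p G) (hmc : Cfsg.IsMetacyclic G) (L : Subgroup G) :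
    (IsMulCommutative ↥L ↔ Nat.card ↥L ≤ (commutator G).index) ∧
      (Maximal (fun K : Subgroup G => IsMulCommutative ↥K) L ↔ Nat.card ↥L = (commutator G).index) := by
  have hpp := (Fact.out : p.Prime)
  have hp1 : Odd p := hpp.odd_of_ne_two hp
  obtain ⟨a, b, r, e, m, t, h⟩ := exists_MC hG hmc
  refine ⟨abelian_iff_card_le h hp1 L, ?_⟩
  constructor
  · intro hmax
    have hLab : IsMulCommutative ↥L := hmax.prop
    obtain ⟨i, j, l, hie, hjm, hi, h1, h2, hL⟩ := h.sub hp1 L
    have hab := hL.isMulCommutative_iff.mp hLab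
    rw [hL.card_eq, h.index_commutator]
    congr 1
    by_contra hne
    have hlt : e < i + j + t := by omega
    -- every element of L
    have hLgen : ∀ g ∈ L, ∃ x y : ℕ, g = (b ^ p ^ j * a ^ l) ^ x * (a ^ p ^ i) ^ y := by
      intro g hg
      obtain ⟨x, y, hxy⟩ := hL.gen ⟨g, hg⟩
      refine ⟨x, y, ?_⟩
      have := congrArg Subtype.val hxy
      simpa using this
    rcases Nat.eq_zero_or_pos i with hi0 | hi0
    · -- i = 0
      subst hi0
      have hj0 : 1 ≤ j := by omega
      obtain ⟨j', rfl⟩ := Nat.exists_eq_add_of_le hj0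
      have hcomm : a * b ^ p ^ j' = b ^ p ^ j' * a := by
        have := (h.apow_comm_iff' hp1 0 (p ^ j') 0).mpr (by
          rw [← pow_add]; exact pow_dvd_pow p (by omega))
        simpa using this
      set L1 := Subgroup.closure ({a, b ^ p ^ j'} : Set G) with hL1
      have hL1ab : IsMulCommutative ↥L1 := by
        apply Subgroup.isMulCommutative_closure
        intro x hx y hy
        rcases hx with rfl | rfl <;> rcases hy with rfl | rfl
        · rfl
        · exact hcomm
        · exact hcomm.symm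
        · rfl
      have haL1 : a ∈ L1 := Subgroup.subset_closure (by simp)
      have hbL1 : b ^ p ^ j' ∈ L1 := Subgroup.subset_closure (by simp)
      have hLL1 : L ≤ L1 := by
        intro g hg
        obtain ⟨x, y, rfl⟩ := hLgen g hg
        refine L1.mul_mem (L1.pow_mem (L1.mul_mem ?_ (L1.pow_mem haL1 _)) _) (L1.pow_mem (L1.pow_mem haL1 _) _)
        rw [add_comm, pow_succ, pow_mul]
        exact L1.pow_mem hbL1 _
      have hL1L : L1 ≤ L := hmax.le_of_ge hL1ab hLL1
      obtain ⟨x, y, hxy⟩ := hLgen _ (hL1L hbL1)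
      obtain ⟨y', hy'⟩ := h.exists_pow_eq (p ^ (1 + j')) l x
      rw [hy', pow_zero, pow_one, mul_assoc, ← pow_add] at hxy
      have hxy' : b ^ p ^ j' * a ^ 0 = b ^ (p ^ (1 + j') * x) * a ^ (y' + y) := by
        rw [pow_zero, mul_one]; exact hxy
      have hmod := h.bexp_modEq hxy'
      have hmod2 : p ^ j' ≡ p ^ (1 + j') * x [MOD p ^ (1 + j')] :=
        hmod.of_dvd (pow_dvd_pow p hjm)
      have hmod3 : p ^ (1 + j') * x ≡ 0 [MOD p ^ (1 + j')] :=
        (Nat.modEq_zero_iff_dvd).mpr (Dvd.intro _ rfl)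
      have hd : p ^ (1 + j') ∣ p ^ j' := (Nat.modEq_zero_iff_dvd).mp (hmod2.trans hmod3)
      have := (Nat.pow_dvd_pow_iff_le_right hpp.one_lt).mp hd
      omega
    · -- i ≥ 1
      obtain ⟨i', rfl⟩ := Nat.exists_eq_add_of_le hi0
      have hcomm : a ^ p ^ i' * (b ^ p ^ j * a ^ l) = (b ^ p ^ j * a ^ l) * a ^ p ^ i' := by
        apply (h.apow_comm_iff' hp1 i' (p ^ j) l).mpr
        rw [← pow_add]; exact pow_dvd_pow p (by omega)
      set L1 := Subgroup.closure ({a ^ p ^ i', b ^ p ^ j * a ^ l} : Set G) with hL1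
      have hL1ab : IsMulCommutative ↥L1 := by
        apply Subgroup.isMulCommutative_closure
        intro x hx y hy
        rcases hx with rfl | rfl <;> rcases hy with rfl | rfl
        · rfl
        · exact hcomm
        · exact hcomm.symm
        · rfl
      have haL1 : a ^ p ^ i' ∈ L1 := Subgroup.subset_closure (by simp)
      have hcL1 : b ^ p ^ j * a ^ l ∈ L1 := Subgroup.subset_closure (by simp)
      have hLL1 : L ≤ L1 := by
        intro g hg
        obtain ⟨x, y, rfl⟩ := hLgen g hg
        refine L1.mul_mem (L1.pow_mem hcL1 _) (L1.pow_mem ?_ _)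
        rw [add_comm, pow_succ, pow_mul]
        exact L1.pow_mem haL1 _
      have hL1L : L1 ≤ L := hmax.le_of_ge hL1ab hLL1
      have hmem : a ^ p ^ i' ∈ L ⊓ Subgroup.zpowers a :=
        ⟨hL1L haL1, Subgroup.pow_mem _ (Subgroup.mem_zpowers a) _⟩
      rw [hi] at hmem
      have hord : orderOf (a ^ p ^ i') ∣ orderOf (a ^ p ^ (1 + i')) :=
        orderOf_dvd_of_mem_zpowers hmem
      rw [orderOf_pow_prime_pow h.ord, orderOf_pow_prime_pow h.ord] at hord
      have := (Nat.pow_dvd_pow_iff_le_right hpp.one_lt).mp hord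
      omega
  · intro hcard
    have hLab : IsMulCommutative ↥L := (abelian_iff_card_le h hp1 L).mpr hcard.le
    refine ⟨hLab, ?_⟩
    intro K hK hLK
    have hKc := (abelian_iff_card_le h hp1 K).mp hK
    have : L = K := Subgroup.eq_of_le_of_card_ge hLK (by rw [hcard]; exact hKc)
    rw [this]

end Cfsg.Agent.S3880
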