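import Cfsg.Statements.S3881
import Mathlib
import Cfsg.Agent.Lib.Helper6_Metacyclic

set_option autoImplicit false
open Cfsg
open Cfsg.Agent.Lib.Helper6_Metacyclic

namespace Cfsg.Agent.S3881

/-- Let p be an odd prime and G a finite metacyclic p-group (G has a cyclic normal subgroup with cyclic quotient). Suppose G is non-abelian with |G'| = p^n. Then for 1 ≤ i ≤ n the number of elements of G whose conjugacy class has exactly p^i elements is |Z(G)| · (p^(2i) − p^(2i−2)). -/
theorem result {G : Type*} [Group G] [Finite G] {p : ℕ} [Fact p.Prime] (hp : p ≠ 2) (hG : IsPGroup p G) (hmc : Cfsg.IsMetacyclic G) (n : ℕ) (hn : n ≠ 0) (hGn : Nat.card ↥(commutator G) = p ^ n) (i : ℕ) (hi : 1 ≤ i) (hin : i ≤ n) :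
    Nat.card {g : G // (Subgroup.centralizer ({g} : Set G)).index = p ^ i} =
      Nat.card ↥(Subgroup.center G) * (p ^ (2 * i) - p ^ (2 * i - 2)) := by
  have hpp := (Fact.out : p.Prime)
  have hp1 : Odd p := hpp.odd_of_ne_two hp
  obtain ⟨a, b, r, e, m, t, h⟩ := exists_MC hG hmc
  have hnet : n = e - t := by
    rw [h.card_commutator] at hGn
    exact (Nat.pow_right_injective hpp.two_le hGn).symm
  subst hnet
  have hnm := h.n_le_m hp1
  set A := Subgroup.closure {x : G | ∃ y : G, y ^ p ^ (e - t - i) = x} with hA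
  set B := Subgroup.closure {x : G | ∃ y : G, y ^ p ^ (e - t - i + 1) = x} with hB
  have hsA : e - t - i ≤ e - t := by omega
  have hsB : e - t - i + 1 ≤ e - t := by omega
  have hmemA : ∀ g : G, g ∈ A ↔ (Subgroup.centralizer ({g} : Set G)).index ≤ p ^ i := by
    intro g
    rw [hA, h.mem_closure_pow_iff_index hp1 _ hsA]
    have : e - t - (e - t - i) = i := by omega
    rw [this]
  have hmemB : ∀ g : G, g ∈ B ↔ (Subgroup.centralizer ({g} : Set G)).index ≤ p ^ (i - 1) := by
    intro g
    rw [hB, h.mem_closure_pow_iff_index hp1 _ hsB]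
    have : e - t - (e - t - i + 1) = i - 1 := by omega
    rw [this]
  have hBA : (B : Set G) ⊆ (A : Set G) := by
    intro g hg
    have h1 := (hmemB g).mp hg
    exact (hmemA g).mpr (h1.trans (Nat.pow_le_pow_right hpp.pos (by omega)))
  have hset : {g : G | (Subgroup.centralizer ({g} : Set G)).index = p ^ i} = (A : Set G) \ (B : Set G) := by
    ext g
    simp only [Set.mem_ofPred_eq, Set.mem_sdiff, SetLike.mem_coe]
    rw [hmemA, hmemB]
    have c1 := (Subgroup.centralizer ({g} : Set G)).card_mul_index
    rw [h.card_eq] at c1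
    obtain ⟨x, hx, hxi⟩ := (Nat.dvd_prime_pow hpp).mp (Dvd.intro_left _ c1)
    rw [hxi, Nat.pow_le_pow_iff_right hpp.one_lt, Nat.pow_le_pow_iff_right hpp.one_lt]
    constructor
    · intro heq
      have := Nat.pow_right_injective hpp.two_le heq
      omega
    · rintro ⟨h1, h2⟩
      congr 1
      omega
  have hcard : Nat.card {g : G // (Subgroup.centralizer ({g} : Set G)).index = p ^ i} =
      Nat.card ↥A - Nat.card ↥B := by
    have h1 : Nat.card {g : G // (Subgroup.centralizer ({g} : Set G)).index = p ^ i} =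
        ({g : G | (Subgroup.centralizer ({g} : Set G)).index = p ^ i}).ncard := rfl
    rw [h1, hset, Set.ncard_sdiff hBA (Set.toFinite _)]
    rfl
  rw [hcard, h.card_closure_pow hp1 _ hsA, h.card_closure_pow hp1 _ hsB, h.card_center hp1,
    Nat.mul_sub, ← pow_add, ← pow_add]
  congr 2 <;> omega

end Cfsg.Agent.S3881
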