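import Cfsg.Statements.S3883
import Mathlib
import Cfsg.Agent.Lib.Helper6_Metacyclic
import Cfsg.Agent.Lib.Helper4_Frattini
import Cfsg.Agent.Lib.Helper7_PFrattini
import Cfsg.Agent.S3880

set_option autoImplicit false
open Cfsg
open Cfsg.Agent.Lib.Helper6_Metacyclic
open scoped commutatorElement

namespace Cfsg.Agent.S3883

/-- the Frattini subgroup is generated by the `p`-th powers -/
theorem frattini_eq {G : Type*} [Group G] [Finite G] {p : ℕ} [hp : Fact p.Prime] {a b : G}
    {r e m t : ℕ} (h : MC p G a b r e m t) :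
    frattini G = Subgroup.closure {x : G | ∃ y : G, y ^ p ^ 1 = x} := by
  apply le_antisymm
  · haveI := normal_closure_pow (G := G) (p ^ 1)
    apply Cfsg.Agent.Lib.Helper4_Frattini.frattini_le_of_elementary_quotient (p := p)
    · intro x y
      have h1 : ⁅x, y⁆ ∈ commutator G := by
        rw [commutator_def]
        exact Subgroup.commutator_mem_commutator (Subgroup.mem_top _) (Subgroup.mem_top _)
      rw [h.commutator_eq] at h1
      have h2 : Subgroup.zpowers (a ^ p ^ t) ≤ Subgroup.closure {x : G | ∃ y : G, y ^ p ^ 1 = x} := by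
        rw [Subgroup.zpowers_le]
        apply Subgroup.subset_closure
        refine ⟨a ^ p ^ (t - 1), ?_⟩
        rw [← pow_mul, ← pow_add]
        congr 2
        have := h.tpos
        omega
      exact h2 h1
    · intro x
      apply Subgroup.subset_closure
      exact ⟨x, by rw [pow_one]⟩
  · rw [Subgroup.closure_le]
    rintro _ ⟨y, rfl⟩
    rw [pow_one]
    exact Cfsg.Agent.Lib.Helper7_PFrattini.pow_mem_frattini h.isPGroup y

/-- Let p be an odd prime and G a finite metacyclic p-group (G has a cyclic normal subgroup with cyclic quotient). Suppose G is non-abelian. Then an element g of G lies outside the Frattini subgroup if and only if its centralizer C_G(g) is abelian. -/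
theorem result {G : Type*} [Group G] [Finite G] {p : ℕ} [Fact p.Prime] (hp : p ≠ 2) (hG : IsPGroup p G) (hmc : Cfsg.IsMetacyclic G) (hna : ¬ IsMulCommutative G) (g : G) :
    g ∉ frattini G ↔ IsMulCommutative ↥(Subgroup.centralizer ({g} : Set G)) := by
  have hpp := (Fact.out : p.Prime)
  have hp1 : Odd p := hpp.odd_of_ne_two hp
  obtain ⟨a, b, r, e, m, t, h⟩ := exists_MC hG hmc
  have hN : ¬ e ≤ t := fun hle => hna (h.isMulCommutative_iff.mpr hle)
  rw [frattini_eq h, h.mem_closure_pow_iff_index hp1 1 (by omega),
    Cfsg.Agent.S3880.abelian_iff_card_le h hp1, h.index_commutator]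
  have c1 := (Subgroup.centralizer ({g} : Set G)).card_mul_index
  rw [h.card_eq] at c1
  obtain ⟨x, hx, hxi⟩ := (Nat.dvd_prime_pow hpp).mp (Dvd.intro_left _ c1)
  rw [hxi] at c1 ⊢
  have c2 : Nat.card ↥(Subgroup.centralizer ({g} : Set G)) = p ^ (e + m - x) := by
    have : p ^ (e + m - x) * p ^ x = p ^ (e + m) := by rw [← pow_add]; congr 1; omega
    rw [← this] at c1
    exact Nat.eq_of_mul_eq_mul_right (pow_pos hpp.pos x) c1
  rw [c2, Nat.pow_le_pow_iff_right hpp.one_lt, Nat.pow_le_pow_iff_right hpp.one_lt]
  omega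

end Cfsg.Agent.S3883
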