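import Cfsg.Statements.S3884
import Mathlib
import Cfsg.Agent.Lib.Helper6_Metacyclic

set_option autoImplicit false
open Cfsg
open Cfsg.Agent.Lib.Helper6_Metacyclic

namespace Cfsg.Agent.S3884

variable {G : Type*} [Group G] {p : ℕ} [hp : Fact p.Prime] {a b : G} {r e m t : ℕ}

/-- linear form of the power formula -/
theorem exists_theta (h : MC p G a b r e m t) (k x : ℕ) :
    ∃ Θ, Θ * (r ^ k - 1) = r ^ (k * x) - 1 ∧ ∀ l, (b ^ k * a ^ l) ^ x = b ^ (k * x) * a ^ (l * Θ) := by
  induction x with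
  | zero => exact ⟨0, by simp, fun l => by simp⟩
  | succ x ih =>
    obtain ⟨Θ, h1, h2⟩ := ih
    refine ⟨Θ * r ^ k + 1, ?_, ?_⟩
    · obtain ⟨A, hA⟩ : ∃ A, r ^ k = A + 1 := ⟨r ^ k - 1, by have := h.one_le_r_pow k; omega⟩
      obtain ⟨B, hB⟩ : ∃ B, r ^ (k * x) = B + 1 := ⟨r ^ (k * x) - 1, by have := h.one_le_r_pow (k * x); omega⟩
      have hAB : r ^ (k * (x + 1)) = (B + 1) * (A + 1) := by
        rw [mul_add, mul_one, pow_add, hA, hB]
      rw [hA, hB, Nat.add_sub_cancel, Nat.add_sub_cancel] at h1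
      rw [hAB, hA, Nat.add_sub_cancel]
      have : (B + 1) * (A + 1) - 1 = B * A + B + A := by
        have : (B + 1) * (A + 1) = B * A + B + A + 1 := by ring
        omega
      rw [this]
      calc (Θ * (A + 1) + 1) * A = (Θ * A) * (A + 1) + A := by ring
        _ = B * (A + 1) + A := by rw [h1]
        _ = B * A + B + A := by ring
    · intro l
      rw [pow_succ, h2 l, mul_formula h.conj, mul_add, mul_one]
      congr 2
      ring

/-- Let p be an odd prime and G a finite metacyclic p-group (G has a cyclic normal subgroup with cyclic quotient). Then G is the product of two cyclic subgroups with trivial intersection: there are cyclic subgroups A and B with A ∩ B = 1 and |A| · |B| = |G|. -/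
theorem result {G : Type*} [Group G] [Finite G] {p : ℕ} [Fact p.Prime] (hp : p ≠ 2) (hG : IsPGroup p G) (hmc : Cfsg.IsMetacyclic G) : ∃ A B : Subgroup G, IsCyclic ↥A ∧ IsCyclic ↥B ∧ A ⊓ B = ⊥ ∧ Nat.card ↥A * Nat.card ↥B = Nat.card G := by
  have hpp := (Fact.out : p.Prime)
  have hp1 : Odd p := hpp.odd_of_ne_two hp
  obtain ⟨a, b, r, e, m, t, h⟩ := exists_MC hG hmc
  obtain ⟨u, hr, hu⟩ := h.rform
  have hbN : b ^ p ^ m ∈ Subgroup.zpowers a := (h.bpow _).mpr dvd_rfl
  obtain ⟨w, hw⟩ := (h.mem_zpowers_a_iff _).mp hbN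
  -- `Y + w ≡ 0`
  set Y := p ^ e - w % p ^ e with hY
  have hYw : p ^ e ∣ Y + w := by
    have h1 : w % p ^ e < p ^ e := Nat.mod_lt _ (pow_pos hpp.pos e)
    have h2 : Y + w = p ^ e + p ^ e * (w / p ^ e) := by
      have := Nat.mod_add_div w (p ^ e)
      omega
    rw [h2]
    exact Dvd.dvd.add dvd_rfl (Dvd.intro _ rfl)
  have hYdvd : ∀ s ≤ e, p ^ s ∣ w → p ^ s ∣ Y := by
    intro s hs hsw
    have h1 : p ^ s ∣ Y + w := Dvd.dvd.trans (pow_dvd_pow p hs) hYw
    exact (Nat.dvd_add_left hsw).mp h1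
  by_cases hcase : p ^ (min m e) ∣ w
  · -- modify `b`
    obtain ⟨Θ, hΘ1, hΘ2⟩ := exists_theta h 1 (p ^ m)
    obtain ⟨um, hum, hum'⟩ := exists_pow_form hp1 h.tpos hu m
    rw [pow_one, one_mul, hr, hum, Nat.add_sub_cancel_left, Nat.add_sub_cancel_left] at hΘ1
    have hΘ3 : Θ * u = p ^ m * um := by
      have : p ^ t * (Θ * u) = p ^ t * (p ^ m * um) := by
        calc p ^ t * (Θ * u) = Θ * (p ^ t * u) := by ring
          _ = p ^ (t + m) * um := hΘ1
          _ = p ^ t * (p ^ m * um) := by rw [pow_add]; ring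
      exact Nat.eq_of_mul_eq_mul_left (pow_pos hpp.pos t) this
    have hΘdvd : ∀ s, p ^ s ∣ Θ → s ≤ m := by
      intro s hs
      have h1 : p ^ s ∣ p ^ m * um := by rw [← hΘ3]; exact Dvd.dvd.mul_right hs u
      have hcop : Nat.Coprime (p ^ s) um :=
        Nat.Coprime.pow_left _ ((Nat.Prime.coprime_iff_not_dvd hpp).mpr hum')
      exact (Nat.pow_dvd_pow_iff_le_right hpp.one_lt).mp (hcop.dvd_of_dvd_mul_right h1)
    obtain ⟨x, hx⟩ : ∃ x, x * Θ ≡ Y [MOD p ^ e] := by
      apply exists_solve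
      intro s hs hsΘ
      apply hYdvd s hs
      exact Dvd.dvd.trans (pow_dvd_pow p (le_min (hΘdvd s hsΘ) hs)) hcase
    set b' := b * a ^ x with hb'
    have hb'pow : b' ^ p ^ m = 1 := by
      have := hΘ2 x
      rw [pow_one, one_mul, hw, ← pow_add] at this
      rw [hb', this, h.apow_eq_one_iff]
      have h1 : w + x * Θ ≡ w + Y [MOD p ^ e] := Nat.ModEq.add_left w hx
      rw [add_comm w Y] at h1
      exact (Nat.modEq_zero_iff_dvd).mp (h1.trans ((Nat.modEq_zero_iff_dvd).mpr hYw))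
    have hb'N : ∀ k : ℕ, b' ^ k ∈ Subgroup.zpowers a → p ^ m ∣ k := by
      intro k hk
      obtain ⟨y, hy⟩ := h.exists_pow_eq 1 x k
      rw [pow_one, one_mul] at hy
      rw [hb', hy] at hk
      have : b ^ k ∈ Subgroup.zpowers a := by
        have h2 : b ^ k = (b ^ k * a ^ y) * (a ^ y)⁻¹ := by group
        rw [h2]
        exact Subgroup.mul_mem _ hk (Subgroup.inv_mem _ (Subgroup.pow_mem _ (Subgroup.mem_zpowers a) _))
      exact (h.bpow k).mp this
    have hordb' : orderOf b' = p ^ m := by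
      apply Nat.dvd_antisymm
      · exact orderOf_dvd_of_pow_eq_one hb'pow
      · apply hb'N
        rw [pow_orderOf_eq_one]; exact Subgroup.one_mem _
    refine ⟨Subgroup.zpowers a, Subgroup.zpowers b', inferInstance, inferInstance, ?_, ?_⟩
    · rw [eq_bot_iff]
      rintro g ⟨hgA, hgB⟩
      have hfin : IsOfFinOrder b' := isOfFinOrder_of_finite b'
      obtain ⟨k, hk⟩ := (hfin.mem_powers_iff_mem_zpowers).mpr hgB
      have hk' : b' ^ k = g := hk
      rw [← hk'] at hgA
      obtain ⟨c, rfl⟩ := hb'N k hgA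
      rw [Subgroup.mem_bot, ← hk', pow_mul, hb'pow, one_pow]
    · rw [Nat.card_zpowers, Nat.card_zpowers, h.ord, hordb', h.card_eq, pow_add]
  · -- modify `a`
    have hw0 : w ≠ 0 := by
      rintro rfl; exact hcase (dvd_zero _)
    obtain ⟨f, w', hw', hwf⟩ := Nat.exists_eq_pow_mul_and_not_dvd hw0 p hpp.ne_one
    have hflt : f < min m e := by
      by_contra hcon
      push Not at hcon
      apply hcase
      rw [hwf]
      exact Dvd.dvd.mul_right (pow_dvd_pow p hcon) _
    have hfm : f < m := lt_of_lt_of_le hflt (min_le_left _ _)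
    have hfe : f < e := lt_of_lt_of_le hflt (min_le_right _ _)
    obtain ⟨Θ, hΘ1, hΘ2⟩ := exists_theta h (p ^ (m - f)) (p ^ f)
    have hmf : p ^ (m - f) * p ^ f = p ^ m := by rw [← pow_add]; congr 1; omega
    rw [hmf] at hΘ1 hΘ2
    obtain ⟨u1, hu1, hu1'⟩ := exists_pow_form hp1 h.tpos hu (m - f)
    obtain ⟨u2, hu2, hu2'⟩ := exists_pow_form hp1 h.tpos hu m
    rw [hr, hu1, hu2, Nat.add_sub_cancel_left, Nat.add_sub_cancel_left] at hΘ1
    have hΘ3 : Θ * u1 = p ^ f * u2 := by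
      have : p ^ (t + (m - f)) * (Θ * u1) = p ^ (t + (m - f)) * (p ^ f * u2) := by
        calc p ^ (t + (m - f)) * (Θ * u1) = Θ * (p ^ (t + (m - f)) * u1) := by ring
          _ = p ^ (t + m) * u2 := hΘ1
          _ = p ^ (t + (m - f)) * (p ^ f * u2) := by
            rw [← mul_assoc, ← pow_add]; congr 2; omega
      exact Nat.eq_of_mul_eq_mul_left (pow_pos hpp.pos _) this
    have hΘdvd : ∀ s, p ^ s ∣ Θ → s ≤ f := by
      intro s hs
      have h1 : p ^ s ∣ p ^ f * u2 := by rw [← hΘ3]; exact Dvd.dvd.mul_right hs u1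
      have hcop : Nat.Coprime (p ^ s) u2 :=
        Nat.Coprime.pow_left _ ((Nat.Prime.coprime_iff_not_dvd hpp).mpr hu2')
      exact (Nat.pow_dvd_pow_iff_le_right hpp.one_lt).mp (hcop.dvd_of_dvd_mul_right h1)
    have hfΘ : p ^ f ∣ Θ := by
      have h1 : p ^ f ∣ Θ * u1 := by rw [hΘ3]; exact Dvd.intro _ rfl
      have hcop : Nat.Coprime (p ^ f) u1 :=
        Nat.Coprime.pow_left _ ((Nat.Prime.coprime_iff_not_dvd hpp).mpr hu1')
      exact hcop.dvd_of_dvd_mul_right h1
    obtain ⟨j, hj⟩ : ∃ j, j * Θ ≡ Y [MOD p ^ e] := by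
      apply exists_solve
      intro s hs hsΘ
      apply hYdvd s hs
      rw [hwf]
      exact Dvd.dvd.mul_right (pow_dvd_pow p (hΘdvd s hsΘ)) _
    have hjp : ¬ p ∣ j := by
      intro hpj
      have h1 : p ^ (f + 1) ∣ j * Θ := by
        rw [pow_succ, mul_comm]; exact Nat.mul_dvd_mul hpj hfΘ
      have h2 : p ^ (f + 1) ∣ Y := (hj.dvd_iff (pow_dvd_pow p (by omega))).mp h1
      have h3 : p ^ (f + 1) ∣ Y + w := Dvd.dvd.trans (pow_dvd_pow p (by omega)) hYw
      have h4 : p ^ (f + 1) ∣ w := (Nat.dvd_add_right h2).mp h3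
      rw [hwf, pow_succ, Nat.mul_dvd_mul_iff_left (pow_pos hpp.pos f)] at h4
      exact hw' h4
    set a' := b ^ p ^ (m - f) * a ^ j with ha'
    have ha'pow : a' ^ p ^ f = 1 := by
      have := hΘ2 j
      rw [hw, ← pow_add] at this
      rw [ha', this, h.apow_eq_one_iff]
      have h1 : w + j * Θ ≡ w + Y [MOD p ^ e] := Nat.ModEq.add_left w hj
      rw [add_comm w Y] at h1
      exact (Nat.modEq_zero_iff_dvd).mp (h1.trans ((Nat.modEq_zero_iff_dvd).mpr hYw))
    -- `⟨b⟩ ∩ N ≤ ⟨a ^ p ^ f⟩`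
    have hbNf : ∀ g ∈ Subgroup.zpowers b, g ∈ Subgroup.zpowers a → ∃ c : ℕ, g = a ^ (p ^ f * c) := by
      intro g hgb hga
      have hfin : IsOfFinOrder b := isOfFinOrder_of_finite b
      obtain ⟨k, hk⟩ := (hfin.mem_powers_iff_mem_zpowers).mpr hgb
      have hk' : b ^ k = g := hk
      rw [← hk'] at hga
      obtain ⟨c, rfl⟩ := (h.bpow k).mp hga
      refine ⟨w' * c, ?_⟩
      rw [← hk', pow_mul, hw, ← pow_mul, hwf, mul_assoc]
    -- `a' ^ p ^ (f - 1) ∉ ⟨b⟩`
    have hnot : 1 ≤ f → a' ^ p ^ (f - 1) ∉ Subgroup.zpowers b := by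
      intro hf1 hmem
      obtain ⟨y, hy, hy2⟩ := h.pow_p_pow hp1 (p ^ (m - f)) j (f - 1)
      rw [ha', hy] at hmem
      have hay : a ^ y ∈ Subgroup.zpowers b := by
        have h2 : a ^ y = (b ^ (p ^ (m - f) * p ^ (f - 1)))⁻¹ * (b ^ (p ^ (m - f) * p ^ (f - 1)) * a ^ y) := by
          group
        rw [h2]
        exact Subgroup.mul_mem _ (Subgroup.inv_mem _ (Subgroup.pow_mem _ (Subgroup.mem_zpowers b) _)) hmem
      obtain ⟨c, hc⟩ := hbNf _ hay (Subgroup.pow_mem _ (Subgroup.mem_zpowers a) _)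
      rw [h.apow_eq_apow_iff] at hc
      have h3 : p ^ f ∣ y := (hc.dvd_iff (pow_dvd_pow p hfe.le)).mpr (Dvd.intro _ rfl)
      rw [hy2 f] at h3
      have h4 : p ^ f = p ^ (f - 1) * p := by rw [← pow_succ]; congr 1; omega
      rw [h4, mul_comm j, Nat.mul_dvd_mul_iff_left (pow_pos hpp.pos _)] at h3
      exact hjp h3
    have horda' : orderOf a' = p ^ f := by
      obtain ⟨f', hf', hf'o⟩ := (Nat.dvd_prime_pow hpp).mp (orderOf_dvd_of_pow_eq_one ha'pow)
      rcases Nat.lt_or_ge f' f with hlt | hge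
      · exfalso
        apply hnot (by omega)
        have : a' ^ p ^ (f - 1) = 1 := by
          rw [← orderOf_dvd_iff_pow_eq_one, hf'o]
          exact pow_dvd_pow p (by omega)
        rw [this]; exact Subgroup.one_mem _
      · rw [hf'o]; congr 1; omega
    have hordb : orderOf b = p ^ (m + (e - f)) := by
      obtain ⟨M, hM⟩ := (IsPGroup.iff_orderOf.mp hG) b
      have hmM : m ≤ M := by
        have h1 : b ^ p ^ M ∈ Subgroup.zpowers a := by
          rw [← hM, pow_orderOf_eq_one]; exact Subgroup.one_mem _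
        exact (Nat.pow_dvd_pow_iff_le_right hpp.one_lt).mp ((h.bpow _).mp h1)
      have h2 : orderOf (b ^ p ^ m) = p ^ (M - m) := orderOf_pow_prime_pow hM m
      have h3 : orderOf (a ^ w) = p ^ (e - f) := by
        have hz := zpowers_pow_mul_eq h.ord f w' hw'
        rw [← hwf] at hz
        rw [← Nat.card_zpowers, hz, Nat.card_zpowers, orderOf_pow_prime_pow h.ord]
      rw [hw, h3] at h2
      have := Nat.pow_right_injective hpp.two_le h2
      rw [hM]; congr 1; omega
    refine ⟨Subgroup.zpowers a', Subgroup.zpowers b, inferInstance, inferInstance, ?_, ?_⟩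
    · rw [eq_bot_iff]
      rintro g ⟨hgA, hgB⟩
      rw [Subgroup.mem_bot]
      by_contra hg1
      have hfin : IsOfFinOrder a' := isOfFinOrder_of_finite a'
      obtain ⟨k, hk⟩ := (hfin.mem_powers_iff_mem_zpowers).mpr hgA
      have hk' : a' ^ k = g := hk
      have hk0 : k ≠ 0 := by
        rintro rfl; rw [pow_zero] at hk'; exact hg1 hk'.symm
      obtain ⟨v, k', hk'd, rfl⟩ := Nat.exists_eq_pow_mul_and_not_dvd hk0 p hpp.ne_one
      have hvf : v < f := by
        by_contra hcon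
        push Not at hcon
        apply hg1
        rw [← hk', ← orderOf_dvd_iff_pow_eq_one, horda']
        exact Dvd.dvd.mul_right (pow_dvd_pow p hcon) _
      have h1 : a' ^ p ^ v ∈ Subgroup.zpowers b := by
        have hz := zpowers_pow_mul_eq horda' v k' hk'd
        have : a' ^ p ^ v ∈ Subgroup.zpowers (a' ^ (p ^ v * k')) := by
          rw [hz]; exact Subgroup.mem_zpowers _
        rw [hk'] at this
        exact (Subgroup.zpowers_le.mpr hgB) this
      apply hnot (by omega)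
      have h2 : a' ^ p ^ (f - 1) = (a' ^ p ^ v) ^ p ^ (f - 1 - v) := by
        rw [← pow_mul, ← pow_add]; congr 2; omega
      rw [h2]
      exact Subgroup.pow_mem _ h1 _
    · rw [Nat.card_zpowers, Nat.card_zpowers, horda', hordb, h.card_eq, ← pow_add]
      congr 1
      omega

end Cfsg.Agent.S3884
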