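import Cfsg.Statements.S3886
import Mathlib
import Cfsg.Agent.Lib.Helper6_Metacyclic
import Cfsg.Agent.S3880

set_option autoImplicit false
open Cfsg
open Cfsg.Agent.Lib.Helper6_Metacyclic

namespace Cfsg.Agent.S3886

/-- Let p be an odd prime and G a finite metacyclic p-group (G has a cyclic normal subgroup with cyclic quotient). Then the largest value of |R| · |Z(R)| over subgroups R of G is |G : G'|², and the subgroups attaining it (the centrally large subgroups) are exactly the non-abelian subgroups together with the maximal abelian subgroups of G. -/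
theorem result {G : Type*} [Group G] [Finite G] {p : ℕ} [Fact p.Prime] (hp : p ≠ 2) (hG : IsPGroup p G) (hmc : Cfsg.IsMetacyclic G) : Cfsg.maxCentralProduct G = (commutator G).index ^ 2 ∧
    ∀ R : Subgroup G, Cfsg.IsCentrallyLarge R ↔ (¬ IsMulCommutative ↥R ∨ Maximal (fun K : Subgroup G => IsMulCommutative ↥K) R) := by
  have hpp := (Fact.out : p.Prime)
  have hp1 : Odd p := hpp.odd_of_ne_two hp
  obtain ⟨a, b, r, e, m, t, h⟩ := exists_MC hG hmc
  -- the value for each subgroup
  have hval : ∀ R : Subgroup G, ∃ i j : ℕ, i ≤ e ∧ j ≤ m ∧ (e - i) - (t + j) ≤ m - j ∧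
      Nat.card ↥R = p ^ ((e - i) + (m - j)) ∧
      Nat.card ↥R * Nat.card ↥(Subgroup.center ↥R) =
        p ^ ((e - i) + (m - j) + (((e - i) - ((e - i) - (t + j))) + ((m - j) - ((e - i) - (t + j))))) ∧
      (IsMulCommutative ↥R ↔ e - i ≤ t + j) := by
    intro R
    obtain ⟨i, j, l, hie, hjm, hi, h1, h2, hR⟩ := h.sub hp1 R
    refine ⟨i, j, hie, hjm, hR.n_le_m hp1, hR.card_eq, ?_, hR.isMulCommutative_iff⟩
    rw [hR.card_eq, hR.card_center hp1, ← pow_add]
  have hidx : (commutator G).index ^ 2 = p ^ (2 * (m + min t e)) := by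
    rw [h.index_commutator, ← pow_mul, mul_comm]
  have hle : ∀ R : Subgroup G, Nat.card ↥R * Nat.card ↥(Subgroup.center ↥R) ≤ (commutator G).index ^ 2 := by
    intro R
    obtain ⟨i, j, hie, hjm, hn, hc, hv, hab⟩ := hval R
    rw [hv, hidx]
    apply Nat.pow_le_pow_right hpp.pos
    omega
  have hmaxv : Cfsg.maxCentralProduct G = (commutator G).index ^ 2 := by
    unfold Cfsg.maxCentralProduct
    apply IsGreatest.csSup_eq
    constructor
    · refine ⟨⊤, ?_⟩
      obtain ⟨i, j, hie, hjm, hn, hc, hv, hab⟩ := hval ⊤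
      have hc2 : Nat.card ↥(⊤ : Subgroup G) = p ^ (e + m) := by
        rw [Subgroup.card_top, h.card_eq]
      rw [hc] at hc2
      have hij := Nat.pow_right_injective hpp.two_le hc2
      rw [hv, hidx]
      congr 1
      omega
    · rintro k ⟨R, rfl⟩
      exact hle R
  refine ⟨hmaxv, ?_⟩
  intro R
  unfold Cfsg.IsCentrallyLarge
  rw [hmaxv, (Cfsg.Agent.S3880.result hp hG hmc R).2]
  obtain ⟨i, j, hie, hjm, hn, hc, hv, hab⟩ := hval R
  rw [hv, hidx, hc, h.index_commutator, hab]
  constructor
  · intro heq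
    have h1 := Nat.pow_right_injective hpp.two_le heq
    by_cases hcase : e - i ≤ t + j
    · right
      congr 1
      omega
    · left; exact hcase
  · rintro (hcase | hcase)
    · congr 1
      omega
    · have h1 := Nat.pow_right_injective hpp.two_le hcase
      congr 1
      omega

end Cfsg.Agent.S3886
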