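import Cfsg.Statements.S3887
import Mathlib
import Cfsg.Agent.Lib.Helper6_Metacyclic

set_option autoImplicit false
open Cfsg
open Cfsg.Agent.Lib.Helper6_Metacyclic

namespace Cfsg.Agent.S3887

/-- Let p be an odd prime and G a finite metacyclic p-group (G has a cyclic normal subgroup with cyclic quotient). Then a subgroup R of G maximizes |R| · |C_G(R)| over all subgroups of G if and only if R contains the center of G. -/
theorem result {G : Type*} [Group G] [Finite G] {p : ℕ} [Fact p.Prime] (hp : p ≠ 2) (hG : IsPGroup p G) (hmc : Cfsg.IsMetacyclic G) (R : Subgroup G) : Cfsg.IsCentralizerLarge R ↔ Subgroup.center G ≤ R := by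
  have hpp := (Fact.out : p.Prime)
  have hp1 : Odd p := hpp.odd_of_ne_two hp
  obtain ⟨a, b, r, e, m, t, h⟩ := exists_MC hG hmc
  have hform := h.card_mul_card_centralizer hp1
  -- centralizer of `R ⊔ Z`
  have hcent : ∀ S : Subgroup G, Subgroup.centralizer ((S ⊔ Subgroup.center G : Subgroup G) : Set G) =
      Subgroup.centralizer (S : Set G) := by
    intro S
    apply le_antisymm
    · exact Subgroup.centralizer_le (SetLike.coe_subset_coe.mpr le_sup_left)
    · rw [Subgroup.le_centralizer_iff]
      apply sup_le
      · rw [← Subgroup.le_centralizer_iff]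
      · exact Subgroup.center_le_centralizer _
  have hle : ∀ S : Subgroup G, Nat.card ↥S * Nat.card ↥(Subgroup.centralizer (S : Set G)) ≤
      Nat.card G * Nat.card ↥(Subgroup.center G) := by
    intro S
    rw [← hform (S ⊔ Subgroup.center G) le_sup_right, hcent S]
    exact Nat.mul_le_mul_right _ (Subgroup.card_le_of_le le_sup_left)
  have hmax : Cfsg.maxCentralizerProduct G = Nat.card G * Nat.card ↥(Subgroup.center G) := by
    unfold Cfsg.maxCentralizerProduct
    apply IsGreatest.csSup_eq
    constructor
    · exact ⟨⊤, hform ⊤ le_top⟩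
    · rintro k ⟨S, rfl⟩
      exact hle S
  unfold Cfsg.IsCentralizerLarge
  rw [hmax]
  constructor
  · intro heq
    have h1 := hform (R ⊔ Subgroup.center G) le_sup_right
    rw [hcent R, ← heq] at h1
    have hpos : 0 < Nat.card ↥(Subgroup.centralizer (R : Set G)) := Nat.card_pos
    have h2 : Nat.card ↥(R ⊔ Subgroup.center G : Subgroup G) = Nat.card ↥R :=
      Nat.eq_of_mul_eq_mul_right hpos h1
    have h3 : R = R ⊔ Subgroup.center G := Subgroup.eq_of_le_of_card_ge le_sup_left h2.le
    rw [h3]
    exact le_sup_right
  · intro hZ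
    exact hform R hZ

end Cfsg.Agent.S3887
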