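import Cfsg.Statements.S3889
import Mathlib

set_option autoImplicit false
open Cfsg

namespace Cfsg.Agent.S3889

/-- A finite abelian group that is the union of a family of proper subgroups any two of which intersect trivially is elementary abelian: its exponent is a prime. -/
theorem result {G : Type*} [CommGroup G] [Finite G] (𝓑 : Set (Subgroup G)) (hprop : ∀ B ∈ 𝓑, B ≠ ⊤)
    (hcov : ∀ g : G, ∃ B ∈ 𝓑, g ∈ B) (hdisj : ∀ B ∈ 𝓑, ∀ C ∈ 𝓑, B ≠ C → B ⊓ C = ⊥) :
    (Monoid.exponent G).Prime := by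
  -- two components sharing a nonidentity element coincide
  have hsame : ∀ B ∈ 𝓑, ∀ C ∈ 𝓑, ∀ x : G, x ≠ 1 → x ∈ B → x ∈ C → B = C := by
    intro B hB C hC x hx1 hxB hxC
    by_contra hne
    have := hdisj B hB C hC hne
    have hx : x ∈ B ⊓ C := Subgroup.mem_inf.mpr ⟨hxB, hxC⟩
    rw [this] at hx
    exact hx1 (Subgroup.mem_bot.mp hx)
  have key : ∀ B ∈ 𝓑, ∀ x ∈ B, x ≠ 1 → ∀ y : G, y ∉ B → y ^ orderOf x = 1 := by
    intro B hB x hxB hx1 y hyB
    have hxy : x * y ∉ B := by
      intro h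
      apply hyB
      have := B.mul_mem (B.inv_mem hxB) h
      simpa using this
    obtain ⟨C, hC, hxyC⟩ := hcov (x * y)
    obtain ⟨D, hD, hyD⟩ := hcov y
    by_contra hne
    have h1 : y ^ orderOf x ∈ C := by
      have := C.pow_mem hxyC (orderOf x)
      rw [mul_pow, pow_orderOf_eq_one, one_mul] at this
      exact this
    have h2 : y ^ orderOf x ∈ D := D.pow_mem hyD _
    have hCD : C = D := hsame C hC D hD _ hne h1 h2
    have hyC : y ∈ C := hCD ▸ hyD
    have hxC : x ∈ C := by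
      have := C.mul_mem hxyC (C.inv_mem hyC)
      simpa using this
    have hBC : B = C := hsame B hB C hC x hx1 hxB hxC
    exact hxy (hBC ▸ hxyC)
  have ord_eq : ∀ B ∈ 𝓑, ∀ x ∈ B, x ≠ 1 → ∀ y : G, y ∉ B → orderOf x = orderOf y := by
    intro B hB x hxB hx1 y hyB
    have hy1 : y ≠ 1 := by
      intro h; apply hyB; rw [h]; exact B.one_mem
    obtain ⟨D, hD, hyD⟩ := hcov y
    have hxD : x ∉ D := by
      intro h
      have := hsame B hB D hD x hx1 hxB h
      exact hyB (this ▸ hyD)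
    apply Nat.dvd_antisymm
    · exact orderOf_dvd_of_pow_eq_one (key D hD y hyD hy1 x hxD)
    · exact orderOf_dvd_of_pow_eq_one (key B hB x hxB hx1 y hyB)
  have all_eq : ∀ x y : G, x ≠ 1 → y ≠ 1 → orderOf x = orderOf y := by
    intro x y hx1 hy1
    obtain ⟨B, hB, hxB⟩ := hcov x
    by_cases hyB : y ∈ B
    · have hBtop := hprop B hB
      obtain ⟨z, hz⟩ : ∃ z : G, z ∉ B := by
        by_contra h
        push Not at h
        exact hBtop (Subgroup.eq_top_iff' B |>.mpr h)
      rw [ord_eq B hB x hxB hx1 z hz, ord_eq B hB y hyB hy1 z hz]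
    · exact ord_eq B hB x hxB hx1 y hyB
  -- nontriviality
  obtain ⟨B₀, hB₀, _⟩ := hcov 1
  obtain ⟨z, hz⟩ : ∃ z : G, z ∉ B₀ := by
    by_contra h
    push Not at h
    exact hprop B₀ hB₀ (Subgroup.eq_top_iff' B₀ |>.mpr h)
  have hz1 : z ≠ 1 := by
    intro h; apply hz; rw [h]; exact B₀.one_mem
  have : Nontrivial G := ⟨⟨z, 1, hz1⟩⟩
  set m := orderOf z with hm
  have hm1 : m ≠ 1 := by
    intro h
    exact hz1 (orderOf_eq_one_iff.mp h)
  have hmpos : 0 < m := orderOf_pos z
  set q := m.minFac with hq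
  have hqp : q.Prime := Nat.minFac_prime hm1
  have hqm : q ∣ m := Nat.minFac_dvd m
  have hord : orderOf (z ^ (m / q)) = q := by
    rw [orderOf_pow' _ (by
      intro h0
      rcases Nat.div_eq_zero_iff.mp h0 with h | h
      · exact hqp.ne_zero h
      · exact absurd (Nat.le_of_dvd hmpos hqm) (not_le.mpr h)), ← hm,
      Nat.gcd_eq_right (Nat.div_dvd_of_dvd hqm)]
    exact Nat.div_div_self hqm hmpos.ne'
  have hne1 : z ^ (m / q) ≠ 1 := by
    intro h
    rw [h, orderOf_one] at hord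
    exact hqp.one_lt.ne' hord.symm
  have hqm' : q = m := by
    rw [← hord]; exact all_eq _ _ hne1 hz1
  have hmp : m.Prime := hqm' ▸ hqp
  have : Monoid.exponent G = m := by
    rw [Monoid.exponent_eq_prime_iff hmp]
    intro g hg
    exact all_eq g z hg hz1
  rw [this]; exact hmp

end Cfsg.Agent.S3889
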