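import Cfsg.Statements.S3903
import Mathlib
import Cfsg.Agent.Lib.Helper6_CentMax
import Cfsg.Agent.Lib.Helper6_CentMax2
import Cfsg.Agent.Lib.Helper6_PPO
import Cfsg.Agent.Lib.Helper6_PPO2
import Cfsg.Agent.Lib.Helper6_PPO3

set_option autoImplicit false
open Cfsg

namespace Cfsg.Agent.S3903

open Cfsg.Agent.Lib.Helper6_PPO

/-- Let N be a proper normal subgroup of the finite group G such that every element x of G outside N has prime power order and has centralizer C_G(x) a maximal subgroup of G. Then N is solvable. -/
theorem result {G : Type*} [Group G] [Finite G] (N : Subgroup G) [N.Normal] (hN : N ≠ ⊤)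
    (h : ∀ x : G, x ∉ N → IsPrimePow (orderOf x) ∧ IsCoatom (Subgroup.centralizer ({x} : Set G))) : Group.IsSolvable ↥N := by
  classical
  have hpp : ∀ x : G, x ∉ N → IsPrimePow (orderOf x) := fun x hx => (h x hx).1
  obtain ⟨x, hx⟩ : ∃ x : G, x ∉ N := by
    by_contra hno
    push Not at hno
    exact hN (eq_top_iff.mpr fun y _ => hno y)
  obtain ⟨p, k, hp, hk, hox⟩ := (isPrimePow_nat_iff _).mp (h x hx).1
  haveI : Fact p.Prime := ⟨hp⟩
  set M : Subgroup G := Subgroup.centralizer ({x} : Set G) with hM
  have hMco : IsCoatom M := (h x hx).2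
  have hMp : IsPGroup p ↥M := by
    intro y
    obtain ⟨j, hj⟩ := pElement_of_comm N hpp hx hp hk hox.symm y.2
    exact ⟨j, Subtype.ext (by simpa using hj)⟩
  obtain ⟨Q, hQ⟩ := hMp.exists_le_sylow
  rcases hMco.le_iff.mp hQ with htop | heq
  · -- `G` is a `p`-group
    have hGp : IsPGroup p G := by
      intro y
      have hy : y ∈ (Q : Subgroup G) := by rw [htop]; exact Subgroup.mem_top y
      obtain ⟨j, hj⟩ := Q.isPGroup' ⟨y, hy⟩
      refine ⟨j, ?_⟩
      have := congrArg (fun z : ↥(Q : Subgroup G) => (z : G)) hj
      simpa using this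
    haveI : Group.IsNilpotent G := hGp.isNilpotent
    infer_instance
  · have hQco : IsCoatom (Q : Subgroup G) := by rw [heq]; exact hMco
    by_cases hNQ : N ≤ (Q : Subgroup G)
    · -- `N` is a `p`-group
      have hNp : IsPGroup p ↥N := by
        intro y
        obtain ⟨j, hj⟩ := Q.isPGroup' ⟨(y : G), hNQ y.2⟩
        refine ⟨j, Subtype.ext ?_⟩
        have := congrArg (fun z : ↥(Q : Subgroup G) => (z : G)) hj
        simpa using this
      haveI : Group.IsNilpotent ↥N := hNp.isNilpotent
      infer_instance
    · have hsup : M ⊔ N = ⊤ := by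
        apply hMco.2
        apply lt_of_le_of_ne le_sup_left
        intro he
        apply hNQ
        rw [heq, he]
        exact le_sup_right
      have hout : ∀ w : G, w ∉ N → ∃ j : ℕ, w ^ (p ^ j) = 1 := by
        intro w hw
        have hw' : w ∈ M ⊔ N := by rw [hsup]; exact Subgroup.mem_top w
        obtain ⟨m, hm, n, hn, rfl⟩ := Subgroup.mem_sup_of_normal_right.mp hw'
        obtain ⟨j, hj⟩ := hMp ⟨m, hm⟩
        have hj' : m ^ (p ^ j) = 1 := by
          have := congrArg (fun z : ↥M => (z : G)) hj
          simpa using this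
        have hmemN : (m * n) ^ (p ^ j) ∈ N := by
          rw [← QuotientGroup.eq_one_iff, QuotientGroup.mk_pow, QuotientGroup.mk_mul,
            (QuotientGroup.eq_one_iff n).mpr hn, mul_one, ← QuotientGroup.mk_pow, hj',
            QuotientGroup.mk_one]
        obtain ⟨r, l, hr, hl, hrl⟩ := (isPrimePow_nat_iff _).mp (hpp _ hw)
        by_cases hrp : r = p
        · subst hrp
          exact ⟨l, by rw [hrl, pow_orderOf_eq_one]⟩
        · exfalso
          apply hw
          have hco : (p ^ j).Coprime (orderOf (m * n)) := by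
            rw [← hrl]
            exact Nat.Coprime.pow _ _ ((Nat.coprime_primes hp hr).mpr (Ne.symm hrp))
          obtain ⟨m', hm'⟩ := exists_pow_eq_self_of_coprime hco
          rw [← hm']
          exact N.pow_mem hmemN m'
      have hcent : ∀ y ∈ (Q : Subgroup G), y ∉ N →
          IsCoatom (Subgroup.centralizer ({y} : Set G)) := fun y _ hy => (h y hy).2
      have hab := abelian_of_sylow_cent N hN Q hNQ hQco hout hcent
      haveI : Group.IsSolvable G := solvable_of_abelian_sylow_coatom Q hQco hab
      infer_instance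

end Cfsg.Agent.S3903
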