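import Cfsg.Statements.S3908
import Mathlib
import Cfsg.Agent.S0016
import Cfsg.Agent.Lib.Helper7_Basic
import Cfsg.Agent.Lib.Helper1_Card

set_option autoImplicit false
open Cfsg

namespace Cfsg.Agent.S3908

/-- core: if `P` has an element of order `≥ p²` then `P` has a unique subgroup of order `p`. -/
theorem core {G : Type*} [Group G] [Finite G]
    (hB : ∀ A B : Subgroup G, IsMulCommutative ↥A → IsMulCommutative ↥B → Nat.card ↥A = Nat.card ↥B → ∃ g : G, B = A.map (MulAut.conj g).toMonoidHom)
    (p : ℕ) [hfact : Fact p.Prime] (P : Sylow p G) (hx : ∃ x ∈ (P : Subgroup G), x ^ p ≠ 1) :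
    ∀ H K : Subgroup ↥(P : Subgroup G), Nat.card H = p → Nat.card K = p → H = K := by
  classical
  have hp := hfact.out
  have hPp : IsPGroup p ↥(P : Subgroup G) := P.isPGroup'
  obtain ⟨x, hxP, hxp⟩ := hx
  -- an element of order p²
  obtain ⟨j, hj⟩ := (IsPGroup.iff_orderOf.mp hPp) ⟨x, hxP⟩
  rw [Subgroup.orderOf_mk] at hj
  have hj2 : 2 ≤ j := by
    by_contra hlt
    apply hxp
    have hj' : j = 0 ∨ j = 1 := by omega
    have hdvd : orderOf x ∣ p := by
      rcases hj' with rfl | rfl
      · rw [hj, pow_zero]; exact one_dvd p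
      · rw [hj, pow_one]
    exact orderOf_dvd_iff_pow_eq_one.mp hdvd
  set y : G := x ^ (p ^ (j - 2)) with hy
  have hyP : y ∈ (P : Subgroup G) := Subgroup.pow_mem _ hxP _
  have hoy : orderOf y = p ^ 2 := by
    rw [hy, orderOf_pow_of_dvd (pow_ne_zero _ hp.ne_zero) (by rw [hj]; exact pow_dvd_pow p (by omega)),
      hj]
    rw [Nat.pow_div (by omega) hp.pos]
    congr 1; omega
  set C : Subgroup G := Subgroup.zpowers y with hC
  have hCcomm : IsMulCommutative C := inferInstance
  have hCcard : Nat.card C = p ^ 2 := by rw [hC, Nat.card_zpowers, hoy]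
  -- a central element of order p
  have hnt : Nontrivial ↥(P : Subgroup G) := by
    refine ⟨⟨⟨x, hxP⟩, 1, ?_⟩⟩
    intro h
    apply hxp
    have : x = 1 := congrArg Subtype.val h
    rw [this, one_pow]
  have hcnt : Nontrivial (Subgroup.center ↥(P : Subgroup G)) := hPp.center_nontrivial
  have hcp : IsPGroup p (Subgroup.center ↥(P : Subgroup G)) := hPp.to_subgroup _
  have hpdvd : p ∣ Nat.card (Subgroup.center ↥(P : Subgroup G)) := by
    obtain ⟨n, hn0, hn⟩ := hcp.nontrivial_iff_card.mp hcnt
    rw [hn]; exact dvd_pow_self p (by omega)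
  obtain ⟨c₁, hc₁⟩ := exists_prime_orderOf_dvd_card' p hpdvd
  set c₀ : ↥(P : Subgroup G) := (c₁ : ↥(P : Subgroup G)) with hc₀
  have hc₀c : c₀ ∈ Subgroup.center ↥(P : Subgroup G) := c₁.2
  have hoc₀ : orderOf c₀ = p := by rw [hc₀, Subgroup.orderOf_coe, hc₁]
  set Z₀ : Subgroup ↥(P : Subgroup G) := Subgroup.zpowers c₀ with hZ₀
  have hZ₀card : Nat.card Z₀ = p := by rw [hZ₀, Nat.card_zpowers, hoc₀]
  have hZ₀n : Z₀.Normal := by
    have hle : Z₀ ≤ Subgroup.center ↥(P : Subgroup G) := by
      rw [hZ₀, Subgroup.zpowers_le]; exact hc₀c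
    refine ⟨fun n hn g => ?_⟩
    have := Subgroup.mem_center_iff.mp (hle hn) g
    have h1 : g * n * g⁻¹ = n := by rw [this]; group
    rw [h1]; exact hn
  -- every subgroup of order p equals Z₀
  have key : ∀ K : Subgroup ↥(P : Subgroup G), Nat.card K = p → K = Z₀ := by
    intro K hK
    by_contra hne
    have hinf : K ⊓ Z₀ = ⊥ := by
      by_contra hne'
      have h1 : Nat.card (K ⊓ Z₀ : Subgroup _) ∣ p := by
        have h0 := Subgroup.card_dvd_of_le (inf_le_left : K ⊓ Z₀ ≤ K)
        rwa [hK] at h0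
      have h2 : Nat.card (K ⊓ Z₀ : Subgroup _) ≠ 1 := by
        rw [Ne, Subgroup.card_eq_one]; exact hne'
      have h3 : Nat.card (K ⊓ Z₀ : Subgroup _) = p := ((Nat.dvd_prime hp).mp h1).resolve_left h2
      have h4 : K ⊓ Z₀ = K := Subgroup.eq_of_le_of_card_ge inf_le_left (by rw [h3, hK])
      have h5 : K ⊓ Z₀ = Z₀ := Subgroup.eq_of_le_of_card_ge inf_le_right (by rw [h3, hZ₀card])
      exact hne (h4.symm.trans h5)
    have hcardE : Nat.card (K ⊔ Z₀ : Subgroup _) = p ^ 2 := by
      have := Cfsg.Agent.Lib.Helper1_Card.card_sup_mul_card_inf_of_normal K Z₀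
      rw [hinf, Subgroup.card_bot, mul_one, hK, hZ₀card] at this
      rw [this, pow_two]
    -- commutativity of K ⊔ Z₀
    have hKcyc : IsCyclic K := by
      have : Fact (Nat.card K).Prime := ⟨by rw [hK]; exact hp⟩
      exact isCyclic_of_prime_card rfl
    have hKcomm : ∀ a ∈ K, ∀ b ∈ K, a * b = b * a := by
      intro a ha b hb
      have := (IsCyclic.isMulCommutative (α := K)).is_comm.comm ⟨a, ha⟩ ⟨b, hb⟩
      exact congrArg Subtype.val this
    have hEcomm : ∀ a ∈ K ⊔ Z₀, ∀ b ∈ K ⊔ Z₀, a * b = b * a := by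
      have hZc : ∀ a ∈ Z₀, ∀ b : ↥(P : Subgroup G), a * b = b * a := by
        intro a ha b
        have hle : Z₀ ≤ Subgroup.center ↥(P : Subgroup G) := by
          rw [hZ₀, Subgroup.zpowers_le]; exact hc₀c
        exact (Subgroup.mem_center_iff.mp (hle ha) b).symm
      have hle : K ⊔ Z₀ ≤ Subgroup.centralizer ((K ⊔ Z₀ : Subgroup _) : Set ↥(P : Subgroup G)) := by
        apply sup_le
        · intro a ha
          rw [Subgroup.mem_centralizer_iff]
          intro b hb
          have hb' : b ∈ ((K ⊔ Z₀ : Subgroup _) : Set ↥(P : Subgroup G)) := hb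
          rw [Subgroup.mul_normal] at hb'
          obtain ⟨u, hu, v, hv, rfl⟩ := hb'
          calc u * v * a = u * (v * a) := by group
            _ = u * (a * v) := by rw [hZc v hv a]
            _ = (u * a) * v := by group
            _ = (a * u) * v := by rw [hKcomm u hu a ha]
            _ = a * (u * v) := by group
        · intro a ha
          rw [Subgroup.mem_centralizer_iff]
          intro b _
          exact (hZc a ha b).symm
      intro a ha b hb
      exact (Subgroup.mem_centralizer_iff.mp (hle ha) b hb).symm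
    set E : Subgroup G := (K ⊔ Z₀ : Subgroup _).map (P : Subgroup G).subtype with hE
    have hEc : IsMulCommutative E := by
      refine ⟨⟨?_⟩⟩
      rintro ⟨_, a, ha, rfl⟩ ⟨_, b, hb, rfl⟩
      apply Subtype.ext
      show (P : Subgroup G).subtype a * (P : Subgroup G).subtype b
        = (P : Subgroup G).subtype b * (P : Subgroup G).subtype a
      rw [← map_mul, ← map_mul, hEcomm a ha b hb]
    have hEcard : Nat.card E = p ^ 2 := by
      rw [hE, Subgroup.card_map_of_injective (Subgroup.subtype_injective _), hcardE]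
    obtain ⟨g, hg⟩ := hB C E hCcomm hEc (hCcard.trans hEcard.symm)
    have hEcyc : IsCyclic E := by
      rw [hg, hC, MonoidHom.map_zpowers]
      infer_instance
    have h1 : K.map (P : Subgroup G).subtype ≤ E := Subgroup.map_mono le_sup_left
    have h2 : Z₀.map (P : Subgroup G).subtype ≤ E := Subgroup.map_mono le_sup_right
    have h3 := Cfsg.Agent.Lib.Helper7_Basic.cyclic_subgroup_unique E hEcyc _ _ h1 h2 (by
      rw [Subgroup.card_map_of_injective (Subgroup.subtype_injective _),
        Subgroup.card_map_of_injective (Subgroup.subtype_injective _), hK, hZ₀card])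
    exact hne (Subgroup.map_injective (Subgroup.subtype_injective _) h3)
  intro H K hH hK
  rw [key H hH, key K hK]

/-- Let G be a finite group in which any two abelian subgroups of the same order are conjugate. Then a Sylow 2-subgroup of G is cyclic, elementary abelian or generalized quaternion, and for an odd prime p a Sylow p-subgroup of G is cyclic or has exponent dividing p. -/
theorem result {G : Type*} [Group G] [Finite G] (hB : ∀ A B : Subgroup G, IsMulCommutative ↥A → IsMulCommutative ↥B → Nat.card ↥A = Nat.card ↥B → ∃ g : G, B = A.map (MulAut.conj g).toMonoidHom) :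
    (∀ P : Sylow 2 G, IsCyclic ↥(P : Subgroup G) ∨ Cfsg.IsElementaryAbelian 2 (P : Subgroup G) ∨ ∃ k : ℕ, Nonempty (↥(P : Subgroup G) ≃* QuaternionGroup (2 ^ k))) ∧
    ∀ (p : ℕ) [Fact p.Prime], p ≠ 2 → ∀ P : Sylow p G, IsCyclic ↥(P : Subgroup G) ∨ ∀ x ∈ (P : Subgroup G), x ^ p = 1 := by
  constructor
  · intro P
    have : Fact (Nat.Prime 2) := ⟨Nat.prime_two⟩
    by_cases hx : ∃ x ∈ (P : Subgroup G), x ^ 2 ≠ 1
    · have huniq := core hB 2 P hx
      rcases Cfsg.Agent.S0016.result 2 P.isPGroup' huniq with h | ⟨-, h⟩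
      · exact Or.inl h
      · exact Or.inr (Or.inr h)
    · push Not at hx
      right; left
      refine ⟨⟨⟨?_⟩⟩, hx⟩
      rintro ⟨a, ha⟩ ⟨b, hb⟩
      apply Subtype.ext
      show a * b = b * a
      have h1 : a * a = 1 := by rw [← pow_two]; exact hx a ha
      have h2 : b * b = 1 := by rw [← pow_two]; exact hx b hb
      have h3 : (a * b) * (a * b) = 1 := by
        rw [← pow_two]; exact hx _ (Subgroup.mul_mem _ ha hb)
      calc a * b = a * (a * b * (a * b)) * b := by rw [h3, mul_one]
        _ = (a * a) * (b * a) * (b * b) := by group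
        _ = b * a := by rw [h1, h2, one_mul, mul_one]
  · intro p _ hp2 P
    by_cases hx : ∃ x ∈ (P : Subgroup G), x ^ p ≠ 1
    · have huniq := core hB p P hx
      rcases Cfsg.Agent.S0016.result p P.isPGroup' huniq with h | ⟨h, -⟩
      · exact Or.inl h
      · exact absurd h hp2
    · push Not at hx
      exact Or.inr hx

end Cfsg.Agent.S3908
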