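import Cfsg.Statements.S3909
import Mathlib
import Cfsg.Agent.Lib.Helper7_PCore

set_option autoImplicit false
open Cfsg

namespace Cfsg.Agent.S3909

theorem mem_map_conj {G : Type*} [Group G] (K : Subgroup G) (g x : G) :
    x ∈ K.map (MulAut.conj g).toMonoidHom ↔ g⁻¹ * x * g ∈ K := by
  constructor
  · rintro ⟨k, hk, rfl⟩
    have : g⁻¹ * ((MulAut.conj g).toMonoidHom k) * g = k := by
      show g⁻¹ * (g * k * g⁻¹) * g = k
      group
    rw [this]; exact hk
  · intro h
    refine ⟨g⁻¹ * x * g, h, ?_⟩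
    show g * (g⁻¹ * x * g) * g⁻¹ = x
    group

/-- first part -/
theorem part1 {G : Type*} [Group G] [Finite G] (hB : ∀ A B : Subgroup G, IsMulCommutative ↥A → IsMulCommutative ↥B → Nat.card ↥A = Nat.card ↥B → ∃ g : G, B = A.map (MulAut.conj g).toMonoidHom) (M : Subgroup G) [M.Normal] :
    ∀ a : G, (∃ m ∈ M, orderOf m = orderOf a) → a ∈ M := by
  rintro a ⟨m, hm, hma⟩
  obtain ⟨g, hg⟩ := hB (Subgroup.zpowers m) (Subgroup.zpowers a) inferInstance inferInstance
    (by rw [Nat.card_zpowers, Nat.card_zpowers, hma])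
  have ha : a ∈ Subgroup.zpowers a := Subgroup.mem_zpowers a
  rw [hg, mem_map_conj] at ha
  have h1 : g⁻¹ * a * g ∈ M := (Subgroup.zpowers_le.mpr hm) ha
  have h2 := Subgroup.Normal.conj_mem (inferInstance : M.Normal) _ h1 g
  have e : g * (g⁻¹ * a * g) * g⁻¹ = a := by group
  rwa [e] at h2

/-- Let G be a finite group in which any two abelian subgroups of the same order are conjugate. Let M be a normal subgroup of G. If M contains an element of the same order as a ∈ G, then a ∈ M; and if M is elementary abelian of order p^t with p prime and t ≥ 2, then M is the unique Sylow p-subgroup of G. -/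
theorem result {G : Type*} [Group G] [Finite G] (hB : ∀ A B : Subgroup G, IsMulCommutative ↥A → IsMulCommutative ↥B → Nat.card ↥A = Nat.card ↥B → ∃ g : G, B = A.map (MulAut.conj g).toMonoidHom) (M : Subgroup G) [M.Normal] :
    (∀ a : G, (∃ m ∈ M, orderOf m = orderOf a) → a ∈ M) ∧
    ∀ (p t : ℕ) [Fact p.Prime], 2 ≤ t → Nat.card ↥M = p ^ t → Cfsg.IsElementaryAbelian p M → ∀ P : Sylow p G, (P : Subgroup G) = M := by
  refine ⟨part1 hB M, ?_⟩
  intro p t _ ht hcard hel P
  have hp : p.Prime := Fact.out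
  have hMp : IsPGroup p M := IsPGroup.of_card hcard
  have hMP : M ≤ (P : Subgroup G) :=
    Cfsg.Agent.Lib.Helper7_PCore.normal_pgroup_le_sylow inferInstance hMp P
  apply le_antisymm _ hMP
  intro x hx
  by_contra hxM
  obtain ⟨k, hk⟩ := (IsPGroup.iff_orderOf.mp P.isPGroup') ⟨x, hx⟩
  rw [Subgroup.orderOf_mk] at hk
  -- M has an element of order p
  have hpM : p ∣ Nat.card M := by rw [hcard]; exact dvd_pow_self p (by omega)
  obtain ⟨m, hm⟩ := exists_prime_orderOf_dvd_card' p hpM
  have hm' : orderOf (m : G) = p := by rw [Subgroup.orderOf_coe]; exact hm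
  -- a subgroup of M of order p^2
  have hp2M : p ^ 2 ∣ Nat.card M := by rw [hcard]; exact pow_dvd_pow p ht
  obtain ⟨K, hK⟩ := Sylow.exists_subgroup_card_pow_prime p hp2M
  have hKcard : Nat.card (K.map M.subtype) = p ^ 2 := by
    rw [Subgroup.card_map_of_injective M.subtype_injective, hK]
  have hKM : K.map M.subtype ≤ M := Subgroup.map_subtype_le K
  have hKcomm : IsMulCommutative (K.map M.subtype) := by
    refine ⟨⟨fun a b => ?_⟩⟩
    have := hel.1.is_comm.comm ⟨(a : G), hKM a.2⟩ ⟨(b : G), hKM b.2⟩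
    apply Subtype.ext
    have h2 : ((⟨(a : G), hKM a.2⟩ : M) : G) * ((⟨(b : G), hKM b.2⟩ : M) : G) =
        ((⟨(b : G), hKM b.2⟩ : M) : G) * ((⟨(a : G), hKM a.2⟩ : M) : G) :=
      congrArg Subtype.val this
    exact h2
  rcases k with _ | _ | k
  · rw [pow_zero, orderOf_eq_one_iff] at hk
    exact hxM (hk ▸ M.one_mem)
  · rw [zero_add, pow_one] at hk
    exact hxM (part1 hB M x ⟨m, m.2, hm'.trans hk.symm⟩)
  · set y := x ^ (p ^ k) with hy
    have hyord : orderOf y = p ^ 2 := by
      rw [hy, orderOf_pow' x (pow_ne_zero _ hp.ne_zero), hk,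
        Nat.gcd_eq_right (pow_dvd_pow p (by omega))]
      have : p ^ (k + 1 + 1) = p ^ 2 * p ^ k := by rw [← pow_add]; congr 1; omega
      rw [this, Nat.mul_div_cancel _ (pow_pos hp.pos k)]
    obtain ⟨g, hg⟩ := hB (K.map M.subtype) (Subgroup.zpowers y) hKcomm inferInstance
      (by rw [hKcard, Nat.card_zpowers, hyord])
    have hyz : y ∈ Subgroup.zpowers y := Subgroup.mem_zpowers y
    rw [hg, mem_map_conj] at hyz
    have h1 : (g⁻¹ * y * g) ^ p = 1 := hel.2 _ (hKM hyz)
    have h2 : y ^ p = 1 := by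
      have : (g⁻¹ * y * g) ^ p = g⁻¹ * y ^ p * g := by
        have := conj_pow (a := g⁻¹) (b := y) (i := p)
        rw [inv_inv] at this
        exact this
      rw [this] at h1
      have : y ^ p = g * (g⁻¹ * y ^ p * g) * g⁻¹ := by group
      rw [this, h1]; group
    have h3 := orderOf_dvd_of_pow_eq_one h2
    rw [hyord] at h3
    have h4 : p ^ 2 ≤ p := Nat.le_of_dvd hp.pos h3
    have h5 : p < p ^ 2 := by
      calc p = p ^ 1 := (pow_one p).symm
        _ < p ^ 2 := Nat.pow_lt_pow_right hp.one_lt (by omega)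
    omega

end Cfsg.Agent.S3909
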