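import Cfsg.Statements.S3951
import Mathlib
import Cfsg.Agent.Lib.Helper6_Stem

set_option autoImplicit false
open Cfsg

namespace Cfsg.Agent.S3951

open Cfsg.Agent.Lib.Helper6_Stem
open scoped commutatorElement

/-- The Heisenberg-type group: triples `(a, b, k)` with `a ∈ ZMod m`, `b, k ∈ ZMod n`. -/
structure Heis (m n : ℕ) where
  a : ZMod m
  b : ZMod n
  k : ZMod n

namespace Heis

variable {m n : ℕ}

@[ext] theorem ext' {x y : Heis m n} (h1 : x.a = y.a) (h2 : x.b = y.b) (h3 : x.k = y.k) : x = y := by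
  cases x; cases y; simp_all

variable (φ : ZMod m →+* ZMod n)

/-- multiplication twisted by the ring hom φ -/
def mulφ (x y : Heis m n) : Heis m n := ⟨x.a + y.a, x.b + y.b, x.k + y.k + φ x.a * y.b⟩

def invφ (x : Heis m n) : Heis m n := ⟨-x.a, -x.b, -x.k + φ x.a * x.b⟩

/-- the group structure -/
@[reducible] def groupφ : Group (Heis m n) where
  mul := mulφ φ
  one := ⟨0, 0, 0⟩
  inv := invφ φ
  mul_assoc x y z := by
    apply ext'
    · show x.a + y.a + z.a = x.a + (y.a + z.a); ring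
    · show x.b + y.b + z.b = x.b + (y.b + z.b); ring
    · show x.k + y.k + φ x.a * y.b + z.k + φ (x.a + y.a) * z.b
        = x.k + (y.k + z.k + φ y.a * z.b) + φ x.a * (y.b + z.b)
      rw [map_add]; ring
  one_mul x := by
    apply ext'
    · show 0 + x.a = x.a; ring
    · show 0 + x.b = x.b; ring
    · show 0 + x.k + φ 0 * x.b = x.k; rw [map_zero]; ring
  mul_one x := by
    apply ext'
    · show x.a + 0 = x.a; ring
    · show x.b + 0 = x.b; ring
    · show x.k + 0 + φ x.a * 0 = x.k; ring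
  inv_mul_cancel x := by
    apply ext'
    · show -x.a + x.a = 0; ring
    · show -x.b + x.b = 0; ring
    · show -x.k + φ x.a * x.b + x.k + φ (-x.a) * x.b = 0
      rw [map_neg]; ring

/-- the reduction hom -/
noncomputable def red (m n : ℕ) [h : Fact (n ∣ m)] : ZMod m →+* ZMod n := ZMod.castHom h.out (ZMod n)

noncomputable instance instGroupHeis [Fact (n ∣ m)] : Group (Heis m n) := groupφ (red m n)

theorem mul_def [Fact (n ∣ m)] (x y : Heis m n) :
    x * y = ⟨x.a + y.a, x.b + y.b, x.k + y.k + red m n x.a * y.b⟩ := rfl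

theorem one_def [Fact (n ∣ m)] : (1 : Heis m n) = ⟨0, 0, 0⟩ := rfl

theorem inv_def [Fact (n ∣ m)] (x : Heis m n) :
    x⁻¹ = ⟨-x.a, -x.b, -x.k + red m n x.a * x.b⟩ := rfl

/-- as a set, `Heis m n` is a triple product -/
def equivProd (m n : ℕ) : Heis m n ≃ ZMod m × ZMod n × ZMod n where
  toFun x := (x.a, x.b, x.k)
  invFun p := ⟨p.1, p.2.1, p.2.2⟩
  left_inv x := by cases x; rfl
  right_inv p := by rfl

theorem finite (m n : ℕ) [NeZero m] [NeZero n] : Finite (Heis m n) :=
  Finite.of_equiv _ (equivProd m n).symm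

/-- the projection to `ZMod m × ZMod n` -/
noncomputable def proj (m n : ℕ) [Fact (n ∣ m)] : Heis m n →* Multiplicative (ZMod m × ZMod n) where
  toFun x := Multiplicative.ofAdd (x.a, x.b)
  map_one' := rfl
  map_mul' x y := rfl

theorem proj_surjective (m n : ℕ) [Fact (n ∣ m)] : Function.Surjective (proj m n) := by
  intro y
  exact ⟨⟨(Multiplicative.toAdd y).1, (Multiplicative.toAdd y).2, 0⟩, rfl⟩

theorem mem_ker_iff (m n : ℕ) [Fact (n ∣ m)] (x : Heis m n) :
    x ∈ (proj m n).ker ↔ x.a = 0 ∧ x.b = 0 := by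
  rw [MonoidHom.mem_ker]
  constructor
  · intro h
    have h' : (x.a, x.b) = (0, 0) := Multiplicative.ofAdd.injective h
    exact ⟨congrArg Prod.fst h', congrArg Prod.snd h'⟩
  · rintro ⟨h1, h2⟩
    show Multiplicative.ofAdd (x.a, x.b) = Multiplicative.ofAdd (0, 0)
    rw [h1, h2]

theorem ker_le_center (m n : ℕ) [Fact (n ∣ m)] : (proj m n).ker ≤ Subgroup.center (Heis m n) := by
  intro x hx
  obtain ⟨h1, h2⟩ := (mem_ker_iff m n x).mp hx
  rw [Subgroup.mem_center_iff]
  intro y
  rw [mul_def, mul_def, h1, h2, map_zero]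
  apply ext'
  · show y.a + 0 = 0 + y.a; ring
  · show y.b + 0 = 0 + y.b; ring
  · show y.k + x.k + red m n y.a * 0 = x.k + y.k + 0 * y.b; ring

theorem comm_formula (m n : ℕ) [Fact (n ∣ m)] (k : ZMod n) :
    ⁅(⟨1, 0, 0⟩ : Heis m n), (⟨0, k, 0⟩ : Heis m n)⁆ = ⟨0, 0, k⟩ := by
  rw [commutatorElement_def, inv_def, inv_def, mul_def, mul_def, mul_def]
  apply ext'
  · show (1 : ZMod m) + 0 + -1 + -0 = 0; ring
  · show (0 : ZMod n) + k + -0 + -k = 0; ring
  · simp only [map_one, map_zero, map_add, map_neg]; ring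

theorem ker_le_commutator (m n : ℕ) [Fact (n ∣ m)] : (proj m n).ker ≤ commutator (Heis m n) := by
  intro x hx
  obtain ⟨h1, h2⟩ := (mem_ker_iff m n x).mp hx
  have : x = ⁅(⟨1, 0, 0⟩ : Heis m n), (⟨0, x.k, 0⟩ : Heis m n)⁆ := by
    rw [comm_formula]
    apply ext' <;> simp [h1, h2]
  rw [this]
  exact Subgroup.commutator_mem_commutator (Subgroup.mem_top _) (Subgroup.mem_top _)

/-- kernel is cyclic of order n -/
noncomputable def kerEquiv (m n : ℕ) [Fact (n ∣ m)] : (proj m n).ker ≃* Multiplicative (ZMod n) where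
  toFun x := Multiplicative.ofAdd x.1.k
  invFun k := ⟨⟨0, 0, Multiplicative.toAdd k⟩, (mem_ker_iff m n _).mpr ⟨rfl, rfl⟩⟩
  left_inv x := by
    obtain ⟨h1, h2⟩ := (mem_ker_iff m n x.1).mp x.2
    apply Subtype.ext
    apply ext'
    · exact h1.symm
    · exact h2.symm
    · rfl
  right_inv k := rfl
  map_mul' x y := by
    obtain ⟨h1, h2⟩ := (mem_ker_iff m n x.1).mp x.2
    show Multiplicative.ofAdd (x.1 * y.1).k = Multiplicative.ofAdd x.1.k * Multiplicative.ofAdd y.1.k
    rw [mul_def, ← ofAdd_add]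
    congr 1
    show x.1.k + y.1.k + red m n x.1.a * y.1.b = x.1.k + y.1.k
    rw [h1, map_zero]; ring

end Heis

/-- upper bound: kernel of any stem extension is a quotient of `ZMod n`. -/
theorem upper (m n : ℕ) [NeZero m] [NeZero n] {Γ : Type*} [Group Γ]
    (σ : Γ →* Multiplicative (ZMod m × ZMod n)) (hσ : Cfsg.IsStemExtension σ) :
    ∃ π : Multiplicative (ZMod n) →* σ.ker, Function.Surjective π := by
  obtain ⟨hsurj, hcent, hcomm⟩ := hσ
  set g₁ : Multiplicative (ZMod m × ZMod n) := Multiplicative.ofAdd (1, 0) with hg₁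
  set g₂ : Multiplicative (ZMod m × ZMod n) := Multiplicative.ofAdd (0, 1) with hg₂
  obtain ⟨α, hα⟩ := hsurj g₁
  obtain ⟨β, hβ⟩ := hsurj g₂
  have hG : Subgroup.closure {g₁, g₂} = ⊤ := by
    rw [eq_top_iff]
    intro x _
    have h1 : g₁ ∈ Subgroup.closure {g₁, g₂} := Subgroup.subset_closure (by simp)
    have h2 : g₂ ∈ Subgroup.closure {g₁, g₂} := Subgroup.subset_closure (by simp)
    have : x = g₁ ^ (ZMod.val (Multiplicative.toAdd x).1) * g₂ ^ (ZMod.val (Multiplicative.toAdd x).2) := by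
      rw [hg₁, hg₂, ← ofAdd_nsmul, ← ofAdd_nsmul, ← ofAdd_add]
      apply Multiplicative.toAdd.injective
      simp only [toAdd_ofAdd]
      ext <;> simp
    rw [this]
    exact Subgroup.mul_mem _ (Subgroup.pow_mem _ h1 _) (Subgroup.pow_mem _ h2 _)
  have hgen : Subgroup.closure {α, β} ⊔ σ.ker = ⊤ := by
    rw [← Subgroup.comap_map_eq, MonoidHom.map_closure, Set.image_pair, hα, hβ, hG, Subgroup.comap_top]
  set c := α * β * α⁻¹ * β⁻¹ with hcdef
  have hck : c ∈ σ.ker := by
    rw [MonoidHom.mem_ker, hcdef, map_mul, map_mul, map_mul, map_inv, map_inv, hα, hβ]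
    rw [mul_comm g₁ g₂]; group
  have hcc : ∀ g : Γ, g * c = c * g := Subgroup.mem_center_iff.mp (hcent hck)
  -- zpowers c is normal since c is central
  have hnorm : (Subgroup.zpowers c).Normal := by
    constructor
    intro x hx g
    obtain ⟨j, rfl⟩ := Subgroup.mem_zpowers_iff.mp hx
    have : g * c ^ j * g⁻¹ = c ^ j := by
      have := (Commute.zpow_right (hcc g) j).eq
      rw [this]; group
    rw [this]; exact Subgroup.zpow_mem _ (Subgroup.mem_zpowers c) j
  have hle : commutator Γ ≤ Subgroup.zpowers c := by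
    refine commutator_le_of_gen (Subgroup.zpowers c) ({α, β} ∪ (σ.ker : Set Γ)) ?_ ?_
    · rw [Subgroup.closure_union, Subgroup.closure_eq]; exact hgen
    · have hcm : c ∈ Subgroup.zpowers c := Subgroup.mem_zpowers c
      have hKc : ∀ x ∈ σ.ker, ∀ y : Γ, ⁅x, y⁆ = 1 ∧ ⁅y, x⁆ = 1 := by
        intro x hx y
        have hxc : ∀ g : Γ, g * x = x * g := Subgroup.mem_center_iff.mp (hcent hx)
        constructor
        · rw [commutatorElement_def, ← hxc y]; group
        · rw [commutatorElement_def, hxc y]; group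
      rintro x (hx | hx) y (hy | hy)
      · rcases hx with rfl | rfl <;> rcases hy with rfl | rfl
        · rw [commutatorElement_self]; exact one_mem _
        · exact hcm
        · have : ⁅x, y⁆ = c⁻¹ := by rw [hcdef, commutatorElement_def]; group
          rw [this]; exact inv_mem hcm
        · rw [commutatorElement_self]; exact one_mem _
      · rw [(hKc y hy x).2]; exact one_mem _
      · rw [(hKc x hx y).1]; exact one_mem _
      · rw [(hKc x hx y).1]; exact one_mem _
  -- c ^ n = 1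
  have hcn : c ^ n = 1 := by
    have hβn : β ^ n ∈ σ.ker := by
      rw [MonoidHom.mem_ker, map_pow, hβ, hg₂, ← ofAdd_nsmul]
      show Multiplicative.ofAdd (n • ((0 : ZMod m), (1 : ZMod n))) = Multiplicative.ofAdd 0
      congr 1
      ext <;> simp
    have hβc : ∀ g : Γ, g * β ^ n = β ^ n * g := Subgroup.mem_center_iff.mp (hcent hβn)
    have h1 : α * β * α⁻¹ = c * β := by rw [hcdef]; group
    have h2 : (α * β * α⁻¹) ^ n = α * β ^ n * α⁻¹ := by rw [← conj_pow]
    have h3 : (c * β) ^ n = c ^ n * β ^ n := (show Commute c β from (hcc β).symm).mul_pow n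
    have h4 : α * β ^ n * α⁻¹ = β ^ n := by rw [hβc α]; group
    have h5 : c ^ n * β ^ n = β ^ n := by rw [← h3, ← h1, h2, h4]
    exact mul_eq_right.mp h5 |> fun h => h
  have hall : ∀ k : σ.ker, k ∈ Subgroup.zpowers (⟨c, hck⟩ : σ.ker) := by
    rintro ⟨k, hk⟩
    obtain ⟨j, hj⟩ := Subgroup.mem_zpowers_iff.mp (hle (hcomm hk))
    rw [Subgroup.mem_zpowers_iff]
    refine ⟨j, Subtype.ext ?_⟩
    show ((⟨c, hck⟩ : σ.ker) ^ j : σ.ker).1 = k
    rw [Subgroup.coe_zpow]; exact hj
  refine exists_surjective_of_zpowers n ⟨c, hck⟩ ?_ hall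
  apply Subtype.ext
  show ((⟨c, hck⟩ : σ.ker) ^ n : σ.ker).1 = 1
  rw [Subgroup.coe_pow]; exact hcn

theorem result (m n : ℕ) [NeZero m] [NeZero n] (hnm : n ∣ m) : Cfsg.HasCyclicSchurMultiplier (Multiplicative (ZMod m × ZMod n)) n := by
  haveI : Fact (n ∣ m) := ⟨hnm⟩
  refine ⟨⟨Heis m n, inferInstance, Heis.finite m n, Heis.proj m n,
    ⟨Heis.proj_surjective m n, Heis.ker_le_center m n, Heis.ker_le_commutator m n⟩,
    ⟨Heis.kerEquiv m n⟩⟩, ?_⟩
  intro Γ _ _ σ hσ
  exact upper m n σ hσ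

end Cfsg.Agent.S3951
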