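import Cfsg.Statements.S3950
import Mathlib
import Cfsg.Agent.Lib.Helper6_Stem
import Cfsg.Agent.Lib.Helper6_Pullback
import Cfsg.Agent.S3951

set_option autoImplicit false
open Cfsg

namespace Cfsg.Agent.S3950

open Cfsg.Agent.Lib.Helper6_Stem Cfsg.Agent.Lib.Helper6_Pullback
open scoped Function

/-- A non-cyclic finite abelian group maps onto `ZMod p × ZMod p` for some prime `p`. -/
theorem exists_surjective_of_not_cyclic (G : Type*) [CommGroup G] [Finite G] (h : ¬ IsCyclic G) :
    ∃ (p : ℕ) (_ : p.Prime) (f : G →* Multiplicative (ZMod p × ZMod p)), Function.Surjective f := by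
  classical
  obtain ⟨ι, _, n, hn, ⟨e⟩⟩ := CommGroup.equiv_prod_multiplicative_zmod_of_finite G
  by_cases hc : Pairwise (Nat.Coprime on n)
  · exfalso
    apply h
    have e2 : ZMod (∏ i, n i) ≃+* ∀ i, ZMod (n i) := ZMod.prodEquivPi n hc
    have e3 : Multiplicative (ZMod (∏ i, n i)) ≃* G :=
      (AddEquiv.toMultiplicative e2.toAddEquiv).trans
        ((MulEquiv.piMultiplicative fun i => ZMod (n i)).trans e.symm)
    exact isCyclic_of_surjective e3.toMonoidHom e3.surjective
  · rw [Pairwise] at hc
    push Not at hc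
    obtain ⟨i, j, hij, hnc⟩ := hc
    obtain ⟨p, hp, hpi, hpj⟩ := Nat.Prime.not_coprime_iff_dvd.mp hnc
    let fi : G →* Multiplicative (ZMod p) :=
      ((ZMod.castHom hpi (ZMod p)).toAddMonoidHom.toMultiplicative).comp
        ((Pi.evalMonoidHom (fun i => Multiplicative (ZMod (n i))) i).comp e.toMonoidHom)
    let fj : G →* Multiplicative (ZMod p) :=
      ((ZMod.castHom hpj (ZMod p)).toAddMonoidHom.toMultiplicative).comp
        ((Pi.evalMonoidHom (fun i => Multiplicative (ZMod (n i))) j).comp e.toMonoidHom)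
    refine ⟨p, hp, (MulEquiv.prodMultiplicative (ZMod p) (ZMod p)).symm.toMonoidHom.comp
      (fi.prod fj), ?_⟩
    have hsurj : Function.Surjective (fi.prod fj) := by
      rintro ⟨a, b⟩
      obtain ⟨a', ha'⟩ := ZMod.castHom_surjective hpi (Multiplicative.toAdd a)
      obtain ⟨b', hb'⟩ := ZMod.castHom_surjective hpj (Multiplicative.toAdd b)
      let x : ∀ k, Multiplicative (ZMod (n k)) :=
        Function.update (Function.update (fun _ => 1) i (Multiplicative.ofAdd a'))
          j (Multiplicative.ofAdd b')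
      refine ⟨e.symm x, ?_⟩
      have hxi : x i = Multiplicative.ofAdd a' := by
        simp only [x]
        rw [Function.update_of_ne hij, Function.update_self]
      have hxj : x j = Multiplicative.ofAdd b' := by
        simp only [x]
        rw [Function.update_self]
      apply Prod.ext
      · show Multiplicative.ofAdd ((ZMod.castHom hpi (ZMod p))
          (Multiplicative.toAdd ((e (e.symm x)) i))) = a
        rw [MulEquiv.apply_symm_apply, hxi, toAdd_ofAdd, ha', ofAdd_toAdd]
      · show Multiplicative.ofAdd ((ZMod.castHom hpj (ZMod p))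
          (Multiplicative.toAdd ((e (e.symm x)) j))) = b
        rw [MulEquiv.apply_symm_apply, hxj, toAdd_ofAdd, hb', ofAdd_toAdd]
    exact (MulEquiv.prodMultiplicative (ZMod p) (ZMod p)).symm.surjective.comp hsurj

/-- A finite abelian group has trivial Schur multiplier if and only if it is cyclic. -/
theorem result {G : Type*} [CommGroup G] [Finite G] : Cfsg.HasCyclicSchurMultiplier G 1 ↔ IsCyclic G := by
  constructor
  · intro hG
    by_contra hnc
    obtain ⟨p, hp, f, hf⟩ := exists_surjective_of_not_cyclic G hnc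
    have : Fact (p ∣ p) := ⟨dvd_rfl⟩
    have : NeZero p := ⟨hp.ne_zero⟩
    have : Fact p.Prime := ⟨hp⟩
    have hτ : Cfsg.IsStemExtension (S3951.Heis.proj p p) :=
      ⟨S3951.Heis.proj_surjective p p, S3951.Heis.ker_le_center p p,
        S3951.Heis.ker_le_commutator p p⟩
    obtain ⟨hstem, hk⟩ := pullback_stem f hf (S3951.Heis.proj p p) hτ
    have hfin : Finite (S3951.Heis p p) := S3951.Heis.finite p p
    obtain ⟨π, hπ⟩ := hG.2 (pb f (S3951.Heis.proj p p)) (pbFst f (S3951.Heis.proj p p)) hstem
    have hk1 : (⟨0, 0, 1⟩ : S3951.Heis p p) ∈ (S3951.Heis.proj p p).ker :=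
      (S3951.Heis.mem_ker_iff p p _).mpr ⟨rfl, rfl⟩
    obtain ⟨x, hx, hxe⟩ := hk _ hk1
    obtain ⟨y, hy⟩ := hπ ⟨x, hx⟩
    have hy1 : y = 1 := Subsingleton.elim _ _
    rw [hy1, map_one] at hy
    have hx1 : x = 1 := by
      have := congrArg Subtype.val hy
      exact this.symm
    have : (x : G × S3951.Heis p p).2 = 1 := by rw [hx1]; rfl
    rw [hxe] at this
    have h3 : (1 : ZMod p) = 0 := congrArg S3951.Heis.k this
    exact one_ne_zero h3
  · intro hc
    refine ⟨⟨G, inferInstance, inferInstance, MonoidHom.id G, (id_stem G).1, (id_stem G).2⟩, ?_⟩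
    intro Γ _ _ σ hσ
    apply exists_surjective_of_ker_trivial
    intro k hk
    obtain ⟨hsurj, hcent, hcomm⟩ := hσ
    have hab : ∀ a b : Γ, a * b = b * a := by
      have : IsCyclic G := hc
      have hm := MonoidHom.isMulCommutative_of_isCyclic_of_ker_le_center σ hcent
      exact fun a b => hm.is_comm.comm a b
    have := hcomm hk
    rw [commutator_def] at this
    have hbot : ⁅(⊤ : Subgroup Γ), (⊤ : Subgroup Γ)⁆ = ⊥ := by
      rw [Subgroup.commutator_eq_bot_iff_le_centralizer]
      intro a _
      rw [Subgroup.mem_centralizer_iff]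
      intro b _
      exact hab b a
    rw [hbot, Subgroup.mem_bot] at this
    exact this

end Cfsg.Agent.S3950
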