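import Cfsg.Statements.S3917
import Cfsg.Agent.S3950
import Mathlib

set_option autoImplicit false
open Cfsg

namespace Cfsg.Agent.S3917

/-- a cyclic group killed by `p` has at most `p` elements -/
theorem card_le_of_cyclic {H : Type*} [Group H] [Finite H] (p : ℕ) (hp : 0 < p) (hc : IsCyclic H)
    (hpow : ∀ h : H, h ^ p = 1) : Nat.card H ≤ p := by
  obtain ⟨g, hg⟩ := hc.exists_generator
  have h1 : orderOf g = Nat.card H := orderOf_eq_card_of_forall_mem_zpowers hg
  rw [← h1]
  exact Nat.le_of_dvd hp (orderOf_dvd_of_pow_eq_one (hpow g))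

/-- Say that a group has self-centralizing non-cyclic subgroups when every non-cyclic subgroup H satisfies C_G(H) ≤ H. A finite abelian group with self-centralizing non-cyclic subgroups is cyclic or elementary abelian of order p² for a prime p. -/
theorem result {G : Type*} [CommGroup G] [Finite G] (hX : (∀ H : Subgroup G, ¬ IsCyclic ↥H → Subgroup.centralizer (H : Set G) ≤ H)) :
    IsCyclic G ∨ ∃ p : ℕ, p.Prime ∧ Nat.card G = p ^ 2 ∧ Monoid.exponent G = p := by
  by_cases hcyc : IsCyclic G
  · exact Or.inl hcyc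
  right
  -- every noncyclic subgroup is everything
  have hX' : ∀ H : Subgroup G, ¬ IsCyclic ↥H → H = ⊤ := by
    intro H hH
    have := hX H hH
    rw [Subgroup.centralizer_eq_top_iff_subset.mpr (by
      intro x _
      rw [SetLike.mem_coe, Subgroup.mem_center_iff]
      intro g; exact mul_comm g x)] at this
    exact top_le_iff.mp this
  obtain ⟨p, hp, f, hf⟩ := Cfsg.Agent.S3950.exists_surjective_of_not_cyclic G hcyc
  have : Fact p.Prime := ⟨hp⟩
  refine ⟨p, hp, ?_⟩
  let φ : G →* G := powMonoidHom p
  -- range φ ≤ ker f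
  have hR : φ.range ≤ f.ker := by
    rintro _ ⟨g, rfl⟩
    rw [MonoidHom.mem_ker]
    show f (g ^ p) = 1
    rw [map_pow]
    apply Multiplicative.toAdd.injective
    rw [toAdd_pow, toAdd_one]
    ext <;> simp
  have hcardV : Nat.card (Multiplicative (ZMod p × ZMod p)) = p ^ 2 := by
    rw [Nat.card_eq_fintype_card, Fintype.card_multiplicative, Fintype.card_prod, ZMod.card, pow_two]
  have h1 : Nat.card f.ker * p ^ 2 = Nat.card G := by
    rw [← hcardV, ← Nat.card_congr (QuotientGroup.quotientKerEquivOfSurjective f hf).toEquiv,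
      ← Subgroup.index_eq_card]
    exact Subgroup.card_mul_index _
  have h2 : Nat.card φ.ker * Nat.card φ.range = Nat.card G := by
    rw [← Nat.card_congr (QuotientGroup.quotientKerEquivRange φ).toEquiv, ← Subgroup.index_eq_card]
    exact Subgroup.card_mul_index _
  have h3 : Nat.card φ.range ≤ Nat.card f.ker := Nat.le_of_dvd Nat.card_pos (Subgroup.card_dvd_of_le hR)
  have h4 : p ^ 2 ≤ Nat.card φ.ker := by
    have hpos : 0 < Nat.card φ.range := Nat.card_pos
    by_contra hlt
    push Not at hlt
    have : Nat.card φ.ker * Nat.card φ.range < p ^ 2 * Nat.card f.ker := by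
      calc Nat.card φ.ker * Nat.card φ.range < p ^ 2 * Nat.card φ.range :=
            Nat.mul_lt_mul_of_pos_right hlt hpos
        _ ≤ p ^ 2 * Nat.card f.ker := Nat.mul_le_mul_left _ h3
    rw [h2, ← h1, mul_comm] at this
    exact lt_irrefl _ this
  have hlt : p < p ^ 2 := by
    calc p = p ^ 1 := (pow_one p).symm
      _ < p ^ 2 := Nat.pow_lt_pow_right hp.one_lt (by omega)
  have hKnc : ¬ IsCyclic φ.ker := by
    intro hc
    have := card_le_of_cyclic p hp.pos hc (by
      intro h
      apply Subtype.ext
      have := h.2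
      rw [MonoidHom.mem_ker] at this
      have h' : (h : G) ^ p = 1 := this
      simpa using h')
    omega
  have hKtop := hX' _ hKnc
  have hpow : ∀ g : G, g ^ p = 1 := by
    intro g
    have : g ∈ φ.ker := by rw [hKtop]; exact Subgroup.mem_top g
    exact MonoidHom.mem_ker.mp this
  have hge : p ^ 2 ≤ Nat.card G := by
    rw [hKtop] at h4
    rwa [Subgroup.card_top] at h4
  have hexp : Monoid.exponent G = p := by
    have hd : Monoid.exponent G ∣ p := Monoid.exponent_dvd_of_forall_pow_eq_one hpow
    rcases (Nat.dvd_prime hp).mp hd with h | h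
    · exfalso
      rw [Monoid.exp_eq_one_iff] at h
      exact hcyc inferInstance
    · exact h
  refine ⟨?_, hexp⟩
  apply le_antisymm _ hge
  -- upper bound
  have hnt : Nontrivial G := by
    by_contra h
    rw [not_nontrivial_iff_subsingleton] at h
    exact hcyc inferInstance
  obtain ⟨x, hx⟩ := exists_ne (1 : G)
  have hox : orderOf x = p := by
    rcases (Nat.dvd_prime hp).mp (orderOf_dvd_of_pow_eq_one (hpow x)) with h | h
    · exact absurd (orderOf_eq_one_iff.mp h) hx
    · exact h
  have hzx : Subgroup.zpowers x ≠ ⊤ := by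
    intro h
    apply hcyc
    refine ⟨⟨x, fun g => ?_⟩⟩
    have : g ∈ Subgroup.zpowers x := by rw [h]; exact Subgroup.mem_top g
    exact this
  obtain ⟨y, hy⟩ : ∃ y, y ∉ Subgroup.zpowers x := by
    by_contra hall
    push Not at hall
    exact hzx (top_le_iff.mp (fun g _ => hall g))
  have hH : Subgroup.zpowers x ⊔ Subgroup.zpowers y = ⊤ := by
    apply hX'
    intro hc
    have hle := card_le_of_cyclic p hp.pos hc (by
      intro h
      apply Subtype.ext
      simpa using hpow (h : G))
    have hxle : Subgroup.zpowers x ≤ Subgroup.zpowers x ⊔ Subgroup.zpowers y := le_sup_left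
    have heq : Subgroup.zpowers x = Subgroup.zpowers x ⊔ Subgroup.zpowers y := by
      apply Subgroup.eq_of_le_of_card_ge hxle
      rw [Nat.card_zpowers, hox]
      exact hle
    apply hy
    rw [heq]
    exact (le_sup_right : Subgroup.zpowers y ≤ _) (Subgroup.mem_zpowers y)
  have hsurj : Function.Surjective
      (fun ab : Subgroup.zpowers x × Subgroup.zpowers y => (ab.1 : G) * (ab.2 : G)) := by
    intro g
    have hg : g ∈ Subgroup.zpowers x ⊔ Subgroup.zpowers y := by rw [hH]; exact Subgroup.mem_top g
    rw [Subgroup.mem_sup] at hg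
    obtain ⟨a, ha, b, hb, hab⟩ := hg
    exact ⟨(⟨a, ha⟩, ⟨b, hb⟩), hab⟩
  have hcard := Nat.card_le_card_of_surjective _ hsurj
  rw [Nat.card_prod, Nat.card_zpowers, Nat.card_zpowers, hox] at hcard
  have hoy : orderOf y ≤ p := Nat.le_of_dvd hp.pos (orderOf_dvd_of_pow_eq_one (hpow y))
  calc Nat.card G ≤ p * orderOf y := hcard
    _ ≤ p * p := Nat.mul_le_mul_left _ hoy
    _ = p ^ 2 := (pow_two p).symm

end Cfsg.Agent.S3917
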