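import Cfsg.Statements.S3918
import Mathlib
import Cfsg.Agent.S0126
import Cfsg.Agent.Lib.Helper4_Kieler0
import Cfsg.Agent.Lib.Helper7_Basic

set_option autoImplicit false
open Cfsg

namespace Cfsg.Agent.S3918

/-- Say that a group has self-centralizing non-cyclic subgroups when every non-cyclic subgroup H satisfies C_G(H) ≤ H. For an odd prime p, a finite non-abelian p-group has self-centralizing non-cyclic subgroups if and only if it has order p³. -/
theorem result {G : Type*} [Group G] [Finite G] {p : ℕ} [Fact p.Prime] (hp : p ≠ 2) (hG : IsPGroup p G) (hna : ¬ IsMulCommutative G) :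
    (∀ H : Subgroup G, ¬ IsCyclic ↥H → Subgroup.centralizer (H : Set G) ≤ H) ↔ Nat.card G = p ^ 3 := by
  classical
  have hpp := (Fact.out : p.Prime)
  obtain ⟨n, hn⟩ := hG.exists_card_eq
  -- nonabelian ⇒ n ≥ 3
  have hn3 : 3 ≤ n := by
    by_contra hlt
    apply hna
    have hn' : n = 0 ∨ n = 1 ∨ n = 2 := by omega
    rcases hn' with rfl | rfl | rfl
    · rw [pow_zero] at hn
      have : Subsingleton G := (Nat.card_eq_one_iff_unique.mp hn).1
      exact ⟨⟨fun a b => Subsingleton.elim _ _⟩⟩
    · rw [pow_one] at hn
      have : Fact (Nat.card G).Prime := ⟨by rw [hn]; exact hpp⟩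
      have : IsCyclic G := isCyclic_of_prime_card rfl
      exact IsCyclic.isMulCommutative
    · exact IsPGroup.isMulCommutative_of_card_eq_prime_sq hn
  have hnil : Group.IsNilpotent G := hG.isNilpotent
  constructor
  · intro hyp
    have hnc : ¬ IsCyclic G := fun h => hna IsCyclic.isMulCommutative
    obtain ⟨E, hEn, hEea, hEcard⟩ := Cfsg.Agent.S0126.result hp hG hnc
    have hEab : ∀ a ∈ E, ∀ b ∈ E, a * b = b * a := by
      intro a ha b hb
      exact congrArg Subtype.val (hEea.1.is_comm.comm ⟨a, ha⟩ ⟨b, hb⟩)
    have hEnc : ¬ IsCyclic E := by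
      intro hc
      have h1 : Monoid.exponent E = Nat.card E := IsCyclic.exponent_eq_card
      have h2 : Monoid.exponent E ∣ p := by
        apply Monoid.exponent_dvd_of_forall_pow_eq_one
        intro g
        apply Subtype.ext
        simpa using hEea.2 g g.2
      rw [h1, hEcard] at h2
      have := Nat.le_of_dvd hpp.pos h2
      have : p < p ^ 2 := by
        calc p = p ^ 1 := (pow_one p).symm
          _ < p ^ 2 := Nat.pow_lt_pow_right hpp.one_lt (by norm_num)
      omega
    have hCE : Subgroup.centralizer (E : Set G) ≤ E := hyp E hEnc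
    have hE0 : E ≠ ⊥ := by
      intro h
      rw [h, Subgroup.card_bot] at hEcard
      have : 1 < p ^ 2 := Nat.one_lt_pow (by norm_num) hpp.one_lt
      omega
    obtain ⟨z, hzE, hzc, hz1⟩ := Cfsg.Agent.Lib.Helper4_Kieler0.normal_inf_center_ne_bot' E hE0
    -- a ∈ E not central
    obtain ⟨a, haE, hac⟩ : ∃ a ∈ E, a ∉ Subgroup.center G := by
      by_contra hcon
      push Not at hcon
      apply hna
      have h1 : Subgroup.centralizer (E : Set G) = ⊤ := by
        rw [Subgroup.eq_top_iff']
        intro g
        rw [Subgroup.mem_centralizer_iff]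
        intro e he
        exact (Subgroup.mem_center_iff.mp (hcon e he) g).symm
      rw [h1] at hCE
      refine ⟨⟨fun x y => ?_⟩⟩
      exact hEab x (hCE (Subgroup.mem_top x)) y (hCE (Subgroup.mem_top y))
    -- C_G(a) ≤ E
    have hCa : Subgroup.centralizer ({a} : Set G) ≤ E := by
      intro g hg
      rw [Subgroup.mem_centralizer_singleton_iff] at hg
      apply hCE
      set K : Subgroup G := E ⊓ Subgroup.centralizer ({g} : Set G) with hK
      have hzK : z ∈ K := by
        refine Subgroup.mem_inf.mpr ⟨hzE, ?_⟩
        rw [Subgroup.mem_centralizer_singleton_iff]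
        exact (Subgroup.mem_center_iff.mp hzc g).symm
      have haK : a ∈ K := by
        refine Subgroup.mem_inf.mpr ⟨haE, ?_⟩
        rw [Subgroup.mem_centralizer_singleton_iff]
        exact hg.symm
      have hKE : K = E := by
        have h2 : Nat.card K ∣ p ^ 2 := by rw [← hEcard]; exact Subgroup.card_dvd_of_le inf_le_left
        obtain ⟨k, hk, hk'⟩ := (Nat.dvd_prime_pow hpp).mp h2
        have hoz : orderOf z = p := orderOf_eq_prime (hEea.2 z hzE) hz1
        have hzle : Subgroup.zpowers z ≤ K := by rw [Subgroup.zpowers_le]; exact hzK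
        have hk0 : k ≠ 0 := by
          intro h0
          have h3 := Subgroup.card_le_of_le hzle
          rw [Nat.card_zpowers, hoz, hk', h0, pow_zero] at h3
          exact absurd h3 (by have := hpp.one_lt; omega)
        have hk1 : k ≠ 1 := by
          intro h1'
          have : Subgroup.zpowers z = K :=
            Subgroup.eq_of_le_of_card_ge hzle (by rw [hk', h1', pow_one, Nat.card_zpowers, hoz])
          apply hac
          have hle : Subgroup.zpowers z ≤ Subgroup.center G := by
            rw [Subgroup.zpowers_le]; exact hzc
          exact hle (this ▸ haK)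
        have hk2 : k = 2 := by omega
        exact Subgroup.eq_of_le_of_card_ge inf_le_left (by rw [hk', hk2, hEcard])
      rw [Subgroup.mem_centralizer_iff]
      intro b hb
      have hb' : b ∈ K := by rw [hKE]; exact hb
      have := (Subgroup.mem_inf.mp hb').2
      rw [Subgroup.mem_centralizer_singleton_iff] at this
      exact this
    -- class of a has fewer than p² elements
    have hclass := Cfsg.Agent.Lib.Helper7_Basic.card_conj_class a
    have hlt : Nat.card {y : G // IsConj y a} < Nat.card E := by
      have hmem : ∀ y : {y : G // IsConj y a}, (y : G) ∈ E := by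
        rintro ⟨y, hy⟩
        obtain ⟨c, hc⟩ := isConj_iff.mp hy.symm
        show y ∈ E
        have hyc : y = c * a * c⁻¹ := hc.symm
        rw [hyc]
        exact hEn.conj_mem a haE c
      have : Fintype {y : G // IsConj y a} := Fintype.ofFinite _
      have : Fintype E := Fintype.ofFinite _
      rw [Nat.card_eq_fintype_card, Nat.card_eq_fintype_card]
      apply Fintype.card_lt_of_injective_of_notMem (α := {y : G // IsConj y a}) (β := E)
        (fun y => (⟨(y : G), hmem y⟩ : E)) (b := (1 : E))
      · intro y₁ y₂ h
        apply Subtype.ext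
        exact congrArg (fun e : E => (e : G)) h
      · rintro ⟨⟨y, hy⟩, h⟩
        have hy1 : y = 1 := congrArg (fun e : E => (e : G)) h
        rw [hy1] at hy
        have : a = 1 := by
          obtain ⟨c, hc⟩ := isConj_iff.mp hy
          rw [← hc]; group
        apply hac
        rw [this]; exact Subgroup.one_mem _
    rw [hclass, hEcard] at hlt
    have hidx : (Subgroup.centralizer ({a} : Set G)).index ≤ p := by
      have hdvd : (Subgroup.centralizer ({a} : Set G)).index ∣ p ^ n := by
        rw [← hn]; exact Subgroup.index_dvd_card _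
      obtain ⟨j, -, hj⟩ := (Nat.dvd_prime_pow hpp).mp hdvd
      rw [hj] at hlt ⊢
      have hj1 : j < 2 := (Nat.pow_lt_pow_iff_right hpp.one_lt).mp hlt
      calc p ^ j ≤ p ^ 1 := Nat.pow_le_pow_right hpp.pos (by omega)
        _ = p := pow_one p
    have hcardle : Nat.card G ≤ p ^ 3 := by
      rw [← Subgroup.card_mul_index (Subgroup.centralizer ({a} : Set G))]
      have h1 : Nat.card (Subgroup.centralizer ({a} : Set G)) ≤ p ^ 2 := by
        rw [← hEcard]; exact Subgroup.card_le_of_le hCa
      calc _ ≤ p ^ 2 * p := Nat.mul_le_mul h1 hidx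
        _ = p ^ 3 := by ring
    have hge : p ^ 3 ≤ Nat.card G := by
      rw [hn]; exact Nat.pow_le_pow_right hpp.pos hn3
    omega
  · intro hcard H hH
    have hHp : IsPGroup p H := hG.to_subgroup H
    obtain ⟨k, hk⟩ := hHp.exists_card_eq
    have hk3 : k ≤ 3 := by
      have h1 := Subgroup.card_le_card_group H
      rw [hk, hcard] at h1
      exact (Nat.pow_le_pow_iff_right hpp.one_lt).mp h1
    have hk' : k = 0 ∨ k = 1 ∨ k = 2 ∨ k = 3 := by omega
    rcases hk' with rfl | rfl | rfl | rfl
    · exfalso; apply hH
      rw [pow_zero] at hk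
      have : Subsingleton H := (Nat.card_eq_one_iff_unique.mp hk).1
      infer_instance
    · exfalso; apply hH
      rw [pow_one] at hk
      have : Fact (Nat.card H).Prime := ⟨by rw [hk]; exact hpp⟩
      exact isCyclic_of_prime_card rfl
    · -- |H| = p²
      have hHab : IsMulCommutative H := IsPGroup.isMulCommutative_of_card_eq_prime_sq hk
      intro c hc
      by_contra hcH
      apply hna
      have hcH' : ∀ h ∈ H, h * c = c * h := fun h hh => Subgroup.mem_centralizer_iff.mp hc h hh
      set L : Subgroup G := H ⊔ Subgroup.zpowers c with hL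
      have hLtop : L = ⊤ := by
        have hlt : H < L := by
          refine lt_of_le_of_ne le_sup_left ?_
          intro h
          apply hcH
          rw [h]
          exact Subgroup.mem_sup_right (Subgroup.mem_zpowers c)
        obtain ⟨j, hj⟩ := (hG.to_subgroup L).exists_card_eq
        have h1 : Nat.card H < Nat.card L := by
          have h2 : (H : Set G) ⊂ (L : Set G) := SetLike.coe_ssubset_coe.mpr hlt
          have h3 := Set.ncard_lt_ncard h2 (Set.toFinite _)
          rw [← Nat.card_coe_set_eq, ← Nat.card_coe_set_eq] at h3
          exact h3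
        rw [hk, hj] at h1
        have hj2 : 2 < j := (Nat.pow_lt_pow_iff_right hpp.one_lt).mp h1
        apply Subgroup.eq_top_of_le_card
        rw [hj, hcard]
        exact Nat.pow_le_pow_right hpp.pos hj2
      -- every element of H and c is central
      have hcen : ∀ w : G, (∀ h ∈ H, h * w = w * h) → c * w = w * c → w ∈ Subgroup.center G := by
        intro w hw1 hw2
        rw [Subgroup.mem_center_iff]
        intro g
        have h1 : L ≤ Subgroup.centralizer ({w} : Set G) := by
          apply sup_le
          · intro h hh
            rw [Subgroup.mem_centralizer_singleton_iff]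
            exact hw1 h hh
          · rw [Subgroup.zpowers_le, Subgroup.mem_centralizer_singleton_iff]
            exact hw2
        rw [hLtop] at h1
        have := h1 (Subgroup.mem_top g)
        rw [Subgroup.mem_centralizer_singleton_iff] at this
        exact this
      have hLc : L ≤ Subgroup.center G := by
        apply sup_le
        · intro h hh
          apply hcen h
          · intro h' hh'
            exact congrArg Subtype.val (hHab.is_comm.comm ⟨h', hh'⟩ ⟨h, hh⟩)
          · exact (hcH' h hh).symm
        · rw [Subgroup.zpowers_le]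
          exact hcen c hcH' rfl
      rw [hLtop] at hLc
      refine ⟨⟨fun x y => ?_⟩⟩
      exact (Subgroup.mem_center_iff.mp (hLc (Subgroup.mem_top y)) x)
    · -- H = ⊤
      have hHtop : H = ⊤ := Subgroup.eq_top_of_card_eq H (by rw [hk, hcard])
      rw [hHtop]
      exact le_top

end Cfsg.Agent.S3918
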