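import Cfsg.Statements.S3919
import Mathlib
import Cfsg.Agent.Lib.Helper5_KleinSub
import Cfsg.Agent.Lib.Helper6_MaxClass
import Cfsg.Agent.Lib.Helper6_MaxClass2
import Cfsg.Agent.Lib.Helper6_CyclicP
import Cfsg.Agent.S0112
import Cfsg.Agent.S0016

set_option autoImplicit false
open Cfsg

namespace Cfsg.Agent.S3919

open Subgroup

section Quat

theorem zmod_double (m : ℕ) [NeZero m] (j : ZMod (2 * m)) (hj : j + j = 0) :
    j = 0 ∨ j = (m : ZMod (2 * m)) := by
  have hm : 0 < m := Nat.pos_of_ne_zero (NeZero.ne m)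
  haveI : NeZero (2 * m) := ⟨by omega⟩
  have h1 : j = ((j.val : ℕ) : ZMod (2 * m)) := (ZMod.natCast_zmod_val j).symm
  have h2 : ((2 * j.val : ℕ) : ZMod (2 * m)) = 0 := by
    rw [Nat.cast_mul, ZMod.natCast_zmod_val]
    have : ((2 : ℕ) : ZMod (2 * m)) * j = j + j := by push_cast; ring
    rw [this, hj]
  rw [ZMod.natCast_eq_zero_iff] at h2
  have h3 : m ∣ j.val := (Nat.mul_dvd_mul_iff_left (by norm_num)).mp h2
  obtain ⟨q, hq⟩ := h3
  have h4 : j.val < 2 * m := ZMod.val_lt j
  have h5 : q < 2 := by
    by_contra h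
    push_neg at h
    have : m * 2 ≤ m * q := Nat.mul_le_mul_left _ h
    omega
  rw [h1, hq]
  interval_cases q
  · left; simp
  · right; simp

/-- The centralizer of `xa 0` in a generalized quaternion group. -/
theorem quat_centralizer (m : ℕ) [NeZero m] (w : QuaternionGroup m)
    (hw : w * QuaternionGroup.xa 0 = QuaternionGroup.xa 0 * w) :
    w ∈ zpowers (QuaternionGroup.xa 0 : QuaternionGroup m) := by
  have h2 : (QuaternionGroup.xa 0 : QuaternionGroup m) ^ 2 = QuaternionGroup.a m :=
    QuaternionGroup.xa_sq 0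
  have h3 : (QuaternionGroup.xa 0 : QuaternionGroup m) ^ 3 = QuaternionGroup.xa m := by
    rw [pow_succ', h2, QuaternionGroup.xa_mul_a, zero_add]
  rcases w with j | j
  · rw [QuaternionGroup.a_mul_xa, QuaternionGroup.xa_mul_a] at hw
    have h1 : (0 : ZMod (2 * m)) - j = 0 + j := QuaternionGroup.xa.inj hw
    have h4 : j + j = 0 := by
      have : -j = j := by simpa using h1
      calc j + j = j + -j := by rw [this]
        _ = 0 := add_neg_cancel j
    rcases zmod_double m j h4 with rfl | rfl
    · rw [QuaternionGroup.a_zero]; exact one_mem _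
    · rw [← h2]; exact pow_mem (mem_zpowers _) 2
  · rw [QuaternionGroup.xa_mul_xa, QuaternionGroup.xa_mul_xa] at hw
    have h1 : (m : ZMod (2 * m)) + 0 - j = (m : ZMod (2 * m)) + j - 0 := QuaternionGroup.a.inj hw
    have h4 : j + j = 0 := by
      have : -j = j := by
        have h5 : (m : ZMod (2 * m)) + -j = (m : ZMod (2 * m)) + j := by
          simpa [sub_eq_add_neg] using h1
        exact add_left_cancel h5
      calc j + j = j + -j := by rw [this]
        _ = 0 := add_neg_cancel j
    rcases zmod_double m j h4 with rfl | rfl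
    · exact mem_zpowers _
    · rw [← h3]; exact pow_mem (mem_zpowers _) 3

end Quat

universe u

section Main

variable {G : Type u} [Group G] [Finite G]

/-- A self-centralizing subgroup of order four yields maximal class. -/
theorem class_of_selfcent (n : ℕ) (hG : Nat.card G = 2 ^ n) (A : Subgroup G)
    (hA4 : Nat.card A = 4) (hcomm : ∀ a ∈ A, ∀ b ∈ A, a * b = b * a)
    (hCA : centralizer (A : Set G) ≤ A) : Group.nilpotencyClass G = n - 1 := by
  haveI : Fact (Nat.Prime 2) := ⟨Nat.prime_two⟩
  have hCA' : centralizer (A : Set G) = A := by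
    apply le_antisymm hCA
    intro g hg
    rw [mem_centralizer_iff]
    intro y hy
    exact hcomm y hy g hg
  exact Cfsg.Agent.S0112.result (p := 2) n hG A (by rw [hA4]; norm_num) hCA'

theorem forward (hna : ¬ IsMulCommutative G) (n : ℕ) (hG : Nat.card G = 2 ^ n)
    (h : ∀ H : Subgroup G, ¬ IsCyclic ↥H → centralizer (H : Set G) ≤ H) :
    Group.nilpotencyClass G = n - 1 := by
  haveI : Fact (Nat.Prime 2) := ⟨Nat.prime_two⟩
  have hGp : IsPGroup 2 G := IsPGroup.of_card hG
  by_cases hu : ∀ s t : G, orderOf s = 2 → orderOf t = 2 → s = t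
  · -- unique involution
    have huniq : ∀ H K : Subgroup G, Nat.card H = 2 → Nat.card K = 2 → H = K := by
      have key : ∀ H : Subgroup G, Nat.card H = 2 → ∃ s : G, orderOf s = 2 ∧ H = zpowers s := by
        intro H hH
        have : Nontrivial H := by
          rw [← Finite.one_lt_card_iff_nontrivial, hH]; norm_num
        obtain ⟨s, hs⟩ := exists_ne (1 : H)
        have hs1 : (s : G) ≠ 1 := fun h0 => hs (Subtype.ext h0)
        have hord : orderOf (s : G) = 2 := by
          have h1 : orderOf s ∣ 2 := by rw [← hH]; exact orderOf_dvd_natCard s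
          rw [Subgroup.orderOf_coe]
          rcases (Nat.dvd_prime Nat.prime_two).mp h1 with h2 | h2
          · exfalso; exact hs (orderOf_eq_one_iff.mp h2)
          · exact h2
        refine ⟨s, hord, ?_⟩
        symm
        apply Subgroup.eq_of_le_of_card_ge ((zpowers_le).mpr s.2)
        rw [Nat.card_zpowers, hord, hH]
      intro H K hH hK
      obtain ⟨s, hs, rfl⟩ := key H hH
      obtain ⟨t, ht, rfl⟩ := key K hK
      rw [hu s t hs ht]
    rcases Cfsg.Agent.S0016.result 2 hGp huniq with hc | ⟨-, k, ⟨e⟩⟩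
    · exfalso
      apply hna
      obtain ⟨g, hg⟩ := hc.exists_generator
      refine ⟨⟨fun a b => ?_⟩⟩
      obtain ⟨i, rfl⟩ := hg a
      obtain ⟨j, rfl⟩ := hg b
      exact ((Commute.refl g).zpow_zpow i j).eq
    · haveI : NeZero (2 ^ k) := ⟨by positivity⟩
      set y : G := e.symm (QuaternionGroup.xa 0) with hy
      have hyo : orderOf y = 4 := by
        rw [hy, MulEquiv.orderOf_eq, QuaternionGroup.orderOf_xa]
      apply class_of_selfcent n hG (zpowers y)
      · rw [Nat.card_zpowers, hyo]
      · rintro _ ⟨i, rfl⟩ _ ⟨j, rfl⟩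
        exact ((Commute.refl y).zpow_zpow i j).eq
      · intro g hg
        have h1 : g * y = y * g := ((mem_centralizer_iff.mp hg) y (mem_zpowers y)).symm
        have h2 : e g * QuaternionGroup.xa 0 = QuaternionGroup.xa 0 * e g := by
          have := congrArg e h1
          rw [map_mul, map_mul, hy, MulEquiv.apply_symm_apply] at this
          exact this
        obtain ⟨i, hi⟩ := quat_centralizer _ (e g) h2
        refine ⟨i, ?_⟩
        simp only at hi ⊢
        apply e.injective
        rw [map_zpow, hy, MulEquiv.apply_symm_apply]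
        exact hi
  · push_neg at hu
    obtain ⟨s, t, hs, ht, hst⟩ := hu
    -- a central involution
    have hnt : Nontrivial G := by
      by_contra hn
      rw [not_nontrivial_iff_subsingleton] at hn
      apply hna
      exact ⟨⟨fun a b => Subsingleton.elim _ _⟩⟩
    haveI := hnt
    have hcnt : Nontrivial (center G) := hGp.center_nontrivial
    have h2dvd : 2 ∣ Nat.card (center G) := by
      obtain ⟨j, hj⟩ := (hGp.to_subgroup (center G)).exists_card_eq
      have hj1 : 1 < Nat.card (center G) := Finite.one_lt_card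
      rw [hj] at hj1 ⊢
      have : j ≠ 0 := by
        intro h0; rw [h0] at hj1; norm_num at hj1
      exact dvd_pow_self 2 this
    obtain ⟨z, hz⟩ := exists_prime_orderOf_dvd_card' 2 h2dvd
    have hzo : orderOf (z : G) = 2 := by rw [Subgroup.orderOf_coe]; exact hz
    have hzc : ∀ g : G, g * (z : G) = (z : G) * g := fun g => (mem_center_iff.mp z.2 g)
    -- an involution different from z
    obtain ⟨t', ht', hne⟩ : ∃ t' : G, orderOf t' = 2 ∧ (z : G) ≠ t' := by
      by_cases h1 : (z : G) = s
      · exact ⟨t, ht, fun h2 => hst (h1.symm.trans h2)⟩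
      · exact ⟨s, hs, h1⟩
    have hz2 : (z : G) * z = 1 := by rw [← pow_two, ← hzo, pow_orderOf_eq_one]
    have ht2 : t' * t' = 1 := by rw [← pow_two, ← ht', pow_orderOf_eq_one]
    have hz1 : (z : G) ≠ 1 := by
      intro h0; rw [h0, orderOf_one] at hzo; omega
    have ht1 : t' ≠ 1 := by
      intro h0; rw [h0, orderOf_one] at ht'; omega
    have hzt : (z : G) * t' = t' * z := (hzc t').symm
    set A := Cfsg.Agent.Lib.Helper5_KleinSub.kleinSub (z : G) t' hz2 ht2 hzt with hA
    apply class_of_selfcent n hG A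
    · exact Cfsg.Agent.Lib.Helper5_KleinSub.card_kleinSub _ _ hz2 ht2 hzt hz1 ht1 hne
    · intro a ha b hb
      exact Cfsg.Agent.Lib.Helper5_KleinSub.kleinSub_comm ha hb
    · exact h A (Cfsg.Agent.Lib.Helper5_KleinSub.kleinSub_not_cyclic _ _ hz2 ht2 hzt hz1 ht1 hne)

theorem backward (n : ℕ) (hn : 3 ≤ n) (hG : Nat.card G = 2 ^ n)
    (hc : Group.nilpotencyClass G = n - 1) (H : Subgroup G) (hH : ¬ IsCyclic ↥H) :
    centralizer (H : Set G) ≤ H := by
  haveI : Fact (Nat.Prime 2) := ⟨Nat.prime_two⟩
  have hGp : IsPGroup 2 G := IsPGroup.of_card hG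
  obtain ⟨c, x, hord, hx, hCidx, hZC, hxx, hd, hsq⟩ :=
    Cfsg.Agent.Lib.Helper6_MaxClass2.maxclass_structure n hn hG hc
  obtain ⟨hZcard, -, -⟩ := Cfsg.Agent.Lib.Helper6_MaxClass.center_of_maxclass 2 n hn hG hc
  have hab : ∀ a ∈ zpowers c, ∀ b ∈ zpowers c, a * b = b * a := by
    rintro _ ⟨i, rfl⟩ _ ⟨j, rfl⟩
    exact ((Commute.refl c).zpow_zpow i j).eq
  -- H is not inside <c>
  have hnot : ¬ H ≤ zpowers c := by
    intro hle
    apply hH
    haveI : IsCyclic (zpowers c) := inferInstance
    exact Subgroup.isCyclic_of_le hle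
  obtain ⟨y, hyH, hyc⟩ := SetLike.not_le_iff_exists.mp hnot
  -- the centre lies in H
  have hZH : center G ≤ H := by
    have hcyc : IsCyclic (zpowers c) := inferInstance
    have hpc : IsPGroup 2 (zpowers c) := hGp.to_subgroup _
    rcases Cfsg.Agent.Lib.Helper6_CyclicP.le_total_of_cyclic (zpowers c) hcyc hpc (center G)
      (H ⊓ zpowers c) hZC inf_le_right with h1 | h1
    · exact h1.trans inf_le_left
    · -- H ⊓ <c> ≤ Z, of order ≤ 2; then H has order ≤ 4 ... we show H ⊓ <c> = Z or trivial
      by_cases hbot : H ⊓ zpowers c = ⊥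
      · exfalso
        apply hH
        -- every element of H is 1 or outside <c>; two elements outside <c> differ by an element of <c>
        have hall : ∀ g ∈ H, g = 1 ∨ g = y := by
          intro g hg
          by_cases hgc : g ∈ zpowers c
          · left
            have : g ∈ H ⊓ zpowers c := Subgroup.mem_inf.mpr ⟨hg, hgc⟩
            rw [hbot] at this
            exact (mem_bot.mp this)
          · right
            have h3 := Cfsg.Agent.Lib.Helper6_MaxClass2.decomp_of_index_two _ hCidx y g hyc hgc
            have : y⁻¹ * g ∈ H ⊓ zpowers c :=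
              Subgroup.mem_inf.mpr ⟨H.mul_mem (H.inv_mem hyH) hg, h3⟩
            rw [hbot] at this
            have h4 := mem_bot.mp this
            calc g = y * (y⁻¹ * g) := by group
              _ = y := by rw [h4, mul_one]
        refine ⟨⟨⟨y, hyH⟩, ?_⟩⟩
        intro g
        rcases hall g g.2 with h5 | h5
        · exact ⟨0, by simp [Subtype.ext_iff, h5]⟩
        · exact ⟨1, by simp [Subtype.ext_iff, h5]⟩
      · -- H ⊓ <c> is a nontrivial subgroup of Z of order 2
        have h2 : H ⊓ zpowers c = center G := by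
          apply Subgroup.eq_of_le_of_card_ge h1
          rw [hZcard]
          have : Nontrivial (H ⊓ zpowers c : Subgroup G) := by
            rw [Subgroup.nontrivial_iff_ne_bot]; exact hbot
          exact Finite.one_lt_card
        rw [← h2]; exact inf_le_left
  intro g hg
  have hgy : y * g = g * y := ((mem_centralizer_iff.mp hg) y hyH)
  by_cases hgc : g ∈ zpowers c
  · apply hZH
    exact Cfsg.Agent.Lib.Helper6_MaxClass2.mem_center_of_abelian_index_two _ hCidx hab y hyc g hgc hgy
  · have h3 := Cfsg.Agent.Lib.Helper6_MaxClass2.decomp_of_index_two _ hCidx y g hyc hgc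
    have h4 : y * (y⁻¹ * g) = (y⁻¹ * g) * y := by
      calc y * (y⁻¹ * g) = g := by group
        _ = y⁻¹ * (y * g) := by group
        _ = y⁻¹ * (g * y) := by rw [hgy]
        _ = (y⁻¹ * g) * y := by group
    have h5 := Cfsg.Agent.Lib.Helper6_MaxClass2.mem_center_of_abelian_index_two _ hCidx hab y hyc
      (y⁻¹ * g) h3 h4
    have : g = y * (y⁻¹ * g) := by group
    rw [this]
    exact mul_mem hyH (hZH h5)

end Main

/-- Say that a group has self-centralizing non-cyclic subgroups when every non-cyclic subgroup H satisfies C_G(H) ≤ H. A finite non-abelian 2-group G of order 2^n has self-centralizing non-cyclic subgroups if and only if G has nilpotency class n − 1 (that is, G is dihedral, semidihedral or generalized quaternion). -/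
theorem result {G : Type*} [Group G] [Finite G] (hna : ¬ IsMulCommutative G) (n : ℕ) (hG : Nat.card G = 2 ^ n) :
    (∀ H : Subgroup G, ¬ IsCyclic ↥H → Subgroup.centralizer (H : Set G) ≤ H) ↔ (⊤ : Subgroup G).lowerCentralSeries (n - 2) ≠ ⊥ := by
  haveI : Fact (Nat.Prime 2) := ⟨Nat.prime_two⟩
  have hGp : IsPGroup 2 G := IsPGroup.of_card hG
  haveI hnil : Group.IsNilpotent G := hGp.isNilpotent
  -- n ≥ 3
  have hn3 : 3 ≤ n := by
    by_contra hlt
    push_neg at hlt
    apply hna
    have h1 : n ≤ 2 := by omega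
    interval_cases n
    · have : Subsingleton G := by
        rw [← Finite.card_le_one_iff_subsingleton, hG]; norm_num
      exact ⟨⟨fun a b => Subsingleton.elim _ _⟩⟩
    · have hc : IsCyclic G := isCyclic_of_prime_card (p := 2) (by rw [hG]; norm_num)
      obtain ⟨g, hg⟩ := hc.exists_generator
      refine ⟨⟨fun a b => ?_⟩⟩
      obtain ⟨i, rfl⟩ := hg a
      obtain ⟨j, rfl⟩ := hg b
      exact ((Commute.refl g).zpow_zpow i j).eq
    · have := IsPGroup.commutative_of_card_eq_prime_sq (p := 2) hG
      exact ⟨⟨this⟩⟩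
  have hle := Cfsg.Agent.Lib.Helper6_MaxClass.class_le 2 n G hG (by omega)
  rw [Ne, _root_.lowerCentralSeries_eq_bot_iff_nilpotencyClass_le]
  constructor
  · intro h
    have := forward hna n hG h
    omega
  · intro h H hH
    have hc : Group.nilpotencyClass G = n - 1 := by omega
    exact backward n hn3 hG hc H hH

end Cfsg.Agent.S3919
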