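import Cfsg.Statements.S3920
import Mathlib
import Cfsg.Agent.Lib.Helper6_Dihedral

set_option autoImplicit false
open Cfsg

namespace Cfsg.Agent.S3920

open DihedralGroup Cfsg.Agent.Lib.Helper6_Dihedral

/-- a subgroup of a cyclic subgroup is cyclic -/
theorem isCyclic_of_le_zpowers {G : Type*} [Group G] (H : Subgroup G) (x : G)
    (h : H ≤ Subgroup.zpowers x) : IsCyclic H :=
  isCyclic_of_injective (Subgroup.inclusion h) (Subgroup.inclusion_injective h)

/-- a noncyclic subgroup of a dihedral group contains a reflection and a nontrivial rotation -/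
theorem exists_sr_r {n : ℕ} (H : Subgroup (DihedralGroup n)) (hH : ¬ IsCyclic H) :
    ∃ i j : ZMod n, sr i ∈ H ∧ r j ∈ H ∧ j ≠ 0 := by
  have hrefl : ∃ i : ZMod n, sr i ∈ H := by
    apply exists_sr_of_not_rotations
    intro hrot
    apply hH
    apply isCyclic_of_le_zpowers H (r 1)
    intro g hg
    obtain ⟨i, rfl⟩ := hrot g hg
    rw [Subgroup.mem_zpowers_iff]
    refine ⟨(i.cast : ℤ), ?_⟩
    rw [r_one_zpow, ZMod.intCast_zmod_cast]
  obtain ⟨i, hi⟩ := hrefl
  by_contra hcon
  push Not at hcon
  apply hH
  apply isCyclic_of_le_zpowers H (sr i)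
  intro g hg
  cases g with
  | r j =>
    have := hcon i j hi hg
    rw [this, r_zero]
    exact Subgroup.one_mem _
  | sr k =>
    have h1 : sr i * sr k ∈ H := H.mul_mem hi hg
    rw [sr_mul_sr] at h1
    have h2 := hcon i _ hi h1
    have : k = i := by
      have := sub_eq_zero.mp h2
      exact this
    rw [this]
    exact Subgroup.mem_zpowers _

/-- Say that a group has self-centralizing non-cyclic subgroups when every non-cyclic subgroup H satisfies C_G(H) ≤ H. For n ≥ 3, the dihedral group of order 2n has self-centralizing non-cyclic subgroups if and only if n is odd or a power of 2. -/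
theorem result (n : ℕ) (hn : 3 ≤ n) : (∀ H : Subgroup (DihedralGroup n), ¬ IsCyclic ↥H → Subgroup.centralizer (H : Set (DihedralGroup n)) ≤ H) ↔ (Odd n ∨ ∃ k : ℕ, n = 2 ^ k) := by
  have : NeZero n := ⟨by omega⟩
  constructor
  · -- ⇒
    intro hall
    by_contra hcon
    push Not at hcon
    obtain ⟨hodd, hpow⟩ := hcon
    rw [Nat.not_odd_iff_even] at hodd
    obtain ⟨a, m, hm, hnam⟩ := Nat.exists_eq_two_pow_mul_odd (show n ≠ 0 by omega)
    have ha : 1 ≤ a := by
      rcases Nat.eq_zero_or_pos a with h0 | h0
      · exfalso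
        rw [h0, pow_zero, one_mul] at hnam
        rw [hnam] at hodd
        exact (Nat.not_even_iff_odd.mpr hm) hodd
      · exact h0
    have hm1 : m ≠ 1 := by
      intro h
      rw [h, mul_one] at hnam
      exact hpow a hnam
    obtain ⟨a', rfl⟩ : ∃ a', a = a' + 1 := ⟨a - 1, by omega⟩
    have hhalf : n / 2 = 2 ^ a' * m := by
      rw [hnam, pow_succ, mul_assoc, mul_comm 2 m, ← mul_assoc]
      exact Nat.mul_div_cancel _ (by norm_num)
    set c : ZMod n := ((2 ^ (a' + 1) : ℕ) : ZMod n) with hc
    set h : ZMod n := ((n / 2 : ℕ) : ZMod n) with hh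
    have h2h : 2 * h = 0 := by
      have : ((2 * (n / 2) : ℕ) : ZMod n) = 0 := by
        rw [ZMod.natCast_eq_zero_iff]
        have : 2 * (n / 2) = n := by
          rw [hhalf, hnam, pow_succ]; ring
        rw [this]
      push_cast at this
      exact this
    set H := dSub n c with hH
    have hsr0 : sr 0 ∈ H := sr_mem_dSub.mpr ⟨0, by ring⟩
    have hrc : r c ∈ H := r_mem_dSub.mpr ⟨1, by ring⟩
    have hnc : ¬ IsCyclic H := by
      intro hcyc
      have hcomm : IsMulCommutative H := IsCyclic.isMulCommutative
      have h1 := hcomm.is_comm.comm (⟨sr 0, hsr0⟩ : H) ⟨r c, hrc⟩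
      have h2 : (sr 0 : DihedralGroup n) * r c = r c * sr 0 := congrArg Subtype.val h1
      rw [sr_mul_r, r_mul_sr] at h2
      have h3 : (0 : ZMod n) + c = 0 - c := sr.inj h2
      have h4 : ((2 ^ (a' + 2) : ℕ) : ZMod n) = 0 := by
        have : ((2 ^ (a' + 2) : ℕ) : ZMod n) = c + c := by
          rw [hc]; push_cast; ring
        rw [this]
        have : c + c = (0 + c) - (0 - c) := by ring
        rw [this, h3]; ring
      rw [ZMod.natCast_eq_zero_iff, hnam] at h4
      have h5 : 2 ^ (a' + 1) * m ∣ 2 ^ (a' + 1) * 2 := by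
        have : 2 ^ (a' + 2) = 2 ^ (a' + 1) * 2 := by ring
        rwa [this] at h4
      have h6 : m ∣ 2 := Nat.dvd_of_mul_dvd_mul_left (by positivity) h5
      have h7 : m ≤ 2 := Nat.le_of_dvd (by norm_num) h6
      obtain ⟨j, hj⟩ := hm
      omega
    have hz : r h ∈ Subgroup.centralizer (H : Set (DihedralGroup n)) := by
      rw [Subgroup.mem_centralizer_iff]
      intro g _
      cases g with
      | r x => rw [r_mul_r, r_mul_r, add_comm]
      | sr x =>
        rw [sr_mul_r, r_mul_sr]
        congr 1
        linear_combination h2h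
    have hzH : r h ∉ H := by
      intro hmem
      obtain ⟨t, ht⟩ := r_mem_dSub.mp hmem
      have h1 : ((n / 2 : ℕ) : ZMod n) = ((2 ^ (a' + 1) * t.val : ℕ) : ZMod n) := by
        push_cast
        rw [ZMod.natCast_zmod_val]
        rw [hh, hc] at ht
        push_cast at ht
        exact ht
      rw [ZMod.natCast_eq_natCast_iff] at h1
      have h2 : n / 2 ≡ 2 ^ (a' + 1) * t.val [MOD 2 ^ (a' + 1)] :=
        h1.of_dvd ⟨m, hnam⟩
      have h3 : 2 ^ (a' + 1) * t.val ≡ 0 [MOD 2 ^ (a' + 1)] :=
        (Nat.modEq_zero_iff_dvd).mpr ⟨t.val, rfl⟩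
      have h4 := (Nat.modEq_zero_iff_dvd).mp (h2.trans h3)
      rw [hhalf, pow_succ] at h4
      have h5 : 2 ∣ m := by
        have : 2 ^ a' * 2 ∣ 2 ^ a' * m := h4
        exact Nat.dvd_of_mul_dvd_mul_left (by positivity) this
      obtain ⟨j, hj⟩ := hm
      omega
    exact hzH (hall H hnc hz)
  · -- ⇐
    intro hcase H hH g hg
    obtain ⟨i, j, hi, hj, hj0⟩ := exists_sr_r H hH
    rw [Subgroup.mem_centralizer_iff] at hg
    have hgi := hg (sr i) hi
    have hgj := hg (r j) hj
    cases g with
    | r k =>
      rw [sr_mul_r, r_mul_sr] at hgi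
      have h1 : i + k = i - k := sr.inj hgi
      have h2k : 2 * k = 0 := by linear_combination h1
      rcases hcase with hodd | ⟨e, he⟩
      · rw [eq_zero_of_two_mul hodd k h2k, r_zero]
        exact H.one_mem
      · by_cases hk0 : k = 0
        · rw [hk0, r_zero]; exact H.one_mem
        · -- an involution in ⟨r j⟩
          have hord : orderOf (r j : DihedralGroup n) ∣ 2 ^ (e + 1) := by
            have h0 := orderOf_dvd_natCard (r j : DihedralGroup n)
            rw [DihedralGroup.nat_card] at h0
            have h00 : 2 * n = 2 ^ (e + 1) := by rw [he, pow_succ, mul_comm]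
            rw [← h00]; exact h0
          obtain ⟨b, -, hb⟩ := (Nat.dvd_prime_pow Nat.prime_two).mp hord
          have hb1 : 1 ≤ b := by
            rcases Nat.eq_zero_or_pos b with h0 | h0
            · exfalso
              rw [h0, pow_zero, orderOf_eq_one_iff, ← r_zero] at hb
              exact hj0 (r.inj hb)
            · exact h0
          obtain ⟨b', rfl⟩ : ∃ b', b = b' + 1 := ⟨b - 1, by omega⟩
          have ht : (r j : DihedralGroup n) ^ (2 ^ b') ∈ H := H.pow_mem hj _
          rw [r_pow] at ht
          set k' : ZMod n := j * ((2 ^ b' : ℕ) : ZMod n) with hk'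
          have hk'0 : k' ≠ 0 := by
            intro h0
            have h1 : (r j : DihedralGroup n) ^ (2 ^ b') = 1 := by
              rw [r_pow, ← hk', h0, r_zero]
            have h2 := orderOf_dvd_of_pow_eq_one h1
            rw [hb] at h2
            have h3 : 2 ^ (b' + 1) ≤ 2 ^ b' := Nat.le_of_dvd (by positivity) h2
            have h4 : 2 ^ b' < 2 ^ (b' + 1) := Nat.pow_lt_pow_right (by norm_num) (by omega)
            omega
          have h2k' : 2 * k' = 0 := by
            have h1 : (r j : DihedralGroup n) ^ (2 ^ (b' + 1)) = 1 := by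
              rw [← hb]; exact pow_orderOf_eq_one _
            rw [r_pow, ← r_zero] at h1
            have h2 := r.inj h1
            rw [hk']
            have : 2 * (j * ((2 ^ b' : ℕ) : ZMod n)) = j * ((2 ^ (b' + 1) : ℕ) : ZMod n) := by
              push_cast; ring
            rw [this]; exact h2
          have := eq_of_two_mul_eq_zero k k' h2k hk0 h2k' hk'0
          rw [this]; exact ht
    | sr k =>
      rw [r_mul_sr, sr_mul_r] at hgj
      have h1 : k - j = k + j := sr.inj hgj
      have h2j : 2 * j = 0 := by linear_combination -h1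
      rcases hcase with hodd | ⟨e, he⟩
      · exact absurd (eq_zero_of_two_mul hodd j h2j) hj0
      · rw [sr_mul_sr, sr_mul_sr] at hgi
        have h3 : k - i = i - k := r.inj hgi
        have h2d : 2 * (k - i) = 0 := by linear_combination h3
        by_cases hd : k - i = 0
        · have : k = i := sub_eq_zero.mp hd
          rw [this]; exact hi
        · have := eq_of_two_mul_eq_zero (k - i) j h2d hd h2j hj0
          have h4 : sr i * r j ∈ H := H.mul_mem hi hj
          rw [sr_mul_r] at h4
          have : i + j = k := by rw [← this]; ring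
          rwa [this] at h4

end Cfsg.Agent.S3920
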