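import Cfsg.Statements.S3937
import Mathlib
import Cfsg.Agent.S3743
import Cfsg.Agent.Lib.Lead_Zipper
import Cfsg.Agent.Lib.Lead_Schmidt
import Cfsg.Agent.Lib.Lead_Fitting
import Cfsg.Agent.Lib.Lead_MinNonAb

set_option autoImplicit false
open Cfsg

namespace Cfsg.Agent.S3937

open Cfsg.Agent.Lib.Lead_SZ Cfsg.Agent.Lib.Lead_Zipper Cfsg.Agent.Lib.Lead_Schmidt Cfsg.Agent.Lib.Lead_Fitting Cfsg.Agent.Lib.Lead_MinNonAb

open scoped Pointwise

universe u

/-- iterated commutator `[x, g, g, …, g]` -/
def eng {G : Type*} [Group G] (g : G) (n : ℕ) (x : G) : G :=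
  (List.replicate n g).foldl (fun a b => a * b * a⁻¹ * b⁻¹) x

theorem eng_zero {G : Type*} [Group G] (g x : G) : eng g 0 x = x := rfl

theorem eng_succ {G : Type*} [Group G] (g x : G) (n : ℕ) :
    eng g (n + 1) x = eng g n (x * g * x⁻¹ * g⁻¹) := by
  simp [eng, List.replicate_succ]

theorem coe_eng {G : Type*} [Group G] (H : Subgroup G) (g : H) (n : ℕ) (x : H) :
    ((eng g n x : H) : G) = eng (g : G) n (x : G) := by
  induction n generalizing x with
  | zero => rfl
  | succ n ih =>
    rw [eng_succ, eng_succ, ih]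
    rfl

theorem engel_subnormal : ∀ (n : ℕ) (G : Type u) [Group G] [Finite G], Nat.card G = n →
    ∀ g : G, (∀ x : G, ∃ k, eng g k x = 1) → (Subgroup.zpowers g).IsSubnormal := by
  intro n
  induction n using Nat.strong_induction_on with
  | _ n ih =>
  intro G _ _ hn g hg
  by_contra hns
  set A := Subgroup.zpowers g with hA
  have hgA : g ∈ A := Subgroup.mem_zpowers g
  have hyp : ∀ H : Subgroup G, A ≤ H → H ≠ ⊤ → (A.subgroupOf H).IsSubnormal := by
    intro H hAH hH
    have hlt : Nat.card H < n := by
      rw [← hn, ← Subgroup.card_top (G := G)]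
      exact card_lt (lt_top_iff_ne_top.mpr hH)
    have h1 := ih _ hlt H rfl ⟨g, hAH hgA⟩ (by
      intro x
      obtain ⟨k, hk⟩ := hg (x : G)
      refine ⟨k, ?_⟩
      apply Subtype.ext
      rw [coe_eng]
      exact hk)
    have h2 : A.subgroupOf H = Subgroup.zpowers (⟨g, hAH hgA⟩ : H) := by
      ext y
      rw [Subgroup.mem_subgroupOf, hA, Subgroup.mem_zpowers_iff, Subgroup.mem_zpowers_iff]
      constructor
      · rintro ⟨k, hk⟩
        exact ⟨k, Subtype.ext (by simpa using hk)⟩
      · rintro ⟨k, hk⟩
        refine ⟨k, ?_⟩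
        have := congrArg Subtype.val hk
        simpa using this
    rw [h2]
    exact h1
  have hAtop : A ≠ ⊤ := fun h => hns (h ▸ Subgroup.IsSubnormal.top)
  obtain ⟨M, hM, hAM⟩ := (eq_top_or_exists_le_coatom A).resolve_left hAtop
  have huniq := zipper _ A rfl hyp hns
  have hMn : ¬ M.Normal := by
    intro hMn
    exact hns (Subgroup.IsSubnormal.trans hAM (hyp M hAM hM.1) hMn.isSubnormal)
  have hNM : Subgroup.normalizer (M : Set G) = M := by
    rcases hM.le_iff.mp (Subgroup.le_normalizer : M ≤ Subgroup.normalizer (M : Set G)) with h | h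
    · exact absurd (Subgroup.normalizer_eq_top_iff.mp h) hMn
    · exact h
  have key : ∀ k x, eng g k x = 1 → x ∈ M := by
    intro k
    induction k with
    | zero =>
      intro x hx
      rw [eng_zero] at hx
      rw [hx]
      exact M.one_mem
    | succ k ihk =>
      intro x hx
      rw [eng_succ] at hx
      have h1 := ihk _ hx
      have h2 : x * g * x⁻¹ ∈ M := by
        have := M.mul_mem h1 (hAM hgA)
        simpa [mul_assoc] using this
      have h3 : A ≤ MulAut.conj x⁻¹ • M := by
        rw [hA, Subgroup.zpowers_le, mem_conj_smul]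
        simpa [mul_assoc] using h2
      have h4 := huniq _ M (isCoatom_conj hM x⁻¹) hM h3 hAM
      have h5 : x⁻¹ ∈ Subgroup.normalizer (M : Set G) := conj_smul_le_normalizer.mpr h4
      rw [hNM] at h5
      have := M.inv_mem h5
      simpa using this
  obtain ⟨x, hx⟩ := SetLike.exists_not_mem_of_ne_top M hM.1 rfl
  obtain ⟨k, hk⟩ := hg x
  exact hx (key k x hk)


/-- Baer's characterization of the Fitting subgroup: in a finite group G, an element g lies in the Fitting subgroup if and only if g is a left Engel element, that is, for every x there is n with [x, g, g, …, g] = 1 (n entries g, [a, b] = aba⁻¹b⁻¹). -/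
theorem result {G : Type*} [Group G] [Finite G] (g : G) :
    g ∈ Cfsg.fittingSubgroup G ↔ ∀ x : G, ∃ n : ℕ, (List.replicate n g).foldl (fun a b => a * b * a⁻¹ * b⁻¹) x = 1 := by
  constructor
  · intro hg x
    rw [fitting_eq] at hg
    have hnil := F0_nilpotent G
    obtain ⟨n, hn⟩ := (Subgroup.isNilpotent_iff_lowerCentralSeries (F0 G)).mp hnil
    have hx1 : x * g * x⁻¹ * g⁻¹ ∈ F0 G :=
      (F0 G).mul_mem ((F0_normal G).conj_mem g hg x) ((F0 G).inv_mem hg)
    have claim : ∀ (k i : ℕ) (y : G), y ∈ (F0 G).lowerCentralSeries i →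
        eng g k y ∈ (F0 G).lowerCentralSeries (i + k) := by
      intro k
      induction k with
      | zero => intro i y hy; exact hy
      | succ k ih =>
        intro i y hy
        rw [eng_succ]
        have h1 : y * g * y⁻¹ * g⁻¹ ∈ (F0 G).lowerCentralSeries (i + 1) := by
          rw [Subgroup.lowerCentralSeries_succ, ← commutatorElement_def]
          exact Subgroup.commutator_mem_commutator hy hg
        have h2 := ih (i + 1) _ h1
        have e : i + 1 + k = i + (k + 1) := by omega
        rw [e] at h2
        exact h2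
    have h2 := claim n 0 (x * g * x⁻¹ * g⁻¹) hx1
    rw [zero_add, hn, Subgroup.mem_bot] at h2
    refine ⟨n + 1, ?_⟩
    show eng g (n + 1) x = 1
    rw [eng_succ]
    exact h2
  · intro hg
    have hsn := engel_subnormal _ G rfl g hg
    have hnil : Group.IsNilpotent (Subgroup.zpowers g) :=
      nilpotent_of_isMulCommutative inferInstance
    exact ((Cfsg.Agent.S3743.result _ hsn).1 hnil) (Subgroup.mem_zpowers g)

end Cfsg.Agent.S3937
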