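import Cfsg.Statements.S3939
import Mathlib
import Cfsg.Agent.Lib.Lead_MinNonNil
import Cfsg.Agent.Lib.Helper4_Kieler0
import Cfsg.Agent.Lib.Lead_Schmidt

set_option autoImplicit false
open Cfsg

namespace Cfsg.Agent.S3939

open Cfsg.Agent.Lib.Lead_SZ Cfsg.Agent.Lib.Lead_MinNonNil Cfsg.Agent.Lib.Helper4_Kieler0

open scoped Pointwise commutatorElement

universe u

/-- the two-generator nilpotency property -/
def NP {G : Type*} [Group G] (g : G) : Prop :=
  ∀ x : G, Group.IsNilpotent ↥(Subgroup.closure ({x, g} : Set G))

theorem nilpotent_of_le' {G : Type*} [Group G] {A B : Subgroup G} (hAB : A ≤ B)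
    (h : Group.IsNilpotent B) : Group.IsNilpotent A :=
  Cfsg.Agent.Lib.Lead_Schmidt.isNilpotent_of_le hAB h

theorem NP_pow {G : Type*} [Group G] {g : G} (h : NP g) (k : ℕ) : NP (g ^ k) := by
  intro x
  refine nilpotent_of_le' ?_ (h x)
  rw [Subgroup.closure_le]
  intro y hy
  rcases hy with rfl | hy
  · exact Subgroup.subset_closure (Set.mem_insert _ _)
  · rw [Set.mem_singleton_iff] at hy
    rw [hy]
    have hgc : g ∈ Subgroup.closure ({x, g} : Set G) :=
      Subgroup.subset_closure (Set.mem_insert_of_mem _ rfl)
    exact Subgroup.pow_mem _ hgc k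

theorem NP_map {G Q : Type*} [Group G] [Group Q] (f : G →* Q) (hf : Function.Surjective f) {g : G}
    (h : NP g) : NP (f g) := by
  intro y
  obtain ⟨x, rfl⟩ := hf y
  have h1 : Subgroup.closure ({f x, f g} : Set Q) = (Subgroup.closure ({x, g} : Set G)).map f := by
    rw [MonoidHom.map_closure, Set.image_pair]
  rw [h1]
  haveI := h x
  exact Group.nilpotent_of_surjective (f.subgroupMap _) (f.subgroupMap_surjective _)

theorem NP_conj {G : Type*} [Group G] {g : G} (h : NP g) (c : G) : NP (c * g * c⁻¹) := by
  have := NP_map (MulAut.conj c).toMonoidHom (MulAut.conj c).surjective h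
  simpa using this

/-- a `p`-element with the property commutes with every `q`-element, `q ≠ p` -/
theorem NP_commute {G : Type*} [Group G] [Finite G] {p q : ℕ} [hp : Fact p.Prime] [hq : Fact q.Prime]
    (hpq : p ≠ q) {g : G} (h : NP g)
    (hg : ∃ k, orderOf g = p ^ k) (x : G) (hx : ∃ k, orderOf x = q ^ k) : g * x = x * g := by
  obtain ⟨k, hk⟩ := hg
  obtain ⟨j, hj⟩ := hx
  have hA : IsPGroup p (Subgroup.zpowers g) := IsPGroup.of_card (n := k) (by rw [Nat.card_zpowers, hk])
  have hB : IsPGroup q (Subgroup.zpowers x) := IsPGroup.of_card (n := j) (by rw [Nat.card_zpowers, hj])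
  have hxN : x ∈ Subgroup.closure ({x, g} : Set G) := Subgroup.subset_closure (Set.mem_insert _ _)
  have hgN : g ∈ Subgroup.closure ({x, g} : Set G) :=
    Subgroup.subset_closure (Set.mem_insert_of_mem _ rfl)
  exact commute_of_nilpotent hpq (h x) hA hB ((Subgroup.zpowers_le).mpr hgN)
    ((Subgroup.zpowers_le).mpr hxN) (Subgroup.mem_zpowers g) (Subgroup.mem_zpowers x)

theorem main : ∀ (n : ℕ) (G : Type u) [Group G] [Finite G], Nat.card G = n → ∀ g : G, NP g →
    g ∈ ⨆ k : ℕ, Subgroup.upperCentralSeries G k := by
  intro n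
  induction n using Nat.strong_induction_on with
  | _ n ih =>
  intro G _ _ hn g hg
  classical
  by_cases hZ : Subgroup.center G = ⊥
  · have hg1 : g = 1 := by
      by_contra hg1
      have ho1 : orderOf g ≠ 1 := fun h => hg1 (orderOf_eq_one_iff.mp h)
      obtain ⟨p, hp, hpg⟩ := Nat.exists_prime_and_dvd ho1
      haveI := Fact.mk hp
      set g₀ := g ^ (orderOf g / p) with hg₀
      have ho : orderOf g₀ = p := orderOf_pow_orderOf_div (orderOf_pos g).ne' hpg
      have hNP₀ : NP g₀ := NP_pow hg _
      have hzp : IsPGroup p (Subgroup.zpowers g₀) :=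
        IsPGroup.of_card (n := 1) (by rw [Nat.card_zpowers, ho, pow_one])
      obtain ⟨P, hP⟩ := hzp.exists_le_sylow
      have hg₀P : g₀ ∈ (P : Subgroup G) := hP (Subgroup.mem_zpowers g₀)
      set T := Subgroup.normalClosure ({(⟨g₀, hg₀P⟩ : (P : Subgroup G))} : Set (P : Subgroup G)) with hT
      have hTne : T ≠ ⊥ := by
        intro hb
        have h1 : (⟨g₀, hg₀P⟩ : (P : Subgroup G)) ∈ T :=
          Subgroup.subset_normalClosure (Set.mem_singleton _)
        rw [hb, Subgroup.mem_bot] at h1
        have h2 : g₀ = 1 := congrArg Subtype.val h1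
        rw [← orderOf_eq_one_iff, ho] at h2
        exact hp.one_lt.ne' h2
      haveI : Group.IsNilpotent (P : Subgroup G) := P.isPGroup'.isNilpotent
      obtain ⟨a, haT, haZ, ha1⟩ := normal_inf_center_ne_bot' T hTne
      set S : Set G := {x | ∃ q k : ℕ, q.Prime ∧ q ≠ p ∧ orderOf x = q ^ k} with hS
      have hTD : T ≤ (Subgroup.centralizer S).comap (P : Subgroup G).subtype := by
        rw [hT, Subgroup.normalClosure, Subgroup.closure_le]
        intro b hb
        rw [Group.mem_conjugatesOfSet_iff] at hb
        obtain ⟨b₀, hb₀, hconj⟩ := hb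
        rw [Set.mem_singleton_iff] at hb₀
        subst hb₀
        obtain ⟨c, hc⟩ := isConj_iff.mp hconj
        show ((b : G)) ∈ Subgroup.centralizer S
        rw [Subgroup.mem_centralizer_iff]
        rintro x ⟨q, k, hq, hqp, hxo⟩
        haveI := Fact.mk hq
        have hb' : (b : G) = (c : G) * g₀ * (c : G)⁻¹ := by
          rw [← hc]; rfl
        have hNPb : NP (b : G) := hb' ▸ NP_conj hNP₀ (c : G)
        have hbo : orderOf (b : G) = p ^ 1 := by
          have h5 := MulEquiv.orderOf_eq (MulAut.conj (c : G)) g₀
          rw [MulAut.conj_apply] at h5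
          rw [hb', pow_one, h5, ho]
        exact (NP_commute (Ne.symm hqp) hNPb ⟨1, hbo⟩ x ⟨k, hxo⟩).symm
      have haD : (a : G) ∈ Subgroup.centralizer S := hTD haT
      have hcen : Subgroup.centralizer ({(a : G)} : Set G) = ⊤ := by
        apply eq_top_of_forall_sylow_le
        intro r hr
        by_cases hrp : r = p
        · subst hrp
          refine ⟨P, ?_⟩
          intro y hy
          rw [Subgroup.mem_centralizer_singleton_iff]
          have h1 := Subgroup.mem_center_iff.mp haZ ⟨y, hy⟩
          have h2 := congrArg Subtype.val h1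
          first | exact h2 | exact h2.symm
        · refine ⟨default, ?_⟩
          intro y hy
          rw [Subgroup.mem_centralizer_singleton_iff]
          obtain ⟨k, hk⟩ := (IsPGroup.iff_orderOf.mp (default : Sylow r G).isPGroup') ⟨y, hy⟩
          rw [Subgroup.orderOf_mk] at hk
          have hyS : y ∈ S := ⟨r, k, hr.out, hrp, hk⟩
          have h1 := Subgroup.mem_centralizer_iff.mp haD y hyS
          first | exact h1 | exact h1.symm
      have haG : (a : G) ∈ Subgroup.center G := by
        rw [Subgroup.mem_center_iff]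
        intro y
        have h1 : y ∈ Subgroup.centralizer ({(a : G)} : Set G) := by rw [hcen]; exact Subgroup.mem_top y
        rw [Subgroup.mem_centralizer_singleton_iff] at h1
        first | exact h1 | exact h1.symm
      rw [hZ, Subgroup.mem_bot] at haG
      exact ha1 (Subtype.ext haG)
    rw [hg1]
    exact Subgroup.one_mem _
  · have hlt : Nat.card (G ⧸ Subgroup.center G) < n := by
      rw [← hn, Subgroup.card_eq_card_quotient_mul_card_subgroup (Subgroup.center G)]
      have h1 : 1 < Nat.card (Subgroup.center G) := by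
        rw [Subgroup.one_lt_card_iff_ne_bot]; exact hZ
      exact lt_mul_of_one_lt_right Nat.card_pos h1
    have h1 := ih _ hlt (G ⧸ Subgroup.center G) rfl (QuotientGroup.mk' _ g)
      (NP_map _ (QuotientGroup.mk'_surjective _) hg)
    have hdir : Directed (· ≤ ·) (fun k : ℕ => Subgroup.upperCentralSeries (G ⧸ Subgroup.center G) k) :=
      Monotone.directed_le (Subgroup.upperCentralSeries_mono _)
    obtain ⟨k, hk⟩ := (Subgroup.mem_iSup_of_directed hdir).mp h1
    have h2 : g ∈ Subgroup.upperCentralSeries G k.succ := by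
      rw [← Subgroup.comap_upperCentralSeries_quotient_center]
      exact hk
    exact (le_iSup (fun k : ℕ => Subgroup.upperCentralSeries G k) k.succ) h2


/-- In a finite group G the set of elements g such that the subgroup generated by g and x is nilpotent for every x ∈ G is exactly the hypercenter of G (the last term of the upper central series). -/
theorem result {G : Type*} [Group G] [Finite G] (g : G) :
    (∀ x : G, Group.IsNilpotent ↥(Subgroup.closure ({x, g} : Set G))) ↔ g ∈ ⨆ n : ℕ, Subgroup.upperCentralSeries G n := by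
  constructor
  · intro h
    exact main _ G rfl g h
  · intro hg x
    have hdir : Directed (· ≤ ·) (fun k : ℕ => Subgroup.upperCentralSeries G k) :=
      Monotone.directed_le (Subgroup.upperCentralSeries_mono _)
    obtain ⟨n, hn⟩ := (Subgroup.mem_iSup_of_directed hdir).mp hg
    set H := Subgroup.closure ({x, g} : Set G) with hH
    have hxH : x ∈ H := Subgroup.subset_closure (Set.mem_insert _ _)
    have hgH : g ∈ H := Subgroup.subset_closure (Set.mem_insert_of_mem _ rfl)
    have claimA : ∀ (k : ℕ) (h : H), (h : G) ∈ Subgroup.upperCentralSeries G k →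
        h ∈ Subgroup.upperCentralSeries H k := by
      intro k
      induction k with
      | zero =>
        intro h hh
        rw [Subgroup.upperCentralSeries_zero, Subgroup.mem_bot] at hh ⊢
        exact Subtype.ext hh
      | succ k ihk =>
        intro h hh
        rw [Subgroup.mem_upperCentralSeries_succ_iff] at hh ⊢
        intro y
        exact ihk _ (hh (y : G))
    set Z := Subgroup.upperCentralSeries H n with hZ
    have hgZ : (⟨g, hgH⟩ : H) ∈ Z := claimA n _ hn
    have hcyc : ∀ (y : G) (hy : y ∈ H), (QuotientGroup.mk' Z ⟨y, hy⟩) ∈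
        Subgroup.zpowers (QuotientGroup.mk' Z ⟨x, hxH⟩) := by
      intro y hy
      induction hy using Subgroup.closure_induction with
      | mem y hy =>
        rcases hy with rfl | hy
        · exact Subgroup.mem_zpowers _
        · rw [Set.mem_singleton_iff] at hy
          subst hy
          have : QuotientGroup.mk' Z ⟨y, hgH⟩ = 1 := (QuotientGroup.eq_one_iff _).mpr hgZ
          rw [this]
          exact Subgroup.one_mem _
      | one => exact Subgroup.one_mem _
      | mul a b ha hb iha ihb =>
        have : QuotientGroup.mk' Z ⟨a * b, H.mul_mem ha hb⟩ =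
            QuotientGroup.mk' Z ⟨a, ha⟩ * QuotientGroup.mk' Z ⟨b, hb⟩ := rfl
        rw [this]
        exact Subgroup.mul_mem _ iha ihb
      | inv a ha iha =>
        have : QuotientGroup.mk' Z ⟨a⁻¹, H.inv_mem ha⟩ = (QuotientGroup.mk' Z ⟨a, ha⟩)⁻¹ := rfl
        rw [this]
        exact Subgroup.inv_mem _ iha
    refine ⟨⟨n + 1, ?_⟩⟩
    rw [eq_top_iff]
    intro h _
    rw [Subgroup.mem_upperCentralSeries_succ_iff]
    intro y
    have h1 := hcyc h h.2
    have h2 := hcyc y y.2
    obtain ⟨i, hi⟩ := Subgroup.mem_zpowers_iff.mp h1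
    obtain ⟨j, hj⟩ := Subgroup.mem_zpowers_iff.mp h2
    have h3 : QuotientGroup.mk' Z ⁅h, y⁆ = 1 := by
      rw [map_commutatorElement]
      have e1 : QuotientGroup.mk' Z h = QuotientGroup.mk' Z ⟨(h : G), h.2⟩ := rfl
      have e2 : QuotientGroup.mk' Z y = QuotientGroup.mk' Z ⟨(y : G), y.2⟩ := rfl
      rw [e1, e2, ← hi, ← hj, commutatorElement_eq_one_iff_commute]
      exact (Commute.refl _).zpow_zpow i j
    exact (QuotientGroup.eq_one_iff _).mp h3

end Cfsg.Agent.S3939
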