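import Cfsg.Statements.S3941
import Mathlib
import Cfsg.Agent.Lib.Helper5_PClosed

set_option autoImplicit false
open Cfsg

namespace Cfsg.Agent.S3941

/-- Let n ≥ 5 and p an odd prime with p ≤ n, and suppose that every proper subgroup of the alternating group of degree n whose order is divisible by p has a normal Sylow p-subgroup. Then n = p. -/
theorem result (n p : ℕ) (hn : 5 ≤ n) [Fact p.Prime] (hp : p ≠ 2) (hpn : p ≤ n)
    (h : ∀ H : Subgroup ↥(alternatingGroup (Fin n)), H ≠ ⊤ → p ∣ Nat.card ↥H → Cfsg.IsPClosed p ↥H) : n = p := by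
  classical
  by_contra hne
  have hlt : p < n := lt_of_le_of_ne hpn (Ne.symm hne)
  haveI : NeZero n := ⟨by omega⟩
  have hpp : p.Prime := Fact.out
  have hp3 : 3 ≤ p := by
    have := hpp.two_le
    omega
  let last : Fin n := ⟨n - 1, by omega⟩
  let a0 : Fin n := ⟨0, by omega⟩
  let a1 : Fin n := ⟨1, by omega⟩
  let a2 : Fin n := ⟨2, by omega⟩
  let a3 : Fin n := ⟨3, by omega⟩
  have h01 : a0 ≠ a1 := by simp [a0, a1, Fin.ext_iff]
  have h02 : a0 ≠ a2 := by simp [a0, a2, Fin.ext_iff]
  have h03 : a0 ≠ a3 := by simp [a0, a3, Fin.ext_iff]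
  have h12 : a1 ≠ a2 := by simp [a1, a2, Fin.ext_iff]
  have h13 : a1 ≠ a3 := by simp [a1, a3, Fin.ext_iff]
  have h23 : a2 ≠ a3 := by simp [a2, a3, Fin.ext_iff]
  have h0l : a0 ≠ last := by simp [a0, last, Fin.ext_iff]; omega
  have h1l : a1 ≠ last := by simp [a1, last, Fin.ext_iff]; omega
  have h2l : a2 ≠ last := by simp [a2, last, Fin.ext_iff]; omega
  have h3l : a3 ≠ last := by simp [a3, last, Fin.ext_iff]; omega
  let K : Subgroup (alternatingGroup (Fin n)) :=
    (MulAction.stabilizer (Equiv.Perm (Fin n)) last).subgroupOf (alternatingGroup (Fin n))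
  have memK : ∀ g : alternatingGroup (Fin n), g ∈ K ↔ (g : Equiv.Perm (Fin n)) last = last := by
    intro g
    simp [K, Subgroup.mem_subgroupOf, MulAction.mem_stabilizer_iff]
  have hsw : ∀ a b : Fin n, a ≠ last → b ≠ last → Equiv.swap a b last = last :=
    fun a b ha hb => Equiv.swap_apply_of_ne_of_ne (Ne.symm ha) (Ne.symm hb)
  -- K ≠ ⊤
  have hKtop : K ≠ ⊤ := by
    intro htop
    have heven : Equiv.swap a0 last * Equiv.swap a0 a1 ∈ alternatingGroup (Fin n) := by
      rw [Equiv.Perm.mem_alternatingGroup, Equiv.Perm.sign_mul, Equiv.Perm.sign_swap h0l,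
        Equiv.Perm.sign_swap h01]
      decide
    have hmem : (⟨_, heven⟩ : alternatingGroup (Fin n)) ∈ K := htop ▸ Subgroup.mem_top _
    rw [memK] at hmem
    simp only [Equiv.Perm.coe_mul, Function.comp_apply] at hmem
    rw [hsw a0 a1 h0l h1l, Equiv.swap_apply_right] at hmem
    exact h0l hmem
  -- general extraction
  have main : ∀ (x y t : Equiv.Perm (Fin n)) (q : ℕ), x ∈ alternatingGroup (Fin n) →
      y ∈ alternatingGroup (Fin n) → x last = last → y last = last → x ^ p = 1 → y ^ p = 1 →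
      x ≠ 1 → x * y = t → t ^ q = 1 → Nat.Coprime q p → t ≠ 1 → False := by
    intro x y t q hxA hyA hxl hyl hxp hyp hx1 hxy htq hqp ht1
    have hxK : (⟨x, hxA⟩ : alternatingGroup (Fin n)) ∈ K := (memK _).mpr hxl
    have hyK : (⟨y, hyA⟩ : alternatingGroup (Fin n)) ∈ K := (memK _).mpr hyl
    have hxp' : (⟨x, hxA⟩ : alternatingGroup (Fin n)) ^ p = 1 := Subtype.ext (by simpa using hxp)
    have hyp' : (⟨y, hyA⟩ : alternatingGroup (Fin n)) ^ p = 1 := Subtype.ext (by simpa using hyp)
    have hdvd : p ∣ Nat.card ↥K :=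
      Cfsg.Agent.Lib.Helper5_PClosed.dvd_card_of K _ hxK hxp'
        (fun h1 => hx1 (congrArg Subtype.val h1))
    have hc := h K hKtop hdvd
    obtain ⟨k, hk⟩ := Cfsg.Agent.Lib.Helper5_PClosed.pelem_mul K hc _ _ hxK hyK
      ⟨1, by rw [pow_one]; exact hxp'⟩ ⟨1, by rw [pow_one]; exact hyp'⟩
    have hk' : (x * y) ^ (p ^ k) = 1 := by
      have := congrArg Subtype.val hk
      simpa using this
    rw [hxy] at hk'
    exact ht1 (Cfsg.Agent.Lib.Helper5_PClosed.eq_one_of_coprime t htq hqp ⟨k, hk'⟩)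
  by_cases hp3' : p = 3
  · -- p = 3
    subst hp3'
    have hx3 : Equiv.Perm.IsThreeCycle (Equiv.swap a1 a0 * Equiv.swap a1 a2) :=
      Equiv.Perm.isThreeCycle_swap_mul_swap_same (Ne.symm h01) h12 h02
    have hy3 : Equiv.Perm.IsThreeCycle (Equiv.swap a2 a1 * Equiv.swap a2 a3) :=
      Equiv.Perm.isThreeCycle_swap_mul_swap_same (Ne.symm h12) h23 h13
    refine main (Equiv.swap a1 a0 * Equiv.swap a1 a2) (Equiv.swap a2 a1 * Equiv.swap a2 a3)
      (Equiv.swap a0 a1 * Equiv.swap a2 a3) 2 hx3.mem_alternatingGroup hy3.mem_alternatingGroup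
      ?_ ?_ ?_ ?_ ?_ ?_ ?_ (by decide) ?_
    · simp only [Equiv.Perm.coe_mul, Function.comp_apply]
      rw [hsw a1 a2 h1l h2l, hsw a1 a0 h1l h0l]
    · simp only [Equiv.Perm.coe_mul, Function.comp_apply]
      rw [hsw a2 a3 h2l h3l, hsw a2 a1 h2l h1l]
    · rw [← hx3.orderOf]; exact pow_orderOf_eq_one _
    · rw [← hy3.orderOf]; exact pow_orderOf_eq_one _
    · intro h1
      have := hx3.orderOf
      rw [h1, orderOf_one] at this
      omega
    · rw [Equiv.swap_comm a1 a0, Equiv.swap_comm a2 a1, mul_assoc, ← mul_assoc (Equiv.swap a1 a2),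
        Equiv.swap_mul_self, one_mul]
    · have hcomm : Commute (Equiv.swap a0 a1) (Equiv.swap a2 a3) :=
        (Equiv.Perm.disjoint_swap_swap (x := a0) (y := a1) (z := a2) (t := a3)
          (by
            simp only [List.nodup_cons, List.mem_cons, List.not_mem_nil, or_false, not_or,
              List.nodup_nil, and_true, not_false_eq_true]
            exact ⟨⟨h01, h02, h03⟩, ⟨h12, h13⟩, h23⟩)).commute
      rw [hcomm.mul_pow, sq, sq, Equiv.swap_mul_self, Equiv.swap_mul_self, one_mul]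
    · intro h1
      have := congrArg (fun f : Equiv.Perm (Fin n) => f a0) h1
      simp only [Equiv.Perm.coe_mul, Function.comp_apply, Equiv.Perm.coe_one, id_eq] at this
      rw [Equiv.swap_apply_of_ne_of_ne h02 h03, Equiv.swap_apply_left] at this
      exact h01 this.symm
  · -- p ≥ 5
    have hp5 : 5 ≤ p := by
      rcases hpp.eq_two_or_odd' with h2 | hodd
      · exact absurd h2 hp
      · obtain ⟨m, hm⟩ := hodd
        omega
    have hpodd : Odd p := hpp.odd_of_ne_two hp
    let ip : Fin n := ⟨p - 1, by omega⟩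
    have hip0 : ip ≠ 0 := by
      intro h0
      have := congrArg Fin.val h0
      simp [ip] at this
      omega
    let c : Equiv.Perm (Fin n) := Fin.cycleRange ip
    have hcord : orderOf c = p := by
      rw [← Equiv.Perm.lcm_cycleType, Fin.cycleType_cycleRange hip0]
      simp [ip]
      omega
    have hcp : c ^ p = 1 := by rw [← hcord]; exact pow_orderOf_eq_one _
    have hcA : c ∈ alternatingGroup (Fin n) := by
      rw [Equiv.Perm.mem_alternatingGroup, Fin.sign_cycleRange]
      have : Even (p - 1) := by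
        obtain ⟨m, hm⟩ := hpodd
        exact ⟨m, by omega⟩
      exact this.neg_one_pow
    have hcl : c last = last := Fin.cycleRange_of_gt (by
      rw [Fin.lt_def]; simp [ip, last]; omega)
    have hc0 : c a0 = a1 := by
      apply Fin.ext
      rw [Fin.coe_cycleRange_of_lt (by rw [Fin.lt_def]; simp [ip, a0]; omega)]
    have hc1 : c a1 = a2 := by
      apply Fin.ext
      rw [Fin.coe_cycleRange_of_lt (by rw [Fin.lt_def]; simp [ip, a1]; omega)]
    let τ : Equiv.Perm (Fin n) := Equiv.swap a0 a1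
    have hτl : τ last = last := hsw a0 a1 h0l h1l
    have hτ2 : τ * τ = 1 := Equiv.swap_mul_self a0 a1
    have hτinv : τ⁻¹ = τ := Equiv.swap_inv a0 a1
    have ht3 : Equiv.Perm.IsThreeCycle (Equiv.swap a1 a2 * Equiv.swap a1 a0) :=
      Equiv.Perm.isThreeCycle_swap_mul_swap_same h12 (Ne.symm h01) (Ne.symm h02)
    have hc1' : c ≠ 1 := by
      intro h1
      rw [h1, orderOf_one] at hcord
      omega
    refine main c (τ * c⁻¹ * τ⁻¹) (Equiv.swap a1 a2 * Equiv.swap a1 a0) 3 hcA ?_ hcl ?_ hcp ?_ hc1'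
      ?_ ?_ ?_ ?_
    · rw [Equiv.Perm.mem_alternatingGroup] at hcA ⊢
      rw [Equiv.Perm.sign_mul, Equiv.Perm.sign_mul, Equiv.Perm.sign_inv, Equiv.Perm.sign_inv, hcA]
      simp
    · simp only [Equiv.Perm.coe_mul, Function.comp_apply]
      rw [hτinv, hτl, Equiv.Perm.inv_eq_iff_eq.mpr hcl.symm, hτl]
    · rw [conj_pow, inv_pow, hcp, inv_one, mul_one, mul_inv_cancel]
    · have := Equiv.swap_apply_apply c a0 a1
      rw [hc0, hc1] at this
      rw [this, Equiv.swap_comm a1 a0, hτinv]
      simp only [τ, mul_assoc]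
    · rw [← ht3.orderOf]; exact pow_orderOf_eq_one _
    · rw [Nat.coprime_primes Nat.prime_three hpp]
      omega
    · intro h1
      have := ht3.orderOf
      rw [h1, orderOf_one] at this
      omega

end Cfsg.Agent.S3941
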