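import Cfsg.Statements.S3949
import Mathlib

set_option autoImplicit false
open Cfsg

namespace Cfsg.Agent.S3949

/-- iterating on an inverted element is repeated squaring -/
theorem iter_inverted {G : Type*} [Group G] (α : MulAut G) (k : ℕ) (g : G) (hg : α g = g⁻¹) :
    (fun c : G => c * (α c)⁻¹)^[k] g = g ^ (2 ^ k) := by
  induction k generalizing g with
  | zero => simp
  | succ k ih =>
    rw [Function.iterate_succ_apply]
    have h1 : g * (α g)⁻¹ = g ^ 2 := by rw [hg, inv_inv, sq]
    have h2 : α (g ^ 2) = (g ^ 2)⁻¹ := by rw [map_pow, hg, inv_pow]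
    show (fun c : G => c * (α c)⁻¹)^[k] (g * (α g)⁻¹) = _
    rw [h1, ih _ h2, ← pow_mul, pow_succ']

/-- Let G be a finite group and α an automorphism of G of order 2 such that the elements g·α(g)⁻¹ generate G. Let j be a positive integer such that 2^j divides the order of no element inverted by α. Then the set of values of the j-th iterate of the map c ↦ c·α(c)⁻¹ is exactly the set of elements of odd order inverted by α. -/
theorem result {G : Type*} [Group G] [Finite G] (α : MulAut G) (hα : orderOf α = 2) (hG : Subgroup.closure (Set.range (fun c : G => c * (α c)⁻¹)) = ⊤)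
    (j : ℕ) (hj : ∀ g : G, α g = g⁻¹ → ¬ 2 ^ j ∣ orderOf g) :
    Set.range ((fun c : G => c * (α c)⁻¹)^[j]) = {g : G | Odd (orderOf g) ∧ α g = g⁻¹} := by
  have hα2 : ∀ x : G, α (α x) = x := by
    intro x
    have h := pow_orderOf_eq_one α
    rw [hα] at h
    have : (α ^ 2) x = x := by rw [h]; rfl
    rw [sq] at this
    exact this
  have hφinv : ∀ c : G, α (c * (α c)⁻¹) = (c * (α c)⁻¹)⁻¹ := by
    intro c
    rw [map_mul, map_inv, hα2, mul_inv_rev, inv_inv]
  -- j is positive
  have hjpos : 0 < j := by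
    rcases Nat.eq_zero_or_pos j with h0 | hpos
    · exfalso
      refine hj 1 (by simp) ?_
      rw [h0]; simp
    · exact hpos
  obtain ⟨i, rfl⟩ : ∃ i, j = i + 1 := ⟨j - 1, by omega⟩
  ext x
  constructor
  · rintro ⟨c, rfl⟩
    rw [Function.iterate_succ_apply]
    show Odd (orderOf ((fun c : G => c * (α c)⁻¹)^[i] (c * (α c)⁻¹))) ∧ _
    rw [iter_inverted α i _ (hφinv c)]
    set g := c * (α c)⁻¹ with hg
    have hginv := hφinv c
    rw [← hg] at hginv
    refine ⟨?_, by rw [map_pow, hginv, inv_pow]⟩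
    have hn0 : orderOf g ≠ 0 := (orderOf_pos g).ne'
    obtain ⟨a, m, hm, hn⟩ := Nat.exists_eq_two_pow_mul_odd hn0
    have ha : a ≤ i := by
      by_contra hcon
      push Not at hcon
      apply hj g hginv
      rw [hn]
      exact Dvd.dvd.mul_right (pow_dvd_pow 2 hcon) m
    have hpow : (g ^ (2 ^ i)) ^ m = 1 := by
      rw [← pow_mul]
      have : 2 ^ i * m = orderOf g * 2 ^ (i - a) := by
        rw [hn]
        have : 2 ^ i = 2 ^ a * 2 ^ (i - a) := by rw [← pow_add]; congr 1; omega
        rw [this]; ring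
      rw [this, pow_mul, pow_orderOf_eq_one, one_pow]
    have hdvd := orderOf_dvd_of_pow_eq_one hpow
    exact Odd.of_dvd_nat hm hdvd
  · rintro ⟨hodd, hinv⟩
    have hcop : (2 ^ (i + 1)).Coprime (orderOf x) :=
      Nat.Coprime.pow_left _ (Nat.coprime_two_left.mpr hodd)
    obtain ⟨m, hm⟩ := exists_pow_eq_self_of_coprime hcop
    refine ⟨x ^ m, ?_⟩
    have hinv' : α (x ^ m) = (x ^ m)⁻¹ := by rw [map_pow, hinv, inv_pow]
    rw [iter_inverted α (i + 1) _ hinv', ← pow_mul, mul_comm, pow_mul]
    exact hm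

end Cfsg.Agent.S3949
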