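import Cfsg.Statements.S3952
import Mathlib
import Cfsg.Agent.Lib.Helper2_CharCentral

set_option autoImplicit false
open Cfsg

namespace Cfsg.Agent.S3952

open Cfsg.Agent.Lib.Helper2_CharOrtho
open Cfsg.Agent.Lib.Helper2_CharMore
open Cfsg.Agent.Lib.Helper2_CharCentral

universe u

/-- For an irreducible character `χ` and a subgroup `K` that is central and inside the commutator
subgroup: the central character `μ` of `χ` on `K` satisfies `μ ^ χ(1) = 1`. -/
theorem central_char {G : Type u} [Group G] (K : Subgroup G) (hc : K ≤ Subgroup.center G)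
    (hd : K ≤ commutator G) (χ : G → ℂ) (hχ : IsIrrCharacter G χ) :
    ∃ (n : ℕ) (μ : K →* ℂˣ), χ 1 = n ∧ (∀ z : K, χ z = n * (μ z : ℂ)) ∧ μ ^ n = 1 := by
  obtain ⟨n, hn, h1⟩ := IsIrrCharacter.apply_one hχ
  obtain ⟨n', ρ, hirr, rfl⟩ := hχ
  have hnn : n' = n := by
    rw [Representation.char_one] at h1
    simp at h1
    exact_mod_cast h1
  subst hnn
  have hinj : ∀ a b : ℂ, a • (LinearMap.id : (Fin n' → ℂ) →ₗ[ℂ] (Fin n' → ℂ)) = b • LinearMap.id →
      a = b := by
    intro a b h
    have := congrArg (fun T : (Fin n' → ℂ) →ₗ[ℂ] (Fin n' → ℂ) => T (fun _ => 1) ⟨0, hn⟩) h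
    simpa using this
  have hsc : ∀ z : K, ∃ c : ℂ, ρ (z : G) = c • LinearMap.id := by
    intro z
    apply schur_scalar ρ hirr
    intro g
    change ρ (z : G) * ρ g = ρ g * ρ (z : G)
    rw [← map_mul, ← map_mul]
    congr 1
    exact ((Subgroup.mem_center_iff.mp (hc z.2)) g).symm
  choose c hcz using hsc
  let μ0 : K →* ℂ :=
    { toFun := c
      map_one' := by
        apply hinj
        rw [← hcz 1, one_smul]
        change ρ (1 : G) = _
        rw [map_one]; rfl
      map_mul' := by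
        intro a b
        apply hinj
        rw [← hcz (a * b)]
        change ρ ((a : G) * (b : G)) = _
        rw [map_mul, hcz a, hcz b]
        ext v i
        simp
        ring }
  have hμ0 : ∀ z, μ0 z = c z := fun z => rfl
  refine ⟨n', μ0.toHomUnits, h1, ?_, ?_⟩
  · intro z
    rw [MonoidHom.coe_toHomUnits, hμ0]
    change LinearMap.trace ℂ _ (ρ (z : G)) = _
    rw [hcz z, map_smul, LinearMap.trace_id]
    simp [mul_comm]
  · ext z
    rw [MonoidHom.pow_apply, Units.val_pow_eq_pow_val, MonoidHom.coe_toHomUnits, hμ0]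
    simp only [MonoidHom.one_apply, Units.val_one]
    let D : G →* ℂ := (LinearMap.det : ((Fin n' → ℂ) →ₗ[ℂ] (Fin n' → ℂ)) →* ℂ).comp ρ
    have hD : D.toHomUnits (z : G) = 1 := by
      have := Abelianization.commutator_subset_ker D.toHomUnits (hd z.2)
      exact this
    have hD2 : D (z : G) = 1 := by
      have := congrArg Units.val hD
      rwa [MonoidHom.coe_toHomUnits] at this
    change LinearMap.det (ρ (z : G)) = 1 at hD2
    rw [hcz z, LinearMap.det_smul] at hD2
    simpa using hD2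

/-- Orthogonality for a linear character of a finite group. -/
theorem sum_hom {K : Type u} [Group K] [Fintype K] (μ : K →* ℂˣ) :
    ∑ z : K, (μ z : ℂ) = if μ = 1 then (Nat.card K : ℂ) else 0 := by
  split_ifs with h
  · subst h
    simp [Nat.card_eq_fintype_card]
  · have : ∃ b, μ b ≠ 1 := by
      by_contra hcon
      push Not at hcon
      exact h (MonoidHom.ext hcon)
    obtain ⟨b, hb⟩ := this
    have hsum : ∑ z : K, (μ z : ℂ) = (μ b : ℂ) * ∑ z : K, (μ z : ℂ) := by
      rw [Finset.mul_sum]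
      rw [← Equiv.sum_comp (Equiv.mulLeft b)]
      refine Finset.sum_congr rfl fun z _ => ?_
      simp [map_mul]
    have hb' : (μ b : ℂ) ≠ 1 := by
      intro h1
      exact hb (Units.ext h1)
    have : (1 - (μ b : ℂ)) * ∑ z : K, (μ z : ℂ) = 0 := by
      rw [sub_mul, one_mul, ← hsum, sub_self]
    rcases mul_eq_zero.mp this with h0 | h0
    · exact absurd (sub_eq_zero.mp h0).symm hb'
    · exact h0

theorem key {G : Type u} [Group G] [Finite G] (K : Subgroup G) (hc : K ≤ Subgroup.center G)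
    (hd : K ≤ commutator G) (lam : K →* ℂˣ) : orderOf lam ^ 2 ∣ K.index := by
  classical
  haveI : Fintype G := Fintype.ofFinite G
  have hall := fun χ (h : IsIrrCharacter G χ) => central_char K hc hd χ h
  choose! n μ h1 hz hpow using hall
  set e := orderOf lam with he
  -- the double sum
  have hA : ∑ z : K, ((lam z)⁻¹ : ℂˣ) * ∑ χ ∈ irrFinset G, χ (z : G) * χ 1 = (Nat.card G : ℂ) := by
    have : ∀ z : K, (((lam z)⁻¹ : ℂˣ) : ℂ) * ∑ χ ∈ irrFinset G, χ (z : G) * χ 1
        = if z = 1 then (Nat.card G : ℂ) else 0 := by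
      intro z
      rw [sum_irr_mul_deg]
      by_cases hz1 : z = 1
      · subst hz1
        simp
      · have : (z : G) ≠ 1 := fun h => hz1 (Subtype.ext h)
        rw [if_neg this, if_neg hz1, mul_zero]
    rw [Finset.sum_congr rfl fun z _ => this z]
    simp
  have hB : ∑ z : K, (((lam z)⁻¹ : ℂˣ) : ℂ) * ∑ χ ∈ irrFinset G, χ (z : G) * χ 1
      = ∑ χ ∈ irrFinset G, ((n χ : ℂ) ^ 2 * if lam⁻¹ * μ χ = 1 then (Nat.card K : ℂ) else 0) := by
    simp_rw [Finset.mul_sum]
    rw [Finset.sum_comm]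
    refine Finset.sum_congr rfl fun χ hχ => ?_
    have hχ' := mem_irrFinset.mp hχ
    rw [← sum_hom (lam⁻¹ * μ χ), Finset.mul_sum]
    refine Finset.sum_congr rfl fun z _ => ?_
    rw [hz χ hχ' z, h1 χ hχ']
    simp only [MonoidHom.mul_apply, MonoidHom.inv_apply, Units.val_mul]
    ring
  rw [hB] at hA
  -- every contributing χ has degree divisible by e
  have hdiv : ∀ χ ∈ irrFinset G, lam⁻¹ * μ χ = 1 → e ∣ n χ := by
    intro χ hχ heq
    have : μ χ = lam := by
      exact (inv_mul_eq_one.mp heq).symm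
    apply orderOf_dvd_of_pow_eq_one
    rw [← this]
    exact hpow χ (mem_irrFinset.mp hχ)
  have hC : ∑ χ ∈ irrFinset G, ((n χ : ℂ) ^ 2 * if lam⁻¹ * μ χ = 1 then (Nat.card K : ℂ) else 0)
      = ((Nat.card K * e ^ 2 * ∑ χ ∈ irrFinset G,
          (if lam⁻¹ * μ χ = 1 then (n χ / e) ^ 2 else 0) : ℕ) : ℂ) := by
    push_cast
    rw [Finset.mul_sum]
    refine Finset.sum_congr rfl fun χ hχ => ?_
    by_cases heq : lam⁻¹ * μ χ = 1
    · rw [if_pos heq, if_pos heq]
      obtain ⟨m, hm⟩ := hdiv χ hχ heq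
      have he0 : 0 < e := by
        rcases Nat.eq_zero_or_pos e with h0 | h0
        · rw [h0, zero_mul] at hm
          have := hpow χ (mem_irrFinset.mp hχ)
          exfalso
          have hn0 : (0 : ℕ) < n χ := by
            obtain ⟨k, hk, hk1⟩ := IsIrrCharacter.apply_one (mem_irrFinset.mp hχ)
            rw [h1 χ (mem_irrFinset.mp hχ)] at hk1
            have : n χ = k := by exact_mod_cast hk1
            omega
          omega
        · exact h0
      rw [hm, Nat.mul_div_cancel_left m he0]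
      push_cast
      ring
    · rw [if_neg heq, if_neg heq]
      simp
  rw [hC] at hA
  have hN : Nat.card K * e ^ 2 * ∑ χ ∈ irrFinset G,
      (if lam⁻¹ * μ χ = 1 then (n χ / e) ^ 2 else 0) = Nat.card G := by
    exact_mod_cast hA
  have hidx := K.card_mul_index
  rw [← hN] at hidx
  have hK0 : 0 < Nat.card K := Nat.card_pos
  have : K.index = e ^ 2 * ∑ χ ∈ irrFinset G,
      (if lam⁻¹ * μ χ = 1 then (n χ / e) ^ 2 else 0) := by
    apply Nat.eq_of_mul_eq_mul_left hK0
    rw [hidx]; ring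
  exact ⟨_, this⟩

open scoped IsMulCommutative in
theorem key2 {G : Type u} [Group G] [Finite G] (K : Subgroup G) (hc : K ≤ Subgroup.center G)
    (hd : K ≤ commutator G) : Monoid.exponent K ^ 2 ∣ K.index := by
  haveI : IsMulCommutative K :=
    ⟨⟨fun a b => Subtype.ext (show (a : G) * b = b * a from
      ((Subgroup.mem_center_iff.mp (hc b.2)) a))⟩⟩
  have hne : Monoid.exponent K ≠ 0 := Monoid.exponent_ne_zero_of_finite
  haveI : NeZero ((Monoid.exponent K : ℕ) : ℂ) := ⟨by exact_mod_cast hne⟩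
  obtain ⟨eqv⟩ := CommGroup.monoidHom_mulEquiv_of_hasEnoughRootsOfUnity K ℂ
  haveI : Finite (K →* ℂˣ) := Finite.of_equiv K eqv.symm.toEquiv
  obtain ⟨lam, hlam⟩ := Monoid.exists_orderOf_eq_exponent
    (Monoid.ExponentExists.of_finite (G := K →* ℂˣ))
  rw [Monoid.exponent_eq_of_mulEquiv eqv] at hlam
  rw [← hlam]
  exact key K hc hd lam

/-- If `A` is the Schur multiplier of the finite group `Q`, then the square of the exponent of `A` divides the order of `Q`. -/
theorem result {Q : Type*} [Group Q] [Finite Q] {A : Type*} [CommGroup A] (hA : Cfsg.HasSchurMultiplier Q A) : Monoid.exponent A ^ 2 ∣ Nat.card Q := by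
  obtain ⟨⟨Γ, _, _, σ, ⟨hsurj, hcen, hcomm⟩, ⟨eqv⟩⟩, -⟩ := hA
  rw [← Monoid.exponent_eq_of_mulEquiv eqv]
  have h := key2 σ.ker hcen hcomm
  rwa [Subgroup.index_ker, MonoidHom.range_eq_top.mpr hsurj, Subgroup.card_top] at h

end Cfsg.Agent.S3952
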