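import Cfsg.Statements.S3953
import Mathlib
import Cfsg.Agent.Lib.Helper6_Schur
import Cfsg.Agent.Lib.Helper6_Hopf
import Cfsg.Agent.Lib.Helper6_HopfTransfer

set_option autoImplicit false
open Cfsg

namespace Cfsg.Agent.S3953

open Cfsg.Agent.Lib.Helper6_Hopf Cfsg.Agent.Lib.Helper6_Perfect

universe u w

/-- the Hopf multiplier of a `p`-group is a `p`-group -/
theorem isPGroup_MM {Q : Type u} [Group Q] [Finite Q] {F : Type w} [Group F] (φ : F →* Q)
    (hφ : Function.Surjective φ) (p : ℕ) [hp : Fact p.Prime] (hQ : IsPGroup p Q) :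
    IsPGroup p (MM φ) := by
  haveI := Rb_finiteIndex φ
  haveI : (Subgroup.center (EE φ)).FiniteIndex := Subgroup.finiteIndex_of_le (Rb_le_center φ)
  have hidx : (Rb φ).index = Nat.card Q := by
    unfold Rb
    rw [Subgroup.index_ker, MonoidHom.range_eq_top.mpr (phib_surjective φ hφ), Subgroup.card_top]
  obtain ⟨k, hk⟩ := hQ.exists_card_eq
  have hdvd : (Subgroup.center (EE φ)).index ∣ p ^ k := by
    rw [← hk, ← hidx]
    exact Subgroup.index_dvd_of_le (Rb_le_center φ)
  obtain ⟨j, -, hj⟩ := (Nat.dvd_prime_pow hp.out).mp hdvd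
  haveI : Finite (commutator (EE φ)) := finite_commutator_of_finiteIndex_center (EE φ)
  haveI : Finite (commutatorSet (EE φ)) := by
    have hsub : commutatorSet (EE φ) ⊆ (commutator (EE φ) : Set (EE φ)) := by
      rw [commutator_eq_closure]
      exact Subgroup.subset_closure
    exact (Set.Finite.subset (Set.toFinite _) hsub).to_subtype
  have h1 := Subgroup.card_commutator_dvd_index_center_pow (EE φ)
  rw [hj, ← pow_mul] at h1
  obtain ⟨i, -, hi⟩ := (Nat.dvd_prime_pow hp.out).mp h1
  have h2 : IsPGroup p (commutator (EE φ)) := IsPGroup.of_card hi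
  exact h2.to_le (MM_le_commutator φ)

/-- Let `P` be a Sylow `p`-subgroup of the finite group `G`, let `A` be the Schur multiplier of `G` and `B` that of `P`. Then the `p`-primary component of `A` is isomorphic to a direct factor of `B`: there are subgroups `C` and `D` of `B` meeting trivially and generating `B`, with `C` isomorphic to the `p`-primary component of `A`. -/
theorem result {G : Type*} [Group G] [Finite G] (p : ℕ) [Fact p.Prime] (P : Sylow p G) {A B : Type*} [CommGroup A] [CommGroup B] (hA : Cfsg.HasSchurMultiplier G A) (hB : Cfsg.HasSchurMultiplier P B) : ∃ C D : Subgroup B, C ⊓ D = ⊥ ∧ C ⊔ D = ⊤ ∧ Nonempty (CommGroup.primaryComponent A p ≃* C) := by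
  classical
  let φ : FreeGroup G →* G := Cfsg.Agent.Lib.Helper6_Schur.phi G
  have hφ : Function.Surjective φ := Cfsg.Agent.Lib.Helper6_Schur.phi_surjective G
  have hidx : (SS φ (P : Subgroup G)).index = (P : Subgroup G).index :=
    Subgroup.index_comap_of_surjective _ hφ
  haveI : (SS φ (P : Subgroup G)).FiniteIndex := ⟨by
    rw [hidx]
    exact Subgroup.index_ne_zero_of_finite⟩
  haveI : Group.FG (FreeGroup G) := inferInstance
  haveI : Group.FG (SS φ (P : Subgroup G)) := inferInstance
  have hφS : Function.Surjective (phiS φ (P : Subgroup G)) := phiS_surjective φ _ hφ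
  obtain ⟨eA⟩ := equiv_MM_of_hasSchurMultiplier φ hφ hA
  obtain ⟨eB⟩ := equiv_MM_of_hasSchurMultiplier (phiS φ (P : Subgroup G)) hφS hB
  have hPB : IsPGroup p B :=
    (isPGroup_MM (phiS φ (P : Subgroup G)) hφS p P.isPGroup').of_equiv eB
  have hm : Nat.Coprime (SS φ (P : Subgroup G)).index p := by
    rw [hidx, Nat.coprime_comm]
    exact (Nat.Prime.coprime_iff_not_dvd Fact.out).mpr P.not_dvd_index
  let c : B →* A :=
    eA.toMonoidHom.comp ((corMM φ (P : Subgroup G)).comp eB.symm.toMonoidHom)
  let t : A →* B :=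
    eB.toMonoidHom.comp ((trMM φ (P : Subgroup G)).comp eA.symm.toMonoidHom)
  have hct : ∀ a, c (t a) = a ^ (SS φ (P : Subgroup G)).index := by
    intro a
    change eA (corMM φ _ (eB.symm (eB (trMM φ _ (eA.symm a))))) = _
    rw [MulEquiv.symm_apply_apply, corMM_trMM, map_pow, MulEquiv.apply_symm_apply]
  exact direct_factor p _ hm hPB c t hct

end Cfsg.Agent.S3953
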