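import Cfsg.Statements.S3954
import Mathlib
import Cfsg.Agent.Lib.Helper6_Schur
import Cfsg.Agent.Lib.Helper6_Schur2

set_option autoImplicit false
open Cfsg

namespace Cfsg.Agent.S3954

open Cfsg.Agent.Lib.Helper6_Schur

/-- Let `U` be a subgroup of index `m` in the finite group `G`, let `A` be the Schur multiplier of `G` and `B` that of `U`. Then the subgroup of `m`-th powers of `A` is isomorphic to a subgroup of `B`. -/
theorem result {G : Type*} [Group G] [Finite G] (U : Subgroup G) {A B : Type*} [CommGroup A] [CommGroup B] (hA : Cfsg.HasSchurMultiplier G A) (hB : Cfsg.HasSchurMultiplier U B) : ∃ C : Subgroup B, Nonempty ((powMonoidHom U.index : A →* A).range ≃* C) := by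
  classical
  obtain ⟨eB⟩ := equiv_MM_of_hasSchurMultiplier hB
  obtain ⟨⟨Γ, _, _, σ, ⟨hσs, hσc, hσst⟩, ⟨e⟩⟩, -⟩ := hA
  -- the preimage of `U` and the induced central extension
  let Ut : Subgroup Γ := U.comap σ
  let τ : Ut →* U := σ.subgroupComap U
  have hτs : Function.Surjective τ := σ.subgroupComap_surjective_of_surjective U hσs
  have hτker : ∀ x : Ut, x ∈ τ.ker ↔ (x : Γ) ∈ σ.ker := by
    intro x
    rw [MonoidHom.mem_ker, MonoidHom.mem_ker]
    constructor
    · intro h
      exact congrArg Subtype.val h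
    · intro h
      exact Subtype.ext h
  have hτc : τ.ker ≤ Subgroup.center Ut := by
    intro x hx
    have h1 : (x : Γ) ∈ Subgroup.center Γ := hσc ((hτker x).mp hx)
    rw [Subgroup.mem_center_iff] at h1 ⊢
    intro g
    exact Subtype.ext (h1 g)
  obtain ⟨ψb, hψ, hmap⟩ := exists_map_central τ hτs hτc
  have hidx : Ut.index = U.index := Subgroup.index_comap_of_surjective U hσs
  -- powers of kernel elements land in the commutator subgroup of the preimage of `U`
  have hpow : ∀ z : Γ, z ∈ σ.ker → ∀ hz : z ^ U.index ∈ Ut,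
      (⟨z ^ U.index, hz⟩ : Ut) ∈ commutator Ut := by
    intro z hz hzU
    have hzc : z ∈ Subgroup.center Γ := hσc hz
    have key : ∀ (k : ℕ) (g₀ : Γ), g₀⁻¹ * z ^ k * g₀ ∈ Ut → g₀⁻¹ * z ^ k * g₀ = z ^ k := by
      intro k g₀ _
      have hk : z ^ k ∈ Subgroup.center Γ := Subgroup.pow_mem _ hzc k
      have := Subgroup.mem_center_iff.mp hk g₀
      rw [mul_assoc, ← this, ← mul_assoc, inv_mul_cancel, one_mul]
    have h1 := MonoidHom.transfer_eq_pow (H := Ut) (Abelianization.of : Ut →* Abelianization Ut)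
      z key
    have h2 : MonoidHom.transfer (Abelianization.of : Ut →* Abelianization Ut) z = 1 := by
      have := Abelianization.commutator_subset_ker
        (MonoidHom.transfer (Abelianization.of : Ut →* Abelianization Ut)) (hσst hz)
      exact this
    rw [h2] at h1
    have h3 : (⟨z ^ Ut.index, MonoidHom.transfer_eq_pow_aux z key⟩ : Ut) ∈
        (Abelianization.of : Ut →* Abelianization Ut).ker := h1.symm
    rw [Abelianization.ker_of] at h3
    have h4 : (⟨z ^ U.index, hzU⟩ : Ut) = ⟨z ^ Ut.index, MonoidHom.transfer_eq_pow_aux z key⟩ := by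
      apply Subtype.ext
      change z ^ U.index = z ^ Ut.index
      rw [hidx]
    rw [h4]; exact h3
  -- the subgroup `X = ker τ ∩ Ut'`
  let X : Subgroup Ut := τ.ker ⊓ commutator Ut
  -- `B` maps onto `X`
  have hmapX : ∀ m : MM U, (ψb.comp (MM U).subtype) m ∈ X := by
    intro m
    have h1 : ψb m.1 ∈ (MM U).map ψb := ⟨m.1, m.2, rfl⟩
    rw [hmap] at h1
    exact h1
  let f₀ : MM U →* X := (ψb.comp (MM U).subtype).codRestrict X hmapX
  have hf₀ : Function.Surjective f₀ := by
    rintro ⟨x, hx⟩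
    have hx' : x ∈ (MM U).map ψb := by rw [hmap]; exact hx
    obtain ⟨m, hm, rfl⟩ := hx'
    exact ⟨⟨m, hm⟩, rfl⟩
  let f : B →* X := f₀.comp eB.symm.toMonoidHom
  have hf : Function.Surjective f := hf₀.comp eB.symm.surjective
  haveI : Finite (MM U) := inferInstance
  haveI : Finite B := Finite.of_equiv _ eB.toEquiv
  obtain ⟨g, hg⟩ := exists_injective_of_surjective f hf
  -- the powers of `A` embed in `X`
  let ι₀ : A →* Γ := σ.ker.subtype.comp e.symm.toMonoidHom
  have hι₀ : Function.Injective ι₀ := Subtype.val_injective.comp e.symm.injective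
  have hι₀ker : ∀ a, ι₀ a ∈ σ.ker := fun a => (e.symm a).2
  have hUt : ∀ a, ι₀ a ∈ Ut := by
    intro a
    change σ (ι₀ a) ∈ U
    rw [MonoidHom.mem_ker.mp (hι₀ker a)]
    exact U.one_mem
  let ι₁ : (powMonoidHom U.index : A →* A).range →* Ut :=
    (ι₀.comp (Subgroup.subtype _)).codRestrict Ut (fun y => hUt y.1)
  have hι₁X : ∀ y, ι₁ y ∈ X := by
    rintro ⟨y, a, rfl⟩
    refine ⟨(hτker _).mpr (hι₀ker _), ?_⟩
    have h1 : ι₀ (a ^ U.index) = (ι₀ a) ^ U.index := map_pow ι₀ a _
    have h2 : (ι₀ a) ^ U.index ∈ Ut := by rw [← h1]; exact hUt _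
    have h3 := hpow (ι₀ a) (hι₀ker a) h2
    have h4 : ι₁ ⟨(powMonoidHom U.index) a, ⟨a, rfl⟩⟩ = ⟨(ι₀ a) ^ U.index, h2⟩ := by
      apply Subtype.ext
      exact h1
    rw [h4]; exact h3
  let ι₂ : (powMonoidHom U.index : A →* A).range →* X := ι₁.codRestrict X hι₁X
  have hι₂ : Function.Injective ι₂ := by
    intro y₁ y₂ h
    have h1 : ι₀ y₁.1 = ι₀ y₂.1 := congrArg (fun x : X => ((x : Ut) : Γ)) h
    exact Subtype.ext (hι₀ h1)
  exact ⟨(g.comp ι₂).range, ⟨MonoidHom.ofInjective (hg.comp hι₂)⟩⟩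

end Cfsg.Agent.S3954
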