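import Cfsg.Statements.S3957
import Mathlib
import Cfsg.Agent.Lib.Helper6_Schur

set_option autoImplicit false
universe u v
open Cfsg

namespace Cfsg.Agent.S3957

open Cfsg.Agent.Lib.Helper6_Schur

/-- Let `Q` be a finite group with Schur multiplier `A` and let `τ : Δ →* Q` be a finite stem extension, `Δ` in the universe of `Q`. Then there is a finite stem extension `σ : Γ →* Q` with kernel isomorphic to `A` (a Schur covering group) and a surjective homomorphism `β : Γ →* Δ` with `τ ∘ β = σ`. -/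
theorem result {Q : Type u} [Group Q] [Finite Q] {A : Type v} [CommGroup A] (hA : Cfsg.HasSchurMultiplier Q A) {Δ : Type u} [Group Δ] [Finite Δ] (τ : Δ →* Q) (hτ : Cfsg.IsStemExtension τ) : ∃ (Γ : Type u) (_ : Group Γ) (_ : Finite Γ) (σ : Γ →* Q), Cfsg.IsStemExtension σ ∧ Nonempty (σ.ker ≃* A) ∧ ∃ β : Γ →* Δ, Function.Surjective β ∧ τ.comp β = σ := by
  obtain ⟨hτs, hτc, hτst⟩ := hτ
  obtain ⟨ψb, hψ⟩ := exists_lift Q τ hτs hτc
  have hsurj := lift_surjective hτc hτst ψb hψ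
  have hS : ψb.ker ≤ Rb Q := lift_ker_le ψb hψ
  haveI : (ψb.ker).FiniteIndex := ⟨by rw [Subgroup.index_ker]; exact Nat.card_pos.ne'⟩
  obtain ⟨C, hCS, hCM, hdecS⟩ := exists_complement_in ψb.ker hS
  have hCR : C ≤ Rb Q := hCS.trans hS
  haveI := normal_of_le_Rb C hCR
  have hdec : ∀ r ∈ Rb Q, ∃ c ∈ C, ∃ m ∈ MM Q, r = c * m := by
    intro r hr
    obtain ⟨m, hm, hmk⟩ := lift_MM_onto hτc hτst ψb hψ (ψb r) (lift_mem_ker ψb hψ r hr)
    have hs : r * m⁻¹ ∈ ψb.ker := by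
      rw [MonoidHom.mem_ker, map_mul, map_inv, hmk, mul_inv_cancel]
    obtain ⟨c, hc, m', hm', h⟩ := hdecS _ hs
    refine ⟨c, hc, m' * m, (MM Q).mul_mem hm' hm, ?_⟩
    rw [← mul_assoc, ← h]; group
  obtain ⟨eA⟩ := equiv_MM_of_hasSchurMultiplier hA
  obtain ⟨eK⟩ := coverHom_ker_equiv C hCR hCM hdec
  refine ⟨EE Q ⧸ C, inferInstance, cover_finite C hCR hCM hdec, coverHom C hCR,
    coverHom_isStem C hCR hdec, ⟨eK.trans eA⟩, QuotientGroup.lift C ψb hCS, ?_, ?_⟩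
  · intro δ
    obtain ⟨e, he⟩ := hsurj δ
    exact ⟨QuotientGroup.mk e, he⟩
  · apply MonoidHom.ext
    intro x
    obtain ⟨e, rfl⟩ := QuotientGroup.mk_surjective x
    rw [MonoidHom.comp_apply, coverHom_mk]
    have := congrArg (fun g : EE Q →* Q => g e) hψ
    exact this

end Cfsg.Agent.S3957
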