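import Cfsg.Statements.S3958
import Mathlib
import Cfsg.Agent.Lib.Helper6_Schur

set_option autoImplicit false
universe u v
open Cfsg

namespace Cfsg.Agent.S3958

open Cfsg.Agent.Lib.Helper6_Schur

universe w

/-- precomposing a stem extension with an isomorphism -/
theorem isStem_comp_equiv {G : Type u} {H : Type v} {K : Type w} [Group G] [Group H] [Group K]
    (β : H →* G) (hβ : Cfsg.IsStemExtension β) (e : K ≃* H) :
    Cfsg.IsStemExtension (β.comp e.toMonoidHom) := by
  obtain ⟨h1, h2, h3⟩ := hβ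
  refine ⟨h1.comp e.surjective, ?_, ?_⟩
  · intro x hx
    have hx' : e x ∈ β.ker := hx
    have hc := h2 hx'
    rw [Subgroup.mem_center_iff] at hc ⊢
    intro g
    apply e.injective
    rw [map_mul, map_mul]
    exact hc (e g)
  · intro x hx
    have hx' : e x ∈ β.ker := hx
    have hc := h3 hx'
    have hmap : commutator H = (commutator K).map e.toMonoidHom := by
      rw [commutator_def, commutator_def, Subgroup.map_commutator,
        Subgroup.map_top_of_surjective _ e.surjective]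
    rw [hmap] at hc
    obtain ⟨y, hy, hyx⟩ := hc
    have : y = x := e.injective hyx
    rw [← this]; exact hy

/-- a bare finite carrier type in the universe `v` -/
def Carrier (n : ℕ) : Type v := ULift.{v} (Fin n)

/-- a group with trivial multiplier has no proper finite stem extension, in any universe -/
theorem ker_eq_bot_of_trivial_multiplier {Γ : Type v} [Group Γ]
    (hΓ : Cfsg.HasCyclicSchurMultiplier Γ 1) {H : Type w} [Group H] [Finite H] (β : H →* Γ)
    (hβ : Cfsg.IsStemExtension β) : β.ker = ⊥ := by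
  classical
  let n := Nat.card H
  let e : Carrier.{v} n ≃ H := (Equiv.ulift (α := Fin n)).trans (Finite.equivFin H).symm
  letI : Group (Carrier.{v} n) := e.group
  haveI : Finite (Carrier.{v} n) := Finite.of_equiv _ e.symm
  let eM : Carrier.{v} n ≃* H := e.mulEquiv
  have hstem := isStem_comp_equiv β hβ eM
  obtain ⟨π, hπ⟩ := hΓ.2 (Carrier.{v} n) (β.comp eM.toMonoidHom) hstem
  rw [eq_bot_iff]
  intro x hx
  have hx' : eM.symm x ∈ (β.comp eM.toMonoidHom).ker := by
    rw [MonoidHom.mem_ker, MonoidHom.comp_apply]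
    change β (eM (eM.symm x)) = 1
    rw [MulEquiv.apply_symm_apply]; exact hx
  obtain ⟨a, ha⟩ := hπ ⟨_, hx'⟩
  have ha1 : a = 1 := Subsingleton.elim _ _
  rw [ha1, map_one] at ha
  have h1 : eM.symm x = 1 := (congrArg Subtype.val ha).symm
  rw [Subgroup.mem_bot]
  have := congrArg eM h1
  rw [MulEquiv.apply_symm_apply, map_one] at this
  exact this

/-- Let `σ : Γ →* Q` be a finite stem extension of the finite group `Q` with `Γ` of trivial Schur multiplier. Then `σ` is a Schur covering group of `Q`: for every finite stem extension `τ : Δ →* Q` with `Δ` in the same universe as `Q`, the kernel of `τ` is a homomorphic image of the kernel of `σ`. -/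
theorem result {Q : Type u} [Group Q] [Finite Q] {Γ : Type v} [Group Γ] [Finite Γ] (σ : Γ →* Q) (hσ : Cfsg.IsStemExtension σ) (hΓ : Cfsg.HasCyclicSchurMultiplier Γ 1) (Δ : Type u) [Group Δ] [Finite Δ] (τ : Δ →* Q) (hτ : Cfsg.IsStemExtension τ) : ∃ π : σ.ker →* τ.ker, Function.Surjective π := by
  obtain ⟨hσs, hσc, hσst⟩ := hσ
  obtain ⟨ψb, hψ⟩ := exists_lift Q σ hσs hσc
  have hsurj := lift_surjective hσc hσst ψb hψ
  have hS : ψb.ker ≤ Rb Q := lift_ker_le ψb hψ
  haveI : (ψb.ker).FiniteIndex := ⟨by rw [Subgroup.index_ker]; exact Nat.card_pos.ne'⟩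
  obtain ⟨C, hCS, hCM, hdecS⟩ := exists_complement_in ψb.ker hS
  have hCR : C ≤ Rb Q := hCS.trans hS
  haveI := normal_of_le_Rb C hCR
  have hdec : ∀ r ∈ Rb Q, ∃ c ∈ C, ∃ m ∈ MM Q, r = c * m := by
    intro r hr
    obtain ⟨m, hm, hmk⟩ := lift_MM_onto hσc hσst ψb hψ (ψb r) (lift_mem_ker ψb hψ r hr)
    have hs : r * m⁻¹ ∈ ψb.ker := by
      rw [MonoidHom.mem_ker, map_mul, map_inv, hmk, mul_inv_cancel]
    obtain ⟨c, hc, m', hm', h⟩ := hdecS _ hs
    refine ⟨c, hc, m' * m, (MM Q).mul_mem hm' hm, ?_⟩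
    rw [← mul_assoc, ← h]; group
  haveI : Finite (EE Q ⧸ C) := cover_finite C hCR hCM hdec
  let β : EE Q ⧸ C →* Γ := QuotientGroup.lift C ψb hCS
  have hβmk : ∀ e : EE Q, β (QuotientGroup.mk e) = ψb e := fun e => rfl
  have hβker : ∀ x ∈ β.ker, ∃ m ∈ MM Q, (QuotientGroup.mk m : EE Q ⧸ C) = x := by
    intro x hx
    obtain ⟨s, rfl⟩ := QuotientGroup.mk_surjective x
    have hs : s ∈ ψb.ker := hx
    obtain ⟨c, hc, m, hm, rfl⟩ := hdecS s hs
    refine ⟨m, hm, ?_⟩
    rw [QuotientGroup.mk_mul, (QuotientGroup.eq_one_iff c).mpr hc, one_mul]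
  have hβ : Cfsg.IsStemExtension β := by
    refine ⟨?_, ?_, ?_⟩
    · intro γ
      obtain ⟨e, he⟩ := hsurj γ
      exact ⟨QuotientGroup.mk e, he⟩
    · intro x hx
      obtain ⟨m, hm, rfl⟩ := hβker x hx
      exact mk_mem_center C m (Rb_le_center Q (MM_le_Rb Q hm))
    · intro x hx
      obtain ⟨m, hm, rfl⟩ := hβker x hx
      exact mk_mem_commutator C m (MM_le_commutator Q hm)
  have hβbot := ker_eq_bot_of_trivial_multiplier hΓ β hβ
  -- the multiplier maps isomorphically onto the kernel of `σ`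
  let f : MM Q →* σ.ker := (ψb.comp (MM Q).subtype).codRestrict σ.ker
    (fun m => lift_mem_ker ψb hψ _ (MM_le_Rb Q m.2))
  have hfsurj : Function.Surjective f := by
    rintro ⟨k, hk⟩
    obtain ⟨m, hm, hmk⟩ := lift_MM_onto hσc hσst ψb hψ k hk
    exact ⟨⟨m, hm⟩, Subtype.ext hmk⟩
  have hfinj : Function.Injective f := by
    rw [injective_iff_map_eq_one]
    intro m hm
    have h1 : ψb m.1 = 1 := congrArg Subtype.val hm
    have h2 : (QuotientGroup.mk m.1 : EE Q ⧸ C) ∈ β.ker := by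
      rw [MonoidHom.mem_ker, hβmk]; exact h1
    rw [hβbot, Subgroup.mem_bot] at h2
    have h3 : m.1 ∈ C := (QuotientGroup.eq_one_iff _).mp h2
    have h4 : m.1 ∈ C ⊓ MM Q := ⟨h3, m.2⟩
    rw [hCM, Subgroup.mem_bot] at h4
    exact Subtype.ext h4
  let ef : MM Q ≃* σ.ker := MulEquiv.ofBijective f ⟨hfinj, hfsurj⟩
  obtain ⟨g, hg⟩ := exists_MM_surjective (Q := Q) hτ.1 hτ.2.1 hτ.2.2
  exact ⟨g.comp ef.symm.toMonoidHom, hg.comp ef.symm.surjective⟩

end Cfsg.Agent.S3958
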