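import Cfsg.Statements.S3959
import Mathlib
import Cfsg.Agent.Lib.Helper6_Schur
import Cfsg.Agent.Lib.Helper6_Schur2
import Cfsg.Agent.Lib.Helper6_TwProd

set_option autoImplicit false
universe u v w
open Cfsg

namespace Cfsg.Agent.S3959

open Cfsg.Agent.Lib.Helper6_Schur Cfsg.Agent.Lib.Helper6_TwProd
open scoped commutatorElement TensorProduct IsMulCommutative Pointwise

/-- the kernel of a stem extension of a direct product is generated by the images of the two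
multipliers and of the tensor product of the commutator quotients -/
theorem exists_surjective_of_stem {Q₁ : Type u} {Q₂ : Type v} [Group Q₁] [Group Q₂]
    {Δ : Type w} [Group Δ] (τ : Δ →* Q₁ × Q₂) (hτ : Cfsg.IsStemExtension τ) :
    ∃ π : MM Q₁ × MM Q₂ × Multiplicative (TA Q₁ Q₂) →* τ.ker, Function.Surjective π := by
  classical
  obtain ⟨hτs, hτc, hτst⟩ := hτ
  haveI : IsMulCommutative τ.ker :=
    ⟨⟨fun a b => Subtype.ext (Subgroup.mem_center_iff.mp (hτc b.2) a.1)⟩⟩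
  let τ₁ : Δ →* Q₁ := (MonoidHom.fst Q₁ Q₂).comp τ
  let τ₂ : Δ →* Q₂ := (MonoidHom.snd Q₁ Q₂).comp τ
  let D₁ : Subgroup Δ := τ₂.ker
  let D₂ : Subgroup Δ := τ₁.ker
  have hker : ∀ x, x ∈ τ.ker ↔ τ₁ x = 1 ∧ τ₂ x = 1 := by
    intro x
    rw [MonoidHom.mem_ker, Prod.ext_iff]
    rfl
  let ρ₁ : D₁ →* Q₁ := τ₁.comp D₁.subtype
  let ρ₂ : D₂ →* Q₂ := τ₂.comp D₂.subtype
  have hρ₁s : Function.Surjective ρ₁ := by
    intro q
    obtain ⟨δ, hδ⟩ := hτs (q, 1)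
    refine ⟨⟨δ, ?_⟩, ?_⟩
    · change (τ δ).2 = 1
      rw [hδ]
    · change (τ δ).1 = q
      rw [hδ]
  have hρ₂s : Function.Surjective ρ₂ := by
    intro q
    obtain ⟨δ, hδ⟩ := hτs (1, q)
    refine ⟨⟨δ, ?_⟩, ?_⟩
    · change (τ δ).1 = 1
      rw [hδ]
    · change (τ δ).2 = q
      rw [hδ]
  have hρ₁k : ∀ x : D₁, x ∈ ρ₁.ker ↔ (x : Δ) ∈ τ.ker := by
    intro x
    rw [hker]
    constructor
    · intro h
      exact ⟨h, x.2⟩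
    · intro h
      exact h.1
  have hρ₂k : ∀ x : D₂, x ∈ ρ₂.ker ↔ (x : Δ) ∈ τ.ker := by
    intro x
    rw [hker]
    constructor
    · intro h
      exact ⟨x.2, h⟩
    · intro h
      exact h.2
  have hρ₁c : ρ₁.ker ≤ Subgroup.center D₁ := by
    intro x hx
    have := hτc ((hρ₁k x).mp hx)
    rw [Subgroup.mem_center_iff] at this ⊢
    intro g
    exact Subtype.ext (this g)
  have hρ₂c : ρ₂.ker ≤ Subgroup.center D₂ := by
    intro x hx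
    have := hτc ((hρ₂k x).mp hx)
    rw [Subgroup.mem_center_iff] at this ⊢
    intro g
    exact Subtype.ext (this g)
  -- commutators of `D₁` and `D₂` lie in the kernel
  have hcc : ∀ x ∈ D₁, ∀ y ∈ D₂, ⁅x, y⁆ ∈ τ.ker := by
    intro x hx y hy
    rw [hker]
    constructor
    · rw [map_commutatorElement, (hy : τ₁ y = 1), commutatorElement_one_right]
    · rw [map_commutatorElement, (hx : τ₂ x = 1), commutatorElement_one_left]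
  have hcen : ∀ z ∈ τ.ker, ∀ g : Δ, g * z = z * g := fun z hz g =>
    Subgroup.mem_center_iff.mp (hτc hz) g
  have hmulL : ∀ x ∈ D₁, ∀ x' ∈ D₁, ∀ y ∈ D₂, ⁅x * x', y⁆ = ⁅x, y⁆ * ⁅x', y⁆ := by
    intro x _ x' hx' y hy
    have h1 : ⁅x * x', y⁆ = x * ⁅x', y⁆ * x⁻¹ * ⁅x, y⁆ := by
      simp only [commutatorElement_def]; group
    rw [h1, hcen _ (hcc x' hx' y hy) x, mul_inv_cancel_right]
    exact (hcen _ (hcc x' hx' y hy) _).symm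
  have hmulR : ∀ x ∈ D₁, ∀ y ∈ D₂, ∀ y' ∈ D₂, ⁅x, y * y'⁆ = ⁅x, y⁆ * ⁅x, y'⁆ := by
    intro x hx y hy y' hy'
    have h1 : ⁅x, y * y'⁆ = ⁅x, y⁆ * (y * ⁅x, y'⁆ * y⁻¹) := by
      simp only [commutatorElement_def]; group
    rw [h1, hcen _ (hcc x hx y' hy') y, mul_inv_cancel_right]
  have hcentL : ∀ k ∈ τ.ker, ∀ y : Δ, ⁅k, y⁆ = 1 := by
    intro k hk y
    rw [commutatorElement_eq_one_iff_commute]
    exact (hcen k hk y).symm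
  have hcentR : ∀ x : Δ, ∀ k ∈ τ.ker, ⁅x, k⁆ = 1 := by
    intro x k hk
    rw [commutatorElement_eq_one_iff_commute]
    exact hcen k hk x
  -- independence of representatives
  have hindL : ∀ x ∈ D₁, ∀ x' ∈ D₁, τ₁ x = τ₁ x' → ∀ y ∈ D₂, ⁅x, y⁆ = ⁅x', y⁆ := by
    intro x hx x' hx' h y hy
    have hkD : x⁻¹ * x' ∈ D₁ := D₁.mul_mem (D₁.inv_mem hx) hx'
    have hk : x⁻¹ * x' ∈ τ.ker := by
      rw [hker]
      refine ⟨?_, hkD⟩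
      rw [map_mul, map_inv, h, inv_mul_cancel]
    have : x' = x * (x⁻¹ * x') := by group
    rw [this, hmulL x hx _ hkD y hy, hcentL _ hk, mul_one]
  have hindR : ∀ x ∈ D₁, ∀ y ∈ D₂, ∀ y' ∈ D₂, τ₂ y = τ₂ y' → ⁅x, y⁆ = ⁅x, y'⁆ := by
    intro x hx y hy y' hy' h
    have hkD : y⁻¹ * y' ∈ D₂ := D₂.mul_mem (D₂.inv_mem hy) hy'
    have hk : y⁻¹ * y' ∈ τ.ker := by
      rw [hker]
      refine ⟨hkD, ?_⟩
      rw [map_mul, map_inv, h, inv_mul_cancel]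
    have : y' = y * (y⁻¹ * y') := by group
    rw [this, hmulR x hx y hy _ hkD, hcentR _ _ hk, mul_one]
  -- sections
  let s₁ : Q₁ → Δ := fun q => ((Function.surjInv hρ₁s q : D₁) : Δ)
  let s₂ : Q₂ → Δ := fun q => ((Function.surjInv hρ₂s q : D₂) : Δ)
  have hs₁D : ∀ q, s₁ q ∈ D₁ := fun q => (Function.surjInv hρ₁s q).2
  have hs₂D : ∀ q, s₂ q ∈ D₂ := fun q => (Function.surjInv hρ₂s q).2
  have hs₁ : ∀ q, τ₁ (s₁ q) = q := fun q => Function.surjInv_eq hρ₁s q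
  have hs₂ : ∀ q, τ₂ (s₂ q) = q := fun q => Function.surjInv_eq hρ₂s q
  let b₀ : Q₁ → Q₂ → τ.ker := fun q₁ q₂ => ⟨⁅s₁ q₁, s₂ q₂⁆, hcc _ (hs₁D q₁) _ (hs₂D q₂)⟩
  have hb₀ : ∀ x ∈ D₁, ∀ y ∈ D₂, ((b₀ (τ₁ x) (τ₂ y) : τ.ker) : Δ) = ⁅x, y⁆ := by
    intro x hx y hy
    change ⁅s₁ (τ₁ x), s₂ (τ₂ y)⁆ = ⁅x, y⁆
    rw [hindL _ (hs₁D _) x hx (hs₁ _) _ (hs₂D _), hindR x hx _ (hs₂D _) y hy (hs₂ _)]
  have hb₀mulL : ∀ q q' q₂, b₀ (q * q') q₂ = b₀ q q₂ * b₀ q' q₂ := by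
    intro q q' q₂
    apply Subtype.ext
    change ⁅s₁ (q * q'), s₂ q₂⁆ = ⁅s₁ q, s₂ q₂⁆ * ⁅s₁ q', s₂ q₂⁆
    rw [← hmulL _ (hs₁D q) _ (hs₁D q') _ (hs₂D q₂)]
    apply hindL _ (hs₁D _) _ (D₁.mul_mem (hs₁D q) (hs₁D q')) _ _ (hs₂D q₂)
    rw [hs₁, map_mul, hs₁, hs₁]
  have hb₀mulR : ∀ q₁ q q', b₀ q₁ (q * q') = b₀ q₁ q * b₀ q₁ q' := by
    intro q₁ q q'
    apply Subtype.ext
    change ⁅s₁ q₁, s₂ (q * q')⁆ = ⁅s₁ q₁, s₂ q⁆ * ⁅s₁ q₁, s₂ q'⁆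
    rw [← hmulR _ (hs₁D q₁) _ (hs₂D q) _ (hs₂D q')]
    apply hindR _ (hs₁D _) _ (hs₂D _) _ (D₂.mul_mem (hs₂D q) (hs₂D q'))
    rw [hs₂, map_mul, hs₂, hs₂]
  have hb₀oneL : ∀ q₂, b₀ 1 q₂ = 1 := by
    intro q₂
    have h := hb₀mulL 1 1 q₂
    rw [mul_one] at h
    exact left_eq_mul.mp h
  have hb₀oneR : ∀ q₁, b₀ q₁ 1 = 1 := by
    intro q₁
    have h := hb₀mulR q₁ 1 1
    rw [mul_one] at h
    exact left_eq_mul.mp h
  -- the bilinear map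
  let β₁ : Q₁ → (Q₂ →* τ.ker) := fun q₁ =>
    { toFun := b₀ q₁
      map_one' := hb₀oneR q₁
      map_mul' := hb₀mulR q₁ }
  let β₂ : Q₁ →* (Abelianization Q₂ →* τ.ker) :=
    { toFun := fun q₁ => Abelianization.lift (β₁ q₁)
      map_one' := by
        apply Abelianization.hom_ext
        apply MonoidHom.ext
        intro q₂
        change b₀ 1 q₂ = 1
        exact hb₀oneL q₂
      map_mul' := fun q q' => by
        apply Abelianization.hom_ext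
        apply MonoidHom.ext
        intro q₂
        change b₀ (q * q') q₂ = b₀ q q₂ * b₀ q' q₂
        exact hb₀mulL q q' q₂ }
  let β₃ : Abelianization Q₁ →* (Abelianization Q₂ →* τ.ker) := Abelianization.lift β₂
  have hβ₃ : ∀ q₁ q₂, β₃ (Abelianization.of q₁) (Abelianization.of q₂) = b₀ q₁ q₂ :=
    fun q₁ q₂ => rfl
  let f : Additive (Abelianization Q₁) →+ (Additive (Abelianization Q₂) →+ Additive τ.ker) :=
    AddMonoidHom.mk' (fun a => MonoidHom.toAdditive (β₃ (Additive.toMul a)))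
      (fun a a' => by
        apply AddMonoidHom.ext
        intro c
        change Additive.ofMul (β₃ (Additive.toMul a * Additive.toMul a') (Additive.toMul c)) = _
        rw [map_mul]
        rfl)
  have hf : ∀ (r : ℤ) (m : Additive (Abelianization Q₁)) (n : Additive (Abelianization Q₂)),
      f (r • m) n = f m (r • n) := by
    intro r m n
    rw [map_zsmul, map_zsmul, AddMonoidHom.zsmul_apply]
  let L : TA Q₁ Q₂ →+ Additive τ.ker := TensorProduct.liftAddHom f hf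
  let πT : Multiplicative (TA Q₁ Q₂) →* τ.ker := AddMonoidHom.toMultiplicativeLeft L
  have hπT : ∀ q₁ q₂, πT (Multiplicative.ofAdd
      ((Additive.ofMul (Abelianization.of q₁) : Additive (Abelianization Q₁)) ⊗ₜ[ℤ]
        (Additive.ofMul (Abelianization.of q₂) : Additive (Abelianization Q₂)))) = b₀ q₁ q₂ :=
    fun q₁ q₂ => rfl
  -- the subgroup `W` generated by the mixed commutators
  let W : Subgroup Δ := (πT.range).map τ.ker.subtype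
  have hWK : W ≤ τ.ker := by
    rintro _ ⟨z, _, rfl⟩
    exact z.2
  have hcW : ∀ x ∈ D₁, ∀ y ∈ D₂, ⁅x, y⁆ ∈ W := by
    intro x hx y hy
    exact ⟨b₀ (τ₁ x) (τ₂ y), ⟨_, hπT (τ₁ x) (τ₂ y)⟩, hb₀ x hx y hy⟩
  haveI hWn : W.Normal := by
    refine ⟨fun c hc g => ?_⟩
    rw [hcen c (hWK hc) g, mul_inv_cancel_right]
    exact hc
  haveI hD₁n : D₁.Normal := inferInstance
  haveI hD₂n : D₂.Normal := inferInstance
  let N : Subgroup Δ := (⁅D₁, D₁⁆ ⊔ ⁅D₂, D₂⁆) ⊔ W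
  haveI hNn : N.Normal := inferInstance
  -- every element is a product
  have hdecΔ : ∀ δ : Δ, ∃ x ∈ D₁, ∃ y ∈ D₂, δ = x * y := by
    intro δ
    obtain ⟨x, hx⟩ := hρ₁s (τ₁ δ)
    have hy : (x : Δ)⁻¹ * δ ∈ D₂ := by
      change τ₁ ((x : Δ)⁻¹ * δ) = 1
      rw [map_mul, map_inv]
      have : τ₁ (x : Δ) = τ₁ δ := hx
      rw [this, inv_mul_cancel]
    exact ⟨x, x.2, _, hy, by group⟩
  have hcommN : commutator Δ ≤ N := by
    rw [commutator_def, Subgroup.commutator_le]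
    intro a _ b _
    obtain ⟨x₁, hx₁, y₁, hy₁, rfl⟩ := hdecΔ a
    obtain ⟨x₂, hx₂, y₂, hy₂, rfl⟩ := hdecΔ b
    have hcomm : ∀ u v : Δ, ⁅u, v⁆ ∈ N →
        Commute (QuotientGroup.mk u : Δ ⧸ N) (QuotientGroup.mk v) := by
      intro u v h
      rw [← commutatorElement_eq_one_iff_commute]
      have : ⁅(QuotientGroup.mk u : Δ ⧸ N), QuotientGroup.mk v⁆ = QuotientGroup.mk ⁅u, v⁆ :=
        (map_commutatorElement (QuotientGroup.mk' N) u v).symm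
      rw [this]
      exact (QuotientGroup.eq_one_iff _).mpr h
    have hN1 : ⁅D₁, D₁⁆ ≤ N := le_sup_left.trans le_sup_left
    have hN2 : ⁅D₂, D₂⁆ ≤ N := le_sup_right.trans le_sup_left
    have hN3 : W ≤ N := le_sup_right
    have c11 := hcomm x₁ x₂ (hN1 (Subgroup.commutator_mem_commutator hx₁ hx₂))
    have c22 := hcomm y₁ y₂ (hN2 (Subgroup.commutator_mem_commutator hy₁ hy₂))
    have c12 := hcomm x₁ y₂ (hN3 (hcW x₁ hx₁ y₂ hy₂))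
    have c21 : Commute (QuotientGroup.mk y₁ : Δ ⧸ N) (QuotientGroup.mk x₂) :=
      (hcomm x₂ y₁ (hN3 (hcW x₂ hx₂ y₁ hy₁))).symm
    have hc : Commute (QuotientGroup.mk (x₁ * y₁) : Δ ⧸ N) (QuotientGroup.mk (x₂ * y₂)) := by
      rw [QuotientGroup.mk_mul, QuotientGroup.mk_mul]
      exact (c11.mul_right c12).mul_left (c21.mul_right c22)
    have h1 : (QuotientGroup.mk ⁅x₁ * y₁, x₂ * y₂⁆ : Δ ⧸ N) = 1 := by
      have : (QuotientGroup.mk ⁅x₁ * y₁, x₂ * y₂⁆ : Δ ⧸ N) =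
          ⁅(QuotientGroup.mk (x₁ * y₁) : Δ ⧸ N), QuotientGroup.mk (x₂ * y₂)⁆ :=
        map_commutatorElement (QuotientGroup.mk' N) _ _
      rw [this]
      exact commutatorElement_eq_one_iff_commute.mpr hc
    exact (QuotientGroup.eq_one_iff _).mp h1
  obtain ⟨ψ₁, hψ₁, hmap₁⟩ := exists_map_central ρ₁ hρ₁s hρ₁c
  obtain ⟨ψ₂, hψ₂, hmap₂⟩ := exists_map_central ρ₂ hρ₂s hρ₂c
  have hm₁ : ∀ m : MM Q₁, ((ψ₁ m.1 : D₁) : Δ) ∈ τ.ker := by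
    intro m
    have h1 : ψ₁ m.1 ∈ (MM Q₁).map ψ₁ := ⟨m.1, m.2, rfl⟩
    rw [hmap₁] at h1
    exact (hρ₁k _).mp h1.1
  have hm₂ : ∀ m : MM Q₂, ((ψ₂ m.1 : D₂) : Δ) ∈ τ.ker := by
    intro m
    have h1 : ψ₂ m.1 ∈ (MM Q₂).map ψ₂ := ⟨m.1, m.2, rfl⟩
    rw [hmap₂] at h1
    exact (hρ₂k _).mp h1.1
  let πA : MM Q₁ →* τ.ker :=
    ((D₁.subtype.comp ψ₁).comp (MM Q₁).subtype).codRestrict τ.ker hm₁
  let πB : MM Q₂ →* τ.ker :=
    ((D₂.subtype.comp ψ₂).comp (MM Q₂).subtype).codRestrict τ.ker hm₂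
  let π : MM Q₁ × MM Q₂ × Multiplicative (TA Q₁ Q₂) →* τ.ker :=
    MonoidHom.coprod πA (MonoidHom.coprod πB πT)
  have hπ : ∀ m₁ m₂ t, ((π (m₁, m₂, t) : τ.ker) : Δ) =
      ((ψ₁ m₁.1 : D₁) : Δ) * (((ψ₂ m₂.1 : D₂) : Δ) * ((πT t : τ.ker) : Δ)) := fun m₁ m₂ t => rfl
  refine ⟨π, ?_⟩
  rintro ⟨k, hk⟩
  have hkN : k ∈ N := hcommN (hτst hk)
  have h1 : k ∈ ((⁅D₁, D₁⁆ ⊔ ⁅D₂, D₂⁆ : Subgroup Δ) : Set Δ) * (W : Set Δ) := by
    rw [← Subgroup.mul_normal]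
    exact hkN
  obtain ⟨u, hu, c, hc, rfl⟩ := Set.mem_mul.mp h1
  have h2 : u ∈ ((⁅D₁, D₁⁆ : Subgroup Δ) : Set Δ) * ((⁅D₂, D₂⁆ : Subgroup Δ) : Set Δ) := by
    rw [← Subgroup.mul_normal]
    exact hu
  obtain ⟨d₁, hd₁, d₂, hd₂, rfl⟩ := Set.mem_mul.mp h2
  have hd₁' : d₁ ∈ (commutator D₁).map D₁.subtype := by
    rw [Subgroup.map_subtype_commutator]
    exact hd₁
  have hd₂' : d₂ ∈ (commutator D₂).map D₂.subtype := by
    rw [Subgroup.map_subtype_commutator]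
    exact hd₂
  obtain ⟨e₁, he₁, rfl⟩ := hd₁'
  obtain ⟨e₂, he₂, rfl⟩ := hd₂'
  obtain ⟨z, ⟨t, rfl⟩, rfl⟩ := hc
  obtain ⟨hk1, hk2⟩ := (hker _).mp hk
  have hzk := (hker _).mp (πT t).2
  have he₁k : e₁ ∈ ρ₁.ker := by
    rw [MonoidHom.mem_ker]
    change τ₁ (e₁ : Δ) = 1
    have h2 : τ₁ (e₂ : Δ) = 1 := e₂.2
    have h3 : τ₁ ((e₁ : Δ) * (e₂ : Δ) * ((πT t : τ.ker) : Δ)) = 1 := hk1
    rw [map_mul, map_mul, h2, hzk.1, mul_one, mul_one] at h3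
    exact h3
  have he₂k : e₂ ∈ ρ₂.ker := by
    rw [MonoidHom.mem_ker]
    change τ₂ (e₂ : Δ) = 1
    have h2 : τ₂ (e₁ : Δ) = 1 := e₁.2
    have h3 : τ₂ ((e₁ : Δ) * (e₂ : Δ) * ((πT t : τ.ker) : Δ)) = 1 := hk2
    rw [map_mul, map_mul, h2, hzk.2, mul_one, one_mul] at h3
    exact h3
  have hq1 : e₁ ∈ (MM Q₁).map ψ₁ := by rw [hmap₁]; exact ⟨he₁k, he₁⟩
  have hq2 : e₂ ∈ (MM Q₂).map ψ₂ := by rw [hmap₂]; exact ⟨he₂k, he₂⟩
  obtain ⟨m₁, hm₁', rfl⟩ := hq1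
  obtain ⟨m₂, hm₂', rfl⟩ := hq2
  refine ⟨(⟨m₁, hm₁'⟩, ⟨m₂, hm₂'⟩, t), Subtype.ext ?_⟩
  rw [hπ]
  exact (mul_assoc _ _ _).symm

/-- Let `Q₁` and `Q₂` be finite groups with Schur multipliers `A` and `B`. Then the Schur multiplier of `Q₁ × Q₂` is isomorphic to `A × B × (Q₁ᵃᵇ ⊗ Q₂ᵃᵇ)`, the last factor being the tensor product over the integers of the commutator quotients, written multiplicatively. -/
theorem result {Q₁ : Type u} {Q₂ : Type v} [Group Q₁] [Group Q₂] [Finite Q₁] [Finite Q₂] {A B : Type w} [CommGroup A] [CommGroup B] (hA : Cfsg.HasSchurMultiplier Q₁ A) (hB : Cfsg.HasSchurMultiplier Q₂ B) : Cfsg.HasSchurMultiplier (Q₁ × Q₂) (A × B × Multiplicative (TensorProduct ℤ (Additive (Abelianization Q₁)) (Additive (Abelianization Q₂)))) := by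
  obtain ⟨eA⟩ := equiv_MM_of_hasSchurMultiplier hA
  obtain ⟨eB⟩ := equiv_MM_of_hasSchurMultiplier hB
  refine ⟨?_, ?_⟩
  · obtain ⟨⟨Γ₁, _, _, σ₁, hσ₁, ⟨e₁⟩⟩, -⟩ := hA
    obtain ⟨⟨Γ₂, _, _, σ₂, hσ₂, ⟨e₂⟩⟩, -⟩ := hB
    refine ⟨Tw σ₁ σ₂, inferInstance, inferInstance, proj σ₁ σ₂, isStem_proj σ₁ σ₂ hσ₁ hσ₂, ⟨?_⟩⟩
    exact (kerEquiv σ₁ σ₂).trans
      (MulEquiv.prodCongr e₁ (MulEquiv.prodCongr e₂ (MulEquiv.refl _)))
  · intro Δ _ _ τ hτ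
    obtain ⟨π, hπ⟩ := exists_surjective_of_stem τ hτ
    let E : A × B × Multiplicative (TA Q₁ Q₂) ≃* MM Q₁ × MM Q₂ × Multiplicative (TA Q₁ Q₂) :=
      MulEquiv.prodCongr eA.symm (MulEquiv.prodCongr eB.symm (MulEquiv.refl _))
    exact ⟨π.comp E.toMonoidHom, hπ.comp E.surjective⟩

end Cfsg.Agent.S3959
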