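import Cfsg.Statements.S3960
import Mathlib
import Cfsg.Agent.Lib.Helper6_Perfect

set_option autoImplicit false
universe u
open Cfsg

namespace Cfsg.Agent.S3960

open Cfsg.Agent.Lib.Helper6_Perfect
open scoped commutatorElement

/-- A finite perfect group `Q` has a universal central extension: a finite perfect group `G` in the universe of `Q` and a surjective homomorphism `π : G →* Q` with central kernel such that for every group `X` in that universe and every surjective homomorphism `ξ : X →* Q` with central kernel there is exactly one homomorphism `η : G →* X` with `ξ ∘ η = π`. -/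
theorem result {Q : Type u} [Group Q] [Finite Q] (hQ : Group.IsPerfect Q) : ∃ (G : Type u) (_ : Group G) (_ : Finite G) (π : G →* Q), Group.IsPerfect G ∧ Function.Surjective π ∧ π.ker ≤ Subgroup.center G ∧ ∀ (X : Type u) [Group X] (ξ : X →* Q), Function.Surjective ξ → ξ.ker ≤ Subgroup.center X → ∃! η : G →* X, ξ.comp η = π := by
  classical
  let φ : FreeGroup Q →* Q := FreeGroup.lift id
  have hφof : ∀ q : Q, φ (FreeGroup.of q) = q := fun q => by simp [φ]
  have hφsurj : Function.Surjective φ := fun q => ⟨FreeGroup.of q, hφof q⟩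
  let N : Subgroup (FreeGroup Q) := ⁅(⊤ : Subgroup (FreeGroup Q)), φ.ker⁆
  haveI hNn : N.Normal := inferInstance
  have hNle : N ≤ φ.ker := Subgroup.commutator_le_right _ _
  let φb : FreeGroup Q ⧸ N →* Q := QuotientGroup.lift N φ hNle
  have hφb : ∀ f : FreeGroup Q, φb (QuotientGroup.mk f) = φ f := fun f => rfl
  have hφbsurj : Function.Surjective φb := fun q => ⟨QuotientGroup.mk (FreeGroup.of q), hφof q⟩
  have hφbker : φb.ker ≤ Subgroup.center (FreeGroup Q ⧸ N) := by
    intro e he
    obtain ⟨r, rfl⟩ := QuotientGroup.mk_surjective e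
    rw [MonoidHom.mem_ker, hφb] at he
    have hr : r ∈ φ.ker := he
    rw [Subgroup.mem_center_iff]
    intro w
    obtain ⟨f, rfl⟩ := QuotientGroup.mk_surjective w
    rw [← QuotientGroup.mk_mul, ← QuotientGroup.mk_mul, QuotientGroup.eq]
    have : (f * r)⁻¹ * (r * f) = ⁅r⁻¹, f⁻¹⁆ := by
      rw [commutatorElement_def]; group
    rw [this]
    have h1 : ⁅r⁻¹, f⁻¹⁆ ∈ ⁅φ.ker, (⊤ : Subgroup (FreeGroup Q))⁆ :=
      Subgroup.commutator_mem_commutator (φ.ker.inv_mem hr) (Subgroup.mem_top _)
    rw [Subgroup.commutator_comm] at h1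
    exact h1
  -- the group
  have hDperf : Group.IsPerfect (commutator (FreeGroup Q ⧸ N)) :=
    commutator_perfect φb hφbsurj hφbker hQ
  haveI hDfin : Finite (commutator (FreeGroup Q ⧸ N)) :=
    finite_commutator_of_finite φb hφbsurj hφbker
  let π : commutator (FreeGroup Q ⧸ N) →* Q := φb.comp (commutator (FreeGroup Q ⧸ N)).subtype
  have hπ : ∀ d : commutator (FreeGroup Q ⧸ N), π d = φb (d : FreeGroup Q ⧸ N) := fun d => rfl
  refine ⟨commutator (FreeGroup Q ⧸ N), inferInstance, hDfin, π, hDperf, ?_, ?_, ?_⟩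
  · intro q
    obtain ⟨d, hd, hdq⟩ := exists_mem_commutator_map φb hφbsurj hQ q
    exact ⟨⟨d, hd⟩, hdq⟩
  · intro d hd
    have hd' : (d : FreeGroup Q ⧸ N) ∈ φb.ker := by
      rw [MonoidHom.mem_ker] at hd ⊢
      exact hd
    have hc := hφbker hd'
    rw [Subgroup.mem_center_iff] at hc ⊢
    intro w
    apply Subtype.ext
    exact hc w
  · intro X _ ξ hξ hξker
    let s : Q → X := Function.surjInv hξ
    have hs : ∀ q, ξ (s q) = q := Function.surjInv_eq hξ
    let ψ : FreeGroup Q →* X := FreeGroup.lift s
    have hψof : ∀ q : Q, ψ (FreeGroup.of q) = s q := fun q => by simp [ψ]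
    have hξψ : ξ.comp ψ = φ := by
      apply FreeGroup.ext_hom
      intro q
      rw [MonoidHom.comp_apply, hψof, hs, hφof]
    have hξψ' : ∀ f, ξ (ψ f) = φ f := fun f => by
      have := congrArg (fun g : FreeGroup Q →* Q => g f) hξψ
      exact this
    have hNψ : N ≤ ψ.ker := by
      rw [Subgroup.commutator_le]
      intro f _ r hr
      rw [MonoidHom.mem_ker, commutatorElement_def, map_mul, map_mul, map_mul, map_inv, map_inv]
      have hr' : ψ r ∈ Subgroup.center X := by
        apply hξker
        rw [MonoidHom.mem_ker, hξψ']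
        exact hr
      have := (Subgroup.mem_center_iff.mp hr') (ψ f)
      rw [this]; group
    let ψb : FreeGroup Q ⧸ N →* X := QuotientGroup.lift N ψ hNψ
    have hψb : ∀ f : FreeGroup Q, ψb (QuotientGroup.mk f) = ψ f := fun f => rfl
    have hξψb : ∀ e : FreeGroup Q ⧸ N, ξ (ψb e) = φb e := by
      intro e
      obtain ⟨f, rfl⟩ := QuotientGroup.mk_surjective e
      rw [hψb, hφb, hξψ']
    refine ⟨ψb.comp (commutator (FreeGroup Q ⧸ N)).subtype, ?_, ?_⟩
    · ext d
      simp only [MonoidHom.comp_apply]
      exact hξψb _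
    · intro η' hη'
      apply eq_of_perfect_of_central hDperf
      intro d
      apply hξker
      rw [MonoidHom.mem_ker, map_mul, map_inv]
      have h1 : ξ (η' d) = π d := by
        have := congrArg (fun g : commutator (FreeGroup Q ⧸ N) →* Q => g d) hη'
        exact this
      have h2 : ξ ((ψb.comp (commutator (FreeGroup Q ⧸ N)).subtype) d) = π d := hξψb _
      rw [h1, h2, mul_inv_cancel]

end Cfsg.Agent.S3960
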