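import Cfsg.Statements.S3961
import Mathlib
import Cfsg.Agent.Lib.Helper6_Perfect
import Cfsg.Agent.Lib.Helper6_Stem

set_option autoImplicit false
universe u v
open Cfsg

namespace Cfsg.Agent.S3961

open Cfsg.Agent.Lib.Helper6_Perfect
open scoped commutatorElement

/-- a stem extension of a perfect group is perfect -/
theorem perfect_of_stem {Γ G : Type*} [Group Γ] [Group G] (hG : Group.IsPerfect G) (σ : Γ →* G)
    (hσ : Cfsg.IsStemExtension σ) : Group.IsPerfect Γ := by
  obtain ⟨hsurj, _, hk⟩ := hσ
  rw [Group.isPerfect_def, eq_top_iff]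
  intro x _
  obtain ⟨d, hd, hdx⟩ := exists_mem_commutator_map σ hsurj hG (σ x)
  have : d⁻¹ * x ∈ σ.ker := by
    rw [MonoidHom.mem_ker, map_mul, map_inv, hdx, inv_mul_cancel]
  have h2 : x = d * (d⁻¹ * x) := by group
  rw [h2]
  exact Subgroup.mul_mem _ hd (hk this)

/-- the composite of a stem extension of a perfect group with a central extension is central -/
theorem ker_comp_le_center {Γ G Q : Type*} [Group Γ] [Group G] [Group Q]
    (hG : Group.IsPerfect G) (σ : Γ →* G) (hσ : Cfsg.IsStemExtension σ) (π : G →* Q)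
    (hker : π.ker ≤ Subgroup.center G) : (π.comp σ).ker ≤ Subgroup.center Γ := by
  have hΓ := perfect_of_stem hG σ hσ
  obtain ⟨_, hc, _⟩ := hσ
  intro n hn
  have hn' : σ n ∈ Subgroup.center G := hker (by
    rw [MonoidHom.mem_ker] at hn ⊢
    exact hn)
  -- x ↦ ⁅x, n⁆ is a homomorphism into the centre
  have hmem : ∀ x : Γ, x * n * x⁻¹ * n⁻¹ ∈ Subgroup.center Γ := by
    intro x
    apply hc
    rw [MonoidHom.mem_ker, map_mul, map_mul, map_mul, map_inv, map_inv]
    have := (Subgroup.mem_center_iff.mp hn') (σ x)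
    rw [this]; group
  let f : Γ →* Subgroup.center Γ := MonoidHom.mk' (fun x => ⟨x * n * x⁻¹ * n⁻¹, hmem x⟩) (by
    intro a b
    apply Subtype.ext
    simp only [Subgroup.coe_mul]
    have hb := (Subgroup.mem_center_iff.mp (hmem b)) a
    calc a * b * n * (a * b)⁻¹ * n⁻¹
        = (a * (b * n * b⁻¹ * n⁻¹)) * n * a⁻¹ * n⁻¹ := by group
      _ = ((b * n * b⁻¹ * n⁻¹) * a) * n * a⁻¹ * n⁻¹ := by rw [hb]
      _ = (b * n * b⁻¹ * n⁻¹) * (a * n * a⁻¹ * n⁻¹) := by group
      _ = (a * n * a⁻¹ * n⁻¹) * (b * n * b⁻¹ * n⁻¹) := by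
          rw [(Subgroup.mem_center_iff.mp (hmem b)) (a * n * a⁻¹ * n⁻¹)])
  have hf := hom_trivial_of_perfect hΓ f (fun x y => by
    apply Subtype.ext
    simp only [Subgroup.coe_mul]
    exact (Subgroup.mem_center_iff.mp (f y).2) (f x : Γ))
  rw [Subgroup.mem_center_iff]
  intro x
  have := congrArg Subtype.val (hf x)
  change x * n * x⁻¹ * n⁻¹ = 1 at this
  calc x * n = (x * n * x⁻¹ * n⁻¹) * n * x := by group
    _ = n * x := by rw [this, one_mul]

/-- Let `π : G →* Q` be a surjective homomorphism with central kernel from a finite perfect group `G` (a perfect cover of `Q`). Then `π` is universal, in the sense that every surjective homomorphism `ξ : X →* Q` with central kernel from a group `X` in the universe of `G` admits a homomorphism `η : G →* X` with `ξ ∘ η = π`, if and only if `G` has trivial Schur multiplier. -/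
theorem result {G : Type u} {Q : Type v} [Group G] [Group Q] [Finite G] (hG : Group.IsPerfect G) (π : G →* Q) (hπ : Function.Surjective π) (hker : π.ker ≤ Subgroup.center G) : (∀ (X : Type u) [Group X] (ξ : X →* Q), Function.Surjective ξ → ξ.ker ≤ Subgroup.center X → ∃ η : G →* X, ξ.comp η = π) ↔ Cfsg.HasCyclicSchurMultiplier G 1 := by
  constructor
  · intro hU
    refine ⟨⟨G, inferInstance, inferInstance, MonoidHom.id G,
      (Cfsg.Agent.Lib.Helper6_Stem.id_stem G).1, (Cfsg.Agent.Lib.Helper6_Stem.id_stem G).2⟩, ?_⟩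
    intro Γ _ _ σ hσ
    apply Cfsg.Agent.Lib.Helper6_Stem.exists_surjective_of_ker_trivial
    have hΓ := perfect_of_stem hG σ hσ
    have hcen := ker_comp_le_center hG σ hσ π hker
    obtain ⟨hsurj, hc, hk⟩ := hσ
    obtain ⟨η, hη⟩ := hU Γ (π.comp σ) (hπ.comp hsurj) hcen
    -- σ ∘ η = id
    have hτ : σ.comp η = MonoidHom.id G := by
      apply eq_of_perfect_of_central hG
      intro g
      apply hker
      rw [MonoidHom.mem_ker, map_mul, map_inv, MonoidHom.id_apply]
      have := congrArg (fun f : G →* Q => f g) hη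
      simp only [MonoidHom.comp_apply] at this
      rw [MonoidHom.comp_apply, this, mul_inv_cancel]
    have hση : ∀ g, σ (η g) = g := fun g => by
      have := congrArg (fun f : G →* G => f g) hτ
      simpa using this
    -- ρ x = (η (σ x))⁻¹ * x is a hom into the centre
    have hρmem : ∀ x : Γ, (η (σ x))⁻¹ * x ∈ σ.ker := by
      intro x
      rw [MonoidHom.mem_ker, map_mul, map_inv, hση, inv_mul_cancel]
    let ρ : Γ →* Subgroup.center Γ :=
      MonoidHom.mk' (fun x => ⟨(η (σ x))⁻¹ * x, hc (hρmem x)⟩) (by
        intro a b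
        apply Subtype.ext
        simp only [Subgroup.coe_mul, map_mul]
        have ha := (Subgroup.mem_center_iff.mp (hc (hρmem a))) (η (σ b))⁻¹
        calc (η (σ a) * η (σ b))⁻¹ * (a * b)
            = ((η (σ b))⁻¹ * ((η (σ a))⁻¹ * a)) * b := by group
          _ = (((η (σ a))⁻¹ * a) * (η (σ b))⁻¹) * b := by rw [ha]
          _ = _ := by group)
    have hρ := hom_trivial_of_perfect hΓ ρ (fun x y => by
      apply Subtype.ext
      simp only [Subgroup.coe_mul]
      exact (Subgroup.mem_center_iff.mp (ρ y).2) (ρ x : Γ))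
    intro k hk'
    have := congrArg Subtype.val (hρ k)
    change (η (σ k))⁻¹ * k = 1 at this
    rw [MonoidHom.mem_ker.mp hk', map_one, inv_one, one_mul] at this
    exact this
  · intro hS X _ ξ hξ hξker
    obtain ⟨_, hS2⟩ := hS
    -- the pullback
    let P : Subgroup (G × X) :=
      { carrier := {y | π y.1 = ξ y.2}
        mul_mem' := by
          intro a b ha hb
          simp only [Set.mem_setOf_eq, Prod.fst_mul, Prod.snd_mul, map_mul] at ha hb ⊢
          rw [ha, hb]
        one_mem' := by simp
        inv_mem' := by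
          intro a ha
          simp only [Set.mem_setOf_eq, Prod.fst_inv, Prod.snd_inv, map_inv] at ha ⊢
          rw [ha] }
    have hPmem : ∀ y : G × X, y ∈ P ↔ π y.1 = ξ y.2 := fun y => Iff.rfl
    let p1 : P →* G := (MonoidHom.fst G X).comp P.subtype
    have hp1 : ∀ y : P, p1 y = (y : G × X).1 := fun y => rfl
    have hp1surj : Function.Surjective p1 := by
      intro g
      obtain ⟨x, hx⟩ := hξ (π g)
      exact ⟨⟨(g, x), hx.symm⟩, rfl⟩
    have hp1ker : p1.ker ≤ Subgroup.center P := by
      intro y hy
      rw [MonoidHom.mem_ker, hp1] at hy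
      have hy2 : (y : G × X).2 ∈ Subgroup.center X := by
        apply hξker
        rw [MonoidHom.mem_ker]
        have := (hPmem y).mp y.2
        rw [hy, map_one] at this
        exact this.symm
      rw [Subgroup.mem_center_iff]
      intro w
      apply Subtype.ext
      apply Prod.ext
      · simp only [Subgroup.coe_mul, Prod.fst_mul, hy, mul_one, one_mul]
      · simp only [Subgroup.coe_mul, Prod.snd_mul]
        exact (Subgroup.mem_center_iff.mp hy2) _
    -- the stem extension
    have hDperf : Group.IsPerfect (commutator P) := commutator_perfect p1 hp1surj hp1ker hG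
    haveI hDfin : Finite (commutator P) := finite_commutator_of_finite p1 hp1surj hp1ker
    let σ : commutator P →* G := p1.comp (commutator P).subtype
    have hσsurj : Function.Surjective σ := by
      intro g
      obtain ⟨d, hd, hdg⟩ := exists_mem_commutator_map p1 hp1surj hG g
      exact ⟨⟨d, hd⟩, hdg⟩
    have hσstem : Cfsg.IsStemExtension σ := by
      refine ⟨hσsurj, ?_, ?_⟩
      · intro d hd
        have hd' : (d : P) ∈ p1.ker := by
          rw [MonoidHom.mem_ker] at hd ⊢
          exact hd
        have hc := hp1ker hd'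
        rw [Subgroup.mem_center_iff] at hc ⊢
        intro w
        apply Subtype.ext
        exact hc w
      · rw [hDperf.commutator_eq_top]
        exact le_top
    obtain ⟨f, hf⟩ := hS2 (commutator P) σ hσstem
    have hkerσ : ∀ d : commutator P, σ d = 1 → d = 1 := by
      intro d hd
      obtain ⟨a, ha⟩ := hf ⟨d, MonoidHom.mem_ker.mpr hd⟩
      have ha1 : a = 1 := Subsingleton.elim _ _
      rw [ha1, map_one] at ha
      have := congrArg Subtype.val ha
      exact this.symm
    have hσinj : Function.Injective σ := by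
      rw [injective_iff_map_eq_one]
      exact hkerσ
    let e : commutator P ≃* G := MulEquiv.ofBijective σ ⟨hσinj, hσsurj⟩
    refine ⟨((MonoidHom.snd G X).comp P.subtype).comp
      ((commutator P).subtype.comp e.symm.toMonoidHom), ?_⟩
    ext g
    simp only [MonoidHom.comp_apply]
    obtain ⟨d, hd⟩ : ∃ d, d = e.symm g := ⟨_, rfl⟩
    have hdg : σ d = g := by
      rw [hd]
      exact e.apply_symm_apply g
    have hmem := (hPmem ((d : P) : G × X)).mp (d : P).2
    have h1 : ((d : P) : G × X).1 = g := hdg
    rw [h1] at hmem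
    change ξ (((e.symm g : commutator P) : P) : G × X).2 = π g
    rw [← hd, ← hmem]

end Cfsg.Agent.S3961
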