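import Cfsg.Statements.S3962
import Mathlib

set_option autoImplicit false
open Cfsg

namespace Cfsg.Agent.S3962

/-- Let `G` be a perfect group and `π : G →* Q` a surjective homomorphism whose kernel is central. Then `π` maps the centre of `G` onto the centre of `Q`. -/
theorem result {G Q : Type*} [Group G] [Group Q] (hG : Group.IsPerfect G) (π : G →* Q) (hπ : Function.Surjective π) (hker : π.ker ≤ Subgroup.center G) : (Subgroup.center G).map π = Subgroup.center Q := by
  apply le_antisymm
  · rintro _ ⟨z, hz, rfl⟩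
    rw [Subgroup.mem_center_iff]
    intro q
    obtain ⟨g, rfl⟩ := hπ q
    have hz' := Subgroup.mem_center_iff.mp hz g
    rw [← map_mul, ← map_mul, hz']
  · intro q hq
    obtain ⟨x, rfl⟩ := hπ q
    refine ⟨x, ?_, rfl⟩
    -- the commutator map g ↦ g x g⁻¹ x⁻¹ lands in the center
    have hc : ∀ g : G, g * x * g⁻¹ * x⁻¹ ∈ Subgroup.center G := by
      intro g
      apply hker
      rw [MonoidHom.mem_ker]
      have := Subgroup.mem_center_iff.mp hq (π g)
      simp only [map_mul, map_inv]
      rw [this]
      simp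
    have hmul : ∀ g h : G, g * h * x * (g * h)⁻¹ * x⁻¹ =
        (g * x * g⁻¹ * x⁻¹) * (h * x * h⁻¹ * x⁻¹) := by
      intro g h
      have h1 := Subgroup.mem_center_iff.mp (hc h) g
      have h2 := Subgroup.mem_center_iff.mp (hc h) (g * x * g⁻¹ * x⁻¹)
      have e1 : g * h * x * (g * h)⁻¹ * x⁻¹
          = (g * (h * x * h⁻¹ * x⁻¹)) * (x * g⁻¹ * x⁻¹) := by
        simp only [mul_assoc, mul_inv_rev, inv_mul_cancel_left]
      have e2 : ((h * x * h⁻¹ * x⁻¹) * g) * (x * g⁻¹ * x⁻¹)
          = (h * x * h⁻¹ * x⁻¹) * (g * x * g⁻¹ * x⁻¹) := by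
        simp only [mul_assoc]
      rw [e1, h1, e2, ← h2]
    let φ : G →* Subgroup.center G :=
      { toFun := fun g => ⟨g * x * g⁻¹ * x⁻¹, hc g⟩
        map_one' := by ext; simp
        map_mul' := by
          intro g h
          apply Subtype.ext
          exact hmul g h }
    have hφ : φ.ker = ⊤ := by
      have h1 : commutator G ≤ φ.ker := by
        rw [commutator_eq_closure, Subgroup.closure_le]
        rintro _ ⟨p, q, rfl⟩
        rw [SetLike.mem_coe, MonoidHom.mem_ker, map_commutatorElement,
          commutatorElement_eq_one_iff_mul_comm]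
        exact mul_comm' _ _
      rw [hG.commutator_eq_top] at h1
      exact top_le_iff.mp h1
    rw [SetLike.mem_coe, Subgroup.mem_center_iff]
    intro g
    have hg : g ∈ φ.ker := by rw [hφ]; trivial
    rw [MonoidHom.mem_ker] at hg
    have hg' : g * x * g⁻¹ * x⁻¹ = 1 := congrArg Subtype.val hg
    have : g * x = x * g := by
      calc g * x = (g * x * g⁻¹ * x⁻¹) * (x * g) := by
            simp only [mul_assoc, inv_mul_cancel_left, inv_mul_cancel, mul_one]
        _ = x * g := by rw [hg', one_mul]
    exact this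

end Cfsg.Agent.S3962
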