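import Cfsg.Statements.S3963
import Mathlib
import Cfsg.Agent.Lib.Helper6_Stem

set_option autoImplicit false
open Cfsg

namespace Cfsg.Agent.S3963

open Cfsg.Agent.Lib.Helper6_Stem QuaternionGroup

theorem closure_a_xa (n : ℕ) [NeZero n] :
    Subgroup.closure {(a 1 : QuaternionGroup n), xa 0} = ⊤ := by
  rw [eq_top_iff]
  intro x _
  have hr : (a 1 : QuaternionGroup n) ∈ Subgroup.closure {(a 1 : QuaternionGroup n), xa 0} :=
    Subgroup.subset_closure (by simp)
  have hs : (xa 0 : QuaternionGroup n) ∈ Subgroup.closure {(a 1 : QuaternionGroup n), xa 0} :=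
    Subgroup.subset_closure (by simp)
  have hri : ∀ i : ZMod (2 * n), (a i : QuaternionGroup n) ∈
      Subgroup.closure {(a 1 : QuaternionGroup n), xa 0} := by
    intro i
    have : (a i : QuaternionGroup n) = (a 1) ^ (ZMod.val i) := by
      rw [a_one_pow, ZMod.natCast_zmod_val]
    rw [this]; exact Subgroup.pow_mem _ hr _
  cases x with
  | a i => exact hri i
  | xa i =>
    have : (xa i : QuaternionGroup n) = xa 0 * a i := by rw [xa_mul_a, zero_add]
    rw [this]; exact Subgroup.mul_mem _ hs (hri i)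

theorem result (n : ℕ) [NeZero n] : Cfsg.HasCyclicSchurMultiplier (QuaternionGroup n) 1 := by
  refine ⟨⟨QuaternionGroup n, inferInstance, inferInstance, MonoidHom.id _, (id_stem _).1, (id_stem _).2⟩, ?_⟩
  intro Γ _ _ σ hσ
  apply exists_surjective_of_ker_trivial
  have hnn : (n : ZMod (2 * n)) + n = 0 := by
    have := ZMod.natCast_self (2 * n)
    push_cast at this
    rw [← two_mul]
    exact this
  have hrel : (xa 0 : QuaternionGroup n) * a 1 * (xa 0)⁻¹ = (a 1)⁻¹ := by
    have h1 : (xa 0 : QuaternionGroup n)⁻¹ = xa n := by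
      rw [inv_eq_iff_mul_eq_one, xa_mul_xa, sub_zero, hnn, a_zero]
    have h2 : (a 1 : QuaternionGroup n)⁻¹ = a (-1) := by
      rw [inv_eq_iff_mul_eq_one, a_mul_a]; simp
    rw [h1, h2, xa_mul_a, xa_mul_xa]
    congr 1
    calc (n : ZMod (2 * n)) + n - (0 + 1) = ((n : ZMod (2 * n)) + n) - 1 := by ring
      _ = -1 := by rw [hnn]; ring
  have hnm : (a 1 : QuaternionGroup n) ^ n = (xa 0) ^ 2 := by
    rw [a_one_pow, xa_sq]
  obtain ⟨c, hc, _, hker⟩ := stem_dihedral_type σ hσ (a 1) (xa 0) (closure_a_xa n) hrel n 2 hnm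
  intro k hk
  obtain ⟨j, rfl, hj⟩ := hker k hk
  have h1 : ((orderOf (a 1 : QuaternionGroup n) : ℕ) : ℤ) ∣ 2 * j := orderOf_dvd_iff_zpow_eq_one.mpr hj
  rw [orderOf_a_one] at h1
  have h2 : (n : ℤ) ∣ j := by
    push_cast at h1
    exact (mul_dvd_mul_iff_left (by norm_num : (2 : ℤ) ≠ 0)).mp h1
  obtain ⟨t, rfl⟩ := h2
  rw [zpow_mul, zpow_natCast, hc, one_zpow]

end Cfsg.Agent.S3963
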