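import Cfsg.Statements.S3964
import Mathlib
import Cfsg.Agent.Lib.Helper6_Stem

set_option autoImplicit false
open Cfsg

namespace Cfsg.Agent.S3964

open Cfsg.Agent.Lib.Helper6_Stem DihedralGroup

theorem closure_r_sr (n : ℕ) : Subgroup.closure {(r 1 : DihedralGroup n), sr 0} = ⊤ := by
  rw [eq_top_iff]
  intro x _
  have hr : (r 1 : DihedralGroup n) ∈ Subgroup.closure {(r 1 : DihedralGroup n), sr 0} :=
    Subgroup.subset_closure (by simp)
  have hs : (sr 0 : DihedralGroup n) ∈ Subgroup.closure {(r 1 : DihedralGroup n), sr 0} :=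
    Subgroup.subset_closure (by simp)
  have hri : ∀ i : ZMod n, (r i : DihedralGroup n) ∈ Subgroup.closure {(r 1 : DihedralGroup n), sr 0} := by
    intro i
    have : (r i : DihedralGroup n) = (r 1) ^ (ZMod.cast i : ℤ) := by
      rw [r_one_zpow, ZMod.intCast_zmod_cast]
    rw [this]; exact Subgroup.zpow_mem _ hr _
  cases x with
  | r i => exact hri i
  | sr i =>
    have : (sr i : DihedralGroup n) = sr 0 * r i := by rw [sr_mul_r, zero_add]
    rw [this]; exact Subgroup.mul_mem _ hs (hri i)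

/-- The dihedral group of order 2n with n odd has trivial Schur multiplier. -/
theorem result (n : ℕ) (hn : Odd n) : Cfsg.HasCyclicSchurMultiplier (DihedralGroup n) 1 := by
  have hn0 : n ≠ 0 := by rintro rfl; simp at hn
  have : NeZero n := ⟨hn0⟩
  refine ⟨⟨DihedralGroup n, inferInstance, inferInstance, MonoidHom.id _, (id_stem _).1, (id_stem _).2⟩, ?_⟩
  intro Γ _ _ σ hσ
  apply exists_surjective_of_ker_trivial
  have hrel : (sr 0 : DihedralGroup n) * r 1 * (sr 0)⁻¹ = (r 1)⁻¹ := by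
    simp [inv_r, inv_sr, sr_mul_r, sr_mul_sr]
  have hnm : (r 1 : DihedralGroup n) ^ n = (sr 0) ^ 0 := by
    rw [r_one_pow_n, pow_zero]
  obtain ⟨c, hc, _, hker⟩ := stem_dihedral_type σ hσ (r 1) (sr 0) (closure_r_sr n) hrel n 0 hnm
  intro k hk
  obtain ⟨j, rfl, hj⟩ := hker k hk
  have h1 : ((orderOf (r 1 : DihedralGroup n) : ℕ) : ℤ) ∣ 2 * j := orderOf_dvd_iff_zpow_eq_one.mpr hj
  rw [orderOf_r_one] at h1
  have h2 : (n : ℤ) ∣ j := by
    have hcop : IsCoprime (n : ℤ) 2 := by
      rw [Int.isCoprime_iff_gcd_eq_one]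
      have := Nat.Coprime.symm (Nat.coprime_two_left.mpr hn)
      simpa [Int.gcd] using this
    exact hcop.dvd_of_dvd_mul_left h1
  obtain ⟨t, rfl⟩ := h2
  rw [zpow_mul, zpow_natCast, hc, one_zpow]

end Cfsg.Agent.S3964
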