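import Cfsg.Statements.S3966
import Mathlib

set_option autoImplicit false
open Cfsg

namespace Cfsg.Agent.S3966

open QuaternionGroup DihedralGroup
open scoped commutatorElement

/-- reduction `ZMod (2n) → ZMod n` -/
noncomputable def red (n : ℕ) : ZMod (2 * n) →+* ZMod n :=
  ZMod.castHom (Dvd.intro_left 2 rfl) (ZMod n)

theorem red_n (n : ℕ) : red n (n : ZMod (2 * n)) = 0 := by
  rw [map_natCast]; exact ZMod.natCast_self n

/-- the map on elements -/
noncomputable def toFun (n : ℕ) : QuaternionGroup n → DihedralGroup n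
  | a i => r (red n i)
  | xa i => sr (red n i)

noncomputable def hom (n : ℕ) : QuaternionGroup n →* DihedralGroup n where
  toFun := toFun n
  map_one' := by
    show r (red n 0) = r 0
    rw [map_zero]
  map_mul' := by
    intro x y
    cases x <;> cases y <;> simp [toFun]

theorem hom_surjective (n : ℕ) : Function.Surjective (hom n) := by
  have hs : Function.Surjective (red n) := ZMod.ringHom_surjective (red n)
  intro y
  cases y with
  | r i => obtain ⟨j, rfl⟩ := hs i; exact ⟨a j, rfl⟩
  | sr i => obtain ⟨j, rfl⟩ := hs i; exact ⟨xa j, rfl⟩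

theorem card_ker (n : ℕ) [NeZero n] : Nat.card (hom n).ker = 2 := by
  have h1 := Subgroup.card_mul_index (hom n).ker
  rw [Subgroup.index_ker, MonoidHom.range_eq_top.mpr (hom_surjective n)] at h1
  rw [Subgroup.card_top, DihedralGroup.nat_card, Nat.card_eq_fintype_card (α := QuaternionGroup n),
    QuaternionGroup.card] at h1
  have hn : 0 < n := Nat.pos_of_ne_zero (NeZero.ne n)
  have : Nat.card (hom n).ker * (2 * n) = 2 * (2 * n) := by rw [h1]; ring
  exact Nat.eq_of_mul_eq_mul_right (by omega) this

theorem nn (n : ℕ) : (n : ZMod (2 * n)) + n = 0 := by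
  have := ZMod.natCast_self (2 * n)
  push_cast at this
  rw [← two_mul]
  exact this

theorem an_mem_ker (n : ℕ) : (a (n : ZMod (2 * n)) : QuaternionGroup n) ∈ (hom n).ker := by
  rw [MonoidHom.mem_ker]
  change toFun n (a n) = 1
  simp [toFun]

theorem an_ne_one (n : ℕ) [NeZero n] : (a (n : ZMod (2 * n)) : QuaternionGroup n) ≠ 1 := by
  rw [QuaternionGroup.one_def]
  intro h
  have h2 : ((n : ℕ) : ZMod (2 * n)) = 0 := by
    injection h
  rw [ZMod.natCast_eq_zero_iff] at h2
  have hn : 0 < n := Nat.pos_of_ne_zero (NeZero.ne n)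
  have := Nat.le_of_dvd hn h2
  omega

theorem ker_eq (n : ℕ) [NeZero n] : ∀ x ∈ (hom n).ker, x = 1 ∨ x = a (n : ZMod (2 * n)) := by
  intro x hx
  have hfin : Finite (hom n).ker := Nat.finite_of_card_ne_zero (by rw [card_ker]; norm_num)
  have hc : Nat.card (hom n).ker = 2 := card_ker n
  by_contra hne
  rw [not_or] at hne
  -- three distinct elements in a set of size two
  let f : Fin 3 → (hom n).ker := ![1, ⟨a n, an_mem_ker n⟩, ⟨x, hx⟩]
  have hinj : Function.Injective f := by
    intro i j hij
    fin_cases i <;> fin_cases j <;> simp [f, Subtype.ext_iff] at hij ⊢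
    · exact absurd hij.symm (an_ne_one n)
    · exact absurd hij.symm hne.1
    · exact absurd hij (an_ne_one n)
    · exact absurd hij.symm hne.2
    · exact absurd hij hne.1
    · exact absurd hij hne.2
  have := Nat.card_le_card_of_injective f hinj
  rw [hc] at this
  simp at this

theorem an_central (n : ℕ) : (a (n : ZMod (2 * n)) : QuaternionGroup n) ∈ Subgroup.center _ := by
  rw [Subgroup.mem_center_iff]
  intro g
  cases g with
  | a i => rw [a_mul_a, a_mul_a, add_comm]
  | xa i =>
    rw [xa_mul_a, a_mul_xa]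
    congr 1
    have := nn n
    calc i + (n : ZMod (2 * n)) = i - n + (n + n) := by ring
      _ = i - n := by rw [this, add_zero]

theorem an_comm (n : ℕ) (hn : Even n) :
    (a (n : ZMod (2 * n)) : QuaternionGroup n) ∈ commutator (QuaternionGroup n) := by
  obtain ⟨m, hm⟩ := hn
  have hx : (xa 0 : QuaternionGroup n)⁻¹ = xa n := by
    rw [inv_eq_iff_mul_eq_one, xa_mul_xa, sub_zero, nn, a_zero]
  have ha : (a 1 : QuaternionGroup n)⁻¹ = a (-1) := by
    rw [inv_eq_iff_mul_eq_one, a_mul_a]; simp
  have h1 : ⁅(a 1 : QuaternionGroup n), (xa 0 : QuaternionGroup n)⁆ = a 2 := by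
    rw [commutatorElement_def, hx, ha, a_mul_xa, xa_mul_a, xa_mul_xa]
    congr 1
    calc (n : ZMod (2 * n)) + n - (0 - 1 + -1) = (n + n) + 2 := by ring
      _ = 2 := by rw [nn, zero_add]
  have h2 : (a 2 : QuaternionGroup n) = (a 1) ^ 2 := by rw [a_one_pow]; norm_num
  have h3 : (a (n : ZMod (2 * n)) : QuaternionGroup n) = ((a 1) ^ 2) ^ m := by
    rw [← pow_mul, a_one_pow]
    congr 1
    rw [hm]; push_cast; ring
  rw [h3, ← h2, ← h1]
  exact Subgroup.pow_mem _ (Subgroup.commutator_mem_commutator (Subgroup.mem_top _) (Subgroup.mem_top _)) m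

theorem result (n : ℕ) [NeZero n] (hn : Even n) : ∃ σ : QuaternionGroup n →* DihedralGroup n, Cfsg.IsStemExtension σ ∧ Nat.card σ.ker = 2 := by
  refine ⟨hom n, ⟨hom_surjective n, ?_, ?_⟩, card_ker n⟩
  · intro x hx
    rcases ker_eq n x hx with rfl | rfl
    · exact Subgroup.one_mem _
    · exact an_central n
  · intro x hx
    rcases ker_eq n x hx with rfl | rfl
    · exact Subgroup.one_mem _
    · exact an_comm n hn

end Cfsg.Agent.S3966
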