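import Cfsg.Statements.S3965
import Mathlib
import Cfsg.Agent.Lib.Helper6_Stem
import Cfsg.Agent.S3964
import Cfsg.Agent.S3966

set_option autoImplicit false
open Cfsg

namespace Cfsg.Agent.S3965

open Cfsg.Agent.Lib.Helper6_Stem DihedralGroup

theorem result (n : ℕ) [NeZero n] (hn : Even n) : Cfsg.HasCyclicSchurMultiplier (DihedralGroup n) 2 := by
  constructor
  · obtain ⟨σ, hσ, hcard⟩ := Cfsg.Agent.S3966.result n hn
    refine ⟨QuaternionGroup n, inferInstance, inferInstance, σ, hσ, ?_⟩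
    have : Fact (Nat.Prime 2) := ⟨Nat.prime_two⟩
    exact ⟨mulEquivOfPrimeCardEq (p := 2) hcard (by simp [Nat.card_eq_fintype_card, ZMod.card])⟩
  · intro Γ _ _ σ hσ
    have hrel : (sr 0 : DihedralGroup n) * r 1 * (sr 0)⁻¹ = (r 1)⁻¹ := by
      simp [inv_r, inv_sr, sr_mul_r, sr_mul_sr]
    have hnm : (r 1 : DihedralGroup n) ^ n = (sr 0) ^ 0 := by
      rw [r_one_pow_n, pow_zero]
    obtain ⟨c, hc, hσc, hker⟩ :=
      stem_dihedral_type σ hσ (r 1) (sr 0) (Cfsg.Agent.S3964.closure_r_sr n) hrel n 0 hnm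
    obtain ⟨m, hm⟩ := hn
    -- every element of the kernel is a power of c ^ m
    have hkey : ∀ k ∈ σ.ker, ∃ t : ℤ, k = (c ^ m) ^ t := by
      intro k hk
      obtain ⟨j, rfl, hj⟩ := hker k hk
      have h1 : ((orderOf (r 1 : DihedralGroup n) : ℕ) : ℤ) ∣ 2 * j :=
        orderOf_dvd_iff_zpow_eq_one.mpr hj
      rw [orderOf_r_one, hm] at h1
      have h2 : (m : ℤ) ∣ j := by
        push_cast at h1
        rw [← two_mul] at h1
        exact (mul_dvd_mul_iff_left (by norm_num : (2 : ℤ) ≠ 0)).mp h1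
      obtain ⟨t, rfl⟩ := h2
      exact ⟨t, by rw [zpow_mul, zpow_natCast]⟩
    have hm0 : m ≠ 0 := by
      rintro rfl
      exact (NeZero.ne n) (by simpa using hm)
    have hcm : c ^ m ∈ σ.ker := by
      rw [MonoidHom.mem_ker, map_pow, hσc]
      have : ((r 1 : DihedralGroup n)⁻¹ * (r 1)⁻¹) ^ m = ((r 1) ^ n)⁻¹ := by
        rw [hm, ← two_mul, ← mul_inv_rev, inv_pow, ← pow_two, ← pow_mul]
      rw [this, r_one_pow_n, inv_one]
    have hsq : (⟨c ^ m, hcm⟩ : σ.ker) ^ 2 = 1 := by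
      apply Subtype.ext
      show (c ^ m) ^ 2 = 1
      rw [← pow_mul, mul_comm, two_mul, ← hm, hc]
    refine exists_surjective_of_zpowers 2 ⟨c ^ m, hcm⟩ hsq ?_
    rintro ⟨k, hk⟩
    obtain ⟨t, ht⟩ := hkey k hk
    rw [Subgroup.mem_zpowers_iff]
    refine ⟨t, Subtype.ext ?_⟩
    show ((⟨c ^ m, hcm⟩ : σ.ker) ^ t : σ.ker).1 = k
    rw [Subgroup.coe_zpow, ht]

end Cfsg.Agent.S3965
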