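import Cfsg.Statements.S3968
import Mathlib
import Cfsg.Agent.Lib.Helper2_CharCenter
import Cfsg.Agent.S0154

set_option autoImplicit false
open Cfsg

namespace Cfsg.Agent.S3968

open Cfsg.Agent.Lib.Helper2_ClassFn
open Cfsg.Agent.Lib.Helper2_CharBasic
open Cfsg.Agent.Lib.Helper2_CharOrtho
open Cfsg.Agent.Lib.Helper2_CharMore
open Cfsg.Agent.Lib.Helper2_CharValues
open Cfsg.Agent.Lib.Helper2_CharInt
open Cfsg.Agent.Lib.Helper2_CharInd
open Cfsg.Agent.Lib.Helper2_CharBurnside
open Cfsg.Agent.Lib.Helper2_CharCenter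
open scoped ComplexConjugate

/-- An endomorphism of finite order whose trace has absolute value the dimension is a scalar. -/
theorem scalar_of_norm_trace_eq {V : Type*} [AddCommGroup V] [Module ℂ V] [FiniteDimensional ℂ V]
    {f : Module.End ℂ V} {m : ℕ} (hm : 0 < m) (hf : f ^ m = 1)
    (htr : ‖LinearMap.trace ℂ V f‖ = Module.finrank ℂ V) : ∃ c : ℂ, f = c • (1 : Module.End ℂ V) := by
  rcases Nat.eq_zero_or_pos (Module.finrank ℂ V) with h0 | h0
  · have : Subsingleton V := Module.finrank_zero_iff.mp h0
    exact ⟨0, by ext v; exact Subsingleton.elim _ _⟩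
  · set n := Module.finrank ℂ V with hn
    set t := LinearMap.trace ℂ V f with ht
    have hn0 : (n : ℂ) ≠ 0 := by exact_mod_cast h0.ne'
    set c := t / n with hcdef
    have htc : t = c * n := by rw [hcdef]; field_simp
    have hc : ‖c‖ = 1 := by
      rw [hcdef, norm_div, htr, Complex.norm_natCast]
      have : (n : ℝ) ≠ 0 := by exact_mod_cast h0.ne'
      field_simp
    have hcc : c * conj c = 1 := by
      rw [Complex.mul_conj, Complex.normSq_eq_norm_sq, hc]; simp
    have hc0 : c ≠ 0 := by
      intro h; rw [h, norm_zero] at hc; exact zero_ne_one hc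
    have hre : ∀ μ ∈ f.charpoly.roots, (μ * conj c).re ≤ 1 := by
      intro μ hμ
      have h1 := norm_eq_one_of_pow_eq_one hm (roots_charpoly_pow_eq_one hf hμ)
      calc (μ * conj c).re ≤ ‖μ * conj c‖ := Complex.re_le_norm _
        _ = 1 := by rw [norm_mul, h1, Complex.norm_conj, hc, one_mul]
    have hsum : (f.charpoly.roots.map (fun μ => 1 - (μ * conj c).re)).sum = 0 := by
      rw [Multiset.sum_map_sub, Multiset.map_const', Multiset.sum_replicate, nsmul_eq_mul, mul_one,
        card_roots_charpoly]
      have h2 : (f.charpoly.roots.map (fun μ => (μ * conj c).re)).sum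
          = ((f.charpoly.roots.map (fun μ => μ * conj c)).sum).re := by
        have := map_multiset_sum Complex.reLm.toAddMonoidHom
          (f.charpoly.roots.map (fun μ => μ * conj c))
        rw [Multiset.map_map] at this
        simpa using this.symm
      rw [h2, Multiset.sum_map_mul_right, Multiset.map_id', ← Lib.Helper2_CharValues.trace_eq_sum_roots, ← ht, htc]
      have : c * (n : ℂ) * conj c = n := by
        rw [mul_comm c, mul_assoc, hcc, mul_one]
      rw [this, ← hn]
      simp
    have hall : ∀ μ ∈ f.charpoly.roots, μ = c := by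
      intro μ hμ
      have h0' : ∀ x ∈ f.charpoly.roots.map (fun μ => 1 - (μ * conj c).re), (0 : ℝ) ≤ x := by
        intro x hx
        obtain ⟨ν, hν, rfl⟩ := Multiset.mem_map.mp hx
        linarith [hre ν hν]
      have := multiset_eq_zero_of_sum_eq_zero _ h0' hsum (1 - (μ * conj c).re)
        (Multiset.mem_map.mpr ⟨μ, hμ, rfl⟩)
      have hre1 : (μ * conj c).re = 1 := by linarith
      have hnμ := norm_eq_one_of_pow_eq_one hm (roots_charpoly_pow_eq_one hf hμ)
      have hnn : ‖μ * conj c‖ = 1 := by rw [norm_mul, hnμ, Complex.norm_conj, hc, one_mul]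
      have him : (μ * conj c).im = 0 := by
        have h1 : ‖μ * conj c‖ ^ 2 = (μ * conj c).re ^ 2 + (μ * conj c).im ^ 2 := by
          rw [← Complex.normSq_eq_norm_sq, Complex.normSq_apply]; ring
        rw [hnn, hre1] at h1
        have : (μ * conj c).im ^ 2 = 0 := by linarith
        exact pow_eq_zero_iff (by norm_num) |>.mp this
      have h1 : μ * conj c = 1 := Complex.ext hre1 him
      calc μ = μ * (conj c * c) := by rw [mul_comm (conj c), hcc, mul_one]
        _ = (μ * conj c) * c := by ring
        _ = c := by rw [h1, one_mul]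
    obtain ⟨μ, hμ⟩ : ∃ μ, μ ∈ f.charpoly.roots := by
      apply Multiset.card_pos_iff_exists_mem.mp
      rw [card_roots_charpoly]; exact h0
    have hcm : c ^ m = 1 := by
      rw [← hall μ hμ]; exact roots_charpoly_pow_eq_one hf hμ
    have hg : (c⁻¹ • f) ^ m = 1 := by
      rw [smul_pow, hf, inv_pow, hcm]; simp
    have htr' : LinearMap.trace ℂ V (c⁻¹ • f) = (Module.finrank ℂ V : ℂ) := by
      rw [map_smul, smul_eq_mul, ← ht, htc, ← hn]
      field_simp
    have h1 := eq_one_of_trace_eq hm hg htr'
    refine ⟨c, ?_⟩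
    rw [← h1, smul_smul, mul_inv_cancel₀ hc0, one_smul]

/-- For a faithful irreducible character, an element where `|χ|` is maximal is central. -/
theorem mem_center_of_norm_eq {G : Type*} [Group G] [Finite G] {χ : G → ℂ}
    (hχ : IsIrrCharacter G χ) (hfaith : ∀ g : G, χ g = χ 1 → g = 1) (z : G) (n : ℕ)
    (hn : χ 1 = n) (hz : ‖χ z‖ = n) : z ∈ Subgroup.center G := by
  obtain ⟨n', ρ, hirr, rfl⟩ := hχ
  have hfin : Module.finrank ℂ (Fin n' → ℂ) = n' := by simp
  have hnn : n' = n := by
    rw [Representation.char_one, hfin] at hn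
    exact_mod_cast hn
  subst hnn
  obtain ⟨c, hc⟩ := scalar_of_norm_trace_eq (f := ρ z) (orderOf_pos z) (rep_pow_orderOf ρ z)
    (by rw [hfin]; exact hz)
  rw [Subgroup.mem_center_iff]
  intro g
  have hcomm : ρ (z * g) = ρ (g * z) := by
    rw [map_mul, map_mul, hc]
    ext v i
    simp
  have h1 : ρ (z * g * z⁻¹ * g⁻¹) = 1 := by
    have : z * g * z⁻¹ * g⁻¹ = (z * g) * (z⁻¹ * g⁻¹) := by group
    rw [this, map_mul, hcomm, ← map_mul]
    have : g * z * (z⁻¹ * g⁻¹) = 1 := by group
    rw [this, map_one]
  have h2 : ρ.character (z * g * z⁻¹ * g⁻¹) = ρ.character 1 := by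
    unfold Representation.character
    rw [h1, map_one ρ]
  have h3 := hfaith _ h2
  have : z * g = g * z := by
    have h4 : z * g * z⁻¹ * g⁻¹ * (g * z) = 1 * (g * z) := by rw [h3]
    rw [one_mul] at h4
    rw [← h4]; group
  exact this.symm

/-- Let `p` be a prime and `G` a finite group with a faithful irreducible complex character of degree `p` (so `G` is an irreducible linear group in `p` variables). If `p ^ 2` divides the order of `G`, then the centre of `G` is nontrivial. -/
theorem result {G : Type*} [Group G] [Finite G] (p : ℕ) (hp : p.Prime) (χ : Cfsg.IrrCharacter G) (hdeg : χ.1 1 = p) (hfaith : ∀ g : G, χ.1 g = χ.1 1 → g = 1) (hdiv : p ^ 2 ∣ Nat.card G) : Subgroup.center G ≠ ⊥ := by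
  classical
  intro hbot
  haveI : Fintype G := Fintype.ofFinite G
  haveI : Fact p.Prime := ⟨hp⟩
  obtain ⟨χ, hχ⟩ := χ
  simp only at hdeg hfaith
  have hχc := IsIrrCharacter.isCharacter hχ
  have P : Sylow p G := default
  obtain ⟨k, hk2, hPk⟩ : ∃ k, 2 ≤ k ∧ Nat.card P = p ^ k :=
    ⟨_, (hp.pow_dvd_iff_le_factorization Nat.card_pos.ne').mp hdiv, P.card_eq_multiplicity⟩
  -- vanishing on elements commuting with `P`
  have hvan : ∀ z : G, (∀ x ∈ (P : Subgroup G), x * z = z * x) → z ≠ 1 → χ z = 0 := by
    intro z hzc hz1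
    have hle : (P : Subgroup G) ≤ Subgroup.centralizer {z} := by
      intro x hx
      rw [Subgroup.mem_centralizer_singleton_iff]
      exact hzc x hx
    have hcop : Nat.Coprime p (Finset.univ.filter (fun x : G => IsConj x z)).card := by
      rw [← index_centralizer_eq_card_class]
      have hdvd := Subgroup.index_dvd_of_le hle
      have hnd := P.not_dvd_index
      exact (Nat.Prime.coprime_iff_not_dvd hp).mpr (fun h => hnd (h.trans hdvd))
    rcases burnside_coprime hχ z p hdeg hcop with h | h
    · exact h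
    · exfalso
      have := mem_center_of_norm_eq hχ hfaith z p hdeg h
      rw [hbot, Subgroup.mem_bot] at this
      exact hz1 this
  -- restriction to `P`
  have hχP : IsCharacter P (fun x : P => χ x) := IsCharacter.restrict hχc P
  obtain ⟨m, hm, hsum⟩ := IsCharacter.exists_irr_decomp hχP
  have hval : ∀ x : P, χ x = (m.map (fun ψ => ψ x)).sum := by
    intro x
    have := congrFun hsum x
    rw [Pi.multiset_sum_apply] at this
    exact this
  have hdeg' := fun ψ (h : IsIrrCharacter P ψ) => IsIrrCharacter.apply_one h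
  choose! d hd0 hd1 using hdeg'
  have hdsum : (m.map d).sum = p := by
    have h1 := hval 1
    have h2 : m.map (fun ψ => ψ 1) = m.map (fun ψ => ((d ψ : ℕ) : ℂ)) :=
      Multiset.map_congr rfl fun ψ hψ => hd1 ψ (hm ψ hψ)
    rw [h2] at h1
    have h3 : (m.map (fun ψ => ((d ψ : ℕ) : ℂ))).sum = (((m.map d).sum : ℕ) : ℂ) := by
      rw [Nat.cast_multiset_sum, Multiset.map_map]; rfl
    rw [h3] at h1
    have : χ ((1 : P) : G) = p := by rw [← hdeg]; rfl
    rw [this] at h1
    exact_mod_cast h1.symm
  have hPgrp : IsPGroup p P := P.isPGroup'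
  have hPnt : Nontrivial P := by
    apply (Finite.one_lt_card_iff_nontrivial).mp
    rw [hPk]
    exact Nat.one_lt_pow (by omega) hp.one_lt
  by_cases hall : ∀ ψ ∈ m, d ψ = 1
  · -- all constituents linear: `P` is abelian
    have hcommP : ∀ a b : P, a * b = b * a := by
      intro a b
      have hone : ∀ ψ ∈ m, ψ (a * b * a⁻¹ * b⁻¹) = 1 := by
        intro ψ hψ
        have h1 : ψ 1 = 1 := by rw [hd1 ψ (hm ψ hψ), hall ψ hψ]; simp
        obtain ⟨ω, hω⟩ := Cfsg.Agent.S0154.exists_hom_of_degree_one ψ (hm ψ hψ) h1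
        rw [hω]
        simp only [map_mul, map_inv]
        have : ω a * ω b * (ω a)⁻¹ * (ω b)⁻¹ = 1 := by
          rw [mul_comm (ω a) (ω b), mul_assoc (ω b), mul_inv_cancel, mul_one, mul_inv_cancel]
        rw [this]; rfl
      have h2 := hval (a * b * a⁻¹ * b⁻¹)
      rw [Multiset.map_congr rfl hone] at h2
      have h3 : m.map (fun _ => (1 : ℂ)) = m.map (fun ψ => ((d ψ : ℕ) : ℂ)) :=
        Multiset.map_congr rfl fun ψ hψ => by rw [hall ψ hψ]; simp
      rw [h3] at h2
      have h4 : (m.map (fun ψ => ((d ψ : ℕ) : ℂ))).sum = (((m.map d).sum : ℕ) : ℂ) := by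
        rw [Nat.cast_multiset_sum, Multiset.map_map]; rfl
      rw [h4, hdsum, ← hdeg] at h2
      have h5 := hfaith _ h2
      have h6 : a * b * a⁻¹ * b⁻¹ = 1 := Subtype.ext h5
      have h7 : a * b * a⁻¹ * b⁻¹ * (b * a) = 1 * (b * a) := by rw [h6]
      rw [one_mul] at h7
      rw [← h7]; group
    have hvanP : ∀ x : P, x ≠ 1 → χ x = 0 := by
      intro x hx
      apply hvan
      · intro y hy
        have := hcommP ⟨y, hy⟩ x
        exact congrArg Subtype.val this
      · intro h
        exact hx (Subtype.ext h)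
    obtain ⟨j, hj⟩ := IsCharacter.classInner_nat hχP (isCharacter_one (G := P))
    rw [classInner_def] at hj
    have hs : ∑ x : P, (fun x : P => χ x) x * conj ((fun _ : P => (1 : ℂ)) x) = p := by
      refine (Fintype.sum_eq_single (1 : P) ?_).trans ?_
      · intro x hx
        simp only [map_one, mul_one]
        exact hvanP x hx
      · simp only [map_one, mul_one]
        rw [← hdeg]; rfl
    rw [hs, hPk] at hj
    have hp0 : (p : ℂ) ≠ 0 := by exact_mod_cast hp.ne_zero
    have h1 : (p : ℂ) = j * (p ^ k : ℕ) := by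
      have hpk : ((p ^ k : ℕ) : ℂ) ≠ 0 := by exact_mod_cast (pow_pos hp.pos k).ne'
      field_simp at hj
      rw [hj, mul_comm]
    have h2 : p = j * p ^ k := by exact_mod_cast h1
    have hj0 : 0 < j := by
      rcases Nat.eq_zero_or_pos j with h | h
      · rw [h, zero_mul] at h2; exact absurd h2 hp.ne_zero
      · exact h
    have h3 : p ^ 2 ≤ p := by
      calc p ^ 2 ≤ p ^ k := Nat.pow_le_pow_right hp.pos hk2
        _ ≤ j * p ^ k := Nat.le_mul_of_pos_left _ hj0
        _ = p := h2.symm
    have := hp.one_lt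
    nlinarith
  · -- some constituent has degree `p`: restriction irreducible
    push Not at hall
    obtain ⟨ψ, hψm, hψ1⟩ := hall
    have hdvd : d ψ ∣ p ^ k := by
      rw [← hPk]
      exact degree_dvd_card (hm ψ hψm) (d ψ) (hd1 ψ (hm ψ hψm))
    obtain ⟨j, -, hj⟩ := (Nat.dvd_prime_pow hp).mp hdvd
    have hj0 : j ≠ 0 := by
      rintro rfl
      exact hψ1 (by simpa using hj)
    have hpd : p ∣ d ψ := by
      rw [hj]; exact dvd_pow_self p hj0
    obtain ⟨m', rfl⟩ := Multiset.exists_cons_of_mem hψm
    rw [Multiset.map_cons, Multiset.sum_cons] at hdsum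
    have hdp : d ψ = p := by
      apply Nat.le_antisymm
      · omega
      · exact Nat.le_of_dvd (hd0 ψ (hm ψ hψm)) hpd
    have hm'0 : m' = 0 := by
      by_contra hne
      obtain ⟨φ, hφ⟩ := Multiset.exists_mem_of_ne_zero hne
      have h1 := hd0 φ (hm φ (Multiset.mem_cons_of_mem hφ))
      have h2 : d φ ≤ (m'.map d).sum := Multiset.single_le_sum (by intro x _; exact Nat.zero_le x) _
        (Multiset.mem_map_of_mem d hφ)
      omega
    rw [hm'0] at hsum
    simp only [Multiset.cons_zero, Multiset.sum_singleton] at hsum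
    have hirrP : IsIrrCharacter P (fun x : P => χ x) := by rw [hsum]; exact hm ψ hψm
    haveI := hPgrp.center_nontrivial
    obtain ⟨z, hz⟩ := exists_ne (1 : Subgroup.center P)
    have hnorm := norm_central hirrP z.2
    have hz0 : χ ((z : P) : G) = 0 := by
      apply hvan
      · intro y hy
        have := (Subgroup.mem_center_iff.mp z.2) ⟨y, hy⟩
        exact congrArg Subtype.val this
      · intro h
        apply hz
        apply Subtype.ext
        apply Subtype.ext
        exact h
    rw [hz0] at hnorm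
    have : χ ((1 : P) : G) = p := by rw [← hdeg]; rfl
    rw [this] at hnorm
    simp at hnorm
    exact hp.ne_zero (by exact_mod_cast hnorm.symm)

end Cfsg.Agent.S3968
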