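import Mathlib
import Cfsg.Statements.S3969
import Cfsg.Agent.Lib.Helper7_FrattiniAct

set_option autoImplicit false
open Cfsg

namespace Cfsg.Agent.S3969

open Cfsg.Agent.Lib.Helper7_FrattiniAct Cfsg.Agent.Lib.Helper7_Metacyclic

theorem exists_dvd {G : Type*} [Group G] [Finite G] (p q : ℕ) [Fact p.Prime] [Fact q.Prime]
    (hqp : q ≠ p) (P : Sylow p G)
    (z : G) (hzN : z ∈ Subgroup.normalizer ((P : Subgroup G) : Set G)) (k : ℕ)
    (hk : orderOf z = q ^ k)
    (hnc : z ∉ Subgroup.centralizer ((P : Subgroup G) : Set G)) :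
    ∃ i : ℕ, 1 ≤ i ∧ i ≤ Group.rank (P : Subgroup G) ∧ q ∣ p ^ i - 1 := by
  have hcard : Nat.card (↥(P : Subgroup G) ⧸ frattini ↥(P : Subgroup G)) ∣
      p ^ Group.rank (P : Subgroup G) :=
    card_quot_frattini_dvd_rank (Q := ↥(P : Subgroup G)) p P.isPGroup'
  exact prime_dvd_of_not_centralize_gen p q hqp (P : Subgroup G) P.isPGroup' z hzN k hk _ hcard hnc

theorem result {G : Type*} [Group G] [Finite G] (p : ℕ) [Fact p.Prime] (P : Sylow p G) (hab : IsMulCommutative (P : Subgroup G)) (hcop : Nat.Coprime (Nat.card G) (∏ i ∈ Finset.Icc 1 (Group.rank (P : Subgroup G)), (p ^ i - 1))) : Cfsg.HasNormalPComplement p G := by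
  have hp := (Fact.out : p.Prime)
  have hNC : Subgroup.normalizer ((P : Subgroup G) : Set G) ≤ Subgroup.centralizer (P : Set G) := by
    intro y hy
    apply mem_of_prime_power_parts (Subgroup.centralizer (P : Set G)) (orderOf y) y rfl
    intro z hz q k hq hk
    have hzN : z ∈ Subgroup.normalizer ((P : Subgroup G) : Set G) := Subgroup.zpowers_le.mpr hy hz
    by_cases hqp : q = p
    · subst hqp
      have hzp : IsPGroup q (Subgroup.zpowers z) :=
        IsPGroup.of_card (n := k) (by rw [Nat.card_zpowers, hk])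
      have h1 := hzp.inf_normalizer_sylow P
      have hzP : z ∈ (P : Subgroup G) := by
        have : z ∈ Subgroup.zpowers z ⊓ Subgroup.normalizer ((P : Subgroup G) : Set G) :=
          Subgroup.mem_inf.mpr ⟨Subgroup.mem_zpowers z, hzN⟩
        exact (Subgroup.mem_inf.mp (h1.le this)).2
      rw [Subgroup.mem_centralizer_iff]
      intro x hx
      have := hab.is_comm.comm ⟨x, hx⟩ ⟨z, hzP⟩
      exact congrArg Subtype.val this
    · by_contra hnc
      haveI : Fact q.Prime := ⟨hq⟩
      obtain ⟨i, hi1, hi2, hi3⟩ := exists_dvd p q hqp P z hzN k hk hnc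
      have h2 : q ∣ ∏ i ∈ Finset.Icc 1 (Group.rank (P : Subgroup G)), (p ^ i - 1) :=
        hi3.trans (Finset.dvd_prod_of_mem _ (Finset.mem_Icc.mpr ⟨hi1, hi2⟩))
      have hk0 : k ≠ 0 := by
        rintro rfl
        rw [pow_zero, orderOf_eq_one_iff] at hk
        subst hk
        exact hnc (one_mem _)
      have h3 : q ∣ Nat.card G := by
        have : q ∣ orderOf z := by rw [hk]; exact dvd_pow_self q hk0
        exact this.trans (orderOf_dvd_natCard z)
      exact hq.one_lt.ne' (Nat.Coprime.eq_one_of_dvd (hcop.coprime_dvd_left h3) h2)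
  exact ⟨P, _, inferInstance, MonoidHom.ker_transferSylow_isComplement' P hNC⟩

end Cfsg.Agent.S3969
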