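import Cfsg.Statements.S3970
import Mathlib

set_option autoImplicit false
open Cfsg

namespace Cfsg.Agent.S3970

/-- A `p'`-element normalizing an abelian `p`-group and centralizing its elements of order
dividing `p` centralizes the whole group. -/
theorem centralizes_of_omega {G : Type*} [Group G] (P : Subgroup G)
    (hab : ∀ a ∈ P, ∀ b ∈ P, a * b = b * a) (p : ℕ)
    (hPp : ∀ x ∈ P, ∃ e : ℕ, x ^ (p ^ e) = 1)
    (g : G) (hg : ∀ x ∈ P, g * x * g⁻¹ ∈ P)
    (m : ℕ) (hm : g ^ m = 1) (hmp : Nat.Coprime m p)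
    (hΩ : ∀ x ∈ P, x ^ p = 1 → g * x * g⁻¹ = x) :
    ∀ x ∈ P, g * x * g⁻¹ = x := by
  have key : ∀ e : ℕ, ∀ x ∈ P, x ^ (p ^ e) = 1 → g * x * g⁻¹ = x := by
    intro e
    induction e with
    | zero =>
      intro x _ hx
      rw [pow_zero, pow_one] at hx
      rw [hx]; group
    | succ e ih =>
      intro x hx hxe
      have hxp : (x ^ p) ^ (p ^ e) = 1 := by
        rw [← pow_mul, ← pow_succ']; exact hxe
      have h1 : g * x ^ p * g⁻¹ = x ^ p := ih (x ^ p) (P.pow_mem hx p) hxp
      obtain ⟨c, hc⟩ : ∃ c, c = g * x * g⁻¹ := ⟨_, rfl⟩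
      have hcP : c ∈ P := hc ▸ hg x hx
      obtain ⟨y, hy⟩ : ∃ y, y = x⁻¹ * c := ⟨_, rfl⟩
      have hyP : y ∈ P := hy ▸ P.mul_mem (P.inv_mem hx) hcP
      have hcp : c ^ p = x ^ p := by rw [hc, conj_pow, h1]
      have hyp : y ^ p = 1 := by
        have hcomm : Commute x⁻¹ c := hab _ (P.inv_mem hx) _ hcP
        rw [hy, hcomm.mul_pow, hcp, inv_pow, inv_mul_cancel]
      have hgy : g * y * g⁻¹ = y := hΩ y hyP hyp
      have hcxy : c = x * y := by rw [hy]; group
      have hk : ∀ k : ℕ, g ^ k * x * (g ^ k)⁻¹ = x * y ^ k := by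
        intro k
        induction k with
        | zero => simp
        | succ k ihk =>
          have e1 : g ^ (k + 1) * x * (g ^ (k + 1))⁻¹ = g * (g ^ k * x * (g ^ k)⁻¹) * g⁻¹ := by
            rw [pow_succ']; group
          rw [e1, ihk]
          have e2 : g * (x * y ^ k) * g⁻¹ = (g * x * g⁻¹) * (g * y * g⁻¹) ^ k := by
            rw [conj_pow]; group
          rw [e2, hgy, ← hc, hcxy, pow_succ', mul_assoc]
      have hym : y ^ m = 1 := by
        have := hk m
        rw [hm] at this
        simp only [one_mul, inv_one, mul_one] at this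
        exact (mul_eq_left.mp this.symm)
      have hy1 : y = 1 := by
        have h1 : orderOf y ∣ m := orderOf_dvd_of_pow_eq_one hym
        have h2 : orderOf y ∣ p := orderOf_dvd_of_pow_eq_one hyp
        have h3 : orderOf y ∣ 1 := by
          have := Nat.dvd_gcd h1 h2
          rwa [Nat.Coprime.gcd_eq_one hmp] at this
        exact orderOf_eq_one_iff.mp (Nat.dvd_one.mp h3)
      rw [← hc, hcxy, hy1, mul_one]
  intro x hx
  obtain ⟨e, he⟩ := hPp x hx
  exact key e x hx he

/-- In a finite abelian group generated by two elements, at most `p ^ 2` elements have order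
dividing `p`. -/
theorem card_ker_pow_le {A : Type*} [Group A] [Finite A] (hcomm : ∀ a b : A, a * b = b * a)
    (p : ℕ) (hp : 0 < p) (s1 s2 : A)
    (hgen : Subgroup.closure ({s1, s2} : Set A) = ⊤) :
    Nat.card {x : A // x ^ p = 1} ≤ p ^ 2 := by
  classical
  letI : CommGroup A := { ‹Group A› with mul_comm := hcomm }
  obtain ⟨φ, hφ⟩ : ∃ φ : A →* A, φ = powMonoidHom p := ⟨_, rfl⟩
  have hφx : ∀ x, φ x = x ^ p := by intro x; rw [hφ]; rfl
  have h1 : Nat.card A = Nat.card φ.ker * Nat.card φ.range := by
    rw [Subgroup.card_eq_card_quotient_mul_card_subgroup φ.ker,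
      Nat.card_congr (QuotientGroup.quotientKerEquivRange φ).toEquiv, mul_comm]
  have h2 : Nat.card A ≤ p * (p * Nat.card φ.range) := by
    let f : Fin p × Fin p × φ.range → A := fun t => s1 ^ (t.1 : ℕ) * s2 ^ (t.2.1 : ℕ) * t.2.2
    have hf : Function.Surjective f := by
      intro x
      have hx : x ∈ Subgroup.closure ({s1, s2} : Set A) := by rw [hgen]; trivial
      obtain ⟨m, n, hmn⟩ := Subgroup.mem_closure_pair.mp hx
      have hp' : (0 : ℤ) < p := by exact_mod_cast hp
      have hm0 := Int.emod_nonneg m hp'.ne'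
      have hm1 := Int.emod_lt_of_pos m hp'
      have hn0 := Int.emod_nonneg n hp'.ne'
      have hn1 := Int.emod_lt_of_pos n hp'
      have hmi : ((m % p).toNat : ℤ) = m % p := Int.toNat_of_nonneg hm0
      have hni : ((n % p).toNat : ℤ) = n % p := Int.toNat_of_nonneg hn0
      have hmlt : (m % p).toNat < p := by omega
      have hnlt : (n % p).toNat < p := by omega
      refine ⟨(⟨(m % p).toNat, hmlt⟩, ⟨(n % p).toNat, hnlt⟩,
        ⟨φ (s1 ^ (m / p) * s2 ^ (n / p)), ⟨_, rfl⟩⟩), ?_⟩
      simp only [f]
      rw [hφx, ← hmn]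
      have e1 : s1 ^ m = s1 ^ (m % p).toNat * (s1 ^ (m / p)) ^ p := by
        rw [← zpow_natCast s1, hmi, ← zpow_natCast (s1 ^ (m / p)), ← zpow_mul, ← zpow_add]
        congr 1
        have := Int.emod_add_mul_ediv m p
        linarith
      have e2 : s2 ^ n = s2 ^ (n % p).toNat * (s2 ^ (n / p)) ^ p := by
        rw [← zpow_natCast s2, hni, ← zpow_natCast (s2 ^ (n / p)), ← zpow_mul, ← zpow_add]
        congr 1
        have := Int.emod_add_mul_ediv n p
        linarith
      rw [e1, e2, mul_pow]
      simp only [mul_comm, mul_left_comm, mul_assoc]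
    have := Nat.card_le_card_of_surjective f hf
    rwa [Nat.card_prod, Nat.card_prod, Nat.card_fin] at this
  have h3 : Nat.card φ.ker ≤ p * p := by
    have hpos : 0 < Nat.card φ.range := Nat.card_pos
    rw [h1] at h2
    have : Nat.card φ.ker * Nat.card φ.range ≤ (p * p) * Nat.card φ.range := by
      rw [mul_assoc]; exact h2
    exact Nat.le_of_mul_le_mul_right this hpos
  have h4 : Nat.card {x : A // x ^ p = 1} = Nat.card φ.ker := by
    apply Nat.card_congr
    exact Equiv.subtypeEquivRight (fun x => by rw [MonoidHom.mem_ker, hφx])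
  rw [h4, pow_two]
  exact h3

/-- To show `N ≤ C` it suffices to treat the elements of prime power order. -/
theorem le_of_prime_power_mem {G : Type*} [Group G] [Finite G] (N C : Subgroup G)
    (h : ∀ g ∈ N, (∃ q k : ℕ, q.Prime ∧ orderOf g = q ^ k) → g ∈ C) : N ≤ C := by
  intro g hg
  induction' hn : orderOf g using Nat.strong_induction_on with n ih generalizing g
  by_cases h1 : n = 1
  · rw [h1] at hn
    rw [orderOf_eq_one_iff] at hn
    rw [hn]; exact C.one_mem
  have hnpos : 0 < n := hn ▸ orderOf_pos g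
  have hq : (Nat.minFac n).Prime := Nat.minFac_prime h1
  obtain ⟨k, n', hqn', hn_eq⟩ :=
    Nat.exists_eq_pow_mul_and_not_dvd (hnpos.ne') (Nat.minFac n) hq.ne_one
  by_cases hn' : n' = 1
  · apply h g hg
    refine ⟨Nat.minFac n, k, hq, ?_⟩
    rw [hn]
    conv_lhs => rw [hn_eq, hn', mul_one]
  · have hn'0 : n' ≠ 0 := by
      rintro rfl
      rw [mul_zero] at hn_eq
      exact hnpos.ne' hn_eq
    have hk0 : k ≠ 0 := by
      rintro rfl
      rw [pow_zero, one_mul] at hn_eq
      exact hqn' (hn_eq ▸ Nat.minFac_dvd n)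
    obtain ⟨a, ha⟩ : ∃ a, a = (Nat.minFac n) ^ k := ⟨_, rfl⟩
    have ha2 : 2 ≤ a := by
      rw [ha]
      calc 2 ≤ Nat.minFac n := hq.two_le
        _ = (Nat.minFac n) ^ 1 := (pow_one _).symm
        _ ≤ (Nat.minFac n) ^ k := Nat.pow_le_pow_right hq.pos (Nat.one_le_iff_ne_zero.mpr hk0)
    have hn'2 : 2 ≤ n' := by omega
    have hna : n = a * n' := by rw [ha]; exact hn_eq
    have hcop : Nat.Coprime a n' := by
      rw [ha]
      exact Nat.Coprime.pow_left k ((Nat.Prime.coprime_iff_not_dvd hq).mpr hqn')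
    have ho1 : orderOf (g ^ a) = n' := by
      rw [orderOf_pow' g (by omega : a ≠ 0), hn, hna, Nat.gcd_eq_right (dvd_mul_right a n'),
        Nat.mul_div_cancel_left _ (by omega : 0 < a)]
    have ho2 : orderOf (g ^ n') = a := by
      rw [orderOf_pow' g hn'0, hn, hna, Nat.gcd_eq_right (dvd_mul_left n' a),
        Nat.mul_div_cancel _ (by omega : 0 < n')]
    have hlt1 : n' < n := by rw [hna]; nlinarith
    have hlt2 : a < n := by rw [hna]; nlinarith
    have m1 : g ^ a ∈ C := ih n' hlt1 (N.pow_mem hg a) ho1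
    have m2 : g ^ n' ∈ C := ih a hlt2 (N.pow_mem hg n') ho2
    have hbez := Nat.gcd_eq_gcd_ab a n'
    rw [Nat.Coprime.gcd_eq_one hcop] at hbez
    have hg1 : g = (g ^ a) ^ (Nat.gcdA a n') * (g ^ n') ^ (Nat.gcdB a n') := by
      rw [← zpow_natCast g a, ← zpow_natCast g n', ← zpow_mul, ← zpow_mul, ← zpow_add, ← hbez]
      simp
    rw [hg1]
    exact C.mul_mem (C.zpow_mem m1 _) (C.zpow_mem m2 _)

/-- The key step: for the least prime divisor `p`, an abelian Sylow `p`-subgroup with at most
`p ^ 2` elements of order dividing `p` is central in its normalizer (if `12 ∤ |G|`). -/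
theorem normalizer_le_centralizer {G : Type*} [Group G] [Finite G] (p : ℕ) [Fact p.Prime]
    (hmin : ∀ q : ℕ, q.Prime → q ∣ Nat.card G → p ≤ q)
    (P : Sylow p G) (hab : ∀ a ∈ (P : Subgroup G), ∀ b ∈ (P : Subgroup G), a * b = b * a)
    (hΩ : Nat.card {x : G // x ∈ (P : Subgroup G) ∧ x ^ p = 1} ≤ p ^ 2)
    (h12 : ¬ 12 ∣ Nat.card G) :
    Subgroup.normalizer ((P : Subgroup G) : Set G) ≤
      Subgroup.centralizer ((P : Subgroup G) : Set G) := by
  classical
  have hp : p.Prime := Fact.out
  -- the subgroup of elements of order dividing p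
  let V : Subgroup G :=
    { carrier := {x | x ∈ (P : Subgroup G) ∧ x ^ p = 1}
      mul_mem' := by
        rintro a b ⟨ha, ha'⟩ ⟨hb, hb'⟩
        refine ⟨(P : Subgroup G).mul_mem ha hb, ?_⟩
        have hc : Commute a b := hab a ha b hb
        rw [hc.mul_pow, ha', hb', one_mul]
      one_mem' := ⟨(P : Subgroup G).one_mem, one_pow _⟩
      inv_mem' := by
        rintro a ⟨ha, ha'⟩
        exact ⟨(P : Subgroup G).inv_mem ha, by rw [inv_pow, ha', inv_one]⟩ }
  have hVmem : ∀ x, x ∈ V ↔ x ∈ (P : Subgroup G) ∧ x ^ p = 1 := fun x => Iff.rfl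
  have hVP : V ≤ (P : Subgroup G) := fun x hx => hx.1
  have hVcard : Nat.card V ≤ p ^ 2 := hΩ
  have hVp : IsPGroup p V := P.2.to_le hVP
  apply le_of_prime_power_mem
  rintro g hg ⟨q, k, hq, hgo⟩
  rw [Subgroup.mem_centralizer_iff]
  have hgn : ∀ x, x ∈ (P : Subgroup G) ↔ g * x * g⁻¹ ∈ (P : Subgroup G) :=
    fun x => (Subgroup.mem_normalizer_iff.mp hg) x
  by_cases hqp : q = p
  · -- g is a p-element normalizing P, hence in P
    subst hqp
    have hZ : IsPGroup q (Subgroup.zpowers g) := by
      apply IsPGroup.of_card (n := k)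
      rw [Nat.card_zpowers, hgo]
    have hZN : Subgroup.zpowers g ≤ Subgroup.normalizer ((P : Subgroup G) : Set G) := by
      rw [Subgroup.zpowers_le]; exact hg
    have hsup : IsPGroup q (Subgroup.zpowers g ⊔ (P : Subgroup G) : Subgroup G) :=
      IsPGroup.to_sup_of_normal_right' hZ P.2 hZN
    have heq : Subgroup.zpowers g ⊔ (P : Subgroup G) = (P : Subgroup G) :=
      P.is_maximal' hsup le_sup_right
    have hgP : g ∈ (P : Subgroup G) := by
      rw [← heq]
      exact (le_sup_left : Subgroup.zpowers g ≤ _) (Subgroup.mem_zpowers g)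
    intro x hx
    exact hab x hx g hgP
  · by_contra hcon
    have hk0 : k ≠ 0 := by
      rintro rfl
      rw [pow_zero, orderOf_eq_one_iff] at hgo
      apply hcon
      intro x _
      rw [hgo, mul_one, one_mul]
    have hqG : q ∣ Nat.card G := by
      have h1 : q ∣ orderOf g := by rw [hgo]; exact dvd_pow_self q hk0
      exact h1.trans (orderOf_dvd_natCard g)
    have hpq : p < q := lt_of_le_of_ne (hmin q hq hqG) (Ne.symm hqp)
    -- some element of V is not centralized
    have hex : ∃ x ∈ V, g * x * g⁻¹ ≠ x := by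
      by_contra hno
      push Not at hno
      apply hcon
      have hall := centralizes_of_omega (P : Subgroup G) hab p
        (fun x hx => by
          obtain ⟨e, he⟩ := (IsPGroup.iff_orderOf.mp P.2) ⟨x, hx⟩
          refine ⟨e, ?_⟩
          have : orderOf x = p ^ e := by
            rw [← he]; exact (Subgroup.orderOf_mk x hx).symm
          rw [← this]; exact pow_orderOf_eq_one x)
        g (fun x hx => (hgn x).mp hx) (q ^ k) (by rw [← hgo]; exact pow_orderOf_eq_one g)
        (Nat.Coprime.pow_left k ((Nat.coprime_primes hq hp).mpr hqp))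
        (fun x hx hxp => hno x ⟨hx, hxp⟩)
      intro x hx
      have := hall x hx
      calc x * g = (g * x * g⁻¹) * g := by rw [this]
        _ = g * x := by group
    obtain ⟨x0, hx0V, hx0⟩ := hex
    -- g normalizes V
    have hgV : g ∈ Subgroup.normalizer (V : Set G) := by
      rw [Subgroup.mem_normalizer_iff]
      intro x
      rw [hVmem, hVmem, ← hgn x, conj_pow]
      constructor
      · rintro ⟨h1, h2⟩
        exact ⟨h1, by rw [h2]; group⟩
      · rintro ⟨h1, h2⟩
        refine ⟨h1, ?_⟩
        have : x ^ p = g⁻¹ * (g * x ^ p * g⁻¹) * g := by group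
        rw [this, h2]; group
    have hZV : Subgroup.zpowers g ≤ Subgroup.normalizer (V : Set G) := by
      rw [Subgroup.zpowers_le]; exact hgV
    have hZ : IsPGroup q (Subgroup.zpowers g) := by
      apply IsPGroup.of_card (n := k)
      rw [Nat.card_zpowers, hgo]
    letI : MulAction (Subgroup.zpowers g) V := MulAction.compHom V (Subgroup.inclusion hZV)
    have hsmul : ∀ (z : Subgroup.zpowers g) (v : V),
        ((z • v : V) : G) = (z : G) * v * (z : G)⁻¹ := by
      intro z v; rfl
    haveI : Fact q.Prime := ⟨hq⟩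
    have hmod := IsPGroup.card_modEq_card_fixedPoints (p := q) (G := Subgroup.zpowers g) hZ V
    -- the fixed points
    let F : Subgroup G := V ⊓ Subgroup.centralizer {g}
    have hFV : F ≤ V := inf_le_left
    have hfix : (MulAction.fixedPoints (Subgroup.zpowers g) V) =
        ((F.subgroupOf V : Subgroup V) : Set V) := by
      ext v
      rw [MulAction.mem_fixedPoints, SetLike.mem_coe, Subgroup.mem_subgroupOf]
      constructor
      · intro h
        suffices hh : (v : G) ∈ Subgroup.centralizer {g} from ⟨v.2, hh⟩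
        rw [Subgroup.mem_centralizer_singleton_iff]
        have h1 := h ⟨g, Subgroup.mem_zpowers g⟩
        have h2 := congrArg (fun w : V => (w : G)) h1
        simp only [hsmul] at h2
        calc (v : G) * g = (g * v * g⁻¹) * g := by rw [h2]
          _ = g * v := by group
      · rintro ⟨_, h2'⟩ ⟨z, hz⟩
        have h2 : (v : G) ∈ Subgroup.centralizer {g} := h2'
        rw [Subgroup.mem_centralizer_singleton_iff] at h2
        apply Subtype.ext
        rw [hsmul]
        obtain ⟨j, rfl⟩ := Subgroup.mem_zpowers_iff.mp hz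
        have hc : Commute g (v : G) := h2.symm
        have hc' : Commute (g ^ j) (v : G) := hc.zpow_left j
        calc g ^ j * (v : G) * (g ^ j)⁻¹ = (v : G) * g ^ j * (g ^ j)⁻¹ := by rw [hc'.eq]
          _ = v := by group
    have hcardfix : Nat.card (MulAction.fixedPoints (Subgroup.zpowers g) V) = Nat.card F := by
      rw [hfix]
      exact Nat.card_congr (Subgroup.subgroupOfEquivOfLe hFV).toEquiv
    rw [hcardfix] at hmod
    -- orders
    obtain ⟨i, hi⟩ := (IsPGroup.iff_card.mp hVp)
    obtain ⟨j, hj⟩ := (IsPGroup.iff_card.mp (hVp.to_le hFV))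
    have hi2 : i ≤ 2 := by
      rw [hi] at hVcard
      exact (Nat.pow_le_pow_iff_right hp.one_lt).mp hVcard
    have hFne : F ≠ V := by
      intro h
      have : x0 ∈ F := h ▸ hx0V
      have h2 : x0 ∈ Subgroup.centralizer {g} := this.2
      rw [Subgroup.mem_centralizer_singleton_iff] at h2
      apply hx0
      calc g * x0 * g⁻¹ = x0 * g * g⁻¹ := by rw [h2]
        _ = x0 := by group
    have hFlt : Nat.card F < Nat.card V := by
      have hle : Nat.card F ≤ Nat.card V := Subgroup.card_le_of_le hFV
      rcases hle.lt_or_eq with h | h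
      · exact h
      · exact absurd (Subgroup.eq_of_le_of_card_ge hFV h.ge) hFne
    have hji : j < i := by
      rw [hi, hj] at hFlt
      exact (Nat.pow_lt_pow_iff_right hp.one_lt).mp hFlt
    rw [hi, hj] at hmod
    have hdvd : q ∣ p ^ i - p ^ j :=
      (Nat.modEq_iff_dvd' (Nat.pow_le_pow_right hp.pos hji.le)).mp hmod.symm
    have hp2 : 2 ≤ p := hp.two_le
    have hnq1 : ¬ q ∣ p - 1 := by
      intro h
      have := Nat.le_of_dvd (by omega) h
      omega
    have hnqp : ¬ q ∣ p := by
      intro h
      have := Nat.le_of_dvd hp.pos h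
      omega
    have hcases : (i = 1 ∧ j = 0) ∨ (i = 2 ∧ j = 0) ∨ (i = 2 ∧ j = 1) := by omega
    rcases hcases with ⟨rfl, rfl⟩ | ⟨rfl, rfl⟩ | ⟨rfl, rfl⟩
    · rw [pow_one, pow_zero] at hdvd
      exact hnq1 hdvd
    · rw [pow_zero] at hdvd
      have e : p ^ 2 - 1 = (p - 1) * (p + 1) := by
        obtain ⟨t, rfl⟩ : ∃ t, p = t + 1 := ⟨p - 1, by omega⟩
        simp only [Nat.add_sub_cancel]
        ring_nf
        omega
      rw [e] at hdvd
      rcases (Nat.Prime.dvd_mul hq).mp hdvd with h | h
      · exact hnq1 h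
      · have hle := Nat.le_of_dvd (by omega) h
        have hq' : q = p + 1 := by omega
        -- p and p + 1 both prime: p = 2
        have hp2' : p = 2 := by
          rcases hp.eq_two_or_odd with h2 | hodd
          · exact h2
          · exfalso
            have heven : 2 ∣ q := by omega
            have := (Nat.prime_dvd_prime_iff_eq Nat.prime_two hq).mp heven
            omega
        subst hp2'
        have hq3 : q = 3 := by omega
        subst hq3
        apply h12
        have h4 : 4 ∣ Nat.card G := by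
          have := Subgroup.card_subgroup_dvd_card V
          rw [hi] at this
          exact this
        have : Nat.Coprime 4 3 := by decide
        have := this.mul_dvd_of_dvd_of_dvd h4 hqG
        exact this
    · rw [pow_one] at hdvd
      have e : p ^ 2 - p = p * (p - 1) := by
        obtain ⟨t, rfl⟩ : ∃ t, p = t + 1 := ⟨p - 1, by omega⟩
        simp only [Nat.add_sub_cancel]
        have : (t + 1) ^ 2 = (t + 1) * t + (t + 1) := by ring
        omega
      rw [e] at hdvd
      rcases (Nat.Prime.dvd_mul hq).mp hdvd with h | h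
      · exact hnqp h
      · exact hnq1 h

universe u

theorem solvable_aux : ∀ (n : ℕ) (G : Type u) [Group G] [Finite G], Nat.card G = n →
    (∀ p : ℕ, p.Prime → p ∣ Nat.card G → (∃ q : ℕ, q.Prime ∧ q ∣ Nat.card G ∧ p < q) →
      ∀ P : Sylow p G, (∀ a ∈ (P : Subgroup G), ∀ b ∈ (P : Subgroup G), a * b = b * a) ∧
        Nat.card {x : G // x ∈ (P : Subgroup G) ∧ x ^ p = 1} ≤ p ^ 2) →
    ¬ 12 ∣ Nat.card G → Group.IsSolvable G := by
  intro n
  induction n using Nat.strong_induction_on with
  | _ n ih =>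
  intro G _ _ hn hyp h12
  by_cases h1 : Nat.card G = 1
  · haveI : Subsingleton G := (Nat.card_eq_one_iff_unique.mp h1).1
    exact Group.isSolvable_of_top_eq_bot G (Subsingleton.elim _ _)
  have hp : (Nat.minFac (Nat.card G)).Prime := Nat.minFac_prime h1
  obtain ⟨p, hpdef⟩ : ∃ p, p = Nat.minFac (Nat.card G) := ⟨_, rfl⟩
  rw [← hpdef] at hp
  haveI : Fact p.Prime := ⟨hp⟩
  have hpdvd : p ∣ Nat.card G := hpdef ▸ Nat.minFac_dvd _
  have hmin : ∀ q : ℕ, q.Prime → q ∣ Nat.card G → p ≤ q := by
    intro q hq hqd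
    rw [hpdef]
    exact Nat.minFac_le_of_dvd hq.two_le hqd
  by_cases hbig : ∃ q : ℕ, q.Prime ∧ q ∣ Nat.card G ∧ p < q
  · obtain ⟨P⟩ : Nonempty (Sylow p G) := inferInstance
    obtain ⟨hab, hΩ⟩ := hyp p hp hpdvd hbig P
    have hNC := normalizer_le_centralizer p hmin P hab hΩ h12
    obtain ⟨K, hK⟩ : ∃ K : Subgroup G, K = (MonoidHom.transferSylow P hNC).ker := ⟨_, rfl⟩
    have hcompl : Subgroup.IsComplement' K (P : Subgroup G) :=
      hK ▸ MonoidHom.ker_transferSylow_isComplement' P hNC
    have hcard : Nat.card K * Nat.card (P : Subgroup G) = Nat.card G := hcompl.card_mul_card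
    have hP1 : 1 < Nat.card (P : Subgroup G) :=
      (Subgroup.one_lt_card_iff_ne_bot (H := (P : Subgroup G))).mpr (P.ne_bot_of_dvd_card hpdvd)
    have hKpos : 0 < Nat.card K := Nat.card_pos
    have hKlt : Nat.card K < n := by
      rw [← hn, ← hcard]
      nlinarith
    have hKdvd : Nat.card K ∣ Nat.card G := Subgroup.card_subgroup_dvd_card K
    have hKsolv : Group.IsSolvable K := by
      apply ih (Nat.card K) hKlt K rfl
      · intro p' hp' hp'd hq' Q
        obtain ⟨q', hq'p, hq'd, hlt⟩ := hq'
        haveI : Fact p'.Prime := ⟨hp'⟩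
        have hQ' : IsPGroup p' ((Q : Subgroup K).map K.subtype) := Q.2.map K.subtype
        obtain ⟨P', hP'⟩ := hQ'.exists_le_sylow
        obtain ⟨hab', hΩ'⟩ := hyp p' hp' (hp'd.trans hKdvd) ⟨q', hq'p, hq'd.trans hKdvd, hlt⟩ P'
        have hmem : ∀ a : K, a ∈ (Q : Subgroup K) → (a : G) ∈ (P' : Subgroup G) := by
          intro a ha
          exact hP' ⟨a, ha, rfl⟩
        constructor
        · intro a ha b hb
          exact Subtype.ext (hab' a (hmem a ha) b (hmem b hb))
        · refine le_trans ?_ hΩ'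
          refine Nat.card_le_card_of_injective
            (fun x => ⟨(x.1 : G), hmem x.1 x.2.1, by
              have := congrArg (fun y : K => (y : G)) x.2.2
              simpa using this⟩) ?_
          rintro ⟨x, hx⟩ ⟨y, hy⟩ hxy
          have : (x : G) = y := by
            have := congrArg (fun z : {x : G // x ∈ (P' : Subgroup G) ∧ x ^ p' = 1} => (z : G)) hxy
            simpa using this
          exact Subtype.ext (Subtype.ext this)
      · exact fun h => h12 (h.trans hKdvd)
    haveI := hKsolv
    haveI : Group.IsNilpotent (P : Subgroup G) := P.2.isNilpotent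
    haveI : Group.IsSolvable (P : Subgroup G) := inferInstance
    refine Group.isSolvable_of_ker_le_range K.subtype (MonoidHom.transferSylow P hNC) ?_
    rw [← hK, Subgroup.range_subtype]
  · -- G is a p-group
    have hpow : Nat.card G = p ^ (Nat.card G).primeFactorsList.length := by
      apply Nat.eq_prime_pow_of_unique_prime_dvd Nat.card_pos.ne'
      intro d hd hdd
      by_contra hne
      apply hbig
      exact ⟨d, hd, hdd, lt_of_le_of_ne (hmin d hd hdd) (Ne.symm hne)⟩
    have hPG : IsPGroup p G := IsPGroup.of_card hpow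
    haveI : Group.IsNilpotent G := hPG.isNilpotent
    infer_instance

/-- Let `G` be a finite group such that for every prime `p` dividing its order, other than the largest such prime, the Sylow `p`-subgroups are abelian and generated by at most two elements, and suppose `12` does not divide the order of `G`. Then `G` is solvable. In particular a group of cube-free order not divisible by `12` is solvable. -/
theorem result {G : Type*} [Group G] [Finite G] (h : ∀ p : ℕ, p.Prime → p ∣ Nat.card G → (∃ q : ℕ, q.Prime ∧ q ∣ Nat.card G ∧ p < q) → ∀ P : Sylow p G, IsMulCommutative (P : Subgroup G) ∧ Group.rank (P : Subgroup G) ≤ 2) (h12 : ¬ 12 ∣ Nat.card G) : Group.IsSolvable G := by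
  classical
  apply solvable_aux (Nat.card G) G rfl _ h12
  intro p hp hpd hq P
  obtain ⟨hcomm, hrank⟩ := h p hp hpd hq P
  have hcomm' : ∀ a b : (P : Subgroup G), a * b = b * a := fun a b => mul_comm' a b
  constructor
  · intro a ha b hb
    exact congrArg Subtype.val (hcomm' ⟨a, ha⟩ ⟨b, hb⟩)
  · obtain ⟨S, hS1, hS2⟩ := Group.rank_spec (P : Subgroup G)
    have hS : S.card ≤ 2 := hS1 ▸ hrank
    have hex : ∃ s1 s2 : (P : Subgroup G), (S : Set (P : Subgroup G)) ⊆ {s1, s2} := by
      have h3 : S.card = 0 ∨ S.card = 1 ∨ S.card = 2 := by omega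
      rcases h3 with h0 | h1 | h2
      · rw [Finset.card_eq_zero] at h0
        exact ⟨1, 1, by rw [h0]; simp⟩
      · obtain ⟨a, ha⟩ := Finset.card_eq_one.mp h1
        exact ⟨a, a, by rw [ha]; simp⟩
      · obtain ⟨a, b, _, hab⟩ := Finset.card_eq_two.mp h2
        exact ⟨a, b, by rw [hab]; simp⟩
    obtain ⟨s1, s2, hsub⟩ := hex
    have hgen : Subgroup.closure ({s1, s2} : Set (P : Subgroup G)) = ⊤ := by
      rw [eq_top_iff, ← hS2]
      exact Subgroup.closure_mono hsub
    have hle := card_ker_pow_le hcomm' p hp.pos s1 s2 hgen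
    refine le_trans ?_ hle
    refine Nat.card_le_card_of_injective
      (fun x => ⟨⟨x.1, x.2.1⟩, Subtype.ext (by simpa using x.2.2)⟩) ?_
    rintro ⟨x, hx⟩ ⟨y, hy⟩ hxy
    have : x = y := by
      have := congrArg (fun z => ((z.1 : (P : Subgroup G)) : G)) hxy
      simpa using this
    exact Subtype.ext this

end Cfsg.Agent.S3970
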