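import Mathlib
import Cfsg.Statements.S3971
import Cfsg.Agent.Lib.Helper7_Metacyclic2

set_option autoImplicit false
open Cfsg

namespace Cfsg.Agent.S3971

open Cfsg.Agent.Lib.Helper7_Metacyclic2 Cfsg.Agent.Lib.Helper7_NPC

theorem result {G : Type*} [Group G] [Finite G] (a n : ℕ) (hG : Nat.card G = 2 ^ a * n) (hn : Odd n) (h3 : ¬ 3 ∣ n) (hx : ∃ x : G, orderOf x = 2 ^ (a - 1)) : ∃ N : Subgroup G, N.Normal ∧ Nat.card N = n := by
  haveI : Fact (Nat.Prime 2) := ⟨Nat.prime_two⟩
  obtain ⟨x, hx⟩ := hx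
  have hn0 : n ≠ 0 := by rintro rfl; simp at hn
  have hn2 : Nat.Coprime 2 n :=
    (Nat.Prime.coprime_iff_not_dvd Nat.prime_two).mpr (by
      intro h; exact (Nat.not_even_iff_odd.mpr hn) (even_iff_two_dvd.mpr h))
  have hxp : IsPGroup 2 (Subgroup.zpowers x) :=
    IsPGroup.of_card (n := a - 1) (by rw [Nat.card_zpowers, hx])
  obtain ⟨S, hS⟩ := hxp.exists_le_sylow
  have hScard : Nat.card S = 2 ^ a := by
    rw [S.card_eq_multiplicity, hG, Nat.factorization_mul (by positivity) hn0,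
      Nat.Prime.factorization_pow Nat.prime_two]
    simp only [Finsupp.coe_add, Pi.add_apply, Finsupp.single_eq_same]
    rw [Nat.factorization_eq_zero_of_not_dvd, add_zero]
    intro h; exact (Nat.not_even_iff_odd.mpr hn) (even_iff_two_dvd.mpr h)
  let C : Subgroup ↥(S : Subgroup G) := (Subgroup.zpowers x).subgroupOf S
  have hCcard : Nat.card C = 2 ^ (a - 1) := by
    rw [← hx, ← Nat.card_zpowers]
    exact Nat.card_congr (Subgroup.subgroupOfEquivOfLe hS).toEquiv
  haveI : IsCyclic C :=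
    isCyclic_of_surjective (Subgroup.subgroupOfEquivOfLe hS).symm
      (Subgroup.subgroupOfEquivOfLe hS).symm.surjective
  have hidx : C.index = 1 ∨ C.index = 2 := by
    have h1 := C.card_mul_index
    rw [hCcard, hScard] at h1
    rcases Nat.eq_zero_or_pos a with h0 | h0
    · left
      subst h0
      simpa using h1
    · right
      have h2 : 2 ^ a = 2 ^ (a - 1) * 2 := by
        rw [← pow_succ]; congr 1; omega
      rw [h2] at h1
      exact Nat.eq_of_mul_eq_mul_left (by positivity) h1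
  have hmeta := isMetacyclic_of_index_le_two C hidx
  obtain ⟨N, hN, hNc, k, hk⟩ := npc_of_metacyclic 2 S hmeta (by
    intro q hq hqd hq2 hq3
    have h4 : q ∣ 3 := by norm_num at hq3; exact hq3
    have h5 : q = 3 := (Nat.prime_dvd_prime_iff_eq hq Nat.prime_three).mp h4
    subst h5
    rw [hG] at hqd
    rcases (Nat.Prime.dvd_mul Nat.prime_three).mp hqd with h6 | h6
    · have := Nat.Prime.dvd_of_dvd_pow Nat.prime_three h6
      omega
    · exact h3 h6)
  refine ⟨N, hN, ?_⟩
  have h1 := N.card_mul_index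
  rw [hk, hG] at h1
  have h7 : 2 ^ k ∣ 2 ^ a := by
    have : 2 ^ k ∣ 2 ^ a * n := ⟨Nat.card N, by rw [← h1]; ring⟩
    exact (Nat.Coprime.pow_left k hn2).dvd_of_dvd_mul_right this
  have h8 : 2 ^ a ∣ 2 ^ k := by
    have : 2 ^ a ∣ Nat.card N * 2 ^ k := ⟨n, h1⟩
    exact (Nat.Coprime.pow_left a hNc.symm).dvd_of_dvd_mul_left this
  have h9 : 2 ^ k = 2 ^ a := Nat.dvd_antisymm h7 h8
  rw [h9, mul_comm] at h1
  exact Nat.eq_of_mul_eq_mul_left (by positivity) h1

end Cfsg.Agent.S3971
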