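import Cfsg.Statements.S3973
import Mathlib
import Cfsg.Agent.Lib.Helper6_Schur
import Cfsg.Agent.Lib.Helper6_Hopf

set_option autoImplicit false
open Cfsg

namespace Cfsg.Agent.S3973

open Cfsg.Agent.Lib.Helper6_Hopf
open scoped IsMulCommutative

/-- The Hopf multiplier of a finite presentation with `n` generators and `r` relators, the
presented group being finite, is generated by `r - n` elements. -/
theorem rank_MM_le (n : ℕ) (rels : Finset (FreeGroup (Fin n)))
    [Finite (PresentedGroup (rels : Set (FreeGroup (Fin n))))] :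
    ∃ S : Finset (MM (PresentedGroup.mk (rels : Set (FreeGroup (Fin n))))),
      Subgroup.closure (S : Set (MM (PresentedGroup.mk (rels : Set (FreeGroup (Fin n)))))) = ⊤ ∧
      S.card ≤ rels.card - n := by
  classical
  let F := FreeGroup (Fin n)
  let φ : F →* PresentedGroup (rels : Set F) := PresentedGroup.mk (rels : Set F)
  have hφ : Function.Surjective φ := PresentedGroup.mk_surjective _
  haveI : IsMulCommutative (Rb φ) :=
    ⟨⟨fun a b => Subtype.ext (Subgroup.mem_center_iff.mp (Rb_le_center φ b.2) a.1)⟩⟩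
  let ι := {x : F // x ∈ rels}
  have hyR : ∀ i : ι, (QuotientGroup.mk i.1 : EE φ) ∈ Rb φ := fun i =>
    (mk_mem_Rb_iff φ i.1).mpr (PresentedGroup.one_of_mem (Finset.mem_coe.mpr i.2))
  let y : ι → Rb φ := fun i => ⟨QuotientGroup.mk i.1, hyR i⟩
  -- `Rb φ` is generated by the images of the relators
  have hgen : Subgroup.closure (Set.range y) = ⊤ := by
    rw [eq_top_iff]
    rintro ⟨x, hx⟩ -
    let Y : Subgroup (EE φ) := (Subgroup.closure (Set.range y)).map (Rb φ).subtype
    have hYR : Y ≤ Rb φ := by
      rintro _ ⟨z, _, rfl⟩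
      exact z.2
    haveI : Y.Normal := normal_of_le_Rb φ Y hYR
    have hrels : (rels : Set F) ⊆ (Y.comap (QuotientGroup.mk' (NN φ)) : Subgroup F) := by
      intro r hr
      exact ⟨y ⟨r, Finset.mem_coe.mp hr⟩, Subgroup.subset_closure ⟨_, rfl⟩, rfl⟩
    have hle := Subgroup.normalClosure_le_normal hrels
    obtain ⟨f, rfl⟩ := QuotientGroup.mk_surjective x
    have hf : f ∈ Subgroup.normalClosure (rels : Set F) :=
      PresentedGroup.mk_eq_one_iff.mp ((mk_mem_Rb_iff φ f).mp hx)
    obtain ⟨z, hz, hzf⟩ := hle hf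
    have : z = ⟨QuotientGroup.mk f, hx⟩ := Subtype.ext hzf
    rw [← this]
    exact hz
  -- the abelianisation map on `E`
  have hNab : NN φ ≤ (Abelianization.of : F →* Abelianization F).ker := by
    rw [Abelianization.ker_of]
    exact NN_le_commutator φ
  let ab' : EE φ →* Abelianization F := QuotientGroup.lift (NN φ) Abelianization.of hNab
  have hab' : ∀ f : F, ab' (QuotientGroup.mk f) = Abelianization.of f := fun f => rfl
  let ga : (ι → ℤ) →ₗ[ℤ] Additive (Rb φ) :=
    Fintype.linearCombination ℤ (fun i => Additive.ofMul (y i))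
  let q : Additive (Rb φ) →ₗ[ℤ] Additive (Abelianization F) :=
    (MonoidHom.toAdditive (ab'.comp (Rb φ).subtype)).toIntLinearMap
  have hq : ∀ x : Rb φ, q (Additive.ofMul x) = Additive.ofMul (ab' x.1) := fun x => rfl
  let L : (ι → ℤ) →ₗ[ℤ] Additive (Abelianization F) := q ∘ₗ ga
  have hga : Function.Surjective ga := by
    intro a
    have hmem : Additive.toMul a ∈ Subgroup.closure (Set.range y) := by
      rw [hgen]; exact Subgroup.mem_top _
    suffices h : ∀ x ∈ Subgroup.closure (Set.range y), ∃ v, ga v = Additive.ofMul x by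
      obtain ⟨v, hv⟩ := h _ hmem
      exact ⟨v, hv⟩
    intro x hx
    induction hx using Subgroup.closure_induction with
    | mem x hx =>
      obtain ⟨i, rfl⟩ := hx
      refine ⟨Pi.single i 1, ?_⟩
      rw [Fintype.linearCombination_apply_single, one_smul]
    | one => exact ⟨0, by rw [map_zero]; rfl⟩
    | mul a b _ _ ha hb =>
      obtain ⟨va, hva⟩ := ha
      obtain ⟨vb, hvb⟩ := hb
      exact ⟨va + vb, by rw [map_add, hva, hvb]; rfl⟩
    | inv a _ ha =>
      obtain ⟨va, hva⟩ := ha
      exact ⟨-va, by rw [map_neg, hva]; rfl⟩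
  have hqker : ∀ x : Rb φ, q (Additive.ofMul x) = 0 ↔ x.1 ∈ MM φ := by
    rintro ⟨x, hx⟩
    obtain ⟨f, rfl⟩ := QuotientGroup.mk_surjective x
    rw [hq]
    change ab' (QuotientGroup.mk f) = 1 ↔ _
    rw [hab', mk_mem_MM_iff, ← Abelianization.ker_of (G := F), MonoidHom.mem_ker]
    constructor
    · intro h
      exact ⟨(mk_mem_Rb_iff φ f).mp hx, h⟩
    · intro h
      exact h.2
  -- ranks
  let e₀ : Additive (Abelianization F) ≃ₗ[ℤ] (Fin n →₀ ℤ) :=
    (FreeAbelianGroup.equivFinsupp (Fin n)).toIntLinearEquiv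
  haveI : Module.Free ℤ (Additive (Abelianization F)) := Module.Free.of_equiv e₀.symm
  haveI : Module.Finite ℤ (Additive (Abelianization F)) := Module.Finite.equiv e₀.symm
  have hrankM : Module.finrank ℤ (Additive (Abelianization F)) = n := by
    rw [LinearEquiv.finrank_eq e₀, Module.finrank_finsupp_self, Fintype.card_fin]
  have hrangeL : LinearMap.range L = LinearMap.range q :=
    LinearMap.range_comp_of_range_eq_top q (LinearMap.range_eq_top.mpr hga)
  -- the quotient by the range of `q` is finite
  haveI hfinq : Finite (Additive (Abelianization F) ⧸ LinearMap.range q) := by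
    let fn : PresentedGroup (rels : Set F) → Additive (Abelianization F) ⧸ LinearMap.range q :=
      fun g => Submodule.Quotient.mk (Additive.ofMul (Abelianization.of (Function.surjInv hφ g)))
    apply Finite.of_surjective fn
    intro c
    obtain ⟨a, rfl⟩ := Submodule.Quotient.mk_surjective _ c
    obtain ⟨f, hf⟩ := QuotientGroup.mk_surjective (Additive.toMul a)
    refine ⟨φ f, ?_⟩
    change Submodule.Quotient.mk _ = Submodule.Quotient.mk a
    rw [Submodule.Quotient.eq]
    let f' := Function.surjInv hφ (φ f)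
    have hf' : φ f' = φ f := Function.surjInv_eq hφ _
    have hk : f' * f⁻¹ ∈ φ.ker := by
      rw [MonoidHom.mem_ker, map_mul, map_inv, hf', mul_inv_cancel]
    refine ⟨Additive.ofMul ⟨QuotientGroup.mk (f' * f⁻¹), (mk_mem_Rb_iff φ _).mpr hk⟩, ?_⟩
    rw [hq, hab']
    have ha : a = Additive.ofMul (Abelianization.of f) := by
      have : Abelianization.of f = Additive.toMul a := hf
      rw [this]; rfl
    rw [ha, map_mul, map_inv]
    rfl
  have hrankq : Module.finrank ℤ (LinearMap.range q) = n := by
    rw [(Submodule.finiteQuotient_iff (LinearMap.range q)).mp hfinq, hrankM]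
  have hrankK : Module.finrank ℤ (LinearMap.ker L) = rels.card - n := by
    have h1 := Submodule.finrank_quotient_add_finrank (LinearMap.ker L)
    have h2 : Module.finrank ℤ ((ι → ℤ) ⧸ LinearMap.ker L) = n := by
      rw [LinearEquiv.finrank_eq (LinearMap.quotKerEquivRange L), hrangeL, hrankq]
    have h3 : Module.finrank ℤ (ι → ℤ) = rels.card := by
      rw [Module.finrank_fintype_fun_eq_card, Fintype.card_coe]
    omega
  -- a basis of the kernel
  let b := Module.finBasis ℤ (LinearMap.ker L)
  have hzM : ∀ j, ((Additive.toMul (ga (b j : ι → ℤ)) : Rb φ) : EE φ) ∈ MM φ := by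
    intro j
    rw [← hqker]
    have : L (b j : ι → ℤ) = 0 := (b j).2
    exact this
  let S : Finset (MM φ) := Finset.univ.image (fun j => (⟨_, hzM j⟩ : MM φ))
  refine ⟨S, ?_, ?_⟩
  · rw [eq_top_iff]
    rintro ⟨m, hm⟩ -
    -- lift `m` to the kernel of `L`
    obtain ⟨v, hv⟩ := hga (Additive.ofMul ⟨m, MM_le_Rb φ hm⟩)
    have hvK : v ∈ LinearMap.ker L := by
      rw [LinearMap.mem_ker]
      change q (ga v) = 0
      rw [hv, hqker]
      exact hm
    let incl : MM φ →* Rb φ := Subgroup.inclusion (MM_le_Rb φ)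
    have hincl : Function.Injective incl := Subgroup.inclusion_injective _
    rw [← Subgroup.mem_map_iff_mem hincl, MonoidHom.map_closure]
    have hrepr : (⟨v, hvK⟩ : LinearMap.ker L) = ∑ j, b.repr ⟨v, hvK⟩ j • b j :=
      (b.sum_repr ⟨v, hvK⟩).symm
    have hv2 : v = ∑ j, b.repr ⟨v, hvK⟩ j • (b j : ι → ℤ) := by
      calc v = ((⟨v, hvK⟩ : LinearMap.ker L) : ι → ℤ) := rfl
        _ = ((∑ j, b.repr ⟨v, hvK⟩ j • b j : LinearMap.ker L) : ι → ℤ) := by rw [← hrepr]
        _ = _ := by rw [Submodule.coe_sum]; rfl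
    have h1 : incl ⟨m, hm⟩ = Additive.toMul (ga v) := by
      rw [hv]; rfl
    rw [h1, hv2, map_sum, toMul_sum]
    apply Subgroup.prod_mem
    intro j _
    rw [map_zsmul, toMul_zsmul]
    apply Subgroup.zpow_mem
    apply Subgroup.subset_closure
    refine ⟨⟨_, hzM j⟩, ?_, rfl⟩
    exact Finset.mem_coe.mpr (Finset.mem_image.mpr ⟨j, Finset.mem_univ _, rfl⟩)
  · calc S.card ≤ (Finset.univ : Finset (Fin (Module.finrank ℤ (LinearMap.ker L)))).card :=
        Finset.card_image_le
      _ = Module.finrank ℤ (LinearMap.ker L) := by rw [Finset.card_univ, Fintype.card_fin]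
      _ = rels.card - n := hrankK

/-- If a finite group is presented by `n` generators and a finite set of `r` relators, then its Schur multiplier can be generated by `r - n` elements. In particular a finite group with a presentation having as many relators as generators has trivial Schur multiplier. -/
theorem result (n : ℕ) (rels : Finset (FreeGroup (Fin n))) [Finite (PresentedGroup (rels : Set (FreeGroup (Fin n))))] {A : Type*} [CommGroup A] [Finite A] (hA : Cfsg.HasSchurMultiplier (PresentedGroup (rels : Set (FreeGroup (Fin n)))) A) : Group.rank A ≤ rels.card - n := by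
  have hφ : Function.Surjective (PresentedGroup.mk (rels : Set (FreeGroup (Fin n)))) :=
    PresentedGroup.mk_surjective _
  obtain ⟨e⟩ := equiv_MM_of_hasSchurMultiplier
    (PresentedGroup.mk (rels : Set (FreeGroup (Fin n)))) hφ hA
  obtain ⟨S, hS, hcard⟩ := rank_MM_le n rels
  haveI := finite_MM (PresentedGroup.mk (rels : Set (FreeGroup (Fin n)))) hφ
  calc Group.rank A ≤ Group.rank (MM (PresentedGroup.mk (rels : Set (FreeGroup (Fin n))))) :=
        Group.rank_le_of_surjective e.toMonoidHom e.surjective
    _ ≤ S.card := Group.rank_le hS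
    _ ≤ rels.card - n := hcard

end Cfsg.Agent.S3973
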