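import Cfsg.Statements.S3974
import Mathlib
import Cfsg.Agent.Lib.Helper6_Schur
import Cfsg.Agent.Lib.Helper6_Schur2

set_option autoImplicit false
universe u v
open Cfsg

namespace Cfsg.Agent.S3974

open Cfsg.Agent.Lib.Helper6_Schur
open scoped commutatorElement IsMulCommutative

universe w

/-- extension of a homomorphism from a subgroup of coprime index modulo the commutator
subgroup -/
theorem extend_hom_coprime {E : Type u} [Group E] (C : Subgroup E)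
    (hC : C ⊓ commutator E = ⊥) {K : Type v} [CommGroup K] [Finite K] (ξ : C →* K) (a : ℕ)
    (ha : Nat.Coprime a (Nat.card K))
    (hpow : ∀ e : E, ∃ c ∈ C, ∃ d ∈ commutator E, e ^ a = c * d) :
    ∃ η : E →* K, ∀ c : C, η c = ξ c := by
  classical
  let ab : E →* Abelianization E := Abelianization.of
  let Cb : Subgroup (Abelianization E) := C.map ab
  let f : C →* Cb := ab.subgroupMap C
  have hfs : Function.Surjective f := ab.subgroupMap_surjective C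
  have hfi : Function.Injective f := by
    rw [injective_iff_map_eq_one]
    intro k hk
    have h1 : ab k.1 = 1 := congrArg Subtype.val hk
    have h2 : k.1 ∈ commutator E := by rw [← Abelianization.ker_of]; exact h1
    have h3 : k.1 ∈ C ⊓ commutator E := ⟨k.2, h2⟩
    rw [hC, Subgroup.mem_bot] at h3
    exact Subtype.ext h3
  let e : C ≃* Cb := MulEquiv.ofBijective f ⟨hfi, hfs⟩
  have hpowmem : ∀ x : Abelianization E, (powMonoidHom a) x ∈ Cb := by
    intro x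
    obtain ⟨g, rfl⟩ := QuotientGroup.mk_surjective x
    obtain ⟨c, hc, d, hd, h⟩ := hpow g
    refine ⟨c, hc, ?_⟩
    change ab c = (ab g) ^ a
    rw [← map_pow, h, map_mul]
    have hd1 : ab d = 1 := by
      have : d ∈ (Abelianization.of : E →* Abelianization E).ker := by
        rw [Abelianization.ker_of]; exact hd
      exact this
    rw [hd1, mul_one]
  let pw : Abelianization E →* Cb := (powMonoidHom a).codRestrict Cb hpowmem
  obtain ⟨a', -, ha'⟩ := Nat.exists_mul_mod_eq_of_coprime 1 ha (Nat.card_pos (α := K)).ne'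
  let η : E →* K := (powMonoidHom a').comp (ξ.comp (e.symm.toMonoidHom.comp (pw.comp ab)))
  refine ⟨η, fun c => ?_⟩
  have h1 : pw (ab c) = e (c ^ a) := by
    apply Subtype.ext
    change (ab c) ^ a = ab ((c ^ a : C) : E)
    rw [Subgroup.coe_pow, map_pow]
  change (ξ (e.symm (pw (ab c)))) ^ a' = ξ c
  rw [h1, MulEquiv.symm_apply_apply, map_pow, ← pow_mul, ← pow_mod_natCard, ha', pow_mod_natCard,
    pow_one]

/-- two lifts of the same map along a central extension differ by a homomorphism into the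
kernel -/
theorem exists_diff_hom {E : Type u} {Γ : Type v} {Q : Type w} [Group E] [Group Γ] [Group Q]
    (σ : Γ →* Q) (hσc : σ.ker ≤ Subgroup.center Γ) (ψ ψ' : E →* Γ)
    (h : σ.comp ψ = σ.comp ψ') :
    ∃ η : E →* σ.ker, ∀ e, ψ' e = ψ e * (η e : Γ) := by
  have h' : ∀ e, σ (ψ e) = σ (ψ' e) := fun e => by
    have := congrArg (fun g : E →* Q => g e) h
    exact this
  have hmem : ∀ e, (ψ e)⁻¹ * ψ' e ∈ σ.ker := by
    intro e
    rw [MonoidHom.mem_ker, map_mul, map_inv, h', inv_mul_cancel]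
  refine ⟨{ toFun := fun e => ⟨(ψ e)⁻¹ * ψ' e, hmem e⟩
            map_one' := by
              apply Subtype.ext
              change (ψ 1)⁻¹ * ψ' 1 = 1
              rw [map_one, map_one, inv_one, one_mul]
            map_mul' := fun x y => by
              apply Subtype.ext
              change (ψ (x * y))⁻¹ * ψ' (x * y) = ((ψ x)⁻¹ * ψ' x) * ((ψ y)⁻¹ * ψ' y)
              have hc := Subgroup.mem_center_iff.mp (hσc (hmem x)) (ψ y)⁻¹
              rw [map_mul, map_mul, mul_inv_rev]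
              calc (ψ y)⁻¹ * (ψ x)⁻¹ * (ψ' x * ψ' y)
                  = ((ψ y)⁻¹ * ((ψ x)⁻¹ * ψ' x)) * ψ' y := by group
                _ = (((ψ x)⁻¹ * ψ' x) * (ψ y)⁻¹) * ψ' y := by rw [hc]
                _ = _ := by group }, ?_⟩
  intro e
  change ψ' e = ψ e * ((ψ e)⁻¹ * ψ' e)
  group

theorem card_eq_of_stem {Q : Type u} [Group Q] [Finite Q] {Γ : Type v} [Group Γ] (σ : Γ →* Q)
    (hσs : Function.Surjective σ) : Nat.card Γ = Nat.card σ.ker * Nat.card Q := by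
  rw [← Subgroup.card_mul_index σ.ker, Subgroup.index_ker, MonoidHom.range_eq_top.mpr hσs,
    Subgroup.card_top]

/-- the kernel of a lift onto a cover meets the multiplier trivially -/
theorem ker_inf_MM_eq_bot {Q : Type u} [Group Q] [Finite Q] {Γ : Type v} [Group Γ] [Finite Γ]
    (σ : Γ →* Q) (hσ : Cfsg.IsStemExtension σ) (hcard : Nat.card (MM Q) ≤ Nat.card σ.ker)
    (ψ : EE Q →* Γ) (hψ : σ.comp ψ = phib Q) : ψ.ker ⊓ MM Q = ⊥ := by
  obtain ⟨hσs, hσc, hσst⟩ := hσ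
  let f : MM Q →* σ.ker := (ψ.comp (MM Q).subtype).codRestrict σ.ker
    (fun m => lift_mem_ker ψ hψ _ (MM_le_Rb Q m.2))
  have hfsurj : Function.Surjective f := by
    rintro ⟨k, hk⟩
    obtain ⟨m, hm, hmk⟩ := lift_MM_onto hσc hσst ψ hψ k hk
    exact ⟨⟨m, hm⟩, Subtype.ext hmk⟩
  have hfb := hfsurj.bijective_of_nat_card_le hcard
  rw [eq_bot_iff]
  rintro m ⟨hm1, hm2⟩
  have h1 : f ⟨m, hm2⟩ = f 1 := by
    apply Subtype.ext
    rw [map_one]
    exact hm1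
  have h2 := hfb.1 h1
  rw [Subgroup.mem_bot]
  exact congrArg Subtype.val h2

theorem decomp_of_lift {Q : Type u} [Group Q] {Γ : Type v} [Group Γ]
    (σ : Γ →* Q) (hσ : Cfsg.IsStemExtension σ) (ψ : EE Q →* Γ) (hψ : σ.comp ψ = phib Q) :
    ∀ r ∈ Rb Q, ∃ c ∈ ψ.ker, ∃ m ∈ MM Q, r = c * m := by
  obtain ⟨hσs, hσc, hσst⟩ := hσ
  intro r hr
  obtain ⟨m, hm, hmk⟩ := lift_MM_onto hσc hσst ψ hψ (ψ r) (lift_mem_ker ψ hψ r hr)
  refine ⟨r * m⁻¹, ?_, m, hm, by group⟩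
  rw [MonoidHom.mem_ker, map_mul, map_inv, hmk, mul_inv_cancel]

/-- powers by the order of the commutator quotient -/
theorem pow_card_abel_mem {Q : Type u} [Group Q] (e : EE Q) :
    ∃ r ∈ Rb Q, ∃ d ∈ commutator (EE Q), e ^ Nat.card (Abelianization Q) = r * d := by
  have h1 : (phib Q e) ^ Nat.card (Abelianization Q) ∈ commutator Q := by
    rw [← Abelianization.ker_of, MonoidHom.mem_ker, map_pow]
    exact pow_card_eq_one'
  have hmap : commutator Q = (commutator (EE Q)).map (phib Q) := by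
    rw [commutator_def, commutator_def, Subgroup.map_commutator,
      Subgroup.map_top_of_surjective _ (phib_surjective Q)]
  rw [hmap] at h1
  obtain ⟨d, hd, hdx⟩ := h1
  refine ⟨e ^ Nat.card (Abelianization Q) * d⁻¹, ?_, d, hd, by group⟩
  change phib Q (e ^ Nat.card (Abelianization Q) * d⁻¹) = 1
  rw [map_mul, map_inv, hdx, map_pow, mul_inv_cancel]

theorem unique_of_coprime {Q : Type u} [Group Q] [Finite Q] {A : Type v} [CommGroup A]
    (hA : Cfsg.HasSchurMultiplier Q A)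
    (hcop : Nat.Coprime (Nat.card (Abelianization Q)) (Nat.card A))
    (Γ₁ Γ₂ : Type u) [Group Γ₁] [Finite Γ₁] [Group Γ₂] [Finite Γ₂] (σ₁ : Γ₁ →* Q) (σ₂ : Γ₂ →* Q)
    (hσ₁ : Cfsg.IsStemExtension σ₁) (hσ₂ : Cfsg.IsStemExtension σ₂)
    (hk₁ : Nonempty (σ₁.ker ≃* A)) (hk₂ : Nonempty (σ₂.ker ≃* A)) :
    ∃ e : Γ₁ ≃* Γ₂, σ₂.comp e.toMonoidHom = σ₁ := by
  classical
  obtain ⟨eA⟩ := equiv_MM_of_hasSchurMultiplier hA
  obtain ⟨ek₁⟩ := hk₁
  obtain ⟨ek₂⟩ := hk₂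
  have hσ₁' := hσ₁
  have hσ₂' := hσ₂
  obtain ⟨hσ₁s, hσ₁c, hσ₁st⟩ := hσ₁
  obtain ⟨hσ₂s, hσ₂c, hσ₂st⟩ := hσ₂
  obtain ⟨ψ₁, hψ₁⟩ := exists_lift Q σ₁ hσ₁s hσ₁c
  obtain ⟨ψ₂, hψ₂⟩ := exists_lift Q σ₂ hσ₂s hσ₂c
  have hsurj₁ := lift_surjective hσ₁c hσ₁st ψ₁ hψ₁
  have hcard₁ : Nat.card (MM Q) ≤ Nat.card σ₁.ker :=
    le_of_eq (Nat.card_congr (eA.trans ek₁.symm).toEquiv)
  have hCM := ker_inf_MM_eq_bot σ₁ hσ₁' hcard₁ ψ₁ hψ₁
  have hCR : ψ₁.ker ≤ Rb Q := lift_ker_le ψ₁ hψ₁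
  have hdec := decomp_of_lift σ₁ hσ₁' ψ₁ hψ₁
  have hCcomm : ψ₁.ker ⊓ commutator (EE Q) = ⊥ := by
    rw [eq_bot_iff]
    rintro c ⟨hc1, hc2⟩
    have : c ∈ ψ₁.ker ⊓ MM Q := ⟨hc1, hCR hc1, hc2⟩
    rw [hCM] at this
    exact this
  have hpow : ∀ e : EE Q, ∃ c ∈ ψ₁.ker, ∃ d ∈ commutator (EE Q),
      e ^ Nat.card (Abelianization Q) = c * d := by
    intro e
    obtain ⟨r, hr, d, hd, h⟩ := pow_card_abel_mem e
    obtain ⟨c, hc, m, hm, rfl⟩ := hdec r hr
    exact ⟨c, hc, m * d, Subgroup.mul_mem _ (MM_le_commutator Q hm) hd, by rw [h, mul_assoc]⟩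
  haveI : IsMulCommutative σ₂.ker :=
    ⟨⟨fun a b => Subtype.ext (Subgroup.mem_center_iff.mp (hσ₂c b.2) a.1)⟩⟩
  have hcardK : Nat.card σ₂.ker = Nat.card A := Nat.card_congr ek₂.toEquiv
  let restr : ψ₁.ker →* σ₂.ker := (ψ₂.comp ψ₁.ker.subtype).codRestrict σ₂.ker
    (fun c => lift_mem_ker ψ₂ hψ₂ _ (hCR c.2))
  obtain ⟨η, hη⟩ := extend_hom_coprime ψ₁.ker hCcomm restr⁻¹ (Nat.card (Abelianization Q))
    (by rw [hcardK]; exact hcop) hpow
  have hηc : ∀ e, ∀ g : Γ₂, g * (η e : Γ₂) = (η e : Γ₂) * g := fun e g =>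
    Subgroup.mem_center_iff.mp (hσ₂c (η e).2) g
  let ψ₂' : EE Q →* Γ₂ :=
    { toFun := fun e => ψ₂ e * (η e : Γ₂)
      map_one' := by
        rw [map_one, map_one]
        exact one_mul _
      map_mul' := fun x y => by
        rw [map_mul, map_mul, Subgroup.coe_mul]
        calc ψ₂ x * ψ₂ y * ((η x : Γ₂) * (η y : Γ₂))
            = ψ₂ x * (ψ₂ y * (η x : Γ₂)) * (η y : Γ₂) := by group
          _ = ψ₂ x * ((η x : Γ₂) * ψ₂ y) * (η y : Γ₂) := by rw [hηc x (ψ₂ y)]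
          _ = _ := by group }
  have hψ₂'def : ∀ e, ψ₂' e = ψ₂ e * (η e : Γ₂) := fun e => rfl
  have hψ₂ap : ∀ e, σ₂ (ψ₂ e) = phib Q e := fun e => by
    have := congrArg (fun g : EE Q →* Q => g e) hψ₂
    exact this
  have hψ₁ap : ∀ e, σ₁ (ψ₁ e) = phib Q e := fun e => by
    have := congrArg (fun g : EE Q →* Q => g e) hψ₁
    exact this
  have hψ₂' : σ₂.comp ψ₂' = phib Q := by
    apply MonoidHom.ext
    intro e
    rw [MonoidHom.comp_apply, hψ₂'def, map_mul, hψ₂ap, MonoidHom.mem_ker.mp (η e).2, mul_one]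
  have hsurj₂' := lift_surjective hσ₂c hσ₂st ψ₂' hψ₂'
  have hle : ψ₁.ker ≤ ψ₂'.ker := by
    intro c hc
    rw [MonoidHom.mem_ker, hψ₂'def]
    have h1 : η c = restr⁻¹ ⟨c, hc⟩ := hη ⟨c, hc⟩
    rw [h1, MonoidHom.inv_apply, Subgroup.coe_inv]
    change ψ₂ c * (ψ₂ c)⁻¹ = 1
    rw [mul_inv_cancel]
  let ε : Γ₁ →* Γ₂ := (MonoidHom.liftOfSurjective ψ₁ hsurj₁) ⟨ψ₂', hle⟩
  have hε : ∀ e, ε (ψ₁ e) = ψ₂' e := fun e =>
    MonoidHom.liftOfRightInverse_comp_apply ψ₁ _ (Function.rightInverse_surjInv hsurj₁)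
      ⟨ψ₂', hle⟩ e
  have hεs : Function.Surjective ε := by
    intro y
    obtain ⟨e, rfl⟩ := hsurj₂' y
    exact ⟨ψ₁ e, hε e⟩
  have hcardΓ : Nat.card Γ₁ ≤ Nat.card Γ₂ := by
    rw [card_eq_of_stem σ₁ hσ₁s, card_eq_of_stem σ₂ hσ₂s, hcardK,
      Nat.card_congr ek₁.toEquiv]
  have hεb := hεs.bijective_of_nat_card_le hcardΓ
  refine ⟨MulEquiv.ofBijective ε hεb, ?_⟩
  apply MonoidHom.ext
  intro x
  obtain ⟨e, rfl⟩ := hsurj₁ x
  change σ₂ (ε (ψ₁ e)) = σ₁ (ψ₁ e)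
  rw [hε, hψ₁ap]
  have := congrArg (fun g : EE Q →* Q => g e) hψ₂'
  exact this

/-- the commutator quotient of `E` is torsion free -/
theorem mem_commutator_of_pow_mem {Q : Type u} [Group Q] (x : EE Q) (n : ℕ) (hn : 0 < n)
    (h : x ^ n ∈ commutator (EE Q)) : x ∈ commutator (EE Q) := by
  obtain ⟨f, rfl⟩ := QuotientGroup.mk_surjective x
  rw [mk_mem_commutator_iff]
  have h1 : (QuotientGroup.mk (f ^ n) : EE Q) ∈ commutator (EE Q) := by
    rw [QuotientGroup.mk_pow]; exact h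
  rw [mk_mem_commutator_iff] at h1
  have h2 : (Abelianization.of f) ^ n = 1 := by
    rw [← map_pow]
    exact (QuotientGroup.eq_one_iff _).mpr h1
  have h3 := abel_free_torsionfree Q _ n hn h2
  exact (QuotientGroup.eq_one_iff _).mp h3

/-- in a finitely generated torsion free abelian group, an element which is not a `p`-th power
has a coordinate not divisible by `p` -/
theorem exists_coord {B : Type u} [Group B] [Group.FG B] (hcomm : ∀ a b : B, a * b = b * a)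
    (htf : ∀ x : B, ∀ n : ℕ, 0 < n → x ^ n = 1 → x = 1) (p : ℕ) (y : B)
    (hy : ∀ c : B, c ^ p ≠ y) :
    ∃ ℓ : B →* Multiplicative ℤ, ¬ (p : ℤ) ∣ Multiplicative.toAdd (ℓ y) := by
  classical
  letI : CommGroup B := { ‹Group B› with mul_comm := hcomm }
  obtain ⟨j, ι, _, _, q, hq, e, ⟨eq⟩⟩ := CommGroup.equiv_free_prod_prod_multiplicative_zmod B
  haveI : ∀ i, NeZero (q i ^ e i) := fun i => ⟨pow_ne_zero _ (hq i).ne_zero⟩
  by_contra hne
  push Not at hne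
  let ℓ : ι → (B →* Multiplicative ℤ) := fun i =>
    (Pi.evalMonoidHom (fun _ : ι => Multiplicative ℤ) i).comp
      ((MonoidHom.fst _ _).comp eq.toMonoidHom)
  have hℓ : ∀ i b, ℓ i b = (eq b).1 i := fun i b => rfl
  have hdiv : ∀ i, (p : ℤ) ∣ Multiplicative.toAdd (ℓ i y) := fun i => hne (ℓ i)
  choose k hk using hdiv
  let c : B := eq.symm (fun i => Multiplicative.ofAdd (k i), 1)
  apply hy c
  have hz : eq (y * (c ^ p)⁻¹) = (1, (eq y).2) := by
    rw [map_mul, map_inv, map_pow, MulEquiv.apply_symm_apply]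
    apply Prod.ext
    · funext i
      change (eq y).1 i * ((Multiplicative.ofAdd (k i)) ^ p)⁻¹ = 1
      rw [mul_inv_eq_one]
      apply Multiplicative.toAdd.injective
      rw [← hℓ, hk i, toAdd_pow, toAdd_ofAdd]
      simp
    · change (eq y).2 * (1 ^ p)⁻¹ = (eq y).2
      rw [one_pow, inv_one, mul_one]
  have hN : 0 < Nat.card ((i : j) → Multiplicative (ZMod (q i ^ e i))) := Nat.card_pos
  have ht : (y * (c ^ p)⁻¹) ^ Nat.card ((i : j) → Multiplicative (ZMod (q i ^ e i))) = 1 := by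
    apply eq.injective
    rw [map_pow, hz, map_one]
    apply Prod.ext
    · rw [Prod.pow_fst, one_pow]; rfl
    · rw [Prod.pow_snd]; exact pow_card_eq_one'
  have h1 := htf _ _ hN ht
  exact (mul_inv_eq_one.mp h1).symm

theorem coprime_of_unique {Q : Type u} [Group Q] [Finite Q] {A : Type v} [CommGroup A]
    (hA : Cfsg.HasSchurMultiplier Q A)
    (h : ∀ (Γ₁ Γ₂ : Type u) [Group Γ₁] [Finite Γ₁] [Group Γ₂] [Finite Γ₂] (σ₁ : Γ₁ →* Q)
      (σ₂ : Γ₂ →* Q), Cfsg.IsStemExtension σ₁ → Cfsg.IsStemExtension σ₂ →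
      Nonempty (σ₁.ker ≃* A) → Nonempty (σ₂.ker ≃* A) →
      ∃ e : Γ₁ ≃* Γ₂, σ₂.comp e.toMonoidHom = σ₁) :
    Nat.Coprime (Nat.card (Abelianization Q)) (Nat.card A) := by
  classical
  by_contra hnc
  obtain ⟨p, hp, hpa, hpb⟩ := Nat.Prime.not_coprime_iff_dvd.mp hnc
  haveI := Fact.mk hp
  obtain ⟨eA⟩ := equiv_MM_of_hasSchurMultiplier hA
  have hcardMM : Nat.card (MM Q) = Nat.card A := Nat.card_congr eA.toEquiv
  obtain ⟨C₁, hC₁R, hC₁M, hdec₁⟩ := exists_complement_in (Rb Q) le_rfl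
  haveI hC₁n := normal_of_le_Rb C₁ hC₁R
  haveI : Finite (EE Q ⧸ C₁) := cover_finite C₁ hC₁R hC₁M hdec₁
  -- the element `x`
  obtain ⟨g, hg⟩ := exists_prime_orderOf_dvd_card' (G := Abelianization Q) p hpa
  obtain ⟨q, hq⟩ := QuotientGroup.mk_surjective g
  have hq' : Abelianization.of q = g := hq
  obtain ⟨x, hxq⟩ := phib_surjective Q q
  have hgx : orderOf (Abelianization.of (phib Q x)) = p := by rw [hxq, hq']; exact hg
  have hxp : (phib Q x) ^ p ∈ commutator Q := by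
    rw [← Abelianization.ker_of, MonoidHom.mem_ker, map_pow]
    have := pow_orderOf_eq_one (Abelianization.of (phib Q x))
    rw [hgx] at this
    exact this
  have hxn : phib Q x ∉ commutator Q := by
    intro hx
    have h1 : Abelianization.of (phib Q x) = 1 := by
      have : phib Q x ∈ (Abelianization.of : Q →* Abelianization Q).ker := by
        rw [Abelianization.ker_of]; exact hx
      exact this
    rw [h1, orderOf_one] at hgx
    exact hp.one_lt.ne hgx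
  have hmap : commutator Q = (commutator (EE Q)).map (phib Q) := by
    rw [commutator_def, commutator_def, Subgroup.map_commutator,
      Subgroup.map_top_of_surjective _ (phib_surjective Q)]
  -- the element `y`
  obtain ⟨y, hyC, d', hd', hxy⟩ : ∃ y ∈ C₁, ∃ d' ∈ commutator (EE Q), x ^ p = y * d' := by
    have h1 := hxp
    rw [hmap] at h1
    obtain ⟨d₀, hd₀, hd₀x⟩ := h1
    have hr : x ^ p * d₀⁻¹ ∈ Rb Q := by
      change phib Q (x ^ p * d₀⁻¹) = 1
      rw [map_mul, map_inv, hd₀x, map_pow, mul_inv_cancel]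
    obtain ⟨c, hc, m, hm, hcm⟩ := hdec₁ _ hr
    refine ⟨c, hc, m * d₀, Subgroup.mul_mem _ (MM_le_commutator Q hm) hd₀, ?_⟩
    rw [← mul_assoc, ← hcm]
    group
  -- `y` is not a `p`-th power in `C₁`
  have hy : ∀ c : C₁, c ^ p ≠ ⟨y, hyC⟩ := by
    intro c hc
    have hc' : (c : EE Q) ^ p = y := by
      have := congrArg (fun z : C₁ => (z : EE Q)) hc
      simpa using this
    have h1 : (x * (c : EE Q)⁻¹) ^ p ∈ commutator (EE Q) := by
      rw [← Abelianization.ker_of, MonoidHom.mem_ker, map_pow, map_mul, map_inv, mul_pow, inv_pow,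
        ← map_pow, ← map_pow, hxy, hc', map_mul, mul_comm (Abelianization.of y), mul_assoc,
        mul_inv_cancel, mul_one]
      have : d' ∈ (Abelianization.of : EE Q →* Abelianization (EE Q)).ker := by
        rw [Abelianization.ker_of]; exact hd'
      exact this
    have h2 := mem_commutator_of_pow_mem _ p hp.pos h1
    have h3 : phib Q (x * (c : EE Q)⁻¹) ∈ commutator Q := by
      rw [hmap]
      exact ⟨_, h2, rfl⟩
    have hcR : phib Q (c : EE Q) = 1 := hC₁R c.2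
    rw [map_mul, map_inv, hcR, inv_one, mul_one] at h3
    exact hxn h3
  -- the coordinate
  haveI : C₁.FiniteIndex := Subgroup.finiteIndex_of_finite_quotient
  haveI : Group.FG (EE Q) := inferInstance
  haveI : Group.FG C₁ := inferInstance
  have hcommC : ∀ a b : C₁, a * b = b * a := by
    intro a b
    apply Subtype.ext
    exact Subgroup.mem_center_iff.mp (Rb_le_center Q (hC₁R b.2)) a.1
  have htfC : ∀ c : C₁, ∀ n : ℕ, 0 < n → c ^ n = 1 → c = 1 := by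
    intro c n hn hcn
    have h1 : (c : EE Q) ^ n = 1 := by
      have := congrArg (fun z : C₁ => (z : EE Q)) hcn
      simpa using this
    have h2 : (c : EE Q) ∈ MM Q := by
      apply mem_MM_of_pow_mem Q _ (hC₁R c.2) n hn
      rw [h1]
      exact Subgroup.one_mem _
    have h3 : (c : EE Q) ∈ C₁ ⊓ MM Q := ⟨c.2, h2⟩
    rw [hC₁M, Subgroup.mem_bot] at h3
    exact Subtype.ext h3
  obtain ⟨ℓ, hℓ⟩ := exists_coord hcommC htfC p ⟨y, hyC⟩ hy
  -- an element of the multiplier which is not a `p`-th power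
  have hMMcomm : ∀ a b : MM Q, a * b = b * a := by
    intro a b
    apply Subtype.ext
    exact Subgroup.mem_center_iff.mp (Rb_le_center Q (MM_le_Rb Q b.2)) a.1
  obtain ⟨μ, hμ⟩ : ∃ μ : MM Q, ∀ m : MM Q, m ^ p ≠ μ := by
    have hpM : p ∣ Nat.card (MM Q) := by rw [hcardMM]; exact hpb
    obtain ⟨m₀, hm₀⟩ := exists_prime_orderOf_dvd_card' (G := MM Q) p hpM
    have hninj : ¬ Function.Injective (fun m : MM Q => m ^ p) := by
      intro hinj
      have h1 : m₀ ^ p = (1 : MM Q) ^ p := by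
        rw [one_pow, ← hm₀]
        exact pow_orderOf_eq_one m₀
      have h2 : m₀ = 1 := hinj h1
      rw [h2, orderOf_one] at hm₀
      exact hp.one_lt.ne hm₀
    have hnsurj : ¬ Function.Surjective (fun m : MM Q => m ^ p) := fun hs =>
      hninj (Finite.injective_iff_surjective.mpr hs)
    rw [Function.Surjective] at hnsurj
    push Not at hnsurj
    exact hnsurj
  let θ : C₁ →* MM Q := (zpowersHom (MM Q) μ).comp ℓ
  have hθ : ∀ c, θ c = μ ^ Multiplicative.toAdd (ℓ c) := fun c => rfl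
  have hθy : ∀ m : MM Q, m ^ p ≠ θ ⟨y, hyC⟩ := by
    intro m hm
    rw [hθ] at hm
    have hcop : IsCoprime (p : ℤ) (Multiplicative.toAdd (ℓ ⟨y, hyC⟩)) :=
      (Prime.coprime_iff_not_dvd (Nat.prime_iff_prime_int.mp hp)).mpr hℓ
    obtain ⟨u, v, huv⟩ := hcop
    apply hμ (μ ^ u * m ^ v)
    have hcm : Commute (μ ^ u) (m ^ v) := hMMcomm _ _
    rw [hcm.mul_pow, ← zpow_natCast (μ ^ u), ← zpow_mul, ← zpow_natCast (m ^ v) p,
      ← zpow_mul, mul_comm v (p : ℤ), zpow_mul m, zpow_natCast m p, hm, ← zpow_mul, ← zpow_add,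
      mul_comm _ v, huv, zpow_one]
  -- the twisted complement
  have hθc : ∀ c : C₁, ∀ g : EE Q, g * ((θ c : MM Q) : EE Q) = ((θ c : MM Q) : EE Q) * g :=
    fun c g => Subgroup.mem_center_iff.mp (Rb_le_center Q (MM_le_Rb Q (θ c).2)) g
  let twist : C₁ →* EE Q :=
    { toFun := fun c => (c : EE Q) * ((θ c : MM Q) : EE Q)
      map_one' := by
        rw [map_one]
        exact one_mul _
      map_mul' := fun a b => by
        rw [map_mul, Subgroup.coe_mul, Subgroup.coe_mul]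
        calc (a : EE Q) * (b : EE Q) * (((θ a : MM Q) : EE Q) * ((θ b : MM Q) : EE Q))
            = (a : EE Q) * ((b : EE Q) * ((θ a : MM Q) : EE Q)) * ((θ b : MM Q) : EE Q) := by
              group
          _ = (a : EE Q) * (((θ a : MM Q) : EE Q) * (b : EE Q)) * ((θ b : MM Q) : EE Q) := by
              rw [hθc a b]
          _ = _ := by group }
  have htw : ∀ c : C₁, twist c = (c : EE Q) * ((θ c : MM Q) : EE Q) := fun c => rfl
  let C₂ : Subgroup (EE Q) := twist.range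
  have hC₂R : C₂ ≤ Rb Q := by
    rintro _ ⟨c, rfl⟩
    rw [htw]
    exact Subgroup.mul_mem _ (hC₁R c.2) (MM_le_Rb Q (θ c).2)
  have hC₂M : C₂ ⊓ MM Q = ⊥ := by
    rw [eq_bot_iff]
    rintro _ ⟨⟨c, rfl⟩, hz⟩
    rw [htw] at hz ⊢
    have h1 : (c : EE Q) ∈ MM Q := by
      have := Subgroup.mul_mem _ hz (Subgroup.inv_mem _ (θ c).2)
      rwa [mul_inv_cancel_right] at this
    have h2 : (c : EE Q) ∈ C₁ ⊓ MM Q := ⟨c.2, h1⟩
    rw [hC₁M, Subgroup.mem_bot] at h2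
    have h3 : c = 1 := Subtype.ext h2
    rw [h3, map_one, Subgroup.mem_bot]
    exact one_mul _
  have hdec₂ : ∀ r ∈ Rb Q, ∃ c ∈ C₂, ∃ m ∈ MM Q, r = c * m := by
    intro r hr
    obtain ⟨c, hc, m, hm, rfl⟩ := hdec₁ r hr
    refine ⟨twist ⟨c, hc⟩, ⟨_, rfl⟩, ((θ ⟨c, hc⟩ : MM Q) : EE Q)⁻¹ * m,
      Subgroup.mul_mem _ (Subgroup.inv_mem _ (θ ⟨c, hc⟩).2) hm, ?_⟩
    rw [htw]
    group
  haveI hC₂n := normal_of_le_Rb C₂ hC₂R
  haveI : Finite (EE Q ⧸ C₂) := cover_finite C₂ hC₂R hC₂M hdec₂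
  have hst₁ := coverHom_isStem C₁ hC₁R hdec₁
  have hst₂ := coverHom_isStem C₂ hC₂R hdec₂
  obtain ⟨ek₁⟩ := coverHom_ker_equiv C₁ hC₁R hC₁M hdec₁
  obtain ⟨ek₂⟩ := coverHom_ker_equiv C₂ hC₂R hC₂M hdec₂
  obtain ⟨ε, hε⟩ := h (EE Q ⧸ C₁) (EE Q ⧸ C₂) (coverHom C₁ hC₁R) (coverHom C₂ hC₂R) hst₁ hst₂
    ⟨ek₁.trans eA⟩ ⟨ek₂.trans eA⟩
  let ψ : EE Q →* EE Q ⧸ C₂ := QuotientGroup.mk' C₂
  let ψ' : EE Q →* EE Q ⧸ C₂ := ε.toMonoidHom.comp (QuotientGroup.mk' C₁)
  have hψψ' : (coverHom C₂ hC₂R).comp ψ = (coverHom C₂ hC₂R).comp ψ' := by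
    apply MonoidHom.ext
    intro e
    change phib Q e = (coverHom C₂ hC₂R) (ε (QuotientGroup.mk e))
    have := congrArg (fun f : EE Q ⧸ C₁ →* Q => f (QuotientGroup.mk e)) hε
    exact this.symm
  obtain ⟨η, hη⟩ := exists_diff_hom (coverHom C₂ hC₂R) hst₂.2.1 ψ ψ' hψψ'
  haveI : IsMulCommutative (coverHom C₂ hC₂R).ker :=
    ⟨⟨fun a b => Subtype.ext (Subgroup.mem_center_iff.mp (hst₂.2.1 b.2) a.1)⟩⟩
  have hηd : η d' = 1 := Abelianization.commutator_subset_ker η hd'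
  -- the value at `y`
  have hηy : ((η y : (coverHom C₂ hC₂R).ker) : EE Q ⧸ C₂) =
      QuotientGroup.mk ((θ ⟨y, hyC⟩ : MM Q) : EE Q) := by
    have h1 : ψ' y = 1 := by
      change ε (QuotientGroup.mk y) = 1
      rw [(QuotientGroup.eq_one_iff y).mpr hyC, map_one]
    have h2 := hη y
    rw [h1] at h2
    have h3 : (QuotientGroup.mk (twist ⟨y, hyC⟩) : EE Q ⧸ C₂) = 1 :=
      (QuotientGroup.eq_one_iff _).mpr ⟨_, rfl⟩
    rw [htw, QuotientGroup.mk_mul] at h3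
    have h4 : ((η y : (coverHom C₂ hC₂R).ker) : EE Q ⧸ C₂) = (ψ y)⁻¹ :=
      (inv_eq_of_mul_eq_one_right h2.symm).symm
    rw [h4]
    exact inv_eq_of_mul_eq_one_right h3
  have hηx : (η x) ^ p = η y := by
    rw [← map_pow, hxy, map_mul, hηd, mul_one]
  obtain ⟨r, hr, hrx⟩ := (mem_ker_coverHom_iff C₂ hC₂R _).mp (η x).2
  obtain ⟨c₂, hc₂, m, hm, rfl⟩ := hdec₂ r hr
  have hrx' : ((η x : (coverHom C₂ hC₂R).ker) : EE Q ⧸ C₂) = QuotientGroup.mk m := by
    rw [← hrx, QuotientGroup.mk_mul, (QuotientGroup.eq_one_iff c₂).mpr hc₂, one_mul]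
  have h5 : (QuotientGroup.mk (m ^ p) : EE Q ⧸ C₂) =
      QuotientGroup.mk ((θ ⟨y, hyC⟩ : MM Q) : EE Q) := by
    rw [QuotientGroup.mk_pow, ← hrx', ← hηy, ← hηx]
    rfl
  have h6 : (m ^ p)⁻¹ * ((θ ⟨y, hyC⟩ : MM Q) : EE Q) ∈ C₂ ⊓ MM Q :=
    ⟨QuotientGroup.eq.mp h5, Subgroup.mul_mem _ (Subgroup.inv_mem _ (Subgroup.pow_mem _ hm p))
      (θ ⟨y, hyC⟩).2⟩
  rw [hC₂M, Subgroup.mem_bot] at h6
  have h7 : m ^ p = ((θ ⟨y, hyC⟩ : MM Q) : EE Q) := by
    have := inv_mul_eq_one.mp h6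
    exact this
  exact hθy ⟨m, hm⟩ (Subtype.ext (by rw [Subgroup.coe_pow]; exact h7))

/-- Let `Q` be a finite group with Schur multiplier `A`. Any two Schur covering groups of `Q` (finite stem extensions `σ₁ : Γ₁ →* Q`, `σ₂ : Γ₂ →* Q` with kernels isomorphic to `A`, `Γ₁, Γ₂` in the universe of `Q`) are isomorphic over `Q` — there is a group isomorphism `e : Γ₁ ≃* Γ₂` with `σ₂ ∘ e = σ₁` — if and only if the order of the commutator quotient of `Q` is coprime to the order of `A`. In particular a finite perfect group has a unique Schur covering group up to isomorphism over it. -/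
theorem result {Q : Type u} [Group Q] [Finite Q] {A : Type v} [CommGroup A] (hA : Cfsg.HasSchurMultiplier Q A) : (∀ (Γ₁ Γ₂ : Type u) [Group Γ₁] [Finite Γ₁] [Group Γ₂] [Finite Γ₂] (σ₁ : Γ₁ →* Q) (σ₂ : Γ₂ →* Q), Cfsg.IsStemExtension σ₁ → Cfsg.IsStemExtension σ₂ → Nonempty (σ₁.ker ≃* A) → Nonempty (σ₂.ker ≃* A) → ∃ e : Γ₁ ≃* Γ₂, σ₂.comp e.toMonoidHom = σ₁) ↔ Nat.Coprime (Nat.card (Abelianization Q)) (Nat.card A) := by
  constructor
  · intro h
    exact coprime_of_unique hA h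
  · intro hcop Γ₁ Γ₂ _ _ _ _ σ₁ σ₂ hσ₁ hσ₂ hk₁ hk₂
    exact unique_of_coprime hA hcop Γ₁ Γ₂ σ₁ σ₂ hσ₁ hσ₂ hk₁ hk₂

end Cfsg.Agent.S3974
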