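import Cfsg.Statements.S3976
import Mathlib
import Cfsg.Agent.S3975

set_option autoImplicit false
open Cfsg
open Pointwise MulAction

namespace Cfsg.Agent.S3976

/-- Let `p` be a prime and `G` a group of order `p ^ m`. For every `s ≤ m` the number of normal subgroups of `G` of order `p ^ s` is congruent to `1` modulo `p`. -/
theorem result {G : Type*} [Group G] [Finite G] (p m s : ℕ) (hp : p.Prime) (hG : Nat.card G = p ^ m) (hs : s ≤ m) : Nat.card {H : Subgroup G // H.Normal ∧ Nat.card H = p ^ s} ≡ 1 [MOD p] := by
  classical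
  have hfact : Fact p.Prime := ⟨hp⟩
  let inst : MulAction G (Subgroup G) := MulAction.compHom _ (MulAut.conj : G →* MulAut G)
  have hsm : ∀ (g : G) (H : Subgroup G), g • H = MulAut.conj g • H := fun _ _ => rfl
  have htot := Cfsg.Agent.S3975.result (G := G) p s hp (by rw [hG]; exact pow_dvd_pow p hs)
  set X : Set (Subgroup G) := {H | Nat.card H = p ^ s} with hX
  set Y : Set (Subgroup G) := {H | Nat.card H = p ^ s ∧ ¬ H.Normal} with hY
  set Z : Set (Subgroup G) := {H | H.Normal ∧ Nat.card H = p ^ s} with hZ
  have hYdvd : p ∣ Y.ncard := by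
    apply Cfsg.Agent.Lib.Helper6_Derangement.dvd_ncard_of_dvd_orbit (H := G) (Y := Subgroup G)
    · rintro g H ⟨hHc, hHn⟩
      refine ⟨?_, ?_⟩
      · rw [hsm]
        have : Nat.card ((MulAut.conj g • H : Subgroup G)) = Nat.card H := by
          rw [Subgroup.pointwise_smul_def]
          exact Subgroup.card_map_of_injective (MulAut.conj g).injective
        rw [this, hHc]
      · intro hn
        apply hHn
        have : H = g⁻¹ • (g • H) := by rw [inv_smul_smul]
        rw [this, hsm g⁻¹]
        exact Subgroup.Normal.map hn _ (MulAut.conj g⁻¹).surjective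
    · rintro H ⟨hHc, hHn⟩
      rw [← index_stabilizer]
      have hdvd : (stabilizer G H).index ∣ p ^ m := by
        rw [← hG]; exact Subgroup.index_dvd_card _
      obtain ⟨j, -, hj⟩ := (Nat.dvd_prime_pow hp).mp hdvd
      rw [hj]
      apply dvd_pow_self
      rintro rfl
      rw [pow_zero, Subgroup.index_eq_one] at hj
      apply hHn
      constructor
      intro n hn g
      have hg : g ∈ stabilizer G H := by rw [hj]; trivial
      have h1 : g • H = H := hg
      rw [hsm] at h1
      rw [← h1]
      have := Subgroup.smul_mem_pointwise_smul n (MulAut.conj g) H hn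
      rwa [MulAut.smul_def, MulAut.conj_apply] at this
  have hsplit : X.ncard = Z.ncard + Y.ncard := by
    have hZX : Z ⊆ X := fun H hH => hH.2
    have hXZ : X \ Z = Y := by
      ext H
      constructor
      · rintro ⟨h1, h2⟩
        exact ⟨h1, fun hn => h2 ⟨hn, h1⟩⟩
      · rintro ⟨h1, h2⟩
        exact ⟨h1, fun hn => h2 hn.1⟩
    rw [← hXZ, add_comm]
    exact (Set.ncard_sdiff_add_ncard_of_subset hZX (Set.toFinite X)).symm
  have h1 : Nat.card {H : Subgroup G // Nat.card H = p ^ s} = X.ncard := Nat.card_coe_set_eq X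
  have h2 : Nat.card {H : Subgroup G // H.Normal ∧ Nat.card H = p ^ s} = Z.ncard :=
    Nat.card_coe_set_eq Z
  rw [h2]
  rw [h1, hsplit] at htot
  obtain ⟨c, hc⟩ := hYdvd
  rw [hc] at htot
  have : (Z.ncard + p * c) % p = 1 % p := htot
  rw [Nat.add_mul_mod_self_left] at this
  exact this

end Cfsg.Agent.S3976
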