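import Cfsg.Statements.S3977
import Mathlib
import Cfsg.Agent.S0016
import Cfsg.Agent.Lib.Helper6_CyclicP
import Cfsg.Agent.Lib.Helper7_Basic
import Cfsg.Agent.Lib.Helper7_PGroupRank

set_option autoImplicit false
open Cfsg

namespace Cfsg.Agent.S3977

open Cfsg.Agent.Lib.Helper6_CyclicP

/-- an abelian 2-subgroup of a group with at most one involution is cyclic -/
theorem cyclic_of_abelian_unique {G : Type*} [Group G] [Finite G] (A : Subgroup G)
    (hA2 : IsPGroup 2 A) (hcomm : ∀ a ∈ A, ∀ b ∈ A, a * b = b * a) (z : G)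
    (hz : ∀ t : G, t ^ 2 = 1 → t = 1 ∨ t = z) : IsCyclic A := by
  have : Fact (Nat.Prime 2) := ⟨Nat.prime_two⟩
  have hR : ∀ x u : A, x * u = u * x → x ^ 2 = 1 → u ^ 2 = 1 → x ≠ 1 →
      u ∈ Subgroup.zpowers x := by
    intro x u _ hx hu hx1
    have hx' : (x : G) ^ 2 = 1 := congrArg (fun c : A => (c : G)) hx
    have hu' : (u : G) ^ 2 = 1 := congrArg (fun c : A => (c : G)) hu
    have hxz : (x : G) = z := by
      rcases hz _ hx' with h | h
      · exact absurd (Subtype.ext h) hx1
      · exact h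
    rcases hz _ hu' with h | h
    · have : u = 1 := Subtype.ext h
      rw [this]; exact Subgroup.one_mem _
    · have : u = x := Subtype.ext (h.trans hxz.symm)
      rw [this]; exact Subgroup.mem_zpowers x
  rcases Cfsg.Agent.Lib.Helper7_PGroupRank.cyclic_or_quaternion_like hA2 hR with h | ⟨-, a, b, hab, -⟩
  · exact h
  · exfalso
    apply hab
    have := hcomm a a.2 b b.2
    have h1 : a * b = b * a := Subtype.ext this
    rw [h1]; group

/-- Let `p` be a prime and `G` a group of order `p ^ m` which has exactly one subgroup of order `p ^ s`, where `1 ≤ s < m`, and where `s ≥ 2` if `p = 2`. Then `G` is cyclic. (For `p = 2` and `s = 1` the generalized quaternion groups also occur; that case is the classical criterion for a unique involution.) -/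
theorem result {G : Type*} [Group G] [Finite G] (p m s : ℕ) (hp : p.Prime) (hG : Nat.card G = p ^ m) (hs : 1 ≤ s) (hsm : s < m) (h2 : p ≠ 2 ∨ 2 ≤ s) (huniq : ∀ H K : Subgroup G, Nat.card H = p ^ s → Nat.card K = p ^ s → H = K) : IsCyclic G := by
  classical
  have hfact : Fact p.Prime := ⟨hp⟩
  have hGp : IsPGroup p G := IsPGroup.of_card hG
  have hdvd : p ^ s ∣ Nat.card G := by rw [hG]; exact pow_dvd_pow p hsm.le
  obtain ⟨H, hH⟩ := Sylow.exists_subgroup_card_pow_prime p hdvd
  have hHuniq : ∀ K : Subgroup G, Nat.card K = p ^ s → K = H := fun K hK => huniq K H hK hH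
  -- (b)
  have hb : ∀ x : G, x ∈ H ∨ H ≤ Subgroup.zpowers x := by
    intro x
    obtain ⟨j, hj⟩ := (hGp.to_subgroup (Subgroup.zpowers x)).exists_card_eq
    by_cases hjs : j ≤ s
    · left
      obtain ⟨K, hK, hle⟩ := Sylow.exists_subgroup_card_pow_prime_le p hdvd (Subgroup.zpowers x) hj hjs
      rw [hHuniq K hK] at hle
      exact hle (Subgroup.mem_zpowers x)
    · right
      have h1 : p ^ s ∣ Nat.card (Subgroup.zpowers x) := by
        rw [hj]; exact pow_dvd_pow p (by omega)
      obtain ⟨K', hK'⟩ := Sylow.exists_subgroup_card_pow_prime p h1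
      have h2 := hHuniq (K'.map (Subgroup.zpowers x).subtype)
        (by rw [Subgroup.card_map_of_injective (Subgroup.subtype_injective _), hK'])
      rw [← h2]; exact Subgroup.map_subtype_le _
  have hHtop : H ≠ ⊤ := by
    intro h
    rw [h, Subgroup.card_top, hG] at hH
    have := Nat.pow_right_injective hp.two_le hH
    omega
  obtain ⟨x₁, hx₁⟩ : ∃ x₁ : G, x₁ ∉ H := by
    by_contra h
    push Not at h
    exact hHtop ((Subgroup.eq_top_iff' H).mpr h)
  have hHx : H ≤ Subgroup.zpowers x₁ := (hb x₁).resolve_left hx₁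
  have hHc : IsCyclic H := by
    have h1 : IsCyclic (H.subgroupOf (Subgroup.zpowers x₁)) := inferInstance
    exact isCyclic_of_surjective (Subgroup.subgroupOfEquivOfLe hHx).toMonoidHom
      (Subgroup.subgroupOfEquivOfLe hHx).surjective
  have hHcomm : ∀ a ∈ H, ∀ b ∈ H, a * b = b * a := by
    intro a ha b hb'
    obtain ⟨i, rfl⟩ := Subgroup.mem_zpowers_iff.mp (hHx ha)
    obtain ⟨j, rfl⟩ := Subgroup.mem_zpowers_iff.mp (hHx hb')
    exact zpow_mul_comm x₁ i j
  -- unique subgroup of order p
  have hup : ∀ K L : Subgroup G, Nat.card K = p → Nat.card L = p → K = L := by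
    intro K L hK hL
    obtain ⟨K', hK', hKK'⟩ := Sylow.exists_subgroup_card_pow_prime_le p hdvd K
      (n := 1) (by rw [hK, pow_one]) hs
    obtain ⟨L', hL', hLL'⟩ := Sylow.exists_subgroup_card_pow_prime_le p hdvd L
      (n := 1) (by rw [hL, pow_one]) hs
    rw [hHuniq K' hK'] at hKK'
    rw [hHuniq L' hL'] at hLL'
    exact Cfsg.Agent.Lib.Helper7_Basic.cyclic_subgroup_unique H hHc K L hKK' hLL' (hK.trans hL.symm)
  have hR : ∀ x u : G, x * u = u * x → x ^ p = 1 → u ^ p = 1 → x ≠ 1 →
      u ∈ Subgroup.zpowers x := by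
    intro x u _ hx hu hx1
    by_cases hu1 : u = 1
    · rw [hu1]; exact Subgroup.one_mem _
    · have hox : orderOf x = p := orderOf_eq_prime hx hx1
      have hou : orderOf u = p := orderOf_eq_prime hu hu1
      have h1 : Nat.card (Subgroup.zpowers x) = p := by rw [Nat.card_zpowers, hox]
      have h2 : Nat.card (Subgroup.zpowers u) = p := by rw [Nat.card_zpowers, hou]
      rw [hup _ _ h1 h2]
      exact Subgroup.mem_zpowers u
  rcases Cfsg.Agent.Lib.Helper7_PGroupRank.cyclic_or_quaternion_like hGp hR with h | ⟨h2p, a, b, hab, hab2⟩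
  · exact h
  exfalso
  subst h2p
  have hs2 : 2 ≤ s := h2.resolve_left (by simp)
  set z : G := a * b * a⁻¹ * b⁻¹ with hzdef
  have hz : ∀ t : G, t ^ 2 = 1 → t = 1 ∨ t = z := by
    intro t ht
    by_cases ht1 : t = 1
    · exact Or.inl ht1
    · exact Or.inr (Cfsg.Agent.S0016.involution_unique hup z t hab2 hab ht ht1)
  have hzc : ∀ g : G, g * z * g⁻¹ = z := by
    intro g
    have h1 : (g * z * g⁻¹) ^ 2 = 1 := by rw [conj_pow, hab2]; group
    rcases hz _ h1 with h | h
    · exfalso; apply hab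
      have : z = g⁻¹ * (g * z * g⁻¹) * g := by group
      rw [this, h]; group
    · exact h
  have hzcomm : ∀ g : G, g * z = z * g := by
    intro g
    have := hzc g
    calc g * z = (g * z * g⁻¹) * g := by group
      _ = z * g := by rw [this]
  have hzinv : z⁻¹ = z := by
    have : z * z = 1 := by rw [← pow_two]; exact hab2
    exact inv_eq_of_mul_eq_one_left this
  -- elements with w^4 = 1 lie in H
  have h4H : ∀ w : G, w ^ 4 = 1 → w ∈ H := by
    intro w hw
    rcases hb w with h | h
    · exact h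
    · have h1 : Nat.card (Subgroup.zpowers w) ≤ 4 := by
        rw [Nat.card_zpowers]
        exact Nat.le_of_dvd (by norm_num) (orderOf_dvd_of_pow_eq_one hw)
      have h3 : 4 ≤ Nat.card H := by
        rw [hH]
        calc 4 = 2 ^ 2 := by norm_num
          _ ≤ 2 ^ s := Nat.pow_le_pow_right (by norm_num) hs2
      have h5 := Subgroup.eq_of_le_of_card_ge h (by omega)
      rw [h5]; exact Subgroup.mem_zpowers w
  have h4c : ∀ w : G, w ^ 4 = 1 → ∀ g : G, g * w = w * g := by
    intro w hw g
    have hwH := h4H w hw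
    rcases hb g with h | h
    · exact hHcomm g h w hwH
    · obtain ⟨i, rfl⟩ := Subgroup.mem_zpowers_iff.mp (h hwH)
      exact (Commute.self_zpow g i).eq
  -- conjugation formulas
  have hab' : a * b * a⁻¹ = z * b := by rw [hzdef]; group
  have hba' : b * a * b⁻¹ = z * a := by
    have : b * a * b⁻¹ = z⁻¹ * a := by rw [hzdef]; group
    rw [this, hzinv]
  -- the key contradiction
  have key : ∀ a b : G, a * b * a⁻¹ = z * b → b * a * b⁻¹ = z * a →
      b ^ 2 ∈ Subgroup.zpowers (a ^ 2) → False := by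
    intro a b hab' hba' hmem
    obtain ⟨k, hk⟩ := Subgroup.mem_zpowers_iff.mp hmem
    have hk' : b ^ 2 = a ^ (2 * k) := by
      rw [← hk, ← zpow_natCast, ← zpow_mul]; norm_num
    set w : G := a ^ (-k) * b with hw
    have hconj : b * a ^ (-k) * b⁻¹ = z ^ (-k) * a ^ (-k) := by
      rw [← conj_zpow, hba', (show Commute z a from (hzcomm a).symm).mul_zpow]
    have hw2 : w ^ 2 = z ^ (-k) := by
      have h1 : w ^ 2 = a ^ (-k) * (b * a ^ (-k) * b⁻¹) * b ^ 2 := by
        rw [hw, pow_two, pow_two]; group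
      rw [h1, hconj, hk']
      have hzk : a ^ (-k) * z ^ (-k) = z ^ (-k) * a ^ (-k) :=
        ((show Commute a z from hzcomm a).zpow_zpow (-k) (-k)).eq
      calc a ^ (-k) * (z ^ (-k) * a ^ (-k)) * a ^ (2 * k)
          = (a ^ (-k) * z ^ (-k)) * (a ^ (-k) * a ^ (2 * k)) := by group
        _ = (z ^ (-k) * a ^ (-k)) * (a ^ (-k) * a ^ (2 * k)) := by rw [hzk]
        _ = z ^ (-k) * (a ^ (-k) * a ^ (-k) * a ^ (2 * k)) := by group
        _ = z ^ (-k) := by
          rw [← zpow_add, ← zpow_add]
          have : -k + -k + 2 * k = 0 := by ring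
          rw [this, zpow_zero, mul_one]
    have hw4 : w ^ 4 = 1 := by
      have : w ^ 4 = (w ^ 2) ^ 2 := by rw [← pow_mul]
      rw [this, hw2, ← zpow_natCast, ← zpow_mul, mul_comm, zpow_mul, zpow_natCast, hab2, one_zpow]
    have hcomm := h4c w hw4 a
    have h2 : a * w = z * w * a := by
      have h3 : a * w = a ^ (-k) * (a * b * a⁻¹) * a := by
        rw [hw]
        have : a * (a ^ (-k) * b) = (a * a ^ (-k)) * b := by group
        rw [this, (Commute.self_zpow a (-k)).eq]; group
      rw [h3, hab']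
      have hzk : a ^ (-k) * z = z * a ^ (-k) :=
        ((show Commute a z from hzcomm a).zpow_left (-k)).eq
      calc a ^ (-k) * (z * b) * a = (a ^ (-k) * z) * b * a := by group
        _ = (z * a ^ (-k)) * b * a := by rw [hzk]
        _ = z * (a ^ (-k) * b) * a := by group
    rw [hcomm] at h2
    apply hab
    have h5 : w * a = z * (w * a) := by rw [← mul_assoc]; exact h2
    have h6 : z * (w * a) = 1 * (w * a) := by rw [one_mul]; exact h5.symm
    exact mul_right_cancel h6
  -- conjugation formulas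
  have hab' : a * b * a⁻¹ = z * b := by rw [hzdef]; group
  have hba' : b * a * b⁻¹ = z * a := by
    have : b * a * b⁻¹ = z⁻¹ * a := by rw [hzdef]; group
    rw [this, hzinv]
  -- a², b² commute
  have ha2b : b * a ^ 2 = a ^ 2 * b := by
    have h1 : b * a ^ 2 * b⁻¹ = a ^ 2 := by
      have : b * a ^ 2 * b⁻¹ = (b * a * b⁻¹) ^ 2 := by rw [conj_pow]
      rw [this, hba', (show Commute z a from (hzcomm a).symm).mul_pow, hab2, one_mul]
    calc b * a ^ 2 = (b * a ^ 2 * b⁻¹) * b := by group
      _ = a ^ 2 * b := by rw [h1]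
  have ha2b2 : a ^ 2 * b ^ 2 = b ^ 2 * a ^ 2 := by
    calc a ^ 2 * b ^ 2 = (a ^ 2 * b) * b := by rw [pow_two b]; group
      _ = (b * a ^ 2) * b := by rw [ha2b]
      _ = b * (a ^ 2 * b) := by group
      _ = b * (b * a ^ 2) := by rw [ha2b]
      _ = b ^ 2 * a ^ 2 := by rw [pow_two b]; group
  set A' : Subgroup G := Subgroup.closure ({a ^ 2, b ^ 2} : Set G) with hA'
  have hgen : ∀ x ∈ ({a ^ 2, b ^ 2} : Set G), ∀ y ∈ ({a ^ 2, b ^ 2} : Set G), x * y = y * x := by
    intro x hx y hy
    simp only [Set.mem_insert_iff, Set.mem_singleton_iff] at hx hy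
    rcases hx with rfl | rfl <;> rcases hy with rfl | rfl
    · rfl
    · exact ha2b2
    · exact ha2b2.symm
    · rfl
  have hA'comm : ∀ x ∈ A', ∀ y ∈ A', x * y = y * x := by
    intro x hx y hy
    have hc : IsMulCommutative A' := Subgroup.isMulCommutative_closure hgen
    exact congrArg (fun c : A' => (c : G)) (hc.is_comm.comm (⟨x, hx⟩ : A') ⟨y, hy⟩)
  have hA'c : IsCyclic A' := cyclic_of_abelian_unique A' (hGp.to_subgroup A') hA'comm z hz
  have ha2A' : Subgroup.zpowers (a ^ 2) ≤ A' := by
    rw [Subgroup.zpowers_le]; exact Subgroup.subset_closure (by simp)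
  have hb2A' : Subgroup.zpowers (b ^ 2) ≤ A' := by
    rw [Subgroup.zpowers_le]; exact Subgroup.subset_closure (by simp)
  rcases le_total_of_cyclic A' hA'c (hGp.to_subgroup A') _ _ ha2A' hb2A' with h | h
  · exact key b a hba' hab' (h (Subgroup.mem_zpowers _))
  · exact key a b hab' hba' (h (Subgroup.mem_zpowers _))

end Cfsg.Agent.S3977
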