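import Cfsg.Statements.S3978
import Mathlib
import Cfsg.Agent.Lib.Helper6_Schur
import Cfsg.Agent.Lib.Helper6_ProjRep
import Cfsg.Agent.Lib.Helper6_ProjRep2

set_option autoImplicit false
open Cfsg

namespace Cfsg.Agent.S3978

open Cfsg.Agent.Lib.Helper6_Schur Cfsg.Agent.Lib.Helper6_ProjRep

theorem isStem_id (Q : Type*) [Group Q] : Cfsg.IsStemExtension (MonoidHom.id Q) := by
  refine ⟨Function.surjective_id, ?_, ?_⟩
  · intro x hx
    have : x = 1 := hx
    rw [this]; exact Subgroup.one_mem _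
  · intro x hx
    have : x = 1 := hx
    rw [this]; exact Subgroup.one_mem _

/-- A finite group `Q` has trivial Schur multiplier if and only if, for every `n`, every homomorphism from `Q` to the projective general linear group (the quotient of `GL n ℂ` by its centre) lifts to a homomorphism into `GL n ℂ`. -/
theorem result {Q : Type*} [Group Q] [Finite Q] : Cfsg.HasCyclicSchurMultiplier Q 1 ↔ ∀ (n : ℕ) (γ : Q →* (GL (Fin n) ℂ ⧸ Subgroup.center (GL (Fin n) ℂ))), ∃ ρ : Q →* GL (Fin n) ℂ, (QuotientGroup.mk' (Subgroup.center (GL (Fin n) ℂ))).comp ρ = γ := by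
  constructor
  · intro h n γ
    obtain ⟨eA⟩ := equiv_MM_of_hasSchurMultiplier h
    have hcard : Nat.card (MM Q) ≤ Nat.card (MonoidHom.id Q).ker := by
      have h1 : Nat.card (MM Q) = 1 := by
        rw [Nat.card_congr eA.toEquiv]
        exact Nat.card_unique
      rw [h1]
      exact Nat.card_pos
    obtain ⟨ρ, hρ⟩ := lift_of_cover (MonoidHom.id Q) (isStem_id Q) hcard n γ
    exact ⟨ρ, by rw [hρ, MonoidHom.comp_id]⟩
  · intro h
    have hlift : ∀ (n : ℕ) (γ : Q →* PGL n), ∃ ρ : Q →* GL (Fin n) ℂ,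
        (pr n).comp ρ = γ.comp (MonoidHom.id Q) := by
      intro n γ
      obtain ⟨ρ, hρ⟩ := h n γ
      exact ⟨ρ, by rw [hρ, MonoidHom.comp_id]⟩
    obtain ⟨ef⟩ := equiv_ker_of_lift (MonoidHom.id Q) (isStem_id Q) hlift
    have hsub : Subsingleton (MM Q) := by
      refine ⟨fun a b => ef.injective ?_⟩
      apply Subtype.ext
      have ha : ((ef a : (MonoidHom.id Q).ker) : Q) = 1 := (ef a).2
      have hb : ((ef b : (MonoidHom.id Q).ker) : Q) = 1 := (ef b).2
      rw [ha, hb]
    refine ⟨⟨Q, inferInstance, inferInstance, MonoidHom.id Q, isStem_id Q, ⟨?_⟩⟩, ?_⟩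
    · exact
        { toFun := fun _ => 1
          invFun := fun _ => 1
          left_inv := fun x => Subtype.ext (x.2 : (x : Q) = 1).symm
          right_inv := fun y => Subsingleton.elim _ _
          map_mul' := fun _ _ => (mul_one _).symm }
    · intro Γ _ _ σ hσ
      obtain ⟨g, hg⟩ := exists_MM_surjective (Q := Q) hσ.1 hσ.2.1 hσ.2.2
      refine ⟨1, fun k => ⟨1, ?_⟩⟩
      obtain ⟨m, rfl⟩ := hg k
      have : m = 1 := Subsingleton.elim _ _
      rw [this, map_one, map_one]

end Cfsg.Agent.S3978
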