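import Cfsg.Statements.S3979
import Mathlib

set_option autoImplicit false
open Cfsg

namespace Cfsg.Agent.S3979

theorem ker_eq_bot_of_cyclic {Γ G : Type*} [Group Γ] [Group G] [IsCyclic G] (σ : Γ →* G)
    (hσ : Cfsg.IsStemExtension σ) : σ.ker = ⊥ := by
  obtain ⟨_, hc, hcomm⟩ := hσ
  have hab : ∀ a b : Γ, a * b = b * a := fun a b =>
    (MonoidHom.isMulCommutative_of_isCyclic_of_ker_le_center σ hc).is_comm.comm a b
  have h1 : commutator Γ = ⊥ := by
    rw [commutator_def, Subgroup.commutator_eq_bot_iff_le_centralizer]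
    intro x _
    rw [Subgroup.mem_centralizer_iff]
    intro y _
    exact hab y x
  rw [h1] at hcomm
  exact le_bot_iff.mp hcomm

/-- A finite cyclic group has trivial Schur multiplier: every finite stem extension of it is an isomorphism, said through `HasCyclicSchurMultiplier G 1`. -/
theorem result {G : Type*} [Group G] [Finite G] [IsCyclic G] : Cfsg.HasCyclicSchurMultiplier G 1 := by
  refine ⟨⟨G, inferInstance, inferInstance, MonoidHom.id G, ⟨Function.surjective_id, ?_, ?_⟩, ?_⟩, ?_⟩
  · rw [MonoidHom.ker_id]; exact bot_le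
  · rw [MonoidHom.ker_id]; exact bot_le
  · have hk : ∀ x : (MonoidHom.id G).ker, x = 1 := by
      rintro ⟨x, hx⟩
      rw [MonoidHom.ker_id, Subgroup.mem_bot] at hx
      exact Subtype.ext hx
    refine ⟨⟨⟨fun _ => 1, fun _ => 1, fun x => (hk x).symm, fun x => Subsingleton.elim _ _⟩, fun _ _ => by simp⟩⟩
  · intro Γ _ _ σ hσ
    have hk := ker_eq_bot_of_cyclic σ hσ
    refine ⟨1, fun x => ⟨1, ?_⟩⟩
    have : (x : Γ) ∈ (⊥ : Subgroup Γ) := hk ▸ x.2
    rw [Subgroup.mem_bot] at this
    exact Subtype.ext (by simpa using this.symm)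

end Cfsg.Agent.S3979
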