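import Cfsg.Statements.S3980
import Mathlib
import Cfsg.Agent.Lib.Helper6_Schur
import Cfsg.Agent.Lib.Helper6_Schur2

set_option autoImplicit false
universe u v w
open Cfsg

namespace Cfsg.Agent.S3980

open Cfsg.Agent.Lib.Helper6_Schur
open scoped commutatorElement

/-- `|Q^ab|`-th powers lie in the commutator subgroup modulo the kernel -/
theorem pow_card_abel_decomp {H : Type*} {Q : Type*} [Group H] [Group Q] (f : H →* Q)
    (hf : Function.Surjective f) (x : H) :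
    ∃ d ∈ commutator H, ∃ k ∈ f.ker, x ^ Nat.card (Abelianization Q) = d * k := by
  have h1 : (f x) ^ Nat.card (Abelianization Q) ∈ commutator Q := by
    rw [← Abelianization.ker_of, MonoidHom.mem_ker, map_pow]
    exact pow_card_eq_one'
  have hmap : commutator Q = (commutator H).map f := by
    rw [commutator_def, commutator_def, Subgroup.map_commutator,
      Subgroup.map_top_of_surjective _ hf]
  rw [hmap] at h1
  obtain ⟨d, hd, hdx⟩ := h1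
  refine ⟨d, hd, d⁻¹ * x ^ Nat.card (Abelianization Q), ?_, by group⟩
  rw [MonoidHom.mem_ker, map_mul, map_inv, hdx, map_pow, inv_mul_cancel]

theorem commutator_pow_eq_one {Δ : Type*} [Group Δ] (D : Subgroup Δ) (y : Δ) (n : ℕ)
    (hc : ∀ x ∈ D, ⁅x, y⁆ ∈ Subgroup.center Δ)
    (hn : ∀ x : D, ∃ d ∈ commutator D, ∃ k : D, (k : Δ) ∈ Subgroup.center Δ ∧ x ^ n = d * k) :
    ∀ x ∈ D, ⁅x, y⁆ ^ n = 1 := by
  let χ : D →* Subgroup.center Δ :=
    { toFun := fun x => ⟨⁅(x : Δ), y⁆, hc x x.2⟩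
      map_one' := by
        apply Subtype.ext
        change ⁅((1 : D) : Δ), y⁆ = 1
        rw [Subgroup.coe_one, commutatorElement_one_left]
      map_mul' := fun a b => by
        apply Subtype.ext
        change ⁅((a * b : D) : Δ), y⁆ = ⁅(a : Δ), y⁆ * ⁅(b : Δ), y⁆
        have hb := Subgroup.mem_center_iff.mp (hc b b.2)
        have h1 : ⁅((a * b : D) : Δ), y⁆ = a * ⁅(b : Δ), y⁆ * (a : Δ)⁻¹ * ⁅(a : Δ), y⁆ := by
          rw [Subgroup.coe_mul]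
          simp only [commutatorElement_def]; group
        rw [h1, hb a, mul_inv_cancel_right]
        exact (hb _).symm }
  have hχ : ∀ x : D, ((χ x : Subgroup.center Δ) : Δ) = ⁅(x : Δ), y⁆ := fun x => rfl
  intro x hx
  obtain ⟨d, hd, k, hk, hxn⟩ := hn ⟨x, hx⟩
  have h1 : χ d = 1 := by
    have hle : commutator D ≤ χ.ker := by
      rw [commutator_def, Subgroup.commutator_le]
      intro a _ b _
      rw [MonoidHom.mem_ker, map_commutatorElement, commutatorElement_eq_one_iff_commute]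
      exact Subtype.ext (Subgroup.mem_center_iff.mp (χ b).2 (χ a).1)
    exact hle hd
  have h2 : χ k = 1 := by
    apply Subtype.ext
    change ⁅(k : Δ), y⁆ = 1
    rw [commutatorElement_eq_one_iff_commute]
    exact (Subgroup.mem_center_iff.mp hk y).symm
  have h3 : χ ⟨x, hx⟩ ^ n = 1 := by rw [← map_pow, hxn, map_mul, h1, h2, one_mul]
  have h4 := congrArg (fun z : Subgroup.center Δ => (z : Δ)) h3
  simp only [Subgroup.coe_pow, Subgroup.coe_one] at h4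
  exact h4

/-- the kernel of a stem extension of a direct product with coprime commutator quotients is
generated by the images of the two multipliers -/
theorem exists_surjective_of_stem {Q₁ : Type u} {Q₂ : Type v} [Group Q₁] [Group Q₂]
    (hcop : Nat.Coprime (Nat.card (Abelianization Q₁)) (Nat.card (Abelianization Q₂)))
    {Δ : Type w} [Group Δ] (τ : Δ →* Q₁ × Q₂) (hτ : Cfsg.IsStemExtension τ) :
    ∃ π : MM Q₁ × MM Q₂ →* τ.ker, Function.Surjective π := by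
  obtain ⟨hτs, hτc, hτst⟩ := hτ
  let τ₁ : Δ →* Q₁ := (MonoidHom.fst Q₁ Q₂).comp τ
  let τ₂ : Δ →* Q₂ := (MonoidHom.snd Q₁ Q₂).comp τ
  let D₁ : Subgroup Δ := τ₂.ker
  let D₂ : Subgroup Δ := τ₁.ker
  have hker : ∀ x, x ∈ τ.ker ↔ τ₁ x = 1 ∧ τ₂ x = 1 := by
    intro x
    rw [MonoidHom.mem_ker, Prod.ext_iff]
    rfl
  let ρ₁ : D₁ →* Q₁ := τ₁.comp D₁.subtype
  let ρ₂ : D₂ →* Q₂ := τ₂.comp D₂.subtype
  have hρ₁s : Function.Surjective ρ₁ := by
    intro q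
    obtain ⟨δ, hδ⟩ := hτs (q, 1)
    refine ⟨⟨δ, ?_⟩, ?_⟩
    · change (τ δ).2 = 1
      rw [hδ]
    · change (τ δ).1 = q
      rw [hδ]
  have hρ₂s : Function.Surjective ρ₂ := by
    intro q
    obtain ⟨δ, hδ⟩ := hτs (1, q)
    refine ⟨⟨δ, ?_⟩, ?_⟩
    · change (τ δ).1 = 1
      rw [hδ]
    · change (τ δ).2 = q
      rw [hδ]
  have hρ₁k : ∀ x : D₁, x ∈ ρ₁.ker ↔ (x : Δ) ∈ τ.ker := by
    intro x
    rw [hker]
    constructor
    · intro h
      exact ⟨h, x.2⟩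
    · intro h
      exact h.1
  have hρ₂k : ∀ x : D₂, x ∈ ρ₂.ker ↔ (x : Δ) ∈ τ.ker := by
    intro x
    rw [hker]
    constructor
    · intro h
      exact ⟨x.2, h⟩
    · intro h
      exact h.2
  have hρ₁c : ρ₁.ker ≤ Subgroup.center D₁ := by
    intro x hx
    have := hτc ((hρ₁k x).mp hx)
    rw [Subgroup.mem_center_iff] at this ⊢
    intro g
    exact Subtype.ext (this g)
  have hρ₂c : ρ₂.ker ≤ Subgroup.center D₂ := by
    intro x hx
    have := hτc ((hρ₂k x).mp hx)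
    rw [Subgroup.mem_center_iff] at this ⊢
    intro g
    exact Subtype.ext (this g)
  -- commutators of `D₁` and `D₂` lie in the kernel
  have hcc : ∀ x ∈ D₁, ∀ y ∈ D₂, ⁅x, y⁆ ∈ τ.ker := by
    intro x hx y hy
    rw [hker]
    constructor
    · rw [map_commutatorElement, (hy : τ₁ y = 1), commutatorElement_one_right]
    · rw [map_commutatorElement, (hx : τ₂ x = 1), commutatorElement_one_left]
  have hpow₁ : ∀ x ∈ D₁, ∀ y ∈ D₂, ⁅x, y⁆ ^ Nat.card (Abelianization Q₁) = 1 := by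
    intro x hx y hy
    refine commutator_pow_eq_one D₁ y _ (fun x hx => hτc (hcc x hx y hy)) ?_ x hx
    intro x
    obtain ⟨d, hd, k, hk, h⟩ := pow_card_abel_decomp ρ₁ hρ₁s x
    exact ⟨d, hd, k, hτc ((hρ₁k k).mp hk), h⟩
  have hpow₂ : ∀ x ∈ D₁, ∀ y ∈ D₂, ⁅x, y⁆ ^ Nat.card (Abelianization Q₂) = 1 := by
    intro x hx y hy
    have h := commutator_pow_eq_one D₂ x (Nat.card (Abelianization Q₂))
      (fun y hy => by
        rw [← commutatorElement_inv]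
        exact (Subgroup.center Δ).inv_mem (hτc (hcc x hx y hy)))
      (fun y => by
        obtain ⟨d, hd, k, hk, h⟩ := pow_card_abel_decomp ρ₂ hρ₂s y
        exact ⟨d, hd, k, hτc ((hρ₂k k).mp hk), h⟩) y hy
    rw [← commutatorElement_inv, inv_pow, inv_eq_one] at h
    exact h
  have hcomm : ∀ x ∈ D₁, ∀ y ∈ D₂, ⁅x, y⁆ = 1 := by
    intro x hx y hy
    have h := pow_gcd_eq_one.mpr ⟨hpow₁ x hx y hy, hpow₂ x hx y hy⟩
    rw [Nat.Coprime] at hcop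
    rw [hcop, pow_one] at h
    exact h
  let μ : D₁ × D₂ →* Δ := MonoidHom.noncommCoprod D₁.subtype D₂.subtype
    (fun x y => commutatorElement_eq_one_iff_commute.mp (hcomm x x.2 y y.2))
  have hμ : ∀ x : D₁, ∀ y : D₂, μ (x, y) = (x : Δ) * (y : Δ) := fun x y => rfl
  have hμs : Function.Surjective μ := by
    intro δ
    obtain ⟨x, hx⟩ := hρ₁s (τ₁ δ)
    have hy : (x : Δ)⁻¹ * δ ∈ D₂ := by
      change τ₁ ((x : Δ)⁻¹ * δ) = 1
      rw [map_mul, map_inv]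
      have : τ₁ (x : Δ) = τ₁ δ := hx
      rw [this, inv_mul_cancel]
    refine ⟨(x, ⟨_, hy⟩), ?_⟩
    rw [hμ]
    group
  have hcommΔ : commutator Δ = ((commutator D₁).prod (commutator D₂)).map μ := by
    have h1 : commutator Δ = (commutator (D₁ × D₂)).map μ := by
      rw [commutator_def, commutator_def, Subgroup.map_commutator,
        Subgroup.map_top_of_surjective _ hμs]
    rw [h1]
    congr 1
    rw [commutator_def, ← Subgroup.top_prod_top, Subgroup.commutator_prod_prod]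
    rfl
  obtain ⟨ψ₁, hψ₁, hmap₁⟩ := exists_map_central ρ₁ hρ₁s hρ₁c
  obtain ⟨ψ₂, hψ₂, hmap₂⟩ := exists_map_central ρ₂ hρ₂s hρ₂c
  have hm₁ : ∀ m : MM Q₁, ((ψ₁ m.1 : D₁) : Δ) ∈ τ.ker := by
    intro m
    have h1 : ψ₁ m.1 ∈ (MM Q₁).map ψ₁ := ⟨m.1, m.2, rfl⟩
    rw [hmap₁] at h1
    exact (hρ₁k _).mp h1.1
  have hm₂ : ∀ m : MM Q₂, ((ψ₂ m.1 : D₂) : Δ) ∈ τ.ker := by
    intro m
    have h1 : ψ₂ m.1 ∈ (MM Q₂).map ψ₂ := ⟨m.1, m.2, rfl⟩
    rw [hmap₂] at h1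
    exact (hρ₂k _).mp h1.1
  let ν : MM Q₁ × MM Q₂ →* Δ :=
    μ.comp (MonoidHom.prodMap (ψ₁.comp (MM Q₁).subtype) (ψ₂.comp (MM Q₂).subtype))
  have hν : ∀ m : MM Q₁ × MM Q₂, ν m = ((ψ₁ m.1.1 : D₁) : Δ) * ((ψ₂ m.2.1 : D₂) : Δ) :=
    fun m => rfl
  refine ⟨ν.codRestrict τ.ker (fun m => by
    rw [hν]
    exact τ.ker.mul_mem (hm₁ m.1) (hm₂ m.2)), ?_⟩
  rintro ⟨k, hk⟩
  have hk' := hτst hk
  rw [hcommΔ] at hk'
  obtain ⟨⟨d₁, d₂⟩, ⟨hd₁, hd₂⟩, hdk⟩ := hk'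
  rw [hμ] at hdk
  have hd₁' : d₁ ∈ commutator D₁ := hd₁
  have hd₂' : d₂ ∈ commutator D₂ := hd₂
  obtain ⟨hk1, hk2⟩ := (hker k).mp hk
  have hd₁k : d₁ ∈ ρ₁.ker := by
    rw [MonoidHom.mem_ker]
    change τ₁ (d₁ : Δ) = 1
    have h2 : τ₁ (d₂ : Δ) = 1 := d₂.2
    have h3 : τ₁ ((d₁ : Δ) * (d₂ : Δ)) = 1 := by rw [hdk]; exact hk1
    rw [map_mul, h2, mul_one] at h3
    exact h3
  have hd₂k : d₂ ∈ ρ₂.ker := by
    rw [MonoidHom.mem_ker]
    change τ₂ (d₂ : Δ) = 1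
    have h2 : τ₂ (d₁ : Δ) = 1 := d₁.2
    have h3 : τ₂ ((d₁ : Δ) * (d₂ : Δ)) = 1 := by rw [hdk]; exact hk2
    rw [map_mul, h2, one_mul] at h3
    exact h3
  have h1 : d₁ ∈ (MM Q₁).map ψ₁ := by rw [hmap₁]; exact ⟨hd₁k, hd₁'⟩
  have h2 : d₂ ∈ (MM Q₂).map ψ₂ := by rw [hmap₂]; exact ⟨hd₂k, hd₂'⟩
  obtain ⟨m₁, hm₁', rfl⟩ := h1
  obtain ⟨m₂, hm₂', rfl⟩ := h2
  refine ⟨(⟨m₁, hm₁'⟩, ⟨m₂, hm₂'⟩), Subtype.ext ?_⟩
  change ν (⟨m₁, hm₁'⟩, ⟨m₂, hm₂'⟩) = k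
  rw [hν]
  exact hdk

/-- the product of two stem extensions -/
theorem isStem_prodMap {Γ₁ : Type*} {Γ₂ : Type*} {Q₁ : Type*} {Q₂ : Type*} [Group Γ₁] [Group Γ₂]
    [Group Q₁] [Group Q₂] (σ₁ : Γ₁ →* Q₁) (σ₂ : Γ₂ →* Q₂) (h₁ : Cfsg.IsStemExtension σ₁)
    (h₂ : Cfsg.IsStemExtension σ₂) : Cfsg.IsStemExtension (MonoidHom.prodMap σ₁ σ₂) := by
  refine ⟨Function.Surjective.prodMap h₁.1 h₂.1, ?_, ?_⟩
  · rw [MonoidHom.ker_prodMap, Subgroup.center_prod]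
    exact Subgroup.prod_mono h₁.2.1 h₂.2.1
  · rw [MonoidHom.ker_prodMap]
    have : commutator (Γ₁ × Γ₂) = (commutator Γ₁).prod (commutator Γ₂) := by
      rw [commutator_def, ← Subgroup.top_prod_top, Subgroup.commutator_prod_prod]
      rfl
    rw [this]
    exact Subgroup.prod_mono h₁.2.2 h₂.2.2

/-- Let `Q₁` and `Q₂` be finite groups whose commutator quotients have coprime orders, with Schur multipliers `A` and `B`. Then the Schur multiplier of `Q₁ × Q₂` is isomorphic to `A × B`. -/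
theorem result {Q₁ : Type u} {Q₂ : Type v} [Group Q₁] [Group Q₂] [Finite Q₁] [Finite Q₂] {A B : Type w} [CommGroup A] [CommGroup B] (hA : Cfsg.HasSchurMultiplier Q₁ A) (hB : Cfsg.HasSchurMultiplier Q₂ B) (hcop : Nat.Coprime (Nat.card (Abelianization Q₁)) (Nat.card (Abelianization Q₂))) : Cfsg.HasSchurMultiplier (Q₁ × Q₂) (A × B) := by
  obtain ⟨eA⟩ := equiv_MM_of_hasSchurMultiplier hA
  obtain ⟨eB⟩ := equiv_MM_of_hasSchurMultiplier hB
  refine ⟨?_, ?_⟩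
  · obtain ⟨⟨Γ₁, _, _, σ₁, hσ₁, ⟨e₁⟩⟩, -⟩ := hA
    obtain ⟨⟨Γ₂, _, _, σ₂, hσ₂, ⟨e₂⟩⟩, -⟩ := hB
    refine ⟨Γ₁ × Γ₂, inferInstance, inferInstance, MonoidHom.prodMap σ₁ σ₂,
      isStem_prodMap σ₁ σ₂ hσ₁ hσ₂, ⟨?_⟩⟩
    exact ((MulEquiv.subgroupCongr (MonoidHom.ker_prodMap σ₁ σ₂)).trans
      (Subgroup.prodEquiv σ₁.ker σ₂.ker)).trans (MulEquiv.prodCongr e₁ e₂)
  · intro Δ _ _ τ hτ
    obtain ⟨π, hπ⟩ := exists_surjective_of_stem hcop τ hτ
    refine ⟨π.comp (MulEquiv.prodCongr eA.symm eB.symm).toMonoidHom, ?_⟩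
    exact hπ.comp (MulEquiv.prodCongr eA.symm eB.symm).surjective

end Cfsg.Agent.S3980
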