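import Cfsg.Statements.S3981
import Mathlib

set_option autoImplicit false
open Cfsg

namespace Cfsg.Agent.S3981

/-- An endomorphism `σ` of order two of a nontrivial finite `p`-group (`p` odd) centralizes or
inverts some element of order `p`. -/
theorem exists_fixed_or_inverted {T : Type*} [Group T] [Finite T] [Nontrivial T] (p : ℕ)
    [Fact p.Prime] (hp2 : p ≠ 2) (hT : IsPGroup p T) (σ : T →* T) (h2 : ∀ t, σ (σ t) = t) :
    ∃ a : T, a ≠ 1 ∧ a ^ p = 1 ∧ (σ a = a ∨ σ a = a⁻¹) := by
  have hp : p.Prime := Fact.out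
  have hZnt : Nontrivial (Subgroup.center T) := hT.center_nontrivial
  have hZp : IsPGroup p (Subgroup.center T) := hT.to_subgroup _
  obtain ⟨k, hk0, hk⟩ := (hZp.nontrivial_iff_card).mp hZnt
  have hdvd : p ∣ Nat.card (Subgroup.center T) := by rw [hk]; exact dvd_pow_self p hk0.ne'
  obtain ⟨z, hz⟩ := exists_prime_orderOf_dvd_card' p hdvd
  have hz' : orderOf (z : T) = p := by rw [Subgroup.orderOf_coe]; exact hz
  have hzc : ∀ t : T, t * (z : T) = (z : T) * t := fun t => Subgroup.mem_center_iff.mp z.2 t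
  have hσzc : ∀ t : T, t * σ (z : T) = σ (z : T) * t := by
    intro t
    have h1 : t = σ (σ t) := (h2 t).symm
    rw [h1, ← map_mul, ← map_mul, hzc]
  have hzp : (z : T) ^ p = 1 := by rw [← hz']; exact pow_orderOf_eq_one _
  have hσzp : (σ (z : T)) ^ p = 1 := by rw [← map_pow, hzp, map_one]
  have hcomm : Commute (z : T) (σ (z : T)) := (hσzc (z : T))
  by_cases ha : (z : T) * σ (z : T) = 1
  · by_cases hb : (z : T) * (σ (z : T))⁻¹ = 1
    · exfalso
      have h1 : σ (z : T) = (z : T)⁻¹ := (inv_eq_of_mul_eq_one_right ha).symm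
      have h3 : σ (z : T) = (z : T) := by
        have := mul_inv_eq_one.mp hb
        exact this.symm
      have h4 : (z : T) ^ 2 = 1 := by
        rw [pow_two]
        nth_rewrite 1 [← h3]
        rw [h1]; exact inv_mul_cancel _
      have h5 : p ∣ 2 := by rw [← hz']; exact orderOf_dvd_of_pow_eq_one h4
      exact hp2 ((Nat.prime_dvd_prime_iff_eq hp Nat.prime_two).mp h5)
    · refine ⟨(z : T) * (σ (z : T))⁻¹, hb, ?_, Or.inr ?_⟩
      · rw [(hcomm.inv_right).mul_pow, hzp, inv_pow, hσzp]; simp
      · rw [map_mul, map_inv, h2, mul_inv_rev, inv_inv]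
  · refine ⟨(z : T) * σ (z : T), ha, ?_, Or.inl ?_⟩
    · rw [hcomm.mul_pow, hzp, hσzp, one_mul]
    · rw [map_mul, h2]; exact hcomm.eq.symm

/-- Let p be an odd prime, Q a p-subgroup of the finite group G and y an involution normalizing Q. Then Q is maximal among the p-subgroups of G normalized by y if and only if the image of y in N_G(Q) ⧸ Q neither inverts nor centralizes any element of order p there; the latter is phrased inside N_G(Q): for every x in N_G(Q) outside Q with x ^ p ∈ Q, neither y x y⁻¹ x nor y x y⁻¹ x⁻¹ lies in Q. -/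
theorem result {G : Type*} [Group G] [Finite G] (p : ℕ) [Fact p.Prime] (hp2 : p ≠ 2) (Q : Subgroup G) (hQ : IsPGroup p ↥Q) (y : G) (hy : orderOf y = 2) (hyQ : y ∈ Subgroup.normalizer (Q : Set G)) : (∀ R : Subgroup G, IsPGroup p ↥R → Q ≤ R → y ∈ Subgroup.normalizer (R : Set G) → R = Q) ↔ ∀ x : G, x ∈ Subgroup.normalizer (Q : Set G) → x ∉ Q → x ^ p ∈ Q → (y * x * y⁻¹ * x ∉ Q ∧ y * x * y⁻¹ * x⁻¹ ∉ Q) := by
  have hp : p.Prime := Fact.out
  have hy2 : y * y = 1 := by rw [← pow_two, ← hy]; exact pow_orderOf_eq_one y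
  have hyinv : y⁻¹ = y := inv_eq_of_mul_eq_one_left hy2
  constructor
  · -- maximal ⇒ condition
    intro hmax x hxN hxQ hxp
    -- R = Q ⟨x⟩
    have key : ∀ c : G, c ∈ Q → (y * x * y⁻¹ = c * x ∨ y * x * y⁻¹ = c * x⁻¹) → False := by
      intro c hc hcase
      have hzp : IsPGroup p (Subgroup.zpowers x) := by
        obtain ⟨k, hk⟩ := hQ ⟨x ^ p, hxp⟩
        have hk' : (x ^ p) ^ (p ^ k) = 1 := by simpa using congrArg Subtype.val hk
        rintro ⟨z, hz⟩
        obtain ⟨i, rfl⟩ := Subgroup.mem_zpowers_iff.mp hz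
        refine ⟨k + 1, ?_⟩
        apply Subtype.ext
        show (x ^ i) ^ (p ^ (k + 1)) = 1
        rw [← zpow_natCast, ← zpow_mul, mul_comm, zpow_mul, zpow_natCast, pow_succ', pow_mul, hk',
          one_zpow]
      have hsup := IsPGroup.to_sup_of_normal_right' hzp hQ (Subgroup.zpowers_le.mpr hxN)
      set R := Subgroup.zpowers x ⊔ Q with hR
      have hQR : Q ≤ R := le_sup_right
      have hxR : x ∈ R := (le_sup_left : Subgroup.zpowers x ≤ R) (Subgroup.mem_zpowers x)
      have hyR : y ∈ Subgroup.normalizer (R : Set G) := by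
        apply Subgroup.mem_normalizer_fintype
        have hle : R ≤ R.comap (MulAut.conj y).toMonoidHom := by
          rw [hR]
          apply sup_le
          · rw [Subgroup.zpowers_le, Subgroup.mem_comap]
            show y * x * y⁻¹ ∈ _
            rcases hcase with h | h
            · rw [h]; exact Subgroup.mul_mem _ (hQR hc) hxR
            · rw [h]; exact Subgroup.mul_mem _ (hQR hc) (Subgroup.inv_mem _ hxR)
          · intro q hq
            rw [Subgroup.mem_comap]
            show y * q * y⁻¹ ∈ _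
            exact hQR ((Subgroup.mem_normalizer_iff.mp hyQ q).mp hq)
        intro r hr
        exact hle hr
      have := hmax R hsup hQR hyR
      rw [this] at hxR
      exact hxQ hxR
    constructor
    · intro h
      apply key (y * x * y⁻¹ * x) h
      right; group
    · intro h
      apply key (y * x * y⁻¹ * x⁻¹) h
      left; group
  · -- condition ⇒ maximal
    intro hcond R hR hQR hyR
    by_contra hne
    -- normalizer grows
    have hRfin : Finite R := inferInstance
    have hnil : Group.IsNilpotent R := hR.isNilpotent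
    have hlt : Q.subgroupOf R < ⊤ := by
      rw [lt_top_iff_ne_top]
      intro h
      apply hne
      apply le_antisymm _ hQR
      intro r hr
      have : (⟨r, hr⟩ : R) ∈ Q.subgroupOf R := by rw [h]; exact Subgroup.mem_top _
      exact Subgroup.mem_subgroupOf.mp this
    have hgrow := Group.normalizerCondition_of_isNilpotent (G := R) (Q.subgroupOf R) hlt
    obtain ⟨r, hrN, hrQ⟩ := SetLike.exists_of_lt hgrow
    set T : Subgroup G := R ⊓ Subgroup.normalizer (Q : Set G) with hT
    have hQT : Q ≤ T := le_inf hQR Subgroup.le_normalizer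
    have hrT : (r : G) ∈ T := by
      rw [hT, Subgroup.mem_inf]
      refine ⟨r.2, ?_⟩
      apply Subgroup.mem_normalizer_fintype
      intro q hq
      have := (Subgroup.mem_normalizer_iff.mp hrN ⟨q, hQR hq⟩).mp
        (by rw [Subgroup.mem_subgroupOf]; exact hq)
      rw [Subgroup.mem_subgroupOf] at this
      simpa using this
    have hrQ' : (r : G) ∉ Q := fun h => hrQ (Subgroup.mem_subgroupOf.mpr h)
    have hQTn : (Q.subgroupOf T).Normal := by
      rw [Subgroup.normal_subgroupOf_iff_le_normalizer hQT]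
      exact inf_le_right
    have hTp : IsPGroup p T := hR.to_le inf_le_left
    -- y normalizes T
    have hyT : ∀ t ∈ T, y * t * y⁻¹ ∈ T := by
      intro t ht
      rw [hT, Subgroup.mem_inf] at ht ⊢
      refine ⟨(Subgroup.mem_normalizer_iff.mp hyR t).mp ht.1, ?_⟩
      exact Subgroup.mul_mem _ (Subgroup.mul_mem _ hyQ ht.2) (Subgroup.inv_mem _ hyQ)
    let σT : T →* T := MonoidHom.mk' (fun t => ⟨y * (t : G) * y⁻¹, hyT t t.2⟩) (by
      intro a b
      apply Subtype.ext
      show y * ((a : G) * (b : G)) * y⁻¹ = (y * (a : G) * y⁻¹) * (y * (b : G) * y⁻¹)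
      group)
    have hσT : ∀ t : T, ((σT t : T) : G) = y * (t : G) * y⁻¹ := fun t => rfl
    have hle : Q.subgroupOf T ≤ (Q.subgroupOf T).comap σT := by
      intro t ht
      rw [Subgroup.mem_comap, Subgroup.mem_subgroupOf, hσT]
      exact (Subgroup.mem_normalizer_iff.mp hyQ _).mp (Subgroup.mem_subgroupOf.mp ht)
    let σbar : (↥T ⧸ Q.subgroupOf T) →* (↥T ⧸ Q.subgroupOf T) :=
      QuotientGroup.map (Q.subgroupOf T) (Q.subgroupOf T) σT hle
    have hσbar : ∀ t : T, σbar (t : ↥T ⧸ Q.subgroupOf T) = ((σT t : T) : ↥T ⧸ Q.subgroupOf T) :=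
      fun t => rfl
    have h2 : ∀ q, σbar (σbar q) = q := by
      intro q
      induction q using QuotientGroup.induction_on with
      | H t =>
        rw [hσbar, hσbar]
        congr 1
        apply Subtype.ext
        rw [hσT, hσT, hyinv]
        have : y * (y * (t : G) * y) * y = (y * y) * (t : G) * (y * y) := by group
        rw [this, hy2]; simp
    have hnt : Nontrivial (↥T ⧸ Q.subgroupOf T) := by
      refine ⟨⟨((⟨(r : G), hrT⟩ : T) : ↥T ⧸ Q.subgroupOf T), 1, ?_⟩⟩
      intro h
      rw [QuotientGroup.eq_one_iff, Subgroup.mem_subgroupOf] at h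
      exact hrQ' h
    have hTbar : IsPGroup p (↥T ⧸ Q.subgroupOf T) := hTp.to_quotient _
    obtain ⟨a, ha1, hap, hacase⟩ := exists_fixed_or_inverted p hp2 hTbar σbar h2
    obtain ⟨x, rfl⟩ := QuotientGroup.mk_surjective a
    have hxN : (x : G) ∈ Subgroup.normalizer (Q : Set G) := by
      have h0 : (x : G) ∈ R ⊓ Subgroup.normalizer (Q : Set G) := x.2
      exact (Subgroup.mem_inf.mp h0).2
    have hxQ : (x : G) ∉ Q := by
      intro h
      apply ha1
      rw [QuotientGroup.eq_one_iff, Subgroup.mem_subgroupOf]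
      exact h
    have hxp : (x : G) ^ p ∈ Q := by
      rw [← QuotientGroup.mk_pow, QuotientGroup.eq_one_iff, Subgroup.mem_subgroupOf] at hap
      simpa using hap
    obtain ⟨hc1, hc2⟩ := hcond (x : G) hxN hxQ hxp
    rcases hacase with h | h
    · -- centralized
      apply hc2
      rw [hσbar] at h
      have h3 : ((σT x * x⁻¹ : T) : ↥T ⧸ Q.subgroupOf T) = 1 := by
        rw [QuotientGroup.mk_mul, QuotientGroup.mk_inv, h, mul_inv_cancel]
      rw [QuotientGroup.eq_one_iff, Subgroup.mem_subgroupOf] at h3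
      simpa [hσT] using h3
    · -- inverted
      apply hc1
      rw [hσbar] at h
      have h3 : ((σT x * x : T) : ↥T ⧸ Q.subgroupOf T) = 1 := by
        rw [QuotientGroup.mk_mul, h, inv_mul_cancel]
      rw [QuotientGroup.eq_one_iff, Subgroup.mem_subgroupOf] at h3
      simpa [hσT] using h3

end Cfsg.Agent.S3981
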