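import Cfsg.Statements.S3982
import Mathlib
import Cfsg.Agent.Lib.Helper6_Fpf
import Cfsg.Agent.Lib.Helper6_ConjAct
import Cfsg.Agent.S4060

set_option autoImplicit false
open Cfsg

namespace Cfsg.Agent.S3982

open Cfsg.Agent.Lib.Helper6_Fpf Cfsg.Agent.Lib.Helper6_ConjAct

/-- the order of an element of a `p`-subgroup is a power of `p` -/
theorem orderOf_eq_pow {G : Type*} [Group G] {p : ℕ} [Fact p.Prime] (S : Subgroup G)
    (hS : IsPGroup p S) (s : G) (hs : s ∈ S) : ∃ k : ℕ, orderOf s = p ^ k := by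
  obtain ⟨k, hk⟩ := hS ⟨s, hs⟩
  have hk' : s ^ (p ^ k) = 1 := by simpa using congrArg Subtype.val hk
  obtain ⟨j, -, hj⟩ := (Nat.dvd_prime_pow Fact.out).mp (orderOf_dvd_of_pow_eq_one hk')
  exact ⟨j, hj⟩

/-- under the hypothesis on centralizers, an involution inverts every `p`-subgroup it
normalizes -/
theorem inverts {G : Type*} [Group G] [Finite G] (p : ℕ) [Fact p.Prime]
    (hC : ∀ g : G, g ≠ 1 → (∃ k : ℕ, orderOf g = p ^ k) →
      Odd (Nat.card ↥(Subgroup.centralizer ({g} : Set G))))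
    (y : G) (hy : orderOf y = 2) (S : Subgroup G) (hS : IsPGroup p S)
    (hyS : y ∈ Subgroup.normalizer (S : Set G)) : ∀ s ∈ S, y * s * y⁻¹ = s⁻¹ := by
  have hy2 : y * y = 1 := by rw [← pow_two, ← hy]; exact pow_orderOf_eq_one y
  have hyinv : y⁻¹ = y := inv_eq_of_mul_eq_one_left hy2
  let σ : S →* S := MonoidHom.mk' (fun s => ⟨y * (s : G) * y⁻¹,
      (Subgroup.mem_normalizer_iff.mp hyS s).mp s.2⟩) (by
    intro a b
    apply Subtype.ext
    show y * ((a : G) * (b : G)) * y⁻¹ = (y * (a : G) * y⁻¹) * (y * (b : G) * y⁻¹)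
    group)
  have hσ : ∀ s : S, ((σ s : S) : G) = y * (s : G) * y⁻¹ := fun s => rfl
  have h2 : ∀ s, σ (σ s) = s := by
    intro s
    apply Subtype.ext
    rw [hσ, hσ, hyinv]
    have : y * (y * (s : G) * y) * y = (y * y) * (s : G) * (y * y) := by group
    rw [this, hy2]; simp
  have hfix : ∀ s, σ s = s → s = 1 := by
    intro s hs
    by_contra hne
    have hs' : y * (s : G) * y⁻¹ = (s : G) := by rw [← hσ, hs]
    have hne' : (s : G) ≠ 1 := fun h => hne (Subtype.ext h)
    have hodd := hC (s : G) hne' (orderOf_eq_pow S hS _ s.2)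
    have hyc : y ∈ Subgroup.centralizer ({(s : G)} : Set G) := by
      rw [Subgroup.mem_centralizer_iff]
      intro z hz
      rw [Set.mem_singleton_iff] at hz
      subst hz
      have : y * (s : G) = (y * (s : G) * y⁻¹) * y := by group
      rw [this, hs']
    have hd : 2 ∣ Nat.card ↥(Subgroup.centralizer ({(s : G)} : Set G)) := by
      rw [← hy]; exact Subgroup.orderOf_dvd_natCard _ hyc
    rw [← even_iff_two_dvd, ← Nat.not_odd_iff_even] at hd
    exact hd hodd
  obtain ⟨hinv, -, -⟩ := fpf_involution σ h2 hfix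
  intro s hs
  have := congrArg Subtype.val (hinv ⟨s, hs⟩)
  simpa [hσ] using this

/-- if `y` inverts `s` then `y` normalizes `C_G(s)` -/
theorem mem_normalizer_centralizer {G : Type*} [Group G] [Finite G] (y s : G)
    (hy2 : y * y = 1) (hys : y * s * y⁻¹ = s⁻¹) :
    y ∈ Subgroup.normalizer ((Subgroup.centralizer ({s} : Set G) : Subgroup G) : Set G) := by
  have hyinv : y⁻¹ = y := inv_eq_of_mul_eq_one_left hy2
  apply Subgroup.mem_normalizer_fintype
  intro c hc
  have hc' : s * c = c * s := by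
    have := Subgroup.mem_centralizer_iff.mp hc s rfl
    exact this
  show y * c * y⁻¹ ∈ Subgroup.centralizer ({s} : Set G)
  rw [Subgroup.mem_centralizer_iff]
  intro z hz
  rw [Set.mem_singleton_iff] at hz
  subst hz
  -- z = y z⁻¹ y⁻¹
  have hz : z = y * z⁻¹ * y⁻¹ := by
    have : y * z⁻¹ * y⁻¹ = (y * z * y⁻¹)⁻¹ := by group
    rw [this, hys, inv_inv]
  have hc'' : z⁻¹ * c = c * z⁻¹ := by
    have : z⁻¹ * c = z⁻¹ * (c * z) * z⁻¹ := by group
    rw [this, ← hc']; group
  calc z * (y * c * y⁻¹) = (y * z⁻¹ * y⁻¹) * (y * c * y⁻¹) := by rw [← hz]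
    _ = y * (z⁻¹ * c) * y⁻¹ := by group
    _ = y * (c * z⁻¹) * y⁻¹ := by rw [hc'']
    _ = (y * c * y⁻¹) * (y * z⁻¹ * y⁻¹) := by group
    _ = (y * c * y⁻¹) * z := by rw [← hz]

/-- a `p`-element of `C` normalizing (the image of) a Sylow `p`-subgroup of `C` lies in it -/
theorem mem_of_sylow_sub {G : Type*} [Group G] {p : ℕ} [Fact p.Prime] (C : Subgroup G)
    (S : Sylow p C) (c : G) (hc : c ∈ C) (k : ℕ) (hk : c ^ (p ^ k) = 1)
    (hn : ∀ s ∈ (S : Subgroup C).map C.subtype, c * s * c⁻¹ ∈ (S : Subgroup C).map C.subtype) :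
    c ∈ (S : Subgroup C).map C.subtype := by
  have h1 : (⟨c, hc⟩ : C) ∈ Subgroup.normalizer ((S : Subgroup C) : Set C) := by
    rw [Subgroup.mem_normalizer_iff]
    intro s
    constructor
    · intro hs
      obtain ⟨t, ht, hte⟩ := hn (s : G) ⟨s, hs, rfl⟩
      have : t = ⟨c, hc⟩ * s * (⟨c, hc⟩ : C)⁻¹ := by
        apply Subtype.ext
        simpa using hte
      rw [← this]; exact ht
    · intro hs
      -- conjugate back by c⁻¹ : use finiteness-free argument via c ^ (p ^ k) = 1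
      -- c⁻¹ = c ^ (p ^ k - 1)
      have hpow : ∀ j : ℕ, ∀ t ∈ (S : Subgroup C).map C.subtype,
          c ^ j * t * (c ^ j)⁻¹ ∈ (S : Subgroup C).map C.subtype := by
        intro j
        induction j with
        | zero => intro t ht; simpa using ht
        | succ j ih =>
          intro t ht
          have : c ^ (j + 1) * t * (c ^ (j + 1))⁻¹ = c * (c ^ j * t * (c ^ j)⁻¹) * c⁻¹ := by
            rw [pow_succ']; group
          rw [this]
          exact hn _ (ih t ht)
      have hpos : 0 < p ^ k := pow_pos (Nat.Prime.pos Fact.out) k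
      have hcinv : c ^ (p ^ k - 1) = c⁻¹ := by
        rw [eq_inv_iff_mul_eq_one, ← pow_succ, Nat.sub_add_cancel hpos, hk]
      have h2 := hpow (p ^ k - 1) ((⟨c, hc⟩ * s * (⟨c, hc⟩ : C)⁻¹ : C) : G) ⟨_, hs, rfl⟩
      rw [hcinv] at h2
      obtain ⟨t, ht, hte⟩ := h2
      have : t = s := by
        apply Subtype.ext
        have hte' : (t : G) = c⁻¹ * (c * (s : G) * c⁻¹) * c⁻¹⁻¹ := by simpa using hte
        rw [hte']
        group
      rw [← this]; exact ht
  have h2 : (⟨c, hc⟩ : C) ^ (p ^ k) = 1 := by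
    apply Subtype.ext
    simpa using hk
  have := Cfsg.Agent.S4060.mem_sylow_of_mem_normalizer S ⟨c, hc⟩ h1 k h2
  exact ⟨⟨c, hc⟩, this, rfl⟩

/-- Let p be an odd prime and G a finite group of even order divisible by p in which the centralizer of every non-identity p-element has odd order. If some nontrivial p-subgroup of G has a normalizer of even order, then the normalizer of every Sylow p-subgroup of G has even order. -/
theorem result {G : Type*} [Group G] [Finite G] (p : ℕ) [Fact p.Prime] (hp2 : p ≠ 2) (hpG : p ∣ Nat.card G) (h2G : 2 ∣ Nat.card G) (hC : ∀ g : G, g ≠ 1 → (∃ k : ℕ, orderOf g = p ^ k) → Odd (Nat.card ↥(Subgroup.centralizer ({g} : Set G)))) (Q : Subgroup G) (hQ : IsPGroup p ↥Q) (hQ1 : Q ≠ ⊥) (hev : Even (Nat.card ↥(Subgroup.normalizer (Q : Set G)))) (P : Sylow p G) : Even (Nat.card ↥(Subgroup.normalizer ((P : Subgroup G) : Set G))) := by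
  have hp : p.Prime := Fact.out
  have : Fact (Nat.Prime 2) := ⟨Nat.prime_two⟩
  -- the involution
  obtain ⟨y', hy'⟩ := exists_prime_orderOf_dvd_card' 2 (even_iff_two_dvd.mp hev)
  set y : G := (y' : G) with hydef
  have hy : orderOf y = 2 := by rw [hydef, Subgroup.orderOf_coe]; exact hy'
  have hyQ : y ∈ Subgroup.normalizer (Q : Set G) := y'.2
  have hy2 : y * y = 1 := by rw [← pow_two, ← hy]; exact pow_orderOf_eq_one y
  have hK2 : IsPGroup 2 (Subgroup.zpowers y) := by
    rintro ⟨z, hz⟩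
    obtain ⟨i, rfl⟩ := Subgroup.mem_zpowers_iff.mp hz
    refine ⟨1, ?_⟩
    apply Subtype.ext
    show (y ^ i) ^ (2 ^ 1) = 1
    rw [pow_one, ← zpow_natCast, ← zpow_mul, mul_comm, zpow_mul, zpow_natCast, pow_two, hy2,
      one_zpow]
  -- step: from an inverted nontrivial p-element s, get a y-invariant Sylow of C_G(s)
  have step : ∀ s : G, s ≠ 1 → (∃ k : ℕ, orderOf s = p ^ k) → y * s * y⁻¹ = s⁻¹ →
      ∃ S : Sylow p ↥(Subgroup.centralizer ({s} : Set G)),
        y ∈ Subgroup.normalizer ((((S : Subgroup _).map (Subgroup.centralizer ({s} : Set G)).subtype : Subgroup G)) : Set G) := by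
    intro s hs1 hsp hys
    have hodd := hC s hs1 hsp
    have hn := mem_normalizer_centralizer y s hy2 hys
    have hnd : ¬ 2 ∣ Nat.card ↥(Subgroup.centralizer ({s} : Set G)) := by
      rw [← even_iff_two_dvd, Nat.not_even_iff_odd]; exact hodd
    obtain ⟨S, hS⟩ := exists_invariant_sylow p 2 (Subgroup.zpowers y) _
      (Subgroup.zpowers_le.mpr hn) hK2 hnd
    exact ⟨S, hS (Subgroup.mem_zpowers y)⟩
  -- first application with q ∈ Q
  obtain ⟨q, hqQ, hq1⟩ : ∃ q ∈ Q, q ≠ 1 := by
    by_contra h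
    push Not at h
    exact hQ1 ((Subgroup.eq_bot_iff_forall Q).mpr h)
  have hyq := inverts p hC y hy Q hQ hyQ q hqQ
  obtain ⟨S, hyT⟩ := step q hq1 (orderOf_eq_pow Q hQ q hqQ) hyq
  set T : Subgroup G := (S : Subgroup _).map (Subgroup.centralizer ({q} : Set G)).subtype with hT
  have hTp : IsPGroup p T := S.isPGroup'.map _
  have hTC : T ≤ Subgroup.centralizer ({q} : Set G) := Subgroup.map_subtype_le _
  -- q ∈ T
  have hqT : q ∈ T := by
    obtain ⟨k, hk⟩ := orderOf_eq_pow Q hQ q hqQ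
    apply mem_of_sylow_sub _ S q (by rw [Subgroup.mem_centralizer_iff]; intro z hz; rw [Set.mem_singleton_iff] at hz; rw [hz]) k
      (by rw [← hk]; exact pow_orderOf_eq_one q)
    intro t ht
    have htc := Subgroup.mem_centralizer_iff.mp (hTC ht) q rfl
    have : q * t * q⁻¹ = t := by rw [htc]; group
    rw [this]; exact ht
  -- Sylow of G above T
  obtain ⟨P₀, hTP₀⟩ := hTp.exists_le_sylow
  have hP₀nt : Nontrivial (P₀ : Subgroup G) := ⟨⟨⟨q, hTP₀ hqT⟩, 1, fun h => hq1 (congrArg Subtype.val h)⟩⟩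
  have hZnt : Nontrivial (Subgroup.center (P₀ : Subgroup G)) := P₀.isPGroup'.center_nontrivial
  obtain ⟨z', hz'⟩ := exists_ne (1 : Subgroup.center (P₀ : Subgroup G))
  set z : G := ((z' : (P₀ : Subgroup G)) : G) with hz
  have hzP₀ : z ∈ (P₀ : Subgroup G) := (z' : (P₀ : Subgroup G)).2
  have hz1 : z ≠ 1 := by
    intro h
    apply hz'
    apply Subtype.ext
    apply Subtype.ext
    exact h
  have hzc : ∀ t ∈ (P₀ : Subgroup G), t * z = z * t := by
    intro t ht
    have := Subgroup.mem_center_iff.mp z'.2 ⟨t, ht⟩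
    exact congrArg Subtype.val this
  have hzp := orderOf_eq_pow (P₀ : Subgroup G) P₀.isPGroup' z hzP₀
  -- z ∈ T
  have hzT : z ∈ T := by
    obtain ⟨k, hk⟩ := hzp
    apply mem_of_sylow_sub _ S z (by
      rw [Subgroup.mem_centralizer_iff]
      intro w hw
      rw [Set.mem_singleton_iff] at hw
      rw [hw]
      exact hzc q (hTP₀ hqT)) k (by rw [← hk]; exact pow_orderOf_eq_one z)
    intro t ht
    have := hzc t (hTP₀ ht)
    have e : z * t * z⁻¹ = t := by rw [← this]; group
    rw [e]; exact ht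
  -- y inverts z
  have hyz := inverts p hC y hy T hTp hyT z hzT
  obtain ⟨S', hyT'⟩ := step z hz1 hzp hyz
  set T' : Subgroup G := (S' : Subgroup _).map (Subgroup.centralizer ({z} : Set G)).subtype with hT'
  have hT'p : IsPGroup p T' := S'.isPGroup'.map _
  -- P₀ ≤ Cz
  have hP₀C : (P₀ : Subgroup G) ≤ Subgroup.centralizer ({z} : Set G) := by
    intro t ht
    rw [Subgroup.mem_centralizer_iff]
    intro w hw
    rw [Set.mem_singleton_iff] at hw
    rw [hw]
    exact (hzc t ht).symm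
  -- |P₀| ≤ |T'|
  have hcard1 : Nat.card (P₀ : Subgroup G) ≤ Nat.card T' := by
    have hp' : IsPGroup p ((P₀ : Subgroup G).subgroupOf (Subgroup.centralizer ({z} : Set G))) := P₀.isPGroup'.comap_subtype
    obtain ⟨S'', hS''⟩ := hp'.exists_le_sylow
    have h1 : Nat.card ((P₀ : Subgroup G).subgroupOf (Subgroup.centralizer ({z} : Set G))) ≤ Nat.card (S'' : Subgroup _) :=
      Nat.le_of_dvd Nat.card_pos (Subgroup.card_dvd_of_le hS'')
    rw [Nat.card_congr (Subgroup.subgroupOfEquivOfLe hP₀C).toEquiv] at h1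
    have h2 : Nat.card (S'' : Subgroup (Subgroup.centralizer ({z} : Set G))) = Nat.card (S' : Subgroup (Subgroup.centralizer ({z} : Set G))) := by
      rw [Sylow.card_eq_multiplicity, Sylow.card_eq_multiplicity]
    rw [hT', Subgroup.card_map_of_injective (Subgroup.subtype_injective _), ← h2]
    exact h1
  obtain ⟨P₁, hT'P₁⟩ := hT'p.exists_le_sylow
  have hcard2 : Nat.card (P₁ : Subgroup G) = Nat.card (P₀ : Subgroup G) := by
    rw [Sylow.card_eq_multiplicity, Sylow.card_eq_multiplicity]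
  have hT'eq : T' = (P₁ : Subgroup G) := by
    apply Subgroup.eq_of_le_of_card_ge hT'P₁
    rw [hcard2]; exact hcard1
  rw [hT'eq] at hyT'
  -- transfer to P
  obtain ⟨g, hg⟩ := MulAction.exists_smul_eq G P₁ P
  have hyP₁ : y • P₁ = P₁ := Sylow.smul_eq_iff_mem_normalizer.mpr hyT'
  have hgy : (g * y * g⁻¹) • P = P := by
    rw [← hg, ← mul_smul, inv_mul_cancel_right, mul_smul, hyP₁]
  have hmem : g * y * g⁻¹ ∈ Subgroup.normalizer ((P : Subgroup G) : Set G) :=
    Sylow.smul_eq_iff_mem_normalizer.mp hgy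
  have hord : orderOf (g * y * g⁻¹) = 2 := by
    have : g * y * g⁻¹ = MulAut.conj g y := by simp
    rw [this, MulEquiv.orderOf_eq, hy]
  rw [even_iff_two_dvd, ← hord]
  exact Subgroup.orderOf_dvd_natCard _ hmem

end Cfsg.Agent.S3982
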