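import Cfsg.Statements.S3983
import Mathlib
import Cfsg.Agent.Lib.Helper6_TI

set_option autoImplicit false
open scoped Pointwise
open Cfsg

namespace Cfsg.Agent.S3983

open Cfsg.Agent.Lib.Helper6_TI

/-- Let P be a Sylow p-subgroup of the finite group G that meets each conjugate g P g⁻¹ with g outside N_G(P) trivially, and let U be a subgroup of G of order divisible by p. Then a Sylow p-subgroup Q of U has the same property inside U: Q meets each conjugate u Q u⁻¹ with u ∈ U outside N_U(Q) trivially. -/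
theorem result {G : Type*} [Group G] [Finite G] (p : ℕ) [Fact p.Prime] (P : Sylow p G) (hTI : ∀ g : G, g ∉ Subgroup.normalizer ((P : Subgroup G) : Set G) → (P : Subgroup G) ⊓ (MulAut.conj g • (P : Subgroup G)) = ⊥) (U : Subgroup G) (hU : p ∣ Nat.card ↥U) (Q : Sylow p ↥U) : ∀ u : ↥U, u ∉ Subgroup.normalizer ((Q : Subgroup ↥U) : Set ↥U) → (Q : Subgroup ↥U) ⊓ (MulAut.conj u • (Q : Subgroup ↥U)) = ⊥ := by
  apply ti_of_elem
  intro u y hy1 hy huy
  -- a Sylow subgroup of G containing the image of Q
  obtain ⟨P', hP'⟩ := (Q.isPGroup'.map U.subtype).exists_le_sylow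
  have hTI' := ti_elem_sylow P P' (ti_elem hTI)
  have hQP' : ∀ x : ↥U, x ∈ (Q : Subgroup ↥U) ↔ (x : G) ∈ (P' : Subgroup G) := by
    have hle : (Q : Subgroup ↥U) ≤ (P' : Subgroup G).comap U.subtype := by
      intro x hx
      rw [Subgroup.mem_comap]
      exact hP' (Subgroup.mem_map_of_mem _ hx)
    have heq := Q.is_maximal' (P'.isPGroup'.comap_subtype (K := U)) hle
    intro x
    rw [← heq, Subgroup.mem_comap]
    rfl
  have huN : (u : G) ∈ Subgroup.normalizer ((P' : Subgroup G) : Set G) := by
    apply hTI' (u : G) (y : G)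
    · intro h; exact hy1 (Subtype.ext h)
    · exact (hQP' y).1 hy
    · have := (hQP' _).1 huy
      simpa using this
  rw [Subgroup.mem_normalizer_iff] at huN ⊢
  intro x
  rw [hQP' x, hQP' (u * x * u⁻¹), huN (x : G)]
  simp

end Cfsg.Agent.S3983
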