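import Cfsg.Statements.S3984
import Mathlib
import Cfsg.Agent.Lib.Helper6_TI

set_option autoImplicit false
open scoped Pointwise
open Cfsg

namespace Cfsg.Agent.S3984

open Cfsg.Agent.Lib.Helper6_TI

/-- Let P be a Sylow p-subgroup of the finite group G that meets each conjugate g P g⁻¹ with g outside N_G(P) trivially, and let N be a normal subgroup of G of order prime to p. Then every Sylow p-subgroup Q of G ⧸ N meets each conjugate x Q x⁻¹ with x outside its normalizer trivially. -/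
theorem result {G : Type*} [Group G] [Finite G] (p : ℕ) [Fact p.Prime] (P : Sylow p G) (hTI : ∀ g : G, g ∉ Subgroup.normalizer ((P : Subgroup G) : Set G) → (P : Subgroup G) ⊓ (MulAut.conj g • (P : Subgroup G)) = ⊥) (N : Subgroup G) [N.Normal] (hN : (Nat.card ↥N).Coprime p) (Q : Sylow p (G ⧸ N)) : ∀ x : G ⧸ N, x ∉ Subgroup.normalizer ((Q : Subgroup (G ⧸ N)) : Set (G ⧸ N)) → (Q : Subgroup (G ⧸ N)) ⊓ (MulAut.conj x • (Q : Subgroup (G ⧸ N))) = ⊥ := by
  apply ti_of_elem
  intro xbar ybar hy1 hy hxy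
  have hsurj : Function.Surjective (QuotientGroup.mk' N) := QuotientGroup.mk'_surjective N
  obtain ⟨P', hP'⟩ := Sylow.mapSurjective_surjective hsurj p Q
  have hQ : (Q : Subgroup (G ⧸ N)) = (P' : Subgroup G).map (QuotientGroup.mk' N) := by
    rw [← hP']; rfl
  have hTI' := ti_elem_sylow P P' (ti_elem hTI)
  obtain ⟨g, rfl⟩ := hsurj xbar
  rw [hQ] at hy hxy
  obtain ⟨y, hyP, rfl⟩ := hy
  obtain ⟨w, hwP, hw⟩ := hxy
  have hy1' : y ≠ 1 := by
    intro h; apply hy1; rw [h]; simp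
  -- y' = g y g⁻¹ ∈ N ⊔ P'
  have hy'K : g * y * g⁻¹ ∈ N ⊔ (P' : Subgroup G) := by
    have h1 : w⁻¹ * (g * y * g⁻¹) ∈ N := by
      rw [← QuotientGroup.eq]
      simpa using hw
    have : g * y * g⁻¹ = w * (w⁻¹ * (g * y * g⁻¹)) := by simp [mul_assoc]
    rw [this]
    have hN_le : N ≤ N ⊔ (P' : Subgroup G) := le_sup_left
    have hP_le : (P' : Subgroup G) ≤ N ⊔ (P' : Subgroup G) := le_sup_right
    exact Subgroup.mul_mem _ (hP_le hwP) (hN_le h1)
  obtain ⟨e, he⟩ := P'.isPGroup' ⟨y, hyP⟩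
  have he' : y ^ (p ^ e) = 1 := by simpa using congrArg Subtype.val he
  have hy'pow : (g * y * g⁻¹) ^ (p ^ e) = 1 := by
    rw [conj_pow, he']; simp
  obtain ⟨n, hn, hnP⟩ := exists_conj_mem_sylow P' N hy'pow hy'K
  have hnorm : n⁻¹ * g ∈ Subgroup.normalizer ((P' : Subgroup G) : Set G) := by
    apply hTI' (n⁻¹ * g) y hy1' hyP
    have : n⁻¹ * g * y * (n⁻¹ * g)⁻¹ = n⁻¹ * (g * y * g⁻¹) * n := by simp [mul_assoc]
    rw [this]; exact hnP
  have hx : (QuotientGroup.mk' N) g = (QuotientGroup.mk' N) (n⁻¹ * g) := by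
    rw [map_mul]
    have : (QuotientGroup.mk' N) n⁻¹ = 1 := by
      rw [QuotientGroup.mk'_apply, QuotientGroup.eq_one_iff]; exact N.inv_mem hn
    rw [this, one_mul]
  rw [hx, hQ]
  -- image of normalizer element normalizes image
  have key : ∀ a : G, a ∈ Subgroup.normalizer ((P' : Subgroup G) : Set G) →
      ∀ z : G ⧸ N, z ∈ (P' : Subgroup G).map (QuotientGroup.mk' N) →
      (QuotientGroup.mk' N) a * z * ((QuotientGroup.mk' N) a)⁻¹ ∈ (P' : Subgroup G).map (QuotientGroup.mk' N) := by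
    intro a ha z hz
    obtain ⟨z, hzP, rfl⟩ := hz
    refine ⟨a * z * a⁻¹, (Subgroup.mem_normalizer_iff.mp ha z).1 hzP, ?_⟩
    simp
  rw [Subgroup.mem_normalizer_iff]
  intro z
  constructor
  · exact key _ hnorm z
  · intro hz
    have := key _ (Subgroup.inv_mem _ hnorm) _ hz
    simpa [mul_assoc] using this

end Cfsg.Agent.S3984
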