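import Cfsg.Statements.S3985
import Mathlib
import Cfsg.Agent.Lib.Helper6_TI

set_option autoImplicit false
open scoped Pointwise
open Cfsg

namespace Cfsg.Agent.S3985

open Cfsg.Agent.Lib.Helper6_TI

/-- conjugation by `c ^ i` when `c t c⁻¹ = t ^ k`. -/
theorem conj_pow_gen {G : Type*} [Group G] {c t : G} {k : ℕ} (h : c * t * c⁻¹ = t ^ k) (i : ℕ) :
    c ^ i * t * (c ^ i)⁻¹ = t ^ (k ^ i) := by
  induction i with
  | zero => simp
  | succ i ih =>
    have : c ^ (i + 1) * t * (c ^ (i + 1))⁻¹ = c * (c ^ i * t * (c ^ i)⁻¹) * c⁻¹ := by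
      rw [pow_succ']; simp [mul_assoc]
    rw [this, ih, ← conj_pow, h, ← pow_mul, pow_succ']

/-- key arithmetic: if `k * j ≡ j [MOD p^n]`, `¬ p^n ∣ j`, `n ≥ 1` then `k^(p^(n-1)) ≡ 1 [MOD p^n]`. -/
theorem arith {p : ℕ} (hp : p.Prime) {n k j : ℕ} (hn : 1 ≤ n)
    (h : k * j ≡ j [MOD p ^ n]) (hj : ¬ p ^ n ∣ j) :
    k ^ (p ^ (n - 1)) ≡ 1 [MOD p ^ n] := by
  have h1 : ((p ^ n : ℕ) : ℤ) ∣ ((k : ℤ) - 1) * (j : ℤ) := by
    have := (Nat.modEq_iff_dvd.mp h.symm)
    have e : ((k * j : ℕ) : ℤ) - (j : ℤ) = ((k : ℤ) - 1) * (j : ℤ) := by push_cast; ring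
    rw [e] at this; exact this
  have hpk : (p : ℤ) ∣ (k : ℤ) - 1 := by
    by_contra hnd
    have hcop : IsCoprime (p : ℤ) ((k : ℤ) - 1) :=
      (Nat.prime_iff_prime_int.mp hp).coprime_iff_not_dvd.mpr hnd
    have hcop' : IsCoprime ((p : ℤ) ^ n) ((k : ℤ) - 1) := hcop.pow_left
    have h2 : ((p : ℤ) ^ n) ∣ (j : ℤ) := by
      apply hcop'.dvd_of_dvd_mul_left
      have : ((p ^ n : ℕ) : ℤ) = (p : ℤ) ^ n := by push_cast; ring
      rw [← this]; exact h1
    apply hj
    have : ((p ^ n : ℕ) : ℤ) ∣ (j : ℤ) := by push_cast; exact h2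
    exact Int.natCast_dvd_natCast.mp this
  have h3 := dvd_sub_pow_of_dvd_sub (R := ℤ) (p := p) (a := (k : ℤ)) (b := 1) hpk (n - 1)
  rw [Nat.sub_add_cancel hn, one_pow] at h3
  apply Nat.ModEq.symm
  rw [Nat.modEq_iff_dvd]
  push_cast
  exact h3

/-- Let P be a cyclic Sylow p-subgroup of the finite group G. Then P meets each conjugate g P g⁻¹ with g outside N_G(P) trivially if and only if P is weakly self-centralizing: C_G(x) = C_G(P) for every non-identity x ∈ P. -/
theorem result {G : Type*} [Group G] [Finite G] (p : ℕ) [Fact p.Prime] (P : Sylow p G) (hcyc : IsCyclic ↥(P : Subgroup G)) : (∀ g : G, g ∉ Subgroup.normalizer ((P : Subgroup G) : Set G) → (P : Subgroup G) ⊓ (MulAut.conj g • (P : Subgroup G)) = ⊥) ↔ ∀ x : G, x ∈ (P : Subgroup G) → x ≠ 1 → Subgroup.centralizer ({x} : Set G) = Subgroup.centralizer ((P : Subgroup G) : Set G) := by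
  have hp : p.Prime := Fact.out
  obtain ⟨t, ht⟩ := hcyc.exists_generator
  have htpow : ∀ a ∈ (P : Subgroup G), ∃ i : ℕ, a = (t : G) ^ i := by
    intro a ha
    have h1 := ht ⟨a, ha⟩
    have hfin : IsOfFinOrder t := isOfFinOrder_of_finite t
    rw [← hfin.mem_powers_iff_mem_zpowers] at h1
    obtain ⟨i, hi⟩ := h1
    refine ⟨i, ?_⟩
    have := congrArg Subtype.val hi
    simpa using this.symm
  have hPcomm : ∀ a ∈ (P : Subgroup G), ∀ b ∈ (P : Subgroup G), a * b = b * a := by
    intro a ha b hb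
    obtain ⟨i, rfl⟩ := htpow a ha
    obtain ⟨j, rfl⟩ := htpow b hb
    rw [← pow_add, ← pow_add, add_comm]
  constructor
  · intro hTI x hx hx1
    have hTIe := ti_elem hTI
    apply le_antisymm
    · intro c hc
      have hcx : c * x * c⁻¹ = x := by
        rw [Subgroup.mem_centralizer_iff] at hc
        have := hc x rfl
        rw [← this]; simp
      have hcN : c ∈ Subgroup.normalizer ((P : Subgroup G) : Set G) :=
        hTIe c x hx1 hx (by rw [hcx]; exact hx)
      -- order of t
      obtain ⟨n, hn⟩ := IsPGroup.iff_card.mp P.isPGroup'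
      have hord : orderOf (t : G) = p ^ n := by
        rw [Subgroup.orderOf_coe, orderOf_eq_card_of_forall_mem_zpowers ht, hn]
      have hn1 : 1 ≤ n := by
        rcases Nat.eq_zero_or_pos n with h0 | h0
        · exfalso
          rw [h0, pow_zero] at hn
          have : Subsingleton (P : Subgroup G) := (Nat.card_eq_one_iff_unique.mp hn).1
          apply hx1
          have := Subsingleton.elim (⟨x, hx⟩ : (P : Subgroup G)) 1
          exact congrArg Subtype.val this
        · exact h0
      obtain ⟨k, hk⟩ := htpow (c * (t : G) * c⁻¹)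
        ((Subgroup.mem_normalizer_iff.mp hcN (t : G)).1 t.2)
      obtain ⟨j, hj⟩ := htpow x hx
      have hmod : k * j ≡ j [MOD p ^ n] := by
        rw [← hord, ← pow_eq_pow_iff_modEq]
        rw [pow_mul, ← hk, conj_pow, ← hj, hcx]
      have hjnd : ¬ p ^ n ∣ j := by
        intro hd
        apply hx1
        rw [hj, ← hord] at *
        exact orderOf_dvd_iff_pow_eq_one.mp hd
      have hk1 := arith hp hn1 hmod hjnd
      -- c^(p^(n-1)) centralizes t
      have hc1 : c ^ (p ^ (n - 1)) * (t : G) * (c ^ (p ^ (n - 1)))⁻¹ = (t : G) := by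
        rw [conj_pow_gen hk]
        have : (t : G) ^ (k ^ (p ^ (n - 1))) = (t : G) ^ 1 := by
          rw [pow_eq_pow_iff_modEq, hord]; exact hk1
        rw [this, pow_one]
      have memCP : ∀ w : G, w * (t : G) * w⁻¹ = (t : G) →
          w ∈ Subgroup.centralizer ((P : Subgroup G) : Set G) := by
        intro w hw
        rw [Subgroup.mem_centralizer_iff]
        intro a ha
        obtain ⟨i, rfl⟩ := htpow a ha
        have hw' : w * (t : G) = (t : G) * w := by
          calc w * (t : G) = (w * (t : G) * w⁻¹) * w := by simp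
            _ = (t : G) * w := by rw [hw]
        exact ((Commute.pow_right hw' i).eq).symm
      have hcA : c ^ (p ^ (n - 1)) ∈ Subgroup.centralizer ((P : Subgroup G) : Set G) :=
        memCP _ hc1
      -- p-part
      have hm0 : orderOf c ≠ 0 := (orderOf_pos c).ne'
      obtain ⟨e, m', hm'nd, hm'⟩ := Nat.exists_eq_pow_mul_and_not_dvd hm0 p hp.ne_one
      have hcm : (c ^ m') ^ (p ^ e) = 1 := by
        rw [← pow_mul, mul_comm, ← hm']; exact pow_orderOf_eq_one c
      have hpg : IsPGroup p (Subgroup.zpowers (c ^ m')) := by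
        rintro ⟨w, hw⟩
        obtain ⟨i, rfl⟩ := Subgroup.mem_zpowers_iff.mp hw
        refine ⟨e, Subtype.ext ?_⟩
        simp only [Subgroup.coe_pow, Subgroup.coe_one]
        rw [← zpow_natCast, ← zpow_mul, mul_comm, zpow_mul, zpow_natCast, hcm, one_zpow]
      have hle : Subgroup.zpowers (c ^ m') ≤ Subgroup.normalizer ((P : Subgroup G) : Set G) := by
        rw [Subgroup.zpowers_le]
        exact Subgroup.pow_mem _ hcN _
      have hsup : IsPGroup p (Subgroup.zpowers (c ^ m') ⊔ (P : Subgroup G) : Subgroup G) :=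
        hpg.to_sup_of_normal_right' P.isPGroup' hle
      have hsupeq := P.is_maximal' hsup le_sup_right
      have hcmP : c ^ m' ∈ (P : Subgroup G) := by
        rw [← hsupeq]
        exact (le_sup_left : Subgroup.zpowers (c ^ m') ≤ _) (Subgroup.mem_zpowers _)
      have hcB : c ^ m' ∈ Subgroup.centralizer ((P : Subgroup G) : Set G) := by
        rw [Subgroup.mem_centralizer_iff]
        intro a ha
        exact hPcomm a ha _ hcmP
      -- Bezout
      have hcop : Nat.Coprime m' (p ^ (n - 1)) := by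
        apply Nat.Coprime.pow_right
        exact ((Nat.Prime.coprime_iff_not_dvd hp).2 hm'nd).symm
      have hbez := Nat.gcd_eq_gcd_ab m' (p ^ (n - 1))
      rw [hcop] at hbez
      have : c = (c ^ m') ^ (Nat.gcdA m' (p ^ (n - 1))) * (c ^ (p ^ (n - 1))) ^ (Nat.gcdB m' (p ^ (n - 1))) := by
        rw [← zpow_natCast c m', ← zpow_natCast c (p ^ (n - 1)), ← zpow_mul, ← zpow_mul, ← zpow_add,
          ← hbez]
        simp
      rw [this]
      exact Subgroup.mul_mem _ (Subgroup.zpow_mem _ hcB _) (Subgroup.zpow_mem _ hcA _)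
    · apply Subgroup.centralizer_le
      intro y hy
      rw [Set.mem_singleton_iff] at hy
      rw [hy]; exact hx
  · intro h
    apply ti_of_elem
    intro g y hy1 hy hgy
    have hgy1 : g * y * g⁻¹ ≠ 1 := by
      intro h0
      apply hy1
      have : y = g⁻¹ * (g * y * g⁻¹) * g := by simp [mul_assoc]
      rw [this, h0]; simp
    have hC := h (g * y * g⁻¹) hgy hgy1
    have hle1 : ((g • P : Sylow p G) : Subgroup G) ≤ Subgroup.centralizer ((P : Subgroup G) : Set G) := by
      intro w hw
      rw [mem_sylow_smul] at hw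
      rw [← hC, Subgroup.mem_centralizer_iff]
      intro z hz
      rw [Set.mem_singleton_iff] at hz
      subst hz
      have hcomm := hPcomm y hy _ hw
      -- w = g (g⁻¹ w g) g⁻¹
      calc g * y * g⁻¹ * w = g * (y * (g⁻¹ * w * g)) * g⁻¹ := by simp [mul_assoc]
        _ = g * ((g⁻¹ * w * g) * y) * g⁻¹ := by rw [hcomm]
        _ = w * (g * y * g⁻¹) := by simp [mul_assoc]
    have hle2 : ((g • P : Sylow p G) : Subgroup G) ≤ Subgroup.normalizer ((P : Subgroup G) : Set G) :=
      hle1.trans (Subgroup.centralizer_le_normalizer _)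
    have hsup : IsPGroup p (((g • P : Sylow p G) : Subgroup G) ⊔ (P : Subgroup G) : Subgroup G) :=
      (g • P).isPGroup'.to_sup_of_normal_right' P.isPGroup' hle2
    have hsupeq := P.is_maximal' hsup le_sup_right
    have hle3 : ((g • P : Sylow p G) : Subgroup G) ≤ (P : Subgroup G) := by
      rw [← hsupeq]; exact le_sup_left
    have heq : (P : Subgroup G) = ((g • P : Sylow p G) : Subgroup G) :=
      (g • P).is_maximal' P.isPGroup' hle3
    exact Sylow.smul_eq_iff_mem_normalizer.mp (Sylow.ext heq.symm)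

end Cfsg.Agent.S3985
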