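import Cfsg.Statements.S3986
import Mathlib

set_option autoImplicit false
open Cfsg

namespace Cfsg.Agent.S3986

variable {G : Type*} [Group G]

/-- if `x` commutes with all elements of prime-power order for primes `≠ p`, it commutes with all
elements of order prime to `p`. -/
theorem commute_of_coprime [Finite G] {p : ℕ} (hp : p.Prime) (x : G)
    (hx : ∀ y : G, (∃ q b : ℕ, q.Prime ∧ q ≠ p ∧ orderOf y = q ^ b) → x * y = y * x) :
    ∀ n : ℕ, ∀ h : G, orderOf h = n → n.Coprime p → x * h = h * x := by
  intro n
  induction n using Nat.strong_induction_on with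
  | _ n ih =>
    intro h hn hcop
    by_cases h1 : n = 1
    · rw [h1] at hn
      rw [orderOf_eq_one_iff.mp hn]; simp
    · have hnpos : 0 < n := hn ▸ orderOf_pos h
      set q := n.minFac with hq
      have hqp : q.Prime := Nat.minFac_prime h1
      have hqn : q ∣ n := Nat.minFac_dvd n
      have hqnep : q ≠ p := by
        intro hqp'
        have : p ∣ n := hqp' ▸ hqn
        have := Nat.Coprime.eq_one_of_dvd hcop.symm this
        exact hp.one_lt.ne' this
      obtain ⟨e, m, hmnd, hm⟩ := Nat.exists_eq_pow_mul_and_not_dvd hnpos.ne' q hqp.ne_one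
      have hmpos : 0 < m := by
        rcases Nat.eq_zero_or_pos m with h0 | h0
        · rw [h0, mul_zero] at hm; omega
        · exact h0
      have he : 1 ≤ e := by
        rcases Nat.eq_zero_or_pos e with h0 | h0
        · exfalso
          rw [h0, pow_zero, one_mul] at hm
          exact hmnd (hm ▸ hqn)
        · exact h0
      have hqe : 0 < q ^ e := pow_pos hqp.pos e
      -- h₁ = h^m has order q^e
      have hord1 : orderOf (h ^ m) = q ^ e := by
        rw [orderOf_pow' h hmpos.ne', hn, Nat.gcd_eq_right (Dvd.intro_left _ hm.symm)]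
        exact Nat.div_eq_of_eq_mul_left hmpos hm
      have hord2 : orderOf (h ^ (q ^ e)) = m := by
        rw [orderOf_pow' h hqe.ne', hn, Nat.gcd_eq_right (Dvd.intro _ hm.symm)]
        exact Nat.div_eq_of_eq_mul_right hqe hm
      have hc1 : x * h ^ m = h ^ m * x := hx _ ⟨q, e, hqp, hqnep, hord1⟩
      have hmlt : m < n := by
        rw [hm]
        have : 2 ≤ q ^ e := by
          calc 2 ≤ q := hqp.two_le
            _ = q ^ 1 := (pow_one q).symm
            _ ≤ q ^ e := Nat.pow_le_pow_right hqp.pos he
        nlinarith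
      have hmcop : m.Coprime p := Nat.Coprime.coprime_dvd_left (Dvd.intro_left _ hm.symm) hcop
      have hc2 : x * h ^ (q ^ e) = h ^ (q ^ e) * x := ih m hmlt _ hord2 hmcop
      -- Bezout
      have hcop2 : Nat.Coprime m (q ^ e) := by
        apply Nat.Coprime.pow_right
        exact ((Nat.Prime.coprime_iff_not_dvd hqp).2 hmnd).symm
      have hbez := Nat.gcd_eq_gcd_ab m (q ^ e)
      rw [hcop2] at hbez
      have hh : h = (h ^ m) ^ (Nat.gcdA m (q ^ e)) * (h ^ (q ^ e)) ^ (Nat.gcdB m (q ^ e)) := by
        rw [← zpow_natCast h m, ← zpow_natCast h (q ^ e), ← zpow_mul, ← zpow_mul, ← zpow_add,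
          ← hbez]
        simp
      have hC1 : Commute x ((h ^ m) ^ (Nat.gcdA m (q ^ e))) := (Commute.zpow_right hc1 _)
      have hC2 : Commute x ((h ^ (q ^ e)) ^ (Nat.gcdB m (q ^ e))) := (Commute.zpow_right hc2 _)
      have := (hC1.mul_right hC2).eq
      rw [← hh] at this
      exact this

/-- Let p be a prime and G a finite group. Then some Sylow p-subgroup of G is a direct factor of G (it is normal and has a normal complement) if and only if every element of p-power order commutes with every element whose order is a power of a prime other than p. -/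
theorem result {G : Type*} [Group G] [Finite G] (p : ℕ) [Fact p.Prime] : (∃ (P : Sylow p G) (K : Subgroup G), (P : Subgroup G).Normal ∧ K.Normal ∧ (P : Subgroup G) ⊓ K = ⊥ ∧ (P : Subgroup G) ⊔ K = ⊤) ↔ ∀ x y : G, (∃ a : ℕ, orderOf x = p ^ a) → (∃ q b : ℕ, q.Prime ∧ q ≠ p ∧ orderOf y = q ^ b) → x * y = y * x := by
  have hp : p.Prime := Fact.out
  constructor
  · rintro ⟨P, K, hPn, hKn, hdisj, hsup⟩ x y ⟨a, ha⟩ ⟨q, b, hq, hqp, hb⟩
    -- x ∈ P
    have hxP : x ∈ (P : Subgroup G) := by
      have h1 : IsPGroup p (Subgroup.zpowers x) := by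
        apply IsPGroup.of_card (n := a)
        rw [Nat.card_zpowers, ha]
      have h2 : IsPGroup p (Subgroup.zpowers x ⊔ (P : Subgroup G) : Subgroup G) :=
        h1.to_sup_of_normal_right P.isPGroup'
      have h3 := P.is_maximal' h2 le_sup_right
      rw [← h3]
      exact (le_sup_left : Subgroup.zpowers x ≤ _) (Subgroup.mem_zpowers x)
    -- y ∈ K
    have hyK : y ∈ K := by
      rw [← QuotientGroup.eq_one_iff, ← orderOf_eq_one_iff]
      have hyG : y ∈ (((P : Subgroup G) ⊔ K : Subgroup G) : Set G) := by rw [hsup]; trivial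
      rw [Subgroup.mul_normal, Set.mem_mul] at hyG
      obtain ⟨u, hu, k, hk, huk⟩ := hyG
      obtain ⟨e, he⟩ := P.isPGroup' ⟨u, hu⟩
      have he' : u ^ (p ^ e) = 1 := by simpa using congrArg Subtype.val he
      have hπ : ((y : G) : G ⧸ K) = ((u : G) : G ⧸ K) := by
        rw [← huk, QuotientGroup.mk_mul, (QuotientGroup.eq_one_iff k).mpr hk, mul_one]
      have h1 : orderOf ((y : G) : G ⧸ K) ∣ p ^ e := by
        apply orderOf_dvd_of_pow_eq_one
        rw [hπ, ← QuotientGroup.mk_pow, he']; rfl
      have h2 : orderOf ((y : G) : G ⧸ K) ∣ q ^ b := by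
        rw [← hb]
        exact orderOf_map_dvd (QuotientGroup.mk' K) y
      have hcop : Nat.Coprime (p ^ e) (q ^ b) :=
        Nat.Coprime.pow _ _ ((Nat.coprime_primes hp hq).2 (Ne.symm hqp))
      exact Nat.eq_one_of_dvd_coprimes hcop h1 h2
    exact (Subgroup.commute_of_normal_of_disjoint _ _ hPn hKn (disjoint_iff.mpr hdisj) x y hxP hyK).eq
  · intro h
    obtain ⟨P⟩ : Nonempty (Sylow p G) := inferInstance
    -- every element of P commutes with every p'-element
    have hPc : ∀ x ∈ (P : Subgroup G), ∀ g : G, (orderOf g).Coprime p → x * g = g * x := by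
      intro x hx g hg
      have hxa : ∃ a : ℕ, orderOf x = p ^ a := by
        obtain ⟨a, ha⟩ := (IsPGroup.iff_orderOf.mp P.isPGroup') ⟨x, hx⟩
        exact ⟨a, by rw [← ha, Subgroup.orderOf_mk]⟩
      exact commute_of_coprime hp x (fun y hy => h x y hxa hy) _ g rfl hg
    -- P is normal
    have hPn : (P : Subgroup G).Normal := by
      rw [← Subgroup.normalizer_eq_top_iff, ← Subgroup.index_eq_one]
      rw [Nat.eq_one_iff_not_exists_prime_dvd]
      intro q hq hqd
      by_cases hqp : q = p
      · subst hqp
        have : (Subgroup.normalizer ((P : Subgroup G) : Set G)).index ∣ (P : Subgroup G).index :=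
          Subgroup.index_dvd_of_le Subgroup.le_normalizer
        exact P.not_dvd_index (dvd_trans hqd this)
      · have : Fact q.Prime := ⟨hq⟩
        obtain ⟨Q⟩ : Nonempty (Sylow q G) := inferInstance
        have hQle : (Q : Subgroup G) ≤ Subgroup.normalizer ((P : Subgroup G) : Set G) := by
          intro g hg
          apply Subgroup.centralizer_le_normalizer
          rw [Subgroup.mem_centralizer_iff]
          intro x hx
          apply hPc x hx g
          obtain ⟨b, hb⟩ := (IsPGroup.iff_orderOf.mp Q.isPGroup') ⟨g, hg⟩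
          rw [Subgroup.orderOf_mk] at hb
          rw [hb]
          exact Nat.Coprime.pow_left _ ((Nat.coprime_primes hq hp).2 hqp)
        have : (Subgroup.normalizer ((P : Subgroup G) : Set G)).index ∣ (Q : Subgroup G).index :=
          Subgroup.index_dvd_of_le hQle
        exact Q.not_dvd_index (dvd_trans hqd this)
    obtain ⟨K, hK⟩ := Subgroup.exists_right_complement'_of_coprime (N := (P : Subgroup G))
      P.card_coprime_index
    have hKcard : (Nat.card K).Coprime p := by
      have h1 : Nat.card K = (P : Subgroup G).index := by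
        have := hK.card_mul_card
        have h2 := (P : Subgroup G).card_mul_index
        have hpos : 0 < Nat.card (P : Subgroup G) := Nat.card_pos
        exact Nat.eq_of_mul_eq_mul_left hpos (this.trans h2.symm)
      rw [h1]
      exact (Nat.Prime.coprime_iff_not_dvd hp).2 P.not_dvd_index |>.symm
    have hKn : K.Normal := by
      rw [← Subgroup.normalizer_eq_top_iff]
      apply top_le_iff.mp
      rw [← hK.sup_eq_top]
      apply sup_le _ Subgroup.le_normalizer
      intro x hx
      apply Subgroup.centralizer_le_normalizer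
      rw [Subgroup.mem_centralizer_iff]
      intro k hk
      have hkcop : (orderOf k).Coprime p :=
        Nat.Coprime.coprime_dvd_left (Subgroup.orderOf_dvd_natCard K hk) hKcard
      exact (hPc x hx k hkcop).symm
    exact ⟨P, K, hPn, hKn, hK.disjoint.eq_bot, hK.sup_eq_top⟩

end Cfsg.Agent.S3986
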