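import Mathlib
import Cfsg.Statements.S3987
import Cfsg.Agent.Lib.Helper7_Basic
import Cfsg.Agent.Lib.Helper7_ClassSize
import Cfsg.Agent.Lib.Helper7_NPC

set_option autoImplicit false
open Cfsg

namespace Cfsg.Agent.S3987

open Cfsg.Agent.Lib
open scoped Pointwise Classical

section
variable {G : Type*} [Group G] [Finite G]

/-- if `|cl(xy)| = |cl(x)| |cl(y)|` then `x` and `y` commute. -/
theorem commute_of_index_mul (x y : G)
    (h : (Subgroup.centralizer ({x * y} : Set G)).index =
      (Subgroup.centralizer ({x} : Set G)).index * (Subgroup.centralizer ({y} : Set G)).index) :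
    Commute x y := by
  haveI := Fintype.ofFinite G
  set A := Finset.univ.filter (fun z : G => IsConj z x) with hA
  set B := Finset.univ.filter (fun z : G => IsConj z y) with hB
  set D := Finset.univ.filter (fun z : G => IsConj z (x * y)) with hD
  have cardcl : ∀ w : G, (Finset.univ.filter (fun z : G => IsConj z w)).card =
      (Subgroup.centralizer ({w} : Set G)).index := by
    intro w
    rw [← Helper7_Basic.card_conj_class, Nat.card_eq_fintype_card, Fintype.card_subtype]
  have hDAB : D ⊆ A * B := by
    intro d hd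
    rw [hD, Finset.mem_filter] at hd
    obtain ⟨g, hg⟩ := isConj_iff.mp hd.2.symm
    have : d = (g * x * g⁻¹) * (g * y * g⁻¹) := by rw [← hg]; group
    rw [this]
    apply Finset.mul_mem_mul
    · rw [hA, Finset.mem_filter]
      exact ⟨Finset.mem_univ _, (isConj_iff.mpr ⟨g, rfl⟩ : IsConj x (g * x * g⁻¹)).symm⟩
    · rw [hB, Finset.mem_filter]
      exact ⟨Finset.mem_univ _, (isConj_iff.mpr ⟨g, rfl⟩ : IsConj y (g * y * g⁻¹)).symm⟩
  have hcard : (A * B).card = A.card * B.card := by
    apply le_antisymm Finset.card_mul_le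
    calc A.card * B.card = D.card := by rw [hA, hB, hD, cardcl, cardcl, cardcl, h]
      _ ≤ (A * B).card := Finset.card_le_card hDAB
  have hinj := Finset.card_mul_iff.mp hcard
  have hxA : x ∈ A := by rw [hA, Finset.mem_filter]; exact ⟨Finset.mem_univ _, IsConj.refl x⟩
  have hyB : y ∈ B := by rw [hB, Finset.mem_filter]; exact ⟨Finset.mem_univ _, IsConj.refl y⟩
  have hxA' : (x * y) * x * (x * y)⁻¹ ∈ A := by
    rw [hA, Finset.mem_filter]
    exact ⟨Finset.mem_univ _, (isConj_iff.mpr ⟨x * y, rfl⟩ : IsConj x _).symm⟩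
  have hyB' : (x * y) * y * (x * y)⁻¹ ∈ B := by
    rw [hB, Finset.mem_filter]
    exact ⟨Finset.mem_univ _, (isConj_iff.mpr ⟨x * y, rfl⟩ : IsConj y _).symm⟩
  have h1 : ((x, y) : G × G) = ((x * y) * x * (x * y)⁻¹, (x * y) * y * (x * y)⁻¹) := hinj
    (Set.mk_mem_prod (Finset.mem_coe.mpr hxA) (Finset.mem_coe.mpr hyB))
    (Set.mk_mem_prod (Finset.mem_coe.mpr hxA') (Finset.mem_coe.mpr hyB'))
    (by show x * y = (x * y) * x * (x * y)⁻¹ * ((x * y) * y * (x * y)⁻¹); group)
  have h2 : x = (x * y) * x * (x * y)⁻¹ := congrArg Prod.fst h1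
  show x * y = y * x
  have h3 : x * (x * y) = (x * y) * x := by
    nth_rewrite 1 [h2]; group
  calc x * y = x⁻¹ * (x * (x * y)) := by group
    _ = x⁻¹ * ((x * y) * x) := by rw [h3]
    _ = y * x := by group

/-- a `p'`-element commutes with `x` as soon as all prime-power-order elements of order prime to `p` do. -/
theorem commute_pPrime (p : ℕ) (x : G)
    (h : ∀ y : G, (∃ q b : ℕ, q.Prime ∧ q ≠ p ∧ orderOf y = q ^ b) → Commute x y) :
    ∀ n : ℕ, ∀ z : G, orderOf z = n → (orderOf z).Coprime p → Commute x z := by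
  intro n
  induction n using Nat.strong_induction_on with
  | _ n ih =>
    intro z hzn hz
    by_cases h1 : orderOf z = 1
    · rw [orderOf_eq_one_iff.mp h1]; exact Commute.one_right x
    · set q := (orderOf z).minFac with hq
      have hqp : q.Prime := Nat.minFac_prime h1
      have hqd : q ∣ orderOf z := Nat.minFac_dvd _
      have hqne : q ≠ p := by
        intro heq
        rw [heq] at hqd
        have := Nat.Coprime.eq_one_of_dvd hz.symm hqd
        rw [← heq] at this
        exact hqp.one_lt.ne' this
      obtain ⟨a, b, -, -, hab, ⟨k, hak⟩, -, hbd, hblt⟩ :=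
        Helper7_ClassSize.exists_parts z (isOfFinOrder_of_finite z) q hqp
      rw [hab]
      apply Commute.mul_right
      · exact h a ⟨q, k, hqp, hqne, hak⟩
      · exact ih (orderOf b) (by rw [← hzn]; exact hblt hqd) b rfl
          (Nat.Coprime.coprime_dvd_left hbd hz)

theorem index_inf_of_coprime (H K : Subgroup G) (h : Nat.Coprime H.index K.index) :
    (H ⊓ K).index = H.index * K.index := by
  have h1 : H.index ∣ (H ⊓ K).index := Subgroup.index_dvd_of_le inf_le_left
  have h2 : K.index ∣ (H ⊓ K).index := Subgroup.index_dvd_of_le inf_le_right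
  have h3 : H.index * K.index ∣ (H ⊓ K).index := h.mul_dvd_of_dvd_of_dvd h1 h2
  have h4 : (H ⊓ K).index ≠ 0 := Subgroup.index_ne_zero_of_finite
  exact le_antisymm Subgroup.index_inf_le (Nat.le_of_dvd (Nat.pos_of_ne_zero h4) h3)

end

/-- Let p be a prime and G a finite group. Then some Sylow p-subgroup of G is a direct factor of G (normal with a normal complement) if and only if for every element x of p-power order and every element y whose order is a power of a prime other than p, the conjugacy class of x y has as many elements as the product of the sizes of the classes of x and of y. -/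
theorem result {G : Type*} [Group G] [Finite G] (p : ℕ) [Fact p.Prime] : (∃ (P : Sylow p G) (K : Subgroup G), (P : Subgroup G).Normal ∧ K.Normal ∧ (P : Subgroup G) ⊓ K = ⊥ ∧ (P : Subgroup G) ⊔ K = ⊤) ↔ ∀ x y : G, (∃ a : ℕ, orderOf x = p ^ a) → (∃ q b : ℕ, q.Prime ∧ q ≠ p ∧ orderOf y = q ^ b) → (Subgroup.centralizer ({x * y} : Set G)).index = (Subgroup.centralizer ({x} : Set G)).index * (Subgroup.centralizer ({y} : Set G)).index := by
  have hp : p.Prime := Fact.out
  constructor
  · rintro ⟨P, K, hPn, hKn, hinf, hsup⟩ x y hx ⟨q, b, hq, hqp, hyq⟩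
    have hdisj : Disjoint (P : Subgroup G) K := disjoint_iff.mpr hinf
    -- x ∈ P
    have hxP : x ∈ (P : Subgroup G) := by
      obtain ⟨Q, hQ⟩ := Helper7_Basic.pElement_mem_sylow x hx
      obtain ⟨g, hg⟩ := MulAction.exists_smul_eq G P Q
      haveI : (P : Subgroup G).Normal := hPn
      rw [Sylow.smul_eq_of_normal] at hg
      rw [hg]; exact hQ
    -- complement
    have hcompl : Subgroup.IsComplement' (P : Subgroup G) K := by
      apply Subgroup.isComplement'_of_disjoint_and_mul_eq_univ hdisj
      rw [← Subgroup.normal_mul, hsup]; rfl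
    have hidx : K.index = Nat.card (P : Subgroup G) := hcompl.index_eq_card
    obtain ⟨j, hj⟩ := IsPGroup.iff_card.mp P.isPGroup'
    -- y ∈ K
    have hyK : y ∈ K := by
      haveI := hKn
      rw [← QuotientGroup.eq_one_iff]
      have h1 : orderOf (QuotientGroup.mk' K y) ∣ orderOf y := orderOf_map_dvd _ y
      have h2 : orderOf (QuotientGroup.mk' K y) ∣ Nat.card (G ⧸ K) := orderOf_dvd_natCard _
      rw [← Subgroup.index_eq_card, hidx, hj] at h2
      rw [hyq] at h1
      have h3 : Nat.Coprime (q ^ b) (p ^ j) :=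
        Nat.Coprime.pow _ _ ((Nat.coprime_primes hq hp).mpr hqp)
      have h4 := Nat.Coprime.eq_one_of_dvd (Nat.Coprime.coprime_dvd_left h1 h3) h2
      exact orderOf_eq_one_iff.mp h4
    have hcommPK : ∀ a b : G, a ∈ (P : Subgroup G) → b ∈ K → Commute a b :=
      Subgroup.commute_of_normal_of_disjoint _ _ hPn hKn hdisj
    -- C(xy) = C(x) ⊓ C(y)
    have hC : Subgroup.centralizer ({x * y} : Set G) =
        Subgroup.centralizer ({x} : Set G) ⊓ Subgroup.centralizer ({y} : Set G) := by
      ext g
      rw [Subgroup.mem_inf, Subgroup.mem_centralizer_singleton_iff,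
        Subgroup.mem_centralizer_singleton_iff, Subgroup.mem_centralizer_singleton_iff]
      constructor
      · intro hg
        have h1 : g * x * g⁻¹ ∈ (P : Subgroup G) := hPn.conj_mem x hxP g
        have h2 : g * y * g⁻¹ ∈ K := hKn.conj_mem y hyK g
        have h3 : (g * x * g⁻¹) * (g * y * g⁻¹) = x * y := by
          calc (g * x * g⁻¹) * (g * y * g⁻¹) = (g * (x * y)) * g⁻¹ := by group
            _ = (x * y * g) * g⁻¹ := by rw [hg]
            _ = x * y := by group
        have h4 : x⁻¹ * (g * x * g⁻¹) = y * (g * y * g⁻¹)⁻¹ := by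
          have : x⁻¹ * ((g * x * g⁻¹) * (g * y * g⁻¹)) * (g * y * g⁻¹)⁻¹ =
            x⁻¹ * (x * y) * (g * y * g⁻¹)⁻¹ := by rw [h3]
          calc x⁻¹ * (g * x * g⁻¹) = x⁻¹ * ((g * x * g⁻¹) * (g * y * g⁻¹)) * (g * y * g⁻¹)⁻¹ := by
                group
            _ = x⁻¹ * (x * y) * (g * y * g⁻¹)⁻¹ := this
            _ = y * (g * y * g⁻¹)⁻¹ := by group
        have h5 : x⁻¹ * (g * x * g⁻¹) ∈ (P : Subgroup G) ⊓ K := by
          refine Subgroup.mem_inf.mpr ⟨Subgroup.mul_mem _ (Subgroup.inv_mem _ hxP) h1, ?_⟩
          rw [h4]; exact Subgroup.mul_mem _ hyK (Subgroup.inv_mem _ h2)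
        rw [hinf, Subgroup.mem_bot] at h5
        have h6 : g * x * g⁻¹ = x := by
          calc g * x * g⁻¹ = x * (x⁻¹ * (g * x * g⁻¹)) := by group
            _ = x := by rw [h5, mul_one]
        have h7 : g * y * g⁻¹ = y := by
          have : x * (g * y * g⁻¹) = x * y := by rw [h6] at h3; exact h3
          exact mul_left_cancel this
        constructor
        · calc g * x = (g * x * g⁻¹) * g := by group
            _ = x * g := by rw [h6]
        · calc g * y = (g * y * g⁻¹) * g := by group
            _ = y * g := by rw [h7]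
      · rintro ⟨h1, h2⟩
        calc g * (x * y) = (g * x) * y := by group
          _ = x * (g * y) := by rw [h1]; group
          _ = x * y * g := by rw [h2]; group
    rw [hC]
    apply index_inf_of_coprime
    have hKle : K ≤ Subgroup.centralizer ({x} : Set G) := by
      intro k hk
      rw [Subgroup.mem_centralizer_singleton_iff]
      exact (hcommPK x k hxP hk).eq.symm
    have hPle : (P : Subgroup G) ≤ Subgroup.centralizer ({y} : Set G) := by
      intro a ha
      rw [Subgroup.mem_centralizer_singleton_iff]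
      exact (hcommPK a y ha hyK).eq
    have h1 : (Subgroup.centralizer ({x} : Set G)).index ∣ p ^ j := by
      rw [← hj, ← hidx]; exact Subgroup.index_dvd_of_le hKle
    have h2 : (Subgroup.centralizer ({y} : Set G)).index ∣ (P : Subgroup G).index :=
      Subgroup.index_dvd_of_le hPle
    have h3 : Nat.Coprime (p ^ j) (P : Subgroup G).index :=
      Nat.Coprime.pow_left _ ((Nat.Prime.coprime_iff_not_dvd hp).mpr P.not_dvd_index)
    exact Nat.Coprime.coprime_dvd_left h1 (Nat.Coprime.coprime_dvd_right h2 h3)
  · intro h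
    -- all p-elements commute with all p'-elements
    have hcomm : ∀ x z : G, (∃ a : ℕ, orderOf x = p ^ a) → (orderOf z).Coprime p → Commute x z := by
      intro x z hx hz
      apply commute_pPrime p x _ (orderOf z) z rfl hz
      intro y hy
      exact commute_of_index_mul x y (h x y hx hy)
    have hF : Helper7_NPC.FrobHyp p G := by
      intro Q hQ g _ hg
      rw [Subgroup.mem_centralizer_iff]
      intro a ha
      obtain ⟨k, hk⟩ := hQ ⟨a, ha⟩
      have hk' : a ^ (p ^ k) = 1 := congrArg Subtype.val hk
      obtain ⟨j, -, hj⟩ := (Nat.dvd_prime_pow hp).mp (orderOf_dvd_of_pow_eq_one hk')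
      exact (hcomm a g ⟨j, hj⟩ hg).eq
    obtain ⟨N, hNn, hNc, k, hk⟩ := Helper7_NPC.npc_of_frobHyp hF
    let P : Sylow p G := default
    have hcompl := Helper7_NPC.NPC.isComplement' hNc hk P
    have hcommPN : ∀ a ∈ (P : Subgroup G), ∀ n ∈ N, Commute a n := by
      intro a ha n hn
      have h1 : (orderOf n).Coprime p := by
        have : orderOf n ∣ Nat.card N := by
          rw [← Subgroup.orderOf_mk n hn]; exact orderOf_dvd_natCard _
        exact Nat.Coprime.coprime_dvd_left this hNc
      obtain ⟨j, hj⟩ := P.isPGroup' ⟨a, ha⟩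
      have hj' : a ^ (p ^ j) = 1 := congrArg Subtype.val hj
      obtain ⟨i, -, hi⟩ := (Nat.dvd_prime_pow hp).mp (orderOf_dvd_of_pow_eq_one hj')
      exact hcomm a n ⟨i, hi⟩ h1
    have hsup : (P : Subgroup G) ⊔ N = ⊤ := by
      rw [sup_comm]; exact hcompl.sup_eq_top
    refine ⟨P, N, ?_, hNn, ?_, hsup⟩
    · rw [← Subgroup.normalizer_eq_top_iff, eq_top_iff, ← hsup]
      apply sup_le Subgroup.le_normalizer
      intro n hn
      rw [Subgroup.mem_normalizer_iff]
      intro a
      have hc : ∀ a ∈ (P : Subgroup G), n * a * n⁻¹ = a := by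
        intro a ha
        have := (hcommPN a ha n hn).eq
        calc n * a * n⁻¹ = (a * n) * n⁻¹ := by rw [this]
          _ = a := by group
      constructor
      · intro ha
        rw [hc a ha]; exact ha
      · intro ha
        have h1 := hc _ ha
        have h2 : n * a * n⁻¹ = a := by
          have h3 : n * (n * a * n⁻¹) * n⁻¹ = n * a * n⁻¹ := h1
          calc n * a * n⁻¹ = n⁻¹ * (n * (n * a * n⁻¹) * n⁻¹) * n := by group
            _ = n⁻¹ * (n * a * n⁻¹) * n := by rw [h3]
            _ = a := by group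
        rw [← h2]; exact ha
    · rw [inf_comm]; exact hcompl.disjoint.eq_bot

end Cfsg.Agent.S3987
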