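import Mathlib
import Cfsg.Statements.S3994
import Cfsg.Agent.Lib.Helper7_FrobDiv2

set_option autoImplicit false
open Cfsg

namespace Cfsg.Agent.S3994

open Cfsg.Agent.Lib.Helper7_FrobDiv2

/-- Let G be a finite group and n a positive integer. The number of elements of G whose order is divisible by n is either 0 or divisible by the largest divisor of the order of G that is coprime to n. -/
theorem result {G : Type*} [Group G] [Finite G] (n : ℕ) (hn : 0 < n) :
    Nat.card {g : G // n ∣ orderOf g} = 0 ∨
      (Nat.card G / Nat.gcd (Nat.card G) (n ^ Nat.card G)) ∣ Nat.card {g : G // n ∣ orderOf g} := by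
  right
  have hN : 0 < Nat.card G := Nat.card_pos
  set N := Nat.card G with hNdef
  set r := Nat.gcd N (n ^ N) with hr
  have hrN : r ∣ N := Nat.gcd_dvd_left _ _
  have hmn : Nat.Coprime (N / r) n := coprime_div_gcd_pow N n hN hn
  have hrm : Nat.Coprime r (N / r) := by
    have h1 : Nat.Coprime (N / r) (n ^ N) := Nat.Coprime.pow_right N hmn
    exact (Nat.Coprime.coprime_dvd_right (Nat.gcd_dvd_right _ _) h1).symm
  exact dvd_card_order_dvd n (N / r) r (Nat.mul_div_cancel' hrN).symm hrm hmn

end Cfsg.Agent.S3994
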