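import Mathlib
import Cfsg.Statements.S4377

set_option autoImplicit false
open Cfsg

namespace Cfsg.Agent.S4377

/-- number of elements of order `n` -/
noncomputable def a (G : Type*) [Group G] (n : ℕ) : ℕ := Nat.card {g : G // orderOf g = n}
/-- number of solutions of `g ^ n = 1` -/
noncomputable def b (G : Type*) [Group G] (n : ℕ) : ℕ := Nat.card {g : G // g ^ n = 1}

theorem b_eq_sum (G : Type*) [Group G] [Finite G] {n : ℕ} (hn : n ≠ 0) :
    b G n = ∑ m ∈ n.divisors, a G m := by
  classical
  letI : Fintype G := Fintype.ofFinite G
  unfold a b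
  simp only [Nat.card_eq_fintype_card, Fintype.card_subtype]
  convert (sum_card_orderOf_eq_card_pow_eq_one (G := G) hn).symm

theorem a_zero (G : Type*) [Group G] [Finite G] : a G 0 = 0 := by
  unfold a
  rw [Nat.card_eq_zero]
  left
  exact ⟨fun g => (orderOf_pos g.1).ne' g.2⟩

theorem b_zero (G : Type*) [Group G] [Finite G] : b G 0 = Nat.card G := by
  unfold b
  apply Nat.card_congr
  exact Equiv.subtypeUnivEquiv (fun g => pow_zero g)

theorem b_of_card_dvd (G : Type*) [Group G] [Finite G] {n : ℕ} (hn : Nat.card G ∣ n) :
    b G n = Nat.card G := by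
  unfold b
  apply Nat.card_congr
  refine Equiv.subtypeUnivEquiv (fun g => ?_)
  obtain ⟨k, rfl⟩ := hn
  rw [pow_mul, pow_card_eq_one', one_pow]

/-- Two finite groups have the same number of elements of each order if and only if, for every n, they have the same number of elements g with gⁿ = 1. -/
theorem result {G H : Type*} [Group G] [Finite G] [Group H] [Finite H] :
    (∀ n : ℕ, Nat.card {g : G // orderOf g = n} = Nat.card {h : H // orderOf h = n}) ↔
      ∀ n : ℕ, Nat.card {g : G // g ^ n = 1} = Nat.card {h : H // h ^ n = 1} := by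
  show (∀ n, a G n = a H n) ↔ ∀ n, b G n = b H n
  constructor
  · intro h
    have hpos : ∀ n, n ≠ 0 → b G n = b H n := by
      intro n hn
      rw [b_eq_sum G hn, b_eq_sum H hn]
      exact Finset.sum_congr rfl (fun m _ => h m)
    intro n
    by_cases hn : n = 0
    · subst hn
      have hN : Nat.card G * Nat.card H ≠ 0 :=
        Nat.mul_ne_zero Nat.card_pos.ne' Nat.card_pos.ne'
      calc b G 0 = Nat.card G := b_zero G
        _ = b G (Nat.card G * Nat.card H) := (b_of_card_dvd G (Dvd.intro _ rfl)).symm
        _ = b H (Nat.card G * Nat.card H) := hpos _ hN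
        _ = Nat.card H := b_of_card_dvd H (Dvd.intro_left _ rfl)
        _ = b H 0 := (b_zero H).symm
    · exact hpos n hn
  · intro h n
    induction n using Nat.strong_induction_on with
    | _ n ih =>
      by_cases hn : n = 0
      · subst hn; rw [a_zero, a_zero]
      · have h1 := b_eq_sum G hn
        have h2 := b_eq_sum H hn
        rw [← Nat.cons_self_properDivisors hn, Finset.sum_cons] at h1 h2
        have h3 : ∑ m ∈ n.properDivisors, a G m = ∑ m ∈ n.properDivisors, a H m := by
          refine Finset.sum_congr rfl (fun m hm => ih m ?_)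
          exact (Nat.mem_properDivisors.mp hm).2
        have := h n
        omega

end Cfsg.Agent.S4377
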