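import Mathlib
import Cfsg.Statements.S3995
import Cfsg.Agent.S4377
import Cfsg.Agent.Lib.Helper7_FrobDiv
import Cfsg.Agent.S0016

set_option autoImplicit false

open Cfsg

namespace Cfsg.Agent.S3995

open Cfsg.Agent.S4377 (a b b_eq_sum)

/-- a carrier type in `Type` without algebraic instances -/
structure Wrap (k : ℕ) where
  /-- the value -/
  val : Fin k

/-- `Wrap k ≃ Fin k` -/
def wrapEquiv (k : ℕ) : Wrap k ≃ Fin k where
  toFun x := x.val
  invFun x := ⟨x⟩
  left_inv _ := rfl
  right_inv _ := rfl

instance (k : ℕ) : Finite (Wrap k) := Finite.of_equiv _ (wrapEquiv k).symm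

theorem a_one (K : Type*) [Group K] [Finite K] : a K 1 = 1 := by
  unfold a
  rw [Nat.card_eq_one_iff_unique]
  refine ⟨⟨fun x y => ?_⟩, ⟨⟨1, orderOf_one⟩⟩⟩
  apply Subtype.ext
  rw [orderOf_eq_one_iff.mp x.2, orderOf_eq_one_iff.mp y.2]

theorem a_eq_zero (K : Type*) [Group K] [Finite K] (m : ℕ) (h : ∀ g : K, orderOf g ≠ m) :
    a K m = 0 := by
  unfold a
  rw [Nat.card_eq_zero]
  left
  exact ⟨fun g => h g.1 g.2⟩

theorem a_ne_zero (K : Type*) [Group K] [Finite K] (g : K) : a K (orderOf g) ≠ 0 := by
  unfold a
  haveI : Nonempty {x : K // orderOf x = orderOf g} := ⟨⟨g, rfl⟩⟩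
  exact Nat.card_pos.ne'

theorem frob (K : Type*) [Group K] [Finite K] (m : ℕ) (hm : m ∣ Nat.card K) : m ∣ b K m :=
  Cfsg.Agent.Lib.Helper7_FrobDiv.frobenius m hm

/-- the number of solutions as a sum over a chosen set of orders -/
theorem sum_a (K : Type*) [Group K] [Finite K] (m : ℕ) (hm : m ≠ 0) (S : Finset ℕ)
    (hS : ∀ d ∈ S, d ∣ m) (hcov : ∀ g : K, orderOf g ∣ m → orderOf g ∈ S) :
    b K m = ∑ d ∈ S, a K d := by
  rw [b_eq_sum K hm]
  symm
  apply Finset.sum_subset
  · intro d hd
    exact Nat.mem_divisors.mpr ⟨hS d hd, hm⟩
  · intro d hd hdS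
    apply a_eq_zero
    intro g hg
    apply hdS
    rw [← hg]
    apply hcov
    rw [hg]
    exact (Nat.mem_divisors.mp hd).1

/-- two elements of order at least 3 -/
theorem two_le_a (K : Type*) [Group K] [Finite K] (g : K) (hg : 3 ≤ orderOf g) :
    a K (orderOf g) ≠ 1 := by
  intro h
  unfold a at h
  rw [Nat.card_eq_one_iff_unique] at h
  obtain ⟨hs, _⟩ := h
  have : (⟨g, rfl⟩ : {x : K // orderOf x = orderOf g}) = ⟨g⁻¹, orderOf_inv g⟩ :=
    Subsingleton.elim _ _
  have h1 : g = g⁻¹ := congrArg Subtype.val this
  have h2 : g ^ 2 = 1 := by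
    rw [sq]
    nth_rewrite 2 [h1]
    exact mul_inv_cancel g
  have := Nat.le_of_dvd (by norm_num) (orderOf_dvd_of_pow_eq_one h2)
  omega

theorem L1 {K : Type*} [Group K] [Finite K] (n : ℕ)
    (hK : ∀ g : K, g ≠ 1 → a K (orderOf g) = n) : ∃ p : ℕ, p.Prime ∧ ∀ g : K, g ^ p = 1 := by
  classical
  by_cases htriv : Nat.card K = 1
  · refine ⟨2, Nat.prime_two, fun g => ?_⟩
    have : Subsingleton K := (Nat.card_eq_one_iff_unique.mp htriv).1
    exact Subsingleton.elim _ _
  have hval : ∀ m, m ≠ 1 → (∃ g : K, orderOf g = m) → a K m = n := by
    rintro m hm ⟨g, rfl⟩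
    exact hK g (fun h => hm (by rw [h, orderOf_one]))
  -- primes dividing |K|
  have hprime : ∀ r : ℕ, r.Prime → r ∣ Nat.card K → a K r = n ∧ r ∣ 1 + n := by
    intro r hr hdvd
    haveI : Fact r.Prime := ⟨hr⟩
    obtain ⟨g, hg⟩ := exists_prime_orderOf_dvd_card' r hdvd
    have h1 : a K r = n := hval r hr.one_lt.ne' ⟨g, hg⟩
    refine ⟨h1, ?_⟩
    have h2 := frob K r hdvd
    rw [sum_a K r hr.ne_zero {1, r} (by
        intro d hd
        rcases Finset.mem_insert.mp hd with rfl | hd
        · exact one_dvd _
        · rw [Finset.mem_singleton.mp hd]) (by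
        intro g hg
        rcases (Nat.dvd_prime hr).mp hg with h | h
        · rw [h]; simp
        · rw [h]; simp),
      Finset.sum_pair hr.one_lt.ne, a_one, h1] at h2
    exact h2
  -- every nontrivial element has prime order
  have hord : ∀ g : K, g ≠ 1 → (orderOf g).Prime := by
    intro g hg
    by_contra hnp
    have hm1 : orderOf g ≠ 1 := fun h => hg (orderOf_eq_one_iff.mp h)
    have hm0 : orderOf g ≠ 0 := (orderOf_pos g).ne'
    have hr : (orderOf g).minFac.Prime := Nat.minFac_prime hm1
    obtain ⟨k, hk⟩ := Nat.minFac_dvd (orderOf g)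
    have hk1 : k ≠ 1 := by
      rintro rfl
      rw [mul_one] at hk
      exact hnp (hk ▸ hr)
    have hr' : k.minFac.Prime := Nat.minFac_prime hk1
    obtain ⟨k', hk'⟩ := Nat.minFac_dvd k
    set r := (orderOf g).minFac with hrdef
    set r' := k.minFac with hrdef'
    have hd : r * r' ∣ orderOf g := ⟨k', by rw [hk, hk', mul_assoc]⟩
    have hx : orderOf (g ^ (orderOf g / (r * r'))) = r * r' := orderOf_pow_orderOf_div hm0 hd
    have hcard : r * r' ∣ Nat.card K := hx ▸ orderOf_dvd_natCard _
    obtain ⟨har, hrn⟩ := hprime r hr (dvd_trans (Dvd.intro _ rfl) hcard)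
    obtain ⟨har', hrn'⟩ := hprime r' hr' (dvd_trans (Dvd.intro_left _ rfl) hcard)
    have h2r := hr.two_le
    have h2r' := hr'.two_le
    have harr : a K (r * r') = n := hval _ (by nlinarith) ⟨_, hx⟩
    have hF := frob K (r * r') hcard
    by_cases hrr : r = r'
    · rw [← hrr] at hF harr
      have hS : b K (r * r) = ∑ d ∈ ({1, r, r * r} : Finset ℕ), a K d := by
        apply sum_a K (r * r) (mul_ne_zero hr.ne_zero hr.ne_zero)
        · intro d hd
          simp only [Finset.mem_insert, Finset.mem_singleton] at hd
          rcases hd with rfl | rfl | rfl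
          · exact one_dvd _
          · exact Dvd.intro _ rfl
          · exact dvd_rfl
        · intro y hy
          rw [← sq] at hy
          obtain ⟨i, hi, hyi⟩ := (Nat.dvd_prime_pow hr).mp hy
          simp only [Finset.mem_insert, Finset.mem_singleton]
          interval_cases i
          · left; simpa using hyi
          · right; left; simpa using hyi
          · right; right; rw [hyi, sq]
      rw [hS, Finset.sum_insert (by
          simp only [Finset.mem_insert, Finset.mem_singleton]
          rintro (h | h)
          · omega
          · nlinarith), Finset.sum_pair (by nlinarith), a_one, har, harr] at hF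
      have h3 : r ∣ 1 + (n + n) := dvd_trans (Dvd.intro _ rfl) hF
      have h4 : r ∣ n := by
        have := Nat.dvd_sub h3 hrn
        have e : 1 + (n + n) - (1 + n) = n := by omega
        rwa [e] at this
      have h5 : r ∣ 1 := by
        have := Nat.dvd_sub hrn h4
        have e : 1 + n - n = 1 := by omega
        rwa [e] at this
      have := Nat.le_of_dvd (by norm_num) h5
      omega
    · have hS : b K (r * r') = ∑ d ∈ ({1, r, r', r * r'} : Finset ℕ), a K d := by
        apply sum_a K (r * r') (mul_ne_zero hr.ne_zero hr'.ne_zero)
        · intro d hd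
          simp only [Finset.mem_insert, Finset.mem_singleton] at hd
          rcases hd with rfl | rfl | rfl | rfl
          · exact one_dvd _
          · exact Dvd.intro _ rfl
          · exact Dvd.intro_left _ rfl
          · exact dvd_rfl
        · intro y hy
          obtain ⟨d₁, d₂, h1, h2, h3⟩ := (Nat.dvd_mul).mp hy
          simp only [Finset.mem_insert, Finset.mem_singleton]
          rcases (Nat.dvd_prime hr).mp h1 with rfl | rfl <;>
            rcases (Nat.dvd_prime hr').mp h2 with rfl | rfl
          · left; rw [← h3]
          · right; right; left; rw [← h3, one_mul]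
          · right; left; rw [← h3, mul_one]
          · right; right; right; rw [← h3]
      rw [hS, Finset.sum_insert (by
          simp only [Finset.mem_insert, Finset.mem_singleton]
          rintro (h | h | h)
          · omega
          · omega
          · nlinarith), Finset.sum_insert (by
          simp only [Finset.mem_insert, Finset.mem_singleton]
          rintro (h | h)
          · exact hrr h
          · nlinarith), Finset.sum_pair (by nlinarith), a_one, har, har', harr] at hF
      have key : ∀ s : ℕ, s.Prime → s ∣ 1 + (n + (n + n)) → s ∣ 1 + n → s = 2 := by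
        intro s hs h3 h4
        have h5 : s ∣ 3 * (1 + n) := Dvd.dvd.mul_left h4 3
        have h6 : s ∣ 2 := by
          have := Nat.dvd_sub h5 h3
          have e : 3 * (1 + n) - (1 + (n + (n + n))) = 2 := by omega
          rwa [e] at this
        exact (Nat.prime_dvd_prime_iff_eq hs Nat.prime_two).mp h6
      have e1 := key r hr (dvd_trans (Dvd.intro _ rfl) hF) hrn
      have e2 := key r' hr' (dvd_trans (Dvd.intro_left _ rfl) hF) hrn'
      exact hrr (e1.trans e2.symm)
  -- only one prime divides |K|
  obtain ⟨p, hp, hpK⟩ := Nat.exists_prime_and_dvd htriv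
  refine ⟨p, hp, fun g => ?_⟩
  by_cases hg : g = 1
  · rw [hg, one_pow]
  have hq := hord g hg
  by_cases hqp : orderOf g = p
  · rw [← hqp]; exact pow_orderOf_eq_one g
  exfalso
  set q := orderOf g with hqdef
  have hqK : q ∣ Nat.card K := orderOf_dvd_natCard g
  obtain ⟨hap, hpn⟩ := hprime p hp hpK
  obtain ⟨haq, hqn⟩ := hprime q hq hqK
  have hcop : Nat.Coprime p q := (Nat.coprime_primes hp hq).mpr (fun h => hqp h.symm)
  have hpq : p * q ∣ Nat.card K := hcop.mul_dvd_of_dvd_of_dvd hpK hqK
  have hF := frob K (p * q) hpq
  have hS : b K (p * q) = ∑ d ∈ ({1, p, q} : Finset ℕ), a K d := by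
    apply sum_a K (p * q) (mul_ne_zero hp.ne_zero hq.ne_zero)
    · intro d hd
      simp only [Finset.mem_insert, Finset.mem_singleton] at hd
      rcases hd with rfl | rfl | rfl
      · exact one_dvd _
      · exact Dvd.intro _ rfl
      · exact Dvd.intro_left _ rfl
    · intro y hy
      simp only [Finset.mem_insert, Finset.mem_singleton]
      by_cases hy1 : y = 1
      · left; rw [hy1, orderOf_one]
      · have hyp := hord y hy1
        rcases (Nat.Prime.dvd_mul hyp).mp hy with h | h
        · right; left; exact (Nat.prime_dvd_prime_iff_eq hyp hp).mp h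
        · right; right; exact (Nat.prime_dvd_prime_iff_eq hyp hq).mp h
  have h2p := hp.two_le
  have h2q := hq.two_le
  rw [hS, Finset.sum_insert (by
      simp only [Finset.mem_insert, Finset.mem_singleton]
      rintro (h | h) <;> omega), Finset.sum_pair (fun h => hqp h.symm), a_one, hap, haq] at hF
  have h3 : p ∣ 1 + (n + n) := dvd_trans (Dvd.intro _ rfl) hF
  have h4 : p ∣ n := by
    have := Nat.dvd_sub h3 hpn
    have e : 1 + (n + n) - (1 + n) = n := by omega
    rwa [e] at this
  have h5 : p ∣ 1 := by
    have := Nat.dvd_sub hpn h4
    have e : 1 + n - n = 1 := by omega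
    rwa [e] at this
  have := Nat.le_of_dvd (by norm_num) h5
  omega

/-- Let G be a finite group such that the numbers of elements of each order that occurs in G (the numbers #{g : o(g) = m}, m ranging over the element orders of G) take exactly two values, 1 and some n ≠ 1. Then either G is a p-group of exponent p and order at least 3 for some prime p, or G is the quaternion group of order 8, or G is cyclic of order 4, or G ≅ Z₂ × P for a p-group P of exponent p with p an odd prime. -/
theorem result {G : Type*} [Group G] [Finite G] (n : ℕ) (hn : n ≠ 1) (h : ((fun m : ℕ => Nat.card {g : G // orderOf g = m}) '' Set.range (orderOf : G → ℕ)) = {1, n}) :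
    (∃ p : ℕ, p.Prime ∧ IsPGroup p G ∧ 3 ≤ Nat.card G ∧ Monoid.exponent G = p) ∨
      Nonempty (G ≃* QuaternionGroup 2) ∨ (IsCyclic G ∧ Nat.card G = 4) ∨
      (∃ (p : ℕ) (P : Type) (_ : Group P) (_ : Finite P), p.Prime ∧ p ≠ 2 ∧ IsPGroup p P ∧ Monoid.exponent P = p ∧
        Nonempty (G ≃* Multiplicative (ZMod 2) × P)) := by
  classical
  have hmem : ∀ g : G, a G (orderOf g) = 1 ∨ a G (orderOf g) = n := by
    intro g
    have hm : a G (orderOf g) ∈ ((fun m : ℕ => Nat.card {g : G // orderOf g = m}) ''
        Set.range (orderOf : G → ℕ)) := ⟨orderOf g, ⟨g, rfl⟩, rfl⟩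
    rw [h] at hm
    simpa using hm
  have hn_mem : n ∈ ((fun m : ℕ => Nat.card {g : G // orderOf g = m}) ''
      Set.range (orderOf : G → ℕ)) := by
    rw [h]; simp
  obtain ⟨m₀, ⟨g₀, rfl⟩, hg₀⟩ := hn_mem
  change a G (orderOf g₀) = n at hg₀
  have h3 : ∀ g : G, 3 ≤ orderOf g → a G (orderOf g) = n := by
    intro g hg
    rcases hmem g with h1 | h1
    · exact absurd h1 (two_le_a G g hg)
    · exact h1
  have hn0 : n ≠ 0 := hg₀ ▸ a_ne_zero G g₀
  have hg₀1 : g₀ ≠ 1 := by
    rintro rfl
    rw [orderOf_one, a_one] at hg₀
    exact hn hg₀.symm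
  have hg₀ord : orderOf g₀ ≠ 1 := fun h' => hg₀1 (orderOf_eq_one_iff.mp h')
  have hcardpos : Nat.card G ≠ 0 := Nat.card_pos.ne'
  have hle : 1 + n ≤ Nat.card G := by
    have e1 := b_eq_sum G hcardpos
    have e2 := Cfsg.Agent.S4377.b_of_card_dvd G (dvd_refl (Nat.card G))
    have hsub : ({1, orderOf g₀} : Finset ℕ) ⊆ (Nat.card G).divisors := by
      intro d hd
      simp only [Finset.mem_insert, Finset.mem_singleton] at hd
      rcases hd with rfl | rfl
      · exact Nat.one_mem_divisors.mpr hcardpos
      · exact Nat.mem_divisors.mpr ⟨orderOf_dvd_natCard g₀, hcardpos⟩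
    have := Finset.sum_le_sum_of_subset (f := a G) hsub
    rw [Finset.sum_pair (Ne.symm hg₀ord), a_one, hg₀, ← e1, e2] at this
    exact this
  have hcard3 : 3 ≤ Nat.card G := by omega
  by_cases h2 : a G 2 = 1
  · -- Case II : a unique involution
    right
    have h2' := h2
    unfold a at h2'
    rw [Nat.card_eq_one_iff_unique] at h2'
    obtain ⟨hsub, ⟨⟨z, hz⟩⟩⟩ := h2'
    have hzu : ∀ g : G, orderOf g = 2 → g = z := fun g hg =>
      congrArg Subtype.val (Subsingleton.elim (⟨g, hg⟩ : {g : G // orderOf g = 2}) ⟨z, hz⟩)
    have hz2 : z ^ 2 = 1 := hz ▸ pow_orderOf_eq_one z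
    have hzc : ∀ g : G, g * z = z * g := by
      intro g
      have h1 : orderOf (g * z * g⁻¹) = 2 := by
        rw [← hz]; exact (MulAut.conj g).orderOf_eq z
      have h2 := hzu _ h1
      calc g * z = (g * z * g⁻¹) * g := by group
        _ = z * g := by rw [h2]
    have hg₀3 : 3 ≤ orderOf g₀ := by
      have hpos := orderOf_pos g₀
      have : orderOf g₀ ≠ 2 := by
        intro h'
        rw [h', h2] at hg₀
        exact hn hg₀.symm
      omega
    by_cases h4 : 4 ∣ Nat.card G
    · -- IIa
      have hb4 : b G 4 = ∑ d ∈ ({1, 2, 4} : Finset ℕ), a G d := by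
        apply sum_a G 4 (by norm_num)
        · intro d hd
          simp only [Finset.mem_insert, Finset.mem_singleton] at hd
          rcases hd with rfl | rfl | rfl <;> norm_num
        · intro y hy
          have hle := Nat.le_of_dvd (by norm_num) hy
          have hpos := orderOf_pos y
          obtain ⟨k, hk⟩ : ∃ k, orderOf y = k := ⟨_, rfl⟩
          rw [hk] at hy hle hpos ⊢
          simp only [Finset.mem_insert, Finset.mem_singleton]
          interval_cases k <;> omega
      have hF4 := frob G 4 h4
      rw [hb4, Finset.sum_insert (by simp), Finset.sum_pair (by norm_num), a_one, h2] at hF4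
      have ha4 : a G 4 ≠ 0 := by
        intro h0
        rw [h0] at hF4
        omega
      obtain ⟨g4, hg4⟩ : ∃ g : G, orderOf g = 4 := by
        by_contra hne
        push Not at hne
        exact ha4 (a_eq_zero G 4 hne)
      have ha4n : a G 4 = n := by
        have := h3 g4 (by omega)
        rwa [hg4] at this
      rw [ha4n] at hF4
      -- no elements of order 8
      have no8 : ∀ g : G, ¬ 8 ∣ orderOf g := by
        intro g hg
        have hx : orderOf (g ^ (orderOf g / 8)) = 8 :=
          orderOf_pow_orderOf_div (orderOf_pos g).ne' hg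
        have h8 : 8 ∣ Nat.card G := hx ▸ orderOf_dvd_natCard _
        have ha8 : a G 8 = n := by
          have := h3 (g ^ (orderOf g / 8)) (by omega)
          rwa [hx] at this
        have hb8 : b G 8 = ∑ d ∈ ({1, 2, 4, 8} : Finset ℕ), a G d := by
          apply sum_a G 8 (by norm_num)
          · intro d hd
            simp only [Finset.mem_insert, Finset.mem_singleton] at hd
            rcases hd with rfl | rfl | rfl | rfl <;> norm_num
          · intro y hy
            have hle := Nat.le_of_dvd (by norm_num) hy
            have hpos := orderOf_pos y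
            obtain ⟨k, hk⟩ : ∃ k, orderOf y = k := ⟨_, rfl⟩
            rw [hk] at hy hle hpos ⊢
            simp only [Finset.mem_insert, Finset.mem_singleton]
            interval_cases k <;> omega
        have hF8 := frob G 8 h8
        rw [hb8, Finset.sum_insert (by simp), Finset.sum_insert (by simp),
          Finset.sum_pair (by norm_num), a_one, h2, ha4n, ha8] at hF8
        omega
      -- only the prime 2
      have honly : ∀ p : ℕ, p.Prime → p ∣ Nat.card G → p = 2 := by
        intro p hp hpG
        by_contra hp2
        have hp3 : 3 ≤ p := by have := hp.two_le; omega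
        have hp4 : p ≠ 4 := by rintro rfl; norm_num at hp
        haveI : Fact p.Prime := ⟨hp⟩
        obtain ⟨y, hy⟩ := exists_prime_orderOf_dvd_card' p hpG
        have hap : a G p = n := by
          have := h3 y (by omega)
          rwa [hy] at this
        have hbp : b G p = ∑ d ∈ ({1, p} : Finset ℕ), a G d := by
          apply sum_a G p hp.ne_zero
          · intro d hd
            rcases Finset.mem_insert.mp hd with rfl | hd
            · exact one_dvd _
            · rw [Finset.mem_singleton.mp hd]
          · intro g hg
            rcases (Nat.dvd_prime hp).mp hg with h' | h'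
            · rw [h']; simp
            · rw [h']; simp
        have hFp := frob G p hpG
        rw [hbp, Finset.sum_pair hp.one_lt.ne, a_one, hap] at hFp
        have hcop2 : Nat.Coprime 2 p := (Nat.coprime_primes Nat.prime_two hp).mpr (Ne.symm hp2)
        have hzy : orderOf (z * y) = 2 * p := by
          have := Commute.orderOf_mul_eq_mul_orderOf_of_coprime
            (show Commute z y from (hzc y).symm) (by rw [hz, hy]; exact hcop2)
          rwa [hz, hy] at this
        have ha2p : a G (2 * p) = n := by
          have := h3 (z * y) (by omega)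
          rwa [hzy] at this
        have hcop4 : Nat.Coprime 4 p := by
          have := Nat.Coprime.pow_left 2 hcop2
          norm_num at this
          exact this
        have h4p : 4 * p ∣ Nat.card G := hcop4.mul_dvd_of_dvd_of_dvd h4 hpG
        have hb4p : b G (4 * p) = ∑ d ∈ ({1, 2, 4, p, 2 * p, 4 * p} : Finset ℕ), a G d := by
          apply sum_a G (4 * p) (by omega)
          · intro d hd
            simp only [Finset.mem_insert, Finset.mem_singleton] at hd
            rcases hd with rfl | rfl | rfl | rfl | rfl | rfl
            · exact one_dvd _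
            · exact ⟨2 * p, by ring⟩
            · exact Dvd.intro _ rfl
            · exact Dvd.intro_left _ rfl
            · exact ⟨2, by ring⟩
            · exact dvd_rfl
          · intro w hw
            obtain ⟨d₁, d₂, h1, h2', h3'⟩ := (Nat.dvd_mul).mp hw
            simp only [Finset.mem_insert, Finset.mem_singleton]
            have hd1 : d₁ = 1 ∨ d₁ = 2 ∨ d₁ = 4 := by
              have hle := Nat.le_of_dvd (by norm_num) h1
              have hpos : 0 < d₁ := Nat.pos_of_dvd_of_pos h1 (by norm_num)
              interval_cases d₁ <;> omega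
            rcases (Nat.dvd_prime hp).mp h2' with rfl | rfl <;> rcases hd1 with rfl | rfl | rfl
            · left; rw [← h3']
            · right; left; rw [← h3']
            · right; right; left; rw [← h3']
            · right; right; right; left; rw [← h3', one_mul]
            · right; right; right; right; left; rw [← h3']
            · right; right; right; right; right; rw [← h3']
        have hF := frob G (4 * p) h4p
        rw [hb4p, Finset.sum_insert (by
            simp only [Finset.mem_insert, Finset.mem_singleton]; omega),
          Finset.sum_insert (by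
            simp only [Finset.mem_insert, Finset.mem_singleton]; omega),
          Finset.sum_insert (by
            simp only [Finset.mem_insert, Finset.mem_singleton]; omega),
          Finset.sum_insert (by
            simp only [Finset.mem_insert, Finset.mem_singleton]; omega),
          Finset.sum_pair (by omega), a_one, h2, ha4n, hap, ha2p] at hF
        have hpF : p ∣ 1 + (1 + (n + (n + (n + a G (4 * p))))) :=
          dvd_trans (Dvd.intro_left _ rfl) hF
        by_cases h4pe : ∃ g : G, orderOf g = 4 * p
        · obtain ⟨w, hw⟩ := h4pe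
          have hthis : a G (4 * p) = n := by
            have := h3 w (by omega)
            rwa [hw] at this
          rw [hthis] at hpF
          have h5 : p ∣ 4 * (1 + n) := Dvd.dvd.mul_left hFp 4
          have h6 : p ∣ 2 := by
            have := Nat.dvd_sub h5 hpF
            have e : 4 * (1 + n) - (1 + (1 + (n + (n + (n + n))))) = 2 := by omega
            rwa [e] at this
          have := Nat.le_of_dvd (by norm_num) h6
          omega
        · push Not at h4pe
          rw [a_eq_zero G _ h4pe] at hpF
          have h5 : p ∣ 3 * (1 + n) := Dvd.dvd.mul_left hFp 3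
          have h6 : p ∣ 1 := by
            have := Nat.dvd_sub h5 hpF
            have e : 3 * (1 + n) - (1 + (1 + (n + (n + (n + 0))))) = 1 := by omega
            rwa [e] at this
          have := Nat.le_of_dvd (by norm_num) h6
          omega
      have hpow2 : Nat.card G = 2 ^ (Nat.card G).primeFactorsList.length :=
        Nat.eq_prime_pow_of_unique_prime_dvd hcardpos (fun {d} hd hdG => honly d hd hdG)
      have hPG : IsPGroup 2 G := IsPGroup.of_card hpow2
      have huniq : ∀ H K : Subgroup G, Nat.card H = 2 → Nat.card K = 2 → H = K := by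
        have key : ∀ H : Subgroup G, Nat.card H = 2 → H = Subgroup.zpowers z := by
          intro H hH
          have hex : ∃ g ∈ H, g ≠ 1 := by
            by_contra hne
            push Not at hne
            have : H = ⊥ := (Subgroup.eq_bot_iff_forall _).mpr hne
            rw [this, Subgroup.card_bot] at hH
            omega
          obtain ⟨g, hgH, hg1⟩ := hex
          have hg2 : orderOf g = 2 := by
            have hd : orderOf g ∣ 2 := by
              rw [← hH]; exact Subgroup.orderOf_dvd_natCard H hgH
            rcases (Nat.dvd_prime Nat.prime_two).mp hd with h' | h'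
            · exact absurd (orderOf_eq_one_iff.mp h') hg1
            · exact h'
          have hgz := hzu g hg2
          symm
          apply Subgroup.eq_of_le_of_card_ge
          · rw [Subgroup.zpowers_le]; exact hgz ▸ hgH
          · rw [hH, Nat.card_zpowers, hz]
        intro H K hH hK
        rw [key H hH, key K hK]
      have card4 : ¬ 8 ∣ Nat.card G → Nat.card G = 4 := by
        intro h8
        rw [hpow2] at h8 h4 ⊢
        generalize (Nat.card G).primeFactorsList.length = j at *
        rcases Nat.lt_or_ge j 3 with hj | hj
        · interval_cases j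
          · norm_num at h4
          · norm_num at h4
          · norm_num
        · exact absurd (pow_dvd_pow 2 hj) h8
      haveI : Fact (Nat.Prime 2) := ⟨Nat.prime_two⟩
      rcases Cfsg.Agent.S0016.result 2 hPG huniq with hcyc | ⟨_, k, ⟨e⟩⟩
      · right; left
        refine ⟨hcyc, ?_⟩
        obtain ⟨g, hg⟩ := hcyc.exists_generator
        have hord : orderOf g = Nat.card G := orderOf_eq_card_of_forall_mem_zpowers hg
        have hno := no8 g
        rw [hord] at hno
        exact card4 hno
      · have hcardQ : Nat.card G = 4 * 2 ^ k := by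
          rw [Nat.card_congr e.toEquiv, Nat.card_eq_fintype_card, QuaternionGroup.card]
        have hordA : orderOf (e.symm (QuaternionGroup.a 1)) = 2 * 2 ^ k := by
          rw [MulEquiv.orderOf_eq, QuaternionGroup.orderOf_a_one]
        have hno := no8 (e.symm (QuaternionGroup.a 1))
        rw [hordA] at hno
        have hk : k ≤ 1 := by
          by_contra hk
          push Not at hk
          apply hno
          obtain ⟨j, rfl⟩ := Nat.exists_eq_add_of_le hk
          exact ⟨2 ^ j, by ring⟩
        interval_cases k
        · right; left
          have hc4 : Nat.card G = 4 := by simpa using hcardQ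
          exact ⟨isCyclic_of_orderOf_eq_card g4 (by rw [hg4, hc4]), hc4⟩
        · left
          exact ⟨e⟩
    · -- IIb
      right; right
      have hNn : (Subgroup.zpowers z).Normal := by
        refine ⟨fun x hx g => ?_⟩
        obtain ⟨k, rfl⟩ := Subgroup.mem_zpowers_iff.mp hx
        have hc : Commute g (z ^ k) := (show Commute g z from hzc g).zpow_right k
        rw [hc.eq, mul_inv_cancel_right]
        exact Subgroup.zpow_mem_zpowers z k
      have hNcard : Nat.card (Subgroup.zpowers z) = 2 := by rw [Nat.card_zpowers, hz]
      have hidx : Nat.card G = 2 * (Subgroup.zpowers z).index := by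
        rw [← hNcard]; exact (Subgroup.card_mul_index _).symm
      have hoddidx : Odd (Subgroup.zpowers z).index := by
        by_contra hodd
        rw [Nat.not_odd_iff_even] at hodd
        obtain ⟨t, ht⟩ := hodd
        apply h4
        rw [hidx, ht]
        exact ⟨t, by ring⟩
      have hcop : Nat.Coprime (Nat.card (Subgroup.zpowers z)) (Subgroup.zpowers z).index := by
        rw [hNcard]; exact Nat.coprime_two_left.mpr hoddidx
      obtain ⟨K, hK⟩ := Subgroup.exists_right_complement'_of_coprime hcop
      have hcomm : ∀ (x : Subgroup.zpowers z) (y : K),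
          Commute ((Subgroup.zpowers z).subtype x) (K.subtype y) := by
        intro x y
        obtain ⟨k, hk⟩ := Subgroup.mem_zpowers_iff.mp x.2
        show Commute (x : G) (y : G)
        rw [← hk]
        exact ((show Commute (y : G) z from hzc y).zpow_right k).symm
      let φ : Subgroup.zpowers z × K →* G :=
        MonoidHom.noncommCoprod (Subgroup.zpowers z).subtype K.subtype hcomm
      have hφ : Function.Bijective φ := hK
      let ψ : Subgroup.zpowers z × K ≃* G := MulEquiv.ofBijective φ hφ
      have hψ : ∀ x : Subgroup.zpowers z × K, ψ x = (x.1 : G) * (x.2 : G) := fun x => rfl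
      have hKcard : Nat.card K = (Subgroup.zpowers z).index := by
        have h1 := Nat.card_congr ψ.toEquiv
        rw [Nat.card_prod, hNcard, hidx] at h1
        omega
      have hoddK : ∀ g : G, Odd (orderOf g) → g ∈ K := by
        intro g hg
        have h1 : orderOf (ψ.symm g) = orderOf g := MulEquiv.orderOf_eq ψ.symm g
        rw [Prod.orderOf] at h1
        have h2 : orderOf (ψ.symm g).1 ∣ 2 := by
          rw [← hNcard]; exact orderOf_dvd_natCard _
        have h3' : orderOf (ψ.symm g).1 ∣ orderOf g := by
          rw [← h1]; exact Nat.dvd_lcm_left _ _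
        have h4' : orderOf (ψ.symm g).1 = 1 := by
          rcases (Nat.dvd_prime Nat.prime_two).mp h2 with h' | h'
          · exact h'
          · exfalso
            rw [h'] at h3'
            exact (Nat.not_even_iff_odd.mpr hg) (even_iff_two_dvd.mpr h3')
        have h5 : (ψ.symm g).1 = 1 := orderOf_eq_one_iff.mp h4'
        have h6 : g = ψ (ψ.symm g) := (ψ.apply_symm_apply g).symm
        rw [h6, hψ, h5]
        simp
      have hKodd : ∀ g : K, Odd (orderOf g) := by
        intro g
        have : orderOf g ∣ (Subgroup.zpowers z).index := by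
          rw [← hKcard]; exact orderOf_dvd_natCard g
        exact Odd.of_dvd_nat hoddidx this
      have haK : ∀ g : K, g ≠ 1 → a K (orderOf g) = n := by
        intro g hg
        have hoddg := hKodd g
        have hg1 : orderOf g ≠ 1 := fun h' => hg (orderOf_eq_one_iff.mp h')
        have h3g : 3 ≤ orderOf (g : G) := by
          rw [Subgroup.orderOf_coe]
          obtain ⟨t, ht⟩ := hoddg
          omega
        have hthis := h3 (g : G) h3g
        rw [Subgroup.orderOf_coe] at hthis
        rw [← hthis]
        unfold a
        apply Nat.card_congr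
        exact
          { toFun := fun x => ⟨(x.1 : G), by rw [Subgroup.orderOf_coe]; exact x.2⟩
            invFun := fun x => ⟨⟨x.1, hoddK x.1 (by rw [x.2]; exact hoddg)⟩, by
              rw [← Subgroup.orderOf_coe]; exact x.2⟩
            left_inv := fun x => rfl
            right_inv := fun x => rfl }
      obtain ⟨p, hp, hpow⟩ := L1 n haK
      have hK3 : 3 ≤ Nat.card K := by
        rw [hKcard]
        obtain ⟨t, ht⟩ := hoddidx
        omega
      haveI : Nontrivial K := (Finite.one_lt_card_iff_nontrivial).mp (by omega)
      obtain ⟨k₀, hk₀⟩ := exists_ne (1 : K)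
      have hk₀ord : orderOf k₀ = p := by
        have hd : orderOf k₀ ∣ p := orderOf_dvd_of_pow_eq_one (hpow k₀)
        rcases (Nat.dvd_prime hp).mp hd with h' | h'
        · exact absurd (orderOf_eq_one_iff.mp h') hk₀
        · exact h'
      have hp2 : p ≠ 2 := by
        intro h'
        have := hKodd k₀
        rw [hk₀ord, h'] at this
        exact absurd this (by decide)
      let eK : Wrap (Nat.card K) ≃ K := (wrapEquiv _).trans (Finite.equivFin K).symm
      letI iG : Group (Wrap (Nat.card K)) := eK.group
      let eM : Wrap (Nat.card K) ≃* K := eK.mulEquiv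
      have hpowP : ∀ x : Wrap (Nat.card K), x ^ p = 1 := by
        intro x
        apply eM.injective
        rw [map_pow, hpow, map_one]
      refine ⟨p, Wrap (Nat.card K), iG, inferInstance, hp, hp2, ?_, ?_, ?_⟩
      · intro x
        exact ⟨1, by rw [pow_one]; exact hpowP x⟩
      · have hdvd : Monoid.exponent (Wrap (Nat.card K)) ∣ p :=
          Monoid.exponent_dvd_of_forall_pow_eq_one hpowP
        rcases (Nat.dvd_prime hp).mp hdvd with h1 | h1
        · exfalso
          have h' := Monoid.pow_exponent_eq_one (eM.symm k₀)
          rw [h1, pow_one] at h'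
          apply hk₀
          have := congrArg eM h'
          rwa [eM.apply_symm_apply, map_one] at this
        · exact h1
      · have e1 : Subgroup.zpowers z ≃* Multiplicative (ZMod 2) :=
          mulEquivOfPrimeCardEq (p := 2) hNcard (by
            rw [Nat.card_eq_fintype_card, Fintype.card_multiplicative, ZMod.card])
        exact ⟨ψ.symm.trans (MulEquiv.prodCongr e1 eM.symm)⟩
  · -- Case I
    left
    have hall : ∀ g : G, g ≠ 1 → a G (orderOf g) = n := by
      intro g hg
      have h1 : orderOf g ≠ 1 := fun h' => hg (orderOf_eq_one_iff.mp h')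
      have h0 : 0 < orderOf g := orderOf_pos g
      by_cases hg2 : orderOf g = 2
      · rcases hmem g with h' | h'
        · rw [hg2] at h'; exact absurd h' h2
        · exact h'
      · exact h3 g (by omega)
    obtain ⟨p, hp, hpow⟩ := L1 n hall
    refine ⟨p, hp, fun g => ⟨1, by rw [pow_one]; exact hpow g⟩, hcard3, ?_⟩
    have hdvd : Monoid.exponent G ∣ p := Monoid.exponent_dvd_of_forall_pow_eq_one hpow
    rcases (Nat.dvd_prime hp).mp hdvd with h1 | h1
    · exfalso
      have h' := Monoid.pow_exponent_eq_one g₀
      rw [h1, pow_one] at h'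
      exact hg₀1 h'
    · exact h1

end Cfsg.Agent.S3995
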