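import Cfsg.Statements.S3997
import Mathlib

set_option autoImplicit false
open Cfsg

namespace Cfsg.Agent.S3997

/-- Counting elements with order in a finite set `T` fibrewise. -/
theorem card_order_mem {G : Type*} [Group G] [Finite G] (T : Finset ℕ) :
    Nat.card {g : G // orderOf g ∈ T} = ∑ m ∈ T, Nat.card {g : G // orderOf g = m} := by
  classical
  have := Fintype.ofFinite G
  simp only [Nat.card_eq_fintype_card, Fintype.card_subtype]
  rw [Finset.card_eq_sum_card_fiberwise (f := orderOf) (t := T)]
  · apply Finset.sum_congr rfl
    intro m hm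
    congr 1
    ext g
    simp only [Finset.mem_filter, Finset.mem_univ, true_and]
    constructor
    · rintro ⟨_, h⟩; exact h
    · intro h; exact ⟨h ▸ hm, h⟩
  · intro g hg
    simpa using hg

theorem card_order_mem_eq {G H : Type*} [Group G] [Finite G] [Group H] [Finite H]
    (hT : (∀ m : ℕ, Nat.card {g : G // orderOf g = m} = Nat.card {h : H // orderOf h = m}))
    (T : Finset ℕ) :
    Nat.card {g : G // orderOf g ∈ T} = Nat.card {h : H // orderOf h ∈ T} := by
  rw [card_order_mem, card_order_mem]
  exact Finset.sum_congr rfl (fun m _ => hT m)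

theorem card_eq {G H : Type*} [Group G] [Finite G] [Group H] [Finite H]
    (hT : (∀ m : ℕ, Nat.card {g : G // orderOf g = m} = Nat.card {h : H // orderOf h = m})) :
    Nat.card G = Nat.card H := by
  have key := card_order_mem_eq hT (Finset.range (Nat.card G + Nat.card H + 1))
  have h1 : Nat.card {g : G // orderOf g ∈ Finset.range (Nat.card G + Nat.card H + 1)}
      = Nat.card G := by
    apply Nat.card_congr
    apply Equiv.subtypeUnivEquiv
    intro g
    rw [Finset.mem_range]
    have := orderOf_le_card (x := g)
    omega
  have h2 : Nat.card {g : H // orderOf g ∈ Finset.range (Nat.card G + Nat.card H + 1)}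
      = Nat.card H := by
    apply Nat.card_congr
    apply Equiv.subtypeUnivEquiv
    intro g
    rw [Finset.mem_range]
    have := orderOf_le_card (x := g)
    omega
  exact h1.symm.trans (key.trans h2)

/-- Let G and H be finite groups with the same order type: for every m they have the same number of elements of order m. If G is nilpotent then so is H. -/
theorem result {G H : Type*} [Group G] [Finite G] [Group H] [Finite H] (hT : (∀ m : ℕ, Nat.card {g : G // orderOf g = m} = Nat.card {h : H // orderOf h = m})) (hG : Group.IsNilpotent G) :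
    Group.IsNilpotent H := by
  have hcard := card_eq hT
  apply ((Group.isNilpotent_of_finite_tfae (G := H)).out 0 3).mpr
  intro p hp Q
  obtain ⟨P⟩ : Nonempty (Sylow p G) := inferInstance
  have hPn : (P : Subgroup G).Normal := inferInstance
  set D := p ^ (Nat.card G).factorization p with hD
  have hDpos : D ≠ 0 := pow_ne_zero _ hp.out.ne_zero
  have hPcard : Nat.card P = D := P.card_eq_multiplicity
  have hQcard : Nat.card Q = D := by rw [Q.card_eq_multiplicity, ← hcard]
  -- in G, elements of order dividing D are exactly P
  have hGset : ∀ g : G, orderOf g ∈ D.divisors ↔ g ∈ (P : Subgroup G) := by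
    intro g
    rw [Nat.mem_divisors]
    constructor
    · rintro ⟨hdvd, _⟩
      obtain ⟨k, _, hk⟩ := (Nat.dvd_prime_pow hp.out).1 hdvd
      have h1 : IsPGroup p (Subgroup.zpowers g) := by
        apply IsPGroup.of_card (n := k)
        rw [Nat.card_zpowers, hk]
      have h2 : IsPGroup p (Subgroup.zpowers g ⊔ (P : Subgroup G) : Subgroup G) :=
        h1.to_sup_of_normal_right P.isPGroup'
      have h3 : Subgroup.zpowers g ⊔ (P : Subgroup G) = P := P.is_maximal' h2 le_sup_right
      rw [← h3]
      exact (le_sup_left : Subgroup.zpowers g ≤ _) (Subgroup.mem_zpowers g)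
    · intro hg
      refine ⟨?_, hDpos⟩
      rw [← hPcard]
      exact Subgroup.orderOf_dvd_natCard _ hg
  have hGc : Nat.card {g : G // orderOf g ∈ D.divisors} = D := by
    have := Nat.card_congr (Equiv.subtypeEquivRight hGset)
    exact this.trans hPcard
  have hHc : Nat.card {h : H // orderOf h ∈ D.divisors} = D := by
    rw [← card_order_mem_eq hT]; exact hGc
  -- in H, Q ⊆ that set and same cardinality
  have hsub : ((Q : Subgroup H) : Set H) ⊆ {h : H | orderOf h ∈ D.divisors} := by
    intro h hh
    rw [Set.mem_ofPred_eq, Nat.mem_divisors]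
    refine ⟨?_, hDpos⟩
    rw [← hQcard]
    exact Subgroup.orderOf_dvd_natCard _ hh
  have hseteq : ((Q : Subgroup H) : Set H) = {h : H | orderOf h ∈ D.divisors} := by
    apply Set.eq_of_subset_of_ncard_le hsub _ (Set.toFinite _)
    rw [← Nat.card_coe_set_eq, ← Nat.card_coe_set_eq]
    have : Nat.card ↥{h : H | orderOf h ∈ D.divisors} = D := hHc
    rw [this]
    have : Nat.card ↥((Q : Subgroup H) : Set H) = D := hQcard
    rw [this]
  constructor
  intro n hn g
  have hn' : n ∈ ((Q : Subgroup H) : Set H) := hn
  rw [hseteq, Set.mem_ofPred_eq] at hn'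
  have : g * n * g⁻¹ ∈ ((Q : Subgroup H) : Set H) := by
    rw [hseteq, Set.mem_ofPred_eq]
    have : orderOf (g * n * g⁻¹) = orderOf n := by
      have hsc : SemiconjBy g n (g * n * g⁻¹) := by
        unfold SemiconjBy; simp
      exact (hsc.orderOf_eq g).symm
    rw [this]; exact hn'
  exact this

end Cfsg.Agent.S3997
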