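import Cfsg.Statements.S4002
import Mathlib
import Cfsg.Agent.S3633

set_option autoImplicit false
open Cfsg

namespace Cfsg.Agent.S4002

/-- For `n ≥ 7` there are three primes `p < q < r ≤ n` with `p q > n`. -/
theorem three_primes (n : ℕ) (hn : 7 ≤ n) :
    ∃ p q r : ℕ, p.Prime ∧ q.Prime ∧ r.Prime ∧ p < q ∧ q < r ∧ r ≤ n ∧ n < p * q := by
  by_cases h1 : n < 15
  · exact ⟨3, 5, 7, by norm_num, by norm_num, by norm_num, by norm_num, by norm_num, hn, by omega⟩
  by_cases h2 : n < 35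
  · exact ⟨5, 7, 11, by norm_num, by norm_num, by norm_num, by norm_num, by norm_num, by omega,
      by omega⟩
  by_cases h3 : n < 77
  · exact ⟨7, 11, 13, by norm_num, by norm_num, by norm_num, by norm_num, by norm_num, by omega,
      by omega⟩
  obtain ⟨r, hr, hr1, hr2⟩ := Nat.exists_prime_lt_and_le_two_mul (n / 2) (by omega)
  obtain ⟨q, hq, hq1, hq2⟩ := Nat.exists_prime_lt_and_le_two_mul ((r - 1) / 2) (by omega)
  obtain ⟨p, hp, hp1, hp2⟩ := Nat.exists_prime_lt_and_le_two_mul ((q - 1) / 2) (by omega)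
  refine ⟨p, q, r, hp, hq, hr, by omega, by omega, by omega, ?_⟩
  have e1 : n + 1 ≤ 4 * q := by omega
  have e2 : q ≤ 2 * p := by omega
  have e3 : q * q ≤ 2 * p * q := by nlinarith
  have e4 : (n + 1) * (n + 1) ≤ 16 * (q * q) := by nlinarith
  nlinarith

/-- If the set of element orders of a finite group G is {1, 2, …, n} with n ≥ 7, then G is not solvable. -/
theorem result {G : Type*} [Group G] [Finite G] (n : ℕ) (hn : 7 ≤ n) (h : Set.range (orderOf : G → ℕ) = {k : ℕ | 1 ≤ k ∧ k ≤ n}) : ¬ Group.IsSolvable G := by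
  classical
  obtain ⟨p, q, r, hp, hq, hr, hpq, hqr, hrn, hnpq⟩ := three_primes n hn
  have hex : ∀ k, 1 ≤ k → k ≤ n → ∃ g : G, orderOf g = k := by
    intro k h1 h2
    have : k ∈ {k : ℕ | 1 ≤ k ∧ k ≤ n} := ⟨h1, h2⟩
    rw [← h] at this; exact this
  have hno : ∀ k, n < k → ¬ ∃ g : G, orderOf g = k := by
    rintro k hk ⟨g, hg⟩
    have : orderOf g ∈ Set.range (orderOf : G → ℕ) := ⟨g, rfl⟩
    rw [h] at this
    have := this.2; omega
  have hdvd : ∀ k, k.Prime → k ≤ n → k ∣ Nat.card G := by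
    intro k hk hkn
    obtain ⟨g, hg⟩ := hex k hk.one_lt.le hkn
    rw [← hg]; exact orderOf_dvd_natCard g
  have hcard : 3 ≤ ({p, q, r} : Finset ℕ).card := by
    have : ({p, q, r} : Finset ℕ).card = 3 := by
      rw [Finset.card_eq_three]
      exact ⟨p, q, r, ne_of_lt hpq, ne_of_lt (hpq.trans hqr), ne_of_lt hqr, rfl⟩
    omega
  have hmem : ∀ x ∈ ({p, q, r} : Finset ℕ), x = p ∨ x = q ∨ x = r := by
    intro x hx
    simpa using hx
  have hsolv : Group.IsSolvable (⊥ : Subgroup G) := inferInstance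
  refine (Cfsg.Agent.S3633.result ({p, q, r} : Finset ℕ) hcard ⟨?_, ?_⟩ ⊥ hsolv).2
  · intro x hx
    rcases hmem x hx with rfl | rfl | rfl
    · exact ⟨hp, hdvd _ hp (by omega)⟩
    · exact ⟨hq, hdvd _ hq (by omega)⟩
    · exact ⟨hr, hdvd _ hr hrn⟩
  · intro x hx y hy hxy
    apply hno
    rcases hmem x hx with rfl | rfl | rfl <;> rcases hmem y hy with rfl | rfl | rfl
    · exact absurd rfl hxy
    · exact hnpq
    · nlinarith
    · rw [mul_comm]; exact hnpq
    · exact absurd rfl hxy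
    · nlinarith
    · nlinarith
    · nlinarith
    · exact absurd rfl hxy

end Cfsg.Agent.S4002
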