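import Cfsg.Statements.S4005
import Mathlib

set_option autoImplicit false
open Cfsg

namespace Cfsg.Agent.S4005

section basics
variable {G : Type*} [Group G]

theorem inv_of_sq {s : G} (hs : s ^ 2 = 1) : s⁻¹ = s := by
  rw [pow_two] at hs; exact inv_eq_of_mul_eq_one_left hs

theorem comm_of_sq (H : Subgroup G) (hH : ∀ x ∈ H, x ^ 2 = 1) {x y : G} (hx : x ∈ H)
    (hy : y ∈ H) : x * y = y * x := by
  have h1 := hH _ (H.mul_mem hx hy)
  have hx' := inv_of_sq (hH x hx)
  have hy' := inv_of_sq (hH y hy)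
  have h2 : (x * y)⁻¹ = x * y := inv_of_sq h1
  rw [mul_inv_rev, hx', hy'] at h2
  exact h2.symm

/-- A nine-term identity in a commutative group. -/
theorem nine {M : Type*} [CommGroup M] (t0 t1 t2 t3 t4 t5 t6 t7 t8 : M)
    (T0 : t0 * t1 * t2 = 1) (T1 : t3 * t4 * t5 = 1) (T2 : t6 * t7 * t8 = 1)
    (A : t0 * t3 * t6 = 1) (C : t0 * t4 * t8 = 1) (D : t0 * t5 * t7 = 1) (h2 : t0 * t0 = 1) :
    t0 = 1 := by
  have h9 : t0 * t1 * t2 * (t3 * t4 * t5) * (t6 * t7 * t8) = 1 := by rw [T0, T1, T2]; simp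
  have h12 : (t0 * t3 * t6) * (t0 * t4 * t8) * (t0 * t5 * t7) * (t0 * t1 * t2) = 1 := by
    rw [A, C, D, T0]; simp
  have e : (t0 * t3 * t6) * (t0 * t4 * t8) * (t0 * t5 * t7) * (t0 * t1 * t2) =
      (t0 * t0) * t0 * (t0 * t1 * t2 * (t3 * t4 * t5) * (t6 * t7 * t8)) := by ac_rfl
  rw [e, h9, h2, one_mul, mul_one] at h12
  exact h12

variable (hord : ∀ g : G, orderOf g = 1 ∨ orderOf g = 2 ∨ orderOf g = 3)

include hord in
theorem no6 {x y : G} (hx : orderOf x = 2) (hy : orderOf y = 3) (hc : x * y = y * x) : False := by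
  have h := Commute.orderOf_mul_eq_mul_orderOf_of_coprime (show Commute x y from hc)
    (by rw [hx, hy]; norm_num)
  rw [hx, hy] at h
  rcases hord (x * y) with h' | h' | h' <;> omega

include hord in
theorem sq_of_comm {s g : G} (hs : s ^ 2 = 1) (hs1 : s ≠ 1) (hc : s * g = g * s) : g ^ 2 = 1 := by
  haveI : Fact (Nat.Prime 2) := ⟨Nat.prime_two⟩
  have hos : orderOf s = 2 := orderOf_eq_prime hs hs1
  rcases hord g with h | h | h
  · rw [orderOf_eq_one_iff] at h; rw [h, one_pow]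
  · rw [← h]; exact pow_orderOf_eq_one g
  · exact (no6 hord hos h hc).elim

include hord in
theorem cube_of_not_comm {s t : G} (hs : s ^ 2 = 1) (ht : t ^ 2 = 1) (hc : s * t ≠ t * s) :
    (s * t) ^ 3 = 1 := by
  rcases hord (s * t) with h | h | h
  · exfalso
    rw [orderOf_eq_one_iff] at h
    have : s = t := by rw [← inv_of_sq ht]; exact eq_inv_of_mul_eq_one_left h
    apply hc; rw [this]
  · exfalso
    have h1 : (s * t) ^ 2 = 1 := by rw [← h]; exact pow_orderOf_eq_one _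
    have h2 := inv_of_sq h1
    rw [mul_inv_rev, inv_of_sq hs, inv_of_sq ht] at h2
    exact hc h2.symm
  · rw [← h]; exact pow_orderOf_eq_one _

theorem braid {s t : G} (hs : s ^ 2 = 1) (ht : t ^ 2 = 1) (h : (s * t) ^ 3 = 1) :
    t * s * t = s * t * s := by
  have h3 : s * t * s * (t * s * t) = 1 := by
    rw [← h]; simp only [pow_succ, pow_zero, one_mul, mul_assoc]
  have := inv_eq_of_mul_eq_one_right h3
  rw [← this, mul_inv_rev, mul_inv_rev, inv_of_sq hs, inv_of_sq ht, mul_assoc]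

include hord in
/-- If two distinct involutions commute, every involution commutes with the first. -/
theorem allcomm {s₁ s₂ : G} (h1 : s₁ ^ 2 = 1) (h2 : s₂ ^ 2 = 1) (h11 : s₁ ≠ 1) (h21 : s₂ ≠ 1)
    (hne : s₁ ≠ s₂) (hc : s₁ * s₂ = s₂ * s₁) {t : G} (ht : t ^ 2 = 1) : s₁ * t = t * s₁ := by
  by_contra hn
  have i1 : s₁ * s₁ = 1 := by rw [← pow_two]; exact h1
  have i2 : s₂ * s₂ = 1 := by rw [← pow_two]; exact h2
  have it : t * t = 1 := by rw [← pow_two]; exact ht
  have h3 : (s₁ * s₂) ^ 2 = 1 := by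
    rw [pow_two]
    calc s₁ * s₂ * (s₁ * s₂) = s₁ * (s₂ * s₁) * s₂ := by group
      _ = s₁ * (s₁ * s₂) * s₂ := by rw [hc]
      _ = (s₁ * s₁) * (s₂ * s₂) := by group
      _ = 1 := by rw [i1, i2, one_mul]
  have h31 : s₁ * s₂ ≠ 1 := by
    intro h
    apply hne
    rw [← inv_of_sq h2]; exact eq_inv_of_mul_eq_one_left h
  have hn2 : s₂ * t ≠ t * s₂ := by
    intro hc2
    have hH : ∀ x ∈ Subgroup.centralizer ({s₂} : Set G), x ^ 2 = 1 := by
      intro x hx
      rw [Subgroup.mem_centralizer_iff] at hx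
      exact sq_of_comm hord h2 h21 (hx s₂ rfl)
    have hs₁ : s₁ ∈ Subgroup.centralizer ({s₂} : Set G) := by
      rw [Subgroup.mem_centralizer_iff]
      intro y hy
      rw [Set.mem_singleton_iff] at hy
      rw [hy]; exact hc.symm
    have ht' : t ∈ Subgroup.centralizer ({s₂} : Set G) := by
      rw [Subgroup.mem_centralizer_iff]
      intro y hy
      rw [Set.mem_singleton_iff] at hy
      rw [hy]; exact hc2
    exact hn (comm_of_sq _ hH hs₁ ht')
  have hn3 : s₁ * s₂ * t ≠ t * (s₁ * s₂) := by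
    intro hc3
    have hH : ∀ x ∈ Subgroup.centralizer ({s₁ * s₂} : Set G), x ^ 2 = 1 := by
      intro x hx
      rw [Subgroup.mem_centralizer_iff] at hx
      exact sq_of_comm hord h3 h31 (hx _ rfl)
    have hs₁ : s₁ ∈ Subgroup.centralizer ({s₁ * s₂} : Set G) := by
      rw [Subgroup.mem_centralizer_iff]
      intro y hy
      rw [Set.mem_singleton_iff] at hy
      rw [hy, mul_assoc, ← hc]
    have ht' : t ∈ Subgroup.centralizer ({s₁ * s₂} : Set G) := by
      rw [Subgroup.mem_centralizer_iff]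
      intro y hy
      rw [Set.mem_singleton_iff] at hy
      rw [hy]; exact hc3
    exact hn (comm_of_sq _ hH hs₁ ht')
  have b1 := braid h1 ht (cube_of_not_comm hord h1 ht hn)
  have b2 := braid h2 ht (cube_of_not_comm hord h2 ht hn2)
  have b3 := braid h3 ht (cube_of_not_comm hord h3 ht hn3)
  have e1 : t * (s₁ * s₂) * t = s₂ * t * s₁ := by
    calc t * (s₁ * s₂) * t = t * s₁ * 1 * s₂ * t := by group
      _ = t * s₁ * (t * t) * s₂ * t := by rw [it]
      _ = (t * s₁ * t) * (t * s₂ * t) := by group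
      _ = (s₁ * t * s₁) * (s₂ * t * s₂) := by rw [b1, b2]
      _ = s₁ * (t * (s₁ * s₂) * t) * s₂ := by group
      _ = s₁ * ((s₁ * s₂) * t * (s₁ * s₂)) * s₂ := by rw [b3]
      _ = (s₁ * s₁) * s₂ * t * s₁ * (s₂ * s₂) := by group
      _ = s₂ * t * s₁ := by rw [i1, i2, one_mul, mul_one]
  have e2 : s₂ * (s₁ * t * s₁ * s₂) = s₂ * (t * s₁) := by
    calc s₂ * (s₁ * t * s₁ * s₂) = (s₂ * s₁) * t * (s₁ * s₂) := by group
      _ = (s₁ * s₂) * t * (s₁ * s₂) := by rw [← hc]
      _ = t * (s₁ * s₂) * t := b3.symm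
      _ = s₂ * t * s₁ := e1
      _ = s₂ * (t * s₁) := by group
  have e3 := mul_left_cancel e2
  rw [← b1] at e3
  have e4 : t * s₁ * (t * s₂) = t * s₁ * 1 := by rw [mul_one, ← mul_assoc]; exact e3
  have e5 := mul_left_cancel e4
  have e6 : t = s₂ := by rw [← inv_of_sq h2]; exact eq_inv_of_mul_eq_one_left e5
  exact hn2 (by rw [e6])

include hord in
/-- An element outside the normal subgroup `P` of all elements of order at most two acts on `P`
without fixed points, in the norm form. -/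
theorem K1 (P : Subgroup G) [hPn : P.Normal] (hP : ∀ g : G, g ∈ P ↔ g ^ 2 = 1) {w v : G}
    (hw : w ∉ P) (hv : v ∈ P) : v * (w * v * w⁻¹) * (w * w * v * (w * w)⁻¹) = 1 := by
  haveI : Fact (Nat.Prime 2) := ⟨Nat.prime_two⟩
  have hPc : ∀ x ∈ P, ∀ y ∈ P, x * y = y * x :=
    fun x hx y hy => comm_of_sq P (fun x hx => (hP x).mp hx) hx hy
  have hw3 : orderOf w = 3 := by
    rcases hord w with h | h | h
    · exfalso; rw [orderOf_eq_one_iff] at h; exact hw (h ▸ P.one_mem)
    · exfalso; apply hw; rw [hP, ← h]; exact pow_orderOf_eq_one w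
    · exact h
  have hw3' : w * w * w = 1 := by
    have := pow_orderOf_eq_one w
    rw [hw3] at this
    rw [← this]; simp only [pow_succ, pow_zero, one_mul]
  have hb : w * v * w⁻¹ ∈ P := hPn.conj_mem v hv w
  have hc : w * w * v * (w * w)⁻¹ ∈ P := hPn.conj_mem v hv (w * w)
  set u := v * (w * v * w⁻¹) * (w * w * v * (w * w)⁻¹) with hu
  have huP : u ∈ P := P.mul_mem (P.mul_mem hv hb) hc
  have hwu : w * u * w⁻¹ = u := by
    have e1 : w * u * w⁻¹ =
        (w * v * w⁻¹) * (w * w * v * (w * w)⁻¹) * ((w * w * w) * v * (w * w * w)⁻¹) := by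
      rw [hu]; group
    rw [e1, hw3', one_mul, inv_one, mul_one, hu]
    rw [hPc _ (P.mul_mem hb hc) _ hv]; simp only [mul_assoc]
  by_contra hu1
  have hu2 : orderOf u = 2 := orderOf_eq_prime ((hP u).mp huP) hu1
  refine no6 hord hu2 hw3 ?_
  calc u * w = (w * u * w⁻¹) * w := by rw [hwu]
    _ = w * u := by group

/-- Elements of the abelian normal subgroup `P` do not contribute to the conjugation action. -/
theorem K2 (P : Subgroup G) (hPc : ∀ x ∈ P, ∀ y ∈ P, x * y = y * x) {w₁ w₂ v : G}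
    (h : w₂⁻¹ * w₁ ∈ P) (hv : v ∈ P) : w₁ * v * w₁⁻¹ = w₂ * v * w₂⁻¹ := by
  have h1 := hPc _ h _ hv
  calc w₁ * v * w₁⁻¹ = w₂ * ((w₂⁻¹ * w₁) * v) * (w₂⁻¹ * w₁)⁻¹ * w₂⁻¹ := by group
    _ = w₂ * (v * (w₂⁻¹ * w₁)) * (w₂⁻¹ * w₁)⁻¹ * w₂⁻¹ := by rw [h1]
    _ = w₂ * v * w₂⁻¹ := by group

include hord in
theorem index_three [Finite G] (P : Subgroup G) [hPn : P.Normal]
    (hP : ∀ g : G, g ∈ P ↔ g ^ 2 = 1) (hne : ∃ s ∈ P, s ≠ 1) (hy : ∃ y : G, orderOf y = 3) :
    P.index = 3 := by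
  classical
  haveI : Fact (Nat.Prime 3) := ⟨Nat.prime_three⟩
  have hPc : ∀ x ∈ P, ∀ y ∈ P, x * y = y * x :=
    fun x hx y hy => comm_of_sq P (fun x hx => (hP x).mp hx) hx hy
  have hcube : ∀ g : G, g ∉ P → g ^ 3 = 1 := by
    intro g hg
    rcases hord g with h | h | h
    · exfalso; rw [orderOf_eq_one_iff] at h; exact hg (h ▸ P.one_mem)
    · exfalso; apply hg; rw [hP, ← h]; exact pow_orderOf_eq_one g
    · rw [← h]; exact pow_orderOf_eq_one g
  have hK3 : ∀ k : G ⧸ P, k ^ 3 = 1 := by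
    intro k
    induction k using QuotientGroup.induction_on with
    | H g =>
      by_cases hg : g ∈ P
      · rw [(QuotientGroup.eq_one_iff g).mpr hg, one_pow]
      · rw [← QuotientGroup.mk_pow, hcube g hg]; rfl
  have hKp : IsPGroup 3 (G ⧸ P) := fun k => ⟨1, by rw [pow_one]; exact hK3 k⟩
  obtain ⟨n, hn⟩ := IsPGroup.iff_card.mp hKp
  rw [Subgroup.index_eq_card]
  obtain ⟨y, hy⟩ := hy
  have hyP : y ∉ P := by
    intro h
    have h2 := (hP y).mp h
    have := orderOf_dvd_of_pow_eq_one h2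
    rw [hy] at this
    omega
  rcases Nat.lt_or_ge n 2 with hlt | hge
  · interval_cases n
    · exfalso
      rw [pow_zero] at hn
      rw [← Subgroup.index_eq_card, Subgroup.index_eq_one] at hn
      exact hyP (hn ▸ Subgroup.mem_top y)
    · rw [hn, pow_one]
  · exfalso
    haveI : Nontrivial (G ⧸ P) := by
      rw [← Finite.one_lt_card_iff_nontrivial, hn]
      exact Nat.one_lt_pow (by omega) (by norm_num)
    haveI : Nontrivial (Subgroup.center (G ⧸ P)) := hKp.center_nontrivial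
    obtain ⟨⟨a', ha'Z⟩, ha'1⟩ := exists_ne (1 : Subgroup.center (G ⧸ P))
    have ha'1 : a' ≠ 1 := fun h => ha'1 (Subtype.ext h)
    have hoa : orderOf a' = 3 := orderOf_eq_prime (hK3 a') ha'1
    have hzp : Subgroup.zpowers a' ≠ ⊤ := by
      intro htop
      have h1 : Nat.card (Subgroup.zpowers a') = 3 := by rw [Nat.card_zpowers, hoa]
      rw [htop, Subgroup.card_top, hn] at h1
      have : 3 ^ 2 ≤ 3 ^ n := Nat.pow_le_pow_right (by norm_num) hge
      omega
    obtain ⟨b', hb'⟩ : ∃ b' : G ⧸ P, b' ∉ Subgroup.zpowers a' := by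
      by_contra hcon
      push Not at hcon
      exact hzp (eq_top_iff.mpr fun x _ => hcon x)
    obtain ⟨a, rfl⟩ := QuotientGroup.mk_surjective a'
    obtain ⟨b, rfl⟩ := QuotientGroup.mk_surjective b'
    have hcomm : ((a : G ⧸ P)) * (b : G ⧸ P) = (b : G ⧸ P) * (a : G ⧸ P) :=
      (Subgroup.mem_center_iff.mp ha'Z (b : G ⧸ P)).symm
    have hb3 : ((b : G ⧸ P)) ^ 3 = 1 := hK3 _
    have ha3 : ((a : G ⧸ P)) ^ 3 = 1 := hK3 _
    -- the four elements outside `P`
    have haP : a ∉ P := fun h => ha'1 ((QuotientGroup.eq_one_iff a).mpr h)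
    have hbP : b ∉ P := by
      intro h
      apply hb'
      rw [(QuotientGroup.eq_one_iff b).mpr h]; exact Subgroup.one_mem _
    have hbaP : b * a ∉ P := by
      intro h
      apply hb'
      have h1 : ((b : G ⧸ P)) * (a : G ⧸ P) = 1 := by
        rw [← QuotientGroup.mk_mul]; exact (QuotientGroup.eq_one_iff _).mpr h
      rw [eq_inv_of_mul_eq_one_left h1]
      exact Subgroup.inv_mem _ (Subgroup.mem_zpowers _)
    have hbbaP : b * b * a ∉ P := by
      intro h
      apply hb'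
      have h1 : ((b : G ⧸ P)) * (b : G ⧸ P) * (a : G ⧸ P) = 1 := by
        rw [← QuotientGroup.mk_mul, ← QuotientGroup.mk_mul]
        exact (QuotientGroup.eq_one_iff _).mpr h
      have h2 : ((b : G ⧸ P)) * (b : G ⧸ P) = (a : G ⧸ P)⁻¹ := eq_inv_of_mul_eq_one_left h1
      have h3 : (b : G ⧸ P) = ((a : G ⧸ P)⁻¹) ^ 2 := by
        rw [← h2]
        calc (b : G ⧸ P) = (b : G ⧸ P) ^ 3 * (b : G ⧸ P) := by rw [hb3, one_mul]
          _ = ((b : G ⧸ P) * (b : G ⧸ P)) ^ 2 := by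
            simp only [pow_succ, pow_zero, one_mul, mul_assoc]
      rw [h3]
      exact Subgroup.pow_mem _ (Subgroup.inv_mem _ (Subgroup.mem_zpowers _)) 2
    -- the two congruences modulo `P`
    have hq1 : (b * b * a * a)⁻¹ * (b * a * (b * a)) ∈ P := by
      rw [← QuotientGroup.eq_one_iff]
      simp only [QuotientGroup.mk_mul, QuotientGroup.mk_inv]
      rw [mul_assoc (b : G ⧸ P) (a : G ⧸ P), ← mul_assoc (a : G ⧸ P) (b : G ⧸ P), hcomm]
      group
    have hq2 : (b * a * a)⁻¹ * (b * b * a * (b * b * a)) ∈ P := by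
      rw [← QuotientGroup.eq_one_iff]
      simp only [QuotientGroup.mk_mul, QuotientGroup.mk_inv]
      have e : ((b : G ⧸ P)) * (b : G ⧸ P) * (a : G ⧸ P) *
          ((b : G ⧸ P) * (b : G ⧸ P) * (a : G ⧸ P)) =
          ((b : G ⧸ P) * (b : G ⧸ P) * (b : G ⧸ P)) * (b : G ⧸ P) * (a : G ⧸ P) *
            (a : G ⧸ P) := by
        calc ((b : G ⧸ P)) * (b : G ⧸ P) * (a : G ⧸ P) *
            ((b : G ⧸ P) * (b : G ⧸ P) * (a : G ⧸ P))
            = (b : G ⧸ P) * (b : G ⧸ P) * ((a : G ⧸ P) * (b : G ⧸ P)) * (b : G ⧸ P) *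
              (a : G ⧸ P) := by group
          _ = (b : G ⧸ P) * (b : G ⧸ P) * ((b : G ⧸ P) * (a : G ⧸ P)) * (b : G ⧸ P) *
              (a : G ⧸ P) := by rw [hcomm]
          _ = (b : G ⧸ P) * (b : G ⧸ P) * (b : G ⧸ P) * ((a : G ⧸ P) * (b : G ⧸ P)) *
              (a : G ⧸ P) := by group
          _ = (b : G ⧸ P) * (b : G ⧸ P) * (b : G ⧸ P) * ((b : G ⧸ P) * (a : G ⧸ P)) *
              (a : G ⧸ P) := by rw [hcomm]
          _ = ((b : G ⧸ P) * (b : G ⧸ P) * (b : G ⧸ P)) * (b : G ⧸ P) * (a : G ⧸ P) *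
              (a : G ⧸ P) := by simp only [mul_assoc]
      have hb3' : (b : G ⧸ P) * (b : G ⧸ P) * (b : G ⧸ P) = 1 := by
        rw [← hb3]; simp only [pow_succ, pow_zero, one_mul]
      rw [e, hb3']
      group
    -- every element of `P` is trivial
    obtain ⟨s, hsP, hs1⟩ := hne
    apply hs1
    letI : CommGroup ↥P :=
      { (inferInstance : Group ↥P) with
        mul_comm := fun x y => Subtype.ext (hPc x x.2 y y.2) }
    have cj : ∀ w : G, w * s * w⁻¹ ∈ P := fun w => hPn.conj_mem s hsP w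
    have key := nine (M := ↥P) ⟨s, hsP⟩ ⟨b * s * b⁻¹, cj b⟩ ⟨b * b * s * (b * b)⁻¹, cj (b * b)⟩
      ⟨a * s * a⁻¹, cj a⟩ ⟨b * a * s * (b * a)⁻¹, cj (b * a)⟩
      ⟨b * b * a * s * (b * b * a)⁻¹, cj (b * b * a)⟩
      ⟨a * a * s * (a * a)⁻¹, cj (a * a)⟩ ⟨b * a * a * s * (b * a * a)⁻¹, cj (b * a * a)⟩
      ⟨b * b * a * a * s * (b * b * a * a)⁻¹, cj (b * b * a * a)⟩
      (Subtype.ext (K1 hord P hP hbP hsP))
      (Subtype.ext (by
        have := K1 hord P hP hbP (cj a)
        simp only [Subgroup.coe_mul, Subgroup.coe_one]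
        rw [← this]; group))
      (Subtype.ext (by
        have := K1 hord P hP hbP (cj (a * a))
        simp only [Subgroup.coe_mul, Subgroup.coe_one]
        rw [← this]; group))
      (Subtype.ext (K1 hord P hP haP hsP))
      (Subtype.ext (by
        have := K1 hord P hP hbaP hsP
        simp only [Subgroup.coe_mul, Subgroup.coe_one]
        rw [← this, K2 P hPc hq1 hsP]))
      (Subtype.ext (by
        have := K1 hord P hP hbbaP hsP
        simp only [Subgroup.coe_mul, Subgroup.coe_one]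
        rw [← this, K2 P hPc hq2 hsP]))
      (Subtype.ext (by
        simp only [Subgroup.coe_mul, Subgroup.coe_one]
        rw [← pow_two]; exact (hP s).mp hsP))
    exact congrArg Subtype.val key

include hord in
theorem caseII [Finite G]
    (hII : ∀ s₁ s₂ : G, s₁ ^ 2 = 1 → s₂ ^ 2 = 1 → s₁ ≠ 1 → s₂ ≠ 1 → s₁ * s₂ = s₂ * s₁ → s₁ = s₂)
    {t : G} (ht : t ^ 2 = 1) (ht1 : t ≠ 1) :
    ∃ N : Subgroup G, N.Normal ∧ Cfsg.IsElementaryAbelian 3 N ∧ N.index = 2 := by
  classical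
  letI : Fintype G := Fintype.ofFinite G
  have hprod : ∀ s₁ s₂ : G, s₁ ^ 2 = 1 → s₂ ^ 2 = 1 → s₁ ≠ 1 → s₂ ≠ 1 → (s₁ * s₂) ^ 3 = 1 := by
    intro s₁ s₂ h1 h2 h11 h21
    by_cases hc : s₁ * s₂ = s₂ * s₁
    · have := hII s₁ s₂ h1 h2 h11 h21 hc
      rw [this, ← pow_two, h2, one_pow]
    · exact cube_of_not_comm hord h1 h2 hc
  have hiff : ∀ g : G, g ^ 3 = 1 ↔ ¬ (g ^ 2 = 1 ∧ g ≠ 1) := by
    intro g
    constructor
    · rintro h3 ⟨h2, h1⟩
      apply h1
      calc g = g ^ 3 * (g ^ 2)⁻¹ := by group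
        _ = 1 := by rw [h3, h2]; simp
    · intro h
      rcases hord g with h' | h' | h'
      · rw [orderOf_eq_one_iff] at h'; rw [h', one_pow]
      · exfalso; apply h
        refine ⟨by rw [← h']; exact pow_orderOf_eq_one g, ?_⟩
        intro h1; rw [h1, orderOf_one] at h'; omega
      · rw [← h']; exact pow_orderOf_eq_one g
  set I : Finset G := Finset.univ.filter (fun g => g ^ 2 = 1 ∧ g ≠ 1) with hI
  set Q : Finset G := Finset.univ.filter (fun g => g ^ 3 = 1) with hQ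
  have hIQ : I.card + Q.card = Fintype.card G := by
    have := Finset.card_filter_add_card_filter_not (s := (Finset.univ : Finset G))
      (fun g => g ^ 2 = 1 ∧ g ≠ 1)
    rw [Finset.card_univ] at this
    rw [← this, hI, hQ]
    congr 2
    ext g
    simp only [Finset.mem_filter, Finset.mem_univ, true_and]
    exact hiff g
  have hmap : ∀ s ∈ I, s * t ∈ Q := by
    intro s hs
    rw [hI, Finset.mem_filter] at hs
    rw [hQ, Finset.mem_filter]
    exact ⟨Finset.mem_univ _, hprod s t hs.2.1 ht hs.2.2 ht1⟩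
  have hle1 : I.card ≤ Q.card :=
    Finset.card_le_card_of_injOn (· * t) hmap (fun x _ y _ h => mul_right_cancel h)
  have hle2 : Fintype.card G ≤ 2 * I.card := by
    have h1 := Finset.card_le_mul_card_image (f := fun g : G => g * t * g⁻¹)
      (Finset.univ : Finset G) 2 ?_
    · rw [Finset.card_univ] at h1
      refine h1.trans (Nat.mul_le_mul_left 2 (Finset.card_le_card ?_))
      intro x hx
      rw [Finset.mem_image] at hx
      obtain ⟨g, _, rfl⟩ := hx
      rw [hI, Finset.mem_filter]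
      refine ⟨Finset.mem_univ _, ?_, ?_⟩
      · rw [pow_two]
        calc g * t * g⁻¹ * (g * t * g⁻¹) = g * (t * t) * g⁻¹ := by group
          _ = 1 := by rw [← pow_two, ht]; group
      · intro h; apply ht1
        calc t = g⁻¹ * (g * t * g⁻¹) * g := by group
          _ = 1 := by rw [h]; group
    · intro a ha
      rw [Finset.mem_image] at ha
      obtain ⟨g, _, rfl⟩ := ha
      refine (Finset.card_le_card (?_ : _ ⊆ ({g, g * t} : Finset G))).trans Finset.card_le_two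
      intro x hx
      rw [Finset.mem_filter] at hx
      have hx := hx.2
      have hc : t * (g⁻¹ * x) = (g⁻¹ * x) * t := by
        calc t * (g⁻¹ * x) = g⁻¹ * (g * t * g⁻¹) * x := by group
          _ = g⁻¹ * (x * t * x⁻¹) * x := by rw [hx]
          _ = g⁻¹ * x * t := by group
      have hc2 := sq_of_comm hord ht ht1 hc
      rw [Finset.mem_insert, Finset.mem_singleton]
      by_cases h1 : g⁻¹ * x = 1
      · left; exact (inv_mul_eq_one.mp h1).symm
      · right
        have := hII _ _ hc2 ht h1 ht1 hc.symm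
        rw [← this]; group
  have hcard : Q.card = I.card := by omega
  have hQ2 : Fintype.card G = 2 * Q.card := by omega
  have himg : I.image (· * t) = Q := by
    apply Finset.eq_of_subset_of_card_le
    · intro x hx
      rw [Finset.mem_image] at hx
      obtain ⟨s, hs, rfl⟩ := hx
      exact hmap s hs
    · rw [Finset.card_image_of_injective _ (mul_left_injective t)]
      exact hcard.le
  have hsurj : ∀ q : G, q ^ 3 = 1 → ∃ s : G, s ^ 2 = 1 ∧ s ≠ 1 ∧ s * t = q := by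
    intro q hq
    have : q ∈ Q := by rw [hQ, Finset.mem_filter]; exact ⟨Finset.mem_univ _, hq⟩
    rw [← himg, Finset.mem_image] at this
    obtain ⟨s, hs, rfl⟩ := this
    rw [hI, Finset.mem_filter] at hs
    exact ⟨s, hs.2.1, hs.2.2, rfl⟩
  have hmul : ∀ q₁ q₂ : G, q₁ ^ 3 = 1 → q₂ ^ 3 = 1 → (q₁ * q₂) ^ 3 = 1 := by
    intro q₁ q₂ h1 h2
    obtain ⟨s₁, hs₁, hs₁1, rfl⟩ := hsurj q₁ h1
    obtain ⟨s₂, hs₂, hs₂1, rfl⟩ := hsurj q₂ h2
    have e : s₁ * t * (s₂ * t) = s₁ * (t * s₂ * t⁻¹) := by rw [inv_of_sq ht]; group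
    rw [e]
    apply hprod _ _ hs₁ _ hs₁1 _
    · rw [pow_two]
      calc t * s₂ * t⁻¹ * (t * s₂ * t⁻¹) = t * (s₂ * s₂) * t⁻¹ := by group
        _ = 1 := by rw [← pow_two, hs₂]; group
    · intro h; apply hs₂1
      calc s₂ = t⁻¹ * (t * s₂ * t⁻¹) * t := by group
        _ = 1 := by rw [h]; group
  let N : Subgroup G :=
    { carrier := {g | g ^ 3 = 1}
      mul_mem' := fun {a b} ha hb => hmul a b ha hb
      one_mem' := one_pow 3
      inv_mem' := fun {a} ha => by
        show (a⁻¹) ^ 3 = 1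
        rw [inv_pow, show a ^ 3 = 1 from ha, inv_one] }
  have hNmem : ∀ g : G, g ∈ N ↔ g ^ 3 = 1 := fun g => Iff.rfl
  have hNcard : Nat.card N = Q.card := by
    rw [Nat.card_eq_fintype_card, hQ, ← Fintype.card_subtype]
    exact Fintype.card_congr (Equiv.subtypeEquivRight hNmem)
  have hidx : N.index = 2 := by
    have := N.card_mul_index
    rw [hNcard, Nat.card_eq_fintype_card, hQ2] at this
    have hQpos : 0 < Q.card := Finset.card_pos.mpr
      ⟨1, by rw [hQ, Finset.mem_filter]; exact ⟨Finset.mem_univ _, one_pow 3⟩⟩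
    rw [mul_comm] at this
    exact Nat.eq_of_mul_eq_mul_right hQpos this
  have hinv : ∀ q : G, q ^ 3 = 1 → t * q * t⁻¹ = q⁻¹ := by
    intro q hq
    obtain ⟨s, hs, hs1, rfl⟩ := hsurj q hq
    rw [mul_inv_rev, inv_of_sq ht, inv_of_sq hs]
    calc t * (s * t) * t = t * s * (t * t) := by group
      _ = t * s := by rw [← pow_two, ht, mul_one]
  refine ⟨N, Subgroup.normal_of_index_eq_two hidx, ⟨⟨⟨fun a b => Subtype.ext ?_⟩⟩, fun a ha => ha⟩,
    hidx⟩
  show (a : G) * b = b * a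
  have ha := hinv a a.2
  have hb := hinv b b.2
  have hab := hinv (a * b) (N.mul_mem a.2 b.2)
  have e : ((a : G) * b)⁻¹ = (a : G)⁻¹ * (b : G)⁻¹ := by
    rw [← hab, ← ha, ← hb]; group
  rw [mul_inv_rev] at e
  have := congrArg (·⁻¹) e
  simp only [mul_inv_rev, inv_inv] at this
  exact this

end basics

/-- A finite group whose set of element orders is exactly {1, 2, 3} has either a normal elementary abelian 3-subgroup of index 2 or a normal elementary abelian 2-subgroup of index 3. -/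
theorem result {G : Type*} [Group G] [Finite G] (h : Set.range (orderOf : G → ℕ) = {k : ℕ | 1 ≤ k ∧ k ≤ 3}) :
    (∃ N : Subgroup G, N.Normal ∧ Cfsg.IsElementaryAbelian 3 N ∧ N.index = 2) ∨
      (∃ N : Subgroup G, N.Normal ∧ Cfsg.IsElementaryAbelian 2 N ∧ N.index = 3) := by
  classical
  have hord : ∀ g : G, orderOf g = 1 ∨ orderOf g = 2 ∨ orderOf g = 3 := by
    intro g
    have : orderOf g ∈ Set.range (orderOf : G → ℕ) := ⟨g, rfl⟩
    rw [h] at this
    obtain ⟨h1, h2⟩ := this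
    omega
  have h2 : ∃ t : G, orderOf t = 2 := by
    have : (2 : ℕ) ∈ {k : ℕ | 1 ≤ k ∧ k ≤ 3} := ⟨by norm_num, by norm_num⟩
    rw [← h] at this; exact this
  have h3 : ∃ y : G, orderOf y = 3 := by
    have : (3 : ℕ) ∈ {k : ℕ | 1 ≤ k ∧ k ≤ 3} := ⟨by norm_num, by norm_num⟩
    rw [← h] at this; exact this
  obtain ⟨t, ht⟩ := h2
  have ht2 : t ^ 2 = 1 := by rw [← ht]; exact pow_orderOf_eq_one t
  have ht1 : t ≠ 1 := by intro h1; rw [h1, orderOf_one] at ht; omega
  by_cases hI : ∃ s₁ s₂ : G, s₁ ^ 2 = 1 ∧ s₂ ^ 2 = 1 ∧ s₁ ≠ 1 ∧ s₂ ≠ 1 ∧ s₁ * s₂ = s₂ * s₁ ∧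
      s₁ ≠ s₂
  · right
    obtain ⟨s₁, s₂, h1, h2, h11, h21, hc, hne⟩ := hI
    set P : Subgroup G := Subgroup.centralizer ({s₁} : Set G) with hPdef
    have hP : ∀ g : G, g ∈ P ↔ g ^ 2 = 1 := by
      intro g
      rw [hPdef, Subgroup.mem_centralizer_iff]
      constructor
      · intro hg; exact sq_of_comm hord h1 h11 (hg s₁ rfl)
      · intro hg y hy
        rw [Set.mem_singleton_iff] at hy
        rw [hy]; exact allcomm hord h1 h2 h11 h21 hne hc hg
    haveI hPn : P.Normal := by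
      constructor
      intro n hn g
      rw [hP] at hn ⊢
      rw [pow_two] at hn ⊢
      calc g * n * g⁻¹ * (g * n * g⁻¹) = g * (n * n) * g⁻¹ := by group
        _ = 1 := by rw [hn]; group
    refine ⟨P, hPn, ⟨⟨⟨fun a b => Subtype.ext ?_⟩⟩, fun a ha => (hP a).mp ha⟩,
      index_three hord P hP ⟨s₁, (hP s₁).mpr h1, h11⟩ h3⟩
    exact comm_of_sq P (fun x hx => (hP x).mp hx) a.2 b.2
  · left
    push Not at hI
    apply caseII hord ?_ ht2 ht1
    intro s₁ s₂ h1 h2 h11 h21 hc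
    exact hI s₁ s₂ h1 h2 h11 h21 hc

end Cfsg.Agent.S4005
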