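import Cfsg.Statements.S4013
import Mathlib
import Cfsg.Agent.Lib.Helper7_Basic

set_option autoImplicit false
open Cfsg

namespace Cfsg.Agent.S4013

open Cfsg.Agent.Lib.Helper7_Basic

/-- Let G be a finite p-group (p prime) and N < M normal subgroups of G such that for some g ∈ M ∖ N the conjugacy class of g is exactly M ∖ N. Then p = 2 and N has index 2 in M. -/
theorem result {G : Type*} [Group G] [Finite G] (p : ℕ) [Fact p.Prime] (hG : IsPGroup p G) (N M : Subgroup G) [N.Normal] [M.Normal] (hNM : N < M) (g : G) (hgM : g ∈ M) (hgN : g ∉ N) (hcl : {h : G | IsConj g h} = (M : Set G) \ (N : Set G)) : p = 2 ∧ N.relIndex M = 2 := by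
  have hp : p.Prime := Fact.out
  -- class size
  have h1 : Nat.card {y : G // IsConj y g} = (Subgroup.centralizer ({g} : Set G)).index :=
    card_conj_class g
  have h1' : Nat.card {y : G // IsConj y g} = Nat.card ↥{h : G | IsConj g h} := by
    apply Nat.card_congr
    exact Equiv.subtypeEquivRight (fun y => isConj_comm)
  obtain ⟨b, hb⟩ := hG.index (Subgroup.centralizer ({g} : Set G))
  -- size of the difference
  have h2 : Nat.card ↥((M : Set G) \ (N : Set G)) = Nat.card M - Nat.card N := by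
    rw [Nat.card_coe_set_eq, Set.ncard_sdiff (show (N : Set G) ⊆ (M : Set G) from hNM.le)
      (Set.toFinite _), ← Nat.card_coe_set_eq, ← Nat.card_coe_set_eq]
    rfl
  have h3 : Nat.card M - Nat.card N = p ^ b := by
    rw [← h2, ← hcl, ← h1', h1, hb]
  obtain ⟨a, ha⟩ := (hG.to_subgroup N).exists_card_eq
  have h4 : Nat.card N * N.relIndex M = Nat.card M := by
    have := Subgroup.card_mul_index (N.subgroupOf M)
    rw [← this]
    congr 1
    exact (Nat.card_congr (Subgroup.subgroupOfEquivOfLe hNM.le).toEquiv).symm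
  obtain ⟨j, hj⟩ : ∃ j, N.relIndex M = p ^ j := (hG.to_subgroup M).index (N.subgroupOf M)
  have hj0 : j ≠ 0 := by
    intro h0
    rw [h0, pow_zero, Subgroup.relIndex_eq_one] at hj
    exact (not_le_of_gt hNM) hj
  -- p^a * (p^j - 1) = p^b
  have h5 : p ^ a * (p ^ j - 1) = p ^ b := by
    rw [← h3, ← h4, ha, hj, Nat.mul_sub, mul_one]
  have hdvd : p ^ j - 1 ∣ p ^ b := Dvd.intro_left _ h5
  obtain ⟨c, hcb, hc⟩ := (Nat.dvd_prime_pow hp).mp hdvd
  have hpj : 2 ≤ p ^ j := by
    calc 2 ≤ p := hp.two_le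
      _ = p ^ 1 := (pow_one p).symm
      _ ≤ p ^ j := Nat.pow_le_pow_right hp.pos (Nat.one_le_iff_ne_zero.mpr hj0)
  have hc0 : c = 0 := by
    by_contra hcne
    have h6 : p ∣ p ^ j - 1 := by rw [hc]; exact dvd_pow_self p hcne
    have h7 : p ∣ p ^ j := dvd_pow_self p hj0
    have h8 : p ∣ 1 := by
      have := (Nat.dvd_sub h7 h6)
      have e : p ^ j - (p ^ j - 1) = 1 := by omega
      rwa [e] at this
    exact hp.one_lt.ne' (Nat.dvd_one.mp h8)
  rw [hc0, pow_zero] at hc
  have hpj2 : p ^ j = 2 := by omega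
  have hp2 : p = 2 := by
    have : p ∣ 2 := by rw [← hpj2]; exact dvd_pow_self p hj0
    exact (Nat.prime_dvd_prime_iff_eq hp Nat.prime_two).mp this
  refine ⟨hp2, ?_⟩
  rw [hj, hpj2]

end Cfsg.Agent.S4013
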