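import Mathlib
import Cfsg.Statements.S4014

set_option autoImplicit false

open Cfsg

namespace Cfsg.Agent.S4014

section upper

universe u v

theorem upper_aux {p : ℕ} [Fact p.Prime] (k : ℕ) :
    ∀ (H : Type u) [Group H] [Finite H] (_ : IsPGroup p H)
      (Ω : Type v) [MulAction H Ω] (ω : Ω), (MulAction.orbit H ω).ncard < p ^ (k + 1) →
      ∀ x ∈ derivedSeries H k, x • ω = ω := by
  have hpp : p.Prime := Fact.out
  induction k with
  | zero =>
    intro H _ _ hp Ω _ ω hlt x _
    have hidx := MulAction.index_stabilizer H ω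
    obtain ⟨e, he⟩ := hp.index (MulAction.stabilizer H ω)
    rw [← hidx, he] at hlt
    have he0 : e = 0 := by
      by_contra h
      have : p ^ 1 ≤ p ^ e := Nat.pow_le_pow_right hpp.pos (Nat.one_le_iff_ne_zero.mpr h)
      simp only [zero_add] at hlt
      omega
    rw [he0, pow_zero] at he
    have htop := Subgroup.index_eq_one.mp he
    have hx : x ∈ MulAction.stabilizer H ω := htop ▸ Subgroup.mem_top x
    exact hx
  | succ k ih =>
    intro H _ _ hp Ω _ ω hlt x hx
    by_cases hS : MulAction.stabilizer H ω = ⊤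
    · have hx' : x ∈ MulAction.stabilizer H ω := hS ▸ Subgroup.mem_top x
      exact hx'
    · obtain ⟨a, ha⟩ := IsPGroup.iff_card.mp hp
      obtain ⟨s, hs⟩ := IsPGroup.iff_card.mp (hp.to_subgroup (MulAction.stabilizer H ω))
      have hsa : s < a := by
        by_contra h
        rw [not_lt] at h
        have h1 : Nat.card (MulAction.stabilizer H ω) ≤ Nat.card H := Subgroup.card_le_card_group _
        have h2 : p ^ a ≤ p ^ s := Nat.pow_le_pow_right hpp.pos h
        have h3 : Nat.card (MulAction.stabilizer H ω) = Nat.card H := by omega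
        exact hS (Subgroup.card_eq_iff_eq_top _ |>.mp h3)
      obtain ⟨M, hMcard, hSM⟩ := Sylow.exists_subgroup_card_pow_prime_le p (m := a - 1)
        (by rw [ha]; exact pow_dvd_pow p (Nat.sub_le a 1)) (MulAction.stabilizer H ω) hs (by omega)
      have hMidx : M.index = p := by
        have h1 := M.index_mul_card
        rw [hMcard, ha] at h1
        have h2 : p ^ a = p * p ^ (a - 1) := by
          rw [← pow_succ']
          congr 1
          omega
        rw [h2] at h1
        exact Nat.eq_of_mul_eq_mul_right (pow_pos hpp.pos _) h1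
      haveI hMn : M.Normal := by
        apply Subgroup.normal_of_index_eq_minFac_card
        rw [hMidx, ha, Nat.Prime.pow_minFac hpp (by omega)]
      have hcomm : commutator H ≤ M := by
        have hcard : Nat.card (H ⧸ M) = p := hMidx
        haveI : IsCyclic (H ⧸ M) := isCyclic_of_prime_card hcard
        letI : CommGroup (H ⧸ M) := IsCyclic.commGroup
        have := Abelianization.commutator_subset_ker (QuotientGroup.mk' M)
        rwa [QuotientGroup.ker_mk'] at this
      have hds : ∀ j, derivedSeries H (j + 1) ≤ (derivedSeries M j).map M.subtype := by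
        intro j
        induction j with
        | zero =>
          rw [derivedSeries_zero, derivedSeries_one, ← MonoidHom.range_eq_map, Subgroup.range_subtype]
          exact hcomm
        | succ j ihj =>
          rw [derivedSeries_succ, derivedSeries_succ (G := ↥M), Subgroup.map_commutator]
          exact Subgroup.commutator_mono ihj ihj
      obtain ⟨y, hy, rfl⟩ := hds k hx
      have hstab : MulAction.stabilizer M ω = (MulAction.stabilizer H ω).subgroupOf M := by
        ext z
        simp [Subgroup.mem_subgroupOf, MulAction.mem_stabilizer_iff, Subgroup.smul_def]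
      have horbM : (MulAction.orbit M ω).ncard < p ^ (k + 1) := by
        rw [← MulAction.index_stabilizer, hstab]
        have h1 := Subgroup.relIndex_mul_index hSM
        rw [MulAction.index_stabilizer, hMidx] at h1
        have h2 : (MulAction.stabilizer H ω).relIndex M * p < p ^ (k + 1) * p := by
          rw [h1, ← pow_succ]; exact hlt
        exact Nat.lt_of_mul_lt_mul_right h2
      exact ih M (hp.to_subgroup M) Ω ω horbM y hy

theorem upper_bound (p : ℕ) [Fact p.Prime] (n : ℕ) (P : Sylow p (Equiv.Perm (Fin n))) :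
    derivedSeries ↥(P : Subgroup (Equiv.Perm (Fin n))) (Nat.log p n) = ⊥ := by
  have hpp : p.Prime := Fact.out
  rw [eq_bot_iff]
  intro x hx
  rw [Subgroup.mem_bot]
  apply Subtype.ext
  apply Equiv.ext
  intro ω
  have hlt : (MulAction.orbit (↥(P : Subgroup (Equiv.Perm (Fin n)))) ω).ncard
      < p ^ (Nat.log p n + 1) := by
    calc (MulAction.orbit (↥(P : Subgroup (Equiv.Perm (Fin n)))) ω).ncard
        ≤ Nat.card (Fin n) := Set.ncard_le_card _
      _ = n := Nat.card_fin n
      _ < p ^ (Nat.log p n + 1) := Nat.lt_pow_succ_log_self hpp.one_lt n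
  have := upper_aux (p := p) (Nat.log p n) ↥(P : Subgroup (Equiv.Perm (Fin n))) P.isPGroup'
    (Fin n) ω hlt x hx
  exact this

end upper

section lower

open RegularWreathProduct
open scoped commutatorElement

variable {D Q : Type*} [Group D] [Group Q]

lemma left_one_mul (a b : D ≀ᵣ Q) (ha : a.right = 1) :
    (a * b).left 1 = a.left 1 * b.left 1 := by
  simp [RegularWreathProduct.mul_left, ha]

lemma left_one_inv (a : D ≀ᵣ Q) (ha : a.right = 1) :
    (a⁻¹).left 1 = (a.left 1)⁻¹ := by
  simp [RegularWreathProduct.inv_left, ha]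

lemma wreath_ds (q : Q) (hq : q ≠ 1) (j : ℕ) :
    ∀ d ∈ derivedSeries D j,
      ∃ w ∈ derivedSeries (D ≀ᵣ Q) (j + 1), w.right = 1 ∧ w.left 1 = d := by
  classical
  induction j with
  | zero =>
    intro d _
    refine ⟨⁅(⟨Pi.mulSingle 1 d, 1⟩ : D ≀ᵣ Q), (⟨1, q⟩ : D ≀ᵣ Q)⁆, ?_, ?_, ?_⟩
    · rw [derivedSeries_succ, derivedSeries_zero]
      exact Subgroup.commutator_mem_commutator (Subgroup.mem_top _) (Subgroup.mem_top _)
    · simp [commutatorElement_def, RegularWreathProduct.mul_right, RegularWreathProduct.inv_right]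
    · have hq' : q⁻¹ ≠ 1 := inv_ne_one.mpr hq
      simp [commutatorElement_def, RegularWreathProduct.mul_left, RegularWreathProduct.inv_left,
        RegularWreathProduct.mul_right, RegularWreathProduct.inv_right, Pi.mulSingle_apply, hq']
  | succ j ih =>
    let S : Subgroup D :=
      { carrier := {d | ∃ w ∈ derivedSeries (D ≀ᵣ Q) (j + 2), w.right = 1 ∧ w.left 1 = d}
        one_mem' := ⟨1, Subgroup.one_mem _, rfl, rfl⟩
        mul_mem' := by
          rintro d₁ d₂ ⟨w₁, hw₁, hr₁, rfl⟩ ⟨w₂, hw₂, hr₂, rfl⟩
          refine ⟨w₁ * w₂, Subgroup.mul_mem _ hw₁ hw₂, ?_, left_one_mul w₁ w₂ hr₁⟩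
          rw [RegularWreathProduct.mul_right, hr₁, hr₂, one_mul]
        inv_mem' := by
          rintro d ⟨w, hw, hr, rfl⟩
          refine ⟨w⁻¹, Subgroup.inv_mem _ hw, ?_, left_one_inv w hr⟩
          rw [RegularWreathProduct.inv_right, hr, inv_one] }
    have hle : derivedSeries D (j + 1) ≤ S := by
      rw [derivedSeries_succ, Subgroup.commutator_le]
      intro d₁ hd₁ d₂ hd₂
      obtain ⟨w₁, hw₁, hr₁, rfl⟩ := ih d₁ hd₁
      obtain ⟨w₂, hw₂, hr₂, rfl⟩ := ih d₂ hd₂
      refine ⟨⁅w₁, w₂⁆, ?_, ?_, ?_⟩
      · rw [derivedSeries_succ]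
        exact Subgroup.commutator_mem_commutator hw₁ hw₂
      · simp [commutatorElement_def, RegularWreathProduct.mul_right,
          RegularWreathProduct.inv_right, hr₁, hr₂]
      · have h12 : (w₁ * w₂).right = 1 := by
          rw [RegularWreathProduct.mul_right, hr₁, hr₂, one_mul]
        have h121 : (w₁ * w₂ * w₁⁻¹).right = 1 := by
          rw [RegularWreathProduct.mul_right, h12, RegularWreathProduct.inv_right, hr₁, inv_one,
            one_mul]
        rw [commutatorElement_def, left_one_mul _ _ h121, left_one_mul _ _ h12,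
          left_one_mul _ _ hr₁, left_one_inv _ hr₁, left_one_inv _ hr₂, commutatorElement_def]
    intro d hd
    exact hle hd

end lower

section build

open RegularWreathProduct

/-- a p-group of permutations of `p ^ k` points with long derived series -/
structure PData (p k : ℕ) where
  W : Type
  Λ : Type
  [grp : Group W]
  [fin : Finite W]
  [fl : Finite Λ]
  [ne : Nonempty Λ]
  [act : MulAction W Λ]
  [faith : FaithfulSMul W Λ]
  pg : IsPGroup p W
  card : Nat.card Λ = p ^ k
  ds : 1 ≤ k → derivedSeries W (k - 1) ≠ ⊥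

theorem pdata_exists (p : ℕ) [Fact p.Prime] (k : ℕ) : Nonempty (PData p k) := by
  have hpp : p.Prime := Fact.out
  induction k with
  | zero =>
    refine ⟨{ W := PUnit, Λ := PUnit, pg := ?_, card := ?_, ds := ?_ }⟩
    · intro g
      exact ⟨0, Subsingleton.elim _ _⟩
    · simp
    · intro h; omega
  | succ k ih =>
    obtain ⟨X⟩ := ih
    letI := X.grp
    haveI := X.fin
    haveI := X.fl
    haveI := X.ne
    letI := X.act
    haveI := X.faith
    have hq : (Multiplicative.ofAdd (1 : ZMod p)) ≠ (1 : Multiplicative (ZMod p)) := by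
      intro h
      have h' : (1 : ZMod p) = 0 := by
        have := congrArg Multiplicative.toAdd h
        simp at this
      exact one_ne_zero h'
    have hQcard : Nat.card (Multiplicative (ZMod p)) = p := by
      rw [Nat.card_eq_fintype_card, Fintype.card_multiplicative, ZMod.card]
    refine ⟨{ W := X.W ≀ᵣ Multiplicative (ZMod p), Λ := X.Λ × Multiplicative (ZMod p),
              pg := ?_, card := ?_, ds := ?_ }⟩
    · obtain ⟨a, ha⟩ := IsPGroup.iff_card.mp X.pg
      apply IsPGroup.of_card (n := a * p + 1)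
      rw [RegularWreathProduct.card, ha, hQcard, ← pow_mul, pow_succ]
    · rw [Nat.card_prod, X.card, hQcard, pow_succ]
    · intro _
      rw [Nat.add_sub_cancel]
      rcases Nat.eq_zero_or_pos k with hk | hk
      · subst hk
        rw [derivedSeries_zero]
        intro h
        have hmem : (⟨1, Multiplicative.ofAdd (1 : ZMod p)⟩ : X.W ≀ᵣ Multiplicative (ZMod p))
            ∈ (⊥ : Subgroup (X.W ≀ᵣ Multiplicative (ZMod p))) := h ▸ Subgroup.mem_top _
        rw [Subgroup.mem_bot] at hmem
        have := congrArg RegularWreathProduct.right hmem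
        exact hq this
      · have hne := X.ds hk
        obtain ⟨⟨d, hd⟩, hd1⟩ := (Subgroup.ne_bot_iff_exists_ne_one).mp hne
        have hd1' : d ≠ 1 := fun h => hd1 (Subtype.ext h)
        obtain ⟨w, hw, _, hwl⟩ := wreath_ds (Multiplicative.ofAdd (1 : ZMod p)) hq (k - 1) d hd
        have hkk : k - 1 + 1 = k := by omega
        rw [hkk] at hw
        intro h
        rw [h, Subgroup.mem_bot] at hw
        rw [hw] at hwl
        exact hd1' hwl.symm

end build

/-- Let p be a prime, n ≥ 1, and P a Sylow p-subgroup of the symmetric group on n letters. Then the derived length of P is exactly k = ⌊log_p n⌋ (the largest k with p^k ≤ n): the k-th derived subgroup of P is trivial and, when k ≥ 1, the (k−1)-st is not. -/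
theorem result (p : ℕ) [Fact p.Prime] (n : ℕ) (hn : 1 ≤ n) (P : Sylow p (Equiv.Perm (Fin n))) : derivedSeries ↥(P : Subgroup (Equiv.Perm (Fin n))) (Nat.log p n) = ⊥ ∧ (1 ≤ Nat.log p n → derivedSeries ↥(P : Subgroup (Equiv.Perm (Fin n))) (Nat.log p n - 1) ≠ ⊥) := by
  refine ⟨upper_bound p n P, ?_⟩
  intro hk
  have hpp : p.Prime := Fact.out
  obtain ⟨X⟩ := pdata_exists p (Nat.log p n)
  letI := X.grp
  haveI := X.fin
  haveI := X.fl
  haveI := X.ne
  letI := X.act
  haveI := X.faith
  classical
  letI : Fintype X.Λ := Fintype.ofFinite X.Λ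
  have hcard : Fintype.card X.Λ ≤ Fintype.card (Fin n) := by
    rw [← Nat.card_eq_fintype_card, X.card, Fintype.card_fin]
    exact Nat.pow_log_le_self p (by omega)
  obtain ⟨ι⟩ : Nonempty (X.Λ ↪ Fin n) := Function.Embedding.nonempty_of_card_le hcard
  let φ : X.W →* Equiv.Perm (Fin n) :=
    (Equiv.Perm.viaEmbeddingHom ι).comp (MulAction.toPermHom X.W X.Λ)
  have hφ : Function.Injective φ :=
    (Equiv.Perm.viaEmbeddingHom_injective ι).comp MulAction.toPerm_injective
  have hpg : IsPGroup p φ.range :=
    X.pg.of_surjective φ.rangeRestrict φ.rangeRestrict_surjective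
  obtain ⟨P', hP'⟩ := hpg.exists_le_sylow
  let ψ : X.W →* ↥(P' : Subgroup (Equiv.Perm (Fin n))) :=
    φ.codRestrict (P' : Subgroup (Equiv.Perm (Fin n))) (fun w => hP' ⟨w, rfl⟩)
  have hψ : Function.Injective ψ := by
    intro a b hab
    apply hφ
    exact congrArg Subtype.val hab
  let e : ↥(P' : Subgroup (Equiv.Perm (Fin n))) ≃* ↥(P : Subgroup (Equiv.Perm (Fin n))) :=
    Sylow.equiv P' P
  let θ : X.W →* ↥(P : Subgroup (Equiv.Perm (Fin n))) := e.toMonoidHom.comp ψ
  have hθ : Function.Injective θ := e.injective.comp hψ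
  have hne := X.ds hk
  obtain ⟨⟨d, hd⟩, hd1⟩ := (Subgroup.ne_bot_iff_exists_ne_one).mp hne
  have hd1' : d ≠ 1 := fun h => hd1 (Subtype.ext h)
  have hmem := map_derivedSeries_le_derivedSeries θ (Nat.log p n - 1)
    (Subgroup.mem_map_of_mem θ hd)
  intro hbot
  rw [hbot, Subgroup.mem_bot] at hmem
  exact hd1' (hθ (hmem.trans (map_one θ).symm))

end Cfsg.Agent.S4014
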