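import Cfsg.Statements.S4023
import Mathlib
import Cfsg.Agent.S0016
import Cfsg.Agent.Lib.Helper1_Card

set_option autoImplicit false
open Cfsg

namespace Cfsg.Agent.S4023

open scoped Pointwise

/-- Any two subgroups of the same order are isomorphic. -/
def AllIso (X : Type*) [Group X] : Prop :=
  ∀ H K : Subgroup X, Nat.card H = Nat.card K → Nonempty (H ≃* K)

theorem AllIso.of_equiv {X Y : Type*} [Group X] [Group Y] (h : AllIso X) (e : X ≃* Y) :
    AllIso Y := by
  intro H K hHK
  have e1 : H ≃* H.map (e.symm : Y →* X) := e.symm.subgroupMap H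
  have e2 : K ≃* K.map (e.symm : Y →* X) := e.symm.subgroupMap K
  have hc : Nat.card (H.map (e.symm : Y →* X)) = Nat.card (K.map (e.symm : Y →* X)) := by
    rw [← Nat.card_congr e1.toEquiv, ← Nat.card_congr e2.toEquiv, hHK]
  obtain ⟨f⟩ := h _ _ hc
  exact ⟨(e1.trans f).trans e2.symm⟩

theorem card_sup_le {X : Type*} [Group X] [Finite X] (H N : Subgroup X)
    (hLE : H ≤ Subgroup.normalizer (N : Set X)) :
    Nat.card (H ⊔ N : Subgroup X) ≤ Nat.card H * Nat.card N := by
  have h1 := Cfsg.Agent.Lib.Helper1_Card.card_mul_card_inf H N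
  have h2 : ((H ⊔ N : Subgroup X) : Set X) = (H : Set X) * (N : Set X) :=
    Subgroup.coe_mul_of_left_le_normalizer_right H N hLE
  rw [← h2] at h1
  have h3 : 0 < Nat.card (H ⊓ N : Subgroup X) := Nat.card_pos
  calc Nat.card (H ⊔ N : Subgroup X) ≤ Nat.card (H ⊔ N : Subgroup X) * Nat.card (H ⊓ N : Subgroup X) :=
        Nat.le_mul_of_pos_right _ h3
    _ = Nat.card H * Nat.card N := h1

/-- In a finite group, `g` normalizes `E` as soon as it conjugates `E` into itself. -/
theorem mem_normalizer_of_forall {T : Type*} [Group T] [Finite T] (E : Subgroup T) (g : T)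
    (h : ∀ x ∈ E, g * x * g⁻¹ ∈ E) : g ∈ Subgroup.normalizer (E : Set T) := by
  have hle : E.map (MulAut.conj g).toMonoidHom ≤ E := by
    rintro _ ⟨x, hx, rfl⟩
    exact h x hx
  have hcard : Nat.card (E.map (MulAut.conj g).toMonoidHom) = Nat.card E :=
    Subgroup.card_map_of_injective (MulAut.conj g).injective
  have heq := Subgroup.eq_of_le_of_card_ge hle (by rw [hcard])
  rw [Subgroup.mem_normalizer_iff]
  intro x
  constructor
  · exact h x
  · intro hx
    rw [← heq] at hx
    obtain ⟨y, hy, hyx⟩ := hx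
    have : y = x := by
      have h1 : g * y * g⁻¹ = g * x * g⁻¹ := hyx
      have h2 : y = g⁻¹ * (g * y * g⁻¹) * g := by group
      rw [h2, h1]; group
    exact this ▸ hy

/-- Order of a subgroup strictly between `p ^ k` and at most `p ^ (k+1)` in a `p`-group. -/
theorem card_eq_of_lt_of_le {X : Type*} [Group X] [Finite X] {p : ℕ} [Fact p.Prime]
    (hX : IsPGroup p X) (H : Subgroup X) (k : ℕ) (h1 : p ^ k < Nat.card H)
    (h2 : Nat.card H ≤ p ^ (k + 1)) : Nat.card H = p ^ (k + 1) := by
  have hp : p.Prime := Fact.out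
  obtain ⟨j, hj⟩ := IsPGroup.iff_card.mp (hX.to_subgroup H)
  rw [hj] at h1 h2 ⊢
  have h3 : k < j := (Nat.pow_lt_pow_iff_right hp.one_lt).mp h1
  have h4 : j ≤ k + 1 := (Nat.pow_le_pow_iff_right hp.one_lt).mp h2
  have : j = k + 1 := by omega
  rw [this]

theorem card_zpowers_of_pow {X : Type*} [Group X] [Finite X] {p : ℕ} [Fact p.Prime]
    (x : X) (hx : x ^ p = 1) (hx1 : x ≠ 1) : Nat.card (Subgroup.zpowers x) = p := by
  rw [Nat.card_zpowers]
  exact orderOf_eq_prime hx hx1

theorem card_sup_zpowers {X : Type*} [Group X] [Finite X] {p : ℕ} [Fact p.Prime]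
    (hX : IsPGroup p X) (N : Subgroup X) (k : ℕ) (hN : Nat.card N = p ^ k) (w : X)
    (hw : w ^ p = 1) (hwN : w ∉ N) (hnorm : w ∈ Subgroup.normalizer (N : Set X)) :
    Nat.card (Subgroup.zpowers w ⊔ N : Subgroup X) = p ^ (k + 1) := by
  have hw1 : w ≠ 1 := fun h => hwN (h ▸ N.one_mem)
  apply card_eq_of_lt_of_le hX
  · rw [← hN]
    have hle : N ≤ Subgroup.zpowers w ⊔ N := le_sup_right
    rcases (Subgroup.card_le_of_le hle).lt_or_eq with h | h
    · exact h
    · exfalso
      have := Subgroup.eq_of_le_of_card_ge hle h.ge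
      apply hwN
      rw [this]
      exact (le_sup_left : Subgroup.zpowers w ≤ _) (Subgroup.mem_zpowers w)
  · have := card_sup_le (Subgroup.zpowers w) N ((Subgroup.zpowers_le).mpr hnorm)
    rw [card_zpowers_of_pow w hw hw1, hN] at this
    rw [pow_succ']
    exact this

/-- the subgroup generated by three pairwise commuting elements is commutative -/
theorem comm_of_gens {X : Type*} [Group X] (u v w : X) (huv : u * v = v * u)
    (huw : u * w = w * u) (hvw : v * w = w * v) :
    ∀ x ∈ (Subgroup.zpowers w ⊔ (Subgroup.zpowers v ⊔ Subgroup.zpowers u) : Subgroup X),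
    ∀ y ∈ (Subgroup.zpowers w ⊔ (Subgroup.zpowers v ⊔ Subgroup.zpowers u) : Subgroup X),
      x * y = y * x := by
  have step : ∀ t : X, t * u = u * t → t * v = v * t → t * w = w * t →
      (Subgroup.zpowers w ⊔ (Subgroup.zpowers v ⊔ Subgroup.zpowers u) : Subgroup X) ≤
        Subgroup.centralizer {t} := by
    intro t h1 h2 h3
    refine sup_le ?_ (sup_le ?_ ?_)
    · rw [Subgroup.zpowers_le, Subgroup.mem_centralizer_singleton_iff]; exact h3.symm
    · rw [Subgroup.zpowers_le, Subgroup.mem_centralizer_singleton_iff]; exact h2.symm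
    · rw [Subgroup.zpowers_le, Subgroup.mem_centralizer_singleton_iff]; exact h1.symm
  intro x hx y hy
  have h1 := Subgroup.mem_centralizer_singleton_iff.mp (step u rfl huv huw hx)
  have h2 := Subgroup.mem_centralizer_singleton_iff.mp (step v huv.symm rfl hvw hx)
  have h3 := Subgroup.mem_centralizer_singleton_iff.mp (step w huw.symm hvw.symm rfl hx)
  have := Subgroup.mem_centralizer_singleton_iff.mp (step x h1 h2 h3 hy)
  exact this.symm

/-- three independent commuting elements of order `p` generate an abelian subgroup of order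
`p ^ 3`. -/
theorem three_commuting {X : Type*} [Group X] [Finite X] {p : ℕ} [Fact p.Prime]
    (hX : IsPGroup p X) (u v w : X) (hu : u ^ p = 1) (hv : v ^ p = 1) (hw : w ^ p = 1)
    (huv : u * v = v * u) (huw : u * w = w * u) (hvw : v * w = w * v)
    (hu1 : u ≠ 1) (hvu : v ∉ Subgroup.zpowers u)
    (hwvu : w ∉ (Subgroup.zpowers v ⊔ Subgroup.zpowers u : Subgroup X)) :
    ∃ E : Subgroup X, Nat.card E = p ^ 3 ∧ ∀ x ∈ E, ∀ y ∈ E, x * y = y * x := by
  refine ⟨Subgroup.zpowers w ⊔ (Subgroup.zpowers v ⊔ Subgroup.zpowers u), ?_,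
    comm_of_gens u v w huv huw hvw⟩
  have h1 : Nat.card (Subgroup.zpowers u) = p ^ 1 := by
    rw [pow_one]; exact card_zpowers_of_pow u hu hu1
  have hvn : v ∈ Subgroup.normalizer ((Subgroup.zpowers u : Subgroup X) : Set X) := by
    apply mem_normalizer_of_forall
    intro x hx
    obtain ⟨k, rfl⟩ := Subgroup.mem_zpowers_iff.mp hx
    have hc : Commute v (u ^ k) := (Commute.zpow_right (huv.symm : Commute v u) k)
    have : v * u ^ k * v⁻¹ = u ^ k := by rw [hc.eq]; group
    rw [this]; exact hx
  have h2 := card_sup_zpowers hX (Subgroup.zpowers u) 1 h1 v hv hvu hvn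
  have hwn : w ∈ Subgroup.normalizer
      ((Subgroup.zpowers v ⊔ Subgroup.zpowers u : Subgroup X) : Set X) := by
    apply mem_normalizer_of_forall
    intro x hx
    have hcx : x ∈ Subgroup.centralizer {w} := by
      have : (Subgroup.zpowers v ⊔ Subgroup.zpowers u : Subgroup X) ≤ Subgroup.centralizer {w} := by
        refine sup_le ?_ ?_
        · rw [Subgroup.zpowers_le, Subgroup.mem_centralizer_singleton_iff]; exact hvw
        · rw [Subgroup.zpowers_le, Subgroup.mem_centralizer_singleton_iff]; exact huw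
      exact this hx
    rw [Subgroup.mem_centralizer_singleton_iff] at hcx
    have : w * x * w⁻¹ = x := by rw [← hcx]; group
    rw [this]; exact hx
  exact card_sup_zpowers hX _ 2 h2 w hw hwvu hwn

theorem exists_second_center {X : Type*} [Group X] [Finite X] {p : ℕ} [Fact p.Prime]
    (hX : IsPGroup p X) (hna : ¬ ∀ x y : X, x * y = y * x) :
    ∃ a : X, a ∉ Subgroup.center X ∧ ∀ x : X, a * x * a⁻¹ * x⁻¹ ∈ Subgroup.center X := by
  have hZ : Subgroup.center X ≠ ⊤ := by
    intro h; apply hna; intro x y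
    have : y ∈ Subgroup.center X := h ▸ Subgroup.mem_top y
    exact (Subgroup.mem_center_iff.mp this x)
  haveI : Nontrivial (X ⧸ Subgroup.center X) := by
    rw [← Finite.one_lt_card_iff_nontrivial]
    have h1 : (Subgroup.center X).index ≠ 1 := fun h => hZ (Subgroup.index_eq_one.mp h)
    have h0 : (Subgroup.center X).index ≠ 0 := Subgroup.index_ne_zero_of_finite
    have : Nat.card (X ⧸ Subgroup.center X) = (Subgroup.center X).index := rfl
    omega
  have hq : IsPGroup p (X ⧸ Subgroup.center X) := hX.to_quotient _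
  haveI := hq.center_nontrivial
  obtain ⟨⟨y, hy⟩, hy1⟩ := exists_ne (1 : Subgroup.center (X ⧸ Subgroup.center X))
  obtain ⟨a, rfl⟩ := QuotientGroup.mk_surjective y
  refine ⟨a, ?_, ?_⟩
  · intro ha
    apply hy1
    apply Subtype.ext
    exact (QuotientGroup.eq_one_iff a).mpr ha
  · intro x
    rw [← QuotientGroup.eq_one_iff]
    have := Subgroup.mem_center_iff.mp hy (QuotientGroup.mk x)
    simp only [QuotientGroup.mk_mul, QuotientGroup.mk_inv]
    rw [← this]; group

theorem nonabelian_cube {X : Type*} [Group X] [Finite X] {p : ℕ} [Fact p.Prime]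
    (hX : IsPGroup p X) (hexp : ∀ x : X, x ^ p = 1) (a b : X)
    (ha : ∀ x : X, a * x * a⁻¹ * x⁻¹ ∈ Subgroup.center X) (hab : a * b ≠ b * a) :
    ∃ H : Subgroup X, Nat.card H = p ^ 3 ∧ a ∈ H ∧ b ∈ H := by
  obtain ⟨c, hc⟩ : ∃ c, c = a * b * a⁻¹ * b⁻¹ := ⟨_, rfl⟩
  have hcZ : c ∈ Subgroup.center X := hc ▸ ha b
  have hc1 : c ≠ 1 := by
    intro h; apply hab
    rw [h] at hc
    calc a * b = (a * b * a⁻¹ * b⁻¹) * b * a := by group
      _ = b * a := by rw [← hc]; group
  have hcomm : ∀ x, c * x = x * c := fun x => ((Subgroup.mem_center_iff.mp hcZ) x).symm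
  have hC : Nat.card (Subgroup.zpowers c) = p ^ 1 := by
    rw [pow_one]; exact card_zpowers_of_pow c (hexp c) hc1
  have hCZ : Subgroup.zpowers c ≤ Subgroup.center X := Subgroup.zpowers_le.mpr hcZ
  have haC : a ∉ Subgroup.zpowers c := by
    intro h
    have haZ := hCZ h
    apply hab; exact ((Subgroup.mem_center_iff.mp haZ) b).symm
  have hanorm : a ∈ Subgroup.normalizer ((Subgroup.zpowers c : Subgroup X) : Set X) := by
    apply mem_normalizer_of_forall
    intro x hx
    have hxZ : x ∈ Subgroup.center X := hCZ hx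
    have : a * x * a⁻¹ = x := by rw [(Subgroup.mem_center_iff.mp hxZ) a]; group
    rw [this]; exact hx
  have hAC := card_sup_zpowers hX (Subgroup.zpowers c) 1 hC a (hexp a) haC hanorm
  have hACcent : (Subgroup.zpowers a ⊔ Subgroup.zpowers c : Subgroup X) ≤
      Subgroup.centralizer {a} := by
    refine sup_le ?_ ?_
    · rw [Subgroup.zpowers_le, Subgroup.mem_centralizer_singleton_iff]
    · rw [Subgroup.zpowers_le, Subgroup.mem_centralizer_singleton_iff]; exact hcomm a
  have hbAC : b ∉ (Subgroup.zpowers a ⊔ Subgroup.zpowers c : Subgroup X) := by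
    intro h
    exact hab ((Subgroup.mem_centralizer_singleton_iff.mp (hACcent h))).symm
  have hbnorm : b ∈ Subgroup.normalizer
      ((Subgroup.zpowers a ⊔ Subgroup.zpowers c : Subgroup X) : Set X) := by
    apply mem_normalizer_of_forall
    intro x hx
    have hle : (Subgroup.zpowers a ⊔ Subgroup.zpowers c : Subgroup X).map
        (MulAut.conj b).toMonoidHom ≤ Subgroup.zpowers a ⊔ Subgroup.zpowers c := by
      rw [Subgroup.map_sup, MonoidHom.map_zpowers, MonoidHom.map_zpowers]
      refine sup_le ?_ ?_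
      · rw [Subgroup.zpowers_le]
        have : (MulAut.conj b).toMonoidHom a = c⁻¹ * a := by
          change b * a * b⁻¹ = c⁻¹ * a
          rw [hc]; group
        rw [this]
        exact Subgroup.mul_mem _
          (Subgroup.inv_mem _ ((le_sup_right : Subgroup.zpowers c ≤ _) (Subgroup.mem_zpowers c)))
          ((le_sup_left : Subgroup.zpowers a ≤ _) (Subgroup.mem_zpowers a))
      · rw [Subgroup.zpowers_le]
        have : (MulAut.conj b).toMonoidHom c = c := by
          change b * c * b⁻¹ = c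
          rw [← hcomm b]; group
        rw [this]
        exact (le_sup_right : Subgroup.zpowers c ≤ _) (Subgroup.mem_zpowers c)
    exact hle ⟨x, hx, rfl⟩
  have hH := card_sup_zpowers hX _ 2 hAC b (hexp b) hbAC hbnorm
  exact ⟨_, hH, (le_sup_right : (Subgroup.zpowers a ⊔ Subgroup.zpowers c : Subgroup X) ≤ _)
    ((le_sup_left : Subgroup.zpowers a ≤ _) (Subgroup.mem_zpowers a)),
    (le_sup_left : Subgroup.zpowers b ≤ _) (Subgroup.mem_zpowers b)⟩

theorem abelian_cube {X : Type*} [Group X] [Finite X] {p : ℕ} [Fact p.Prime]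
    (hX : IsPGroup p X) (hexp : ∀ x : X, x ^ p = 1) (a : X) (haZ : a ∉ Subgroup.center X)
    (ha : ∀ x : X, a * x * a⁻¹ * x⁻¹ ∈ Subgroup.center X) (hcard : p ^ 4 ≤ Nat.card X) :
    ∃ E : Subgroup X, Nat.card E = p ^ 3 ∧ ∀ x ∈ E, ∀ y ∈ E, x * y = y * x := by
  have hp : p.Prime := Fact.out
  haveI : Nontrivial X := ⟨⟨a, 1, fun h => haZ (h ▸ Subgroup.one_mem _)⟩⟩
  haveI := hX.center_nontrivial
  obtain ⟨⟨z, hz⟩, hz1'⟩ := exists_ne (1 : Subgroup.center X)
  have hz1 : z ≠ 1 := fun h => hz1' (Subtype.ext h)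
  have hzc : ∀ x, z * x = x * z := fun x => ((Subgroup.mem_center_iff.mp hz) x).symm
  have hzZ : Subgroup.zpowers z ≤ Subgroup.center X := Subgroup.zpowers_le.mpr hz
  have haz : a ∉ Subgroup.zpowers z := fun h => haZ (hzZ h)
  by_cases hZ : Subgroup.center X ≤ Subgroup.zpowers z
  · let f : X →* Subgroup.center X := MonoidHom.mk' (fun x => ⟨a * x * a⁻¹ * x⁻¹, ha x⟩) (by
      intro x y
      apply Subtype.ext
      simp only [Subgroup.coe_mul]
      have hy := (Subgroup.mem_center_iff.mp (ha y)) x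
      calc a * (x * y) * a⁻¹ * (x * y)⁻¹
          = (a * x * a⁻¹ * x⁻¹) * (x * (a * y * a⁻¹ * y⁻¹)) * x⁻¹ := by group
        _ = (a * x * a⁻¹ * x⁻¹) * ((a * y * a⁻¹ * y⁻¹) * x) * x⁻¹ := by rw [hy]
        _ = _ := by group)
    have hker : f.ker = Subgroup.centralizer {a} := by
      ext x
      rw [MonoidHom.mem_ker, Subgroup.mem_centralizer_singleton_iff]
      constructor
      · intro h
        have h' : a * x * a⁻¹ * x⁻¹ = 1 := congrArg Subtype.val h
        calc x * a = (a * x * a⁻¹ * x⁻¹)⁻¹ * a * x := by group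
          _ = a * x := by rw [h']; group
      · intro h
        apply Subtype.ext
        change a * x * a⁻¹ * x⁻¹ = 1
        rw [← h]; group
    have hidx : f.ker.index ≤ p := by
      rw [Subgroup.index_ker]
      calc Nat.card f.range ≤ Nat.card (Subgroup.center X) := Subgroup.card_le_card_group _
        _ ≤ Nat.card (Subgroup.zpowers z) := Subgroup.card_le_of_le hZ
        _ = p := card_zpowers_of_pow z (hexp z) hz1
    have hCa : p ^ 3 ≤ Nat.card (Subgroup.centralizer ({a} : Set X)) := by
      rw [← hker]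
      have hmul := Subgroup.card_mul_index f.ker
      by_contra hlt
      push Not at hlt
      have h1 : Nat.card X < p ^ 3 * p :=
        calc Nat.card X = Nat.card f.ker * f.ker.index := hmul.symm
          _ ≤ Nat.card f.ker * p := Nat.mul_le_mul_left _ hidx
          _ < p ^ 3 * p := Nat.mul_lt_mul_of_pos_right hlt hp.pos
      have h2 : p ^ 3 * p = p ^ 4 := by ring
      omega
    have hC : Nat.card (Subgroup.zpowers z) = p ^ 1 := by
      rw [pow_one]; exact card_zpowers_of_pow z (hexp z) hz1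
    have hanorm : a ∈ Subgroup.normalizer ((Subgroup.zpowers z : Subgroup X) : Set X) := by
      apply mem_normalizer_of_forall
      intro x hx
      have hxZ : x ∈ Subgroup.center X := hzZ hx
      have : a * x * a⁻¹ = x := by rw [(Subgroup.mem_center_iff.mp hxZ) a]; group
      rw [this]; exact hx
    have hN := card_sup_zpowers hX (Subgroup.zpowers z) 1 hC a (hexp a) haz hanorm
    have hex : ∃ x ∈ Subgroup.centralizer ({a} : Set X),
        x ∉ (Subgroup.zpowers a ⊔ Subgroup.zpowers z : Subgroup X) := by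
      by_contra hno
      push Not at hno
      have hle : Subgroup.centralizer ({a} : Set X) ≤ Subgroup.zpowers a ⊔ Subgroup.zpowers z := hno
      have h1 := Subgroup.card_le_of_le hle
      rw [hN] at h1
      have h2 : p ^ (1 + 1) < p ^ 3 := Nat.pow_lt_pow_right hp.one_lt (by norm_num)
      omega
    obtain ⟨x, hxa, hxN⟩ := hex
    rw [Subgroup.mem_centralizer_singleton_iff] at hxa
    exact three_commuting hX z a x (hexp z) (hexp a) (hexp x) (hzc a) (hzc x) hxa.symm hz1 haz hxN
  · obtain ⟨z2, hz2, hz2n⟩ := SetLike.not_le_iff_exists.mp hZ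
    have hz2c : ∀ x, z2 * x = x * z2 := fun x => ((Subgroup.mem_center_iff.mp hz2) x).symm
    have hle : (Subgroup.zpowers z2 ⊔ Subgroup.zpowers z : Subgroup X) ≤ Subgroup.center X :=
      sup_le (Subgroup.zpowers_le.mpr hz2) hzZ
    exact three_commuting hX z z2 a (hexp z) (hexp z2) (hexp a) (hzc z2) (hzc a) (hz2c a) hz1 hz2n
      (fun h => haZ (hle h))

/-- the subgroup of rotations of the quaternion group -/
def aSub (m : ℕ) : Subgroup (QuaternionGroup m) where
  carrier := {x | ∃ j, x = QuaternionGroup.a j}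
  mul_mem' := by
    rintro _ _ ⟨i, rfl⟩ ⟨j, rfl⟩
    exact ⟨i + j, QuaternionGroup.a_mul_a i j⟩
  one_mem' := ⟨0, rfl⟩
  inv_mem' := by
    rintro _ ⟨i, rfl⟩
    exact ⟨-i, rfl⟩

theorem quaternion_not_allIso (n : ℕ) (hn : 2 ≤ n) : ¬ AllIso (QuaternionGroup (2 ^ n)) := by
  intro h
  haveI : NeZero (2 ^ n) := ⟨by positivity⟩
  haveI : Fact (Nat.Prime 2) := ⟨Nat.prime_two⟩
  have hcard : Nat.card (QuaternionGroup (2 ^ n)) = 2 ^ (n + 2) := by
    rw [Nat.card_eq_fintype_card, QuaternionGroup.card]; ring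
  obtain ⟨g, hg⟩ : ∃ g : QuaternionGroup (2 ^ n), orderOf g = 8 := by
    refine ⟨(QuaternionGroup.a 1) ^ (2 ^ (n - 2)), ?_⟩
    rw [orderOf_pow' _ (by positivity), QuaternionGroup.orderOf_a_one]
    obtain ⟨m, rfl⟩ : ∃ m, n = m + 2 := ⟨n - 2, by omega⟩
    simp only [Nat.add_sub_cancel]
    have : 2 * 2 ^ (m + 2) = 2 ^ m * 8 := by ring
    rw [this, Nat.gcd_eq_right (dvd_mul_right _ _), Nat.mul_div_cancel_left _ (by positivity)]
  have hC8 : Nat.card (Subgroup.zpowers g) = 2 ^ 3 := by
    rw [Nat.card_zpowers, hg]; norm_num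
  have hY4 : Nat.card (Subgroup.zpowers (QuaternionGroup.xa (0 : ZMod (2 * 2 ^ n)))) = 2 ^ 2 := by
    rw [Nat.card_zpowers, QuaternionGroup.orderOf_xa]; norm_num
  have hdvd : 2 ^ (2 + 1) ∣ Nat.card (QuaternionGroup (2 ^ n)) := by
    rw [hcard]; exact pow_dvd_pow 2 (by omega)
  obtain ⟨K, hK, hYK⟩ := Sylow.exists_subgroup_card_pow_succ hdvd hY4
  obtain ⟨e⟩ := h (Subgroup.zpowers g) K (by rw [hC8, hK])
  haveI : IsCyclic K := isCyclic_of_surjective e e.surjective
  obtain ⟨⟨k, hkK⟩, hk⟩ := IsCyclic.exists_generator (α := K)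
  have hko : orderOf k = 8 := by
    have h1 := orderOf_eq_card_of_forall_mem_zpowers hk
    rw [Subgroup.orderOf_mk] at h1
    rw [h1, hK]; norm_num
  have hxaK : QuaternionGroup.xa (0 : ZMod (2 * 2 ^ n)) ∈ K := hYK (Subgroup.mem_zpowers _)
  have hmem := hk ⟨_, hxaK⟩
  obtain ⟨j, hj⟩ := Subgroup.mem_zpowers_iff.mp hmem
  have hj' : k ^ j = QuaternionGroup.xa (0 : ZMod (2 * 2 ^ n)) := by
    have := congrArg (fun y : K => (y : QuaternionGroup (2 ^ n))) hj
    simpa using this
  cases k with
  | a i =>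
    have h1 : (QuaternionGroup.a i : QuaternionGroup (2 ^ n)) ^ j ∈ aSub (2 ^ n) :=
      (aSub (2 ^ n)).zpow_mem ⟨i, rfl⟩ j
    rw [hj'] at h1
    obtain ⟨l, hl⟩ := h1
    cases hl
  | xa i =>
    rw [QuaternionGroup.orderOf_xa] at hko
    omega

theorem caseA {X : Type*} [Group X] [Finite X] {p : ℕ} [Fact p.Prime] (hX : IsPGroup p X)
    (hiso : AllIso X) (a0 : X) (ha0 : a0 ^ p ≠ 1) :
    IsCyclic X ∨ (p = 2 ∧ Nonempty (X ≃* QuaternionGroup 2)) := by
  have hp : p.Prime := Fact.out
  -- an element of order p^2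
  obtain ⟨k, hk⟩ := IsPGroup.iff_orderOf.mp hX a0
  have hk2 : 2 ≤ k := by
    by_contra hlt
    push Not at hlt
    apply ha0
    have : orderOf a0 ∣ p := by
      rw [hk]
      calc p ^ k ∣ p ^ 1 := pow_dvd_pow p (by omega)
        _ = p := pow_one p
    exact orderOf_dvd_iff_pow_eq_one.mp this
  obtain ⟨g, hg⟩ : ∃ g : X, orderOf g = p ^ 2 := by
    refine ⟨a0 ^ (p ^ (k - 2)), ?_⟩
    rw [orderOf_pow' _ (pow_ne_zero _ hp.ne_zero), hk]
    obtain ⟨m, rfl⟩ : ∃ m, k = m + 2 := ⟨k - 2, by omega⟩
    simp only [Nat.add_sub_cancel]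
    have : p ^ (m + 2) = p ^ m * p ^ 2 := pow_add p m 2
    rw [this, Nat.gcd_eq_right (dvd_mul_right _ _),
      Nat.mul_div_cancel_left _ (pow_pos hp.pos m)]
  have hcyc2 : ∀ K : Subgroup X, Nat.card K = p ^ 2 → IsCyclic K := by
    intro K hK
    obtain ⟨e⟩ := hiso (Subgroup.zpowers g) K (by rw [Nat.card_zpowers, hg, hK])
    exact isCyclic_of_surjective e e.surjective
  -- a central element of order p
  haveI : Nontrivial X := ⟨⟨a0, 1, fun h => ha0 (by rw [h, one_pow])⟩⟩
  haveI := hX.center_nontrivial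
  have hZp : IsPGroup p (Subgroup.center X) := hX.to_subgroup _
  obtain ⟨m, hm0, hm⟩ := (IsPGroup.nontrivial_iff_card hZp).mp inferInstance
  have hpZ : p ∣ Nat.card (Subgroup.center X) := by
    rw [hm]; exact dvd_pow_self p (by omega)
  obtain ⟨⟨z, hz⟩, hzo⟩ := exists_prime_orderOf_dvd_card' p hpZ
  have hzo' : orderOf z = p := by
    rw [← hzo]; exact (Subgroup.orderOf_mk z hz).symm
  have hzp : z ^ p = 1 := by rw [← hzo']; exact pow_orderOf_eq_one z
  have hz1 : z ≠ 1 := by
    intro h
    rw [h, orderOf_one] at hzo'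
    exact hp.one_lt.ne hzo'
  have hzZ : Subgroup.zpowers z ≤ Subgroup.center X := Subgroup.zpowers_le.mpr hz
  have hCz : Nat.card (Subgroup.zpowers z) = p ^ 1 := by
    rw [pow_one]; exact card_zpowers_of_pow z hzp hz1
  have hkey : ∀ H : Subgroup X, Nat.card H = p → H = Subgroup.zpowers z := by
    intro H hH
    by_contra hne
    have hHnt : H ≠ ⊥ := by
      intro h
      rw [h, Subgroup.card_bot] at hH
      exact hp.one_lt.ne hH
    obtain ⟨⟨h, hhH⟩, hh1'⟩ := (Subgroup.ne_bot_iff_exists_ne_one.mp hHnt)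
    have hh1 : h ≠ 1 := fun hh => hh1' (Subtype.ext hh)
    have hhp : h ^ p = 1 := by
      have h1 : (⟨h, hhH⟩ : H) ^ Nat.card H = 1 := pow_card_eq_one'
      rw [hH] at h1
      exact congrArg Subtype.val h1
    have hCh : Nat.card (Subgroup.zpowers h) = p := card_zpowers_of_pow h hhp hh1
    have hhle : Subgroup.zpowers h ≤ H := Subgroup.zpowers_le.mpr hhH
    have hhH2 : Subgroup.zpowers h = H := Subgroup.eq_of_le_of_card_ge hhle (by rw [hCh, hH])
    have hhz : h ∉ Subgroup.zpowers z := by
      intro hmem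
      apply hne
      have hle : Subgroup.zpowers h ≤ Subgroup.zpowers z := Subgroup.zpowers_le.mpr hmem
      have := Subgroup.eq_of_le_of_card_ge hle (by rw [hCh, hCz, pow_one])
      rw [← hhH2, this]
    have hnorm : h ∈ Subgroup.normalizer ((Subgroup.zpowers z : Subgroup X) : Set X) := by
      apply mem_normalizer_of_forall
      intro x hx
      have hxZ : x ∈ Subgroup.center X := hzZ hx
      have : h * x * h⁻¹ = x := by rw [(Subgroup.mem_center_iff.mp hxZ) h]; group
      rw [this]; exact hx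
    have hK := card_sup_zpowers hX (Subgroup.zpowers z) 1 hCz h hhp hhz hnorm
    haveI := hcyc2 _ hK
    obtain ⟨⟨k', hk'K⟩, hk'⟩ := IsCyclic.exists_generator
      (α := (Subgroup.zpowers h ⊔ Subgroup.zpowers z : Subgroup X))
    have hko : orderOf k' = p ^ 2 := by
      have h1 := orderOf_eq_card_of_forall_mem_zpowers hk'
      rw [Subgroup.orderOf_mk] at h1
      rw [h1, hK]
    -- but every element of the join has p-th power 1
    have hcoe : ((Subgroup.zpowers h ⊔ Subgroup.zpowers z : Subgroup X) : Set X) =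
        (Subgroup.zpowers h : Set X) * (Subgroup.zpowers z : Set X) :=
      Subgroup.coe_mul_of_left_le_normalizer_right _ _ (Subgroup.zpowers_le.mpr hnorm)
    have hk'mem : k' ∈ ((Subgroup.zpowers h ⊔ Subgroup.zpowers z : Subgroup X) : Set X) := hk'K
    rw [hcoe] at hk'mem
    obtain ⟨x, hx, y, hy, hxy⟩ := hk'mem
    have hx' : x ∈ Subgroup.zpowers h := hx
    have hy' : y ∈ Subgroup.zpowers z := hy
    have hyZ : y ∈ Subgroup.center X := hzZ hy'
    have hxp : x ^ p = 1 := by
      obtain ⟨i, rfl⟩ := Subgroup.mem_zpowers_iff.mp hx'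
      rw [← zpow_natCast, ← zpow_mul, mul_comm, zpow_mul, zpow_natCast, hhp, one_zpow]
    have hyp : y ^ p = 1 := by
      obtain ⟨i, rfl⟩ := Subgroup.mem_zpowers_iff.mp hy'
      rw [← zpow_natCast, ← zpow_mul, mul_comm, zpow_mul, zpow_natCast, hzp, one_zpow]
    have hk'p : k' ^ p = 1 := by
      have hc : Commute x y := (Subgroup.mem_center_iff.mp hyZ) x
      have : x * y = k' := hxy
      rw [← this, hc.mul_pow, hxp, hyp, one_mul]
    have := orderOf_dvd_of_pow_eq_one hk'p
    rw [hko] at this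
    have h2 := Nat.le_of_dvd hp.pos this
    have h3 : p < p ^ 2 := by
      calc p = p ^ 1 := (pow_one p).symm
        _ < p ^ 2 := Nat.pow_lt_pow_right hp.one_lt (by norm_num)
    omega
  have huniq : ∀ H K : Subgroup X, Nat.card H = p → Nat.card K = p → H = K := by
    intro H K hH hK
    rw [hkey H hH, hkey K hK]
  rcases Cfsg.Agent.S0016.result p hX huniq with hc | ⟨hp2, n, ⟨e⟩⟩
  · exact Or.inl hc
  · rcases Nat.lt_or_ge n 2 with hn | hn
    · interval_cases n
      · left
        have e' : X ≃* QuaternionGroup 1 := by rw [pow_zero] at e; exact e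
        haveI := QuaternionGroup.quaternionGroup_one_isCyclic
        exact isCyclic_of_surjective e'.symm e'.symm.surjective
      · right
        have e' : X ≃* QuaternionGroup 2 := by rw [pow_one] at e; exact e
        exact ⟨hp2, ⟨e'⟩⟩
    · exact absurd (hiso.of_equiv e) (quaternion_not_allIso n hn)

theorem main {X : Type*} [Group X] [Finite X] {p : ℕ} [Fact p.Prime] (hX : IsPGroup p X)
    (hiso : AllIso X) :
    IsCyclic X ∨ ((∀ x y : X, x * y = y * x) ∧ ∀ a : X, a ^ p = 1) ∨
      (p = 2 ∧ Nonempty (X ≃* QuaternionGroup 2)) ∨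
      (p ≠ 2 ∧ ¬ (∀ x y : X, x * y = y * x) ∧ Nat.card X = p ^ 3 ∧ Monoid.exponent X = p) := by
  have hp : p.Prime := Fact.out
  by_cases hexp : ∀ a : X, a ^ p = 1
  · by_cases hcomm : ∀ x y : X, x * y = y * x
    · exact Or.inr (Or.inl ⟨hcomm, hexp⟩)
    · right; right; right
      have hp2 : p ≠ 2 := by
        rintro rfl
        apply hcomm
        intro x y
        have hx : x * x = 1 := by rw [← pow_two]; exact hexp x
        have hy : y * y = 1 := by rw [← pow_two]; exact hexp y
        have h1 : x * y * (x * y) = 1 := by rw [← pow_two]; exact hexp (x * y)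
        symm
        calc y * x = (x * x) * (y * x) * (y * y) := by rw [hx, hy]; group
          _ = x * (x * y * (x * y)) * y := by group
          _ = x * y := by rw [h1]; group
      obtain ⟨a, haZ, ha⟩ := exists_second_center hX hcomm
      obtain ⟨b, hab⟩ : ∃ b, a * b ≠ b * a := by
        by_contra hno
        push Not at hno
        apply haZ
        rw [Subgroup.mem_center_iff]
        intro g
        exact (hno g).symm
      obtain ⟨H, hH, haH, hbH⟩ := nonabelian_cube hX hexp a b ha hab
      refine ⟨hp2, hcomm, ?_, ?_⟩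
      · obtain ⟨n, hn⟩ := IsPGroup.iff_card.mp hX
        have h3 : 3 ≤ n := by
          have := Subgroup.card_le_card_group H
          rw [hH, hn] at this
          exact (Nat.pow_le_pow_iff_right hp.one_lt).mp this
        by_contra hne
        have h4 : 4 ≤ n := by
          rcases h3.lt_or_eq with h | h
          · exact h
          · exfalso; apply hne; rw [hn, ← h]
        have hcard4 : p ^ 4 ≤ Nat.card X := by
          rw [hn]; exact Nat.pow_le_pow_right hp.pos h4
        obtain ⟨E, hE, hEc⟩ := abelian_cube hX hexp a haZ ha hcard4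
        obtain ⟨e⟩ := hiso H E (by rw [hH, hE])
        apply hab
        have := hEc (e ⟨a, haH⟩) (e ⟨a, haH⟩).2 (e ⟨b, hbH⟩) (e ⟨b, hbH⟩).2
        have h' : e ⟨a, haH⟩ * e ⟨b, hbH⟩ = e ⟨b, hbH⟩ * e ⟨a, haH⟩ := Subtype.ext this
        rw [← map_mul, ← map_mul] at h'
        have := e.injective h'
        exact congrArg Subtype.val this
      · have hd : Monoid.exponent X ∣ p := Monoid.exponent_dvd_of_forall_pow_eq_one hexp
        rcases (Nat.dvd_prime hp).mp hd with h1 | h1
        · exfalso
          apply hcomm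
          intro x y
          have hx : x = 1 := by
            have := Monoid.pow_exponent_eq_one x
            rwa [h1, pow_one] at this
          have hy : y = 1 := by
            have := Monoid.pow_exponent_eq_one y
            rwa [h1, pow_one] at this
          rw [hx, hy]
        · exact h1
  · push Not at hexp
    obtain ⟨a0, ha0⟩ := hexp
    rcases caseA hX hiso a0 ha0 with h | h
    · exact Or.inl h
    · exact Or.inr (Or.inr (Or.inl h))

/-- Let p be a prime and G a finite group in which any two p-subgroups of the same order are conjugate, with Sylow p-subgroup P. Then P is cyclic, or elementary abelian, or p = 2 and P is a quaternion group of order 8, or p is odd and P is non-abelian of order p³ and exponent p. -/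
theorem result {G : Type*} [Group G] [Finite G]
    {p : ℕ} [Fact p.Prime] (hC : ∀ H K : Subgroup G, IsPGroup p H → IsPGroup p K → Nat.card H = Nat.card K →
      ∃ g : G, K = H.map (MulAut.conj g).toMonoidHom) (P : Sylow p G) :
    IsCyclic P ∨ Cfsg.IsElementaryAbelian p (P : Subgroup G) ∨
      (p = 2 ∧ Nonempty ((P : Subgroup G) ≃* QuaternionGroup 2)) ∨
      (p ≠ 2 ∧ ¬ IsMulCommutative P ∧ Nat.card P = p ^ 3 ∧ Monoid.exponent P = p) := by
  have hX : IsPGroup p (P : Subgroup G) := P.2
  have hiso : AllIso (P : Subgroup G) := by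
    intro H K hHK
    have hinj : Function.Injective (P : Subgroup G).subtype := Subgroup.subtype_injective _
    have hH' : IsPGroup p (H.map (P : Subgroup G).subtype) := (hX.to_subgroup H).map _
    have hK' : IsPGroup p (K.map (P : Subgroup G).subtype) := (hX.to_subgroup K).map _
    have hc : Nat.card (H.map (P : Subgroup G).subtype) = Nat.card (K.map (P : Subgroup G).subtype) := by
      rw [Subgroup.card_map_of_injective hinj, Subgroup.card_map_of_injective hinj, hHK]
    obtain ⟨g, hg⟩ := hC _ _ hH' hK' hc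
    have e1 : H ≃* H.map (P : Subgroup G).subtype := Subgroup.equivMapOfInjective H _ hinj
    have e2 : K ≃* K.map (P : Subgroup G).subtype := Subgroup.equivMapOfInjective K _ hinj
    have e3 : H.map (P : Subgroup G).subtype ≃*
        (H.map (P : Subgroup G).subtype).map (MulAut.conj g).toMonoidHom :=
      (MulAut.conj g).subgroupMap _
    have e4 : (H.map (P : Subgroup G).subtype).map (MulAut.conj g).toMonoidHom ≃*
        K.map (P : Subgroup G).subtype := MulEquiv.subgroupCongr hg.symm
    exact ⟨((e1.trans e3).trans e4).trans e2.symm⟩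
  rcases main hX hiso with h | ⟨h1, h2⟩ | h | ⟨h1, h2, h3, h4⟩
  · exact Or.inl h
  · right; left
    refine ⟨⟨⟨fun a b => h1 a b⟩⟩, ?_⟩
    intro a ha
    exact congrArg Subtype.val (h2 ⟨a, ha⟩)
  · exact Or.inr (Or.inr (Or.inl h))
  · right; right; right
    refine ⟨h1, ?_, h3, h4⟩
    intro hcm
    exact h2 (fun x y => mul_comm' x y)

end Cfsg.Agent.S4023
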