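import Cfsg.Statements.S4027
import Mathlib
import Cfsg.Agent.S3861

set_option autoImplicit false
open Cfsg

namespace Cfsg.Agent.S4027

/-- Let G be a finite group in which every element x of odd order satisfies N_G(⟨x⟩) = C_G(x). Then the Sylow 2-subgroups of G are normal. -/
theorem result {G : Type*} [Group G] [Finite G]
    (hirr : ∀ x : G, (∀ r : ℕ, r.Prime → r ∣ orderOf x → r ≠ 2) →
      Subgroup.normalizer ((Subgroup.zpowers x : Subgroup G) : Set G) ≤ Subgroup.centralizer {x}) (P : Sylow 2 G) :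
    (P : Subgroup G).Normal := by
  rw [← Cfsg.Agent.S3861.result P]
  intro x hx1 hxodd hxconj
  obtain ⟨c, hc⟩ := isConj_iff.mp hxconj
  have hcN : c ∈ Subgroup.normalizer ((Subgroup.zpowers x : Subgroup G) : Set G) := by
    apply Cfsg.Agent.S4028.mem_normalizer_zpowers
    rw [hc]
    exact Subgroup.inv_mem _ (Subgroup.mem_zpowers x)
  have hcC := hirr x (by
    rintro r hr hrd rfl
    exact (Nat.not_even_iff_odd.mpr hxodd) (even_iff_two_dvd.mpr hrd)) hcN
  rw [Subgroup.mem_centralizer_iff] at hcC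
  have h1 : x * c = c * x := hcC x rfl
  have h2 : x = x⁻¹ := by
    rw [← hc, ← h1]; group
  have h3 : x ^ 2 = 1 := by
    rw [pow_two]
    nth_rewrite 1 [h2]
    exact inv_mul_cancel x
  have h4 : orderOf x ∣ 2 := orderOf_dvd_of_pow_eq_one h3
  have h5 : Nat.Coprime (orderOf x) 2 := Nat.coprime_two_right.mpr hxodd
  have h6 : orderOf x = 1 := Nat.Coprime.eq_one_of_dvd h5 h4
  exact hx1 (orderOf_eq_one_iff.mp h6)

end Cfsg.Agent.S4027
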