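import Cfsg.Statements.S4029
import Mathlib
import Cfsg.Agent.Lib.Helper7_PFrattini

set_option autoImplicit false
open Cfsg

namespace Cfsg.Agent.S4029

open Finset

section
variable {P : Type*} [Group P] [Fintype P] [DecidableEq P]

/-- number of square roots -/
def rts (z : P) : ℕ := (univ.filter (fun g : P => g ^ 2 = z)).card

theorem sum_rts : ∑ z ∈ (univ : Finset P).image (fun g => g ^ 2), rts z = Fintype.card P := by
  have := Finset.card_eq_sum_card_image (fun g : P => g ^ 2) (univ : Finset P)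
  rw [Finset.card_univ] at this
  rw [this]
  rfl

theorem sum_rts_sq :
    ∑ z : P, rts z ^ 2 = ((univ : Finset (P × P)).filter (fun hg => hg.1 ^ 2 = hg.2 ^ 2)).card := by
  rw [Finset.card_eq_sum_card_fiberwise (f := fun hg : P × P => hg.2 ^ 2) (t := univ)
    (fun _ _ => Finset.mem_univ _)]
  refine Finset.sum_congr rfl ?_
  intro z _
  have : (((univ : Finset (P × P)).filter (fun hg => hg.1 ^ 2 = hg.2 ^ 2)).filter
      (fun hg => hg.2 ^ 2 = z)) =
      (univ.filter (fun g : P => g ^ 2 = z)) ×ˢ (univ.filter (fun g : P => g ^ 2 = z)) := by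
    ext ⟨h, g⟩
    simp only [Finset.mem_filter, Finset.mem_univ, true_and, Finset.mem_product]
    constructor
    · rintro ⟨h1, h2⟩
      exact ⟨h1.trans h2, h2⟩
    · rintro ⟨h1, h2⟩
      exact ⟨h1.trans h2.symm, h2⟩
  rw [this, Finset.card_product, sq]
  rfl

theorem card_sq_le :
    Fintype.card P ^ 2 ≤ ((univ : Finset P).image (fun g => g ^ 2)).card *
      ((univ : Finset (P × P)).filter (fun hg => hg.1 ^ 2 = hg.2 ^ 2)).card := by
  rw [← sum_rts, ← sum_rts_sq]
  refine (sq_sum_le_card_mul_sum_sq (s := (univ : Finset P).image (fun g => g ^ 2))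
    (f := fun z => rts z)).trans ?_
  refine Nat.mul_le_mul_left _ ?_
  exact Finset.sum_le_sum_of_subset (Finset.subset_univ _)

end

theorem result {P : Type*} [Group P] [Finite P] (hP : IsPGroup 2 P)
    (hirr : ∀ y : P, Subgroup.normalizer ((Subgroup.zpowers y : Subgroup P) : Set P) ≤ Subgroup.centralizer {y}) :
    Nat.card (P ⧸ frattini P) ≤ Nat.card {c : ConjClasses P // ∃ y : P, ConjClasses.mk y = c ∧ orderOf y = 2} + 1 ∧
    Nat.card (P ⧸ frattini P) ≤ Nat.card (Subgroup.closure {y : P | orderOf y = 2}) := by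
  classical
  haveI : Fintype P := Fintype.ofFinite P
  set 𝒞 : Set (ConjClasses P) := {c | ∃ y : P, ConjClasses.mk y = c ∧ orderOf y = 2} with h𝒞
  set 𝒞' : Set (ConjClasses P) := {c | ∃ y : P, ConjClasses.mk y = c ∧ y ^ 2 = 1} with h𝒞'
  have hsq_iff : ∀ y : P, y ^ 2 = 1 ↔ y = 1 ∨ orderOf y = 2 := by
    intro y
    constructor
    · intro h
      by_cases hy : y = 1
      · left; exact hy
      · right; exact orderOf_eq_prime h hy
    · rintro (h | h)
      · rw [h]; simp
      · rw [← h]; exact pow_orderOf_eq_one y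
  have hnot : ConjClasses.mk (1 : P) ∉ 𝒞 := by
    rintro ⟨y, hy, hy2⟩
    rw [ConjClasses.mk_eq_mk_iff_isConj, isConj_one_left] at hy
    rw [hy, orderOf_one] at hy2
    omega
  have h𝒞'eq : 𝒞' = insert (ConjClasses.mk 1) 𝒞 := by
    ext c
    simp only [h𝒞', h𝒞, Set.mem_ofPred_eq, Set.mem_insert_iff]
    constructor
    · rintro ⟨y, hy, hy2⟩
      rcases (hsq_iff y).mp hy2 with h | h
      · left; rw [← hy, h]
      · right; exact ⟨y, hy, h⟩
    · rintro (h | ⟨y, hy, hy2⟩)
      · exact ⟨1, h.symm, by simp⟩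
      · exact ⟨y, hy, (hsq_iff y).mpr (Or.inr hy2)⟩
  have hcard𝒞' : 𝒞'.ncard = 𝒞.ncard + 1 := by
    rw [h𝒞'eq, Set.ncard_insert_of_notMem hnot]
  have hs : Nat.card {c : ConjClasses P // ∃ y : P, ConjClasses.mk y = c ∧ orderOf y = 2} = 𝒞.ncard := by
    rw [← Nat.card_coe_set_eq]; rfl
  rw [hs, ← hcard𝒞']
  -- key consequence of the hypothesis
  have key : ∀ x g : P, g * x * g⁻¹ = x⁻¹ → x ^ 2 = 1 ∧ g * x = x * g := by
    intro x g h2
    have h2' : g * x⁻¹ * g⁻¹ = x := by
      calc g * x⁻¹ * g⁻¹ = (g * x * g⁻¹)⁻¹ := by group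
        _ = x⁻¹⁻¹ := by rw [h2]
        _ = x := inv_inv x
    have h3 : g⁻¹ * x * g = x⁻¹ := by
      calc g⁻¹ * x * g = g⁻¹ * (g * x⁻¹ * g⁻¹) * g := by rw [h2']
        _ = x⁻¹ := by group
    have hn : g ∈ Subgroup.normalizer ((Subgroup.zpowers x : Subgroup P) : Set P) := by
      rw [Subgroup.mem_normalizer_iff]
      intro k
      constructor
      · intro hk
        obtain ⟨n, rfl⟩ := Subgroup.mem_zpowers_iff.mp hk
        have : g * x ^ n * g⁻¹ = (x⁻¹) ^ n := by rw [← conj_zpow, h2]
        show g * x ^ n * g⁻¹ ∈ Subgroup.zpowers x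
        rw [this]
        exact Subgroup.zpow_mem _ (Subgroup.inv_mem _ (Subgroup.mem_zpowers x)) n
      · intro hk
        obtain ⟨n, hn⟩ := Subgroup.mem_zpowers_iff.mp hk
        have e : k = g⁻¹ * (g * k * g⁻¹) * g := by group
        have : k = (x⁻¹) ^ n := by
          rw [e, ← hn]
          have := conj_zpow (a := g⁻¹) (b := x) (i := n)
          rw [inv_inv] at this
          rw [← this, h3]
        show k ∈ Subgroup.zpowers x
        rw [this]
        exact Subgroup.zpow_mem _ (Subgroup.inv_mem _ (Subgroup.mem_zpowers x)) n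
    have hc := hirr x hn
    rw [Subgroup.mem_centralizer_iff] at hc
    have hcx : x * g = g * x := hc x rfl
    have hxx : x = x⁻¹ := by
      calc x = g * x * g⁻¹ := by rw [← hcx]; group
        _ = x⁻¹ := h2
    refine ⟨?_, hcx.symm⟩
    rw [sq]
    nth_rewrite 1 [hxx]
    exact inv_mul_cancel x
  -- the sets T and U
  set T : Finset (P × P) := univ.filter (fun xg => xg.1 ^ 2 = 1 ∧ xg.2 * xg.1 = xg.1 * xg.2) with hT
  set U : Finset (P × P) := univ.filter (fun hg => hg.1 ^ 2 = hg.2 ^ 2) with hU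
  have hUT : U.card ≤ T.card := by
    refine Finset.card_le_card_of_injOn (fun hg => (hg.1 * hg.2⁻¹, hg.2)) ?_ ?_
    · rintro ⟨h, g⟩ hhg
      have hhg' : h ^ 2 = g ^ 2 := by simpa [hU] using hhg
      set x := h * g⁻¹ with hx
      have hxg : h = x * g := by rw [hx]; group
      rw [hxg] at hhg'
      have h1 : x * g * x = g := by
        have : x * g * x * g = g * g := by
          rw [← sq g, ← hhg', sq]; group
        exact mul_right_cancel this
      have h2 : g * x * g⁻¹ = x⁻¹ := by
        have : g * x = x⁻¹ * g := by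
          rw [eq_inv_mul_iff_mul_eq, ← mul_assoc, ← mul_assoc]
          rw [← mul_assoc] at h1
          exact h1
        rw [this]; group
      have := key x g h2
      simp only [hT, Finset.coe_filter, Finset.mem_univ, true_and, Set.mem_ofPred_eq]
      exact this
    · rintro ⟨h, g⟩ _ ⟨h', g'⟩ _ heq
      simp only [Prod.mk.injEq] at heq
      obtain ⟨e1, e2⟩ := heq
      subst e2
      have := mul_right_cancel e1
      rw [this]
  -- T injects into 𝒞' × P
  have hrep : ∀ c : ConjClasses P, ConjClasses.mk (Quotient.out c) = c := fun c => Quotient.out_eq c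
  have htx : ∀ x : P, ∃ t : P, t * Quotient.out (ConjClasses.mk x) * t⁻¹ = x := by
    intro x
    have := hrep (ConjClasses.mk x)
    rw [ConjClasses.mk_eq_mk_iff_isConj, isConj_iff] at this
    exact this
  choose t ht using htx
  have hTcard : T.card ≤ 𝒞'.ncard * Fintype.card P := by
    have hfin : Fintype 𝒞' := Fintype.ofFinite _
    have h1 : 𝒞'.ncard * Fintype.card P = Fintype.card (𝒞' × P) := by
      rw [Fintype.card_prod, ← Nat.card_coe_set_eq, Nat.card_eq_fintype_card]
    rw [h1, ← Fintype.card_coe]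
    let f : {z // z ∈ T} → 𝒞' × P := fun xg =>
      (⟨ConjClasses.mk xg.1.1, xg.1.1, rfl, by
        have := xg.2
        simp only [hT, Finset.mem_filter, Finset.mem_univ, true_and] at this
        exact this.1⟩, xg.1.2 * t xg.1.1)
    refine Fintype.card_le_of_injective f ?_
    rintro ⟨⟨x, g⟩, hxg⟩ ⟨⟨x', g'⟩, hxg'⟩ heq
    simp only [hT, Finset.mem_filter, Finset.mem_univ, true_and] at hxg hxg'
    simp only [f, Prod.mk.injEq, Subtype.mk.injEq] at heq
    obtain ⟨e1, e2⟩ := heq
    have hx := ht x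
    have hx' := ht x'
    rw [← e1] at hx'
    set y := Quotient.out (ConjClasses.mk x) with hy
    have c1 : (g * t x) * y * (g * t x)⁻¹ = x := by
      calc (g * t x) * y * (g * t x)⁻¹ = g * (t x * y * (t x)⁻¹) * g⁻¹ := by group
        _ = g * x * g⁻¹ := by rw [hx]
        _ = x := by rw [hxg.2]; group
    have c2 : (g' * t x') * y * (g' * t x')⁻¹ = x' := by
      calc (g' * t x') * y * (g' * t x')⁻¹ = g' * (t x' * y * (t x')⁻¹) * g'⁻¹ := by group
        _ = g' * x' * g'⁻¹ := by rw [hx']
        _ = x' := by rw [hxg'.2]; group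
    have hxx : x = x' := by rw [← c1, ← c2, e2]
    subst hxx
    have hgg : g = g' := mul_right_cancel e2
    subst hgg
    rfl
  -- numerics
  have hmain := card_sq_le (P := P)
  have hS : ((univ : Finset P).image (fun g => g ^ 2)).card ≤ Nat.card (frattini P) := by
    have e : Nat.card (frattini P) = (univ.filter (fun z : P => z ∈ frattini P)).card := by
      rw [Nat.card_eq_fintype_card, Fintype.card_subtype]
    rw [e]
    refine Finset.card_le_card ?_
    intro z hz
    obtain ⟨g, _, rfl⟩ := Finset.mem_image.mp hz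
    rw [Finset.mem_filter]
    exact ⟨Finset.mem_univ _, Cfsg.Agent.Lib.Helper7_PFrattini.pow_mem_frattini hP g⟩
  have hPcard : Nat.card P = Nat.card (P ⧸ frattini P) * Nat.card (frattini P) :=
    Subgroup.card_eq_card_quotient_mul_card_subgroup _
  rw [Nat.card_eq_fintype_card (α := P)] at hPcard
  have hΦpos : 0 < Nat.card (frattini P) := Nat.card_pos
  have hPpos : 0 < Fintype.card P := Fintype.card_pos
  have hfirst : Nat.card (P ⧸ frattini P) ≤ 𝒞'.ncard := by
    have h1 : Fintype.card P ^ 2 ≤ Nat.card (frattini P) * (𝒞'.ncard * Fintype.card P) :=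
      hmain.trans (Nat.mul_le_mul hS (hUT.trans hTcard))
    have h2 : Fintype.card P * Fintype.card P ≤ (Nat.card (frattini P) * 𝒞'.ncard) * Fintype.card P := by
      rw [← sq]; calc Fintype.card P ^ 2 ≤ Nat.card (frattini P) * (𝒞'.ncard * Fintype.card P) := h1
        _ = (Nat.card (frattini P) * 𝒞'.ncard) * Fintype.card P := by ring
    have h3 : Fintype.card P ≤ Nat.card (frattini P) * 𝒞'.ncard := Nat.le_of_mul_le_mul_right h2 hPpos
    rw [hPcard, mul_comm] at h3
    exact Nat.le_of_mul_le_mul_left h3 hΦpos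
  refine ⟨hfirst, hfirst.trans ?_⟩
  -- 𝒞' injects into the subgroup generated by involutions
  rw [← Nat.card_coe_set_eq]
  have hy : ∀ c : 𝒞', ∃ y : P, ConjClasses.mk y = c.1 ∧ y ^ 2 = 1 := fun c => c.2
  choose yc hyc using hy
  have hmem : ∀ c : 𝒞', yc c ∈ Subgroup.closure {y : P | orderOf y = 2} := by
    intro c
    rcases (hsq_iff (yc c)).mp (hyc c).2 with h | h
    · rw [h]; exact Subgroup.one_mem _
    · exact Subgroup.subset_closure h
  refine Nat.card_le_card_of_injective (fun c => (⟨yc c, hmem c⟩ : Subgroup.closure {y : P | orderOf y = 2})) ?_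
  intro c c' h
  have h' : yc c = yc c' := congrArg Subtype.val h
  apply Subtype.ext
  rw [← (hyc c).1, ← (hyc c').1, h']

end Cfsg.Agent.S4029
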