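import Cfsg.Statements.S4035
import Mathlib
import Cfsg.Agent.Lib.Helper7_Basic
import Cfsg.Agent.Lib.Helper7_Conj
import Cfsg.Agent.Lib.Helper3_Sylow

set_option autoImplicit false
open Cfsg
open scoped Pointwise

namespace Cfsg.Agent.S4035

open Cfsg.Agent.Lib.Helper7_Basic (mem_smul_sylow mem_conj_smul)

theorem ncard_carrier {G : Type*} [Group G] (x : G) :
    (ConjClasses.mk x).carrier.ncard = (Subgroup.centralizer ({x} : Set G)).index := by
  rw [← Cfsg.Agent.Lib.Helper7_Basic.card_conj_class x, ← Nat.card_coe_set_eq]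
  apply Nat.card_congr
  refine Equiv.subtypeEquivRight ?_
  intro y
  rw [ConjClasses.mem_carrier_iff_mk_eq, ConjClasses.mk_eq_mk_iff_isConj]

/-- if `p` does not divide the index of `C`, some Sylow `p`-subgroup lies in `C` -/
theorem exists_sylow_le {G : Type*} [Group G] [Finite G] {p : ℕ} [Fact p.Prime] (C : Subgroup G)
    (hC : ¬ p ∣ C.index) : ∃ Q : Sylow p G, (Q : Subgroup G) ≤ C := by
  obtain ⟨P⟩ : Nonempty (Sylow p G) := inferInstance
  have hidx : ¬ p ∣ Nat.card (G ⧸ C) := by rwa [← Subgroup.index_eq_card]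
  obtain ⟨q, hq⟩ := P.isPGroup'.nonempty_fixed_point_of_prime_not_dvd_card (G ⧸ C) hidx
  obtain ⟨g, rfl⟩ := QuotientGroup.mk_surjective q
  refine ⟨g⁻¹ • P, ?_⟩
  intro y hy
  have hy' : g⁻¹⁻¹ * y * g⁻¹ ∈ P := (mem_smul_sylow g⁻¹ y P).mp hy
  rw [inv_inv] at hy'
  have h1 := hq ⟨g * y * g⁻¹, hy'⟩
  have h2 : ((g * y * g⁻¹ * g : G) : G ⧸ C) = (g : G ⧸ C) := h1
  have h3 : g⁻¹ * (g * y * g⁻¹ * g) ∈ C := QuotientGroup.eq.mp h2.symm
  have h4 : g⁻¹ * (g * y * g⁻¹ * g) = y := by group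
  rwa [h4] at h3

/-- the `p`-part / `p'`-part decomposition of an element -/
theorem exists_decomp {G : Type*} [Group G] [Finite G] (p : ℕ) [hp : Fact p.Prime] (g : G) :
    ∃ (k m : ℕ), orderOf (g ^ (p ^ k)) = m ∧ m.Coprime p ∧ orderOf (g ^ m) = p ^ k ∧
      ∃ a b : ℤ, g = (g ^ (p ^ k)) ^ a * (g ^ m) ^ b := by
  obtain ⟨k, m, hm, hom⟩ := Nat.exists_eq_pow_mul_and_not_dvd (orderOf_pos g).ne' p
    hp.out.one_lt.ne'
  have hmpos : 0 < m := by
    rcases Nat.eq_zero_or_pos m with h | h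
    · rw [h, mul_zero] at hom
      exact absurd hom (orderOf_pos g).ne'
    · exact h
  have hcop : m.Coprime p := ((Nat.Prime.coprime_iff_not_dvd hp.out).mpr hm).symm
  refine ⟨k, m, ?_, hcop, ?_, ?_⟩
  · rw [orderOf_pow_of_dvd (pow_ne_zero _ hp.out.ne_zero) ⟨m, hom⟩, hom,
      Nat.mul_div_cancel_left _ (pow_pos hp.out.pos k)]
  · rw [orderOf_pow_of_dvd hmpos.ne' ⟨p ^ k, by rw [hom, mul_comm]⟩, hom,
      Nat.mul_div_cancel _ hmpos]
  · have hc : IsCoprime ((p ^ k : ℕ) : ℤ) (m : ℤ) :=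
      Nat.Coprime.isCoprime (Nat.Coprime.pow_left k hcop.symm)
    obtain ⟨a, b, hab⟩ := hc
    refine ⟨a, b, ?_⟩
    rw [← zpow_natCast, ← zpow_natCast, ← zpow_mul, ← zpow_mul, ← zpow_add]
    have : ((p ^ k : ℕ) : ℤ) * a + (m : ℤ) * b = 1 := by
      rw [← hab]; ring
    rw [this, zpow_one]

/-- Let G be a finite group and p a prime such that no p-regular element has conjugacy class size divisible by p. Then the Sylow p-subgroup is normal with a normal complement. -/
theorem result {G : Type*} [Group G] [Finite G] {p : ℕ} [Fact p.Prime]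
    (h : ∀ x : G, (orderOf x).Coprime p → ¬ p ∣ (ConjClasses.mk x).carrier.ncard) (P : Sylow p G) :
    (P : Subgroup G).Normal ∧ ∃ H : Subgroup G, H.Normal ∧ ¬ p ∣ Nat.card H ∧
      (P : Subgroup G) ⊓ H = ⊥ ∧ (P : Subgroup G) ⊔ H = ⊤ := by
  have hp : p.Prime := Fact.out
  -- step 1
  have step1 : ∀ x : G, (orderOf x).Coprime p →
      ∃ Q : Sylow p G, (Q : Subgroup G) ≤ Subgroup.centralizer ({x} : Set G) := by
    intro x hx
    apply exists_sylow_le
    rw [← ncard_carrier]
    exact h x hx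
  -- step 2: every element normalizes some Sylow subgroup
  have step2 : ∀ g : G, ∃ Q : Sylow p G, g ∈ Subgroup.normalizer ((Q : Subgroup G) : Set G) := by
    intro g
    obtain ⟨k, m, hx, hcop, hz, a, b, hab⟩ := exists_decomp p g
    set x := g ^ (p ^ k) with hxdef
    set z := g ^ m with hzdef
    obtain ⟨Q, hQ⟩ := step1 x (by rw [hx]; exact hcop)
    have hzC : z ∈ Subgroup.centralizer ({x} : Set G) := by
      rw [Subgroup.mem_centralizer_iff]
      rintro y rfl
      show g ^ (p ^ k) * g ^ m = g ^ m * g ^ (p ^ k)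
      rw [← pow_add, ← pow_add, add_comm]
    obtain ⟨c, hcC, hc⟩ := Cfsg.Agent.Lib.Helper3_Sylow.exists_conj_mem_sylow_of_le Q _ hQ z hzC
      ⟨k, hz⟩
    refine ⟨c⁻¹ • Q, ?_⟩
    have hzQ' : z ∈ c⁻¹ • Q := by
      rw [mem_smul_sylow, inv_inv]; exact hc
    have hQ'C : ((c⁻¹ • Q : Sylow p G) : Subgroup G) ≤ Subgroup.centralizer ({x} : Set G) := by
      intro y hy
      have hy' : c⁻¹⁻¹ * y * c⁻¹ ∈ Q := (mem_smul_sylow c⁻¹ y Q).mp hy
      rw [inv_inv] at hy'
      have h1 := hQ hy'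
      have h2 : y = c⁻¹ * (c * y * c⁻¹) * c := by group
      rw [h2]
      exact Subgroup.mul_mem _ (Subgroup.mul_mem _ (Subgroup.inv_mem _ hcC) h1) hcC
    have hxN : x ∈ Subgroup.normalizer (((c⁻¹ • Q : Sylow p G) : Subgroup G) : Set G) := by
      rw [Subgroup.mem_normalizer_iff]
      intro y
      have hcomm : ∀ y ∈ ((c⁻¹ • Q : Sylow p G) : Subgroup G), x * y * x⁻¹ = y := by
        intro y hy
        have := (Subgroup.mem_centralizer_iff.mp (hQ'C hy)) x rfl
        rw [this]; group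
      constructor
      · intro hy
        rw [hcomm y hy]; exact hy
      · intro hy
        have h1 := hcomm _ hy
        have h2 : y = x⁻¹ * (x * y * x⁻¹) * x := by group
        have h3 : x⁻¹ * (x * y * x⁻¹) * x = x * y * x⁻¹ := by
          have : x⁻¹ * (x * y * x⁻¹) * x = x⁻¹ * (x * (x * y * x⁻¹) * x⁻¹) * x := by rw [h1]
          rw [this]; group
        rw [h2, h3]; exact hy
    have hzN : z ∈ Subgroup.normalizer (((c⁻¹ • Q : Sylow p G) : Subgroup G) : Set G) :=
      Subgroup.le_normalizer hzQ'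
    rw [hab]
    exact Subgroup.mul_mem _ (Subgroup.zpow_mem _ hxN a) (Subgroup.zpow_mem _ hzN b)
  -- step 3: P is normal
  have hPn : (P : Subgroup G).Normal := by
    rw [← Subgroup.normalizer_eq_top_iff]
    by_contra hne
    obtain ⟨g, hg⟩ := Cfsg.Agent.Lib.Helper7_Conj.exists_not_mem_conj _ hne
    obtain ⟨Q, hQ⟩ := step2 g
    obtain ⟨c, hc⟩ := MulAction.exists_smul_eq G P Q
    apply hg c
    rw [mem_conj_smul]
    rw [← hc] at hQ
    rw [Subgroup.mem_normalizer_iff] at hQ ⊢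
    intro y
    have := hQ (c * y * c⁻¹)
    have e1 : c * y * c⁻¹ ∈ ((c • P : Sylow p G) : Subgroup G) ↔ y ∈ (P : Subgroup G) := by
      have := mem_smul_sylow c (c * y * c⁻¹) P
      rw [show c⁻¹ * (c * y * c⁻¹) * c = y by group] at this
      exact this
    have e2 : g * (c * y * c⁻¹) * g⁻¹ ∈ ((c • P : Sylow p G) : Subgroup G) ↔
        c⁻¹ * g * c * y * (c⁻¹ * g * c)⁻¹ ∈ (P : Subgroup G) := by
      have := mem_smul_sylow c (g * (c * y * c⁻¹) * g⁻¹) P
      rw [show c⁻¹ * (g * (c * y * c⁻¹) * g⁻¹) * c = c⁻¹ * g * c * y * (c⁻¹ * g * c)⁻¹ by group]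
        at this
      exact this
    rw [← e1, ← e2]
    exact this
  refine ⟨hPn, ?_⟩
  -- every p'-element centralizes P
  have hcent : ∀ x : G, (orderOf x).Coprime p →
      (P : Subgroup G) ≤ Subgroup.centralizer ({x} : Set G) := by
    intro x hx
    obtain ⟨Q, hQ⟩ := step1 x hx
    have hu : Unique (Sylow p G) := Sylow.unique_of_normal P hPn
    have : Q = P := Subsingleton.elim _ _
    rwa [this] at hQ
  -- Schur–Zassenhaus
  obtain ⟨H, hH⟩ := Subgroup.exists_right_complement'_of_coprime (N := (P : Subgroup G))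
    P.card_coprime_index
  have hHcard : Nat.card H = (P : Subgroup G).index := by
    have h1 := hH.card_mul_card
    have h2 := Subgroup.card_mul_index (P : Subgroup G)
    rw [← h2] at h1
    exact Nat.eq_of_mul_eq_mul_left Nat.card_pos h1
  have hHp : ¬ p ∣ Nat.card H := by rw [hHcard]; exact P.not_dvd_index
  have hHP : ∀ y ∈ H, ∀ u ∈ (P : Subgroup G), y * u = u * y := by
    intro y hy u hu
    have hyo : (orderOf y).Coprime p := by
      have h1 : orderOf y ∣ Nat.card H := Subgroup.orderOf_dvd_natCard H hy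
      have h2 : (Nat.card H).Coprime p := ((Nat.Prime.coprime_iff_not_dvd hp).mpr hHp).symm
      exact Nat.Coprime.coprime_dvd_left h1 h2
    have := (Subgroup.mem_centralizer_iff.mp (hcent y hyo hu)) y rfl
    exact this
  have hsup : (P : Subgroup G) ⊔ H = ⊤ := hH.sup_eq_top
  have hHn : H.Normal := by
    rw [← Subgroup.normalizer_eq_top_iff, eq_top_iff, ← hsup]
    apply sup_le
    · intro u hu
      have hconj : ∀ w ∈ H, ∀ v ∈ (P : Subgroup G), v * w * v⁻¹ = w := by
        intro w hw v hv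
        rw [← hHP w hw v hv]; group
      rw [Subgroup.mem_normalizer_iff]
      intro y
      constructor
      · intro hy
        rw [hconj y hy u hu]; exact hy
      · intro hy
        have h1 := hconj _ hy u⁻¹ (Subgroup.inv_mem _ hu)
        have h2 : u⁻¹ * (u * y * u⁻¹) * u⁻¹⁻¹ = y := by group
        rw [h2] at h1
        rw [h1]; exact hy
    · exact Subgroup.le_normalizer
  exact ⟨H, hHn, hHp, disjoint_iff.mp hH.disjoint, hsup⟩

end Cfsg.Agent.S4035
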