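import Cfsg.Statements.S4036
import Mathlib

set_option autoImplicit false
open Cfsg

namespace Cfsg.Agent.S4036

open scoped Classical in
/-- an automorphism of order `p` stabilizing a `p`-subgroup `W` with only trivial fixed points
on `W` forces `W = ⊥`. -/
theorem eq_bot_of_fixedPoints {P : Type*} [CommGroup P] [Finite P] {p : ℕ} [Fact p.Prime]
    (hP : IsPGroup p P) (x : MulAut P) (hx : x ^ p = 1) (W : Subgroup P)
    (hW : ∀ v ∈ W, x v ∈ W) (hfix : ∀ v ∈ W, x v = v → v = 1) : W = ⊥ := by
  have : Fintype W := Fintype.ofFinite W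
  let f : Function.End W := fun v => ⟨x v, hW v v.2⟩
  have key : ∀ (k : ℕ) (v : W), (((f ^ k) v : W) : P) = (x ^ k) v := by
    intro k
    induction k with
    | zero => intro v; rw [pow_zero, pow_zero]; rfl
    | succ k ih =>
      intro v
      rw [pow_succ, pow_succ]
      show (((f ^ k) (f v) : W) : P) = (x ^ k * x) v
      rw [ih (f v)]
      rfl
  have hf : f ^ p ^ 1 = 1 := by
    funext v
    apply Subtype.ext
    rw [pow_one, key p v, hx]
    rfl
  have hmod := Equiv.Perm.card_fixedPoints_modEq (p := p) (n := 1) hf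
  have hfp : Fintype.card (Function.fixedPoints f) = 1 := by
    rw [Fintype.card_eq_one_iff]
    refine ⟨⟨1, ?_⟩, ?_⟩
    · show f 1 = 1
      apply Subtype.ext
      show x (1 : P) = 1
      exact map_one x
    · rintro ⟨v, hv⟩
      apply Subtype.ext
      apply Subtype.ext
      have h1 : f v = v := hv
      have h2 : x (v : P) = v := congrArg Subtype.val h1
      show (v : P) = 1
      exact hfix v v.2 h2
  rw [hfp] at hmod
  obtain ⟨j, hj⟩ := IsPGroup.iff_card.mp (hP.to_subgroup W)
  rw [← Nat.card_eq_fintype_card, hj] at hmod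
  have hp : p.Prime := Fact.out
  rcases Nat.eq_zero_or_pos j with h0 | hpos
  · rw [h0, pow_zero] at hj
    exact Subgroup.card_eq_one.mp hj
  · exfalso
    have hdvd : p ∣ p ^ j := dvd_pow_self p hpos.ne'
    have h0 : p ^ j ≡ 0 [MOD p] := (Nat.modEq_zero_iff_dvd).mpr hdvd
    have h1 : (1 : ℕ) ≡ 0 [MOD p] := hmod.symm.trans h0
    rw [Nat.modEq_zero_iff_dvd] at h1
    exact hp.one_lt.ne' (Nat.dvd_one.mp h1)

/-- Let P be a finite abelian p-group and K a group of automorphisms of P (a subgroup of Aut P) whose order is divisible by p. If all non-identity elements of K have the same fixed-point subgroup on P, then K has no non-trivial normal subgroup of order prime to p. -/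
theorem result {P : Type*} [CommGroup P] [Finite P] {p : ℕ}
    [Fact p.Prime] (hP : IsPGroup p P) (K : Subgroup (MulAut P)) (hK : p ∣ Nat.card K)
    (hfix : ∀ x y : MulAut P, x ∈ K → y ∈ K → x ≠ 1 → y ≠ 1 → ∀ v : P, x v = v ↔ y v = v) :
    ∀ N : Subgroup ↥K, N.Normal → ¬ p ∣ Nat.card N → N = ⊥ := by
  classical
  intro N hNn hNp
  by_contra hNne
  have hp : p.Prime := Fact.out
  obtain ⟨n₀, hn₀N, hn₀⟩ : ∃ n₀ ∈ N, n₀ ≠ 1 := by
    by_contra h
    push Not at h
    apply hNne
    rw [eq_bot_iff]
    intro n hn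
    rw [Subgroup.mem_bot]
    exact h n hn
  have hn₀' : ((n₀ : K) : MulAut P) ≠ 1 := by
    intro h
    apply hn₀
    exact Subtype.ext h
  obtain ⟨x, hx⟩ := exists_prime_orderOf_dvd_card' p hK
  have hx1 : x ≠ 1 := by
    intro h
    rw [h, orderOf_one] at hx
    exact hp.one_lt.ne' hx.symm
  have hx1' : ((x : K) : MulAut P) ≠ 1 := by
    intro h
    apply hx1
    exact Subtype.ext h
  have hxp : ((x : K) : MulAut P) ^ p = 1 := by
    have : x ^ p = 1 := by rw [← hx]; exact pow_orderOf_eq_one x
    have := congrArg Subtype.val this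
    simpa using this
  have : Fintype N := Fintype.ofFinite N
  -- the norm map
  let τ : P →* P := ∏ m : N, (((m : K) : MulAut P).toMonoidHom)
  have hτ : ∀ v, τ v = ∏ m : N, ((m : K) : MulAut P) v := by
    intro v
    show (∏ m : N, (((m : K) : MulAut P).toMonoidHom)) v = _
    rw [MonoidHom.finsetProd_apply]
    rfl
  -- fixed set
  have hF : ∀ k : MulAut P, k ∈ K → k ≠ 1 → ∀ v, k v = v ↔ ((n₀ : K) : MulAut P) v = v := by
    intro k hk hk1 v
    exact hfix k _ hk (n₀ : K).2 hk1 hn₀' v
  -- τ v is fixed by n₀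
  have hτfix : ∀ v, ((n₀ : K) : MulAut P) (τ v) = τ v := by
    intro v
    rw [hτ, map_prod]
    let e : N ≃ N := Equiv.mulLeft ⟨n₀, hn₀N⟩
    apply Fintype.prod_equiv e
    intro m
    show ((n₀ : K) : MulAut P) (((m : K) : MulAut P) v) = (((e m : N) : K) : MulAut P) v
    rfl
  -- τ on fixed vectors
  have hτF : ∀ v, ((n₀ : K) : MulAut P) v = v → τ v = v ^ Nat.card N := by
    intro v hv
    rw [hτ]
    have : ∀ m : N, ((m : K) : MulAut P) v = v := by
      intro m
      by_cases hm : ((m : K) : MulAut P) = 1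
      · rw [hm]; rfl
      · exact (hF _ (m : K).2 hm v).mpr hv
    rw [Finset.prod_congr rfl (fun m _ => this m), Finset.prod_const, Finset.card_univ,
      Nat.card_eq_fintype_card]
  -- τ commutes with x
  have hτx : ∀ v, τ (((x : K) : MulAut P) v) = ((x : K) : MulAut P) (τ v) := by
    intro v
    rw [hτ, hτ, map_prod]
    let e : N ≃ N :=
      { toFun := fun m => ⟨x * m * x⁻¹, hNn.conj_mem m m.2 x⟩
        invFun := fun m => ⟨x⁻¹ * m * x, by
          have := hNn.conj_mem m m.2 x⁻¹
          simpa using this⟩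
        left_inv := fun m => by apply Subtype.ext; simp [mul_assoc]
        right_inv := fun m => by apply Subtype.ext; simp [mul_assoc] }
    symm
    apply Fintype.prod_equiv e
    intro m
    show ((x : K) : MulAut P) (((m : K) : MulAut P) v) =
      (((e m : N) : K) : MulAut P) (((x : K) : MulAut P) v)
    have : (((e m : N) : K) : MulAut P) = ((x : K) : MulAut P) * ((m : K) : MulAut P) * ((x : K) : MulAut P)⁻¹ := by
      show ((x * (m : K) * x⁻¹ : K) : MulAut P) = _
      simp
    rw [this]
    simp [MulAut.mul_apply]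
  -- kernel of τ is trivial
  have hW : τ.ker = ⊥ := by
    apply eq_bot_of_fixedPoints hP ((x : K) : MulAut P) hxp τ.ker
    · intro v hv
      rw [MonoidHom.mem_ker] at hv ⊢
      rw [hτx, hv, map_one]
    · intro v hv hxv
      rw [MonoidHom.mem_ker] at hv
      have hn₀v : ((n₀ : K) : MulAut P) v = v := (hF _ (x : K).2 hx1' v).mp hxv
      have h1 := hτF v hn₀v
      rw [hv] at h1
      obtain ⟨k, hk⟩ := hP v
      have hcop : Nat.Coprime (p ^ k) (Nat.card N) :=
        Nat.Coprime.pow_left k ((Nat.Prime.coprime_iff_not_dvd hp).mpr hNp)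
      have ho1 : orderOf v ∣ p ^ k := orderOf_dvd_of_pow_eq_one hk
      have ho2 : orderOf v ∣ Nat.card N := orderOf_dvd_of_pow_eq_one h1.symm
      have := Nat.eq_one_of_dvd_coprimes hcop ho1 ho2
      exact orderOf_eq_one_iff.mp this
  have hinj : Function.Injective τ := (MonoidHom.ker_eq_bot_iff τ).mp hW
  have hsurj : Function.Surjective τ := Finite.surjective_of_injective hinj
  apply hn₀'
  ext v
  obtain ⟨u, rfl⟩ := hsurj v
  rw [hτfix]
  rfl

end Cfsg.Agent.S4036
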