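import Cfsg.Statements.S4040
import Mathlib
import Cfsg.Agent.S0659
import Cfsg.Agent.S0658
import Cfsg.Agent.Lib.Helper2_NilDecomp
import Cfsg.Agent.Lib.Helper7_NPC
import Cfsg.Agent.Lib.Lead_Coprime
import Cfsg.Agent.Lib.Lead_ZJmap

set_option autoImplicit false
open Cfsg

namespace Cfsg.Agent.S4040

universe u

/-- A finite nilpotent group has a normal `p`-complement. -/
theorem npc_of_nilpotent {E : Type*} [Group E] [Finite E] [Group.IsNilpotent E] (p : ℕ)
    [hp : Fact p.Prime] : Cfsg.HasNormalPComplement p E := by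
  rw [Cfsg.Agent.Lib.Helper7_NPC.hasNormalPComplement_iff_npc]
  obtain ⟨P, Q, hcard, hQp, hmem, -⟩ := Cfsg.Agent.Lib.Helper2_NilDecomp.nilpotent_p_decomp (E := E) p
  have hQn : Q.Normal := by
    constructor
    intro y hy g
    rw [hmem] at hy ⊢
    rwa [Cfsg.Agent.Lib.Helper7_Basic.orderOf_conj']
  obtain ⟨k, hk⟩ := IsPGroup.iff_card.mp P.isPGroup'
  refine ⟨Q, hQn, ?_, k, ?_⟩
  · exact ((Nat.Prime.coprime_iff_not_dvd hp.out).mpr hQp).symm
  · have h1 := Q.index_mul_card
    rw [← hcard] at h1
    rw [← hk]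
    exact Nat.eq_of_mul_eq_mul_right Nat.card_pos h1

theorem mem_normalizer_of_map_conj_eq {G : Type*} [Group G] (V : Subgroup G) (g : G)
    (h : V.map (MulAut.conj g).toMonoidHom = V) : g ∈ Subgroup.normalizer (V : Set G) := by
  rw [Subgroup.mem_normalizer_iff]
  intro x
  constructor
  · intro hx
    rw [← h]
    exact ⟨x, hx, by simp⟩
  · intro hx
    rw [← h] at hx
    obtain ⟨v, hv, hvx⟩ := hx
    simp only [MulEquiv.coe_toMonoidHom, MulAut.conj_apply] at hvx
    have : v = x := by
      have := congrArg (fun t => g⁻¹ * t * g) hvx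
      simpa [mul_assoc] using this
    rwa [← this]

theorem map_conj_eq_of_mem_normalizer {G : Type*} [Group G] (V : Subgroup G) (g : G)
    (hg : g ∈ Subgroup.normalizer (V : Set G)) : V.map (MulAut.conj g).toMonoidHom = V := by
  ext x
  constructor
  · rintro ⟨v, hv, rfl⟩
    simp only [MulEquiv.coe_toMonoidHom, MulAut.conj_apply]
    exact (Subgroup.mem_normalizer_iff.mp hg v).mp hv
  · intro hx
    refine ⟨g⁻¹ * x * g, ?_, by simp [mul_assoc]⟩
    have := (Subgroup.mem_normalizer_iff.mp (Subgroup.inv_mem _ hg) x).mp hx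
    simpa using this

/-- In the core-free situation, a non-trivial subgroup of `M` normalized by `M` has normalizer `M`. -/
theorem normalizer_eq {G : Type*} [Group G] (M : Subgroup G) (hmax : IsCoatom M)
    (hcore : M.normalCore = ⊥) (V : Subgroup G) (hVM : V ≤ M) (hV1 : V ≠ ⊥)
    (hMV : M ≤ Subgroup.normalizer (V : Set G)) : Subgroup.normalizer (V : Set G) = M := by
  by_contra hne
  have htop : Subgroup.normalizer (V : Set G) = ⊤ := by
    by_contra h
    exact hne (hmax.2 _ (lt_of_le_of_ne hMV (Ne.symm hne)) |> fun h' => absurd h' h)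
  have hVn : V.Normal := Subgroup.normalizer_eq_top_iff.mp htop
  have : V ≤ M.normalCore := Subgroup.normal_le_normalCore.mpr hVM
  rw [hcore] at this
  exact hV1 (le_bot_iff.mp this)


/-- The per-prime step: the Sylow `p`-subgroup of `M` is Sylow in `G`, and `G` has a normal
`p`-complement. -/
theorem npc_prime {G : Type u} [Group G] [Finite G] (M : Subgroup G) (hmax : IsCoatom M)
    (hnil : Group.IsNilpotent M) (hodd : Odd (Nat.card M)) (hcore : M.normalCore = ⊥)
    (p : ℕ) [hp : Fact p.Prime] (hpM : p ∣ Nat.card M) :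
    (∃ P : Sylow p G, (P : Subgroup G) ≤ M) ∧ Cfsg.HasNormalPComplement p G := by
  have hp2 : p ≠ 2 := by
    rintro rfl
    exact (Nat.not_even_iff_odd.mpr hodd) (even_iff_two_dvd.mpr hpM)
  obtain P₀ : Sylow p ↥M := default
  haveI hP₀n : (P₀ : Subgroup ↥M).Normal := inferInstance
  set P : Subgroup G := (P₀ : Subgroup ↥M).map M.subtype with hPdef
  have hPM : P ≤ M := Subgroup.map_subtype_le _
  have hPp : IsPGroup p P := P₀.isPGroup'.map _
  have hP1 : P ≠ ⊥ := by
    intro h
    have h0 : (P₀ : Subgroup ↥M) = ⊥ := by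
      rw [hPdef] at h
      exact (Subgroup.map_eq_bot_iff_of_injective _ M.subtype_injective).mp h
    exact P₀.ne_bot_of_dvd_card hpM h0
  have hMNP : M ≤ Subgroup.normalizer (P : Set G) := by
    have h1 := Subgroup.le_normalizer_map (H := (P₀ : Subgroup ↥M)) M.subtype
    rw [Subgroup.normalizer_eq_top_iff.mpr hP₀n] at h1
    have h2 : (⊤ : Subgroup ↥M).map M.subtype = M := by
      rw [← MonoidHom.range_eq_map, Subgroup.range_subtype]
    rw [h2] at h1
    exact h1
  have hNP : Subgroup.normalizer (P : Set G) = M := normalizer_eq M hmax hcore P hPM hP1 hMNP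
  -- every p-subgroup of M lies in P
  have huniq : ∀ W : Subgroup G, W ≤ M → IsPGroup p W → W ≤ P := by
    intro W hWM hWp
    have hW' : IsPGroup p (W.subgroupOf M) := hWp.comap_of_injective M.subtype M.subtype_injective
    obtain ⟨R, hR⟩ := hW'.exists_le_sylow
    haveI : Subsingleton (Sylow p ↥M) := (Sylow.unique_of_normal P₀ hP₀n).instSubsingleton
    have hRP : R = P₀ := Subsingleton.elim _ _
    intro w hw
    have : (⟨w, hWM hw⟩ : ↥M) ∈ (P₀ : Subgroup ↥M) := by
      rw [← hRP]
      exact hR (Subgroup.mem_subgroupOf.mpr hw)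
    exact ⟨⟨w, hWM hw⟩, this, rfl⟩
  -- P is Sylow in G
  obtain ⟨PS, hPS⟩ := Cfsg.Agent.Lib.Lead_Coprime.sylow_of_self_normalizing p (K := (⊤ : Subgroup G)) (V := P)
    le_top hPp (by
      intro W hPW hWN hWp
      have hWM : W ≤ M := by
        have := hWN.trans inf_le_left
        rwa [hNP] at this
      exact le_antisymm (huniq W hWM hWp) hPW)
  have hcardP : Nat.card P = p ^ (Nat.card G).factorization p := by
    rw [← hPS, Subgroup.card_map_of_injective (Subgroup.subtype_injective _), Sylow.card_eq_multiplicity,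
      Subgroup.card_top (G := G)]
  let PG : Sylow p G := Sylow.ofCard P hcardP
  have hPG : (PG : Subgroup G) = P := Sylow.coe_ofCard P hcardP
  refine ⟨⟨PG, hPG ▸ hPM⟩, ?_⟩
  -- W = Z(J(P))
  have hW1 : Cfsg.centerThompsonAOf P ≠ ⊥ := Cfsg.Agent.S0658.ZJ_ne_bot P hPp hP1
  have hWP : Cfsg.centerThompsonAOf P ≤ P := by
    unfold Cfsg.centerThompsonAOf Cfsg.thompsonSubgroupAOf
    exact inf_le_left.trans (Subgroup.map_subtype_le _)
  have hMNW : M ≤ Subgroup.normalizer (Cfsg.centerThompsonAOf P : Set G) := by
    intro m hm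
    apply mem_normalizer_of_map_conj_eq
    have h1 := Cfsg.Agent.Lib.Lead_ZJmap.centerThompsonA_map (MulAut.conj m).toMonoidHom P
      ((MulAut.conj m).injective.injOn)
    rw [← h1, map_conj_eq_of_mem_normalizer P m (hMNP hm)]
  have hNW : Subgroup.normalizer (Cfsg.centerThompsonAOf P : Set G) = M :=
    normalizer_eq M hmax hcore _ (hWP.trans hPM) hW1 hMNW
  apply Cfsg.Agent.S0659.result hp2 PG
  rw [hPG, hNW]
  haveI := hnil
  exact npc_of_nilpotent p


/-- The core-free case. -/
theorem corefree {G : Type u} [Group G] [Finite G] (M : Subgroup G) (hmax : IsCoatom M)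
    (hnil : Group.IsNilpotent M) (hodd : Odd (Nat.card M)) (hcore : M.normalCore = ⊥) :
    Group.IsSolvable G := by
  classical
  haveI := hnil
  -- normal complements for every prime dividing |M|
  have hnpc : ∀ p : ℕ, p ∈ (Nat.card M).primeFactors → ∃ N : Subgroup G, N.Normal ∧
      (Nat.card N).Coprime p ∧ ∃ k : ℕ, N.index = p ^ k := by
    intro p hp
    haveI : Fact p.Prime := ⟨Nat.prime_of_mem_primeFactors hp⟩
    have := (npc_prime M hmax hnil hodd hcore p (Nat.dvd_of_mem_primeFactors hp)).2
    exact Cfsg.Agent.Lib.Helper7_NPC.hasNormalPComplement_iff_npc.mp this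
  choose! f hf using hnpc
  set K : Subgroup G := ⨅ p : (Nat.card M).primeFactors, f p with hK
  haveI hKn : K.Normal := Subgroup.normal_iInf_normal (fun p => (hf p p.2).1)
  have hKle : ∀ p ∈ (Nat.card M).primeFactors, K ≤ f p := fun p hp => iInf_le (fun p : (Nat.card M).primeFactors => f p) ⟨p, hp⟩
  -- |K| coprime to |M|
  have hcop : (Nat.card M).Coprime (Nat.card K) := by
    by_contra h
    obtain ⟨p, hp, hpM, hpK⟩ := Nat.Prime.not_coprime_iff_dvd.mp h
    have hpmem : p ∈ (Nat.card M).primeFactors := Nat.mem_primeFactors.mpr ⟨hp, hpM, Nat.card_pos.ne'⟩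
    have h1 : Nat.card K ∣ Nat.card (f p) := Subgroup.card_dvd_of_le (hKle p hpmem)
    have h2 := (hf p hpmem).2.1
    have h3 : p ∣ Nat.card (f p) := dvd_trans hpK h1
    exact (Nat.Prime.coprime_iff_not_dvd hp).mp h2.symm h3
  -- K ≠ ⊥
  have hK1 : K ≠ ⊥ := by
    intro hKbot
    apply hmax.1
    apply Subgroup.eq_top_of_card_eq
    apply Nat.dvd_antisymm (Subgroup.card_subgroup_dvd_card M)
    rw [← Nat.factorization_prime_le_iff_dvd Nat.card_pos.ne' Nat.card_pos.ne']
    intro r hr
    haveI : Fact r.Prime := ⟨hr⟩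
    by_cases hrM : r ∣ Nat.card M
    · obtain ⟨PS, hPS⟩ := (npc_prime M hmax hnil hodd hcore r hrM).1
      have h1 : Nat.card (PS : Subgroup G) ∣ Nat.card M := Subgroup.card_dvd_of_le hPS
      rw [Sylow.card_eq_multiplicity] at h1
      exact (hr.pow_dvd_iff_le_factorization Nat.card_pos.ne').mp h1
    · have hrG : ¬ r ∣ Nat.card G := by
        intro hrG
        obtain ⟨g, hg⟩ := exists_prime_orderOf_dvd_card' r hrG
        have hgK : g ∈ K := by
          rw [hK, Subgroup.mem_iInf]
          intro p
          have hpp : p.1.Prime := Nat.prime_of_mem_primeFactors p.2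
          haveI : Fact p.1.Prime := ⟨hpp⟩
          obtain ⟨hN, -, k, hk⟩ := hf p.1 p.2
          haveI := hN
          apply Cfsg.Agent.Lib.Helper7_NPC.mem_of_index_pow (f p.1) hk g
          rw [hg]
          apply (Nat.coprime_primes hr hpp).mpr
          rintro rfl
          exact hrM (Nat.dvd_of_mem_primeFactors p.2)
        rw [hKbot, Subgroup.mem_bot] at hgK
        rw [hgK, orderOf_one] at hg
        exact hr.one_lt.ne hg
      rw [Nat.factorization_eq_zero_of_not_dvd hrG]
      exact Nat.zero_le _
  -- a prime q dividing |K| and an M-invariant Sylow q-subgroup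
  have hKcard : Nat.card K ≠ 1 := by
    intro h
    exact hK1 (Subgroup.card_eq_one.mp h)
  obtain ⟨q, hq, hqK⟩ := Nat.exists_prime_and_dvd hKcard
  haveI : Fact q.Prime := ⟨hq⟩
  have hMK : M ≤ Subgroup.normalizer (K : Set G) := by
    rw [Subgroup.normalizer_eq_top_iff.mpr hKn]; exact le_top
  obtain ⟨Q, hQ⟩ := Cfsg.Agent.Lib.Lead_Coprime.exists_invariant_sylow M K hMK hcop (Or.inl inferInstance) q
  set Q' : Subgroup G := (Q : Subgroup ↥K).map K.subtype with hQ'
  have hQ'K : Q' ≤ K := Subgroup.map_subtype_le _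
  have hQ'1 : Q' ≠ ⊥ := by
    intro h
    have h0 : (Q : Subgroup ↥K) = ⊥ := (Subgroup.map_eq_bot_iff_of_injective _ K.subtype_injective).mp h
    exact Q.ne_bot_of_dvd_card hqK h0
  have hQ'M : ¬ Q' ≤ M := by
    intro h
    have h1 : Q' ≤ M ⊓ K := le_inf h hQ'K
    have h2 : M ⊓ K = ⊥ := (Subgroup.disjoint_of_coprime_natCard hcop).eq_bot
    rw [h2] at h1
    exact hQ'1 (le_bot_iff.mp h1)
  have hsup : M ⊔ Q' = ⊤ := by
    apply hmax.2
    apply lt_of_le_of_ne le_sup_left
    intro h
    apply hQ'M
    rw [h]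
    exact le_sup_right
  haveI hQ'n : Q'.Normal := by
    rw [← Subgroup.normalizer_eq_top_iff, eq_top_iff, ← hsup]
    exact sup_le hQ Subgroup.le_normalizer
  -- G / Q' is an image of M
  have hsurj : Function.Surjective ((QuotientGroup.mk' Q').comp M.subtype) := by
    intro x
    obtain ⟨g, rfl⟩ := QuotientGroup.mk'_surjective Q' x
    have hg : g ∈ M ⊔ Q' := by rw [hsup]; exact Subgroup.mem_top g
    rw [← SetLike.mem_coe, Subgroup.mul_normal] at hg
    obtain ⟨m, hm, c, hc, rfl⟩ := hg
    refine ⟨⟨m, hm⟩, ?_⟩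
    simp only [MonoidHom.coe_comp, Function.comp_apply, Subgroup.coe_subtype, QuotientGroup.mk'_apply]
    rw [QuotientGroup.eq]
    simpa using hc
  haveI : Group.IsSolvable (G ⧸ Q') := Group.isSolvable_of_surjective hsurj
  have hQ'p : IsPGroup q Q' := Q.isPGroup'.map _
  haveI : Group.IsNilpotent Q' := hQ'p.isNilpotent
  exact Group.isSolvable_of_ker_le_range Q'.subtype (QuotientGroup.mk' Q')
    (by rw [QuotientGroup.ker_mk', Subgroup.range_subtype])


theorem aux : ∀ n : ℕ, ∀ (G : Type u) [Group G] [Finite G], Nat.card G = n → ∀ M : Subgroup G,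
    IsCoatom M → Group.IsNilpotent M → Odd (Nat.card M) → Group.IsSolvable G := by
  intro n
  induction n using Nat.strong_induction_on with
  | _ n ih =>
    intro G _ _ hn M hmax hnil hodd
    haveI := hnil
    by_cases hcore : M.normalCore = ⊥
    · exact corefree M hmax hnil hodd hcore
    · -- pass to the quotient by the core
      set C := M.normalCore with hC
      have hCM : C ≤ M := Subgroup.normalCore_le M
      have hCcard : 1 < Nat.card C := by
        rcases Nat.lt_or_ge 1 (Nat.card C) with h | h
        · exact h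
        · exfalso
          apply hcore
          apply Subgroup.card_eq_one.mp
          have := Nat.card_pos (α := C)
          omega
      have hlt : Nat.card (G ⧸ C) < n := by
        rw [← hn, ← Subgroup.index_eq_card]
        have h1 := C.index_mul_card
        have h2 : 0 < C.index := Nat.pos_of_ne_zero Subgroup.index_ne_zero_of_finite
        nlinarith
      set π := QuotientGroup.mk' C with hπ
      have hπs : Function.Surjective π := QuotientGroup.mk'_surjective C
      have hcomap : (M.map π).comap π = M := by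
        rw [Subgroup.comap_map_eq, QuotientGroup.ker_mk', sup_eq_left.mpr hCM]
      have hmax' : IsCoatom (M.map π) := by
        constructor
        · intro h
          apply hmax.1
          rw [← hcomap, h, Subgroup.comap_top]
        · intro L hL
          have h0 : (M.map π).comap π < L.comap π := by
            apply lt_of_le_of_ne (Subgroup.comap_mono hL.le)
            intro h
            exact hL.ne (Subgroup.comap_injective hπs h)
          have h1 : M < L.comap π := lt_of_eq_of_lt hcomap.symm h0
          have h2 := hmax.2 _ h1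
          apply Subgroup.comap_injective hπs
          rw [h2, Subgroup.comap_top]
      have hsurjM : Function.Surjective (π.subgroupMap M) := π.subgroupMap_surjective M
      have hnil' : Group.IsNilpotent ↥(M.map π) := Group.nilpotent_of_surjective _ hsurjM
      have hodd' : Odd (Nat.card ↥(M.map π)) := by
        have hdvd : Nat.card ↥(M.map π) ∣ Nat.card M := Subgroup.card_map_dvd M π
        exact Odd.of_dvd_nat hodd hdvd
      haveI : Group.IsSolvable (G ⧸ C) := ih _ hlt (G ⧸ C) rfl (M.map π) hmax' hnil' hodd'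
      haveI : Group.IsSolvable ↥C :=
        Group.isSolvable_of_isSolvable_injective (Subgroup.inclusion_injective hCM)
      exact Group.isSolvable_of_ker_le_range C.subtype π
        (by rw [hπ, QuotientGroup.ker_mk', Subgroup.range_subtype])

/-- A finite group possessing a maximal subgroup that is nilpotent of odd order is solvable. -/
theorem result {G : Type*} [Group G] [Finite G]
    (M : Subgroup G) (hmax : IsCoatom M) (hnil : Group.IsNilpotent M) (hodd : Odd (Nat.card M)) :
    Group.IsSolvable G := by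
  exact aux _ G rfl M hmax hnil hodd

end Cfsg.Agent.S4040
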