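import Cfsg.Statements.S4039
import Mathlib
import Cfsg.Agent.S4040
import Cfsg.Agent.S0078
import Cfsg.Agent.Lib.Helper3_PResidual
import Cfsg.Agent.Lib.Helper7_Basic

set_option autoImplicit false
open Cfsg
open scoped commutatorElement

namespace Cfsg.Agent.S4039

universe u

/-- In a nilpotent group of class at most 2, double commutators vanish. -/
theorem class_two_elt {E : Type*} [Group E] [hnil : Group.IsNilpotent E]
    (hcl : Group.nilpotencyClass E ≤ 2) (a b c : E) : ⁅⁅a, b⁆, c⁆ = 1 := by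
  have h1 : (⊤ : Subgroup E).lowerCentralSeries 2 = ⊥ :=
    Subgroup.lowerCentralSeries_eq_bot_iff_nilpotencyClass_le.mpr hcl
  have h2 : ⁅⁅a, b⁆, c⁆ ∈ (⊤ : Subgroup E).lowerCentralSeries 2 := by
    rw [Subgroup.lowerCentralSeries_succ, Subgroup.lowerCentralSeries_succ,
      Subgroup.lowerCentralSeries_zero]
    exact Subgroup.commutator_mem_commutator
      (Subgroup.commutator_mem_commutator (Subgroup.mem_top a) (Subgroup.mem_top b))
      (Subgroup.mem_top c)
  rw [h1, Subgroup.mem_bot] at h2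
  exact h2

/-- Class two for a subgroup `M ≤ G`, elementwise in `G`. -/
theorem class_two_sub {G : Type*} [Group G] (M : Subgroup G) [hnil : Group.IsNilpotent M]
    (hcl : Group.nilpotencyClass ↥M ≤ 2) (a b c : G) (ha : a ∈ M) (hb : b ∈ M) (hc : c ∈ M) :
    ⁅⁅a, b⁆, c⁆ = 1 := by
  have := class_two_elt hcl (⟨a, ha⟩ : M) ⟨b, hb⟩ ⟨c, hc⟩
  have h2 := congrArg (M.subtype) this
  simpa [commutatorElement_def] using h2

/-- Key normalization lemma: if `M` normalizes `P ≤ M`, `M` has class two, and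
`Z(P) ≤ V ≤ P`, then `M` normalizes `V`. -/
theorem le_normalizer_of_class_two {G : Type*} [Group G] (M P V : Subgroup G) (hPM : P ≤ M)
    (hMP : M ≤ Subgroup.normalizer (P : Set G))
    (hcl : ∀ a b c : G, a ∈ M → b ∈ M → c ∈ M → ⁅⁅a, b⁆, c⁆ = 1)
    (hZV : P ⊓ Subgroup.centralizer (P : Set G) ≤ V) (hVP : V ≤ P) :
    M ≤ Subgroup.normalizer (V : Set G) := by
  have key : ∀ m ∈ M, ∀ v ∈ V, m * v * m⁻¹ ∈ V := by
    intro m hm v hv
    have hvP : v ∈ P := hVP hv
    have h1 : m * v * m⁻¹ ∈ P := (Subgroup.mem_normalizer_iff.mp (hMP hm) v).mp hvP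
    have h2 : ⁅m, v⁆ ∈ P := by
      rw [commutatorElement_def]
      exact P.mul_mem h1 (P.inv_mem hvP)
    have h3 : ⁅m, v⁆ ∈ Subgroup.centralizer (P : Set G) := by
      rw [Subgroup.mem_centralizer_iff]
      intro x hx
      have := hcl m v x hm (hPM hvP) (hPM hx)
      rw [commutatorElement_eq_one_iff_mul_comm] at this
      exact this.symm
    have h4 : ⁅m, v⁆ ∈ V := hZV ⟨h2, h3⟩
    have : m * v * m⁻¹ = ⁅m, v⁆ * v := by rw [commutatorElement_def]; group
    rw [this]
    exact V.mul_mem h4 hv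
  intro m hm
  rw [Subgroup.mem_normalizer_iff]
  intro v
  constructor
  · exact key m hm v
  · intro h
    have := key m⁻¹ (M.inv_mem hm) _ h
    simpa [mul_assoc] using this


/-- Common set-up: the Sylow `p`-subgroup of `M` is a Sylow `p`-subgroup of `G`. -/
theorem sylow_setup {G : Type u} [Group G] [Finite G] (M : Subgroup G) (hmax : IsCoatom M)
    (hnil : Group.IsNilpotent M) (hcore : M.normalCore = ⊥)
    (p : ℕ) [hp : Fact p.Prime] (hpM : p ∣ Nat.card M) :
    ∃ PG : Sylow p G, (PG : Subgroup G) ≤ M ∧ (PG : Subgroup G) ≠ ⊥ ∧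
      M ≤ Subgroup.normalizer ((PG : Subgroup G) : Set G) ∧
      (∀ W : Subgroup G, W ≤ M → IsPGroup p W → W ≤ (PG : Subgroup G)) := by
  haveI := hnil
  obtain P₀ : Sylow p ↥M := default
  haveI hP₀n : (P₀ : Subgroup ↥M).Normal := inferInstance
  set P : Subgroup G := (P₀ : Subgroup ↥M).map M.subtype with hPdef
  have hPM : P ≤ M := Subgroup.map_subtype_le _
  have hPp : IsPGroup p P := P₀.isPGroup'.map _
  have hP1 : P ≠ ⊥ := by
    intro h
    have h0 : (P₀ : Subgroup ↥M) = ⊥ := by
      rw [hPdef] at h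
      exact (Subgroup.map_eq_bot_iff_of_injective _ M.subtype_injective).mp h
    exact P₀.ne_bot_of_dvd_card hpM h0
  have hMNP : M ≤ Subgroup.normalizer (P : Set G) := by
    have h1 := Subgroup.le_normalizer_map (H := (P₀ : Subgroup ↥M)) M.subtype
    rw [Subgroup.normalizer_eq_top_iff.mpr hP₀n] at h1
    have h2 : (⊤ : Subgroup ↥M).map M.subtype = M := by
      rw [← MonoidHom.range_eq_map, Subgroup.range_subtype]
    rw [h2] at h1
    exact h1
  have hNP : Subgroup.normalizer (P : Set G) = M :=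
    Cfsg.Agent.S4040.normalizer_eq M hmax hcore P hPM hP1 hMNP
  have huniq : ∀ W : Subgroup G, W ≤ M → IsPGroup p W → W ≤ P := by
    intro W hWM hWp
    have hW' : IsPGroup p (W.subgroupOf M) := hWp.comap_of_injective M.subtype M.subtype_injective
    obtain ⟨R, hR⟩ := hW'.exists_le_sylow
    haveI : Subsingleton (Sylow p ↥M) := (Sylow.unique_of_normal P₀ hP₀n).instSubsingleton
    have hRP : R = P₀ := Subsingleton.elim _ _
    intro w hw
    have : (⟨w, hWM hw⟩ : ↥M) ∈ (P₀ : Subgroup ↥M) := by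
      rw [← hRP]
      exact hR (Subgroup.mem_subgroupOf.mpr hw)
    exact ⟨⟨w, hWM hw⟩, this, rfl⟩
  obtain ⟨PS, hPS⟩ := Cfsg.Agent.Lib.Lead_Coprime.sylow_of_self_normalizing p (K := (⊤ : Subgroup G)) (V := P)
    le_top hPp (by
      intro W hPW hWN hWp
      have hWM : W ≤ M := by
        have := hWN.trans inf_le_left
        rwa [hNP] at this
      exact le_antisymm (huniq W hWM hWp) hPW)
  have hcardP : Nat.card P = p ^ (Nat.card G).factorization p := by
    rw [← hPS, Subgroup.card_map_of_injective (Subgroup.subtype_injective _), Sylow.card_eq_multiplicity,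
      Subgroup.card_top (G := G)]
  let PG : Sylow p G := Sylow.ofCard P hcardP
  have hPG : (PG : Subgroup G) = P := Sylow.coe_ofCard P hcardP
  refine ⟨PG, ?_, ?_, ?_, ?_⟩
  · rw [hPG]; exact hPM
  · rw [hPG]; exact hP1
  · rw [hPG]; exact hMNP
  · rw [hPG]; exact huniq

/-- Odd primes: Glauberman–Thompson. -/
theorem npc_odd {G : Type u} [Group G] [Finite G] (M : Subgroup G) (hmax : IsCoatom M)
    (hnil : Group.IsNilpotent M) (hcore : M.normalCore = ⊥)
    (p : ℕ) [hp : Fact p.Prime] (hpM : p ∣ Nat.card M) (hp2 : p ≠ 2) :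
    Cfsg.HasNormalPComplement p G := by
  obtain ⟨PG, hPM, hP1, hMNP, -⟩ := sylow_setup M hmax hnil hcore p hpM
  have hPp : IsPGroup p (PG : Subgroup G) := PG.isPGroup'
  have hW1 : Cfsg.centerThompsonAOf (PG : Subgroup G) ≠ ⊥ :=
    Cfsg.Agent.S0658.ZJ_ne_bot (PG : Subgroup G) hPp hP1
  have hWP : Cfsg.centerThompsonAOf (PG : Subgroup G) ≤ (PG : Subgroup G) := by
    unfold Cfsg.centerThompsonAOf Cfsg.thompsonSubgroupAOf
    exact inf_le_left.trans (Subgroup.map_subtype_le _)
  have hMNW : M ≤ Subgroup.normalizer (Cfsg.centerThompsonAOf (PG : Subgroup G) : Set G) := by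
    intro m hm
    apply Cfsg.Agent.S4040.mem_normalizer_of_map_conj_eq
    have h1 := Cfsg.Agent.Lib.Lead_ZJmap.centerThompsonA_map (MulAut.conj m).toMonoidHom
      (PG : Subgroup G) ((MulAut.conj m).injective.injOn)
    rw [← h1, Cfsg.Agent.S4040.map_conj_eq_of_mem_normalizer (PG : Subgroup G) m (hMNP hm)]
  have hNW : Subgroup.normalizer (Cfsg.centerThompsonAOf (PG : Subgroup G) : Set G) = M :=
    Cfsg.Agent.S4040.normalizer_eq M hmax hcore _ (hWP.trans hPM) hW1 hMNW
  apply Cfsg.Agent.S0659.result hp2 PG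
  rw [hNW]
  haveI := hnil
  exact Cfsg.Agent.S4040.npc_of_nilpotent p


/-- The prime 2: the group is 2-normal, so Grün's second theorem applies. -/
theorem npc_two {G : Type u} [Group G] [Finite G] (M : Subgroup G) (hmax : IsCoatom M)
    (hnil : Group.IsNilpotent M) (hcl : Group.nilpotencyClass ↥M ≤ 2) (hcore : M.normalCore = ⊥)
    (hpM : 2 ∣ Nat.card M) : Cfsg.HasNormalPComplement 2 G := by
  haveI : Fact (Nat.Prime 2) := ⟨Nat.prime_two⟩
  haveI := hnil
  obtain ⟨PG, hPM, hP1, hMNP, huniq⟩ := sylow_setup M hmax hnil hcore 2 hpM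
  have hclM : ∀ a b c : G, a ∈ M → b ∈ M → c ∈ M → ⁅⁅a, b⁆, c⁆ = 1 :=
    fun a b c ha hb hc => class_two_sub M hcl a b c ha hb hc
  have hPp : IsPGroup 2 (PG : Subgroup G) := PG.isPGroup'
  have hZP : (PG : Subgroup G) ⊓ Subgroup.centralizer ((PG : Subgroup G) : Set G) ≤
      (PG : Subgroup G) := inf_le_left
  -- the centre of P is nontrivial
  have hZ1 : (PG : Subgroup G) ⊓ Subgroup.centralizer ((PG : Subgroup G) : Set G) ≠ ⊥ := by
    haveI : Nontrivial (PG : Subgroup G) := (Subgroup.nontrivial_iff_ne_bot _).mpr hP1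
    haveI := hPp.center_nontrivial
    obtain ⟨z, hz1⟩ := exists_ne (1 : Subgroup.center (PG : Subgroup G))
    intro hbot
    apply hz1
    have hzmem : ((z : (PG : Subgroup G)) : G) ∈
        (PG : Subgroup G) ⊓ Subgroup.centralizer ((PG : Subgroup G) : Set G) := by
      refine Subgroup.mem_inf.mpr ⟨(z : (PG : Subgroup G)).2, ?_⟩
      rw [Subgroup.mem_centralizer_iff]
      intro x hx
      have := Subgroup.mem_center_iff.mp z.2 ⟨x, hx⟩
      exact congrArg Subtype.val this
    rw [hbot, Subgroup.mem_bot] at hzmem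
    apply Subtype.ext
    apply Subtype.ext
    simpa using hzmem
  have hMZ : M ≤ Subgroup.normalizer
      (((PG : Subgroup G) ⊓ Subgroup.centralizer ((PG : Subgroup G) : Set G) : Subgroup G) : Set G) :=
    le_normalizer_of_class_two M (PG : Subgroup G) _ hPM hMNP hclM le_rfl hZP
  have hNZ : Subgroup.normalizer
      (((PG : Subgroup G) ⊓ Subgroup.centralizer ((PG : Subgroup G) : Set G) : Subgroup G) : Set G) = M :=
    Cfsg.Agent.S4040.normalizer_eq M hmax hcore _ (hZP.trans hPM) hZ1 hMZ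
  -- 2-normality
  have hn : ∀ Q : Sylow 2 G,
      (PG : Subgroup G) ⊓ Subgroup.centralizer ((PG : Subgroup G) : Set G) ≤ (Q : Subgroup G) →
      (Q : Subgroup G) ⊓ Subgroup.centralizer ((Q : Subgroup G) : Set G) =
        (PG : Subgroup G) ⊓ Subgroup.centralizer ((PG : Subgroup G) : Set G) := by
    intro Q hZQ
    have h1 : (Q : Subgroup G) ⊓ Subgroup.centralizer ((Q : Subgroup G) : Set G) ≤ M := by
      intro x hx
      rw [← hNZ]
      apply Subgroup.centralizer_le_normalizer
      rw [Subgroup.mem_centralizer_iff]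
      intro z hz
      exact (Subgroup.mem_centralizer_iff.mp hx.2 z (hZQ hz))
    have h2 : (Q : Subgroup G) ⊓ Subgroup.centralizer ((Q : Subgroup G) : Set G) ≤
        (PG : Subgroup G) := huniq _ h1 (Q.isPGroup'.to_le inf_le_left)
    set V : Subgroup G := ((PG : Subgroup G) ⊓ Subgroup.centralizer ((PG : Subgroup G) : Set G)) ⊔
      ((Q : Subgroup G) ⊓ Subgroup.centralizer ((Q : Subgroup G) : Set G)) with hV
    have hVP : V ≤ (PG : Subgroup G) := sup_le hZP h2
    have hV1 : V ≠ ⊥ := by
      intro h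
      apply hZ1
      rw [← le_bot_iff, ← h]
      exact le_sup_left
    have hMV : M ≤ Subgroup.normalizer (V : Set G) :=
      le_normalizer_of_class_two M (PG : Subgroup G) V hPM hMNP hclM le_sup_left hVP
    have hNV : Subgroup.normalizer (V : Set G) = M :=
      Cfsg.Agent.S4040.normalizer_eq M hmax hcore V (hVP.trans hPM) hV1 hMV
    have hclQ : ∀ a b c : G, a ∈ (Q : Subgroup G) → b ∈ (Q : Subgroup G) → c ∈ (Q : Subgroup G) →
        ⁅⁅a, b⁆, c⁆ = 1 := by
      obtain ⟨g, hg⟩ := MulAction.exists_smul_eq G PG Q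
      intro a b c ha hb hc
      have ha' : g⁻¹ * a * g ∈ PG := by
        rw [← Cfsg.Agent.Lib.Helper7_Basic.mem_smul_sylow, hg]; exact ha
      have hb' : g⁻¹ * b * g ∈ PG := by
        rw [← Cfsg.Agent.Lib.Helper7_Basic.mem_smul_sylow, hg]; exact hb
      have hc' : g⁻¹ * c * g ∈ PG := by
        rw [← Cfsg.Agent.Lib.Helper7_Basic.mem_smul_sylow, hg]; exact hc
      have h3 := hclM (g⁻¹ * a * g) (g⁻¹ * b * g) (g⁻¹ * c * g) (hPM ha') (hPM hb') (hPM hc')
      have h4 : ⁅⁅g⁻¹ * a * g, g⁻¹ * b * g⁆, g⁻¹ * c * g⁆ = g⁻¹ * ⁅⁅a, b⁆, c⁆ * g := by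
        simp only [commutatorElement_def]; group
      rw [h4] at h3
      have h5 : ⁅⁅a, b⁆, c⁆ = g * (g⁻¹ * ⁅⁅a, b⁆, c⁆ * g) * g⁻¹ := by group
      rw [h5, h3]; group
    have hVQ : V ≤ (Q : Subgroup G) := sup_le hZQ inf_le_left
    have hQV : (Q : Subgroup G) ≤ Subgroup.normalizer (V : Set G) :=
      le_normalizer_of_class_two (Q : Subgroup G) (Q : Subgroup G) V le_rfl Subgroup.le_normalizer
        hclQ le_sup_right hVQ
    have hQM : (Q : Subgroup G) ≤ M := by rw [← hNV]; exact hQV
    have hQP : (Q : Subgroup G) ≤ (PG : Subgroup G) := huniq _ hQM Q.isPGroup'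
    have hQeq : (Q : Subgroup G) = (PG : Subgroup G) := by
      apply Subgroup.eq_of_le_of_card_ge hQP
      rw [Sylow.card_eq_multiplicity, Sylow.card_eq_multiplicity]
    rw [hQeq]
  -- Grün's second theorem
  have hgrun := Cfsg.Agent.S0078.result PG hn M (le_of_eq hNZ)
  -- the residual of the nilpotent group `M` avoids `P`
  have hbot : (PG : Subgroup G) ⊓ Cfsg.pResidual 2 G = ⊥ := by
    rw [hgrun, eq_bot_iff]
    rintro x ⟨hxP, y, hy, rfl⟩
    obtain ⟨P', Q', -, hQp, hmem, -⟩ :=
      Cfsg.Agent.Lib.Helper2_NilDecomp.nilpotent_p_decomp (E := M) 2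
    have hle : Cfsg.pResidual 2 ↥M ≤ Q' := by
      unfold Cfsg.pResidual
      rw [Subgroup.closure_le]
      intro g hg
      rw [SetLike.mem_coe, hmem]
      intro h2
      have hg' : Nat.Coprime (orderOf g) 2 := hg
      have := Nat.Coprime.eq_one_of_dvd hg'.symm h2
      omega
    have hyQ : ¬ 2 ∣ orderOf y := (hmem y).mp (hle hy)
    have hxo : orderOf (M.subtype y) = orderOf y := orderOf_injective _ M.subtype_injective y
    obtain ⟨k, hk⟩ := (IsPGroup.iff_orderOf.mp hPp) ⟨M.subtype y, hxP⟩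
    rw [Subgroup.orderOf_mk, hxo] at hk
    rw [Subgroup.mem_bot, ← orderOf_eq_one_iff, hxo, hk]
    rcases Nat.eq_zero_or_pos k with h0 | hpos
    · rw [h0, pow_zero]
    · exfalso
      apply hyQ
      rw [hk]
      exact dvd_pow_self 2 hpos.ne'
  -- conclude
  rw [Cfsg.Agent.Lib.Helper7_NPC.hasNormalPComplement_iff_npc]
  haveI hNn : (Cfsg.pResidual 2 G).Normal := Cfsg.Agent.Lib.Helper3_PResidual.pResidual_normal 2 G
  refine ⟨Cfsg.pResidual 2 G, hNn, ?_, ?_⟩
  · rw [Nat.coprime_comm, Nat.Prime.coprime_iff_not_dvd Nat.prime_two]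
    intro hd
    obtain ⟨k, hk⟩ := exists_prime_orderOf_dvd_card' (G := ↥(Cfsg.pResidual 2 G)) 2 hd
    have hk' : orderOf (k : G) = 2 := by rw [Subgroup.orderOf_coe]; exact hk
    have hP2 : IsPGroup 2 (Subgroup.zpowers (k : G)) := by
      apply IsPGroup.of_card (n := 1)
      rw [Nat.card_zpowers, hk', pow_one]
    obtain ⟨P', hP'⟩ := hP2.exists_le_sylow
    obtain ⟨g, hg⟩ := MulAction.exists_smul_eq G P' PG
    have h1 : g * (k : G) * g⁻¹ ∈ (PG : Subgroup G) := by
      rw [← hg]
      show g * (k : G) * g⁻¹ ∈ g • P'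
      rw [Cfsg.Agent.Lib.Helper7_Basic.mem_smul_sylow]
      have : g⁻¹ * (g * (k : G) * g⁻¹) * g = (k : G) := by group
      rw [this]
      exact hP' (Subgroup.mem_zpowers _)
    have h2 : g * (k : G) * g⁻¹ ∈ Cfsg.pResidual 2 G := hNn.conj_mem _ k.2 g
    have h3 : g * (k : G) * g⁻¹ ∈ (PG : Subgroup G) ⊓ Cfsg.pResidual 2 G :=
      Subgroup.mem_inf.mpr ⟨h1, h2⟩
    rw [hbot, Subgroup.mem_bot] at h3
    have h5 : (k : G) = 1 := by
      have : (k : G) = g⁻¹ * (g * (k : G) * g⁻¹) * g := by group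
      rw [this, h3]; group
    rw [h5, orderOf_one] at hk'
    omega
  · have hq : IsPGroup 2 (G ⧸ Cfsg.pResidual 2 G) :=
      Cfsg.Agent.Lib.Helper3_PResidual.isPGroup_quotient_of_coprime_mem 2 _
        (fun g hg => Cfsg.Agent.Lib.Helper3_PResidual.mem_pResidual_of_coprime 2 g hg)
    obtain ⟨k, hk⟩ := IsPGroup.iff_card.mp hq
    exact ⟨k, by rw [Subgroup.index_eq_card, hk]⟩


/-- The per-prime step. -/
theorem npc_prime {G : Type u} [Group G] [Finite G] (M : Subgroup G) (hmax : IsCoatom M)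
    (hnil : Group.IsNilpotent M) (hcl : Group.nilpotencyClass ↥M ≤ 2) (hcore : M.normalCore = ⊥)
    (p : ℕ) [hp : Fact p.Prime] (hpM : p ∣ Nat.card M) :
    (∃ P : Sylow p G, (P : Subgroup G) ≤ M) ∧ Cfsg.HasNormalPComplement p G := by
  refine ⟨?_, ?_⟩
  · obtain ⟨PG, hPM, -⟩ := sylow_setup M hmax hnil hcore p hpM
    exact ⟨PG, hPM⟩
  · by_cases hp2 : p = 2
    · subst hp2
      exact npc_two M hmax hnil hcl hcore hpM
    · exact npc_odd M hmax hnil hcore p hpM hp2

/-- The core-free case. -/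
theorem corefree {G : Type u} [Group G] [Finite G] (M : Subgroup G) (hmax : IsCoatom M)
    (hnil : Group.IsNilpotent M) (hcl : Group.nilpotencyClass ↥M ≤ 2) (hcore : M.normalCore = ⊥) :
    Group.IsSolvable G := by
  classical
  haveI := hnil
  -- normal complements for every prime dividing |M|
  have hnpc : ∀ p : ℕ, p ∈ (Nat.card M).primeFactors → ∃ N : Subgroup G, N.Normal ∧
      (Nat.card N).Coprime p ∧ ∃ k : ℕ, N.index = p ^ k := by
    intro p hp
    haveI : Fact p.Prime := ⟨Nat.prime_of_mem_primeFactors hp⟩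
    have := (npc_prime M hmax hnil hcl hcore p (Nat.dvd_of_mem_primeFactors hp)).2
    exact Cfsg.Agent.Lib.Helper7_NPC.hasNormalPComplement_iff_npc.mp this
  choose! f hf using hnpc
  set K : Subgroup G := ⨅ p : (Nat.card M).primeFactors, f p with hK
  haveI hKn : K.Normal := Subgroup.normal_iInf_normal (fun p => (hf p p.2).1)
  have hKle : ∀ p ∈ (Nat.card M).primeFactors, K ≤ f p := fun p hp => iInf_le (fun p : (Nat.card M).primeFactors => f p) ⟨p, hp⟩
  -- |K| coprime to |M|
  have hcop : (Nat.card M).Coprime (Nat.card K) := by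
    by_contra h
    obtain ⟨p, hp, hpM, hpK⟩ := Nat.Prime.not_coprime_iff_dvd.mp h
    have hpmem : p ∈ (Nat.card M).primeFactors := Nat.mem_primeFactors.mpr ⟨hp, hpM, Nat.card_pos.ne'⟩
    have h1 : Nat.card K ∣ Nat.card (f p) := Subgroup.card_dvd_of_le (hKle p hpmem)
    have h2 := (hf p hpmem).2.1
    have h3 : p ∣ Nat.card (f p) := dvd_trans hpK h1
    exact (Nat.Prime.coprime_iff_not_dvd hp).mp h2.symm h3
  -- K ≠ ⊥
  have hK1 : K ≠ ⊥ := by
    intro hKbot
    apply hmax.1
    apply Subgroup.eq_top_of_card_eq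
    apply Nat.dvd_antisymm (Subgroup.card_subgroup_dvd_card M)
    rw [← Nat.factorization_prime_le_iff_dvd Nat.card_pos.ne' Nat.card_pos.ne']
    intro r hr
    haveI : Fact r.Prime := ⟨hr⟩
    by_cases hrM : r ∣ Nat.card M
    · obtain ⟨PS, hPS⟩ := (npc_prime M hmax hnil hcl hcore r hrM).1
      have h1 : Nat.card (PS : Subgroup G) ∣ Nat.card M := Subgroup.card_dvd_of_le hPS
      rw [Sylow.card_eq_multiplicity] at h1
      exact (hr.pow_dvd_iff_le_factorization Nat.card_pos.ne').mp h1
    · have hrG : ¬ r ∣ Nat.card G := by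
        intro hrG
        obtain ⟨g, hg⟩ := exists_prime_orderOf_dvd_card' r hrG
        have hgK : g ∈ K := by
          rw [hK, Subgroup.mem_iInf]
          intro p
          have hpp : p.1.Prime := Nat.prime_of_mem_primeFactors p.2
          haveI : Fact p.1.Prime := ⟨hpp⟩
          obtain ⟨hN, -, k, hk⟩ := hf p.1 p.2
          haveI := hN
          apply Cfsg.Agent.Lib.Helper7_NPC.mem_of_index_pow (f p.1) hk g
          rw [hg]
          apply (Nat.coprime_primes hr hpp).mpr
          rintro rfl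
          exact hrM (Nat.dvd_of_mem_primeFactors p.2)
        rw [hKbot, Subgroup.mem_bot] at hgK
        rw [hgK, orderOf_one] at hg
        exact hr.one_lt.ne hg
      rw [Nat.factorization_eq_zero_of_not_dvd hrG]
      exact Nat.zero_le _
  -- a prime q dividing |K| and an M-invariant Sylow q-subgroup
  have hKcard : Nat.card K ≠ 1 := by
    intro h
    exact hK1 (Subgroup.card_eq_one.mp h)
  obtain ⟨q, hq, hqK⟩ := Nat.exists_prime_and_dvd hKcard
  haveI : Fact q.Prime := ⟨hq⟩
  have hMK : M ≤ Subgroup.normalizer (K : Set G) := by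
    rw [Subgroup.normalizer_eq_top_iff.mpr hKn]; exact le_top
  obtain ⟨Q, hQ⟩ := Cfsg.Agent.Lib.Lead_Coprime.exists_invariant_sylow M K hMK hcop (Or.inl inferInstance) q
  set Q' : Subgroup G := (Q : Subgroup ↥K).map K.subtype with hQ'
  have hQ'K : Q' ≤ K := Subgroup.map_subtype_le _
  have hQ'1 : Q' ≠ ⊥ := by
    intro h
    have h0 : (Q : Subgroup ↥K) = ⊥ := (Subgroup.map_eq_bot_iff_of_injective _ K.subtype_injective).mp h
    exact Q.ne_bot_of_dvd_card hqK h0
  have hQ'M : ¬ Q' ≤ M := by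
    intro h
    have h1 : Q' ≤ M ⊓ K := le_inf h hQ'K
    have h2 : M ⊓ K = ⊥ := (Subgroup.disjoint_of_coprime_natCard hcop).eq_bot
    rw [h2] at h1
    exact hQ'1 (le_bot_iff.mp h1)
  have hsup : M ⊔ Q' = ⊤ := by
    apply hmax.2
    apply lt_of_le_of_ne le_sup_left
    intro h
    apply hQ'M
    rw [h]
    exact le_sup_right
  haveI hQ'n : Q'.Normal := by
    rw [← Subgroup.normalizer_eq_top_iff, eq_top_iff, ← hsup]
    exact sup_le hQ Subgroup.le_normalizer
  -- G / Q' is an image of M
  have hsurj : Function.Surjective ((QuotientGroup.mk' Q').comp M.subtype) := by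
    intro x
    obtain ⟨g, rfl⟩ := QuotientGroup.mk'_surjective Q' x
    have hg : g ∈ M ⊔ Q' := by rw [hsup]; exact Subgroup.mem_top g
    rw [← SetLike.mem_coe, Subgroup.mul_normal] at hg
    obtain ⟨m, hm, c, hc, rfl⟩ := hg
    refine ⟨⟨m, hm⟩, ?_⟩
    simp only [MonoidHom.coe_comp, Function.comp_apply, Subgroup.coe_subtype, QuotientGroup.mk'_apply]
    rw [QuotientGroup.eq]
    simpa using hc
  haveI : Group.IsSolvable (G ⧸ Q') := Group.isSolvable_of_surjective hsurj
  have hQ'p : IsPGroup q Q' := Q.isPGroup'.map _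
  haveI : Group.IsNilpotent Q' := hQ'p.isNilpotent
  exact Group.isSolvable_of_ker_le_range Q'.subtype (QuotientGroup.mk' Q')
    (by rw [QuotientGroup.ker_mk', Subgroup.range_subtype])


theorem aux : ∀ n : ℕ, ∀ (G : Type u) [Group G] [Finite G], Nat.card G = n → ∀ M : Subgroup G,
    IsCoatom M → ∀ hnil : Group.IsNilpotent M, Group.nilpotencyClass ↥M ≤ 2 → Group.IsSolvable G := by
  intro n
  induction n using Nat.strong_induction_on with
  | _ n ih =>
    intro G _ _ hn M hmax hnil hcl
    haveI := hnil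
    by_cases hcore : M.normalCore = ⊥
    · exact corefree M hmax hnil hcl hcore
    · -- pass to the quotient by the core
      set C := M.normalCore with hC
      have hCM : C ≤ M := Subgroup.normalCore_le M
      have hCcard : 1 < Nat.card C := by
        rcases Nat.lt_or_ge 1 (Nat.card C) with h | h
        · exact h
        · exfalso
          apply hcore
          apply Subgroup.card_eq_one.mp
          have := Nat.card_pos (α := C)
          omega
      have hlt : Nat.card (G ⧸ C) < n := by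
        rw [← hn, ← Subgroup.index_eq_card]
        have h1 := C.index_mul_card
        have h2 : 0 < C.index := Nat.pos_of_ne_zero Subgroup.index_ne_zero_of_finite
        nlinarith
      set π := QuotientGroup.mk' C with hπ
      have hπs : Function.Surjective π := QuotientGroup.mk'_surjective C
      have hcomap : (M.map π).comap π = M := by
        rw [Subgroup.comap_map_eq, QuotientGroup.ker_mk', sup_eq_left.mpr hCM]
      have hmax' : IsCoatom (M.map π) := by
        constructor
        · intro h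
          apply hmax.1
          rw [← hcomap, h, Subgroup.comap_top]
        · intro L hL
          have h0 : (M.map π).comap π < L.comap π := by
            apply lt_of_le_of_ne (Subgroup.comap_mono hL.le)
            intro h
            exact hL.ne (Subgroup.comap_injective hπs h)
          have h1 : M < L.comap π := lt_of_eq_of_lt hcomap.symm h0
          have h2 := hmax.2 _ h1
          apply Subgroup.comap_injective hπs
          rw [h2, Subgroup.comap_top]
      have hsurjM : Function.Surjective (π.subgroupMap M) := π.subgroupMap_surjective M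
      have hnil' : Group.IsNilpotent ↥(M.map π) := Group.nilpotent_of_surjective _ hsurjM
      have hcl' : Group.nilpotencyClass ↥(M.map π) ≤ 2 :=
        le_trans (Group.nilpotencyClass_le_of_surjective _ hsurjM) hcl
      haveI : Group.IsSolvable (G ⧸ C) := ih _ hlt (G ⧸ C) rfl (M.map π) hmax' hnil' hcl'
      haveI : Group.IsSolvable ↥C :=
        Group.isSolvable_of_isSolvable_injective (Subgroup.inclusion_injective hCM)
      exact Group.isSolvable_of_ker_le_range C.subtype π
        (by rw [hπ, QuotientGroup.ker_mk', Subgroup.range_subtype])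

/-- A finite group possessing a maximal subgroup that is nilpotent of class at most 2 is solvable. -/
theorem result {G : Type*} [Group G] [Finite G]
    (M : Subgroup G) (hmax : IsCoatom M) (hnil : Group.IsNilpotent M) (hcl : Group.nilpotencyClass ↥M ≤ 2) :
    Group.IsSolvable G := by
  exact aux _ G rfl M hmax hnil hcl

end Cfsg.Agent.S4039
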