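import Cfsg.Statements.S4043
import Mathlib
import Cfsg.Agent.Lib.Lead_Coprime
import Cfsg.Agent.Lib.Lead_SZ
import Cfsg.Agent.Lib.Helper4_Kieler0

set_option autoImplicit false
open Cfsg

namespace Cfsg.Agent.S4043

open scoped Pointwise
open Cfsg.Agent.Lib

section
variable {G : Type*} [Group G]

/-- A `p`-subgroup `D` normalizing a non-trivial `p`-subgroup `M` has a non-trivial fixed point
in `M`. -/
theorem fix_ne_one [Finite G] {p : ℕ} [Fact p.Prime] {M D : Subgroup G}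
    (hMp : IsPGroup p M) (hM1 : M ≠ ⊥) (hD : IsPGroup p D) (hDM : D ≤ Subgroup.normalizer (M : Set G)) :
    ∃ z ∈ M, z ≠ 1 ∧ ∀ d ∈ D, d * z = z * d := by
  have hT : IsPGroup p (D ⊔ M : Subgroup G) := hD.to_sup_of_normal_right' hMp hDM
  have : Group.IsNilpotent (D ⊔ M : Subgroup G) := hT.isNilpotent
  obtain ⟨m, hmM, hm1⟩ := (Subgroup.ne_bot_iff_exists_ne_one).mp hM1 |> fun ⟨x, hx⟩ =>
    (⟨x.1, x.2, fun h => hx (Subtype.ext h)⟩ : ∃ m : G, m ∈ M ∧ m ≠ 1)
  have hM' : M.subgroupOf (D ⊔ M) ≠ ⊥ := by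
    intro h
    have : (⟨m, (le_sup_right : M ≤ D ⊔ M) hmM⟩ : (D ⊔ M : Subgroup G)) ∈ M.subgroupOf (D ⊔ M) := by
      rw [Subgroup.mem_subgroupOf]; exact hmM
    rw [h, Subgroup.mem_bot] at this
    exact hm1 (congrArg Subtype.val this)
  have : (M.subgroupOf (D ⊔ M)).Normal := Subgroup.normal_subgroupOf_sup_of_le_normalizer hDM
  obtain ⟨a, haM, haZ, ha1⟩ :=
    Cfsg.Agent.Lib.Helper4_Kieler0.normal_inf_center_ne_bot' (M.subgroupOf (D ⊔ M)) hM'
  refine ⟨(a : G), Subgroup.mem_subgroupOf.mp haM, fun h => ha1 (Subtype.ext h), ?_⟩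
  intro d hd
  have := Subgroup.mem_center_iff.mp haZ ⟨d, (le_sup_left : D ≤ D ⊔ M) hd⟩
  exact congrArg Subtype.val this

/-- Unpacking a normal `p`-complement of a subgroup `A` of `G` into subgroups of `G`. -/
theorem npc_data [Finite G] {p : ℕ} [Fact p.Prime] (A : Subgroup G)
    (h : Cfsg.HasNormalPComplement p A) :
    ∃ K Q : Subgroup G, K ≤ A ∧ Q ≤ A ∧ IsPGroup p Q ∧ (Nat.card K).Coprime p ∧
      (∀ a ∈ A, ∀ k ∈ K, a * k * a⁻¹ ∈ K) ∧ (∀ a ∈ A, ∃ k ∈ K, ∃ u ∈ Q, a = k * u) ∧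
      Nat.card K * p ^ (Nat.card A).factorization p = Nat.card A ∧
      (∀ a ∈ A, a ^ (p ^ (Nat.card A).factorization p) ∈ K) := by
  obtain ⟨P, K', hK'n, hK'c⟩ := h
  have h1 : Nat.card K' * Nat.card (P : Subgroup A) = Nat.card A := hK'c.card_mul_card
  have h2 : Nat.card (P : Subgroup A) = p ^ (Nat.card A).factorization p := P.card_eq_multiplicity
  have h3 : Nat.card (K'.map A.subtype) = Nat.card K' :=
    Subgroup.card_map_of_injective A.subtype_injective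
  refine ⟨K'.map A.subtype, (P : Subgroup A).map A.subtype, Subgroup.map_subtype_le _,
    Subgroup.map_subtype_le _, ?_, ?_, ?_, ?_, ?_, ?_⟩
  · exact P.isPGroup'.map _
  · rw [h3, ← hK'c.index_eq_card]
    exact ((Nat.Prime.coprime_iff_not_dvd (Fact.out : p.Prime)).mpr P.not_dvd_index).symm
  · rintro a ha k ⟨k', hk', rfl⟩
    refine ⟨(⟨a, ha⟩ : A) * k' * (⟨a, ha⟩ : A)⁻¹, hK'n.conj_mem k' hk' _, ?_⟩
    simp
  · intro a ha
    obtain ⟨k, hk, u, hu, hku⟩ := Lead_SZ.exists_mul_of_complement hK'c (⟨a, ha⟩ : A)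
    refine ⟨k, ⟨k, hk, rfl⟩, u, ⟨u, hu, rfl⟩, ?_⟩
    have := congrArg Subtype.val hku
    simpa using this
  · rw [h3, ← h2]; exact h1
  · intro a ha
    have h4 : (P : Subgroup A).index = Nat.card K' := hK'c.index_eq_card
    have h5 : K'.index = Nat.card (P : Subgroup A) := hK'c.symm.index_eq_card
    have h6 := Subgroup.pow_index_mem K' (⟨a, ha⟩ : A)
    rw [h5, h2] at h6
    exact ⟨_, h6, by simp⟩

/-- If `A = K Q` with `Q` a `p`-group normalizing `K`, acting on the normal `p`-subgroup `N`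
with `C_N(A) = 1`, then `C_N(K) = 1`. -/
theorem cent_trivial [Finite G] {p : ℕ} [Fact p.Prime] (N : Subgroup G) [hNn : N.Normal]
    (hN : IsPGroup p N) (A K Q : Subgroup G) (hQA : Q ≤ A) (hQ : IsPGroup p Q)
    (hnorm : ∀ a ∈ A, ∀ k ∈ K, a * k * a⁻¹ ∈ K)
    (hdec : ∀ a ∈ A, ∃ k ∈ K, ∃ u ∈ Q, a = k * u)
    (hC : ∀ n : G, n ∈ N → (∀ a : G, a ∈ A → a * n * a⁻¹ = n) → n = 1) :
    N ⊓ Subgroup.centralizer (K : Set G) = ⊥ := by
  by_contra hne
  have hMp : IsPGroup p (N ⊓ Subgroup.centralizer (K : Set G) : Subgroup G) := hN.to_le inf_le_left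
  have hconj : ∀ a ∈ A, ∀ x ∈ (N ⊓ Subgroup.centralizer (K : Set G) : Subgroup G),
      a * x * a⁻¹ ∈ (N ⊓ Subgroup.centralizer (K : Set G) : Subgroup G) := by
    intro a ha x hx
    obtain ⟨hxN, hxC⟩ := Subgroup.mem_inf.mp hx
    refine Subgroup.mem_inf.mpr ⟨hNn.conj_mem x hxN a, ?_⟩
    rw [Subgroup.mem_centralizer_iff] at hxC ⊢
    intro k hk
    have hk' : a⁻¹ * k * a ∈ K := by
      have := hnorm a⁻¹ (A.inv_mem ha) k hk
      rwa [inv_inv] at this
    have h1 := hxC _ hk'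
    calc k * (a * x * a⁻¹) = a * (a⁻¹ * k * a * x) * a⁻¹ := by group
      _ = a * (x * (a⁻¹ * k * a)) * a⁻¹ := by rw [h1]
      _ = a * x * a⁻¹ * k := by group
  have hQM : Q ≤ Subgroup.normalizer ((N ⊓ Subgroup.centralizer (K : Set G) : Subgroup G) : Set G) := by
    intro u hu
    apply Lead_Coprime.mem_normalizer_of_conj_mem
    · intro x hx; exact hconj u (hQA hu) x hx
    · intro x hx
      have := hconj u⁻¹ (A.inv_mem (hQA hu)) x hx
      rwa [inv_inv] at this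
  obtain ⟨z, hzM, hz1, hzQ⟩ := fix_ne_one hMp hne hQ hQM
  apply hz1
  obtain ⟨hzN, hzC⟩ := Subgroup.mem_inf.mp hzM
  rw [Subgroup.mem_centralizer_iff] at hzC
  apply hC z hzN
  intro a ha
  obtain ⟨k, hk, u, hu, rfl⟩ := hdec a ha
  have h1 : k * z = z * k := hzC k hk
  have h2 : u * z = z * u := hzQ u hu
  calc k * u * z * (k * u)⁻¹ = k * (u * z) * u⁻¹ * k⁻¹ := by group
    _ = k * (z * u) * u⁻¹ * k⁻¹ := by rw [h2]
    _ = (k * z) * k⁻¹ := by group
    _ = z * k * k⁻¹ := by rw [h1]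
    _ = z := by group

end

/-- Let G be a finite group that is the semidirect product of a normal p-subgroup N by a subgroup A, and also of N by a subgroup A₁, where p is a prime and A and A₁ both have normal p-complements. If C_N(A) = C_N(A₁) = 1, then A₁ is conjugate to A by an element of N. -/
theorem result {G : Type*} [Group G] [Finite G] {p : ℕ}
    [Fact p.Prime] (N : Subgroup G) [N.Normal] (hN : IsPGroup p N) (A A₁ : Subgroup G)
    (hA : A.IsComplement' N) (hA₁ : A₁.IsComplement' N)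
    (hAp : Cfsg.HasNormalPComplement p A) (hA₁p : Cfsg.HasNormalPComplement p A₁)
    (hC : ∀ n : G, n ∈ N → (∀ a : G, a ∈ A → a * n * a⁻¹ = n) → n = 1)
    (hC₁ : ∀ n : G, n ∈ N → (∀ a : G, a ∈ A₁ → a * n * a⁻¹ = n) → n = 1) :
    ∃ n : G, n ∈ N ∧ A₁ = A.map (MulAut.conj n).toMonoidHom := by
  classical
  obtain ⟨K, Q, hKA, hQA, hQp, hKcop, hKnorm, hKdec, hKcard, hKpow⟩ := npc_data A hAp
  obtain ⟨K₁, Q₁, hK₁A, hQ₁A, hQ₁p, hK₁cop, hK₁norm, hK₁dec, hK₁card, hK₁pow⟩ := npc_data A₁ hA₁p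
  have hcA : Nat.card A * Nat.card N = Nat.card G := hA.card_mul_card
  have hcA₁ : Nat.card A₁ * Nat.card N = Nat.card G := hA₁.card_mul_card
  have hNpos : 0 < Nat.card N := Nat.card_pos
  have hAA₁ : Nat.card A = Nat.card A₁ := Nat.eq_of_mul_eq_mul_right hNpos (hcA.trans hcA₁.symm)
  have hKK₁ : Nat.card K₁ = Nat.card K := by
    rw [← hAA₁] at hK₁card
    have hpos : 0 < p ^ (Nat.card A).factorization p := pow_pos (Fact.out : p.Prime).pos _
    exact Nat.eq_of_mul_eq_mul_right hpos (hK₁card.trans hKcard.symm)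
  have hAN : A ⊓ N = ⊥ := hA.disjoint.eq_bot
  have hA₁N : A₁ ⊓ N = ⊥ := hA₁.disjoint.eq_bot
  -- `K₁ ≤ N K`
  have hK₁L : K₁ ≤ N ⊔ K := by
    intro x hx
    obtain ⟨a, ha, n, hn, rfl⟩ := Lead_SZ.exists_mul_of_complement hA x
    have hxm : (a * n) ^ Nat.card K₁ = 1 :=
      orderOf_dvd_iff_pow_eq_one.mp (Subgroup.orderOf_dvd_natCard _ hx)
    have ham : a ^ Nat.card K₁ = 1 := by
      have h1 : ((a * n : G) : G ⧸ N) = (a : G ⧸ N) := by
        rw [QuotientGroup.mk_mul, (QuotientGroup.eq_one_iff n).mpr hn, mul_one]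
      have h2 : ((a ^ Nat.card K₁ : G) : G ⧸ N) = 1 := by
        rw [QuotientGroup.mk_pow, ← h1, ← QuotientGroup.mk_pow, hxm]; rfl
      have h3 : a ^ Nat.card K₁ ∈ N := (QuotientGroup.eq_one_iff _).mp h2
      have h4 : a ^ Nat.card K₁ ∈ A ⊓ N := ⟨A.pow_mem ha _, h3⟩
      rw [hAN, Subgroup.mem_bot] at h4; exact h4
    have haK : a ∈ K := by
      have hord : orderOf a ∣ Nat.card K₁ := orderOf_dvd_of_pow_eq_one ham
      have hcop : (p ^ (Nat.card A).factorization p).Coprime (orderOf a) := by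
        apply Nat.Coprime.pow_left
        exact (Nat.Coprime.coprime_dvd_left hord hK₁cop).symm
      obtain ⟨t, ht⟩ := exists_pow_eq_self_of_coprime hcop
      rw [← ht]
      exact K.pow_mem (hKpow a ha) t
    exact Subgroup.mul_mem _ ((le_sup_right : K ≤ N ⊔ K) haK) ((le_sup_left : N ≤ N ⊔ K) hn)
  have hKnN : K ≤ Subgroup.normalizer (N : Set G) := by
    rw [Lead_Coprime.normalizer_coe_eq, Subgroup.normalizer_eq_top]; exact le_top
  obtain ⟨e, he⟩ := (IsPGroup.iff_card).mp hN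
  have hcop : (Nat.card K).Coprime (Nat.card N) := by
    rw [he]; exact Nat.Coprime.pow_right _ hKcop
  haveI : Group.IsNilpotent N := hN.isNilpotent
  have hsolv : Group.IsSolvable N := inferInstance
  obtain ⟨d, hdN, hdK⟩ :=
    Lead_Coprime.exists_conj_of_le_sup N K K₁ hKnN hcop (Or.inr hsolv) hK₁L hKK₁
  have hcent := cent_trivial N hN A₁ K₁ Q₁ hQ₁A hQ₁p hK₁norm hK₁dec hC₁
  refine ⟨d, hdN, ?_⟩
  have hle : MulAut.conj d • A ≤ A₁ := by
    intro x hx
    rw [Lead_SZ.mem_conj_smul] at hx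
    have hxK : ∀ k ∈ K₁, x * k * x⁻¹ ∈ K₁ := by
      intro k hk
      rw [← hdK, Lead_SZ.mem_conj_smul] at hk ⊢
      have := hKnorm _ hx _ hk
      have e : d⁻¹ * (x * k * x⁻¹) * d = d⁻¹ * x * d * (d⁻¹ * k * d) * (d⁻¹ * x * d)⁻¹ := by group
      rw [e]; exact this
    obtain ⟨a₁, ha₁, n, hn, rfl⟩ := Lead_SZ.exists_mul_of_complement hA₁ x
    have hnK : ∀ k ∈ K₁, n * k * n⁻¹ ∈ K₁ := by
      intro k hk
      have h1 := hxK k hk
      have h2 := hK₁norm a₁⁻¹ (A₁.inv_mem ha₁) _ h1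
      have e : a₁⁻¹ * (a₁ * n * k * (a₁ * n)⁻¹) * a₁⁻¹⁻¹ = n * k * n⁻¹ := by group
      rwa [e] at h2
    have hn1 : n = 1 := by
      have : n ∈ N ⊓ Subgroup.centralizer (K₁ : Set G) := by
        refine Subgroup.mem_inf.mpr ⟨hn, ?_⟩
        rw [Subgroup.mem_centralizer_iff]
        intro k hk
        have h1 : n * k * n⁻¹ * k⁻¹ ∈ A₁ ⊓ N := by
          refine Subgroup.mem_inf.mpr
            ⟨A₁.mul_mem (hK₁A (hnK k hk)) (A₁.inv_mem (hK₁A hk)), ?_⟩
          have : n * k * n⁻¹ * k⁻¹ = n * (k * n⁻¹ * k⁻¹) := by group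
          rw [this]
          exact N.mul_mem hn (‹N.Normal›.conj_mem _ (N.inv_mem hn) k)
        rw [hA₁N, Subgroup.mem_bot] at h1
        have : n * k = k * n := by
          calc n * k = (n * k * n⁻¹ * k⁻¹) * (k * n) := by group
            _ = k * n := by rw [h1, one_mul]
        exact this.symm
      rw [hcent, Subgroup.mem_bot] at this
      exact this
    rw [hn1, mul_one]; exact ha₁
  have hcard : Nat.card (MulAut.conj d • A : Subgroup G) = Nat.card A₁ := by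
    rw [Lead_SZ.card_conj_smul, hAA₁]
  have heq := Lead_SZ.eq_of_le_of_card_eq hle hcard
  ext x
  rw [← heq, Lead_SZ.mem_conj_smul, Subgroup.mem_map]
  constructor
  · intro h
    refine ⟨_, h, ?_⟩
    simp only [MulEquiv.coe_toMonoidHom, MulAut.conj_apply]
    group
  · rintro ⟨a, ha, rfl⟩
    simp only [MulEquiv.coe_toMonoidHom, MulAut.conj_apply]
    have : d⁻¹ * (d * a * d⁻¹) * d = a := by group
    rw [this]; exact ha

end Cfsg.Agent.S4043
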