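import Cfsg.Statements.S4049
import Mathlib
import Cfsg.Agent.S3861
import Cfsg.Agent.S3863

set_option autoImplicit false
open Cfsg

namespace Cfsg.Agent.S4049

/-- Let G be a finite group such that N_G(H)/C_G(H) has odd order for every nontrivial subgroup H of odd order. Then the Sylow 2-subgroups of G are normal. -/
theorem result {G : Type*} [Group G] [Finite G]
    (hhom : ∀ H : Subgroup G, H ≠ ⊥ → ¬ 2 ∣ Nat.card ↥H →
        ¬ 2 ∣ (Subgroup.centralizer (H : Set G)).relIndex (Subgroup.normalizer (H : Set G))) (P : Sylow 2 G) :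
    (P : Subgroup G).Normal := by
  rw [← Cfsg.Agent.S3861.result P]
  intro x hx1 hxodd hxconj
  obtain ⟨c, hc⟩ := isConj_iff.mp hxconj
  obtain ⟨a, m, hm, hom⟩ := Nat.exists_eq_two_pow_mul_odd (orderOf_pos c).ne'
  have hc' := Cfsg.Agent.S4060.pow_inverts c x hc m hm
  have hc2 : (c ^ m) ^ (2 ^ a) = 1 := by
    rw [← pow_mul, mul_comm, ← hom, pow_orderOf_eq_one]
  set t := c ^ m with ht
  set H := Subgroup.zpowers x with hH
  set N := Subgroup.normalizer (H : Set G) with hN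
  set C := Subgroup.centralizer (H : Set G) with hC
  have hH1 : H ≠ ⊥ := by
    intro h
    have := Subgroup.mem_zpowers x
    rw [← hH, h, Subgroup.mem_bot] at this
    exact hx1 this
  have hHodd : ¬ 2 ∣ Nat.card ↥H := by
    rw [hH, Nat.card_zpowers]
    intro h
    exact (Nat.not_even_iff_odd.mpr hxodd) (even_iff_two_dvd.mpr h)
  have hodd := hhom H hH1 hHodd
  have htN : t ∈ N := by
    apply Cfsg.Agent.S4028.mem_normalizer_zpowers
    rw [hc']
    exact Subgroup.inv_mem _ (Subgroup.mem_zpowers x)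
  have hNC : N ≤ Subgroup.normalizer (C : Set G) := by
    intro n hn
    apply Subgroup.mem_normalizer_fintype
    intro z hz
    show n * z * n⁻¹ ∈ C
    rw [hC, Subgroup.mem_centralizer_iff]
    intro h hh
    have hn' : n⁻¹ ∈ N := Subgroup.inv_mem _ hn
    have h1 : n⁻¹ * h * n⁻¹⁻¹ ∈ H := (Subgroup.mem_normalizer_iff.mp hn' h).mp hh
    have h2 := (Subgroup.mem_centralizer_iff.mp hz) _ h1
    have h3 : h * (n * z * n⁻¹) = n * ((n⁻¹ * h * n⁻¹⁻¹) * z) * n⁻¹ := by group
    have h4 : n * z * n⁻¹ * h = n * (z * (n⁻¹ * h * n⁻¹⁻¹)) * n⁻¹ := by group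
    rw [h3, h4, h2]
  have hnorm : (C.subgroupOf N).Normal := Subgroup.normal_subgroupOf_of_le_normalizer hNC
  have hQodd : Odd (Nat.card (↥N ⧸ C.subgroupOf N)) := by
    rw [← Subgroup.index_eq_card]
    rw [← Nat.not_even_iff_odd, even_iff_two_dvd]
    exact hodd
  have hy : ((⟨t, htN⟩ : ↥N) : ↥N ⧸ C.subgroupOf N) ^ (2 ^ a) = 1 := by
    rw [← QuotientGroup.mk_pow]
    have : (⟨t, htN⟩ : ↥N) ^ (2 ^ a) = 1 := by
      apply Subtype.ext
      show t ^ (2 ^ a) = 1
      exact hc2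
    rw [this]
    rfl
  have hy1 := Cfsg.Agent.S3863.eq_one_of_odd_card hQodd hy
  rw [QuotientGroup.eq_one_iff, Subgroup.mem_subgroupOf] at hy1
  have htC : t ∈ C := hy1
  have h1 : x * t = t * x := (Subgroup.mem_centralizer_iff.mp htC) x (Subgroup.mem_zpowers x)
  have h2 : x = x⁻¹ := by
    rw [← hc', ← h1]; group
  have h3 : x ^ 2 = 1 := by
    rw [pow_two]
    nth_rewrite 1 [h2]
    exact inv_mul_cancel x
  have h4 : orderOf x ∣ 2 := orderOf_dvd_of_pow_eq_one h3
  have h5 : Nat.Coprime (orderOf x) 2 := Nat.coprime_two_right.mpr hxodd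
  have h6 : orderOf x = 1 := Nat.Coprime.eq_one_of_dvd h5 h4
  exact hx1 (orderOf_eq_one_iff.mp h6)

end Cfsg.Agent.S4049
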