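import Cfsg.Statements.S4050
import Mathlib
import Cfsg.Agent.Lib.Helper6_PiElements2

set_option autoImplicit false
open Cfsg

namespace Cfsg.Agent.S4050

open Cfsg.Agent.Lib.Helper6_PiElements Cfsg.Agent.Lib.Helper6_PiElements2
open Cfsg.Agent.Lib.Lead_SZ Cfsg.Agent.Lib.Lead_Hall

theorem forward {G : Type*} [Group G] [Finite G] (π : Set ℕ) (M : Subgroup G)
    (hM : ∀ x : G, x ∈ M ↔ PiNum π (orderOf x)) :
    ((∃ (n : ℕ) (H : Fin (n + 1) → Subgroup G), H 0 = ⊥ ∧ H (Fin.last n) = ⊤ ∧ Monotone H ∧ (∀ i, (H i).Normal) ∧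
      ∀ i : Fin n, (∀ q : ℕ, q.Prime → q ∣ (H i.castSucc).relIndex (H i.succ) → q ∈ π) ∨
        (∀ q : ℕ, q.Prime → q ∣ (H i.castSucc).relIndex (H i.succ) → q ∉ π)) ∧
     (∀ H : Subgroup G, H ≠ ⊥ → (∀ p : ℕ, p.Prime → p ∣ Nat.card ↥H → p ∉ π) →
        ∀ p : ℕ, p.Prime → p ∣ (Subgroup.centralizer (H : Set G)).relIndex (Subgroup.normalizer (H : Set G)) → p ∉ π)) := by
  obtain ⟨hMn, hMπ, hMidx⟩ := pi_subgroup_props M hM
  haveI := hMn
  constructor
  · refine ⟨2, ![⊥, M, ⊤], rfl, rfl, ?_, ?_, ?_⟩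
    · intro a b hab
      fin_cases a <;> fin_cases b <;> simp_all
    · intro i
      fin_cases i
      · exact (inferInstance : (⊥ : Subgroup G).Normal)
      · exact hMn
      · exact (inferInstance : (⊤ : Subgroup G).Normal)
    · intro i
      fin_cases i
      · left
        show ∀ q : ℕ, q.Prime → q ∣ (⊥ : Subgroup G).relIndex M → q ∈ π
        rw [Subgroup.relIndex_bot_left]
        exact hMπ
      · right
        show ∀ q : ℕ, q.Prime → q ∣ M.relIndex ⊤ → q ∉ π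
        rw [Subgroup.relIndex_top_right]
        exact hMidx
  · intro H hH hHπ p hp hd
    apply hMidx p hp
    set N := Subgroup.normalizer (H : Set G) with hN
    set C := Subgroup.centralizer (H : Set G) with hC
    have hMN : M ⊓ N ≤ C := by
      intro x hx
      obtain ⟨hxM, hxN⟩ := Subgroup.mem_inf.mp hx
      rw [hC, Subgroup.mem_centralizer_iff]
      intro h hh
      have hhH : h ∈ H := hh
      -- the commutator x h x⁻¹ h⁻¹ lies in H ⊓ M
      have h1 : x * h * x⁻¹ * h⁻¹ ∈ H := by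
        have := (Subgroup.mem_normalizer_iff.mp hxN h).mp hhH
        exact H.mul_mem this (H.inv_mem hhH)
      have h2 : x * h * x⁻¹ * h⁻¹ ∈ M := by
        have : h * x⁻¹ * h⁻¹ ∈ M := hMn.conj_mem _ (M.inv_mem hxM) h
        have e : x * h * x⁻¹ * h⁻¹ = x * (h * x⁻¹ * h⁻¹) := by group
        rw [e]; exact M.mul_mem hxM this
      have h3 : x * h * x⁻¹ * h⁻¹ = 1 := by
        rw [← orderOf_eq_one_iff]
        have o1 : PiNum π (orderOf (x * h * x⁻¹ * h⁻¹)) := (hM _).mp h2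
        have o2 : PiPrimeNum π (orderOf (x * h * x⁻¹ * h⁻¹)) := by
          have := orderOf_dvd_natCard (⟨_, h1⟩ : H)
          rw [Subgroup.orderOf_mk] at this
          exact PiPrimeNum.of_dvd hHπ this
        exact (Nat.coprime_self _).mp (coprime_of_pi o1 o2)
      have : x * h = (x * h * x⁻¹ * h⁻¹) * (h * x) := by group
      rw [this, h3, one_mul]
    have h1 : C.relIndex N ∣ (M ⊓ N).relIndex N := Subgroup.relIndex_dvd_of_le_left N hMN
    rw [Subgroup.inf_relIndex_right] at h1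
    exact (hd.trans h1).trans (Subgroup.relIndex_dvd_index_of_normal M N)

theorem result {G : Type*} [Group G] [Finite G] (π : Set ℕ)
    (hπ : ∀ p ∈ π, p.Prime) :
    (∃ K : Subgroup G, ∀ x : G, x ∈ K ↔ ∀ p : ℕ, p.Prime → p ∣ orderOf x → p ∈ π) ↔
    ((∃ (n : ℕ) (H : Fin (n + 1) → Subgroup G), H 0 = ⊥ ∧ H (Fin.last n) = ⊤ ∧ Monotone H ∧ (∀ i, (H i).Normal) ∧
      ∀ i : Fin n, (∀ q : ℕ, q.Prime → q ∣ (H i.castSucc).relIndex (H i.succ) → q ∈ π) ∨
        (∀ q : ℕ, q.Prime → q ∣ (H i.castSucc).relIndex (H i.succ) → q ∉ π)) ∧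
     (∀ H : Subgroup G, H ≠ ⊥ → (∀ p : ℕ, p.Prime → p ∣ Nat.card ↥H → p ∉ π) →
        ∀ p : ℕ, p.Prime → p ∣ (Subgroup.centralizer (H : Set G)).relIndex (Subgroup.normalizer (H : Set G)) → p ∉ π)) := by
  constructor
  · rintro ⟨M, hM⟩
    exact forward π M hM
  · rintro ⟨⟨n, H, h0, hlast, hmono, hnorm, hfac⟩, hhom⟩
    have hC : CondC π G := condC_of_hhom π hhom
    have key : ∀ j : ℕ, ∀ hj : j < n + 1, ∃ T : Subgroup G, T ≤ H ⟨j, hj⟩ ∧
        ∀ x ∈ H ⟨j, hj⟩, (x ∈ T ↔ PiNum π (orderOf x)) := by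
      intro j
      induction j with
      | zero =>
        intro hj
        refine ⟨⊥, bot_le, ?_⟩
        intro x hx
        have h0' : H ⟨0, hj⟩ = ⊥ := h0
        rw [h0', Subgroup.mem_bot] at hx
        rw [hx, orderOf_one]
        constructor
        · intro _ p hp hd
          exact absurd (Nat.dvd_one.mp hd) hp.ne_one
        · intro _; exact Subgroup.one_mem _
      | succ j ih =>
        intro hj
        have hj' : j < n := by omega
        have hjn : j < n + 1 := by omega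
        obtain ⟨T, hTK, hT⟩ := ih hjn
        haveI : (H ⟨j, hjn⟩).Normal := hnorm _
        have hKL : H ⟨j, hjn⟩ ≤ H ⟨j + 1, hj⟩ := hmono (by simp [Fin.le_def])
        have hf := hfac ⟨j, hj'⟩
        have e1 : (⟨j, hj'⟩ : Fin n).castSucc = ⟨j, hjn⟩ := rfl
        have e2 : (⟨j, hj'⟩ : Fin n).succ = ⟨j + 1, hj⟩ := rfl
        rw [e1, e2] at hf
        exact step hC (H ⟨j, hjn⟩) (H ⟨j + 1, hj⟩) hKL T hTK hT hf
    obtain ⟨T, -, hT⟩ := key n (by omega)
    have hl : H ⟨n, by omega⟩ = ⊤ := hlast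
    rw [hl] at hT
    refine ⟨T, fun x => hT x (Subgroup.mem_top x)⟩

end Cfsg.Agent.S4050
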