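import Cfsg.Statements.S4051
import Mathlib
import Cfsg.Agent.Lib.Helper6_PiElements

set_option autoImplicit false
open Cfsg

namespace Cfsg.Agent.S4051

open Cfsg.Agent.Lib.Helper6_PiElements Cfsg.Agent.Lib.Lead_SZ Cfsg.Agent.Lib.Lead_Hall

theorem result {G : Type*} [Group G] [Finite G] (π : Set ℕ)
    (hπ : ∀ p ∈ π, p.Prime) (hhom : (∀ H : Subgroup G, H ≠ ⊥ → (∀ p : ℕ, p.Prime → p ∣ Nat.card ↥H → p ∉ π) →
        ∀ p : ℕ, p.Prime → p ∣ (Subgroup.centralizer (H : Set G)).relIndex (Subgroup.normalizer (H : Set G)) → p ∉ π))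
    (K : Subgroup G) [K.Normal]
    (hK : ∃ L : Subgroup ↥K, ∀ x : ↥K, x ∈ L ↔ ∀ p : ℕ, p.Prime → p ∣ orderOf x → p ∈ π)
    (hQ : ∃ L : Subgroup (G ⧸ K), ∀ x : G ⧸ K, x ∈ L ↔ ∀ p : ℕ, p.Prime → p ∣ orderOf x → p ∈ π) :
    (∃ K : Subgroup G, ∀ x : G, x ∈ K ↔ ∀ p : ℕ, p.Prime → p ∣ orderOf x → p ∈ π) := by
  classical
  have hC : CondC π G := condC_of_hhom π hhom
  obtain ⟨T', hT'⟩ := hK
  obtain ⟨Lb, hLb⟩ := hQ
  obtain ⟨hT'n, hT'π, hT'idx⟩ := pi_subgroup_props (π := π) T' hT'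
  obtain ⟨hLbn, hLbπ, -⟩ := pi_subgroup_props (π := π) Lb hLb
  set T := T'.map K.subtype with hT
  have hTK : T ≤ K := Subgroup.map_subtype_le _
  have hTmem : ∀ x : G, x ∈ T ↔ x ∈ K ∧ PiNum π (orderOf x) := by
    intro x
    constructor
    · rintro ⟨y, hy, rfl⟩
      refine ⟨y.2, ?_⟩
      have := (hT' y).mp hy
      rwa [← Subgroup.orderOf_coe] at this
    · rintro ⟨hxK, hx⟩
      refine ⟨⟨x, hxK⟩, ?_, rfl⟩
      have : (⟨x, hxK⟩ : K) ∈ T' := by
        rw [hT', ← Subgroup.orderOf_coe]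
        exact hx
      exact this
  haveI hTn : T.Normal := by
    constructor
    intro n hn g
    rw [hTmem] at hn ⊢
    refine ⟨(inferInstance : K.Normal).conj_mem n hn.1 g, ?_⟩
    have : orderOf (g * n * g⁻¹) = orderOf n := by
      have := MulEquiv.orderOf_eq (MulAut.conj g) n
      rwa [MulAut.conj_apply] at this
    rw [this]; exact hn.2
  have hTcard : Nat.card T = Nat.card T' := Subgroup.card_map_of_injective K.subtype_injective
  have hTπ : PiNum π (Nat.card T) := by rw [hTcard]; exact hT'π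
  have hTrel : T.relIndex K = T'.index := by
    have : T.subgroupOf K = T' := Subgroup.comap_map_eq_self_of_injective K.subtype_injective T'
    show (T.subgroupOf K).index = T'.index
    rw [this]
  have hKT : PiPrimeNum π (T.relIndex K) := by rw [hTrel]; exact hT'idx
  set L := Lb.comap (QuotientGroup.mk' K) with hL
  have hKL : K ≤ L := le_comap_mk K Lb
  have hLcard : Nat.card L = Nat.card Lb * Nat.card K := card_comap_mk K Lb
  have hLrel : K.relIndex L = Nat.card Lb := by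
    have h1 := Subgroup.card_mul_index (K.subgroupOf L)
    rw [card_subgroupOf_of_le hKL, hLcard, mul_comm] at h1
    exact Nat.eq_of_mul_eq_mul_right Nat.card_pos h1
  have hLK : PiNum π (K.relIndex L) := by rw [hLrel]; exact hLbπ
  obtain ⟨C, hCL, -, -, hCmem⟩ := exists_pi_subgroup hC T K L hTK hKL hTπ hKT hLK
  refine ⟨C, ?_⟩
  intro x
  constructor
  · intro hx
    exact (hCmem x (hCL hx)).mp hx
  · intro hx
    have hxL : x ∈ L := by
      show QuotientGroup.mk' K x ∈ Lb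
      rw [hLb]
      intro p hp hd
      exact hx p hp (hd.trans (orderOf_map_dvd _ x))
    exact (hCmem x hxL).mpr hx

end Cfsg.Agent.S4051
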