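import Cfsg.Statements.S4056
import Mathlib
import Cfsg.Agent.Lib.Helper4_Frattini

set_option autoImplicit false
open Cfsg

namespace Cfsg.Agent.S4056

open scoped commutatorElement

/-- the class two computation: if `c = b a b⁻¹ a⁻¹` commutes with `a` and `b`, and
`a, b, ab` have order dividing `4`, then `c² = 1` and `b` commutes with `a²`. -/
theorem class2_calc {P : Type*} [Group P] (a b c : P) (hca : Commute c a) (hcb : Commute c b)
    (hba : b * a * b⁻¹ = c * a) (ha : a ^ 4 = 1) (hb : b ^ 4 = 1) (hab : (a * b) ^ 4 = 1) :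
    c ^ 2 = 1 ∧ b * a ^ 2 = a ^ 2 * b := by
  -- b a² b⁻¹ = c² a²
  have h1 : b * a ^ 2 * b⁻¹ = c ^ 2 * a ^ 2 := by
    rw [← conj_pow, hba, hca.mul_pow]
  -- b² a² b⁻² = c⁴ a²
  have hcb2 : Commute (c ^ 2) b := hcb.pow_left 2
  have h2 : b ^ 2 * a ^ 2 * (b ^ 2)⁻¹ = c ^ 4 * a ^ 2 := by
    have e : b ^ 2 * a ^ 2 * (b ^ 2)⁻¹ = b * (b * a ^ 2 * b⁻¹) * b⁻¹ := by
      simp [pow_two, mul_assoc]
    rw [e, h1]
    have e2 : b * (c ^ 2 * a ^ 2) * b⁻¹ = (b * c ^ 2) * a ^ 2 * b⁻¹ := by group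
    rw [e2, ← hcb2.eq]
    have e3 : c ^ 2 * b * a ^ 2 * b⁻¹ = c ^ 2 * (b * a ^ 2 * b⁻¹) := by group
    rw [e3, h1, ← mul_assoc, ← pow_add]
  -- b⁴ a b⁻⁴ = c⁴ a
  have h3 : ∀ n : ℕ, b ^ n * a * (b ^ n)⁻¹ = c ^ n * a := by
    intro n
    induction n with
    | zero => simp
    | succ n ih =>
      have e : b ^ (n + 1) * a * (b ^ (n + 1))⁻¹ = b * (b ^ n * a * (b ^ n)⁻¹) * b⁻¹ := by
        rw [pow_succ']; group
      rw [e, ih]
      have e2 : b * (c ^ n * a) * b⁻¹ = (b * c ^ n) * a * b⁻¹ := by group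
      rw [e2, ← (hcb.pow_left n).eq]
      have e3 : c ^ n * b * a * b⁻¹ = c ^ n * (b * a * b⁻¹) := by group
      rw [e3, hba, ← mul_assoc, ← pow_succ]
  have hc4 : c ^ 4 = 1 := by
    have := h3 4
    rw [hb] at this
    simp only [one_mul, inv_one, mul_one] at this
    have h : c ^ 4 * a = 1 * a := by rw [one_mul]; exact this.symm
    exact mul_right_cancel h
  -- (ab)² = c a² b²
  have h4 : (a * b) ^ 2 = c * (a ^ 2 * b ^ 2) := by
    have e : (a * b) ^ 2 = a * (b * a * b⁻¹) * b ^ 2 := by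
      simp [pow_two, mul_assoc]
    rw [e, hba]
    have e2 : a * (c * a) * b ^ 2 = (a * c) * a * b ^ 2 := by group
    rw [e2, ← hca.eq]
    simp [pow_two, mul_assoc]
  -- (a² b²)² = c⁴ a⁴ b⁴
  have h5 : (a ^ 2 * b ^ 2) ^ 2 = c ^ 4 * (a ^ 4 * b ^ 4) := by
    have e : (a ^ 2 * b ^ 2) ^ 2 = a ^ 2 * (b ^ 2 * a ^ 2 * (b ^ 2)⁻¹) * b ^ 4 := by
      have : b ^ 4 = b ^ 2 * b ^ 2 := by rw [← pow_add]
      rw [this, pow_two (a ^ 2 * b ^ 2)]
      simp [mul_assoc]
    rw [e, h2]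
    have hca2 : Commute (c ^ 4) (a ^ 2) := (hca.pow_left 4).pow_right 2
    have e2 : a ^ 2 * (c ^ 4 * a ^ 2) * b ^ 4 = (a ^ 2 * c ^ 4) * a ^ 2 * b ^ 4 := by
      simp [mul_assoc]
    rw [e2, ← hca2.eq]
    have : a ^ 4 = a ^ 2 * a ^ 2 := by rw [← pow_add]
    rw [this]
    simp [mul_assoc]
  have hc6 : c ^ 2 = 1 := by
    have hcomm : Commute c (a ^ 2 * b ^ 2) := (hca.pow_right 2).mul_right (hcb.pow_right 2)
    have e : (a * b) ^ 4 = ((a * b) ^ 2) ^ 2 := by rw [← pow_mul]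
    rw [e, h4, hcomm.mul_pow, h5, ha, hb, hc4] at hab
    simpa using hab
  refine ⟨hc6, ?_⟩
  rw [hc6, one_mul] at h1
  have : b * a ^ 2 = (b * a ^ 2 * b⁻¹) * b := by group
  rw [this, h1]

/-- In a finite 2-group of nilpotency class at most 2 and exponent dividing 4, the Frattini subgroup lies in the centre and is elementary abelian. -/
theorem result {P : Type*} [Group P] [Finite P] (hP : IsPGroup 2 P)
    (hcl : Group.nilpotencyClass P ≤ 2) (hexp : Monoid.exponent P ∣ 4) :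
    frattini P ≤ Subgroup.center P ∧ Cfsg.IsElementaryAbelian 2 (frattini P) := by
  have hnil : Group.IsNilpotent P := hP.isNilpotent
  have hlcs : Subgroup.lowerCentralSeries (⊤ : Subgroup P) 2 = ⊥ :=
    Subgroup.lowerCentralSeries_eq_bot_iff_nilpotencyClass_le.mpr hcl
  have hcent : ∀ a b x : P, Commute ⁅a, b⁆ x := by
    intro a b x
    have h1 : ⁅a, b⁆ ∈ Subgroup.lowerCentralSeries (⊤ : Subgroup P) 1 := by
      rw [Subgroup.lowerCentralSeries_succ, Subgroup.lowerCentralSeries_zero]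
      exact Subgroup.commutator_mem_commutator (Subgroup.mem_top _) (Subgroup.mem_top _)
    have h2 : ⁅⁅a, b⁆, x⁆ ∈ Subgroup.lowerCentralSeries (⊤ : Subgroup P) 2 := by
      rw [Subgroup.lowerCentralSeries_succ]
      exact Subgroup.commutator_mem_commutator h1 (Subgroup.mem_top _)
    rw [hlcs, Subgroup.mem_bot] at h2
    exact commutatorElement_eq_one_iff_commute.mp h2
  have hpow4 : ∀ a : P, a ^ 4 = 1 := by
    intro a
    obtain ⟨k, hk⟩ := hexp
    rw [hk, pow_mul, Monoid.pow_exponent_eq_one, one_pow]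
  have hkey : ∀ a b : P, ⁅b, a⁆ ^ 2 = 1 ∧ b * a ^ 2 = a ^ 2 * b := by
    intro a b
    apply class2_calc a b ⁅b, a⁆ (hcent b a a) (hcent b a b) ?_ (hpow4 a) (hpow4 b) (hpow4 _)
    rw [commutatorElement_def]; group
  -- the central subgroup generated by squares and commutators
  set C : Subgroup P := Subgroup.closure ({x | ∃ a : P, x = a ^ 2} ∪ {x | ∃ a b : P, x = ⁅a, b⁆})
    with hC
  have hCle : C ≤ Subgroup.center P := by
    rw [hC, Subgroup.closure_le]
    rintro x (⟨a, rfl⟩ | ⟨a, b, rfl⟩)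
    · rw [SetLike.mem_coe, Subgroup.mem_center_iff]
      intro g
      exact (hkey a g).2
    · rw [SetLike.mem_coe, Subgroup.mem_center_iff]
      intro g
      exact ((hcent a b g).eq).symm
  have hCn : C.Normal := by
    refine ⟨fun n hn g => ?_⟩
    have := Subgroup.mem_center_iff.mp (hCle hn) g
    have e : g * n * g⁻¹ = n := by rw [this]; group
    rw [e]; exact hn
  have : Fact (Nat.Prime 2) := ⟨Nat.prime_two⟩
  have hfr : frattini P ≤ C := by
    apply Cfsg.Agent.Lib.Helper4_Frattini.frattini_le_of_elementary_quotient (p := 2) C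
    · intro a b
      exact Subgroup.subset_closure (Or.inr ⟨a, b, rfl⟩)
    · intro a
      exact Subgroup.subset_closure (Or.inl ⟨a, rfl⟩)
  have hCsq : ∀ x ∈ C, x ^ 2 = 1 := by
    intro x hx
    induction hx using Subgroup.closure_induction with
    | mem y hy =>
      rcases hy with ⟨a, rfl⟩ | ⟨a, b, rfl⟩
      · rw [← pow_mul]; exact hpow4 a
      · exact (hkey b a).1
    | one => simp
    | mul y z hy hz ihy ihz =>
      have hcomm : Commute y z := (Subgroup.mem_center_iff.mp (hCle hy) z).symm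
      rw [hcomm.mul_pow, ihy, ihz, one_mul]
    | inv y _ ih => rw [inv_pow, ih, inv_one]
  refine ⟨hfr.trans hCle, ⟨⟨fun a b => ?_⟩⟩, fun a ha => hCsq a (hfr ha)⟩
  apply Subtype.ext
  show (a : P) * (b : P) = (b : P) * (a : P)
  exact Subgroup.mem_center_iff.mp (hCle (hfr b.2)) (a : P)

end Cfsg.Agent.S4056
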