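import Cfsg.Statements.S4059
import Mathlib
import Cfsg.Agent.S3863
import Cfsg.Agent.Lib.Helper6_Derangement

set_option autoImplicit false
open Cfsg

namespace Cfsg.Agent.S4059

open scoped commutatorElement

/-- Let G be a finite group in which every element is conjugate to its inverse. Then: every non-identity element commuting with all elements of some Sylow 2-subgroup is an involution; the centre of G is an elementary abelian 2-group; the commutator quotient G/G' is an elementary abelian 2-group; and G is generated by its 2-elements. -/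
theorem result {G : Type*} [Group G] [Finite G] (hamb : ∀ x : G, IsConj x x⁻¹) :
    (∀ (S : Sylow 2 G) (x : G), x ∈ Subgroup.centralizer ((S : Subgroup G) : Set G) → x ≠ 1 → orderOf x = 2) ∧
    (∀ z : G, z ∈ Subgroup.center G → z ^ 2 = 1) ∧
    (∀ x : G, x ^ 2 ∈ commutator G) ∧
    Subgroup.closure {x : G | ∃ k : ℕ, orderOf x = 2 ^ k} = ⊤ := by
  refine ⟨?_, ?_, ?_, ?_⟩
  · intro S x hx hx1
    have hle : (S : Subgroup G) ≤ Subgroup.centralizer ({x} : Set G) := by
      intro s hs
      rw [Subgroup.mem_centralizer_iff]
      intro y hy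
      rw [Set.mem_singleton_iff] at hy
      rw [hy]
      rw [Subgroup.mem_centralizer_iff] at hx
      exact (hx s hs).symm
    have hdvd := Subgroup.index_dvd_of_le hle
    have hodd : Odd (Subgroup.centralizer ({x} : Set G)).index := by
      rw [← Nat.not_even_iff_odd, even_iff_two_dvd]
      intro h2
      exact S.not_dvd_index (h2.trans hdvd)
    have hsq := S3863.part2 x (hamb x) hodd
    exact orderOf_eq_prime hsq hx1
  · intro z hz
    obtain ⟨c, hc⟩ := isConj_iff.mp (hamb z)
    rw [Subgroup.mem_center_iff] at hz
    have : c * z * c⁻¹ = z := by rw [hz c]; group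
    rw [this] at hc
    rw [sq]
    nth_rewrite 2 [hc]
    exact mul_inv_cancel z
  · intro x
    obtain ⟨c, hc⟩ := isConj_iff.mp (hamb x)
    have : x ^ 2 = ⁅x, c⁆ := by
      rw [commutatorElement_def, sq]
      have : x * c * x⁻¹ * c⁻¹ = x * (c * x * c⁻¹)⁻¹ := by group
      rw [this, hc, inv_inv]
    rw [this]
    exact Subgroup.commutator_mem_commutator (Subgroup.mem_top _) (Subgroup.mem_top _)
  · set N := Subgroup.closure {x : G | ∃ k : ℕ, orderOf x = 2 ^ k} with hN
    have hNn : N.Normal := by
      apply Cfsg.Agent.Lib.Helper6_Derangement.closure_normal_of_conj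
      rintro x ⟨k, hk⟩ g
      refine ⟨k, ?_⟩
      have := (MulAut.conj g).orderOf_eq x
      rw [MulAut.conj_apply] at this
      rw [this]; exact hk
    have hodd : Odd N.index := by
      obtain ⟨S⟩ : Nonempty (Sylow 2 G) := inferInstance
      have hle : (S : Subgroup G) ≤ N := by
        intro s hs
        apply Subgroup.subset_closure
        obtain ⟨k, hk⟩ := (IsPGroup.iff_orderOf.mp S.isPGroup') ⟨s, hs⟩
        refine ⟨k, ?_⟩
        rw [← hk, Subgroup.orderOf_mk]
      have hdvd := Subgroup.index_dvd_of_le hle
      rw [← Nat.not_even_iff_odd, even_iff_two_dvd]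
      intro h2
      exact S.not_dvd_index (h2.trans hdvd)
    rw [eq_top_iff]
    intro x _
    obtain ⟨hxN, -⟩ := (S3863.result x (hamb x)).2.2 N hodd
    exact hxN

end Cfsg.Agent.S4059
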