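import Cfsg.Statements.S4066
import Mathlib

set_option autoImplicit false
open Cfsg

namespace Cfsg.Agent.S4066

variable {G : Type*} [Group G]

theorem memC {x y : G} : y ∈ Subgroup.centralizer ({x} : Set G) ↔ x * y = y * x := by
  rw [Subgroup.mem_centralizer_iff]
  simp

/-- conjugating by an element of the normalizer of a set `S` preserves the centralizer of `S`. -/
theorem conj_mem_centralizer {S : Set G} {x t : G} (hx : x ∈ Subgroup.normalizer S)
    (ht : t ∈ Subgroup.centralizer S) : x * t * x⁻¹ ∈ Subgroup.centralizer S := by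
  rw [Subgroup.mem_centralizer_iff] at ht ⊢
  intro y hy
  have hy' : x⁻¹ * y * x ∈ S := by
    rw [Subgroup.mem_set_normalizer_iff] at hx
    rw [hx]
    simpa [mul_assoc] using hy
  have := ht _ hy'
  calc y * (x * t * x⁻¹) = x * ((x⁻¹ * y * x) * t) * x⁻¹ := by
        simp only [mul_assoc, mul_inv_cancel_left]
    _ = x * (t * (x⁻¹ * y * x)) * x⁻¹ := by rw [this]
    _ = x * t * x⁻¹ * y := by
        simp only [mul_assoc, mul_inv_cancel, mul_one]

/-- The `p`-torsion of the (abelian) double centralizer of `b`. -/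
def torsion (p : ℕ) (b : G) : Subgroup G where
  carrier := {t | t ∈ Subgroup.centralizer (Subgroup.centralizer ({b} : Set G) : Set G) ∧
    ∃ k : ℕ, t ^ (p ^ k) = 1}
  one_mem' := ⟨Subgroup.one_mem _, 0, by simp⟩
  mul_mem' := by
    rintro s t ⟨hs, k, hk⟩ ⟨ht, l, hl⟩
    refine ⟨Subgroup.mul_mem _ hs ht, k + l, ?_⟩
    -- s and t commute: t commutes with everything in C(b), and s ∈ C(b)
    have hsC : s ∈ Subgroup.centralizer ({b} : Set G) := by
      rw [memC]
      rw [Subgroup.mem_centralizer_iff] at hs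
      exact hs b (by rw [SetLike.mem_coe, memC])
    have hcomm : Commute s t := by
      rw [Subgroup.mem_centralizer_iff] at ht
      exact ht s hsC
    rw [hcomm.mul_pow, pow_add, pow_mul, hk, one_pow, one_mul, mul_comm (p ^ k), pow_mul, hl,
      one_pow]
  inv_mem' := by
    rintro s ⟨hs, k, hk⟩
    exact ⟨Subgroup.inv_mem _ hs, k, by rw [inv_pow, hk, inv_one]⟩

theorem conj_mem_torsion {p : ℕ} {b x t : G}
    (hx : x ∈ Subgroup.normalizer (Subgroup.centralizer ({b} : Set G) : Set G))
    (ht : t ∈ torsion p b) : x * t * x⁻¹ ∈ torsion p b := by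
  obtain ⟨ht1, k, hk⟩ := ht
  refine ⟨conj_mem_centralizer hx ht1, k, ?_⟩
  rw [conj_pow, hk]; simp

theorem torsion_isPGroup (p : ℕ) (b : G) : IsPGroup p (torsion p b) := by
  rintro ⟨t, ht1, k, hk⟩
  exact ⟨k, Subtype.ext (by simpa using hk)⟩

theorem le_normalizer_torsion {p : ℕ} {b : G} {P : Subgroup G}
    (hP : ∀ x ∈ P, x ∈ Subgroup.normalizer (Subgroup.centralizer ({b} : Set G) : Set G)) :
    P ≤ Subgroup.normalizer (torsion p b : Set G) := by
  intro x hx
  rw [Subgroup.mem_normalizer_iff]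
  intro t
  constructor
  · intro ht
    exact conj_mem_torsion (hP x hx) ht
  · intro ht
    have := conj_mem_torsion (p := p) (Subgroup.inv_mem _ (hP x hx)) ht
    simpa [mul_assoc] using this

variable [Finite G]

/-- Lemma A. -/
theorem lemmaA (hTI : ∀ x : G, Cfsg.IsTISubset (Subgroup.centralizer ({x} : Set G) : Set G))
    {p : ℕ} [Fact p.Prime] (P : Sylow p G) (g : G)
    (hg : ∃ a ∈ (P : Subgroup G), a ≠ 1 ∧ g * a * g⁻¹ ∈ (P : Subgroup G))
    (b : G) (hb : b ∈ (P : Subgroup G)) :
    g ∈ Subgroup.normalizer (Subgroup.centralizer ({b} : Set G) : Set G) := by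
  have ti : ∀ x g y : G, y ∈ Subgroup.centralizer ({x} : Set G) →
      g * y * g⁻¹ ∈ Subgroup.centralizer ({x} : Set G) → y ≠ 1 →
      g ∈ Subgroup.normalizer (Subgroup.centralizer ({x} : Set G) : Set G) := by
    intro x g y hy hgy hy1
    by_contra hgn
    exact hy1 (hTI x g hgn y hy hgy)
  obtain ⟨a, ha, ha1, hga⟩ := hg
  have : Nontrivial (P : Subgroup G) := ⟨⟨⟨a, ha⟩, 1, fun h => ha1 (congrArg Subtype.val h)⟩⟩
  have hcn : Nontrivial (Subgroup.center (P : Subgroup G)) := P.isPGroup'.center_nontrivial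
  obtain ⟨z, hz⟩ := exists_ne (1 : Subgroup.center (P : Subgroup G))
  set z' : G := ((z : (P : Subgroup G)) : G) with hz'
  have hz'P : z' ∈ (P : Subgroup G) := (z : (P : Subgroup G)).2
  have hz'1 : z' ≠ 1 := by
    intro h
    apply hz
    apply Subtype.ext
    apply Subtype.ext
    exact h
  have hzc : ∀ y ∈ (P : Subgroup G), z' * y = y * z' := by
    intro y hy
    have := Subgroup.mem_center_iff.mp z.2 ⟨y, hy⟩
    exact (congrArg Subtype.val this).symm
  have hPle : ∀ y ∈ (P : Subgroup G), y ∈ Subgroup.centralizer ({z'} : Set G) := by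
    intro y hy
    rw [memC]; exact hzc y hy
  have hgz : g ∈ Subgroup.normalizer (Subgroup.centralizer ({z'} : Set G) : Set G) :=
    ti z' g a (hPle a ha) (hPle _ hga) ha1
  -- now for b
  apply ti b g z'
  · rw [memC]; exact (hzc b hb).symm
  · rw [memC]
    have hginv := Subgroup.inv_mem _ hgz
    rw [Subgroup.mem_normalizer_iff] at hginv
    have h1 := (hginv b).1 (hPle b hb)
    rw [memC, inv_inv] at h1
    -- h1 : z' * (g⁻¹ * b * g) = g⁻¹ * b * g * z'
    calc b * (g * z' * g⁻¹) = g * ((g⁻¹ * b * g) * z') * g⁻¹ := by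
          simp only [mul_assoc, mul_inv_cancel_left]
      _ = g * (z' * (g⁻¹ * b * g)) * g⁻¹ := by rw [h1]
      _ = g * z' * g⁻¹ * b := by
          simp only [mul_assoc, mul_inv_cancel, mul_one]
  · exact hz'1

/-- Let G be a finite group in which the centralizer of every element meets each of its conjugates by elements outside its normalizer trivially. Then any two distinct Sylow p-subgroups of G, for any prime p, intersect trivially. -/
theorem result {G : Type*} [Group G] [Finite G] (hTI : ∀ x : G, Cfsg.IsTISubset (Subgroup.centralizer ({x} : Set G) : Set G))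
    {p : ℕ} [Fact p.Prime] (P Q : Sylow p G) (hPQ : P ≠ Q) : (P : Subgroup G) ⊓ (Q : Subgroup G) = ⊥ := by
  by_contra hne
  rw [Subgroup.eq_bot_iff_forall] at hne
  push Not at hne
  obtain ⟨d, hd, hd1⟩ := hne
  obtain ⟨hdP, hdQ⟩ := Subgroup.mem_inf.mp hd
  obtain ⟨g, hg⟩ := MulAction.exists_smul_eq G P Q
  have hQmem : ∀ x, x ∈ (Q : Subgroup G) ↔ g⁻¹ * x * g ∈ (P : Subgroup G) := by
    intro x
    rw [← hg, Sylow.coe_subgroup_smul, Subgroup.mem_pointwise_smul_iff_inv_smul_mem]
    simp [MulAut.smul_def]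
  have haP : g⁻¹ * d * g ∈ (P : Subgroup G) := (hQmem d).1 hdQ
  have ha1 : g⁻¹ * d * g ≠ 1 := by
    intro h
    apply hd1
    have : d = g * (g⁻¹ * d * g) * g⁻¹ := by simp [mul_assoc]
    rw [this, h]; simp
  have hgN : ∀ b ∈ (P : Subgroup G),
      g ∈ Subgroup.normalizer (Subgroup.centralizer ({b} : Set G) : Set G) := by
    intro b hb
    apply lemmaA hTI P g ⟨g⁻¹ * d * g, haP, ha1, ?_⟩ b hb
    have : g * (g⁻¹ * d * g) * g⁻¹ = d := by simp [mul_assoc]
    rw [this]; exact hdP
  have hxN : ∀ x ∈ (P : Subgroup G), ∀ b ∈ (P : Subgroup G),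
      x ∈ Subgroup.normalizer (Subgroup.centralizer ({b} : Set G) : Set G) := by
    intro x hx b hb
    apply lemmaA hTI P x ⟨d, hdP, hd1, ?_⟩ b hb
    exact Subgroup.mul_mem _ (Subgroup.mul_mem _ hx hdP) (Subgroup.inv_mem _ hx)
  have hconj : ∀ b ∈ (P : Subgroup G), g * b * g⁻¹ ∈ (P : Subgroup G) := by
    intro b hb
    have hnorm : (P : Subgroup G) ≤ Subgroup.normalizer (torsion p b : Set G) :=
      le_normalizer_torsion (fun x hx => hxN x hx b hb)
    have hpg : IsPGroup p ((P : Subgroup G) ⊔ torsion p b : Subgroup G) :=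
      P.isPGroup'.to_sup_of_normal_right' (torsion_isPGroup p b) hnorm
    have hsup : (P : Subgroup G) ⊔ torsion p b = P := P.is_maximal' hpg le_sup_left
    have hTle : torsion p b ≤ (P : Subgroup G) := by
      rw [← hsup]; exact le_sup_right
    apply hTle
    apply conj_mem_torsion (hgN b hb)
    refine ⟨?_, ?_⟩
    · rw [Subgroup.mem_centralizer_iff]
      intro y hy
      rw [SetLike.mem_coe, memC] at hy
      exact hy.symm
    · obtain ⟨k, hk⟩ := P.isPGroup' ⟨b, hb⟩
      exact ⟨k, by simpa using congrArg Subtype.val hk⟩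
  have hQP : (Q : Subgroup G) ≤ (P : Subgroup G) := by
    intro x hx
    have h1 := hconj _ ((hQmem x).1 hx)
    have : g * (g⁻¹ * x * g) * g⁻¹ = x := by simp [mul_assoc]
    rwa [this] at h1
  have := Q.is_maximal' P.isPGroup' hQP
  exact hPQ (Sylow.ext this)

end Cfsg.Agent.S4066
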