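import Cfsg.Statements.S4074
import Mathlib
import Cfsg.Agent.Lib.Helper6_Dihedral

set_option autoImplicit false
open Cfsg

namespace Cfsg.Agent.S4074

open DihedralGroup Cfsg.Agent.Lib.Helper6_Dihedral

/-- For n > 2, every non-abelian subgroup of the dihedral group of order 2n is self-normalizing if and only if n = 4 or n is odd. -/
theorem result (n : ℕ) (hn : 2 < n) :
    (∀ H : Subgroup (DihedralGroup n), ¬ IsMulCommutative H → Subgroup.normalizer (H : Set (DihedralGroup n)) = H) ↔
    (n = 4 ∨ Odd n) := by
  have : NeZero n := ⟨by omega⟩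
  constructor
  · -- ⇒
    intro hall
    by_contra hcon
    push Not at hcon
    obtain ⟨hn4, hodd⟩ := hcon
    rw [Nat.not_odd_iff_even] at hodd
    obtain ⟨m, hm⟩ := hodd
    have hn6 : 6 ≤ n := by omega
    set H := dSub n 2 with hH
    have hsr0 : sr 0 ∈ H := sr_mem_dSub.mpr ⟨0, by ring⟩
    have hr2 : r 2 ∈ H := r_mem_dSub.mpr ⟨1, by ring⟩
    have hnc : ¬ IsMulCommutative H := by
      intro hc
      have h1 := hc.is_comm.comm (⟨sr 0, hsr0⟩ : H) ⟨r 2, hr2⟩
      have h2 : (sr 0 : DihedralGroup n) * r 2 = r 2 * sr 0 := congrArg Subtype.val h1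
      rw [sr_mul_r, r_mul_sr] at h2
      have h3 : (0 : ZMod n) + 2 = 0 - 2 := sr.inj h2
      have h4 : ((4 : ℕ) : ZMod n) = 0 := by
        have : (4 : ZMod n) = (0 + 2) - (0 - 2) := by ring
        push_cast
        rw [this, h3]; ring
      rw [ZMod.natCast_eq_zero_iff] at h4
      have := Nat.le_of_dvd (by norm_num) h4
      omega
    have hr1N : r 1 ∈ Subgroup.normalizer (H : Set (DihedralGroup n)) := by
      apply Subgroup.mem_normalizer_fintype
      rintro g ⟨t, rfl | rfl⟩
      · show r 1 * r (2 * t) * (r 1)⁻¹ ∈ H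
        rw [inv_r, r_mul_r, r_mul_r]
        exact r_mem_dSub.mpr ⟨t, by ring⟩
      · show r 1 * sr (2 * t) * (r 1)⁻¹ ∈ H
        rw [inv_r, r_mul_sr, sr_mul_r]
        exact sr_mem_dSub.mpr ⟨t - 1, by ring⟩
    have hr1H : r 1 ∉ H := by
      intro h
      obtain ⟨t, ht⟩ := r_mem_dSub.mp h
      have h1 : ((1 : ℕ) : ZMod n) = ((2 * t.val : ℕ) : ZMod n) := by
        push_cast
        rw [ZMod.natCast_zmod_val]
        exact ht
      rw [ZMod.natCast_eq_natCast_iff] at h1
      have h2 : 1 ≡ 2 * t.val [MOD 2] := h1.of_dvd ⟨m, by omega⟩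
      have h3 : 2 * t.val ≡ 0 [MOD 2] := (Nat.modEq_zero_iff_dvd).mpr ⟨t.val, rfl⟩
      have h4 := h2.trans h3
      exact absurd h4 (by decide)
    have := hall H hnc
    rw [this] at hr1N
    exact hr1H hr1N
  · -- ⇐
    intro hcase H hnc
    apply le_antisymm _ Subgroup.le_normalizer
    rcases hcase with h4 | hodd
    · -- n = 4 : H = ⊤
      subst h4
      have hcard : Nat.card (DihedralGroup 4) = 8 := by rw [DihedralGroup.nat_card]
      have hd : Nat.card H ∣ 8 := hcard ▸ Subgroup.card_subgroup_dvd_card H
      have hle : Nat.card H ≤ 8 := Nat.le_of_dvd (by norm_num) hd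
      have htop : H = ⊤ := by
        by_contra hne
        apply hnc
        have hpos : 0 < Nat.card H := Nat.card_pos
        have hcases : Nat.card H = 1 ∨ Nat.card H = 2 ∨ Nat.card H = 4 ∨ Nat.card H = 8 := by
          interval_cases h : Nat.card H <;> simp_all
        rcases hcases with h | h | h | h
        · have : Subsingleton H := (Nat.card_eq_one_iff_unique.mp h).1
          exact ⟨⟨fun a b => Subsingleton.elim _ _⟩⟩
        · have : Fact (Nat.Prime 2) := ⟨Nat.prime_two⟩
          have hc : IsCyclic H := isCyclic_of_prime_card h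
          exact IsCyclic.isMulCommutative
        · have : Fact (Nat.Prime 2) := ⟨Nat.prime_two⟩
          have h' : Nat.card H = 2 ^ 2 := by rw [h]; norm_num
          exact IsPGroup.isMulCommutative_of_card_eq_prime_sq h'
        · exfalso
          apply hne
          apply Subgroup.eq_top_of_card_eq
          rw [h, hcard]
      rw [htop]
      exact le_top
    · -- n odd
      have hrefl : ∃ i : ZMod n, sr i ∈ H := by
        apply exists_sr_of_not_rotations
        intro hrot
        apply hnc
        have := comm_of_rotations H hrot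
        exact ⟨⟨fun a b => Subtype.ext (this a a.2 b b.2)⟩⟩
      obtain ⟨i, hi⟩ := hrefl
      -- rotations in the normalizer are in H
      have hrotN : ∀ k : ZMod n, r k ∈ Subgroup.normalizer (H : Set (DihedralGroup n)) → r k ∈ H := by
        intro k hk
        have h1 : r k * sr i * (r k)⁻¹ ∈ H := (Subgroup.mem_normalizer_iff.mp hk _).mp hi
        rw [inv_r, r_mul_sr, sr_mul_r] at h1
        have h2 : sr i * sr (i - k + -k) ∈ H := H.mul_mem hi h1
        rw [sr_mul_sr] at h2
        have h3 : r (2 * k) ∈ H := by
          have := H.inv_mem h2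
          rw [inv_r] at this
          have e : -(i - k + -k - i) = 2 * k := by ring
          rwa [e] at this
        obtain ⟨j, hj⟩ := hodd
        have h4 : (r (2 * k)) ^ (j + 1) ∈ H := H.pow_mem h3 _
        rw [r_pow] at h4
        have e : (2 * k * ((j + 1 : ℕ) : ZMod n)) = k := by
          have hn0 : ((n : ℕ) : ZMod n) = 0 := ZMod.natCast_self n
          have : ((2 * j + 1 : ℕ) : ZMod n) = 0 := by rw [← hj]; exact hn0
          push_cast at this ⊢
          have h5 : (2 : ZMod n) * (j : ZMod n) = -1 := by
            linear_combination this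
          calc 2 * k * ((j : ZMod n) + 1) = k * (2 * (j : ZMod n)) + 2 * k := by ring
            _ = k * (-1) + 2 * k := by rw [h5]
            _ = k := by ring
        rwa [e] at h4
      intro g hg
      cases g with
      | r k => exact hrotN k hg
      | sr k =>
        have h1 : (sr i)⁻¹ * sr k ∈ Subgroup.normalizer (H : Set (DihedralGroup n)) :=
          Subgroup.mul_mem _ (Subgroup.inv_mem _ (Subgroup.le_normalizer hi)) hg
        rw [inv_sr, sr_mul_sr] at h1
        have h2 := hrotN _ h1
        have h3 : sr i * r (k - i) ∈ H := H.mul_mem hi h2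
        rw [sr_mul_r] at h3
        have e : i + (k - i) = k := by ring
        rwa [e] at h3

end Cfsg.Agent.S4074
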