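import Cfsg.Statements.S4075
import Mathlib

set_option autoImplicit false
open Cfsg

namespace Cfsg.Agent.S4075

/-- Let G be a finite nilpotent group. Every non-abelian subgroup of G is self-normalizing if and only if G is abelian or G is a minimal non-abelian p-group for some prime p (non-abelian of prime-power order with every proper subgroup abelian). -/
theorem result {G : Type*} [Group G] [Finite G]
    [Group.IsNilpotent G] :
    (∀ H : Subgroup G, ¬ IsMulCommutative H → Subgroup.normalizer (H : Set G) = H) ↔
    (IsMulCommutative G ∨ (IsPrimePow (Nat.card G) ∧ ¬ IsMulCommutative G ∧ ∀ H : Subgroup G, H ≠ ⊤ → IsMulCommutative H)) := by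
  constructor
  · intro h
    by_cases hG : IsMulCommutative G
    · exact Or.inl hG
    · right
      have hnc : ∀ H : Subgroup G, Subgroup.normalizer (H : Set G) = H → H = ⊤ :=
        normalizerCondition_iff_only_full_group_self_normalizing.mp
          Group.normalizerCondition_of_isNilpotent
      have hprop : ∀ H : Subgroup G, H ≠ ⊤ → IsMulCommutative H := by
        intro H hH
        by_contra hcon
        exact hH (hnc H (h H hcon))
      refine ⟨?_, hG, hprop⟩
      -- G is a p-group
      by_contra hpp
      apply hG
      obtain ⟨e⟩ := ((Group.isNilpotent_of_finite_tfae (G := G)).out 0 4).mp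
        (inferInstance : Group.IsNilpotent G)
      have hcomm : ∀ (p : (Nat.card G).primeFactors) (P : Sylow p G),
          IsMulCommutative (P : Subgroup G) := by
        intro p P
        apply hprop
        intro htop
        apply hpp
        have hp : (p : ℕ).Prime := Nat.prime_of_mem_primeFactors p.2
        have : Fact (p : ℕ).Prime := ⟨hp⟩
        have hPG : IsPGroup p G := by
          intro g
          obtain ⟨k, hk⟩ := P.isPGroup' ⟨g, htop ▸ Subgroup.mem_top g⟩
          exact ⟨k, congrArg Subtype.val hk⟩
        obtain ⟨k, hk⟩ := hPG.exists_card_eq
        refine ⟨p, k, hp.prime, ?_, hk.symm⟩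
        rcases Nat.eq_zero_or_pos k with h0 | hpos
        · exfalso
          rw [h0, pow_zero] at hk
          have hdvd : (p : ℕ) ∣ Nat.card G := Nat.dvd_of_mem_primeFactors p.2
          have hle := Nat.le_of_dvd Nat.card_pos hdvd
          have := hp.one_lt
          omega
        · exact hpos
      refine ⟨⟨fun x y => ?_⟩⟩
      have hxy : e.symm x * e.symm y = e.symm y * e.symm x := by
        funext p
        funext P
        have := hcomm p P
        exact this.is_comm.comm _ _
      have := congrArg e hxy
      rwa [map_mul, map_mul, e.apply_symm_apply, e.apply_symm_apply] at this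
  · rintro (hG | ⟨-, -, hmin⟩) H hH
    · exfalso
      apply hH
      exact ⟨⟨fun a b => Subtype.ext (hG.is_comm.comm (a : G) (b : G))⟩⟩
    · have : H = ⊤ := by
        by_contra hcon
        exact hH (hmin H hcon)
      rw [this]
      exact le_antisymm le_top Subgroup.le_normalizer

end Cfsg.Agent.S4075
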