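import Mathlib
import Cfsg.Statements.S4080

set_option autoImplicit false

open Cfsg

namespace Cfsg.Agent.S4080

open Matrix

/-- a nilpotent `2 × 2` matrix over a field has square zero -/
theorem nilp2 {K : Type*} [Field K] (M : Matrix (Fin 2) (Fin 2) K) (h : IsNilpotent M) :
    M ^ 2 = 0 := by
  have h1 := Matrix.isNilpotent_charpoly_sub_pow_of_isNilpotent h
  have h2 : M.charpoly = Polynomial.X ^ 2 := by
    have := h1.eq_zero
    rw [sub_eq_zero] at this
    simpa using this
  have h3 := Matrix.aeval_self_charpoly M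
  rw [h2] at h3
  simpa using h3

/-- an element of `ZMod (p ^ 2)` mapping to zero in `ZMod p` is a multiple of `p` -/
theorem exists_mul_of_cast {p : ℕ} [Fact p.Prime] (y : ZMod (p ^ 2))
    (h : ZMod.castHom (dvd_pow_self p two_ne_zero) (ZMod p) y = 0) :
    ∃ c : ZMod (p ^ 2), y = (p : ZMod (p ^ 2)) * c := by
  haveI : NeZero (p ^ 2) := ⟨pow_ne_zero 2 (Fact.out : p.Prime).ne_zero⟩
  rw [ZMod.castHom_apply, ZMod.cast_eq_val, ZMod.natCast_eq_zero_iff] at h
  obtain ⟨c, hc⟩ := h
  refine ⟨(c : ZMod (p ^ 2)), ?_⟩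
  rw [← ZMod.natCast_zmod_val y, hc]
  push_cast
  rfl

theorem mat_key {p : ℕ} [Fact p.Prime] (hp : 3 < p) (A : Matrix (Fin 2) (Fin 2) (ZMod (p ^ 2)))
    (hA : A ^ p = 1) : (p : ZMod (p ^ 2)) • (A - 1) = 0 := by
  have hprime := (Fact.out : p.Prime)
  have hB : ∃ B, B = A - 1 := ⟨_, rfl⟩
  obtain ⟨B, hB⟩ := hB
  have hAB : A = B + 1 := by rw [hB]; abel
  rw [← hB]
  have h2 : ((ZMod.castHom (dvd_pow_self p two_ne_zero) (ZMod p)).mapMatrix B) ^ p = 0 := by
    have h1 : ((ZMod.castHom (dvd_pow_self p two_ne_zero) (ZMod p)).mapMatrix A) ^ p = 1 := by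
      rw [← map_pow, hA, map_one]
    rw [hB, map_sub, map_one, sub_pow_char_of_commute _ (Commute.one_right _), h1, one_pow, sub_self]
  have h3 := nilp2 _ ⟨p, h2⟩
  rw [← map_pow] at h3
  have h4 : ∀ i j, ∃ c : ZMod (p ^ 2), (B ^ 2) i j = (p : ZMod (p ^ 2)) * c := by
    intro i j
    apply exists_mul_of_cast
    have := congrFun (congrFun h3 i) j
    simpa [RingHom.mapMatrix_apply] using this
  choose M hM using h4
  have hBM : B ^ 2 = (p : ZMod (p ^ 2)) • (Matrix.of M) := by
    ext i j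
    rw [hM i j]; simp
  have hpp : (p : ZMod (p ^ 2)) * (p : ZMod (p ^ 2)) = 0 := by
    have := ZMod.natCast_self (p ^ 2)
    push_cast at this
    rw [← pow_two]
    exact this
  have hB4 : B ^ 4 = 0 := by
    have : B ^ 4 = B ^ 2 * B ^ 2 := by rw [← pow_add]
    rw [this, hBM, Matrix.smul_mul, Matrix.mul_smul, smul_smul, hpp, zero_smul]
  have hpB : ∀ k, 2 ≤ k → (p : ZMod (p ^ 2)) • B ^ k = 0 := by
    intro k hk
    have : B ^ k = B ^ 2 * B ^ (k - 2) := by rw [← pow_add]; congr 1; omega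
    rw [this, hBM, Matrix.smul_mul, smul_smul, hpp, zero_smul]
  have hBk : ∀ k, 4 ≤ k → B ^ k = 0 := by
    intro k hk
    have : B ^ k = B ^ 4 * B ^ (k - 4) := by rw [← pow_add]; congr 1; omega
    rw [this, hB4, zero_mul]
  have hsum := (Commute.one_right B).add_pow p
  rw [← hAB, hA] at hsum
  have hsub : ∑ m ∈ ({0, 1} : Finset ℕ), B ^ m * 1 ^ (p - m) * ((p.choose m : ℕ) : Matrix (Fin 2) (Fin 2) (ZMod (p ^ 2))) =
      ∑ m ∈ Finset.range (p + 1), B ^ m * 1 ^ (p - m) * ((p.choose m : ℕ) : Matrix (Fin 2) (Fin 2) (ZMod (p ^ 2))) := by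
    apply Finset.sum_subset
    · intro k hk
      simp only [Finset.mem_insert, Finset.mem_singleton] at hk
      rw [Finset.mem_range]
      omega
    · intro k hk hk2
      simp only [Finset.mem_insert, Finset.mem_singleton, not_or] at hk2
      rw [Finset.mem_range] at hk
      have hk2' : 2 ≤ k := by omega
      by_cases hkp : k = p
      · rw [hBk k (by omega), zero_mul, zero_mul]
      · obtain ⟨c, hc⟩ := hprime.dvd_choose_self (by omega : k ≠ 0) (by omega : k < p)
        rw [hc, one_pow, mul_one, Nat.cast_mul, ← mul_assoc]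
        have h5 : B ^ k * ((p : ℕ) : Matrix (Fin 2) (Fin 2) (ZMod (p ^ 2))) = 0 := by
          rw [← (Nat.cast_commute p (B ^ k)).eq, ← nsmul_eq_mul, ← Nat.cast_smul_eq_nsmul (ZMod (p ^ 2))]
          exact hpB k hk2'
        rw [h5, zero_mul]
  rw [← hsub, Finset.sum_pair (by norm_num)] at hsum
  simp only [pow_zero, one_pow, mul_one, Nat.choose_zero_right, Nat.cast_one, pow_one,
    Nat.choose_one_right] at hsum
  have h6 : B * ((p : ℕ) : Matrix (Fin 2) (Fin 2) (ZMod (p ^ 2))) = 0 := by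
    have := hsum
    rw [eq_comm, add_eq_left] at this
    exact this
  calc (p : ZMod (p ^ 2)) • B = p • B := Nat.cast_smul_eq_nsmul _ p B
    _ = ((p : ℕ) : Matrix (Fin 2) (Fin 2) (ZMod (p ^ 2))) * B := nsmul_eq_mul p B
    _ = B * ((p : ℕ) : Matrix (Fin 2) (Fin 2) (ZMod (p ^ 2))) := (Nat.cast_commute p B).eq
    _ = 0 := h6

/-- an element of `ZMod (p ^ 2)` killed by `p` is a multiple of `p` -/
theorem exists_mul_of_mul_eq_zero {p : ℕ} [Fact p.Prime] (u : ZMod (p ^ 2))
    (h : (p : ZMod (p ^ 2)) * u = 0) : ∃ c : ZMod (p ^ 2), u = (p : ZMod (p ^ 2)) * c := by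
  have hprime := (Fact.out : p.Prime)
  haveI : NeZero (p ^ 2) := ⟨pow_ne_zero 2 hprime.ne_zero⟩
  rw [← ZMod.natCast_zmod_val u, ← Nat.cast_mul, ZMod.natCast_eq_zero_iff] at h
  have h1 : p ∣ u.val := by
    obtain ⟨c, hc⟩ := h
    refine ⟨c, ?_⟩
    have : p * u.val = p * (p * c) := by rw [hc]; ring
    exact Nat.eq_of_mul_eq_mul_left hprime.pos this
  obtain ⟨c, hc⟩ := h1
  refine ⟨(c : ZMod (p ^ 2)), ?_⟩
  rw [← ZMod.natCast_zmod_val u, hc]
  push_cast
  rfl

section bridge

/-- the additive map induced by an automorphism of `Multiplicative L` -/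
def tl {L : Type*} [AddGroup L] (g : MulAut (Multiplicative L)) : L →+ L where
  toFun y := Multiplicative.toAdd (g (Multiplicative.ofAdd y))
  map_zero' := by simp
  map_add' y z := by simp [ofAdd_add]

theorem tl_apply {L : Type*} [AddGroup L] (g : MulAut (Multiplicative L)) (y : L) :
    tl g y = Multiplicative.toAdd (g (Multiplicative.ofAdd y)) := rfl

theorem tl_mul {L : Type*} [AddGroup L] (g h : MulAut (Multiplicative L)) :
    tl (g * h) = (tl g).comp (tl h) := by
  ext y
  simp [tl_apply]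

theorem tl_one {L : Type*} [AddGroup L] : tl (1 : MulAut (Multiplicative L)) = AddMonoidHom.id L := by
  ext y
  simp [tl_apply]

variable {n : ℕ} [NeZero n]

/-- additive maps on `ZMod n × ZMod n` are linear -/
theorem lin (f : ZMod n × ZMod n →+ ZMod n × ZMod n) (y : ZMod n × ZMod n) :
    f y = (y.1 * (f (1, 0)).1 + y.2 * (f (0, 1)).1, y.1 * (f (1, 0)).2 + y.2 * (f (0, 1)).2) := by
  have h : y = y.1.val • ((1, 0) : ZMod n × ZMod n) + y.2.val • ((0, 1) : ZMod n × ZMod n) := by
    apply Prod.ext <;> simp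
  conv_lhs => rw [h]
  rw [map_add, map_nsmul, map_nsmul]
  apply Prod.ext <;> simp

/-- the matrix of an additive endomorphism of `ZMod n × ZMod n` -/
def mat (f : ZMod n × ZMod n →+ ZMod n × ZMod n) : Matrix (Fin 2) (Fin 2) (ZMod n) :=
  !![(f (1, 0)).1, (f (0, 1)).1; (f (1, 0)).2, (f (0, 1)).2]

theorem mat_comp (f g : ZMod n × ZMod n →+ ZMod n × ZMod n) : mat (f.comp g) = mat f * mat g := by
  ext i j
  fin_cases i <;> fin_cases j
  · simp [mat, Matrix.mul_apply, Fin.sum_univ_two]; rw [lin f (g (1, 0))]; simp; ring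
  · simp [mat, Matrix.mul_apply, Fin.sum_univ_two]; rw [lin f (g (0, 1))]; simp; ring
  · simp [mat, Matrix.mul_apply, Fin.sum_univ_two]; rw [lin f (g (1, 0))]; simp; ring
  · simp [mat, Matrix.mul_apply, Fin.sum_univ_two]; rw [lin f (g (0, 1))]; simp; ring

omit [NeZero n] in
theorem mat_id : mat (AddMonoidHom.id (ZMod n × ZMod n)) = 1 := by
  ext i j
  fin_cases i <;> fin_cases j <;> simp [mat]

theorem mat_pow (g : MulAut (Multiplicative (ZMod n × ZMod n))) (k : ℕ) :
    mat (tl (g ^ k)) = (mat (tl g)) ^ k := by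
  induction k with
  | zero => rw [pow_zero, pow_zero, tl_one, mat_id]
  | succ k ih => rw [pow_succ, pow_succ, tl_mul, mat_comp, ih]

end bridge

/-- Let p > 3 be a prime and L the direct product of two cyclic groups of order p². Every automorphism of L of order p fixes every element of order p of L. -/
theorem result {p : ℕ} [Fact p.Prime] (hp : 3 < p)
    (a : MulAut (Multiplicative (ZMod (p ^ 2) × ZMod (p ^ 2)))) (ha : orderOf a = p)
    (x : Multiplicative (ZMod (p ^ 2) × ZMod (p ^ 2))) (hx : orderOf x = p) : a x = x := by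
  have hprime := (Fact.out : p.Prime)
  haveI : NeZero (p ^ 2) := ⟨pow_ne_zero 2 hprime.ne_zero⟩
  have hA : (mat (tl a)) ^ p = 1 := by
    have hap : a ^ p = 1 := by
      have := pow_orderOf_eq_one a
      rwa [ha] at this
    rw [← mat_pow, hap, tl_one, mat_id]
  have key := mat_key hp _ hA
  have k00 := congrFun (congrFun key 0) 0
  have k01 := congrFun (congrFun key 0) 1
  have k10 := congrFun (congrFun key 1) 0
  have k11 := congrFun (congrFun key 1) 1
  simp [mat] at k00 k01 k10 k11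
  have hxp : x ^ p = 1 := by
    have := pow_orderOf_eq_one x
    rwa [hx] at this
  have hy : p • (Multiplicative.toAdd x) = 0 := by
    have := congrArg Multiplicative.toAdd hxp
    simpa using this
  rw [Prod.ext_iff] at hy
  obtain ⟨hy1, hy2⟩ := hy
  simp only [Prod.fst_zero, Prod.snd_zero, nsmul_eq_mul] at hy1 hy2
  obtain ⟨u', hu⟩ := exists_mul_of_mul_eq_zero _ hy1
  obtain ⟨v', hv⟩ := exists_mul_of_mul_eq_zero _ hy2
  have hfix : tl a (Multiplicative.toAdd x) = Multiplicative.toAdd x := by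
    rw [lin (tl a) (Multiplicative.toAdd x)]
    apply Prod.ext
    · show _ = (Multiplicative.toAdd x).1
      rw [hu, hv]
      linear_combination u' * k00 + v' * k01
    · show _ = (Multiplicative.toAdd x).2
      rw [hu, hv]
      linear_combination u' * k10 + v' * k11
  have := congrArg Multiplicative.ofAdd hfix
  simpa [tl_apply] using this

end Cfsg.Agent.S4080
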