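import Cfsg.Statements.S4084
import Mathlib

set_option autoImplicit false
open Cfsg

namespace Cfsg.Agent.S4084

theorem one_dir {G H : Type*} [Group G] [Finite G] [Group H] [Finite H] (e : G ≃ H)
    (he : ∀ x y : G, Commute x y ↔ Commute (e x) (e y))
    {p q : ℕ} (hp : p.Prime) (hq : q.Prime) (hpq : p ≠ q) :
    (∃ g : G, orderOf g = p * q) → (∃ h : H, orderOf h = p * q) := by
  rintro ⟨g, hg⟩
  set A : Subgroup G := Subgroup.centralizer (Subgroup.centralizer {g} : Set G) with hA
  set B : Subgroup H := Subgroup.centralizer (Subgroup.centralizer {e g} : Set H) with hB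
  have memA : ∀ x, x ∈ A ↔ ∀ y, Commute y g → Commute y x := by
    intro x
    rw [hA, Subgroup.mem_centralizer_iff]
    constructor
    · intro h y hy
      apply h y
      rw [SetLike.mem_coe, Subgroup.mem_centralizer_iff]
      intro z hz
      rw [Set.mem_singleton_iff] at hz
      subst hz
      exact hy.symm.eq
    · intro h y hy
      rw [SetLike.mem_coe, Subgroup.mem_centralizer_iff] at hy
      exact (h y (hy g rfl).symm)
  have memB : ∀ x, x ∈ B ↔ ∀ y, Commute y (e g) → Commute y x := by
    intro x
    rw [hB, Subgroup.mem_centralizer_iff]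
    constructor
    · intro h y hy
      apply h y
      rw [SetLike.mem_coe, Subgroup.mem_centralizer_iff]
      intro z hz
      rw [Set.mem_singleton_iff] at hz
      subst hz
      exact hy.symm.eq
    · intro h y hy
      rw [SetLike.mem_coe, Subgroup.mem_centralizer_iff] at hy
      exact (h y (hy (e g) rfl).symm)
  have hAB : ∀ x, x ∈ A ↔ e x ∈ B := by
    intro x
    rw [memA, memB]
    constructor
    · intro h y hy
      obtain ⟨y, rfl⟩ := e.surjective y
      exact (he y x).1 (h y ((he y g).2 hy))
    · intro h y hy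
      exact (he y x).2 (h (e y) ((he y g).1 hy))
  have hcard : Nat.card A = Nat.card B := Nat.card_congr (Equiv.subtypeEquiv e hAB)
  have hgA : g ∈ A := by
    rw [memA]; intro y hy; exact hy
  have hdvd : p * q ∣ Nat.card B := by
    rw [← hcard, ← hg]
    exact Subgroup.orderOf_dvd_natCard A hgA
  have hpB : p ∣ Nat.card B := dvd_trans (dvd_mul_right p q) hdvd
  have hqB : q ∣ Nat.card B := dvd_trans (dvd_mul_left q p) hdvd
  have : Fact p.Prime := ⟨hp⟩
  have : Fact q.Prime := ⟨hq⟩
  obtain ⟨a, ha⟩ := exists_prime_orderOf_dvd_card' (G := B) p hpB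
  obtain ⟨b, hb⟩ := exists_prime_orderOf_dvd_card' (G := B) q hqB
  rw [← Subgroup.orderOf_coe] at ha hb
  have hcomm : Commute (a : H) (b : H) := by
    have h1 := (memB b).1 b.2
    apply h1
    have h2 := (memB a).1 a.2
    exact (h2 (e g) (Commute.refl _)).symm
  refine ⟨(a : H) * (b : H), ?_⟩
  rw [hcomm.orderOf_mul_eq_mul_orderOf_of_coprime, ha, hb]
  rw [ha, hb]
  exact (Nat.coprime_primes hp hq).2 hpq

/-- Let G and H be finite groups whose commuting graphs are isomorphic. Then G and H have the same prime graph. -/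
theorem result {G H : Type*} [Group G] [Finite G] [Group H] [Finite H] (e : G ≃ H)
    (he : ∀ x y : G, Commute x y ↔ Commute (e x) (e y))
    {p q : ℕ} (hp : p.Prime) (hq : q.Prime) (hpq : p ≠ q) :
    (∃ g : G, orderOf g = p * q) ↔ (∃ h : H, orderOf h = p * q) := by
  constructor
  · exact one_dir e he hp hq hpq
  · apply one_dir e.symm _ hp hq hpq
    intro x y
    rw [he (e.symm x) (e.symm y)]
    simp

end Cfsg.Agent.S4084
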