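import Cfsg.Statements.S4086
import Mathlib

set_option autoImplicit false
open Cfsg

namespace Cfsg.Agent.S4086

variable {G : Type*} [Group G]

/-- `z ^ gcd(j, n)` is a power of `z ^ j` when `z ^ n = 1`. -/
theorem pow_gcd_mem_zpowers {z : G} {n : ℕ} (hz : z ^ n = 1) (j : ℕ) :
    z ^ Nat.gcd j n ∈ Subgroup.zpowers (z ^ j) := by
  rw [Subgroup.mem_zpowers_iff]
  refine ⟨Nat.gcdA j n, ?_⟩
  have hb := Nat.gcd_eq_gcd_ab j n
  rw [← zpow_natCast z (Nat.gcd j n), hb, zpow_add, zpow_mul, zpow_mul, zpow_natCast, zpow_natCast,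
    hz, one_zpow, mul_one]

/-- in a cyclic `p`-group generated by `z`, if `gcd(j, p^k) ∣ i` then `z^i ∈ ⟨z^j⟩`. -/
theorem pow_mem_zpowers_of_gcd_dvd {z : G} {n : ℕ} (hz : z ^ n = 1) {i j : ℕ}
    (h : Nat.gcd j n ∣ i) : z ^ i ∈ Subgroup.zpowers (z ^ j) := by
  obtain ⟨c, rfl⟩ := h
  rw [pow_mul]
  exact Subgroup.pow_mem _ (pow_gcd_mem_zpowers hz j) c

theorem forward [Finite G] (h : ∀ g : G, g ≠ 1 → IsPrimePow (orderOf g)) (x y : G)
    (hc : IsCyclic ↥(Subgroup.closure ({x, y} : Set G))) :
    x ∈ Subgroup.zpowers y ∨ y ∈ Subgroup.zpowers x := by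
  obtain ⟨z, hz⟩ := (Subgroup.isCyclic_iff_exists_zpowers_eq_top _).mp hc
  have hx : x ∈ Subgroup.zpowers z := by
    rw [hz]; exact Subgroup.subset_closure (by simp)
  have hy : y ∈ Subgroup.zpowers z := by
    rw [hz]; exact Subgroup.subset_closure (by simp)
  have hfin : IsOfFinOrder z := isOfFinOrder_of_finite z
  rw [← hfin.mem_powers_iff_mem_zpowers] at hx hy
  obtain ⟨i, rfl⟩ := hx
  obtain ⟨j, rfl⟩ := hy
  by_cases hz1 : z = 1
  · left
    rw [hz1]; simp
  · obtain ⟨p, k, hp, hk, hpk⟩ := h z hz1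
    have hp' : p.Prime := Nat.prime_iff.mpr hp
    have hzn : z ^ (p ^ k) = 1 := by rw [hpk]; exact pow_orderOf_eq_one z
    obtain ⟨a, _, ha⟩ := (Nat.dvd_prime_pow hp').1 (Nat.gcd_dvd_right i (p ^ k))
    obtain ⟨b, _, hb⟩ := (Nat.dvd_prime_pow hp').1 (Nat.gcd_dvd_right j (p ^ k))
    rcases le_total b a with hba | hab
    · left
      apply pow_mem_zpowers_of_gcd_dvd hzn
      rw [hb]
      exact dvd_trans (pow_dvd_pow p hba) (ha ▸ Nat.gcd_dvd_left i (p ^ k))
    · right
      apply pow_mem_zpowers_of_gcd_dvd hzn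
      rw [ha]
      exact dvd_trans (pow_dvd_pow p hab) (hb ▸ Nat.gcd_dvd_left j (p ^ k))

theorem backward [Finite G]
    (h : ∀ x y : G, IsCyclic ↥(Subgroup.closure ({x, y} : Set G)) →
      (x ∈ Subgroup.zpowers y ∨ y ∈ Subgroup.zpowers x)) (g : G) (hg : g ≠ 1) :
    IsPrimePow (orderOf g) := by
  set n := orderOf g with hn
  have hnpos : 0 < n := orderOf_pos g
  have hn1 : n ≠ 1 := fun h1 => hg (orderOf_eq_one_iff.mp h1)
  set p := n.minFac with hp
  have hpp : p.Prime := Nat.minFac_prime hn1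
  have hpn : p ∣ n := Nat.minFac_dvd n
  set a := p ^ n.factorization p with ha
  set b := n / a with hb
  have hab : a * b = n := Nat.ordProj_mul_ordCompl_eq_self n p
  have hcop : Nat.Coprime a b := by
    apply Nat.Coprime.pow_left
    exact Nat.coprime_ordCompl hpp hnpos.ne'
  by_cases hb1 : b = 1
  · rw [hb1, mul_one] at hab
    rw [← hab]
    refine ⟨p, n.factorization p, Nat.prime_iff.mp hpp, ?_, rfl⟩
    exact (hpp.factorization_pos_of_dvd hnpos.ne' hpn)
  · exfalso
    have ha1 : a ≠ 1 := by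
      intro h1
      have : p ∣ a := dvd_pow_self p (hpp.factorization_pos_of_dvd hnpos.ne' hpn).ne'
      rw [h1] at this
      exact hpp.one_lt.ne' (Nat.dvd_one.mp this)
    have hapos : 0 < a := pow_pos hpp.pos _
    have hbpos : 0 < b := by
      rcases Nat.eq_zero_or_pos b with h0 | h0
      · rw [h0, mul_zero] at hab; omega
      · exact h0
    have hordx : orderOf (g ^ a) = b := by
      rw [orderOf_pow' g hapos.ne', ← hn, Nat.gcd_eq_right (Dvd.intro _ hab)]
    have hordy : orderOf (g ^ b) = a := by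
      rw [orderOf_pow' g hbpos.ne', ← hn, Nat.gcd_eq_right (Dvd.intro_left _ hab)]
      exact Nat.div_eq_of_eq_mul_left hbpos hab.symm
    have hcyc : IsCyclic ↥(Subgroup.closure ({g ^ a, g ^ b} : Set G)) := by
      apply Subgroup.isCyclic_of_le (H' := Subgroup.zpowers g)
      rw [Subgroup.closure_le]
      intro w hw
      rcases hw with rfl | hw
      · exact Subgroup.npow_mem_zpowers g a
      · rw [Set.mem_singleton_iff] at hw
        rw [hw]; exact Subgroup.npow_mem_zpowers g b
    rcases h _ _ hcyc with h1 | h1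
    · -- g^a ∈ ⟨g^b⟩: order b divides a
      have : orderOf (g ^ a) ∣ orderOf (g ^ b) := by
        obtain ⟨k, hk⟩ := Subgroup.mem_zpowers_iff.mp h1
        rw [← hk]; exact orderOf_dvd_of_pow_eq_one (by
          rw [← zpow_natCast, ← zpow_mul, mul_comm, zpow_mul, zpow_natCast, pow_orderOf_eq_one,
            one_zpow])
      rw [hordx, hordy] at this
      exact hb1 (Nat.eq_one_of_dvd_coprimes hcop.symm (dvd_refl b) this)
    · have : orderOf (g ^ b) ∣ orderOf (g ^ a) := by
        obtain ⟨k, hk⟩ := Subgroup.mem_zpowers_iff.mp h1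
        rw [← hk]; exact orderOf_dvd_of_pow_eq_one (by
          rw [← zpow_natCast, ← zpow_mul, mul_comm, zpow_mul, zpow_natCast, pow_orderOf_eq_one,
            one_zpow])
      rw [hordx, hordy] at this
      exact ha1 (Nat.eq_one_of_dvd_coprimes hcop (dvd_refl a) this)

/-- For a finite group G the following are equivalent: every non-identity element has prime-power order; whenever two elements generate a cyclic subgroup, one of them is a power of the other (the enhanced power graph of G coincides with its power graph). -/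
theorem result {G : Type*} [Group G] [Finite G] :
    (∀ g : G, g ≠ 1 → IsPrimePow (orderOf g)) ↔
    (∀ x y : G, IsCyclic ↥(Subgroup.closure ({x, y} : Set G)) → (x ∈ Subgroup.zpowers y ∨ y ∈ Subgroup.zpowers x)) := by
  constructor
  · intro h x y hc
    exact forward h x y hc
  · intro h g hg
    exact backward h g hg

end Cfsg.Agent.S4086
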