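import Cfsg.Statements.S4089
import Mathlib
import Cfsg.Agent.Lib.Lead_SZ
import Cfsg.Agent.Lib.Helper4_PCore
import Cfsg.Agent.Lib.Helper4_Subnormal
import Cfsg.Agent.Lib.Lead_Subnormal
import Cfsg.Agent.Lib.Lead_Schmidt

set_option autoImplicit false
open Cfsg

namespace Cfsg.Agent.S4089

open scoped Pointwise

open Cfsg.Agent.Lib.Helper4_PCore

variable {G : Type*} [Group G]

/-- `O_p` of a subgroup, inside the ambient group. -/
abbrev oP (p : ℕ) (N : Subgroup G) : Subgroup G := (Cfsg.pCore p ↥N).map N.subtype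

theorem oP_isPGroup {p : ℕ} [Fact p.Prime] (N : Subgroup G) : IsPGroup p (oP p N) :=
  pCore_isPGroup.map _

theorem le_normalizer_oP (p : ℕ) (N : Subgroup G) :
    N ≤ Subgroup.normalizer ((oP p N : Subgroup G) : Set G) := by
  intro x hx
  rw [Subgroup.mem_normalizer_iff]
  haveI := pCore_normal p ↥N
  intro y
  constructor
  · rintro ⟨y', hy', rfl⟩
    exact ⟨⟨x, hx⟩ * y' * ⟨x, hx⟩⁻¹, (pCore_normal p ↥N).conj_mem y' hy' _, rfl⟩
  · rintro ⟨z', hz', hz⟩
    refine ⟨⟨x, hx⟩⁻¹ * z' * ⟨x, hx⟩, ?_, ?_⟩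
    · have := (pCore_normal p ↥N).conj_mem z' hz' (⟨x, hx⟩⁻¹)
      rwa [inv_inv] at this
    · have hz2 : (z' : G) = x * y * x⁻¹ := hz
      simp only [Subgroup.coe_subtype, Subgroup.coe_mul, Subgroup.coe_inv, hz2]
      group

theorem le_oP_normalizer {p : ℕ} (R : Subgroup G) (hR : IsPGroup p R) :
    R ≤ oP p (Subgroup.normalizer (R : Set G)) := by
  have h1 : R.subgroupOf (Subgroup.normalizer (R : Set G)) ≤
      Cfsg.pCore p ↥(Subgroup.normalizer (R : Set G)) :=
    le_pCore _ Subgroup.normal_in_normalizer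
      (hR.comap_of_injective _ (Subgroup.subtype_injective _))
  calc R = (R.subgroupOf (Subgroup.normalizer (R : Set G))).map
        (Subgroup.normalizer (R : Set G)).subtype :=
        (Subgroup.map_subgroupOf_eq_of_le Subgroup.le_normalizer).symm
    _ ≤ oP p (Subgroup.normalizer (R : Set G)) := Subgroup.map_mono h1

theorem subnormal_of_le [Finite G] {p : ℕ} [Fact p.Prime] (H R : Subgroup G) (hR : IsPGroup p R)
    (hHR : H ≤ R) (g : G) (hg : g ∈ Subgroup.normalizer (R : Set G)) :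
    (H.subgroupOf (H ⊔ Subgroup.zpowers g)).IsSubnormal := by
  have hKN : H ⊔ Subgroup.zpowers g ≤ Subgroup.normalizer (R : Set G) :=
    sup_le (hHR.trans Subgroup.le_normalizer) (Subgroup.zpowers_le.2 hg)
  haveI hn : (R.subgroupOf (H ⊔ Subgroup.zpowers g)).Normal :=
    Subgroup.normal_subgroupOf_of_le_normalizer hKN
  have hp : IsPGroup p (R.subgroupOf (H ⊔ Subgroup.zpowers g)) :=
    hR.comap_of_injective _ (Subgroup.subtype_injective _)
  haveI : Group.IsNilpotent ↥(R.subgroupOf (H ⊔ Subgroup.zpowers g)) := hp.isNilpotent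
  have hle : H.subgroupOf (H ⊔ Subgroup.zpowers g) ≤ R.subgroupOf (H ⊔ Subgroup.zpowers g) := by
    intro x hx
    exact Subgroup.mem_subgroupOf.2 (hHR (Subgroup.mem_subgroupOf.1 hx))
  apply Subgroup.IsSubnormal.trans hle ?_ hn.isSubnormal
  exact Cfsg.Agent.Lib.Lead_Subnormal.isSubnormal_of_nilpotent _ _ rfl

theorem exists_radical [Finite G] {p : ℕ} [Fact p.Prime] (R₀ : Subgroup G) (hR₀ : IsPGroup p R₀)
    (g : G) (hg : g ∈ Subgroup.normalizer (R₀ : Set G)) :
    ∃ R : Subgroup G, R₀ ≤ R ∧ oP p (Subgroup.normalizer (R : Set G)) = R ∧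
      g ∈ Subgroup.normalizer (R : Set G) := by
  obtain ⟨R, hR₀R, hmax⟩ := Set.Finite.exists_le_maximal
    (s := {R : Subgroup G | IsPGroup p R ∧ g ∈ Subgroup.normalizer (R : Set G)})
    (Set.toFinite _) ⟨hR₀, hg⟩
  obtain ⟨hRp, hRg⟩ := hmax.prop
  have h1 : oP p (Subgroup.normalizer (R : Set G)) ∈
      {R : Subgroup G | IsPGroup p R ∧ g ∈ Subgroup.normalizer (R : Set G)} :=
    ⟨oP_isPGroup _, le_normalizer_oP p _ hRg⟩
  have h2 := hmax.le_of_ge h1 (le_oP_normalizer R hRp)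
  exact ⟨R, hR₀R, le_antisymm h2 (le_oP_normalizer R hRp), hRg⟩

theorem sn_iff [Finite G] {p : ℕ} [Fact p.Prime] (H : Subgroup G) (hH : IsPGroup p H) (g : G) :
    (H.subgroupOf (H ⊔ Subgroup.zpowers g)).IsSubnormal ↔
      ∃ R : Subgroup G, H ≤ R ∧ oP p (Subgroup.normalizer (R : Set G)) = R ∧
        g ∈ Subgroup.normalizer (R : Set G) := by
  constructor
  · intro hsn
    have h1 : H.subgroupOf (H ⊔ Subgroup.zpowers g) ≤ Cfsg.pCore p ↥(H ⊔ Subgroup.zpowers g) :=
      Cfsg.Agent.Lib.Helper4_Subnormal.subnormal_pGroup_le_pCore _ hsn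
        (hH.comap_of_injective _ (Subgroup.subtype_injective _))
    have hHR₀ : H ≤ oP p (H ⊔ Subgroup.zpowers g) := by
      calc H = (H.subgroupOf (H ⊔ Subgroup.zpowers g)).map (H ⊔ Subgroup.zpowers g).subtype :=
            (Subgroup.map_subgroupOf_eq_of_le le_sup_left).symm
        _ ≤ _ := Subgroup.map_mono h1
    have hg : g ∈ Subgroup.normalizer ((oP p (H ⊔ Subgroup.zpowers g) : Subgroup G) : Set G) :=
      le_normalizer_oP p _ (le_sup_right (a := H) (Subgroup.mem_zpowers g))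
    obtain ⟨R, h2, h3, h4⟩ := exists_radical _ (oP_isPGroup (p := p) (H ⊔ Subgroup.zpowers g)) g hg
    exact ⟨R, hHR₀.trans h2, h3, h4⟩
  · rintro ⟨R, hHR, hrad, hg⟩
    have hRp : IsPGroup p R := by
      rw [← hrad]
      exact oP_isPGroup _
    exact subnormal_of_le H R hRp hHR g hg

theorem iInf_sylow_eq_pCore {N : Type*} [Group N] [Finite N] {p : ℕ} [Fact p.Prime] :
    ⨅ T : Sylow p N, (T : Subgroup N) = Cfsg.pCore p N := by
  apply le_antisymm
  · apply le_pCore
    · constructor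
      intro k hk g
      rw [Subgroup.mem_iInf] at hk ⊢
      intro T
      have h1 : k ∈ MulAut.conj g⁻¹ • (T : Subgroup N) := hk (g⁻¹ • T)
      rw [Cfsg.Agent.Lib.Lead_SZ.mem_conj_smul, inv_inv] at h1
      exact h1
    · obtain ⟨T⟩ : Nonempty (Sylow p N) := inferInstance
      exact T.isPGroup'.to_le (iInf_le _ T)
  · exact le_iInf fun T => pCore_le_sylow T

theorem hstar_le [Finite G] {p : ℕ} [Fact p.Prime] (H R : Subgroup G) (hHR : H ≤ R)
    (hrad : oP p (Subgroup.normalizer (R : Set G)) = R) :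
    sInf {K : Subgroup G | ∃ Q : Sylow p G, H ≤ (Q : Subgroup G) ∧ K = (Q : Subgroup G)} ≤ R := by
  choose Qf hQf using fun T : Sylow p ↥(Subgroup.normalizer (R : Set G)) =>
    (T.isPGroup'.map (Subgroup.normalizer (R : Set G)).subtype).exists_le_sylow
  have hRT : ∀ T : Sylow p ↥(Subgroup.normalizer (R : Set G)), R ≤ (Qf T : Subgroup G) := by
    intro T
    calc R = oP p (Subgroup.normalizer (R : Set G)) := hrad.symm
      _ ≤ (T : Subgroup _).map (Subgroup.normalizer (R : Set G)).subtype :=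
          Subgroup.map_mono (pCore_le_sylow T)
      _ ≤ Qf T := hQf T
  have hRD : R ≤ ⨅ T, (Qf T : Subgroup G) := le_iInf hRT
  have hstarD : sInf {K : Subgroup G | ∃ Q : Sylow p G, H ≤ (Q : Subgroup G) ∧
      K = (Q : Subgroup G)} ≤ ⨅ T, (Qf T : Subgroup G) :=
    le_iInf fun T => sInf_le ⟨Qf T, hHR.trans (hRT T), rfl⟩
  have hDp : IsPGroup p (⨅ T, (Qf T : Subgroup G) : Subgroup G) := by
    obtain ⟨T⟩ : Nonempty (Sylow p ↥(Subgroup.normalizer (R : Set G))) := inferInstance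
    exact (Qf T).isPGroup'.to_le (iInf_le _ T)
  have hDR : (⨅ T, (Qf T : Subgroup G)) = R := by
    by_contra hne
    have hlt : R < ⨅ T, (Qf T : Subgroup G) := lt_of_le_of_ne hRD (Ne.symm hne)
    obtain ⟨x, hxD, hxN, hxR⟩ :=
      Cfsg.Agent.Lib.Lead_Schmidt.exists_mem_normalizer_not_mem hDp.isNilpotent hlt
    apply hxR
    rw [← hrad]
    have hmem : (⟨x, hxN⟩ : ↥(Subgroup.normalizer (R : Set G))) ∈
        Cfsg.pCore p ↥(Subgroup.normalizer (R : Set G)) := ?_
    · exact ⟨⟨x, hxN⟩, hmem, rfl⟩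
    rw [← iInf_sylow_eq_pCore, Subgroup.mem_iInf]
    intro T
    have h1 : IsPGroup p ((Qf T : Subgroup G).subgroupOf (Subgroup.normalizer (R : Set G))) :=
      (Qf T).isPGroup'.comap_of_injective _ (Subgroup.subtype_injective _)
    have h2 : (T : Subgroup _) ≤ (Qf T : Subgroup G).subgroupOf (Subgroup.normalizer (R : Set G)) := by
      intro t ht
      exact Subgroup.mem_subgroupOf.2 (hQf T ⟨t, ht, rfl⟩)
    have h3 := T.is_maximal' h1 h2
    rw [← h3, Subgroup.mem_subgroupOf]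
    exact (Subgroup.mem_iInf.1 hxD) T
  rw [← hDR]
  exact hstarD


/-- Let G be a finite group, p a prime and H a p-subgroup of G. Then the set of elements g of G such that H is subnormal in the subgroup generated by H and g is the union of the normalizers N_G(R) over the subgroups R of G containing H with R = O_p(N_G(R)); and this set does not change when H is replaced by the intersection of all Sylow p-subgroups of G containing H. -/
theorem result {G : Type*} [Group G] [Finite G] (p : ℕ) [Fact p.Prime]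
    (H : Subgroup G) (hH : IsPGroup p H) :
    {g : G | ((H).subgroupOf (H ⊔ Subgroup.zpowers g)).IsSubnormal} =
      {g : G | ∃ R : Subgroup G, H ≤ R ∧ (Cfsg.pCore p (Subgroup.normalizer (R : Set G))).map (Subgroup.normalizer (R : Set G)).subtype = R ∧ g ∈ Subgroup.normalizer (R : Set G)} ∧
    ∀ g : G, (((H).subgroupOf (H ⊔ Subgroup.zpowers g)).IsSubnormal ↔
      (((sInf {K : Subgroup G | ∃ Q : Sylow p G, H ≤ (Q : Subgroup G) ∧ K = (Q : Subgroup G)})).subgroupOf ((sInf {K : Subgroup G | ∃ Q : Sylow p G, H ≤ (Q : Subgroup G) ∧ K = (Q : Subgroup G)}) ⊔ Subgroup.zpowers g)).IsSubnormal) := by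
  constructor
  · ext g
    exact sn_iff H hH g
  · intro g
    have hle : H ≤ sInf {K : Subgroup G | ∃ Q : Sylow p G, H ≤ (Q : Subgroup G) ∧
        K = (Q : Subgroup G)} := by
      apply le_sInf
      rintro K ⟨Q, hQ, rfl⟩
      exact hQ
    have hHs : IsPGroup p (sInf {K : Subgroup G | ∃ Q : Sylow p G, H ≤ (Q : Subgroup G) ∧
        K = (Q : Subgroup G)} : Subgroup G) := by
      obtain ⟨Q, hQ⟩ := hH.exists_le_sylow
      exact Q.isPGroup'.to_le (sInf_le ⟨Q, hQ, rfl⟩)
    rw [sn_iff H hH g, sn_iff _ hHs g]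
    constructor
    · rintro ⟨R, hHR, hrad, hg⟩
      exact ⟨R, hstar_le H R hHR hrad, hrad, hg⟩
    · rintro ⟨R, hHR, hrad, hg⟩
      exact ⟨R, hle.trans hHR, hrad, hg⟩

end Cfsg.Agent.S4089
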