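import Mathlib
import Cfsg.Statements.S4092
import Cfsg.Agent.Lib.Helper7_FrobDiv

set_option autoImplicit false
open Cfsg

namespace Cfsg.Agent.S4092

open Cfsg.Agent.Lib.Helper7_FrobDiv
open scoped Classical

theorem pElement_iff {G : Type*} [Group G] [Finite G] (p : ℕ) [hp : Fact p.Prime]
    (P : Sylow p G) (g : G) :
    (∃ k : ℕ, orderOf g = p ^ k) ↔ g ^ (Nat.card (P : Subgroup G)) = 1 := by
  constructor
  · rintro ⟨k, hk⟩
    rw [← orderOf_dvd_iff_pow_eq_one, hk, Sylow.card_eq_multiplicity]
    apply pow_dvd_pow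
    rw [← Nat.Prime.pow_dvd_iff_le_factorization hp.out Nat.card_pos.ne', ← hk]
    exact orderOf_dvd_natCard g
  · intro h
    rw [← orderOf_dvd_iff_pow_eq_one, Sylow.card_eq_multiplicity] at h
    obtain ⟨j, -, hj⟩ := (Nat.dvd_prime_pow hp.out).mp h
    exact ⟨j, hj⟩

/-- Let G be a finite group, p a prime and P a Sylow p-subgroup of G that is not normal in G. Then G has at least p·#P elements of p-power order (the identity included). -/
theorem result {G : Type*} [Group G] [Finite G] (p : ℕ) [Fact p.Prime]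
    (P : Sylow p G) (hP : ¬ (P : Subgroup G).Normal) :
    p * Nat.card (P : Subgroup G) ≤ Nat.card {g : G // ∃ k : ℕ, orderOf g = p ^ k} := by
  have hp : p.Prime := Fact.out
  haveI := Fintype.ofFinite G
  set q := Nat.card (P : Subgroup G) with hq
  have hcard : Nat.card {g : G // ∃ k : ℕ, orderOf g = p ^ k} = (Lset (G := G) q).card := by
    rw [card_Lset]
    exact Nat.card_congr (Equiv.subtypeEquivRight (fun g => pElement_iff p P g))
  rw [hcard]
  have hqG : q ∣ Nat.card G := Subgroup.card_subgroup_dvd_card _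
  obtain ⟨c, hc⟩ : q ∣ (Lset (G := G) q).card := by
    rw [card_Lset]; exact frobenius q hqG
  have hqpos : 0 < q := Nat.card_pos
  -- P ⊆ L_q
  have hPsub : (Finset.univ.filter (fun x : G => x ∈ (P : Subgroup G))) ⊆ Lset (G := G) q := by
    intro x hx
    rw [Finset.mem_filter] at hx
    rw [mem_Lset]
    have h1 := pow_card_eq_one' (G := (P : Subgroup G)) (x := ⟨x, hx.2⟩)
    exact congrArg Subtype.val h1
  have hPcard : (Finset.univ.filter (fun x : G => x ∈ (P : Subgroup G))).card = q := by
    rw [← Fintype.card_subtype, ← Nat.card_eq_fintype_card]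
  -- c ≥ 2
  have hc2 : 2 ≤ c := by
    by_contra hlt
    rw [not_le] at hlt
    have hle : (Lset (G := G) q).card ≤ q := by
      rw [hc]; nlinarith
    have heq := Finset.eq_of_subset_of_card_le hPsub (by rw [hPcard]; exact hle)
    apply hP
    constructor
    intro n hn g
    have h1 : g * n * g⁻¹ ∈ Lset (G := G) q := by
      rw [mem_Lset, conj_pow]
      have h2 : n ∈ Lset (G := G) q := hPsub (by rw [Finset.mem_filter]; exact ⟨Finset.mem_univ _, hn⟩)
      rw [mem_Lset] at h2
      rw [h2]; group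
    rw [← heq, Finset.mem_filter] at h1
    exact h1.2
  -- |L_q| ≡ 1 mod (p-1)
  have hmod : (p - 1) ∣ (Lset (G := G) q).card - 1 := by
    have h1 : ((Lset (G := G) q).erase 1).card = (Lset (G := G) q).card - 1 := by
      apply Finset.card_erase_of_mem
      rw [mem_Lset]; exact one_pow q
    rw [← h1]
    have h2 := step1' ((Lset (G := G) q).erase 1) ?_ p 0 hp ?_
    · rwa [pow_zero, one_mul] at h2
    · intro x y hx hxy
      have ho := orderOf_eq_of_zpowers_eq hxy
      rw [Finset.mem_erase, mem_Lset] at hx ⊢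
      refine ⟨?_, ?_⟩
      · intro hy1
        apply hx.1
        rw [hy1, orderOf_one] at ho
        exact orderOf_eq_one_iff.mp ho.symm
      · rw [← orderOf_dvd_iff_pow_eq_one, ho, orderOf_dvd_iff_pow_eq_one]; exact hx.2
    · intro x hx
      rw [Finset.mem_erase, mem_Lset] at hx
      rw [zero_add, pow_one]
      obtain ⟨k, hk⟩ := (pElement_iff p P x).mpr hx.2
      rw [hk]
      rcases Nat.eq_zero_or_pos k with h0 | h0
      · exfalso
        apply hx.1
        rw [h0, pow_zero] at hk
        exact orderOf_eq_one_iff.mp hk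
      · exact dvd_pow_self p h0.ne'
  -- arithmetic
  have hpm : p ≡ 1 [MOD p - 1] := by
    apply Nat.ModEq.symm
    rw [Nat.modEq_iff_dvd' hp.one_lt.le]
  obtain ⟨e, he⟩ := IsPGroup.iff_card.mp P.isPGroup'
  have hqm : q ≡ 1 [MOD p - 1] := by
    rw [hq, he]
    have := hpm.pow e
    rwa [one_pow] at this
  have hLm : 1 ≡ (Lset (G := G) q).card [MOD p - 1] := by
    rw [Nat.modEq_iff_dvd' (by rw [hc]; nlinarith)]
    exact hmod
  have hcm : 1 ≡ c [MOD p - 1] := by
    have h1 : q * c ≡ 1 * c [MOD p - 1] := hqm.mul_right c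
    rw [one_mul, ← hc] at h1
    exact hLm.trans h1
  have hpc : p ≤ c := by
    rw [Nat.modEq_iff_dvd' (by omega)] at hcm
    have := Nat.le_of_dvd (by omega) hcm
    omega
  rw [hc, mul_comm q c]
  exact Nat.mul_le_mul hpc le_rfl

end Cfsg.Agent.S4092
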