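import Mathlib
import Cfsg.Statements.S4106
import Cfsg.Agent.Lib.Helper7_PiClasses

set_option autoImplicit false
open Cfsg

namespace Cfsg.Agent.S4106

open Cfsg.Agent.Lib Cfsg.Agent.Lib.Helper7_PiClasses
open scoped Classical

/-- Let G be a finite group, π a set of primes and m the π-part of the order of G. Then the number of conjugacy classes of G consisting of π-elements (elements whose order is divisible only by primes in π) is at most m. -/
theorem result {G : Type*} [Group G] [Finite G]
    (π : Set ℕ) (hπ : ∀ q ∈ π, q.Prime)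
    (m : ℕ) (hm : m ∣ Nat.card G) (hmπ : ∀ q : ℕ, q.Prime → q ∣ m → q ∈ π)
    (hm' : ∀ q ∈ π, ¬ q ∣ Nat.card G / m) :
    Nat.card {C : ConjClasses G // ∀ q : ℕ, q.Prime → (∃ g : G, ConjClasses.mk g = C ∧ q ∣ orderOf g) → q ∈ π} ≤ m := by
  have hG0 : Nat.card G ≠ 0 := Nat.card_pos.ne'
  have hm0 : m ≠ 0 := fun h => by rw [h, zero_dvd_iff] at hm; exact hG0 hm
  set s := (Nat.card G).primeFactors.filter (fun q => q ∈ π) with hs
  have hsprime : ∀ q ∈ s, q.Prime := by
    intro q hq
    rw [hs, Finset.mem_filter] at hq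
    exact Nat.prime_of_mem_primeFactors hq.1
  have h1 : Nat.card {C : ConjClasses G // ∀ q : ℕ, q.Prime →
      (∃ g : G, ConjClasses.mk g = C ∧ q ∣ orderOf g) → q ∈ π} =
      Nat.card {C : ConjClasses G // ∃ g : G, ConjClasses.mk g = C ∧ piElt s g} := by
    apply Nat.card_congr
    refine Equiv.subtypeEquivRight ?_
    intro C
    constructor
    · intro h
      obtain ⟨g, hg⟩ := C.exists_rep
      refine ⟨g, hg, ?_⟩
      intro q hq hqd
      rw [hs, Finset.mem_filter]
      refine ⟨?_, h q hq ⟨g, hg, hqd⟩⟩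
      exact Nat.mem_primeFactors.mpr ⟨hq, hqd.trans (orderOf_dvd_natCard g), hG0⟩
    · rintro ⟨g, hg, hgs⟩ q hq ⟨g', hg', hqd⟩
      have hconj : IsConj g g' := by
        rw [← ConjClasses.mk_eq_mk_iff_isConj, hg, hg']
      obtain ⟨a, ha⟩ := isConj_iff.mp hconj
      rw [← ha, Helper7_Basic.orderOf_conj'] at hqd
      have := hgs q hq hqd
      rw [hs, Finset.mem_filter] at this
      exact this.2
  rw [h1]
  refine (card_classes_le s hsprime).trans ?_
  -- sPart s |G| ≤ m
  apply Nat.le_of_dvd (Nat.pos_of_ne_zero hm0)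
  have h2 : ∀ q ∈ s, (Nat.card G).factorization q = m.factorization q := by
    intro q hq
    rw [hs, Finset.mem_filter] at hq
    have hqp := Nat.prime_of_mem_primeFactors hq.1
    have h3 : (Nat.card G / m).factorization q = 0 :=
      Nat.factorization_eq_zero_of_not_dvd (hm' q hq.2)
    rw [Nat.factorization_div hm] at h3
    have h4 : m.factorization q ≤ (Nat.card G).factorization q :=
      (Nat.factorization_le_iff_dvd hm0 hG0).mpr hm q
    have h5 : (Nat.card G).factorization q - m.factorization q = 0 := h3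
    omega
  have h3 : sPart s (Nat.card G) = ∏ q ∈ s, q ^ m.factorization q := by
    unfold sPart
    exact Finset.prod_congr rfl (fun q hq => by rw [h2 q hq])
  rw [h3]
  have h4 : s ⊆ m.primeFactors := by
    intro q hq
    have hq' := hq
    rw [hs, Finset.mem_filter] at hq'
    have hqp := Nat.prime_of_mem_primeFactors hq'.1
    have hqG : q ∣ Nat.card G := Nat.dvd_of_mem_primeFactors hq'.1
    rw [Nat.mem_primeFactors]
    refine ⟨hqp, ?_, hm0⟩
    have h5 : q ∣ m * (Nat.card G / m) := by rw [Nat.mul_div_cancel' hm]; exact hqG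
    rcases (Nat.Prime.dvd_mul hqp).mp h5 with h6 | h6
    · exact h6
    · exact absurd h6 (hm' q hq'.2)
  have h5 := Finset.prod_dvd_prod_of_subset s m.primeFactors (fun q => q ^ m.factorization q) h4
  have h6 : ∏ q ∈ m.primeFactors, q ^ m.factorization q = m :=
    Nat.prod_factorization_pow_eq_self hm0
  rw [h6] at h5
  exact h5

end Cfsg.Agent.S4106
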