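import Mathlib
import Cfsg.Statements.S4107
import Cfsg.Agent.Lib.Lead_Fitting
import Cfsg.Agent.Lib.Helper7_PCore

set_option autoImplicit false
open Cfsg

namespace Cfsg.Agent.S4107

open Cfsg.Agent.Lib

/-- the key lemma: if `O_p(G)` is not contained in `N`, then `N` is a `p`-group -/
theorem isPGroup_of_pCore_not_le {G : Type*} [Group G] [Finite G] (N : Subgroup G) [N.Normal]
    (heq : ∀ x : G, x ∉ N → ∀ n ∈ N, orderOf (x * n) = orderOf x)
    (p : ℕ) [Fact p.Prime] (hp : ¬ Cfsg.pCore p G ≤ N) : IsPGroup p N := by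
  obtain ⟨x, hxO, hxN⟩ := SetLike.not_le_iff_exists.mp hp
  have hOp : IsPGroup p (Cfsg.pCore p G) := Helper7_PCore.pCore_isPGroup p
  haveI hOn : (Cfsg.pCore p G).Normal := Helper7_PCore.pCore_normal p
  obtain ⟨k, hk⟩ := hOp ⟨x, hxO⟩
  have hxk : x ^ p ^ k = 1 := by
    have := congrArg Subtype.val hk
    simpa using this
  intro n
  have h1 : orderOf (x * (n : G)) = orderOf x := heq x hxN n n.2
  have h2 : (x * (n : G)) ^ p ^ k = 1 := by
    apply orderOf_dvd_iff_pow_eq_one.mp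
    rw [h1]
    exact orderOf_dvd_of_pow_eq_one hxk
  -- image in the quotient by `O_p(G)`
  have h3 : (QuotientGroup.mk' (Cfsg.pCore p G) (n : G)) ^ p ^ k = 1 := by
    have h4 : QuotientGroup.mk' (Cfsg.pCore p G) (x * (n : G)) =
        QuotientGroup.mk' (Cfsg.pCore p G) (n : G) := by
      rw [map_mul]
      have h5 : QuotientGroup.mk' (Cfsg.pCore p G) x = 1 := (QuotientGroup.eq_one_iff x).mpr hxO
      rw [h5, one_mul]
    rw [← h4, ← map_pow, h2, map_one]
  rw [← map_pow] at h3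
  have h5 : (n : G) ^ p ^ k ∈ Cfsg.pCore p G := (QuotientGroup.eq_one_iff _).mp h3
  obtain ⟨j, hj⟩ := hOp ⟨(n : G) ^ p ^ k, h5⟩
  have h6 : ((n : G) ^ p ^ k) ^ p ^ j = 1 := by
    have := congrArg Subtype.val hj
    simpa using this
  refine ⟨k + j, ?_⟩
  apply Subtype.ext
  rw [Subgroup.coe_pow, Subgroup.coe_one, pow_add, pow_mul]
  exact h6

/-- Let G be a finite group and N a proper non-trivial normal subgroup such that for every x outside N all elements of the coset xN have the same order as x. Then N ≤ F(G) or F(G) ≤ N, where F(G) is the Fitting subgroup; and if N is properly contained in F(G) then F(G) has prime-power order. -/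
theorem result {G : Type*} [Group G] [Finite G] (N : Subgroup G) [N.Normal] (hN1 : N ≠ ⊥) (hN2 : N ≠ ⊤)
    (heq : ∀ x : G, x ∉ N → ∀ n ∈ N, orderOf (x * n) = orderOf x) :
    (N ≤ Cfsg.fittingSubgroup G ∨ Cfsg.fittingSubgroup G ≤ N) ∧
    (N < Cfsg.fittingSubgroup G → IsPrimePow (Nat.card (Cfsg.fittingSubgroup G))) := by
  classical
  rw [Lead_Fitting.fitting_eq]
  have hex : ¬ Lead_Fitting.F0 G ≤ N → ∃ p : Nat.Primes, ¬ Cfsg.pCore (p : ℕ) G ≤ N := by
    intro h
    by_contra hall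
    push Not at hall
    exact h (iSup_le hall)
  have hNle : ∀ p : Nat.Primes, ¬ Cfsg.pCore (p : ℕ) G ≤ N → N ≤ Cfsg.pCore (p : ℕ) G := by
    intro p hp
    haveI : Fact (p : ℕ).Prime := ⟨p.2⟩
    exact Helper7_PCore.le_pCore inferInstance (isPGroup_of_pCore_not_le N heq p hp)
  refine ⟨?_, ?_⟩
  · by_cases hF : Lead_Fitting.F0 G ≤ N
    · exact Or.inr hF
    · left
      obtain ⟨p, hp⟩ := hex hF
      exact (hNle p hp).trans (le_iSup (fun q : Nat.Primes => Cfsg.pCore (q : ℕ) G) p)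
  · intro hlt
    have hF : ¬ Lead_Fitting.F0 G ≤ N := fun h => (lt_irrefl _ (lt_of_lt_of_le hlt h))
    obtain ⟨p, hp⟩ := hex hF
    haveI : Fact (p : ℕ).Prime := ⟨p.2⟩
    have hNp : IsPGroup (p : ℕ) N := isPGroup_of_pCore_not_le N heq p hp
    -- all other cores are trivial
    have hother : ∀ r : Nat.Primes, Cfsg.pCore (r : ℕ) G ≤ Cfsg.pCore (p : ℕ) G := by
      intro r
      by_cases hrp : r = p
      · rw [hrp]
      · haveI : Fact (r : ℕ).Prime := ⟨r.2⟩
        have hne : (r : ℕ) ≠ (p : ℕ) := fun h => hrp (Subtype.ext h)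
        have hOr : IsPGroup (r : ℕ) (Cfsg.pCore (r : ℕ) G) := Helper7_PCore.pCore_isPGroup r
        by_cases hrN : Cfsg.pCore (r : ℕ) G ≤ N
        · have h1 : IsPGroup (p : ℕ) (Cfsg.pCore (r : ℕ) G) := hNp.to_le hrN
          have h2 := IsPGroup.disjoint_of_ne (r : ℕ) (p : ℕ) hne _ _ hOr h1
          rw [disjoint_self] at h2
          rw [h2]
          exact bot_le
        · exfalso
          have h1 : IsPGroup (r : ℕ) N := isPGroup_of_pCore_not_le N heq r hrN
          have h2 := IsPGroup.disjoint_of_ne (r : ℕ) (p : ℕ) hne _ _ h1 hNp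
          rw [disjoint_self] at h2
          exact hN1 h2
    have hFeq : Lead_Fitting.F0 G = Cfsg.pCore (p : ℕ) G := by
      apply le_antisymm
      · exact iSup_le hother
      · exact le_iSup (fun q : Nat.Primes => Cfsg.pCore (q : ℕ) G) p
    rw [hFeq]
    have hOp : IsPGroup (p : ℕ) (Cfsg.pCore (p : ℕ) G) := Helper7_PCore.pCore_isPGroup p
    obtain ⟨k, hk⟩ := IsPGroup.iff_card.mp hOp
    rw [hk]
    have hk0 : k ≠ 0 := by
      intro h0
      rw [h0, pow_zero] at hk
      have h1 : Cfsg.pCore (p : ℕ) G = ⊥ := Subgroup.card_eq_one.mp hk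
      have h2 := hNle p hp
      rw [h1, le_bot_iff] at h2
      exact hN1 h2
    exact (Nat.Prime.isPrimePow p.2).pow hk0

end Cfsg.Agent.S4107
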