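import Mathlib
import Cfsg.Statements.S4108
import Cfsg.Agent.Lib.Helper7_FrobInternal

set_option autoImplicit false
open Cfsg

namespace Cfsg.Agent.S4108

open Cfsg.Agent.Lib.Helper7_FrobInternal

theorem result {G : Type*} [Group G] [Finite G] (N : Subgroup G) [N.Normal] (hN1 : N ≠ ⊥) (hN2 : N ≠ ⊤)
    (heq : ∀ x : G, x ∉ N → ∀ n ∈ N, orderOf (x * n) = orderOf x)
    (p : ℕ) [Fact p.Prime] (hNp : IsPGroup p N) :
    ∀ H : Subgroup G, H ≠ ⊥ → (Nat.card H).Coprime p →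
      Cfsg.IsFrobeniusComplement (H.subgroupOf (N ⊔ H)) ∧ Cfsg.frobeniusKernel (H.subgroupOf (N ⊔ H)) = (N.subgroupOf (N ⊔ H) : Set ↥(N ⊔ H)) := by
  intro H hH hcop
  have hp : p.Prime := Fact.out
  -- N ∩ H = 1
  have hNH : N ⊓ H = ⊥ := by
    obtain ⟨k, hk⟩ := IsPGroup.iff_card.mp hNp
    have hd1 : Nat.card (N ⊓ H : Subgroup G) ∣ p ^ k := hk ▸ Subgroup.card_dvd_of_le inf_le_left
    have hd2 : Nat.card (N ⊓ H : Subgroup G) ∣ Nat.card H := Subgroup.card_dvd_of_le inf_le_right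
    have hc : Nat.Coprime (p ^ k) (Nat.card H) := (Nat.Coprime.pow_right k hcop).symm
    exact Subgroup.card_eq_one.mp (Nat.eq_one_of_dvd_coprimes hc hd1 hd2)
  have hfpfG : ∀ h ∈ H, h ≠ 1 → ∀ n ∈ N, h * n = n * h → n = 1 := by
    intro h hh h1 n hn hcomm
    have hhN : h ∉ N := by
      intro hhN
      apply h1
      have : h ∈ N ⊓ H := ⟨hhN, hh⟩
      rw [hNH] at this
      exact this
    have ho := heq h hhN n hn
    obtain ⟨k, hk⟩ := (IsPGroup.iff_orderOf.mp hNp) ⟨n, hn⟩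
    rw [Subgroup.orderOf_mk] at hk
    have hoh : orderOf h ∣ Nat.card H := by
      have := orderOf_dvd_natCard (⟨h, hh⟩ : H)
      rwa [Subgroup.orderOf_mk] at this
    have hc : Nat.Coprime (orderOf h) (orderOf n) := by
      rw [hk]
      exact Nat.Coprime.pow_right k (Nat.Coprime.coprime_dvd_left hoh hcop)
    have hmul := (show Commute h n from hcomm).orderOf_mul_eq_mul_orderOf_of_coprime hc
    rw [ho] at hmul
    have hpos : 0 < orderOf h := orderOf_pos h
    have h2 : orderOf n = 1 := by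
      have : orderOf h * 1 = orderOf h * orderOf n := by rw [mul_one]; exact hmul
      exact (Nat.eq_of_mul_eq_mul_left hpos this).symm
    exact orderOf_eq_one_iff.mp h2
  have hNle : N ≤ N ⊔ H := le_sup_left
  have hHle : H ≤ N ⊔ H := le_sup_right
  refine frobenius_of_fpf (N.subgroupOf (N ⊔ H)) (H.subgroupOf (N ⊔ H)) ?_ ?_ ?_ ?_ ?_
  · rw [← Subgroup.subgroupOf_sup hNle hHle, Subgroup.subgroupOf_self]
  · rw [Subgroup.eq_bot_iff_forall]
    intro x hx
    rw [Subgroup.mem_inf, Subgroup.mem_subgroupOf, Subgroup.mem_subgroupOf] at hx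
    have : (x : G) ∈ N ⊓ H := ⟨hx.1, hx.2⟩
    rw [hNH, Subgroup.mem_bot] at this
    exact Subtype.ext this
  · intro h
    rw [Subgroup.subgroupOf_eq_bot] at h
    apply hN1
    have h2 : N ⊓ (N ⊔ H) = ⊥ := disjoint_iff.mp h
    have h3 : N ≤ N ⊓ (N ⊔ H) := le_inf le_rfl hNle
    rw [h2] at h3
    exact le_bot_iff.mp h3
  · intro h
    rw [Subgroup.subgroupOf_eq_bot] at h
    apply hH
    have h2 : H ⊓ (N ⊔ H) = ⊥ := disjoint_iff.mp h
    have h3 : H ≤ H ⊓ (N ⊔ H) := le_inf le_rfl hHle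
    rw [h2] at h3
    exact le_bot_iff.mp h3
  · intro h hh h1 n hn hcomm
    rw [Subgroup.mem_subgroupOf] at hh hn
    have h1' : (h : G) ≠ 1 := fun e => h1 (Subtype.ext e)
    have hcomm' : (h : G) * (n : G) = (n : G) * (h : G) := congrArg Subtype.val hcomm
    exact Subtype.ext (hfpfG _ hh h1' _ hn hcomm')

end Cfsg.Agent.S4108
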