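import Mathlib
import Cfsg.Statements.S4112
import Cfsg.Agent.Lib.Helper7_Supplement

set_option autoImplicit false
open Cfsg

namespace Cfsg.Agent.S4112

open Cfsg.Agent.Lib.Helper7_Supplement

theorem mem_centralizer_singleton {G : Type*} [Group G] (x g : G) :
    g ∈ Subgroup.centralizer ({x} : Set G) ↔ g * x = x * g := by
  rw [Subgroup.mem_centralizer_iff]
  constructor
  · intro h; exact (h x rfl).symm
  · intro h y hy
    rw [Set.mem_singleton_iff] at hy
    rw [hy]; exact h.symm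

/-- (1) ⇒ (2) -/
theorem one_imp_two {G : Type*} [Group G] [Finite G] (N M : Subgroup G) [N.Normal] [hMn : M.Normal]
    (h1 : ∀ x ∈ M, x ≠ 1 → Subgroup.centralizer ({x} : Set G) ≤ N) :
    N.index.Coprime (Nat.card M) := by
  by_contra hc
  obtain ⟨p, hp, hpN, hpM⟩ := Nat.Prime.not_coprime_iff_dvd.mp hc
  haveI : Fact p.Prime := ⟨hp⟩
  obtain ⟨S⟩ : Nonempty (Sylow p G) := inferInstance
  -- S is not contained in N
  have hSN : ¬ (S : Subgroup G) ≤ N := by
    intro hle
    have h2 : N.index ∣ (S : Subgroup G).index := Subgroup.index_dvd_of_le hle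
    exact S.not_dvd_index (hpN.trans h2)
  obtain ⟨g, hgS, hgN⟩ := SetLike.not_le_iff_exists.mp hSN
  -- S acts on M by conjugation
  letI : MulAction (S : Subgroup G) M :=
    MulAction.compHom M ((MulAut.conjNormal (H := M)).comp (S : Subgroup G).subtype)
  have hsm : ∀ (s : (S : Subgroup G)) (m : M), ((s • m : M) : G) = (s : G) * (m : G) * (s : G)⁻¹ := by
    intro s m
    rfl
  have hfix1 : (1 : M) ∈ MulAction.fixedPoints (S : Subgroup G) M := by
    intro s
    apply Subtype.ext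
    rw [hsm]
    simp
  obtain ⟨b, hb, hb1⟩ := S.isPGroup'.exists_fixed_point_of_prime_dvd_card_of_fixed_point M hpM hfix1
  have hb' := hb ⟨g, hgS⟩
  have hb'' : g * (b : G) * g⁻¹ = (b : G) := by
    have := congrArg Subtype.val hb'
    rwa [hsm] at this
  have hbne : (b : G) ≠ 1 := by
    intro h
    apply hb1
    apply Subtype.ext
    exact h.symm
  apply hgN
  apply h1 b b.2 hbne
  rw [mem_centralizer_singleton]
  calc g * (b : G) = (g * (b : G) * g⁻¹) * g := by group
    _ = (b : G) * g := by rw [hb'']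

/-- (2) ⇒ (1) -/
theorem two_imp_one {G : Type*} [Group G] [Finite G] (N M : Subgroup G) [N.Normal] [M.Normal]
    (hcam : ∀ g : G, g ∉ N → ∀ m ∈ M, ∃ x : G, x * g * x⁻¹ = g * m)
    (h2 : N.index.Coprime (Nat.card M)) :
    ∀ x ∈ M, x ≠ 1 → Subgroup.centralizer ({x} : Set G) ≤ N := by
  intro x hxM hx1 g hg
  rw [mem_centralizer_singleton] at hg
  by_contra hgN
  -- a prime dividing the order of x
  have hox : orderOf x ≠ 1 := by
    intro h; exact hx1 (orderOf_eq_one_iff.mp h)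
  set p := (orderOf x).minFac with hpdef
  have hp : p.Prime := Nat.minFac_prime hox
  haveI : Fact p.Prime := ⟨hp⟩
  have hpx : p ∣ orderOf x := Nat.minFac_dvd _
  have hoxM : orderOf x ∣ Nat.card M := by
    have h := orderOf_dvd_natCard (⟨x, hxM⟩ : M)
    rwa [Subgroup.orderOf_mk] at h
  have hpM : p ∣ Nat.card M := hpx.trans hoxM
  have hpN : ¬ p ∣ N.index := by
    intro h
    exact hp.one_lt.ne' (Nat.eq_one_of_dvd_coprimes h2 h hpM)
  set x' := x ^ (orderOf x / p) with hx'def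
  have hox' : orderOf x' = p := orderOf_pow_orderOf_div (orderOf_pos x).ne' hpx
  have hx'M : x' ∈ M := M.pow_mem hxM _
  have hcomm : Commute g x := hg
  -- decompose the order of g
  obtain ⟨k, o', ho'p, ho⟩ := Nat.exists_eq_pow_mul_and_not_dvd (orderOf_pos g).ne' p hp.ne_one
  set g₂ := g ^ (p ^ k) with hg₂def
  have hog₂ : orderOf g₂ = o' := by
    rw [hg₂def, orderOf_pow_of_dvd (pow_ne_zero k hp.ne_zero) (Dvd.intro _ ho.symm), ho]
    exact Nat.mul_div_cancel_left _ (pow_pos hp.pos k)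
  have hg₂N : g₂ ∉ N := by
    intro h
    apply hgN
    have h3 : (QuotientGroup.mk g : G ⧸ N) ^ (p ^ k) = 1 := by
      rw [← QuotientGroup.mk_pow]
      exact (QuotientGroup.eq_one_iff _).mpr h
    have h4 : orderOf (QuotientGroup.mk g : G ⧸ N) ∣ p ^ k := orderOf_dvd_of_pow_eq_one h3
    have h5 : orderOf (QuotientGroup.mk g : G ⧸ N) ∣ N.index := by
      rw [Subgroup.index_eq_card]; exact orderOf_dvd_natCard _
    have hcop : Nat.Coprime (p ^ k) N.index :=
      Nat.Coprime.pow_left k ((Nat.Prime.coprime_iff_not_dvd hp).mpr hpN)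
    have h6 := Nat.eq_one_of_dvd_coprimes hcop h4 h5
    exact (QuotientGroup.eq_one_iff g).mp (orderOf_eq_one_iff.mp h6)
  obtain ⟨y, hy⟩ := hcam g₂ hg₂N x' hx'M
  have hord : orderOf (g₂ * x') = orderOf g₂ := by
    rw [← hy]
    exact orderOf_injective (MulAut.conj y).toMonoidHom (MulAut.conj y).injective g₂
  have hcomm2 : Commute g₂ x' := (hcomm.pow_pow _ _)
  have hcop2 : Nat.Coprime (orderOf g₂) (orderOf x') := by
    rw [hog₂, hox']
    exact ((Nat.Prime.coprime_iff_not_dvd hp).mpr ho'p).symm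
  have hmul := hcomm2.orderOf_mul_eq_mul_orderOf_of_coprime hcop2
  rw [hord, hox'] at hmul
  have hpos : 0 < orderOf g₂ := orderOf_pos g₂
  have : p = 1 := by
    have h7 : orderOf g₂ * 1 = orderOf g₂ * p := by rw [mul_one]; exact hmul
    exact (Nat.eq_of_mul_eq_mul_left hpos h7).symm
  exact hp.ne_one this

theorem result {G : Type*} [Group G] [Finite G] (N M : Subgroup G) [N.Normal] [M.Normal] (hMN : M ≤ N) (hM1 : M ≠ ⊥) (hN2 : N ≠ ⊤)
    (hcam : ∀ g : G, g ∉ N → ∀ m ∈ M, ∃ x : G, x * g * x⁻¹ = g * m) :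
    ((∀ x ∈ M, x ≠ 1 → Subgroup.centralizer ({x} : Set G) ≤ N) ↔ N.index.Coprime (Nat.card M)) ∧
    ((∀ x ∈ M, x ≠ 1 → Subgroup.centralizer ({x} : Set G) ≤ N) → ∃ H : Subgroup G, H ⊔ N = ⊤ ∧ H ⊓ M = ⊥) := by
  refine ⟨⟨one_imp_two N M, two_imp_one N M hcam⟩, ?_⟩
  intro h1
  have h2 := one_imp_two N M h1
  obtain ⟨H, hH1, hH2⟩ := exists_supplement N (Nat.card M) h2
  refine ⟨H, hH1, ?_⟩
  have hd1 : Nat.card (H ⊓ M : Subgroup G) ∣ Nat.card H := Subgroup.card_dvd_of_le inf_le_left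
  have hd2 : Nat.card (H ⊓ M : Subgroup G) ∣ Nat.card M := Subgroup.card_dvd_of_le inf_le_right
  have := Nat.eq_one_of_dvd_coprimes hH2 hd1 hd2
  exact Subgroup.card_eq_one.mp this

end Cfsg.Agent.S4112
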