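import Mathlib
import Cfsg.Statements.S4113
import Cfsg.Agent.S4244

set_option autoImplicit false
open Cfsg

namespace Cfsg.Agent.S4113

open Subgroup

variable {G : Type*} [Group G]

/-- a subgroup all of whose prime-power-order elements lie in `N` is contained in `N` -/
theorem le_of_prime_power_elements [Finite G] (N C : Subgroup G)
    (h : ∀ q : ℕ, q.Prime → ∀ c ∈ C, (∃ k : ℕ, orderOf c = q ^ k) → c ∈ N) : C ≤ N := by
  by_contra hcon
  have h1 : N.relIndex C ≠ 1 := by
    intro h1
    exact hcon (Subgroup.relIndex_eq_one.mp h1)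
  obtain ⟨q, hq, hqd⟩ := Nat.exists_prime_and_dvd h1
  haveI : Fact q.Prime := ⟨hq⟩
  obtain ⟨Q⟩ : Nonempty (Sylow q C) := inferInstance
  have h2 : (Q : Subgroup C) ≤ N.subgroupOf C := by
    intro y hy
    rw [mem_subgroupOf]
    apply h q hq _ y.2
    obtain ⟨k, hk⟩ := (IsPGroup.iff_orderOf.mp Q.isPGroup') ⟨y, hy⟩
    refine ⟨k, ?_⟩
    have : orderOf (y : G) = orderOf (⟨y, hy⟩ : (Q : Subgroup C)) :=
      (Subgroup.orderOf_coe y).trans (Subgroup.orderOf_coe (⟨y, hy⟩ : (Q : Subgroup C)))
    rw [this, hk]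
  have h3 : (N.subgroupOf C).index ∣ (Q : Subgroup C).index := Subgroup.index_dvd_of_le h2
  exact Q.not_dvd_index (dvd_trans hqd h3)

/-- centralizers in `H` of nontrivial elements of `M` lie in `N` -/
theorem cent_le (N M H : Subgroup G) (hHM' : H ⊓ M = ⊥)
    (hyp : ∀ g : G, g ∉ H → H ⊓ H.map (MulAut.conj g).toMonoidHom ≤ N)
    (m : G) (hm : m ∈ M) (hm1 : m ≠ 1) (h : G) (hh : h ∈ H) (hc : h * m = m * h) : h ∈ N := by
  have hmH : m ∉ H := by
    intro hmH
    have : m ∈ H ⊓ M := ⟨hmH, hm⟩
    rw [hHM'] at this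
    exact hm1 (Subgroup.mem_bot.mp this)
  apply hyp m hmH
  refine ⟨hh, ?_⟩
  show h ∈ H.map (MulAut.conj m).toMonoidHom
  rw [Subgroup.mem_map]
  refine ⟨h, hh, ?_⟩
  simp only [MulEquiv.toMonoidHom_eq_coe, MonoidHom.coe_coe, MulAut.conj_apply]
  rw [← hc]; group

theorem result {G : Type*} [Group G] [Finite G] (N M : Subgroup G) [N.Normal] [M.Normal] (hMN : M ≤ N) (hM1 : M ≠ ⊥) (hN2 : N ≠ ⊤)
    (H : Subgroup G) (hHM : H ⊔ M = ⊤) (hHM' : H ⊓ M = ⊥) :
    (∀ x ∈ M, x ≠ 1 → Subgroup.centralizer ({x} : Set G) ≤ N) ↔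
      (H ≠ ⊥ ∧ H ≠ ⊤ ∧ H ⊓ N < H ∧ ∀ g : G, g ∉ H → H ⊓ H.map (MulAut.conj g).toMonoidHom ≤ N) := by
  constructor
  · intro hyp
    refine ⟨?_, ?_, ?_, ?_⟩
    · rintro rfl
      rw [bot_sup_eq] at hHM
      apply hN2
      rw [eq_top_iff, ← hHM]; exact hMN
    · rintro rfl
      rw [top_inf_eq] at hHM'
      exact hM1 hHM'
    · refine lt_of_le_of_ne inf_le_left ?_
      intro hHN
      have hHN' : H ≤ N := by rw [← hHN]; exact inf_le_right
      apply hN2
      rw [eq_top_iff, ← hHM]
      exact sup_le hHN' hMN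
    · intro g hg y hy
      obtain ⟨hyH, hy2⟩ := hy
      have hyH : y ∈ H := hyH
      have hy2 : y ∈ H.map (MulAut.conj g).toMonoidHom := hy2
      rw [Subgroup.mem_map] at hy2
      obtain ⟨h', hh', hy2⟩ := hy2
      simp only [MulEquiv.toMonoidHom_eq_coe, MonoidHom.coe_coe, MulAut.conj_apply] at hy2
      have hgm : g ∈ H ⊔ M := by rw [hHM]; trivial
      rw [Subgroup.mem_sup_of_normal_right] at hgm
      obtain ⟨h, hh, m, hm, rfl⟩ := hgm
      have hm1 : m ≠ 1 := by
        rintro rfl
        apply hg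
        simpa using hh
      -- m h' m⁻¹ = h⁻¹ y h ∈ H
      have e1 : m * h' * m⁻¹ = h⁻¹ * y * h := by
        rw [← hy2]; group
      have e2 : m * h' * m⁻¹ ∈ H := by
        rw [e1]; exact H.mul_mem (H.mul_mem (H.inv_mem hh) hyH) hh
      have e3 : m * h' * m⁻¹ * h'⁻¹ ∈ H ⊓ M := by
        refine ⟨H.mul_mem e2 (H.inv_mem hh'), ?_⟩
        have : m * h' * m⁻¹ * h'⁻¹ = m * (h' * m⁻¹ * h'⁻¹) := by group
        rw [this]
        exact M.mul_mem hm (‹M.Normal›.conj_mem _ (M.inv_mem hm) h')
      rw [hHM'] at e3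
      have e4 : m * h' * m⁻¹ * h'⁻¹ = 1 := Subgroup.mem_bot.mp e3
      have e5 : h' ∈ Subgroup.centralizer ({m} : Set G) := by
        rw [Subgroup.mem_centralizer_iff]
        intro z hz
        rw [Set.mem_singleton_iff] at hz
        subst hz
        have : z * h' = (z * h' * z⁻¹ * h'⁻¹) * (h' * z) := by group
        rw [this, e4, one_mul]
      have e6 : h' ∈ N := hyp m hm hm1 e5
      rw [← hy2]
      exact ‹N.Normal›.conj_mem _ e6 _
  · rintro ⟨-, -, -, hyp⟩ x hx hx1
    have hcent := cent_le N M H hHM' hyp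
    apply le_of_prime_power_elements
    intro q hq c hc ⟨k, hk⟩
    haveI : Fact q.Prime := ⟨hq⟩
    have hcP : IsPGroup q (Subgroup.zpowers c) := by
      rw [IsPGroup.iff_card]
      exact ⟨k, by rw [Nat.card_zpowers, hk]⟩
    by_cases hqM : q ∣ Nat.card M
    · -- c = h * m'
      have hgm : c ∈ H ⊔ M := by rw [hHM]; trivial
      rw [Subgroup.mem_sup_of_normal_right] at hgm
      obtain ⟨h, hh, m', hm', rfl⟩ := hgm
      -- h is a q-element
      have hinj : Function.Injective ((QuotientGroup.mk' M).comp H.subtype) := by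
        rw [← MonoidHom.ker_eq_bot_iff, eq_bot_iff]
        intro z hz
        rw [MonoidHom.mem_ker] at hz
        simp only [MonoidHom.coe_comp, QuotientGroup.coe_mk', coe_subtype, Function.comp_apply,
          QuotientGroup.eq_one_iff] at hz
        have : (z : G) ∈ H ⊓ M := ⟨z.2, hz⟩
        rw [hHM'] at this
        rw [Subgroup.mem_bot]
        exact Subtype.ext (Subgroup.mem_bot.mp this)
      have ho1 : orderOf h = orderOf (QuotientGroup.mk' M h) := by
        have := orderOf_injective _ hinj (⟨h, hh⟩ : H)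
        rw [Subgroup.orderOf_mk] at this
        rw [← this]; rfl
      have ho2 : QuotientGroup.mk' M h = QuotientGroup.mk' M (h * m') := by
        rw [map_mul]
        have : QuotientGroup.mk' M m' = 1 := by
          rw [QuotientGroup.mk'_apply, QuotientGroup.eq_one_iff]; exact hm'
        rw [this, mul_one]
      have ho3 : orderOf h ∣ q ^ k := by
        rw [ho1, ho2, ← hk]
        exact orderOf_map_dvd _ _
      have hhP : IsPGroup q (Subgroup.zpowers h) := by
        rw [IsPGroup.iff_card]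
        obtain ⟨j, -, hj⟩ := (Nat.dvd_prime_pow hq).mp ho3
        exact ⟨j, by rw [Nat.card_zpowers, hj]⟩
      -- action on M
      letI : MulAction (Subgroup.zpowers h) M :=
        MulAction.compHom M ((MulAut.conjNormal (H := M)).comp (Subgroup.zpowers h).subtype)
      have hsmul : ∀ (d : Subgroup.zpowers h) (m : M), ((d • m : M) : G) = d * m * (d : G)⁻¹ := by
        intro d m
        rfl
      have h1fix : (1 : M) ∈ MulAction.fixedPoints (Subgroup.zpowers h) M := by
        intro d
        apply Subtype.ext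
        rw [hsmul]
        simp
      obtain ⟨m, hmfix, hm1⟩ := hhP.exists_fixed_point_of_prime_dvd_card_of_fixed_point M hqM h1fix
      have hm2 : h * (m : G) = (m : G) * h := by
        have := hmfix ⟨h, Subgroup.mem_zpowers h⟩
        have := congrArg (Subtype.val) this
        rw [hsmul] at this
        simp only at this
        calc h * (m : G) = (h * m * h⁻¹) * h := by group
          _ = m * h := by rw [this]
      have hhN : h ∈ N := hcent m m.2 (fun e => hm1 (Subtype.ext e).symm) h hh hm2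
      exact N.mul_mem hhN (hMN hm')
    · -- fixed coset
      have hidx : H.index = Nat.card M := by
        have := Cfsg.Agent.S4244.second_iso_abs M H
        rw [sup_comm, hHM, Subgroup.relIndex_top_right, inf_comm, hHM',
          Subgroup.relIndex_bot_left] at this
        exact this
      have hnd : ¬ q ∣ Nat.card (G ⧸ H) := by
        rw [← Subgroup.index_eq_card, hidx]; exact hqM
      obtain ⟨gH, hfix⟩ := hcP.nonempty_fixed_point_of_prime_not_dvd_card (G ⧸ H) hnd
      obtain ⟨g, rfl⟩ := QuotientGroup.mk_surjective gH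
      have h1 := hfix ⟨c, Subgroup.mem_zpowers c⟩
      have h2 : ((c * g : G) : G ⧸ H) = (g : G ⧸ H) := h1
      have h3 : g⁻¹ * c * g ∈ H := by
        have := QuotientGroup.eq.mp h2.symm
        simpa [mul_assoc] using this
      have hx' : g⁻¹ * x * g ∈ M := by
        have := ‹M.Normal›.conj_mem x hx g⁻¹
        simpa using this
      have hx'1 : g⁻¹ * x * g ≠ 1 := by
        intro e
        apply hx1
        have : x = g * (g⁻¹ * x * g) * g⁻¹ := by group
        rw [this, e]; group
      have hcx : c * x = x * c := by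
        rw [Subgroup.mem_centralizer_iff] at hc
        exact (hc x rfl).symm
      have hcomm : (g⁻¹ * c * g) * (g⁻¹ * x * g) = (g⁻¹ * x * g) * (g⁻¹ * c * g) := by
        calc (g⁻¹ * c * g) * (g⁻¹ * x * g) = g⁻¹ * (c * x) * g := by group
          _ = g⁻¹ * (x * c) * g := by rw [hcx]
          _ = _ := by group
      have h4 : g⁻¹ * c * g ∈ N := hcent _ hx' hx'1 _ h3 hcomm
      have : c = g * (g⁻¹ * c * g) * g⁻¹ := by group
      rw [this]
      exact ‹N.Normal›.conj_mem _ h4 _

end Cfsg.Agent.S4113
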