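import Mathlib
import Cfsg.Statements.S4116
import Cfsg.Agent.Lib.Helper7_Basic
import Cfsg.Agent.Lib.Lead_Coprime

set_option autoImplicit false
open Cfsg

namespace Cfsg.Agent.S4116

open Subgroup
open scoped Pointwise
open Cfsg.Agent.Lib.Helper7_Basic

variable {G : Type*} [Group G]

/-- the set of nonidentity elements of `K` lying in a `K`-conjugate of `A` -/
def covered (K A : Subgroup G) : Set G :=
  {x : G | x ∈ K ∧ x ≠ 1 ∧ ∃ k ∈ K, k⁻¹ * x * k ∈ A}

/-- lower bound for the number of elements covered by the conjugates of a malnormal subgroup -/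
theorem card_covered_ge [Finite G] (K A : Subgroup G) (hAK : A ≤ K)
    (hmal : ∀ k ∈ K, k ∉ A → ∀ y ∈ A, k * y * k⁻¹ ∈ A → y = 1) :
    A.relIndex K * (Nat.card A - 1) ≤ Nat.card (covered K A) := by
  classical
  have h1 : Nat.card {y : A // y ≠ 1} = Nat.card A - 1 := by
    have := Fintype.ofFinite A
    rw [Nat.card_eq_fintype_card, Nat.card_eq_fintype_card, Fintype.card_subtype_compl]
    simp
  have h2 : A.relIndex K = Nat.card (K ⧸ A.subgroupOf K) := by
    rw [relIndex, index_eq_card]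
  rw [← h1, h2, ← Nat.card_prod]
  let f : (K ⧸ A.subgroupOf K) × {y : A // y ≠ 1} → covered K A := fun cy =>
    ⟨((Quotient.out cy.1 : K) : G) * (cy.2.1 : G) * ((Quotient.out cy.1 : K) : G)⁻¹, by
      refine ⟨K.mul_mem (K.mul_mem (Quotient.out cy.1 : K).2 (hAK cy.2.1.2))
        (K.inv_mem (Quotient.out cy.1 : K).2), ?_, (Quotient.out cy.1 : K), (Quotient.out cy.1 : K).2, ?_⟩
      · intro h
        apply cy.2.2
        have : (cy.2.1 : G) = 1 := by
          have h' := congrArg (fun z => ((Quotient.out cy.1 : K) : G)⁻¹ * z *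
            ((Quotient.out cy.1 : K) : G)) h
          simpa [mul_assoc] using h'
        exact Subtype.ext this
      · have : ((Quotient.out cy.1 : K) : G)⁻¹ * (((Quotient.out cy.1 : K) : G) * (cy.2.1 : G) *
            ((Quotient.out cy.1 : K) : G)⁻¹) * ((Quotient.out cy.1 : K) : G) = (cy.2.1 : G) := by
          group
        rw [this]
        exact cy.2.1.2⟩
  apply Nat.card_le_card_of_injective f
  rintro ⟨c, y⟩ ⟨c', y'⟩ h
  have h' : ((Quotient.out c : K) : G) * (y.1 : G) * ((Quotient.out c : K) : G)⁻¹ =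
      ((Quotient.out c' : K) : G) * (y'.1 : G) * ((Quotient.out c' : K) : G)⁻¹ :=
    congrArg Subtype.val h
  -- g := out c'⁻¹ * out c conjugates y into A
  have h3 : (((Quotient.out c' : K) : G)⁻¹ * ((Quotient.out c : K) : G)) * (y.1 : G) *
      (((Quotient.out c' : K) : G)⁻¹ * ((Quotient.out c : K) : G))⁻¹ = (y'.1 : G) := by
    have : (y'.1 : G) = ((Quotient.out c' : K) : G)⁻¹ * (((Quotient.out c : K) : G) * (y.1 : G) *
        ((Quotient.out c : K) : G)⁻¹) * ((Quotient.out c' : K) : G) := by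
      rw [h']; group
    rw [this]; group
  have h4 : ((Quotient.out c' : K) : G)⁻¹ * ((Quotient.out c : K) : G) ∈ A := by
    by_contra hcon
    have hk : ((Quotient.out c' : K) : G)⁻¹ * ((Quotient.out c : K) : G) ∈ K :=
      K.mul_mem (K.inv_mem (Quotient.out c' : K).2) (Quotient.out c : K).2
    have := hmal _ hk hcon (y.1 : G) y.1.2 (by rw [h3]; exact y'.1.2)
    exact y.2 (Subtype.ext this)
  have h5 : c' = c := by
    rw [← Quotient.out_eq c', ← Quotient.out_eq c]
    exact QuotientGroup.eq.mpr (by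
      rw [mem_subgroupOf]
      simpa using h4)
  subst h5
  have h6 : (y.1 : G) = (y'.1 : G) := by
    have := h'
    have e := congrArg (fun z => ((Quotient.out c' : K) : G)⁻¹ * z * ((Quotient.out c' : K) : G)) this
    simpa [mul_assoc] using e
  have h7 : y = y' := Subtype.ext (Subtype.ext h6)
  rw [h7]

/-- conjugating by an element of the normalizer fixes the subgroup -/
theorem conj_smul_eq_of_mem_normalizer (H : Subgroup G) (g : G)
    (hg : g ∈ normalizer (H : Set G)) : MulAut.conj g • H = H := by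
  ext x
  rw [mem_conj_smul]
  have := (mem_normalizer_iff.mp hg) (g⁻¹ * x * g)
  rw [this]
  have e : g * (g⁻¹ * x * g) * g⁻¹ = x := by group
  rw [e]

theorem conj_mul_smul (H : Subgroup G) (a b : G) :
    MulAut.conj (a * b) • H = MulAut.conj a • MulAut.conj b • H := by
  rw [map_mul, mul_smul]

theorem card_conj_smul (H : Subgroup G) (a : G) : Nat.card (MulAut.conj a • H : Subgroup G) = Nat.card H :=
  (Nat.card_congr (Subgroup.equivSMul (MulAut.conj a) H).toEquiv).symm

theorem index_conj_smul (H : Subgroup G) (a : G) : (MulAut.conj a • H : Subgroup G).index = H.index := by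
  rw [Subgroup.pointwise_smul_def]
  exact Subgroup.index_map_equiv H (MulAut.conj a)

/-- Let G be a finite group with a subgroup H whose order is coprime to its index (a Hall subgroup) and which meets each of its conjugates by elements outside N_G(H) trivially. Then every subgroup of G whose order is divisible only by primes dividing the order of H lies in a conjugate of H. -/
theorem result {G : Type*} [Group G] [Finite G] (H : Subgroup G)
    (hHall : (Nat.card H).Coprime H.index) (hTI : Cfsg.IsTISubset (H : Set G))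
    (K : Subgroup G) (hK : ∀ q : ℕ, q.Prime → q ∣ Nat.card K → q ∣ Nat.card H) :
    ∃ g : G, K ≤ H.map (MulAut.conj g).toMonoidHom := by
  classical
  suffices h : ∃ g : G, K ≤ MulAut.conj g • H by
    obtain ⟨g, hg⟩ := h
    exact ⟨g, hg⟩
  by_cases hK1 : K = ⊥
  · exact ⟨1, by rw [hK1]; exact bot_le⟩
  have hnotdvd : ∀ q : ℕ, q.Prime → q ∣ Nat.card K → ¬ q ∣ H.index := by
    intro q hq hqK hqi
    have h1 := Nat.dvd_gcd (hK q hq hqK) hqi
    rw [hHall] at h1
    exact hq.one_lt.ne' (Nat.dvd_one.mp h1)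
  -- F1: a nonidentity element lies in at most one conjugate
  have F1 : ∀ (c₁ c₂ y : G), y ≠ 1 → y ∈ MulAut.conj c₁ • H → y ∈ MulAut.conj c₂ • H →
      MulAut.conj c₁ • H = MulAut.conj c₂ • H := by
    intro c₁ c₂ y hy h1 h2
    rw [mem_conj_smul] at h1 h2
    have hg : c₂⁻¹ * c₁ ∈ normalizer (H : Set G) := by
      by_contra hcon
      have h3 := hTI (c₂⁻¹ * c₁) hcon (c₁⁻¹ * y * c₁) h1 (by
        have e : c₂⁻¹ * c₁ * (c₁⁻¹ * y * c₁) * (c₂⁻¹ * c₁)⁻¹ = c₂⁻¹ * y * c₂ := by group
        rw [e]; exact h2)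
      apply hy
      have h4 := congrArg (fun z => c₁ * z * c₁⁻¹) h3
      simpa [mul_assoc] using h4
    have h3 := conj_smul_eq_of_mem_normalizer H _ hg
    have e : c₁ = c₂ * (c₂⁻¹ * c₁) := by group
    rw [e, conj_mul_smul, h3]
  -- F2: pi-subgroups of the normalizer of a conjugate lie in the conjugate
  have F2 : ∀ (c : G) (L : Subgroup G), L ≤ K →
      L ≤ normalizer ((MulAut.conj c • H : Subgroup G) : Set G) → L ≤ MulAut.conj c • H := by
    intro c L hLK hLN
    rw [← relIndex_eq_one]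
    by_contra hne
    obtain ⟨q, hq, hqd⟩ := Nat.exists_prime_and_dvd hne
    have h1 : q ∣ Nat.card L := hqd.trans (relIndex_dvd_card _ _)
    have h2 : q ∣ Nat.card K := h1.trans (card_dvd_of_le hLK)
    have h3 : (MulAut.conj c • H : Subgroup G).relIndex L ∣ H.index := by
      rw [← Cfsg.Agent.Lib.Lead_Coprime.relIndex_sup_of_le_normalizer L _ hLN,
        ← index_conj_smul H c]
      exact relIndex_dvd_index_of_le le_sup_right
    exact hnotdvd q hq h2 (hqd.trans h3)
  -- C3: q-subgroups lie in conjugates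
  have C3 : ∀ (q : ℕ), q.Prime → q ∣ Nat.card K → ∀ Q : Subgroup G, IsPGroup q Q →
      ∃ c : G, Q ≤ MulAut.conj c • H := by
    intro q hq hqK Q hQ
    haveI : Fact q.Prime := ⟨hq⟩
    have hnd : ¬ q ∣ Nat.card (G ⧸ H) := by
      rw [← index_eq_card]; exact hnotdvd q hq hqK
    obtain ⟨x, hx⟩ := hQ.nonempty_fixed_point_of_prime_not_dvd_card (G ⧸ H) hnd
    induction x using QuotientGroup.induction_on with
    | H g =>
      refine ⟨g, ?_⟩
      intro y hy
      rw [mem_conj_smul]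
      have h1 := hx ⟨y, hy⟩
      have h2 : ((y * g : G) : G ⧸ H) = ((g : G) : G ⧸ H) := h1
      have h3 := QuotientGroup.eq.mp h2
      have h4 : g⁻¹ * y⁻¹ * g ∈ H := by
        have e : (y * g)⁻¹ * g = g⁻¹ * y⁻¹ * g := by group
        rw [← e]; exact h3
      have h5 := H.inv_mem h4
      have e : (g⁻¹ * y⁻¹ * g)⁻¹ = g⁻¹ * y * g := by group
      rw [e] at h5
      exact h5
  -- malnormality of K ⊓ conj
  have mal : ∀ c : G, ∀ k ∈ K, k ∉ (K ⊓ MulAut.conj c • H : Subgroup G) →
      ∀ y ∈ (K ⊓ MulAut.conj c • H : Subgroup G),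
        k * y * k⁻¹ ∈ (K ⊓ MulAut.conj c • H : Subgroup G) → y = 1 := by
    intro c k hk hkA y hy hky
    by_contra hy1
    apply hkA
    refine ⟨hk, ?_⟩
    -- y ∈ c•H and y ∈ (k⁻¹ c)•H
    have h1 : y ∈ MulAut.conj c • H := hy.2
    have h2 : y ∈ MulAut.conj (k⁻¹ * c) • H := by
      have : k * y * k⁻¹ ∈ MulAut.conj c • H := hky.2
      rw [mem_conj_smul] at this ⊢
      have e : (k⁻¹ * c)⁻¹ * y * (k⁻¹ * c) = c⁻¹ * (k * y * k⁻¹) * c := by group
      rw [e]; exact this
    have h3 := F1 c (k⁻¹ * c) y hy1 h1 h2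
    -- k⁻¹ normalizes c•H, so zpowers k ≤ normalizer
    have h4 : MulAut.conj k⁻¹ • (MulAut.conj c • H) = MulAut.conj c • H := by
      rw [← conj_mul_smul, ← h3]
    have h5 : k ∈ normalizer ((MulAut.conj c • H : Subgroup G) : Set G) := by
      have : k⁻¹ ∈ normalizer ((MulAut.conj c • H : Subgroup G) : Set G) := by
        apply Subgroup.mem_normalizer_fintype
        intro n hn
        have hn' : n ∈ (MulAut.conj c • H : Subgroup G) := hn
        have : k⁻¹ * n * k⁻¹⁻¹ ∈ MulAut.conj k⁻¹ • (MulAut.conj c • H) := by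
          rw [mem_conj_smul]
          have e : k⁻¹⁻¹ * (k⁻¹ * n * k⁻¹⁻¹) * k⁻¹ = n := by group
          rw [e]; exact hn'
        rw [h4] at this
        exact this
      have h6 := (normalizer ((MulAut.conj c • H : Subgroup G) : Set G)).inv_mem this
      rwa [inv_inv] at h6
    have h6 : zpowers k ≤ MulAut.conj c • H :=
      F2 c (zpowers k) ((zpowers_le).mpr hk) ((zpowers_le).mpr h5)
    exact h6 (mem_zpowers k)
  -- choose a prime dividing |K|
  have hKcard : Nat.card K ≠ 1 := by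
    intro h; exact hK1 (card_eq_one.mp h)
  obtain ⟨q₀, hq₀, hq₀K⟩ := Nat.exists_prime_and_dvd hKcard
  haveI : Fact q₀.Prime := ⟨hq₀⟩
  obtain ⟨Q₀⟩ : Nonempty (Sylow q₀ K) := inferInstance
  obtain ⟨c₁, hc₁⟩ := C3 q₀ hq₀ hq₀K ((Q₀ : Subgroup K).map K.subtype) (Q₀.isPGroup'.map _)
  by_cases hAK : K ≤ MulAut.conj c₁ • H
  · exact ⟨c₁, hAK⟩
  exfalso
  -- A := K ⊓ c₁•H is a proper nontrivial malnormal subgroup
  have hQ₀A : (Q₀ : Subgroup K).map K.subtype ≤ K ⊓ MulAut.conj c₁ • H :=
    le_inf (map_subtype_le _) hc₁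
  have hAne : 2 ≤ Nat.card (K ⊓ MulAut.conj c₁ • H : Subgroup G) := by
    have h1 : q₀ ∣ Nat.card ((Q₀ : Subgroup K).map K.subtype) := by
      rw [card_map_of_injective K.subtype_injective]
      exact Q₀.dvd_card_of_dvd_card hq₀K
    have h2 := h1.trans (card_dvd_of_le hQ₀A)
    exact le_trans hq₀.two_le (Nat.le_of_dvd Nat.card_pos h2)
  have hAlt : (K ⊓ MulAut.conj c₁ • H : Subgroup G).relIndex K ≠ 1 := by
    intro h
    rw [relIndex_eq_one] at h
    exact hAK (h.trans inf_le_right)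
  obtain ⟨r, hr, hrd⟩ := Nat.exists_prime_and_dvd hAlt
  haveI : Fact r.Prime := ⟨hr⟩
  have hrK : r ∣ Nat.card K := hrd.trans (relIndex_dvd_card _ _)
  obtain ⟨R⟩ : Nonempty (Sylow r K) := inferInstance
  obtain ⟨c₂, hc₂⟩ := C3 r hr hrK ((R : Subgroup K).map K.subtype) (R.isPGroup'.map _)
  have hRB : (R : Subgroup K).map K.subtype ≤ K ⊓ MulAut.conj c₂ • H :=
    le_inf (map_subtype_le _) hc₂
  have hRcard : Nat.card ((R : Subgroup K).map K.subtype) = r ^ (Nat.card K).factorization r := by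
    rw [card_map_of_injective K.subtype_injective]
    exact R.card_eq_multiplicity
  have hBne : 2 ≤ Nat.card (K ⊓ MulAut.conj c₂ • H : Subgroup G) := by
    have h1 : r ∣ Nat.card ((R : Subgroup K).map K.subtype) := by
      rw [card_map_of_injective K.subtype_injective]
      exact R.dvd_card_of_dvd_card hrK
    have h2 := h1.trans (card_dvd_of_le hRB)
    exact le_trans hr.two_le (Nat.le_of_dvd Nat.card_pos h2)
  -- |A| ≠ |B| : r-parts differ
  have hcardne : Nat.card (K ⊓ MulAut.conj c₁ • H : Subgroup G) ≠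
      Nat.card (K ⊓ MulAut.conj c₂ • H : Subgroup G) := by
    intro heq
    have h1 : r ^ (Nat.card K).factorization r ∣ Nat.card (K ⊓ MulAut.conj c₁ • H : Subgroup G) := by
      rw [heq, ← hRcard]; exact card_dvd_of_le hRB
    -- card A * relIndex = card K and r | relIndex
    have h2 : Nat.card (K ⊓ MulAut.conj c₁ • H : Subgroup G) *
        (K ⊓ MulAut.conj c₁ • H : Subgroup G).relIndex K = Nat.card K := by
      have := Subgroup.card_mul_index ((K ⊓ MulAut.conj c₁ • H : Subgroup G).subgroupOf K)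
      rw [Nat.card_congr (Subgroup.subgroupOfEquivOfLe (inf_le_left :
        K ⊓ MulAut.conj c₁ • H ≤ K)).toEquiv] at this
      exact this
    have h3 : r ^ ((Nat.card K).factorization r + 1) ∣ Nat.card K := by
      have h3' := mul_dvd_mul h1 hrd
      rw [h2] at h3'
      rw [pow_succ]
      exact h3'
    have h4 := (Nat.Prime.pow_dvd_iff_le_factorization hr Nat.card_pos.ne').mp h3
    omega
  -- disjointness of covered sets
  have hdisj : Disjoint (covered K (K ⊓ MulAut.conj c₁ • H)) (covered K (K ⊓ MulAut.conj c₂ • H)) := by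
    rw [Set.disjoint_left]
    rintro x ⟨hxK, hx1, k, hk, hkA⟩ ⟨_, _, k', hk', hkB⟩
    apply hcardne
    have h1 : x ∈ MulAut.conj (k * c₁) • H := by
      have : k⁻¹ * x * k ∈ MulAut.conj c₁ • H := hkA.2
      rw [mem_conj_smul] at this ⊢
      have e : (k * c₁)⁻¹ * x * (k * c₁) = c₁⁻¹ * (k⁻¹ * x * k) * c₁ := by group
      rw [e]; exact this
    have h2 : x ∈ MulAut.conj (k' * c₂) • H := by
      have : k'⁻¹ * x * k' ∈ MulAut.conj c₂ • H := hkB.2
      rw [mem_conj_smul] at this ⊢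
      have e : (k' * c₂)⁻¹ * x * (k' * c₂) = c₂⁻¹ * (k'⁻¹ * x * k') * c₂ := by group
      rw [e]; exact this
    have h3 := F1 _ _ x hx1 h1 h2
    -- c₂•H = (k'⁻¹ k) • c₁•H
    have h4 : MulAut.conj c₂ • H = MulAut.conj (k'⁻¹ * k) • (MulAut.conj c₁ • H) := by
      have e : c₂ = k'⁻¹ * (k' * c₂) := by group
      rw [e, conj_mul_smul, ← h3, ← conj_mul_smul, ← conj_mul_smul]
      congr 2
      group
    have h5 : MulAut.conj (k'⁻¹ * k) • K = K :=
      Subgroup.conj_smul_eq_self_of_mem (K.mul_mem (K.inv_mem hk') hk)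
    have h6 : K ⊓ MulAut.conj c₂ • H = MulAut.conj (k'⁻¹ * k) • (K ⊓ MulAut.conj c₁ • H) := by
      rw [Subgroup.smul_inf, h5, h4]
    rw [h6, card_conj_smul]
  -- counting
  have hcA := card_covered_ge K (K ⊓ MulAut.conj c₁ • H) inf_le_left (mal c₁)
  have hcB := card_covered_ge K (K ⊓ MulAut.conj c₂ • H) inf_le_left (mal c₂)
  have hsub : covered K (K ⊓ MulAut.conj c₁ • H) ∪ covered K (K ⊓ MulAut.conj c₂ • H) ⊆
      {x : G | x ∈ K ∧ x ≠ 1} := by
    rintro x (hx | hx)
    · exact ⟨hx.1, hx.2.1⟩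
    · exact ⟨hx.1, hx.2.1⟩
  have hKm : Nat.card {x : G | x ∈ K ∧ x ≠ 1} = Nat.card K - 1 := by
    have e : {x : G | x ∈ K ∧ x ≠ 1} = ((K : Set G) \ {1}) := by
      ext x; simp
    rw [e, Nat.card_coe_set_eq, Set.ncard_sdiff (by simp), Set.ncard_singleton,
      ← Nat.card_coe_set_eq]
    rfl
  have hunion : Nat.card (covered K (K ⊓ MulAut.conj c₁ • H)) +
      Nat.card (covered K (K ⊓ MulAut.conj c₂ • H)) ≤ Nat.card K - 1 := by
    rw [← hKm, Nat.card_coe_set_eq, Nat.card_coe_set_eq, Nat.card_coe_set_eq,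
      ← Set.ncard_union_eq hdisj]
    exact Set.ncard_le_ncard hsub
  -- arithmetic
  have hA2 : Nat.card (K ⊓ MulAut.conj c₁ • H : Subgroup G) *
      (K ⊓ MulAut.conj c₁ • H : Subgroup G).relIndex K = Nat.card K := by
    have := Subgroup.card_mul_index ((K ⊓ MulAut.conj c₁ • H : Subgroup G).subgroupOf K)
    rw [Nat.card_congr (Subgroup.subgroupOfEquivOfLe (inf_le_left :
      K ⊓ MulAut.conj c₁ • H ≤ K)).toEquiv] at this
    exact this
  have hB2 : Nat.card (K ⊓ MulAut.conj c₂ • H : Subgroup G) *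
      (K ⊓ MulAut.conj c₂ • H : Subgroup G).relIndex K = Nat.card K := by
    have := Subgroup.card_mul_index ((K ⊓ MulAut.conj c₂ • H : Subgroup G).subgroupOf K)
    rw [Nat.card_congr (Subgroup.subgroupOfEquivOfLe (inf_le_left :
      K ⊓ MulAut.conj c₂ • H ≤ K)).toEquiv] at this
    exact this
  have hKpos : 0 < Nat.card K := Nat.card_pos
  obtain ⟨a, ha⟩ : ∃ a, Nat.card (K ⊓ MulAut.conj c₁ • H : Subgroup G) = a + 2 :=
    ⟨_, (Nat.sub_add_cancel hAne).symm⟩
  obtain ⟨b, hb⟩ : ∃ b, Nat.card (K ⊓ MulAut.conj c₂ • H : Subgroup G) = b + 2 :=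
    ⟨_, (Nat.sub_add_cancel hBne).symm⟩
  rw [ha] at hcA hA2
  rw [hb] at hcB hB2
  have e1 : a + 2 - 1 = a + 1 := by omega
  have e2 : b + 2 - 1 = b + 1 := by omega
  rw [e1] at hcA
  rw [e2] at hcB
  have hu : Nat.card (covered K (K ⊓ MulAut.conj c₁ • H)) +
      Nat.card (covered K (K ⊓ MulAut.conj c₂ • H)) + 1 ≤ Nat.card K := by omega
  nlinarith [Nat.zero_le ((K ⊓ MulAut.conj c₁ • H : Subgroup G).relIndex K * a),
    Nat.zero_le ((K ⊓ MulAut.conj c₂ • H : Subgroup G).relIndex K * b)]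

end Cfsg.Agent.S4116
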