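import Mathlib
import Cfsg.Statements.S4117
import Cfsg.Agent.S4244
import Cfsg.Agent.Lib.Helper7_SemiAct
import Cfsg.Agent.Lib.Helper7_PCore
import Cfsg.Agent.Lib.Helper7_Basic

set_option autoImplicit false
open Cfsg

namespace Cfsg.Agent.S4117

open Subgroup
open scoped commutatorElement
open Cfsg.Agent.Lib.Helper7_SemiAct
open Cfsg.Agent.Lib.Helper7_PCore
open Cfsg.Agent.Lib.Helper7_Basic

variable {G A : Type*} [Group G] [Group A] [MulDistribMulAction A G]

/-- key step: `[W,A]` centralizes a cyclic `A`-invariant normal subgroup `D` -/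
theorem commSub_centralizes (W D : Subgroup G) [hD : IsCyclic D] (hDinv : Inv A D)
    (hDn : ∀ w ∈ W, ∀ d ∈ D, w * d * w⁻¹ ∈ D) :
    commSub A W ≤ centralizer (D : Set G) := by
  rw [commSub, closure_le]
  rintro _ ⟨a, w, hw, rfl⟩
  rw [SetLike.mem_coe, mem_centralizer_iff]
  intro c hc
  -- the action of a⁻¹ on D is a power map
  let β : D →* D :=
    { toFun := fun d => ⟨a⁻¹ • (d : G), hDinv a⁻¹ d d.2⟩
      map_one' := by apply Subtype.ext; simp
      map_mul' := fun x y => by apply Subtype.ext; simp [smul_mul'] }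
  obtain ⟨m, hm⟩ := MonoidHom.map_cyclic β
  have hm' : ∀ d ∈ D, a⁻¹ • d = d ^ m := by
    intro d hd
    have := congrArg Subtype.val (hm ⟨d, hd⟩)
    simpa [β] using this
  have key : (a • w) * c * (a • w)⁻¹ = w * c * w⁻¹ := by
    have e1 : (a • w) * c * (a • w)⁻¹ = a • (w * (a⁻¹ • c) * w⁻¹) := by
      rw [smul_mul', smul_mul', smul_inv', smul_inv_smul]
    rw [e1, hm' c hc]
    have e2 : w * c ^ m * w⁻¹ = (w * c * w⁻¹) ^ m := by
      rw [conj_zpow]
    rw [e2, ← hm' _ (hDn w hw c hc), smul_inv_smul]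
  calc c * (w⁻¹ * a • w) = w⁻¹ * (w * c * w⁻¹) * a • w := by group
    _ = w⁻¹ * ((a • w) * c * (a • w)⁻¹) * a • w := by rw [key]
    _ = w⁻¹ * a • w * c := by group

theorem result {G A : Type*} [Group G] [Finite G] [Group A] [Finite A]
    [MulDistribMulAction A G] (hcop : (Nat.card A).Coprime (Nat.card G))
    (hcyc : ∀ (p : ℕ) [Fact p.Prime] (P : Sylow p G), IsCyclic (P : Subgroup G)) :
    (Nat.card (MulAction.fixedPoints A G : Set G)).Coprime (Nat.card G / Nat.card (MulAction.fixedPoints A G : Set G)) ∧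
    IsCyclic (Subgroup.closure {y : G | ∃ (a : A) (g : G), y = g⁻¹ * a • g}) ∧
    (Subgroup.closure {y : G | ∃ (a : A) (g : G), y = g⁻¹ * a • g}).Normal ∧
    (Subgroup.closure {y : G | ∃ (a : A) (g : G), y = g⁻¹ * a • g} : Set G) ∩ MulAction.fixedPoints A G = {1} ∧
    Subgroup.closure {y : G | ∃ (a : A) (g : G), y = g⁻¹ * a • g} ⊔ Subgroup.closure (MulAction.fixedPoints A G) = ⊤ := by
  haveI hZ : IsZGroup G := ⟨fun p hp P => @hcyc p ⟨hp⟩ P⟩
  have hsolvG : Group.IsSolvable G := inferInstance
  have hWeq : Subgroup.closure {y : G | ∃ (a : A) (g : G), y = g⁻¹ * a • g} =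
      commSub A (⊤ : Subgroup G) := by
    unfold commSub
    congr 1
    ext y
    constructor
    · rintro ⟨a, g, rfl⟩; exact ⟨a, g, mem_top g, rfl⟩
    · rintro ⟨a, g, -, rfl⟩; exact ⟨a, g, rfl⟩
  have hCeq : Subgroup.closure (MulAction.fixedPoints A G) = FixedPoints.subgroup A G :=
    Subgroup.closure_eq (FixedPoints.subgroup A G)
  have hCset : (MulAction.fixedPoints A G : Set G) = ((FixedPoints.subgroup A G : Subgroup G) : Set G) := rfl
  rw [hWeq, hCeq, hCset]
  set W : Subgroup G := commSub A (⊤ : Subgroup G) with hWdef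
  set C : Subgroup G := FixedPoints.subgroup A G with hCdef
  have hcopT : (Nat.card A).Coprime (Nat.card (⊤ : Subgroup G)) := by
    rw [Subgroup.card_top]; exact hcop
  have hsolvT : Group.IsSolvable A ∨ Group.IsSolvable (⊤ : Subgroup G) :=
    Or.inr inferInstance
  haveI hWn : W.Normal := commSub_normal
  have hWinv : Inv A W := commSub_inv ⊤ inv_top
  have hWW : commSub A W = W := commSub_commSub ⊤ inv_top hcopT hsolvT
  have hcopW : (Nat.card A).Coprime (Nat.card W) :=
    Nat.Coprime.coprime_dvd_right (Subgroup.card_subgroup_dvd_card W) hcop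
  -- D = [W,W]
  set D : Subgroup G := ⁅W, W⁆ with hDdef
  have hDmap : (commutator W).map W.subtype = D := Subgroup.map_subtype_commutator W
  haveI hDcyc : IsCyclic D := by
    haveI : IsCyclic (commutator W) := IsZGroup.isCyclic_commutator W
    have f := Subgroup.equivMapOfInjective (commutator W) _ W.subtype_injective
    rw [hDmap] at f
    exact isCyclic_of_surjective f f.surjective
  haveI hDn : D.Normal := Subgroup.commutator_normal W W
  have hDinv : Inv A D := by
    intro a x hx
    rw [hDdef] at hx ⊢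
    induction hx using Subgroup.closure_induction with
    | mem y hy =>
      obtain ⟨u, hu, v, hv, rfl⟩ := hy
      have : a • ⁅u, v⁆ = ⁅a • u, a • v⁆ := by
        simp only [commutatorElement_def, smul_mul', smul_inv']
      rw [this]
      exact Subgroup.commutator_mem_commutator (hWinv a u hu) (hWinv a v hv)
    | one => rw [smul_one]; exact one_mem _
    | mul x y _ _ hx hy => rw [smul_mul']; exact mul_mem hx hy
    | inv x _ hx => rw [smul_inv']; exact inv_mem hx
  have hWcent : W ≤ centralizer (D : Set G) := by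
    rw [← hWW]
    exact commSub_centralizes W D hDinv (fun w _ d hd => hDn.conj_mem d hd w)
  -- W is commutative
  have hcle : commutator W ≤ center W := by
    intro x hx
    rw [Subgroup.mem_center_iff]
    intro y
    have hxD : (x : G) ∈ D := by
      rw [← hDmap]; exact ⟨x, hx, rfl⟩
    have := (mem_centralizer_iff.mp (hWcent y.2)) (x : G) hxD
    exact Subtype.ext this.symm
  letI hWcg : CommGroup W := by
    have h := hcle
    rw [← Abelianization.ker_of W] at h
    exact commGroupOfCyclicCenterQuotient Abelianization.of h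
  haveI hWmc : IsMulCommutative W := ⟨⟨fun a b => mul_comm a b⟩⟩
  have hWcyc : IsCyclic W := by
    haveI : Group.IsNilpotent W := CommGroup.isNilpotent
    infer_instance
  -- W ⊓ C = ⊥
  have hWC : W ⊓ C = ⊥ := by
    have := abelian_inf_eq_bot (A := A) W hWinv hcopW
    rw [hWW] at this
    rw [← this, inf_assoc, inf_comm C W, ← inf_assoc, inf_idem]
  have hWCtop : W ⊔ C = ⊤ := by
    rw [eq_top_iff]
    intro g _
    obtain ⟨n, hn, c, hc, rfl⟩ := decomp (A := A) ⊤ inv_top hcopT hsolvT g (mem_top g)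
    exact mul_mem (mem_sup_left hn) (mem_sup_right hc.2)
  have hidx : C.index = Nat.card W := by
    have := Cfsg.Agent.S4244.second_iso_abs W C
    rw [hWCtop, Subgroup.relIndex_top_right, hWC, Subgroup.relIndex_bot_left] at this
    exact this
  refine ⟨?_, hWcyc, hWn, ?_, hWCtop⟩
  · -- Hall
    have h1 : Nat.card G / Nat.card C = Nat.card W := by
      rw [← hidx, ← Subgroup.card_mul_index C]
      exact Nat.mul_div_cancel_left _ Nat.card_pos
    show (Nat.card C).Coprime (Nat.card G / Nat.card C)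
    rw [h1]
    by_contra hnc
    obtain ⟨p, hp, hpC, hpW⟩ := Nat.Prime.not_coprime_iff_dvd.mp hnc
    haveI : Fact p.Prime := ⟨hp⟩
    obtain ⟨x, hx⟩ := exists_prime_orderOf_dvd_card' p hpW
    obtain ⟨y, hy⟩ := exists_prime_orderOf_dvd_card' p hpC
    have hx' : orderOf (x : G) = p := by rw [Subgroup.orderOf_coe]; exact hx
    have hy' : orderOf (y : G) = p := by rw [Subgroup.orderOf_coe]; exact hy
    -- zpowers x is normal
    have hXn : (zpowers (x : G)).Normal := by
      refine ⟨fun z hz g => ?_⟩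
      obtain ⟨k, rfl⟩ := mem_zpowers_iff.mp hz
      have e : g * (x : G) ^ k * g⁻¹ = (g * x * g⁻¹) ^ k := by rw [conj_zpow]
      rw [e]
      apply zpow_mem
      have hle1 : zpowers (g * (x : G) * g⁻¹) ≤ W := by
        rw [zpowers_le]; exact hWn.conj_mem _ x.2 g
      have hle2 : zpowers (x : G) ≤ W := by
        rw [zpowers_le]; exact x.2
      have := cyclic_subgroup_unique W hWcyc _ _ hle1 hle2
        (by rw [Nat.card_zpowers, Nat.card_zpowers, orderOf_conj'])
      rw [← this]
      exact mem_zpowers _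
    have hXp : IsPGroup p (zpowers (x : G)) := by
      apply IsPGroup.of_card (n := 1)
      rw [Nat.card_zpowers, hx', pow_one]
    obtain ⟨Q, hyQ⟩ := pElement_mem_sylow (p := p) (y : G) ⟨1, by rw [hy', pow_one]⟩
    have hXQ : zpowers (x : G) ≤ Q := normal_pgroup_le_sylow hXn hXp Q
    have hYQ : zpowers (y : G) ≤ Q := by
      rw [zpowers_le]; exact hyQ
    have heq := cyclic_subgroup_unique (Q : Subgroup G) (hcyc p Q) _ _ hXQ hYQ
      (by rw [Nat.card_zpowers, Nat.card_zpowers, hx', hy'])
    have hyW : (y : G) ∈ W := by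
      have : (y : G) ∈ zpowers (x : G) := by rw [heq]; exact mem_zpowers _
      exact (zpowers_le.mpr x.2) this
    have hy1 : (y : G) ∈ W ⊓ C := ⟨hyW, y.2⟩
    rw [hWC, mem_bot] at hy1
    rw [hy1, orderOf_one] at hy'
    exact hp.one_lt.ne hy'
  · ext z
    simp only [Set.mem_inter_iff, SetLike.mem_coe, Set.mem_singleton_iff]
    constructor
    · rintro ⟨h1, h2⟩
      have : z ∈ W ⊓ C := ⟨h1, h2⟩
      rw [hWC, mem_bot] at this
      exact this
    · rintro rfl
      exact ⟨one_mem _, one_mem _⟩

end Cfsg.Agent.S4117
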