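import Mathlib
import Cfsg.Statements.S4127
import Cfsg.Agent.Lib.Helper7_DirectFactor
import Cfsg.Agent.Lib.Helper7_PPowerIndex
import Cfsg.Agent.Lib.Helper5_AxB

set_option autoImplicit false
open Cfsg

namespace Cfsg.Agent.S4127

open Cfsg.Agent.Lib.Helper7_DirectFactor Cfsg.Agent.Lib.Helper7_PPowerIndex
  Cfsg.Agent.Lib.Helper7_NPC Subgroup

/-- centralizer of a product of commuting elements of coprime orders. -/
theorem centralizer_mul_eq {G : Type*} [Group G] [Finite G] (x w : G) (hc : Commute x w)
    (hcop : (orderOf x).Coprime (orderOf w)) :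
    centralizer ({x * w} : Set G) = centralizer ({x} : Set G) ⊓ centralizer ({w} : Set G) := by
  obtain ⟨k, hk⟩ := Cfsg.Agent.Lib.Helper7_ClassSize.exists_pow_mul_eq hc
    (isOfFinOrder_of_finite x) hcop
  obtain ⟨l, hl⟩ := Cfsg.Agent.Lib.Helper7_ClassSize.exists_pow_mul_eq hc.symm
    (isOfFinOrder_of_finite w) hcop.symm
  ext c
  simp only [Subgroup.mem_inf, mem_centralizer_singleton_iff]
  constructor
  · intro h
    have hcomm : Commute c (x * w) := h
    constructor
    · have := hcomm.pow_right k
      rw [hk] at this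
      exact this
    · have := hcomm.pow_right l
      rw [hc.eq, hl] at this
      exact this
  · rintro ⟨h1, h2⟩
    rw [← mul_assoc, h1, mul_assoc, h2, mul_assoc]

/-- Let G be a finite group, p a prime and p^a the largest power of p dividing the size of any conjugacy class of G. If some element of p-power order has a conjugacy class of size exactly p^a, then G has a normal p-complement. -/
theorem result {G : Type*} [Group G] [Finite G] (p : ℕ) [Fact p.Prime]
    (a : ℕ) (hmax : ∀ y : G, ¬ p ^ (a + 1) ∣ (Subgroup.centralizer ({y} : Set G)).index)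
    (hx : ∃ x : G, (∃ k : ℕ, orderOf x = p ^ k) ∧ (Subgroup.centralizer ({x} : Set G)).index = p ^ a) :
    Cfsg.HasNormalPComplement p G := by
  have hp := (Fact.out : p.Prime)
  obtain ⟨x, ⟨k, hk⟩, hidx⟩ := hx
  set C : Subgroup G := centralizer ({x} : Set G) with hC
  -- (A) `p'`-elements of `C` have `p'`-index in `C`
  have hA : ∀ w : C, (orderOf w).Coprime p →
      ¬ p ∣ (centralizer ({w} : Set C)).index := by
    intro w hw hdvd
    have hwx : Commute x (w : G) := (mem_centralizer_singleton_iff.mp w.2).symm
    have hcop : (orderOf x).Coprime (orderOf (w : G)) := by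
      rw [hk, Subgroup.orderOf_coe]
      exact (Nat.Coprime.pow_right k hw).symm
    have h1 := centralizer_mul_eq x (w : G) hwx hcop
    have h2 : centralizer ({w} : Set C) = (centralizer ({(w : G)} : Set G)).subgroupOf C := by
      ext c
      rw [mem_subgroupOf, mem_centralizer_singleton_iff, mem_centralizer_singleton_iff]
      constructor
      · intro h; have := congrArg Subtype.val h; simpa using this
      · intro h; apply Subtype.ext; simpa using h
    have h3 : (centralizer ({x * (w : G)} : Set G)).index =
        (centralizer ({w} : Set C)).index * p ^ a := by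
      rw [h1, ← hidx, ← relIndex_mul_index (inf_le_left : C ⊓ centralizer ({(w : G)} : Set G) ≤ C),
        inf_comm, inf_relIndex_right, h2]
      rfl
    apply hmax (x * (w : G))
    rw [h3, pow_succ, mul_comm]
    exact mul_dvd_mul_right hdvd _
  -- direct factor structure of `C`
  obtain ⟨P_C⟩ : Nonempty (Sylow p C) := inferInstance
  have hPn : (P_C : Subgroup C).Normal := sylow_normal hA P_C
  obtain ⟨H_C, hHn, hHc, j, hj⟩ := npc hA
  set H : Subgroup G := H_C.map C.subtype with hH
  have hHcard : (Nat.card H).Coprime p := by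
    rw [hH, card_map_of_injective (subtype_injective C)]; exact hHc
  -- `p'`-elements of `C` lie in `H`
  have hmemH : ∀ g : G, g ∈ C → (orderOf g).Coprime p → g ∈ H := by
    intro g hg hgo
    have := mem_of_index_pow H_C hj (⟨g, hg⟩ : C) (by rw [Subgroup.orderOf_mk]; exact hgo)
    exact ⟨⟨g, hg⟩, this, rfl⟩
  -- the normal closure of `x`
  obtain ⟨T, hxT⟩ := Cfsg.Agent.Lib.Helper7_Basic.pElement_mem_sylow (p := p) x ⟨k, hk⟩
  set X : Subgroup G := normalClosure ({x} : Set G) with hX
  have hXT : X ≤ T := normalClosure_le_sylow T x hxT a hidx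
  have hXp : IsPGroup p X := T.isPGroup'.to_le hXT
  have hXn : X.Normal := normalClosure_normal
  have hxX : x ∈ X := subset_normalClosure (Set.mem_singleton x)
  -- `H` centralizes `X` by Thompson's lemma
  have hAo : ∀ h ∈ H, (orderOf h).Coprime p := by
    intro h hh
    have h1 : orderOf h ∣ Nat.card H := by
      have := orderOf_dvd_natCard (⟨h, hh⟩ : H)
      rwa [Subgroup.orderOf_mk] at this
    exact Nat.Coprime.coprime_dvd_left h1 hHcard
  have hHC : H ≤ C := map_subtype_le _
  have hBp : IsPGroup p (zpowers x) := IsPGroup.of_card (n := k) (by rw [Nat.card_zpowers, hk])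
  have hAB : H ≤ centralizer ((zpowers x : Subgroup G) : Set G) := by
    intro h hh
    rw [mem_centralizer_iff]
    intro y hy
    obtain ⟨i, rfl⟩ := Subgroup.mem_zpowers_iff.mp hy
    have h1 : Commute h x := mem_centralizer_singleton_iff.mp (hHC hh)
    exact (h1.zpow_right i).eq.symm
  have hXA : H ≤ normalizer (X : Set G) := by rw [normalizer_eq_top]; exact le_top
  have hXB : zpowers x ≤ normalizer (X : Set G) := by rw [normalizer_eq_top]; exact le_top
  have hcond : X ⊓ centralizer ((zpowers x : Subgroup G) : Set G) ≤ centralizer (H : Set G) := by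
    intro y hy
    obtain ⟨hyX, hyB⟩ := Subgroup.mem_inf.mp hy
    have hyC : y ∈ C := by
      rw [hC, mem_centralizer_singleton_iff]
      exact (mem_centralizer_iff.mp hyB x (mem_zpowers x)).symm
    -- `y` is a `p`-element of `C`, so lies in `P_C`
    have hyP : (⟨y, hyC⟩ : C) ∈ (P_C : Subgroup C) := by
      have hyp : IsPGroup p (zpowers (⟨y, hyC⟩ : C)) := by
        obtain ⟨e, he⟩ := hXp ⟨y, hyX⟩
        apply IsPGroup.of_card (n := (Nat.factorization (orderOf (⟨y, hyC⟩ : C)) p))
        rw [Nat.card_zpowers]
        have h1 : orderOf (⟨y, hyC⟩ : C) ∣ p ^ e := by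
          apply orderOf_dvd_of_pow_eq_one
          apply Subtype.ext
          have := congrArg Subtype.val he
          simpa using this
        obtain ⟨e', -, he'⟩ := (Nat.dvd_prime_pow hp).mp h1
        rw [he', Nat.Prime.factorization_pow hp]
        simp
      obtain ⟨S, hS⟩ := hyp.exists_le_sylow
      obtain ⟨t, ht⟩ := MulAction.exists_smul_eq C P_C S
      rw [Sylow.smul_eq_of_normal] at ht
      rw [ht]
      exact hS (mem_zpowers _)
    rw [mem_centralizer_iff]
    rintro _ ⟨h, hh, rfl⟩
    have hd : Disjoint (H_C : Subgroup C) (P_C : Subgroup C) := by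
      apply Subgroup.disjoint_of_coprime_natCard
      obtain ⟨e, he⟩ := IsPGroup.iff_card.mp P_C.isPGroup'
      rw [he]
      exact Nat.Coprime.pow_right e hHc
    have := Subgroup.commute_of_normal_of_disjoint _ _ hHn hPn hd h ⟨y, hyC⟩ hh hyP
    have := congrArg Subtype.val this.eq
    simpa using this
  have hXH : X ≤ centralizer (H : Set G) :=
    Cfsg.Agent.Lib.Helper5_AxB.thompson_AxB H (zpowers x) hAo hBp hAB X hXp hXA hXB hcond
  -- `H` is normal in `G`
  have hHnormal : H.Normal := by
    constructor
    intro h hh g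
    apply hmemH
    · -- `g h g⁻¹` centralizes `X ∋ x`
      rw [hC, mem_centralizer_singleton_iff]
      have hx' : g⁻¹ * x * g ∈ X := by
        have := hXn.conj_mem x hxX g⁻¹
        simpa using this
      have h1 := mem_centralizer_iff.mp (hXH hx') h hh
      -- h1 : h * (g⁻¹ x g) = (g⁻¹ x g) * h
      calc g * h * g⁻¹ * x = g * (h * (g⁻¹ * x * g)) * g⁻¹ := by group
        _ = g * ((g⁻¹ * x * g) * h) * g⁻¹ := by rw [h1]
        _ = x * (g * h * g⁻¹) := by group
    · rw [Cfsg.Agent.Lib.Helper7_Basic.orderOf_conj']
      exact hAo h hh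
  rw [hasNormalPComplement_iff_npc]
  refine ⟨H, hHnormal, hHcard, j + a, ?_⟩
  rw [hH, index_map_subtype, hj, hidx, pow_add]

end Cfsg.Agent.S4127
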