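import Mathlib
import Cfsg.Statements.S4134
import Cfsg.Agent.Lib.Helper7_ClassSize
import Cfsg.Agent.Lib.Helper7_Basic

set_option autoImplicit false
open Cfsg

namespace Cfsg.Agent.S4134

open Cfsg.Agent.S4365 Cfsg.Agent.Lib.Helper7_ClassSize

section gen
variable {G : Type*} [Group G]

theorem Cz_conj_mem (a g c : G) : c ∈ Cz (a * g * a⁻¹) ↔ a⁻¹ * c * a ∈ Cz g := by
  rw [mem_Cz, mem_Cz]
  constructor
  · intro h1
    have : g * (a⁻¹ * c * a) = a⁻¹ * ((a * g * a⁻¹) * c) * a := by group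
    rw [this, h1]; group
  · intro h1
    have : a * g * a⁻¹ * c = a * (g * (a⁻¹ * c * a)) * a⁻¹ := by group
    rw [this, h1]; group

theorem Cz_central_mul {z : G} (hz : z ∈ Subgroup.center G) (g : G) : Cz (z * g) = Cz g := by
  ext c
  rw [mem_Cz, mem_Cz]
  have hzc := Subgroup.mem_center_iff.mp hz
  constructor
  · intro h1
    have h2 : z * (g * c) = z * (c * g) := by
      calc z * (g * c) = z * g * c := (mul_assoc _ _ _).symm
        _ = c * (z * g) := h1
        _ = c * z * g := (mul_assoc _ _ _).symm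
        _ = z * c * g := by rw [hzc c]
        _ = z * (c * g) := mul_assoc _ _ _
    exact mul_left_cancel h2
  · intro h1
    calc z * g * c = z * (g * c) := mul_assoc _ _ _
      _ = z * (c * g) := by rw [h1]
      _ = z * c * g := (mul_assoc _ _ _).symm
      _ = c * z * g := by rw [hzc c]
      _ = c * (z * g) := mul_assoc _ _ _

theorem mem_Cz_coe (R : Subgroup G) (u v : R) : v ∈ Cz u ↔ (v : G) ∈ Cz (u : G) := by
  rw [mem_Cz, mem_Cz, Subtype.ext_iff]
  simp

end gen

section core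
variable {G : Type*} [Group G] [Finite G] (n : ℕ)
  (h : ∀ x : G, (Cz x).index = 1 ∨ (Cz x).index = n)
  (p q : ℕ) [hp : Fact p.Prime] [hq : Fact q.Prime] (hpq : p ≠ q)
  (xp : G) (hxp : xp ∉ Subgroup.center G) (hxpo : ∃ k : ℕ, orderOf xp = p ^ k)
  (xq : G) (hxq : xq ∉ Subgroup.center G) (hxqo : ∃ k : ℕ, orderOf xq = q ^ k)

include h hpq hxp hxpo hxq hxqo in
/-- C1: every non-central centralizer is abelian. -/
theorem all_abelian {g : G} (hg : g ∉ Subgroup.center G) {c d : G} (hc : c ∈ Cz g) (hd : d ∈ Cz g) :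
    c * d = d * c := by
  obtain ⟨w, hw, hwZ, r, k, hr, hrk⟩ := exists_noncentral_part hg
  have hle : Cz g ≤ Cz w := by
    intro a ha
    rw [mem_Cz] at ha ⊢
    obtain ⟨j, rfl⟩ := Subgroup.mem_zpowers_iff.mp hw
    exact (Commute.zpow_left (show Commute g a from ha) j).eq
  have e : Cz g = Cz w := Cz_eq_of_le n h hwZ hle
  rw [e] at hc hd
  haveI : Fact r.Prime := ⟨hr⟩
  by_cases hrp : r = p
  · subst hrp
    obtain ⟨s, hs, hsZ, hso⟩ := exists_noncentral_in_Cz n h (r := q) hxq hxqo hwZ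
    exact Cz_comm n h hr hq.out hpq hwZ hsZ (mem_Cz.mp hs) ⟨k, hrk⟩ hso hc hd
  · obtain ⟨s, hs, hsZ, hso⟩ := exists_noncentral_in_Cz n h (r := p) hxp hxpo hwZ
    exact Cz_comm n h hr hp.out hrp hwZ hsZ (mem_Cz.mp hs) ⟨k, hrk⟩ hso hc hd

include h hpq hxp hxpo hxq hxqo in
/-- C2 -/
theorem Cz_eq_of_common {g k w : G} (hg : g ∉ Subgroup.center G) (hk : k ∉ Subgroup.center G)
    (hw : w ∉ Subgroup.center G) (hwg : w ∈ Cz g) (hwk : w ∈ Cz k) : Cz g = Cz k := by
  have h1 : Cz g ≤ Cz w := by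
    intro c hc
    rw [mem_Cz]
    exact all_abelian n h p q hpq xp hxp hxpo xq hxq hxqo hg hwg hc
  have h2 : Cz k ≤ Cz w := by
    intro c hc
    rw [mem_Cz]
    exact all_abelian n h p q hpq xp hxp hxpo xq hxq hxqo hk hwk hc
  rw [Cz_eq_of_le n h hw h1, Cz_eq_of_le n h hw h2]

theorem self_mem_Cz (g : G) : g ∈ Cz g := by rw [mem_Cz]

include h hpq hxp hxpo hxq hxqo in
/-- C3: `c ≤ n z`. -/
theorem card_le {g : G} (hg : g ∉ Subgroup.center G) :
    Nat.card (Cz g) ≤ n * Nat.card (Subgroup.center G) := by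
  have hne : Cz g ≠ ⊤ := fun ht => hg (Cz_eq_top.mp ht)
  obtain ⟨g₁, hg₁⟩ : ∃ g₁ : G, g₁ ∉ Cz g := by
    by_contra hcon
    push Not at hcon
    exact hne (eq_top_iff.mpr fun x _ => hcon x)
  have hg₁Z : g₁ ∉ Subgroup.center G := fun hz => hg₁ (center_le_Cz g hz)
  have hinf : Cz g ⊓ Cz g₁ = Subgroup.center G := by
    apply le_antisymm
    · intro w ⟨hw1, hw2⟩
      by_contra hwZ
      have := Cz_eq_of_common n h p q hpq xp hxp hxpo xq hxq hxqo hg hg₁Z hwZ hw1 hw2
      apply hg₁
      rw [this]; exact self_mem_Cz g₁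
    · exact le_inf (center_le_Cz g) (center_le_Cz g₁)
  have h1 : (Cz g ⊓ Cz g₁).index ≤ (Cz g).index * (Cz g₁).index := Subgroup.index_inf_le
  rw [hinf, index_eq_of_not_mem n h hg, index_eq_of_not_mem n h hg₁Z] at h1
  have h2 := (Subgroup.center G).card_mul_index
  have h3 := (Cz g).card_mul_index
  rw [index_eq_of_not_mem n h hg] at h3
  have hn0 : 0 < n := by
    rw [← index_eq_of_not_mem n h hg]
    exact Nat.pos_of_ne_zero Subgroup.index_ne_zero_of_finite
  -- card (Cz g) * n = |G| = z * index ≤ z * n * n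
  have h4 : Nat.card (Cz g) * n ≤ (n * Nat.card (Subgroup.center G)) * n := by
    calc Nat.card (Cz g) * n = Nat.card G := h3
      _ = Nat.card (Subgroup.center G) * (Subgroup.center G).index := h2.symm
      _ ≤ Nat.card (Subgroup.center G) * (n * n) := Nat.mul_le_mul_left _ h1
      _ = (n * Nat.card (Subgroup.center G)) * n := by ring
  exact Nat.le_of_mul_le_mul_right h4 hn0

include h in
/-- Claim B: a prime dividing `n` is active. -/
theorem exists_noncentral_of_dvd {r : ℕ} [hr : Fact r.Prime] (hrn : r ∣ n) {g₀ : G}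
    (hg₀ : g₀ ∉ Subgroup.center G) :
    ∃ w : G, w ∉ Subgroup.center G ∧ ∃ k : ℕ, orderOf w = r ^ k := by
  have h3 := (Cz g₀).card_mul_index
  rw [index_eq_of_not_mem n h hg₀] at h3
  have hdvd : r ^ ((Nat.card (Subgroup.center G)).factorization r + 1) ∣ Nat.card (⊤ : Subgroup G) := by
    rw [Subgroup.card_top, ← h3, pow_succ]
    exact mul_dvd_mul ((Nat.ordProj_dvd _ r).trans (Subgroup.card_dvd_of_le (center_le_Cz g₀))) hrn
  obtain ⟨s, -, hs, hso⟩ := exists_noncentral_of_pow_dvd (⊤ : Subgroup G) hdvd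
  exact ⟨s, hs, hso⟩

include h hpq hxp hxpo hxq hxqo in
/-- C4a: `r ^ 2 ∤ n`. -/
theorem factorization_le_one {r : ℕ} [hr : Fact r.Prime] (hrn : r ∣ n) : n.factorization r ≤ 1 := by
  obtain ⟨w, hwZ, hwo⟩ := exists_noncentral_of_dvd n h hrn hxp
  obtain ⟨R, hwR⟩ := Cfsg.Agent.Lib.Helper7_Basic.pElement_mem_sylow w hwo
  have hRidx : ¬ r ∣ (R : Subgroup G).index := R.not_dvd_index
  -- (iii)
  have hZR : ∀ z : (R : Subgroup G), z ∈ Subgroup.center (R : Subgroup G) →
      (z : G) ∈ Subgroup.center G := by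
    intro z hz
    have hle : (R : Subgroup G) ≤ Cz (z : G) := by
      intro v hv
      rw [mem_Cz]
      have := Subgroup.mem_center_iff.mp hz ⟨v, hv⟩
      have := congrArg Subtype.val this
      simpa using this.symm
    have hd : (Cz (z : G)).index ∣ (R : Subgroup G).index := Subgroup.index_dvd_of_le hle
    rcases h (z : G) with h1 | h1
    · exact Cz_eq_top.mp (Subgroup.index_eq_one.mp h1)
    · exfalso
      rw [h1] at hd
      exact hRidx (hrn.trans hd)
  -- (ii)
  have hna : ∃ u₀ : (R : Subgroup G), u₀ ∉ Subgroup.center (R : Subgroup G) := by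
    refine ⟨⟨w, hwR⟩, fun hc => hwZ (hZR _ hc)⟩
  obtain ⟨u, hu, hup, huz⟩ := exists_w r R.2 hna
  have huG : (u : G) ∉ Subgroup.center G := by
    intro hc
    apply hu
    rw [Subgroup.mem_center_iff]
    intro v
    apply Subtype.ext
    have := Subgroup.mem_center_iff.mp hc (v : G)
    simpa using this
  -- index of Cz u in R
  obtain ⟨a, ha⟩ := IsPGroup.index R.2 (Cz u)
  have ha1 : a ≠ 0 := by
    rintro rfl
    rw [pow_zero] at ha
    exact hu (Cz_eq_top.mp (Subgroup.index_eq_one.mp ha))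
  have ha2 : a < 2 := by
    by_contra hcon
    have ha2 : 2 ≤ a := by omega
    haveI : (Cz u).Normal := Cz_normal u huz
    obtain ⟨g, h', hh', hgh'⟩ := exists_independent (Cz u) r (pow_mem_Cz r u hup huz) a ha2 ha
    -- R normalizes C'
    have hRN : (R : Subgroup G) ≤ Subgroup.normalizer ((Cz (u : G) : Subgroup G) : Set G) := by
      intro v hv
      rw [Subgroup.mem_normalizer_iff]
      intro c
      have hzc := hZR _ (huz (⟨v, hv⟩ : (R : Subgroup G))⁻¹)
      have e1 : v⁻¹ * (u : G) * v⁻¹⁻¹ = ((u * (⟨v, hv⟩ : (R : Subgroup G))⁻¹ * u⁻¹ *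
          (⟨v, hv⟩ : (R : Subgroup G))⁻¹⁻¹ : (R : Subgroup G)) : G)⁻¹ * (u : G) := by
        simp only [Subgroup.coe_mul, Subgroup.coe_inv]
        group
      have e2 : Cz (v⁻¹ * (u : G) * v⁻¹⁻¹) = Cz (u : G) := by
        rw [e1]; exact Cz_central_mul (Subgroup.inv_mem _ hzc) _
      have e3 := Cz_conj_mem v⁻¹ (u : G) c
      rw [e2] at e3
      rw [e3]
      simp
    set N : Subgroup G := Subgroup.normalizer ((Cz (u : G) : Subgroup G) : Set G) with hN
    haveI hAn : ((Cz (u : G)).subgroupOf N).Normal := Subgroup.normal_in_normalizer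
    have hab : ∀ c d : N, c ∈ (Cz (u : G)).subgroupOf N → d ∈ (Cz (u : G)).subgroupOf N →
        c * d = d * c := by
      intro c d hc hd
      apply Subtype.ext
      rw [Subgroup.mem_subgroupOf] at hc hd
      simpa using all_abelian n h p q hpq xp hxp hxpo xq hxq hxqo huG hc hd
    have hnotin : ∀ k : (R : Subgroup G), k ∉ Cz u → ∀ c : N, c ∈ (Cz (u : G)).subgroupOf N →
        (k : G) * (c : G) = (c : G) * (k : G) → c ∈ (Subgroup.center G).subgroupOf N := by
      intro k hk c hc hkc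
      rw [Subgroup.mem_subgroupOf] at hc ⊢
      by_contra hcZ
      have e := Cz_eq_of_common n h p q hpq xp hxp hxpo xq hxq hxqo hcZ huG hcZ (self_mem_Cz _) hc
      apply hk
      rw [mem_Cz_coe, ← e, mem_Cz]
      exact hkc.symm
    have hall := norm_arg ((Cz (u : G)).subgroupOf N) hab ((Subgroup.center G).subgroupOf N) r
      (⟨g, hRN g.2⟩ : N) (⟨h', hRN h'.2⟩ : N) ?_ ?_ ?_ ?_ ?_
    · -- get a noncentral element of order prime to r in C'
      have hex : ∃ (s : ℕ) (w' : G), s.Prime ∧ s ≠ r ∧ w' ∈ Cz (u : G) ∧ w' ∉ Subgroup.center G ∧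
          ∃ k : ℕ, orderOf w' = s ^ k := by
        by_cases hrp : r = p
        · obtain ⟨w', hw', hw'Z, hw'o⟩ := exists_noncentral_in_Cz n h (r := q) hxq hxqo huG
          exact ⟨q, w', hq.out, by rw [hrp]; exact hpq.symm, hw', hw'Z, hw'o⟩
        · obtain ⟨w', hw', hw'Z, hw'o⟩ := exists_noncentral_in_Cz n h (r := p) hxp hxpo huG
          exact ⟨p, w', hp.out, fun e => hrp e.symm, hw', hw'Z, hw'o⟩
      obtain ⟨s, w', hs, hsr, hw', hw'Z, k, hk⟩ := hex
      have h1 := hall (⟨w', Subgroup.le_normalizer hw'⟩ : N) (by rw [Subgroup.mem_subgroupOf]; exact hw')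
      rw [Subgroup.mem_subgroupOf] at h1
      have h2 : w' ^ r ∈ Subgroup.center G := by simpa using h1
      apply hw'Z
      apply mem_of_pow_mem_of_coprime _ w' r (isOfFinOrder_of_finite w') _ h2
      rw [hk]
      exact Nat.Coprime.pow_left k ((Nat.coprime_primes hs hr.out).mpr hsr)
    · rw [Subgroup.mem_subgroupOf]
      have := (mem_Cz_coe (R : Subgroup G) u (g ^ r)).mp (pow_mem_Cz r u hup huz g)
      simpa using this
    · rw [Subgroup.mem_subgroupOf]
      have := (mem_Cz_coe (R : Subgroup G) u (h' ^ r)).mp (pow_mem_Cz r u hup huz h')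
      simpa using this
    · rw [Subgroup.mem_subgroupOf]
      have := (mem_Cz_coe (R : Subgroup G) u _).mp (comm_mem_Cz u huz g h')
      simpa using this
    · intro j c hc hcomm
      apply hnotin (g * h' ^ j) (hgh' j) c hc
      have := congrArg Subtype.val hcomm
      simpa using this
    · intro c hc hcomm
      apply hnotin h' hh' c hc
      have := congrArg Subtype.val hcomm
      simpa using this
  have ha3 : a = 1 := by omega
  subst ha3
  rw [pow_one] at ha
  -- numeric
  have hcm := (Cz u).card_mul_index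
  rw [ha] at hcm
  have hXp : IsPGroup r (Cz u) := R.2.to_subgroup _
  obtain ⟨j, hj⟩ := IsPGroup.iff_card.mp hXp
  have hXle : (Cz u).map (R : Subgroup G).subtype ≤ Cz (u : G) := by
    rintro _ ⟨v, hv, rfl⟩
    exact (mem_Cz_coe (R : Subgroup G) u v).mp hv
  have hXcard : Nat.card ((Cz u).map (R : Subgroup G).subtype) = r ^ j := by
    rw [Subgroup.card_map_of_injective (R : Subgroup G).subtype_injective, hj]
  have hdvd : r ^ j ∣ Nat.card (Cz (u : G)) := by
    rw [← hXcard]; exact Subgroup.card_dvd_of_le hXle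
  have hc0 : Nat.card (Cz (u : G)) ≠ 0 := Nat.card_pos.ne'
  have hjle : j ≤ (Nat.card (Cz (u : G))).factorization r :=
    (hr.out.pow_dvd_iff_le_factorization hc0).mp hdvd
  have hRcard : Nat.card (R : Subgroup G) = r ^ (Nat.card G).factorization r := R.card_eq_multiplicity
  have h3 := (Cz (u : G)).card_mul_index
  rw [index_eq_of_not_mem n h huG] at h3
  have hn0 : n ≠ 0 := by
    rw [← index_eq_of_not_mem n h huG]; exact Subgroup.index_ne_zero_of_finite
  have hfac : (Nat.card G).factorization r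
      = (Nat.card (Cz (u : G))).factorization r + n.factorization r := by
    rw [← h3, Nat.factorization_mul hc0 hn0]; rfl
  have hpow : r ^ (Nat.card G).factorization r = r ^ (j + 1) := by
    rw [← hRcard, ← hcm, hj, pow_succ]
  have := Nat.pow_right_injective hr.out.two_le hpow
  omega

include h hpq hxp hxpo hxq hxqo in
/-- C4 + C5: `c = n z`. -/
theorem card_eq {g : G} (hg : g ∉ Subgroup.center G) :
    Nat.card (Cz g) = n * Nat.card (Subgroup.center G) := by
  have hn0 : n ≠ 0 := by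
    rw [← index_eq_of_not_mem n h hg]; exact Subgroup.index_ne_zero_of_finite
  have hz0 : Nat.card (Subgroup.center G) ≠ 0 := Nat.card_pos.ne'
  have hc0 : Nat.card (Cz g) ≠ 0 := Nat.card_pos.ne'
  have hzc : Nat.card (Subgroup.center G) ∣ Nat.card (Cz g) := Subgroup.card_dvd_of_le (center_le_Cz g)
  have hdvd : n * Nat.card (Subgroup.center G) ∣ Nat.card (Cz g) := by
    rw [← Nat.factorization_prime_le_iff_dvd (mul_ne_zero hn0 hz0) hc0]
    intro r hr
    haveI : Fact r.Prime := ⟨hr⟩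
    rw [Nat.factorization_mul hn0 hz0]
    show n.factorization r + (Nat.card (Subgroup.center G)).factorization r ≤ _
    by_cases hrn : r ∣ n
    · have h1 := factorization_le_one n h p q hpq xp hxp hxpo xq hxq hxqo hrn
      obtain ⟨w, hwZ, hwo⟩ := exists_noncentral_of_dvd n h hrn hg
      have h2 := pow_dvd_card_Cz hwZ hwo
      rw [card_Cz_eq n h hwZ hg] at h2
      have h3 := (hr.pow_dvd_iff_le_factorization hc0).mp h2
      omega
    · rw [Nat.factorization_eq_zero_of_not_dvd hrn, zero_add]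
      exact (Nat.factorization_le_iff_dvd hz0 hc0).mpr hzc r
  exact le_antisymm (card_le n h p q hpq xp hxp hxpo xq hxq hxqo hg) (Nat.le_of_dvd (Nat.pos_of_ne_zero hc0) hdvd)

include h hpq hxp hxpo hxq hxqo in
/-- C6 (a): commutators of a Sylow `r`-subgroup (`r ∣ n`) are central. -/
theorem comm_mem_center {r : ℕ} [hr : Fact r.Prime] (hrn : r ∣ n) (R : Sylow r G) {v v' : G}
    (hv : v ∈ (R : Subgroup G)) (hv' : v' ∈ (R : Subgroup G)) :
    v * v' * v⁻¹ * v'⁻¹ ∈ Subgroup.center G := by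
  have hn0 : n ≠ 0 := by
    rw [← index_eq_of_not_mem n h hxp]; exact Subgroup.index_ne_zero_of_finite
  have hz0 : Nat.card (Subgroup.center G) ≠ 0 := Nat.card_pos.ne'
  -- factorizations
  have h1 := factorization_le_one n h p q hpq xp hxp hxpo xq hxq hxqo hrn
  have h1' : 1 ≤ n.factorization r := (hr.out.dvd_iff_one_le_factorization hn0).mp hrn
  have hc := card_eq n h p q hpq xp hxp hxpo xq hxq hxqo hxp
  have h3 := (Cz xp).card_mul_index
  rw [index_eq_of_not_mem n h hxp, hc] at h3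
  have hG : (Nat.card G).factorization r = (Nat.card (Subgroup.center G)).factorization r + 2 := by
    rw [← h3, Nat.factorization_mul (mul_ne_zero hn0 hz0) hn0, Nat.factorization_mul hn0 hz0]
    show n.factorization r + (Nat.card (Subgroup.center G)).factorization r + n.factorization r = _
    omega
  -- card of R ⊓ Z
  obtain ⟨Zr⟩ := (inferInstance : Nonempty (Sylow r (Subgroup.center G)))
  set Zr' : Subgroup G := (Zr : Subgroup (Subgroup.center G)).map (Subgroup.center G).subtype with hZr'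
  have hZr'c : Zr' ≤ Subgroup.center G := Subgroup.map_subtype_le _
  haveI : Zr'.Normal := by
    constructor
    intro z hz a
    have h1 := Subgroup.mem_center_iff.mp (hZr'c hz) a
    have : a * z * a⁻¹ = z := by rw [h1]; group
    rw [this]; exact hz
  have hZr'R : Zr' ≤ (R : Subgroup G) := IsPGroup.le_sylow_of_normal (Zr.2.map _) R
  have hcardZr' : Nat.card Zr' = r ^ (Nat.card (Subgroup.center G)).factorization r := by
    rw [hZr', Subgroup.card_map_of_injective (Subgroup.center G).subtype_injective]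
    exact Zr.card_eq_multiplicity
  set ZR : Subgroup (R : Subgroup G) := (Subgroup.center G).subgroupOf (R : Subgroup G) with hZR
  haveI : ZR.Normal := by
    constructor
    intro z hz a
    rw [hZR, Subgroup.mem_subgroupOf] at hz ⊢
    have h1 := Subgroup.mem_center_iff.mp hz (a : G)
    have : ((a * z * a⁻¹ : (R : Subgroup G)) : G) = (z : G) := by
      simp only [Subgroup.coe_mul, Subgroup.coe_inv]
      rw [h1]; group
    rw [this]; exact hz
  have hZRcard : Nat.card ZR = r ^ (Nat.card (Subgroup.center G)).factorization r := by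
    -- ZR ≃ R ⊓ Z ⊇ Zr', r-subgroup of Z
    have hp1 : IsPGroup r ZR := R.2.to_subgroup _
    obtain ⟨j, hj⟩ := IsPGroup.iff_card.mp hp1
    -- lower bound
    have hle : Zr'.subgroupOf (R : Subgroup G) ≤ ZR := by
      intro x hx
      rw [Subgroup.mem_subgroupOf] at hx
      rw [hZR, Subgroup.mem_subgroupOf]
      exact hZr'c hx
    have hlow : r ^ (Nat.card (Subgroup.center G)).factorization r ∣ r ^ j := by
      rw [← hj, ← hcardZr']
      have : Nat.card (Zr'.subgroupOf (R : Subgroup G)) = Nat.card Zr' :=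
        Nat.card_congr (Subgroup.subgroupOfEquivOfLe hZr'R).toEquiv
      rw [← this]
      exact Subgroup.card_dvd_of_le hle
    -- upper bound: ZR maps to an r-subgroup of Z
    have hup : r ^ j ∣ Nat.card (Subgroup.center G) := by
      rw [← hj]
      have : Nat.card ZR = Nat.card ((R : Subgroup G) ⊓ Subgroup.center G : Subgroup G) := by
        rw [hZR]
        have e := Subgroup.subgroupOf_map_subtype (Subgroup.center G) (R : Subgroup G)
        rw [← Subgroup.card_map_of_injective (R : Subgroup G).subtype_injective, e, inf_comm]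
      rw [this]
      exact Subgroup.card_dvd_of_le inf_le_right
    have hjle := (hr.out.pow_dvd_iff_le_factorization hz0).mp hup
    have hlow' := (Nat.pow_dvd_pow_iff_le_right hr.out.one_lt).mp hlow
    rw [hj]; congr 1; omega
  have hidx : Nat.card ((R : Subgroup G) ⧸ ZR) = r ^ 2 := by
    rw [← Subgroup.index_eq_card]
    have h4 := ZR.card_mul_index
    rw [hZRcard, R.card_eq_multiplicity, hG, pow_add] at h4
    exact Nat.eq_of_mul_eq_mul_left (Nat.pos_of_ne_zero (pow_ne_zero _ hr.out.ne_zero)) h4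
  have hcomm := (isMulCommutative_iff.mp (IsPGroup.isMulCommutative_of_card_eq_prime_sq hidx))
    (QuotientGroup.mk (⟨v, hv⟩ : (R : Subgroup G))) (QuotientGroup.mk (⟨v', hv'⟩ : (R : Subgroup G)))
  have h5 : ((⟨v, hv⟩ * ⟨v', hv'⟩ * (⟨v, hv⟩ : (R : Subgroup G))⁻¹ * (⟨v', hv'⟩ : (R : Subgroup G))⁻¹ :
      (R : Subgroup G)) : (R : Subgroup G) ⧸ ZR) = 1 := by
    simp only [QuotientGroup.mk_mul, QuotientGroup.mk_inv]
    rw [hcomm]; group
  have h6 := (QuotientGroup.eq_one_iff _).mp h5
  rw [hZR, Subgroup.mem_subgroupOf] at h6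
  simpa using h6

include h hpq hxp hxpo hxq hxqo in
/-- C6 (b): every non-central centralizer is normal. -/
theorem Cz_normal' {g : G} (hg : g ∉ Subgroup.center G) : (Cz g).Normal := by
  rw [← Subgroup.normalizer_eq_top_iff, ← Subgroup.index_eq_one]
  by_contra hne
  obtain ⟨r, hr, hrd⟩ := Nat.exists_prime_and_dvd hne
  haveI : Fact r.Prime := ⟨hr⟩
  have hdn : (Subgroup.normalizer ((Cz g : Subgroup G) : Set G)).index ∣ n := by
    rw [← index_eq_of_not_mem n h hg]
    exact Subgroup.index_dvd_of_le Subgroup.le_normalizer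
  have hrn : r ∣ n := hrd.trans hdn
  obtain ⟨w₀, hw₀Z, hw₀o⟩ := exists_noncentral_of_dvd n h hrn hg
  obtain ⟨w, hwg, hwZ, hwo⟩ := exists_noncentral_in_Cz n h hw₀Z hw₀o hg
  have e : Cz w = Cz g :=
    Cz_eq_of_common n h p q hpq xp hxp hxpo xq hxq hxqo hwZ hg hwZ (self_mem_Cz w) hwg
  obtain ⟨R, hwR⟩ := Cfsg.Agent.Lib.Helper7_Basic.pElement_mem_sylow w hwo
  have hRN : (R : Subgroup G) ≤ Subgroup.normalizer ((Cz g : Subgroup G) : Set G) := by
    intro v hv
    rw [Subgroup.mem_normalizer_iff, ← e]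
    intro c
    have hzc := comm_mem_center n h p q hpq xp hxp hxpo xq hxq hxqo hrn R
      ((R : Subgroup G).inv_mem hv) hwR
    have e1 : v⁻¹ * w * v⁻¹⁻¹ = (v⁻¹ * w * v⁻¹⁻¹ * w⁻¹) * w := by group
    have e2 : Cz (v⁻¹ * w * v⁻¹⁻¹) = Cz w := by
      rw [e1]; exact Cz_central_mul hzc _
    have e3 := Cz_conj_mem v⁻¹ w c
    rw [e2] at e3
    rw [e3]
    simp
  have hd : (Subgroup.normalizer ((Cz g : Subgroup G) : Set G)).index ∣ (R : Subgroup G).index :=
    Subgroup.index_dvd_of_le hRN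
  exact R.not_dvd_index (hrd.trans hd)

include h hpq hxp hxpo hxq hxqo in
/-- C6 (c): `G' ≤ Z(G)`. -/
theorem comm_central (g k : G) : g * k * g⁻¹ * k⁻¹ ∈ Subgroup.center G := by
  by_cases hg : g ∈ Subgroup.center G
  · have := Subgroup.mem_center_iff.mp hg k
    have e : g * k * g⁻¹ * k⁻¹ = 1 := by rw [← this]; group
    rw [e]; exact Subgroup.one_mem _
  by_cases hk : k ∈ Subgroup.center G
  · have := Subgroup.mem_center_iff.mp hk g
    have e : g * k * g⁻¹ * k⁻¹ = 1 := by rw [this]; group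
    rw [e]; exact Subgroup.one_mem _
  by_contra he
  haveI hgn := Cz_normal' n h p q hpq xp hxp hxpo xq hxq hxqo hg
  haveI hkn := Cz_normal' n h p q hpq xp hxp hxpo xq hxq hxqo hk
  have h1 : g * k * g⁻¹ * k⁻¹ ∈ Cz g := by
    have : g * k * g⁻¹ * k⁻¹ = g * (k * g⁻¹ * k⁻¹) := by group
    rw [this]
    exact (Cz g).mul_mem (self_mem_Cz g) (hgn.conj_mem _ ((Cz g).inv_mem (self_mem_Cz g)) k)
  have h2 : g * k * g⁻¹ * k⁻¹ ∈ Cz k :=
    (Cz k).mul_mem (hkn.conj_mem _ (self_mem_Cz k) g) ((Cz k).inv_mem (self_mem_Cz k))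
  have e := Cz_eq_of_common n h p q hpq xp hxp hxpo xq hxq hxqo hg hk he h1 h2
  have hkg : k ∈ Cz g := by rw [e]; exact self_mem_Cz k
  have hc := mem_Cz.mp hkg
  apply he
  have e' : g * k * g⁻¹ * k⁻¹ = 1 := by rw [hc]; group
  rw [e']; exact Subgroup.one_mem _

theorem z_pow' (w : G) (m : ℕ) (hwm : w ^ m ∈ Subgroup.center G)
    (hwz : ∀ g : G, w * g * w⁻¹ * g⁻¹ ∈ Subgroup.center G) (g : G) :
    (w * g * w⁻¹ * g⁻¹) ^ m = 1 := by
  have key : ∀ k : ℕ, w ^ k * g * (w ^ k)⁻¹ = (w * g * w⁻¹ * g⁻¹) ^ k * g := by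
    intro k
    induction k with
    | zero => simp
    | succ k ih =>
      have hz := Subgroup.mem_center_iff.mp (Subgroup.pow_mem _ (hwz g) k)
      have : w ^ (k + 1) * g * (w ^ (k + 1))⁻¹ = w * (w ^ k * g * (w ^ k)⁻¹) * w⁻¹ := by
        rw [pow_succ']; group
      rw [this, ih, pow_succ]
      have h2 : w * ((w * g * w⁻¹ * g⁻¹) ^ k * g) * w⁻¹ = w * (w * g * w⁻¹ * g⁻¹) ^ k * (g * w⁻¹) := by
        group
      have h3 : w * (g * w⁻¹) = (w * g * w⁻¹ * g⁻¹) * g := by group
      rw [h2, hz w, mul_assoc, h3, ← mul_assoc]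
  have h1 := key m
  have hc := Subgroup.mem_center_iff.mp hwm
  have h2 : w ^ m * g * (w ^ m)⁻¹ = g := by
    rw [← hc g]; group
  rw [h2] at h1
  have : (w * g * w⁻¹ * g⁻¹) ^ m * g = 1 * g := by rw [one_mul]; exact h1.symm
  exact mul_right_cancel this

include h in
/-- C6 (d): if `G' ≤ Z(G)` and `x` is a non-central `p`-element then `n` is a power of `p`. -/
theorem n_eq_pow (hcomm : ∀ g k : G, g * k * g⁻¹ * k⁻¹ ∈ Subgroup.center G)
    {r : ℕ} [hr : Fact r.Prime] {x : G} (hx : x ∉ Subgroup.center G) (hxo : ∃ k : ℕ, orderOf x = r ^ k) :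
    ∃ j : ℕ, n = r ^ j := by
  obtain ⟨k, hk⟩ := hxo
  have hwz : ∀ g : G, x * g * x⁻¹ * g⁻¹ ∈ Subgroup.center G := fun g => hcomm x g
  have hidx : (Cz x).index = Nat.card (phi x hwz).range := by
    rw [← ker_phi x hwz]; exact Subgroup.index_ker _
  have hP : IsPGroup r (phi x hwz).range := by
    rintro ⟨y, g, rfl⟩
    refine ⟨k, ?_⟩
    apply Subtype.ext
    apply Subtype.ext
    simp only [Subgroup.coe_pow, Subgroup.coe_one]
    have hxm : x ^ (r ^ k) ∈ Subgroup.center G := by
      rw [← hk, pow_orderOf_eq_one]; exact Subgroup.one_mem _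
    exact z_pow' x (r ^ k) hxm hwz g
  obtain ⟨j, hj⟩ := IsPGroup.iff_card.mp hP
  exact ⟨j, by rw [← index_eq_of_not_mem n h hx, hidx, hj]⟩

include h hpq hxp hxpo hxq hxqo in
/-- the core contradiction: there cannot be two active primes. -/
theorem core_false (hn : 1 < n) : False := by
  have hcomm := comm_central n h p q hpq xp hxp hxpo xq hxq hxqo
  obtain ⟨j, hj⟩ := n_eq_pow n h hcomm hxp hxpo
  obtain ⟨j', hj'⟩ := n_eq_pow n h hcomm hxq hxqo
  have hj0 : j ≠ 0 := by
    rintro rfl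
    rw [pow_zero] at hj
    omega
  have h1 : p ∣ n := by rw [hj]; exact dvd_pow_self p hj0
  rw [hj'] at h1
  have h2 := (Nat.prime_dvd_prime_iff_eq hp.out hq.out).mp (hp.out.dvd_of_dvd_pow h1)
  exact hpq h2

end core

section final
variable {G : Type*} [Group G] [Finite G] (n : ℕ)
  (h : ∀ x : G, (Cz x).index = 1 ∨ (Cz x).index = n)

include h in
theorem exists_prime (hn : 1 < n) (hex : ∃ x : G, (Cz x).index = n) :
    ∃ p : ℕ, p.Prime ∧ ∀ w : G, (orderOf w).Coprime p → w ∈ Subgroup.center G := by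
  obtain ⟨x₀, hx₀⟩ := hex
  have hx₀Z : x₀ ∉ Subgroup.center G := by
    intro hc
    have := Subgroup.index_eq_one.mpr (Cz_eq_top.mpr hc)
    omega
  obtain ⟨xp, -, hxp, p, k, hp, hk⟩ := exists_noncentral_part hx₀Z
  refine ⟨p, hp, ?_⟩
  intro w hw
  by_contra hwZ
  obtain ⟨xq, hxqw, hxq, q, l, hq, hl⟩ := exists_noncentral_part hwZ
  have hpq : p ≠ q := by
    rintro rfl
    have h1 : orderOf xq ∣ orderOf w := orderOf_dvd_of_mem_zpowers hxqw
    have h2 : (orderOf xq).Coprime p := Nat.Coprime.coprime_dvd_left h1 hw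
    rw [hl] at h2
    have hl0 : l = 0 := by
      by_contra hl0
      have := (Nat.coprime_pow_left_iff (Nat.pos_of_ne_zero hl0) p p).mp h2
      exact hp.one_lt.ne' ((Nat.coprime_self p).mp this)
    rw [hl0, pow_zero] at hl
    apply hxq
    rw [orderOf_eq_one_iff.mp hl]; exact Subgroup.one_mem _
  haveI : Fact p.Prime := ⟨hp⟩
  haveI : Fact q.Prime := ⟨hq⟩
  exact core_false n h p q hpq xp hxp ⟨k, hk⟩ xq hxq ⟨l, hl⟩ hn

end final

/-- Let G be a finite group whose conjugacy classes have exactly two sizes, 1 and n > 1. Then n is a power of a prime p and G is the direct product of a p-group and an abelian group of order prime to p: its Sylow p-subgroup P is normal with an abelian normal complement centralizing it; moreover P has an abelian normal subgroup A with P/A of exponent dividing p. -/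
theorem result {G : Type*} [Group G] [Finite G] (n : ℕ) (hn : 1 < n)
    (h : ∀ x : G, (Subgroup.centralizer ({x} : Set G)).index = 1 ∨ (Subgroup.centralizer ({x} : Set G)).index = n) (hex : ∃ x : G, (Subgroup.centralizer ({x} : Set G)).index = n) :
    ∃ (p : ℕ) (_ : Fact p.Prime) (a : ℕ), n = p ^ a ∧ ∀ P : Sylow p G, (P : Subgroup G).Normal ∧
      (∃ N : Subgroup G, N.Normal ∧ N.IsComplement' (P : Subgroup G) ∧ IsMulCommutative N ∧
        ∀ x ∈ N, ∀ y ∈ (P : Subgroup G), x * y = y * x) ∧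
      ∃ A : Subgroup (P : Subgroup G), A.Normal ∧ IsMulCommutative A ∧ ∀ y : (P : Subgroup G), y ^ p ∈ A := by
  obtain ⟨p, hp, hcen⟩ := exists_prime n h hn hex
  haveI hpf : Fact p.Prime := ⟨hp⟩
  -- G / Z is a p-group, so G is nilpotent
  have hQ : IsPGroup p (G ⧸ Subgroup.center G) := by
    intro gbar
    obtain ⟨g, rfl⟩ := QuotientGroup.mk_surjective gbar
    obtain ⟨a, b, -, -, hab, ⟨k, hk⟩, hbcop, -, -⟩ := exists_parts g (isOfFinOrder_of_finite g) p hp
    refine ⟨k, ?_⟩
    have hbZ : b ∈ Subgroup.center G := hcen b hbcop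
    have : (QuotientGroup.mk g : G ⧸ Subgroup.center G) = QuotientGroup.mk a := by
      rw [hab, QuotientGroup.mk_mul, (QuotientGroup.eq_one_iff b).mpr hbZ, mul_one]
    rw [this, ← QuotientGroup.mk_pow, ← hk, pow_orderOf_eq_one]
    rfl
  haveI hnil : Group.IsNilpotent G := by
    haveI : Group.IsNilpotent (G ⧸ Subgroup.center G) := hQ.isNilpotent
    exact Subgroup.isNilpotent_of_ker_le_center (QuotientGroup.mk' (Subgroup.center G))
      (by rw [QuotientGroup.ker_mk'])
  -- n = p^a will come from any Sylow P; first fix data for each P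
  have key : ∀ P : Sylow p G, (P : Subgroup G).Normal ∧
      (∃ N : Subgroup G, N.Normal ∧ N.IsComplement' (P : Subgroup G) ∧ IsMulCommutative N ∧
        (∀ x ∈ N, ∀ y ∈ (P : Subgroup G), x * y = y * x) ∧ N ≤ Subgroup.center G) := by
    intro P
    haveI hPn : (P : Subgroup G).Normal := Sylow.normal_of_normalizerCondition Group.normalizerCondition_of_isNilpotent P
    refine ⟨hPn, ?_⟩
    obtain ⟨N, hN⟩ := Subgroup.exists_right_complement'_of_coprime P.card_coprime_index
    have hNcard : Nat.card N = (P : Subgroup G).index := hN.symm.index_eq_card.symm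
    have hNZ : N ≤ Subgroup.center G := by
      intro x hx
      apply hcen
      have h1 : orderOf x ∣ Nat.card N := Subgroup.orderOf_dvd_natCard N hx
      have h2 : ¬ p ∣ Nat.card N := by rw [hNcard]; exact P.not_dvd_index
      exact Nat.Coprime.coprime_dvd_left h1
        (Nat.coprime_comm.mp ((Nat.Prime.coprime_iff_not_dvd hp).mpr h2))
    refine ⟨N, ?_, hN.symm, ?_, ?_, hNZ⟩
    · constructor
      intro x hx g
      have := Subgroup.mem_center_iff.mp (hNZ hx) g
      have e : g * x * g⁻¹ = x := by rw [this]; group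
      rw [e]; exact hx
    · refine ⟨⟨fun a b => ?_⟩⟩
      apply Subtype.ext
      exact (Subgroup.mem_center_iff.mp (hNZ a.2) b).symm
    · intro x hx y _
      exact (Subgroup.mem_center_iff.mp (hNZ hx) y).symm
  -- n is a p-power
  obtain ⟨x₀, hx₀⟩ := hex
  obtain ⟨P₀⟩ := (inferInstance : Nonempty (Sylow p G))
  obtain ⟨-, N₀, -, hN₀c, -, -, hN₀Z⟩ := key P₀
  have hndvd : n ∣ Nat.card (P₀ : Subgroup G) := by
    have h1 : N₀.index = Nat.card (P₀ : Subgroup G) := hN₀c.symm.index_eq_card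
    rw [← h1, ← hx₀]
    exact Subgroup.index_dvd_of_le (hN₀Z.trans (center_le_Cz x₀))
  obtain ⟨k₀, hk₀⟩ := IsPGroup.iff_card.mp P₀.2
  rw [hk₀] at hndvd
  obtain ⟨a, -, ha⟩ := (Nat.dvd_prime_pow hp).mp hndvd
  refine ⟨p, hpf, a, ha, ?_⟩
  intro P
  obtain ⟨hPn, N, hNn, hNc, hNab, hNP, hNZ⟩ := key P
  refine ⟨hPn, ⟨N, hNn, hNc, hNab, hNP⟩, ?_⟩
  refine ⟨Subgroup.center (P : Subgroup G), inferInstance, inferInstance, ?_⟩
  intro y
  apply Cfsg.Agent.S4365.main p P.2 n _ y
  intro v
  -- index of the centralizer of v in P equals that of v in G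
  have hsup : Cz (v : G) ⊔ (P : Subgroup G) = ⊤ := by
    apply top_le_iff.mp
    rw [← hNc.sup_eq_top]
    exact sup_le_sup_right (hNZ.trans (center_le_Cz _)) _
  have e1 : (Cz v).index = (Cz (v : G)).relIndex (P : Subgroup G) := by
    rw [Subgroup.relIndex]
    congr 1
    ext w
    rw [Subgroup.mem_subgroupOf]
    exact mem_Cz_coe (P : Subgroup G) v w
  have e2 : (Cz (v : G)).relIndex (P : Subgroup G) = (Cz (v : G)).index := by
    have h1 := Subgroup.relIndex_mul_index (show Cz (v : G) ⊓ (P : Subgroup G) ≤ (P : Subgroup G) from inf_le_right)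
    have h2 := Subgroup.relIndex_mul_index (show Cz (v : G) ⊓ (P : Subgroup G) ≤ Cz (v : G) from inf_le_left)
    rw [Subgroup.inf_relIndex_right] at h1
    rw [Subgroup.inf_relIndex_left] at h2
    have h3 : (P : Subgroup G).relIndex (Cz (v : G)) = (P : Subgroup G).index := by
      rw [← Subgroup.relIndex_sup_right (K := (P : Subgroup G)) (H := Cz (v : G)), hsup,
        Subgroup.relIndex_top_right]
    rw [h3] at h2
    have h4 : (Cz (v : G)).relIndex (P : Subgroup G) * (P : Subgroup G).index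
        = (Cz (v : G)).index * (P : Subgroup G).index := by
      rw [h1, ← h2, mul_comm]
    exact Nat.eq_of_mul_eq_mul_right (Nat.pos_of_ne_zero Subgroup.index_ne_zero_of_finite) h4
  rw [e1, e2]
  exact h (v : G)

end Cfsg.Agent.S4134
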