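import Mathlib
import Cfsg.Statements.S4142

set_option autoImplicit false
open Cfsg

namespace Cfsg.Agent.S4142

/-- element-wise version: the coset `gN` lies in the class of `g` iff the centralizers of `g` and of
`gN` have the same order. -/
theorem per_element {G : Type*} [Group G] [Finite G] (N : Subgroup G) [hNn : N.Normal] (g : G) :
    (∀ n ∈ N, ∃ x : G, x * g * x⁻¹ = g * n) ↔
      Nat.card (Subgroup.centralizer ({g} : Set G)) =
        Nat.card (Subgroup.centralizer ({(QuotientGroup.mk g : G ⧸ N)} : Set (G ⧸ N))) := by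
  classical
  set C : Subgroup G := Subgroup.centralizer ({g} : Set G) with hC
  set Cbar : Subgroup (G ⧸ N) := Subgroup.centralizer ({(QuotientGroup.mk g : G ⧸ N)} : Set (G ⧸ N)) with hCbar
  set D : Subgroup G := Cbar.comap (QuotientGroup.mk' N) with hD
  have hCmem : ∀ x : G, x ∈ C ↔ x * g = g * x := by
    intro x
    rw [hC, Subgroup.mem_centralizer_iff]
    constructor
    · intro h; exact (h g rfl).symm
    · intro h y hy
      rw [Set.mem_singleton_iff] at hy
      rw [hy]; exact h.symm
  have hDmem : ∀ x : G, x ∈ D ↔ g⁻¹ * x * g * x⁻¹ ∈ N := by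
    intro x
    rw [hD, Subgroup.mem_comap, hCbar, Subgroup.mem_centralizer_iff]
    constructor
    · intro h
      have h1 := h _ rfl
      rw [QuotientGroup.mk'_apply, ← QuotientGroup.mk_mul, ← QuotientGroup.mk_mul,
        QuotientGroup.eq] at h1
      have h2 := hNn.conj_mem _ h1 x
      have : x * ((g * x)⁻¹ * (x * g)) * x⁻¹ = g⁻¹ * x * g * x⁻¹ := by group
      rwa [this] at h2
    · intro h y hy
      rw [Set.mem_singleton_iff] at hy
      rw [hy, QuotientGroup.mk'_apply, ← QuotientGroup.mk_mul, ← QuotientGroup.mk_mul,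
        QuotientGroup.eq]
      have h2 := hNn.conj_mem _ h x⁻¹
      have : x⁻¹ * (g⁻¹ * x * g * x⁻¹) * x⁻¹⁻¹ = (g * x)⁻¹ * (x * g) := by group
      rwa [this] at h2
  have hCD : C ≤ D := by
    intro x hx
    rw [hDmem]
    rw [hCmem] at hx
    have : g⁻¹ * x * g * x⁻¹ = 1 := by
      rw [mul_assoc g⁻¹, hx]; group
    rw [this]; exact N.one_mem
  -- the twisted map on cosets of C in D
  let φ : D ⧸ (C.subgroupOf D) → N := Quotient.lift
    (fun x : D => (⟨g⁻¹ * (x : G) * g * (x : G)⁻¹, (hDmem x).mp x.2⟩ : N)) (by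
      intro a b hab
      have hab' : a⁻¹ * b ∈ C.subgroupOf D := QuotientGroup.leftRel_apply.mp hab
      rw [Subgroup.mem_subgroupOf, hCmem] at hab'
      apply Subtype.ext
      show g⁻¹ * (a : G) * g * (a : G)⁻¹ = g⁻¹ * (b : G) * g * (b : G)⁻¹
      have h1 : ((a : G)⁻¹ * (b : G)) * g = g * ((a : G)⁻¹ * (b : G)) := by
        simpa using hab'
      have h2 : (b : G) * g * (b : G)⁻¹ = (a : G) * g * (a : G)⁻¹ := by
        have : (b : G) = (a : G) * ((a : G)⁻¹ * (b : G)) := by group
        rw [this, mul_assoc (a : G), h1]; group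
      have e1 : g⁻¹ * (a : G) * g * (a : G)⁻¹ = g⁻¹ * ((a : G) * g * (a : G)⁻¹) := by group
      have e2 : g⁻¹ * (b : G) * g * (b : G)⁻¹ = g⁻¹ * ((b : G) * g * (b : G)⁻¹) := by group
      rw [e1, e2, h2])
  have hφ : ∀ x : D, φ (QuotientGroup.mk x) = ⟨g⁻¹ * (x : G) * g * (x : G)⁻¹, (hDmem x).mp x.2⟩ :=
    fun x => rfl
  have hφinj : Function.Injective φ := by
    intro a b
    induction a using QuotientGroup.induction_on with
    | H a =>
      induction b using QuotientGroup.induction_on with
      | H b =>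
        intro hab
        rw [hφ, hφ] at hab
        have h1 : g⁻¹ * (a : G) * g * (a : G)⁻¹ = g⁻¹ * (b : G) * g * (b : G)⁻¹ :=
          congrArg Subtype.val hab
        rw [QuotientGroup.eq, Subgroup.mem_subgroupOf, hCmem]
        have h2 : (a : G) * g * (a : G)⁻¹ = (b : G) * g * (b : G)⁻¹ := by
          have := congrArg (fun t => g * t) h1
          simpa [mul_assoc] using this
        have h3 : ((a : G)⁻¹ * (b : G)) * g = g * ((a : G)⁻¹ * (b : G)) := by
          have : (b : G) * g = (a : G) * g * (a : G)⁻¹ * (b : G) := by rw [h2]; group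
          calc ((a : G)⁻¹ * (b : G)) * g = (a : G)⁻¹ * ((b : G) * g) := by group
            _ = (a : G)⁻¹ * ((a : G) * g * (a : G)⁻¹ * (b : G)) := by rw [this]
            _ = _ := by group
        simpa using h3
  have hsurj_iff : (∀ n ∈ N, ∃ x : G, x * g * x⁻¹ = g * n) ↔ Function.Surjective φ := by
    constructor
    · intro h n
      obtain ⟨x, hx⟩ := h n n.2
      have hxn : g⁻¹ * x * g * x⁻¹ = n := by
        have e1 : g⁻¹ * x * g * x⁻¹ = g⁻¹ * (x * g * x⁻¹) := by group
        rw [e1, hx]; group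
      have hxD : x ∈ D := by
        rw [hDmem, hxn]; exact n.2
      refine ⟨QuotientGroup.mk ⟨x, hxD⟩, ?_⟩
      rw [hφ]
      exact Subtype.ext hxn
    · intro h n hn
      obtain ⟨q, hq⟩ := h ⟨n, hn⟩
      induction q using QuotientGroup.induction_on with
      | H x =>
        rw [hφ] at hq
        have h1 : g⁻¹ * (x : G) * g * (x : G)⁻¹ = n := congrArg Subtype.val hq
        refine ⟨x, ?_⟩
        rw [← h1]; group
  -- cardinalities
  have hcardD : Nat.card D = Nat.card N * Nat.card Cbar := by
    have := QuotientGroup.card_preimage_mk N (Cbar : Set (G ⧸ N))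
    exact this
  have hcardQ : Nat.card (D ⧸ (C.subgroupOf D)) * Nat.card C = Nat.card D := by
    have h1 := Subgroup.card_eq_card_quotient_mul_card_subgroup (C.subgroupOf D)
    rw [Nat.card_congr (Subgroup.subgroupOfEquivOfLe hCD).toEquiv] at h1
    exact h1.symm
  have hCpos : 0 < Nat.card C := Nat.card_pos
  have hNpos : 0 < Nat.card N := Nat.card_pos
  rw [hsurj_iff]
  constructor
  · intro hs
    have hb : Function.Bijective φ := ⟨hφinj, hs⟩
    have hc : Nat.card (D ⧸ (C.subgroupOf D)) = Nat.card N := Nat.card_congr (Equiv.ofBijective φ hb)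
    rw [hc, hcardD] at hcardQ
    exact Nat.eq_of_mul_eq_mul_left hNpos hcardQ
  · intro hc
    have h1 : Nat.card (D ⧸ (C.subgroupOf D)) * Nat.card C = Nat.card N * Nat.card C := by
      rw [hcardQ, hcardD, hc]
    have h2 : Nat.card (D ⧸ (C.subgroupOf D)) = Nat.card N := Nat.eq_of_mul_eq_mul_right hCpos h1
    exact (hφinj.bijective_of_nat_card_le (le_of_eq h2.symm)).2

theorem result {G : Type*} [Group G] [Finite G] (N : Subgroup G) [N.Normal] :
    (∀ g : G, g ∉ N → ∀ n ∈ N, ∃ x : G, x * g * x⁻¹ = g * n) ↔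
      ∀ g : G, g ∉ N → Nat.card (Subgroup.centralizer ({g} : Set G)) =
        Nat.card (Subgroup.centralizer ({(QuotientGroup.mk g : G ⧸ N)} : Set (G ⧸ N))) := by
  constructor
  · intro h g hg
    exact (per_element N g).mp (h g hg)
  · intro h g hg
    exact (per_element N g).mpr (h g hg)

end Cfsg.Agent.S4142
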