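import Cfsg.Statements.S4143
import Mathlib
import Cfsg.Agent.Lib.Lead_Hall

set_option autoImplicit false
open Cfsg

namespace Cfsg.Agent.S4143

open Cfsg.Agent.Lib.Lead_SZ Cfsg.Agent.Lib.Lead_Hall

universe u

/-- class of an abelian group of order `p^2` -/
theorem class_of_card_sq {X : Type u} [Group X] [Finite X] {p : ℕ} [hp : Fact p.Prime]
    (hX : Nat.card X = p ^ 2) : Group.nilpotencyClass X = 1 := by
  have hcomm := IsPGroup.isMulCommutative_of_card_eq_prime_sq hX
  letI : CommGroup X := { (inferInstance : Group X) with mul_comm := hcomm.is_comm.comm }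
  have h1 : Group.nilpotencyClass X ≤ 1 := CommGroup.nilpotencyClass_le_one
  have h0 : Group.nilpotencyClass X ≠ 0 := by
    intro h
    rw [Group.nilpotencyClass_zero_iff_subsingleton] at h
    have : Nat.card X = 1 := Nat.card_eq_one_iff_unique.mpr ⟨h, ⟨1⟩⟩
    rw [hX] at this
    have := hp.out.one_lt
    nlinarith [Nat.one_lt_pow (n := 2) (by norm_num) this]
  omega

/-- Suzuki: a `p`-group with an element whose centralizer has order at most `p^2` has maximal
class. -/
theorem suzuki_elt (p : ℕ) [hp : Fact p.Prime] : ∀ (n : ℕ) (X : Type u) [Group X] [Finite X],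
    2 ≤ n → Nat.card X = p ^ n → ∀ a : X, Nat.card (Subgroup.centralizer ({a} : Set X)) ≤ p ^ 2 →
    Group.nilpotencyClass X = n - 1 := by
  intro n
  induction n using Nat.strong_induction_on with
  | _ n ih =>
    intro X _ _ hn hX a ha
    have hp1 : 1 < p := hp.out.one_lt
    have hGp : IsPGroup p X := IsPGroup.of_card hX
    haveI hnil : Group.IsNilpotent X := hGp.isNilpotent
    haveI hnt : Nontrivial X := by
      rw [← Finite.one_lt_card_iff_nontrivial, hX]
      exact Nat.one_lt_pow (by omega) hp1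
    by_cases haZ : a ∈ Subgroup.center X
    · have htop : Subgroup.centralizer ({a} : Set X) = ⊤ := by
        rw [eq_top_iff]
        intro g _
        rw [Subgroup.mem_centralizer_iff]
        intro h hh
        rw [Set.mem_singleton_iff] at hh
        rw [hh]
        exact ((Subgroup.mem_center_iff.mp haZ) g).symm
      rw [htop, Subgroup.card_top, hX] at ha
      have : n ≤ 2 := (Nat.pow_le_pow_iff_right hp1).mp ha
      have hn2 : n = 2 := by omega
      subst hn2
      exact class_of_card_sq hX
    · set Z := Subgroup.center X with hZ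
      have hZle : Z ≤ Subgroup.centralizer ({a} : Set X) := Subgroup.center_le_centralizer _
      have haC : a ∈ Subgroup.centralizer ({a} : Set X) := by
        rw [Subgroup.mem_centralizer_iff]
        intro h hh
        rw [Set.mem_singleton_iff] at hh
        rw [hh]
      have hZlt : Z < Subgroup.centralizer ({a} : Set X) :=
        lt_of_le_of_ne hZle (fun h => haZ (h ▸ haC))
      have hZcard : Nat.card Z = p := by
        haveI : Nontrivial Z := IsPGroup.center_nontrivial hGp
        obtain ⟨j, hj⟩ := IsPGroup.iff_card.mp (hGp.to_subgroup Z)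
        have h1 : Nat.card Z < p ^ 2 := lt_of_lt_of_le (card_lt hZlt) ha
        rw [hj] at h1
        have hj2 : j < 2 := (Nat.pow_lt_pow_iff_right hp1).mp h1
        have hj0 : j ≠ 0 := by
          intro h0
          rw [h0, pow_zero] at hj
          have := (Nat.card_eq_one_iff_unique.mp hj).1
          exact not_subsingleton _ this
        have : j = 1 := by omega
        rw [hj, this, pow_one]
      have hn3 : 3 ≤ n := by
        by_contra hlt
        have hn2 : n = 2 := by omega
        subst hn2
        have hcomm := IsPGroup.isMulCommutative_of_card_eq_prime_sq hX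
        apply haZ
        rw [Subgroup.mem_center_iff]
        intro g
        exact hcomm.is_comm.comm g a
      have hXb : Nat.card (X ⧸ Z) = p ^ (n - 1) := by
        have h1 := Subgroup.card_eq_card_quotient_mul_card_subgroup Z
        rw [hX, hZcard] at h1
        have : p ^ n = p ^ (n - 1) * p := by
          rw [← pow_succ]; congr 1; omega
        rw [this] at h1
        exact (Nat.eq_of_mul_eq_mul_right (by omega) h1).symm
      set ab : X ⧸ Z := QuotientGroup.mk' Z a with hab
      set D := (Subgroup.centralizer ({ab} : Set (X ⧸ Z))).comap (QuotientGroup.mk' Z) with hD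
      have hDcard : Nat.card D = Nat.card (Subgroup.centralizer ({ab} : Set (X ⧸ Z))) * p := by
        rw [hD, card_comap_mk Z, hZcard]
      have hDmem : ∀ x : X, x ∈ D → x * a * x⁻¹ * a⁻¹ ∈ Z := by
        intro x hx
        have h1 : QuotientGroup.mk' Z x ∈ Subgroup.centralizer ({ab} : Set (X ⧸ Z)) := hx
        rw [Subgroup.mem_centralizer_iff] at h1
        have h2 := h1 ab rfl
        rw [← QuotientGroup.eq_one_iff, ← QuotientGroup.mk'_apply, map_mul, map_mul, map_mul, map_inv,
          map_inv, ← hab, ← h2]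
        group
      let ψ : D →* Z :=
        { toFun := fun x => ⟨x.1 * a * x.1⁻¹ * a⁻¹, hDmem x.1 x.2⟩
          map_one' := by
            apply Subtype.ext
            show (1 : X) * a * (1 : X)⁻¹ * a⁻¹ = 1
            group
          map_mul' := by
            intro x y
            apply Subtype.ext
            show (x.1 * y.1) * a * (x.1 * y.1)⁻¹ * a⁻¹ =
              (x.1 * a * x.1⁻¹ * a⁻¹) * (y.1 * a * y.1⁻¹ * a⁻¹)
            have hc := hDmem y.1 y.2
            have hcx := (Subgroup.mem_center_iff.mp hc) x.1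
            have hcxa := (Subgroup.mem_center_iff.mp hc) (x.1 * a * x.1⁻¹ * a⁻¹)
            calc (x.1 * y.1) * a * (x.1 * y.1)⁻¹ * a⁻¹
                = x.1 * (y.1 * a * y.1⁻¹ * a⁻¹) * a * x.1⁻¹ * a⁻¹ := by group
              _ = (y.1 * a * y.1⁻¹ * a⁻¹) * x.1 * a * x.1⁻¹ * a⁻¹ := by rw [hcx]
              _ = (y.1 * a * y.1⁻¹ * a⁻¹) * (x.1 * a * x.1⁻¹ * a⁻¹) := by group
              _ = (x.1 * a * x.1⁻¹ * a⁻¹) * (y.1 * a * y.1⁻¹ * a⁻¹) := hcxa.symm }
      have hker : Nat.card ψ.ker ≤ Nat.card (Subgroup.centralizer ({a} : Set X)) := by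
        refine Nat.card_le_card_of_injective
          (fun k => (⟨k.1.1, ?_⟩ : Subgroup.centralizer ({a} : Set X))) ?_
        · have hk := k.2
          rw [MonoidHom.mem_ker] at hk
          have h1 : k.1.1 * a * k.1.1⁻¹ * a⁻¹ = 1 := congrArg Subtype.val hk
          rw [Subgroup.mem_centralizer_iff]
          intro h hh
          rw [Set.mem_singleton_iff] at hh
          rw [hh]
          have : k.1.1 * a = (k.1.1 * a * k.1.1⁻¹ * a⁻¹) * (a * k.1.1) := by group
          rw [this, h1, one_mul]
        · intro k k' hkk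
          have : k.1.1 = k'.1.1 := by
            have h := congrArg (fun t : Subgroup.centralizer ({a} : Set X) => (t : X)) hkk
            exact h
          exact Subtype.ext (Subtype.ext this)
      have hDle : Nat.card D ≤ p ^ 2 * p := by
        have h1 := Subgroup.card_mul_index ψ.ker
        rw [Subgroup.index_ker] at h1
        rw [← h1]
        have h2 : Nat.card ψ.range ≤ p := by
          rw [← hZcard]; exact Subgroup.card_le_card_group _
        exact Nat.mul_le_mul (hker.trans ha) h2
      have hcb : Nat.card (Subgroup.centralizer ({ab} : Set (X ⧸ Z))) ≤ p ^ 2 := by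
        rw [hDcard] at hDle
        exact Nat.le_of_mul_le_mul_right hDle (by omega)
      have hcl := ih (n - 1) (by omega) (X ⧸ Z) (by omega) hXb ab hcb
      rw [Group.nilpotencyClass_eq_quotient_center_plus_one, hcl]
      omega

/-- if `[x, b]` is central for all `x ∈ E` then `|E| ≤ |C_E(b)| * |Z(X)|`. -/
theorem comm_hom_bound {X : Type u} [Group X] [Finite X] (E : Subgroup X) (b : X)
    (hE : ∀ x ∈ E, x * b * x⁻¹ * b⁻¹ ∈ Subgroup.center X) :
    Nat.card E ≤ Nat.card (E ⊓ Subgroup.centralizer ({b} : Set X) : Subgroup X) *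
      Nat.card (Subgroup.center X) := by
  let ψ : E →* Subgroup.center X :=
    { toFun := fun x => ⟨x.1 * b * x.1⁻¹ * b⁻¹, hE x.1 x.2⟩
      map_one' := by
        apply Subtype.ext
        show (1 : X) * b * (1 : X)⁻¹ * b⁻¹ = 1
        group
      map_mul' := by
        intro x y
        apply Subtype.ext
        show (x.1 * y.1) * b * (x.1 * y.1)⁻¹ * b⁻¹ =
          (x.1 * b * x.1⁻¹ * b⁻¹) * (y.1 * b * y.1⁻¹ * b⁻¹)
        have hc := hE y.1 y.2
        have hcx := (Subgroup.mem_center_iff.mp hc) x.1
        have hcxa := (Subgroup.mem_center_iff.mp hc) (x.1 * b * x.1⁻¹ * b⁻¹)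
        calc (x.1 * y.1) * b * (x.1 * y.1)⁻¹ * b⁻¹
            = x.1 * (y.1 * b * y.1⁻¹ * b⁻¹) * b * x.1⁻¹ * b⁻¹ := by group
          _ = (y.1 * b * y.1⁻¹ * b⁻¹) * x.1 * b * x.1⁻¹ * b⁻¹ := by rw [hcx]
          _ = (y.1 * b * y.1⁻¹ * b⁻¹) * (x.1 * b * x.1⁻¹ * b⁻¹) := by group
          _ = (x.1 * b * x.1⁻¹ * b⁻¹) * (y.1 * b * y.1⁻¹ * b⁻¹) := hcxa.symm }
  have hker : Nat.card ψ.ker ≤
      Nat.card (E ⊓ Subgroup.centralizer ({b} : Set X) : Subgroup X) := by
    refine Nat.card_le_card_of_injective
      (fun k => (⟨k.1.1, ?_⟩ : (E ⊓ Subgroup.centralizer ({b} : Set X) : Subgroup X))) ?_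
    · have hk := k.2
      rw [MonoidHom.mem_ker] at hk
      have h1 : k.1.1 * b * k.1.1⁻¹ * b⁻¹ = 1 := congrArg Subtype.val hk
      refine Subgroup.mem_inf.mpr ⟨k.1.2, ?_⟩
      rw [Subgroup.mem_centralizer_iff]
      intro h hh
      rw [Set.mem_singleton_iff] at hh
      rw [hh]
      have : k.1.1 * b = (k.1.1 * b * k.1.1⁻¹ * b⁻¹) * (b * k.1.1) := by group
      rw [this, h1, one_mul]
    · intro k k' hkk
      have : k.1.1 = k'.1.1 := by
        have h := congrArg
          (fun t : (E ⊓ Subgroup.centralizer ({b} : Set X) : Subgroup X) => (t : X)) hkk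
        exact h
      exact Subtype.ext (Subtype.ext this)
  have h1 := Subgroup.card_mul_index ψ.ker
  rw [Subgroup.index_ker] at h1
  rw [← h1]
  exact Nat.mul_le_mul hker (Subgroup.card_le_card_group _)

/-- `⟨b⟩ Z` is abelian-like: an element commuting with `b` and with a subgroup `Z`
commutes with `zpowers b ⊔ Z`. -/
theorem sup_le_centralizer {X : Type u} [Group X] (b c : X) (Z : Subgroup X)
    (hbc : b * c = c * b) (hZ : ∀ z ∈ Z, z * c = c * z) :
    Subgroup.zpowers b ⊔ Z ≤ Subgroup.centralizer ({c} : Set X) := by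
  refine sup_le ?_ ?_
  · rw [Subgroup.zpowers_le, Subgroup.mem_centralizer_iff]
    intro h hh
    rw [Set.mem_singleton_iff] at hh
    rw [hh]; exact hbc.symm
  · intro z hz
    rw [Subgroup.mem_centralizer_iff]
    intro h hh
    rw [Set.mem_singleton_iff] at hh
    rw [hh]; exact (hZ z hz).symm

theorem suzuki_sub (p : ℕ) [hp : Fact p.Prime] (n : ℕ) (X : Type u) [Group X] [Finite X]
    (hX : Nat.card X = p ^ n) (A : Subgroup X) (hA : Nat.card A = p ^ 2)
    (hCA : Subgroup.centralizer (A : Set X) ≤ A) : Group.nilpotencyClass X = n - 1 := by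
  have hp1 : 1 < p := hp.out.one_lt
  have hGp : IsPGroup p X := IsPGroup.of_card hX
  have hn : 2 ≤ n := by
    have h1 : p ^ 2 ∣ p ^ n := by rw [← hA, ← hX]; exact Subgroup.card_subgroup_dvd_card A
    exact (Nat.pow_dvd_pow_iff_le_right hp1).mp h1
  haveI hnt : Nontrivial X := by
    rw [← Finite.one_lt_card_iff_nontrivial, hX]
    exact Nat.one_lt_pow (by omega) hp1
  set Z := Subgroup.center X with hZ
  have hZA : Z ≤ A := (Subgroup.center_le_centralizer _).trans hCA
  by_cases hex : ∃ a ∈ A, a ∉ Z
  · obtain ⟨a, haA, haZ⟩ := hex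
    set S := Subgroup.zpowers a ⊔ Z with hS
    have hSA : S ≤ A := sup_le (by rw [Subgroup.zpowers_le]; exact haA) hZA
    have hZS : Z < S := by
      refine lt_of_le_of_ne le_sup_right ?_
      intro h
      apply haZ
      rw [h]
      exact le_sup_left (a := Subgroup.zpowers a) (b := Z) (Subgroup.mem_zpowers a)
    have hZp : p ≤ Nat.card Z := by
      haveI : Nontrivial Z := IsPGroup.center_nontrivial hGp
      obtain ⟨j, hj⟩ := IsPGroup.iff_card.mp (hGp.to_subgroup Z)
      have hj0 : j ≠ 0 := by
        intro h0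
        rw [h0, pow_zero] at hj
        have := (Nat.card_eq_one_iff_unique.mp hj).1
        exact not_subsingleton _ this
      rw [hj]
      calc p = p ^ 1 := (pow_one p).symm
        _ ≤ p ^ j := Nat.pow_le_pow_right (by omega) (by omega)
    have hSeq : S = A := by
      refine eq_of_le_of_card_eq hSA ?_
      obtain ⟨j, hj⟩ := IsPGroup.iff_card.mp (hGp.to_subgroup S)
      have h1 : p < p ^ j := by rw [← hj]; exact lt_of_le_of_lt hZp (card_lt hZS)
      have h2 : p ^ j ≤ p ^ 2 := by
        rw [← hj, ← hA]; exact Nat.le_of_dvd Nat.card_pos (Subgroup.card_dvd_of_le hSA)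
      have hj1 : 1 < j := by
        have : p ^ 1 < p ^ j := by rwa [pow_one]
        exact (Nat.pow_lt_pow_iff_right hp1).mp this
      have hj2 : j ≤ 2 := (Nat.pow_le_pow_iff_right hp1).mp h2
      have : j = 2 := by omega
      rw [hj, this, hA]
    have hCa : Subgroup.centralizer ({a} : Set X) ≤ A := by
      intro c hc
      apply hCA
      rw [Subgroup.mem_centralizer_iff] at hc
      have hac : a * c = c * a := hc a rfl
      have h1 := sup_le_centralizer a c Z hac
        (fun z hz => ((Subgroup.mem_center_iff.mp hz) c).symm)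
      rw [Subgroup.mem_centralizer_iff]
      intro h hh
      have hhS : h ∈ S := by rw [hSeq]; exact hh
      have := h1 hhS
      rw [Subgroup.mem_centralizer_iff] at this
      exact (this c rfl).symm
    have hcard : Nat.card (Subgroup.centralizer ({a} : Set X)) ≤ p ^ 2 := by
      rw [← hA]; exact Nat.le_of_dvd Nat.card_pos (Subgroup.card_dvd_of_le hCa)
    exact suzuki_elt p n X hn hX a hcard
  · push Not at hex
    have hAZ : A ≤ Z := hex
    have htop : Subgroup.centralizer (A : Set X) = ⊤ := by
      rw [eq_top_iff]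
      intro g _
      rw [Subgroup.mem_centralizer_iff]
      intro h hh
      exact ((Subgroup.mem_center_iff.mp (hAZ hh)) g).symm
    have hAtop : A = ⊤ := by
      rw [eq_top_iff, ← htop]; exact hCA
    have hX2 : Nat.card X = p ^ 2 := by
      rw [← hA, hAtop, Subgroup.card_top]
    have : n = 2 := by
      rw [hX] at hX2
      exact Nat.pow_right_injective hp1 hX2
    subst this
    exact class_of_card_sq hX2

theorem result {X : Type*} [Group X] [Finite X] {p : ℕ} [Fact p.Prime] (n : ℕ) (hX : Nat.card X = p ^ n)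
    (B : Subgroup X) (hB : Nat.card B = p ^ 3) (hBna : ¬ IsMulCommutative B) (hC : Subgroup.centralizer (B : Set X) ≤ B) :
    Group.nilpotencyClass X = n - 1 := by
  have hp : p.Prime := Fact.out
  have hp1 : 1 < p := hp.one_lt
  have hGp : IsPGroup p X := IsPGroup.of_card hX
  have hn : 3 ≤ n := by
    have h1 : p ^ 3 ∣ p ^ n := by rw [← hB, ← hX]; exact Subgroup.card_subgroup_dvd_card B
    exact (Nat.pow_dvd_pow_iff_le_right hp1).mp h1
  haveI hnt : Nontrivial X := by
    rw [← Finite.one_lt_card_iff_nontrivial, hX]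
    exact Nat.one_lt_pow (by omega) hp1
  haveI hnil : Group.IsNilpotent X := hGp.isNilpotent
  set Z := Subgroup.center X with hZ
  set ZB := Subgroup.centralizer (B : Set X) with hZB
  have hZZB : Z ≤ ZB := Subgroup.center_le_centralizer _
  -- non-commuting pair
  obtain ⟨b₁, hb₁, b₂, hb₂, hne⟩ : ∃ b₁ ∈ B, ∃ b₂ ∈ B, b₁ * b₂ ≠ b₂ * b₁ := by
    by_contra hall
    push Not at hall
    apply hBna
    refine ⟨⟨fun a b => ?_⟩⟩
    exact Subtype.ext (hall a.1 a.2 b.1 b.2)
  -- subgroups of B containing b₁, b₂ are B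
  have hSB : ∀ S : Subgroup X, S ≤ B → b₁ ∈ S → b₂ ∈ S → S = B := by
    intro S hS h1 h2
    refine eq_of_le_of_card_eq hS ?_
    obtain ⟨j, hj⟩ := IsPGroup.iff_card.mp (hGp.to_subgroup S)
    have hj3 : j ≤ 3 := by
      have : p ^ j ≤ p ^ 3 := by
        rw [← hj, ← hB]; exact Nat.le_of_dvd Nat.card_pos (Subgroup.card_dvd_of_le hS)
      exact (Nat.pow_le_pow_iff_right hp1).mp this
    have hcomm : j ≤ 2 → False := by
      intro hj2
      have hc : ∀ a b : S, a * b = b * a := by
        interval_cases j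
        · rw [pow_zero] at hj
          have := (Nat.card_eq_one_iff_unique.mp hj).1
          intro a b
          rw [Subsingleton.elim a b]
        · rw [pow_one] at hj
          haveI : IsCyclic S := isCyclic_of_prime_card hj
          letI := (inferInstance : IsCyclic S).commGroup
          exact mul_comm
        · exact (IsPGroup.isMulCommutative_of_card_eq_prime_sq hj).is_comm.comm
      exact hne (congrArg Subtype.val (hc ⟨b₁, h1⟩ ⟨b₂, h2⟩))
    have : j = 3 := by
      by_contra h3
      exact hcomm (by omega)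
    rw [hj, this, hB]
  -- ZB has order p
  have hb₁ZB : b₁ ∉ ZB := by
    intro h
    rw [hZB, Subgroup.mem_centralizer_iff] at h
    exact hne (h b₂ hb₂).symm
  have hZBlt : ZB < B := lt_of_le_of_ne hC (fun h => hb₁ZB (h ▸ hb₁))
  have hZp : p ≤ Nat.card Z := by
    haveI : Nontrivial Z := IsPGroup.center_nontrivial hGp
    obtain ⟨j, hj⟩ := IsPGroup.iff_card.mp (hGp.to_subgroup Z)
    have hj0 : j ≠ 0 := by
      intro h0
      rw [h0, pow_zero] at hj
      have := (Nat.card_eq_one_iff_unique.mp hj).1
      exact not_subsingleton _ this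
    rw [hj]
    calc p = p ^ 1 := (pow_one p).symm
      _ ≤ p ^ j := Nat.pow_le_pow_right (by omega) (by omega)
  have hZBcard : Nat.card ZB = p := by
    obtain ⟨j, hj⟩ := IsPGroup.iff_card.mp (hGp.to_subgroup ZB)
    have hj3 : j < 3 := by
      have : p ^ j < p ^ 3 := by rw [← hj, ← hB]; exact card_lt hZBlt
      exact (Nat.pow_lt_pow_iff_right hp1).mp this
    have hj1 : 1 ≤ j := by
      have h1 : p ≤ p ^ j := by
        rw [← hj]; exact hZp.trans (Nat.le_of_dvd Nat.card_pos (Subgroup.card_dvd_of_le hZZB))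
      by_contra h0
      have : j = 0 := by omega
      rw [this, pow_zero] at h1
      omega
    have hj2 : j ≠ 2 := by
      intro h2
      set S' := Subgroup.zpowers b₁ ⊔ ZB with hS'
      have hS'B : S' ≤ B := sup_le (by rw [Subgroup.zpowers_le]; exact hb₁) hC
      have hlt : ZB < S' := by
        refine lt_of_le_of_ne le_sup_right ?_
        intro h
        apply hb₁ZB
        rw [h]
        exact le_sup_left (a := Subgroup.zpowers b₁) (b := ZB) (Subgroup.mem_zpowers b₁)
      have hS'eq : S' = B := by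
        refine eq_of_le_of_card_eq hS'B ?_
        obtain ⟨i, hi⟩ := IsPGroup.iff_card.mp (hGp.to_subgroup S')
        have h1 : p ^ 2 < p ^ i := by rw [← hi, ← h2, ← hj]; exact card_lt hlt
        have h3 : p ^ i ≤ p ^ 3 := by
          rw [← hi, ← hB]; exact Nat.le_of_dvd Nat.card_pos (Subgroup.card_dvd_of_le hS'B)
        have : i = 3 := by
          have := (Nat.pow_lt_pow_iff_right hp1).mp h1
          have := (Nat.pow_le_pow_iff_right hp1).mp h3
          omega
        rw [hi, this, hB]
      have hle := sup_le_centralizer b₁ b₁ ZB rfl (fun z hz => by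
        rw [hZB, Subgroup.mem_centralizer_iff] at hz
        exact (hz b₁ hb₁).symm)
      have hb₂S : b₂ ∈ S' := by rw [hS'eq]; exact hb₂
      have := hle hb₂S
      rw [Subgroup.mem_centralizer_iff] at this
      exact hne (this b₁ rfl)
    have : j = 1 := by omega
    rw [hj, this, pow_one]
  have hZeq : Z = ZB := eq_of_le_of_card_eq hZZB
    (le_antisymm (Nat.le_of_dvd Nat.card_pos (Subgroup.card_dvd_of_le hZZB)) (hZBcard ▸ hZp))
  have hZcard : Nat.card Z = p := by rw [hZeq]; exact hZBcard
  have hZB' : Z ≤ B := hZeq ▸ hC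
  -- the quotient
  have hXb : Nat.card (X ⧸ Z) = p ^ (n - 1) := by
    have h1 := Subgroup.card_eq_card_quotient_mul_card_subgroup Z
    rw [hX, hZcard] at h1
    have : p ^ n = p ^ (n - 1) * p := by
      rw [← pow_succ]; congr 1; omega
    rw [this] at h1
    exact (Nat.eq_of_mul_eq_mul_right (by omega) h1).symm
  set Bb := B.map (QuotientGroup.mk' Z) with hBb
  have hBbcard : Nat.card Bb = p ^ 2 := by
    have h1 := card_map_of_le Z B hZB'
    rw [hB, hZcard] at h1
    have : p ^ 3 = p ^ 2 * p := by ring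
    rw [this] at h1
    exact Nat.eq_of_mul_eq_mul_right (by omega) h1
  set D' := (Subgroup.centralizer (Bb : Set (X ⧸ Z))).comap (QuotientGroup.mk' Z) with hD'
  have hD'mem : ∀ x ∈ D', ∀ b ∈ B, x * b * x⁻¹ * b⁻¹ ∈ Z := by
    intro x hx b hb
    have h1 : QuotientGroup.mk' Z x ∈ Subgroup.centralizer (Bb : Set (X ⧸ Z)) := hx
    rw [Subgroup.mem_centralizer_iff] at h1
    have h2 := h1 (QuotientGroup.mk' Z b) ⟨b, hb, rfl⟩
    rw [← QuotientGroup.eq_one_iff, ← QuotientGroup.mk'_apply, map_mul, map_mul, map_mul, map_inv,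
      map_inv, ← h2]
    group
  have hBD' : B ≤ D' := by
    intro b hb
    show QuotientGroup.mk' Z b ∈ Subgroup.centralizer (Bb : Set (X ⧸ Z))
    rw [Subgroup.mem_centralizer_iff]
    intro h hh
    have hc := (IsPGroup.isMulCommutative_of_card_eq_prime_sq hBbcard).is_comm.comm
      ⟨h, hh⟩ ⟨QuotientGroup.mk' Z b, b, hb, rfl⟩
    exact congrArg Subtype.val hc
  have hD'card : Nat.card D' ≤ p ^ 3 := by
    have s1 := comm_hom_bound D' b₁ (fun x hx => hD'mem x hx b₁ hb₁)
    have s2 := comm_hom_bound (D' ⊓ Subgroup.centralizer ({b₁} : Set X)) b₂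
      (fun x hx => hD'mem x (Subgroup.mem_inf.mp hx).1 b₂ hb₂)
    have s3 : Nat.card ((D' ⊓ Subgroup.centralizer ({b₁} : Set X)) ⊓
        Subgroup.centralizer ({b₂} : Set X) : Subgroup X) ≤ p := by
      rw [← hZBcard]
      refine Nat.le_of_dvd Nat.card_pos (Subgroup.card_dvd_of_le ?_)
      intro x hx
      obtain ⟨hx1, hx2⟩ := Subgroup.mem_inf.mp hx
      obtain ⟨-, hx1'⟩ := Subgroup.mem_inf.mp hx1
      rw [Subgroup.mem_centralizer_iff] at hx1' hx2
      have hS := hSB (B ⊓ Subgroup.centralizer ({x} : Set X)) inf_le_left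
        (Subgroup.mem_inf.mpr ⟨hb₁, by
          rw [Subgroup.mem_centralizer_iff]
          intro h hh
          rw [Set.mem_singleton_iff] at hh
          rw [hh]; exact (hx1' b₁ rfl).symm⟩)
        (Subgroup.mem_inf.mpr ⟨hb₂, by
          rw [Subgroup.mem_centralizer_iff]
          intro h hh
          rw [Set.mem_singleton_iff] at hh
          rw [hh]; exact (hx2 b₂ rfl).symm⟩)
      rw [hZB, Subgroup.mem_centralizer_iff]
      intro b hb
      have : b ∈ B ⊓ Subgroup.centralizer ({x} : Set X) := by rw [hS]; exact hb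
      have := (Subgroup.mem_inf.mp this).2
      rw [Subgroup.mem_centralizer_iff] at this
      exact (this x rfl).symm
    rw [hZcard] at s1 s2
    calc Nat.card D' ≤ Nat.card (D' ⊓ Subgroup.centralizer ({b₁} : Set X) : Subgroup X) * p := s1
      _ ≤ (Nat.card ((D' ⊓ Subgroup.centralizer ({b₁} : Set X)) ⊓
            Subgroup.centralizer ({b₂} : Set X) : Subgroup X) * p) * p :=
          Nat.mul_le_mul_right _ s2
      _ ≤ (p * p) * p := Nat.mul_le_mul_right _ (Nat.mul_le_mul_right _ s3)
      _ = p ^ 3 := by ring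
  have hD'eq : B = D' := eq_of_le_of_card_eq hBD'
    (le_antisymm (Nat.le_of_dvd Nat.card_pos (Subgroup.card_dvd_of_le hBD')) (hB ▸ hD'card))
  have hCb : Subgroup.centralizer (Bb : Set (X ⧸ Z)) ≤ Bb := by
    intro y hy
    obtain ⟨x, rfl⟩ := QuotientGroup.mk'_surjective Z y
    have hx : x ∈ D' := hy
    rw [← hD'eq] at hx
    exact ⟨x, hx, rfl⟩
  have hcl := suzuki_sub p (n - 1) (X ⧸ Z) hXb Bb hBbcard hCb
  rw [Group.nilpotencyClass_eq_quotient_center_plus_one, hcl]
  omega

end Cfsg.Agent.S4143
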