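import Mathlib
import Cfsg.Statements.S4269
import Cfsg.Agent.Lib.Helper6_Pronormal
import Cfsg.Agent.Lib.Lead_Coprime

set_option autoImplicit false
open Cfsg

namespace Cfsg.Agent.S4269

open Subgroup
open scoped commutatorElement
open Cfsg.Agent.Lib.Helper6_Pronormal

variable {G : Type*} [Group G]

/-- elements of `H ⊔ C` are products when `H` normalizes `C` -/
theorem mem_sup_of_le_normalizer (H C : Subgroup G) (hHC : H ≤ normalizer (C : Set G)) (x : G)
    (hx : x ∈ H ⊔ C) : ∃ h ∈ H, ∃ c ∈ C, x = h * c := by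
  rw [sup_eq_closure] at hx
  induction hx using closure_induction with
  | mem y hy =>
    rcases hy with hy | hy
    · exact ⟨y, hy, 1, one_mem _, (mul_one y).symm⟩
    · exact ⟨1, one_mem _, y, hy, (one_mul y).symm⟩
  | one => exact ⟨1, one_mem _, 1, one_mem _, (mul_one 1).symm⟩
  | mul y z _ _ hy hz =>
    obtain ⟨h, hh, c, hc, rfl⟩ := hy
    obtain ⟨h', hh', c', hc', rfl⟩ := hz
    refine ⟨h * h', H.mul_mem hh hh', (h'⁻¹ * c * h'⁻¹⁻¹) * c', C.mul_mem ?_ hc', by group⟩
    exact (mem_normalizer_iff.mp (hHC (H.inv_mem hh')) c).mp hc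
  | inv y _ hy =>
    obtain ⟨h, hh, c, hc, rfl⟩ := hy
    refine ⟨h⁻¹, H.inv_mem hh, h * c⁻¹ * h⁻¹, ?_, by group⟩
    exact (mem_normalizer_iff.mp (hHC hh) c⁻¹).mp (C.inv_mem hc)

theorem result {G : Type*} [Group G] [Finite G]
    (V : Subgroup G) [V.Normal] (hV : IsMulCommutative ↥V) (H : Subgroup G) (hHV : H ⊔ V = ⊤) :
    Cfsg.IsPronormal H ↔
      ∀ U : Subgroup G, U ≤ V → (∀ h ∈ H, U.map (MulAut.conj h).toMonoidHom = U) →
        U = (U ⊓ Subgroup.normalizer (H : Set G)) ⊔ ⁅H, U⁆ := by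
  have hVcomm : ∀ x ∈ V, ∀ y ∈ V, x * y = y * x := by
    intro x hx y hy
    have := (IsMulCommutative.is_comm (M := V)).comm ⟨x, hx⟩ ⟨y, hy⟩
    exact congrArg Subtype.val this
  have hVn : ∀ v ∈ V, ∀ g : G, g * v * g⁻¹ ∈ V := fun v hv g => ‹V.Normal›.conj_mem v hv g
  constructor
  · intro hpro U hUV hUinv
    have hUconj : ∀ h ∈ H, ∀ u ∈ U, h * u * h⁻¹ ∈ U := by
      intro h hh u hu
      have : h * u * h⁻¹ ∈ U.map (MulAut.conj h).toMonoidHom := conj_mem_map_conj U h u hu
      rwa [hUinv h hh] at this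
    have hcommU : ⁅H, U⁆ ≤ U := by
      rw [Subgroup.commutator_le]
      intro h hh u hu
      rw [commutatorElement_def]
      exact U.mul_mem (hUconj h hh u hu) (U.inv_mem hu)
    apply le_antisymm
    · intro u hu
      obtain ⟨x, hx, hxe⟩ := hpro u
      have hxn := mem_normalizer_of_map_eq H u x hxe
      have hle : H ⊔ H.map (MulAut.conj u).toMonoidHom ≤ H ⊔ ⁅H, U⁆ := by
        apply sup_le le_sup_left
        rintro _ ⟨h, hh, rfl⟩
        show u * h * u⁻¹ ∈ H ⊔ ⁅H, U⁆
        have e : u * h * u⁻¹ = h * ⁅h⁻¹, u⁆ := by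
          rw [commutatorElement_def]; group
        rw [e]
        exact mul_mem (mem_sup_left hh)
          (mem_sup_right (Subgroup.commutator_mem_commutator (H.inv_mem hh) hu))
      obtain ⟨h, hh, c, hc, rfl⟩ := mem_sup_of_le_normalizer H ⁅H, U⁆
        (Cfsg.Agent.Lib.Lead_Coprime.le_normalizer_commutator_left H U) x (hle hx)
      -- c'' = h c⁻¹ h⁻¹
      have hc'' : h * c⁻¹ * h⁻¹ ∈ ⁅H, U⁆ :=
        (mem_normalizer_iff.mp
          (Cfsg.Agent.Lib.Lead_Coprime.le_normalizer_commutator_left H U hh) c⁻¹).mp (inv_mem hc)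
      have hn : (h * c⁻¹ * h⁻¹) * u ∈ normalizer (H : Set G) := by
        have : (h * c⁻¹ * h⁻¹) * u = h * ((h * c)⁻¹ * u) := by group
        rw [this]
        exact mul_mem (le_normalizer hh) hxn
      have hnU : (h * c⁻¹ * h⁻¹) * u ∈ U := U.mul_mem (hcommU hc'') hu
      have e : u = (h * c⁻¹ * h⁻¹)⁻¹ * ((h * c⁻¹ * h⁻¹) * u) := by group
      rw [e]
      exact mul_mem (mem_sup_right (inv_mem hc'')) (mem_sup_left ⟨hnU, hn⟩)
    · exact sup_le inf_le_left hcommU
  · intro hcond g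
    -- write g = v * h
    have hg : g ∈ V ⊔ H := by rw [sup_comm, hHV]; trivial
    rw [Subgroup.mem_sup_of_normal_left] at hg
    obtain ⟨v, hv, h, hh, rfl⟩ := hg
    have e1 : H.map (MulAut.conj (v * h)).toMonoidHom = H.map (MulAut.conj v).toMonoidHom :=
      map_conj_mul_normalizer H v h (le_normalizer hh)
    rw [e1]
    -- the H-invariant subgroup generated by v
    set U : Subgroup G := closure {y : G | ∃ h' ∈ H, y = h' * v * h'⁻¹} with hU
    have hUV : U ≤ V := by
      rw [hU, closure_le]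
      rintro _ ⟨h', _, rfl⟩
      exact hVn v hv h'
    have hUinv : ∀ h' ∈ H, U.map (MulAut.conj h').toMonoidHom = U := by
      have hle : ∀ h' ∈ H, U.map (MulAut.conj h').toMonoidHom ≤ U := by
        intro h' hh'
        rw [hU, MonoidHom.map_closure, closure_le]
        rintro _ ⟨_, ⟨h'', hh'', rfl⟩, rfl⟩
        apply Subgroup.subset_closure
        refine ⟨h' * h'', H.mul_mem hh' hh'', ?_⟩
        show h' * (h'' * v * h''⁻¹) * h'⁻¹ = _
        group
      intro h' hh'
      apply le_antisymm (hle h' hh')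
      intro u hu
      rw [mem_map_conj]
      have := hle h'⁻¹ (H.inv_mem hh') (conj_mem_map_conj U h'⁻¹ u hu)
      rwa [inv_inv] at this
    have hvU : v ∈ U := Subgroup.subset_closure ⟨1, one_mem _, by simp⟩
    have hUeq := hcond U hUV hUinv
    have hcommV : ⁅H, U⁆ ≤ V := by
      rw [Subgroup.commutator_le]
      intro h' _ u hu
      rw [commutatorElement_def]
      exact V.mul_mem (hVn u (hUV hu) h') (V.inv_mem (hUV hu))
    -- v = c * n
    have hv' : v ∈ ⁅H, U⁆ ⊔ (U ⊓ normalizer (H : Set G)) := by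
      rw [sup_comm, ← hUeq]; exact hvU
    have hnorm : ⁅H, U⁆ ≤ normalizer ((U ⊓ normalizer (H : Set G) : Subgroup G) : Set G) := by
      intro c hc
      rw [mem_normalizer_iff]
      intro n
      have hcV := hcommV hc
      constructor
      · intro hn
        have : c * n * c⁻¹ = n := by
          rw [hVcomm c hcV n (hUV hn.1)]; group
        rw [this]; exact hn
      · intro hn
        have hnV : n ∈ V := by
          have := hVn _ (hUV hn.1) c⁻¹
          have e : c⁻¹ * (c * n * c⁻¹) * c⁻¹⁻¹ = n := by group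
          rwa [e] at this
        have : c * n * c⁻¹ = n := by
          rw [hVcomm c hcV n hnV]; group
        rwa [this] at hn
    obtain ⟨c, hc, n, hn, rfl⟩ := mem_sup_of_le_normalizer _ _ hnorm v hv'
    have e2 : H.map (MulAut.conj (c * n)).toMonoidHom = H.map (MulAut.conj c).toMonoidHom :=
      map_conj_mul_normalizer H c n hn.2
    refine ⟨c, ?_, e2⟩
    -- ⁅H,U⁆ ≤ L
    set L : Subgroup G := H ⊔ H.map (MulAut.conj (c * n)).toMonoidHom with hL
    have hHL : H ≤ L := le_sup_left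
    have key : ∀ u ∈ U, u ∈ V ∧ ∀ h' ∈ H, ⁅h', u⁆ ∈ L := by
      intro u hu
      rw [hU] at hu
      induction hu using closure_induction with
      | mem y hy =>
        obtain ⟨h'', hh'', rfl⟩ := hy
        refine ⟨hVn _ hv h'', ?_⟩
        intro h' hh'
        have e : ⁅h', h'' * (c * n) * h''⁻¹⁆ =
            h'' * ((h''⁻¹ * h' * h'') * ((c * n) * (h''⁻¹ * h' * h'')⁻¹ * (c * n)⁻¹)) * h''⁻¹ := by
          rw [commutatorElement_def]; group
        rw [e]
        have h3 : h''⁻¹ * h' * h'' ∈ H := H.mul_mem (H.mul_mem (H.inv_mem hh'') hh') hh''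
        refine L.mul_mem (L.mul_mem (hHL hh'') (L.mul_mem (hHL h3) ?_)) (L.inv_mem (hHL hh''))
        exact mem_sup_right (conj_mem_map_conj H (c * n) _ (H.inv_mem h3))
      | one => exact ⟨one_mem _, fun h' _ => by simp⟩
      | mul u u' _ _ ih ih' =>
        refine ⟨V.mul_mem ih.1 ih'.1, ?_⟩
        intro h' hh'
        have hcv : ⁅h', u'⁆ ∈ V := by
          rw [commutatorElement_def]
          exact V.mul_mem (hVn u' ih'.1 h') (V.inv_mem ih'.1)
        have e : ⁅h', u * u'⁆ = ⁅h', u⁆ * (u * ⁅h', u'⁆ * u⁻¹) := by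
          simp only [commutatorElement_def]; group
        have e' : u * ⁅h', u'⁆ * u⁻¹ = ⁅h', u'⁆ := by
          rw [hVcomm u ih.1 _ hcv]; group
        rw [e, e']
        exact L.mul_mem (ih.2 h' hh') (ih'.2 h' hh')
      | inv u _ ih =>
        refine ⟨V.inv_mem ih.1, ?_⟩
        intro h' hh'
        have hcv : ⁅h', u⁆ ∈ V := by
          rw [commutatorElement_def]
          exact V.mul_mem (hVn u ih.1 h') (V.inv_mem ih.1)
        have e : ⁅h', u⁻¹⁆ = u⁻¹ * ⁅h', u⁆⁻¹ * u := by
          simp only [commutatorElement_def]; group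
        have e' : u⁻¹ * ⁅h', u⁆⁻¹ * u = ⁅h', u⁆⁻¹ := by
          rw [hVcomm u⁻¹ (V.inv_mem ih.1) _ (V.inv_mem hcv)]; group
        rw [e, e']
        exact L.inv_mem (ih.2 h' hh')
    have hcomL : ⁅H, U⁆ ≤ L := by
      rw [Subgroup.commutator_le]
      intro h' hh' u hu
      exact (key u hu).2 h' hh'
    exact hcomL hc

end Cfsg.Agent.S4269
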