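import Mathlib
import Cfsg.Statements.S4145
import Cfsg.Agent.Lib.Helper5_Sylow
import Cfsg.Agent.Lib.Helper7_Basic
import Cfsg.Agent.S4269

set_option autoImplicit false
open Cfsg

namespace Cfsg.Agent.S4145

open Subgroup
open scoped Pointwise

section
variable {G : Type*} [Group G] [Finite G] {p : ℕ} [Fact p.Prime]

theorem comm_of_cyclic (P : Subgroup G) [IsCyclic P] {a b : G} (ha : a ∈ P) (hb : b ∈ P) :
    a * b = b * a := by
  have := (isMulCommutative_iff.mp (IsCyclic.isMulCommutative (α := P))) ⟨a, ha⟩ ⟨b, hb⟩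
  exact congrArg Subtype.val this

/-- (1a) -/
theorem inf_normalizer_le_centralizer (P : Sylow p G) [IsCyclic (P : Subgroup G)]
    (H : Subgroup G) [hH : H.Normal] (hlt : ¬ (P : Subgroup G) ≤ H) :
    H ⊓ normalizer ((P : Subgroup G) : Set G) ≤ centralizer ((P : Subgroup G) : Set G) := by
  rintro t ⟨htH, htN⟩
  have hmap : ∀ u : (P : Subgroup G), t * u * t⁻¹ * (u : G)⁻¹ ∈ H ⊓ (P : Subgroup G) := by
    intro u
    constructor
    · have : t * u * t⁻¹ * (u : G)⁻¹ = t * ((u : G) * t⁻¹ * (u : G)⁻¹) := by group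
      rw [this]
      exact H.mul_mem htH (hH.conj_mem _ (H.inv_mem htH) _)
    · exact (P : Subgroup G).mul_mem ((mem_normalizer_iff.mp htN u).mp u.2)
        ((P : Subgroup G).inv_mem u.2)
  have hcard : Nat.card (H ⊓ (P : Subgroup G) : Subgroup G) < Nat.card (P : Subgroup G) := by
    apply Cfsg.Agent.Lib.Helper5_Sylow.card_lt_of_lt
    refine lt_of_le_of_ne inf_le_right (fun h => hlt ?_)
    rw [← h]; exact inf_le_left
  have hninj : ¬ Function.Injective
      (fun u : (P : Subgroup G) => (⟨_, hmap u⟩ : (H ⊓ (P : Subgroup G) : Subgroup G))) := by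
    intro hinj
    exact absurd (Nat.card_le_card_of_injective _ hinj) (not_le.mpr hcard)
  obtain ⟨u, v, hfuv, huv⟩ := Function.not_injective_iff.mp hninj
  have hfuv' : t * u * t⁻¹ * (u : G)⁻¹ = t * v * t⁻¹ * (v : G)⁻¹ := congrArg Subtype.val hfuv
  have hw : t * ((v : G)⁻¹ * u) * t⁻¹ = (v : G)⁻¹ * u := by
    have h1 : t * u * t⁻¹ = t * v * t⁻¹ * (v : G)⁻¹ * u := by
      rw [← hfuv']; group
    have : t * ((v : G)⁻¹ * u) * t⁻¹ = (t * v * t⁻¹)⁻¹ * (t * u * t⁻¹) := by group
    rw [this, h1]; group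
  have hw1 : (v : G)⁻¹ * u ≠ 1 := by
    intro h
    apply huv
    apply Subtype.ext
    have : (u : G) = v := by
      have := congrArg (fun z => (v : G) * z) h
      simpa using this
    exact this
  exact Cfsg.Agent.Lib.Helper5_Sylow.cyclic_sylow_centralizes P t htN _
    ((P : Subgroup G).mul_mem ((P : Subgroup G).inv_mem v.2) u.2) hw1 hw

theorem mem_normalizer_of_conj_mem (P : Subgroup G) (a : G) (h : ∀ u ∈ P, a * u * a⁻¹ ∈ P) :
    a ∈ normalizer (P : Set G) := by
  rw [mem_normalizer_iff]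
  intro x
  constructor
  · exact h x
  · intro hx
    have hinj : Function.Injective (fun u : P => (⟨a * u * a⁻¹, h u u.2⟩ : P)) := by
      intro u v huv
      have := congrArg Subtype.val huv
      simp only at this
      apply Subtype.ext
      have h2 := congrArg (fun z => a⁻¹ * z * a) this
      simpa [mul_assoc] using h2
    obtain ⟨u, hu⟩ := (Finite.injective_iff_surjective.mp hinj) ⟨a * x * a⁻¹, hx⟩
    have := congrArg Subtype.val hu
    simp only at this
    have h2 := congrArg (fun z => a⁻¹ * z * a) this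
    have h3 : (u : G) = x := by simpa [mul_assoc] using h2
    rw [← h3]; exact u.2

/-- (1b) -/
theorem normalizer_le_centralizer (P : Sylow p G) [hcyc : IsCyclic (P : Subgroup G)]
    (H : Subgroup G) [hH : H.Normal] (hlt : ¬ (P : Subgroup G) ≤ H) (g : G) (hgH : g ∈ H)
    (hgN : g ∈ normalizer ((H ⊓ (P : Subgroup G) : Subgroup G) : Set G)) :
    g ∈ centralizer ((H ⊓ (P : Subgroup G) : Subgroup G) : Set G) := by
  set Q' : Subgroup G := H ⊓ (P : Subgroup G) with hQ'
  set M : Subgroup G := H ⊓ centralizer (Q' : Set G) with hM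
  -- P centralizes Q'
  have hPQ : (P : Subgroup G) ≤ centralizer (Q' : Set G) := by
    intro u hu
    rw [mem_centralizer_iff]
    intro q hq
    exact comm_of_cyclic (P : Subgroup G) hq.2 hu
  have hPM : (P : Subgroup G) ≤ normalizer (M : Set G) := by
    intro u hu
    rw [mem_normalizer_iff]
    intro c
    have huC := hPQ hu
    constructor
    · rintro ⟨hc1, hc2⟩
      exact ⟨hH.conj_mem _ hc1 _, (centralizer (Q' : Set G)).mul_mem
        ((centralizer (Q' : Set G)).mul_mem huC hc2) ((centralizer (Q' : Set G)).inv_mem huC)⟩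
    · rintro ⟨hc1, hc2⟩
      have e : c = u⁻¹ * (u * c * u⁻¹) * u⁻¹⁻¹ := by group
      rw [e]
      exact ⟨hH.conj_mem _ hc1 _, (centralizer (Q' : Set G)).mul_mem
        ((centralizer (Q' : Set G)).mul_mem ((centralizer (Q' : Set G)).inv_mem huC) hc2)
        ((centralizer (Q' : Set G)).inv_mem ((centralizer (Q' : Set G)).inv_mem huC))⟩
  set L₀ : Subgroup G := (P : Subgroup G) ⊔ M with hL₀
  have hPL : (P : Subgroup G) ≤ L₀ := le_sup_left
  -- g • P ≤ L₀
  have hgP : ((g • P : Sylow p G) : Subgroup G) ≤ L₀ := by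
    intro y hy
    have hy' : g⁻¹ * y * g ∈ (P : Subgroup G) := (Cfsg.Agent.Lib.Helper7_Basic.mem_smul_sylow g y P).mp hy
    set u := g⁻¹ * y * g with hu
    have hyu : y = (g * u * g⁻¹ * u⁻¹) * u := by rw [hu]; group
    rw [hyu]
    refine L₀.mul_mem (le_sup_right (a := (P : Subgroup G)) ?_) (hPL hy')
    refine Subgroup.mem_inf.mpr ⟨?_, ?_⟩
    · have : g * u * g⁻¹ * u⁻¹ = g * (u * g⁻¹ * u⁻¹) := by group
      rw [this]
      exact H.mul_mem hgH (hH.conj_mem _ (H.inv_mem hgH) _)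
    · rw [mem_centralizer_iff]
      intro q hq
      -- q commutes with g u g⁻¹ and with u⁻¹
      have hq' : g⁻¹ * q * g ∈ Q' := by
        have := (mem_normalizer_iff.mp (inv_mem hgN) q).mp hq
        simpa using this
      have h1 : u * (g⁻¹ * q * g) = (g⁻¹ * q * g) * u := comm_of_cyclic (P : Subgroup G) hy' hq'.2
      have h2 : u⁻¹ * q = q * u⁻¹ :=
        comm_of_cyclic (P : Subgroup G) ((P : Subgroup G).inv_mem hy') hq.2
      have h3 : (g * u * g⁻¹) * q = q * (g * u * g⁻¹) := by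
        have : (g * u * g⁻¹) * q = g * (u * (g⁻¹ * q * g)) * g⁻¹ := by group
        rw [this, h1]; group
      calc q * (g * u * g⁻¹ * u⁻¹) = (q * (g * u * g⁻¹)) * u⁻¹ := by group
        _ = ((g * u * g⁻¹) * q) * u⁻¹ := by rw [h3]
        _ = (g * u * g⁻¹) * (q * u⁻¹) := by group
        _ = (g * u * g⁻¹) * (u⁻¹ * q) := by rw [h2]
        _ = g * u * g⁻¹ * u⁻¹ * q := by group
  -- Sylow conjugacy in L₀
  obtain ⟨k, hk⟩ := MulAction.exists_smul_eq L₀ (P.subtype hPL) ((g • P).subtype hgP)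
  have hconj : ∀ u ∈ (P : Subgroup G), (g⁻¹ * k) * u * (g⁻¹ * k)⁻¹ ∈ (P : Subgroup G) := by
    intro u hu
    have h1 : (⟨u, hPL hu⟩ : L₀) ∈ (P.subtype hPL) := by
      show _ ∈ ((P.subtype hPL : Sylow p L₀) : Subgroup L₀)
      rw [Sylow.coe_subtype, mem_subgroupOf]; exact hu
    have h2 : k * (⟨u, hPL hu⟩ : L₀) * k⁻¹ ∈ k • (P.subtype hPL) := by
      rw [Cfsg.Agent.Lib.Helper7_Basic.mem_smul_sylow]
      have : k⁻¹ * (k * (⟨u, hPL hu⟩ : L₀) * k⁻¹) * k = ⟨u, hPL hu⟩ := by group
      rw [this]; exact h1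
    rw [hk] at h2
    have h2' : k * (⟨u, hPL hu⟩ : L₀) * k⁻¹ ∈ (((g • P).subtype hgP : Sylow p L₀) : Subgroup L₀) := h2
    rw [Sylow.coe_subtype, mem_subgroupOf] at h2'
    have h2 := h2'
    have h3 := (Cfsg.Agent.Lib.Helper7_Basic.mem_smul_sylow g _ P).mp h2
    have e : (g⁻¹ * k) * u * (g⁻¹ * (k : G))⁻¹ = g⁻¹ * ((k : G) * u * (k : G)⁻¹) * g := by group
    rw [e]
    have h4 : g⁻¹ * ((k : G) * u * (k : G)⁻¹) * g ∈ P := by simpa using h3
    exact h4
  have haN := mem_normalizer_of_conj_mem (P : Subgroup G) _ hconj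
  -- decompose k⁻¹ = u₁ * c₁
  obtain ⟨u₁, hu₁, c₁, hc₁, hkuc⟩ :=
    Cfsg.Agent.S4269.mem_sup_of_le_normalizer (P : Subgroup G) M hPM ((k : G)⁻¹) (L₀.inv_mem k.2)
  have hk' : (k : G) = c₁⁻¹ * u₁⁻¹ := by
    have := congrArg (fun z => z⁻¹) hkuc
    simpa using this
  -- t := g⁻¹ * c₁⁻¹ ∈ H ⊓ N(P)
  have htN : g⁻¹ * c₁⁻¹ ∈ normalizer ((P : Subgroup G) : Set G) := by
    have e : g⁻¹ * c₁⁻¹ = (g⁻¹ * k) * u₁ := by rw [hk']; group
    rw [e]
    exact (normalizer ((P : Subgroup G) : Set G)).mul_mem haN (le_normalizer hu₁)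
  have htH : g⁻¹ * c₁⁻¹ ∈ H := H.mul_mem (H.inv_mem hgH) (H.inv_mem hc₁.1)
  have htC := inf_normalizer_le_centralizer P H hlt ⟨htH, htN⟩
  have htQ : g⁻¹ * c₁⁻¹ ∈ centralizer (Q' : Set G) :=
    centralizer_le (show (Q' : Set G) ⊆ (P : Subgroup G) from fun x hx => hx.2) htC
  have : g = c₁⁻¹ * (g⁻¹ * c₁⁻¹)⁻¹ := by group
  rw [this]
  exact (centralizer (Q' : Set G)).mul_mem ((centralizer (Q' : Set G)).inv_mem hc₁.2)
    ((centralizer (Q' : Set G)).inv_mem htQ)

theorem isCyclic_sylow (P P' : Sylow p G) (hP : IsCyclic (P : Subgroup G)) :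
    IsCyclic (P' : Subgroup G) := by
  obtain ⟨g, hg⟩ := MulAction.exists_smul_eq G P P'
  rw [← hg]
  exact isCyclic_of_surjective (P.equivSMul g) (P.equivSMul g).surjective

theorem inf_eq_map (P : Sylow p G) (H : Subgroup G) (Q : Sylow p H)
    (hQP : (Q : Subgroup H).map H.subtype ≤ P) :
    H ⊓ (P : Subgroup G) = (Q : Subgroup H).map H.subtype := by
  apply le_antisymm
  · intro x hx
    have hR : IsPGroup p ((H ⊓ (P : Subgroup G)).subgroupOf H) :=
      (P.2.to_le inf_le_right).comap_subtype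
    have hQR : (Q : Subgroup H) ≤ (H ⊓ (P : Subgroup G)).subgroupOf H := by
      intro h hh
      rw [mem_subgroupOf]
      exact ⟨h.2, hQP ⟨h, hh, rfl⟩⟩
    have e := Q.is_maximal' hR hQR
    have hx' : (⟨x, hx.1⟩ : H) ∈ (H ⊓ (P : Subgroup G)).subgroupOf H := by
      rw [mem_subgroupOf]; exact hx
    rw [e] at hx'
    exact ⟨⟨x, hx.1⟩, hx', rfl⟩
  · exact le_inf (map_subtype_le _) hQP

/-- Part 1: Burnside hypothesis in `H`. -/
theorem part1 (P : Sylow p G) [IsCyclic (P : Subgroup G)] (H : Subgroup G) [H.Normal] (Q : Sylow p H)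
    (hQP : (Q : Subgroup H).map H.subtype ≤ P) (hlt : ¬ (P : Subgroup G) ≤ H) :
    normalizer ((Q : Subgroup H) : Set H) ≤ centralizer ((Q : Subgroup H) : Set H) := by
  intro g hg
  have e := inf_eq_map P H Q hQP
  have hgN : (g : G) ∈ normalizer ((H ⊓ (P : Subgroup G) : Subgroup G) : Set G) := by
    rw [e, mem_normalizer_iff]
    intro x
    constructor
    · rintro ⟨h, hh, rfl⟩
      exact ⟨g * h * g⁻¹, (mem_normalizer_iff.mp hg h).mp hh, by simp⟩
    · rintro ⟨h', hh', e'⟩
      refine ⟨g⁻¹ * h' * g, ?_, ?_⟩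
      · apply (mem_normalizer_iff.mp hg _).mpr
        have : g * (g⁻¹ * h' * g) * g⁻¹ = h' := by group
        rw [this]; exact hh'
      · have : H.subtype (g⁻¹ * h' * g) = (g : G)⁻¹ * H.subtype h' * g := by simp
        rw [this, e']; group
  have hc := normalizer_le_centralizer P H hlt (g : G) g.2 hgN
  rw [e] at hc
  rw [mem_centralizer_iff]
  intro h hh
  apply Subtype.ext
  have := (mem_centralizer_iff.mp hc) (h : G) ⟨h, hh, rfl⟩
  simpa using this

/-- elements of a normal `p`-complement are exactly the elements of order prime to `p`. -/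
theorem mem_complement_iff {S : Type*} [Group S] [Finite S] (Q : Sylow p S) (N : Subgroup S) [N.Normal]
    (hc : N.IsComplement' (Q : Subgroup S)) (h : S) : h ∈ N ↔ (orderOf h).Coprime p := by
  have hp : p.Prime := Fact.out
  constructor
  · intro hh
    have h1 : orderOf h ∣ Nat.card N := Subgroup.orderOf_dvd_natCard N hh
    have h2 : (Q : Subgroup S).index = Nat.card N := hc.index_eq_card
    have h3 : ¬ p ∣ Nat.card N := by rw [← h2]; exact Q.not_dvd_index
    have h4 : (Nat.card N).Coprime p := (Nat.coprime_comm.mp ((Nat.Prime.coprime_iff_not_dvd hp).mpr h3))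
    exact Nat.Coprime.coprime_dvd_left h1 h4
  · intro hh
    have h1 : N.index = Nat.card (Q : Subgroup S) := hc.symm.index_eq_card
    obtain ⟨k, hk⟩ := IsPGroup.iff_card.mp Q.2
    have h2 : orderOf (QuotientGroup.mk' N h) ∣ orderOf h := orderOf_map_dvd _ h
    have h3 : orderOf (QuotientGroup.mk' N h) ∣ p ^ k := by
      rw [← hk, ← h1, Subgroup.index_eq_card]
      exact orderOf_dvd_natCard _
    have h4 : orderOf (QuotientGroup.mk' N h) = 1 := by
      have hcop : (orderOf (QuotientGroup.mk' N h)).Coprime (p ^ k) :=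
        Nat.Coprime.pow_right k (Nat.Coprime.coprime_dvd_left h2 hh)
      exact Nat.Coprime.eq_one_of_dvd hcop h3
    have h5 : QuotientGroup.mk' N h = 1 := orderOf_eq_one_iff.mp h4
    exact (QuotientGroup.eq_one_iff h).mp h5

theorem map_normal (S : Subgroup G) [hS : S.Normal] (Q : Sylow p S) (N : Subgroup S) [N.Normal]
    (hc : N.IsComplement' (Q : Subgroup S)) : (N.map S.subtype).Normal := by
  constructor
  rintro _ ⟨h, hh, rfl⟩ g
  have hmem : g * (h : G) * g⁻¹ ∈ S := hS.conj_mem _ h.2 g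
  refine ⟨⟨g * (h : G) * g⁻¹, hmem⟩, ?_, rfl⟩
  have hh : h ∈ N := hh
  show (⟨g * (h : G) * g⁻¹, hmem⟩ : S) ∈ N
  rw [mem_complement_iff Q N hc] at hh ⊢
  have e1 : orderOf (⟨g * (h : G) * g⁻¹, hmem⟩ : S) = orderOf (g * (h : G) * g⁻¹) :=
    (Subgroup.orderOf_mk _ hmem).trans rfl
  rw [e1, Cfsg.Agent.Lib.Helper7_Basic.orderOf_conj', Subgroup.orderOf_coe]
  exact hh

theorem coprime_of_mem_map (S : Subgroup G) (Q : Sylow p S) (N : Subgroup S) [N.Normal]
    (hc : N.IsComplement' (Q : Subgroup S)) {x : G} (hx : x ∈ N.map S.subtype) :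
    (orderOf x).Coprime p := by
  obtain ⟨h, hh, rfl⟩ := hx
  have hh : h ∈ N := hh
  rw [mem_complement_iff Q N hc] at hh
  simpa [Subgroup.orderOf_coe] using hh

/-- the centralizer of `H/K` in `G` -/
def Chat (H K : Subgroup G) [hK : K.Normal] : Subgroup G where
  carrier := {g | ∀ h ∈ H, g * h * g⁻¹ * h⁻¹ ∈ K}
  one_mem' := by
    intro h _
    simp
  mul_mem' := by
    intro a b ha hb h hh
    have e : a * b * h * (a * b)⁻¹ * h⁻¹ = a * (b * h * b⁻¹ * h⁻¹) * a⁻¹ * (a * h * a⁻¹ * h⁻¹) := by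
      group
    rw [e]
    exact K.mul_mem (hK.conj_mem _ (hb h hh) a) (ha h hh)
  inv_mem' := by
    intro a ha h hh
    have e : a⁻¹ * h * a⁻¹⁻¹ * h⁻¹ = a⁻¹ * (a * h * a⁻¹ * h⁻¹)⁻¹ * a⁻¹⁻¹ := by group
    rw [e]
    exact hK.conj_mem _ (K.inv_mem (ha h hh)) a⁻¹

theorem mem_Chat (H K : Subgroup G) [K.Normal] (g : G) :
    g ∈ Chat H K ↔ ∀ h ∈ H, g * h * g⁻¹ * h⁻¹ ∈ K := Iff.rfl

theorem Chat_normal (H K : Subgroup G) [hH : H.Normal] [hK : K.Normal] : (Chat H K).Normal := by
  constructor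
  intro a ha x h hh
  have e : x * a * x⁻¹ * h * (x * a * x⁻¹)⁻¹ * h⁻¹
      = x * (a * (x⁻¹ * h * x⁻¹⁻¹) * a⁻¹ * (x⁻¹ * h * x⁻¹⁻¹)⁻¹) * x⁻¹ := by group
  rw [e]
  exact hK.conj_mem _ (ha _ (hH.conj_mem _ hh x⁻¹)) x

/-- Burnside's transfer theorem inside a subgroup `S` containing the Sylow subgroup `P`. -/
theorem burnside_sub (P : Sylow p G) (S : Subgroup G) (hPS : (P : Subgroup G) ≤ S)
    (h : S ⊓ normalizer ((P : Subgroup G) : Set G) ≤ centralizer ((P : Subgroup G) : Set G)) :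
    ∃ L : Subgroup S, L.Normal ∧ L.IsComplement' ((P.subtype hPS : Sylow p S) : Subgroup S) := by
  have hP' : normalizer (((P.subtype hPS : Sylow p S) : Subgroup S) : Set S)
      ≤ centralizer (((P.subtype hPS : Sylow p S) : Subgroup S) : Set S) := by
    intro t ht
    rw [Sylow.coe_subtype, ← subgroupOf_normalizer_eq hPS, mem_subgroupOf] at ht
    have htc := h ⟨t.2, ht⟩
    rw [mem_centralizer_iff]
    intro y hy
    have hy' : (y : G) ∈ (P : Subgroup G) := by
      have : y ∈ ((P.subtype hPS : Sylow p S) : Subgroup S) := hy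
      rw [Sylow.coe_subtype, mem_subgroupOf] at this
      exact this
    apply Subtype.ext
    have := (mem_centralizer_iff.mp htc) (y : G) hy'
    simpa using this
  exact ⟨(MonoidHom.transferSylow (P.subtype hPS) hP').ker, inferInstance,
    MonoidHom.ker_transferSylow_isComplement' (P.subtype hPS) hP'⟩

theorem main (P : Sylow p G) [hcyc : IsCyclic (P : Subgroup G)] (H : Subgroup G) [hH : H.Normal]
    (Q : Sylow p H) (hQP : (Q : Subgroup H).map H.subtype ≤ P) (hlt : ¬ (P : Subgroup G) ≤ H)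
    (hQ1 : (Q : Subgroup H) ≠ ⊥) :
    Cfsg.HasNormalPComplement p H ∧ Cfsg.IsPSolvable p G := by
  have hp : p.Prime := Fact.out
  have hB := part1 P H Q hQP hlt
  set N : Subgroup H := (MonoidHom.transferSylow Q hB).ker with hN
  have hc : N.IsComplement' (Q : Subgroup H) := MonoidHom.ker_transferSylow_isComplement' Q hB
  refine ⟨⟨Q, N, inferInstance, hc⟩, ?_⟩
  -- K ⊲ G
  set K : Subgroup G := N.map H.subtype with hK
  haveI hKn : K.Normal := map_normal H Q N hc
  have hKP : ∀ x : G, x ∈ K → x ∈ (P : Subgroup G) → x = 1 := by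
    intro x hxK hxP
    have h1 := coprime_of_mem_map H Q N hc hxK
    obtain ⟨j, hj⟩ := (IsPGroup.iff_orderOf.mp P.2) ⟨x, hxP⟩
    rw [Subgroup.orderOf_mk] at hj
    rw [hj] at h1
    have : p ^ j = 1 := by
      rcases Nat.eq_zero_or_pos j with h0 | h0
      · rw [h0, pow_zero]
      · exfalso
        have := (Nat.coprime_pow_left_iff h0 p p).mp h1
        exact hp.one_lt.ne' ((Nat.coprime_self p).mp this)
    rw [this] at hj
    exact orderOf_eq_one_iff.mp hj
  -- the centralizer of H/K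
  set C : Subgroup G := Chat H K with hC
  haveI hCn : C.Normal := Chat_normal H K
  have e := inf_eq_map P H Q hQP
  have hPC : (P : Subgroup G) ≤ C := by
    intro u hu h hh
    obtain ⟨⟨n, q⟩, hnq, -⟩ := hc.existsUnique (⟨h, hh⟩ : H)
    have hnq' : (n : H) * (q : H) = ⟨h, hh⟩ := hnq
    have hh' : h = (n : G) * (q : G) := by
      have := congrArg Subtype.val hnq'
      simpa using this.symm
    have hqP : ((q : H) : G) ∈ (P : Subgroup G) := hQP ⟨q, q.2, rfl⟩
    have hcomm : u * ((q : H) : G) = ((q : H) : G) * u := comm_of_cyclic (P : Subgroup G) hu hqP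
    have hnK : ((n : H) : G) ∈ K := ⟨n, n.2, rfl⟩
    have e1 : u * h * u⁻¹ * h⁻¹ = (u * ((n : H) : G) * u⁻¹) * ((n : H) : G)⁻¹ := by
      rw [hh']
      have : u * (((n : H) : G) * ((q : H) : G)) * u⁻¹ * (((n : H) : G) * ((q : H) : G))⁻¹
          = u * ((n : H) : G) * u⁻¹ * ((u * ((q : H) : G)) * u⁻¹ * ((q : H) : G)⁻¹) * ((n : H) : G)⁻¹ := by
        group
      rw [this, hcomm]; group
    rw [e1]
    exact K.mul_mem (hKn.conj_mem _ hnK u) (K.inv_mem hnK)
  -- Burnside hypothesis in C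
  have hBC : C ⊓ normalizer ((P : Subgroup G) : Set G) ≤ centralizer ((P : Subgroup G) : Set G) := by
    rintro t ⟨htC, htN⟩
    obtain ⟨q, hq1⟩ := (Subgroup.ne_bot_iff_exists_ne_one).mp hQ1
    have hqP : ((q : H) : G) ∈ (P : Subgroup G) := hQP ⟨q, q.2, rfl⟩
    have hqH : ((q : H) : G) ∈ H := (q : H).2
    have h1 : t * ((q : H) : G) * t⁻¹ * ((q : H) : G)⁻¹ ∈ K := htC _ hqH
    have h2 : t * ((q : H) : G) * t⁻¹ * ((q : H) : G)⁻¹ ∈ (P : Subgroup G) :=
      (P : Subgroup G).mul_mem ((mem_normalizer_iff.mp htN _).mp hqP) ((P : Subgroup G).inv_mem hqP)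
    have h3 := hKP _ h1 h2
    have h4 : t * ((q : H) : G) * t⁻¹ = ((q : H) : G) := by
      have := congrArg (fun z => z * ((q : H) : G)) h3
      simpa using this
    refine Cfsg.Agent.Lib.Helper5_Sylow.cyclic_sylow_centralizes P t htN _ hqP ?_ h4
    intro h5
    apply hq1
    apply Subtype.ext
    apply Subtype.ext
    simpa using h5
  obtain ⟨L, hLn, hLc⟩ := burnside_sub P C hPC hBC
  set L' : Subgroup G := L.map C.subtype with hL'
  haveI hL'n : L'.Normal := map_normal C (P.subtype hPC) L hLc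
  -- the chain
  refine ⟨3, ![⊥, L', C, ⊤], rfl, rfl, ?_, ?_, ?_⟩
  · rw [Fin.monotone_iff_le_succ]
    intro i
    fin_cases i
    · exact bot_le
    · exact map_subtype_le _
    · exact le_top
  · intro i
    fin_cases i
    · exact (inferInstance : (⊥ : Subgroup G).Normal)
    · exact hL'n
    · exact hCn
    · exact (inferInstance : (⊤ : Subgroup G).Normal)
  · intro i
    fin_cases i
    · right
      show ((⊥ : Subgroup G).relIndex L').Coprime p
      rw [relIndex_bot_left, hL', Subgroup.card_map_of_injective C.subtype_injective]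
      have h2 : ((P.subtype hPC : Sylow p C) : Subgroup C).index = Nat.card L := hLc.index_eq_card
      rw [← h2]
      exact Nat.coprime_comm.mp ((Nat.Prime.coprime_iff_not_dvd hp).mpr (P.subtype hPC).not_dvd_index)
    · left
      show ∃ m : ℕ, L'.relIndex C = p ^ m
      have h1 : L'.relIndex C = L.index := by
        rw [hL', relIndex]
        congr 1
        ext x
        rw [mem_subgroupOf]
        constructor
        · rintro ⟨y, hy, hyx⟩
          have : y = x := Subtype.ext hyx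
          rw [← this]; exact hy
        · intro hx
          exact ⟨x, hx, rfl⟩
      have h2 : L.index = Nat.card ((P.subtype hPC : Sylow p C) : Subgroup C) := hLc.symm.index_eq_card
      obtain ⟨k, hk⟩ := IsPGroup.iff_card.mp (P.subtype hPC).2
      exact ⟨k, by rw [h1, h2, hk]⟩
    · right
      show (C.relIndex ⊤).Coprime p
      rw [relIndex_top_right]
      have h1 : C.index ∣ (P : Subgroup G).index := Subgroup.index_dvd_of_le hPC
      have h2 : ¬ p ∣ C.index := fun h => P.not_dvd_index (h.trans h1)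
      exact Nat.coprime_comm.mp ((Nat.Prime.coprime_iff_not_dvd hp).mpr h2)

end

/-- Let G be a finite group with a cyclic Sylow p-subgroup and H a normal subgroup such that p divides both the order of H and the index of H. Then H has a normal p-complement and G is p-solvable. -/
theorem result {G : Type*} [Group G] [Finite G] (p : ℕ) [Fact p.Prime]
    (P : Sylow p G) (hP : IsCyclic (P : Subgroup G)) (H : Subgroup G) [H.Normal] (h1 : p ∣ Nat.card H) (h2 : p ∣ H.index) :
    Cfsg.HasNormalPComplement p H ∧ Cfsg.IsPSolvable p G := by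
  obtain ⟨Q⟩ := (inferInstance : Nonempty (Sylow p H))
  have hQp : IsPGroup p ((Q : Subgroup H).map H.subtype) := Q.2.map _
  obtain ⟨P', hP'⟩ := hQp.exists_le_sylow
  haveI : IsCyclic (P' : Subgroup G) := isCyclic_sylow P P' hP
  have hlt : ¬ (P' : Subgroup G) ≤ H := by
    intro hle
    have h3 : H.index ∣ (P' : Subgroup G).index := Subgroup.index_dvd_of_le hle
    exact P'.not_dvd_index (h2.trans h3)
  exact main P' H Q hP' hlt (Q.ne_bot_of_dvd_card h1)

end Cfsg.Agent.S4145
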