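import Mathlib
import Cfsg.Statements.S4153
import Cfsg.Agent.S4244

set_option autoImplicit false
open Cfsg

namespace Cfsg.Agent.S4153

/-- In every coset of `N` that is a `p`-element of `G ⧸ N` there are a `p`-element `s` and a
`p`-subgroup `T ≤ N` of full `p`-power order with `s * t` a `p`-element for all `t ∈ T`. -/
theorem fiber_lower {G : Type*} [Group G] [Finite G] (p : ℕ) [hp : Fact p.Prime] (N : Subgroup G) [N.Normal]
    (c : G ⧸ N) (hc : ∃ k : ℕ, orderOf c = p ^ k) :
    ∃ (s : G) (T : Subgroup G), (QuotientGroup.mk s : G ⧸ N) = c ∧ T ≤ N ∧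
      Nat.card T = p ^ (Nat.card N).factorization p ∧ ∀ t ∈ T, ∃ k : ℕ, orderOf (s * t) = p ^ k := by
  classical
  obtain ⟨k, hk⟩ := hc
  set Z : Subgroup (G ⧸ N) := Subgroup.zpowers c with hZ
  set K : Subgroup G := Z.comap (QuotientGroup.mk' N) with hK
  have hNK : N ≤ K := by
    intro x hx
    rw [hK, Subgroup.mem_comap]
    have : QuotientGroup.mk' N x = 1 := (QuotientGroup.eq_one_iff x).mpr hx
    rw [this]; exact Z.one_mem
  let f : K →* Z := (QuotientGroup.mk' N).subgroupComap Z
  have hf : Function.Surjective f :=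
    MonoidHom.subgroupComap_surjective_of_surjective _ _ (QuotientGroup.mk'_surjective N)
  have hZp : IsPGroup p Z := IsPGroup.of_card (n := k) (by rw [hZ, Nat.card_zpowers, hk])
  obtain ⟨S⟩ : Nonempty (Sylow p K) := inferInstance
  have hSbar : (S.mapSurjective hf : Subgroup Z) = ⊤ :=
    ((S.mapSurjective hf).is_maximal' (hZp.to_subgroup ⊤) le_top).symm
  have hcmem : (⟨c, Subgroup.mem_zpowers c⟩ : Z) ∈ (S.mapSurjective hf : Subgroup Z) := by
    rw [hSbar]; trivial
  rw [Sylow.coe_mapSurjective, Subgroup.mem_map] at hcmem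
  obtain ⟨s₀, hs₀S, hs₀⟩ := hcmem
  have hs₀c : (QuotientGroup.mk (s₀ : G) : G ⧸ N) = c := congrArg Subtype.val hs₀
  set N' : Subgroup K := N.subgroupOf K with hN'
  set T₀ : Subgroup K := N' ⊓ (S : Subgroup K) with hT₀
  refine ⟨(s₀ : G), T₀.map K.subtype, hs₀c, ?_, ?_, ?_⟩
  · rintro _ ⟨x, hx, rfl⟩
    exact hx.1
  · rw [Subgroup.card_map_of_injective K.subtype_injective]
    -- index computation
    have h1 := Cfsg.Agent.S4244.second_iso_abs N' (S : Subgroup K)
    have h2 : (S : Subgroup K).relIndex (N' ⊔ S) ∣ (S : Subgroup K).index :=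
      Subgroup.relIndex_dvd_index_of_le le_sup_right
    have h3 : ¬ p ∣ T₀.relIndex N' := by
      rw [hT₀, ← h1]
      intro h
      exact S.not_dvd_index (h.trans h2)
    have h4 : Nat.card T₀ * T₀.relIndex N' = Nat.card N' := by
      have := Subgroup.card_mul_index (T₀.subgroupOf N')
      rw [Nat.card_congr (Subgroup.subgroupOfEquivOfLe (inf_le_left : T₀ ≤ N')).toEquiv] at this
      exact this
    have h5 : Nat.card N' = Nat.card N :=
      Nat.card_congr (Subgroup.subgroupOfEquivOfLe hNK).toEquiv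
    have hT₀p : IsPGroup p T₀ := S.isPGroup'.to_le inf_le_right
    obtain ⟨j, hj⟩ := IsPGroup.iff_card.mp hT₀p
    rw [hj, h5] at h4
    rw [hj, ← h4]
    have hr0 : T₀.relIndex N' ≠ 0 := by
      intro h0
      rw [h0, mul_zero] at h4
      have : 0 < Nat.card N := Nat.card_pos
      omega
    rw [Nat.factorization_mul (pow_ne_zero j hp.out.ne_zero) hr0, Finsupp.add_apply,
      Nat.Prime.factorization_pow hp.out, Nat.factorization_eq_zero_of_not_dvd h3]
    simp
  · rintro _ ⟨x, hx, rfl⟩
    have hmem : s₀ * x ∈ (S : Subgroup K) := Subgroup.mul_mem _ hs₀S hx.2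
    obtain ⟨m, hm⟩ := (IsPGroup.iff_orderOf.mp S.isPGroup') ⟨s₀ * x, hmem⟩
    refine ⟨m, ?_⟩
    rw [← hm, Subgroup.orderOf_mk]
    show orderOf (((s₀ * x : K)) : G) = orderOf (s₀ * x)
    exact Subgroup.orderOf_coe (s₀ * x)

/-- image of a `p`-element is a `p`-element -/
theorem pelt_map {G H : Type*} [Group G] [Group H] (p : ℕ) [hp : Fact p.Prime] (f : G →* H) (g : G)
    (hg : ∃ k : ℕ, orderOf g = p ^ k) : ∃ k : ℕ, orderOf (f g) = p ^ k := by
  obtain ⟨k, hk⟩ := hg
  have h1 : orderOf (f g) ∣ p ^ k := hk ▸ orderOf_map_dvd f g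
  obtain ⟨j, -, hj⟩ := (Nat.dvd_prime_pow hp.out).mp h1
  exact ⟨j, hj⟩

theorem result {G : Type*} [Group G] [Finite G] (p : ℕ) [Fact p.Prime] (N : Subgroup G) [N.Normal]
    (P : Sylow p G) (Pbar : Sylow p (G ⧸ N)) :
    Nat.card {g : (G ⧸ N) // ∃ k : ℕ, orderOf g = p ^ k} * Nat.card (P : Subgroup G) ≤ Nat.card {g : G // ∃ k : ℕ, orderOf g = p ^ k} * Nat.card (Pbar : Subgroup (G ⧸ N)) ∧
    (N ≤ Subgroup.center G → Nat.card {g : (G ⧸ N) // ∃ k : ℕ, orderOf g = p ^ k} * Nat.card (P : Subgroup G) = Nat.card {g : G // ∃ k : ℕ, orderOf g = p ^ k} * Nat.card (Pbar : Subgroup (G ⧸ N))) := by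
  classical
  have hp : p.Prime := Fact.out
  letI : Fintype G := Fintype.ofFinite G
  letI : Fintype (G ⧸ N) := Fintype.ofFinite _
  set np := p ^ (Nat.card N).factorization p with hnp
  have hnppos : 0 < np := pow_pos hp.pos _
  set Bset : Finset G := Finset.univ.filter (fun g => ∃ k : ℕ, orderOf g = p ^ k) with hB
  set Aset : Finset (G ⧸ N) := Finset.univ.filter (fun c => ∃ k : ℕ, orderOf c = p ^ k) with hA
  have hcardB : Nat.card {g : G // ∃ k : ℕ, orderOf g = p ^ k} = Bset.card := by
    rw [Nat.card_eq_fintype_card, Fintype.card_subtype]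
  have hcardA : Nat.card {g : (G ⧸ N) // ∃ k : ℕ, orderOf g = p ^ k} = Aset.card := by
    rw [Nat.card_eq_fintype_card, Fintype.card_subtype]
  -- Sylow orders
  have hPcard : Nat.card (P : Subgroup G) = Nat.card (Pbar : Subgroup (G ⧸ N)) * np := by
    rw [Sylow.card_eq_multiplicity, Sylow.card_eq_multiplicity, hnp, ← pow_add]
    congr 1
    have h1 : Nat.card G = Nat.card (G ⧸ N) * Nat.card N :=
      Subgroup.card_eq_card_quotient_mul_card_subgroup N
    rw [h1, Nat.factorization_mul Nat.card_pos.ne' Nat.card_pos.ne', Finsupp.add_apply]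
  -- fiber decomposition
  have hfib : Bset.card = ∑ c : G ⧸ N, (Bset.filter (fun g => (QuotientGroup.mk g : G ⧸ N) = c)).card :=
    Finset.card_eq_sum_card_fiberwise (f := fun g : G => (QuotientGroup.mk g : G ⧸ N)) (s := Bset)
      (t := Finset.univ) (fun x _ => Finset.mem_univ _)
  have hlow : ∀ c ∈ Aset, np ≤ (Bset.filter (fun g => (QuotientGroup.mk g : G ⧸ N) = c)).card := by
    intro c hc
    rw [hA, Finset.mem_filter] at hc
    obtain ⟨s, T, hs, hTN, hTcard, hT⟩ := fiber_lower p N c hc.2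
    let φ : T → {g : G // g ∈ Bset.filter (fun g => (QuotientGroup.mk g : G ⧸ N) = c)} := fun t =>
      ⟨s * (t : G), by
        rw [Finset.mem_filter, hB, Finset.mem_filter]
        refine ⟨⟨Finset.mem_univ _, hT t t.2⟩, ?_⟩
        rw [QuotientGroup.mk_mul, hs, (QuotientGroup.eq_one_iff (t : G)).mpr (hTN t.2), mul_one]⟩
    have hφ : Function.Injective φ := by
      intro t t' h
      have : s * (t : G) = s * (t' : G) := congrArg Subtype.val h
      exact Subtype.ext (mul_left_cancel this)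
    have := Nat.card_le_card_of_injective φ hφ
    have e : Nat.card {g : G // g ∈ Bset.filter (fun g => (QuotientGroup.mk g : G ⧸ N) = c)} =
        (Bset.filter (fun g => (QuotientGroup.mk g : G ⧸ N) = c)).card := by
      rw [Nat.card_eq_fintype_card, Fintype.card_coe]
    rw [hTcard, e] at this
    exact this
  have hineq : Aset.card * np ≤ Bset.card := by
    rw [hfib]
    calc Aset.card * np = ∑ c ∈ Aset, np := by rw [Finset.sum_const, smul_eq_mul]
      _ ≤ ∑ c ∈ Aset, (Bset.filter (fun g => (QuotientGroup.mk g : G ⧸ N) = c)).card :=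
          Finset.sum_le_sum hlow
      _ ≤ ∑ c : G ⧸ N, (Bset.filter (fun g => (QuotientGroup.mk g : G ⧸ N) = c)).card :=
          Finset.sum_le_sum_of_subset (Finset.subset_univ _)
  refine ⟨?_, ?_⟩
  · rw [hcardA, hcardB, hPcard]
    calc Aset.card * (Nat.card (Pbar : Subgroup (G ⧸ N)) * np)
        = (Aset.card * np) * Nat.card (Pbar : Subgroup (G ⧸ N)) := by ring
      _ ≤ Bset.card * Nat.card (Pbar : Subgroup (G ⧸ N)) := Nat.mul_le_mul_right _ hineq
  · intro hcent
    have hNcomm : ∀ a b : N, a * b = b * a := by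
      intro a b
      apply Subtype.ext
      have := (Subgroup.mem_center_iff.mp (hcent a.2)) (b : G)
      exact this.symm
    obtain ⟨Q⟩ : Nonempty (Sylow p N) := inferInstance
    have hQcard : Nat.card (Q : Subgroup N) = np := Sylow.card_eq_multiplicity Q
    -- every p-element of N lies in Q
    have hQall : ∀ t : N, (∃ k : ℕ, orderOf t = p ^ k) → t ∈ Q := by
      intro t ht
      obtain ⟨k, hk⟩ := ht
      have hP : IsPGroup p (Subgroup.zpowers t) := by
        apply IsPGroup.of_card (n := k)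
        rw [Nat.card_zpowers, hk]
      obtain ⟨Q₁, hQ₁⟩ := hP.exists_le_sylow
      obtain ⟨n, hn⟩ := MulAction.exists_smul_eq N Q₁ Q
      rw [← hn]
      have h1 : t ∈ n • Q₁ ↔ t ∈ ((n • Q₁ : Sylow p N) : Subgroup N) := Iff.rfl
      rw [h1, Sylow.coe_subgroup_smul, Subgroup.mem_pointwise_smul_iff_inv_smul_mem,
        MulAut.smul_def, MulAut.conj_inv_apply]
      have h2 : n⁻¹ * t * n = t := by
        rw [mul_assoc, hNcomm t n, ← mul_assoc, inv_mul_cancel, one_mul]
      rw [h2]
      exact hQ₁ (Subgroup.mem_zpowers t)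
    have hzero : ∀ c ∈ (Finset.univ : Finset (G ⧸ N)), c ∉ Aset →
        (Bset.filter (fun g => (QuotientGroup.mk g : G ⧸ N) = c)).card = 0 := by
      intro c _ hc
      rw [Finset.card_eq_zero, Finset.eq_empty_iff_forall_notMem]
      intro g hg
      rw [Finset.mem_filter, hB, Finset.mem_filter] at hg
      apply hc
      rw [hA, Finset.mem_filter]
      refine ⟨Finset.mem_univ _, ?_⟩
      rw [← hg.2]
      exact pelt_map p (QuotientGroup.mk' N) g hg.1.2
    have hup : ∀ c ∈ Aset, (Bset.filter (fun g => (QuotientGroup.mk g : G ⧸ N) = c)).card ≤ np := by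
      intro c hc
      have hc' := hc
      rw [hA, Finset.mem_filter] at hc'
      obtain ⟨s, T, hs, hTN, hTcard, hT⟩ := fiber_lower p N c hc'.2
      have hsp : ∃ k : ℕ, orderOf s = p ^ k := by
        have := hT 1 T.one_mem
        rwa [mul_one] at this
      have key : ∀ g : G, g ∈ Bset.filter (fun g => (QuotientGroup.mk g : G ⧸ N) = c) →
          ∃ hN : s⁻¹ * g ∈ N, (⟨s⁻¹ * g, hN⟩ : N) ∈ Q := by
        intro g hg
        rw [Finset.mem_filter, hB, Finset.mem_filter] at hg
        have hN : s⁻¹ * g ∈ N := QuotientGroup.eq.mp (hs.trans hg.2.symm)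
        refine ⟨hN, hQall _ ?_⟩
        have hcomm : Commute s⁻¹ g := by
          have hz := Subgroup.mem_center_iff.mp (hcent hN)
          -- g = s * (s⁻¹ g), with s⁻¹ g central
          have h1 : g = s * (s⁻¹ * g) := by group
          show s⁻¹ * g = g * s⁻¹
          have h2 := hz s⁻¹
          -- s⁻¹ * (s⁻¹ * g) = (s⁻¹ * g) * s⁻¹
          calc s⁻¹ * g = s * (s⁻¹ * (s⁻¹ * g)) := by group
            _ = s * ((s⁻¹ * g) * s⁻¹) := by rw [h2]
            _ = g * s⁻¹ := by group
        obtain ⟨a, ha⟩ := hsp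
        obtain ⟨b, hb⟩ := hg.1.2
        have hd := hcomm.orderOf_mul_dvd_lcm
        rw [orderOf_inv, ha, hb] at hd
        have hl : Nat.lcm (p ^ a) (p ^ b) ∣ p ^ (max a b) :=
          Nat.lcm_dvd (pow_dvd_pow p (le_max_left a b)) (pow_dvd_pow p (le_max_right a b))
        obtain ⟨j, -, hj⟩ := (Nat.dvd_prime_pow hp).mp (hd.trans hl)
        refine ⟨j, ?_⟩
        rw [← hj, Subgroup.orderOf_mk]
      let ψ : {g : G // g ∈ Bset.filter (fun g => (QuotientGroup.mk g : G ⧸ N) = c)} → (Q : Subgroup N) :=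
        fun g => ⟨⟨s⁻¹ * (g : G), (key g g.2).1⟩, (key g g.2).2⟩
      have hψ : Function.Injective ψ := by
        intro g g' h
        have h0 : ((ψ g : (Q : Subgroup N)) : N) = ((ψ g' : (Q : Subgroup N)) : N) := congrArg Subtype.val h
        have h1 : s⁻¹ * (g : G) = s⁻¹ * (g' : G) := congrArg Subtype.val h0
        exact Subtype.ext (mul_left_cancel h1)
      have := Nat.card_le_card_of_injective ψ hψ
      have e : Nat.card {g : G // g ∈ Bset.filter (fun g => (QuotientGroup.mk g : G ⧸ N) = c)} =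
          (Bset.filter (fun g => (QuotientGroup.mk g : G ⧸ N) = c)).card := by
        rw [Nat.card_eq_fintype_card, Fintype.card_coe]
      rw [e, hQcard] at this
      exact this
    have hineq2 : Bset.card ≤ Aset.card * np := by
      rw [hfib, ← Finset.sum_subset (Finset.subset_univ Aset) hzero]
      calc ∑ c ∈ Aset, (Bset.filter (fun g => (QuotientGroup.mk g : G ⧸ N) = c)).card
          ≤ ∑ c ∈ Aset, np := Finset.sum_le_sum hup
        _ = Aset.card * np := by rw [Finset.sum_const, smul_eq_mul]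
    have heq : Aset.card * np = Bset.card := le_antisymm hineq hineq2
    rw [hcardA, hcardB, hPcard, ← heq]
    ring

end Cfsg.Agent.S4153
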