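import Mathlib
import Cfsg.Statements.S4154

set_option autoImplicit false
open Cfsg

namespace Cfsg.Agent.S4154

/-- Uniqueness of the decomposition `H = C_H(β) · {g⁻¹ β(g)}`. -/
theorem fixed_twist_trivial {H : Type*} [Group H] [Finite H] (β : H →* H)
    (hyp : ∀ y : H, ∃ c g : H, β c = c ∧ y = c * (g⁻¹ * β g)) :
    ∀ g : H, β (g⁻¹ * β g) = g⁻¹ * β g → g⁻¹ * β g = 1 := by
  classical
  set C : Subgroup H := β.eqLocus (MonoidHom.id H) with hC
  have hCmem : ∀ h : H, h ∈ C ↔ β h = h := by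
    intro h
    rfl
  -- the twist map on cosets
  let ι : H ⧸ C → H := Quotient.lift (fun g : H => g * (β g)⁻¹) (by
    intro a b hab
    have hab' : a⁻¹ * b ∈ C := QuotientGroup.leftRel_apply.mp hab
    rw [hCmem, map_mul, map_inv] at hab'
    show a * (β a)⁻¹ = b * (β b)⁻¹
    have h1 : β b = β a * (a⁻¹ * b) := by
      rw [← hab']; group
    rw [h1]; group)
  have hι : ∀ g : H, ι (QuotientGroup.mk g) = g * (β g)⁻¹ := fun g => rfl
  let μ : C × (H ⧸ C) → H := fun p => (p.1 : H) * ι p.2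
  have hsurj : Function.Surjective μ := by
    intro y
    obtain ⟨c, g, hc, hy⟩ := hyp y
    refine ⟨(⟨c, (hCmem c).mpr hc⟩, QuotientGroup.mk g⁻¹), ?_⟩
    show c * ι (QuotientGroup.mk g⁻¹) = y
    rw [hι, hy, map_inv, inv_inv]
  have e : C × (H ⧸ C) ≃ H :=
    (Equiv.prodComm _ _).trans (Subgroup.groupEquivQuotientProdSubgroup (s := C)).symm
  have hinj : Function.Injective μ := (Finite.injective_iff_surjective_of_equiv e).mpr hsurj
  intro g hg
  have hkC : g⁻¹ * β g ∈ C := (hCmem _).mpr hg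
  have h1 : μ (⟨g⁻¹ * β g, hkC⟩, QuotientGroup.mk 1) = μ (1, QuotientGroup.mk g⁻¹) := by
    show (g⁻¹ * β g) * ι (QuotientGroup.mk 1) = ((1 : C) : H) * ι (QuotientGroup.mk g⁻¹)
    rw [hι, hι, map_one, map_inv]
    simp
  have h2 := hinj h1
  have h3 := congrArg Prod.fst h2
  have h4 : (⟨g⁻¹ * β g, hkC⟩ : C) = 1 := h3
  exact congrArg Subtype.val h4

theorem result {G : Type*} [Group G] [Finite G] (α : MulAut G)
    (hccp : ∀ x : G, ∃ c g : G, α c = c ∧ x = c * (g⁻¹ * α g))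
    (N : Subgroup G) [N.Normal] (hN : ∀ n ∈ N, α n ∈ N) :
    (∀ x : G, ∃ c g : G, c⁻¹ * α c ∈ N ∧ x⁻¹ * (c * (g⁻¹ * α g)) ∈ N) ∧
    (∀ x : G, x⁻¹ * α x ∈ N → ∃ c : G, α c = c ∧ c⁻¹ * x ∈ N) := by
  constructor
  · intro x
    obtain ⟨c, g, hc, hx⟩ := hccp x
    refine ⟨c, g, ?_, ?_⟩
    · rw [hc, inv_mul_cancel]; exact N.one_mem
    · rw [← hx, inv_mul_cancel]; exact N.one_mem
  · intro x hx
    have hle : N ≤ N.comap α.toMonoidHom := fun n hn => hN n hn
    set β : G ⧸ N →* G ⧸ N := QuotientGroup.map N N α.toMonoidHom hle with hβ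
    have hβmk : ∀ g : G, β (QuotientGroup.mk g) = QuotientGroup.mk (α g) := fun g => rfl
    have hypβ : ∀ y : G ⧸ N, ∃ c g : G ⧸ N, β c = c ∧ y = c * (g⁻¹ * β g) := by
      intro y
      induction y using QuotientGroup.induction_on with
      | H y =>
        obtain ⟨c, g, hc, hy⟩ := hccp y
        refine ⟨QuotientGroup.mk c, QuotientGroup.mk g, ?_, ?_⟩
        · rw [hβmk, hc]
        · rw [hβmk, hy]; rfl
    obtain ⟨c, g, hc, hxe⟩ := hccp x
    have hk : g⁻¹ * α g = c⁻¹ * x := by rw [hxe]; group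
    have key := fixed_twist_trivial β hypβ (QuotientGroup.mk g)
    rw [hβmk] at key
    have hmk : (QuotientGroup.mk g : G ⧸ N)⁻¹ * QuotientGroup.mk (α g) = QuotientGroup.mk (c⁻¹ * x) := by
      rw [← hk]; rfl
    rw [hmk, hβmk] at key
    have h1 : (QuotientGroup.mk (α (c⁻¹ * x)) : G ⧸ N) = QuotientGroup.mk (c⁻¹ * x) := by
      rw [eq_comm, QuotientGroup.eq]
      have : (c⁻¹ * x)⁻¹ * α (c⁻¹ * x) = x⁻¹ * α x := by
        rw [map_mul, map_inv, hc]; group
      rw [this]; exact hx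
    have h2 := key h1
    refine ⟨c, hc, ?_⟩
    exact (QuotientGroup.eq_one_iff _).mp h2

end Cfsg.Agent.S4154
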