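import Mathlib
import Cfsg.Statements.S4155
import Cfsg.Agent.S4107
import Cfsg.Agent.Lib.Helper7_Fpf3
import Cfsg.Agent.Lib.Lead_Fitting
import Cfsg.Agent.Lib.Helper7_PCore

set_option autoImplicit false
open Cfsg

namespace Cfsg.Agent.S4155

open Cfsg.Agent.Lib

/-- Let G be a finite group and N a proper non-trivial normal nilpotent subgroup whose order is not a prime power, such that for every x outside N all elements of the coset xN have the same order as x. Then N is the Fitting subgroup of G, and for every prime q every Sylow q-subgroup of G/N is cyclic or generalized quaternion. -/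
theorem result {G : Type*} [Group G] [Finite G] (N : Subgroup G) [N.Normal] (hN1 : N ≠ ⊥) (hN2 : N ≠ ⊤)
    (heq : ∀ x : G, x ∉ N → ∀ n ∈ N, orderOf (x * n) = orderOf x)
    (hnil : Group.IsNilpotent N) (hnpp : ¬ IsPrimePow (Nat.card N)) :
    N = Cfsg.fittingSubgroup G ∧
    ∀ (q : ℕ) [Fact q.Prime] (Q : Sylow q (G ⧸ N)), IsCyclic (Q : Subgroup (G ⧸ N)) ∨ ∃ n : ℕ, Nonempty ((Q : Subgroup (G ⧸ N)) ≃* QuaternionGroup (2 ^ n)) := by
  classical
  -- Part 1
  have hNF : N = Cfsg.fittingSubgroup G := by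
    have hle : N ≤ Cfsg.fittingSubgroup G := by
      rw [Lead_Fitting.fitting_eq]
      exact Lead_Fitting.le_F0 N inferInstance hnil
    by_contra hne
    have hlt : N < Cfsg.fittingSubgroup G := lt_of_le_of_ne hle hne
    have hpp := (Cfsg.Agent.S4107.result N hN1 hN2 heq).2 hlt
    apply hnpp
    obtain ⟨p, k, hp, hk, hpk⟩ := (isPrimePow_nat_iff _).mp hpp
    have hdvd : Nat.card N ∣ Nat.card (Cfsg.fittingSubgroup G) := Subgroup.card_dvd_of_le hle
    rw [← hpk] at hdvd
    obtain ⟨j, hj, hNj⟩ := (Nat.dvd_prime_pow hp).mp hdvd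
    rw [hNj]
    have hj0 : j ≠ 0 := by
      intro h0
      rw [h0, pow_zero] at hNj
      exact hN1 (Subgroup.card_eq_one.mp hNj)
    exact (Nat.Prime.isPrimePow hp).pow hj0
  refine ⟨hNF, ?_⟩
  intro q _ Q
  have hq : q.Prime := Fact.out
  obtain ⟨r, hr, hrN, hrq⟩ : ∃ r : ℕ, r.Prime ∧ r ∣ Nat.card N ∧ r ≠ q := by
    by_contra hall
    push Not at hall
    apply hnpp
    have h1 := Nat.eq_prime_pow_of_unique_prime_dvd (n := Nat.card N) (p := q)
      Nat.card_pos.ne' (fun {d} hd hdvd => hall d hd hdvd)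
    rw [h1]
    apply (Nat.Prime.isPrimePow hq).pow
    intro h0
    rw [h0, pow_zero] at h1
    exact hN1 (Subgroup.card_eq_one.mp h1)
  haveI : Fact r.Prime := ⟨hr⟩
  set R : Subgroup G := Cfsg.pCore r G with hR
  have hRn : R.Normal := Helper7_PCore.pCore_normal r
  have hRp : IsPGroup r R := Helper7_PCore.pCore_isPGroup r
  have hF0 : N = Lead_Fitting.F0 G := by rw [hNF, Lead_Fitting.fitting_eq]
  have hRN : R ≤ N := by rw [hF0]; exact Lead_Fitting.pCore_le_F0 r
  have hR1 : R ≠ ⊥ := by
    obtain ⟨S⟩ : Nonempty (Sylow r N) := inferInstance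
    haveI := hnil
    have hSn : (S : Subgroup N).Normal := inferInstance
    haveI : (S : Subgroup N).Characteristic := Sylow.characteristic_of_normal S hSn
    have hSG : ((S : Subgroup N).map N.subtype).Normal := ConjAct.normal_of_characteristic_of_normal
    have hSp : IsPGroup r ((S : Subgroup N).map N.subtype) := S.isPGroup'.map _
    have hle : (S : Subgroup N).map N.subtype ≤ R := Helper7_PCore.le_pCore hSG hSp
    intro hbot
    rw [hbot, le_bot_iff] at hle
    have h1 : (S : Subgroup N) = ⊥ :=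
      (Subgroup.map_eq_bot_iff_of_injective _ N.subtype_injective).mp hle
    exact S.ne_bot_of_dvd_card hrN h1
  set W : Subgroup G := R ⊓ Subgroup.centralizer (R : Set G) with hW
  haveI hWn : W.Normal := by
    haveI := hRn
    infer_instance
  have hW1 : W ≠ ⊥ := by
    haveI : Nontrivial R := (Subgroup.nontrivial_iff_ne_bot R).mpr hR1
    have h1 := IsPGroup.bot_lt_center hRp
    obtain ⟨z, hz, hz1⟩ := (SetLike.lt_iff_le_and_exists.mp h1).2
    intro hbot
    apply hz1
    rw [Subgroup.mem_bot]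
    have hzW : (z : G) ∈ W := by
      refine Subgroup.mem_inf.mpr ⟨z.2, ?_⟩
      rw [Subgroup.mem_centralizer_iff]
      intro g hg
      have h2 := Subgroup.mem_center_iff.mp hz ⟨g, hg⟩
      exact congrArg Subtype.val h2
    rw [hbot, Subgroup.mem_bot] at hzW
    exact Subtype.ext hzW
  have hNW : ∀ n ∈ N, ∀ w ∈ W, n * w = w * n := by
    intro n hn w hw
    have hle : N ≤ Subgroup.centralizer ({w} : Set G) := by
      rw [hF0]
      unfold Lead_Fitting.F0
      apply iSup_le
      intro s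
      haveI : Fact (s : ℕ).Prime := ⟨s.2⟩
      intro y hy
      rw [Subgroup.mem_centralizer_iff]
      intro v hv
      rw [Set.mem_singleton_iff] at hv
      subst hv
      by_cases hsr : (s : ℕ) = r
      · have hyR : y ∈ R := by rw [hR, ← hsr]; exact hy
        exact ((Subgroup.mem_centralizer_iff.mp hw.2) y hyR).symm
      · have hdis : Disjoint (Cfsg.pCore (s : ℕ) G) R :=
          IsPGroup.disjoint_of_ne (s : ℕ) r hsr _ _ (Helper7_PCore.pCore_isPGroup s) hRp
        exact (Subgroup.commute_of_normal_of_disjoint _ _ (Helper7_PCore.pCore_normal s) hRn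
          hdis y v hy hw.1).eq.symm
    have h1 := Subgroup.mem_centralizer_iff.mp (hle hn) w rfl
    exact h1.symm
  let φ : G →* MulAut W := MulAut.conjNormal
  have hker : N ≤ φ.ker := by
    intro n hn
    rw [MonoidHom.mem_ker]
    ext w
    rw [MulAut.conjNormal_apply]
    simp only [MulAut.one_apply]
    rw [hNW n hn w w.2, mul_inv_cancel_right]
  let ψ : G ⧸ N →* MulAut W := QuotientGroup.lift N φ hker
  letI act : MulDistribMulAction (Q : Subgroup (G ⧸ N)) W :=
    MulDistribMulAction.compHom W (ψ.comp (Q : Subgroup (G ⧸ N)).subtype)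
  have hsmul : ∀ (g : G) (hg : (g : G ⧸ N) ∈ (Q : Subgroup (G ⧸ N))) (w : W),
      (((⟨(g : G ⧸ N), hg⟩ : (Q : Subgroup (G ⧸ N))) • w : W) : G) = g * w * g⁻¹ :=
    fun g hg w => rfl
  haveI : Nontrivial W := (Subgroup.nontrivial_iff_ne_bot W).mpr hW1
  have hWr : IsPGroup r W := hRp.to_le inf_le_left
  have hf : Helper7_Fpf.Fpf (Q : Subgroup (G ⧸ N)) W := by
    intro a ha w hw
    obtain ⟨g, hg⟩ := QuotientGroup.mk_surjective (a : G ⧸ N)
    have hgQ : (g : G ⧸ N) ∈ (Q : Subgroup (G ⧸ N)) := by rw [hg]; exact a.2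
    have ha' : a = ⟨(g : G ⧸ N), hgQ⟩ := Subtype.ext hg.symm
    rw [ha'] at hw
    have hcomm : g * (w : G) * g⁻¹ = (w : G) := by
      rw [← hsmul g hgQ w, hw]
    have hcomm' : g * (w : G) = (w : G) * g := mul_inv_eq_iff_eq_mul.mp hcomm
    -- decompose the order of g
    have hopos : orderOf g ≠ 0 := (orderOf_pos g).ne'
    obtain ⟨k, t, hrt, hot⟩ := Nat.exists_eq_pow_mul_and_not_dvd hopos r hr.ne_one
    set h := g ^ (r ^ k) with hh
    have hht : h ^ t = 1 := by
      rw [hh, ← pow_mul, ← hot]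
      exact pow_orderOf_eq_one g
    have hhN : h ∉ N := by
      intro hhN
      -- a ^ (r^k) = 1 and a is a q-element
      have h1 : (a : G ⧸ N) ^ (r ^ k) = 1 := by
        rw [← hg, ← QuotientGroup.mk_pow]
        exact (QuotientGroup.eq_one_iff _).mpr hhN
      obtain ⟨j, hj⟩ := Q.isPGroup' a
      have h2 : (a : G ⧸ N) ^ (q ^ j) = 1 := by
        have := congrArg Subtype.val hj
        simpa using this
      have hcop : Nat.Coprime (r ^ k) (q ^ j) :=
        Nat.Coprime.pow k j ((Nat.coprime_primes hr hq).mpr hrq)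
      have h3 : orderOf (a : G ⧸ N) ∣ 1 := by
        rw [← Nat.Coprime.gcd_eq_one hcop]
        exact Nat.dvd_gcd (orderOf_dvd_of_pow_eq_one h1) (orderOf_dvd_of_pow_eq_one h2)
      have h4 : (a : G ⧸ N) = 1 := orderOf_eq_one_iff.mp (Nat.dvd_one.mp h3)
      exact ha (Subtype.ext h4)
    have hhw : h * (w : G) = (w : G) * h := by
      have h1 : Commute g (w : G) := hcomm'
      exact (h1.pow_left (r ^ k)).eq
    have hwN : (w : G) ∈ N := hRN w.2.1
    have h1 : orderOf (h * (w : G)) = orderOf h := heq h hhN _ hwN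
    have h2 : (h * (w : G)) ^ t = 1 := by
      apply orderOf_dvd_iff_pow_eq_one.mp
      rw [h1]
      exact orderOf_dvd_of_pow_eq_one hht
    have h3 : (w : G) ^ t = 1 := by
      have hc : Commute h (w : G) := hhw
      rw [hc.mul_pow, hht, one_mul] at h2
      exact h2
    obtain ⟨i, hi⟩ := hWr w
    have h4 : (w : G) ^ (r ^ i) = 1 := by
      have := congrArg Subtype.val hi
      simpa using this
    have hcop : Nat.Coprime t (r ^ i) :=
      Nat.Coprime.pow_right i ((Nat.Prime.coprime_iff_not_dvd hr).mpr hrt).symm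
    have h5 : orderOf (w : G) ∣ 1 := by
      rw [← Nat.Coprime.gcd_eq_one hcop]
      exact Nat.dvd_gcd (orderOf_dvd_of_pow_eq_one h3) (orderOf_dvd_of_pow_eq_one h4)
    have h6 : (w : G) = 1 := orderOf_eq_one_iff.mp (Nat.dvd_one.mp h5)
    exact Subtype.ext h6
  have hres := Helper7_Fpf3.pgroup_cyclic_or_quaternion hf q
    (⊤ : Subgroup (Q : Subgroup (G ⧸ N))) (Q.isPGroup'.to_subgroup _)
  rcases hres with h | ⟨n, ⟨e⟩⟩
  · left
    exact isCyclic_of_surjective (Subgroup.topEquiv (G := (Q : Subgroup (G ⧸ N))))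
      (Subgroup.topEquiv (G := (Q : Subgroup (G ⧸ N)))).surjective
  · right
    exact ⟨n, ⟨(Subgroup.topEquiv (G := (Q : Subgroup (G ⧸ N)))).symm.trans e⟩⟩

end Cfsg.Agent.S4155
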