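import Cfsg.Statements.S4156
import Cfsg.Agent.Lib.Helper4_AltPSL

set_option autoImplicit false
open Cfsg

namespace Cfsg.Agent.S4156


/-- Let n ≥ 5 and F a finite field. Then the projective special linear group PSL_n(F) contains a subgroup isomorphic to the alternating group of degree n + 1. -/
theorem result (n : ℕ) (hn : 5 ≤ n) (F : Type*) [Field F] [Finite F] :
    ∃ f : alternatingGroup (Fin (n + 1)) →* Matrix.ProjectiveSpecialLinearGroup (Fin n) F, Function.Injective f := by
  exact Cfsg.Agent.Lib.Helper4_AltPSL.S4156_main n hn F

end Cfsg.Agent.S4156
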