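import Mathlib
import Cfsg.Statements.S4168

set_option autoImplicit false
open Cfsg

namespace Cfsg.Agent.S4168

/-- Let L be a finite quasisimple group (perfect with L/Z(L) simple). Then every prime dividing the order of the centre Z(L) also divides the order of L/Z(L). -/
theorem result {L : Type*} [Group L] [Finite L] (hL : Cfsg.IsQuasisimple L)
    (p : ℕ) (hp : p.Prime) (hdiv : p ∣ Nat.card (Subgroup.center L)) : p ∣ (Subgroup.center L).index := by
  have : Fact p.Prime := ⟨hp⟩
  obtain ⟨z, hz⟩ := exists_prime_orderOf_dvd_card' (G := Subgroup.center L) p hdiv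
  -- the transfer into the centre is trivial because L is perfect
  have hker : commutator L ≤ (MonoidHom.transferCenterPow L).ker := by
    rw [commutator_def, Subgroup.commutator_le]
    intro a _ b _
    rw [MonoidHom.mem_ker, map_commutatorElement, commutatorElement_eq_one_iff_commute]
    apply Subtype.ext
    have h1 := (MonoidHom.transferCenterPow L b).2
    rw [Subgroup.mem_center_iff] at h1
    rw [Subgroup.coe_mul, Subgroup.coe_mul]
    exact h1 _
  have hperf : commutator L = ⊤ := hL.1.commutator_eq_top
  rw [hperf] at hker
  have hz1 : (z : L) ∈ (MonoidHom.transferCenterPow L).ker := hker (Subgroup.mem_top _)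
  rw [MonoidHom.mem_ker] at hz1
  have hz2 : (z : L) ^ (Subgroup.center L).index = 1 := by
    have := congrArg Subtype.val hz1
    simpa using this
  have hz3 : orderOf (z : L) = p := by
    rw [Subgroup.orderOf_coe, hz]
  rw [← hz3]
  exact orderOf_dvd_of_pow_eq_one hz2

end Cfsg.Agent.S4168
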