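import Mathlib
import Cfsg.Statements.S4177

set_option autoImplicit false
open Cfsg

namespace Cfsg.Agent.S4177

open Subgroup MulAction

/-- coprime indices: `H = B A` -/
theorem exists_mul_of_coprime_index {H : Type*} [Group H] [Finite H] (A B : Subgroup H)
    (hc : Nat.Coprime A.index B.index) (h : H) : ∃ y ∈ B, ∃ x ∈ A, h = y * x := by
  have key : (stabilizer H ((1 : H) : H ⧸ A)).subgroupOf B = stabilizer B ((1 : H) : H ⧸ A) := by
    ext; rfl
  have hstab : stabilizer H ((1 : H) : H ⧸ A) = A := MulAction.stabilizer_quotient A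
  have h1 : (orbit B ((1 : H) : H ⧸ A)).ncard = A.relIndex B := by
    rw [← index_stabilizer, ← key, hstab]; rfl
  have h2 : A.index ∣ A.relIndex B := by
    have e1 := relIndex_mul_index (inf_le_right : A ⊓ B ≤ B)
    have e2 := relIndex_mul_index (inf_le_left : A ⊓ B ≤ A)
    rw [inf_relIndex_right] at e1
    have : A.index ∣ A.relIndex B * B.index := by rw [e1, ← e2]; exact dvd_mul_left _ _
    exact hc.dvd_of_dvd_mul_right this
  have hpos : 0 < A.relIndex B := Nat.pos_of_ne_zero (by
    intro h0
    have e1 := relIndex_mul_index (inf_le_right : A ⊓ B ≤ B)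
    rw [inf_relIndex_right, h0, zero_mul] at e1
    exact index_ne_zero_of_finite e1.symm)
  have h3 : orbit B ((1 : H) : H ⧸ A) = Set.univ := by
    apply Set.eq_of_subset_of_ncard_le (Set.subset_univ _)
    rw [Set.ncard_univ, h1, ← index_eq_card]
    exact Nat.le_of_dvd hpos h2
  have h4 : ((h : H) : H ⧸ A) ∈ orbit B ((1 : H) : H ⧸ A) := by rw [h3]; trivial
  obtain ⟨y, hy⟩ := h4
  have hy' : (((y : H) * 1 : H) : H ⧸ A) = ((h : H) : H ⧸ A) := hy
  rw [mul_one] at hy'
  have h5 : (y : H)⁻¹ * h ∈ A := QuotientGroup.eq.mp hy'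
  exact ⟨y, y.2, (y : H)⁻¹ * h, h5, by group⟩

variable {k V H : Type*} [Field k] [AddCommGroup V] [Module k V] [Group H] [Finite H]

/-- the trace map of a subgroup -/
noncomputable def T (ρ : Representation k H V) (B : Subgroup H) : V →ₗ[k] V :=
  letI := Fintype.ofFinite B
  ∑ x : B, ρ (x : H)

theorem T_apply (ρ : Representation k H V) (B : Subgroup H) (v : V) :
    T ρ B v = (letI := Fintype.ofFinite B; ∑ x : B, ρ (x : H) v) := by
  unfold T
  simp [LinearMap.sum_apply]

theorem T_fixed (ρ : Representation k H V) (B : Subgroup H) (v : V)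
    (hv : ∀ x ∈ B, ρ x v = v) : T ρ B v = (Nat.card B : k) • v := by
  rw [T_apply]
  letI := Fintype.ofFinite B
  rw [Finset.sum_congr rfl (fun (x : B) _ => hv (x : H) x.2)]
  simp [Nat.card_eq_fintype_card, Nat.cast_smul_eq_nsmul]

theorem T_smul (ρ : Representation k H V) (B : Subgroup H) (v : V) (y : H) (hy : y ∈ B) :
    T ρ B (ρ y v) = T ρ B v := by
  rw [T_apply, T_apply]
  letI := Fintype.ofFinite B
  have : ∀ x : B, ρ (x : H) (ρ y v) = ρ ((x * ⟨y, hy⟩ : B) : H) v := by
    intro x
    rw [Subgroup.coe_mul, map_mul]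
    rfl
  rw [Finset.sum_congr rfl (fun x _ => this x)]
  exact Fintype.sum_bijective (fun x : B => x * ⟨y, hy⟩) (Group.mulRight_bijective _) _ _
    (fun x => rfl)

omit [Group H] [Finite H] in
theorem card_ne_zero (hchar : ¬ ringChar k ∣ Nat.card H) (n : ℕ) (hn : n ∣ Nat.card H) :
    (n : k) ≠ 0 := by
  intro h0
  rw [ringChar.spec] at h0
  exact hchar (h0.trans hn)

theorem fix_mem_span (hchar : ¬ ringChar k ∣ Nat.card H) (ρ : Representation k H V) (a : V)
    (hspan : Submodule.span k {u : V | ∃ h : H, ρ h a = u} = ⊤) (B : Subgroup H)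
    (hO : ∀ h : H, ∃ y ∈ B, ρ y a = ρ h a) (v : V) (hv : ∀ x ∈ B, ρ x v = v) :
    v ∈ Submodule.span k {T ρ B a} := by
  have hB : (Nat.card B : k) ≠ 0 := card_ne_zero hchar _ (Subgroup.card_subgroup_dvd_card B)
  have h1 : v = (Nat.card B : k)⁻¹ • T ρ B v := by
    rw [T_fixed ρ B v hv, smul_smul, inv_mul_cancel₀ hB, one_smul]
  have h2 : T ρ B v ∈ Submodule.span k {T ρ B a} := by
    have hv' : v ∈ Submodule.span k {u : V | ∃ h : H, ρ h a = u} := by rw [hspan]; trivial
    have : ∀ w ∈ Submodule.span k {u : V | ∃ h : H, ρ h a = u},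
        T ρ B w ∈ Submodule.span k {T ρ B a} := by
      intro w hw
      induction hw using Submodule.span_induction with
      | mem x hx =>
        obtain ⟨h, rfl⟩ := hx
        obtain ⟨y, hy, hya⟩ := hO h
        rw [← hya, T_smul ρ B a y hy]
        exact Submodule.subset_span rfl
      | zero => rw [map_zero]; exact Submodule.zero_mem _
      | add x y _ _ hx hy => rw [map_add]; exact Submodule.add_mem _ hx hy
      | smul c x _ hx => rw [map_smul]; exact Submodule.smul_mem _ c hx
    exact this v hv'
  rw [h1]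
  exact Submodule.smul_mem _ _ h2

/-- Let k be a field whose characteristic does not divide the order of the finite group H (for instance a field of characteristic zero), and ρ a k-linear representation of H on V. Let a be a vector whose H-orbit spans V. Then the space of H-fixed vectors has dimension at most 1, and every vector b whose H-orbit has size coprime to the size of the orbit of a is fixed by H. -/
theorem result {k V H : Type*} [Field k] [AddCommGroup V] [Module k V] [Group H] [Finite H]
    (hchar : ¬ ringChar k ∣ Nat.card H) (ρ : Representation k H V) (a : V)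
    (hspan : Submodule.span k {u : V | ∃ h : H, ρ h a = u} = ⊤) :
    Module.finrank k ρ.invariants ≤ 1 ∧
    ∀ b : V, (Nat.card {u : V | ∃ h : H, ρ h a = u}).Coprime (Nat.card {u : V | ∃ h : H, ρ h b = u}) → ∀ h : H, ρ h b = b := by
  classical
  constructor
  · -- invariants ≤ span {T ⊤ a}
    have hinv : ∀ v ∈ ρ.invariants, v ∈ Submodule.span k {T ρ ⊤ a} := by
      intro v hv
      apply fix_mem_span hchar ρ a hspan ⊤ (fun h => ⟨h, mem_top h, rfl⟩) v
      intro x _
      exact (Representation.mem_invariants ρ v).mp hv x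
    have hTinv : T ρ ⊤ a ∈ ρ.invariants := by
      rw [Representation.mem_invariants]
      intro g
      rw [T_apply]
      letI := Fintype.ofFinite (⊤ : Subgroup H)
      rw [map_sum]
      have : ∀ x : (⊤ : Subgroup H), ρ g (ρ (x : H) a) =
          ρ (((⟨g, mem_top g⟩ : (⊤ : Subgroup H)) * x : (⊤ : Subgroup H)) : H) a := by
        intro x
        rw [Subgroup.coe_mul, map_mul]
        rfl
      rw [Finset.sum_congr rfl (fun x _ => this x)]
      exact Fintype.sum_bijective (fun x : (⊤ : Subgroup H) => ⟨g, mem_top g⟩ * x)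
        (Group.mulLeft_bijective _) _ _ (fun x => rfl)
    apply finrank_le_one (⟨T ρ ⊤ a, hTinv⟩ : ρ.invariants)
    intro w
    obtain ⟨c, hc⟩ := Submodule.mem_span_singleton.mp (hinv w.1 w.2)
    exact ⟨c, Subtype.ext hc⟩
  · intro b hcop
    letI : MulAction H V := MulAction.compHom V (ρ : H →* (V →ₗ[k] V))
    have hsm : ∀ (h : H) (v : V), h • v = ρ h v := fun h v => rfl
    have hA : Nat.card {u : V | ∃ h : H, ρ h a = u} = (stabilizer H a).index := by
      rw [index_stabilizer, ← Nat.card_coe_set_eq]; rfl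
    have hB : Nat.card {u : V | ∃ h : H, ρ h b = u} = (stabilizer H b).index := by
      rw [index_stabilizer, ← Nat.card_coe_set_eq]; rfl
    rw [hA, hB] at hcop
    have hO : ∀ h : H, ∃ y ∈ stabilizer H b, ρ y a = ρ h a := by
      intro h
      obtain ⟨y, hy, x, hx, hyx⟩ := exists_mul_of_coprime_index _ _ hcop h
      refine ⟨y, hy, ?_⟩
      rw [hyx, map_mul]
      have : ρ x a = a := hx
      show ρ y a = ρ y (ρ x a)
      rw [this]
    have hbfix : ∀ x ∈ stabilizer H b, ρ x b = b := fun x hx => hx
    have hb := fix_mem_span hchar ρ a hspan (stabilizer H b) hO b hbfix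
    obtain ⟨c, hc⟩ := Submodule.mem_span_singleton.mp hb
    -- orbit sum
    letI := Fintype.ofFinite H
    set O : Finset V := Finset.univ.image (fun h : H => ρ h a) with hOdef
    set s : V := ∑ u ∈ O, u with hs
    have hsfix : ∀ h : H, ρ h s = s := by
      intro h
      rw [hs, map_sum]
      apply Finset.sum_nbij' (fun u => ρ h u) (fun u => ρ h⁻¹ u)
      · intro u hu
        rw [hOdef, Finset.mem_image] at hu ⊢
        obtain ⟨g, _, rfl⟩ := hu
        exact ⟨h * g, Finset.mem_univ _, by rw [map_mul]; rfl⟩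
      · intro u hu
        rw [hOdef, Finset.mem_image] at hu ⊢
        obtain ⟨g, _, rfl⟩ := hu
        exact ⟨h⁻¹ * g, Finset.mem_univ _, by rw [map_mul]; rfl⟩
      · intro u _
        show (ρ h⁻¹ * ρ h) u = u
        rw [← map_mul, inv_mul_cancel, map_one]; rfl
      · intro u _
        show (ρ h * ρ h⁻¹) u = u
        rw [← map_mul, mul_inv_cancel, map_one]; rfl
      · intro u _; rfl
    -- T B s in two ways
    have e1 : T ρ (stabilizer H b) s = (Nat.card (stabilizer H b) : k) • s :=
      T_fixed ρ _ s (fun x _ => hsfix x)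
    have e2 : T ρ (stabilizer H b) s = (O.card : k) • T ρ (stabilizer H b) a := by
      rw [hs, map_sum]
      have : ∀ u ∈ O, T ρ (stabilizer H b) u = T ρ (stabilizer H b) a := by
        intro u hu
        rw [hOdef, Finset.mem_image] at hu
        obtain ⟨g, _, rfl⟩ := hu
        obtain ⟨y, hy, hya⟩ := hO g
        rw [← hya, T_smul ρ _ a y hy]
      rw [Finset.sum_congr rfl this, Finset.sum_const, Nat.cast_smul_eq_nsmul]
    have hOcard : (O.card : k) ≠ 0 := by
      apply card_ne_zero hchar
      have hset : (↑O : Set V) = {u : V | ∃ h : H, ρ h a = u} := by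
        ext u
        simp [hOdef]
      have : O.card = (stabilizer H a).index := by
        rw [← hA, ← Set.ncard_coe_finset, hset, Nat.card_coe_set_eq]
      rw [this]
      exact index_dvd_card _
    have e3 : T ρ (stabilizer H b) a =
        (O.card : k)⁻¹ • ((Nat.card (stabilizer H b) : k) • s) := by
      rw [← e1, e2, smul_smul, inv_mul_cancel₀ hOcard, one_smul]
    intro h
    rw [← hc, e3, map_smul, map_smul, map_smul, hsfix h]

end Cfsg.Agent.S4177
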