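import Mathlib
import Cfsg.Statements.S4176
import Cfsg.Agent.S4177
import Cfsg.Agent.Lib.Helper7_PSolvable

set_option autoImplicit false
open Cfsg

namespace Cfsg.Agent.S4176

open Subgroup MulAction
open Cfsg.Agent.S4177
open Cfsg.Agent.Lib.Helper7_PSolvable

variable {k V H : Type*} [Field k] [AddCommGroup V] [Module k V] [Group H] [Finite H]

theorem fix_mem_span' (ρ : Representation k H V) (a : V)
    (hspan : Submodule.span k {u : V | ∃ h : H, ρ h a = u} = ⊤) (B : Subgroup H)
    (hB : (Nat.card B : k) ≠ 0)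
    (hO : ∀ h : H, ∃ y ∈ B, ρ y a = ρ h a) (v : V) (hv : ∀ x ∈ B, ρ x v = v) :
    v ∈ Submodule.span k {T ρ B a} := by
  have h1 : v = (Nat.card B : k)⁻¹ • T ρ B v := by
    rw [T_fixed ρ B v hv, smul_smul, inv_mul_cancel₀ hB, one_smul]
  have h2 : T ρ B v ∈ Submodule.span k {T ρ B a} := by
    have hv' : v ∈ Submodule.span k {u : V | ∃ h : H, ρ h a = u} := by rw [hspan]; trivial
    have : ∀ w ∈ Submodule.span k {u : V | ∃ h : H, ρ h a = u},
        T ρ B w ∈ Submodule.span k {T ρ B a} := by
      intro w hw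
      induction hw using Submodule.span_induction with
      | mem x hx =>
        obtain ⟨h, rfl⟩ := hx
        obtain ⟨y, hy, hya⟩ := hO h
        rw [← hya, T_smul ρ B a y hy]
        exact Submodule.subset_span rfl
      | zero => rw [map_zero]; exact Submodule.zero_mem _
      | add x y _ _ hx hy => rw [map_add]; exact Submodule.add_mem _ hx hy
      | smul c x _ hx => rw [map_smul]; exact Submodule.smul_mem _ c hx
    exact this v hv'
  rw [h1]
  exact Submodule.smul_mem _ _ h2

/-- a vector fixed by a subgroup `B` of invertible order that is transitive on the orbit of `a`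
(of invertible size) is fixed by `H` -/
theorem fixed_of_trans (ρ : Representation k H V) (a : V)
    (hspan : Submodule.span k {u : V | ∃ h : H, ρ h a = u} = ⊤) (B : Subgroup H)
    (hB : (Nat.card B : k) ≠ 0)
    (hO : ∀ h : H, ∃ y ∈ B, ρ y a = ρ h a)
    (hm : ((Nat.card {u : V | ∃ h : H, ρ h a = u} : ℕ) : k) ≠ 0)
    (b : V) (hb : ∀ x ∈ B, ρ x b = b) : ∀ h : H, ρ h b = b := by
  classical
  have hbs := fix_mem_span' ρ a hspan B hB hO b hb
  obtain ⟨c, hc⟩ := Submodule.mem_span_singleton.mp hbs
  letI := Fintype.ofFinite H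
  set O : Finset V := Finset.univ.image (fun h : H => ρ h a) with hOdef
  set s : V := ∑ u ∈ O, u with hs
  have hsfix : ∀ h : H, ρ h s = s := by
    intro h
    rw [hs, map_sum]
    apply Finset.sum_nbij' (fun u => ρ h u) (fun u => ρ h⁻¹ u)
    · intro u hu
      rw [hOdef, Finset.mem_image] at hu ⊢
      obtain ⟨g, _, rfl⟩ := hu
      exact ⟨h * g, Finset.mem_univ _, by rw [map_mul]; rfl⟩
    · intro u hu
      rw [hOdef, Finset.mem_image] at hu ⊢
      obtain ⟨g, _, rfl⟩ := hu
      exact ⟨h⁻¹ * g, Finset.mem_univ _, by rw [map_mul]; rfl⟩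
    · intro u _
      show (ρ h⁻¹ * ρ h) u = u
      rw [← map_mul, inv_mul_cancel, map_one]; rfl
    · intro u _
      show (ρ h * ρ h⁻¹) u = u
      rw [← map_mul, mul_inv_cancel, map_one]; rfl
    · intro u _; rfl
  have e1 : T ρ B s = (Nat.card B : k) • s := T_fixed ρ _ s (fun x _ => hsfix x)
  have e2 : T ρ B s = (O.card : k) • T ρ B a := by
    rw [hs, map_sum]
    have : ∀ u ∈ O, T ρ B u = T ρ B a := by
      intro u hu
      rw [hOdef, Finset.mem_image] at hu
      obtain ⟨g, _, rfl⟩ := hu
      obtain ⟨y, hy, hya⟩ := hO g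
      rw [← hya, T_smul ρ _ a y hy]
    rw [Finset.sum_congr rfl this, Finset.sum_const, Nat.cast_smul_eq_nsmul]
  have hOcard : (O.card : k) ≠ 0 := by
    have hset : (↑O : Set V) = {u : V | ∃ h : H, ρ h a = u} := by
      ext u
      simp [hOdef]
    have : O.card = Nat.card {u : V | ∃ h : H, ρ h a = u} := by
      rw [← Set.ncard_coe_finset, hset, Nat.card_coe_set_eq]
    rw [this]; exact hm
  have e3 : T ρ B a = (O.card : k)⁻¹ • ((Nat.card B : k) • s) := by
    rw [← e1, e2, smul_smul, inv_mul_cancel₀ hOcard, one_smul]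
  intro h
  rw [← hc, e3, map_smul, map_smul, map_smul, hsfix h]

theorem result {k V H : Type*} [Field k] (p : ℕ) [Fact p.Prime] [CharP k p] [AddCommGroup V] [Module k V]
    [Group H] [Finite H] (hsol : Cfsg.IsPSolvable p H) (ρ : Representation k H V) (a : V)
    (hfix : ∃ P : Sylow p H, ∀ x : H, x ∈ (P : Subgroup H) → ρ x a = a)
    (hspan : Submodule.span k {u : V | ∃ h : H, ρ h a = u} = ⊤) :
    Module.finrank k ρ.invariants ≤ 1 ∧
    ∀ b : V, (Nat.card {u : V | ∃ h : H, ρ h a = u}).Coprime (Nat.card {u : V | ∃ h : H, ρ h b = u}) → ∀ h : H, ρ h b = b := by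
  classical
  have hp : p.Prime := Fact.out
  obtain ⟨P, hP⟩ := hfix
  have hcast : ∀ n : ℕ, n.Coprime p → (n : k) ≠ 0 := by
    intro n hn h0
    rw [CharP.cast_eq_zero_iff k p] at h0
    have := Nat.Coprime.eq_one_of_dvd hn.symm h0
    exact hp.one_lt.ne' this
  letI : MulAction H V := MulAction.compHom V (ρ : H →* (V →ₗ[k] V))
  have hsm : ∀ (h : H) (v : V), h • v = ρ h v := fun h v => rfl
  have hA : Nat.card {u : V | ∃ h : H, ρ h a = u} = (stabilizer H a).index := by
    rw [index_stabilizer, ← Nat.card_coe_set_eq]; rfl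
  have hPA : (P : Subgroup H) ≤ stabilizer H a := fun x hx => hP x hx
  have hPidx : ((P : Subgroup H).index).Coprime p := by
    rw [Nat.coprime_comm, Nat.Prime.coprime_iff_not_dvd hp]
    exact P.not_dvd_index
  have hAidx : ((stabilizer H a).index).Coprime p :=
    Nat.Coprime.coprime_dvd_left (Subgroup.index_dvd_of_le hPA) hPidx
  have hm : ((Nat.card {u : V | ∃ h : H, ρ h a = u} : ℕ) : k) ≠ 0 := by
    rw [hA]; exact hcast _ hAidx
  constructor
  · obtain ⟨Q, hQ1, m, hQ2⟩ := exists_hall hp hsol
    have hcop : Nat.Coprime (P : Subgroup H).index Q.index := by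
      rw [hQ2]; exact Nat.Coprime.pow_right m hPidx
    have hO : ∀ h : H, ∃ y ∈ Q, ρ y a = ρ h a := by
      intro h
      obtain ⟨y, hy, x, hx, hyx⟩ := exists_mul_of_coprime_index _ _ hcop h
      refine ⟨y, hy, ?_⟩
      rw [hyx, map_mul]
      show ρ y a = ρ y (ρ x a)
      rw [hP x hx]
    have hle : ρ.invariants ≤ Submodule.span k {T ρ Q a} := by
      intro v hv
      apply fix_mem_span' ρ a hspan Q (hcast _ hQ1) hO v
      intro x _
      exact (Representation.mem_invariants ρ v).mp hv x
    calc Module.finrank k ρ.invariants ≤ Module.finrank k (Submodule.span k {T ρ Q a}) :=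
          Submodule.finrank_mono hle
      _ ≤ 1 := by
          have := finrank_span_le_card (R := k) ({T ρ Q a} : Set V)
          simpa using this
  · intro b hcop
    have hB : Nat.card {u : V | ∃ h : H, ρ h b = u} = (stabilizer H b).index := by
      rw [index_stabilizer, ← Nat.card_coe_set_eq]; rfl
    rw [hA, hB] at hcop
    have hsolB : Cfsg.IsPSolvable p (stabilizer H b) := subgroup hp hsol _
    obtain ⟨Q, hQ1, m, hQ2⟩ := exists_hall hp hsolB
    set Q' : Subgroup H := Q.map (stabilizer H b).subtype with hQ'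
    have hQ'card : Nat.card Q' = Nat.card Q :=
      Subgroup.card_map_of_injective (stabilizer H b).subtype_injective
    have hQ'idx : Q'.index = p ^ m * (stabilizer H b).index := by
      rw [hQ', Subgroup.index_map_subtype, hQ2]
    have hcop' : Nat.Coprime (stabilizer H a).index Q'.index := by
      rw [hQ'idx]
      exact Nat.Coprime.mul_right (Nat.Coprime.pow_right m hAidx) hcop
    have hO : ∀ h : H, ∃ y ∈ Q', ρ y a = ρ h a := by
      intro h
      obtain ⟨y, hy, x, hx, hyx⟩ := exists_mul_of_coprime_index _ _ hcop' h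
      refine ⟨y, hy, ?_⟩
      rw [hyx, map_mul]
      have : ρ x a = a := hx
      show ρ y a = ρ y (ρ x a)
      rw [this]
    have hbfix : ∀ x ∈ Q', ρ x b = b := by
      rintro _ ⟨y, _, rfl⟩
      exact y.2
    exact fixed_of_trans ρ a hspan Q' (by rw [hQ'card]; exact hcast _ hQ1) hO hm b hbfix

end Cfsg.Agent.S4176
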