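import Mathlib
import Cfsg.Statements.S4178

set_option autoImplicit false
open Cfsg

namespace Cfsg.Agent.S4178

open Subgroup

variable {F V : Type*} [Field F] [AddCommGroup V] [Module F V]

/-- the subgroup generated by the elements with eigenvalue one -/
abbrev Rsub (H : Subgroup (V ≃ₗ[F] V)) : Subgroup H :=
  Subgroup.closure {h : ↥H | ∃ v : V, v ≠ 0 ∧ (h : V ≃ₗ[F] V) v = v}

/-- bound via an orbit inside an invariant subspace -/
theorem index_le_sub [Finite V] (H : Subgroup (V ≃ₗ[F] V)) (W : Submodule F V)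
    (hinv : ∀ h ∈ H, ∀ w ∈ W, h w ∈ W) (hW : W ≠ ⊥) :
    (Rsub H).index + 1 ≤ Nat.card W := by
  classical
  haveI : Finite (V ≃ₗ[F] V) := Finite.of_injective (fun e => (e : V → V)) DFunLike.coe_injective
  obtain ⟨w, hwW, hw0⟩ := (Submodule.ne_bot_iff W).mp hW
  -- the stabilizer of w
  let S : Subgroup H :=
    { carrier := {h | (h : V ≃ₗ[F] V) w = w}
      one_mem' := rfl
      mul_mem' := fun {a b} ha hb => by
        show ((a : V ≃ₗ[F] V) * (b : V ≃ₗ[F] V)) w = w
        rw [LinearEquiv.mul_apply]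
        have hb' : (b : V ≃ₗ[F] V) w = w := hb
        have ha' : (a : V ≃ₗ[F] V) w = w := ha
        rw [hb', ha']
      inv_mem' := fun {a} ha => by
        show ((a : V ≃ₗ[F] V)⁻¹) w = w
        have ha' : (a : V ≃ₗ[F] V) w = w := ha
        calc ((a : V ≃ₗ[F] V)⁻¹) w = ((a : V ≃ₗ[F] V)⁻¹) ((a : V ≃ₗ[F] V) w) := by rw [ha']
          _ = ((a : V ≃ₗ[F] V)⁻¹ * (a : V ≃ₗ[F] V)) w := rfl
          _ = w := by rw [inv_mul_cancel]; rfl }
  have hSR : S ≤ Rsub H := by
    intro h hh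
    exact Subgroup.subset_closure ⟨w, hw0, hh⟩
  have h1 : (Rsub H).index ≤ S.index :=
    Nat.le_of_dvd (Nat.pos_of_ne_zero (Subgroup.index_ne_zero_of_finite)) (Subgroup.index_dvd_of_le hSR)
  -- injection of H ⧸ S into the nonzero vectors of W
  let f : H ⧸ S → {x : W // x ≠ 0} := fun c =>
    Quotient.liftOn' c (fun h => (⟨⟨(h : V ≃ₗ[F] V) w, hinv h h.2 w hwW⟩, by
        intro h0
        apply hw0
        have h0' : (h : V ≃ₗ[F] V) w = 0 := congrArg Subtype.val h0
        exact (LinearEquiv.map_eq_zero_iff _).mp h0'⟩ : {x : W // x ≠ 0}))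
      (by
        intro a b hab
        rw [QuotientGroup.leftRel_apply] at hab
        have hab' : ((a : V ≃ₗ[F] V)⁻¹ * (b : V ≃ₗ[F] V)) w = w := hab
        apply Subtype.ext
        apply Subtype.ext
        show (a : V ≃ₗ[F] V) w = (b : V ≃ₗ[F] V) w
        calc (a : V ≃ₗ[F] V) w = (a : V ≃ₗ[F] V) (((a : V ≃ₗ[F] V)⁻¹ * (b : V ≃ₗ[F] V)) w) := by
              rw [hab']
          _ = ((a : V ≃ₗ[F] V) * ((a : V ≃ₗ[F] V)⁻¹ * (b : V ≃ₗ[F] V))) w := rfl
          _ = (b : V ≃ₗ[F] V) w := by rw [mul_inv_cancel_left])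
  have hf : Function.Injective f := by
    intro c d
    induction c using Quotient.inductionOn' with
    | h a =>
    induction d using Quotient.inductionOn' with
    | h b =>
    intro hcd
    have hcd' : (a : V ≃ₗ[F] V) w = (b : V ≃ₗ[F] V) w := by
      have := congrArg (fun x : {x : W // x ≠ 0} => ((x : W) : V)) hcd
      exact this
    apply Quotient.sound'
    rw [QuotientGroup.leftRel_apply]
    show ((a : V ≃ₗ[F] V)⁻¹ * (b : V ≃ₗ[F] V)) w = w
    calc ((a : V ≃ₗ[F] V)⁻¹ * (b : V ≃ₗ[F] V)) w = (a : V ≃ₗ[F] V)⁻¹ ((b : V ≃ₗ[F] V) w) := rfl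
      _ = (a : V ≃ₗ[F] V)⁻¹ ((a : V ≃ₗ[F] V) w) := by rw [hcd']
      _ = ((a : V ≃ₗ[F] V)⁻¹ * (a : V ≃ₗ[F] V)) w := rfl
      _ = w := by rw [inv_mul_cancel]; rfl
  have h2 : S.index ≤ Nat.card {x : W // x ≠ 0} := by
    rw [Subgroup.index_eq_card]
    exact Nat.card_le_card_of_injective f hf
  have h3 : Nat.card {x : W // x ≠ 0} + 1 = Nat.card W := by
    haveI := Fintype.ofFinite W
    rw [Nat.card_eq_fintype_card, Nat.card_eq_fintype_card, Fintype.card_subtype_compl,
      Fintype.card_subtype_eq]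
    have : 0 < Fintype.card W := Fintype.card_pos
    omega
  omega

/-- an element of `H` fixing a nonzero vector modulo an invariant subspace has eigenvalue one -/
theorem exists_fixed_of_fixed_mod [Finite V] (W : Submodule F V) (h : V ≃ₗ[F] V)
    (hW : ∀ w ∈ W, h w ∈ W) (v : V) (hv : v ∉ W) (hvW : h v - v ∈ W) :
    ∃ u : V, u ≠ 0 ∧ h u = u := by
  let g : W → W := fun w => ⟨h w - w, W.sub_mem (hW w w.2) w.2⟩
  by_cases hg : Function.Injective g
  · have hs : Function.Surjective g := Finite.injective_iff_surjective.mp hg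
    obtain ⟨w₁, hw₁⟩ := hs ⟨h v - v, hvW⟩
    have hw₁' : h w₁ - w₁ = h v - v := congrArg Subtype.val hw₁
    refine ⟨v - w₁, ?_, ?_⟩
    · intro h0
      apply hv
      have : v = w₁ := sub_eq_zero.mp h0
      rw [this]; exact w₁.2
    · rw [map_sub]
      have : h v - h w₁ - (v - w₁) = 0 := by
        have e : h v - h w₁ - (v - w₁) = (h v - v) - (h w₁ - w₁) := by abel
        rw [e, hw₁', sub_self]
      exact sub_eq_zero.mp this
  · rw [Function.Injective] at hg
    push Not at hg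
    obtain ⟨x, y, hxy, hne⟩ := hg
    have hxy' : h x - x = h y - y := congrArg Subtype.val hxy
    refine ⟨(x : V) - y, ?_, ?_⟩
    · intro h0
      apply hne
      exact Subtype.ext (sub_eq_zero.mp h0)
    · rw [map_sub]
      have : h x - h y - ((x : V) - y) = 0 := by
        have e : h x - h y - ((x : V) - y) = (h x - x) - (h y - y) := by abel
        rw [e, hxy', sub_self]
      exact sub_eq_zero.mp this

/-- bound via an orbit in the quotient by an invariant subspace -/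
theorem index_le_quot [Finite V] (H : Subgroup (V ≃ₗ[F] V)) (W : Submodule F V)
    (hinv : ∀ h ∈ H, ∀ w ∈ W, h w ∈ W) (hW : W ≠ ⊤) :
    (Rsub H).index + 1 ≤ Nat.card (V ⧸ W) := by
  classical
  haveI : Finite (V ≃ₗ[F] V) := Finite.of_injective (fun e => (e : V → V)) DFunLike.coe_injective
  obtain ⟨v, hv⟩ : ∃ v : V, v ∉ W := by
    by_contra hcon
    push Not at hcon
    exact hW (eq_top_iff.mpr (fun x _ => hcon x))
  have hinv' : ∀ h : H, ∀ x : V, (h : V ≃ₗ[F] V) x ∈ W ↔ x ∈ W := by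
    intro h x
    constructor
    · intro hx
      have := hinv (h⁻¹ : H) (h⁻¹ : H).2 _ hx
      have e : ((h⁻¹ : H) : V ≃ₗ[F] V) ((h : V ≃ₗ[F] V) x) = x := by
        show (((h : V ≃ₗ[F] V))⁻¹ * (h : V ≃ₗ[F] V)) x = x
        rw [inv_mul_cancel]; rfl
      rwa [e] at this
    · exact hinv h h.2 x
  -- the stabilizer of v + W
  let S : Subgroup H :=
    { carrier := {h | (h : V ≃ₗ[F] V) v - v ∈ W}
      one_mem' := by show (1 : V ≃ₗ[F] V) v - v ∈ W; simp
      mul_mem' := fun {a b} ha hb => by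
        show ((a : V ≃ₗ[F] V) * (b : V ≃ₗ[F] V)) v - v ∈ W
        have hb' : (b : V ≃ₗ[F] V) v - v ∈ W := hb
        have ha' : (a : V ≃ₗ[F] V) v - v ∈ W := ha
        have e : ((a : V ≃ₗ[F] V) * (b : V ≃ₗ[F] V)) v - v =
            (a : V ≃ₗ[F] V) ((b : V ≃ₗ[F] V) v - v) + ((a : V ≃ₗ[F] V) v - v) := by
          rw [LinearEquiv.mul_apply, map_sub]; abel
        rw [e]
        exact W.add_mem (hinv a a.2 _ hb') ha'
      inv_mem' := fun {a} ha => by
        show ((a⁻¹ : H) : V ≃ₗ[F] V) v - v ∈ W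
        have ha' : (a : V ≃ₗ[F] V) v - v ∈ W := ha
        rw [← hinv' a]
        have e : (a : V ≃ₗ[F] V) (((a⁻¹ : H) : V ≃ₗ[F] V) v - v) = -((a : V ≃ₗ[F] V) v - v) := by
          rw [map_sub]
          have : (a : V ≃ₗ[F] V) (((a⁻¹ : H) : V ≃ₗ[F] V) v) = v := by
            show ((a : V ≃ₗ[F] V) * ((a : V ≃ₗ[F] V))⁻¹) v = v
            rw [mul_inv_cancel]; rfl
          rw [this]; abel
        rw [e]
        exact W.neg_mem ha' }
  have hSR : S ≤ Rsub H := by
    intro h hh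
    obtain ⟨u, hu0, hu⟩ := exists_fixed_of_fixed_mod W (h : V ≃ₗ[F] V) (hinv h h.2) v hv hh
    exact Subgroup.subset_closure ⟨u, hu0, hu⟩
  have h1 : (Rsub H).index ≤ S.index :=
    Nat.le_of_dvd (Nat.pos_of_ne_zero (Subgroup.index_ne_zero_of_finite)) (Subgroup.index_dvd_of_le hSR)
  have hrel : ∀ a b : H, a⁻¹ * b ∈ S ↔
      (Submodule.Quotient.mk ((a : V ≃ₗ[F] V) v) : V ⧸ W) = Submodule.Quotient.mk ((b : V ≃ₗ[F] V) v) := by
    intro a b
    rw [Submodule.Quotient.eq]
    show ((a⁻¹ * b : H) : V ≃ₗ[F] V) v - v ∈ W ↔ _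
    rw [← hinv' a]
    have e : (a : V ≃ₗ[F] V) (((a⁻¹ * b : H) : V ≃ₗ[F] V) v - v) =
        -((a : V ≃ₗ[F] V) v - (b : V ≃ₗ[F] V) v) := by
      rw [map_sub]
      have : (a : V ≃ₗ[F] V) (((a⁻¹ * b : H) : V ≃ₗ[F] V) v) = (b : V ≃ₗ[F] V) v := by
        show ((a : V ≃ₗ[F] V) * (((a : V ≃ₗ[F] V))⁻¹ * (b : V ≃ₗ[F] V))) v = _
        rw [mul_inv_cancel_left]
      rw [this]; abel
    rw [e, neg_mem_iff]
  let f : H ⧸ S → {x : V ⧸ W // x ≠ 0} := fun c =>
    Quotient.liftOn' c (fun h => (⟨Submodule.Quotient.mk ((h : V ≃ₗ[F] V) v), by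
        intro h0
        rw [Submodule.Quotient.mk_eq_zero, hinv'] at h0
        exact hv h0⟩ : {x : V ⧸ W // x ≠ 0}))
      (by
        intro a b hab
        rw [QuotientGroup.leftRel_apply] at hab
        exact Subtype.ext ((hrel a b).mp hab))
  have hf : Function.Injective f := by
    intro c d
    induction c using Quotient.inductionOn' with
    | h a =>
    induction d using Quotient.inductionOn' with
    | h b =>
    intro hcd
    have hcd' : (Submodule.Quotient.mk ((a : V ≃ₗ[F] V) v) : V ⧸ W) =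
        Submodule.Quotient.mk ((b : V ≃ₗ[F] V) v) := congrArg Subtype.val hcd
    apply Quotient.sound'
    rw [QuotientGroup.leftRel_apply]
    exact (hrel a b).mpr hcd'
  haveI : Finite (V ⧸ W) := Finite.of_surjective _ (Submodule.Quotient.mk_surjective W)
  have h2 : S.index ≤ Nat.card {x : V ⧸ W // x ≠ 0} := by
    rw [Subgroup.index_eq_card]
    exact Nat.card_le_card_of_injective f hf
  have h3 : Nat.card {x : V ⧸ W // x ≠ 0} + 1 = Nat.card (V ⧸ W) := by
    haveI := Fintype.ofFinite (V ⧸ W)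
    rw [Nat.card_eq_fintype_card, Nat.card_eq_fintype_card, Fintype.card_subtype_compl,
      Fintype.card_subtype_eq]
    have : 0 < Fintype.card (V ⧸ W) := Fintype.card_pos
    omega
  omega

theorem result {F V : Type*} [Field F] [Fintype F] [AddCommGroup V] [Module F V] [FiniteDimensional F V] [Nontrivial V]
    (H : Subgroup (V ≃ₗ[F] V)) :
    (Subgroup.closure {h : ↥H | ∃ v : V, v ≠ 0 ∧ (h : V ≃ₗ[F] V) v = v}).index ≤ Fintype.card F ^ Module.finrank F V - 1 ∧
    ((∃ W : Submodule F V, W ≠ ⊥ ∧ W ≠ ⊤ ∧ ∀ h ∈ H, ∀ w ∈ W, h w ∈ W) →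
      ((Subgroup.closure {h : ↥H | ∃ v : V, v ≠ 0 ∧ (h : V ≃ₗ[F] V) v = v}).index : ℝ) ≤ Real.sqrt ((Fintype.card F : ℝ) ^ Module.finrank F V) - 1) := by
  haveI : Finite V := Module.finite_of_finite F
  have hcardV : Nat.card V = Fintype.card F ^ Module.finrank F V := by
    rw [Module.natCard_eq_pow_finrank (K := F), Nat.card_eq_fintype_card]
  constructor
  · have h1 := index_le_sub H ⊤ (fun _ _ _ _ => Submodule.mem_top) top_ne_bot
    have h2 : Nat.card (⊤ : Submodule F V) = Nat.card V :=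
      Nat.card_congr (Submodule.topEquiv (R := F) (M := V)).toEquiv
    rw [h2, hcardV] at h1
    show (Rsub H).index ≤ _
    omega
  · rintro ⟨W, hW1, hW2, hinv⟩
    have h1 := index_le_sub H W hinv hW1
    have h2 := index_le_quot H W hinv hW2
    have h3 : Nat.card V = Nat.card (V ⧸ W) * Nat.card W := by
      rw [Submodule.card_eq_card_quotient_mul_card W, mul_comm]
    show (((Rsub H).index : ℕ) : ℝ) ≤ _
    set k := (Rsub H).index with hk
    have h4 : (k + 1) * (k + 1) ≤ Fintype.card F ^ Module.finrank F V := by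
      rw [← hcardV, h3]
      exact Nat.mul_le_mul h2 h1
    have h5 : ((k : ℝ) + 1) ≤ Real.sqrt ((Fintype.card F : ℝ) ^ Module.finrank F V) := by
      apply Real.le_sqrt_of_sq_le
      have : (((k + 1) * (k + 1) : ℕ) : ℝ) ≤ ((Fintype.card F ^ Module.finrank F V : ℕ) : ℝ) := by
        exact_mod_cast h4
      push_cast at this
      nlinarith [this]
    linarith

end Cfsg.Agent.S4178
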