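import Mathlib
import Cfsg.Statements.S4186

set_option autoImplicit false
open Cfsg

namespace Cfsg.Agent.S4186

/-- Let T and X be subgroups of a group with T a finite 2-group normalizing X but not centralizing it. Then some element of T inverts some non-identity element of X under conjugation. -/
theorem result {G : Type*} [Group G] (T X : Subgroup G) [Finite ↥T] (hT : IsPGroup 2 ↥T) (hTN : T ≤ Subgroup.normalizer (X : Set G)) (hTC : ¬ T ≤ Subgroup.centralizer (X : Set G)) : ∃ t ∈ T, ∃ x ∈ X, x ≠ 1 ∧ t * x * t⁻¹ = x⁻¹ := by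
  classical
  -- pick t0 ∈ T not centralizing X
  obtain ⟨t0, ht0T, ht0C⟩ := Set.not_subset.mp hTC
  -- some 2-power of t0 is trivial
  obtain ⟨n, hn⟩ := hT ⟨t0, ht0T⟩
  have hn' : t0 ^ 2 ^ n = 1 := by
    have := congrArg Subtype.val hn
    simpa using this
  have hex : ∃ k : ℕ, t0 ^ 2 ^ k ∈ Subgroup.centralizer (X : Set G) :=
    ⟨n, by rw [hn']; exact Subgroup.one_mem _⟩
  set k := Nat.find hex with hk
  have hkspec : t0 ^ 2 ^ k ∈ Subgroup.centralizer (X : Set G) := Nat.find_spec hex
  have hkpos : k ≠ 0 := by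
    intro h0
    rw [h0] at hkspec
    simp only [pow_zero, pow_one] at hkspec
    exact ht0C hkspec
  obtain ⟨j, hj⟩ := Nat.exists_eq_succ_of_ne_zero hkpos
  set t := t0 ^ 2 ^ j with ht
  have htT : t ∈ T := T.pow_mem ht0T _
  have htC : t ∉ Subgroup.centralizer (X : Set G) := by
    have : j < k := by omega
    exact Nat.find_min hex this
  have ht2 : t ^ 2 ∈ Subgroup.centralizer (X : Set G) := by
    have : t ^ 2 = t0 ^ 2 ^ k := by
      rw [ht, ← pow_mul, hj, pow_succ]
    rw [this]; exact hkspec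
  -- pick x ∈ X not commuting with t
  rw [Subgroup.mem_centralizer_iff] at htC
  push Not at htC
  obtain ⟨x, hxX, hxt⟩ := htC
  have hxX' : x ∈ X := hxX
  have htN := hTN htT
  have htx : t * x * t⁻¹ ∈ X := (Subgroup.mem_normalizer_iff.mp htN x).mp hxX'
  refine ⟨t, htT, x⁻¹ * (t * x * t⁻¹), X.mul_mem (X.inv_mem hxX') htx, ?_, ?_⟩
  · intro h
    apply hxt
    have : t * x * t⁻¹ = x := by
      have := congrArg (fun z => x * z) h
      simpa [mul_assoc] using this
    calc x * t = (t * x * t⁻¹) * t := by rw [this]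
      _ = t * x := by group
  · have hc := (Subgroup.mem_centralizer_iff.mp ht2) x hxX
    -- x * t^2 = t^2 * x
    have h2 : t * t * x * (t⁻¹ * t⁻¹) = x := by
      have : t * t * x = x * (t * t) := by rw [← pow_two]; exact hc.symm
      rw [this]; group
    calc t * (x⁻¹ * (t * x * t⁻¹)) * t⁻¹ = (t * x⁻¹ * t⁻¹) * (t * t * x * (t⁻¹ * t⁻¹)) := by group
      _ = (t * x⁻¹ * t⁻¹) * x := by rw [h2]
      _ = (x⁻¹ * (t * x * t⁻¹))⁻¹ := by group

end Cfsg.Agent.S4186
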