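import Mathlib
import Cfsg.Statements.S4189
import Cfsg.Agent.S0115
import Cfsg.Agent.Lib.Helper5_MaxClassTwo
import Cfsg.Agent.Lib.Helper8_AutTwo

set_option autoImplicit false
open Cfsg

namespace Cfsg.Agent.S4189

theorem exists_pow_lt {G : Type*} [Group G] (c g : G) (k : ℕ) (hk : 0 < k) (hc : orderOf c = k)
    (hg : g ∈ Subgroup.zpowers c) : ∃ i < k, g = c ^ i := by
  have hfin : IsOfFinOrder c := orderOf_pos_iff.mp (hc ▸ hk)
  rw [← hfin.mem_powers_iff_mem_zpowers] at hg
  obtain ⟨j, rfl⟩ := hg
  exact ⟨j % k, Nat.mod_lt _ hk, by rw [← hc, pow_mod_orderOf]⟩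

/-- Let P be a finite non-abelian 2-group whose commutator subgroup has index 4 and whose automorphism group is not a 2-group (some automorphism has order that is not a power of 2). Then P is isomorphic to the quaternion group of order 8. -/
theorem result {P : Type*} [Group P] [Finite P] (hP : IsPGroup 2 P) (hna : ¬ IsMulCommutative P) (h4 : (commutator P).index = 4) (haut : ¬ IsPGroup 2 (MulAut P)) : Nonempty (P ≃* QuaternionGroup 2) := by
  classical
  haveI : Fact (Nat.Prime 2) := ⟨Nat.prime_two⟩
  obtain ⟨n, hX⟩ := IsPGroup.iff_card.mp hP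
  have hc1 : commutator P ≠ ⊥ := by
    intro h
    apply hna
    constructor; constructor
    intro a b
    have h1 : a * b * a⁻¹ * b⁻¹ ∈ commutator P :=
      Subgroup.commutator_mem_commutator (Subgroup.mem_top a) (Subgroup.mem_top b)
    rw [h, Subgroup.mem_bot] at h1
    have h2 : a * b * a⁻¹ = b := mul_inv_eq_one.mp h1
    exact mul_inv_eq_iff_eq_mul.mp h2
  have hn : 3 ≤ n := by
    have h1 := Subgroup.card_mul_index (commutator P)
    rw [h4, hX] at h1
    have h2 : 1 < Nat.card (commutator P) :=
      (Subgroup.one_lt_card_iff_ne_bot (H := commutator P)).mpr hc1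
    by_contra hlt
    push Not at hlt
    interval_cases n <;> omega
  have hcl := Cfsg.Agent.S0115.taussky n P hn hX h4
  obtain ⟨c, x, hord, hx, hidx, hZC, hxx, hd, hsq⟩ :=
    Cfsg.Agent.Lib.Helper6_MaxClass2.maxclass_structure n hn hX hcl
  obtain ⟨hZcard, -, -⟩ := Cfsg.Agent.Lib.Helper6_MaxClass.center_of_maxclass 2 n hn hX hcl
  have hdec : ∀ s g : P, s ∉ Subgroup.zpowers c → g ∉ Subgroup.zpowers c →
      s⁻¹ * g ∈ Subgroup.zpowers c :=
    fun s g hs hg => Cfsg.Agent.Lib.Helper6_MaxClass2.decomp_of_index_two _ hidx s g hs hg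
  have hcos : ∀ g : P, g ∈ Subgroup.zpowers c ∨ ∃ z ∈ Subgroup.zpowers c, g = x * z := by
    intro g
    by_cases hg : g ∈ Subgroup.zpowers c
    · left; exact hg
    · right
      exact ⟨x⁻¹ * g, hdec x g hx hg, by group⟩
  have h4th : ∀ y, y ∉ Subgroup.zpowers c → (y * y) ^ 2 = 1 := by
    intro y hy
    have h1 := hsq y hy
    have h2 : (⟨y * y, h1⟩ : Subgroup.center P) ^ 2 = 1 := by
      rw [← hZcard]; exact pow_card_eq_one'
    exact congrArg Subtype.val h2
  by_cases hex : ∃ y, y ∉ Subgroup.zpowers c ∧ orderOf y = orderOf c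
  · obtain ⟨y, hy, hyo⟩ := hex
    have hy4' : y ^ 4 = 1 := by
      have h1 := h4th y hy
      calc y ^ 4 = (y * y) ^ 2 := by rw [← pow_two, ← pow_mul]
        _ = 1 := h1
    have h1 : orderOf y ∣ 4 := orderOf_dvd_of_pow_eq_one hy4'
    rw [hyo, hord] at h1
    have hn3 : n = 3 := by
      have h2 : 2 ^ (n - 1) ≤ 4 := Nat.le_of_dvd (by norm_num) h1
      by_contra hne
      have h5 : 3 ≤ n - 1 := by omega
      have h6 : 2 ^ 3 ≤ 2 ^ (n - 1) := Nat.pow_le_pow_right (by norm_num) h5
      omega
    subst hn3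
    have hc4 : orderOf c = 4 := by rw [hord]; norm_num
    have hy4 : orderOf y = 4 := by rw [hyo, hc4]
    have hcpow : c ^ 4 = 1 := by rw [← hc4]; exact pow_orderOf_eq_one c
    have hc2 : c ^ 2 ≠ 1 := by
      intro h
      have := orderOf_dvd_of_pow_eq_one h
      rw [hc4] at this
      omega
    have hyy1 : y * y ≠ 1 := by
      intro h
      have h2 : y ^ 2 = 1 := by rw [pow_two]; exact h
      have := orderOf_dvd_of_pow_eq_one h2
      rw [hy4] at this
      omega
    -- y * y = c ^ 2
    have hyy : y * y = c ^ 2 := by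
      obtain ⟨i, hi, hyi⟩ := exists_pow_lt c (y * y) 4 (by norm_num) hc4 (hZC (hsq y hy))
      have h2 := h4th y hy
      rw [hyi] at h2
      interval_cases i
      · exfalso; apply hyy1; rw [hyi, pow_zero]
      · exfalso; apply hc2; rw [pow_one] at h2; exact h2
      · exact hyi
      · exfalso
        apply hc2
        have h3 : (c ^ 3) ^ 2 = c ^ 4 * c ^ 2 := by group
        rw [h3, hcpow, one_mul] at h2
        exact h2
    -- y c y⁻¹ = c⁻¹
    have hCn : (Subgroup.zpowers c).Normal := Subgroup.normal_of_index_eq_two hidx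
    have hyc : y * c * y⁻¹ = c⁻¹ := by
      obtain ⟨i, hi, hyi⟩ := exists_pow_lt c (y * c * y⁻¹) 4 (by norm_num) hc4
        (hCn.conj_mem c (Subgroup.mem_zpowers c) y)
      have ho : orderOf (y * c * y⁻¹) = 4 := by
        have h2 : y * c * y⁻¹ = MulAut.conj y c := by simp
        rw [h2, MulEquiv.orderOf_eq, hc4]
      interval_cases i
      · exfalso
        rw [hyi, pow_zero, orderOf_one] at ho
        omega
      · -- y commutes with c: contradiction
        exfalso
        rw [pow_one] at hyi
        have hyc' : y * c = c * y := mul_inv_eq_iff_eq_mul.mp hyi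
        apply hy
        apply hZC
        rw [Subgroup.mem_center_iff]
        intro g
        have hcomm_pow : ∀ z ∈ Subgroup.zpowers c, z * y = y * z := by
          intro z hz
          obtain ⟨k, rfl⟩ := Subgroup.mem_zpowers_iff.mp hz
          have h3 : Commute y c := hyc'
          exact (h3.zpow_right k).eq.symm
        by_cases hg : g ∈ Subgroup.zpowers c
        · exact hcomm_pow g hg
        · have h3 := hcomm_pow _ (hdec y g hy hg)
          calc g * y = y * ((y⁻¹ * g) * y) := by group
            _ = y * (y * (y⁻¹ * g)) := by rw [h3]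
            _ = y * g := by group
      · exfalso
        rw [hyi] at ho
        have h2 : (c ^ 2) ^ 2 = 1 := by rw [← pow_mul]; exact hcpow
        have := orderOf_dvd_of_pow_eq_one h2
        rw [ho] at this
        omega
      · rw [hyi]
        have h3 : c ^ 3 * c = 1 := by rw [← pow_succ]; exact hcpow
        exact eq_inv_of_mul_eq_one_left h3
    exact Cfsg.Agent.Lib.Helper5_MaxClassTwo.quaternion_equiv 2 (by rw [hX]; norm_num) c y
      (by rw [hc4]) hy hidx hyy hyc
  · exfalso
    push Not at hex
    exact haut (Cfsg.Agent.Helper8AutTwo.isPGroup_mulAut c (n - 1) hord hex x hx hcos)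

end Cfsg.Agent.S4189
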