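import Mathlib
import Cfsg.Statements.S4195

set_option autoImplicit false
open Cfsg

namespace Cfsg.Agent.S4195

theorem card_conj_class {G : Type*} [Group G] (x : G) :
    Nat.card {y : G // IsConj y x} = (Subgroup.centralizer ({x} : Set G)).index := by
  have h1 := Subgroup.index_comap_of_surjective (MulAction.stabilizer (ConjAct G) x)
    (f := (ConjAct.toConjAct (G := G)).toMonoidHom) (ConjAct.toConjAct (G := G)).surjective
  have h0 : (Subgroup.centralizer ({x} : Set G)).index = (MulAction.stabilizer (ConjAct G) x).index := by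
    rw [Subgroup.centralizer_eq_comap_stabilizer]; exact h1
  rw [h0, MulAction.index_stabilizer, ← Nat.card_coe_set_eq]
  apply Nat.card_congr
  refine Equiv.subtypeEquivRight ?_
  intro y
  exact ConjAct.mem_orbit_conjAct.symm

/-- Let x be a non-identity element of a finite group G whose centralizer contains a Sylow 2-subgroup of G. If x is conjugate to its inverse, then x has order 2. -/
theorem result {G : Type*} [Group G] [Finite G] (x : G) (hx : x ≠ 1) (P : Sylow 2 G) (hP : (P : Subgroup G) ≤ Subgroup.centralizer ({x} : Set G)) (hreal : IsConj x x⁻¹) : orderOf x = 2 := by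
  classical
  -- the class of x has odd size
  have hodd : ¬ 2 ∣ Nat.card {y : G // IsConj y x} := by
    rw [card_conj_class]
    intro h
    exact Sylow.not_dvd_index P (h.trans (Subgroup.index_dvd_of_le hP))
  letI : Fintype {y : G // IsConj y x} := Fintype.ofFinite _
  -- inversion on the class
  let f : Function.End {y : G // IsConj y x} := fun y =>
    ⟨(y : G)⁻¹, by
      have h1 : IsConj (y : G)⁻¹ x⁻¹ := by
        obtain ⟨c, hc⟩ := isConj_iff.mp y.2
        refine isConj_iff.mpr ⟨c, ?_⟩
        calc c * (y : G)⁻¹ * c⁻¹ = (c * (y : G) * c⁻¹)⁻¹ := by group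
          _ = x⁻¹ := by rw [hc]
      exact h1.trans hreal.symm⟩
  have hf : f ^ 2 ^ 1 = 1 := by
    rw [pow_one, pow_two]
    funext y
    apply Subtype.ext
    show (((y : G))⁻¹)⁻¹ = (y : G)
    exact inv_inv _
  have hmod := Equiv.Perm.card_fixedPoints_modEq (p := 2) (n := 1) hf
  rw [Nat.card_eq_fintype_card] at hodd
  have hne : Fintype.card (Function.fixedPoints f) ≠ 0 := by
    intro h0
    rw [h0] at hmod
    exact hodd ((Nat.modEq_zero_iff_dvd).mp hmod)
  obtain ⟨⟨y, hy⟩⟩ := Fintype.card_pos_iff.mp (Nat.pos_of_ne_zero hne)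
  -- y = y⁻¹ with y conjugate to x
  have hy1 : ((y : G))⁻¹ = (y : G) := congrArg Subtype.val hy
  have hy2 : (y : G) ^ 2 = 1 := by
    rw [pow_two]
    nth_rewrite 1 [← hy1]
    exact inv_mul_cancel _
  obtain ⟨c, hc⟩ := isConj_iff.mp y.2
  have hx2 : x ^ 2 = 1 := by
    rw [← hc, conj_pow, hy2]; group
  exact orderOf_eq_prime hx2 hx

end Cfsg.Agent.S4195
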