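import Mathlib
import Cfsg.Statements.S4196
import Cfsg.Agent.S4195

set_option autoImplicit false
open scoped Pointwise
open Cfsg

namespace Cfsg.Agent.S4196

theorem comm_of_sq {H : Type*} [Group H] (h : ∀ x : H, x ^ 2 = 1) (a b : H) : a * b = b * a := by
  have ha : a⁻¹ = a := by
    have := h a; rw [pow_two] at this; exact inv_eq_of_mul_eq_one_left this
  have hb : b⁻¹ = b := by
    have := h b; rw [pow_two] at this; exact inv_eq_of_mul_eq_one_left this
  have hab : (a * b)⁻¹ = a * b := by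
    have := h (a * b); rw [pow_two] at this; exact inv_eq_of_mul_eq_one_left this
  rw [mul_inv_rev, ha, hb] at hab
  exact hab.symm

theorem mem_smul_sylow {G : Type*} [Group G] {p : ℕ} (g x : G) (P : Sylow p G) :
    x ∈ g • P ↔ g⁻¹ * x * g ∈ P := by
  have h1 : x ∈ g • P ↔ x ∈ ((g • P : Sylow p G) : Subgroup G) := Iff.rfl
  rw [h1, Sylow.coe_subgroup_smul, Subgroup.mem_pointwise_smul_iff_inv_smul_mem]
  rw [MulAut.smul_def, MulAut.conj_inv_apply]
  rfl

theorem pElement_mem_sylow {G : Type*} [Group G] [Finite G] {p : ℕ} [Fact p.Prime] (x : G)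
    (hx : ∃ k : ℕ, orderOf x = p ^ k) : ∃ P : Sylow p G, x ∈ P := by
  obtain ⟨k, hk⟩ := hx
  have hP : IsPGroup p (Subgroup.zpowers x) := by
    apply IsPGroup.of_card (n := k)
    rw [Nat.card_zpowers, hk]
  obtain ⟨Q, hQ⟩ := hP.exists_le_sylow
  exact ⟨Q, hQ (Subgroup.mem_zpowers x)⟩

/-- A finite group G has elementary abelian Sylow 2-subgroups (commutative with every element squaring to the identity) if and only if every 2-element of G has a Sylow 2-subgroup in its centralizer and is conjugate to its inverse. -/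
theorem result {G : Type*} [Group G] [Finite G] (P : Sylow 2 G) :
    (IsMulCommutative (P : Subgroup G) ∧ ∀ x ∈ (P : Subgroup G), x ^ 2 = 1) ↔
      ∀ x : G, (∃ k : ℕ, orderOf x = 2 ^ k) → (∃ Q : Sylow 2 G, (Q : Subgroup G) ≤ Subgroup.centralizer ({x} : Set G)) ∧ IsConj x x⁻¹ := by
  constructor
  · rintro ⟨hcomm, hsq⟩ x hx
    obtain ⟨Q, hxQ⟩ := pElement_mem_sylow x hx
    obtain ⟨g, hg⟩ := MulAction.exists_smul_eq G P Q
    -- every element of Q is a conjugate of an element of P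
    have hQ : ∀ y, y ∈ Q → g⁻¹ * y * g ∈ P := fun y hy => by
      rw [← hg] at hy; exact (mem_smul_sylow g y P).mp hy
    have hxsq : x ^ 2 = 1 := by
      have h1 := hsq _ (hQ x hxQ)
      rw [pow_two] at h1 ⊢
      have : x * x = g * ((g⁻¹ * x * g) * (g⁻¹ * x * g)) * g⁻¹ := by group
      rw [this, h1]; group
    refine ⟨⟨Q, ?_⟩, ?_⟩
    · intro y hy
      rw [Subgroup.mem_centralizer_iff]
      intro z hz
      rw [Set.mem_singleton_iff] at hz
      subst hz
      -- z, y ∈ Q commute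
      have h1 : (⟨g⁻¹ * z * g, hQ z hxQ⟩ : (P : Subgroup G)) * ⟨g⁻¹ * y * g, hQ y hy⟩ =
          ⟨g⁻¹ * y * g, hQ y hy⟩ * ⟨g⁻¹ * z * g, hQ z hxQ⟩ := hcomm.is_comm.comm _ _
      have h2 := congrArg Subtype.val h1
      simp only [Subgroup.coe_mul] at h2
      have h3 : z * y = g * ((g⁻¹ * z * g) * (g⁻¹ * y * g)) * g⁻¹ := by group
      have h4 : y * z = g * ((g⁻¹ * y * g) * (g⁻¹ * z * g)) * g⁻¹ := by group
      rw [h3, h4, h2]
    · have : x⁻¹ = x := by
        rw [pow_two] at hxsq; exact inv_eq_of_mul_eq_one_left hxsq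
      rw [this]
  · intro h
    have hsq : ∀ x ∈ (P : Subgroup G), x ^ 2 = 1 := by
      intro x hx
      by_cases hx1 : x = 1
      · rw [hx1, one_pow]
      · have hx2 : ∃ k : ℕ, orderOf x = 2 ^ k := by
          have := (IsPGroup.iff_orderOf.mp P.isPGroup') ⟨x, hx⟩
          obtain ⟨k, hk⟩ := this
          exact ⟨k, by rw [← hk, Subgroup.orderOf_mk]⟩
        obtain ⟨⟨Q, hQ⟩, hreal⟩ := h x hx2
        have := Cfsg.Agent.S4195.result x hx1 Q hQ hreal
        rw [← this]; exact pow_orderOf_eq_one x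
    refine ⟨⟨⟨fun a b => ?_⟩⟩, hsq⟩
    apply comm_of_sq
    intro y
    apply Subtype.ext
    rw [Subgroup.coe_pow, Subgroup.coe_one]
    exact hsq y y.2

end Cfsg.Agent.S4196
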