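import Mathlib
import Cfsg.Statements.S4201

set_option autoImplicit false
open Cfsg

namespace Cfsg.Agent.S4201

open scoped Classical in
/-- Number of commuting pairs `(x, y)` with `x ∈ S`, `y ∈ T`. -/
noncomputable def comm {G : Type*} [Group G] (S T : Finset G) : ℕ :=
  ((S ×ˢ T).filter (fun p => p.1 * p.2 = p.2 * p.1)).card

open scoped Classical in
theorem comm_eq_sum {G : Type*} [Group G] (S T : Finset G) :
    comm S T = ∑ x ∈ S, (T.filter (fun y => x * y = y * x)).card := by
  unfold comm
  rw [Finset.card_filter, Finset.sum_product]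
  refine Finset.sum_congr rfl (fun x _ => ?_)
  rw [Finset.card_filter]

open scoped Classical in
theorem comm_symm {G : Type*} [Group G] (S T : Finset G) : comm S T = comm T S := by
  unfold comm
  refine Finset.card_bij (fun p _ => (p.2, p.1)) ?_ ?_ ?_
  · intro p hp
    simp only [Finset.mem_filter, Finset.mem_product] at hp ⊢
    exact ⟨⟨hp.1.2, hp.1.1⟩, hp.2.symm⟩
  · intro p _ q _ h
    simp only [Prod.mk.injEq] at h
    exact Prod.ext h.2 h.1
  · intro p hp
    simp only [Finset.mem_filter, Finset.mem_product] at hp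
    refine ⟨(p.2, p.1), ?_, rfl⟩
    simp only [Finset.mem_filter, Finset.mem_product]
    exact ⟨⟨hp.1.2, hp.1.1⟩, hp.2.symm⟩

open scoped Classical in
/-- the elements of a coset `b N` commuting with `g` are at most as many as the elements of `N`
commuting with `g`. -/
theorem coset_bound {G : Type*} [Group G] [Fintype G] (N : Subgroup G) (g b : G) :
    ((Finset.univ.filter (fun y : G => b⁻¹ * y ∈ N)).filter (fun y => g * y = y * g)).card ≤
      ((Finset.univ.filter (fun y : G => y ∈ N)).filter (fun y => g * y = y * g)).card := by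
  by_cases h : ∃ y0 : G, b⁻¹ * y0 ∈ N ∧ g * y0 = y0 * g
  · obtain ⟨y0, hy0, hc0⟩ := h
    refine Finset.card_le_card_of_injOn (fun y => y0⁻¹ * y) ?_ ?_
    · intro y hy
      simp only [Finset.coe_filter, Finset.mem_filter, Finset.mem_univ, true_and,
        Set.mem_ofPred_eq] at hy ⊢
      refine ⟨?_, ?_⟩
      · have : y0⁻¹ * y = (b⁻¹ * y0)⁻¹ * (b⁻¹ * y) := by group
        rw [this]
        exact N.mul_mem (N.inv_mem hy0) hy.1
      · have h1 : g * y0⁻¹ = y0⁻¹ * g := by
          have : y0⁻¹ * (g * y0) * y0⁻¹ = y0⁻¹ * (y0 * g) * y0⁻¹ := by rw [hc0]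
          simpa [mul_assoc] using this.symm
        calc g * (y0⁻¹ * y) = (g * y0⁻¹) * y := by rw [mul_assoc]
          _ = y0⁻¹ * (g * y) := by rw [h1, mul_assoc]
          _ = y0⁻¹ * (y * g) := by rw [hy.2]
          _ = y0⁻¹ * y * g := by rw [mul_assoc]
    · intro y _ z _ hyz
      exact mul_left_cancel hyz
  · have : ((Finset.univ.filter (fun y : G => b⁻¹ * y ∈ N)).filter (fun y => g * y = y * g)) = ∅ := by
      apply Finset.eq_empty_of_forall_notMem
      intro y hy
      simp only [Finset.mem_filter, Finset.mem_univ, true_and] at hy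
      exact h ⟨y, hy.1, hy.2⟩
    rw [this]
    simp

open scoped Classical in
theorem comm_coset_le {G : Type*} [Group G] [Fintype G] (N : Subgroup G) (a b : G) :
    comm (Finset.univ.filter (fun x : G => a⁻¹ * x ∈ N)) (Finset.univ.filter (fun y : G => b⁻¹ * y ∈ N)) ≤
      comm (Finset.univ.filter (fun x : G => x ∈ N)) (Finset.univ.filter (fun y : G => y ∈ N)) := by
  calc comm (Finset.univ.filter (fun x : G => a⁻¹ * x ∈ N)) (Finset.univ.filter (fun y : G => b⁻¹ * y ∈ N))
      ≤ comm (Finset.univ.filter (fun x : G => a⁻¹ * x ∈ N)) (Finset.univ.filter (fun y : G => y ∈ N)) := by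
        rw [comm_eq_sum, comm_eq_sum]
        exact Finset.sum_le_sum (fun x _ => coset_bound N x b)
    _ = comm (Finset.univ.filter (fun y : G => y ∈ N)) (Finset.univ.filter (fun x : G => a⁻¹ * x ∈ N)) :=
        comm_symm _ _
    _ ≤ comm (Finset.univ.filter (fun y : G => y ∈ N)) (Finset.univ.filter (fun x : G => x ∈ N)) := by
        rw [comm_eq_sum, comm_eq_sum]
        exact Finset.sum_le_sum (fun x _ => coset_bound N x a)

open scoped Classical in
theorem card_commPairs {G : Type*} [Group G] [Fintype G] :
    Nat.card {p : G × G // Commute p.1 p.2} = comm (Finset.univ : Finset G) Finset.univ := by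
  unfold comm
  rw [Nat.card_eq_fintype_card, Fintype.card_subtype]
  congr 1

open scoped Classical in
theorem card_commPairs_subgroup {G : Type*} [Group G] [Fintype G] (N : Subgroup G) :
    Nat.card {p : N × N // Commute p.1 p.2} =
      comm (Finset.univ.filter (fun x : G => x ∈ N)) (Finset.univ.filter (fun y : G => y ∈ N)) := by
  unfold comm
  rw [Nat.card_eq_fintype_card, Fintype.card_subtype]
  refine Finset.card_bij (fun p _ => ((p.1 : G), (p.2 : G))) ?_ ?_ ?_
  · intro p hp
    simp only [Finset.mem_filter, Finset.mem_univ, true_and] at hp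
    simp only [Finset.mem_filter, Finset.mem_product, Finset.mem_univ, true_and]
    refine ⟨⟨p.1.2, p.2.2⟩, ?_⟩
    have := hp.eq
    exact congrArg Subtype.val this
  · intro p _ q _ h
    simp only [Prod.mk.injEq] at h
    exact Prod.ext (Subtype.ext h.1) (Subtype.ext h.2)
  · intro p hp
    simp only [Finset.mem_filter, Finset.mem_product, Finset.mem_univ, true_and] at hp
    refine ⟨(⟨p.1, hp.1.1⟩, ⟨p.2, hp.1.2⟩), ?_, rfl⟩
    simp only [Finset.mem_filter, Finset.mem_univ, true_and]
    show (⟨p.1, hp.1.1⟩ : N) * ⟨p.2, hp.1.2⟩ = ⟨p.2, hp.1.2⟩ * ⟨p.1, hp.1.1⟩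
    exact Subtype.ext hp.2

/-- If N is a normal subgroup of the finite group X then k(X) ≤ k(N)·k(X ⧸ N), where k denotes the number of conjugacy classes. -/
theorem result {X : Type*} [Group X] [Finite X] (N : Subgroup X) [N.Normal] : Nat.card (ConjClasses X) ≤ Nat.card (ConjClasses N) * Nat.card (ConjClasses (X ⧸ N)) := by
  classical
  letI : Fintype X := Fintype.ofFinite X
  letI : Fintype (X ⧸ N) := Fintype.ofFinite _
  -- main inequality on commuting pairs
  have key : comm (Finset.univ : Finset X) Finset.univ ≤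
      comm (Finset.univ.filter (fun x : X => x ∈ N)) (Finset.univ.filter (fun y : X => y ∈ N)) *
        comm (Finset.univ : Finset (X ⧸ N)) Finset.univ := by
    unfold comm
    set s := ((Finset.univ : Finset X) ×ˢ (Finset.univ : Finset X)).filter
      (fun p => p.1 * p.2 = p.2 * p.1) with hs
    set f : X × X → (X ⧸ N) × (X ⧸ N) := fun p => ((p.1 : X ⧸ N), (p.2 : X ⧸ N)) with hf
    have h1 := Finset.card_le_mul_card_image (f := f) s
      (((Finset.univ.filter (fun x : X => x ∈ N)) ×ˢ (Finset.univ.filter (fun y : X => y ∈ N))).filter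
        (fun p => p.1 * p.2 = p.2 * p.1)).card ?_
    · refine h1.trans (Nat.mul_le_mul_left _ (Finset.card_le_card ?_))
      intro q hq
      obtain ⟨p, hp, rfl⟩ := Finset.mem_image.mp hq
      simp only [hs, Finset.mem_filter, Finset.mem_product, Finset.mem_univ, true_and] at hp
      simp only [Finset.mem_filter, Finset.mem_product, Finset.mem_univ, true_and, hf]
      rw [← QuotientGroup.mk_mul, ← QuotientGroup.mk_mul, hp]
    · intro q hq
      obtain ⟨p0, _, rfl⟩ := Finset.mem_image.mp hq
      have := comm_coset_le N p0.1 p0.2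
      unfold comm at this
      refine le_trans (Finset.card_le_card ?_) this
      intro p hp
      simp only [hs, hf, Finset.mem_filter, Finset.mem_product, Finset.mem_univ, true_and,
        Prod.mk.injEq] at hp
      simp only [Finset.mem_filter, Finset.mem_product, Finset.mem_univ, true_and]
      refine ⟨⟨?_, ?_⟩, hp.1⟩
      · exact QuotientGroup.eq.mp hp.2.1.symm
      · exact QuotientGroup.eq.mp hp.2.2.symm
  rw [← card_commPairs, ← card_commPairs_subgroup, ← card_commPairs,
    card_comm_eq_card_conjClasses_mul_card, card_comm_eq_card_conjClasses_mul_card,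
    card_comm_eq_card_conjClasses_mul_card] at key
  have hcard : Nat.card X = Nat.card N * Nat.card (X ⧸ N) := by
    rw [mul_comm]; exact Subgroup.card_eq_card_quotient_mul_card_subgroup N
  have hpos : 0 < Nat.card X := Nat.card_pos
  rw [hcard] at key hpos
  have : Nat.card (ConjClasses X) * (Nat.card N * Nat.card (X ⧸ N)) ≤
      (Nat.card (ConjClasses N) * Nat.card (ConjClasses (X ⧸ N))) * (Nat.card N * Nat.card (X ⧸ N)) := by
    calc Nat.card (ConjClasses X) * (Nat.card N * Nat.card (X ⧸ N))
        ≤ Nat.card (ConjClasses ↥N) * Nat.card ↥N * (Nat.card (ConjClasses (X ⧸ N)) * Nat.card (X ⧸ N)) := key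
      _ = _ := by ring
  exact Nat.le_of_mul_le_mul_right this hpos

end Cfsg.Agent.S4201
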