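import Mathlib
import Cfsg.Statements.S4200
import Cfsg.Agent.S4201

set_option autoImplicit false
open Cfsg

namespace Cfsg.Agent.S4200

open Cfsg.Agent.S4201

open scoped Classical in
/-- fiber decomposition of the centralizer over the cosets of `Y` -/
theorem cent_eq_sum {X : Type*} [Group X] [Fintype X] (Y : Subgroup X) [Fintype (X ⧸ Y)] (g : X) :
    (Finset.univ.filter (fun y : X => g * y = y * g)).card =
      ∑ q : X ⧸ Y, ((Finset.univ.filter (fun y : X => g * y = y * g)).filter
        (fun z : X => (QuotientGroup.mk z : X ⧸ Y) = q)).card := by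
  exact Finset.card_eq_sum_card_fiberwise (f := fun z : X => (QuotientGroup.mk z : X ⧸ Y))
    (s := Finset.univ.filter (fun y : X => g * y = y * g)) (t := Finset.univ)
    (fun x _ => Finset.mem_univ _)

open scoped Classical in
theorem fiber_eq {X : Type*} [Group X] [Fintype X] (Y : Subgroup X) (g b : X) :
    ((Finset.univ.filter (fun y : X => g * y = y * g)).filter
        (fun z : X => (QuotientGroup.mk z : X ⧸ Y) = (QuotientGroup.mk b : X ⧸ Y))) =
      ((Finset.univ.filter (fun y : X => b⁻¹ * y ∈ Y)).filter (fun y => g * y = y * g)) := by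
  ext z
  simp only [Finset.mem_filter, Finset.mem_univ, true_and]
  constructor
  · rintro ⟨h1, h2⟩
    exact ⟨QuotientGroup.eq.mp h2.symm, h1⟩
  · rintro ⟨h1, h2⟩
    exact ⟨h2, (QuotientGroup.eq.mpr h1).symm⟩

open scoped Classical in
theorem cent_le {X : Type*} [Group X] [Fintype X] (Y : Subgroup X) (g : X) :
    (Finset.univ.filter (fun y : X => g * y = y * g)).card ≤
      Y.index * ((Finset.univ.filter (fun y : X => y ∈ Y)).filter (fun y => g * y = y * g)).card := by
  letI : Fintype (X ⧸ Y) := Fintype.ofFinite _
  rw [cent_eq_sum Y g]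
  have h : ∀ q ∈ (Finset.univ : Finset (X ⧸ Y)),
      ((Finset.univ.filter (fun y : X => g * y = y * g)).filter
        (fun z : X => (QuotientGroup.mk z : X ⧸ Y) = q)).card ≤
      ((Finset.univ.filter (fun y : X => y ∈ Y)).filter (fun y => g * y = y * g)).card := by
    intro q _
    induction q using QuotientGroup.induction_on with
    | H b =>
      rw [fiber_eq Y g b]
      exact coset_bound Y g b
  have := Finset.sum_le_card_nsmul _ _ _ h
  rw [smul_eq_mul, Finset.card_univ, ← Nat.card_eq_fintype_card, ← Subgroup.index_eq_card] at this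
  exact this

open scoped Classical in
theorem cent_lt {X : Type*} [Group X] [Fintype X] (Y : Subgroup X) (y b : X) (hy : y ∈ Y)
    (hb : b * y * b⁻¹ ∉ Y) :
    (Finset.univ.filter (fun z : X => y * z = z * y)).card <
      Y.index * ((Finset.univ.filter (fun z : X => z ∈ Y)).filter (fun z => y * z = z * y)).card := by
  letI : Fintype (X ⧸ Y) := Fintype.ofFinite _
  rw [cent_eq_sum Y y]
  have h : ∀ q ∈ (Finset.univ : Finset (X ⧸ Y)),
      ((Finset.univ.filter (fun z : X => y * z = z * y)).filter
        (fun z : X => (QuotientGroup.mk z : X ⧸ Y) = q)).card ≤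
      ((Finset.univ.filter (fun z : X => z ∈ Y)).filter (fun z => y * z = z * y)).card := by
    intro q _
    induction q using QuotientGroup.induction_on with
    | H b =>
      rw [fiber_eq Y y b]
      exact coset_bound Y y b
  have h0 : ((Finset.univ.filter (fun z : X => y * z = z * y)).filter
        (fun z : X => (QuotientGroup.mk z : X ⧸ Y) = (QuotientGroup.mk b⁻¹ : X ⧸ Y))).card <
      ((Finset.univ.filter (fun z : X => z ∈ Y)).filter (fun z => y * z = z * y)).card := by
    have he : ((Finset.univ.filter (fun z : X => y * z = z * y)).filter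
        (fun z : X => (QuotientGroup.mk z : X ⧸ Y) = (QuotientGroup.mk b⁻¹ : X ⧸ Y))) = ∅ := by
      apply Finset.eq_empty_of_forall_notMem
      intro z hz
      rw [fiber_eq] at hz
      simp only [Finset.mem_filter, Finset.mem_univ, true_and, inv_inv] at hz
      obtain ⟨h1, h2⟩ := hz
      apply hb
      -- b = (b z) z⁻¹, and z commutes with y
      have e : b * y * b⁻¹ = (b * z) * y * (b * z)⁻¹ := by
        have : z * y * z⁻¹ = y := by rw [← h2]; group
        calc b * y * b⁻¹ = b * (z * y * z⁻¹) * b⁻¹ := by rw [this]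
          _ = _ := by group
      rw [e]
      exact Y.mul_mem (Y.mul_mem h1 hy) (Y.inv_mem h1)
    rw [he, Finset.card_empty]
    apply Finset.card_pos.mpr
    exact ⟨y, by simp [hy]⟩
  have := Finset.sum_lt_sum h ⟨(QuotientGroup.mk b⁻¹ : X ⧸ Y), Finset.mem_univ _, h0⟩
  rw [Finset.sum_const, smul_eq_mul, Finset.card_univ, ← Nat.card_eq_fintype_card,
    ← Subgroup.index_eq_card] at this
  exact this

theorem result {X : Type*} [Group X] [Finite X] (Y : Subgroup X) : Nat.card (ConjClasses Y) ≤ Y.index * Nat.card (ConjClasses X) ∧ Nat.card (ConjClasses X) ≤ Y.index * Nat.card (ConjClasses Y) ∧ (¬ Y.Normal → Nat.card (ConjClasses X) < Y.index * Nat.card (ConjClasses Y)) := by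
  classical
  letI : Fintype X := Fintype.ofFinite X
  set m := Y.index with hm
  set YS : Finset X := Finset.univ.filter (fun x : X => x ∈ Y) with hYS
  have hcard : Nat.card X = m * Nat.card Y := by
    rw [hm]; exact (Subgroup.index_mul_card Y).symm
  have hYpos : 0 < Nat.card Y := Nat.card_pos
  have hmpos : 0 < m := by
    rcases Nat.eq_zero_or_pos m with h | h
    · rw [h, zero_mul] at hcard
      have : 0 < Nat.card X := Nat.card_pos
      omega
    · exact h
  have kX : Nat.card (ConjClasses X) * Nat.card X = S4201.comm (Finset.univ : Finset X) Finset.univ := by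
    rw [← card_commPairs, card_comm_eq_card_conjClasses_mul_card]
  have kY : Nat.card (ConjClasses Y) * Nat.card Y = S4201.comm YS YS := by
    rw [← card_commPairs_subgroup, card_comm_eq_card_conjClasses_mul_card]
  -- part 1
  have p1 : S4201.comm YS YS ≤ S4201.comm (Finset.univ : Finset X) Finset.univ := by
    unfold S4201.comm
    apply Finset.card_le_card
    intro p hp
    simp only [Finset.mem_filter, Finset.mem_product, Finset.mem_univ, true_and] at hp ⊢
    exact hp.2
  -- part 2
  have p2a : S4201.comm (Finset.univ : Finset X) Finset.univ ≤ m * S4201.comm (Finset.univ : Finset X) YS := by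
    rw [comm_eq_sum, comm_eq_sum, Finset.mul_sum]
    exact Finset.sum_le_sum (fun x _ => cent_le Y x)
  have p2b : S4201.comm YS (Finset.univ : Finset X) ≤ m * S4201.comm YS YS := by
    rw [comm_eq_sum, comm_eq_sum, Finset.mul_sum]
    exact Finset.sum_le_sum (fun x _ => cent_le Y x)
  have p2 : S4201.comm (Finset.univ : Finset X) Finset.univ ≤ m * (m * S4201.comm YS YS) := by
    calc S4201.comm (Finset.univ : Finset X) Finset.univ ≤ m * S4201.comm (Finset.univ : Finset X) YS := p2a
      _ = m * S4201.comm YS (Finset.univ : Finset X) := by rw [comm_symm]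
      _ ≤ m * (m * S4201.comm YS YS) := Nat.mul_le_mul_left _ p2b
  refine ⟨?_, ?_, ?_⟩
  · rw [← kX, ← kY, hcard] at p1
    have : Nat.card (ConjClasses Y) * Nat.card Y ≤ (m * Nat.card (ConjClasses X)) * Nat.card Y := by
      calc _ ≤ Nat.card (ConjClasses X) * (m * Nat.card ↥Y) := p1
        _ = _ := by ring
    exact Nat.le_of_mul_le_mul_right this hYpos
  · rw [← kX, ← kY, hcard] at p2
    have : Nat.card (ConjClasses X) * (m * Nat.card Y) ≤ (m * Nat.card (ConjClasses Y)) * (m * Nat.card Y) := by
      calc _ ≤ m * (m * (Nat.card (ConjClasses Y) * Nat.card Y)) := p2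
        _ = _ := by ring
    exact Nat.le_of_mul_le_mul_right this (Nat.mul_pos hmpos hYpos)
  · intro hn
    have hex : ∃ y ∈ Y, ∃ b : X, b * y * b⁻¹ ∉ Y := by
      by_contra hcon
      push Not at hcon
      exact hn ⟨fun n hn g => hcon n hn g⟩
    obtain ⟨y, hy, b, hb⟩ := hex
    have p2b' : S4201.comm YS (Finset.univ : Finset X) < m * S4201.comm YS YS := by
      rw [comm_eq_sum, comm_eq_sum, Finset.mul_sum]
      apply Finset.sum_lt_sum (fun x _ => cent_le Y x)
      refine ⟨y, by simp [hYS, hy], cent_lt Y y b hy hb⟩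
    have p2' : S4201.comm (Finset.univ : Finset X) Finset.univ < m * (m * S4201.comm YS YS) := by
      calc S4201.comm (Finset.univ : Finset X) Finset.univ ≤ m * S4201.comm (Finset.univ : Finset X) YS := p2a
        _ = m * S4201.comm YS (Finset.univ : Finset X) := by rw [comm_symm]
        _ < m * (m * S4201.comm YS YS) := Nat.mul_lt_mul_of_pos_left p2b' hmpos
    rw [← kX, ← kY, hcard] at p2'
    have : Nat.card (ConjClasses X) * (m * Nat.card Y) < (m * Nat.card (ConjClasses Y)) * (m * Nat.card Y) := by
      calc _ < m * (m * (Nat.card (ConjClasses Y) * Nat.card Y)) := p2'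
        _ = _ := by ring
    exact Nat.lt_of_mul_lt_mul_right this

end Cfsg.Agent.S4200
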