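import Mathlib
import Cfsg.Statements.S4203
import Cfsg.Agent.S4244

set_option autoImplicit false
open Cfsg

namespace Cfsg.Agent.S4203

open Subgroup

/-- A subgroup containing the normalizer of a Sylow `p`-subgroup has index `≡ 1 [MOD p]`. -/
theorem index_modEq_one {G : Type*} [Group G] [Finite G] (p : ℕ) [Fact p.Prime] (P : Sylow p G)
    (M : Subgroup G) (hNM : normalizer ((P : Subgroup G) : Set G) ≤ M) : M.index ≡ 1 [MOD p] := by
  have hPM : (P : Subgroup G) ≤ M := Subgroup.le_normalizer.trans hNM
  have ha : (Subgroup.normalizer ((P : Subgroup G) : Set G)).index ≡ 1 [MOD p] := by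
    have h1 := Sylow.card_eq_index_normalizer P
    have h2 := card_sylow_modEq_one p G
    rw [h1] at h2
    exact h2
  have hb : (Subgroup.normalizer ((P : Subgroup G) : Set G)).relIndex M ≡ 1 [MOD p] := by
    have h2 := Sylow.card_eq_index_normalizer (P.subtype hPM)
    have h3 := card_sylow_modEq_one p M
    rw [h2] at h3
    have h3' : (Subgroup.normalizer (((P : Subgroup G).subgroupOf M : Subgroup M) : Set M)).index
        ≡ 1 [MOD p] := h3
    rw [← Subgroup.subgroupOf_normalizer_eq hPM] at h3'
    exact h3'
  have hmul := Subgroup.relIndex_mul_index hNM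
  have : (Subgroup.normalizer ((P : Subgroup G) : Set G)).relIndex M * M.index ≡ 1 [MOD p] := by
    rw [hmul]; exact ha
  have h4 : (Subgroup.normalizer ((P : Subgroup G) : Set G)).relIndex M * M.index
      ≡ 1 * M.index [MOD p] := Nat.ModEq.mul_right _ hb
  rw [one_mul] at h4
  exact h4.symm.trans this

theorem solvable_of_prime_card {L : Type*} [Group L] {p : ℕ} (hp : p.Prime)
    (h : Nat.card L = p) : Group.IsSolvable L := by
  haveI := Fact.mk hp
  haveI := isCyclic_of_prime_card h
  exact Group.isSolvable_of_comm (fun a b => IsCyclic.commGroup.mul_comm a b)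

theorem solvable_of_isPGroup {L : Type*} [Group L] [Finite L] {p : ℕ} [Fact p.Prime]
    (h : IsPGroup p L) : Group.IsSolvable L := by
  haveI : Group.IsNilpotent L := h.isNilpotent
  infer_instance

theorem solvable_of_card_dvd_six {L : Type*} [Group L] [Finite L] (h : Nat.card L ∣ 6) :
    Group.IsSolvable L := by
  have hpos : 0 < Nat.card L := Nat.card_pos
  have hle : Nat.card L ≤ 6 := Nat.le_of_dvd (by norm_num) h
  have hcases : Nat.card L = 1 ∨ Nat.card L = 2 ∨ Nat.card L = 3 ∨ Nat.card L = 6 := by
    interval_cases hc : Nat.card L <;> simp_all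
  rcases hcases with h1 | h2 | h3 | h6
  · haveI : Subsingleton L := (Nat.card_eq_one_iff_unique.mp h1).1
    infer_instance
  · exact solvable_of_prime_card Nat.prime_two h2
  · exact solvable_of_prime_card Nat.prime_three h3
  · haveI : Fact (Nat.Prime 3) := ⟨Nat.prime_three⟩
    obtain ⟨x, hx⟩ := exists_prime_orderOf_dvd_card' 3 (show 3 ∣ Nat.card L by rw [h6]; norm_num)
    have hT : Nat.card (zpowers x) = 3 := by rw [Nat.card_zpowers, hx]
    have hidx : (zpowers x).index = 2 := by
      have := (zpowers x).card_mul_index
      rw [hT, h6] at this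
      omega
    haveI : (zpowers x).Normal := normal_of_index_eq_two hidx
    have h1 : Group.IsSolvable (zpowers x) := solvable_of_prime_card Nat.prime_three hT
    have h2 : Group.IsSolvable (L ⧸ zpowers x) := by
      apply solvable_of_prime_card Nat.prime_two
      rw [← index_eq_card]; exact hidx
    exact (Group.isSolvable_iff_subgroup_quotient (zpowers x)).mpr ⟨h1, h2⟩

theorem solvable_of_card_dvd_24 {H : Type*} [Group H] [Finite H] (h : Nat.card H ∣ 24) :
    Group.IsSolvable H := by
  haveI : Fact (Nat.Prime 2) := ⟨Nat.prime_two⟩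
  obtain ⟨Q⟩ : Nonempty (Sylow 2 H) := inferInstance
  have hodd : ¬ 2 ∣ (Q : Subgroup H).index := Q.not_dvd_index
  have hdvd : (Q : Subgroup H).index ∣ 24 := (index_dvd_card _).trans h
  have hle : (Q : Subgroup H).index ≤ 24 := Nat.le_of_dvd (by norm_num) hdvd
  have hpos : 0 < (Q : Subgroup H).index := Nat.pos_of_ne_zero index_ne_zero_of_finite
  have hcases : (Q : Subgroup H).index = 1 ∨ (Q : Subgroup H).index = 3 := by
    interval_cases hc : (Q : Subgroup H).index <;> simp_all
  rcases hcases with h1 | h3
  · have htop : (Q : Subgroup H) = ⊤ := index_eq_one.mp h1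
    have hp : IsPGroup 2 H := by
      have := Q.isPGroup'
      rw [htop] at this
      exact IsPGroup.of_equiv this Subgroup.topEquiv
    exact solvable_of_isPGroup hp
  · have hC : IsPGroup 2 (Q : Subgroup H).normalCore :=
      Q.isPGroup'.to_le (normalCore_le _)
    have h1 : Group.IsSolvable (Q : Subgroup H).normalCore := solvable_of_isPGroup hC
    have h2 : Group.IsSolvable (H ⧸ (Q : Subgroup H).normalCore) := by
      apply solvable_of_card_dvd_six
      rw [← index_eq_card]
      have : (Q : Subgroup H).normalCore.index ∣ ((Q : Subgroup H).index).factorial := by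
        rw [normalCore_eq_ker, index_ker, index_eq_card, ← Nat.card_perm]
        exact card_subgroup_dvd_card (MulAction.toPermHom H (H ⧸ (Q : Subgroup H))).range
      rw [h3] at this
      exact this
    exact (Group.isSolvable_iff_subgroup_quotient (Q : Subgroup H).normalCore).mpr ⟨h1, h2⟩

theorem exists_minimal_normal {G : Type*} [Group G] [Finite G] [Nontrivial G] :
    ∃ N : Subgroup G, N.Normal ∧ N ≠ ⊥ ∧
      ∀ K : Subgroup G, K.Normal → K ≤ N → K = ⊥ ∨ K = N := by
  classical
  have hex : ∃ k, ∃ N : Subgroup G, N.Normal ∧ N ≠ ⊥ ∧ Nat.card N = k :=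
    ⟨_, ⊤, inferInstance, top_ne_bot, rfl⟩
  obtain ⟨N, hNn, hNne, hNc⟩ := Nat.find_spec hex
  refine ⟨N, hNn, hNne, fun K hKn hKN => ?_⟩
  by_cases hK : K = ⊥
  · exact Or.inl hK
  · right
    have := Nat.find_min' hex ⟨K, hKn, hK, rfl⟩
    exact Subgroup.eq_of_le_of_card_ge hKN (by rw [hNc]; exact this)

theorem nt1 (p q : ℕ) (hp : p.Prime) (hq : q.Prime) (hqp : q ≤ p) (h : q ≡ 1 [MOD p]) :
    False := by
  rcases Nat.lt_or_ge q p with hlt | hge
  · have := Nat.ModEq.eq_of_lt_of_lt h hlt hp.one_lt
    exact hq.ne_one this
  · have heq : q = p := le_antisymm hqp hge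
    rw [heq] at h
    have : p % p = 1 % p := h
    rw [Nat.mod_self, Nat.mod_eq_of_lt hp.one_lt] at this
    omega

theorem nt2 (p q : ℕ) (hp : p.Prime) (hq : q.Prime) (hqp : q ≤ p) (h : q ^ 2 ≡ 1 [MOD p]) :
    q = 2 := by
  have h1 : 1 ≤ q ^ 2 := Nat.one_le_pow _ _ hq.pos
  have hdvd : p ∣ q ^ 2 - 1 := (Nat.modEq_iff_dvd' h1).mp h.symm
  have hfac : q ^ 2 - 1 = (q - 1) * (q + 1) := by
    have : 1 ≤ q := hq.pos
    zify [h1, this]
    ring
  rw [hfac] at hdvd
  rcases (Nat.Prime.dvd_mul hp).mp hdvd with h2 | h2
  · exfalso
    have h3 : 0 < q - 1 := by have := hq.two_le; omega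
    have := Nat.le_of_dvd h3 h2
    omega
  · have h3 : p ≤ q + 1 := Nat.le_of_dvd (by omega) h2
    have h4 : p = q + 1 ∨ p = q := by omega
    rcases h4 with h4 | h4
    · -- q and q+1 both prime
      rcases hq.eq_two_or_odd' with h5 | h5
      · exact h5
      · exfalso
        rcases hp.eq_two_or_odd' with h6 | h6
        · have := hq.two_le; omega
        · rw [h4] at h6
          obtain ⟨a, ha⟩ := h5
          obtain ⟨b, hb⟩ := h6
          omega
    · exfalso
      rw [h4] at h2
      have : q ∣ 1 := (Nat.dvd_add_right (dvd_refl q)).mp h2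
      have := Nat.le_of_dvd (by norm_num) this
      have := hq.two_le
      omega

theorem aux (n : ℕ) : ∀ (G : Type*) [Group G] [Finite G], Nat.card G = n →
    (∀ M : Subgroup G, IsCoatom M → ∃ p : ℕ, p.Prime ∧ (M.index = p ∨ M.index = p ^ 2)) →
    Group.IsSolvable G := by
  induction n using Nat.strong_induction_on with
  | _ n ih =>
    intro G _ _ hn h
    by_cases htriv : Nat.card G = 1
    · have : Subsingleton G := (Nat.card_eq_one_iff_unique.mp htriv).1
      infer_instance
    haveI : Nontrivial G := by
      rw [← Finite.one_lt_card_iff_nontrivial]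
      have : 0 < Nat.card G := Nat.card_pos
      omega
    obtain ⟨N, hNn, hNne, hNmin⟩ := exists_minimal_normal (G := G)
    haveI := hNn
    have hquot : Group.IsSolvable (G ⧸ N) := by
      apply ih (Nat.card (G ⧸ N)) ?_ (G ⧸ N) rfl
      · intro M hM
        have hsurj := QuotientGroup.mk'_surjective N
        obtain ⟨p, hp, hi⟩ := h _ (Subgroup.isCoatom_comap_of_surjective hsurj hM)
        rw [Subgroup.index_comap_of_surjective M hsurj] at hi
        exact ⟨p, hp, hi⟩
      · rw [← hn, ← Subgroup.index_eq_card]
        have h1 := Subgroup.card_mul_index N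
        have h2 : 1 < Nat.card N := by
          rw [Subgroup.one_lt_card_iff_ne_bot]; exact hNne
        have h3 : 0 < N.index := Nat.pos_of_ne_zero Subgroup.index_ne_zero_of_finite
        nlinarith
    suffices hNsol : Group.IsSolvable N from
      (Group.isSolvable_iff_subgroup_quotient N).mpr ⟨hNsol, hquot⟩
    -- largest prime dividing |N|
    have hNcard : 1 < Nat.card N := by
      rw [Subgroup.one_lt_card_iff_ne_bot]; exact hNne
    have hne : (Nat.card N).primeFactors.Nonempty := by
      rw [Nat.nonempty_primeFactors]; exact hNcard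
    set p := (Nat.card N).primeFactors.max' hne with hp
    have hpmem : p ∈ (Nat.card N).primeFactors := Finset.max'_mem _ hne
    have hpp : p.Prime := Nat.prime_of_mem_primeFactors hpmem
    have hpd : p ∣ Nat.card N := Nat.dvd_of_mem_primeFactors hpmem
    haveI : Fact p.Prime := ⟨hpp⟩
    have hmax : ∀ q : ℕ, q.Prime → q ∣ Nat.card N → q ≤ p := by
      intro q hq hqd
      apply Finset.le_max'
      rw [Nat.mem_primeFactors]
      exact ⟨hq, hqd, Nat.card_pos.ne'⟩
    obtain ⟨Q⟩ : Nonempty (Sylow p N) := inferInstance
    by_cases hRn : ((Q : Subgroup N).map N.subtype).Normal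
    · have hRle : (Q : Subgroup N).map N.subtype ≤ N := map_subtype_le _
      have hQne : (Q : Subgroup N) ≠ ⊥ := Q.ne_bot_of_dvd_card hpd
      have hRne : (Q : Subgroup N).map N.subtype ≠ ⊥ := by
        intro h0
        apply hQne
        exact (map_eq_bot_iff_of_injective _ N.subtype_injective).mp h0
      rcases hNmin _ hRn hRle with h0 | h1
      · exact absurd h0 hRne
      · have hQtop : (Q : Subgroup N) = ⊤ := by
          rw [eq_top_iff]
          intro x _
          have hx : (x : G) ∈ (Q : Subgroup N).map N.subtype := by rw [h1]; exact x.2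
          obtain ⟨y, hy, hyx⟩ := hx
          have : y = x := Subtype.ext hyx
          rw [← this]; exact hy
        have hpN : IsPGroup p N := by
          have := Q.isPGroup'
          rw [hQtop] at this
          exact IsPGroup.of_equiv this Subgroup.topEquiv
        exact solvable_of_isPGroup hpN
    · have hnorm_ne : normalizer (((Q : Subgroup N).map N.subtype : Subgroup G) : Set G) ≠ ⊤ :=
        fun h0 => hRn (normalizer_eq_top_iff.mp h0)
      obtain ⟨M, hM, hNM⟩ := (eq_top_or_exists_le_coatom
        (normalizer (((Q : Subgroup N).map N.subtype : Subgroup G) : Set G))).resolve_left hnorm_ne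
      have hfrat : normalizer (((Q : Subgroup N).map N.subtype : Subgroup G) : Set G) ⊔ N = ⊤ :=
        Sylow.normalizer_sup_eq_top Q
      have hMN : M ⊔ N = ⊤ := eq_top_iff.mpr (hfrat ▸ sup_le_sup_right hNM N)
      have hidx : M.index = M.relIndex N := by
        have := Cfsg.Agent.S4244.second_iso_abs N M
        rw [sup_comm, hMN, relIndex_top_right, inf_relIndex_left] at this
        exact this
      have hmod : M.relIndex N ≡ 1 [MOD p] := by
        apply index_modEq_one p Q (M.subgroupOf N)
        intro x hx
        rw [mem_subgroupOf]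
        apply hNM
        apply Subgroup.mem_normalizer_fintype
        rintro _ ⟨y, hy, rfl⟩
        rw [mem_normalizer_iff] at hx
        exact ⟨x * y * x⁻¹, (hx y).mp hy, by simp⟩
      obtain ⟨q, hq, hi⟩ := h M hM
      have hqdvd : q ∣ Nat.card N := by
        have h1 : M.relIndex N ∣ Nat.card N := relIndex_dvd_card _ _
        rw [← hidx] at h1
        rcases hi with hi | hi
        · rw [hi] at h1; exact h1
        · rw [hi] at h1; exact (dvd_pow_self q (by norm_num)).trans h1
      have hqle : q ≤ p := hmax q hq hqdvd
      rw [← hidx] at hmod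
      have hi4 : M.index = 4 := by
        rcases hi with hi | hi
        · rw [hi] at hmod
          exact (nt1 p q hpp hq hqle hmod).elim
        · rw [hi] at hmod
          have := nt2 p q hpp hq hqle hmod
          rw [hi, this]; norm_num
      have hK : M.normalCore ⊓ N = ⊥ := by
        rcases hNmin (M.normalCore ⊓ N) inferInstance inf_le_right with h0 | h1
        · exact h0
        · exfalso
          have hle : N ≤ M := (inf_eq_right.mp h1).trans (normalCore_le M)
          apply hM.1
          rw [← hMN]
          exact (sup_eq_left.mpr hle).symm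
      have hcard24 : Nat.card N ∣ 24 := by
        have hinj : Function.Injective ((QuotientGroup.mk' M.normalCore).comp N.subtype) := by
          rw [← MonoidHom.ker_eq_bot_iff, eq_bot_iff]
          intro x hx
          rw [MonoidHom.mem_ker, MonoidHom.comp_apply, QuotientGroup.mk'_apply,
            QuotientGroup.eq_one_iff] at hx
          have : (x : G) ∈ M.normalCore ⊓ N := ⟨hx, x.2⟩
          rw [hK, mem_bot] at this
          rw [mem_bot]
          exact Subtype.ext this
        have h1 := Subgroup.card_dvd_of_injective _ hinj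
        have h2 : M.normalCore.index ∣ (M.index).factorial := by
          rw [normalCore_eq_ker, index_ker, index_eq_card, ← Nat.card_perm]
          exact card_subgroup_dvd_card (MulAction.toPermHom G (G ⧸ M)).range
        rw [hi4, index_eq_card] at h2
        exact h1.trans h2
      exact solvable_of_card_dvd_24 hcard24

/-- A finite group in which every maximal subgroup has index a prime or the square of a prime is solvable. -/
theorem result {G : Type*} [Group G] [Finite G] (h : ∀ M : Subgroup G, IsCoatom M → ∃ p : ℕ, p.Prime ∧ (M.index = p ∨ M.index = p ^ 2)) : Group.IsSolvable G :=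
  aux _ G rfl h

end Cfsg.Agent.S4203
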