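import Mathlib
import Cfsg.Statements.S4204

set_option autoImplicit false
open Cfsg

namespace Cfsg.Agent.S4204

open Subgroup
open scoped commutatorElement

variable {G : Type*} [Group G]

/-- The centralizer of `B` modulo the normal subgroup `N`. -/
def centMod (N B : Subgroup G) [N.Normal] : Subgroup G :=
  (centralizer ((B.map (QuotientGroup.mk' N) : Subgroup (G ⧸ N)) : Set (G ⧸ N))).comap
    (QuotientGroup.mk' N)

theorem comm_le_iff (N A B : Subgroup G) [N.Normal] : ⁅A, B⁆ ≤ N ↔ A ≤ centMod N B := by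
  rw [Subgroup.commutator_le]
  constructor
  · intro h a ha
    show QuotientGroup.mk' N a ∈ centralizer _
    rw [mem_centralizer_iff]
    rintro _ ⟨b, hb, rfl⟩
    have h1 : QuotientGroup.mk' N ⁅a, b⁆ = 1 := (QuotientGroup.eq_one_iff _).mpr (h a ha b hb)
    rw [map_commutatorElement] at h1
    exact (commutatorElement_eq_one_iff_mul_comm.mp h1).symm
  · intro h a ha b hb
    have h0 : QuotientGroup.mk' N a ∈ centralizer
        ((B.map (QuotientGroup.mk' N) : Subgroup (G ⧸ N)) : Set (G ⧸ N)) := h ha
    rw [mem_centralizer_iff] at h0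
    have h1 := h0 _ (mem_map_of_mem (QuotientGroup.mk' N) hb)
    have h2 : QuotientGroup.mk' N ⁅a, b⁆ = 1 := by
      rw [map_commutatorElement]
      exact commutatorElement_eq_one_iff_mul_comm.mpr h1.symm
    exact (QuotientGroup.eq_one_iff _).mp h2

theorem iSup_comm_le {ι : Sort*} (N : Subgroup G) [N.Normal] (X : ι → Subgroup G) (B : Subgroup G)
    (h : ∀ i, ⁅X i, B⁆ ≤ N) : ⁅⨆ i, X i, B⁆ ≤ N := by
  rw [comm_le_iff]
  exact iSup_le fun i => (comm_le_iff N (X i) B).mp (h i)

theorem comm_sup_le (N A B C : Subgroup G) [N.Normal] (h1 : ⁅A, B⁆ ≤ N) (h2 : ⁅A, C⁆ ≤ N) :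
    ⁅A, B ⊔ C⁆ ≤ N := by
  rw [commutator_comm, comm_le_iff]
  rw [commutator_comm, comm_le_iff] at h1 h2
  exact sup_le h1 h2

/-- shifted lower central series: `L 0 = ⊤`, `L (a+1) = H.lcs a` -/
def L (H : Subgroup G) : ℕ → Subgroup G
  | 0 => ⊤
  | (a + 1) => H.lowerCentralSeries a

theorem lcs_normal (H : Subgroup G) [H.Normal] (n : ℕ) : (H.lowerCentralSeries n).Normal := by
  induction n with
  | zero => exact ‹H.Normal›
  | succ n ih =>
    rw [Subgroup.lowerCentralSeries_succ]
    exact commutator_normal _ _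

theorem L_normal (H : Subgroup G) [H.Normal] (a : ℕ) : (L H a).Normal := by
  cases a with
  | zero => exact (inferInstance : (⊤ : Subgroup G).Normal)
  | succ a => exact lcs_normal H a

theorem comm_L_le (H : Subgroup G) [H.Normal] (a : ℕ) : ⁅L H a, H⁆ ≤ L H (a + 1) := by
  cases a with
  | zero => exact commutator_le_right _ _
  | succ a => exact le_of_eq (Subgroup.lowerCentralSeries_succ H a).symm

/-- the `n`-th term of the product series -/
def T (H K : Subgroup G) (n : ℕ) : Subgroup G :=
  ⨆ (a : ℕ) (b : ℕ) (_ : a + b = n + 1), L H a ⊓ L K b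

theorem le_T (H K : Subgroup G) (n a b : ℕ) (hab : a + b = n + 1) : L H a ⊓ L K b ≤ T H K n :=
  le_iSup_of_le a (le_iSup_of_le b (le_iSup_of_le hab le_rfl))

theorem T_normal (H K : Subgroup G) [H.Normal] [K.Normal] (n : ℕ) : (T H K n).Normal := by
  unfold T
  haveI : ∀ a b, (L H a ⊓ L K b).Normal := fun a b => by
    haveI := L_normal H a
    haveI := L_normal K b
    infer_instance
  infer_instance

theorem T_comm_le (H K : Subgroup G) (n : ℕ) (N : Subgroup G) [N.Normal] (B : Subgroup G)
    (h : ∀ a b, a + b = n + 1 → ⁅L H a ⊓ L K b, B⁆ ≤ N) : ⁅T H K n, B⁆ ≤ N := by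
  unfold T
  exact iSup_comm_le N _ _ (fun a => iSup_comm_le N _ _ (fun b =>
    iSup_comm_le N _ _ (fun hab => h a b hab)))

theorem lcs_le_T (H K : Subgroup G) [H.Normal] [K.Normal] (n : ℕ) :
    (H ⊔ K).lowerCentralSeries n ≤ T H K n := by
  induction n with
  | zero =>
    rw [Subgroup.lowerCentralSeries_zero]
    apply sup_le
    · have := le_T H K 0 1 0 rfl
      simpa [L] using this
    · have := le_T H K 0 0 1 rfl
      simpa [L] using this
  | succ n ih =>
    rw [Subgroup.lowerCentralSeries_succ]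
    haveI := T_normal H K (n + 1)
    refine le_trans (commutator_mono ih le_rfl) ?_
    apply comm_sup_le
    · refine T_comm_le H K n _ _ (fun a b hab => ?_)
      haveI := L_normal K b
      have h1 : ⁅L H a ⊓ L K b, H⁆ ≤ L H (a + 1) :=
        le_trans (commutator_mono inf_le_left le_rfl) (comm_L_le H a)
      have h2 : ⁅L H a ⊓ L K b, H⁆ ≤ L K b :=
        le_trans (commutator_mono inf_le_right le_rfl) (commutator_le_left _ _)
      exact le_trans (le_inf h1 h2) (le_T H K (n + 1) (a + 1) b (by omega))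
    · refine T_comm_le H K n _ _ (fun a b hab => ?_)
      haveI := L_normal H a
      have h1 : ⁅L H a ⊓ L K b, K⁆ ≤ L K (b + 1) :=
        le_trans (commutator_mono inf_le_right le_rfl) (comm_L_le K b)
      have h2 : ⁅L H a ⊓ L K b, K⁆ ≤ L H a :=
        le_trans (commutator_mono inf_le_left le_rfl) (commutator_le_left _ _)
      exact le_trans (le_inf h2 h1) (le_T H K (n + 1) a (b + 1) (by omega))

/-- If `H` and `K` are normal subgroups of a finite group with `H` nilpotent of class at most `c` and `K` nilpotent of class at most `d` (the terms with index `c`, respectively `d`, of their lower central series are trivial, indices starting at `0`), then `HK` is nilpotent of class at most `c + d`. -/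
theorem result {G : Type*} [Group G] [Finite G] (H K : Subgroup G) [H.Normal] [K.Normal] (c d : ℕ) (hH : H.lowerCentralSeries c = ⊥) (hK : K.lowerCentralSeries d = ⊥) : (H ⊔ K).lowerCentralSeries (c + d) = ⊥ := by
  rw [eq_bot_iff]
  refine le_trans (lcs_le_T H K (c + d)) ?_
  unfold T
  refine iSup_le fun a => iSup_le fun b => iSup_le fun hab => ?_
  by_cases ha : c + 1 ≤ a
  · obtain ⟨a', rfl⟩ : ∃ a', a = a' + 1 := ⟨a - 1, by omega⟩
    have h1 : L H (a' + 1) ≤ ⊥ := by
      show H.lowerCentralSeries a' ≤ ⊥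
      rw [← hH]
      exact Subgroup.lowerCentralSeries_antitone H (by omega)
    exact le_trans inf_le_left h1
  · obtain ⟨b', rfl⟩ : ∃ b', b = b' + 1 := ⟨b - 1, by omega⟩
    have h1 : L K (b' + 1) ≤ ⊥ := by
      show K.lowerCentralSeries b' ≤ ⊥
      rw [← hK]
      exact Subgroup.lowerCentralSeries_antitone K (by omega)
    exact le_trans inf_le_right h1

end Cfsg.Agent.S4204
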