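import Mathlib
import Cfsg.Statements.S4205

set_option autoImplicit false
open Cfsg
open scoped commutatorElement

namespace Cfsg.Agent.S4205

/-- In a finite group whose upper central series reaches the whole group at step `c` (nilpotent of class at most `c`), starting from any subgroup and taking normalizers `c` times reaches the whole group. -/
theorem result {G : Type*} [Group G] [Finite G] (c : ℕ) (hG : Subgroup.upperCentralSeries G c = ⊤) (H : Subgroup G) : (fun K : Subgroup G => Subgroup.normalizer (K : Set G))^[c] H = ⊤ := by
  have key : ∀ i : ℕ, Subgroup.upperCentralSeries G i ≤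
      (fun K : Subgroup G => Subgroup.normalizer (K : Set G))^[i] H := by
    intro i
    induction i with
    | zero => rw [Subgroup.upperCentralSeries_zero]; exact bot_le
    | succ i ih =>
      rw [Function.iterate_succ_apply']
      set K := (fun K : Subgroup G => Subgroup.normalizer (K : Set G))^[i] H with hK
      intro z hz
      rw [Subgroup.mem_upperCentralSeries_succ_iff] at hz
      show z ∈ Subgroup.normalizer (K : Set G)
      rw [Subgroup.mem_normalizer_iff]
      intro h
      have hc : ⁅z, h⁆ ∈ K := ih (hz h)
      rw [commutatorElement_def] at hc
      constructor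
      · intro hh
        have : z * h * z⁻¹ = (z * h * z⁻¹ * h⁻¹) * h := by group
        rw [this]; exact K.mul_mem hc hh
      · intro hh
        have : h = (z * h * z⁻¹ * h⁻¹)⁻¹ * (z * h * z⁻¹) := by group
        rw [this]; exact K.mul_mem (K.inv_mem hc) hh
  exact top_le_iff.mp (hG ▸ key c)

end Cfsg.Agent.S4205
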