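import Mathlib
import Cfsg.Statements.S4206

set_option autoImplicit false
open Cfsg

namespace Cfsg.Agent.S4206

theorem le_normal_iff_map_eq_bot {G : Type*} [Group G] (M : Subgroup G) [M.Normal] (K : Subgroup G) :
    K ≤ M ↔ K.map (QuotientGroup.mk' M) = ⊥ := by
  rw [Subgroup.map_eq_bot_iff, QuotientGroup.ker_mk']

/-- Three subgroups lemma modulo a normal subgroup. -/
theorem three_subgroups_normal {G : Type*} [Group G] (M : Subgroup G) [M.Normal]
    (A B C : Subgroup G) (h1 : ⁅⁅B, C⁆, A⁆ ≤ M) (h2 : ⁅⁅C, A⁆, B⁆ ≤ M) : ⁅⁅A, B⁆, C⁆ ≤ M := by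
  rw [le_normal_iff_map_eq_bot, Subgroup.map_commutator, Subgroup.map_commutator] at h1 h2 ⊢
  exact Subgroup.commutator_commutator_eq_bot_of_rotate h1 h2

/-- Let `H 0 ≥ H 1 ≥ H 2 ≥ ⋯` be normal subgroups of a finite group and `L` a subgroup with `⁅H i, L⁆ ≤ H (i+1)` for all `i`. Then `⁅H i, γ⁆ ≤ H (i + j + 1)` where `γ` is the `j`-th term of the lower central series of `L`. -/
theorem result {G : Type*} [Group G] [Finite G] (H : ℕ → Subgroup G) (hN : ∀ i, (H i).Normal) (hdesc : ∀ i, H (i + 1) ≤ H i) (L : Subgroup G) (hL : ∀ i, ⁅H i, L⁆ ≤ H (i + 1)) (i j : ℕ) : ⁅H i, L.lowerCentralSeries j⁆ ≤ H (i + j + 1) := by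
  induction j generalizing i with
  | zero => simpa using hL i
  | succ j ih =>
    rw [Subgroup.lowerCentralSeries_succ, Subgroup.commutator_comm]
    haveI := hN (i + (j + 1) + 1)
    apply three_subgroups_normal
    · -- ⁅⁅L, H i⁆, γ_j⁆ ≤ H (i+1+j+1)
      have h1 : ⁅L, H i⁆ ≤ H (i + 1) := by rw [Subgroup.commutator_comm]; exact hL i
      have h2 := ih (i + 1)
      have h3 : i + 1 + j + 1 = i + (j + 1) + 1 := by ring
      rw [h3] at h2
      exact (Subgroup.commutator_mono h1 le_rfl).trans h2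
    · -- ⁅⁅H i, γ_j⁆, L⁆ ≤ ⁅H (i+j+1), L⁆ ≤ H (i+j+2)
      have h1 := ih i
      have h2 := hL (i + j + 1)
      have h3 : i + j + 1 + 1 = i + (j + 1) + 1 := by ring
      rw [h3] at h2
      exact (Subgroup.commutator_mono h1 le_rfl).trans h2

end Cfsg.Agent.S4206
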