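import Mathlib
import Cfsg.Statements.S4207

set_option autoImplicit false
open Cfsg

namespace Cfsg.Agent.S4207

open Subgroup MulAction

/-- If `m` divides the size of every orbit then `m` divides the size of the set. -/
theorem dvd_card_of_dvd_orbit {H Y : Type*} [Group H] [MulAction H Y] [Finite Y] (m : ℕ)
    (h : ∀ y : Y, m ∣ (orbit H y).ncard) : m ∣ Nat.card Y := by
  classical
  have := Fintype.ofFinite (orbitRel.Quotient H Y)
  rw [Nat.card_congr (selfEquivSigmaOrbits H Y), Nat.card_sigma]
  refine Finset.dvd_sum fun ω _ => ?_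
  rw [Nat.card_coe_set_eq]
  exact h _

/-- Invariant-subset version of `dvd_card_of_dvd_orbit`. -/
theorem dvd_ncard_of_dvd_orbit {H Y : Type*} [Group H] [MulAction H Y] [Finite Y] (m : ℕ)
    (S : Set Y) (hS : ∀ h : H, ∀ y ∈ S, h • y ∈ S)
    (hm : ∀ y ∈ S, m ∣ (orbit H y).ncard) : m ∣ S.ncard := by
  let S' : SubMulAction H Y := ⟨S, fun h y hy => hS h y hy⟩
  have h1 : m ∣ Nat.card S' := by
    refine dvd_card_of_dvd_orbit (H := H) m fun y => ?_
    rw [← index_stabilizer, SubMulAction.stabilizer_of_subMul, index_stabilizer]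
    exact hm _ y.2
  have h2 : Nat.card S' = S.ncard := Nat.card_coe_set_eq S
  rw [← h2]
  exact h1

/-- A finite `p`-group has, for each `k`, a `k`-tuple which generates it or generates a subgroup
of order at least `p^k`. -/
theorem exists_gen_aux {Q : Type*} [Group Q] [Finite Q] {p : ℕ} [Fact p.Prime] (hQ : IsPGroup p Q)
    (k : ℕ) :
    ∃ x : Fin k → Q, closure (Set.range x) = ⊤ ∨ p ^ k ≤ Nat.card (closure (Set.range x)) := by
  have hp := (Fact.out : p.Prime)
  induction k with
  | zero => exact ⟨Fin.elim0, Or.inr (by simp)⟩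
  | succ k ih =>
    obtain ⟨x, hx⟩ := ih
    by_cases htop : closure (Set.range x) = ⊤
    · refine ⟨Fin.cons 1 x, Or.inl ?_⟩
      rw [Fin.range_cons, eq_top_iff, ← htop]
      exact closure_mono (Set.subset_insert _ _)
    · have hx' := hx.resolve_left htop
      obtain ⟨y, hy⟩ : ∃ y, y ∉ closure (Set.range x) := by
        by_contra hcon
        push Not at hcon
        exact htop (eq_top_iff.mpr fun z _ => hcon z)
      refine ⟨Fin.cons y x, Or.inr ?_⟩
      have hle : closure (Set.range x) ≤ closure (Set.range (Fin.cons y x : Fin (k+1) → Q)) :=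
        closure_mono (by rw [Fin.range_cons]; exact Set.subset_insert _ _)
      have hyH' : y ∈ closure (Set.range (Fin.cons y x : Fin (k+1) → Q)) :=
        subset_closure (by rw [Fin.range_cons]; exact Set.mem_insert _ _)
      obtain ⟨a, ha⟩ := (hQ.to_subgroup (closure (Set.range x))).exists_card_eq
      obtain ⟨b, hb⟩ :=
        (hQ.to_subgroup (closure (Set.range (Fin.cons y x : Fin (k+1) → Q)))).exists_card_eq
      have hlt : Nat.card (closure (Set.range x)) <
          Nat.card (closure (Set.range (Fin.cons y x : Fin (k+1) → Q))) := by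
        by_contra hcon
        push Not at hcon
        have := Subgroup.eq_of_le_of_card_ge hle hcon
        exact hy (this ▸ hyH')
      rw [ha, hb] at hlt
      have hab : a < b := (Nat.pow_lt_pow_iff_right hp.one_lt).mp hlt
      rw [hb]
      calc p ^ (k + 1) = p ^ k * p := pow_succ _ _
        _ ≤ p ^ a * p := Nat.mul_le_mul_right _ (ha ▸ hx')
        _ = p ^ (a + 1) := (pow_succ _ _).symm
        _ ≤ p ^ b := Nat.pow_le_pow_right hp.pos hab

/-- The tuples congruent to `x` modulo `Φ` are in bijection with tuples in `Φ`. -/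
def tupleEquiv {P : Type*} [Group P] {r : ℕ} (Φ : Subgroup P) (x : Fin r → P) :
    (Fin r → Φ) ≃ {y : Fin r → P // ∀ i, y i * (x i)⁻¹ ∈ Φ} where
  toFun f := ⟨fun i => f i * x i, fun i => by simp⟩
  invFun y := fun i => ⟨y.1 i * (x i)⁻¹, y.2 i⟩
  left_inv f := by ext i; simp
  right_inv y := by ext i; simp

/-- Let `P` be a group of order `p^n` whose Frattini subgroup has index `p^r`. Then any group of automorphisms of `P` each of which induces the identity on the Frattini quotient has order dividing `p^(r(n-r))`; in particular it is a `p`-group. -/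
theorem result {P : Type*} [Group P] [Finite P] {p n r : ℕ} [Fact p.Prime] (hP : Nat.card P = p ^ n) (hr : (frattini P).index = p ^ r) (A : Subgroup (MulAut P)) (hA : ∀ α ∈ A, ∀ x : P, α x * x⁻¹ ∈ frattini P) : Nat.card A ∣ p ^ (r * (n - r)) := by
  classical
  have hp := (Fact.out : p.Prime)
  have hΦn : (frattini P).Normal := inferInstance
  have hQcard : Nat.card (P ⧸ frattini P) = p ^ r := by
    rw [← Subgroup.index_eq_card]; exact hr
  have hQp : IsPGroup p (P ⧸ frattini P) := IsPGroup.of_card hQcard
  obtain ⟨xbar, hxbar⟩ := exists_gen_aux hQp r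
  have hxtop : closure (Set.range xbar) = ⊤ := by
    rcases hxbar with h | h
    · exact h
    · exact Subgroup.eq_top_of_le_card _ (by rw [hQcard]; exact h)
  choose x hx using fun i => QuotientGroup.mk_surjective (xbar i)
  -- any tuple congruent to x generates P
  have hgen : ∀ y : Fin r → P, (∀ i, y i * (x i)⁻¹ ∈ frattini P) →
      closure (Set.range y) = ⊤ := by
    intro y hy
    apply frattini_nongenerating
    rw [eq_top_iff]
    intro g _
    have h1 : (closure (Set.range y)).map (QuotientGroup.mk' (frattini P)) = ⊤ := by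
      rw [MonoidHom.map_closure, ← Set.range_comp]
      have : (QuotientGroup.mk' (frattini P)) ∘ y = xbar := by
        funext i
        simp only [Function.comp, QuotientGroup.mk'_apply]
        rw [← hx i]
        rw [QuotientGroup.eq]
        have h0 := (frattini P).inv_mem (hΦn.mem_comm (hy i))
        simpa [mul_inv_rev] using h0
      rw [this, hxtop]
    have h2 : (QuotientGroup.mk' (frattini P)) g ∈
        (closure (Set.range y)).map (QuotientGroup.mk' (frattini P)) := by rw [h1]; trivial
    obtain ⟨z, hz, hzg⟩ := h2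
    have h3 : z⁻¹ * g ∈ frattini P := QuotientGroup.eq.mp hzg
    have h4 : g = z * (z⁻¹ * g) := by group
    rw [h4]
    exact mul_mem (mem_sup_left hz) (mem_sup_right h3)
  -- the invariant set
  let S : Set (Fin r → P) := {y | ∀ i, y i * (x i)⁻¹ ∈ frattini P}
  have hSinv : ∀ α : A, ∀ y ∈ S, α • y ∈ S := by
    intro α y hy i
    have h1 := hA α.1 α.2 (y i)
    have h2 := hy i
    have : (α • y) i * (x i)⁻¹ = ((α : MulAut P) (y i) * (y i)⁻¹) * (y i * (x i)⁻¹) := by
      simp only [Pi.smul_apply, Subgroup.smul_def, MulAut.smul_def]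
      group
    rw [this]
    exact mul_mem h1 h2
  have horb : ∀ y ∈ S, Nat.card A ∣ (orbit A y).ncard := by
    intro y hy
    rw [← index_stabilizer]
    have hstab : stabilizer A y = ⊥ := by
      rw [eq_bot_iff]
      intro α hα
      rw [mem_stabilizer_iff] at hα
      rw [Subgroup.mem_bot]
      have hfix : ∀ i, (α : MulAut P) (y i) = y i := by
        intro i
        have := congrFun hα i
        simpa [Pi.smul_apply, Subgroup.smul_def, MulAut.smul_def] using this
      have hg := hgen y hy
      have heq : (α : MulAut P).toMonoidHom = MonoidHom.id P := by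
        apply MonoidHom.eq_of_eqOn_dense hg
        rintro _ ⟨i, rfl⟩
        exact hfix i
      apply Subtype.ext
      apply MulEquiv.ext
      intro z
      have := DFunLike.congr_fun heq z
      simpa using this
    rw [hstab, Subgroup.index_bot]
  have hdvd := dvd_ncard_of_dvd_orbit (H := A) (Nat.card A) S hSinv horb
  -- cardinality of S
  have hScard : S.ncard = p ^ (r * (n - r)) := by
    rw [← Nat.card_coe_set_eq]
    have e : (Fin r → frattini P) ≃ S := tupleEquiv (frattini P) x
    rw [← Nat.card_congr e, Nat.card_fun, Nat.card_fin]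
    have hΦ : Nat.card (frattini P) = p ^ (n - r) := by
      have h1 := (frattini P).card_mul_index
      rw [hr, hP] at h1
      have hrn : r ≤ n := by
        by_contra hcon
        push Not at hcon
        have h2 : p ^ r ∣ p ^ n := Dvd.intro_left _ h1
        have := (Nat.pow_dvd_pow_iff_le_right hp.one_lt).mp h2
        omega
      have h2 : p ^ n = p ^ (n - r) * p ^ r := by rw [← pow_add]; congr 1; omega
      rw [h2] at h1
      exact Nat.eq_of_mul_eq_mul_right (pow_pos hp.pos r) h1
    rw [hΦ, ← pow_mul, mul_comm]
  rw [hScard] at hdvd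
  exact hdvd

end Cfsg.Agent.S4207
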