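import Mathlib
import Cfsg.Statements.S4208
import Cfsg.Agent.Lib.Helper7_PFrattini

set_option autoImplicit false
open Cfsg

namespace Cfsg.Agent.S4208

open Subgroup MulAction
open Cfsg.Agent.Lib.Helper7_PFrattini

/-- If `m` divides the size of every orbit then `m` divides the size of the set. -/
theorem dvd_card_of_dvd_orbit {H Y : Type*} [Group H] [MulAction H Y] [Finite Y] (m : ℕ)
    (h : ∀ y : Y, m ∣ (orbit H y).ncard) : m ∣ Nat.card Y := by
  classical
  have := Fintype.ofFinite (orbitRel.Quotient H Y)
  rw [Nat.card_congr (selfEquivSigmaOrbits H Y), Nat.card_sigma]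
  refine Finset.dvd_sum fun ω _ => ?_
  rw [Nat.card_coe_set_eq]
  exact h _

/-- Invariant-subset version of `dvd_card_of_dvd_orbit`. -/
theorem dvd_ncard_of_dvd_orbit {H Y : Type*} [Group H] [MulAction H Y] [Finite Y] (m : ℕ)
    (S : Set Y) (hS : ∀ h : H, ∀ y ∈ S, h • y ∈ S)
    (hm : ∀ y ∈ S, m ∣ (orbit H y).ncard) : m ∣ S.ncard := by
  let S' : SubMulAction H Y := ⟨S, fun h y hy => hS h y hy⟩
  have h1 : m ∣ Nat.card S' := by
    refine dvd_card_of_dvd_orbit (H := H) m fun y => ?_
    rw [← index_stabilizer, SubMulAction.stabilizer_of_subMul, index_stabilizer]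
    exact hm _ y.2
  have h2 : Nat.card S' = S.ncard := Nat.card_coe_set_eq S
  rw [← h2]
  exact h1

/-- A tuple generates `P` iff its image generates `P ⧸ Φ(P)`. -/
theorem gen_iff {P : Type*} [Group P] [Finite P] {r : ℕ} (y : Fin r → P) :
    closure (Set.range y) = ⊤ ↔
      closure (Set.range (fun i => (QuotientGroup.mk' (frattini P)) (y i))) = ⊤ := by
  have hmap : (closure (Set.range y)).map (QuotientGroup.mk' (frattini P)) =
      closure (Set.range (fun i => (QuotientGroup.mk' (frattini P)) (y i))) := by
    rw [MonoidHom.map_closure, ← Set.range_comp]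
    rfl
  constructor
  · intro h
    rw [← hmap, h]
    exact Subgroup.map_top_of_surjective _ (QuotientGroup.mk'_surjective _)
  · intro h
    apply frattini_nongenerating
    rw [eq_top_iff]
    intro g _
    have h2 : (QuotientGroup.mk' (frattini P)) g ∈
        (closure (Set.range y)).map (QuotientGroup.mk' (frattini P)) := by
      rw [hmap, h]; trivial
    obtain ⟨z, hz, hzg⟩ := h2
    have h3 : z⁻¹ * g ∈ frattini P := QuotientGroup.eq.mp hzg
    have h4 : g = z * (z⁻¹ * g) := by group
    rw [h4]
    exact mul_mem (mem_sup_left hz) (mem_sup_right h3)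

/-- Generating tuples of `P` correspond to generating tuples of `P ⧸ Φ` times tuples in `Φ`. -/
noncomputable def genEquiv {P : Type*} [Group P] [Finite P] (r : ℕ) :
    {y : Fin r → P // closure (Set.range y) = ⊤} ≃
      {z : Fin r → P ⧸ frattini P // closure (Set.range z) = ⊤} × (Fin r → frattini P) where
  toFun y := (⟨fun i => (QuotientGroup.mk' (frattini P)) (y.1 i), (gen_iff y.1).mp y.2⟩,
    fun i => ⟨(Quotient.out ((QuotientGroup.mk' (frattini P)) (y.1 i)))⁻¹ * y.1 i, by
      apply QuotientGroup.eq.mp
      exact QuotientGroup.out_eq' _⟩)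
  invFun zf := ⟨fun i => Quotient.out (zf.1.1 i) * (zf.2 i : P), by
    rw [gen_iff]
    have : (fun i => (QuotientGroup.mk' (frattini P)) (Quotient.out (zf.1.1 i) * (zf.2 i : P))) =
        zf.1.1 := by
      funext i
      rw [map_mul]
      have h1 : (QuotientGroup.mk' (frattini P)) (zf.2 i : P) = 1 :=
        (QuotientGroup.eq_one_iff _).mpr (zf.2 i).2
      rw [h1, mul_one]
      exact QuotientGroup.out_eq' _
    rw [this]
    exact zf.1.2⟩
  left_inv y := by
    apply Subtype.ext
    funext i
    simp
  right_inv zf := by
    have hmk : ∀ i, (QuotientGroup.mk' (frattini P)) (Quotient.out (zf.1.1 i) * (zf.2 i : P)) =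
        zf.1.1 i := by
      intro i
      rw [map_mul]
      have h1 : (QuotientGroup.mk' (frattini P)) (zf.2 i : P) = 1 :=
        (QuotientGroup.eq_one_iff _).mpr (zf.2 i).2
      rw [h1, mul_one]
      exact QuotientGroup.out_eq' _
    apply Prod.ext
    · apply Subtype.ext
      funext i
      exact hmk i
    · funext i
      apply Subtype.ext
      simp only
      rw [hmk i]
      group

/-- Let `P` be a group of order `p^n` whose Frattini subgroup has index `p^r`. Then the order of the automorphism group of `P` divides `p^(r(n-r)) · (p^r - 1)(p^r - p) ⋯ (p^r - p^(r-1))`. -/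
theorem result {P : Type*} [Group P] [Finite P] {p n r : ℕ} [Fact p.Prime] (hP : Nat.card P = p ^ n) (hr : (frattini P).index = p ^ r) : Nat.card (MulAut P) ∣ p ^ (r * (n - r)) * ∏ i ∈ Finset.range r, (p ^ r - p ^ i) := by
  classical
  have hp := (Fact.out : p.Prime)
  have hPp : IsPGroup p P := IsPGroup.of_card hP
  have hΦn : (frattini P).Normal := inferInstance
  have hQcard : Nat.card (P ⧸ frattini P) = p ^ r := by
    rw [← Subgroup.index_eq_card]; exact hr
  -- the quotient is elementary abelian
  letI : CommGroup (P ⧸ frattini P) :=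
    { (inferInstance : Group (P ⧸ frattini P)) with
      mul_comm := by
        intro a b
        induction a using QuotientGroup.induction_on with
        | H x =>
          induction b using QuotientGroup.induction_on with
          | H y =>
            rw [← QuotientGroup.mk_mul, ← QuotientGroup.mk_mul]
            apply QuotientGroup.eq.mpr
            have := comm_mem_frattini hPp y⁻¹ x⁻¹
            simpa [mul_assoc] using this }
  have hexp : ∀ a : P ⧸ frattini P, a ^ p = 1 := by
    intro a
    induction a using QuotientGroup.induction_on with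
    | H x =>
      rw [← QuotientGroup.mk_pow]
      exact (QuotientGroup.eq_one_iff _).mpr (pow_mem_frattini hPp x)
  have hN := card_generating_tuples hexp hQcard
  -- the invariant set of generating tuples
  let S : Set (Fin r → P) := {y | closure (Set.range y) = ⊤}
  have hSinv : ∀ α : MulAut P, ∀ y ∈ S, α • y ∈ S := by
    intro α y hy
    show closure (Set.range (α • y)) = ⊤
    have h1 : Set.range (α • y) = (α.toMonoidHom) '' (Set.range y) := by
      rw [← Set.range_comp]
      rfl
    rw [h1, ← MonoidHom.map_closure, (show closure (Set.range y) = ⊤ from hy)]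
    exact Subgroup.map_top_of_surjective _ α.surjective
  have horb : ∀ y ∈ S, Nat.card (MulAut P) ∣ (orbit (MulAut P) y).ncard := by
    intro y hy
    rw [← index_stabilizer]
    have hstab : stabilizer (MulAut P) y = ⊥ := by
      rw [eq_bot_iff]
      intro α hα
      rw [mem_stabilizer_iff] at hα
      rw [Subgroup.mem_bot]
      have hfix : ∀ i, α (y i) = y i := by
        intro i
        have := congrFun hα i
        simpa [Pi.smul_apply, MulAut.smul_def] using this
      have heq : α.toMonoidHom = MonoidHom.id P := by
        apply MonoidHom.eq_of_eqOn_dense (show closure (Set.range y) = ⊤ from hy)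
        rintro _ ⟨i, rfl⟩
        exact hfix i
      apply MulEquiv.ext
      intro z
      have := DFunLike.congr_fun heq z
      simpa using this
    rw [hstab, Subgroup.index_bot]
  have hdvd := dvd_ncard_of_dvd_orbit (H := MulAut P) (Nat.card (MulAut P)) S hSinv horb
  have hΦ : Nat.card (frattini P) = p ^ (n - r) := by
    have h1 := (frattini P).card_mul_index
    rw [hr, hP] at h1
    have hrn : r ≤ n := by
      by_contra hcon
      push Not at hcon
      have h2 : p ^ r ∣ p ^ n := Dvd.intro_left _ h1
      have := (Nat.pow_dvd_pow_iff_le_right hp.one_lt).mp h2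
      omega
    have h2 : p ^ n = p ^ (n - r) * p ^ r := by rw [← pow_add]; congr 1; omega
    rw [h2] at h1
    exact Nat.eq_of_mul_eq_mul_right (pow_pos hp.pos r) h1
  have hScard : S.ncard = p ^ (r * (n - r)) * ∏ i ∈ Finset.range r, (p ^ r - p ^ i) := by
    rw [← Nat.card_coe_set_eq]
    have e : S ≃ {z : Fin r → P ⧸ frattini P // closure (Set.range z) = ⊤} ×
        (Fin r → frattini P) := genEquiv r
    rw [Nat.card_congr e, Nat.card_prod, Nat.card_fun, Nat.card_fin, hΦ, ← pow_mul, hN]
    rw [mul_comm, mul_comm (n - r) r]
  rw [hScard] at hdvd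
  exact hdvd

end Cfsg.Agent.S4208
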