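import Cfsg.Statements.S4211
import Mathlib
import Cfsg.Agent.Lib.Helper6_Dedekind
import Cfsg.Agent.Lib.Helper6_MaxClass
import Cfsg.Agent.Lib.Helper7_QuatLift
import Cfsg.Agent.Lib.Helper7_PCore
import Cfsg.Agent.Lib.Helper6_OrderP4

set_option autoImplicit false
open Cfsg
open Cfsg.Agent.Lib.Helper6_Dedekind Cfsg.Agent.Lib.Helper7_QuatLift

namespace Cfsg.Agent.S4211

theorem q8_sq : ∀ g : QuaternionGroup 2,
    g = 1 ∨ g = QuaternionGroup.a 2 ∨ g ^ 2 = QuaternionGroup.a 2 := by decide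

theorem q8_center : ∀ g : QuaternionGroup 2,
    g * QuaternionGroup.a 1 = QuaternionGroup.a 1 * g →
    g * QuaternionGroup.xa 0 = QuaternionGroup.xa 0 * g →
    g = 1 ∨ g = QuaternionGroup.a 2 := by decide

/-- conjugates of an element of order 4 in a Dedekind group -/
theorem conj_order_four {G : Type*} [Group G] (hn : ∀ H : Subgroup G, H.Normal) (g z : G)
    (hz : orderOf z = 4) : g * z * g⁻¹ = z ∨ g * z * g⁻¹ = z⁻¹ := by
  have hz4 : z ^ 4 = 1 := by rw [← hz]; exact pow_orderOf_eq_one z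
  have h1 : g * z * g⁻¹ ∈ Subgroup.zpowers z :=
    (hn (Subgroup.zpowers z)).conj_mem z (Subgroup.mem_zpowers z) g
  have hfin : IsOfFinOrder z := by rw [← orderOf_pos_iff, hz]; norm_num
  obtain ⟨k, hk⟩ := hfin.mem_powers_iff_mem_zpowers.mpr h1
  have hk' : z ^ k = g * z * g⁻¹ := hk
  have ho : orderOf (g * z * g⁻¹) = 4 := by
    have := (MulAut.conj g).orderOf_eq z
    rw [MulAut.conj_apply] at this
    rw [this, hz]
  have hk4 : z ^ (k % 4) = g * z * g⁻¹ := by rw [← hk']; exact (pow_eq_pow_mod k hz4).symm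
  have hlt : k % 4 < 4 := Nat.mod_lt _ (by norm_num)
  interval_cases hkm : k % 4
  · exfalso
    rw [pow_zero] at hk4
    rw [← hk4, orderOf_one] at ho
    norm_num at ho
  · left; rw [← hk4, pow_one]
  · exfalso
    have h2 : (g * z * g⁻¹) ^ 2 = 1 := by rw [← hk4, ← pow_mul]; exact hz4
    have := orderOf_dvd_of_pow_eq_one h2
    rw [ho] at this
    omega
  · right
    rw [← hk4]
    apply eq_inv_of_mul_eq_one_left
    rw [← pow_succ]; exact hz4

/-- A finite non-abelian group in which every subgroup is normal is the internal direct product of a subgroup isomorphic to the quaternion group of order `8`, an elementary abelian `2`-subgroup and an abelian subgroup of odd order. -/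
theorem result {G : Type*} [Group G] [Finite G] (hna : ¬ IsMulCommutative G) (hn : ∀ H : Subgroup G, H.Normal) : ∃ Q E A : Subgroup G, Nonempty (Q ≃* QuaternionGroup 2) ∧ Cfsg.IsElementaryAbelian 2 E ∧ IsMulCommutative A ∧ Odd (Nat.card A) ∧ E ⊓ A = ⊥ ∧ Q ⊓ (E ⊔ A) = ⊥ ∧ Q ⊔ (E ⊔ A) = ⊤ := by
  classical
  obtain ⟨x, y, hx4, hyy, hyx⟩ := key hn hna
  have hx4' : x ^ 4 = 1 := by rw [← hx4]; exact pow_orderOf_eq_one x
  have hx4'' : x ^ (2 * 2) = 1 := hx4'
  obtain ⟨c, hc⟩ : ∃ c, c = x ^ 2 := ⟨_, rfl⟩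
  have hc1 : c ≠ 1 := by
    intro h
    rw [hc] at h
    have := orderOf_dvd_of_pow_eq_one h
    rw [hx4] at this
    omega
  have hc2 : c ^ 2 = 1 := by rw [hc, ← pow_mul]; exact hx4'
  have hcinv : c⁻¹ = c := inv_eq_of_mul_eq_one_right (by rw [← sq]; exact hc2)
  have hy2 : y ^ 2 = c := by rw [sq, hyy, hc]
  have hy4' : y ^ 4 = 1 := by
    have : y ^ 4 = (y ^ 2) ^ 2 := by rw [← pow_mul]
    rw [this, hy2, hc2]
  have hy4 : orderOf y = 4 := by
    haveI : Fact (Nat.Prime 2) := ⟨Nat.prime_two⟩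
    have := orderOf_eq_prime_pow (x := y) (p := 2) (n := 1) (by rw [pow_one, hy2]; exact hc1)
      (by norm_num; exact hy4')
    simpa using this
  have hxy : x * y ≠ y * x := by
    intro h
    rw [hyx] at h
    have h1 : x = x⁻¹ := mul_right_cancel h
    apply hc1
    rw [hc, sq]
    nth_rewrite 1 [h1]
    exact inv_mul_cancel x
  -- conjugation relations
  have hyxy : y * x * y⁻¹ = x⁻¹ := by rw [hyx]; group
  have hxyx : x * y * x⁻¹ = y⁻¹ := by
    have h1 : x * y * x = y := by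
      calc x * y * x = x * (y * x) := by group
        _ = x * (x⁻¹ * y) := by rw [hyx]
        _ = y := by group
    have h2 : x * y * x⁻¹ = y * (x ^ 2)⁻¹ := by
      calc x * y * x⁻¹ = (x * y * x) * (x ^ 2)⁻¹ := by group
        _ = y * (x ^ 2)⁻¹ := by rw [h1]
    rw [h2, ← hc, hcinv, ← hy2]
    apply eq_inv_of_mul_eq_one_left
    rw [← pow_succ', ← pow_succ]; exact hy4'
  -- the quaternion subgroup
  let f : QuaternionGroup 2 →* G := lift x y hx4'' hyy hyx
  have hfa : ∀ i : ZMod (2 * 2), f (QuaternionGroup.a i) = x ^ i.val := fun i => rfl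
  have hfxa : ∀ i : ZMod (2 * 2), f (QuaternionGroup.xa i) = y * x ^ i.val := fun i => rfl
  have hfa2 : f (QuaternionGroup.a 2) = c := by rw [hfa, hc]; rfl
  have hfa1 : f (QuaternionGroup.a 1) = x := by rw [hfa]; exact pow_one x
  have hfxa0 : f (QuaternionGroup.xa 0) = y := by rw [hfxa, ZMod.val_zero, pow_zero, mul_one]
  have hfinj : Function.Injective f := by
    rw [injective_iff_map_eq_one]
    intro g hg
    rcases q8_sq g with h | h | h
    · exact h
    · exfalso; rw [h, hfa2] at hg; exact hc1 hg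
    · exfalso
      have h1 : f (g ^ 2) = 1 := by rw [map_pow, hg, one_pow]
      rw [h, hfa2] at h1; exact hc1 h1
  obtain ⟨Q, hQ⟩ : ∃ Q : Subgroup G, Q = f.range := ⟨_, rfl⟩
  have hQiso : Nonempty (Q ≃* QuaternionGroup 2) := by
    rw [hQ]; exact ⟨(MonoidHom.ofInjective hfinj).symm⟩
  have hxQ : x ∈ Q := by rw [hQ]; exact ⟨_, hfa1⟩
  have hyQ : y ∈ Q := by rw [hQ]; exact ⟨_, hfxa0⟩
  have hcQ : c ∈ Q := by rw [hQ]; exact ⟨_, hfa2⟩
  have hcentQ : ∀ g : G, g * x = x * g → g * y = y * g →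
      g ∈ Subgroup.centralizer (Q : Set G) := by
    intro g hgx hgy
    rw [Subgroup.mem_centralizer_iff]
    intro h hh
    rw [hQ] at hh
    obtain ⟨q, rfl⟩ := hh
    have cx : Commute g x := hgx
    have cy : Commute g y := hgy
    rcases q with i | i
    · rw [hfa]; exact (cx.pow_right _).eq.symm
    · rw [hfxa]; exact (cy.mul_right (cx.pow_right _)).eq.symm
  -- G = Q · C_G(Q)
  have hsup : Q ⊔ Subgroup.centralizer (Q : Set G) = ⊤ := by
    rw [eq_top_iff]
    intro g _
    have hhelp : ∀ q ∈ Q, g * x * g⁻¹ = q * x * q⁻¹ → g * y * g⁻¹ = q * y * q⁻¹ →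
        g ∈ Q ⊔ Subgroup.centralizer (Q : Set G) := by
      intro q hq h1 h2
      have e : g = q * (q⁻¹ * g) := by group
      rw [e]
      apply Subgroup.mul_mem_sup hq
      apply hcentQ
      · calc q⁻¹ * g * x = q⁻¹ * (g * x * g⁻¹) * g := by group
          _ = q⁻¹ * (q * x * q⁻¹) * g := by rw [h1]
          _ = x * (q⁻¹ * g) := by group
      · calc q⁻¹ * g * y = q⁻¹ * (g * y * g⁻¹) * g := by group
          _ = q⁻¹ * (q * y * q⁻¹) * g := by rw [h2]
          _ = y * (q⁻¹ * g) := by group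
    rcases conj_order_four hn g x hx4 with hgx | hgx <;>
      rcases conj_order_four hn g y hy4 with hgy | hgy
    · exact hhelp 1 (Subgroup.one_mem _) (by rw [hgx]; group) (by rw [hgy]; group)
    · exact hhelp x hxQ (by rw [hgx]; group) (by rw [hgy, hxyx])
    · exact hhelp y hyQ (by rw [hgx, hyxy]) (by rw [hgy]; group)
    · refine hhelp (x * y) (Subgroup.mul_mem _ hxQ hyQ) ?_ ?_
      · rw [hgx]
        calc x⁻¹ = x * (y * x * y⁻¹) * x⁻¹ := by rw [hyxy]; group
          _ = x * y * x * (x * y)⁻¹ := by group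
      · rw [hgy]
        calc y⁻¹ = x * y * x⁻¹ := hxyx.symm
          _ = x * y * y * (x * y)⁻¹ := by group
  -- no elements of order four in the centralizer
  have hC4 : ∀ g ∈ Subgroup.centralizer (Q : Set G), g ^ 4 = 1 → g ^ 2 = 1 := by
    intro g hg hg4
    by_contra hg2
    have hgx : g * x = x * g := ((Subgroup.mem_centralizer_iff.mp hg) x hxQ).symm
    have hgy : g * y = y * g := ((Subgroup.mem_centralizer_iff.mp hg) y hyQ).symm
    have h1 : y * (g * x) * y⁻¹ = (g * x) * c := by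
      calc y * (g * x) * y⁻¹ = (y * g) * x * y⁻¹ := by group
        _ = (g * y) * x * y⁻¹ := by rw [hgy]
        _ = g * (y * x * y⁻¹) := by group
        _ = g * x⁻¹ := by rw [hyxy]
        _ = g * x * (x ^ 2)⁻¹ := by group
        _ = g * x * c := by rw [← hc, hcinv]
    have h2 : (g * x) * c ∈ Subgroup.zpowers (g * x) := by
      rw [← h1]
      exact (hn (Subgroup.zpowers (g * x))).conj_mem _ (Subgroup.mem_zpowers _) y
    have h3 : c ∈ Subgroup.zpowers (g * x) := by
      have e : c = (g * x)⁻¹ * ((g * x) * c) := by group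
      rw [e]
      exact Subgroup.mul_mem _ (Subgroup.inv_mem _ (Subgroup.mem_zpowers (g * x))) h2
    have hcg : Commute g x := hgx
    have hh2 : (g * x) ^ 2 = g ^ 2 * c := by rw [hcg.mul_pow, hc]
    have hh4 : (g * x) ^ 4 = 1 := by rw [hcg.mul_pow, hg4, hx4', one_mul]
    have hfin : IsOfFinOrder (g * x) := isOfFinOrder_of_finite _
    obtain ⟨k, hk⟩ := hfin.mem_powers_iff_mem_zpowers.mpr h3
    have hk' : (g * x) ^ k = c := hk
    have hk4 : (g * x) ^ (k % 4) = c := by rw [← hk']; exact (pow_eq_pow_mod k hh4).symm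
    have hlt : k % 4 < 4 := Nat.mod_lt _ (by norm_num)
    have hcase1 : g * x = c → False := by
      intro h
      have hgx' : g = x := by
        have : g = c * x⁻¹ := by rw [← h]; group
        rw [this, hc]; group
      rw [hgx'] at hgy
      exact hxy hgy
    interval_cases hkm : k % 4
    · rw [pow_zero] at hk4; exact hc1 hk4.symm
    · rw [pow_one] at hk4; exact hcase1 hk4
    · rw [hh2] at hk4
      have : g ^ 2 = 1 := by
        have := mul_right_cancel (b := c) (a := g ^ 2) (c := 1) (by rw [hk4, one_mul])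
        exact this
      exact hg2 this
    · have h5 : (g * x) ^ 2 = 1 := by
        have h6 : ((g * x) ^ 3) ^ 2 = 1 := by rw [hk4, hc2]
        have h7 : ((g * x) ^ 3) ^ 2 = (g * x) ^ 4 * (g * x) ^ 2 := by
          rw [← pow_mul, ← pow_add]
        rw [h7, hh4, one_mul] at h6
        exact h6
      have h8 : (g * x) ^ 3 = g * x := by
        have : (g * x) ^ 3 = (g * x) ^ 2 * (g * x) := by rw [← pow_succ]
        rw [this, h5, one_mul]
      rw [h8] at hk4
      exact hcase1 hk4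
  have hmemsup : ∀ (H N : Subgroup G) (g : G), g ∈ H ⊔ N → ∃ h ∈ H, ∃ n ∈ N, h * n = g := by
    intro H N g hg
    haveI := hn N
    have h1 : g ∈ (↑(H ⊔ N) : Set G) := hg
    rw [Subgroup.mul_normal] at h1
    exact Set.mem_mul.mp h1
  -- Sylow 2-subgroup and its complement
  haveI : Fact (Nat.Prime 2) := ⟨Nat.prime_two⟩
  obtain ⟨P⟩ : Nonempty (Sylow 2 G) := inferInstance
  haveI hPn : (P : Subgroup G).Normal := hn _
  obtain ⟨A, hA⟩ := Subgroup.exists_right_complement'_of_coprime P.card_coprime_index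
  have hAcard : Nat.card A = (P : Subgroup G).index := (hA.symm.index_eq_card).symm
  have hAodd : Odd (Nat.card A) := by
    rw [hAcard, ← Nat.not_even_iff_odd, even_iff_two_dvd]
    exact P.not_dvd_index
  have hAab : IsMulCommutative ↥A := by
    by_contra hAna
    have hnA : ∀ K : Subgroup ↥A, K.Normal := by
      intro K
      have h1 : (K.map A.subtype).Normal := hn _
      have h2 : (K.map A.subtype).comap A.subtype = K :=
        Subgroup.comap_map_eq_self_of_injective A.subtype_injective K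
      rw [← h2]
      exact h1.comap _
    obtain ⟨x', y', hx', -, -⟩ := key hnA hAna
    have h4 : 4 ∣ Nat.card A := by rw [← hx']; exact orderOf_dvd_natCard x'
    obtain ⟨k, hk⟩ := hAodd
    omega
  have hPA : Disjoint (P : Subgroup G) A := hA.disjoint
  have hPAtop : (P : Subgroup G) ⊔ A = ⊤ := hA.sup_eq_top
  have hQP : Q ≤ P := by
    apply Cfsg.Agent.Lib.Helper7_PCore.normal_pgroup_le_sylow (hn Q)
    obtain ⟨e⟩ := hQiso
    rw [IsPGroup.iff_card]
    refine ⟨3, ?_⟩
    rw [Nat.card_congr e.toEquiv, Nat.card_eq_fintype_card, QuaternionGroup.card]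
    norm_num
  obtain ⟨V, hV⟩ : ∃ V : Subgroup G, V = Subgroup.centralizer (Q : Set G) ⊓ P := ⟨_, rfl⟩
  have hV2 : ∀ g ∈ V, g ^ 2 = 1 := by
    intro g hg
    rw [hV] at hg
    obtain ⟨hgC, hgP⟩ := hg
    obtain ⟨k, hk⟩ := (IsPGroup.iff_orderOf.mp P.isPGroup') ⟨g, hgP⟩
    have hk' : orderOf g = 2 ^ k := by rw [← hk, Subgroup.orderOf_mk]
    by_contra hg2
    have hk2 : 2 ≤ k := by
      by_contra h
      have hk1 : k ≤ 1 := by omega
      apply hg2
      have : orderOf g ∣ 2 := by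
        rw [hk']
        calc 2 ^ k ∣ 2 ^ 1 := pow_dvd_pow 2 hk1
          _ = 2 := pow_one 2
      exact orderOf_dvd_iff_pow_eq_one.mp this
    have e4 : 2 ^ (k - 2) * 4 = 2 ^ k := by
      have : (4 : ℕ) = 2 ^ 2 := by norm_num
      rw [this, ← pow_add]; congr 1; omega
    have e2 : 2 ^ (k - 2) * 2 = 2 ^ (k - 1) := by
      rw [← pow_succ]; congr 1; omega
    have h4 : (g ^ (2 ^ (k - 2))) ^ 4 = 1 := by
      rw [← pow_mul, e4, ← hk']; exact pow_orderOf_eq_one g
    have h2 : (g ^ (2 ^ (k - 2))) ^ 2 ≠ 1 := by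
      rw [← pow_mul, e2]
      intro h
      have := orderOf_dvd_of_pow_eq_one h
      rw [hk'] at this
      have h5 := Nat.le_of_dvd (pow_pos (by norm_num) _) this
      have h6 : 2 ^ (k - 1) < 2 ^ k := Nat.pow_lt_pow_right (by norm_num) (by omega)
      omega
    exact h2 (hC4 _ (Subgroup.pow_mem _ hgC _) h4)
  have hVcomm : ∀ u ∈ V, ∀ v ∈ V, u * v = v * u := by
    intro u hu v hv
    have := Cfsg.Agent.Lib.Helper6_MaxClass.comm_of_sq_eq_one (G := ↥V)
      (fun g => Subtype.ext (by simpa using hV2 g.1 g.2)) ⟨u, hu⟩ ⟨v, hv⟩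
    exact congrArg Subtype.val this
  have hcV : c ∈ V := by
    rw [hV]
    refine ⟨hcentQ c ?_ ?_, hQP hcQ⟩
    · rw [hc, ← pow_succ, ← pow_succ']
    · rw [← hy2, ← pow_succ, ← pow_succ']
  -- a maximal subgroup of V avoiding c
  haveI : Nonempty {E : Subgroup G // E ≤ V ∧ c ∉ E} :=
    ⟨⟨⊥, bot_le, by rw [Subgroup.mem_bot]; exact hc1⟩⟩
  obtain ⟨⟨E, hEV, hcE⟩, hEmax⟩ :=
    Finite.exists_max (fun E : {E : Subgroup G // E ≤ V ∧ c ∉ E} => Nat.card E.1)
  have hVle : V ≤ E ⊔ Subgroup.zpowers c := by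
    intro v hv
    by_contra hvn
    have hvE : v ∉ E := fun h => hvn (Subgroup.mem_sup_left h)
    have hE'V : E ⊔ Subgroup.zpowers v ≤ V :=
      sup_le hEV (by rw [Subgroup.zpowers_le]; exact hv)
    have hcE' : c ∉ E ⊔ Subgroup.zpowers v := by
      intro hmem
      obtain ⟨e, he, w, hw, hew⟩ := hmemsup _ _ _ hmem
      obtain ⟨k, hk⟩ := (isOfFinOrder_of_finite v).mem_powers_iff_mem_zpowers.mpr hw
      have hk' : v ^ k = w := hk
      rcases pow_of_sq_eq_one (hV2 v hv) k with h | h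
      · rw [← hk', h, mul_one] at hew
        rw [hew] at he; exact hcE he
      · rw [← hk', h] at hew
        apply hvn
        have : v = e⁻¹ * c := by rw [← hew]; group
        rw [this]
        exact Subgroup.mul_mem_sup (E.inv_mem he) (Subgroup.mem_zpowers c)
    have h1 := hEmax ⟨E ⊔ Subgroup.zpowers v, hE'V, hcE'⟩
    have hlt : E < E ⊔ Subgroup.zpowers v :=
      lt_of_le_of_ne le_sup_left (fun h => hvE (by
        rw [h]; exact Subgroup.mem_sup_right (Subgroup.mem_zpowers v)))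
    have h2 := Cfsg.Agent.Lib.Helper6_OrderP4.card_lt_of_lt hlt
    simp only at h1
    omega
  have hEP : E ≤ P := hEV.trans (by rw [hV]; exact inf_le_right)
  have hEC : E ≤ Subgroup.centralizer (Q : Set G) := hEV.trans (by rw [hV]; exact inf_le_left)
  refine ⟨Q, E, A, hQiso, ⟨?_, fun a ha => hV2 a (hEV ha)⟩, hAab, hAodd, ?_, ?_, ?_⟩
  · exact ⟨⟨fun a b => Subtype.ext (hVcomm a.1 (hEV a.2) b.1 (hEV b.2))⟩⟩
  · rw [eq_bot_iff]; exact (hPA.mono_left hEP).le_bot
  · rw [eq_bot_iff]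
    rintro g ⟨hgQ, hgEA⟩
    obtain ⟨e, he, a, ha, rfl⟩ := hmemsup _ _ _ hgEA
    have haP : a ∈ (P : Subgroup G) := by
      have : a = e⁻¹ * (e * a) := by group
      rw [this]; exact Subgroup.mul_mem _ (Subgroup.inv_mem _ (hEP he)) (hQP hgQ)
    have ha1 : a = 1 := by
      have := hPA.le_bot ⟨haP, ha⟩
      exact (Subgroup.mem_bot).mp this
    subst ha1
    rw [mul_one] at hgQ ⊢
    rw [hQ] at hgQ
    obtain ⟨q, hq⟩ := hgQ
    have hec := Subgroup.mem_centralizer_iff.mp (hEC he)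
    have h1 : q * QuaternionGroup.a 1 = QuaternionGroup.a 1 * q := by
      apply hfinj; rw [map_mul, map_mul, hq, hfa1]; exact (hec x hxQ).symm
    have h2 : q * QuaternionGroup.xa 0 = QuaternionGroup.xa 0 * q := by
      apply hfinj; rw [map_mul, map_mul, hq, hfxa0]; exact (hec y hyQ).symm
    rcases q8_center q h1 h2 with rfl | rfl
    · rw [map_one] at hq; rw [← hq]; exact Subgroup.one_mem _
    · rw [hfa2] at hq; rw [← hq] at he; exact absurd he hcE
  · rw [eq_top_iff, ← hPAtop, ← sup_assoc]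
    apply sup_le_sup_right
    intro g hg
    have hgtop : g ∈ Q ⊔ Subgroup.centralizer (Q : Set G) := by rw [hsup]; trivial
    obtain ⟨q, hq, t, ht, rfl⟩ := hmemsup _ _ _ hgtop
    have htP : t ∈ (P : Subgroup G) := by
      have : t = q⁻¹ * (q * t) := by group
      rw [this]; exact Subgroup.mul_mem _ (Subgroup.inv_mem _ (hQP hq)) hg
    have htV : t ∈ V := by rw [hV]; exact ⟨ht, htP⟩
    have htE : t ∈ E ⊔ Subgroup.zpowers c := hVle htV
    have hle : E ⊔ Subgroup.zpowers c ≤ Q ⊔ E :=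
      sup_le le_sup_right ((Subgroup.zpowers_le.mpr hcQ).trans le_sup_left)
    exact Subgroup.mul_mem _ (Subgroup.mem_sup_left hq) (hle htE)

end Cfsg.Agent.S4211
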