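import Mathlib
import Cfsg.Statements.S4213
import Cfsg.Agent.Lib.Helper7_FrobDiv
import Cfsg.Agent.Lib.Helper1_MinNormal
import Cfsg.Agent.S4203

set_option autoImplicit false
open Cfsg

namespace Cfsg.Agent.S4213

open Cfsg.Agent.Lib Cfsg.Agent.Lib.Helper7_FrobDiv

universe u

section lemmas
variable {G : Type u} [Group G]

/-- counting a full preimage under `G → G ⧸ K`. -/
theorem card_preimage (K : Subgroup G) [K.Normal] (P : G ⧸ K → Prop) :
    Nat.card {x : G // P (x : G ⧸ K)} = Nat.card {q : G ⧸ K // P q} * Nat.card K := by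
  rw [← Nat.card_prod]
  apply Nat.card_congr
  let e : G ≃ (G ⧸ K) × K := Subgroup.groupEquivQuotientProdSubgroup
  have he : ∀ a : G, (e a).1 = (a : G ⧸ K) := fun a => rfl
  exact (e.subtypeEquiv (p := fun x : G => P (x : G ⧸ K)) (q := fun t : (G ⧸ K) × K => P t.1)
    (fun a => by rw [he])).trans Equiv.prodSubtypeFstEquivSubtypeProd

/-- every solution of `q^n = 1` in `G ⧸ K` lifts to a solution in `G` when `|K|` is coprime to `n`. -/
theorem surj_of_coprime [Finite G] (K : Subgroup G) [K.Normal] (n : ℕ)
    (hcop : Nat.Coprime n (Nat.card K)) (q : G ⧸ K) (hq : q ^ n = 1) :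
    ∃ x : G, x ^ n = 1 ∧ (x : G ⧸ K) = q := by
  obtain ⟨x, rfl⟩ := QuotientGroup.mk_surjective q
  have hxk : x ^ n ∈ K := by
    rw [← QuotientGroup.eq_one_iff, QuotientGroup.mk_pow]; exact hq
  have hxkZ : x ^ (n * Nat.card K) = 1 := by
    rw [pow_mul]
    have h1 := pow_card_eq_one' (G := K) (x := ⟨x ^ n, hxk⟩)
    exact congrArg Subtype.val h1
  obtain ⟨t, ht1, ht2⟩ := Nat.chineseRemainder hcop 1 0
  have hZt : Nat.card K ∣ t := (Nat.modEq_zero_iff_dvd).mp ht2
  refine ⟨x ^ t, ?_, ?_⟩
  · rw [← pow_mul]
    apply pow_one_of_dvd hxkZ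
    rw [mul_comm t n]
    exact Nat.mul_dvd_mul dvd_rfl hZt
  · rw [QuotientGroup.mk_pow]
    exact pow_eq_self_of_modEq hq ht1

/-- a subset of the solution set with at least as many elements is the whole solution set. -/
theorem set_eq_of_card [Finite G] (A : Set G) (n : ℕ) (hA : A ⊆ {x : G | x ^ n = 1})
    (hcard : Nat.card {x : G // x ^ n = 1} ≤ Nat.card A) : A = {x : G | x ^ n = 1} := by
  apply Set.eq_of_subset_of_ncard_le hA _ (Set.toFinite _)
  rw [← Nat.card_coe_set_eq, ← Nat.card_coe_set_eq]
  exact hcard

end lemmas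

theorem main : ∀ (N : ℕ) (G : Type u) [Group G] [Finite G] [Group.IsSolvable G],
    Nat.card G = N → ∀ n : ℕ, n ∣ Nat.card G → Nat.card {x : G // x ^ n = 1} = n →
    ∃ H : Subgroup G, H.Normal ∧ (H : Set G) = {x : G | x ^ n = 1} := by
  intro N
  induction N using Nat.strong_induction_on with
  | _ N ih =>
    intro G _ _ _ hGN n hn hcount
    rcases subsingleton_or_nontrivial G with hsub | hnt
    · refine ⟨⊤, inferInstance, ?_⟩
      ext x
      simp only [Subgroup.coe_top, Set.mem_univ, Set.mem_ofPred_eq, true_iff]
      rw [Subsingleton.elim x 1, one_pow]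
    · have hn0 : n ≠ 0 := by
        rintro rfl
        rw [zero_dvd_iff] at hn
        exact Nat.card_pos.ne' hn
      obtain ⟨K, hKn, hKne, hKmin⟩ := Cfsg.Agent.S4203.exists_minimal_normal (G := G)
      haveI := hKn
      obtain ⟨p, hp, hKp⟩ := Helper1_MinNormal.exists_prime_pow_eq_one K hKne hKmin
      haveI : Fact p.Prime := ⟨hp⟩
      have hKpg : IsPGroup p K := by
        intro x
        refine ⟨1, ?_⟩
        apply Subtype.ext
        rw [pow_one]
        exact hKp x.1 x.2
      obtain ⟨i, hi⟩ := IsPGroup.iff_card.mp hKpg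
      have hKcard1 : 1 < Nat.card K := K.one_lt_card_iff_ne_bot.mpr hKne
      have hi0 : i ≠ 0 := by
        rintro rfl
        rw [pow_zero] at hi; omega
      have hcardG : Nat.card G = Nat.card (G ⧸ K) * p ^ i := by
        rw [← hi]; exact Subgroup.card_eq_card_quotient_mul_card_subgroup K
      have hlt : Nat.card (G ⧸ K) < N := by
        rw [← hGN, hcardG]
        have h1 : 0 < Nat.card (G ⧸ K) := Nat.card_pos
        have h2 : 1 < p ^ i := by rw [← hi]; exact hKcard1
        nlinarith
      -- common step: if all lifts of solutions of q^n' = 1 are solutions of x^n = 1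
      have hcommon : ∀ n' : ℕ, (∀ x : G, (x : G ⧸ K) ^ n' = 1 → x ^ n = 1) →
          Nat.card {q : G ⧸ K // q ^ n' = 1} * p ^ i ≤ n := by
        intro n' h
        rw [← hi, ← card_preimage K (fun q => q ^ n' = 1), ← hcount]
        apply Nat.card_le_card_of_injective
          (fun x : {x : G // (x : G ⧸ K) ^ n' = 1} => (⟨x.1, h x.1 x.2⟩ : {x : G // x ^ n = 1}))
        intro a b hab
        apply Subtype.ext
        have := congrArg Subtype.val hab
        exact this
      have hpos : ∀ n' : ℕ, 0 < Nat.card {q : G ⧸ K // q ^ n' = 1} := by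
        intro n'
        haveI : Nonempty {q : G ⧸ K // q ^ n' = 1} := ⟨⟨1, one_pow _⟩⟩
        exact Nat.card_pos
      by_cases hdiv : p ^ i ∣ n
      · -- Case A
        obtain ⟨nb, hnb⟩ := hdiv
        have hnbdvd : nb ∣ Nat.card (G ⧸ K) := by
          apply Nat.dvd_of_mul_dvd_mul_right (pow_pos hp.pos i)
          rw [← hcardG, mul_comm, ← hnb]; exact hn
        have hlift : ∀ x : G, (x : G ⧸ K) ^ nb = 1 → x ^ n = 1 := by
          intro x hx
          have hxk : x ^ nb ∈ K := by
            rw [← QuotientGroup.eq_one_iff, QuotientGroup.mk_pow]; exact hx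
          have h1 := pow_card_eq_one' (G := K) (x := ⟨x ^ nb, hxk⟩)
          have h2 : (x ^ nb) ^ (Nat.card K) = 1 := congrArg Subtype.val h1
          rw [hnb, mul_comm, pow_mul, ← hi]; exact h2
        have hle := hcommon nb hlift
        have hfrob := frobenius (G := G ⧸ K) nb hnbdvd
        have hcnt : Nat.card {q : G ⧸ K // q ^ nb = 1} = nb := by
          have h1 : Nat.card {q : G ⧸ K // q ^ nb = 1} ≤ nb := by
            rw [hnb, mul_comm] at hle
            exact Nat.le_of_mul_le_mul_left hle (pow_pos hp.pos i)
          exact le_antisymm h1 (Nat.le_of_dvd (hpos nb) hfrob)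
        obtain ⟨Hb, hHbn, hHb⟩ := ih _ hlt (G ⧸ K) rfl nb hnbdvd hcnt
        refine ⟨Hb.comap (QuotientGroup.mk' K), hHbn.comap _, ?_⟩
        apply set_eq_of_card
        · intro x hx
          have h1 : (QuotientGroup.mk' K x) ∈ (Hb : Set (G ⧸ K)) := hx
          rw [hHb] at h1
          exact hlift x h1
        · have h1 : Nat.card ((Hb.comap (QuotientGroup.mk' K) : Subgroup G) : Set G) =
              Nat.card {x : G // (x : G ⧸ K) ^ nb = 1} := by
            apply Nat.card_congr
            refine Equiv.subtypeEquivRight ?_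
            intro x
            have : x ∈ ((Hb.comap (QuotientGroup.mk' K) : Subgroup G) : Set G) ↔
                (QuotientGroup.mk' K x) ∈ (Hb : Set (G ⧸ K)) := Iff.rfl
            rw [this, hHb]; rfl
          rw [h1, card_preimage K (fun q => q ^ nb = 1), hcnt, hcount, hi, hnb, mul_comm]
      · -- Case B
        obtain ⟨j, n₁, hpn₁, hnj⟩ := Nat.exists_eq_pow_mul_and_not_dvd hn0 p hp.one_lt.ne'
        have hcop1 : Nat.Coprime n₁ p := ((Nat.Prime.coprime_iff_not_dvd hp).mpr hpn₁).symm
        have hji : j < i := by
          by_contra hge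
          rw [not_lt] at hge
          apply hdiv
          rw [hnj]
          exact (pow_dvd_pow p hge).trans (Dvd.intro _ rfl)
        have hn₁dvd : n₁ ∣ Nat.card (G ⧸ K) := by
          have h1 : n₁ ∣ Nat.card (G ⧸ K) * p ^ i := by
            rw [← hcardG]; exact (Dvd.intro_left _ hnj.symm).trans hn
          exact (Nat.Coprime.pow_right i hcop1).dvd_of_dvd_mul_right h1
        have hfrob := frobenius (G := G ⧸ K) n₁ hn₁dvd
        have hge : n₁ ≤ Nat.card {q : G ⧸ K // q ^ n₁ = 1} := Nat.le_of_dvd (hpos n₁) hfrob
        have hn₁pos : 0 < n₁ := by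
          rcases Nat.eq_zero_or_pos n₁ with h0 | h0
          · rw [h0, mul_zero] at hnj; exact absurd hnj hn0
          · exact h0
        rcases Nat.eq_zero_or_pos j with hj0 | hjpos
        · -- j = 0: n coprime to p
          subst hj0
          rw [pow_zero, one_mul] at hnj
          subst hnj
          have hcopK : Nat.Coprime n (Nat.card K) := by rw [hi]; exact Nat.Coprime.pow_right i hcop1
          have hle : Nat.card {q : G ⧸ K // q ^ n = 1} ≤ n := by
            have key := Nat.card_le_card_of_surjective
              (fun x : {x : G // x ^ n = 1} => (⟨(x.1 : G ⧸ K), by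
                rw [← QuotientGroup.mk_pow, x.2]; rfl⟩ : {q : G ⧸ K // q ^ n = 1})) (by
              rintro ⟨q, hq⟩
              obtain ⟨x, hx, hxq⟩ := surj_of_coprime K n hcopK q hq
              exact ⟨⟨x, hx⟩, Subtype.ext hxq⟩)
            rwa [hcount] at key
          have hcnt : Nat.card {q : G ⧸ K // q ^ n = 1} = n := le_antisymm hle hge
          obtain ⟨Hb, hHbn, hHb⟩ := ih _ hlt (G ⧸ K) rfl n hn₁dvd hcnt
          set H := Hb.comap (QuotientGroup.mk' K) with hH
          have hKH : K ≤ H := by
            intro k hk
            show (k : G ⧸ K) ∈ Hb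
            rw [(QuotientGroup.eq_one_iff k).mpr hk]
            exact Hb.one_mem
          have hHcard : Nat.card H = n * p ^ i := by
            have h1 : Nat.card H = Nat.card {x : G // (x : G ⧸ K) ^ n = 1} := by
              apply Nat.card_congr
              refine Equiv.subtypeEquivRight ?_
              intro x
              have : x ∈ H ↔ (QuotientGroup.mk' K x) ∈ (Hb : Set (G ⧸ K)) := Iff.rfl
              rw [this, hHb]; rfl
            rw [h1, card_preimage K (fun q => q ^ n = 1), hcnt, hi]
          -- Schur–Zassenhaus inside H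
          haveI : (K.subgroupOf H).Normal := Subgroup.Normal.subgroupOf hKn H
          have hK'card : Nat.card (K.subgroupOf H) = p ^ i := by
            rw [Nat.card_congr (Subgroup.subgroupOfEquivOfLe hKH).toEquiv, hi]
          have hK'idx : (K.subgroupOf H).index = n := by
            have h1 := Subgroup.card_mul_index (K.subgroupOf H)
            rw [hK'card, hHcard, mul_comm] at h1
            exact Nat.eq_of_mul_eq_mul_right (pow_pos hp.pos i) h1
          obtain ⟨Q', hQ'⟩ := Subgroup.exists_right_complement'_of_coprime (N := K.subgroupOf H)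
            (by rw [hK'card, hK'idx]; exact (Nat.Coprime.pow_right i hcop1).symm)
          have hQ'card : Nat.card Q' = n := by
            have h1 := hQ'.card_mul_card
            rw [hK'card, hHcard, mul_comm] at h1
            exact Nat.eq_of_mul_eq_mul_right (pow_pos hp.pos i) h1
          set Q := Q'.map H.subtype with hQ
          have hQcard : Nat.card Q = n := by
            rw [hQ, Subgroup.card_map_of_injective H.subtype_injective, hQ'card]
          have hQsub : (Q : Set G) ⊆ {x : G | x ^ n = 1} := by
            intro x hx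
            have h1 := pow_card_eq_one' (G := Q) (x := ⟨x, hx⟩)
            rw [hQcard] at h1
            exact congrArg Subtype.val h1
          have hQeq : (Q : Set G) = {x : G | x ^ n = 1} := by
            apply set_eq_of_card _ n hQsub
            rw [hcount]
            exact hQcard.ge
          refine ⟨Q, ?_, hQeq⟩
          constructor
          intro x hx g
          have h1 : x ∈ (Q : Set G) := hx
          rw [hQeq] at h1
          have h2 : g * x * g⁻¹ ∈ {x : G | x ^ n = 1} := by
            show (g * x * g⁻¹) ^ n = 1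
            rw [conj_pow, h1]; group
          rw [← hQeq] at h2
          exact h2
        · -- j ≥ 1: impossible
          exfalso
          have hlift : ∀ x : G, (x : G ⧸ K) ^ n₁ = 1 → x ^ n = 1 := by
            intro x hx
            have hxk : x ^ n₁ ∈ K := by
              rw [← QuotientGroup.eq_one_iff, QuotientGroup.mk_pow]; exact hx
            have h2 : (x ^ n₁) ^ p = 1 := hKp _ hxk
            rw [← pow_mul] at h2
            apply pow_one_of_dvd h2
            rw [hnj, mul_comm]
            exact Nat.mul_dvd_mul (dvd_pow_self p hjpos.ne') dvd_rfl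
          have hle := hcommon n₁ hlift
          have h1 : n₁ * p ^ i ≤ p ^ j * n₁ := by
            calc n₁ * p ^ i ≤ Nat.card {q : G ⧸ K // q ^ n₁ = 1} * p ^ i :=
                  Nat.mul_le_mul_right _ hge
              _ ≤ n := hle
              _ = p ^ j * n₁ := hnj
          have h2 : p ^ i ≤ p ^ j := by
            rw [mul_comm] at h1
            exact Nat.le_of_mul_le_mul_right h1 hn₁pos
          have h3 := (Nat.pow_le_pow_iff_right hp.one_lt).mp h2
          omega

/-- If `G` is a finite solvable group and `n` divides the order of `G` and exactly `n` elements `x` of `G` satisfy `x^n = 1`, then these elements form a normal subgroup. -/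
theorem result {G : Type*} [Group G] [Finite G] [Group.IsSolvable G] (n : ℕ) (hn : n ∣ Nat.card G) (hcount : Nat.card {x : G // x ^ n = 1} = n) : ∃ H : Subgroup G, H.Normal ∧ (H : Set G) = {x : G | x ^ n = 1} := by
  exact main (Nat.card G) G rfl n hn hcount

end Cfsg.Agent.S4213
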