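import Mathlib
import Cfsg.Statements.S4216
import Cfsg.Agent.Lib.Helper7_Alperin

set_option autoImplicit false
open Cfsg

namespace Cfsg.Agent.S4216

open Cfsg.Agent.Lib.Helper7_Alperin Cfsg.Agent.Lib.Helper7_Tame Cfsg.Agent.Lib.Helper7_Basic Subgroup
open scoped commutatorElement

/-- Grün's first Theorem: if `P` is a Sylow `p`-subgroup of the finite group `G`, then `P ∩ G'` is the subgroup generated by `P ∩ N_G(P)'` together with the subgroups `P ∩ z P' z⁻¹` for all `z ∈ G`, where `'` denotes the derived subgroup and `N_G(P)` the normalizer of `P`. -/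
theorem result {G : Type*} [Group G] [Finite G] {p : ℕ} [Fact p.Prime] (P : Sylow p G) : (P : Subgroup G) ⊓ commutator G = ((P : Subgroup G) ⊓ ⁅Subgroup.normalizer ((P : Subgroup G) : Set G), Subgroup.normalizer ((P : Subgroup G) : Set G)⁆) ⊔ ⨆ z : G, (P : Subgroup G) ⊓ (⁅(P : Subgroup G), (P : Subgroup G)⁆).map (MulAut.conj z).toMonoidHom := by
  set R : Subgroup G := ((P : Subgroup G) ⊓ ⁅Subgroup.normalizer ((P : Subgroup G) : Set G), Subgroup.normalizer ((P : Subgroup G) : Set G)⁆) ⊔ ⨆ z : G, (P : Subgroup G) ⊓ (⁅(P : Subgroup G), (P : Subgroup G)⁆).map (MulAut.conj z).toMonoidHom with hRdef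
  have hle : R ≤ (P : Subgroup G) := by
    rw [hRdef]
    exact sup_le inf_le_left (iSup_le fun z => inf_le_left)
  have hyp : Hyp P R :=
    { le := hle
      tame := by
        intro Q htame x hx ⟨k, hk⟩ d hd
        set H : Subgroup G := (P : Subgroup G) ⊓ (Q : Subgroup G) with hH
        set N : Subgroup G := normalizer (H : Set G) with hN
        obtain ⟨P₁, hP₁⟩ := sylow_of_not_dvd (P : Subgroup G) N P.isPGroup' htame.1
        obtain ⟨S, hS⟩ := pElement_mem_sylow (p := p) (⟨x, hx⟩ : N)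
          ⟨k, by rw [← hk]; exact Subgroup.orderOf_mk x hx⟩
        obtain ⟨n, hn⟩ := MulAction.exists_smul_eq N P₁ S
        rw [← hn, mem_smul_sylow] at hS
        have hu : (n : G)⁻¹ * x * (n : G) ∈ (P : Subgroup G) ⊓ N := by
          have h1 : n⁻¹ * (⟨x, hx⟩ : N) * n ∈ (P₁ : Subgroup N) := hS
          rw [hP₁, mem_subgroupOf] at h1
          simpa using h1
        have hd' : (n : G)⁻¹ * d * (n : G) ∈ H := by
          have := (mem_normalizer_iff.mp (inv_mem n.2) d).mp hd
          simpa using this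
        have hxd : x * d * x⁻¹ ∈ H := (mem_normalizer_iff.mp hx d).mp hd
        have hmemP : x * d * x⁻¹ * d⁻¹ ∈ (P : Subgroup G) :=
          mul_mem (Subgroup.mem_inf.mp hxd).1 (inv_mem (Subgroup.mem_inf.mp hd).1)
        have hmemC : x * d * x⁻¹ * d⁻¹ ∈
            (⁅(P : Subgroup G), (P : Subgroup G)⁆).map (MulAut.conj (n : G)).toMonoidHom := by
          refine ⟨⁅(n : G)⁻¹ * x * (n : G), (n : G)⁻¹ * d * (n : G)⁆,
            Subgroup.commutator_mem_commutator (Subgroup.mem_inf.mp hu).1
              (Subgroup.mem_inf.mp hd').1, ?_⟩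
          simp only [MulEquiv.coe_toMonoidHom, MulAut.conj_apply, commutatorElement_def]
          group
        rw [hRdef]
        apply Subgroup.mem_sup_right
        exact Subgroup.mem_iSup_of_mem (n : G) (Subgroup.mem_inf.mpr ⟨hmemP, hmemC⟩)
      norm := by
        intro n hn z hz
        rw [hRdef]
        apply Subgroup.mem_sup_left
        refine Subgroup.mem_inf.mpr ⟨?_, ?_⟩
        · exact mul_mem ((mem_normalizer_iff.mp hn z).mp hz) (inv_mem hz)
        · have : n * z * n⁻¹ * z⁻¹ = ⁅n, z⁆ := by rw [commutatorElement_def]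
          rw [this]
          exact Subgroup.commutator_mem_commutator hn (le_normalizer hz) }
  apply le_antisymm
  · rw [inf_comm, Subgroup.commutator_inf_eq_focalSubgroup, Subgroup.focalSubgroup_def,
      Subgroup.closure_le]
    rintro g ⟨hgP, x, hx, u, rfl⟩
    have hux : u * x⁻¹ * u⁻¹ ∈ (P : Subgroup G) := by
      have : u * x⁻¹ * u⁻¹ = x⁻¹ * ⁅x, u⁆ := by rw [commutatorElement_def]; group
      rw [this]
      exact mul_mem (inv_mem hx) hgP
    have h1 := focal_le hyp x⁻¹ (inv_mem hx) u hux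
    have h2 := hyp.norm x (Subgroup.le_normalizer hx) _ (hle h1)
    have e : ⁅x, u⁆ = (x * (u * x⁻¹ * u⁻¹ * x⁻¹⁻¹) * x⁻¹ * (u * x⁻¹ * u⁻¹ * x⁻¹⁻¹)⁻¹) *
        (u * x⁻¹ * u⁻¹ * x⁻¹⁻¹) := by rw [commutatorElement_def]; group
    rw [SetLike.mem_coe, e]
    exact mul_mem h2 h1
  · apply le_inf hle
    rw [hRdef, _root_.commutator_def]
    apply sup_le
    · exact inf_le_right.trans (Subgroup.commutator_mono le_top le_top)
    · refine iSup_le fun z => inf_le_right.trans ?_
      rw [Subgroup.map_le_iff_le_comap]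
      intro y hy
      rw [Subgroup.mem_comap]
      have h1 : y ∈ (⁅(⊤ : Subgroup G), ⊤⁆ : Subgroup G) :=
        (Subgroup.commutator_mono le_top le_top) hy
      have hn : (⁅(⊤ : Subgroup G), ⊤⁆ : Subgroup G).Normal := inferInstance
      exact hn.conj_mem y h1 z

end Cfsg.Agent.S4216
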