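import Cfsg.Statements.S4217
import Mathlib
import Cfsg.Agent.S0051
import Cfsg.Agent.Lib.Lead_SZ
import Cfsg.Agent.Lib.Helper1_Card

set_option autoImplicit false
open Cfsg

namespace Cfsg.Agent.S4217

variable {G : Type*} [Group G]

/-- Elements of the abelian subgroup `A` killed by `m`. -/
def killed (A : Subgroup G) (hA : IsMulCommutative A) (m : ℕ) : Subgroup G where
  carrier := {a | a ∈ A ∧ a ^ m = 1}
  one_mem' := ⟨A.one_mem, one_pow m⟩
  mul_mem' := by
    rintro a b ⟨ha, ha'⟩ ⟨hb, hb'⟩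
    refine ⟨A.mul_mem ha hb, ?_⟩
    have hc : a * b = b * a := congrArg Subtype.val (hA.is_comm.comm ⟨a, ha⟩ ⟨b, hb⟩)
    have hc' : Commute a b := hc
    rw [hc'.mul_pow, ha', hb', one_mul]
  inv_mem' := by
    rintro a ⟨ha, ha'⟩
    exact ⟨A.inv_mem ha, by rw [inv_pow, ha', inv_one]⟩

theorem killed_le (A : Subgroup G) (hA : IsMulCommutative A) (m : ℕ) : killed A hA m ≤ A :=
  fun _ h => h.1

theorem mem_killed (A : Subgroup G) (hA : IsMulCommutative A) (m : ℕ) (a : G) :
    a ∈ killed A hA m ↔ a ∈ A ∧ a ^ m = 1 := Iff.rfl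

theorem killed_normal (A : Subgroup G) [hn : A.Normal] (hA : IsMulCommutative A) (m : ℕ) :
    (killed A hA m).Normal := by
  constructor
  rintro a ⟨ha, ha'⟩ g
  refine ⟨hn.conj_mem a ha g, ?_⟩
  rw [conj_pow, ha', mul_one, mul_inv_cancel]

theorem killed_card_coprime [Finite G] (A : Subgroup G) (hA : IsMulCommutative A) (m q : ℕ)
    (hq : q.Prime) (hqm : ¬ q ∣ m) : (Nat.card (killed A hA m)).Coprime q := by
  rw [Nat.coprime_comm, Nat.Prime.coprime_iff_not_dvd hq]
  intro hdvd
  haveI : Fact q.Prime := ⟨hq⟩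
  obtain ⟨x, hx⟩ := exists_prime_orderOf_dvd_card' (G := killed A hA m) q hdvd
  have h1 : x ^ m = 1 := Subtype.ext (by
    rw [Subgroup.coe_pow, Subgroup.coe_one]
    exact x.2.2)
  have := orderOf_dvd_of_pow_eq_one h1
  rw [hx] at this
  exact hqm this

theorem killed_relIndex [Finite G] (A : Subgroup G) [A.Normal] (hA : IsMulCommutative A) (q : ℕ)
    (hq : q.Prime) : ∃ k, (killed A hA (ordCompl[q] (Nat.card A))).relIndex A = q ^ k := by
  haveI : Fact q.Prime := ⟨hq⟩
  haveI := killed_normal A hA (ordCompl[q] (Nat.card A))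
  have hp : IsPGroup q (A ⧸ (killed A hA (ordCompl[q] (Nat.card A))).subgroupOf A) := by
    intro x
    refine ⟨(Nat.card A).factorization q, ?_⟩
    obtain ⟨a, rfl⟩ := QuotientGroup.mk_surjective x
    rw [← QuotientGroup.mk_pow, QuotientGroup.eq_one_iff, Subgroup.mem_subgroupOf]
    refine ⟨(a ^ _).2, ?_⟩
    rw [Subgroup.coe_pow, ← pow_mul, Nat.ordProj_mul_ordCompl_eq_self]
    have := pow_card_eq_one' (G := A) (x := a)
    have h2 := congrArg Subtype.val this
    rwa [Subgroup.coe_pow, Subgroup.coe_one] at h2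
  obtain ⟨k, hk⟩ := IsPGroup.iff_card.mp hp
  exact ⟨k, hk⟩

theorem exists_partial [Finite G] (A : Subgroup G) [A.Normal] (hA : IsMulCommutative A) (q : ℕ)
    (hq : q.Prime) (K' : Subgroup G) (hK'A : K' ⊓ A = ⊥) (hidx : ¬ q ∣ (K' ⊔ A).index) :
    ∃ H : Subgroup G, H ⊓ A = killed A hA (ordCompl[q] (Nat.card A)) ∧ H ⊔ A = ⊤ := by
  set N := killed A hA (ordCompl[q] (Nat.card A)) with hN
  haveI : N.Normal := killed_normal A hA _
  have hNA : N ≤ A := killed_le A hA _
  have hf : Function.Surjective (QuotientGroup.mk' N) := QuotientGroup.mk'_surjective N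
  have hker : (QuotientGroup.mk' N).ker = N := QuotientGroup.ker_mk' N
  haveI : (A.map (QuotientGroup.mk' N)).Normal := Subgroup.Normal.map inferInstance _ hf
  haveI := hA
  haveI : IsMulCommutative (A.map (QuotientGroup.mk' N)) := Subgroup.map_isMulCommutative A _
  have hKU : A.map (QuotientGroup.mk' N) ≤ (K' ⊔ A).map (QuotientGroup.mk' N) :=
    Subgroup.map_mono le_sup_right
  have hcard : ∃ k, Nat.card (A.map (QuotientGroup.mk' N)) = q ^ k := by
    obtain ⟨k, hk⟩ := killed_relIndex A hA q hq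
    refine ⟨k, ?_⟩
    have h1 := Cfsg.Agent.Lib.Lead_SZ.card_map_of_le N A hNA
    have h2 : Nat.card (N.subgroupOf A) * N.relIndex A = Nat.card A :=
      Subgroup.card_mul_index (N.subgroupOf A)
    rw [Cfsg.Agent.Lib.Lead_SZ.card_subgroupOf_of_le hNA, hk] at h2
    have h3 : Nat.card (A.map (QuotientGroup.mk' N)) * Nat.card N = q ^ k * Nat.card N := by
      rw [h1, ← h2, mul_comm]
    exact Nat.eq_of_mul_eq_mul_right Nat.card_pos h3
  have hcop : (Nat.card (A.map (QuotientGroup.mk' N))).Coprime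
      ((K' ⊔ A).map (QuotientGroup.mk' N)).index := by
    obtain ⟨k, hk⟩ := hcard
    rw [hk, Subgroup.index_map_eq _ hf (by rw [hker]; exact hNA.trans le_sup_right)]
    exact Nat.Coprime.pow_left k ((Nat.Prime.coprime_iff_not_dvd hq).2 hidx)
  have hAU : K'.map (QuotientGroup.mk' N) ≤ (K' ⊔ A).map (QuotientGroup.mk' N) :=
    Subgroup.map_mono le_sup_left
  have hAK : K'.map (QuotientGroup.mk' N) ⊓ A.map (QuotientGroup.mk' N) = ⊥ := by
    rw [eq_bot_iff]
    rintro x ⟨⟨k, hk, rfl⟩, ⟨a, ha, hka⟩⟩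
    rw [Subgroup.mem_bot]
    have h1 : a⁻¹ * k ∈ N := by
      have : ((a : G) : G ⧸ N) = (k : G ⧸ N) := hka
      exact QuotientGroup.eq.mp this
    have h2 : k ∈ A := by
      have := A.mul_mem ha (hNA h1)
      rwa [mul_inv_cancel_left] at this
    have h3 : k ∈ K' ⊓ A := ⟨hk, h2⟩
    rw [hK'A, Subgroup.mem_bot] at h3
    rw [h3, map_one]
  have hKA : A.map (QuotientGroup.mk' N) ⊔ K'.map (QuotientGroup.mk' N) =
      (K' ⊔ A).map (QuotientGroup.mk' N) := by
    rw [Subgroup.map_sup, sup_comm]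
  obtain ⟨Hb, hHb⟩ := Cfsg.Agent.S0051.result (A.map (QuotientGroup.mk' N))
    ((K' ⊔ A).map (QuotientGroup.mk' N)) hKU hcop (K'.map (QuotientGroup.mk' N)) hAU hAK hKA
  refine ⟨Hb.comap (QuotientGroup.mk' N), ?_, ?_⟩
  · have h1 : A = (A.map (QuotientGroup.mk' N)).comap (QuotientGroup.mk' N) := by
      rw [Subgroup.comap_map_eq_self (by rw [hker]; exact hNA)]
    conv_lhs => rw [h1]
    rw [← Subgroup.comap_inf, inf_comm, hHb.disjoint.eq_bot, MonoidHom.comap_bot, hker]
  · have h1 : A = (A.map (QuotientGroup.mk' N)).comap (QuotientGroup.mk' N) := by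
      rw [Subgroup.comap_map_eq_self (by rw [hker]; exact hNA)]
    conv_lhs => rw [h1]
    rw [Subgroup.comap_sup_eq (QuotientGroup.mk' N) _ _ hf, sup_comm, hHb.sup_eq_top, Subgroup.comap_top]


/-- Let `A` be an abelian normal subgroup of the finite group `G`. Then `A` has a complement in `G` if and only if, for every prime `p` dividing the index of `A`, there are a Sylow `p`-subgroup `S` of `G/A` and a subgroup `K` of `G` with `K ∩ A = 1` and `KA` equal to the preimage of `S` (that is, `A` has a complement in the preimage of a Sylow `p`-subgroup of `G/A`). -/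
theorem result {G : Type*} [Group G] [Finite G] (A : Subgroup G) [A.Normal] (hA : IsMulCommutative A) : (∃ K : Subgroup G, K.IsComplement' A) ↔ ∀ p : ℕ, p.Prime → p ∣ A.index → ∃ (S : Sylow p (G ⧸ A)) (K : Subgroup G), K ⊓ A = ⊥ ∧ K ⊔ A = (S : Subgroup (G ⧸ A)).comap (QuotientGroup.mk' A) := by
  classical
  constructor
  · rintro ⟨K, hK⟩ p hp hpA
    haveI : Fact p.Prime := ⟨hp⟩
    obtain ⟨P⟩ : Nonempty (Sylow p K) := inferInstance
    have hdisj : K ⊓ A = ⊥ := hK.disjoint.eq_bot
    have hPA : (P : Subgroup K).map K.subtype ⊓ A = ⊥ := by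
      rw [eq_bot_iff, ← hdisj]
      exact inf_le_inf_right _ (Subgroup.map_subtype_le _)
    have hcard : Nat.card (((P : Subgroup K).map K.subtype).map (QuotientGroup.mk' A)) =
        p ^ (Nat.card (G ⧸ A)).factorization p := by
      rw [Cfsg.Agent.Lib.Lead_SZ.card_map_of_inf_bot A _ hPA,
        Subgroup.card_map_of_injective K.subtype_injective, P.card_eq_multiplicity,
        ← Subgroup.index_eq_card, hK.index_eq_card]
    refine ⟨Sylow.ofCard _ hcard, (P : Subgroup K).map K.subtype, hPA, ?_⟩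
    rw [Sylow.coe_ofCard, Subgroup.comap_map_eq, QuotientGroup.ker_mk']
  · intro h
    set n := Nat.card A with hn
    have hn0 : n ≠ 0 := Nat.card_pos.ne'
    have key : ∀ q : ℕ, q.Prime → ∃ H : Subgroup G,
        H ⊓ A = killed A hA (ordCompl[q] n) ∧ H ⊔ A = ⊤ := by
      intro q hq
      haveI : Fact q.Prime := ⟨hq⟩
      by_cases hq' : q ∣ A.index
      · obtain ⟨S, K', h1, h2⟩ := h q hq hq'
        apply exists_partial A hA q hq K' h1
        rw [h2, Subgroup.index_comap_of_surjective _ (QuotientGroup.mk'_surjective A)]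
        exact S.not_dvd_index
      · exact exists_partial A hA q hq ⊥ (bot_inf_eq _) (by rwa [bot_sup_eq])
    choose! Hq hHq using key
    have hKA : (⨅ q : n.primeFactors, Hq q) ⊓ A = ⊥ := by
      rw [eq_bot_iff]
      rintro x ⟨hxK, hxA⟩
      rw [Subgroup.mem_bot]
      by_contra hx1
      have hox : orderOf x ≠ 1 := by rwa [Ne, orderOf_eq_one_iff]
      obtain ⟨r, hr, hrx⟩ := Nat.exists_prime_and_dvd hox
      have hrn : r ∣ n := hrx.trans (Subgroup.orderOf_dvd_natCard A hxA)
      have hrmem : r ∈ n.primeFactors := Nat.mem_primeFactors.2 ⟨hr, hrn, hn0⟩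
      have hxH : x ∈ Hq r := (Subgroup.mem_iInf.1 hxK) ⟨r, hrmem⟩
      have hxN : x ∈ killed A hA (ordCompl[r] n) := by
        rw [← (hHq r hr).1]
        exact ⟨hxH, hxA⟩
      have := orderOf_dvd_of_pow_eq_one hxN.2
      exact Nat.not_dvd_ordCompl hr hn0 (hrx.trans this)
    have hidx : ∀ q : ℕ, q.Prime → (Hq q).index ≤ q ^ n.factorization q := by
      intro q hq
      obtain ⟨h1, h2⟩ := hHq q hq
      have e1 := Cfsg.Agent.Lib.Helper1_Card.card_sup_mul_card_inf_of_normal (Hq q) A
      rw [h1, h2, Subgroup.card_top] at e1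
      have e2 : Nat.card (Hq q) * (Hq q).index = Nat.card G := Subgroup.card_mul_index _
      have e3 : (Hq q).index * Nat.card (killed A hA (ordCompl[q] n)) = n := by
        have : Nat.card (Hq q) * ((Hq q).index * Nat.card (killed A hA (ordCompl[q] n))) =
            Nat.card (Hq q) * n := by
          rw [← mul_assoc, e2, e1]
        exact Nat.eq_of_mul_eq_mul_left Nat.card_pos this
      obtain ⟨k, hk⟩ := killed_relIndex A hA q hq
      have e4 : Nat.card ((killed A hA (ordCompl[q] n)).subgroupOf A) *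
          (killed A hA (ordCompl[q] n)).relIndex A = n :=
        Subgroup.card_mul_index _
      rw [Cfsg.Agent.Lib.Lead_SZ.card_subgroupOf_of_le (killed_le A hA _), hk] at e4
      have e5 : (Hq q).index = q ^ k := by
        have : (Hq q).index * Nat.card (killed A hA (ordCompl[q] n)) =
            q ^ k * Nat.card (killed A hA (ordCompl[q] n)) :=
          e3.trans (e4.symm.trans (mul_comm _ _))
        exact Nat.eq_of_mul_eq_mul_right Nat.card_pos this
      rw [e5]
      have e6 : q ^ k ∣ n := ⟨_, e4.symm.trans (mul_comm _ _)⟩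
      exact Nat.pow_le_pow_right hq.pos ((Nat.Prime.pow_dvd_iff_le_factorization hq hn0).1 e6)
    have hprod : ∏ q ∈ n.primeFactors, q ^ n.factorization q = n := by
      have := Nat.factorization_prod_pow_eq_self hn0
      rwa [Finsupp.prod, Nat.support_factorization] at this
    have hKidx : (⨅ q : n.primeFactors, Hq q).index ≤ n := by
      refine (Subgroup.index_iInf_le _).trans ?_
      calc ∏ i : n.primeFactors, (Hq i).index
          ≤ ∏ i : n.primeFactors, (i : ℕ) ^ n.factorization i :=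
            Finset.prod_le_prod' (fun i _ => hidx i (Nat.prime_of_mem_primeFactors i.2))
        _ = ∏ q ∈ n.primeFactors, q ^ n.factorization q :=
            Finset.prod_coe_sort n.primeFactors (fun q => q ^ n.factorization q)
        _ = n := hprod
    refine ⟨⨅ q : n.primeFactors, Hq q, ?_⟩
    set K := ⨅ q : n.primeFactors, Hq q with hKdef
    have e1 := Cfsg.Agent.Lib.Helper1_Card.card_sup_mul_card_inf_of_normal K A
    rw [hKA, Subgroup.card_bot, mul_one] at e1
    have e2 : Nat.card K * K.index = Nat.card G := Subgroup.card_mul_index _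
    have e3 : Nat.card (K ⊔ A : Subgroup G) ≤ Nat.card G := Subgroup.card_le_card_group _
    have e4 : Nat.card K * K.index ≤ Nat.card K * n := Nat.mul_le_mul_left _ hKidx
    apply Subgroup.isComplement'_of_card_mul_and_disjoint
    · apply le_antisymm
      · rw [← e1]
        exact e3
      · rw [← e2]
        exact e4
    · exact disjoint_iff.2 hKA

end Cfsg.Agent.S4217
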