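import Cfsg.Statements.S4218
import Mathlib
import Cfsg.Agent.S0029
import Cfsg.Agent.S0630
import Cfsg.Agent.Lib.Helper6_HallHigman
import Cfsg.Agent.Lib.Helper7_PFrattini
import Cfsg.Agent.Lib.Lead_Coprime

set_option autoImplicit false
open Cfsg
open Cfsg.Agent.Lib.Lead_Coprime Cfsg.Agent.Lib.Helper7_PFrattini

namespace Cfsg.Agent.S4218

/-- membership in the preimage of the Frattini subgroup of `P₁/N`, transported to `K ≤ G/N` -/
theorem mem_comap_frattini_iff {G : Type*} [Group G] (N : Subgroup G) [N.Normal]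
    (K : Subgroup (G ⧸ N)) (x : ↥(K.comap (QuotientGroup.mk' N))) :
    x ∈ (frattini (↥(K.comap (QuotientGroup.mk' N)) ⧸
          N.subgroupOf (K.comap (QuotientGroup.mk' N)))).comap
        (QuotientGroup.mk' (N.subgroupOf (K.comap (QuotientGroup.mk' N)))) ↔
      ((QuotientGroup.mk' N).subgroupComap K) x ∈ frattini ↥K := by
  let f : ↥(K.comap (QuotientGroup.mk' N)) →* ↥K := (QuotientGroup.mk' N).subgroupComap K
  have hf : Function.Surjective f :=
    MonoidHom.subgroupComap_surjective_of_surjective _ _ (QuotientGroup.mk'_surjective N)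
  have hker : f.ker = N.subgroupOf (K.comap (QuotientGroup.mk' N)) := by
    ext y
    rw [MonoidHom.mem_ker, Subgroup.mem_subgroupOf]
    constructor
    · intro h
      have h1 : (QuotientGroup.mk' N) (y : G) = 1 := congrArg Subtype.val h
      exact (QuotientGroup.eq_one_iff _).mp h1
    · intro h
      apply Subtype.ext
      exact (QuotientGroup.eq_one_iff _).mpr h
  let e : ↥(K.comap (QuotientGroup.mk' N)) ⧸ N.subgroupOf (K.comap (QuotientGroup.mk' N)) ≃* ↥K :=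
    (QuotientGroup.quotientMulEquivOfEq hker.symm).trans
      (QuotientGroup.quotientKerEquivOfSurjective f hf)
  have he : ∀ y : ↥(K.comap (QuotientGroup.mk' N)),
      e (QuotientGroup.mk' (N.subgroupOf (K.comap (QuotientGroup.mk' N))) y) = f y := fun y => rfl
  have hfr : (frattini (↥(K.comap (QuotientGroup.mk' N)) ⧸
      N.subgroupOf (K.comap (QuotientGroup.mk' N)))).map e.toMonoidHom = frattini ↥K :=
    (MulEquiv.mapSubgroup e).map_radical
  rw [Subgroup.mem_comap]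
  show _ ↔ f x ∈ frattini ↥K
  rw [← hfr, ← he]
  constructor
  · intro h; exact Subgroup.mem_map_of_mem _ h
  · rintro ⟨z, hz, hzy⟩
    have := e.injective hzy
    rwa [← this]

/-- `G/O_p(G)` acts faithfully on the Frattini quotient of `O_p(G)` when `O_{p'}(G) = 1`. -/
theorem faithful {H : Type*} [Group H] [Finite H] {p : ℕ} [Fact p.Prime]
    (hsol : Cfsg.IsPSolvable p H) (hO : Cfsg.pPrimeCore p H = ⊥) (g : H)
    (hg : ∀ k ∈ Cfsg.pCore p H, g * k * g⁻¹ * k⁻¹ ∈
      (frattini ↥(Cfsg.pCore p H)).map (Cfsg.pCore p H).subtype) : g ∈ Cfsg.pCore p H := by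
  classical
  have hp := (Fact.out : p.Prime)
  have hKn : (Cfsg.pCore p H).Normal := Cfsg.Agent.Lib.Helper7_PCore.pCore_normal p
  have hKp : IsPGroup p (Cfsg.pCore p H) := Cfsg.Agent.Lib.Helper7_PCore.pCore_isPGroup p
  have hΦK : (frattini ↥(Cfsg.pCore p H)).map (Cfsg.pCore p H).subtype ≤ Cfsg.pCore p H :=
    Subgroup.map_subtype_le _
  have hKtop : Subgroup.normalizer ((Cfsg.pCore p H : Subgroup H) : Set H) = ⊤ :=
    Subgroup.normalizer_eq_top_iff.mpr hKn
  have hΦn : ((frattini ↥(Cfsg.pCore p H)).map (Cfsg.pCore p H).subtype).Normal := by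
    rw [← Subgroup.normalizer_eq_top_iff, eq_top_iff, ← hKtop]
    exact normalizer_le_normalizer_char_map (frattini ↥(Cfsg.pCore p H))
  let C : Subgroup H :=
    { carrier := {h | ∀ k ∈ Cfsg.pCore p H, h * k * h⁻¹ * k⁻¹ ∈
        (frattini ↥(Cfsg.pCore p H)).map (Cfsg.pCore p H).subtype}
      one_mem' := by
        intro k _
        simp
      mul_mem' := by
        intro a b ha hb k hk
        have e : a * b * k * (a * b)⁻¹ * k⁻¹ =
            (a * (b * k * b⁻¹ * k⁻¹) * a⁻¹) * (a * k * a⁻¹ * k⁻¹) := by group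
        rw [e]
        exact Subgroup.mul_mem _ (hΦn.conj_mem _ (hb k hk) a) (ha k hk)
      inv_mem' := by
        intro a ha k hk
        have hk' : a⁻¹ * k * a ∈ Cfsg.pCore p H := by
          have := hKn.conj_mem k hk a⁻¹
          rwa [inv_inv] at this
        have e : a⁻¹ * k * a⁻¹⁻¹ * k⁻¹ =
            (a * (a⁻¹ * k * a) * a⁻¹ * (a⁻¹ * k * a)⁻¹)⁻¹ := by group
        rw [e]
        exact Subgroup.inv_mem _ (ha _ hk') }
  have hCmem : ∀ h : H, h ∈ C ↔ ∀ k ∈ Cfsg.pCore p H, h * k * h⁻¹ * k⁻¹ ∈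
      (frattini ↥(Cfsg.pCore p H)).map (Cfsg.pCore p H).subtype := fun h => Iff.rfl
  have hCn : C.Normal := by
    refine ⟨fun h hh t => ?_⟩
    rw [hCmem]
    intro k hk
    have hk' : t⁻¹ * k * t ∈ Cfsg.pCore p H := by
      have := hKn.conj_mem k hk t⁻¹
      rwa [inv_inv] at this
    have e : t * h * t⁻¹ * k * (t * h * t⁻¹)⁻¹ * k⁻¹ =
        t * (h * (t⁻¹ * k * t) * h⁻¹ * (t⁻¹ * k * t)⁻¹) * t⁻¹ := by group
    rw [e]
    exact hΦn.conj_mem _ (hh _ hk') t
  have hCp : IsPGroup p C := by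
    by_contra hcon
    have hex : ∃ q : ℕ, q.Prime ∧ q ∣ Nat.card C ∧ q ≠ p := by
      by_contra hno
      push Not at hno
      apply hcon
      rw [IsPGroup.iff_card]
      exact ⟨_, Nat.eq_prime_pow_of_unique_prime_dvd Nat.card_pos.ne'
        (fun {d} hd hdvd => hno d hd hdvd)⟩
    obtain ⟨q, hq, hqdvd, hqp⟩ := hex
    haveI : Fact q.Prime := ⟨hq⟩
    obtain ⟨y, hy⟩ := exists_prime_orderOf_dvd_card' q hqdvd
    have hyo : orderOf (y : H) = q := by rw [Subgroup.orderOf_coe]; exact hy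
    have hAC : Subgroup.zpowers (y : H) ≤ C := by
      rw [Subgroup.zpowers_le]; exact y.2
    have hAK : Subgroup.zpowers (y : H) ≤
        Subgroup.normalizer ((Cfsg.pCore p H : Subgroup H) : Set H) := by
      rw [hKtop]; exact le_top
    have hcop : (Nat.card (Subgroup.zpowers (y : H))).Coprime
        (Nat.card (frattini ↥(Cfsg.pCore p H))) := by
      rw [Nat.card_zpowers, hyo]
      obtain ⟨j, hj⟩ := (hKp.to_subgroup (frattini ↥(Cfsg.pCore p H))).exists_card_eq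
      rw [hj]
      exact Nat.Coprime.pow_right j ((Nat.coprime_primes hq hp).mpr hqp)
    have h1 := Cfsg.Agent.S0029.result (Subgroup.zpowers (y : H)) (Cfsg.pCore p H) hAK hcop
      (fun a ha k hk => (hCmem a).mp (hAC ha) k hk)
    have h2 := Cfsg.Agent.Lib.Helper6_HallHigman.centralizer_pCore_le hsol hO
    have hyK : (y : H) ∈ Cfsg.pCore p H := h2 (h1 (Subgroup.mem_zpowers _))
    obtain ⟨m, hm⟩ := hKp ⟨(y : H), hyK⟩
    have hm' : (y : H) ^ p ^ m = 1 := by
      have := congrArg Subtype.val hm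
      simpa using this
    have h3 : q ∣ p ^ m := by rw [← hyo]; exact orderOf_dvd_of_pow_eq_one hm'
    have h4 : q ∣ p := hq.dvd_of_dvd_pow h3
    exact hqp ((Nat.prime_dvd_prime_iff_eq hq hp).mp h4)
  have hCK : C ≤ Cfsg.pCore p H := Cfsg.Agent.Lib.Helper7_PCore.le_pCore hCn hCp
  exact hCK ((hCmem g).mpr hg)

/-- Let `G` be a finite `p`-solvable group, `N₀ = O_{p'}(G)`, `P₁ = O_{p',p}(G)`, and let `F ≤ P₁` be the preimage of the Frattini subgroup of `P₁/N₀`. Then an element `g` of `G` induces the identity on `P₁/F` by conjugation (that is, `g x g⁻¹ x⁻¹ ∈ F` for all `x ∈ P₁`) if and only if `g ∈ P₁`: the group `G/P₁` acts faithfully on `P₁/F`. -/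
theorem result {G : Type*} [Group G] [Finite G] {p : ℕ} [Fact p.Prime] (hG : Cfsg.IsPSolvable p G) (g : G) : (∀ x ∈ Cfsg.pPrimePCore p G, g * x * g⁻¹ * x⁻¹ ∈ ((frattini (↥(Cfsg.pPrimePCore p G) ⧸ (Cfsg.pPrimeCore p G).subgroupOf (Cfsg.pPrimePCore p G))).comap (QuotientGroup.mk' ((Cfsg.pPrimeCore p G).subgroupOf (Cfsg.pPrimePCore p G)))).map (Cfsg.pPrimePCore p G).subtype) ↔ g ∈ Cfsg.pPrimePCore p G := by
  have hp := (Fact.out : p.Prime)
  have hsol' : Cfsg.IsPSolvable p (G ⧸ Cfsg.pPrimeCore p G) :=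
    Cfsg.Agent.Lib.Helper7_PSolvable.quotient hp hG _
  have hO : Cfsg.pPrimeCore p (G ⧸ Cfsg.pPrimeCore p G) = ⊥ :=
    Cfsg.Agent.S0630.pPrimeCore_quotient_self p
  have hKp : IsPGroup p (Cfsg.pCore p (G ⧸ Cfsg.pPrimeCore p G)) :=
    Cfsg.Agent.Lib.Helper7_PCore.pCore_isPGroup p
  constructor
  · intro h
    show g ∈ (Cfsg.pCore p (G ⧸ Cfsg.pPrimeCore p G)).comap
      (QuotientGroup.mk' (Cfsg.pPrimeCore p G))
    rw [Subgroup.mem_comap]
    apply faithful hsol' hO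
    intro k hk
    obtain ⟨x, rfl⟩ := QuotientGroup.mk'_surjective _ k
    have hx : x ∈ Cfsg.pPrimePCore p G := hk
    obtain ⟨w, hw, hwx⟩ := h x hx
    have hw' := (mem_comap_frattini_iff (Cfsg.pPrimeCore p G)
      (Cfsg.pCore p (G ⧸ Cfsg.pPrimeCore p G)) w).mp hw
    refine ⟨_, hw', ?_⟩
    have hwx' : (w : G) = g * x * g⁻¹ * x⁻¹ := hwx
    show (QuotientGroup.mk' (Cfsg.pPrimeCore p G)) (w : G) = _
    rw [hwx']
    simp only [map_mul, map_inv]
  · intro hgP x hx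
    have hgP' : g ∈ (Cfsg.pCore p (G ⧸ Cfsg.pPrimeCore p G)).comap
      (QuotientGroup.mk' (Cfsg.pPrimeCore p G)) := hgP
    have hx' : x ∈ (Cfsg.pCore p (G ⧸ Cfsg.pPrimeCore p G)).comap
      (QuotientGroup.mk' (Cfsg.pPrimeCore p G)) := hx
    have key : ((QuotientGroup.mk' (Cfsg.pPrimeCore p G)).subgroupComap
        (Cfsg.pCore p (G ⧸ Cfsg.pPrimeCore p G)))
        ((⟨g, hgP'⟩ : ↥((Cfsg.pCore p (G ⧸ Cfsg.pPrimeCore p G)).comap
          (QuotientGroup.mk' (Cfsg.pPrimeCore p G)))) * ⟨x, hx'⟩ * ⟨g, hgP'⟩⁻¹ * ⟨x, hx'⟩⁻¹) ∈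
        frattini ↥(Cfsg.pCore p (G ⧸ Cfsg.pPrimeCore p G)) := by
      rw [map_mul, map_mul, map_mul, map_inv, map_inv]
      exact comm_mem_frattini hKp _ _
    have key2 := (mem_comap_frattini_iff (Cfsg.pPrimeCore p G)
      (Cfsg.pCore p (G ⧸ Cfsg.pPrimeCore p G)) _).mpr key
    exact ⟨_, key2, rfl⟩

end Cfsg.Agent.S4218
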