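import Mathlib
import Cfsg.Statements.S4219
import Cfsg.Agent.Lib.Helper7_Basic

set_option autoImplicit false
open Cfsg

namespace Cfsg.Agent.S4219

open Cfsg.Agent.Lib.Helper7_Basic
open scoped Pointwise

theorem key {G : Type*} [Group G] [Finite G] {α : Type*} [Fintype α] [MulAction G α] {t : ℕ}
    (hG : MulAction.IsMultiplyPretransitive G α t) (x : Fin t ↪ α) {p : ℕ} [Fact p.Prime]
    (H : Subgroup G) (hH : H = MulAction.stabilizer G x)
    (P : Sylow p H) (a : Fin t ↪ α)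
    (ha : ∀ i, a i ∈ MulAction.fixedPoints ((P : Subgroup H).map H.subtype) α) :
    ∃ n ∈ Subgroup.normalizer ((((P : Subgroup H).map H.subtype) : Subgroup G) : Set G), n • x = a := by
  classical
  haveI : MulAction.IsPretransitive G (Fin t ↪ α) := hG
  set P' : Subgroup G := (P : Subgroup H).map H.subtype with hP'
  obtain ⟨g₁, hg₁⟩ := MulAction.exists_smul_eq G x a
  have hP'H : P' ≤ H := by
    rw [hP']
    exact Subgroup.map_subtype_le _
  have hP'mem : ∀ w : G, w ∈ P' ↔ ∃ hw : w ∈ H, (⟨w, hw⟩ : H) ∈ P := by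
    intro w
    rw [hP', Subgroup.mem_map]
    constructor
    · rintro ⟨z, hz, rfl⟩
      exact ⟨z.2, hz⟩
    · rintro ⟨hw, hz⟩
      exact ⟨⟨w, hw⟩, hz, rfl⟩
  -- elements of P' fix a
  have hfa : ∀ y ∈ P', y • a = a := by
    intro y hy
    ext i
    rw [Function.Embedding.smul_apply]
    exact ha i ⟨y, hy⟩
  -- Q = g₁⁻¹ P' g₁ ≤ H
  set Q : Subgroup G := MulAut.conj g₁⁻¹ • P' with hQ
  have hQmem : ∀ z : G, z ∈ Q ↔ g₁ * z * g₁⁻¹ ∈ P' := by
    intro z
    rw [hQ, mem_conj_smul, inv_inv]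
  have hQH : Q ≤ H := by
    intro z hz
    rw [hQmem] at hz
    have h1 := hfa _ hz
    rw [hH, MulAction.mem_stabilizer_iff]
    rw [← hg₁, mul_smul, mul_smul, inv_smul_smul] at h1
    exact smul_left_cancel g₁ h1
  -- cardinalities
  have hcardP' : Nat.card P' = Nat.card (P : Subgroup H) := by
    rw [hP']
    exact Subgroup.card_map_of_injective H.subtype_injective
  have hcardQ : Nat.card Q = Nat.card P' := by
    rw [hQ]
    exact Nat.card_congr (Subgroup.equivSMul (MulAut.conj g₁⁻¹) P').toEquiv.symm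
  have hcardQ' : Nat.card (Q.subgroupOf H) = Nat.card Q :=
    Nat.card_congr (Subgroup.subgroupOfEquivOfLe hQH).toEquiv
  let Q' : Sylow p H := Sylow.ofCard (Q.subgroupOf H) (by
    rw [hcardQ', hcardQ, hcardP', Sylow.card_eq_multiplicity])
  have hQ'coe : (Q' : Subgroup H) = Q.subgroupOf H := Sylow.coe_ofCard _ _
  obtain ⟨h, hh⟩ := MulAction.exists_smul_eq H P Q'
  have hQ'mem : ∀ z : H, z ∈ Q' ↔ h⁻¹ * z * h ∈ P := by
    intro z
    rw [← hh]
    exact mem_smul_sylow h z P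
  have hQ'mem2 : ∀ z : H, z ∈ Q' ↔ (z : G) ∈ Q := by
    intro z
    have : z ∈ Q' ↔ z ∈ (Q' : Subgroup H) := Iff.rfl
    rw [this, hQ'coe, Subgroup.mem_subgroupOf]
  refine ⟨g₁ * (h : G), ?_, ?_⟩
  · rw [Subgroup.mem_normalizer_iff]
    intro y
    constructor
    · intro hy
      obtain ⟨hyH, hyP⟩ := (hP'mem y).mp hy
      -- z = h y h⁻¹
      have hz : h * ⟨y, hyH⟩ * h⁻¹ ∈ Q' := by
        rw [hQ'mem]
        have : h⁻¹ * (h * ⟨y, hyH⟩ * h⁻¹) * h = ⟨y, hyH⟩ := by group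
        rw [this]; exact hyP
      rw [hQ'mem2, hQmem] at hz
      have e : g₁ * (h : G) * y * (g₁ * (h : G))⁻¹ = g₁ * ((h : G) * y * (h : G)⁻¹) * g₁⁻¹ := by group
      rw [e]
      exact hz
    · intro hy
      have e : g₁ * (h : G) * y * (g₁ * (h : G))⁻¹ = g₁ * ((h : G) * y * (h : G)⁻¹) * g₁⁻¹ := by group
      rw [e, ← hQmem] at hy
      have hzH : (h : G) * y * (h : G)⁻¹ ∈ H := hQH hy
      have hz : (⟨(h : G) * y * (h : G)⁻¹, hzH⟩ : H) ∈ Q' := by
        rw [hQ'mem2]; exact hy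
      rw [hQ'mem] at hz
      rw [hP'mem]
      have hyH : y ∈ H := by
        have := H.mul_mem (H.mul_mem (H.inv_mem h.2) hzH) h.2
        have e2 : (h : G)⁻¹ * ((h : G) * y * (h : G)⁻¹) * (h : G) = y := by group
        rwa [e2] at this
      refine ⟨hyH, ?_⟩
      have e3 : h⁻¹ * (⟨(h : G) * y * (h : G)⁻¹, hzH⟩ : H) * h = ⟨y, hyH⟩ := by
        apply Subtype.ext
        show (h : G)⁻¹ * ((h : G) * y * (h : G)⁻¹) * (h : G) = y
        group
      rw [e3] at hz
      exact hz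
  · rw [mul_smul]
    have : (h : G) • x = x := by
      have h2 : (h : G) ∈ MulAction.stabilizer G x := hH ▸ h.2
      exact MulAction.mem_stabilizer_iff.mp h2
    rw [this, hg₁]

theorem result {G : Type*} [Group G] [Finite G] {α : Type*} [Fintype α] [MulAction G α] {t : ℕ} (hG : MulAction.IsMultiplyPretransitive G α t) (x : Fin t ↪ α) {p : ℕ} [Fact p.Prime] (P : Sylow p (MulAction.stabilizer G x)) (a b : Fin t ↪ α) (ha : ∀ i, a i ∈ MulAction.fixedPoints ((P : Subgroup (MulAction.stabilizer G x)).map (MulAction.stabilizer G x).subtype) α) (hb : ∀ i, b i ∈ MulAction.fixedPoints ((P : Subgroup (MulAction.stabilizer G x)).map (MulAction.stabilizer G x).subtype) α) : ∃ g ∈ Subgroup.normalizer ((((P : Subgroup (MulAction.stabilizer G x)).map (MulAction.stabilizer G x).subtype) : Subgroup G) : Set G), g • a = b := by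
  obtain ⟨n₁, hn₁, h1⟩ := key hG x _ rfl P a ha
  obtain ⟨n₂, hn₂, h2⟩ := key hG x _ rfl P b hb
  refine ⟨n₂ * n₁⁻¹, Subgroup.mul_mem _ hn₂ (Subgroup.inv_mem _ hn₁), ?_⟩
  rw [mul_smul, ← h1, inv_smul_smul, h2]

end Cfsg.Agent.S4219
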