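import Mathlib
import Cfsg.Statements.S4227
import Cfsg.Agent.S0044
import Cfsg.Agent.S0144
import Cfsg.Agent.S0634
import Cfsg.Agent.S3215
import Cfsg.Agent.Lib.Helper7_Eigen3
import Cfsg.Agent.Lib.Lead_Fitting
import Cfsg.Agent.Lib.Helper7_PCore
import Cfsg.Agent.Lib.Helper5_PPrime
import Cfsg.Agent.Lib.Lead_Hall

set_option autoImplicit false

open Cfsg

namespace Cfsg.Agent.S4227

open Cfsg in
/-- with trivial `p'`-core, the Fitting subgroup is the `p`-core -/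
theorem fitting_eq_pCore {H : Type*} [Group H] [Finite H] (p : ℕ) [hp : Fact p.Prime]
    (hO : Cfsg.pPrimeCore p H = ⊥) : Cfsg.fittingSubgroup H = Cfsg.pCore p H := by
  rw [Cfsg.Agent.Lib.Lead_Fitting.fitting_eq]
  apply le_antisymm
  · unfold Cfsg.Agent.Lib.Lead_Fitting.F0
    apply iSup_le
    intro q
    by_cases hqp : (q : ℕ) = p
    · rw [hqp]
    · haveI : Fact (q : ℕ).Prime := ⟨q.2⟩
      have hn : (Cfsg.pCore (q : ℕ) H).Normal := Cfsg.Agent.Lib.Helper7_PCore.pCore_normal _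
      have hq : IsPGroup (q : ℕ) (Cfsg.pCore (q : ℕ) H) :=
        Cfsg.Agent.Lib.Helper7_PCore.pCore_isPGroup _
      obtain ⟨k, hk⟩ := hq.exists_card_eq
      have hcop : (Nat.card (Cfsg.pCore (q : ℕ) H)).Coprime p := by
        rw [hk]
        apply Nat.Coprime.pow_left
        exact (Nat.coprime_primes q.2 hp.out).mpr hqp
      have := Cfsg.Agent.Lib.Helper5_PPrime.le_pPrimeCore (hN := hn) _ hcop
      rw [hO] at this
      exact this.trans bot_le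
  · exact Cfsg.Agent.Lib.Lead_Fitting.pCore_le_F0 p

theorem centralizer_pCore_le' {H : Type*} [Group H] [Finite H] [Group.IsSolvable H] (p : ℕ)
    [hp : Fact p.Prime] (hO : Cfsg.pPrimeCore p H = ⊥) :
    Subgroup.centralizer (Cfsg.pCore p H : Set H) ≤ Cfsg.pCore p H := by
  rw [← fitting_eq_pCore p hO]
  exact Cfsg.Agent.S0044.result

theorem sq_of_two_elt {H : Type*} [Group H] (x : H) (h6 : x ^ 6 = 1) (k : ℕ) (hk : x ^ 2 ^ k = 1) :
    x * x = 1 := by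
  have h1 : orderOf x ∣ 6 := orderOf_dvd_of_pow_eq_one h6
  have h2 : orderOf x ∣ 2 ^ k := orderOf_dvd_of_pow_eq_one hk
  have h3 : orderOf x ∣ 2 := by
    have h4 : orderOf x ∣ Nat.gcd 6 (2 ^ k) := Nat.dvd_gcd h1 h2
    have h5 : Nat.gcd 6 (2 ^ k) ∣ 2 := by
      have : Nat.Coprime 3 (2 ^ k) := Nat.Coprime.pow_right k (by norm_num)
      have h6' : (6 : ℕ) = 3 * 2 := by norm_num
      rw [h6']
      rw [Nat.Coprime.gcd_mul_left_cancel 2 this]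
      exact Nat.gcd_dvd_left _ _
    exact h4.trans h5
  rw [← pow_two]
  exact orderOf_dvd_iff_pow_eq_one.mp h3

theorem cube_of_three_elt {H : Type*} [Group H] (x : H) (h6 : x ^ 6 = 1) (k : ℕ)
    (hk : x ^ 3 ^ k = 1) : x ^ 3 = 1 := by
  have h1 : orderOf x ∣ 6 := orderOf_dvd_of_pow_eq_one h6
  have h2 : orderOf x ∣ 3 ^ k := orderOf_dvd_of_pow_eq_one hk
  have h3 : orderOf x ∣ 3 := by
    have h4 : orderOf x ∣ Nat.gcd 6 (3 ^ k) := Nat.dvd_gcd h1 h2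
    have h5 : Nat.gcd 6 (3 ^ k) ∣ 3 := by
      have : Nat.Coprime 2 (3 ^ k) := Nat.Coprime.pow_right k (by norm_num)
      have h6' : (6 : ℕ) = 2 * 3 := by norm_num
      rw [h6']
      rw [Nat.Coprime.gcd_mul_left_cancel 3 this]
      exact Nat.gcd_dvd_left _ _
    exact h4.trans h5
  exact orderOf_dvd_iff_pow_eq_one.mp h3

/-- the `A₄`-configuration acting on a normal subgroup without involutions gives an element
whose sixth power is nontrivial -/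
theorem a4_contra {H : Type*} [Group H] (Q : Subgroup H) [hQn : Q.Normal]
    (hQ2 : ∀ x ∈ Q, x * x = 1 → x = 1) (hexp : ∀ x : H, x ^ 6 = 1)
    (y e v : H) (hy : y ^ 3 = 1) (hv : v ∈ Q) (hv3 : v ^ 3 = 1) (hv1 : v ≠ 1)
    (h0 : e * v * e⁻¹ = v)
    (h1 : (y * e * y⁻¹) * v * (y * e * y⁻¹)⁻¹ = v⁻¹)
    (h2 : (y * (y * e * y⁻¹) * y⁻¹) * v * (y * (y * e * y⁻¹) * y⁻¹)⁻¹ = v⁻¹) : False := by
  have hy' : y * y * y = 1 := by
    rw [← hy]; simp only [pow_succ, pow_zero, one_mul]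
  have hv3' : v * v * v = 1 := by
    rw [← hv3]; simp only [pow_succ, pow_zero, one_mul]
  have he2 : y * (y * (y * e * y⁻¹) * y⁻¹) * y⁻¹ = e := by
    calc y * (y * (y * e * y⁻¹) * y⁻¹) * y⁻¹ = (y * y * y) * e * (y * y * y)⁻¹ := by group
      _ = e := by rw [hy']; group
  -- v' = y v y⁻¹, v'' = y v' y⁻¹
  have a2 : (y * (y * e * y⁻¹) * y⁻¹) * (y * v * y⁻¹) * (y * (y * e * y⁻¹) * y⁻¹)⁻¹ =
      (y * v * y⁻¹)⁻¹ := by
    calc (y * (y * e * y⁻¹) * y⁻¹) * (y * v * y⁻¹) * (y * (y * e * y⁻¹) * y⁻¹)⁻¹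
        = y * ((y * e * y⁻¹) * v * (y * e * y⁻¹)⁻¹) * y⁻¹ := by group
      _ = y * v⁻¹ * y⁻¹ := by rw [h1]
      _ = (y * v * y⁻¹)⁻¹ := by group
  have a1 : (y * e * y⁻¹) * (y * v * y⁻¹) * (y * e * y⁻¹)⁻¹ = y * v * y⁻¹ := by
    calc (y * e * y⁻¹) * (y * v * y⁻¹) * (y * e * y⁻¹)⁻¹ = y * (e * v * e⁻¹) * y⁻¹ := by group
      _ = y * v * y⁻¹ := by rw [h0]
  have a0 : e * (y * v * y⁻¹) * e⁻¹ = (y * v * y⁻¹)⁻¹ := by
    calc e * (y * v * y⁻¹) * e⁻¹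
        = (y * (y * (y * e * y⁻¹) * y⁻¹) * y⁻¹) * (y * v * y⁻¹) *
            (y * (y * (y * e * y⁻¹) * y⁻¹) * y⁻¹)⁻¹ := by rw [he2]
      _ = y * ((y * (y * e * y⁻¹) * y⁻¹) * v * (y * (y * e * y⁻¹) * y⁻¹)⁻¹) * y⁻¹ := by group
      _ = y * v⁻¹ * y⁻¹ := by rw [h2]
      _ = (y * v * y⁻¹)⁻¹ := by group
  have b2 : (y * (y * e * y⁻¹) * y⁻¹) * (y * (y * v * y⁻¹) * y⁻¹) *
      (y * (y * e * y⁻¹) * y⁻¹)⁻¹ = y * (y * v * y⁻¹) * y⁻¹ := by
    calc (y * (y * e * y⁻¹) * y⁻¹) * (y * (y * v * y⁻¹) * y⁻¹) * (y * (y * e * y⁻¹) * y⁻¹)⁻¹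
        = y * ((y * e * y⁻¹) * (y * v * y⁻¹) * (y * e * y⁻¹)⁻¹) * y⁻¹ := by group
      _ = y * (y * v * y⁻¹) * y⁻¹ := by rw [a1]
  -- w
  have hw3 : (v * y) ^ 3 = v * (y * v * y⁻¹) * (y * (y * v * y⁻¹) * y⁻¹) := by
    calc (v * y) ^ 3 = (v * y) * (v * y) * (v * y) := by
          simp only [pow_succ, pow_zero, one_mul]
      _ = v * (y * v * y⁻¹) * (y * (y * v * y⁻¹) * y⁻¹) * (y * y * y) := by group
      _ = v * (y * v * y⁻¹) * (y * (y * v * y⁻¹) * y⁻¹) := by rw [hy', mul_one]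
  have hwQ : v * (y * v * y⁻¹) * (y * (y * v * y⁻¹) * y⁻¹) ∈ Q := by
    have hv' : y * v * y⁻¹ ∈ Q := hQn.conj_mem v hv y
    have hv'' : y * (y * v * y⁻¹) * y⁻¹ ∈ Q := hQn.conj_mem _ hv' y
    exact Q.mul_mem (Q.mul_mem hv hv') hv''
  have hw1 : v * (y * v * y⁻¹) * (y * (y * v * y⁻¹) * y⁻¹) = 1 := by
    apply hQ2 _ hwQ
    have h6 := hexp (v * y)
    have : (v * y) ^ 6 = (v * y) ^ 3 * (v * y) ^ 3 := by rw [← pow_add]
    rw [this, hw3] at h6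
    exact h6
  -- conjugate by e2
  have hc2 : v⁻¹ * (y * v * y⁻¹)⁻¹ * (y * (y * v * y⁻¹) * y⁻¹) = 1 := by
    have : (y * (y * e * y⁻¹) * y⁻¹) * (v * (y * v * y⁻¹) * (y * (y * v * y⁻¹) * y⁻¹)) *
        (y * (y * e * y⁻¹) * y⁻¹)⁻¹ =
        ((y * (y * e * y⁻¹) * y⁻¹) * v * (y * (y * e * y⁻¹) * y⁻¹)⁻¹) *
        ((y * (y * e * y⁻¹) * y⁻¹) * (y * v * y⁻¹) * (y * (y * e * y⁻¹) * y⁻¹)⁻¹) *
        ((y * (y * e * y⁻¹) * y⁻¹) * (y * (y * v * y⁻¹) * y⁻¹) *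
          (y * (y * e * y⁻¹) * y⁻¹)⁻¹) := by group
    rw [h2, a2, b2, hw1] at this
    rw [← this]; group
  have hv'' : y * (y * v * y⁻¹) * y⁻¹ = (y * v * y⁻¹) * v := by
    calc y * (y * v * y⁻¹) * y⁻¹
        = (y * v * y⁻¹) * v * (v⁻¹ * (y * v * y⁻¹)⁻¹ * (y * (y * v * y⁻¹) * y⁻¹)) := by group
      _ = (y * v * y⁻¹) * v := by rw [hc2, mul_one]
  rw [hv''] at hw1
  -- v v' v' v = 1
  have hv'3 : (y * v * y⁻¹) * (y * v * y⁻¹) * (y * v * y⁻¹) = 1 := by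
    calc (y * v * y⁻¹) * (y * v * y⁻¹) * (y * v * y⁻¹) = y * (v * v * v) * y⁻¹ := by group
      _ = 1 := by rw [hv3']; group
  have h5 : (y * v * y⁻¹)⁻¹ = v := by
    have e1 : (y * v * y⁻¹) * (y * v * y⁻¹) = v⁻¹ * v⁻¹ := by
      calc (y * v * y⁻¹) * (y * v * y⁻¹)
          = v⁻¹ * (v * (y * v * y⁻¹) * ((y * v * y⁻¹) * v)) * v⁻¹ := by group
        _ = v⁻¹ * v⁻¹ := by rw [hw1, mul_one]
    have e2 : v⁻¹ * v⁻¹ = v := by
      calc v⁻¹ * v⁻¹ = (v * v * v) * (v⁻¹ * v⁻¹) := by rw [hv3', one_mul]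
        _ = v := by group
    have e3 : (y * v * y⁻¹) * (y * v * y⁻¹) = (y * v * y⁻¹)⁻¹ := by
      calc (y * v * y⁻¹) * (y * v * y⁻¹)
          = ((y * v * y⁻¹) * (y * v * y⁻¹) * (y * v * y⁻¹)) * (y * v * y⁻¹)⁻¹ := by group
        _ = (y * v * y⁻¹)⁻¹ := by rw [hv'3, one_mul]
    rw [← e3, e1, e2]
  have h6 : v = v⁻¹ := by
    have h7 : y * v * y⁻¹ = v⁻¹ := by
      have := congrArg Inv.inv h5
      rwa [inv_inv] at this
    have h8 := a0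
    rw [h5, h7] at h8
    have h9 : e * v⁻¹ * e⁻¹ = (e * v * e⁻¹)⁻¹ := by group
    rw [h9, h0] at h8
    exact h8.symm
  apply hv1
  apply hQ2 v hv
  calc v * v = v⁻¹ * v := by rw [← h6]
    _ = 1 := by group

theorem core2 {H : Type*} [Group H] [Finite H] [Group.IsSolvable H] (hexp : ∀ x : H, x ^ 6 = 1)
    (hO : Cfsg.pPrimeCore 2 H = ⊥) (S : Sylow 2 H) : (S : Subgroup H) ≤ Cfsg.pCore 2 H := by
  haveI : Fact (Nat.Prime 2) := ⟨Nat.prime_two⟩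
  have hCQ := centralizer_pCore_le' 2 hO
  have hQS := Cfsg.Agent.Lib.Helper7_PCore.pCore_le_sylow S
  have hsq : ∀ s ∈ (S : Subgroup H), s * s = 1 := by
    intro s hs
    obtain ⟨k, hk⟩ := S.isPGroup' ⟨s, hs⟩
    have hk' : s ^ 2 ^ k = 1 := by simpa using congrArg Subtype.val hk
    exact sq_of_two_elt s (hexp s) k hk'
  intro s hs
  apply hCQ
  rw [Subgroup.mem_centralizer_iff]
  intro q hq
  have hq' := hQS hq
  have h1 := hsq _ (S.mul_mem hq' hs)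
  have hqi : q⁻¹ = q := inv_eq_of_mul_eq_one_left (hsq q hq')
  have hsi : s⁻¹ = s := inv_eq_of_mul_eq_one_left (hsq s hs)
  calc q * s = (q * s)⁻¹ := (inv_eq_of_mul_eq_one_left h1).symm
    _ = s⁻¹ * q⁻¹ := mul_inv_rev _ _
    _ = s * q := by rw [hqi, hsi]

theorem no_invol_of_three_group {H : Type*} [Group H] (Q : Subgroup H) (hQp : IsPGroup 3 Q) :
    ∀ x ∈ Q, x * x = 1 → x = 1 := by
  intro x hx hxx
  obtain ⟨k, hk⟩ := hQp ⟨x, hx⟩
  have hk' : x ^ 3 ^ k = 1 := by simpa using congrArg Subtype.val hk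
  have h1 : orderOf x ∣ 2 := orderOf_dvd_of_pow_eq_one (by rw [pow_two]; exact hxx)
  have h2 : orderOf x ∣ 3 ^ k := orderOf_dvd_of_pow_eq_one hk'
  have h3 : orderOf x ∣ Nat.gcd 2 (3 ^ k) := Nat.dvd_gcd h1 h2
  have : Nat.Coprime 2 (3 ^ k) := Nat.Coprime.pow_right k (by norm_num)
  rw [this] at h3
  exact orderOf_eq_one_iff.mp (Nat.dvd_one.mp h3)

theorem sylow_comap_surj {H : Type*} [Group H] [Finite H] (p : ℕ) [Fact p.Prime] (N : Subgroup H)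
    [N.Normal] (R : Subgroup (H ⧸ N)) (hR : IsPGroup p R)
    (T : Sylow p ↥(R.comap (QuotientGroup.mk' N))) :
    ∀ r ∈ R, ∃ t : ↥(R.comap (QuotientGroup.mk' N)), t ∈ T ∧ QuotientGroup.mk' N (t : H) = r := by
  intro r hr
  have hf := MonoidHom.subgroupComap_surjective_of_surjective (QuotientGroup.mk' N) R
    (QuotientGroup.mk'_surjective N)
  have htop : ((T.mapSurjective hf : Sylow p ↥R) : Subgroup ↥R) = ⊤ := by
    have h1 : IsPGroup p (⊤ : Subgroup ↥R) := hR.to_subgroup ⊤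
    exact ((T.mapSurjective hf).is_maximal' h1 le_top).symm
  have hmem : (⟨r, hr⟩ : ↥R) ∈ ((T.mapSurjective hf : Sylow p ↥R) : Subgroup ↥R) := by
    rw [htop]; trivial
  rw [Sylow.coe_mapSurjective] at hmem
  obtain ⟨t, ht, hft⟩ := hmem
  exact ⟨t, ht, congrArg Subtype.val hft⟩

/-- quotient facts -/
theorem quotient_facts {H : Type*} [Group H] [Finite H] [Group.IsSolvable H]
    (hexp : ∀ x : H, x ^ 6 = 1) [hQn : (Cfsg.pCore 3 H).Normal] :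
    (∀ x : H ⧸ Cfsg.pCore 3 H, x ^ 6 = 1) ∧
    Subgroup.centralizer (Cfsg.pCore 2 (H ⧸ Cfsg.pCore 3 H) : Set (H ⧸ Cfsg.pCore 3 H)) ≤
      Cfsg.pCore 2 (H ⧸ Cfsg.pCore 3 H) := by
  haveI : Fact (Nat.Prime 2) := ⟨Nat.prime_two⟩
  haveI : Fact (Nat.Prime 3) := ⟨Nat.prime_three⟩
  have hK3 : Cfsg.pCore 3 (H ⧸ Cfsg.pCore 3 H) = ⊥ := Cfsg.Agent.S3215.pCore_quotient_pCore 3
  have hKexp : ∀ x : H ⧸ Cfsg.pCore 3 H, x ^ 6 = 1 := by
    intro x
    obtain ⟨g, rfl⟩ := QuotientGroup.mk'_surjective _ x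
    rw [← map_pow, hexp, map_one]
  refine ⟨hKexp, ?_⟩
  have hKO : Cfsg.pPrimeCore 2 (H ⧸ Cfsg.pCore 3 H) = ⊥ := by
    rw [eq_bot_iff]
    apply sSup_le
    rintro N ⟨hNn, hNc⟩
    rw [← hK3]
    apply Cfsg.Agent.Lib.Helper7_PCore.le_pCore hNn
    intro x
    refine ⟨1, ?_⟩
    rw [pow_one]
    have h6 : (x : H ⧸ Cfsg.pCore 3 H) ^ 6 = 1 := hKexp x
    have h1 : orderOf (x : H ⧸ Cfsg.pCore 3 H) ∣ 6 := orderOf_dvd_of_pow_eq_one h6
    have h2 : orderOf (x : H ⧸ Cfsg.pCore 3 H) ∣ Nat.card N := by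
      rw [Subgroup.orderOf_coe]; exact orderOf_dvd_natCard x
    have h3 : orderOf (x : H ⧸ Cfsg.pCore 3 H) ∣ 3 := by
      have hc : Nat.Coprime (orderOf (x : H ⧸ Cfsg.pCore 3 H)) 2 :=
        Nat.Coprime.coprime_dvd_left h2 hNc
      have h6' : orderOf (x : H ⧸ Cfsg.pCore 3 H) ∣ 2 * 3 := h1
      exact hc.dvd_of_dvd_mul_left h6'
    apply Subtype.ext
    rw [Subgroup.coe_pow, Subgroup.coe_one]
    exact orderOf_dvd_iff_pow_eq_one.mp h3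
  exact centralizer_pCore_le' 2 hKO

set_option maxHeartbeats 800000 in
theorem core3 {H : Type*} [Group H] [Finite H] [Group.IsSolvable H] (hexp : ∀ x : H, x ^ 6 = 1)
    (hO : Cfsg.pPrimeCore 3 H = ⊥) (P : Sylow 3 H) : (P : Subgroup H) ≤ Cfsg.pCore 3 H := by
  classical
  haveI : Fact (Nat.Prime 2) := ⟨Nat.prime_two⟩
  haveI : Fact (Nat.Prime 3) := ⟨Nat.prime_three⟩
  haveI hQn : (Cfsg.pCore 3 H).Normal := Cfsg.Agent.Lib.Helper7_PCore.pCore_normal 3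
  have hQp : IsPGroup 3 (Cfsg.pCore 3 H) := Cfsg.Agent.Lib.Helper7_PCore.pCore_isPGroup 3
  have hCQ := centralizer_pCore_le' 3 hO
  have hQ2 := no_invol_of_three_group _ hQp
  obtain ⟨hKexp, hCR⟩ := quotient_facts hexp
  have hRp : IsPGroup 2 (Cfsg.pCore 2 (H ⧸ Cfsg.pCore 3 H)) :=
    Cfsg.Agent.Lib.Helper7_PCore.pCore_isPGroup 2
  haveI hRn : (Cfsg.pCore 2 (H ⧸ Cfsg.pCore 3 H)).Normal :=
    Cfsg.Agent.Lib.Helper7_PCore.pCore_normal 2
  by_contra hcon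
  obtain ⟨y₀, hy₀P, hy₀Q⟩ := Set.not_subset.mp hcon
  have hy₀3 : y₀ ^ 3 = 1 := by
    obtain ⟨k, hk⟩ := P.isPGroup' ⟨y₀, hy₀P⟩
    have hk' : y₀ ^ 3 ^ k = 1 := by simpa using congrArg Subtype.val hk
    exact cube_of_three_elt y₀ (hexp y₀) k hk'
  -- M and its Sylow 2-subgroup
  haveI hMn : ((Cfsg.pCore 2 (H ⧸ Cfsg.pCore 3 H)).comap
      (QuotientGroup.mk' (Cfsg.pCore 3 H))).Normal := hRn.comap _
  obtain ⟨T⟩ : Nonempty (Sylow 2 ↥((Cfsg.pCore 2 (H ⧸ Cfsg.pCore 3 H)).comap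
      (QuotientGroup.mk' (Cfsg.pCore 3 H)))) := inferInstance
  have hTsurj := sylow_comap_surj 2 (Cfsg.pCore 3 H) _ hRp T
  have hfrat := Sylow.normalizer_sup_eq_top T
  -- membership in M
  have hmemM : ∀ g : H, g ∈ (Cfsg.pCore 2 (H ⧸ Cfsg.pCore 3 H)).comap
      (QuotientGroup.mk' (Cfsg.pCore 3 H)) ↔
      QuotientGroup.mk' (Cfsg.pCore 3 H) g ∈ Cfsg.pCore 2 (H ⧸ Cfsg.pCore 3 H) := fun g => Iff.rfl
  -- 3-elements of M lie in Q
  have h3M : ∀ g : H, g ^ 3 = 1 → g ∈ (Cfsg.pCore 2 (H ⧸ Cfsg.pCore 3 H)).comap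
      (QuotientGroup.mk' (Cfsg.pCore 3 H)) → g ∈ Cfsg.pCore 3 H := by
    intro g hg3 hgM
    rw [hmemM] at hgM
    obtain ⟨k, hk⟩ := hRp ⟨_, hgM⟩
    have hk' : (QuotientGroup.mk' (Cfsg.pCore 3 H) g) ^ 2 ^ k = 1 := by
      simpa using congrArg Subtype.val hk
    have h3' : (QuotientGroup.mk' (Cfsg.pCore 3 H) g) ^ 3 = 1 := by
      rw [← map_pow, hg3, map_one]
    have h1 : orderOf (QuotientGroup.mk' (Cfsg.pCore 3 H) g) ∣ Nat.gcd 3 (2 ^ k) :=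
      Nat.dvd_gcd (orderOf_dvd_of_pow_eq_one h3') (orderOf_dvd_of_pow_eq_one hk')
    have : Nat.Coprime 3 (2 ^ k) := Nat.Coprime.pow_right k (by norm_num)
    rw [this] at h1
    have h2 := orderOf_eq_one_iff.mp (Nat.dvd_one.mp h1)
    exact (QuotientGroup.eq_one_iff g).mp h2
  -- Frattini decomposition of y₀
  have hy₀top : y₀ ∈ Subgroup.normalizer
      ((Subgroup.map ((Cfsg.pCore 2 (H ⧸ Cfsg.pCore 3 H)).comap
        (QuotientGroup.mk' (Cfsg.pCore 3 H))).subtype (T : Subgroup _) : Subgroup H) : Set H) ⊔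
      (Cfsg.pCore 2 (H ⧸ Cfsg.pCore 3 H)).comap (QuotientGroup.mk' (Cfsg.pCore 3 H)) := by
    rw [hfrat]; trivial
  obtain ⟨n, hn, m, hm, hnm⟩ := Subgroup.mem_sup_of_normal_right.mp hy₀top
  -- T' and its properties
  set T' : Subgroup H := Subgroup.map ((Cfsg.pCore 2 (H ⧸ Cfsg.pCore 3 H)).comap
        (QuotientGroup.mk' (Cfsg.pCore 3 H))).subtype (T : Subgroup _) with hT'
  have hT'M : T' ≤ (Cfsg.pCore 2 (H ⧸ Cfsg.pCore 3 H)).comap
      (QuotientGroup.mk' (Cfsg.pCore 3 H)) := Subgroup.map_subtype_le _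
  have hT'sq : ∀ t ∈ T', t * t = 1 := by
    rintro _ ⟨t, ht, rfl⟩
    obtain ⟨k, hk⟩ := T.isPGroup' ⟨t, ht⟩
    have hk' : ((t : H)) ^ 2 ^ k = 1 := by
      have := congrArg Subtype.val (congrArg Subtype.val hk)
      simpa using this
    exact sq_of_two_elt _ (hexp _) k hk'
  have hT'inv : ∀ t ∈ T', t⁻¹ = t := fun t ht => inv_eq_of_mul_eq_one_left (hT'sq t ht)
  have hT'c : ∀ a ∈ T', ∀ b ∈ T', a * b = b * a := by
    intro a ha b hb
    have h1 := hT'sq _ (T'.mul_mem ha hb)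
    calc a * b = (a * b)⁻¹ := (inv_eq_of_mul_eq_one_left h1).symm
      _ = b⁻¹ * a⁻¹ := mul_inv_rev _ _
      _ = b * a := by rw [hT'inv a ha, hT'inv b hb]
  have hT'surj : ∀ r ∈ Cfsg.pCore 2 (H ⧸ Cfsg.pCore 3 H), ∃ t ∈ T',
      QuotientGroup.mk' (Cfsg.pCore 3 H) t = r := by
    intro r hr
    obtain ⟨t, ht, htr⟩ := hTsurj r hr
    exact ⟨t, ⟨t, ht, rfl⟩, htr⟩
  -- the element y
  have hy3 : (n ^ 4) ^ 3 = 1 := by
    rw [← pow_mul]
    have : n ^ (4 * 3) = (n ^ 6) ^ 2 := by rw [← pow_mul]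
    rw [this, hexp, one_pow]
  have hyN : n ^ 4 ∈ Subgroup.normalizer (T' : Set H) := Subgroup.pow_mem _ hn 4
  have hyM : n ^ 4 ∉ (Cfsg.pCore 2 (H ⧸ Cfsg.pCore 3 H)).comap
      (QuotientGroup.mk' (Cfsg.pCore 3 H)) := by
    intro hyM
    apply hy₀Q
    apply h3M y₀ hy₀3
    -- y₀ = y₀^4 = (n m)^4 ∈ n^4 M
    have h4 : y₀ ^ 4 = y₀ := by
      calc y₀ ^ 4 = y₀ ^ 3 * y₀ := pow_succ y₀ 3
        _ = y₀ := by rw [hy₀3, one_mul]
    rw [← h4, ← hnm]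
    -- in the quotient by M
    have hq : (QuotientGroup.mk' ((Cfsg.pCore 2 (H ⧸ Cfsg.pCore 3 H)).comap
        (QuotientGroup.mk' (Cfsg.pCore 3 H)))) ((n * m) ^ 4) = 1 := by
      rw [map_pow, map_mul]
      have hm1 : (QuotientGroup.mk' ((Cfsg.pCore 2 (H ⧸ Cfsg.pCore 3 H)).comap
        (QuotientGroup.mk' (Cfsg.pCore 3 H)))) m = 1 := (QuotientGroup.eq_one_iff m).mpr hm
      rw [hm1, mul_one, ← map_pow]
      exact (QuotientGroup.eq_one_iff _).mpr hyM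
    exact (QuotientGroup.eq_one_iff _).mp hq
  -- y does not centralize T'
  have hex : ∃ r ∈ T', n ^ 4 * r * (n ^ 4)⁻¹ ≠ r := by
    by_contra hall
    push Not at hall
    apply hyM
    rw [hmemM]
    apply hCR
    rw [Subgroup.mem_centralizer_iff]
    intro r hr
    obtain ⟨t, ht, rfl⟩ := hT'surj r hr
    rw [← map_mul, ← map_mul]
    congr 1
    have := hall t ht
    calc t * n ^ 4 = (n ^ 4 * t * (n ^ 4)⁻¹) * n ^ 4 := by rw [this]
      _ = n ^ 4 * t := by group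
  obtain ⟨r, hrT, hry⟩ := hex
  obtain ⟨y, hydef⟩ : ∃ y, y = n ^ 4 := ⟨_, rfl⟩
  rw [← hydef] at hy3 hyN hyM hry
  have hy3' : y * y * y = 1 := by
    rw [← hy3]; simp only [pow_succ, pow_zero, one_mul]
  have hyT : ∀ t ∈ T', y * t * y⁻¹ ∈ T' := fun t ht =>
    (Subgroup.mem_normalizer_iff.mp hyN t).mp ht
  obtain ⟨s, hsdef⟩ : ∃ s, s = r * (y * r * y⁻¹) := ⟨_, rfl⟩
  obtain ⟨s', hs'def⟩ : ∃ s', s' = y * s * y⁻¹ := ⟨_, rfl⟩
  obtain ⟨s'', hs''def⟩ : ∃ s'', s'' = y * s' * y⁻¹ := ⟨_, rfl⟩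
  have hsT : s ∈ T' := by rw [hsdef]; exact T'.mul_mem hrT (hyT r hrT)
  have hs'T : s' ∈ T' := by rw [hs'def]; exact hyT s hsT
  have hs''T : s'' ∈ T' := by rw [hs''def]; exact hyT s' hs'T
  have hs1 : s ≠ 1 := by
    intro h
    apply hry
    rw [hsdef] at h
    have h1 : y * r * y⁻¹ = r⁻¹ := (inv_eq_of_mul_eq_one_right h).symm
    rw [h1, hT'inv r hrT]
  have hys'' : y * s'' * y⁻¹ = s := by
    rw [hs''def, hs'def]
    calc y * (y * (y * s * y⁻¹) * y⁻¹) * y⁻¹ = (y * y * y) * s * (y * y * y)⁻¹ := by group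
      _ = s := by rw [hy3']; group
  have hprod : s * s' * s'' = 1 := by
    have h1 : (y * r * y⁻¹) * (y * r * y⁻¹) = 1 := hT'sq _ (hyT r hrT)
    have h2 : (y * (y * r * y⁻¹) * y⁻¹) * (y * (y * r * y⁻¹) * y⁻¹) = 1 :=
      hT'sq _ (hyT _ (hyT r hrT))
    have h3 : y * (y * (y * r * y⁻¹) * y⁻¹) * y⁻¹ = r := by
      calc y * (y * (y * r * y⁻¹) * y⁻¹) * y⁻¹ = (y * y * y) * r * (y * y * y)⁻¹ := by group
        _ = r := by rw [hy3']; group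
    rw [hs''def, hs'def, hsdef]
    calc r * (y * r * y⁻¹) * (y * (r * (y * r * y⁻¹)) * y⁻¹) *
          (y * (y * (r * (y * r * y⁻¹)) * y⁻¹) * y⁻¹)
        = r * ((y * r * y⁻¹) * (y * r * y⁻¹)) *
          ((y * (y * r * y⁻¹) * y⁻¹) * (y * (y * r * y⁻¹) * y⁻¹)) *
          (y * (y * (y * r * y⁻¹) * y⁻¹) * y⁻¹) := by group
      _ = 1 := by rw [h1, h2, h3, mul_one, mul_one]; exact hT'sq r hrT
  have hs''eq : s'' = s * s' := by
    have h1 : s'' = (s * s')⁻¹ := (inv_eq_of_mul_eq_one_right hprod).symm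
    rw [h1, hT'inv _ (T'.mul_mem hsT hs'T)]
  -- T' acts faithfully on Q
  have hTQ : T' ≤ Subgroup.normalizer ((Cfsg.pCore 3 H : Subgroup H) : Set H) := by
    rw [Subgroup.normalizer_eq_top]; exact le_top
  have hfaith : ∀ a ∈ T', (∀ f ∈ Cfsg.pCore 3 H, a * f = f * a) → a = 1 := by
    intro a ha hcen
    have h1 : a ∈ Subgroup.centralizer ((Cfsg.pCore 3 H : Subgroup H) : Set H) := by
      rw [Subgroup.mem_centralizer_iff]
      intro f hf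
      exact (hcen f hf).symm
    exact hQ2 a (hCQ h1) (hT'sq a ha)
  have hQnil : Group.IsNilpotent ↥(Cfsg.pCore 3 H) := hQp.isNilpotent
  obtain ⟨B, hBQ, hBab, hTB, hBf⟩ := Cfsg.Agent.Lib.Helper7_Eigen.exists_faithful_abelian T'
    (Cfsg.pCore 3 H) hT'c hT'sq hQnil hQ2 hTQ hfaith
  have hexu : ∃ u ∈ B, s * u ≠ u * s := by
    by_contra hall
    apply hs1
    apply hBf s hsT
    intro b hb
    by_contra hne
    exact hall ⟨b, hb, hne⟩
  obtain ⟨u, huB, hsu⟩ := hexu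
  obtain ⟨v, hvB, hvp, hsv, hsv', hve⟩ := Cfsg.Agent.Lib.Helper7_Eigen.exists_inverted_eigen T' B
    hT'c hT'sq hBab (fun x hx => hQ2 x (hBQ hx)) hTB s hsT u huB hsu
  have hvQ : v ∈ Cfsg.pCore 3 H := hBQ hvB
  have hv1 : v ≠ 1 := by
    intro h
    rw [h, orderOf_one] at hvp
    exact Nat.not_prime_one hvp
  have hv3 : v ^ 3 = 1 := by
    obtain ⟨k, hk⟩ := hQp ⟨v, hvQ⟩
    have hk' : v ^ 3 ^ k = 1 := by simpa using congrArg Subtype.val hk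
    exact cube_of_three_elt v (hexp v) k hk'
  have hs''v : s'' * v * s''⁻¹ = s * (s' * v * s'⁻¹) * s⁻¹ := by
    rw [hs''eq]; group
  rcases hve s' hs'T with h | h
  · -- s' centralizes v, s'' inverts
    have h2 : s'' * v * s''⁻¹ = v⁻¹ := by rw [hs''v, h, hsv]
    apply a4_contra (Cfsg.pCore 3 H) hQ2 hexp y s' v hy3 hvQ hv3 hv1 h
    · rw [← hs''def]; exact h2
    · rw [← hs''def, hys'']; exact hsv
  · -- s' inverts v, s'' centralizes
    have h2 : s'' * v * s''⁻¹ = v := by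
      rw [hs''v, h]
      have : s * v⁻¹ * s⁻¹ = (s * v * s⁻¹)⁻¹ := by group
      rw [this, hsv, inv_inv]
    apply a4_contra (Cfsg.pCore 3 H) hQ2 hexp y s'' v hy3 hvQ hv3 hv1 h2
    · rw [hys'']; exact hsv
    · rw [hys'', ← hs'def]; exact h

theorem solvable_of_exp6 {G : Type*} [Group G] [Finite G] (h : ∀ x : G, x ^ 6 = 1) :
    Group.IsSolvable G := by
  have hn0 : Nat.card G ≠ 0 := Nat.card_pos.ne'
  obtain ⟨a, m, hmodd, hn⟩ := Nat.exists_eq_two_pow_mul_odd hn0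
  have hm0 : m ≠ 0 := by
    intro h0; rw [h0, mul_zero] at hn; exact hn0 hn
  obtain ⟨b, m', hm'3, hm⟩ := Nat.exists_eq_pow_mul_and_not_dvd hm0 3 (by norm_num)
  have hm'1 : m' = 1 := by
    by_contra hne
    obtain ⟨q, hq, hqm'⟩ := Nat.exists_prime_and_dvd hne
    have hqn : q ∣ Nat.card G := by
      rw [hn, hm]
      exact Dvd.dvd.mul_left (Dvd.dvd.mul_left hqm' _) _
    haveI : Fact q.Prime := ⟨hq⟩
    obtain ⟨x, hx⟩ := exists_prime_orderOf_dvd_card' q hqn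
    have h6 : q ∣ 6 := by
      rw [← hx]; exact orderOf_dvd_of_pow_eq_one (h x)
    have hq23 : q = 2 ∨ q = 3 := by
      have : q ∣ 2 * 3 := h6
      rcases (Nat.Prime.dvd_mul hq).mp this with h2 | h3
      · left; exact (Nat.prime_dvd_prime_iff_eq hq Nat.prime_two).mp h2
      · right; exact (Nat.prime_dvd_prime_iff_eq hq Nat.prime_three).mp h3
    rcases hq23 with rfl | rfl
    · have : 2 ∣ m := by rw [hm]; exact Dvd.dvd.mul_left hqm' _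
      obtain ⟨k, hk⟩ := hmodd
      omega
    · exact hm'3 hqm'
  rw [hm, hm'1, mul_one] at hn
  exact Cfsg.Agent.S0144.result 2 3 a b Nat.prime_two Nat.prime_three hn

theorem plength_of_core {G : Type*} [Group G] [Finite G] (p : ℕ) [hp : Fact p.Prime]
    (hcore : ∀ S : Sylow p (G ⧸ (Cfsg.upperPSeries p G (2 * 0 + 1)).1),
      (S : Subgroup (G ⧸ (Cfsg.upperPSeries p G (2 * 0 + 1)).1)) ≤
        Cfsg.pCore p (G ⧸ (Cfsg.upperPSeries p G (2 * 0 + 1)).1)) :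
    Cfsg.PLengthLE p 1 G := by
  have hpp := hp.out
  unfold Cfsg.PLengthLE
  rw [Cfsg.Agent.S0634.upper_odd p 1]
  have h2 : (Cfsg.upperPSeries p G (2 * 1)).1 =
      (Cfsg.pCore p (G ⧸ (Cfsg.upperPSeries p G (2 * 0 + 1)).1)).comap
        (QuotientGroup.mk' (Cfsg.upperPSeries p G (2 * 0 + 1)).1) :=
    Cfsg.Agent.S0634.upper_even p 0
  obtain ⟨S⟩ : Nonempty (Sylow p (G ⧸ (Cfsg.upperPSeries p G (2 * 0 + 1)).1)) := inferInstance
  have hidx : ¬ p ∣ (Cfsg.upperPSeries p G (2 * 1)).1.index := by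
    rw [h2, Subgroup.index_comap_of_surjective _ (QuotientGroup.mk'_surjective _)]
    intro hdvd
    exact S.not_dvd_index (hdvd.trans (Subgroup.index_dvd_of_le (hcore S)))
  have htop : Cfsg.pPrimeCore p (G ⧸ (Cfsg.upperPSeries p G (2 * 1)).1) = ⊤ := by
    rw [eq_top_iff]
    apply Cfsg.Agent.Lib.Helper5_PPrime.le_pPrimeCore
    rw [Subgroup.card_top, ← Subgroup.index_eq_card]
    exact (Nat.Coprime.symm ((Nat.Prime.coprime_iff_not_dvd hpp).mpr hidx))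
  rw [htop, Subgroup.comap_top]

/-- A finite group in which every element has order dividing `6` has `2`-length at most `1` and `3`-length at most `1`. -/
theorem result {G : Type*} [Group G] [Finite G] (h : ∀ x : G, x ^ 6 = 1) : Cfsg.PLengthLE 2 1 G ∧ Cfsg.PLengthLE 3 1 G := by
  classical
  haveI : Fact (Nat.Prime 2) := ⟨Nat.prime_two⟩
  haveI : Fact (Nat.Prime 3) := ⟨Nat.prime_three⟩
  haveI hsol : Group.IsSolvable G := solvable_of_exp6 h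
  have hexpQ : ∀ (N : Subgroup G) [N.Normal], ∀ x : G ⧸ N, x ^ 6 = 1 := by
    intro N _ x
    obtain ⟨g, rfl⟩ := QuotientGroup.mk'_surjective _ x
    rw [← map_pow, h, map_one]
  constructor
  · apply plength_of_core 2
    intro S
    have hO : Cfsg.pPrimeCore 2 (G ⧸ (Cfsg.upperPSeries 2 G (2 * 0 + 1)).1) = ⊥ :=
      Cfsg.Agent.S0634.pPrimeCore_quotient_eq_bot (Cfsg.upperPSeries 2 G (2 * 0)).1
        (Cfsg.upperPSeries 2 G (2 * 0 + 1)).1 (Cfsg.Agent.S0634.upper_odd 2 0)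
    exact core2 (hexpQ _) hO S
  · apply plength_of_core 3
    intro S
    have hO : Cfsg.pPrimeCore 3 (G ⧸ (Cfsg.upperPSeries 3 G (2 * 0 + 1)).1) = ⊥ :=
      Cfsg.Agent.S0634.pPrimeCore_quotient_eq_bot (Cfsg.upperPSeries 3 G (2 * 0)).1
        (Cfsg.upperPSeries 3 G (2 * 0 + 1)).1 (Cfsg.Agent.S0634.upper_odd 3 0)
    exact core3 (hexpQ _) hO S

end Cfsg.Agent.S4227
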