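import Mathlib
import Cfsg.Statements.S4238
import Cfsg.Agent.Lib.Helper7_ExpSection
import Cfsg.Agent.Lib.Helper7_NPC
import Cfsg.Agent.Lib.Helper7_OmegaAut
import Cfsg.Agent.Lib.Helper7_PFrattini
import Cfsg.Agent.Lib.Helper5_Sylow
import Cfsg.Agent.Lib.Helper4_Stab
import Cfsg.Agent.Lib.Lead_Coprime

set_option autoImplicit false
open Cfsg

namespace Cfsg.Agent.S4238

open Cfsg.Agent.Lib Cfsg.Agent.Lib.Helper7_NPC Cfsg.Agent.Lib.Lead_Coprime
open scoped commutatorElement

section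
variable {G : Type*} [Group G]

/-- elements of `Q ⟨g⟩` when `g` normalizes `Q`. -/
theorem mem_sup_zpowers (Q : Subgroup G) (g : G) (hg : g ∈ Subgroup.normalizer (Q : Set G)) :
    ∀ h ∈ Q ⊔ Subgroup.zpowers g, ∃ x ∈ Q, ∃ i : ℤ, h = x * g ^ i := by
  have hgi : ∀ i : ℤ, ∀ y ∈ Q, g ^ i * y * (g ^ i)⁻¹ ∈ Q := by
    intro i y hy
    exact (Subgroup.mem_normalizer_iff.mp (Subgroup.zpow_mem _ hg i) y).mp hy
  let T : Subgroup G :=
    { carrier := {h | ∃ x ∈ Q, ∃ i : ℤ, h = x * g ^ i}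
      one_mem' := ⟨1, Q.one_mem, 0, by simp⟩
      mul_mem' := by
        rintro a b ⟨x, hx, i, rfl⟩ ⟨y, hy, j, rfl⟩
        refine ⟨x * (g ^ i * y * (g ^ i)⁻¹), Q.mul_mem hx (hgi i y hy), i + j, ?_⟩
        rw [zpow_add]; group
      inv_mem' := by
        rintro a ⟨x, hx, i, rfl⟩
        refine ⟨g ^ (-i) * x⁻¹ * (g ^ (-i))⁻¹, hgi (-i) _ (Q.inv_mem hx), -i, ?_⟩
        group }
  have hQT : Q ≤ T := fun x hx => ⟨x, hx, 0, by simp⟩
  have hAT : Subgroup.zpowers g ≤ T := by
    rw [Subgroup.zpowers_le]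
    exact ⟨1, Q.one_mem, 1, by simp⟩
  intro h hh
  exact sup_le hQT hAT hh

end

section main
variable {G : Type*} [Group G] [Finite G] (p : ℕ) [hp : Fact p.Prime]

theorem exists_bad_section (hnpc : ¬ NPC p G) :
    ∃ (H : Subgroup G) (N : Subgroup H) (_ : N.Normal), Cfsg.pPrimeCore p (H ⧸ N) = ⊥ ∧
      ∀ k : H ⧸ N, orderOf k ≠ Monoid.exponent (H ⧸ N) := by
  classical
  have hp1 := hp.out
  have hF : ¬ FrobHyp p G := fun hF => hnpc (npc_of_frobHyp hF)
  let Bad : ℕ → ℕ → Prop := fun n m => ∃ (Q : Subgroup G) (g : G), IsPGroup p Q ∧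
    g ∈ Subgroup.normalizer (Q : Set G) ∧ (orderOf g).Coprime p ∧
    g ∉ Subgroup.centralizer (Q : Set G) ∧ Nat.card Q = n ∧ orderOf g = m
  have hex : ∃ n m, Bad n m := by
    by_contra hno
    apply hF
    intro Q hQ g hgN hgc
    by_contra hgC
    exact hno ⟨_, _, Q, g, hQ, hgN, hgc, hgC, rfl, rfl⟩
  have hn := Nat.find_spec hex
  obtain ⟨Q, g, hQ, hgN, hgc, hgC, hQn, hgm⟩ := Nat.find_spec hn
  have hminn : ∀ n' < Nat.find hex, ∀ m', ¬ Bad n' m' :=
    fun n' hn' m' hb => Nat.find_min hex hn' ⟨m', hb⟩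
  have hminm : ∀ m' < Nat.find hn, ¬ Bad (Nat.find hex) m' :=
    fun m' hm' hb => Nat.find_min hn hm' hb
  -- F1
  have F1 : ∀ Q₁ : Subgroup G, Q₁ < Q → g ∈ Subgroup.normalizer (Q₁ : Set G) →
      g ∈ Subgroup.centralizer (Q₁ : Set G) := by
    intro Q₁ hlt hg1
    by_contra hcon
    have hcard : Nat.card Q₁ < Nat.find hex := by
      rw [← hQn]; exact Helper5_Sylow.card_lt_of_lt hlt
    exact hminn _ hcard (orderOf g) ⟨Q₁, g, hQ.to_le hlt.le, hg1, hgc, hcon, rfl, rfl⟩
  -- F2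
  have F2 : ∀ g' : G, g' ∈ Subgroup.normalizer (Q : Set G) → (orderOf g').Coprime p →
      orderOf g' < orderOf g → g' ∈ Subgroup.centralizer (Q : Set G) := by
    intro g' hg'N hg'c hlt
    by_contra hcon
    rw [hgm] at hlt
    exact hminm _ hlt ⟨Q, g', hQ, hg'N, hg'c, hcon, hQn, rfl⟩
  -- the prime q
  have hg1 : g ≠ 1 := by
    rintro rfl
    exact hgC (Subgroup.one_mem _)
  have ho1 : orderOf g ≠ 1 := fun h => hg1 (orderOf_eq_one_iff.mp h)
  set q := (orderOf g).minFac with hqdef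
  have hq : q.Prime := Nat.minFac_prime ho1
  have hqd : q ∣ orderOf g := Nat.minFac_dvd _
  have hpq : p ≠ q := by
    intro heq
    have h1 : p ∣ orderOf g := by rw [heq]; exact hqd
    have := Nat.Coprime.eq_one_of_dvd hgc.symm h1
    exact hp1.one_lt.ne' this
  have hopos : 0 < orderOf g := orderOf_pos g
  have hgq : g ^ q ∈ Subgroup.centralizer (Q : Set G) := by
    apply F2 _ (Subgroup.pow_mem _ hgN q)
    · exact Nat.Coprime.coprime_dvd_left (orderOf_pow_dvd q) hgc
    · rw [orderOf_pow_of_dvd hq.ne_zero hqd]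
      exact Nat.div_lt_self hopos hq.one_lt
  set A := Subgroup.zpowers g with hA
  have hAN : A ≤ Subgroup.normalizer (Q : Set G) := Subgroup.zpowers_le.mpr hgN
  have hgA : g ∈ A := Subgroup.mem_zpowers g
  have hQelt : ∀ z ∈ Q, ∃ k : ℕ, orderOf z = p ^ k := by
    intro z hz
    obtain ⟨k, hk⟩ := hQ ⟨z, hz⟩
    have hk' : z ^ (p ^ k) = 1 := congrArg Subtype.val hk
    obtain ⟨j, -, hj⟩ := (Nat.dvd_prime_pow hp1).mp (orderOf_dvd_of_pow_eq_one hk')
    exact ⟨j, hj⟩
  -- F3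
  have F3 : ⁅Q, A⁆ = Q := by
    by_contra hne
    have hle : ⁅Q, A⁆ ≤ Q := commutator_le_of_le_normalizer Q A hAN
    have hlt : ⁅Q, A⁆ < Q := lt_of_le_of_ne hle hne
    have hgn : g ∈ Subgroup.normalizer ((⁅Q, A⁆ : Subgroup G) : Set G) :=
      le_normalizer_commutator_right Q A hgA
    have hgc' := F1 _ hlt hgn
    apply hgC
    rw [Subgroup.mem_centralizer_iff]
    intro r hr
    have := Helper4_Stab.stab_step (p := p) g hgc Q ⁅Q, A⁆
      (fun r hr => Subgroup.commutator_mem_commutator hr hgA)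
      (fun z hz => (Subgroup.mem_centralizer_iff.mp hgc' z hz).symm)
      (fun z hz => hQelt z (hle hz)) r hr
    exact this.symm
  -- Frattini
  have hQne : Q ≠ ⊥ := by
    rintro rfl
    apply hgC
    rw [Subgroup.mem_centralizer_iff]
    intro r hr
    rw [Subgroup.coe_bot, Set.mem_singleton_iff] at hr
    rw [hr, one_mul, mul_one]
  haveI : Nontrivial Q := (Subgroup.nontrivial_iff_ne_bot Q).mpr hQne
  set Φ := (frattini Q).map Q.subtype with hΦ
  have hΦQ : Φ ≤ Q := Subgroup.map_subtype_le _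
  have hΦlt : Φ < Q := by
    refine lt_of_le_of_ne hΦQ ?_
    intro heq
    apply Helper7_OmegaAut.frattini_ne_top Q
    rw [eq_top_iff]
    intro x _
    have hx : (x : G) ∈ Φ := by rw [heq]; exact x.2
    obtain ⟨y, hy, hyx⟩ := Subgroup.mem_map.mp hx
    have : y = x := Subtype.ext hyx
    rw [← this]; exact hy
  have hNQΦ : Subgroup.normalizer (Q : Set G) ≤ Subgroup.normalizer (Φ : Set G) :=
    normalizer_le_normalizer_char_map (frattini Q)
  have hgΦ : g ∈ Subgroup.centralizer (Φ : Set G) := F1 Φ hΦlt (hNQΦ hgN)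
  -- the section
  set H := Q ⊔ A with hH
  set Z := Subgroup.zpowers (g ^ q) with hZ
  set N₀ := Φ ⊔ Z with hN₀
  have hQH : Q ≤ H := le_sup_left
  have hAH : A ≤ H := le_sup_right
  have hgH : g ∈ H := hAH hgA
  have hZA : Z ≤ A := Subgroup.zpowers_le.mpr (Subgroup.pow_mem _ hgA q)
  have hN₀H : N₀ ≤ H := sup_le (hΦQ.trans hQH) (hZA.trans hAH)
  have hHnQ : H ≤ Subgroup.normalizer (Q : Set G) := sup_le Subgroup.le_normalizer hAN
  have hHcZ : H ≤ Subgroup.centralizer (Z : Set G) := by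
    apply sup_le
    · rw [Subgroup.le_centralizer_iff]
      exact Subgroup.zpowers_le.mpr hgq
    · rw [Subgroup.le_centralizer_iff, Subgroup.zpowers_le, Subgroup.mem_centralizer_iff]
      intro a ha
      obtain ⟨i, rfl⟩ := Subgroup.mem_zpowers_iff.mp ha
      exact (((Commute.refl g).zpow_left i).pow_right q).eq
  have hHnN₀ : H ≤ Subgroup.normalizer (N₀ : Set G) := by
    refine le_trans ?_ (Subgroup.normalizer_inf_normalizer_le_normalizer_sup Φ Z)
    exact le_inf (hHnQ.trans hNQΦ) (hHcZ.trans (Subgroup.centralizer_le_normalizer _))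
  set N := N₀.subgroupOf H with hN
  haveI hNn : N.Normal := Subgroup.normal_subgroupOf_of_le_normalizer hHnN₀
  refine ⟨H, N, hNn, ?_⟩
  set π := QuotientGroup.mk' N with hπ
  have hπs : Function.Surjective π := QuotientGroup.mk'_surjective N
  set Qh := Q.subgroupOf H with hQh
  haveI hQhn : Qh.Normal := Subgroup.normal_subgroupOf_of_le_normalizer hHnQ
  set V := Qh.map π with hV
  haveI hVn : V.Normal := Subgroup.Normal.map hQhn π hπs
  set gh : H := ⟨g, hgH⟩ with hgh
  set t := π gh with ht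
  have hker : ∀ x : H, (x : G) ∈ N₀ → π x = 1 := by
    intro x hx
    rw [hπ, QuotientGroup.mk'_apply, QuotientGroup.eq_one_iff]
    exact Subgroup.mem_subgroupOf.mpr hx
  -- exponent p
  have hVp : ∀ v ∈ V, v ^ p = 1 := by
    intro v hv
    obtain ⟨x, hx, rfl⟩ := Subgroup.mem_map.mp hv
    rw [← map_pow]
    apply hker
    apply hN₀ ▸ Subgroup.mem_sup_left ?_
    have hxQ : (x : G) ∈ Q := Subgroup.mem_subgroupOf.mp hx
    have h1 := Helper7_PFrattini.pow_mem_frattini hQ (⟨(x : G), hxQ⟩ : Q)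
    exact Subgroup.mem_map.mpr ⟨_, h1, rfl⟩
  have hVc : ∀ v ∈ V, ∀ w ∈ V, v * w = w * v := by
    intro v hv w hw
    obtain ⟨x, hx, rfl⟩ := Subgroup.mem_map.mp hv
    obtain ⟨y, hy, rfl⟩ := Subgroup.mem_map.mp hw
    have hxQ : (x : G) ∈ Q := Subgroup.mem_subgroupOf.mp hx
    have hyQ : (y : G) ∈ Q := Subgroup.mem_subgroupOf.mp hy
    have h1 := Helper7_PFrattini.comm_mem_frattini hQ (⟨(x : G), hxQ⟩ : Q) ⟨(y : G), hyQ⟩
    have h2 : π (x * y * x⁻¹ * y⁻¹) = 1 := by
      apply hker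
      apply hN₀ ▸ Subgroup.mem_sup_left ?_
      exact Subgroup.mem_map.mpr ⟨_, h1, rfl⟩
    rw [map_mul, map_mul, map_mul, map_inv, map_inv] at h2
    calc π x * π y = (π x * π y * (π x)⁻¹ * (π y)⁻¹) * (π y * π x) := by group
      _ = π y * π x := by rw [h2, one_mul]
  have htq : t ^ q = 1 := by
    rw [ht, ← map_pow]
    apply hker
    apply hN₀ ▸ Subgroup.mem_sup_right ?_
    exact Subgroup.mem_zpowers (g ^ q)
  have hgen : ∀ k : H ⧸ N, ∃ v ∈ V, ∃ i : ℤ, k = v * t ^ i := by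
    intro k
    obtain ⟨h, rfl⟩ := hπs k
    obtain ⟨x, hx, i, hxi⟩ := mem_sup_zpowers Q g hgN h.1 h.2
    refine ⟨π ⟨x, hQH hx⟩, Subgroup.mem_map.mpr ⟨⟨x, hQH hx⟩, Subgroup.mem_subgroupOf.mpr hx, rfl⟩,
      i, ?_⟩
    rw [ht, ← map_zpow, ← map_mul]
    congr 1
    apply Subtype.ext
    rw [Subgroup.coe_mul, Subgroup.coe_zpow]
    exact hxi
  -- V ≠ ⊥
  have hZΦ : Z ≤ Subgroup.normalizer (Φ : Set G) :=
    (hZA.trans hAN).trans hNQΦ
  have hZcard : (Nat.card Z).Coprime (Nat.card Φ) := by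
    have h1 : Nat.card Z ∣ orderOf g := by
      rw [hZ, Nat.card_zpowers]; exact orderOf_pow_dvd q
    obtain ⟨j, hj⟩ := IsPGroup.iff_card.mp (hQ.to_le hΦQ)
    rw [hj]
    exact Nat.Coprime.pow_right j (Nat.Coprime.coprime_dvd_left h1 hgc)
  have hV1 : V ≠ ⊥ := by
    intro hVbot
    have h1 : Q ≤ N₀ := by
      intro x hx
      have h2 : π ⟨x, hQH hx⟩ ∈ V :=
        Subgroup.mem_map.mpr ⟨⟨x, hQH hx⟩, Subgroup.mem_subgroupOf.mpr hx, rfl⟩
      rw [hVbot, Subgroup.mem_bot, hπ, QuotientGroup.mk'_apply, QuotientGroup.eq_one_iff] at h2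
      exact Subgroup.mem_subgroupOf.mp h2
    have h2 : Nat.card Q ∣ Nat.card Φ * Nat.card Z := by
      rw [← card_sup_of_normalizer Φ Z hZΦ hZcard]
      exact Subgroup.card_dvd_of_le h1
    obtain ⟨j, hj⟩ := IsPGroup.iff_card.mp hQ
    have h3 : (Nat.card Q).Coprime (Nat.card Z) := by
      have h1 : Nat.card Z ∣ orderOf g := by
        rw [hZ, Nat.card_zpowers]; exact orderOf_pow_dvd q
      rw [hj]
      exact (Nat.Coprime.pow_right j (Nat.Coprime.coprime_dvd_left h1 hgc)).symm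
    have h4 : Nat.card Q ∣ Nat.card Φ := h3.dvd_of_dvd_mul_right h2
    have h5 := Helper5_Sylow.card_lt_of_lt hΦlt
    have h6 := Nat.le_of_dvd Nat.card_pos h4
    omega
  -- fixed points
  have hfix : ∀ v ∈ V, t * v = v * t → v = 1 := by
    intro v hv hc
    haveI : IsMulCommutative V := ⟨⟨fun a b => Subtype.ext (hVc a.1 a.2 b.1 b.2)⟩⟩
    set AK := Subgroup.zpowers t with hAK
    have hAV : AK ≤ Subgroup.normalizer (V : Set (H ⧸ N)) := by
      rw [Subgroup.normalizer_eq_top_iff.mpr hVn]; exact le_top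
    have hVpg : IsPGroup p V := by
      intro x
      refine ⟨1, ?_⟩
      apply Subtype.ext
      rw [pow_one]
      exact hVp x.1 x.2
    have hcop : (Nat.card AK).Coprime (Nat.card V) := by
      obtain ⟨j, hj⟩ := IsPGroup.iff_card.mp hVpg
      rw [hj, hAK, Nat.card_zpowers]
      apply Nat.Coprime.pow_right
      have h1 : orderOf t ∣ q := orderOf_dvd_of_pow_eq_one htq
      exact Nat.Coprime.coprime_dvd_left h1 ((Nat.coprime_primes hq hp1).mpr hpq.symm)
    have h1 := abelian_inf_eq_bot AK V hAV hcop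
    have h2 : ⁅V, AK⁆ = V := by
      have e1 : AK = (Subgroup.zpowers gh).map π := by
        rw [MonoidHom.map_zpowers]
      rw [e1, hV, ← Subgroup.map_commutator]
      congr 1
      apply Subgroup.map_injective H.subtype_injective
      rw [Subgroup.map_commutator, hQh, Subgroup.subgroupOf_map_subtype, MonoidHom.map_zpowers,
        inf_eq_left.mpr hQH]
      exact F3
    rw [h2] at h1
    have h3 : v ∈ (V ⊓ Subgroup.centralizer (AK : Set (H ⧸ N))) ⊓ V := by
      refine Subgroup.mem_inf.mpr ⟨Subgroup.mem_inf.mpr ⟨hv, ?_⟩, hv⟩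
      rw [Subgroup.mem_centralizer_iff]
      intro a ha
      obtain ⟨i, rfl⟩ := Subgroup.mem_zpowers_iff.mp ha
      have hct : Commute t v := hc
      exact (hct.zpow_left i).eq
    rw [h1, Subgroup.mem_bot] at h3
    exact h3
  exact ⟨Helper7_ExpSection.pPrimeCore_eq_bot p q hq V hVp hVc hV1 t htq hgen hfix,
    Helper7_ExpSection.no_exponent_elt p q hq hpq V hVp hVc hV1 t htq hgen hfix⟩

omit hp in
/-- a finite `p`-group has an element whose order is the exponent. -/
theorem exists_orderOf_eq_exponent {K : Type*} [Group K] [Finite K] (hp1 : p.Prime) (j : ℕ)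
    (hK : Nat.card K = p ^ j) : ∃ k : K, orderOf k = Monoid.exponent K := by
  obtain ⟨k, hk⟩ := Finite.exists_max (fun x : K => orderOf x)
  refine ⟨k, Nat.dvd_antisymm (Monoid.order_dvd_exponent k) ?_⟩
  apply Monoid.exponent_dvd_of_forall_pow_eq_one
  intro x
  have hx : orderOf x ∣ p ^ j := by rw [← hK]; exact orderOf_dvd_natCard x
  have hk' : orderOf k ∣ p ^ j := by rw [← hK]; exact orderOf_dvd_natCard k
  obtain ⟨a, -, ha⟩ := (Nat.dvd_prime_pow hp1).mp hx
  obtain ⟨b, -, hb⟩ := (Nat.dvd_prime_pow hp1).mp hk'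
  have hle : orderOf x ≤ orderOf k := hk x
  rw [ha, hb] at hle
  have hab : a ≤ b := (Nat.pow_le_pow_iff_right hp1.one_lt).mp hle
  rw [hb]
  apply orderOf_dvd_iff_pow_eq_one.mp
  rw [ha]
  exact pow_dvd_pow p hab

end main

/-- Let G be a finite group and p a prime. Then G has a normal p-complement if and only if every section K = H/N of G (N a normal subgroup of a subgroup H) whose largest normal subgroup of order prime to p is trivial contains an element whose order equals the exponent of K. -/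
theorem result {G : Type*} [Group G] [Finite G] (p : ℕ) [Fact p.Prime] :
    Cfsg.HasNormalPComplement p G ↔
      ∀ (H : Subgroup G) (N : Subgroup H) [N.Normal], Cfsg.pPrimeCore p (H ⧸ N) = ⊥ →
        ∃ k : H ⧸ N, orderOf k = Monoid.exponent (H ⧸ N) := by
  have hp1 : p.Prime := Fact.out
  constructor
  · intro h H N hNn hcore
    rw [hasNormalPComplement_iff_npc] at h
    obtain ⟨M, hMn, hMc, k, hk⟩ := h.subgroup hp1 H
    -- image of M in H/N is trivial
    have hMN : M ≤ N := by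
      have h1 : M.map (QuotientGroup.mk' N) ≤ Cfsg.pPrimeCore p (H ⧸ N) := by
        apply le_sSup
        refine ⟨Subgroup.Normal.map hMn _ (QuotientGroup.mk'_surjective N), ?_⟩
        have h2 : Nat.card (M.map (QuotientGroup.mk' N)) ∣ Nat.card M := Subgroup.card_map_dvd _ _
        exact Nat.Coprime.coprime_dvd_left h2 hMc
      rw [hcore] at h1
      intro x hx
      have h2 : QuotientGroup.mk' N x ∈ M.map (QuotientGroup.mk' N) :=
        Subgroup.mem_map_of_mem _ hx
      have h3 := h1 h2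
      rw [Subgroup.mem_bot, QuotientGroup.mk'_apply, QuotientGroup.eq_one_iff] at h3
      exact h3
    have h1 : N.index ∣ p ^ k := by rw [← hk]; exact Subgroup.index_dvd_of_le hMN
    obtain ⟨j, -, hj⟩ := (Nat.dvd_prime_pow hp1).mp h1
    rw [Subgroup.index_eq_card] at hj
    exact exists_orderOf_eq_exponent p hp1 j hj
  · intro h
    by_contra hno
    rw [hasNormalPComplement_iff_npc] at hno
    obtain ⟨H, N, hNn, hcore, hbad⟩ := exists_bad_section p hno
    obtain ⟨k, hk⟩ := @h H N hNn hcore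
    exact hbad k hk

end Cfsg.Agent.S4238
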