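import Cfsg.Statements.S4242
import Mathlib
import Cfsg.Agent.S0008
import Cfsg.Agent.S0071
import Cfsg.Agent.Lib.Lead_SZ
import Cfsg.Agent.Lib.Lead_Coprime
import Cfsg.Agent.Lib.Lead_MinNonNil
import Cfsg.Agent.Lib.Lead_MinNonAb
import Cfsg.Agent.Lib.Lead_Schmidt
import Cfsg.Agent.Lib.Helper4_PCore
import Cfsg.Agent.Lib.Helper1_Card

set_option autoImplicit false
open Cfsg

namespace Cfsg.Agent.S4242

open Cfsg.Agent.Lib.Helper4_PCore

variable {G : Type*} [Group G]

/-- a subgroup whose order is coprime to the index of a normal subgroup lies in it -/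
theorem le_of_coprime [Finite G] (K N : Subgroup G) [N.Normal]
    (h : (Nat.card K).Coprime N.index) : K ≤ N := by
  intro k hk
  rw [← QuotientGroup.eq_one_iff (N := N), ← orderOf_eq_one_iff]
  have h1 : orderOf ((k : G) : G ⧸ N) ∣ Nat.card K :=
    (orderOf_map_dvd (QuotientGroup.mk' N) k).trans (Subgroup.orderOf_dvd_natCard K hk)
  have h2 : orderOf ((k : G) : G ⧸ N) ∣ N.index := by
    rw [Subgroup.index_eq_card]
    exact orderOf_dvd_natCard _
  exact Nat.eq_one_of_dvd_coprimes h h1 h2

/-- in a nilpotent subgroup, a `p'`-element commutes with the elements of a `p`-subgroup -/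
theorem commute_of_nilpotent' [Finite G] {p : ℕ} [Fact p.Prime] {X : Subgroup G}
    (hX : Group.IsNilpotent X) {R : Subgroup G} (hR : IsPGroup p R) (hRX : R ≤ X) {k : G}
    (hkX : k ∈ X) (hk : (orderOf k).Coprime p) : k ∈ Subgroup.centralizer (R : Set G) := by
  have htop : (Subgroup.centralizer (R : Set G)).subgroupOf (Subgroup.zpowers k) = ⊤ := by
    apply Cfsg.Agent.Lib.Lead_MinNonNil.eq_top_of_forall_sylow_le
    intro q _
    obtain ⟨S⟩ : Nonempty (Sylow q ↥(Subgroup.zpowers k)) := inferInstance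
    refine ⟨S, ?_⟩
    intro x hx
    rw [Subgroup.mem_subgroupOf, Subgroup.mem_centralizer_iff]
    intro r hr
    by_cases hqp : q = p
    · subst hqp
      obtain ⟨n, hn⟩ := IsPGroup.iff_card.mp S.isPGroup'
      have h2 : q ^ n ∣ orderOf k := by
        rw [← hn, ← Nat.card_zpowers]
        exact Subgroup.card_subgroup_dvd_card _
      have h3 : q ^ n = 1 := Nat.eq_one_of_dvd_coprimes (Nat.Coprime.pow_right n hk) h2 dvd_rfl
      rw [h3, Subgroup.card_eq_one] at hn
      rw [hn, Subgroup.mem_bot] at hx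
      rw [hx, Subgroup.coe_one, mul_one, one_mul]
    · have hB : (S : Subgroup ↥(Subgroup.zpowers k)).map (Subgroup.zpowers k).subtype ≤ X :=
        (Subgroup.map_subtype_le _).trans (Subgroup.zpowers_le.2 hkX)
      exact Cfsg.Agent.Lib.Lead_MinNonNil.commute_of_nilpotent (p := p) (q := q) (Ne.symm hqp) hX hR
        (S.isPGroup'.map _) hRX hB hr ⟨x, hx, rfl⟩
  rw [Subgroup.subgroupOf_eq_top] at htop
  exact htop (Subgroup.mem_zpowers k)

/-- a subgroup generated by a central-in-it nilpotent normal pair -/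
theorem nilpotent_of_sup [Finite G] (M Z L : Subgroup G) (hZM : Z ≤ M) (hLM : L ≤ M)
    (h1 : (Z.subgroupOf M).Normal) (h2 : (L.subgroupOf M).Normal)
    (hZ : Group.IsNilpotent Z) (hL : Group.IsNilpotent L) (hsup : M ≤ Z ⊔ L) :
    Group.IsNilpotent M := by
  have h3 : Group.IsNilpotent ↥(Z.subgroupOf M) := by
    haveI := hZ
    exact Group.nilpotent_of_mulEquiv (Subgroup.subgroupOfEquivOfLe hZM).symm
  have h4 : Group.IsNilpotent ↥(L.subgroupOf M) := by
    haveI := hL
    exact Group.nilpotent_of_mulEquiv (Subgroup.subgroupOfEquivOfLe hLM).symm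
  have h5 : Z.subgroupOf M ≤ Cfsg.fittingSubgroup ↥M := le_sSup ⟨h1, h3⟩
  have h6 : L.subgroupOf M ≤ Cfsg.fittingSubgroup ↥M := le_sSup ⟨h2, h4⟩
  have h7 : Cfsg.fittingSubgroup ↥M = ⊤ := by
    rw [eq_top_iff]
    intro x _
    have hx : (x : G) ∈ Z ⊔ L := hsup x.2
    have h8 : Z.subgroupOf M ⊔ L.subgroupOf M ≤ Cfsg.fittingSubgroup ↥M := sup_le h5 h6
    apply h8
    rw [← Subgroup.subgroupOf_sup hZM hLM]
    exact Subgroup.mem_subgroupOf.2 hx
  have h9 := Cfsg.Agent.S0008.result (G := ↥M)
  rw [h7] at h9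
  haveI := h9
  exact Group.nilpotent_of_mulEquiv (Subgroup.topEquiv (G := ↥M))

theorem card_mul_of_compl [Finite G] (Z K : Subgroup G) [Z.Normal] (hZK : Z ⊓ K = ⊥)
    (hsup : Z ⊔ K = ⊤) : Nat.card Z * Nat.card K = Nat.card G := by
  have h := Cfsg.Agent.Lib.Helper1_Card.card_sup_mul_card_inf_of_normal K Z
  rw [sup_comm, hsup, inf_comm, hZK, Subgroup.card_bot, mul_one, Subgroup.card_top] at h
  rw [h, mul_comm]

theorem bwd3 [Finite G] (p : ℕ) (hp : p.Prime) (Z K : Subgroup G) (hZn : Z.Normal) (hKn : K.Normal)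
    (hZK : Z ⊓ K = ⊥) (hsup : Z ⊔ K = ⊤) (hZc : Nat.card Z = p)
    (hKm : Cfsg.IsMinimalNonNilpotent K) (hpK : ¬ p ∣ Nat.card K)
    (M : Subgroup G) (hM : IsCoatom M) (hpM : p ∣ Nat.card M) : Group.IsNilpotent M := by
  haveI : Fact p.Prime := ⟨hp⟩
  have hcard := card_mul_of_compl Z K hZK hsup
  have hZidx : Z.index = Nat.card K := by
    have h1 : Nat.card Z * Z.index = Nat.card G := Subgroup.card_mul_index Z
    rw [← hcard] at h1
    exact Nat.eq_of_mul_eq_mul_left Nat.card_pos h1
  obtain ⟨x, hx⟩ := exists_prime_orderOf_dvd_card' (G := M) p hpM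
  have hxo : orderOf (x : G) = p := by rw [Subgroup.orderOf_coe, hx]
  have hxZ : Subgroup.zpowers (x : G) ≤ Z := by
    apply le_of_coprime
    rw [Nat.card_zpowers, hxo, hZidx]
    exact (Nat.Prime.coprime_iff_not_dvd hp).2 hpK
  have hZeq : Subgroup.zpowers (x : G) = Z :=
    Subgroup.eq_of_le_of_card_ge hxZ (by rw [Nat.card_zpowers, hxo, hZc])
  have hZM : Z ≤ M := by
    rw [← hZeq]
    exact Subgroup.zpowers_le.2 x.2
  have hLne : M ⊓ K ≠ K := by
    intro h
    have hKM : K ≤ M := inf_eq_right.1 h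
    apply hM.1
    rw [eq_top_iff, ← hsup]
    exact sup_le hZM hKM
  have hLnil : Group.IsNilpotent ↥(M ⊓ K : Subgroup G) := by
    have h1 : (M ⊓ K).subgroupOf K ≠ ⊤ := by
      intro h
      rw [Subgroup.subgroupOf_eq_top] at h
      exact hLne (le_antisymm inf_le_right h)
    have h2 := hKm.2 _ h1
    haveI := h2
    exact Group.nilpotent_of_mulEquiv (Subgroup.subgroupOfEquivOfLe (inf_le_right : M ⊓ K ≤ K))
  have hZnil : Group.IsNilpotent Z := (IsPGroup.of_card (n := 1) (by rw [hZc, pow_one])).isNilpotent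
  apply nilpotent_of_sup M Z (M ⊓ K) hZM inf_le_left inferInstance
    (by rw [Subgroup.inf_subgroupOf_left]; infer_instance) hZnil hLnil
  intro m hm
  have hmem : m ∈ ((Z ⊔ K : Subgroup G) : Set G) := by rw [hsup]; trivial
  rw [Subgroup.normal_mul] at hmem
  obtain ⟨z, hz, k, hk, rfl⟩ := Set.mem_mul.1 hmem
  have hkM : k ∈ M := by
    have := M.mul_mem (M.inv_mem (hZM hz)) hm
    rwa [inv_mul_cancel_left] at this
  exact Subgroup.mul_mem _ (Subgroup.mem_sup_left hz) (Subgroup.mem_sup_right ⟨hkM, hk⟩)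

open Cfsg.Agent.Lib.Lead_Schmidt in
theorem fwd [Finite G] (p : ℕ) (hp : p.Prime) (hpG : p ∣ Nat.card G)
    (hmax : ∀ M : Subgroup G, IsCoatom M → p ∣ Nat.card M → Group.IsNilpotent M)
    (hnil : ¬ Group.IsNilpotent G) (hmin : ¬ Cfsg.IsMinimalNonNilpotent G) :
    ∃ Z K : Subgroup G, Z.Normal ∧ K.Normal ∧ Z ⊓ K = ⊥ ∧ Z ⊔ K = ⊤ ∧ Nat.card Z = p ∧
          Cfsg.IsMinimalNonNilpotent K ∧ ¬ p ∣ Nat.card K := by
  haveI : Fact p.Prime := ⟨hp⟩
  have hex : ∃ H : Subgroup G, H ≠ ⊤ ∧ ¬ Group.IsNilpotent H := by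
    by_contra h
    push_neg at h
    exact hmin ⟨hnil, h⟩
  obtain ⟨H₀, hH₀, hH₀n⟩ := hex
  obtain ⟨K, hKmax, hH₀K⟩ := (eq_top_or_exists_le_coatom H₀).resolve_left hH₀
  have hKn : ¬ Group.IsNilpotent K := fun h => hH₀n (isNilpotent_of_le hH₀K h)
  have hpK : ¬ p ∣ Nat.card K := fun h => hKn (hmax K hKmax h)
  have hprop : ∀ L : Subgroup G, L ≠ ⊤ → p ∣ Nat.card L → Group.IsNilpotent L := by
    intro L hL hpL
    obtain ⟨M, hM, hLM⟩ := (eq_top_or_exists_le_coatom L).resolve_left hL
    exact isNilpotent_of_le hLM (hmax M hM (hpL.trans (Subgroup.card_dvd_of_le hLM)))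
  have hKp : (Nat.card K).Coprime p :=
    Nat.Coprime.symm ((Nat.Prime.coprime_iff_not_dvd hp).2 hpK)
  have hKcop : ∀ R : Subgroup G, IsPGroup p R → (Nat.card K).Coprime (Nat.card R) := by
    intro R hR
    obtain ⟨n, hn⟩ := IsPGroup.iff_card.mp hR
    rw [hn]
    exact Nat.Coprime.pow_right n hKp
  have hpdvd : ∀ R : Subgroup G, IsPGroup p R → R ≠ ⊥ → p ∣ Nat.card R := by
    intro R hR hR1
    obtain ⟨n, hn⟩ := IsPGroup.iff_card.mp hR
    have hn0 : n ≠ 0 := by
      rintro rfl
      rw [pow_zero, Subgroup.card_eq_one] at hn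
      exact hR1 hn
    rw [hn]
    exact dvd_pow_self p hn0
  by_cases hR : Cfsg.pCore p G = ⊥
  · exfalso
    obtain ⟨P⟩ : Nonempty (Sylow p G) := inferInstance
    have hPne : (P : Subgroup G) ≠ ⊥ := P.ne_bot_of_dvd_card hpG
    have hfrob : ∀ Q : Subgroup G, Q ≤ (P : Subgroup G) →
        ∀ g ∈ Subgroup.normalizer (Q : Set G), Nat.Coprime (orderOf g) p →
          g ∈ Subgroup.centralizer (Q : Set G) := by
      intro Q hQP g hg hgp
      have hQp : IsPGroup p Q := P.isPGroup'.to_le hQP
      by_cases hQ1 : Q = ⊥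
      · rw [hQ1, Subgroup.mem_centralizer_iff]
        intro t ht
        rw [Subgroup.coe_bot, Set.mem_singleton_iff] at ht
        rw [ht, one_mul, mul_one]
      · have hNne : Subgroup.normalizer (Q : Set G) ≠ ⊤ := by
          intro h
          have hQn : Q.Normal := Subgroup.normalizer_eq_top_iff.1 h
          have := le_pCore Q hQn hQp
          rw [hR] at this
          exact hQ1 (le_bot_iff.1 this)
        have hpN : p ∣ Nat.card (Subgroup.normalizer (Q : Set G)) :=
          (hpdvd Q hQp hQ1).trans (Subgroup.card_dvd_of_le Subgroup.le_normalizer)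
        exact commute_of_nilpotent' (hprop _ hNne hpN) hQp Subgroup.le_normalizer hg hgp
    obtain ⟨N, hNn, hNc⟩ := (Cfsg.Agent.S0071.result P).2 hfrob
    haveI := hNn
    have hNidx : N.index = Nat.card (P : Subgroup G) := hNc.symm.index_eq_card
    have hKN : K ≤ N := le_of_coprime K N (by rw [hNidx]; exact hKcop _ P.isPGroup')
    have hNtop : N ≠ ⊤ := by
      intro h
      rw [h, Subgroup.index_top] at hNidx
      exact hPne (Subgroup.card_eq_one.1 hNidx.symm)
    have hKeq : K = N := by
      by_contra hne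
      exact hNtop (hKmax.2 N (lt_of_le_of_ne hKN hne))
    rw [← hKeq] at hNc
    haveI hKnorm : K.Normal := hKeq ▸ hNn
    have hPK : (P : Subgroup G) ≤ Subgroup.normalizer (K : Set G) := by
      rw [Subgroup.normalizer_eq_top_iff.2 hKnorm]
      exact le_top
    have hcopPK : (Nat.card (P : Subgroup G)).Coprime (Nat.card K) := (hKcop _ P.isPGroup').symm
    have hGc : Nat.card K * Nat.card (P : Subgroup G) = Nat.card G := hNc.card_mul_card
    have hPsolv : Group.IsSolvable (P : Subgroup G) := by
      haveI := P.isPGroup'.isNilpotent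
      infer_instance
    have hcent : K ≤ Subgroup.centralizer ((P : Subgroup G) : Set G) := by
      have htop : (Subgroup.centralizer ((P : Subgroup G) : Set G)).subgroupOf K = ⊤ := by
        apply Cfsg.Agent.Lib.Lead_MinNonNil.eq_top_of_forall_sylow_le
        intro q _
        obtain ⟨Q, hQ⟩ := Cfsg.Agent.Lib.Lead_Coprime.exists_invariant_sylow (P : Subgroup G) K hPK
          hcopPK (Or.inl hPsolv) q
        refine ⟨Q, ?_⟩
        intro x hx
        rw [Subgroup.mem_subgroupOf]
        by_cases hqp : q = p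
        · subst hqp
          obtain ⟨n, hn⟩ := IsPGroup.iff_card.mp Q.isPGroup'
          have h2 : q ^ n ∣ Nat.card K := hn ▸ Subgroup.card_subgroup_dvd_card _
          have hn0 : n = 0 := by
            by_contra h
            exact hpK ((dvd_pow_self q h).trans h2)
          rw [hn0, pow_zero, Subgroup.card_eq_one] at hn
          rw [hn, Subgroup.mem_bot] at hx
          rw [hx]
          exact Subgroup.one_mem _
        · have hQ'p : IsPGroup q ((Q : Subgroup K).map K.subtype) := Q.isPGroup'.map _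
          have hcQ := Cfsg.Agent.Lib.Lead_Coprime.card_sup_of_normalizer
            ((Q : Subgroup K).map K.subtype) (P : Subgroup G) hQ
            (IsPGroup.coprime_card_of_ne p q (Ne.symm hqp) _ _ P.isPGroup' hQ'p)
          have hXne : (Q : Subgroup K).map K.subtype ⊔ (P : Subgroup G) ≠ ⊤ := by
            intro h
            rw [h, Subgroup.card_top, ← hGc] at hcQ
            have h3 : Nat.card K = Nat.card ((Q : Subgroup K).map K.subtype) :=
              Nat.eq_of_mul_eq_mul_right Nat.card_pos hcQ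
            have hQ'K : (Q : Subgroup K).map K.subtype = K :=
              Subgroup.eq_of_le_of_card_ge (Subgroup.map_subtype_le _) h3.le
            apply hKn
            rw [← hQ'K]
            exact hQ'p.isNilpotent
          have hX := hprop _ hXne ((P.dvd_card_of_dvd_card hpG).trans
            (Subgroup.card_dvd_of_le le_sup_right))
          rw [Subgroup.mem_centralizer_iff]
          intro y hy
          exact Cfsg.Agent.Lib.Lead_MinNonNil.commute_of_nilpotent (p := p) (q := q) (Ne.symm hqp) hX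
            P.isPGroup' hQ'p le_sup_right le_sup_left hy ⟨x, hx, rfl⟩
      rw [Subgroup.subgroupOf_eq_top] at htop
      exact htop
    have hPn : (P : Subgroup G).Normal := by
      rw [← Subgroup.normalizer_eq_top_iff, eq_top_iff, ← hNc.sup_eq_top]
      apply sup_le _ Subgroup.le_normalizer
      intro k hk
      apply Subgroup.centralizer_le_normalizer
      exact hcent hk
    have := le_pCore _ hPn P.isPGroup'
    rw [hR] at this
    exact hPne (le_bot_iff.1 this)
  · haveI hRn : (Cfsg.pCore p G).Normal := pCore_normal p G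
    have hRp : IsPGroup p (Cfsg.pCore p G) := pCore_isPGroup
    have hRK : Cfsg.pCore p G ⊓ K = ⊥ := Subgroup.inf_eq_bot_of_coprime (hKcop _ hRp).symm
    have hsupRK : Cfsg.pCore p G ⊔ K = ⊤ := by
      apply hKmax.2
      refine lt_of_le_of_ne le_sup_right ?_
      intro h
      have hRleK : Cfsg.pCore p G ≤ K := by rw [h]; exact le_sup_left
      have : Cfsg.pCore p G ≤ Cfsg.pCore p G ⊓ K := le_inf le_rfl hRleK
      rw [hRK] at this
      exact hR (le_bot_iff.1 this)
    have hGcard := card_mul_of_compl (Cfsg.pCore p G) K hRK hsupRK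
    have hK₀ : ∀ K₀ : Subgroup G, K₀ < K →
        Group.IsNilpotent K₀ ∧ K₀ ≤ Subgroup.centralizer ((Cfsg.pCore p G : Subgroup G) : Set G) := by
      intro K₀ hK₀
      have hRK₀ : Cfsg.pCore p G ⊓ K₀ = ⊥ := by
        have : Cfsg.pCore p G ⊓ K₀ ≤ Cfsg.pCore p G ⊓ K := inf_le_inf_left _ hK₀.le
        rw [hRK] at this
        exact le_bot_iff.1 this
      have hc : Nat.card (Cfsg.pCore p G ⊔ K₀ : Subgroup G) =
          Nat.card (Cfsg.pCore p G) * Nat.card K₀ := by
        have h := Cfsg.Agent.Lib.Helper1_Card.card_sup_mul_card_inf_of_normal K₀ (Cfsg.pCore p G)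
        rw [inf_comm, hRK₀, Subgroup.card_bot, mul_one, sup_comm] at h
        rw [h, mul_comm]
      have hne : Cfsg.pCore p G ⊔ K₀ ≠ ⊤ := by
        intro h
        rw [h, Subgroup.card_top, ← hGcard] at hc
        have h3 := Nat.eq_of_mul_eq_mul_left Nat.card_pos hc
        exact absurd h3 (Cfsg.Agent.Lib.Lead_SZ.card_lt hK₀).ne'
      have hpd : p ∣ Nat.card (Cfsg.pCore p G ⊔ K₀ : Subgroup G) := by
        rw [hc]
        exact Dvd.dvd.mul_right (hpdvd _ hRp hR) _
      have hX := hprop _ hne hpd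
      refine ⟨isNilpotent_of_le le_sup_right hX, ?_⟩
      intro k hk
      apply commute_of_nilpotent' hX hRp le_sup_left (le_sup_right (a := Cfsg.pCore p G) hk)
      exact Nat.Coprime.coprime_dvd_left (Subgroup.orderOf_dvd_natCard K (hK₀.le hk)) hKp
    have hKcent : K ≤ Subgroup.centralizer ((Cfsg.pCore p G : Subgroup G) : Set G) := by
      intro k hk
      have hlt : Subgroup.zpowers k < K := by
        refine lt_of_le_of_ne (Subgroup.zpowers_le.2 hk) ?_
        intro h
        apply hKn
        rw [← h]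
        exact Cfsg.Agent.Lib.Lead_MinNonAb.nilpotent_of_isMulCommutative inferInstance
      exact (hK₀ _ hlt).2 (Subgroup.mem_zpowers k)
    have hKmin : Cfsg.IsMinimalNonNilpotent K := by
      refine ⟨hKn, ?_⟩
      intro H hH
      have hlt : H.map K.subtype < K := by
        refine lt_of_le_of_ne (Subgroup.map_subtype_le H) ?_
        intro h
        apply hH
        rw [eq_top_iff]
        intro x _
        have hx : (x : G) ∈ H.map K.subtype := by rw [h]; exact x.2
        obtain ⟨y, hy, hyx⟩ := hx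
        have : y = x := Subtype.ext hyx
        rwa [← this]
      have h1 := (hK₀ _ hlt).1
      haveI := h1
      exact Group.nilpotent_of_mulEquiv (H.equivMapOfInjective K.subtype K.subtype_injective).symm
    have hKnormal : K.Normal := by
      rw [← Subgroup.normalizer_eq_top_iff, eq_top_iff, ← hsupRK]
      apply sup_le _ Subgroup.le_normalizer
      intro r hr
      apply Subgroup.centralizer_le_normalizer
      rw [Subgroup.mem_centralizer_iff]
      intro k hk
      exact ((Subgroup.mem_centralizer_iff.1 (hKcent hk)) r hr).symm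
    have hRc : Nat.card (Cfsg.pCore p G) = p := by
      obtain ⟨n, hn⟩ := IsPGroup.iff_card.mp hRp
      have hn0 : n ≠ 0 := by
        rintro rfl
        rw [pow_zero, Subgroup.card_eq_one] at hn
        exact hR hn
      by_contra hne
      have hn2 : 2 ≤ n := by
        rcases Nat.lt_or_ge n 2 with h | h
        · have h1 : n = 1 := by omega
          rw [h1, pow_one] at hn
          exact absurd hn hne
        · exact h
      obtain ⟨x, hx⟩ := exists_prime_orderOf_dvd_card' (G := Cfsg.pCore p G) p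
        (by rw [hn]; exact dvd_pow_self p hn0)
      have hR₀c : Nat.card (Subgroup.zpowers (x : G)) = p := by
        rw [Nat.card_zpowers, Subgroup.orderOf_coe, hx]
      have hR₀R : Subgroup.zpowers (x : G) ≤ Cfsg.pCore p G := Subgroup.zpowers_le.2 x.2
      have hKnR₀ : K ≤ Subgroup.normalizer ((Subgroup.zpowers (x : G) : Subgroup G) : Set G) := by
        intro k hk
        apply Subgroup.centralizer_le_normalizer
        exact Subgroup.centralizer_le (SetLike.coe_subset_coe.2 hR₀R) (hKcent hk)
      have hc := Cfsg.Agent.Lib.Lead_Coprime.card_sup_of_normalizer (Subgroup.zpowers (x : G)) K hKnR₀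
        (by rw [hR₀c]; exact hKp)
      have hne' : Subgroup.zpowers (x : G) ⊔ K ≠ ⊤ := by
        intro h
        rw [h, Subgroup.card_top, ← hGcard, hn, hR₀c] at hc
        have h3 := Nat.eq_of_mul_eq_mul_right Nat.card_pos hc
        have h4 : n = 1 := Nat.pow_right_injective hp.two_le (by
          show p ^ n = p ^ 1
          rw [h3, pow_one])
        omega
      have hX := hprop _ hne' (by rw [hc, hR₀c]; exact dvd_mul_right p _)
      exact hKn (isNilpotent_of_le le_sup_right hX)
    exact ⟨Cfsg.pCore p G, K, hRn, hKnormal, hRK, hsupRK, hRc, hKmin, hpK⟩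


/-- Let G be a finite group and p a prime dividing its order. Every maximal subgroup of G of order divisible by p is nilpotent if and only if G is nilpotent, or G is a minimal non-nilpotent group, or G is the internal direct product of a normal subgroup of order p and a normal minimal non-nilpotent subgroup of order prime to p. -/
theorem result {G : Type*} [Group G] [Finite G] (p : ℕ) (hp : p.Prime) (hpG : p ∣ Nat.card G) :
    (∀ M : Subgroup G, IsCoatom M → p ∣ Nat.card M → Group.IsNilpotent M) ↔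
      (Group.IsNilpotent G ∨ Cfsg.IsMinimalNonNilpotent G ∨
        ∃ Z K : Subgroup G, Z.Normal ∧ K.Normal ∧ Z ⊓ K = ⊥ ∧ Z ⊔ K = ⊤ ∧ Nat.card Z = p ∧
          Cfsg.IsMinimalNonNilpotent K ∧ ¬ p ∣ Nat.card K) := by
  constructor
  · intro hmax
    by_cases hnil : Group.IsNilpotent G
    · exact Or.inl hnil
    · right
      by_cases hmin : Cfsg.IsMinimalNonNilpotent G
      · exact Or.inl hmin
      · exact Or.inr (fwd p hp hpG hmax hnil hmin)
  · rintro (h | h | ⟨Z, K, hZn, hKn, hZK, hsup, hZc, hKm, hpK⟩)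
    · intro M _ _
      exact Cfsg.Agent.Lib.Lead_Schmidt.isNilpotent_of_le le_top
        (by haveI := h; exact Group.nilpotent_of_mulEquiv Subgroup.topEquiv.symm)
    · intro M hM _
      exact h.2 M hM.1
    · intro M hM hpM
      exact bwd3 p hp Z K hZn hKn hZK hsup hZc hKm hpK M hM hpM

end Cfsg.Agent.S4242
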