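import Mathlib
import Cfsg.Statements.S4250
import Cfsg.Agent.Lib.Helper7_Alperin

set_option autoImplicit false
open Cfsg

namespace Cfsg.Agent.S4250

open Cfsg.Agent.Lib.Helper7_Alperin Cfsg.Agent.Lib.Helper7_Tame Subgroup
open scoped commutatorElement

/-- Let P be a Sylow p-subgroup of a finite group G. Call an intersection H = P ∩ Q with a Sylow p-subgroup Q tame when N_P(H) and N_Q(H) are Sylow p-subgroups of N_G(H). Then P ∩ G′ is generated by [P, N_G(P)] together with the commutator subgroups [P ∩ Q, ⟨x⟩] for all tame intersections P ∩ Q and all p-elements x of N_G(P ∩ Q). -/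
theorem result {G : Type*} [Group G] [Finite G] (p : ℕ) [Fact p.Prime] (P : Sylow p G) :
    (P : Subgroup G) ⊓ commutator G =
      ⁅(P : Subgroup G), Subgroup.normalizer ((P : Subgroup G) : Set G)⁆ ⊔
        ⨆ (Q : Sylow p G) (_ : (¬ p ∣ ((P : Subgroup G) ⊓ Subgroup.normalizer (((P : Subgroup G) ⊓ (Q : Subgroup G) : Subgroup G) : Set G)).relIndex (Subgroup.normalizer (((P : Subgroup G) ⊓ (Q : Subgroup G) : Subgroup G) : Set G)) ∧ ¬ p ∣ ((Q : Subgroup G) ⊓ Subgroup.normalizer (((P : Subgroup G) ⊓ (Q : Subgroup G) : Subgroup G) : Set G)).relIndex (Subgroup.normalizer (((P : Subgroup G) ⊓ (Q : Subgroup G) : Subgroup G) : Set G))))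
          (x : G) (_ : x ∈ Subgroup.normalizer (((P : Subgroup G) ⊓ (Q : Subgroup G) : Subgroup G) : Set G) ∧ ∃ k : ℕ, orderOf x = p ^ k),
          ⁅(P : Subgroup G) ⊓ (Q : Subgroup G), Subgroup.zpowers x⁆ := by
  set R : Subgroup G := ⁅(P : Subgroup G), Subgroup.normalizer ((P : Subgroup G) : Set G)⁆ ⊔
        ⨆ (Q : Sylow p G) (_ : (¬ p ∣ ((P : Subgroup G) ⊓ Subgroup.normalizer (((P : Subgroup G) ⊓ (Q : Subgroup G) : Subgroup G) : Set G)).relIndex (Subgroup.normalizer (((P : Subgroup G) ⊓ (Q : Subgroup G) : Subgroup G) : Set G)) ∧ ¬ p ∣ ((Q : Subgroup G) ⊓ Subgroup.normalizer (((P : Subgroup G) ⊓ (Q : Subgroup G) : Subgroup G) : Set G)).relIndex (Subgroup.normalizer (((P : Subgroup G) ⊓ (Q : Subgroup G) : Subgroup G) : Set G))))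
          (x : G) (_ : x ∈ Subgroup.normalizer (((P : Subgroup G) ⊓ (Q : Subgroup G) : Subgroup G) : Set G) ∧ ∃ k : ℕ, orderOf x = p ^ k),
          ⁅(P : Subgroup G) ⊓ (Q : Subgroup G), Subgroup.zpowers x⁆ with hRdef
  have hle : R ≤ (P : Subgroup G) := by
    rw [hRdef]
    apply sup_le
    · rw [Subgroup.commutator_le]
      intro z hz n hn
      rw [commutatorElement_def]
      have h1 : n * z⁻¹ * n⁻¹ ∈ (P : Subgroup G) :=
        (mem_normalizer_iff.mp hn z⁻¹).mp (inv_mem hz)
      have : z * n * z⁻¹ * n⁻¹ = z * (n * z⁻¹ * n⁻¹) := by group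
      rw [this]
      exact mul_mem hz h1
    · refine iSup_le fun Q => iSup_le fun _ => iSup_le fun x => iSup_le fun hx => ?_
      rw [Subgroup.commutator_le]
      intro d hd y hy
      have hyN : y ∈ Subgroup.normalizer (((P : Subgroup G) ⊓ (Q : Subgroup G) : Subgroup G) : Set G) :=
        (Subgroup.zpowers_le.mpr hx.1) hy
      rw [commutatorElement_def]
      have h1 : y * d⁻¹ * y⁻¹ ∈ (P : Subgroup G) ⊓ (Q : Subgroup G) :=
        (mem_normalizer_iff.mp hyN d⁻¹).mp (inv_mem hd)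
      have : d * y * d⁻¹ * y⁻¹ = d * (y * d⁻¹ * y⁻¹) := by group
      rw [this]
      exact (Subgroup.mem_inf.mp (mul_mem hd h1)).1
  have hyp : Hyp P R :=
    { le := hle
      tame := by
        intro Q htame x hx hxp d hd
        have h1 : ⁅d, x⁆ ∈ R := by
          rw [hRdef]
          apply Subgroup.mem_sup_right
          have h2 : ⁅d, x⁆ ∈ ⁅(P : Subgroup G) ⊓ (Q : Subgroup G), Subgroup.zpowers x⁆ :=
            Subgroup.commutator_mem_commutator hd (Subgroup.mem_zpowers x)
          exact Subgroup.mem_iSup_of_mem Q (Subgroup.mem_iSup_of_mem htame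
            (Subgroup.mem_iSup_of_mem x (Subgroup.mem_iSup_of_mem ⟨hx, hxp⟩ h2)))
        have e : x * d * x⁻¹ * d⁻¹ = ⁅d, x⁆⁻¹ := by rw [commutatorElement_def]; group
        rw [e]
        exact inv_mem h1
      norm := by
        intro n hn z hz
        have h1 : ⁅z, n⁆ ∈ R := by
          rw [hRdef]
          apply Subgroup.mem_sup_left
          exact Subgroup.commutator_mem_commutator hz hn
        have e : n * z * n⁻¹ * z⁻¹ = ⁅z, n⁆⁻¹ := by rw [commutatorElement_def]; group
        rw [e]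
        exact inv_mem h1 }
  apply le_antisymm
  · rw [inf_comm, Subgroup.commutator_inf_eq_focalSubgroup, Subgroup.focalSubgroup_def,
      Subgroup.closure_le]
    rintro g ⟨hgP, x, hx, u, rfl⟩
    have hux : u * x⁻¹ * u⁻¹ ∈ (P : Subgroup G) := by
      have : u * x⁻¹ * u⁻¹ = x⁻¹ * ⁅x, u⁆ := by rw [commutatorElement_def]; group
      rw [this]
      exact mul_mem (inv_mem hx) hgP
    have h1 := focal_le hyp x⁻¹ (inv_mem hx) u hux
    -- conjugate by `x`
    have h2 := hyp.norm x (Subgroup.le_normalizer hx) _ (hle h1)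
    have e : ⁅x, u⁆ = (x * (u * x⁻¹ * u⁻¹ * x⁻¹⁻¹) * x⁻¹ * (u * x⁻¹ * u⁻¹ * x⁻¹⁻¹)⁻¹) *
        (u * x⁻¹ * u⁻¹ * x⁻¹⁻¹) := by rw [commutatorElement_def]; group
    rw [SetLike.mem_coe, e]
    exact mul_mem h2 h1
  · apply le_inf hle
    rw [hRdef, _root_.commutator_def]
    apply sup_le
    · exact Subgroup.commutator_mono le_top le_top
    · refine iSup_le fun Q => iSup_le fun _ => iSup_le fun x => iSup_le fun _ => ?_
      exact Subgroup.commutator_mono le_top le_top

end Cfsg.Agent.S4250
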