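import Mathlib
import Cfsg.Statements.S4252

set_option autoImplicit false
open scoped Pointwise
open Cfsg

namespace Cfsg.Agent.S4252

theorem mem_conj_smul_stab {G Ω : Type*} [Group G] [MulAction G Ω] (α : Ω) (g x : G) :
    x ∈ MulAut.conj g • MulAction.stabilizer G α ↔ x • (g • α) = g • α := by
  rw [Subgroup.mem_pointwise_smul_iff_inv_smul_mem, MulAut.smul_def, MulAut.conj_inv_apply,
    MulAction.mem_stabilizer_iff]
  constructor
  · intro h
    have : x • g • α = g • ((g⁻¹ * x * g) • α) := by
      simp only [smul_smul]; congr 1; group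
    rw [this, h]
  · intro h
    have : (g⁻¹ * x * g) • α = g⁻¹ • (x • (g • α)) := by
      simp only [smul_smul]; congr 1; group
    rw [this, h, smul_smul, inv_mul_cancel, one_smul]

/-- Frobenius actions give Frobenius complements. -/
theorem result {G Ω : Type*} [Group G] [Finite G] [Fintype Ω] [MulAction G Ω] (hΩ : 1 < Fintype.card Ω)
    (htrans : ∀ α β : Ω, ∃ g : G, g • α = β) (hnreg : ∃ g : G, g ≠ 1 ∧ ∃ α : Ω, g • α = α)
    (hfix : ∀ g : G, g ≠ 1 → ∀ α β : Ω, g • α = α → g • β = β → α = β) (α : Ω) :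
    Cfsg.IsFrobeniusComplement (MulAction.stabilizer G α) ∧
      Cfsg.frobeniusKernel (MulAction.stabilizer G α) = {g : G | g = 1 ∨ ∀ ω : Ω, g • ω ≠ ω} := by
  refine ⟨⟨?_, ?_, ?_⟩, ?_⟩
  · -- nontrivial
    obtain ⟨g, hg1, β, hgβ⟩ := hnreg
    obtain ⟨x, hx⟩ := htrans α β
    intro hbot
    have hmem : x⁻¹ * g * x ∈ MulAction.stabilizer G α := by
      rw [MulAction.mem_stabilizer_iff]
      have : (x⁻¹ * g * x) • α = x⁻¹ • (g • (x • α)) := by simp only [smul_smul, mul_assoc]
      rw [this, hx, hgβ, ← hx, smul_smul, inv_mul_cancel, one_smul]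
    rw [hbot, Subgroup.mem_bot] at hmem
    apply hg1
    have : g = x * (x⁻¹ * g * x) * x⁻¹ := by group
    rw [this, hmem]; group
  · -- proper
    obtain ⟨β, hβ⟩ := Fintype.exists_ne_of_one_lt_card hΩ α
    obtain ⟨g, hg⟩ := htrans α β
    intro htop
    have : g ∈ MulAction.stabilizer G α := by rw [htop]; exact Subgroup.mem_top g
    rw [MulAction.mem_stabilizer_iff, hg] at this
    exact hβ this
  · intro g hg
    rw [Subgroup.eq_bot_iff_forall]
    intro x hx
    obtain ⟨hx1, hx2⟩ := Subgroup.mem_inf.mp hx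
    rw [mem_conj_smul_stab] at hx2
    rw [MulAction.mem_stabilizer_iff] at hx1 hg
    by_contra hne
    exact hg (hfix x hne _ _ hx1 hx2).symm
  · ext x
    simp only [Cfsg.frobeniusKernel, Set.mem_ofPred_eq]
    constructor
    · rintro (h | h)
      · left; exact h
      · right
        intro ω
        obtain ⟨g, rfl⟩ := htrans α ω
        have := h g
        rw [mem_conj_smul_stab] at this
        exact this
    · rintro (h | h)
      · left; exact h
      · right
        intro g
        rw [mem_conj_smul_stab]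
        exact h _

end Cfsg.Agent.S4252
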