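import Mathlib
import Cfsg.Statements.S4260

set_option autoImplicit false
open Cfsg

namespace Cfsg.Agent.S4260

/-- Let H be a Hall subgroup of a finite group G (the order of H is coprime to its index) such that x^[G : H] lies in H for every x in G. Then H is normal in G. -/
theorem result {G : Type*} [Group G] [Finite G] (H : Subgroup G) (hHall : (Nat.card H).Coprime H.index)
    (hexp : ∀ x : G, x ^ H.index ∈ H) : H.Normal := by
  refine ⟨fun h hh g => ?_⟩
  set y := g * h * g⁻¹ with hy
  have hn : y ^ (Nat.card H) = 1 := by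
    have h1 : h ^ (Nat.card H) = 1 := by
      have h2 : (⟨h, hh⟩ : H) ^ (Nat.card H) = 1 := pow_card_eq_one'
      have h3 := congrArg Subtype.val h2
      rwa [Subgroup.coe_pow, Subgroup.coe_one] at h3
    rw [hy, conj_pow, h1]; group
  have hm : y ^ H.index ∈ H := hexp y
  have hbez := Int.gcd_eq_gcd_ab (Nat.card H : ℤ) (H.index : ℤ)
  have hg : Int.gcd (Nat.card H : ℤ) (H.index : ℤ) = 1 := by
    simpa [Int.gcd_natCast_natCast] using hHall
  rw [hg] at hbez
  have : y = (y ^ H.index) ^ (Int.gcdB (Nat.card H : ℤ) (H.index : ℤ)) := by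
    calc y = y ^ (1 : ℤ) := (zpow_one y).symm
      _ = y ^ (((1 : ℕ) : ℤ)) := by norm_num
      _ = y ^ ((Nat.card H : ℤ) * Int.gcdA (Nat.card H : ℤ) (H.index : ℤ) +
            (H.index : ℤ) * Int.gcdB (Nat.card H : ℤ) (H.index : ℤ)) := by rw [hbez]
      _ = (y ^ (Nat.card H : ℤ)) ^ Int.gcdA (Nat.card H : ℤ) (H.index : ℤ) *
            (y ^ (H.index : ℤ)) ^ Int.gcdB (Nat.card H : ℤ) (H.index : ℤ) := by
          rw [zpow_add, zpow_mul, zpow_mul]
      _ = (y ^ H.index) ^ (Int.gcdB (Nat.card H : ℤ) (H.index : ℤ)) := by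
          rw [zpow_natCast, zpow_natCast, hn, one_zpow, one_mul]
  rw [this]
  exact H.zpow_mem hm _

end Cfsg.Agent.S4260
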