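import Mathlib
import Cfsg.Statements.S4261
import Cfsg.Agent.S4244

set_option autoImplicit false
open Cfsg

namespace Cfsg.Agent.S4261

open scoped commutatorElement

/-- The index of a maximal subgroup of a finite solvable group is a prime power. -/
theorem index_prime_pow {G : Type*} [Group G] [Finite G] [hG : Group.IsSolvable G] (M : Subgroup G)
    (hM : IsCoatom M) : ∃ p k : ℕ, p.Prime ∧ M.index = p ^ k := by
  classical
  let S : Set (Subgroup G) := {A | A.Normal ∧ ¬ A ≤ M}
  have hne : S.Nonempty := ⟨⊤, inferInstance, fun h => hM.1 (top_le_iff.mp h)⟩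
  obtain ⟨A, ⟨hAn, hAM⟩, hmin⟩ := WellFounded.has_min (wellFounded_lt (α := Subgroup G)) S hne
  haveI := hAn
  have hmin' : ∀ B : Subgroup G, B.Normal → B ≤ A → ¬ B ≤ M → B = A := by
    intro B hBn hBA hBM
    by_contra hne
    exact hmin B ⟨hBn, hBM⟩ (lt_of_le_of_ne hBA hne)
  have hAbot : A ≠ ⊥ := by rintro rfl; exact hAM bot_le
  -- (a)
  have hcomm : ⁅A, A⁆ ≤ M := by
    by_contra h
    have h1 := hmin' ⁅A, A⁆ inferInstance (Subgroup.commutator_le_right A A) h
    exact (Group.IsSolvable.commutator_lt_of_ne_bot hAbot).ne h1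
  -- (b)
  have hAMtop : A ⊔ M = ⊤ := by
    rcases hM.le_iff.mp (le_sup_right : M ≤ A ⊔ M) with h1 | h1
    · exact h1
    · exact absurd (h1 ▸ (le_sup_left : A ≤ A ⊔ M)) hAM
  set B₀ : Subgroup G := A ⊓ M with hB₀
  have hcommB : ∀ a ∈ A, ∀ x ∈ A, a * x * a⁻¹ * x⁻¹ ∈ B₀ := by
    intro a ha x hx
    have h1 : ⁅a, x⁆ ∈ ⁅A, A⁆ := Subgroup.commutator_mem_commutator ha hx
    exact ⟨Subgroup.commutator_le_right A A h1, hcomm h1⟩
  -- (c) B₀ normal
  have hB₀n : B₀.Normal := by
    rw [← Subgroup.normalizer_eq_top_iff]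
    apply top_le_iff.mp
    rw [← hAMtop]
    apply sup_le
    · intro a ha
      apply Subgroup.mem_normalizer_fintype
      intro n hn
      have hn' : n ∈ B₀ := hn
      have h1 := hcommB a ha n hn'.1
      have h2 : a * n * a⁻¹ = (a * n * a⁻¹ * n⁻¹) * n := by group
      show a * n * a⁻¹ ∈ B₀
      rw [h2]
      exact B₀.mul_mem h1 hn'
    · intro g hg
      apply Subgroup.mem_normalizer_fintype
      intro n hn
      have hn' : n ∈ B₀ := hn
      exact ⟨hAn.conj_mem n hn'.1 g, M.mul_mem (M.mul_mem hg hn'.2) (M.inv_mem hg)⟩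
  haveI := hB₀n
  -- (d)
  have hidx : M.index = B₀.relIndex A := by
    have := Cfsg.Agent.S4244.second_iso_abs A M
    rw [hAMtop, Subgroup.relIndex_top_right] at this
    exact this
  set m := B₀.relIndex A with hm
  have hm1 : m ≠ 1 := by
    intro h
    have := Subgroup.relIndex_eq_one.mp h
    exact hAM (this.trans inf_le_right)
  set p := m.minFac with hp
  have hpp : p.Prime := Nat.minFac_prime hm1
  haveI : Fact p.Prime := ⟨hpp⟩
  have hpm : p ∣ m := Nat.minFac_dvd m
  obtain ⟨P⟩ : Nonempty (Sylow p A) := inferInstance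
  set P' : Subgroup G := (P : Subgroup A).map A.subtype with hP'
  have hP'A : P' ≤ A := Subgroup.map_subtype_le _
  have hfrat : Subgroup.normalizer (P' : Set G) ⊔ A = ⊤ := Sylow.normalizer_sup_eq_top P
  set C : Subgroup G := P' ⊔ B₀ with hC
  have hCA : C ≤ A := sup_le hP'A inf_le_left
  have hCn : C.Normal := by
    rw [← Subgroup.normalizer_eq_top_iff]
    apply top_le_iff.mp
    rw [← hfrat]
    apply sup_le
    · have h1 := Subgroup.normalizer_inf_normalizer_le_normalizer_sup P' B₀
      have h2 : Subgroup.normalizer (B₀ : Set G) = ⊤ := Subgroup.normalizer_eq_top_iff.mpr hB₀n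
      rw [h2, inf_top_eq] at h1
      exact h1
    · intro a ha
      apply Subgroup.mem_normalizer_fintype
      intro n hn
      have hn' : n ∈ C := hn
      have hmap : C.map (MulAut.conj a).toMonoidHom ≤ C := by
        rw [hC, Subgroup.map_sup]
        apply sup_le
        · rintro _ ⟨x, hx, rfl⟩
          have hx' : x ∈ P' := hx
          have h1 := hcommB a ha x (hP'A hx')
          have h2 : (MulAut.conj a).toMonoidHom x = (a * x * a⁻¹ * x⁻¹) * x := by
            show a * x * a⁻¹ = _
            group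
          rw [h2]
          exact Subgroup.mul_mem _ (Subgroup.mem_sup_right h1) (Subgroup.mem_sup_left hx')
        · rintro _ ⟨x, hx, rfl⟩
          have hx' : x ∈ B₀ := hx
          exact Subgroup.mem_sup_right (hB₀n.conj_mem x hx' a)
      exact hmap ⟨n, hn', rfl⟩
  have hCM : ¬ C ≤ M := by
    intro hle
    have h1 : P' ≤ B₀ := le_inf hP'A (le_sup_left.trans hle)
    have h2 : B₀.relIndex A ∣ P'.relIndex A := Subgroup.relIndex_dvd_of_le_left A h1
    have h3 : P'.relIndex A = (P : Subgroup A).index := by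
      have : P'.subgroupOf A = (P : Subgroup A) := by
        rw [hP']
        ext x
        rw [Subgroup.mem_subgroupOf, Subgroup.mem_map]
        constructor
        · rintro ⟨y, hy, hyx⟩
          have : y = x := Subtype.ext hyx
          rwa [← this]
        · intro hx
          exact ⟨x, hx, rfl⟩
      unfold Subgroup.relIndex
      rw [this]
    rw [h3] at h2
    exact P.not_dvd_index (hpm.trans h2)
  have hCeq : C = A := hmin' C hCn hCA hCM
  have hm2 : m = B₀.relIndex P' := by
    rw [hm, ← hCeq, hC]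
    exact Subgroup.relIndex_sup_right P' B₀
  have hcardP' : Nat.card P' = Nat.card (P : Subgroup A) :=
    Subgroup.card_map_of_injective A.subtype_injective
  obtain ⟨k, hk⟩ := IsPGroup.iff_card.mp P.isPGroup'
  have hm3 : m ∣ p ^ k := by
    rw [hm2, ← hk, ← hcardP']
    exact Subgroup.relIndex_dvd_card B₀ P'
  obtain ⟨j, -, hj⟩ := (Nat.dvd_prime_pow hpp).mp hm3
  exact ⟨p, j, hpp, hidx.trans hj⟩

theorem result {G : Type*} [Group G] [Finite G] (hG : Group.IsSolvable G) (M : Subgroup G) (hM : IsCoatom M)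
    (hexp : ∀ x : G, x ^ M.index ∈ M) : M.Normal := by
  haveI := hG
  obtain ⟨p, k, hp, hidx⟩ := index_prime_pow M hM
  haveI : Fact p.Prime := ⟨hp⟩
  set K := M.normalCore with hK
  have hKM : K ≤ M := Subgroup.normalCore_le M
  have hpowK : ∀ x : G, x ^ (p ^ k) ∈ K := by
    intro x
    rw [hK]
    show ∀ b : G, b * x ^ (p ^ k) * b⁻¹ ∈ M
    intro b
    have h1 : b * x ^ (p ^ k) * b⁻¹ = (b * x * b⁻¹) ^ (p ^ k) := by
      rw [conj_pow]
    rw [h1, ← hidx]
    exact hexp _
  have hPG : IsPGroup p (G ⧸ K) := by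
    intro q
    induction q using QuotientGroup.induction_on with
    | H x =>
      refine ⟨k, ?_⟩
      rw [← QuotientGroup.mk_pow]
      exact (QuotientGroup.eq_one_iff _).mpr (hpowK x)
  haveI : Group.IsNilpotent (G ⧸ K) := hPG.isNilpotent
  have hNC : NormalizerCondition (G ⧸ K) := Group.normalizerCondition_of_isNilpotent
  set Mbar := M.map (QuotientGroup.mk' K) with hMbar
  have hcomap : Mbar.comap (QuotientGroup.mk' K) = M := by
    rw [hMbar, Subgroup.comap_map_eq, QuotientGroup.ker_mk', sup_eq_left]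
    exact hKM
  have hMbartop : Mbar < ⊤ := by
    rw [lt_top_iff_ne_top]
    intro h
    apply hM.1
    rw [← hcomap, h, Subgroup.comap_top]
  have h1 := hNC Mbar hMbartop
  have h2 : Mbar.comap (QuotientGroup.mk' K) < (Subgroup.normalizer (Mbar : Set (G ⧸ K))).comap (QuotientGroup.mk' K) :=
    (Subgroup.comap_lt_comap_of_surjective (QuotientGroup.mk'_surjective K)).mpr h1
  rw [Subgroup.comap_normalizer_eq_of_surjective _ (QuotientGroup.mk'_surjective K), hcomap] at h2
  have h3 := hM.2 _ h2
  exact Subgroup.normalizer_eq_top_iff.mp h3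

end Cfsg.Agent.S4261
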