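import Mathlib
import Cfsg.Statements.S4275

set_option autoImplicit false
open Cfsg

namespace Cfsg.Agent.S4275

theorem result {Ω : Type*} [Fintype Ω] (G : Subgroup (Equiv.Perm Ω)) (htr : MulAction.IsPretransitive G Ω) (o : Ω) (α : G ≃* G) : (∃ σ : Equiv.Perm Ω, σ ∈ Subgroup.normalizer (G : Set (Equiv.Perm Ω)) ∧ ∀ g : G, ((α g : G) : Equiv.Perm Ω) = σ * (g : Equiv.Perm Ω) * σ⁻¹) ↔ ∃ ω : Ω, ∀ g ∈ (MulAction.stabilizer G o).map α.toMonoidHom, g • ω = ω := by
  haveI := htr
  have hsm : ∀ (g : G) (x : Ω), g • x = (g : Equiv.Perm Ω) x := fun g x => rfl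
  constructor
  · rintro ⟨σ, -, hσ⟩
    refine ⟨σ o, ?_⟩
    rintro g ⟨g0, hg0, rfl⟩
    have h0 : (g0 : Equiv.Perm Ω) o = o := by
      have := MulAction.mem_stabilizer_iff.mp hg0
      rwa [hsm] at this
    show (α g0) • σ o = σ o
    rw [hsm, hσ g0]
    simp [h0]
  · rintro ⟨ω, hω⟩
    -- choice of transversal
    have hc : ∀ x : Ω, ∃ g : G, g • o = x := fun x => MulAction.exists_smul_eq G o x
    choose c hcx using hc
    let f : Ω → Ω := fun x => (α (c x)) • ω
    have key : ∀ g : G, f (g • o) = α g • ω := by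
      intro g
      have h1 : g⁻¹ * c (g • o) ∈ MulAction.stabilizer G o := by
        rw [MulAction.mem_stabilizer_iff, mul_smul, hcx, inv_smul_smul]
      have h2 := hω (α (g⁻¹ * c (g • o))) ⟨_, h1, rfl⟩
      rw [map_mul, map_inv, mul_smul, inv_smul_eq_iff] at h2
      exact h2
    have hsurj : Function.Surjective f := by
      intro ω'
      obtain ⟨h, hh⟩ := MulAction.exists_smul_eq G ω ω'
      refine ⟨(α.symm h) • o, ?_⟩
      rw [key, MulEquiv.apply_symm_apply, hh]
    have hbij : Function.Bijective f := ⟨Finite.injective_iff_surjective.mpr hsurj, hsurj⟩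
    let σ : Equiv.Perm Ω := Equiv.ofBijective f hbij
    have hσf : ∀ x, σ x = f x := fun x => rfl
    have hequiv : ∀ (g : G) (x : Ω), σ (g • x) = α g • σ x := by
      intro g x
      obtain ⟨g', rfl⟩ := MulAction.exists_smul_eq G o x
      rw [← mul_smul, hσf, hσf, key, key, map_mul, mul_smul]
    have hconj : ∀ g : G, ((α g : G) : Equiv.Perm Ω) = σ * (g : Equiv.Perm Ω) * σ⁻¹ := by
      intro g
      ext y
      have := hequiv g (σ⁻¹ y)
      rw [hsm, hsm] at this
      simp only [Equiv.Perm.coe_mul, Function.comp_apply]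
      rw [this]
      simp
    refine ⟨σ, ?_, hconj⟩
    rw [Subgroup.mem_normalizer_iff]
    intro h
    constructor
    · intro hh
      have := hconj ⟨h, hh⟩
      rw [← this]
      exact (α ⟨h, hh⟩).2
    · intro hh
      obtain ⟨g, hg⟩ := α.surjective ⟨_, hh⟩
      have h1 := hconj g
      rw [hg] at h1
      have h2 : σ * h * σ⁻¹ = σ * (g : Equiv.Perm Ω) * σ⁻¹ := h1
      have h3 : h = (g : Equiv.Perm Ω) := by
        have := congrArg (fun t => σ⁻¹ * t * σ) h2
        simpa [mul_assoc] using this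
      rw [h3]
      exact g.2

end Cfsg.Agent.S4275
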