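import Mathlib
import Cfsg.Statements.S4283
import Cfsg.Agent.Lib.Helper7_FrobBasic
import Cfsg.Agent.Lib.Helper7_Conj

set_option autoImplicit false
open Cfsg

namespace Cfsg.Agent.S4283

open Cfsg.Agent.Lib.Helper7_FrobBasic
open scoped Pointwise

theorem mem_cent {G : Type*} [Group G] (x g : G) :
    g ∈ Subgroup.centralizer ({x} : Set G) ↔ g * x = x * g := by
  rw [Subgroup.mem_centralizer_iff]
  constructor
  · intro h; exact (h x rfl).symm
  · intro h y hy
    rw [Set.mem_singleton_iff] at hy
    rw [hy]; exact h.symm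

theorem index_conj_smul {G : Type*} [Group G] (t : G) (H : Subgroup G) :
    (MulAut.conj t • H).index = H.index := by
  rw [Subgroup.pointwise_smul_def]
  exact Subgroup.index_map_equiv H (MulAut.conj t)

theorem result {G : Type*} [Group G] [Finite G] (K H : Subgroup G) (hZK : Subgroup.center G ≤ K) (hZH : Subgroup.center G ≤ H) (hK : IsMulCommutative K) (hH : IsMulCommutative H) (hFrob : Cfsg.IsFrobeniusComplement (H.map (QuotientGroup.mk' (Subgroup.center G)))) (hker : Cfsg.frobeniusKernel (H.map (QuotientGroup.mk' (Subgroup.center G))) = (K.map (QuotientGroup.mk' (Subgroup.center G)) : Set (G ⧸ Subgroup.center G))) : Set.range (fun x : G => (Subgroup.centralizer ({x} : Set G)).index) = ({1, K.index, H.index} : Set ℕ) ∧ K.index.Coprime H.index := by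
  classical
  set Z := Subgroup.center G with hZ
  set π := QuotientGroup.mk' Z with hπ
  set Hb := H.map π with hHb
  set Kb := K.map π with hKb
  have hπ1 : ∀ x : G, π x = 1 ↔ x ∈ Z := fun x => QuotientGroup.eq_one_iff x
  -- preimage facts
  have hP1 : ∀ x : G, π x ∈ Kb ↔ x ∈ K := by
    intro x
    constructor
    · rintro ⟨k, hk, hkx⟩
      have h1 : k⁻¹ * x ∈ Z := QuotientGroup.eq.mp hkx
      have : x = k * (k⁻¹ * x) := by group
      rw [this]
      exact K.mul_mem hk (hZK h1)
    · intro hx
      exact ⟨x, hx, rfl⟩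
  have hP0 : ∀ x : G, π x ∈ Hb ↔ x ∈ H := by
    intro x
    constructor
    · rintro ⟨k, hk, hkx⟩
      have h1 : k⁻¹ * x ∈ Z := QuotientGroup.eq.mp hkx
      have : x = k * (k⁻¹ * x) := by group
      rw [this]
      exact H.mul_mem hk (hZH h1)
    · intro hx
      exact ⟨x, hx, rfl⟩
  have hP2 : ∀ t x : G, π x ∈ MulAut.conj (π t) • Hb ↔ x ∈ MulAut.conj t • H := by
    intro t x
    rw [mem_conj_smul_iff, mem_conj_smul_iff, ← map_inv, ← map_mul, ← map_mul, hP0]
  have hkermem : ∀ x : G, π x ∈ Cfsg.frobeniusKernel Hb ↔ x ∈ K := by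
    intro x
    rw [hker]
    exact hP1 x
  have hKcomm : ∀ a ∈ K, ∀ b ∈ K, a * b = b * a := by
    intro a ha b hb
    have := hK.is_comm.comm ⟨a, ha⟩ ⟨b, hb⟩
    exact congrArg Subtype.val this
  have hHcomm : ∀ a ∈ H, ∀ b ∈ H, a * b = b * a := by
    intro a ha b hb
    have := hH.is_comm.comm ⟨a, ha⟩ ⟨b, hb⟩
    exact congrArg Subtype.val this
  have hHtcomm : ∀ t : G, ∀ a ∈ MulAut.conj t • H, ∀ b ∈ MulAut.conj t • H, a * b = b * a := by
    intro t a ha b hb
    rw [mem_conj_smul_iff] at ha hb
    have := hHcomm _ ha _ hb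
    have e1 : a * b = t * ((t⁻¹ * a * t) * (t⁻¹ * b * t)) * t⁻¹ := by group
    have e2 : b * a = t * ((t⁻¹ * b * t) * (t⁻¹ * a * t)) * t⁻¹ := by group
    rw [e1, e2, this]
  -- the three cases
  have hcase1 : ∀ x : G, x ∈ Z → (Subgroup.centralizer ({x} : Set G)).index = 1 := by
    intro x hx
    rw [Subgroup.index_eq_one, Subgroup.eq_top_iff']
    intro g
    rw [mem_cent]
    exact (Subgroup.mem_center_iff.mp hx g)
  have hcase2 : ∀ x : G, x ∉ Z → x ∈ K → Subgroup.centralizer ({x} : Set G) = K := by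
    intro x hxZ hxK
    ext g
    rw [mem_cent]
    constructor
    · intro hg
      rw [← hkermem]
      apply commute_mem_kernel Hb hFrob (π x) (π g) ((hkermem x).mpr hxK)
      · intro h; exact hxZ ((hπ1 x).mp h)
      · rw [← map_mul, ← map_mul, hg]
    · intro hg
      exact hKcomm g hg x hxK
  have hcase3 : ∀ x : G, x ∉ K → ∃ t : G, Subgroup.centralizer ({x} : Set G) = MulAut.conj t • H := by
    intro x hxK
    have hxZ : x ∉ Z := fun h => hxK (hZK h)
    have h1 : π x ∉ Cfsg.frobeniusKernel Hb := fun h => hxK ((hkermem x).mp h)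
    rcases mem_kernel_or_conj Hb (π x) with h2 | ⟨tb, h2⟩
    · exact absurd h2 h1
    · obtain ⟨t, rfl⟩ := QuotientGroup.mk'_surjective Z tb
      refine ⟨t, ?_⟩
      have hxt : x ∈ MulAut.conj t • H := (hP2 t x).mp h2
      ext g
      rw [mem_cent]
      constructor
      · intro hg
        rw [← hP2]
        apply commute_mem_conj Hb hFrob (π t) (π x) (π g) h2
        · intro h; exact hxZ ((hπ1 x).mp h)
        · rw [← map_mul, ← map_mul, hg]
      · intro hg
        exact hHtcomm t g hg x hxt
  refine ⟨?_, ?_⟩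
  · ext n
    simp only [Set.mem_range, Set.mem_insert_iff, Set.mem_singleton_iff]
    constructor
    · rintro ⟨x, rfl⟩
      by_cases hxZ : x ∈ Z
      · exact Or.inl (hcase1 x hxZ)
      · by_cases hxK : x ∈ K
        · right; left
          rw [hcase2 x hxZ hxK]
        · right; right
          obtain ⟨t, ht⟩ := hcase3 x hxK
          rw [ht, index_conj_smul]
    · rintro (rfl | rfl | rfl)
      · exact ⟨1, hcase1 1 Z.one_mem⟩
      · -- an element of K outside Z
        obtain ⟨yb, hyb⟩ := Cfsg.Agent.Lib.Helper7_Conj.exists_not_mem_conj Hb hFrob.2.1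
        obtain ⟨y, rfl⟩ := QuotientGroup.mk'_surjective Z yb
        have hyK : y ∈ K := (hkermem y).mp (Or.inr hyb)
        have hyZ : y ∉ Z := by
          intro h
          have h1 : π y = 1 := (hπ1 y).mpr h
          apply hyb 1
          rw [h1]
          exact Subgroup.one_mem _
        exact ⟨y, by rw [hcase2 y hyZ hyK]⟩
      · -- an element of H outside K
        have hHbbot := hFrob.1
        obtain ⟨⟨hb, hhb⟩, hhb1⟩ := (Subgroup.ne_bot_iff_exists_ne_one.mp hHbbot)
        obtain ⟨h, hhH, rfl⟩ := Subgroup.mem_map.mp hhb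
        have hh1 : π h ≠ 1 := fun e => hhb1 (Subtype.ext e)
        have hhK : h ∉ K := by
          intro hK'
          have h1 : π h ∈ Cfsg.frobeniusKernel Hb := (hkermem h).mpr hK'
          have h2 : π h ∈ MulAut.conj (1 : G ⧸ Z) • Hb := by
            rw [mem_conj_smul_iff]; simpa using hhb
          exact not_mem_kernel_of_mem_conj Hb 1 (π h) h2 hh1 h1
        obtain ⟨t, ht⟩ := hcase3 h hhK
        exact ⟨h, by rw [ht, index_conj_smul]⟩
  · -- coprimality
    by_contra hc
    obtain ⟨p, hp, hpK, hpH⟩ := Nat.Prime.not_coprime_iff_dvd.mp hc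
    haveI : Fact p.Prime := ⟨hp⟩
    obtain ⟨P⟩ : Nonempty (Sylow p G) := inferInstance
    have hnotle : ∀ L : Subgroup G, (P : Subgroup G) ≤ L → ¬ p ∣ L.index := by
      intro L hle hdvd
      exact P.not_dvd_index (hdvd.trans (Subgroup.index_dvd_of_le hle))
    by_cases hPZ : (P : Subgroup G) ≤ Z
    · exact hnotle K (hPZ.trans hZK) hpK
    · -- the image of P is a nontrivial p-group
      set Pb : Subgroup (G ⧸ Z) := (P : Subgroup G).map π with hPb
      have hPbp : IsPGroup p Pb := P.isPGroup'.map π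
      obtain ⟨y, hyP, hyZ⟩ := SetLike.not_le_iff_exists.mp hPZ
      haveI : Nontrivial Pb := ⟨⟨⟨π y, Subgroup.mem_map_of_mem π hyP⟩, 1, fun h =>
        hyZ ((hπ1 y).mp (congrArg Subtype.val h))⟩⟩
      haveI : Nontrivial (Subgroup.center Pb) := hPbp.center_nontrivial
      obtain ⟨⟨⟨zb, hzbP⟩, hzc⟩, hz1⟩ := exists_ne (1 : Subgroup.center Pb)
      have hzb1 : zb ≠ 1 := by
        intro h
        apply hz1
        apply Subtype.ext
        apply Subtype.ext
        exact h
      have hzcomm : ∀ w : G, w ∈ (P : Subgroup G) → π w * zb = zb * π w := by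
        intro w hw
        have := Subgroup.mem_center_iff.mp hzc ⟨π w, Subgroup.mem_map_of_mem π hw⟩
        exact congrArg Subtype.val this
      rcases mem_kernel_or_conj Hb zb with hzk | ⟨tb, hzt⟩
      · -- P ≤ K
        apply hnotle K _ hpK
        intro w hw
        rw [← hkermem]
        exact commute_mem_kernel Hb hFrob zb (π w) hzk hzb1 (hzcomm w hw)
      · obtain ⟨t, rfl⟩ := QuotientGroup.mk'_surjective Z tb
        have hle : (P : Subgroup G) ≤ MulAut.conj t • H := by
          intro w hw
          rw [← hP2]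
          exact commute_mem_conj Hb hFrob (π t) zb (π w) hzt hzb1 (hzcomm w hw)
        apply hnotle _ hle
        rw [index_conj_smul]
        exact hpH

end Cfsg.Agent.S4283
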