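import Mathlib
import Cfsg.Statements.S4299
import Cfsg.Agent.Lib.Helper7_Frobenius

set_option autoImplicit false
open Cfsg

namespace Cfsg.Agent.S4299

open Cfsg.Agent.Lib.Helper7_Frobenius

theorem result {C : Type*} [Group C] [Finite C] [IsCyclic C] [Nontrivial C] :
    ∃ (L : Type) (_ : Group L) (_ : Finite L) (H : Subgroup L), Cfsg.IsFrobeniusComplement H ∧ Nonempty (C ≃* H) := by
  classical
  set n := Nat.card C with hn
  have hn2 : 1 < n := Finite.one_lt_card
  obtain ⟨p, hp, hnp, hmod⟩ := Nat.exists_prime_gt_modEq_one n (by omega : n ≠ 0)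
  haveI : Fact p.Prime := ⟨hp⟩
  have hdvd : n ∣ p - 1 := (Nat.modEq_iff_dvd' hp.one_lt.le).mp hmod.symm
  -- a generator of the unit group
  obtain ⟨g, hg⟩ := IsCyclic.exists_generator (α := (ZMod p)ˣ)
  have hog : orderOf g = p - 1 := by
    rw [orderOf_eq_card_of_forall_mem_zpowers hg, Nat.card_eq_fintype_card, ZMod.card_units]
  set u := g ^ ((p - 1) / n) with hu
  have hp1 : p - 1 ≠ 0 := by have := hp.two_le; omega
  have hou : orderOf u = n := by
    rw [hu, ← hog]
    exact orderOf_pow_orderOf_div (by rw [hog]; exact hp1) (by rw [hog]; exact hdvd)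
  set U : Subgroup (ZMod p)ˣ := Subgroup.zpowers u with hU
  have hcardU : Nat.card U = n := by rw [hU, Nat.card_zpowers, hou]
  haveI : Nontrivial U := by
    rw [← Finite.one_lt_card_iff_nontrivial, hcardU]; exact hn2
  let φ : U →* MulAut (Multiplicative (ZMod p)) := (unitsMulAut (ZMod p)).comp U.subtype
  have hfpf : ∀ k : U, k ≠ 1 → ∀ a : Multiplicative (ZMod p), φ k a = a → a = 1 := by
    intro k hk a ha
    have h1 : Multiplicative.ofAdd (((k : (ZMod p)ˣ) : ZMod p) * a.toAdd) = a := ha
    have h2 : ((k : (ZMod p)ˣ) : ZMod p) * a.toAdd = a.toAdd := congrArg Multiplicative.toAdd h1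
    have h3 : (((k : (ZMod p)ˣ) : ZMod p) - 1) * a.toAdd = 0 := by
      rw [sub_mul, h2, one_mul, sub_self]
    rcases mul_eq_zero.mp h3 with h4 | h4
    · exfalso
      apply hk
      apply Subtype.ext
      apply Units.ext
      rw [sub_eq_zero] at h4
      simpa using h4
    · exact congrArg Multiplicative.ofAdd h4
  refine ⟨Multiplicative (ZMod p) ⋊[φ] U, inferInstance, inferInstance,
    (SemidirectProduct.inr : U →* Multiplicative (ZMod p) ⋊[φ] U).range,
    isFrobeniusComplement_inr_range φ hfpf, ?_⟩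
  have e1 : C ≃* U := mulEquivOfCyclicCardEq (by rw [hcardU])
  exact ⟨e1.trans (inrRangeEquiv φ)⟩

end Cfsg.Agent.S4299
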