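import Mathlib
import Cfsg.Statements.S4293
import Cfsg.Agent.Lib.Helper7_Frobenius
import Cfsg.Agent.S4299

set_option autoImplicit false
open Cfsg

namespace Cfsg.Agent.S4293

open Cfsg.Agent.Lib.Helper7_Frobenius

/-- A finite subgroup of the units of a division ring of prime characteristic is cyclic. -/
theorem isCyclic_of_charP {D : Type*} [DivisionRing D] (p : ℕ) [Fact p.Prime] [CharP D p]
    (H : Subgroup Dˣ) [Finite H] : IsCyclic H := by
  classical
  let S : Set D := Set.range (fun h : H => ((h : Dˣ) : D))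
  have hSfin : S.Finite := Set.finite_range _
  let M : Submonoid D :=
    { carrier := S
      one_mem' := ⟨1, by simp⟩
      mul_mem' := by
        rintro _ _ ⟨a, rfl⟩ ⟨b, rfl⟩
        exact ⟨a * b, by simp⟩ }
  have hM : Submonoid.closure S = M := by
    apply le_antisymm
    · rw [Submonoid.closure_le]; exact fun x hx => hx
    · exact fun x hx => Submonoid.subset_closure hx
  set Λ : Subring D := Subring.closure S with hΛ
  set P : AddSubgroup D := AddSubgroup.closure S with hP
  have hΛP : ∀ x : D, x ∈ Λ ↔ x ∈ P := by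
    intro x
    rw [hΛ, Subring.mem_closure_iff, hM]
    rfl
  have hPfg : P.FG := ⟨hSfin.toFinset, by rw [hP]; congr 1; exact hSfin.coe_toFinset⟩
  haveI : AddGroup.FG P := (AddGroup.fg_iff_addSubgroup_fg P).mpr hPfg
  have hPtors : IsAddTorsion P := by
    intro x
    rw [isOfFinAddOrder_iff_nsmul_eq_zero]
    refine ⟨p, (Fact.out : p.Prime).pos, ?_⟩
    apply Subtype.ext
    show p • (x : D) = 0
    rw [nsmul_eq_mul, CharP.cast_eq_zero, zero_mul]
  haveI hPfin : Finite P := AddCommGroup.finite_of_fg_isAddTorsion P hPtors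
  haveI : Finite Λ := by
    have : (Λ : Set D) = (P : Set D) := by ext x; exact hΛP x
    have h2 : (P : Set D).Finite := Set.toFinite _
    rw [← this] at h2
    exact h2
  have hfield := Finite.isDomain_to_isField Λ
  have hcommS : ∀ x ∈ S, ∀ y ∈ S, x * y = y * x := by
    intro x hx y hy
    have := hfield.mul_comm ⟨x, Subring.subset_closure hx⟩ ⟨y, Subring.subset_closure hy⟩
    exact congrArg Subtype.val this
  haveI : IsMulCommutative (Subring.closure S) := Subring.isMulCommutative_closure hcommS
  letI : CommRing (Subring.closure S) :=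
    { (inferInstance : Ring (Subring.closure S)) with
      mul_comm := fun a b => mul_comm' a b }
  let f : H →* Subring.closure S :=
    { toFun := fun h => ⟨((h : Dˣ) : D), Subring.subset_closure ⟨h, rfl⟩⟩
      map_one' := by apply Subtype.ext; simp
      map_mul' := fun a b => by apply Subtype.ext; simp }
  have hf : Function.Injective f := by
    intro a b hab
    have : ((a : Dˣ) : D) = ((b : Dˣ) : D) := congrArg Subtype.val hab
    exact Subtype.ext (Units.ext this)
  exact isCyclic_of_injective_ringHom f hf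

section Matrices

variable (R : Type*) [CommRing R] (ι : Type*) [Fintype ι] [DecidableEq ι]

/-- invertible matrices act on column vectors -/
def glMulAut : (Matrix ι ι R)ˣ →* MulAut (Multiplicative (ι → R)) where
  toFun u :=
    { toFun := fun v => Multiplicative.ofAdd ((u : Matrix ι ι R).mulVec v.toAdd)
      invFun := fun v => Multiplicative.ofAdd ((↑u⁻¹ : Matrix ι ι R).mulVec v.toAdd)
      left_inv := fun v => by
        show Multiplicative.ofAdd ((↑u⁻¹ : Matrix ι ι R).mulVec
          ((u : Matrix ι ι R).mulVec v.toAdd)) = v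
        rw [Matrix.mulVec_mulVec, Units.inv_mul, Matrix.one_mulVec]
        rfl
      right_inv := fun v => by
        show Multiplicative.ofAdd ((u : Matrix ι ι R).mulVec
          ((↑u⁻¹ : Matrix ι ι R).mulVec v.toAdd)) = v
        rw [Matrix.mulVec_mulVec, Units.mul_inv, Matrix.one_mulVec]
        rfl
      map_mul' := fun v w => by
        show Multiplicative.ofAdd ((u : Matrix ι ι R).mulVec (v.toAdd + w.toAdd))
          = Multiplicative.ofAdd ((u : Matrix ι ι R).mulVec v.toAdd
            + (u : Matrix ι ι R).mulVec w.toAdd)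
        rw [Matrix.mulVec_add] }
  map_one' := by
    apply MulEquiv.ext
    intro v
    show Multiplicative.ofAdd ((1 : Matrix ι ι R).mulVec v.toAdd) = v
    rw [Matrix.one_mulVec]
    rfl
  map_mul' := fun u v => by
    apply MulEquiv.ext
    intro w
    show Multiplicative.ofAdd (((u * v : (Matrix ι ι R)ˣ) : Matrix ι ι R).mulVec w.toAdd)
      = Multiplicative.ofAdd ((u : Matrix ι ι R).mulVec ((v : Matrix ι ι R).mulVec w.toAdd))
    rw [Units.val_mul, Matrix.mulVec_mulVec]

theorem glMulAut_apply (u : (Matrix ι ι R)ˣ) (v : Multiplicative (ι → R)) :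
    glMulAut R ι u v = Multiplicative.ofAdd ((u : Matrix ι ι R).mulVec v.toAdd) := rfl

end Matrices

/-- the key ring identity -/
theorem sum_mul_sub_one {R : Type*} [Ring R] (x : R) (m : ℕ) :
    (∑ i ∈ Finset.range m, (i : R) * x ^ i) * (x - 1)
      = (m : R) * x ^ m - x * ∑ i ∈ Finset.range m, x ^ i := by
  induction m with
  | zero => simp
  | succ m ih =>
    rw [Finset.sum_range_succ, add_mul, ih, Finset.sum_range_succ]
    have h1 : ∀ k : ℕ, (k : R) * x = x * (k : R) := fun k => (Nat.cast_commute k x).eq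
    have h2 : (m : R) * x ^ m * (x - 1) = (m : R) * x ^ (m + 1) - (m : R) * x ^ m := by
      rw [mul_sub, mul_one, mul_assoc, ← pow_succ]
    rw [h2, mul_add, ← pow_succ']
    push_cast
    rw [add_mul, one_mul]
    abel

/-- The characteristic zero case: a fixed-point-free linear action over a finite prime field. -/
theorem exists_fpf_of_charZero {D : Type*} [DivisionRing D] [CharZero D] (H : Subgroup Dˣ)
    [Finite H] :
    ∃ (n q : ℕ) (_ : Fact q.Prime) (φ : H →* MulAut (Multiplicative (Fin n → ZMod q))), 0 < n ∧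
      ∀ h : H, h ≠ 1 → ∀ v : Multiplicative (Fin n → ZMod q), φ h v = v → v = 1 := by
  classical
  let S : Set D := Set.range (fun h : H => ((h : Dˣ) : D))
  have hSfin : S.Finite := Set.finite_range _
  let M : Submonoid D :=
    { carrier := S
      one_mem' := ⟨1, by simp⟩
      mul_mem' := by
        rintro _ _ ⟨a, rfl⟩ ⟨b, rfl⟩
        exact ⟨a * b, by simp⟩ }
  have hM : Submonoid.closure S = M := by
    apply le_antisymm
    · rw [Submonoid.closure_le]; exact fun x hx => hx
    · exact fun x hx => Submonoid.subset_closure hx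
  set Λ : Subalgebra ℤ D := Algebra.adjoin ℤ S with hΛ
  have hfg : (Subalgebra.toSubmodule Λ).FG := by
    rw [hΛ, Algebra.adjoin_eq_span, hM]
    exact Submodule.fg_span hSfin
  haveI : Module.Finite ℤ Λ := Module.Finite.of_fg hfg
  haveI : Module.Free ℤ Λ := Module.free_of_finite_type_torsion_free'
  let b := Module.finBasis ℤ Λ
  set n := Module.finrank ℤ Λ with hn
  have hnpos : 0 < n := Module.finrank_pos
  let ρ : Λ →ₐ[ℤ] Matrix (Fin n) (Fin n) ℤ := Algebra.leftMulMatrix b
  obtain ⟨q, hq1, hq⟩ := Nat.exists_infinite_primes (Nat.card H + 1)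
  haveI : Fact q.Prime := ⟨hq⟩
  let ρbar : Λ →+* Matrix (Fin n) (Fin n) (ZMod q) :=
    (Int.castRingHom (ZMod q)).mapMatrix.comp (ρ : Λ →+* Matrix (Fin n) (Fin n) ℤ)
  let f₀ : H →* Λ :=
    { toFun := fun h => ⟨((h : Dˣ) : D), Algebra.subset_adjoin ⟨h, rfl⟩⟩
      map_one' := by apply Subtype.ext; simp
      map_mul' := fun a b => by apply Subtype.ext; simp }
  let g₀ : H →* Matrix (Fin n) (Fin n) (ZMod q) := ρbar.toMonoidHom.comp f₀
  let φ : H →* MulAut (Multiplicative (Fin n → ZMod q)) :=
    (glMulAut (ZMod q) (Fin n)).comp g₀.toHomUnits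
  refine ⟨n, q, ⟨hq⟩, φ, hnpos, ?_⟩
  intro h hh1 v hv
  have hv' : (g₀ h).mulVec v.toAdd = v.toAdd := by
    have := congrArg Multiplicative.toAdd hv
    exact this
  set m := orderOf h with hm
  have hmdvd : m ∣ Nat.card H := orderOf_dvd_natCard h
  have hmpos : 0 < m := orderOf_pos h
  have hmle : m ≤ Nat.card H := Nat.le_of_dvd Nat.card_pos hmdvd
  -- identities in `D`
  set x : D := ((h : Dˣ) : D) with hx
  have hxm : x ^ m = 1 := by
    have h1 : h ^ m = 1 := pow_orderOf_eq_one h
    have h2 := congrArg (fun z : H => ((z : Dˣ) : D)) h1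
    simpa using h2
  have hx1 : x - 1 ≠ 0 := by
    intro h0
    apply hh1
    apply Subtype.ext
    apply Units.ext
    show x = 1
    exact sub_eq_zero.mp h0
  have hgeom : ∑ i ∈ Finset.range m, x ^ i = 0 := by
    have := geom_sum_mul x m
    rw [hxm, sub_self] at this
    exact (mul_eq_zero.mp this).resolve_right hx1
  have hid := sum_mul_sub_one x m
  rw [hxm, hgeom, mul_zero, sub_zero, mul_one] at hid
  -- transport to `Λ`
  set xΛ : Λ := f₀ h with hxΛ
  have hidΛ : (∑ i ∈ Finset.range m, (i : Λ) * xΛ ^ i) * (xΛ - 1) = (m : Λ) := by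
    apply Subtype.ext
    have hc : ((xΛ : Λ) : D) = x := rfl
    push_cast
    rw [hc]
    exact hid
  have hidM := congrArg ρbar hidΛ
  rw [map_mul, map_sub, map_one, map_natCast] at hidM
  have hρx : ρbar xΛ = g₀ h := rfl
  rw [hρx] at hidM
  have h3 := congrArg (fun A : Matrix (Fin n) (Fin n) (ZMod q) => A.mulVec v.toAdd) hidM
  simp only [← Matrix.mulVec_mulVec, Matrix.sub_mulVec, Matrix.one_mulVec, hv', sub_self,
    Matrix.mulVec_zero, Matrix.natCast_mulVec] at h3
  have hmq : (m : ZMod q) ≠ 0 := by
    intro h0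
    rw [ZMod.natCast_eq_zero_iff] at h0
    have := Nat.le_of_dvd hmpos h0
    omega
  have h4 : v.toAdd = 0 := by
    have := h3.symm
    rcases smul_eq_zero.mp this with h5 | h5
    · exact absurd h5 hmq
    · exact h5
  exact h4

/-- A nontrivial finite subgroup of the multiplicative group of a division ring occurs as a Frobenius complement of some finite Frobenius group. -/
theorem result {D : Type*} [DivisionRing D] (H : Subgroup Dˣ) [Finite H] (hH : H ≠ ⊥) :
    ∃ (L : Type) (_ : Group L) (_ : Finite L) (C : Subgroup L), Cfsg.IsFrobeniusComplement C ∧ Nonempty (H ≃* C) := by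
  classical
  haveI : Nontrivial H := (Subgroup.nontrivial_iff_ne_bot H).mpr hH
  obtain ⟨p, hp⟩ := CharP.exists D
  rcases CharP.char_is_prime_or_zero D p with hpp | hp0
  · haveI : Fact p.Prime := ⟨hpp⟩
    haveI := isCyclic_of_charP p H
    exact Cfsg.Agent.S4299.result (C := H)
  · subst hp0
    haveI : CharZero D := CharP.charP_to_charZero D
    obtain ⟨n, q, hq, φ, hnpos, hfpf⟩ := exists_fpf_of_charZero H
    haveI := hq
    haveI : NeZero n := ⟨hnpos.ne'⟩
    let e : Shrink.{0} H ≃* H := Shrink.mulEquiv
    let φ' : Shrink.{0} H →* MulAut (Multiplicative (Fin n → ZMod q)) := φ.comp e.toMonoidHom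
    haveI : Nontrivial (Shrink.{0} H) := e.toEquiv.nontrivial
    haveI : Finite (Shrink.{0} H) := Finite.of_equiv H e.symm.toEquiv
    haveI : Nontrivial (Multiplicative (Fin n → ZMod q)) :=
      inferInstanceAs (Nontrivial (Fin n → ZMod q))
    haveI : Finite (Multiplicative (Fin n → ZMod q)) := inferInstanceAs (Finite (Fin n → ZMod q))
    have hfpf' : ∀ k : Shrink.{0} H, k ≠ 1 → ∀ v : Multiplicative (Fin n → ZMod q),
        φ' k v = v → v = 1 := by
      intro k hk v hv
      apply hfpf (e k) _ v hv
      intro h1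
      apply hk
      apply e.injective
      rw [h1, map_one]
    refine ⟨Multiplicative (Fin n → ZMod q) ⋊[φ'] Shrink.{0} H, inferInstance, inferInstance,
      (SemidirectProduct.inr : Shrink.{0} H →* _).range, ?_, ⟨e.symm.trans (inrRangeEquiv φ')⟩⟩
    exact isFrobeniusComplement_inr_range φ' hfpf'

end Cfsg.Agent.S4293
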