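import Mathlib
import Cfsg.Statements.S4296
import Cfsg.Agent.Lib.Helper7_Fpf2
import Cfsg.Agent.S0038

set_option autoImplicit false
open Cfsg

namespace Cfsg.Agent.S4296

open Cfsg.Agent.Lib.Helper7_FrobGroup Cfsg.Agent.Lib.Helper7_Fpf Cfsg.Agent.Lib.Helper7_Fpf2

/-- kernel of a Frobenius complement with a non-cyclic `p`-subgroup: odd square order -/
theorem main {L : Type*} [Group L] [Finite L] (H : Subgroup L) (hF : Cfsg.IsFrobeniusComplement H)
    (p : ℕ) [Fact p.Prime] (P : Subgroup H) (hP : IsPGroup p P) (hnc : ¬ IsCyclic P) :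
    Odd (Nat.card (Cfsg.frobeniusKernel H)) ∧ IsSquare (Nat.card (Cfsg.frobeniusKernel H)) := by
  have hcard : Nat.card (kernel H hF) = Nat.card (Cfsg.frobeniusKernel H) := by
    rw [← kernel_coe H hF]; rfl
  rw [← hcard]
  letI : MulDistribMulAction H (kernel H hF) :=
    Cfsg.Agent.Lib.Helper6_ConjAct.conjNormalizer H (kernel H hF)
      (by rw [Subgroup.normalizer_eq_top]; exact le_top)
  have hf : Fpf H (kernel H hF) := Cfsg.Agent.S0038.fpf_conj H hF
  haveI : Nontrivial (kernel H hF) := by
    have hK : kernel H hF ≠ ⊥ := by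
      intro h
      have h1 := card_kernel H hF
      rw [h, Subgroup.card_bot] at h1
      exact hF.2.1 (Subgroup.index_eq_one.mp h1.symm)
    exact (Subgroup.nontrivial_iff_ne_bot _).mpr hK
  exact odd_square_of_not_cyclic hf p P hP hnc

/-- Let H be a Frobenius complement in a finite group, and suppose some Sylow subgroup of H is not cyclic. Then the number of elements of the Frobenius kernel (the identity together with the elements lying in no conjugate of H) is an odd perfect square. -/
theorem result {L : Type*} [Group L] [Finite L] (H : Subgroup L) (hF : Cfsg.IsFrobeniusComplement H)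
    (hZ : ∃ (p : ℕ) (_ : Fact p.Prime) (P : Sylow p H), ¬ IsCyclic P) :
    Odd (Nat.card (Cfsg.frobeniusKernel H)) ∧ IsSquare (Nat.card (Cfsg.frobeniusKernel H)) := by
  obtain ⟨p, hp, P, hP⟩ := hZ
  exact main H hF p (P : Subgroup H) P.isPGroup' hP

end Cfsg.Agent.S4296
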