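import Mathlib
import Cfsg.Statements.S4295
import Cfsg.Agent.Lib.Helper7_Frobenius
import Cfsg.Agent.Lib.Helper7_QuatLift
import Cfsg.Agent.S4296
import Cfsg.Agent.S0034

set_option autoImplicit false
open Cfsg

namespace Cfsg.Agent.S4295

open Cfsg.Agent.Lib.Helper7_Frobenius Cfsg.Agent.Lib.Helper7_QuatLift

section Construction

variable (R : Type) [CommRing R]

/-- invertible matrices act on column vectors -/
def glMulAut : (Matrix (Fin 2) (Fin 2) R)ˣ →* MulAut (Multiplicative (Fin 2 → R)) where
  toFun u :=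
    { toFun := fun v => Multiplicative.ofAdd ((u : Matrix (Fin 2) (Fin 2) R).mulVec v.toAdd)
      invFun := fun v => Multiplicative.ofAdd ((↑u⁻¹ : Matrix (Fin 2) (Fin 2) R).mulVec v.toAdd)
      left_inv := fun v => by
        show Multiplicative.ofAdd ((↑u⁻¹ : Matrix (Fin 2) (Fin 2) R).mulVec
          ((u : Matrix (Fin 2) (Fin 2) R).mulVec v.toAdd)) = v
        rw [Matrix.mulVec_mulVec, Units.inv_mul, Matrix.one_mulVec]
        rfl
      right_inv := fun v => by
        show Multiplicative.ofAdd ((u : Matrix (Fin 2) (Fin 2) R).mulVec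
          ((↑u⁻¹ : Matrix (Fin 2) (Fin 2) R).mulVec v.toAdd)) = v
        rw [Matrix.mulVec_mulVec, Units.mul_inv, Matrix.one_mulVec]
        rfl
      map_mul' := fun v w => by
        show Multiplicative.ofAdd ((u : Matrix (Fin 2) (Fin 2) R).mulVec (v.toAdd + w.toAdd))
          = Multiplicative.ofAdd ((u : Matrix (Fin 2) (Fin 2) R).mulVec v.toAdd
            + (u : Matrix (Fin 2) (Fin 2) R).mulVec w.toAdd)
        rw [Matrix.mulVec_add] }
  map_one' := by
    apply MulEquiv.ext
    intro v
    show Multiplicative.ofAdd ((1 : Matrix (Fin 2) (Fin 2) R).mulVec v.toAdd) = v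
    rw [Matrix.one_mulVec]
    rfl
  map_mul' := fun u v => by
    apply MulEquiv.ext
    intro w
    show Multiplicative.ofAdd (((u * v : (Matrix (Fin 2) (Fin 2) R)ˣ) :
        Matrix (Fin 2) (Fin 2) R).mulVec w.toAdd)
      = Multiplicative.ofAdd ((u : Matrix (Fin 2) (Fin 2) R).mulVec
          ((v : Matrix (Fin 2) (Fin 2) R).mulVec w.toAdd))
    rw [Units.val_mul, Matrix.mulVec_mulVec]

theorem glMulAut_apply (u : (Matrix (Fin 2) (Fin 2) R)ˣ) (v : Multiplicative (Fin 2 → R)) :
    glMulAut R u v = Multiplicative.ofAdd ((u : Matrix (Fin 2) (Fin 2) R).mulVec v.toAdd) := rfl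

variable {R}
variable (α β : R) (hab : α ^ 2 + β ^ 2 = -1)

/-- the matrix of `i` -/
def mA : Matrix (Fin 2) (Fin 2) R := !![0, -1; 1, 0]

/-- the matrix of `j` -/
def mX : Matrix (Fin 2) (Fin 2) R := !![α, β; β, -α]

theorem mA_sq : (mA : Matrix (Fin 2) (Fin 2) R) * mA = -1 := by
  ext i j
  fin_cases i <;> fin_cases j <;> simp [mA, Matrix.mul_apply, Fin.sum_univ_two]

include hab in
theorem mX_sq : mX α β * mX α β = -1 := by
  ext i j
  fin_cases i <;> fin_cases j <;> simp [mX, Matrix.mul_apply, Fin.sum_univ_two]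
  · linear_combination hab
  · ring
  · ring
  · linear_combination hab

theorem mX_mA : mX α β * mA = -(mA * mX α β) := by
  ext i j
  fin_cases i <;> fin_cases j <;> simp [mX, mA, Matrix.mul_apply, Fin.sum_univ_two]

/-- unit version of `mA` -/
def uA : (Matrix (Fin 2) (Fin 2) R)ˣ :=
  ⟨mA, -mA, by rw [mul_neg, mA_sq, neg_neg], by rw [neg_mul, mA_sq, neg_neg]⟩

/-- unit version of `mX` -/
def uX : (Matrix (Fin 2) (Fin 2) R)ˣ :=
  ⟨mX α β, -mX α β, by rw [mul_neg, mX_sq α β hab, neg_neg], by rw [neg_mul, mX_sq α β hab, neg_neg]⟩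

theorem uA_sq : ((uA : (Matrix (Fin 2) (Fin 2) R)ˣ) ^ 2 : (Matrix (Fin 2) (Fin 2) R)ˣ).val = -1 := by
  rw [pow_two, Units.val_mul]
  exact mA_sq

theorem uA_pow : (uA : (Matrix (Fin 2) (Fin 2) R)ˣ) ^ (2 * 2) = 1 := by
  apply Units.ext
  rw [pow_mul, Units.val_pow_eq_pow_val, uA_sq]
  simp

theorem uX_sq : uX α β hab * uX α β hab = (uA : (Matrix (Fin 2) (Fin 2) R)ˣ) ^ 2 := by
  apply Units.ext
  rw [uA_sq, Units.val_mul]
  exact mX_sq α β hab

theorem uX_uA : uX α β hab * uA = (uA : (Matrix (Fin 2) (Fin 2) R)ˣ)⁻¹ * uX α β hab := by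
  apply Units.ext
  rw [Units.val_mul, Units.val_mul]
  show mX α β * mA = -mA * mX α β
  rw [mX_mA, neg_mul]

/-- the representation of `Q₈` -/
noncomputable def rep : QuaternionGroup 2 →* (Matrix (Fin 2) (Fin 2) R)ˣ :=
  lift uA (uX α β hab) uA_pow (uX_sq α β hab) (uX_uA α β hab)

/-- every non-identity element is `-1` or squares to `-1` -/
theorem rep_neg_one (k : QuaternionGroup 2) (hk : k ≠ 1) :
    ((rep α β hab k : (Matrix (Fin 2) (Fin 2) R)ˣ) : Matrix (Fin 2) (Fin 2) R) = -1 ∨
    ((rep α β hab k : (Matrix (Fin 2) (Fin 2) R)ˣ) : Matrix (Fin 2) (Fin 2) R) *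
      ((rep α β hab k : (Matrix (Fin 2) (Fin 2) R)ˣ) : Matrix (Fin 2) (Fin 2) R) = -1 := by
  have h2 : ((rep α β hab (QuaternionGroup.a 2) : (Matrix (Fin 2) (Fin 2) R)ˣ) :
      Matrix (Fin 2) (Fin 2) R) = -1 := by
    show ((uA : (Matrix (Fin 2) (Fin 2) R)ˣ) ^ (2 : ZMod (2 * 2)).val).val = -1
    have : (2 : ZMod (2 * 2)).val = 2 := rfl
    rw [this]
    exact uA_sq
  have hsq : k = QuaternionGroup.a 2 ∨ k * k = QuaternionGroup.a 2 := by
    rcases k with i | i
    · rw [QuaternionGroup.a_mul_a]
      have hi : i ≠ 0 := by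
        rintro rfl
        exact hk QuaternionGroup.a_zero
      revert hi
      revert i
      decide
    · right
      rw [QuaternionGroup.xa_mul_xa]
      congr 1
      ring_nf
  rcases hsq with h | h
  · left; rw [h]; exact h2
  · right
    rw [← Units.val_mul, ← map_mul, h]
    exact h2

end Construction

/-- rings for the construction -/
theorem exists_ring : ∀ k : ℕ, Odd k → ∃ (R : Type) (_ : CommRing R) (_ : Finite R),
    Nat.card R = k ∧ IsUnit (2 : R) ∧ ∃ α β : R, α ^ 2 + β ^ 2 = -1 := by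
  intro k
  induction k using Nat.recOnMul with
  | zero => intro h; exact absurd h (by decide)
  | one =>
    intro _
    refine ⟨PUnit, inferInstance, inferInstance, by simp, isUnit_of_subsingleton _, 0, 0,
      Subsingleton.elim _ _⟩
  | prime p hp =>
    intro hodd
    haveI : Fact p.Prime := ⟨hp⟩
    obtain ⟨α, β, hab⟩ := ZMod.sq_add_sq p (-1)
    refine ⟨ZMod p, inferInstance, inferInstance, Nat.card_zmod p, ?_, α, β, hab⟩
    apply IsUnit.mk0
    intro h
    have h1 : ((2 : ℕ) : ZMod p) = 0 := by exact_mod_cast h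
    rw [ZMod.natCast_eq_zero_iff] at h1
    have := (Nat.prime_dvd_prime_iff_eq hp Nat.prime_two).mp h1
    rw [this] at hodd
    exact absurd hodd (by decide)
  | mul a b iha ihb =>
    intro hodd
    rw [Nat.odd_mul] at hodd
    obtain ⟨R₁, _, _, hc1, hu1, α₁, β₁, h1⟩ := iha hodd.1
    obtain ⟨R₂, _, _, hc2, hu2, α₂, β₂, h2⟩ := ihb hodd.2
    refine ⟨R₁ × R₂, inferInstance, inferInstance, ?_, ?_, (α₁, α₂), (β₁, β₂), ?_⟩
    · rw [Nat.card_prod, hc1, hc2]
    · rw [Prod.isUnit_iff]
      exact ⟨hu1, hu2⟩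
    · ext
      · exact h1
      · exact h2

/-- For a natural number m the following are equivalent: (a) some finite group has a Frobenius complement isomorphic to the quaternion group of order 8 whose Frobenius kernel (the identity together with the elements lying in no conjugate of the complement) has exactly m elements; (b) m is an odd perfect square greater than 1. -/
theorem result (m : ℕ) :
    (∃ (L : Type) (_ : Group L) (_ : Finite L) (H : Subgroup L), Cfsg.IsFrobeniusComplement H ∧
        Nonempty (H ≃* QuaternionGroup 2) ∧ Nat.card (Cfsg.frobeniusKernel H) = m) ↔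
    (Odd m ∧ IsSquare m ∧ 1 < m) := by
  classical
  constructor
  · rintro ⟨L, _, _, H, hH, ⟨e⟩, hm⟩
    haveI : Fact (Nat.Prime 2) := ⟨Nat.prime_two⟩
    have hcardH : Nat.card H = 2 ^ 3 := by
      rw [Nat.card_congr e.toEquiv, Nat.card_eq_fintype_card, QuaternionGroup.card]
      norm_num
    have hP : IsPGroup 2 (⊤ : Subgroup H) := by
      apply IsPGroup.of_card (n := 3)
      rw [Subgroup.card_top, hcardH]
    have hnc : ¬ IsCyclic (⊤ : Subgroup H) := by
      intro hcyc
      have hcomm : ∀ x y : (⊤ : Subgroup H), x * y = y * x := by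
        intro x y
        obtain ⟨g, hg⟩ := hcyc.exists_generator
        obtain ⟨i, hi⟩ := Subgroup.mem_zpowers_iff.mp (hg x)
        obtain ⟨j, hj⟩ := Subgroup.mem_zpowers_iff.mp (hg y)
        rw [← hi, ← hj, ← zpow_add, ← zpow_add, add_comm]
      have h1 := hcomm ⟨e.symm (QuaternionGroup.a 1), Subgroup.mem_top _⟩
        ⟨e.symm (QuaternionGroup.xa 0), Subgroup.mem_top _⟩
      have h2 : e.symm (QuaternionGroup.a 1) * e.symm (QuaternionGroup.xa 0)
          = e.symm (QuaternionGroup.xa 0) * e.symm (QuaternionGroup.a 1) :=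
        congrArg (fun z : (⊤ : Subgroup H) => (z : H)) h1
      rw [← map_mul, ← map_mul] at h2
      have h3 := e.symm.injective h2
      rw [QuaternionGroup.a_mul_xa, QuaternionGroup.xa_mul_a] at h3
      revert h3
      decide
    obtain ⟨hodd, hsq⟩ := Cfsg.Agent.S4296.main H hH 2 ⊤ hP hnc
    rw [hm] at hodd hsq
    refine ⟨hodd, hsq, ?_⟩
    have h34 := (Cfsg.Agent.S0034.result H hH).1
    rw [hm] at h34
    have hne : H.index ≠ 1 := fun h => hH.2.1 (Subgroup.index_eq_one.mp h)
    have hpos : H.index ≠ 0 := Subgroup.index_ne_zero_of_finite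
    omega
  · rintro ⟨hodd, ⟨k, rfl⟩, hlt⟩
    have hk : Odd k := (Nat.odd_mul.mp hodd).1
    obtain ⟨R, _, _, hcard, hu, α, β, hab⟩ := exists_ring k hk
    have hk1 : 1 < k := by
      by_contra h
      push Not at h
      interval_cases k <;> simp_all
    let φ : QuaternionGroup 2 →* MulAut (Multiplicative (Fin 2 → R)) :=
      (glMulAut R).comp (rep α β hab)
    haveI : Nontrivial R := by
      rw [← Finite.one_lt_card_iff_nontrivial, hcard]; exact hk1
    haveI : Nontrivial (Multiplicative (Fin 2 → R)) :=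
      inferInstanceAs (Nontrivial (Fin 2 → R))
    haveI : Finite (Multiplicative (Fin 2 → R)) := inferInstanceAs (Finite (Fin 2 → R))
    have hfpf : ∀ g : QuaternionGroup 2, g ≠ 1 → ∀ v : Multiplicative (Fin 2 → R),
        φ g v = v → v = 1 := by
      intro g hg v hv
      have hv' : ((rep α β hab g : (Matrix (Fin 2) (Fin 2) R)ˣ) :
          Matrix (Fin 2) (Fin 2) R).mulVec v.toAdd = v.toAdd := by
        have := congrArg Multiplicative.toAdd hv
        exact this
      have hneg : (-1 : Matrix (Fin 2) (Fin 2) R).mulVec v.toAdd = v.toAdd := by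
        rcases rep_neg_one α β hab g hg with h | h
        · rw [← h]; exact hv'
        · rw [← h, ← Matrix.mulVec_mulVec, hv', hv']
      have h2 : (2 : R) • v.toAdd = 0 := by
        rw [Matrix.neg_mulVec, Matrix.one_mulVec] at hneg
        have : v.toAdd + v.toAdd = 0 := by
          nth_rewrite 1 [← hneg]; simp
        rw [two_smul]; exact this
      obtain ⟨u, hu'⟩ := hu
      have h3 : v.toAdd = 0 := by
        have := congrArg (fun w => (↑u⁻¹ : R) • w) h2
        simp only [smul_zero] at this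
        rw [← hu', smul_smul, Units.inv_mul, one_smul] at this
        exact this
      exact h3
    refine ⟨Multiplicative (Fin 2 → R) ⋊[φ] QuaternionGroup 2, inferInstance, inferInstance,
      (SemidirectProduct.inr : QuaternionGroup 2 →* _).range, ?_, ⟨(inrRangeEquiv φ).symm⟩, ?_⟩
    · exact isFrobeniusComplement_inr_range φ hfpf
    · have hF := isFrobeniusComplement_inr_range φ hfpf
      rw [(Cfsg.Agent.S0034.result _ hF).1]
      have h1 := Subgroup.card_mul_index (SemidirectProduct.inr : QuaternionGroup 2 →*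
          Multiplicative (Fin 2 → R) ⋊[φ] QuaternionGroup 2).range
      have h2 : Nat.card (SemidirectProduct.inr : QuaternionGroup 2 →*
          Multiplicative (Fin 2 → R) ⋊[φ] QuaternionGroup 2).range = Nat.card (QuaternionGroup 2) :=
        (Nat.card_congr (inrRangeEquiv φ).toEquiv).symm
      have h3 : Nat.card (Multiplicative (Fin 2 → R) ⋊[φ] QuaternionGroup 2)
          = Nat.card (Multiplicative (Fin 2 → R)) * Nat.card (QuaternionGroup 2) := by
        rw [Nat.card_congr SemidirectProduct.equivProd, Nat.card_prod]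
      have h4 : Nat.card (Multiplicative (Fin 2 → R)) = k * k := by
        show Nat.card (Fin 2 → R) = k * k
        rw [Nat.card_fun, Nat.card_fin, hcard, pow_two]
      rw [h2, h3, h4] at h1
      have hpos : 0 < Nat.card (QuaternionGroup 2) := Nat.card_pos
      rw [mul_comm] at h1
      exact Nat.eq_of_mul_eq_mul_right hpos h1

end Cfsg.Agent.S4295
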