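import Mathlib
import Cfsg.Statements.S4297
import Cfsg.Agent.Lib.Helper7_Frobenius

set_option autoImplicit false
open Cfsg

namespace Cfsg.Agent.S4297

open Cfsg.Agent.Lib.Helper7_Frobenius

section Construction

variable {n : ℕ} {F : Type*} [Field F] (e : ZMod (2 * n) → F)

/-- image of `a i` -/
def fA (i : ZMod (2 * n)) : Matrix (Fin 2) (Fin 2) F := !![e i, 0; 0, (e i)⁻¹]

/-- image of `xa i` -/
def fX (i : ZMod (2 * n)) : Matrix (Fin 2) (Fin 2) F := !![0, (e i)⁻¹; -(e i), 0]

/-- the underlying function of the representation -/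
def fFun : QuaternionGroup n → Matrix (Fin 2) (Fin 2) F
  | QuaternionGroup.a i => fA e i
  | QuaternionGroup.xa i => fX e i

variable (he0 : e 0 = 1) (hadd : ∀ i j, e (i + j) = e i * e j) (hne : ∀ i, e i ≠ 0)
  (hn1 : e (n : ZMod (2 * n)) = -1)

include he0 hadd hne in
theorem e_sub (i j : ZMod (2 * n)) : e (i - j) = e i * (e j)⁻¹ := by
  have h1 : e (i - j) * e j = e i := by rw [← hadd, sub_add_cancel]
  rw [← h1, mul_assoc, mul_inv_cancel₀ (hne j), mul_one]

include he0 hadd hne hn1 in
theorem fFun_mul (x y : QuaternionGroup n) : fFun e (x * y) = fFun e x * fFun e y := by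
  have hsub := e_sub e he0 hadd hne
  rcases x with i | i <;> rcases y with j | j
  · rw [QuaternionGroup.a_mul_a]
    simp only [fFun, fA, hadd]
    ext r s
    fin_cases r <;> fin_cases s <;> simp [Matrix.mul_apply, Fin.sum_univ_two, mul_comm]
  · rw [QuaternionGroup.a_mul_xa]
    simp only [fFun, fA, fX, hsub]
    have := hne i
    have := hne j
    ext r s
    fin_cases r <;> fin_cases s <;> simp [Matrix.mul_apply, Fin.sum_univ_two, mul_comm]
  · rw [QuaternionGroup.xa_mul_a]
    simp only [fFun, fA, fX, hadd]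
    ext r s
    fin_cases r <;> fin_cases s <;> simp [Matrix.mul_apply, Fin.sum_univ_two, mul_comm]
  · rw [QuaternionGroup.xa_mul_xa]
    simp only [fFun, fA, fX, hsub, hadd, hn1]
    ext r s
    fin_cases r <;> fin_cases s <;> simp [Matrix.mul_apply, Fin.sum_univ_two, mul_comm]

include he0 in
theorem fFun_one : fFun e (1 : QuaternionGroup n) = 1 := by
  rw [QuaternionGroup.one_def]
  simp only [fFun, fA, he0]
  ext r s
  fin_cases r <;> fin_cases s <;> simp

end Construction

theorem result (n : ℕ) (hn : 2 ≤ n) :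
    ∃ (L : Type) (_ : Group L) (_ : Finite L) (H : Subgroup L), Cfsg.IsFrobeniusComplement H ∧ Nonempty (H ≃* QuaternionGroup n) := by
  classical
  haveI : NeZero n := ⟨by omega⟩
  obtain ⟨q, hq, ε, hq2, hinj⟩ := exists_prime_injective_hom (2 * n) (by omega) 2
  haveI := hq
  -- the character e
  let e : ZMod (2 * n) → ZMod q := fun i => ((ε (Multiplicative.ofAdd i) : (ZMod q)ˣ) : ZMod q)
  have he0 : e 0 = 1 := by
    show ((ε (Multiplicative.ofAdd 0) : (ZMod q)ˣ) : ZMod q) = 1
    rw [ofAdd_zero, map_one, Units.val_one]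
  have hadd : ∀ i j, e (i + j) = e i * e j := by
    intro i j
    show ((ε (Multiplicative.ofAdd (i + j)) : (ZMod q)ˣ) : ZMod q) = _
    rw [ofAdd_add, map_mul, Units.val_mul]
  have hne : ∀ i, e i ≠ 0 := fun i => Units.ne_zero _
  have hone : ∀ i, e i = 1 → i = 0 := by
    intro i hi
    have h1 : ε (Multiplicative.ofAdd i) = 1 := Units.ext hi
    have h2 : ε (Multiplicative.ofAdd i) = ε 1 := by rw [h1, map_one]
    have h3 := hinj h2
    exact h3
  have hnn : (n : ZMod (2 * n)) ≠ 0 := by
    intro h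
    rw [ZMod.natCast_eq_zero_iff] at h
    have := Nat.le_of_dvd (by omega) h
    omega
  have hn1 : e (n : ZMod (2 * n)) = -1 := by
    have h1 : e (n : ZMod (2 * n)) * e (n : ZMod (2 * n)) = 1 := by
      rw [← hadd, ← he0]
      congr 1
      have : ((2 * n : ℕ) : ZMod (2 * n)) = 0 := ZMod.natCast_self _
      rw [← this]
      push_cast
      ring
    rcases mul_self_eq_one_iff.mp h1 with h2 | h2
    · exact absurd (hone _ h2) hnn
    · exact h2
  have h2ne : (2 : ZMod q) ≠ 0 := by
    intro h
    have h1 : ((2 : ℕ) : ZMod q) = 0 := by exact_mod_cast h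
    rw [ZMod.natCast_eq_zero_iff] at h1
    have := Nat.le_of_dvd (by norm_num) h1
    omega
  -- the representation
  let f : QuaternionGroup n →* Matrix (Fin 2) (Fin 2) (ZMod q) :=
    { toFun := fFun e
      map_one' := fFun_one e he0
      map_mul' := fFun_mul e he0 hadd hne hn1 }
  let fU : QuaternionGroup n →* (Matrix (Fin 2) (Fin 2) (ZMod q))ˣ := f.toHomUnits
  let φ : QuaternionGroup n →* MulAut (Multiplicative (Matrix (Fin 2) (Fin 2) (ZMod q))) :=
    (unitsMulAut (Matrix (Fin 2) (Fin 2) (ZMod q))).comp fU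
  have hdet : ∀ k : QuaternionGroup n, k ≠ 1 → (f k - 1).det ≠ 0 := by
    intro k hk
    rcases k with i | i
    · have hi : i ≠ 0 := by
        rintro rfl
        exact hk QuaternionGroup.a_zero
      have hei : e i ≠ 1 := fun h => hi (hone i h)
      have hei' : (e i)⁻¹ ≠ 1 := by
        intro h
        apply hei
        have := congrArg (fun t => t⁻¹) h
        simpa using this
      show (fFun e (QuaternionGroup.a i) - 1).det ≠ 0
      rw [Matrix.det_fin_two]
      simp only [fFun, fA, Matrix.sub_apply, Matrix.one_apply_eq, Matrix.of_apply, Matrix.cons_val',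
        Matrix.cons_val_zero, Matrix.cons_val_one, Matrix.one_apply_ne (show (0 : Fin 2) ≠ 1 by decide),
        Matrix.one_apply_ne (show (1 : Fin 2) ≠ 0 by decide), sub_zero, mul_zero, sub_self]
      exact mul_ne_zero (sub_ne_zero.mpr hei) (sub_ne_zero.mpr hei')
    · show (fFun e (QuaternionGroup.xa i) - 1).det ≠ 0
      rw [Matrix.det_fin_two]
      simp only [fFun, fX, Matrix.sub_apply, Matrix.one_apply_eq, Matrix.of_apply, Matrix.cons_val',
        Matrix.cons_val_zero, Matrix.cons_val_one, Matrix.one_apply_ne (show (0 : Fin 2) ≠ 1 by decide),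
        Matrix.one_apply_ne (show (1 : Fin 2) ≠ 0 by decide), sub_zero, zero_sub]
      have h3 : (-1 : ZMod q) * -1 - (e i)⁻¹ * (-(e i)) = 2 := by
        have := hne i
        field_simp
        ring
      rw [h3]
      exact h2ne
  have hfpf : ∀ k : QuaternionGroup n, k ≠ 1 →
      ∀ B : Multiplicative (Matrix (Fin 2) (Fin 2) (ZMod q)), φ k B = B → B = 1 := by
    intro k hk B hB
    have h1 : Multiplicative.ofAdd (f k * B.toAdd) = B := hB
    have h2 : f k * B.toAdd = B.toAdd := congrArg Multiplicative.toAdd h1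
    have h3 : (f k - 1) * B.toAdd = 0 := by
      rw [sub_mul, h2, one_mul, sub_self]
    have hu : IsUnit (f k - 1).det := isUnit_iff_ne_zero.mpr (hdet k hk)
    have h4 : B.toAdd = 0 := by
      have := congrArg (fun t => (f k - 1)⁻¹ * t) h3
      simpa [← mul_assoc, Matrix.nonsing_inv_mul _ hu] using this
    exact congrArg Multiplicative.ofAdd h4
  refine ⟨Multiplicative (Matrix (Fin 2) (Fin 2) (ZMod q)) ⋊[φ] QuaternionGroup n, inferInstance,
    inferInstance, (SemidirectProduct.inr :
      QuaternionGroup n →* Multiplicative (Matrix (Fin 2) (Fin 2) (ZMod q)) ⋊[φ] QuaternionGroup n).range,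
    isFrobeniusComplement_inr_range φ hfpf, ⟨(inrRangeEquiv φ).symm⟩⟩

end Cfsg.Agent.S4297
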