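import Mathlib
import Cfsg.Statements.S4298
import Cfsg.Agent.Lib.Helper9_FrobCompl
import Cfsg.Agent.Lib.Helper6_SL23

set_option autoImplicit false
open Cfsg

namespace Cfsg.Agent.S4298

open Cfsg.Agent.Lib.Helper9_FrobCompl.Helper9FC

/-- `SL(2,5)`. -/
abbrev SL25 := Matrix.SpecialLinearGroup (Fin 2) (ZMod 5)

def gI : SL25 := ⟨!![2, 0; 0, 3], by rw [Matrix.det_fin_two_of]; decide⟩
def gJ : SL25 := ⟨!![0, 1; 4, 0], by rw [Matrix.det_fin_two_of]; decide⟩
def gW : SL25 := ⟨!![1, 1; 2, 3], by rw [Matrix.det_fin_two_of]; decide⟩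

/-- The copy of `SL(2,3)` inside `SL(2,5)`. -/
abbrev S25 : Subgroup SL25 := Subgroup.closure {gI, gJ, gW}

theorem hI4 : gI ^ 4 = 1 := by decide
theorem hJ2 : gJ * gJ = gI ^ 2 := by decide
theorem hW3 : gW ^ 3 = 1 := by decide
theorem hinvI : gI⁻¹ = gI ^ 3 := by
  rw [inv_eq_iff_mul_eq_one, ← pow_succ']; exact hI4
theorem hinvW : gW⁻¹ = gW ^ 2 := by
  rw [inv_eq_iff_mul_eq_one, ← pow_succ']; exact hW3
theorem hJI : gJ * gI = gI⁻¹ * gJ := by rw [hinvI]; decide
theorem hWI : gW * gI * gW⁻¹ = gJ := by rw [hinvW]; decide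
theorem hWJ : gW * gJ * gW⁻¹ = gI * gJ := by rw [hinvW]; decide
theorem hI2 : gI ^ 2 ≠ 1 := by decide
theorem hW1 : gW ≠ 1 := by decide
theorem hI1 : gI ≠ 1 := by decide

def iS : S25 := ⟨gI, Subgroup.subset_closure (by simp)⟩
def jS : S25 := ⟨gJ, Subgroup.subset_closure (by simp)⟩
def wS : S25 := ⟨gW, Subgroup.subset_closure (by simp)⟩

theorem S25_equiv : Nonempty (S25 ≃* Matrix.SpecialLinearGroup (Fin 2) (ZMod 3)) := by
  have hcl : Subgroup.closure {iS, jS, wS} = (⊤ : Subgroup S25) := by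
    have h0 := Subgroup.closure_closure_coe_preimage (k := ({gI, gJ, gW} : Set SL25))
    convert h0 using 2
    ext x
    simp [Subtype.ext_iff, iS, jS, wS]
  exact Cfsg.Agent.Lib.Helper6_SL23.SL23_equiv_of_closure iS jS wS
    (Subtype.ext hI4) (Subtype.ext hJ2) (Subtype.ext hJI) (Subtype.ext hW3)
    (Subtype.ext hWI) (Subtype.ext hWJ)
    (fun h => hI2 (congrArg Subtype.val h)) (fun h => hW1 (congrArg Subtype.val h)) hcl

/-- The group SL(2,3) of order 24 (the binary tetrahedral group) occurs as a Frobenius complement of some finite Frobenius group. -/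
theorem result :
    ∃ (L : Type) (_ : Group L) (_ : Finite L) (H : Subgroup L), Cfsg.IsFrobeniusComplement H ∧ Nonempty (H ≃* Matrix.SpecialLinearGroup (Fin 2) (ZMod 3)) := by
  have : Fact (Nat.Prime 5) := ⟨by norm_num⟩
  obtain ⟨e⟩ := S25_equiv
  have hcard : Nat.card S25 = 24 := by
    rw [Nat.card_congr e.toEquiv]
    exact Cfsg.Agent.Lib.Helper6_SL23.card_SL23
  have hne : S25 ≠ ⊥ := by
    intro h
    have h1 : gI ∈ S25 := Subgroup.subset_closure (by simp)
    rw [h, Subgroup.mem_bot] at h1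
    exact hI1 h1
  have hc : (Nat.card S25).Coprime 5 := by
    rw [hcard]; decide
  obtain ⟨L, hL, hfin, H, hF, ⟨eH⟩⟩ := exists_frob (p := 5) S25 hne hc
  exact ⟨L, hL, hfin, H, hF, ⟨eH.trans e⟩⟩

end Cfsg.Agent.S4298
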