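import Mathlib
import Cfsg.Statements.S4300

set_option autoImplicit false
open Cfsg

namespace Cfsg.Agent.S4300

theorem result {G : Type*} [Group G] {X : Type*} [MulAction G X] [FaithfulSMul G X]
    (hprim : MulAction.IsPreprimitive G X) (x : X) (hsimple : IsSimpleGroup (MulAction.stabilizer G x)) :
    IsSimpleGroup G ∨ ∃ N : Subgroup G, N.Normal ∧ N ≠ ⊥ ∧ N ≠ ⊤ ∧
      MulAction.IsPretransitive N X ∧ ∀ y : X, MulAction.stabilizer N y = ⊥ := by
  haveI := hprim
  have hnt : Nontrivial (MulAction.stabilizer G x) := hsimple.toNontrivial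
  by_cases hs : IsSimpleGroup G
  · exact Or.inl hs
  right
  haveI : Nontrivial G := Function.Injective.nontrivial (Subtype.val_injective (p := fun g => g ∈ MulAction.stabilizer G x))
  have hex : ∃ N : Subgroup G, N.Normal ∧ N ≠ ⊥ ∧ N ≠ ⊤ := by
    by_contra hcon
    push Not at hcon
    apply hs
    refine ⟨fun N hN => ?_⟩
    by_cases h1 : N = ⊥
    · exact Or.inl h1
    · exact Or.inr (hcon N hN h1)
  obtain ⟨N, hN, hNbot, hNtop⟩ := hex
  haveI := hN
  -- faithful: an element fixing everything is trivial
  have hfaith : ∀ g : G, (∀ y : X, g • y = y) → g = 1 := by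
    intro g hg
    apply FaithfulSMul.eq_of_smul_eq_smul (α := X)
    intro y
    rw [hg y, one_smul]
  haveI : Nontrivial X := by
    by_contra hX
    rw [not_nontrivial_iff_subsingleton] at hX
    obtain ⟨a, b, hab⟩ := exists_pair_ne G
    apply hab
    rw [hfaith a (fun y => Subsingleton.elim _ _), hfaith b (fun y => Subsingleton.elim _ _)]
  have hfix : MulAction.fixedPoints N X ≠ Set.univ := by
    intro h
    apply hNbot
    rw [Subgroup.eq_bot_iff_forall]
    intro n hn
    apply hfaith
    intro y
    have : y ∈ MulAction.fixedPoints N X := by rw [h]; trivial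
    exact this ⟨n, hn⟩
  have htrans : MulAction.IsPretransitive N X :=
    MulAction.IsQuasiPreprimitive.isPretransitive_of_normal hfix
  have hco : IsCoatom (MulAction.stabilizer G x) :=
    MulAction.IsPreprimitive.isCoatom_stabilizer_of_isPreprimitive (G := G) x
  refine ⟨N, hN, hNbot, hNtop, htrans, ?_⟩
  have hK : (N.subgroupOf (MulAction.stabilizer G x)).Normal := inferInstance
  rcases hsimple.eq_bot_or_eq_top_of_normal _ hK with h | h
  · -- N ∩ G_x trivial
    rw [Subgroup.subgroupOf_eq_bot] at h
    intro y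
    obtain ⟨g, rfl⟩ := MulAction.exists_smul_eq G x y
    rw [Subgroup.eq_bot_iff_forall]
    rintro ⟨n, hn⟩ hfixn
    rw [MulAction.mem_stabilizer_iff] at hfixn
    have hfixn' : n • g • x = g • x := hfixn
    have h1 : g⁻¹ * n * g ∈ N := by
      have := hN.conj_mem n hn g⁻¹
      simpa using this
    have h2 : g⁻¹ * n * g ∈ MulAction.stabilizer G x := by
      rw [MulAction.mem_stabilizer_iff, mul_smul, mul_smul, hfixn', inv_smul_smul]
    have h3 : g⁻¹ * n * g = 1 := by
      have := h.le_bot (show g⁻¹ * n * g ∈ N ⊓ MulAction.stabilizer G x from ⟨h1, h2⟩)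
      simpa using this
    have h4 : n = 1 := by
      have : n = g * (g⁻¹ * n * g) * g⁻¹ := by group
      rw [this, h3]; group
    exact Subtype.ext h4
  · -- G_x ≤ N, so N = G_x
    exfalso
    rw [Subgroup.subgroupOf_eq_top] at h
    have hNeq : N = MulAction.stabilizer G x := by
      rcases hco.le_iff.mp h with h' | h'
      · exact absurd h' hNtop
      · exact h'
    apply hNbot
    rw [Subgroup.eq_bot_iff_forall]
    intro n hn
    apply hfaith
    intro y
    obtain ⟨g, rfl⟩ := MulAction.exists_smul_eq G x y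
    have h1 : g⁻¹ * n * g ∈ N := by
      have := hN.conj_mem n hn g⁻¹
      simpa using this
    rw [hNeq, MulAction.mem_stabilizer_iff] at h1
    have : n • g • x = g • ((g⁻¹ * n * g) • x) := by
      rw [← mul_smul, ← mul_smul]
      congr 1
      group
    rw [this, h1]

end Cfsg.Agent.S4300
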