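import Mathlib
import Cfsg.Statements.S4301

set_option autoImplicit false

open Cfsg

namespace Cfsg.Agent.S4301

/-- an embedding `Fin k ↪ X` with prescribed first two values -/
theorem exists_emb {X : Type*} {k : ℕ} (hk : 2 ≤ k) (hkX : Nonempty (Fin k ↪ X))
    (x y : X) (hxy : x ≠ y) :
    ∃ e : Fin k ↪ X, e ⟨0, by omega⟩ = x ∧ e ⟨1, by omega⟩ = y := by
  classical
  obtain ⟨e⟩ := hkX
  have h01 : e ⟨0, by omega⟩ ≠ e ⟨1, by omega⟩ := by
    intro h
    have := e.injective h
    simp [Fin.ext_iff] at this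
  set σ1 : Equiv.Perm X := Equiv.swap (e ⟨0, by omega⟩) x with hσ1
  have hs1 : σ1 (e ⟨0, by omega⟩) = x := Equiv.swap_apply_left _ _
  have hne : σ1 (e ⟨1, by omega⟩) ≠ x := by
    intro h
    rw [← hs1] at h
    exact h01 (σ1.injective h).symm
  set σ2 : Equiv.Perm X := Equiv.swap (σ1 (e ⟨1, by omega⟩)) y with hσ2
  have hs2 : σ2 (σ1 (e ⟨1, by omega⟩)) = y := Equiv.swap_apply_left _ _
  have hs2x : σ2 x = x := Equiv.swap_apply_of_ne_of_ne hne.symm hxy
  refine ⟨e.trans (σ2 * σ1).toEmbedding, ?_, ?_⟩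
  · simp [hs1, hs2x]
  · simp [hs2]

/-- One-point extension of a multiply transitive group. Let X be a set and G a group of permutations of Option X (the set X with one extra point ∗ = none) all of whose elements fix ∗, such that G is k-transitive on the points of X for some k ≥ 2, X having at least k points. Suppose a permutation h of Option X and an element g of G satisfy: h interchanges ∗ with a point x of X and fixes a point y of X; g interchanges x and y; (g h)³ and h² lie in G; and for every f in G fixing x, the product h f h lies in G and fixes x. Then an element of the group generated by G and h fixes ∗ exactly when it lies in G, and that group acts (k+1)-transitively on Option X. -/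
theorem result {X : Type*} (G : Subgroup (Equiv.Perm (Option X))) (hfix : ∀ f ∈ G, f none = none)
    (k : ℕ) (hk : 2 ≤ k) (hkX : Nonempty (Fin k ↪ X))
    (htrans : ∀ a b : Fin k ↪ X, ∃ f ∈ G, ∀ i, f (some (a i)) = some (b i))
    (h g : Equiv.Perm (Option X)) (hg : g ∈ G) (x y : X)
    (h1 : h none = some x) (h2 : h (some x) = none) (h3 : h (some y) = some y)
    (h4 : g (some x) = some y) (h5 : g (some y) = some x)
    (h6 : (g * h) ^ 3 ∈ G) (h7 : h ^ 2 ∈ G)
    (h8 : ∀ f ∈ G, f (some x) = some x → h * f * h ∈ G ∧ (h * f * h) (some x) = some x) :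
    (∀ f ∈ Subgroup.closure ((G : Set (Equiv.Perm (Option X))) ∪ {h}), f none = none ↔ f ∈ G) ∧
      MulAction.IsMultiplyPretransitive (Subgroup.closure ((G : Set (Equiv.Perm (Option X))) ∪ {h})) (Option X) (k + 1) := by
  classical
  have hxy : x ≠ y := by
    rintro rfl
    rw [h2] at h3; exact absurd h3 (by simp)
  -- G is "2-transitive": moving y to z fixing x
  have hB : ∀ z : X, z ≠ x → ∃ a ∈ G, a (some x) = some x ∧ a (some y) = some z := by
    intro z hz
    obtain ⟨e1, e10, e11⟩ := exists_emb hk hkX x y hxy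
    obtain ⟨e2, e20, e21⟩ := exists_emb hk hkX x z hz.symm
    obtain ⟨a, ha, hae⟩ := htrans e1 e2
    refine ⟨a, ha, ?_, ?_⟩
    · have := hae ⟨0, by omega⟩; rwa [e10, e20] at this
    · have := hae ⟨1, by omega⟩; rwa [e11, e21] at this
  have hT : ∀ z : X, ∃ a ∈ G, a (some z) = some x := by
    intro z
    by_cases hz : z = x
    · exact ⟨1, G.one_mem, by simp [hz]⟩
    · obtain ⟨e1, e10, e11⟩ := exists_emb hk hkX z x hz
      obtain ⟨e2, e20, e21⟩ := exists_emb hk hkX x z (Ne.symm hz)
      obtain ⟨a, ha, hae⟩ := htrans e1 e2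
      refine ⟨a, ha, ?_⟩
      have := hae ⟨0, by omega⟩; rwa [e10, e20] at this
  have hsome : ∀ f ∈ G, ∀ z : X, ∃ w : X, f (some z) = some w := by
    intro f hf z
    cases hfz : f (some z) with
    | none =>
      have := f.injective (hfz.trans (hfix f hf).symm)
      exact absurd this (by simp)
    | some w => exact ⟨w, rfl⟩
  -- the set S = G ∪ GhG
  let S : Set (Equiv.Perm (Option X)) := {f | f ∈ G ∨ ∃ a ∈ G, ∃ b ∈ G, f = a * h * b}
  have hc : h * h ∈ G := by simpa [pow_two] using h7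
  have hd : g * h * (g * h) * (g * h) ∈ G := by simpa [pow_succ] using h6
  -- Lemma A
  have hA : ∀ f ∈ G, h * f * h ∈ S := by
    intro f hf
    by_cases hfx : f (some x) = some x
    · exact Or.inl (h8 f hf hfx).1
    · obtain ⟨z, hz⟩ := hsome f hf x
      have hzx : z ≠ x := by rintro rfl; exact hfx hz
      obtain ⟨a, ha, hax, hay⟩ := hB z hzx
      -- b := (a g)⁻¹ f fixes x
      have hb : (a * g)⁻¹ * f ∈ G := G.mul_mem (G.inv_mem (G.mul_mem ha hg)) hf
      have hbx : ((a * g)⁻¹ * f) (some x) = some x := by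
        rw [Equiv.Perm.mul_apply, hz, Equiv.Perm.inv_eq_iff_eq, Equiv.Perm.mul_apply, h4, hay]
      obtain ⟨ha1, _⟩ := h8 a ha hax
      obtain ⟨hb1, _⟩ := h8 _ hb hbx
      refine Or.inr ⟨(h * a * h) * ((h * h)⁻¹ * g⁻¹ * (g * h * (g * h) * (g * h)) * (h * h)⁻¹), ?_,
        (g⁻¹ * (h * h)⁻¹) * (h * ((a * g)⁻¹ * f) * h), ?_, ?_⟩
      · exact G.mul_mem ha1 (G.mul_mem (G.mul_mem (G.mul_mem (G.inv_mem hc) (G.inv_mem hg)) hd)
          (G.inv_mem hc))
      · exact G.mul_mem (G.mul_mem (G.inv_mem hg) (G.inv_mem hc)) hb1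
      · group
  -- S is a subgroup
  have hSmul : ∀ u ∈ S, ∀ v ∈ S, u * v ∈ S := by
    rintro u (hu | ⟨a, ha, b, hb, rfl⟩) v (hv | ⟨a', ha', b', hb', rfl⟩)
    · exact Or.inl (G.mul_mem hu hv)
    · exact Or.inr ⟨u * a', G.mul_mem hu ha', b', hb', by group⟩
    · exact Or.inr ⟨a, ha, b * v, G.mul_mem hb hv, by group⟩
    · rcases hA (b * a') (G.mul_mem hb ha') with hm | ⟨a2, ha2, b2, hb2, hm⟩
      · refine Or.inl ?_
        have : a * h * b * (a' * h * b') = a * (h * (b * a') * h) * b' := by group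
        rw [this]
        exact G.mul_mem (G.mul_mem ha hm) hb'
      · refine Or.inr ⟨a * a2, G.mul_mem ha ha2, b2 * b', G.mul_mem hb2 hb', ?_⟩
        have : a * h * b * (a' * h * b') = a * (h * (b * a') * h) * b' := by group
        rw [this, hm]; group
  have hSinv : ∀ u ∈ S, u⁻¹ ∈ S := by
    rintro u (hu | ⟨a, ha, b, hb, rfl⟩)
    · exact Or.inl (G.inv_mem hu)
    · refine Or.inr ⟨b⁻¹ * (h * h)⁻¹, G.mul_mem (G.inv_mem hb) (G.inv_mem hc), a⁻¹, G.inv_mem ha, ?_⟩
      group
  let K : Subgroup (Equiv.Perm (Option X)) :=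
    { carrier := S
      mul_mem' := fun {u v} hu hv => hSmul u hu v hv
      one_mem' := Or.inl G.one_mem
      inv_mem' := fun {u} hu => hSinv u hu }
  have hle : Subgroup.closure ((G : Set (Equiv.Perm (Option X))) ∪ {h}) ≤ K := by
    rw [Subgroup.closure_le]
    rintro u (hu | hu)
    · exact Or.inl hu
    · rw [Set.mem_singleton_iff] at hu
      exact Or.inr ⟨1, G.one_mem, 1, G.one_mem, by rw [hu]; group⟩
  have hGle : G ≤ Subgroup.closure ((G : Set (Equiv.Perm (Option X))) ∪ {h}) := by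
    intro u hu
    exact Subgroup.subset_closure (Or.inl hu)
  have hhmem : h ∈ Subgroup.closure ((G : Set (Equiv.Perm (Option X))) ∪ {h}) :=
    Subgroup.subset_closure (Or.inr rfl)
  have part1 : ∀ f ∈ Subgroup.closure ((G : Set (Equiv.Perm (Option X))) ∪ {h}),
      f none = none ↔ f ∈ G := by
    intro f hf
    constructor
    · intro hfn
      rcases hle hf with hm | ⟨a, ha, b, hb, rfl⟩
      · exact hm
      · exfalso
        rw [Equiv.Perm.mul_apply, Equiv.Perm.mul_apply, hfix b hb, h1] at hfn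
        obtain ⟨w, hw⟩ := hsome a ha x
        rw [hw] at hfn; exact absurd hfn (by simp)
    · exact hfix f
  refine ⟨part1, ?_⟩
  rw [MulAction.isMultiplyPretransitive_iff]
  -- every point can be moved to none
  have hmove : ∀ t : Option X, ∃ f ∈ Subgroup.closure ((G : Set (Equiv.Perm (Option X))) ∪ {h}),
      f t = none := by
    intro t
    cases t with
    | none => exact ⟨1, Subgroup.one_mem _, rfl⟩
    | some z =>
      obtain ⟨a, ha, haz⟩ := hT z
      exact ⟨h * a, Subgroup.mul_mem _ hhmem (hGle ha), by rw [Equiv.Perm.mul_apply, haz, h2]⟩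
  -- normal form
  have hnorm : ∀ a : Fin (k + 1) ↪ Option X,
      ∃ f ∈ Subgroup.closure ((G : Set (Equiv.Perm (Option X))) ∪ {h}),
      ∃ a' : Fin k ↪ X, f (a (Fin.last k)) = none ∧ ∀ i : Fin k, f (a i.castSucc) = some (a' i) := by
    intro a
    obtain ⟨f, hf, hfl⟩ := hmove (a (Fin.last k))
    have hne : ∀ i : Fin k, ∃ w : X, f (a i.castSucc) = some w := by
      intro i
      cases hfi : f (a i.castSucc) with
      | none =>
        have := a.injective (f.injective (hfi.trans hfl.symm))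
        exact absurd this (Fin.castSucc_lt_last i).ne
      | some w => exact ⟨w, rfl⟩
    choose a' ha' using hne
    refine ⟨f, hf, ⟨a', ?_⟩, hfl, ha'⟩
    intro i j hij
    have : f (a i.castSucc) = f (a j.castSucc) := by rw [ha', ha', hij]
    exact Fin.castSucc_injective _ (a.injective (f.injective this))
  intro a b
  obtain ⟨fa, hfa, a', hal, hai⟩ := hnorm a
  obtain ⟨fb, hfb, b', hbl, hbi⟩ := hnorm b
  obtain ⟨u, hu, hui⟩ := htrans a' b'
  refine ⟨⟨fb⁻¹ * u * fa, Subgroup.mul_mem _ (Subgroup.mul_mem _ (Subgroup.inv_mem _ hfb) (hGle hu)) hfa⟩, ?_⟩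
  ext i : 1
  change (fb⁻¹ * u * fa) (a i) = b i
  rw [Equiv.Perm.mul_apply, Equiv.Perm.mul_apply, Equiv.Perm.inv_eq_iff_eq]
  induction i using Fin.lastCases with
  | last => rw [hal, hbl, hfix u hu]
  | cast i => rw [hai, hbi, hui]

end Cfsg.Agent.S4301
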