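import Mathlib
import Cfsg.Statements.S4309
import Cfsg.Agent.S4244

set_option autoImplicit false
open Cfsg

namespace Cfsg.Agent.S4309

theorem result {G : Type*} [Group G] [Finite G] (π : Set ℕ)
    (H A : Subgroup G) [A.Normal] (hH : Cfsg.IsPiHall π H) :
    Cfsg.IsPiHall π ((H ⊓ A).subgroupOf A) ∧ Cfsg.IsPiHall π (H.map (QuotientGroup.mk' A)) := by
  obtain ⟨h1, h2⟩ := hH
  refine ⟨⟨?_, ?_⟩, ⟨?_, ?_⟩⟩
  · intro p hp hdvd
    apply h1 p hp
    have e : Nat.card ((H ⊓ A).subgroupOf A) = Nat.card (H ⊓ A : Subgroup G) :=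
      Nat.card_congr (Subgroup.subgroupOfEquivOfLe (inf_le_right : H ⊓ A ≤ A)).toEquiv
    rw [e] at hdvd
    exact dvd_trans hdvd (Subgroup.card_dvd_of_le inf_le_left)
  · intro p hp hpi hdvd
    apply h2 p hp hpi
    have e : ((H ⊓ A).subgroupOf A).index = (A ⊓ H).relIndex A := by
      rw [inf_comm]; rfl
    rw [e, ← Cfsg.Agent.S4244.second_iso_abs A H] at hdvd
    exact dvd_trans hdvd (Subgroup.relIndex_dvd_index_of_le le_sup_right)
  · intro p hp hdvd
    exact h1 p hp (dvd_trans hdvd (Subgroup.card_map_dvd _ _))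
  · intro p hp hpi hdvd
    exact h2 p hp hpi (dvd_trans hdvd (Subgroup.index_map_dvd H (QuotientGroup.mk'_surjective A)))

end Cfsg.Agent.S4309
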