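import Mathlib
import Cfsg.Statements.S4325
import Cfsg.Agent.Lib.Helper1_MinNormal

set_option autoImplicit false
open Cfsg

namespace Cfsg.Agent.S4325

open Subgroup Equiv

/-- the standard basis vector -/
noncomputable def e {r : ℕ} (x : Fin r) : Fin r → ℚ := Pi.single x 1

/-- the subgroup generated by `m` transpositions of `r` points is not transitive if `m + 1 < r` -/
theorem not_trans (r m : ℕ) (hm : m + 1 < r) (t : Fin m → Equiv.Perm (Fin r))
    (ht : ∀ i, (t i).IsSwap) (x₀ : Fin r)
    (htr : ∀ y : Fin r, ∃ k ∈ Subgroup.closure (Set.range t), k x₀ = y) : False := by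
  classical
  choose a b hab htab using ht
  let v : Fin m → (Fin r → ℚ) := fun i => e (a i) - e (b i)
  set W : Submodule ℚ (Fin r → ℚ) := Submodule.span ℚ (Set.range v) with hW
  have key : ∀ k ∈ Subgroup.closure (Set.range t), ∀ x : Fin r, e x - e (k x) ∈ W := by
    intro k hk
    induction hk using closure_induction with
    | mem k hk =>
      obtain ⟨i, rfl⟩ := hk
      intro x
      rw [htab i]
      by_cases hxa : x = a i
      · subst hxa
        rw [swap_apply_left]
        exact Submodule.subset_span ⟨i, rfl⟩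
      · by_cases hxb : x = b i
        · subst hxb
          rw [swap_apply_right]
          have : e (b i) - e (a i) = -(v i) := by simp [v]
          rw [this]
          exact Submodule.neg_mem _ (Submodule.subset_span ⟨i, rfl⟩)
        · rw [swap_apply_of_ne_of_ne hxa hxb, sub_self]
          exact Submodule.zero_mem _
    | one => intro x; simp
    | mul g h _ _ ihg ihh =>
      intro x
      have : e x - e ((g * h) x) = (e x - e (h x)) + (e (h x) - e (g (h x))) := by
        rw [Perm.mul_apply]; abel
      rw [this]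
      exact Submodule.add_mem _ (ihh x) (ihg (h x))
    | inv g _ ih =>
      intro x
      have := ih (g⁻¹ x)
      have e1 : g (g⁻¹ x) = x := by simp
      rw [e1] at this
      have e2 : e x - e (g⁻¹ x) = -(e (g⁻¹ x) - e x) := by abel
      rw [e2]
      exact Submodule.neg_mem _ this
  have htop : W ⊔ Submodule.span ℚ {e x₀} = ⊤ := by
    rw [eq_top_iff, ← (Pi.basisFun ℚ (Fin r)).span_eq, Submodule.span_le]
    rintro _ ⟨y, rfl⟩
    obtain ⟨k, hk, rfl⟩ := htr y
    have h1 := key k hk x₀
    have : (Pi.basisFun ℚ (Fin r)) (k x₀) = -(e x₀ - e (k x₀)) + e x₀ := by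
      simp [e]
    rw [SetLike.mem_coe, this]
    exact Submodule.add_mem _ (Submodule.mem_sup_left (Submodule.neg_mem _ h1))
      (Submodule.mem_sup_right (Submodule.subset_span rfl))
  have h1 : Module.finrank ℚ W ≤ m := by
    have := finrank_range_le_card (R := ℚ) v
    rw [Fintype.card_fin] at this
    exact this
  have h2 : Module.finrank ℚ (Submodule.span ℚ {e x₀}) ≤ 1 := by
    have := finrank_span_le_card (R := ℚ) ({e x₀} : Set (Fin r → ℚ))
    simpa using this
  have h3 : Module.finrank ℚ (⊤ : Submodule ℚ (Fin r → ℚ)) = r := by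
    rw [finrank_top, Module.finrank_fin_fun]
  have h4 := Submodule.finrank_add_le_finrank_add_finrank W (Submodule.span ℚ {e x₀})
  rw [htop, h3] at h4
  omega

theorem result (r m : ℕ) (hr : r.Prime)
    (hm : m + 1 < r) (π : Set ℕ) (hπ : ∀ q : ℕ, q.Prime → q < r → q ∈ π) (hrπ : r ∉ π)
    (t : Fin m → Equiv.Perm (Fin r)) (ht : ∀ i, (t i).IsSwap) :
    Cfsg.IsPiSubgroup π (Subgroup.closure (Set.range t)) ∧ Cfsg.piCore π (Equiv.Perm (Fin r)) = ⊥ := by
  classical
  haveI : NeZero r := ⟨hr.pos.ne'⟩
  constructor
  · intro q hq hqd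
    by_contra hqπ
    have hrq : r ≤ q := by
      by_contra hlt
      exact hqπ (hπ q hq (not_le.mp hlt))
    haveI : Fact q.Prime := ⟨hq⟩
    obtain ⟨g, hg⟩ := exists_prime_orderOf_dvd_card' q hqd
    have hg' : orderOf (g : Equiv.Perm (Fin r)) = q := by rw [Subgroup.orderOf_coe]; exact hg
    obtain ⟨n, hn⟩ := Perm.cycleType_prime_order (σ := (g : Equiv.Perm (Fin r))) (by rw [hg']; exact hq)
    rw [hg'] at hn
    have hsum := Perm.sum_cycleType_le (g : Equiv.Perm (Fin r))
    rw [hn, Multiset.sum_replicate, Fintype.card_fin, smul_eq_mul] at hsum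
    have hn0 : n = 0 := by
      by_contra hne
      have : 2 * q ≤ (n + 1) * q := Nat.mul_le_mul_right q (by omega)
      have hq2 := hq.two_le
      nlinarith
    subst hn0
    have hqr : q = r := by
      simp at hsum
      omega
    subst hqr
    have hcyc : (g : Equiv.Perm (Fin q)).IsCycle := by
      rw [← Perm.card_cycleType_eq_one, hn]; simp
    have hsupp : (g : Equiv.Perm (Fin q)).support = Finset.univ := by
      apply Finset.eq_univ_of_card
      rw [← Perm.sum_cycleType, hn]; simp
    have hmoved : ∀ x : Fin q, (g : Equiv.Perm (Fin q)) x ≠ x := by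
      intro x
      rw [← Perm.mem_support, hsupp]; exact Finset.mem_univ x
    apply not_trans q m hm t ht 0
    intro y
    obtain ⟨i, hi⟩ := hcyc.exists_pow_eq (hmoved 0) (hmoved y)
    exact ⟨(g : Equiv.Perm (Fin q)) ^ i, pow_mem g.2 i, hi⟩
  · unfold Cfsg.piCore
    rw [eq_bot_iff]
    apply sSup_le
    rintro N ⟨hNn, hNπ⟩
    by_contra hne
    have hNne : N ≠ ⊥ := fun h => hne (h ▸ le_refl _)
    haveI := hNn
    have hprim : MulAction.IsPreprimitive (Equiv.Perm (Fin r)) (Fin r) := inferInstance
    haveI htrans : MulAction.IsPretransitive N (Fin r) :=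
      Cfsg.Agent.Lib.Helper1_MinNormal.isPretransitive_of_normal hprim N hNne
    have hdvd : r ∣ Nat.card N := by
      have h1 := MulAction.index_stabilizer_of_transitive N (0 : Fin r)
      rw [Nat.card_fin] at h1
      have h2 := Subgroup.index_dvd_card (MulAction.stabilizer N (0 : Fin r))
      rwa [h1] at h2
    exact hrπ (hNπ r hr hdvd)

end Cfsg.Agent.S4325
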