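import Mathlib
import Cfsg.Statements.S4326

set_option autoImplicit false
open Pointwise
open Cfsg

namespace Cfsg.Agent.S4326

theorem mem_conj_smul' {G : Type*} [Group G] (g y : G) (M : Subgroup G) :
    y ∈ MulAut.conj g • M ↔ g⁻¹ * y * g ∈ M := by
  rw [Subgroup.mem_pointwise_smul_iff_inv_smul_mem, MulAut.smul_def, MulAut.conj_inv_apply]

theorem result {G : Type*} [Group G] [Finite G]
    (p : ℕ) [Fact p.Prime] (x : MulAut G) (hx : ∃ k : ℕ, orderOf x = p ^ k) (M : Subgroup G)
    (hM : ∀ g : G, g ∈ M ↔ x g = g) (hp : p ∣ M.index)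
    (hself : Subgroup.normalizer (M : Set G) = M ∨ Subgroup.center M = ⊥) :
    ∃ g : G, (∀ y ∈ MulAut.conj g • M, x y ∈ MulAut.conj g • M) ∧ ∃ y ∈ MulAut.conj g • M, x y ≠ y := by
  classical
  obtain ⟨k, hk⟩ := hx
  have hxpow : x ^ p ^ k = 1 := by rw [← hk]; exact pow_orderOf_eq_one x
  have hxM : ∀ a b : G, a⁻¹ * b ∈ M → (x a)⁻¹ * x b ∈ M := by
    intro a b h
    rw [← map_inv, ← map_mul, (hM _).mp h]; exact h
  let f : Function.End (G ⧸ M) := Quotient.map' (fun a : G => x a) (fun a b h => by
    rw [QuotientGroup.leftRel_apply] at h ⊢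
    exact hxM a b h)
  have hf1 : ∀ g : G, f (QuotientGroup.mk g) = QuotientGroup.mk (x g) := fun g => rfl
  have hf : ∀ (n : ℕ) (g : G), (f ^ n) (QuotientGroup.mk g) = QuotientGroup.mk ((x ^ n) g) := by
    intro n
    induction n with
    | zero => intro g; rfl
    | succ n ih =>
      intro g
      rw [pow_succ, pow_succ]
      show (f ^ n) (f (QuotientGroup.mk g)) = _
      rw [hf1, ih]
      rfl
  have hfp : f ^ p ^ k = 1 := by
    funext q
    induction q using QuotientGroup.induction_on with
    | H g => rw [hf, hxpow]; rfl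
  letI : Fintype (G ⧸ M) := Fintype.ofFinite _
  have hmod := Equiv.Perm.card_fixedPoints_modEq (f := f) hfp
  have hcard : Fintype.card (G ⧸ M) = M.index := by
    rw [← Nat.card_eq_fintype_card, ← Subgroup.index_eq_card]
  rw [hcard] at hmod
  have hdvd : p ∣ Fintype.card (Function.fixedPoints f) := by
    have h0 : M.index ≡ 0 [MOD p] := (Nat.modEq_zero_iff_dvd).mpr hp
    exact (Nat.modEq_zero_iff_dvd).mp (hmod.symm.trans h0)
  have h1fix : (QuotientGroup.mk (1 : G) : G ⧸ M) ∈ Function.fixedPoints f := by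
    show f (QuotientGroup.mk 1) = QuotientGroup.mk 1
    rw [hf1, map_one]
  have hcard2 : 1 < Fintype.card (Function.fixedPoints f) := by
    have hpos : 0 < Fintype.card (Function.fixedPoints f) := Fintype.card_pos_iff.mpr ⟨⟨_, h1fix⟩⟩
    have := Nat.le_of_dvd hpos hdvd
    have hp2 : 2 ≤ p := (Fact.out : p.Prime).two_le
    omega
  obtain ⟨⟨q, hq⟩, hne⟩ := Fintype.exists_ne_of_one_lt_card hcard2 ⟨_, h1fix⟩
  induction q using QuotientGroup.induction_on with
  | H g =>
  have hgM : g ∉ M := by
    intro hg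
    apply hne
    apply Subtype.ext
    show (QuotientGroup.mk g : G ⧸ M) = QuotientGroup.mk 1
    rw [QuotientGroup.eq]
    simpa using M.inv_mem hg
  have hc : g⁻¹ * x g ∈ M := by
    have : f (QuotientGroup.mk g) = QuotientGroup.mk g := hq
    rw [hf1] at this
    exact QuotientGroup.eq.mp this.symm
  set c := g⁻¹ * x g with hcdef
  have hxg : x g = g * c := by rw [hcdef]; group
  have hxy : ∀ y : G, g⁻¹ * y * g ∈ M → g⁻¹ * x y * g = c * (g⁻¹ * y * g) * c⁻¹ := by
    intro y hy
    have h1 : x (g⁻¹ * y * g) = g⁻¹ * y * g := (hM _).mp hy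
    have h2 : x y = x g * x (g⁻¹ * y * g) * (x g)⁻¹ := by
      rw [← map_inv, ← map_mul, ← map_mul]
      congr 1
      group
    rw [h2, h1, hxg]
    group
  refine ⟨g, ?_, ?_⟩
  · intro y hy
    rw [mem_conj_smul'] at hy ⊢
    rw [hxy y hy]
    exact M.mul_mem (M.mul_mem hc hy) (M.inv_mem hc)
  · by_contra hcon
    push Not at hcon
    -- all of g M g⁻¹ is fixed by x
    have hfix : ∀ m ∈ M, x (g * m * g⁻¹) = g * m * g⁻¹ := by
      intro m hm
      apply hcon
      rw [mem_conj_smul']
      have : g⁻¹ * (g * m * g⁻¹) * g = m := by group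
      rw [this]; exact hm
    have hsub : ∀ m ∈ M, g * m * g⁻¹ ∈ M := fun m hm => (hM _).mpr (hfix m hm)
    -- c centralizes M
    have hcent : ∀ m ∈ M, c * m * c⁻¹ = m := by
      intro m hm
      have hy : g⁻¹ * (g * m * g⁻¹) * g ∈ M := by
        have : g⁻¹ * (g * m * g⁻¹) * g = m := by group
        rw [this]; exact hm
      have h1 := hxy (g * m * g⁻¹) hy
      rw [hfix m hm] at h1
      have h2 : g⁻¹ * (g * m * g⁻¹) * g = m := by group
      rw [h2] at h1
      exact h1.symm
    rcases hself with hs | hs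
    · -- self-normalizing
      have hpow : ∀ n : ℕ, ∀ m ∈ M, g ^ n * m * (g ^ n)⁻¹ ∈ M := by
        intro n
        induction n with
        | zero => intro m hm; simpa using hm
        | succ n ih =>
          intro m hm
          have : g ^ (n + 1) * m * (g ^ (n + 1))⁻¹ = g * (g ^ n * m * (g ^ n)⁻¹) * g⁻¹ := by
            rw [pow_succ']; group
          rw [this]
          exact hsub _ (ih m hm)
      have hinv : ∀ m ∈ M, g⁻¹ * m * g ∈ M := by
        intro m hm
        have h1 := hpow (orderOf g - 1) m hm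
        have h2 : g ^ (orderOf g - 1) = g⁻¹ := by
          rw [eq_inv_iff_mul_eq_one, ← pow_succ, Nat.sub_add_cancel (orderOf_pos g), pow_orderOf_eq_one]
        rw [h2, inv_inv] at h1
        exact h1
      have hgN : g ∈ Subgroup.normalizer (M : Set G) := by
        rw [Subgroup.mem_normalizer_iff]
        intro h
        constructor
        · exact hsub h
        · intro hh
          have := hinv _ hh
          have e : g⁻¹ * (g * h * g⁻¹) * g = h := by group
          rwa [e] at this
      rw [hs] at hgN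
      exact hgM hgN
    · -- trivial center
      have hcz : (⟨c, hc⟩ : M) ∈ Subgroup.center M := by
        rw [Subgroup.mem_center_iff]
        intro m
        apply Subtype.ext
        show (m : G) * c = c * (m : G)
        have := hcent m m.2
        calc (m : G) * c = (c * (m : G) * c⁻¹) * c := by rw [this]
          _ = c * (m : G) := by group
      rw [hs, Subgroup.mem_bot] at hcz
      have hc1 : c = 1 := congrArg Subtype.val hcz
      apply hgM
      rw [hM, hxg, hc1, mul_one]

end Cfsg.Agent.S4326
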