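import Mathlib
import Cfsg.Statements.S4331
import Cfsg.Agent.S0064
import Cfsg.Agent.Lib.Helper7_PCore

set_option autoImplicit false

open Cfsg

namespace Cfsg.Agent.S4331

noncomputable section

/-- the field with nine elements -/
abbrev F9 := GaloisField 3 2

instance fact3 : Fact (Nat.Prime 3) := ⟨Nat.prime_three⟩

theorem cardF : Nat.card F9 = 9 := by
  rw [GaloisField.card 3 2 (by norm_num)]; norm_num

theorem pow9 (x : F9) : x ^ 9 = x := by
  classical
  let _ : Fintype F9 := Fintype.ofFinite F9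
  have := FiniteField.pow_card x
  rwa [← Nat.card_eq_fintype_card, cardF] at this

theorem cube_add (x y : F9) : (x + y) ^ 3 = x ^ 3 + y ^ 3 := add_pow_char x y 3

theorem cube_sub (x y : F9) : (x - y) ^ 3 = x ^ 3 - y ^ 3 := sub_pow_char x y

theorem cube_cube (x : F9) : (x ^ 3) ^ 3 = x := by rw [← pow_mul]; exact pow9 x

theorem three_zero : (3 : F9) = 0 := by
  have := CharP.cast_eq_zero F9 3
  exact_mod_cast this

theorem cardU : Nat.card F9ˣ = 8 := by
  rw [Nat.card_units, cardF]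

theorem unit_pow8 (l : F9ˣ) : l ^ 8 = 1 := by
  rw [← cardU]; exact pow_card_eq_one'

theorem exists_moved : ∃ z : F9, z ^ 3 ≠ z := by
  obtain ⟨g, hg⟩ := IsCyclic.exists_generator (α := F9ˣ)
  have ho : orderOf g = 8 := by
    rw [orderOf_eq_card_of_forall_mem_zpowers hg, cardU]
  refine ⟨(g : F9), fun h => ?_⟩
  have h2 : g ^ 2 = 1 := by
    apply Units.ext
    have hne : (g : F9) ≠ 0 := g.ne_zero
    have : (g : F9) * (g : F9) ^ 2 = (g : F9) * 1 := by rw [mul_one]; ring_nf; exact h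
    simpa using mul_left_cancel₀ hne this
  have := orderOf_dvd_of_pow_eq_one h2
  rw [ho] at this
  omega

/-- translation -/
def T (v : F9) : Equiv.Perm F9 := Equiv.addRight v

/-- multiplication by a unit -/
def M (l : F9ˣ) : Equiv.Perm F9 := Units.mulLeft l

/-- Frobenius -/
def Φ : Equiv.Perm F9 := ⟨fun x => x ^ 3, fun x => x ^ 3, cube_cube, cube_cube⟩

@[simp] theorem T_apply (v x : F9) : T v x = x + v := rfl
@[simp] theorem M_apply (l : F9ˣ) (x : F9) : M l x = (l : F9) * x := rfl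
@[simp] theorem Φ_apply (x : F9) : Φ x = x ^ 3 := rfl

theorem T_zero : T 0 = 1 := by ext x; simp
theorem M_one : M 1 = 1 := by ext x; simp
theorem Φ_sq : Φ * Φ = 1 := by ext x; simp [cube_cube]

/-- the carrier of `AΓL(1,9)` -/
def carrier : Set (Equiv.Perm F9) :=
  {π | ∃ (v : F9) (l : F9ˣ), π = T v * M l ∨ π = T v * M l * Φ}

theorem mul_LL (v v' : F9) (l l' : F9ˣ) : (T v * M l) * (T v' * M l') = T (v + l * v') * M (l * l') := by
  ext x; simp; ring
theorem mul_LS (v v' : F9) (l l' : F9ˣ) :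
    (T v * M l) * (T v' * M l' * Φ) = T (v + l * v') * M (l * l') * Φ := by
  ext x; simp; ring
theorem mul_SL (v v' : F9) (l l' : F9ˣ) :
    (T v * M l * Φ) * (T v' * M l') = T (v + l * v' ^ 3) * M (l * l' ^ 3) * Φ := by
  ext x; simp [cube_add, mul_pow]; ring
theorem mul_SS (v v' : F9) (l l' : F9ˣ) :
    (T v * M l * Φ) * (T v' * M l' * Φ) = T (v + l * v' ^ 3) * M (l * l' ^ 3) := by
  ext x; simp [cube_add, mul_pow, cube_cube]; ring

theorem carrier_mul {a b : Equiv.Perm F9} (ha : a ∈ carrier) (hb : b ∈ carrier) : a * b ∈ carrier := by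
  obtain ⟨v, l, rfl | rfl⟩ := ha <;> obtain ⟨v', l', rfl | rfl⟩ := hb
  · exact ⟨_, _, Or.inl (mul_LL v v' l l')⟩
  · exact ⟨_, _, Or.inr (mul_LS v v' l l')⟩
  · exact ⟨_, _, Or.inr (mul_SL v v' l l')⟩
  · exact ⟨_, _, Or.inl (mul_SS v v' l l')⟩

theorem carrier_one : (1 : Equiv.Perm F9) ∈ carrier :=
  ⟨0, 1, Or.inl (by rw [T_zero, M_one, one_mul])⟩

theorem carrier_pow {a : Equiv.Perm F9} (ha : a ∈ carrier) (n : ℕ) : a ^ n ∈ carrier := by
  induction n with
  | zero => rw [pow_zero]; exact carrier_one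
  | succ n ih => rw [pow_succ]; exact carrier_mul ih ha

theorem carrier_inv {a : Equiv.Perm F9} (ha : a ∈ carrier) : a⁻¹ ∈ carrier := by
  have hfin : IsOfFinOrder a := isOfFinOrder_of_finite a
  have hpos := hfin.orderOf_pos
  have h1 : a * a ^ (orderOf a - 1) = 1 := by
    rw [← pow_succ', Nat.sub_add_cancel hpos, pow_orderOf_eq_one]
  have h2 : a⁻¹ = a ^ (orderOf a - 1) := inv_eq_of_mul_eq_one_right h1
  rw [h2]
  exact carrier_pow ha _

/-- `AΓL(1,9)` as a subgroup of `Sym(F₉)` -/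
def Gsub : Subgroup (Equiv.Perm F9) where
  carrier := carrier
  mul_mem' := carrier_mul
  one_mem' := carrier_one
  inv_mem' := carrier_inv

theorem mem_Gsub {π : Equiv.Perm F9} : π ∈ Gsub ↔ ∃ (v : F9) (l : F9ˣ), π = T v * M l ∨ π = T v * M l * Φ :=
  Iff.rfl

theorem T_mem (v : F9) : T v ∈ Gsub := ⟨v, 1, Or.inl (by rw [M_one, mul_one])⟩
theorem M_mem (l : F9ˣ) : M l ∈ Gsub := ⟨0, l, Or.inl (by rw [T_zero, one_mul])⟩
theorem Φ_mem : Φ ∈ Gsub := ⟨0, 1, Or.inr (by rw [T_zero, M_one, one_mul, one_mul])⟩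
theorem TMΦ_mem (v : F9) (l : F9ˣ) : T v * M l * Φ ∈ Gsub := ⟨v, l, Or.inr rfl⟩
theorem TM_mem (v : F9) (l : F9ˣ) : T v * M l ∈ Gsub := ⟨v, l, Or.inl rfl⟩

theorem pow_L (v : F9) (l : F9ˣ) (n : ℕ) : ∃ w, (T v * M l) ^ n = T w * M (l ^ n) := by
  induction n with
  | zero => exact ⟨0, by rw [pow_zero, pow_zero, T_zero, M_one, one_mul]⟩
  | succ n ih =>
    obtain ⟨w, hw⟩ := ih
    exact ⟨_, by rw [pow_succ, hw, mul_LL, pow_succ]⟩

theorem sq_L {π : Equiv.Perm F9} (hπ : π ∈ Gsub) : ∃ v l, π ^ 2 = T v * M l := by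
  obtain ⟨v, l, rfl | rfl⟩ := hπ
  · exact ⟨_, _, by rw [pow_two, mul_LL]⟩
  · exact ⟨_, _, by rw [pow_two, mul_SS]⟩

/-- the 16th power of an element of `G` is a translation -/
theorem pow16 {π : Equiv.Perm F9} (hπ : π ∈ Gsub) : ∃ w, π ^ 16 = T w := by
  obtain ⟨v, l, h⟩ := sq_L hπ
  obtain ⟨w, hw⟩ := pow_L v l 8
  refine ⟨w, ?_⟩
  rw [show 16 = 2 * 8 by norm_num, pow_mul, h, hw, unit_pow8, M_one, mul_one]

theorem pow16_of_fix {π : Equiv.Perm F9} (hπ : π ∈ Gsub) (h0 : π 0 = 0) : π ^ 16 = 1 := by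
  obtain ⟨w, hw⟩ := pow16 hπ
  have h1 : (π ^ 16) 0 = 0 := by
    have : ∀ n : ℕ, (π ^ n) 0 = 0 := by
      intro n
      induction n with
      | zero => simp
      | succ n ih => rw [pow_succ, Equiv.Perm.mul_apply, h0, ih]
    exact this 16
  rw [hw] at h1 ⊢
  simp at h1
  rw [h1, T_zero]

theorem conjT {π : Equiv.Perm F9} (hπ : π ∈ Gsub) (w : F9) : ∃ w', π * T w = T w' * π := by
  obtain ⟨v, l, rfl | rfl⟩ := hπ
  · exact ⟨l * w, by ext x; simp; ring⟩
  · exact ⟨l * w ^ 3, by ext x; simp [cube_add]; ring⟩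

theorem T_mul (v w : F9) : T v * T w = T (v + w) := by ext x; simp; ring

theorem T_inv (v : F9) : (T v)⁻¹ = T (-v) := by
  rw [inv_eq_iff_mul_eq_one, T_mul, add_neg_cancel, T_zero]

theorem T_injective : Function.Injective T := by
  intro v w h
  have := congrArg (fun π : Equiv.Perm F9 => π 0) h
  simpa using this

theorem T_pow (v : F9) (n : ℕ) : T v ^ n = T (n • v) := by
  induction n with
  | zero => rw [pow_zero, zero_smul, T_zero]
  | succ n ih => rw [pow_succ, ih, T_mul, succ_nsmul]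

/-- the translation subgroup of `G` -/
def Nsub : Subgroup Gsub where
  carrier := {g | ∃ w, (g : Equiv.Perm F9) = T w}
  mul_mem' := by
    rintro a b ⟨w, hw⟩ ⟨w', hw'⟩
    exact ⟨w + w', by rw [Subgroup.coe_mul, hw, hw', T_mul]⟩
  one_mem' := ⟨0, by rw [Subgroup.coe_one, T_zero]⟩
  inv_mem' := by
    rintro a ⟨w, hw⟩
    exact ⟨-w, by rw [Subgroup.coe_inv, hw, T_inv]⟩

instance Nsub_normal : Nsub.Normal := by
  refine ⟨fun n hn g => ?_⟩
  obtain ⟨w, hw⟩ := hn
  obtain ⟨w', hw'⟩ := conjT g.2 w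
  refine ⟨w', ?_⟩
  rw [Subgroup.coe_mul, Subgroup.coe_mul, Subgroup.coe_inv, hw, hw', mul_inv_cancel_right]

theorem G_solvable : Group.IsSolvable Gsub := by
  haveI h1 : Group.IsSolvable Nsub := by
    apply Group.isSolvable_of_comm
    rintro ⟨a, w, hw⟩ ⟨b, w', hw'⟩
    apply Subtype.ext
    apply Subtype.ext
    simp only [Subgroup.coe_mul]
    rw [hw, hw', T_mul, T_mul, add_comm]
  haveI h2 : Group.IsSolvable (Gsub ⧸ Nsub) := by
    have hp : IsPGroup 2 (Gsub ⧸ Nsub) := by
      intro q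
      refine ⟨4, ?_⟩
      induction q using QuotientGroup.induction_on with
      | H g =>
        rw [← QuotientGroup.mk_pow, QuotientGroup.eq_one_iff]
        obtain ⟨w, hw⟩ := pow16 g.2
        exact ⟨w, by rw [Subgroup.coe_pow]; exact hw⟩
    haveI := hp.isNilpotent
    infer_instance
  exact Group.isSolvable_of_ker_le_range Nsub.subtype (QuotientGroup.mk' Nsub) (by simp)

/-- conjugacy in `G` from a relation in `Sym(F₉)` -/
theorem conj_of {c g t : Equiv.Perm F9} (hc : c ∈ Gsub) (hg : g ∈ Gsub) (ht : t ∈ Gsub)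
    (h : t * c = g * t) : IsConj (⟨c, hc⟩ : Gsub) ⟨g, hg⟩ := by
  rw [isConj_iff]
  refine ⟨⟨t, ht⟩, ?_⟩
  apply Subtype.ext
  simp only [Subgroup.coe_mul, Subgroup.coe_inv]
  rw [h, mul_inv_cancel_right]

theorem subnormal_of_commute (a g : Gsub) (h : a * g = g * a) :
    ((Subgroup.zpowers a).subgroupOf (Subgroup.zpowers a ⊔ Subgroup.zpowers g)).IsSubnormal := by
  have hK : Subgroup.zpowers a ⊔ Subgroup.zpowers g ≤ Subgroup.centralizer ({a} : Set Gsub) := by
    apply sup_le
    · rw [Subgroup.zpowers_le, Subgroup.mem_centralizer_iff]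
      intro x hx; rw [Set.mem_singleton_iff] at hx; rw [hx]
    · rw [Subgroup.zpowers_le, Subgroup.mem_centralizer_iff]
      intro x hx; rw [Set.mem_singleton_iff] at hx; rw [hx]; exact h
  have hN : ((Subgroup.zpowers a).subgroupOf (Subgroup.zpowers a ⊔ Subgroup.zpowers g)).Normal := by
    refine ⟨fun n hn k => ?_⟩
    rw [Subgroup.mem_subgroupOf] at hn ⊢
    obtain ⟨i, hi⟩ := Subgroup.mem_zpowers_iff.mp hn
    have hk : (k : Gsub) ∈ Subgroup.centralizer ({a} : Set Gsub) := hK k.2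
    have hka : a * (k : Gsub) = (k : Gsub) * a := (Subgroup.mem_centralizer_iff.mp hk) a rfl
    have hcomm : Commute (k : Gsub) (a ^ i) := (Commute.zpow_right (show Commute (k : Gsub) a from hka.symm) i)
    simp only [Subgroup.coe_mul, Subgroup.coe_inv]
    rw [← hi, hcomm.eq, mul_inv_cancel_right]
    exact Subgroup.zpow_mem_zpowers a i
  exact hN.isSubnormal

theorem subnormal_of_fix (a g : Gsub) (ha : (a : Equiv.Perm F9) 0 = 0) (hg : (g : Equiv.Perm F9) 0 = 0) :
    ((Subgroup.zpowers a).subgroupOf (Subgroup.zpowers a ⊔ Subgroup.zpowers g)).IsSubnormal := by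
  let S0 : Subgroup Gsub := (MulAction.stabilizer (Equiv.Perm F9) (0 : F9)).comap Gsub.subtype
  have hK : Subgroup.zpowers a ⊔ Subgroup.zpowers g ≤ S0 := by
    apply sup_le
    · rw [Subgroup.zpowers_le]; exact ha
    · rw [Subgroup.zpowers_le]; exact hg
  have hp : IsPGroup 2 ↥(Subgroup.zpowers a ⊔ Subgroup.zpowers g) := by
    intro k
    refine ⟨4, ?_⟩
    apply Subtype.ext
    apply Subtype.ext
    have h0 : ((k : Gsub) : Equiv.Perm F9) 0 = 0 := hK k.2
    have := pow16_of_fix (k : Gsub).2 h0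
    simpa using this
  haveI := hp.isNilpotent
  exact (Cfsg.Agent.S0064.result).mp inferInstance _

end

/-- There is a finite solvable group G with a subgroup A of order 2 such that every conjugacy class of G contains an element g for which A is subnormal in the subgroup generated by A and g, and yet A is not contained in O_2(G). (So the corresponding criteria for odd primes fail at the prime 2, even for solvable groups.) -/
theorem result :
    ∃ (G : Type) (_ : Group G) (_ : Finite G) (A : Subgroup G), Group.IsSolvable G ∧ Nat.card A = 2 ∧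
      (∀ c : G, ∃ g : G, IsConj c g ∧ (A.subgroupOf (A ⊔ Subgroup.zpowers g)).IsSubnormal) ∧
      ¬ A ≤ Cfsg.pCore 2 G := by
  classical
  have haΦ : (⟨Φ, Φ_mem⟩ : Gsub) ≠ 1 := by
    intro h
    obtain ⟨z, hz⟩ := exists_moved
    have h1 : Φ = 1 := congrArg Subtype.val h
    have := congrArg (fun π : Equiv.Perm F9 => π z) h1
    exact hz (by simpa using this)
  have ha2 : (⟨Φ, Φ_mem⟩ : Gsub) ^ 2 = 1 := by
    apply Subtype.ext
    rw [Subgroup.coe_pow, pow_two]
    exact Φ_sq
  have haG : ∀ u : F9, u ^ 3 = u → (⟨Φ, Φ_mem⟩ : Gsub) * ⟨T u * M 1 * Φ, TMΦ_mem u 1⟩ =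
      ⟨T u * M 1 * Φ, TMΦ_mem u 1⟩ * ⟨Φ, Φ_mem⟩ := by
    intro u hu
    apply Subtype.ext
    simp only [Subgroup.coe_mul]
    ext x
    simp [cube_add, hu, cube_cube]
  refine ⟨Gsub, inferInstance, inferInstance, Subgroup.zpowers (⟨Φ, Φ_mem⟩ : Gsub), G_solvable, ?_, ?_, ?_⟩
  · rw [Nat.card_zpowers]
    exact orderOf_eq_prime ha2 haΦ
  · rintro ⟨π, hπ⟩
    obtain ⟨v, l, rfl | rfl⟩ := hπ
    · -- linear type
      by_cases hl : l = 1
      · subst hl
        by_cases hv : v = 0
        · subst hv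
          refine ⟨1, ?_, ?_⟩
          · have : (⟨T 0 * M 1, TM_mem 0 1⟩ : Gsub) = 1 := by
              apply Subtype.ext
              simp [T_zero, M_one]
            rw [this]
          · apply subnormal_of_commute
            rw [mul_one, one_mul]
        · refine ⟨⟨T 1, T_mem 1⟩, ?_, ?_⟩
          · apply conj_of (TM_mem v 1) (T_mem 1) (M_mem (Units.mk0 v hv)⁻¹)
            ext x
            simp
            field_simp
          · apply subnormal_of_commute
            apply Subtype.ext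
            simp only [Subgroup.coe_mul]
            ext x
            simp [cube_add]
      · have hl' : (l : F9) - 1 ≠ 0 := by
          intro h
          apply hl
          apply Units.ext
          rw [Units.val_one]
          exact sub_eq_zero.mp h
        refine ⟨⟨M l, M_mem l⟩, ?_, ?_⟩
        · apply conj_of (TM_mem v l) (M_mem l) (T_mem (v / ((l : F9) - 1)))
          ext x
          simp
          field_simp
          ring
        · apply subnormal_of_fix
          · simp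
          · simp
    · -- semilinear type
      by_cases hw : ∃ w : F9, w ≠ 0 ∧ (l : F9) * w ^ 3 = w
      · obtain ⟨w, hw0, hw⟩ := hw
        -- first conjugate to `T v' * Φ`
        have hstep1 : IsConj (⟨T v * M l * Φ, TMΦ_mem v l⟩ : Gsub)
            ⟨T (w⁻¹ * v) * M 1 * Φ, TMΦ_mem _ 1⟩ := by
          apply conj_of (TMΦ_mem v l) (TMΦ_mem _ 1) (M_mem (Units.mk0 w hw0)⁻¹)
          ext x
          simp
          have hl : (l : F9) = w⁻¹ ^ 2 := by
            field_simp
            have : (l : F9) * w ^ 3 = w * 1 := by rw [mul_one]; exact hw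
            have h2 : w * ((l : F9) * w ^ 2) = w * 1 := by rw [← this]; ring
            exact mul_left_cancel₀ hw0 h2
          rw [hl]
          ring
        -- then to `T u * Φ` with `u^3 = u`
        set v' := w⁻¹ * v with hv'
        have hu : (-(v' + v' ^ 3)) ^ 3 = -(v' + v' ^ 3) := by
          rw [neg_pow, cube_add, cube_cube]
          ring_nf
        have hstep2 : IsConj (⟨T v' * M 1 * Φ, TMΦ_mem _ 1⟩ : Gsub)
            ⟨T (-(v' + v' ^ 3)) * M 1 * Φ, TMΦ_mem _ 1⟩ := by
          apply conj_of (TMΦ_mem _ 1) (TMΦ_mem _ 1) (T_mem v')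
          ext x
          simp [cube_add]
          have h3 : (3 : F9) = 0 := three_zero
          linear_combination v' * h3
        refine ⟨_, hstep1.trans hstep2, ?_⟩
        apply subnormal_of_commute
        exact haG _ hu
      · push Not at hw
        -- the map `w ↦ w - l w^3` is injective, hence surjective
        have hinj : Function.Injective (fun w : F9 => w - (l : F9) * w ^ 3) := by
          intro w w' h
          simp only at h
          by_contra hne
          have hd : w - w' ≠ 0 := sub_ne_zero.mpr hne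
          apply hw (w - w') hd
          rw [cube_sub]
          linear_combination -h
        have hsurj := Finite.injective_iff_surjective.mp hinj
        obtain ⟨w, hw'⟩ := hsurj (-v)
        simp only at hw'
        refine ⟨⟨T 0 * M l * Φ, TMΦ_mem 0 l⟩, ?_, ?_⟩
        · apply conj_of (TMΦ_mem v l) (TMΦ_mem 0 l) (T_mem w)
          ext x
          simp [cube_add]
          linear_combination hw'
        · apply subnormal_of_fix
          · simp
          · simp
  · intro hle
    have hQn : (Cfsg.pCore 2 Gsub).Normal := Cfsg.Agent.Lib.Helper7_PCore.pCore_normal 2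
    have hQp : IsPGroup 2 (Cfsg.pCore 2 Gsub) := Cfsg.Agent.Lib.Helper7_PCore.pCore_isPGroup 2
    have haQ : (⟨Φ, Φ_mem⟩ : Gsub) ∈ Cfsg.pCore 2 Gsub := hle (Subgroup.mem_zpowers _)
    obtain ⟨z, hz⟩ := exists_moved
    have hcomm : (⟨Φ, Φ_mem⟩ : Gsub) * (⟨T z, T_mem z⟩ * (⟨Φ, Φ_mem⟩ : Gsub)⁻¹ * (⟨T z, T_mem z⟩ : Gsub)⁻¹) ∈
        Cfsg.pCore 2 Gsub :=
      (Cfsg.pCore 2 Gsub).mul_mem haQ (hQn.conj_mem _ ((Cfsg.pCore 2 Gsub).inv_mem haQ) _)
    have heq : (⟨Φ, Φ_mem⟩ : Gsub) * (⟨T z, T_mem z⟩ * (⟨Φ, Φ_mem⟩ : Gsub)⁻¹ * (⟨T z, T_mem z⟩ : Gsub)⁻¹) =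
        ⟨T (z ^ 3 - z), T_mem _⟩ := by
      apply Subtype.ext
      simp only [Subgroup.coe_mul, Subgroup.coe_inv]
      have h1 : Φ * T z = T (z ^ 3) * Φ := by ext x; simp [cube_add]
      rw [← mul_assoc, ← mul_assoc, h1, mul_assoc (T (z ^ 3)), mul_inv_cancel, mul_one, T_inv, T_mul,
        sub_eq_add_neg]
    rw [heq] at hcomm
    obtain ⟨k, hk⟩ := hQp ⟨_, hcomm⟩
    have hk' : T (z ^ 3 - z) ^ 2 ^ k = 1 := by
      have := congrArg (fun q : Cfsg.pCore 2 Gsub => ((q : Gsub) : Equiv.Perm F9)) hk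
      simpa using this
    have h3 : T (z ^ 3 - z) ^ 3 = 1 := by
      rw [T_pow, ← T_zero]
      congr 1
      rw [nsmul_eq_mul]
      have : ((3 : ℕ) : F9) = 0 := by exact_mod_cast three_zero
      rw [this, zero_mul]
    have hne : T (z ^ 3 - z) ≠ 1 := by
      rw [← T_zero]
      intro h
      exact hz (sub_eq_zero.mp (T_injective h))
    have ho : orderOf (T (z ^ 3 - z)) = 3 := orderOf_eq_prime h3 hne
    have hd := orderOf_dvd_of_pow_eq_one hk'
    rw [ho] at hd
    have := (Nat.Prime.dvd_of_dvd_pow Nat.prime_three hd)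
    omega

end Cfsg.Agent.S4331
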