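import Mathlib
import Cfsg.Statements.S4332
import Cfsg.Agent.Lib.Helper7_PCore

set_option autoImplicit false

open Pointwise
open Cfsg

namespace Cfsg.Agent.S4332

/-- the combinatorial heart: a good triple for any permutation of 8 points -/
theorem good_triple (c : Equiv.Perm (Fin 8)) :
    ∃ x y z : Fin 8, x ≠ y ∧ x ≠ z ∧ y ≠ z ∧
      ((c x = x ∧ c y = y ∧ c z = z) ∨ (c x = y ∧ c y = z ∧ c z = x) ∨
        (c x ≠ x ∧ c x ≠ y ∧ c x ≠ z ∧ c y ≠ x ∧ c y ≠ y ∧ c y ≠ z ∧ c z ≠ x ∧ c z ≠ y ∧ c z ≠ z)) := by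
  classical
  by_cases hfix : 2 < (c.supportᶜ).card
  · obtain ⟨x, y, z, hx, hy, hz, hxy, hxz, hyz⟩ := Finset.two_lt_card_iff.mp hfix
    rw [Finset.mem_compl, Equiv.Perm.mem_support, not_not] at hx hy hz
    exact ⟨x, y, z, hxy, hxz, hyz, Or.inl ⟨hx, hy, hz⟩⟩
  · have hS : 6 ≤ c.support.card := by
      have h1 : (c.supportᶜ).card = Fintype.card (Fin 8) - c.support.card := Finset.card_compl _
      have h2 : c.support.card ≤ Fintype.card (Fin 8) := Finset.card_le_univ _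
      simp only [Fintype.card_fin] at h1 h2
      omega
    have hne : c.support.Nonempty := by
      rw [← Finset.card_pos]; omega
    obtain ⟨x₁, hx₁⟩ := hne
    -- adjacency facts from non-membership
    have key : ∀ (u w : Fin 8), w ∉ ({u, c u, c⁻¹ u} : Finset (Fin 8)) → w ≠ u ∧ c u ≠ w ∧ c w ≠ u := by
      intro u w hw
      simp only [Finset.mem_insert, Finset.mem_singleton, not_or] at hw
      refine ⟨hw.1, fun h => hw.2.1 h.symm, fun h => hw.2.2 ?_⟩
      rw [← h]; simp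
    have hN : ∀ u : Fin 8, ({u, c u, c⁻¹ u} : Finset (Fin 8)).card ≤ 3 := fun u => Finset.card_le_three
    set R₁ := c.support \ ({x₁, c x₁, c⁻¹ x₁} : Finset (Fin 8)) with hR₁
    have hR₁card : 3 ≤ R₁.card := by
      have h1 := Finset.le_card_sdiff ({x₁, c x₁, c⁻¹ x₁} : Finset (Fin 8)) c.support
      have h2 := hN x₁
      rw [← hR₁] at h1
      omega
    by_cases h4 : 4 ≤ R₁.card
    · have hne2 : R₁.Nonempty := by rw [← Finset.card_pos]; omega
      obtain ⟨x₂, hx₂⟩ := hne2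
      set R₂ := R₁ \ ({x₂, c x₂, c⁻¹ x₂} : Finset (Fin 8)) with hR₂
      have hR₂card : 1 ≤ R₂.card := by
        have h1 := Finset.le_card_sdiff ({x₂, c x₂, c⁻¹ x₂} : Finset (Fin 8)) R₁
        have h2 := hN x₂
        rw [← hR₂] at h1
        omega
      have hne3 : R₂.Nonempty := by rw [← Finset.card_pos]; omega
      obtain ⟨x₃, hx₃⟩ := hne3
      rw [hR₂, Finset.mem_sdiff] at hx₃
      have hx₃' := hx₃.1
      rw [hR₁, Finset.mem_sdiff] at hx₂ hx₃'
      obtain ⟨h21, h21a, h21b⟩ := key x₁ x₂ hx₂.2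
      obtain ⟨h31, h31a, h31b⟩ := key x₁ x₃ hx₃'.2
      obtain ⟨h32, h32a, h32b⟩ := key x₂ x₃ hx₃.2
      have s1 := Equiv.Perm.mem_support.mp hx₁
      have s2 := Equiv.Perm.mem_support.mp hx₂.1
      have s3 := Equiv.Perm.mem_support.mp hx₃'.1
      exact ⟨x₁, x₂, x₃, h21.symm, h31.symm, h32.symm,
        Or.inr (Or.inr ⟨s1, h21a, h31a, h21b, s2, h32a, h31b, h32b, s3⟩)⟩
    · have h3 : R₁.card = 3 := by omega
      obtain ⟨p, q, r, hpq, hpr, hqr, hR⟩ := Finset.card_eq_three.mp h3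
      have hp : p ∈ R₁ := by rw [hR]; simp
      have hq : q ∈ R₁ := by rw [hR]; simp
      have hr : r ∈ R₁ := by rw [hR]; simp
      rw [hR₁, Finset.mem_sdiff] at hp hq hr
      obtain ⟨hp1, hp1a, hp1b⟩ := key x₁ p hp.2
      obtain ⟨hq1, hq1a, hq1b⟩ := key x₁ q hq.2
      obtain ⟨hr1, hr1a, hr1b⟩ := key x₁ r hr.2
      have s1 := Equiv.Perm.mem_support.mp hx₁
      have sp := Equiv.Perm.mem_support.mp hp.1
      have sq := Equiv.Perm.mem_support.mp hq.1
      have sr := Equiv.Perm.mem_support.mp hr.1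
      by_cases hpq' : c p ≠ q ∧ c q ≠ p
      · exact ⟨x₁, p, q, hp1.symm, hq1.symm, hpq,
          Or.inr (Or.inr ⟨s1, hp1a, hq1a, hp1b, sp, hpq'.1, hq1b, hpq'.2, sq⟩)⟩
      by_cases hpr' : c p ≠ r ∧ c r ≠ p
      · exact ⟨x₁, p, r, hp1.symm, hr1.symm, hpr,
          Or.inr (Or.inr ⟨s1, hp1a, hr1a, hp1b, sp, hpr'.1, hr1b, hpr'.2, sr⟩)⟩
      by_cases hqr' : c q ≠ r ∧ c r ≠ q
      · exact ⟨x₁, q, r, hq1.symm, hr1.symm, hqr,
          Or.inr (Or.inr ⟨s1, hq1a, hr1a, hq1b, sq, hqr'.1, hr1b, hqr'.2, sr⟩)⟩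
      -- all adjacent: a 3-cycle
      have a1 : c p = q ∨ c q = p := by
        by_contra h; push Not at h; exact hpq' h
      have a2 : c p = r ∨ c r = p := by
        by_contra h; push Not at h; exact hpr' h
      have a3 : c q = r ∨ c r = q := by
        by_contra h; push Not at h; exact hqr' h
      rcases a1 with a1 | a1 <;> rcases a2 with a2 | a2 <;> rcases a3 with a3 | a3
      · exact absurd (a1.symm.trans a2) hqr
      · exact absurd (a1.symm.trans a2) hqr
      · exact ⟨p, q, r, hpq, hpr, hqr, Or.inr (Or.inl ⟨a1, a3, a2⟩)⟩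
      · exact absurd (a2.symm.trans a3) hpq
      · exact absurd (a1.symm.trans a3) hpr
      · exact ⟨p, r, q, hpr, hpq, hqr.symm, Or.inr (Or.inl ⟨a2, a3, a1⟩)⟩
      · exact absurd (c.injective (a1.trans a2.symm)) hqr
      · exact absurd (c.injective (a1.trans a2.symm)) hqr

theorem swap_cycle_eq {x y z : Fin 8} (hxy : x ≠ y) (hxz : x ≠ z) (hyz : y ≠ z) :
    Equiv.swap y z * Equiv.swap y x = Equiv.swap x y * Equiv.swap x z := by
  ext t
  simp only [Equiv.Perm.mul_apply]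
  by_cases h1 : t = x
  · rw [h1, Equiv.swap_apply_right, Equiv.swap_apply_left, Equiv.swap_apply_left,
      Equiv.swap_apply_of_ne_of_ne hxz.symm hyz.symm]
  by_cases h2 : t = y
  · rw [h2, Equiv.swap_apply_left, Equiv.swap_apply_of_ne_of_ne hxy hxz,
      Equiv.swap_apply_of_ne_of_ne hxy.symm hyz, Equiv.swap_apply_right]
  by_cases h3 : t = z
  · rw [h3, Equiv.swap_apply_of_ne_of_ne hyz.symm hxz.symm, Equiv.swap_apply_right,
      Equiv.swap_apply_right, Equiv.swap_apply_left]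
  · rw [Equiv.swap_apply_of_ne_of_ne h2 h1, Equiv.swap_apply_of_ne_of_ne h2 h3,
      Equiv.swap_apply_of_ne_of_ne h1 h3, Equiv.swap_apply_of_ne_of_ne h1 h2]

/-- For every permutation `c` there is a 3-cycle `τ` commuting with its conjugate by `c`. -/
theorem exists_three_cycle (c : Equiv.Perm (Fin 8)) :
    ∃ τ : Equiv.Perm (Fin 8), τ.IsThreeCycle ∧ Commute (c * τ * c⁻¹) τ := by
  obtain ⟨x, y, z, hxy, hxz, hyz, h⟩ := good_triple c
  refine ⟨Equiv.swap x y * Equiv.swap x z, Equiv.Perm.isThreeCycle_swap_mul_swap_same hxy hxz hyz, ?_⟩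
  have hconj : c * (Equiv.swap x y * Equiv.swap x z) * c⁻¹ =
      Equiv.swap (c x) (c y) * Equiv.swap (c x) (c z) := by
    rw [Equiv.swap_apply_apply, Equiv.swap_apply_apply]; group
  rw [hconj]
  rcases h with ⟨h1, h2, h3⟩ | ⟨h1, h2, h3⟩ | h
  · rw [h1, h2, h3]
  · rw [h1, h2, h3, swap_cycle_eq hxy hxz hyz]
  · obtain ⟨hxx, hxy', hxz', hyx, hyy, hyz', hzx, hzy, hzz⟩ := h
    apply Equiv.Perm.Disjoint.commute
    intro t
    by_cases ht : t = x ∨ t = y ∨ t = z
    · left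
      have h1 : t ≠ c x := by rcases ht with rfl | rfl | rfl <;> [exact hxx.symm; exact hxy'.symm; exact hxz'.symm]
      have h2 : t ≠ c y := by rcases ht with rfl | rfl | rfl <;> [exact hyx.symm; exact hyy.symm; exact hyz'.symm]
      have h3 : t ≠ c z := by rcases ht with rfl | rfl | rfl <;> [exact hzx.symm; exact hzy.symm; exact hzz.symm]
      rw [Equiv.Perm.mul_apply, Equiv.swap_apply_of_ne_of_ne h1 h3, Equiv.swap_apply_of_ne_of_ne h1 h2]
    · right
      push Not at ht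
      rw [Equiv.Perm.mul_apply, Equiv.swap_apply_of_ne_of_ne ht.1 ht.2.2,
        Equiv.swap_apply_of_ne_of_ne ht.1 ht.2.1]

/-- `A` is normal in `A ⊔ gAg⁻¹` when `gσg⁻¹` commutes with `σ` -/
theorem subnormal_of_commute (σ g : Equiv.Perm (Fin 8)) (h : Commute (g * σ * g⁻¹) σ) :
    ((Subgroup.zpowers σ).subgroupOf (Subgroup.zpowers σ ⊔ MulAut.conj g • Subgroup.zpowers σ)).IsSubnormal := by
  have hK : Subgroup.zpowers σ ⊔ MulAut.conj g • Subgroup.zpowers σ ≤
      Subgroup.centralizer ({σ} : Set (Equiv.Perm (Fin 8))) := by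
    apply sup_le
    · rw [Subgroup.zpowers_le, Subgroup.mem_centralizer_iff]
      intro x hx; rw [Set.mem_singleton_iff] at hx; rw [hx]
    · intro m hm
      rw [Subgroup.mem_smul_pointwise_iff_exists] at hm
      obtain ⟨s, hs, rfl⟩ := hm
      obtain ⟨i, rfl⟩ := Subgroup.mem_zpowers_iff.mp hs
      rw [Subgroup.mem_centralizer_iff]
      intro x hx; rw [Set.mem_singleton_iff] at hx; rw [hx]
      have : MulAut.conj g • σ ^ i = (g * σ * g⁻¹) ^ i := by
        rw [MulAut.smul_def, MulAut.conj_apply, conj_zpow]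
      rw [this]
      exact ((h.zpow_left i).eq).symm
  have hN : ((Subgroup.zpowers σ).subgroupOf
      (Subgroup.zpowers σ ⊔ MulAut.conj g • Subgroup.zpowers σ)).Normal := by
    refine ⟨fun n hn k => ?_⟩
    rw [Subgroup.mem_subgroupOf] at hn ⊢
    obtain ⟨i, hi⟩ := Subgroup.mem_zpowers_iff.mp hn
    have hk : (k : Equiv.Perm (Fin 8)) ∈ Subgroup.centralizer ({σ} : Set (Equiv.Perm (Fin 8))) := hK k.2
    have hka : σ * (k : Equiv.Perm (Fin 8)) = (k : Equiv.Perm (Fin 8)) * σ :=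
      (Subgroup.mem_centralizer_iff.mp hk) σ rfl
    have hcomm : Commute (k : Equiv.Perm (Fin 8)) (σ ^ i) :=
      (Commute.zpow_right (show Commute (k : Equiv.Perm (Fin 8)) σ from hka.symm) i)
    simp only [Subgroup.coe_mul, Subgroup.coe_inv]
    rw [← hi, hcomm.eq, mul_inv_cancel_right]
    exact Subgroup.zpow_mem_zpowers σ i
  exact hN.isSubnormal

/-- In the symmetric group of degree 8, let A be the subgroup generated by a 3-cycle. Then every conjugacy class contains an element g for which A is subnormal in the subgroup generated by A and its conjugate by g, although O_3 of the symmetric group of degree 8 is trivial. -/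
theorem result
    (σ : Equiv.Perm (Fin 8)) (hσ : σ.IsThreeCycle) :
    (∀ c : Equiv.Perm (Fin 8), ∃ g : Equiv.Perm (Fin 8), IsConj c g ∧
      ((Subgroup.zpowers σ).subgroupOf (Subgroup.zpowers σ ⊔ MulAut.conj g • Subgroup.zpowers σ)).IsSubnormal) ∧
    Cfsg.pCore 3 (Equiv.Perm (Fin 8)) = ⊥ := by
  classical
  constructor
  · intro c
    obtain ⟨τ, hτ, hcomm⟩ := exists_three_cycle c
    have hconj : IsConj τ σ := by
      rw [Equiv.Perm.isConj_iff_cycleType_eq, hτ.cycleType, hσ.cycleType]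
    obtain ⟨h, hh⟩ := isConj_iff.mp hconj
    refine ⟨h * c * h⁻¹, isConj_iff.mpr ⟨h, rfl⟩, ?_⟩
    apply subnormal_of_commute
    have e1 : h * c * h⁻¹ * σ * (h * c * h⁻¹)⁻¹ = h * (c * τ * c⁻¹) * h⁻¹ := by
      rw [← hh]; group
    rw [e1, ← hh]
    -- conjugation preserves commuting
    have : Commute (h * (c * τ * c⁻¹) * h⁻¹) (h * τ * h⁻¹) := by
      have h2 : h * (c * τ * c⁻¹) * h⁻¹ * (h * τ * h⁻¹) = h * ((c * τ * c⁻¹) * τ) * h⁻¹ := by group
      have h3 : (h * τ * h⁻¹) * (h * (c * τ * c⁻¹) * h⁻¹) = h * (τ * (c * τ * c⁻¹)) * h⁻¹ := by group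
      show _ * _ = _ * _
      rw [h2, h3, hcomm.eq]
    exact this
  · -- O_3(S_8) = 1
    have hQn : (Cfsg.pCore 3 (Equiv.Perm (Fin 8))).Normal := Cfsg.Agent.Lib.Helper7_PCore.pCore_normal 3
    haveI : Fact (Nat.Prime 3) := ⟨Nat.prime_three⟩
    have hQp : IsPGroup 3 (Cfsg.pCore 3 (Equiv.Perm (Fin 8))) :=
      Cfsg.Agent.Lib.Helper7_PCore.pCore_isPGroup 3
    have hpow : ∀ x ∈ Cfsg.pCore 3 (Equiv.Perm (Fin 8)), ∃ k : ℕ, x ^ 3 ^ k = 1 := by
      intro x hx
      obtain ⟨k, hk⟩ := hQp ⟨x, hx⟩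
      exact ⟨k, by simpa using congrArg Subtype.val hk⟩
    have hle : Cfsg.pCore 3 (Equiv.Perm (Fin 8)) ≤ alternatingGroup (Fin 8) := by
      intro x hx
      obtain ⟨k, hk⟩ := hpow x hx
      rw [Equiv.Perm.mem_alternatingGroup]
      have h1 : (Equiv.Perm.sign x) ^ 3 ^ k = 1 := by rw [← map_pow, hk, map_one]
      rcases Int.units_eq_one_or (Equiv.Perm.sign x) with h | h
      · exact h
      · exfalso
        rw [h, Odd.neg_one_pow (Odd.pow (by decide : Odd 3))] at h1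
        exact absurd h1 (by decide)
    haveI hsimple : IsSimpleGroup (alternatingGroup (Fin 8)) :=
      alternatingGroup.isSimpleGroup (by simp)
    haveI hnorm : ((Cfsg.pCore 3 (Equiv.Perm (Fin 8))).subgroupOf (alternatingGroup (Fin 8))).Normal :=
      hQn.subgroupOf _
    rcases hnorm.eq_bot_or_eq_top with hb | ht
    · rw [Subgroup.subgroupOf_eq_bot] at hb
      exact (disjoint_of_le_iff_left_eq_bot hle).mp hb
    · exfalso
      rw [Subgroup.subgroupOf_eq_top] at ht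
      have hmem : Equiv.swap (0 : Fin 8) 1 * Equiv.swap (2 : Fin 8) 3 ∈ alternatingGroup (Fin 8) := by
        rw [Equiv.Perm.mem_alternatingGroup, map_mul, Equiv.Perm.sign_swap (by decide),
          Equiv.Perm.sign_swap (by decide)]
        decide
      obtain ⟨k, hk⟩ := hpow _ (ht hmem)
      have h2 : (Equiv.swap (0 : Fin 8) 1 * Equiv.swap (2 : Fin 8) 3) ^ 2 = 1 := by decide
      have hne : Equiv.swap (0 : Fin 8) 1 * Equiv.swap (2 : Fin 8) 3 ≠ 1 := by decide
      have ho : orderOf (Equiv.swap (0 : Fin 8) 1 * Equiv.swap (2 : Fin 8) 3) = 2 :=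
        orderOf_eq_prime h2 hne
      have hd := orderOf_dvd_of_pow_eq_one hk
      rw [ho] at hd
      have := Nat.Prime.dvd_of_dvd_pow Nat.prime_two hd
      omega

end Cfsg.Agent.S4332
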