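import Cfsg.Statements.S4333
import Mathlib
import Cfsg.Agent.Lib.Lead_SZ
import Cfsg.Agent.Lib.Lead_Schmidt
import Cfsg.Agent.Lib.Lead_Zipper

set_option autoImplicit false
open Pointwise
open Cfsg

namespace Cfsg.Agent.S4333

open Cfsg.Agent.Lib.Lead_SZ Cfsg.Agent.Lib.Lead_Schmidt Cfsg.Agent.Lib.Lead_Zipper

open scoped Pointwise

universe u

theorem crit (n : ℕ) : ∀ (G : Type u) [Group G] [Finite G], Nat.card G = n →
    ∀ A : Subgroup G,
    (∀ a ∈ A, ∀ g : G, (A.subgroupOf (A ⊔ MulAut.conj (g⁻¹ * a * g) • A)).IsSubnormal) →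
    A.IsSubnormal := by
  induction n using Nat.strong_induction_on with
  | _ n ih =>
  intro G _ _ hn A h
  by_contra hns
  have hyp : ∀ H : Subgroup G, A ≤ H → H ≠ ⊤ → (A.subgroupOf H).IsSubnormal := by
    intro H hAH hH
    have hcard : Nat.card H < n := by
      have := card_lt (lt_top_iff_ne_top.mpr hH)
      rwa [Subgroup.card_top, hn] at this
    apply ih _ hcard H rfl
    intro a ha g
    exact relSN_descend A H hAH (g⁻¹ * a * g) (h (a : G) (Subgroup.mem_subgroupOf.mp ha) (g : G))
  have hAtop : A ≠ ⊤ := fun h' => hns (h' ▸ Subgroup.IsSubnormal.top)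
  obtain ⟨M, hM, hAM⟩ := (eq_top_or_exists_le_coatom A).resolve_left hAtop
  have hnorm : ∀ a ∈ A, ∀ g : G, g⁻¹ * a * g ∈ Subgroup.normalizer (M : Set G) := by
    intro a ha g
    set w := g⁻¹ * a * g with hw
    have hJ : A ⊔ MulAut.conj w • A ≠ ⊤ := by
      intro htop
      apply hns
      have := h a ha g
      rw [htop] at this
      exact Subgroup.IsSubnormal.trans le_top this Subgroup.IsSubnormal.top
    obtain ⟨Mg, hMg, hJMg⟩ := (eq_top_or_exists_le_coatom _).resolve_left hJ
    have hMgM := zipper _ A rfl hyp hns Mg M hMg hM (le_sup_left.trans hJMg) hAM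
    have hwA : MulAut.conj w • A ≤ M := by rw [← hMgM]; exact le_sup_right.trans hJMg
    have hA2 : A ≤ MulAut.conj w⁻¹ • M := by
      intro x hx
      rw [mem_conj_smul, inv_inv]
      apply hwA
      rw [mem_conj_smul]
      have : w⁻¹ * (w * x * w⁻¹) * w = x := by group
      rw [this]; exact hx
    have h2 := zipper _ A rfl hyp hns _ M (isCoatom_conj hM w⁻¹) hM hA2 hAM
    have h3 : w⁻¹ ∈ Subgroup.normalizer (M : Set G) := conj_smul_le_normalizer.mpr h2
    have := Subgroup.inv_mem _ h3
    rwa [inv_inv] at this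
  have hNM : Subgroup.normalClosure (A : Set G) ≤ Subgroup.normalizer (M : Set G) := by
    rw [Subgroup.normalClosure]
    apply (Subgroup.closure_le _).mpr
    intro y hy
    obtain ⟨a, ha, hay⟩ := Group.mem_conjugatesOfSet_iff.mp hy
    obtain ⟨c, hc⟩ := isConj_iff.mp hay
    have := hnorm a ha c⁻¹
    rw [inv_inv, hc] at this
    exact this
  have hAN : A ≤ Subgroup.normalClosure (A : Set G) := Subgroup.le_normalClosure
  by_cases hNtop : Subgroup.normalClosure (A : Set G) = ⊤
  · rw [hNtop, top_le_iff] at hNM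
    have hMn : M.Normal := Subgroup.normalizer_eq_top_iff.mp hNM
    exact hns (Subgroup.IsSubnormal.trans hAM (hyp M hAM hM.1) hMn.isSubnormal)
  · exact hns (Subgroup.IsSubnormal.trans hAN (hyp _ hAN hNtop)
      (Subgroup.normalClosure_normal.isSubnormal))


/-- Let A be a subgroup of a finite group G. If A is subnormal in the subgroup generated by A and its conjugate by g⁻¹ a g, for every a ∈ A and every g ∈ G, then A is subnormal in G. (A sharpening of Wielandt's subnormality criterion: only conjugates of A by conjugates of elements of A are needed.) -/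
theorem result {G : Type*} [Group G] [Finite G]
    (A : Subgroup G)
    (h : ∀ a ∈ A, ∀ g : G, (A.subgroupOf (A ⊔ MulAut.conj (g⁻¹ * a * g) • A)).IsSubnormal) :
    A.IsSubnormal := by
  exact crit _ G rfl A h

end Cfsg.Agent.S4333
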