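import Mathlib
import Cfsg.Statements.S4337
import Cfsg.Agent.S4203

set_option autoImplicit false
open Cfsg

namespace Cfsg.Agent.S4337

open Subgroup Equiv

/-- the standard basis vector -/
noncomputable def e {r : ℕ} (x : Fin r) : Fin r → ℚ := Pi.single x 1

/-- the orbits of a group generated by `m` transpositions have at most `m + 1` points -/
theorem orbit_card_le (r m : ℕ) (t : Fin m → Equiv.Perm (Fin r))
    (ht : ∀ i, (t i).IsSwap) (x₀ : Fin r) :
    Nat.card (MulAction.orbit (Subgroup.closure (Set.range t)) x₀) ≤ m + 1 := by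
  classical
  choose a b hab htab using ht
  let v : Fin m → (Fin r → ℚ) := fun i => e (a i) - e (b i)
  set W : Submodule ℚ (Fin r → ℚ) := Submodule.span ℚ (Set.range v) with hW
  have key : ∀ k ∈ Subgroup.closure (Set.range t), ∀ x : Fin r, e x - e (k x) ∈ W := by
    intro k hk
    induction hk using closure_induction with
    | mem k hk =>
      obtain ⟨i, rfl⟩ := hk
      intro x
      rw [htab i]
      by_cases hxa : x = a i
      · subst hxa
        rw [swap_apply_left]
        exact Submodule.subset_span ⟨i, rfl⟩
      · by_cases hxb : x = b i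
        · subst hxb
          rw [swap_apply_right]
          have : e (b i) - e (a i) = -(v i) := by simp [v]
          rw [this]
          exact Submodule.neg_mem _ (Submodule.subset_span ⟨i, rfl⟩)
        · rw [swap_apply_of_ne_of_ne hxa hxb, sub_self]
          exact Submodule.zero_mem _
    | one => intro x; simp
    | mul g h _ _ ihg ihh =>
      intro x
      have : e x - e ((g * h) x) = (e x - e (h x)) + (e (h x) - e (g (h x))) := by
        rw [Perm.mul_apply]; abel
      rw [this]
      exact Submodule.add_mem _ (ihh x) (ihg (h x))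
    | inv g _ ih =>
      intro x
      have := ih (g⁻¹ x)
      have e1 : g (g⁻¹ x) = x := by simp
      rw [e1] at this
      have e2 : e x - e (g⁻¹ x) = -(e (g⁻¹ x) - e x) := by abel
      rw [e2]
      exact Submodule.neg_mem _ this
  set O := MulAction.orbit (Subgroup.closure (Set.range t)) x₀ with hO
  -- the basis vectors of the orbit lie in `W ⊔ ⟨e x₀⟩`
  have hle : Submodule.span ℚ (Set.range (fun y : O => e (y : Fin r)))
      ≤ W ⊔ Submodule.span ℚ {e x₀} := by
    rw [Submodule.span_le]
    rintro _ ⟨⟨y, hy⟩, rfl⟩
    obtain ⟨k, rfl⟩ := hy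
    have h1 := key k.1 k.2 x₀
    have : e ((k : Equiv.Perm (Fin r)) x₀) = -(e x₀ - e ((k : Equiv.Perm (Fin r)) x₀)) + e x₀ := by
      abel
    show e ((k : Equiv.Perm (Fin r)) x₀) ∈ _
    rw [this]
    exact Submodule.add_mem _ (Submodule.mem_sup_left (Submodule.neg_mem _ h1))
      (Submodule.mem_sup_right (Submodule.subset_span rfl))
  have hli : LinearIndependent ℚ (fun y : O => e (y : Fin r)) := by
    have := (Pi.basisFun ℚ (Fin r)).linearIndependent
    have h2 : (fun y : O => e (y : Fin r)) = (Pi.basisFun ℚ (Fin r)) ∘ (fun y : O => (y : Fin r)) := by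
      ext y; simp [e]
    rw [h2]
    exact this.comp _ Subtype.val_injective
  haveI : Fintype O := Fintype.ofFinite O
  have h0 : Module.finrank ℚ (Submodule.span ℚ (Set.range (fun y : O => e (y : Fin r))))
      = Fintype.card O := finrank_span_eq_card hli
  have h1 : Module.finrank ℚ W ≤ m := by
    have := finrank_range_le_card (R := ℚ) v
    rw [Fintype.card_fin] at this
    exact this
  have h2 : Module.finrank ℚ (Submodule.span ℚ {e x₀}) ≤ 1 := by
    have := finrank_span_le_card (R := ℚ) ({e x₀} : Set (Fin r → ℚ))
    simpa using this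
  have h3 := Submodule.finrank_mono hle
  have h4 := Submodule.finrank_add_le_finrank_add_finrank W (Submodule.span ℚ {e x₀})
  rw [Nat.card_eq_fintype_card]
  omega

/-- In a finite symmetric group, any three transpositions generate a solvable subgroup. -/
theorem result (n : ℕ) (a b c : Equiv.Perm (Fin n))
    (ha : a.IsSwap) (hb : b.IsSwap) (hc : c.IsSwap) :
    Group.IsSolvable (Subgroup.closure ({a, b, c} : Set (Equiv.Perm (Fin n)))) := by
  classical
  let t : Fin 3 → Equiv.Perm (Fin n) := ![a, b, c]
  have ht : ∀ i, (t i).IsSwap := by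
    intro i
    fin_cases i
    · exact ha
    · exact hb
    · exact hc
  have hrange : Set.range t = ({a, b, c} : Set (Equiv.Perm (Fin n))) := by
    ext x
    simp only [Set.mem_range, Set.mem_insert_iff, Set.mem_singleton_iff]
    constructor
    · rintro ⟨i, rfl⟩
      fin_cases i
      · left; rfl
      · right; left; rfl
      · right; right; rfl
    · rintro (rfl | rfl | rfl)
      · exact ⟨0, rfl⟩
      · exact ⟨1, rfl⟩
      · exact ⟨2, rfl⟩
  rw [← hrange]
  set H := Subgroup.closure (Set.range t) with hH
  -- for each point, some term of the derived series fixes its orbit pointwise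
  have hpt : ∀ x : Fin n, ∃ k : ℕ, ∀ g ∈ derivedSeries H k, (g : Equiv.Perm (Fin n)) x = x := by
    intro x
    let O := MulAction.orbit H x
    let φ : H →* Equiv.Perm O := MulAction.toPermHom H O
    have hcard : Nat.card O ≤ 4 := orbit_card_le n 3 t ht x
    haveI : Fintype O := Fintype.ofFinite O
    have hdvd : Nat.card φ.range ∣ 24 := by
      have h1 : Nat.card φ.range ∣ Nat.card (Equiv.Perm O) := Subgroup.card_subgroup_dvd_card _
      have h2 : Nat.card (Equiv.Perm O) = (Nat.card O).factorial := by
        rw [Nat.card_eq_fintype_card, Fintype.card_perm, Nat.card_eq_fintype_card]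
      rw [h2] at h1
      exact h1.trans (Nat.factorial_dvd_factorial hcard)
    haveI hsol : Group.IsSolvable φ.range := Cfsg.Agent.S4203.solvable_of_card_dvd_24 hdvd
    obtain ⟨k, hk⟩ := (Group.isSolvable_def φ.range).mp hsol
    refine ⟨k, ?_⟩
    intro g hg
    have h1 : (derivedSeries H k).map φ.rangeRestrict = derivedSeries φ.range k :=
      map_derivedSeries_eq φ.rangeRestrict_surjective k
    rw [hk] at h1
    have h2 : φ.rangeRestrict g = 1 := by
      have : φ.rangeRestrict g ∈ (derivedSeries H k).map φ.rangeRestrict :=
        Subgroup.mem_map_of_mem _ hg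
      rw [h1] at this
      exact Subgroup.mem_bot.mp this
    have h3 : φ g = 1 := congrArg Subtype.val h2
    have h4 := congrArg (fun σ : Equiv.Perm O => ((σ ⟨x, MulAction.mem_orbit_self x⟩ : O) : Fin n)) h3
    exact h4
  choose k hk using hpt
  rw [Group.isSolvable_def]
  refine ⟨Finset.univ.sup k, ?_⟩
  rw [eq_bot_iff]
  intro g hg
  rw [Subgroup.mem_bot]
  apply Subtype.ext
  apply Equiv.ext
  intro x
  have hle : derivedSeries H (Finset.univ.sup k) ≤ derivedSeries H (k x) :=
    derivedSeries_antitone H (Finset.le_sup (Finset.mem_univ x))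
  exact hk x g (hle hg)

end Cfsg.Agent.S4337
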