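import Mathlib
import Cfsg.Statements.S4342

set_option autoImplicit false
open Cfsg

namespace Cfsg.Agent.S4342

theorem sylow_le_of_normal_coprime_index {G : Type*} [Group G] [Finite G] {p : ℕ} [hpp : Fact p.Prime]
    (H : Subgroup G) [H.Normal] (hp : ¬ p ∣ H.index) (P : Sylow p G) : (P : Subgroup G) ≤ H := by
  intro x hx
  obtain ⟨k, hk⟩ := (IsPGroup.iff_orderOf.mp P.isPGroup') ⟨x, hx⟩
  have hk' : orderOf x = p ^ k := by rw [← hk, Subgroup.orderOf_mk]
  have h1 : orderOf (QuotientGroup.mk' H x) ∣ p ^ k := by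
    rw [← hk']; exact orderOf_map_dvd _ x
  have h2 : orderOf (QuotientGroup.mk' H x) ∣ H.index := by
    rw [Subgroup.index_eq_card]; exact orderOf_dvd_natCard _
  have hcop : Nat.Coprime (p ^ k) H.index :=
    Nat.Coprime.pow_left k ((Nat.Prime.coprime_iff_not_dvd hpp.out).mpr hp)
  have h3 : orderOf (QuotientGroup.mk' H x) = 1 :=
    Nat.eq_one_of_dvd_coprimes hcop h1 h2
  rw [orderOf_eq_one_iff] at h3
  exact (QuotientGroup.eq_one_iff x).mp h3

theorem sylow_map_center_injective {H : Type*} [Group H] [Finite H] {p : ℕ} [Fact p.Prime]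
    (P Q : Sylow p H)
    (h : (P : Subgroup H).map (QuotientGroup.mk' (Subgroup.center H))
      = (Q : Subgroup H).map (QuotientGroup.mk' (Subgroup.center H))) : P = Q := by
  have hQN : (Q : Subgroup H) ≤ Subgroup.normalizer ((P : Subgroup H) : Set H) := by
    intro y hy
    have hy' : QuotientGroup.mk' (Subgroup.center H) y ∈
        (P : Subgroup H).map (QuotientGroup.mk' (Subgroup.center H)) := by
      rw [h]; exact Subgroup.mem_map_of_mem _ hy
    obtain ⟨x, hx, hxy⟩ := Subgroup.mem_map.mp hy'
    have hz : x⁻¹ * y ∈ Subgroup.center H := by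
      have := (QuotientGroup.eq (s := Subgroup.center H) (a := x) (b := y)).mp hxy
      exact this
    rw [Subgroup.mem_center_iff] at hz
    rw [Subgroup.mem_normalizer_iff]
    intro g
    have hy2 : y = x * (x⁻¹ * y) := by group
    have e : y * g * y⁻¹ = x * g * x⁻¹ := by
      have h1 := hz g
      -- g * (x⁻¹ y) = (x⁻¹ y) * g
      calc y * g * y⁻¹ = x * ((x⁻¹ * y) * g) * y⁻¹ := by group
        _ = x * (g * (x⁻¹ * y)) * y⁻¹ := by rw [h1]
        _ = x * g * x⁻¹ := by group
    rw [e]
    constructor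
    · intro hg
      exact Subgroup.mul_mem _ (Subgroup.mul_mem _ hx hg) (Subgroup.inv_mem _ hx)
    · intro hg
      have := Subgroup.mul_mem _ (Subgroup.mul_mem _ (Subgroup.inv_mem _ hx) hg) hx
      simpa [mul_assoc] using this
  have h1 := IsPGroup.inf_normalizer_sylow Q.isPGroup' P
  have h2 : (Q : Subgroup H) ≤ P := by
    have this : (Q : Subgroup H) ⊓ Subgroup.normalizer (P : Set H) = Q :=
      inf_eq_left.mpr hQN
    have h3 : (Q : Subgroup H) ⊓ P = Q := by
      rw [← h1]; exact this
    exact inf_eq_left.mp h3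
  exact Sylow.ext (Q.is_maximal' P.isPGroup' h2)

theorem result {G : Type*} [Group G] [Finite G]
    (p : ℕ) [Fact p.Prime] (H : Subgroup G) [H.Normal] (hp : ¬ p ∣ H.index) :
    Nat.card (Sylow p (H ⧸ Subgroup.center H)) = Nat.card (Sylow p G) := by
  have hle : ∀ P : Sylow p G, (P : Subgroup G) ≤ H :=
    fun P => sylow_le_of_normal_coprime_index H hp P
  let f : Sylow p G → Sylow p (H ⧸ Subgroup.center H) := fun P =>
    (P.subtype (hle P)).mapSurjective (QuotientGroup.mk'_surjective (Subgroup.center H))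
  have hinj : Function.Injective f := by
    intro P Q hPQ
    have h1 : ((P.subtype (hle P) : Sylow p H) : Subgroup H).map (QuotientGroup.mk' (Subgroup.center H))
        = ((Q.subtype (hle Q) : Sylow p H) : Subgroup H).map (QuotientGroup.mk' (Subgroup.center H)) := by
      have := congrArg (fun S : Sylow p (H ⧸ Subgroup.center H) => (S : Subgroup (H ⧸ Subgroup.center H))) hPQ
      simpa [f] using this
    have h2 := sylow_map_center_injective _ _ h1
    exact Sylow.subtype_injective h2
  have hsurj : Function.Surjective f := by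
    intro S
    obtain ⟨R, hR⟩ := Sylow.mapSurjective_surjective (QuotientGroup.mk'_surjective (Subgroup.center H)) p S
    obtain ⟨P, hP⟩ := Sylow.exists_comap_subtype_eq R
    refine ⟨P, ?_⟩
    rw [← hR]
    show (P.subtype (hle P)).mapSurjective _ = R.mapSurjective _
    congr 1
    apply Sylow.ext
    rw [Sylow.coe_subtype]
    exact hP
  exact (Nat.card_congr (Equiv.ofBijective f ⟨hinj, hsurj⟩)).symm

end Cfsg.Agent.S4342
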