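import Cfsg.Statements.S4343
import Mathlib
import Cfsg.Agent.Lib.Lead_SZ
import Cfsg.Agent.Lib.Helper5_SE

set_option autoImplicit false
open Cfsg

namespace Cfsg.Agent.S4343

open Cfsg.Agent.Lib.Lead_SZ
open scoped commutatorElement Pointwise

variable {S : Type*} [Group S] [Finite S] {p : ℕ} [Fact p.Prime]

theorem sylow_ne_top [IsSimpleGroup S] (hS : ¬ IsMulCommutative S) (P : Sylow p S) :
    (P : Subgroup S) ≠ ⊤ := by
  intro h
  have hp : IsPGroup p S := by
    intro g
    have hg : g ∈ (P : Subgroup S) := by rw [h]; trivial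
    obtain ⟨k, hk⟩ := P.isPGroup' ⟨g, hg⟩
    refine ⟨k, ?_⟩
    have := congrArg Subtype.val hk
    simpa using this
  haveI : Nontrivial S := IsSimpleGroup.toNontrivial
  have hc := hp.center_nontrivial
  rcases (inferInstance : (Subgroup.center S).Normal).eq_bot_or_eq_top with h1 | h1
  · exact ((Subgroup.nontrivial_iff_ne_bot _).1 hc) h1
  · apply hS
    refine ⟨⟨fun a b => ?_⟩⟩
    have hb : b ∈ Subgroup.center S := by rw [h1]; trivial
    exact (Subgroup.mem_center_iff.1 hb a)

theorem faithful [IsSimpleGroup S] (hS : ¬ IsMulCommutative S) (hp : p ∣ Nat.card S) (g : S)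
    (hg : ∀ Q : Sylow p S, g • Q = Q) : g = 1 := by
  have hgk : g ∈ (MulAction.toPermHom S (Sylow p S)).ker := by
    rw [MonoidHom.mem_ker]
    refine Equiv.ext (fun Q => ?_)
    exact hg Q
  rcases (MonoidHom.normal_ker (MulAction.toPermHom S (Sylow p S))).eq_bot_or_eq_top with h | h
  · rw [h, Subgroup.mem_bot] at hgk
    exact hgk
  · exfalso
    obtain ⟨P⟩ : Nonempty (Sylow p S) := inferInstance
    have hPn : (P : Subgroup S).Normal := by
      rw [← Subgroup.normalizer_eq_top_iff, eq_top_iff]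
      intro x _
      have hx : x ∈ (MulAction.toPermHom S (Sylow p S)).ker := by rw [h]; trivial
      rw [MonoidHom.mem_ker] at hx
      have h2 : x • P = P := by
        have := congrArg (fun σ : Equiv.Perm (Sylow p S) => σ P) hx
        simpa using this
      exact Sylow.smul_eq_iff_mem_normalizer.1 h2
    rcases hPn.eq_bot_or_eq_top with h1 | h1
    · exact P.ne_bot_of_dvd_card hp h1
    · exact sylow_ne_top hS P h1

theorem sylow_comm [IsSimpleGroup S] (hS : ¬ IsMulCommutative S) (hp : p ∣ Nat.card S)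
    (hn : Nat.card (Sylow p S) < p ^ 2) (P : Sylow p S) (a b : S) (ha : a ∈ (P : Subgroup S))
    (hb : b ∈ (P : Subgroup S)) : a * b = b * a := by
  have key : ∀ Q : Sylow p S, (a * b * a⁻¹ * b⁻¹) • Q = Q := by
    intro Q
    set T := MulAction.stabilizer ↥(P : Subgroup S) Q with hT
    have hidx : T.index < p ^ 2 := by
      rw [MulAction.index_stabilizer]
      exact lt_of_le_of_lt (Set.ncard_le_card _) hn
    obtain ⟨n, hn'⟩ := P.isPGroup'.index T
    have hn2 : n < 2 := by
      rw [hn'] at hidx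
      exact (Nat.pow_lt_pow_iff_right (Fact.out : p.Prime).one_lt).1 hidx
    have hcomm : ⁅(⟨a, ha⟩ : ↥(P : Subgroup S)), ⟨b, hb⟩⁆ ∈ T := by
      interval_cases n
      · have : T = ⊤ := Subgroup.index_eq_one.1 (by simpa using hn')
        rw [this]
        trivial
      · rw [pow_one] at hn'
        haveI : T.Normal := by
          apply Subgroup.normal_of_index_eq_minFac_card
          obtain ⟨k, hk⟩ := IsPGroup.iff_card.mp P.isPGroup'
          have hk0 : k ≠ 0 := by
            rintro rfl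
            rw [pow_zero] at hk
            have := T.index_dvd_card
            rw [hn', hk] at this
            exact (Fact.out : p.Prime).one_lt.ne' (Nat.dvd_one.1 this)
          rw [hn', hk, Nat.Prime.pow_minFac Fact.out hk0]
        have hc : Nat.card (↥(P : Subgroup S) ⧸ T) = p := by
          rw [← Subgroup.index_eq_card, hn']
        haveI : IsCyclic (↥(P : Subgroup S) ⧸ T) := isCyclic_of_prime_card hc
        have hcm : IsMulCommutative (↥(P : Subgroup S) ⧸ T) := ⟨inferInstance⟩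
        have hle := Subgroup.Normal.quotient_commutative_iff_commutator_le.mp hcm
        rw [commutator_def] at hle
        exact hle (Subgroup.commutator_mem_commutator (Subgroup.mem_top _) (Subgroup.mem_top _))
    have h3 := MulAction.mem_stabilizer_iff.1 hcomm
    rw [Subgroup.smul_def] at h3
    have h4 : ((⁅(⟨a, ha⟩ : ↥(P : Subgroup S)), ⟨b, hb⟩⁆ : ↥(P : Subgroup S)) : S) =
        a * b * a⁻¹ * b⁻¹ := by
      rw [commutatorElement_def]
      rfl
    rw [h4] at h3
    exact h3
  have h1 := faithful hS hp _ key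
  calc a * b = (a * b * a⁻¹ * b⁻¹) * (b * a) := by group
    _ = b * a := by rw [h1, one_mul]

theorem brodkey [IsSimpleGroup S] (hS : ¬ IsMulCommutative S) (hp : p ∣ Nat.card S)
    (hab : ∀ P : Sylow p S, ∀ a ∈ (P : Subgroup S), ∀ b ∈ (P : Subgroup S), a * b = b * a) :
    ∃ P Q : Sylow p S, (P : Subgroup S) ⊓ Q = ⊥ := by
  obtain ⟨⟨S₁, T₁⟩, hmin⟩ := Finite.exists_min
    (fun x : Sylow p S × Sylow p S => Nat.card ↥((x.1 : Subgroup S) ⊓ x.2))
  refine ⟨S₁, T₁, ?_⟩
  set D := (S₁ : Subgroup S) ⊓ T₁ with hD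
  have hcent : ∀ R : Sylow p S, D ≤ R → (R : Subgroup S) ≤ Subgroup.normalizer (D : Set S) := by
    intro R hDR x hx
    apply Subgroup.centralizer_le_normalizer
    rw [Subgroup.mem_centralizer_iff]
    intro d hd
    exact hab R d (hDR hd) x hx
  have hS₁N := hcent S₁ inf_le_left
  have hT₁N := hcent T₁ inf_le_right
  have hall : ∀ R : Sylow p S, D ≤ R := by
    intro R
    obtain ⟨y, hyN, hy⟩ := Cfsg.Agent.Lib.Helper5_SE.exists_conj_le_of_le
      (Y := Subgroup.normalizer (D : Set S)) S₁ hS₁N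
      (Q := (R : Subgroup S) ⊓ Subgroup.normalizer (D : Set S)) inf_le_right
      (R.isPGroup'.to_le inf_le_left)
    have h1 : ((y • R : Sylow p S) : Subgroup S) ⊓ T₁ ≤ D := by
      rintro z ⟨hzR, hzT⟩
      refine ⟨?_, hzT⟩
      apply hy
      refine ⟨y⁻¹ * z * y, ⟨?_, ?_⟩, ?_⟩
      · have hzR' : z ∈ MulAut.conj y • (R : Subgroup S) := hzR
        exact (mem_conj_smul y z _).1 hzR'
      · exact Subgroup.mul_mem _ (Subgroup.mul_mem _ (Subgroup.inv_mem _ hyN) (hT₁N hzT)) hyN
      · simp only [MulEquiv.coe_toMonoidHom, MulAut.conj_apply]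
        group
    have h2 : Nat.card D ≤ Nat.card ↥(((y • R : Sylow p S) : Subgroup S) ⊓ T₁) :=
      hmin (y • R, T₁)
    have h3 : ((y • R : Sylow p S) : Subgroup S) ⊓ T₁ = D := Subgroup.eq_of_le_of_card_ge h1 h2
    intro d hd
    have hd' : y * d * y⁻¹ ∈ D := (Subgroup.mem_normalizer_iff.1 hyN d).1 hd
    rw [← h3] at hd'
    have h4 : y * d * y⁻¹ ∈ MulAut.conj y • (R : Subgroup S) := hd'.1
    rw [mem_conj_smul] at h4
    have h5 : y⁻¹ * (y * d * y⁻¹) * y = d := by group
    rw [h5] at h4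
    exact h4
  have hKn : (⨅ R : Sylow p S, (R : Subgroup S)).Normal := by
    constructor
    intro k hk g
    rw [Subgroup.mem_iInf] at hk ⊢
    intro R
    have h1 : k ∈ MulAut.conj g⁻¹ • (R : Subgroup S) := hk (g⁻¹ • R)
    rw [mem_conj_smul, inv_inv] at h1
    exact h1
  have hDK : D ≤ ⨅ R : Sylow p S, (R : Subgroup S) := le_iInf hall
  rcases hKn.eq_bot_or_eq_top with h1 | h1
  · rw [h1] at hDK
    exact le_bot_iff.1 hDK
  · exfalso
    apply sylow_ne_top hS S₁
    rw [eq_top_iff, ← h1]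
    exact iInf_le _ S₁


/-- Let S be a finite non-abelian simple group and p a prime dividing its order. If S has fewer than p² Sylow p-subgroups, then its Sylow p-subgroups have order p. -/
theorem result {S : Type*} [Group S] [Finite S]
    [IsSimpleGroup S] (hS : ¬ IsMulCommutative S) (p : ℕ) [Fact p.Prime] (hp : p ∣ Nat.card S)
    (hn : Nat.card (Sylow p S) < p ^ 2) (P : Sylow p S) : Nat.card P = p := by
  obtain ⟨P₁, Q₁, hPQ⟩ := brodkey hS hp
    (fun P a ha b hb => sylow_comm hS hp hn P a b ha hb)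
  obtain ⟨g, hg⟩ := MulAction.exists_smul_eq S P₁ P
  have hPQ' : (P : Subgroup S) ⊓ ((g • Q₁ : Sylow p S) : Subgroup S) = ⊥ := by
    rw [← hg, eq_bot_iff]
    rintro z ⟨h1, h2⟩
    have h1' : z ∈ MulAut.conj g • (P₁ : Subgroup S) := h1
    have h2' : z ∈ MulAut.conj g • (Q₁ : Subgroup S) := h2
    rw [mem_conj_smul] at h1' h2'
    have h3 : g⁻¹ * z * g ∈ (P₁ : Subgroup S) ⊓ Q₁ := ⟨h1', h2'⟩
    rw [hPQ, Subgroup.mem_bot] at h3
    rw [Subgroup.mem_bot]
    calc z = g * (g⁻¹ * z * g) * g⁻¹ := by group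
      _ = 1 := by rw [h3]; group
  have hstab : MulAction.stabilizer ↥(P : Subgroup S) (g • Q₁) = ⊥ := by
    rw [eq_bot_iff]
    intro x hx
    rw [MulAction.mem_stabilizer_iff, Subgroup.smul_def, Sylow.smul_eq_iff_mem_normalizer] at hx
    have h1 : (x : S) ∈ (P : Subgroup S) ⊓ ((g • Q₁ : Sylow p S) : Subgroup S) := by
      rw [← P.isPGroup'.inf_normalizer_sylow (g • Q₁)]
      exact ⟨x.2, hx⟩
    rw [hPQ', Subgroup.mem_bot] at h1
    rw [Subgroup.mem_bot]
    exact Subtype.ext h1
  have hidx := MulAction.index_stabilizer ↥(P : Subgroup S) (g • Q₁)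
  rw [hstab, Subgroup.index_bot] at hidx
  have hlt : Nat.card ↥(P : Subgroup S) < p ^ 2 := by
    rw [hidx]
    exact lt_of_le_of_lt (Set.ncard_le_card _) hn
  obtain ⟨k, hk⟩ := IsPGroup.iff_card.mp P.isPGroup'
  show Nat.card ↥(P : Subgroup S) = p
  rw [hk] at hlt ⊢
  have hk2 : k < 2 := (Nat.pow_lt_pow_iff_right (Fact.out : p.Prime).one_lt).1 hlt
  have hk0 : k ≠ 0 := by
    rintro rfl
    rw [pow_zero] at hk
    exact P.ne_bot_of_dvd_card hp (Subgroup.card_eq_one.1 hk)
  have hk1 : k = 1 := by omega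
  rw [hk1, pow_one]

end Cfsg.Agent.S4343
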