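import Mathlib
import Cfsg.Statements.S4344
import Cfsg.Agent.Lib.Helper7_Basic

set_option autoImplicit false
open scoped Pointwise
open Cfsg
open Cfsg.Agent.Lib.Helper7_Basic

namespace Cfsg.Agent.S4344

/-- Let S be a finite non-abelian simple group, M a maximal subgroup of S and C a cyclic normal subgroup of M. If a Sylow p-subgroup P of S (for a prime p dividing the order of S) is contained in C, then the number of Sylow p-subgroups of S equals the index of M. -/
theorem result {S : Type*} [Group S] [Finite S]
    [IsSimpleGroup S] (hS : ¬ IsMulCommutative S) (p : ℕ) [Fact p.Prime] (hp : p ∣ Nat.card S)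
    (M : Subgroup S) (hM : IsCoatom M) (C : Subgroup S) (hCM : C ≤ M) (hCn : (C.subgroupOf M).Normal)
    (hC : IsCyclic C) (P : Sylow p S) (hP : (P : Subgroup S) ≤ C) :
    Nat.card (Sylow p S) = M.index := by
  rw [Sylow.card_eq_index_normalizer P]
  congr 1
  show Subgroup.normalizer ((P : Subgroup S) : Set S) = M
  -- M ≤ N(P)
  have hMN : M ≤ Subgroup.normalizer ((P : Subgroup S) : Set S) := by
    intro m hm
    refine Sylow.smul_eq_iff_mem_normalizer.mp ?_
    apply Sylow.ext
    rw [Sylow.coe_subgroup_smul]
    apply cyclic_subgroup_unique C hC _ _ _ hP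
    · -- cardinalities
      exact Nat.card_congr (Subgroup.equivSMul (MulAut.conj m) (P : Subgroup S)).symm.toEquiv
    · -- conj m • P ≤ C
      intro x hx
      rw [mem_conj_smul] at hx
      have hxC := hP hx
      -- C normal in M
      have h1 : (⟨m⁻¹ * x * m, hCM hxC⟩ : M) ∈ C.subgroupOf M := Subgroup.mem_subgroupOf.mpr hxC
      have h2 := hCn.conj_mem _ h1 ⟨m, hm⟩
      rw [Subgroup.mem_subgroupOf] at h2
      simp only [Subgroup.coe_mul, Subgroup.coe_inv] at h2
      have : m * (m⁻¹ * x * m) * m⁻¹ = x := by group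
      rwa [this] at h2
  -- N(P) ≠ ⊤
  have hNtop : Subgroup.normalizer ((P : Subgroup S) : Set S) ≠ ⊤ := by
    intro htop
    have hnormal : (P : Subgroup S).Normal := Subgroup.normalizer_eq_top_iff.mp htop
    rcases hnormal.eq_bot_or_eq_top with h | h
    · exact P.ne_bot_of_dvd_card hp h
    · -- S = P ≤ C cyclic, so S commutative
      apply hS
      have hCtop : C = ⊤ := top_le_iff.mp (h ▸ hP)
      refine ⟨⟨fun a b => ?_⟩⟩
      have ha : a ∈ C := hCtop ▸ Subgroup.mem_top a
      have hb : b ∈ C := hCtop ▸ Subgroup.mem_top b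
      letI := hC.commGroup
      have := mul_comm (⟨a, ha⟩ : C) ⟨b, hb⟩
      exact congrArg Subtype.val this
  rcases hM.le_iff.mp hMN with h | h
  · exact absurd h hNtop
  · exact h

end Cfsg.Agent.S4344
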