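import Mathlib
import Cfsg.Statements.S4345
import Cfsg.Agent.S4203
import Cfsg.Agent.S4244
import Cfsg.Agent.Lib.Helper1_MinNormal
import Cfsg.Agent.Lib.Helper7_SylowCount

set_option autoImplicit false
open Cfsg

namespace Cfsg.Agent.S4345

open Subgroup
open Cfsg.Agent.Lib.Helper7_SylowCount

theorem aux (p ℓ : ℕ) [Fact p.Prime] (hℓ : ℓ.Prime) (n : ℕ) :
    ∀ (G : Type*) [Group G] [Finite G], Group.IsSolvable G → Nat.card G = n →
      ℓ ^ (Nat.card (Sylow p G)).factorization ℓ ≡ 1 [MOD p] := by
  induction n using Nat.strong_induction_on with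
  | _ n ih =>
    intro G _ _ hG hn
    by_cases htriv : Nat.card G = 1
    · haveI : Subsingleton G := (Nat.card_eq_one_iff_unique.mp htriv).1
      have h1 : Nat.card (Sylow p G) = 1 := by
        obtain ⟨P⟩ : Nonempty (Sylow p G) := inferInstance
        have := Sylow.card_dvd_index P
        have h2 : (P : Subgroup G).index = 1 := by
          rw [Subgroup.index_eq_one]
          exact Subsingleton.elim _ _
        rw [h2] at this
        exact Nat.eq_one_of_dvd_one this
      rw [h1]
      simp [Nat.ModEq]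
    haveI : Nontrivial G := by
      rw [← Finite.one_lt_card_iff_nontrivial]
      have : 0 < Nat.card G := Nat.card_pos
      omega
    obtain ⟨K, hKn, hKne, hKmin⟩ := Cfsg.Agent.S4203.exists_minimal_normal (G := G)
    haveI := hKn
    obtain ⟨q, d, hq, hd, hKcard⟩ :=
      Cfsg.Agent.Lib.Helper1_MinNormal.exists_card_eq_prime_pow K hKne hKmin
    obtain ⟨P⟩ : Nonempty (Sylow p G) := inferInstance
    have hmul := card_sylow_eq_mul p K P
    have h1 : Nat.card (Sylow p ↥((P : Subgroup G) ⊔ K)) ∣ q ^ d := by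
      have e1 := Sylow.card_dvd_index (P.subtype (le_sup_left : (P : Subgroup G) ≤ (P : Subgroup G) ⊔ K))
      have e2 : ((P.subtype (le_sup_left : (P : Subgroup G) ≤ (P : Subgroup G) ⊔ K) :
          Sylow p ↥((P : Subgroup G) ⊔ K)) : Subgroup ↥((P : Subgroup G) ⊔ K)).index =
          (P : Subgroup G).relIndex ((P : Subgroup G) ⊔ K) := rfl
      rw [e2] at e1
      have e3 := Cfsg.Agent.S4244.second_iso_abs K (P : Subgroup G)
      rw [sup_comm] at e3
      rw [e3] at e1
      have e4 : (K ⊓ (P : Subgroup G)).relIndex K ∣ Nat.card K := relIndex_dvd_card _ _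
      rw [hKcard] at e4
      exact e1.trans e4
    obtain ⟨t, ht, hnt⟩ := (Nat.dvd_prime_pow hq).mp h1
    have hmod : q ^ t ≡ 1 [MOD p] := by
      rw [← hnt]; exact card_sylow_modEq_one p _
    have hlt : Nat.card (G ⧸ K) < n := by
      rw [← hn, ← Subgroup.index_eq_card]
      have h1 := Subgroup.card_mul_index K
      have h2 : 1 < Nat.card K := by
        rw [Subgroup.one_lt_card_iff_ne_bot]; exact hKne
      have h3 : 0 < K.index := Nat.pos_of_ne_zero Subgroup.index_ne_zero_of_finite
      nlinarith
    have ihq := ih (Nat.card (G ⧸ K)) hlt (G ⧸ K) inferInstance rfl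
    have hne1 : Nat.card (Sylow p (G ⧸ K)) ≠ 0 := Nat.card_pos.ne'
    have hne2 : q ^ t ≠ 0 := pow_ne_zero _ hq.ne_zero
    rw [hmul, hnt, Nat.factorization_mul hne1 hne2, Finsupp.add_apply, pow_add]
    have h2 : ℓ ^ ((q ^ t).factorization ℓ) ≡ 1 [MOD p] := by
      rw [Nat.factorization_pow, hq.factorization]
      by_cases hlq : ℓ = q
      · subst hlq
        simpa using hmod
      · have : (t • Finsupp.single q 1) ℓ = 0 := by
          simp [Finsupp.single_apply, Ne.symm hlq]
        rw [this, pow_zero]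
    have := ihq.mul h2
    simpa using this

/-- Let G be a finite solvable group and p, ℓ primes. Then the largest power of ℓ dividing the number of Sylow p-subgroups of G is congruent to 1 modulo p. -/
theorem result {G : Type*} [Group G] [Finite G]
    (hG : Group.IsSolvable G) (p ℓ : ℕ) [Fact p.Prime] (hℓ : ℓ.Prime) :
    ℓ ^ (Nat.card (Sylow p G)).factorization ℓ ≡ 1 [MOD p] :=
  aux p ℓ hℓ _ G hG rfl

end Cfsg.Agent.S4345
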