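import Mathlib
import Cfsg.Statements.S4348
import Cfsg.Agent.Lib.Helper7_PCore

set_option autoImplicit false
open Cfsg

namespace Cfsg.Agent.S4348

open Cfsg.Agent.Lib.Helper7_PCore

theorem result {G : Type*} [Group G] [Finite G]
    (p : ℕ) [Fact p.Prime] (P : Sylow p G)
    [hn : ((Cfsg.pCore p G).subgroupOf (P : Subgroup G)).Normal]
    (hc : IsCyclic ((P : Subgroup G) ⧸ (Cfsg.pCore p G).subgroupOf (P : Subgroup G))) :
    ∃ x : G, (∃ k : ℕ, orderOf x = p ^ k) ∧ ∃! Q : Sylow p G, x ∈ Q := by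
  obtain ⟨g, hg⟩ := hc.exists_generator
  obtain ⟨x, rfl⟩ := QuotientGroup.mk_surjective g
  refine ⟨(x : G), ?_, P, x.2, ?_⟩
  · obtain ⟨k, hk⟩ := (IsPGroup.iff_orderOf.mp P.isPGroup') x
    exact ⟨k, by rw [← hk, Subgroup.orderOf_coe]⟩
  · intro Q hxQ
    have hle : (P : Subgroup G) ≤ Q := by
      intro y hy
      obtain ⟨k, hk⟩ := Subgroup.mem_zpowers_iff.mp (hg (QuotientGroup.mk ⟨y, hy⟩))
      rw [← QuotientGroup.mk_zpow, QuotientGroup.eq] at hk
      rw [Subgroup.mem_subgroupOf] at hk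
      have h1 : ((x ^ k)⁻¹ * ⟨y, hy⟩ : (P : Subgroup G)).1 ∈ (Q : Subgroup G) := pCore_le_sylow Q hk
      have h2 : ((x : G) ^ k)⁻¹ * y ∈ (Q : Subgroup G) := by simpa using h1
      have h3 : (x : G) ^ k ∈ (Q : Subgroup G) := Subgroup.zpow_mem _ hxQ k
      have := Subgroup.mul_mem _ h3 h2
      simpa using this
    have := P.is_maximal' Q.isPGroup' hle
    exact Sylow.ext this
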