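import Cfsg.Statements.S4370
import Mathlib
import Cfsg.Agent.S0016
import Cfsg.Agent.Lib.Helper7_ClassSize
import Cfsg.Agent.Lib.Helper7_Basic
import Cfsg.Agent.Lib.Lead_SZ

set_option autoImplicit false
open Cfsg

namespace Cfsg.Agent.S4370

section quat
open QuaternionGroup

variable {n : ℕ} [NeZero n]

theorem two_mul_eq_zero_iff (j : ZMod (2 * n)) : 2 * j = 0 ↔ j = 0 ∨ j = (n : ZMod (2 * n)) := by
  constructor
  · intro h
    have hj : ((j.val : ℕ) : ZMod (2 * n)) = j := ZMod.natCast_zmod_val j
    have h2 : ((2 * j.val : ℕ) : ZMod (2 * n)) = 0 := by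
      push_cast; rw [hj]; exact h
    rw [ZMod.natCast_eq_zero_iff] at h2
    have hn : 0 < n := NeZero.pos n
    have h3 : n ∣ j.val := by
      obtain ⟨c, hc⟩ := h2
      exact ⟨c, by nlinarith⟩
    have hlt : j.val < 2 * n := ZMod.val_lt j
    obtain ⟨c, hc⟩ := h3
    have hc2 : c < 2 := by
      by_contra hcc
      have : 2 ≤ c := by omega
      nlinarith
    interval_cases c
    · left; rw [← hj, hc]; simp
    · right; rw [← hj, hc]; simp
  · rintro (h | h)
    · rw [h]; simp
    · rw [h]
      have : ((2 * n : ℕ) : ZMod (2 * n)) = 0 := ZMod.natCast_self _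
      push_cast at this
      exact this

theorem a_mem_zpowers (j : ZMod (2 * n)) : (a j : QuaternionGroup n) ∈ Subgroup.zpowers (a 1) := by
  have hj : ((j.val : ℕ) : ZMod (2 * n)) = j := ZMod.natCast_zmod_val j
  rw [← hj, ← a_one_pow]
  exact Subgroup.pow_mem _ (Subgroup.mem_zpowers _) _

theorem centralizer_a_le (i : ZMod (2 * n)) (hi : 2 * i ≠ 0) :
    Subgroup.centralizer ({a i} : Set (QuaternionGroup n)) ≤ Subgroup.zpowers (a 1) := by
  intro g hg
  rw [Subgroup.mem_centralizer_iff] at hg
  have hc := hg (a i) rfl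
  rcases g with j | j
  · exact a_mem_zpowers j
  · exfalso
    simp only [a_mul_xa, xa_mul_a, xa.injEq] at hc
    apply hi
    have : j - i = j + i := hc
    linear_combination (-1 : ZMod (2 * n)) * this

theorem centralizer_xa_le (i : ZMod (2 * n)) :
    Subgroup.centralizer ({xa i} : Set (QuaternionGroup n)) ≤ Subgroup.zpowers (xa i) := by
  intro g hg
  rw [Subgroup.mem_centralizer_iff] at hg
  have hc := hg (xa i) rfl
  have h2n : ((n : ZMod (2 * n)) + n) = 0 := by
    have : ((2 * n : ℕ) : ZMod (2 * n)) = 0 := ZMod.natCast_self _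
    push_cast at this
    rw [← two_mul]; exact this
  have han : (a (n : ZMod (2 * n)) : QuaternionGroup n) ∈ Subgroup.zpowers (xa i) := by
    rw [← xa_sq i]
    exact Subgroup.pow_mem _ (Subgroup.mem_zpowers _) _
  rcases g with j | j
  · simp only [a_mul_xa, xa_mul_a, xa.injEq] at hc
    have h2 : 2 * j = 0 := by
      have : i + j = i - j := hc
      linear_combination this
    rcases (two_mul_eq_zero_iff j).mp h2 with h | h
    · rw [h, a_zero]; exact Subgroup.one_mem _
    · rw [h]; exact han
  · simp only [xa_mul_xa, a.injEq] at hc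
    have h2 : 2 * (j - i) = 0 := by
      have : (n : ZMod (2 * n)) + j - i = n + i - j := hc
      linear_combination this
    rcases (two_mul_eq_zero_iff (j - i)).mp h2 with h | h
    · have : j = i := sub_eq_zero.mp h
      rw [this]; exact Subgroup.mem_zpowers _
    · have hj : j = i + n := by rw [← h]; ring
      have : (xa j : QuaternionGroup n) = a n * xa i := by
        rw [a_mul_xa, hj]
        congr 1
        have : (n : ZMod (2 * n)) = -n := by
          rw [eq_neg_iff_add_eq_zero]; exact h2n
        rw [sub_eq_add_neg, ← this]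
      rw [this]
      exact Subgroup.mul_mem _ han (Subgroup.mem_zpowers _)

end quat

theorem eq_of_card_prime_of_le_cyclic {G : Type*} [Group G] [Finite G] (C H K : Subgroup G)
    [IsCyclic C] (p : ℕ) [hp : Fact p.Prime] (hH : H ≤ C) (hK : K ≤ C) (hHc : Nat.card H = p)
    (hKc : Nat.card K = p) : H = K := by
  classical
  haveI : Fintype C := Fintype.ofFinite C
  have hS := IsCyclic.card_pow_eq_one_le (α := C) (n := p) hp.out.pos
  set K' := K.subgroupOf C with hK'
  have hK'card : Nat.card K' = p := by
    rw [hK', Cfsg.Agent.Lib.Lead_SZ.card_subgroupOf_of_le hK, hKc]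
  haveI : Fintype K' := Fintype.ofFinite K'
  have hsub : (K' : Set C).toFinset ⊆ Finset.univ.filter (fun a : C => a ^ p = 1) := by
    intro c hc
    rw [Set.mem_toFinset] at hc
    rw [Finset.mem_filter]
    refine ⟨Finset.mem_univ _, ?_⟩
    have : (⟨c, hc⟩ : K') ^ p = 1 := by rw [← hK'card]; exact pow_card_eq_one'
    exact congrArg Subtype.val this
  have hcard : (K' : Set C).toFinset.card = p := by
    rw [Set.toFinset_card, ← Nat.card_eq_fintype_card]; exact hK'card
  have heq : (K' : Set C).toFinset = Finset.univ.filter (fun a : C => a ^ p = 1) :=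
    Finset.eq_of_subset_of_card_le hsub (by rw [hcard]; exact hS)
  refine Cfsg.Agent.Lib.Lead_SZ.eq_of_le_of_card_eq ?_ (by rw [hHc, hKc])
  intro h hh
  have hhp : h ^ p = 1 := by
    have : (⟨h, hh⟩ : H) ^ p = 1 := by rw [← hHc]; exact pow_card_eq_one'
    exact congrArg Subtype.val this
  have hmem : (⟨h, hH hh⟩ : C) ∈ Finset.univ.filter (fun a : C => a ^ p = 1) := by
    rw [Finset.mem_filter]
    exact ⟨Finset.mem_univ _, Subtype.ext hhp⟩
  rw [← heq, Set.mem_toFinset] at hmem
  exact hmem

theorem backward {G : Type*} [Group G] [Finite G] (k m : ℕ) (hk : 1 ≤ k) (hm : Odd m)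
    (e : G ≃* QuaternionGroup (2 ^ k) × Multiplicative (ZMod m)) :
    ∀ x : G, x ∉ Subgroup.center G → IsCyclic (Subgroup.centralizer ({x} : Set G)) := by
  intro x hx
  haveI : NeZero (2 ^ k) := ⟨pow_ne_zero _ (by norm_num)⟩
  haveI : NeZero m := ⟨fun h => by rw [h] at hm; exact absurd hm (by decide)⟩
  set Q := QuaternionGroup (2 ^ k) with hQ
  set Z := Multiplicative (ZMod m) with hZ
  set q := (e x).1 with hq
  -- the centralizer of q in Q is cyclic
  have hCq : IsCyclic (Subgroup.centralizer ({q} : Set Q)) := by
    rcases hqq : q with i | i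
    · by_cases h2 : 2 * i = 0
      · exfalso
        apply hx
        rw [Subgroup.mem_center_iff]
        intro g
        apply e.injective
        rw [map_mul, map_mul]
        apply Prod.ext
        · show (e g).1 * (e x).1 = (e x).1 * (e g).1
          rw [← hq, hqq]
          rcases (e g).1 with j | j
          · simp only [QuaternionGroup.a_mul_a, add_comm]
          · simp only [QuaternionGroup.a_mul_xa, QuaternionGroup.xa_mul_a]
            congr 1
            linear_combination h2
        · exact mul_comm _ _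
      · exact isCyclic_of_injective (Subgroup.inclusion (centralizer_a_le i h2))
          (Subgroup.inclusion_injective _)
    · exact isCyclic_of_injective (Subgroup.inclusion (centralizer_xa_le i))
        (Subgroup.inclusion_injective _)
  have hcop : (Nat.card (Subgroup.centralizer ({q} : Set Q))).Coprime (Nat.card Z) := by
    have h1 : Nat.card (Subgroup.centralizer ({q} : Set Q)) ∣ 2 ^ (k + 2) := by
      have := Subgroup.card_subgroup_dvd_card (Subgroup.centralizer ({q} : Set Q))
      rw [Nat.card_eq_fintype_card (α := Q), QuaternionGroup.card] at this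
      have e4 : 4 * 2 ^ k = 2 ^ (k + 2) := by ring
      rwa [e4] at this
    have h2 : Nat.card Z = m := by
      rw [Nat.card_eq_fintype_card, Fintype.card_multiplicative, ZMod.card]
    rw [h2]
    exact Nat.Coprime.coprime_dvd_left h1 (Nat.Coprime.pow_left _ (Nat.coprime_two_left.mpr hm))
  haveI : IsCyclic Z := inferInstance
  haveI := hCq
  have hH : IsCyclic (Subgroup.centralizer ({q} : Set Q) × Z) :=
    Group.isCyclic_prod_iff.mpr ⟨hCq, inferInstance, hcop⟩
  -- embed the centralizer of x
  let φ : Subgroup.centralizer ({x} : Set G) →* (Subgroup.centralizer ({q} : Set Q) × Z) :=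
    { toFun := fun c => (⟨(e c.1).1, by
          rw [Subgroup.mem_centralizer_iff]
          intro h hh
          rw [Set.mem_singleton_iff] at hh
          rw [hh]
          have hc := c.2
          rw [Subgroup.mem_centralizer_iff] at hc
          have := hc x rfl
          have := congrArg (fun t => (e t).1) this
          simpa [map_mul] using this⟩, (e c.1).2)
      map_one' := by
        apply Prod.ext
        · apply Subtype.ext; simp
        · simp
      map_mul' := by
        intro c d
        apply Prod.ext
        · apply Subtype.ext; simp [map_mul]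
        · simp [map_mul] }
  have hφ : Function.Injective φ := by
    intro c d hcd
    have h1 : (e c.1).1 = (e d.1).1 := congrArg (fun t => (t.1 : Q)) hcd
    have h2 : (e c.1).2 = (e d.1).2 := congrArg (fun t => t.2) hcd
    apply Subtype.ext
    apply e.injective
    exact Prod.ext h1 h2
  exact isCyclic_of_injective φ hφ

theorem forward {G : Type*} [Group G] [Finite G] (hG : Group.IsNilpotent G)
    (hna : ¬ IsMulCommutative G)
    (h : ∀ x : G, x ∉ Subgroup.center G → IsCyclic (Subgroup.centralizer ({x} : Set G))) :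
    ∃ (k m : ℕ), 1 ≤ k ∧ Odd m ∧
      Nonempty (G ≃* QuaternionGroup (2 ^ k) × Multiplicative (ZMod m)) := by
  classical
  have hn := ((Group.isNilpotent_of_finite_tfae (G := G)).out 0 3).mp hG
  have hex : ∃ g : G, g ∉ Subgroup.center G := by
    by_contra hall
    push Not at hall
    apply hna
    refine ⟨⟨fun a b => ?_⟩⟩
    exact ((Subgroup.mem_center_iff.mp (hall b)) a)
  obtain ⟨g₀, hg₀⟩ := hex
  obtain ⟨x, -, hxZ, p, k, hp, hxk⟩ := Cfsg.Agent.Lib.Helper7_ClassSize.exists_noncentral_part hg₀
  haveI := Fact.mk hp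
  obtain ⟨P, hxP⟩ := Cfsg.Agent.Lib.Helper7_Basic.pElement_mem_sylow (p := p) x ⟨k, hxk⟩
  have hPn : (P : Subgroup G).Normal := hn p inferInstance P
  haveI := hPn
  have hCx := h x hxZ
  set Cx := Subgroup.centralizer ({x} : Set G) with hCxdef
  -- a subgroup containing a Sylow subgroup for each prime is everything
  have htop : ∀ S : Subgroup G, (∀ (q : ℕ) [Fact q.Prime], ∃ Q : Sylow q G, (Q : Subgroup G) ≤ S) →
      S = ⊤ := by
    intro S hS
    apply Subgroup.eq_top_of_card_eq
    apply Nat.dvd_antisymm (Subgroup.card_subgroup_dvd_card S)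
    rw [Nat.dvd_iff_prime_pow_dvd_dvd]
    intro q j hq hqj
    haveI := Fact.mk hq
    obtain ⟨Q, hQS⟩ := hS q
    exact (Q.pow_dvd_card_of_pow_dvd_card hqj).trans (Subgroup.card_dvd_of_le hQS)
  -- elements of P commute with elements of Sylow q-subgroups, q ≠ p
  have hcomm : ∀ (q : ℕ) [Fact q.Prime], q ≠ p → ∀ Q : Sylow q G, ∀ y ∈ (P : Subgroup G),
      ∀ z ∈ (Q : Subgroup G), y * z = z * y := by
    intro q _ hqp Q y hy z hz
    have hd : Disjoint (P : Subgroup G) (Q : Subgroup G) :=
      IsPGroup.disjoint_of_ne p q hqp.symm _ _ P.isPGroup' Q.isPGroup'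
    exact Subgroup.commute_of_normal_of_disjoint _ _ hPn (hn q inferInstance Q) hd y z hy hz
  -- a subgroup containing P and commuting... : centralizer of an element of P commuting with P
  have hcent : ∀ y ∈ (P : Subgroup G), (∀ w ∈ (P : Subgroup G), w * y = y * w) →
      y ∈ Subgroup.center G := by
    intro y hy hyP
    have : Subgroup.centralizer ({y} : Set G) = ⊤ := by
      apply htop
      intro q hq
      by_cases hqp : q = p
      · subst hqp
        refine ⟨P, ?_⟩
        intro w hw
        rw [Subgroup.mem_centralizer_iff]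
        intro u hu
        rw [Set.mem_singleton_iff] at hu
        rw [hu]; exact (hyP w hw).symm
      · obtain ⟨Q⟩ : Nonempty (Sylow q G) := inferInstance
        refine ⟨Q, ?_⟩
        intro w hw
        rw [Subgroup.mem_centralizer_iff]
        intro u hu
        rw [Set.mem_singleton_iff] at hu
        rw [hu]; exact hcomm q hqp Q y hy w hw
    rw [Subgroup.mem_center_iff]
    intro g
    have hg : g ∈ Subgroup.centralizer ({y} : Set G) := by rw [this]; trivial
    rw [Subgroup.mem_centralizer_iff] at hg
    exact (hg y rfl).symm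
  -- P is not cyclic
  have hPnc : ¬ IsCyclic (P : Subgroup G) := by
    intro hcyc
    apply hxZ
    apply hcent x hxP
    intro w hw
    have : (⟨w, hw⟩ : (P : Subgroup G)) * ⟨x, hxP⟩ = ⟨x, hxP⟩ * ⟨w, hw⟩ := by
      letI := hcyc.commGroup
      exact mul_comm _ _
    exact congrArg Subtype.val this
  -- a central subgroup of order p inside P
  have hZ1 : ∃ z : G, z ∈ (P : Subgroup G) ∧ z ∈ Subgroup.center G ∧ orderOf z = p := by
    haveI : Nontrivial (P : Subgroup G) := by
      refine ⟨⟨x, hxP⟩, 1, ?_⟩
      intro hx1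
      apply hxZ
      have : x = 1 := congrArg Subtype.val hx1
      rw [this]; exact Subgroup.one_mem _
    haveI : Nontrivial (Subgroup.center (P : Subgroup G)) := IsPGroup.center_nontrivial P.2
    have hZp : IsPGroup p (Subgroup.center (P : Subgroup G)) := P.2.to_subgroup _
    obtain ⟨j, hj⟩ := IsPGroup.iff_card.mp hZp
    have hj0 : j ≠ 0 := by
      intro h0
      rw [h0, pow_zero] at hj
      have := (Nat.card_eq_one_iff_unique.mp hj).1
      exact not_subsingleton _ this
    have hdvd : p ∣ Nat.card (Subgroup.center (P : Subgroup G)) := by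
      rw [hj]; exact dvd_pow_self p hj0
    obtain ⟨z, hz⟩ := exists_prime_orderOf_dvd_card' p hdvd
    refine ⟨((z : (P : Subgroup G)) : G), (z : (P : Subgroup G)).2, ?_, ?_⟩
    · apply hcent _ (z : (P : Subgroup G)).2
      intro w hw
      have := (Subgroup.mem_center_iff.mp z.2) ⟨w, hw⟩
      exact congrArg Subtype.val this
    · rw [Subgroup.orderOf_coe, Subgroup.orderOf_coe]; exact hz
  obtain ⟨z, hzP, hzZ, hzo⟩ := hZ1
  set Z₁ := Subgroup.zpowers z with hZ₁
  have hZ₁card : Nat.card Z₁ = p := by rw [hZ₁, Nat.card_zpowers, hzo]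
  have hZ₁Z : Z₁ ≤ Subgroup.center G := by
    rw [hZ₁, Subgroup.zpowers_le]; exact hzZ
  -- every subgroup of order p of P is Z₁
  have huniqG : ∀ H : Subgroup G, H ≤ (P : Subgroup G) → Nat.card H = p → H = Z₁ := by
    intro H hHP hHc
    by_cases hHZ : H ≤ Subgroup.center G
    · haveI := hCx
      refine eq_of_card_prime_of_le_cyclic Cx H Z₁ p ?_ ?_ hHc hZ₁card
      · intro u hu
        rw [hCxdef, Subgroup.mem_centralizer_iff]
        intro v hv
        rw [Set.mem_singleton_iff] at hv
        rw [hv]; exact ((Subgroup.mem_center_iff.mp (hHZ hu)) x)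
      · intro u hu
        rw [hCxdef, Subgroup.mem_centralizer_iff]
        intro v hv
        rw [Set.mem_singleton_iff] at hv
        rw [hv]; exact ((Subgroup.mem_center_iff.mp (hZ₁Z hu)) x)
    · obtain ⟨u, huH, huZ⟩ := SetLike.not_le_iff_exists.mp hHZ
      haveI := h u huZ
      refine eq_of_card_prime_of_le_cyclic (Subgroup.centralizer ({u} : Set G)) H Z₁ p ?_ ?_ hHc hZ₁card
      · intro w hw
        rw [Subgroup.mem_centralizer_iff]
        intro v hv
        rw [Set.mem_singleton_iff] at hv
        rw [hv]
        haveI : IsCyclic H := isCyclic_of_prime_card hHc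
        have : (⟨u, huH⟩ : H) * ⟨w, hw⟩ = ⟨w, hw⟩ * ⟨u, huH⟩ := by
          letI := (inferInstance : IsCyclic H).commGroup
          exact mul_comm _ _
        exact congrArg Subtype.val this
      · intro w hw
        rw [Subgroup.mem_centralizer_iff]
        intro v hv
        rw [Set.mem_singleton_iff] at hv
        rw [hv]; exact ((Subgroup.mem_center_iff.mp (hZ₁Z hw)) u)
  have huniq : ∀ H K : Subgroup (P : Subgroup G), Nat.card H = p → Nat.card K = p → H = K := by
    intro H K hH hK
    apply Subgroup.map_injective (P : Subgroup G).subtype_injective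
    rw [huniqG (H.map (P : Subgroup G).subtype) (Subgroup.map_subtype_le _)
      (by rw [Subgroup.card_map_of_injective (P : Subgroup G).subtype_injective]; exact hH),
      huniqG (K.map (P : Subgroup G).subtype) (Subgroup.map_subtype_le _)
      (by rw [Subgroup.card_map_of_injective (P : Subgroup G).subtype_injective]; exact hK)]
  rcases Cfsg.Agent.S0016.result p P.2 huniq with hc | ⟨hp2, n, ⟨eP⟩⟩
  · exact absurd hc hPnc
  subst hp2
  have hn1 : 1 ≤ n := by
    by_contra hn0
    have : n = 0 := by omega
    subst this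
    apply hPnc
    have : IsCyclic (QuaternionGroup (2 ^ 0)) := QuaternionGroup.quaternionGroup_one_isCyclic
    exact (eP.isCyclic).mpr this
  -- complement
  obtain ⟨C, hC⟩ := Subgroup.exists_right_complement'_of_coprime (N := (P : Subgroup G))
    P.card_coprime_index
  have hCcard : Nat.card C = (P : Subgroup G).index := by
    have h1 := hC.card_mul_card
    have h2 := Subgroup.card_mul_index (P : Subgroup G)
    rw [← h2] at h1
    exact Nat.eq_of_mul_eq_mul_left Nat.card_pos h1
  have hCodd : Odd (Nat.card C) := by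
    rw [hCcard]
    have hcop := P.card_coprime_index
    have hPcard : Nat.card (P : Subgroup G) = 4 * 2 ^ n := by
      haveI : NeZero (2 ^ n) := ⟨pow_ne_zero _ (by norm_num)⟩
      rw [Nat.card_congr eP.toEquiv, Nat.card_eq_fintype_card, QuaternionGroup.card]
    rw [hPcard] at hcop
    have : Nat.Coprime 2 (P : Subgroup G).index :=
      Nat.Coprime.coprime_dvd_left (Dvd.intro (2 * 2 ^ n) (by ring)) hcop
    exact Nat.coprime_two_left.mp this
  -- C is central
  have hCZ : C ≤ Subgroup.center G := by
    intro c hc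
    apply Cfsg.Agent.Lib.Helper7_ClassSize.mem_center_of_parts c
    intro w hw ⟨r, j, hr, hwr⟩
    haveI := Fact.mk hr
    have hwC : w ∈ C := (Subgroup.zpowers_le.mpr hc) hw
    have hwo : orderOf w ∣ Nat.card C := by
      have := orderOf_dvd_natCard (⟨w, hwC⟩ : C)
      rwa [Subgroup.orderOf_mk] at this
    by_cases hj : j = 0
    · rw [hj, pow_zero, orderOf_eq_one_iff] at hwr
      rw [hwr]; exact Subgroup.one_mem _
    have hr2 : r ≠ 2 := by
      intro hr2
      rw [hwr, hr2] at hwo
      have : 2 ∣ Nat.card C := (dvd_pow_self 2 hj).trans hwo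
      exact (Nat.not_even_iff_odd.mpr hCodd) (even_iff_two_dvd.mpr this)
    obtain ⟨Q, hwQ⟩ := Cfsg.Agent.Lib.Helper7_Basic.pElement_mem_sylow (p := r) w ⟨j, hwr⟩
    -- Q ≤ Cx cyclic, so Q abelian; Q commutes with other Sylows
    have hQCx : (Q : Subgroup G) ≤ Cx := by
      intro u hu
      rw [hCxdef, Subgroup.mem_centralizer_iff]
      intro v hv
      rw [Set.mem_singleton_iff] at hv
      rw [hv]; exact hcomm r hr2 Q x hxP u hu
    have : Subgroup.centralizer ({w} : Set G) = ⊤ := by
      apply htop
      intro q hq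
      by_cases hqr : q = r
      · subst hqr
        refine ⟨Q, ?_⟩
        intro u hu
        rw [Subgroup.mem_centralizer_iff]
        intro v hv
        rw [Set.mem_singleton_iff] at hv
        rw [hv]
        have : (⟨w, hQCx hwQ⟩ : Cx) * ⟨u, hQCx hu⟩ = ⟨u, hQCx hu⟩ * ⟨w, hQCx hwQ⟩ := by
          letI := hCx.commGroup
          exact mul_comm _ _
        exact congrArg Subtype.val this
      · obtain ⟨Q'⟩ : Nonempty (Sylow q G) := inferInstance
        refine ⟨Q', ?_⟩
        intro u hu
        rw [Subgroup.mem_centralizer_iff]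
        intro v hv
        rw [Set.mem_singleton_iff] at hv
        rw [hv]
        have hd : Disjoint (Q : Subgroup G) (Q' : Subgroup G) :=
          IsPGroup.disjoint_of_ne r q (Ne.symm hqr) _ _ Q.isPGroup' Q'.isPGroup'
        exact Subgroup.commute_of_normal_of_disjoint _ _ (hn r inferInstance Q)
          (hn q inferInstance Q') hd w u hwQ hu
    rw [Subgroup.mem_center_iff]
    intro g
    have hg : g ∈ Subgroup.centralizer ({w} : Set G) := by rw [this]; trivial
    rw [Subgroup.mem_centralizer_iff] at hg
    exact (hg w rfl).symm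
  -- C is cyclic
  have hCcyc : IsCyclic C := by
    haveI := hCx
    have hCCx : C ≤ Cx := by
      intro c hc
      rw [hCxdef, Subgroup.mem_centralizer_iff]
      intro v hv
      rw [Set.mem_singleton_iff] at hv
      rw [hv]; exact ((Subgroup.mem_center_iff.mp (hCZ hc)) x)
    exact Subgroup.isCyclic_of_le hCCx
  -- the isomorphism
  let f : ↥(P : Subgroup G) × ↥C →* G := MonoidHom.noncommCoprod (P : Subgroup G).subtype C.subtype
    (fun a c => ((Subgroup.mem_center_iff.mp (hCZ c.2)) a.1))
  have hf : Function.Bijective f := by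
    show Function.Bijective (fun x : ↥(P : Subgroup G) × ↥C => (x.1 : G) * (x.2 : G))
    exact hC
  let e1 : ↥(P : Subgroup G) × ↥C ≃* G := MulEquiv.ofBijective f hf
  refine ⟨n, Nat.card C, hn1, hCodd, ⟨e1.symm.trans (MulEquiv.prodCongr eP (zmodCyclicMulEquiv hCcyc).symm)⟩⟩

theorem result {G : Type*} [Group G] [Finite G] (hG : Group.IsNilpotent G)
    (hna : ¬ IsMulCommutative G) :
    (∀ x : G, x ∉ Subgroup.center G → IsCyclic (Subgroup.centralizer ({x} : Set G))) ↔
      ∃ (k m : ℕ), 1 ≤ k ∧ Odd m ∧ Nonempty (G ≃* QuaternionGroup (2 ^ k) × Multiplicative (ZMod m)) := by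
  constructor
  · exact forward hG hna
  · rintro ⟨k, m, hk, hm, ⟨e⟩⟩
    exact backward k m hk hm e

end Cfsg.Agent.S4370
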