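import Mathlib
import Cfsg.Statements.S4381
import Cfsg.Agent.Lib.Helper7_SemiAct
import Cfsg.Agent.Lib.Helper7_SemiAct2
import Cfsg.Agent.Lib.Helper7_Maschke
import Cfsg.Agent.Lib.Helper7_PFrattini

set_option autoImplicit false
open Pointwise
open Cfsg

namespace Cfsg.Agent.S4381

open Subgroup
open Cfsg.Agent.Lib.Helper7_SemiAct
open Cfsg.Agent.Lib.Helper7_SemiAct2
open Cfsg.Agent.Lib.Helper7_Maschke
open Cfsg.Agent.Lib.Helper7_PFrattini

variable {A G : Type*} [Group A] [Group G] [MulDistribMulAction A G]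

/-- maximal invariant subgroups -/
def MaxInv (A : Type*) {G : Type*} [Group A] [Group G] [MulDistribMulAction A G]
    (M : Subgroup G) : Prop :=
  M ≠ ⊤ ∧ (∀ a : A, ∀ x ∈ M, a • x ∈ M) ∧
    ∀ L : Subgroup G, M < L → (∀ a : A, ∀ x ∈ L, a • x ∈ L) → L = ⊤

/-- under the irreducibility hypothesis the only maximal invariant subgroup is the Frattini
subgroup -/
theorem eq_frattini [Finite G]
    (h : ∀ L : Subgroup G, frattini G < L → (∀ a : A, ∀ x ∈ L, a • x ∈ L) → L = ⊤)
    (M : Subgroup G) (hM : MaxInv A M) : M = frattini G := by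
  have hΦinv : Inv A (frattini G) := inv_of_characteristic _
  have h1 : M ⊔ frattini G = M := by
    by_contra hne
    have hlt : M < M ⊔ frattini G := lt_of_le_of_ne le_sup_left (Ne.symm hne)
    have := hM.2.2 _ hlt (inv_sup M _ hM.2.1 hΦinv)
    exact hM.1 (frattini_nongenerating this)
  have h2 : frattini G ≤ M := by rw [← h1]; exact le_sup_right
  by_contra hne
  exact hM.1 (h M (lt_of_le_of_ne h2 (Ne.symm hne)) hM.2.1)

/-- the irreducibility statement for `p`-groups with a unique maximal invariant subgroup -/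
theorem irred_of_unique [Finite A] [Finite G] (hcop : (Nat.card A).Coprime (Nat.card G))
    (p : ℕ) [Fact p.Prime] (hP : IsPGroup p G)
    (hall : ∀ M N : Subgroup G, MaxInv A M → MaxInv A N →
        ∃ c : G, (∀ a : A, a • c = c) ∧ N = MulAut.conj c • M)
    (L : Subgroup G) (hL : frattini G < L) (hLinv : ∀ a : A, ∀ x ∈ L, a • x ∈ L) : L = ⊤ := by
  by_contra hLne
  have hΦinv : Inv A (frattini G) := inv_of_characteristic _
  obtain ⟨M, hLM, hMne, hMinv, hMmax⟩ := exists_max_inv (A := A) L hLinv hLne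
  have hMmaxinv : MaxInv A M := ⟨hMne, hMinv, hMmax⟩
  have hΦM : frattini G ≤ M := le_trans hL.le hLM
  -- M is normal
  haveI hnil : Group.IsNilpotent G := hP.isNilpotent
  have hMn : M.Normal := by
    rw [← Subgroup.normalizer_eq_top_iff]
    have hlt : M < normalizer (M : Set G) :=
      Group.normalizerCondition_of_isNilpotent M (lt_top_iff_ne_top.mpr hMne)
    exact hMmax _ hlt (inv_normalizer M hMinv)
  have huniq : ∀ N : Subgroup G, MaxInv A N → N = M := by
    intro N hN
    obtain ⟨c, -, hc⟩ := hall M N hMmaxinv hN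
    rw [hc]
    exact Subgroup.Normal.conj_smul_eq_self c M
  -- the quotient
  letI act := quotAction (frattini G) hΦinv
  have hsm : ∀ (a : A) (g : G), a • (g : G ⧸ frattini G) = ((a • g : G) : G ⧸ frattini G) :=
    fun a g => rfl
  have hcommV : ∀ x y : G ⧸ frattini G, x * y = y * x := by
    intro x y
    induction x using QuotientGroup.induction_on with
    | H x =>
    induction y using QuotientGroup.induction_on with
    | H y =>
    rw [← QuotientGroup.mk_mul, ← QuotientGroup.mk_mul, QuotientGroup.eq]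
    have := comm_mem_frattini hP y⁻¹ x⁻¹
    have e : (x * y)⁻¹ * (y * x) = y⁻¹ * x⁻¹ * y⁻¹⁻¹ * x⁻¹⁻¹ := by group
    rw [e]; exact this
  have hexpV : ∀ x : G ⧸ frattini G, x ^ p = 1 := by
    intro x
    induction x using QuotientGroup.induction_on with
    | H x =>
    rw [← QuotientGroup.mk_pow, QuotientGroup.eq_one_iff]
    exact pow_mem_frattini hP x
  have hcopV : (Nat.card A).Coprime (Nat.card (G ⧸ frattini G)) :=
    Nat.Coprime.coprime_dvd_right (Subgroup.card_quotient_dvd_card _) hcop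
  set U : Subgroup (G ⧸ frattini G) := M.map (QuotientGroup.mk' (frattini G)) with hU
  have hUinv : Inv A U := by
    rintro a _ ⟨g, hg, rfl⟩
    exact ⟨a • g, hMinv a g hg, rfl⟩
  obtain ⟨W, hW1, hW2⟩ := exists_complement_of_elementary hcommV p hexpV U
  obtain ⟨W', hW'inv, hW'1, hW'2⟩ := exists_invariant_complement hcommV hcopV U W hUinv hW1 hW2
  set L' : Subgroup G := W'.comap (QuotientGroup.mk' (frattini G)) with hL'
  have hL'inv : ∀ a : A, ∀ x ∈ L', a • x ∈ L' := by
    intro a x hx
    have hx' : (x : G ⧸ frattini G) ∈ W' := hx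
    show ((a • x : G) : G ⧸ frattini G) ∈ W'
    rw [← hsm]
    exact hW'inv a _ hx'
  have hmemU : ∀ g : G, (g : G ⧸ frattini G) ∈ U → g ∈ M := by
    rintro g ⟨m, hm, hmg⟩
    have : m⁻¹ * g ∈ frattini G := QuotientGroup.eq.mp hmg
    have := M.mul_mem hm (hΦM this)
    rwa [mul_inv_cancel_left] at this
  by_cases hL'top : L' = ⊤
  · have hW'top : W' = ⊤ := by
      rw [eq_top_iff]
      intro v _
      induction v using QuotientGroup.induction_on with
      | H g =>
      have : g ∈ L' := by rw [hL'top]; trivial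
      exact this
    rw [hW'top, inf_top_eq] at hW'1
    have hML : M ≤ frattini G := by
      intro g hg
      have : (g : G ⧸ frattini G) ∈ U := ⟨g, hg, rfl⟩
      rw [hW'1, mem_bot, QuotientGroup.eq_one_iff] at this
      exact this
    exact absurd (lt_of_lt_of_le hL (le_trans hLM hML)) (lt_irrefl _)
  · obtain ⟨N, hL'N, hNne, hNinv, hNmax⟩ := exists_max_inv (A := A) L' hL'inv hL'top
    have hNM : N = M := huniq N ⟨hNne, hNinv, hNmax⟩
    rw [hNM] at hL'N
    have hW'U : W' ≤ U := by
      intro v hv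
      induction v using QuotientGroup.induction_on with
      | H g =>
      have : g ∈ L' := hv
      exact ⟨g, hL'N this, rfl⟩
    have hW'bot : W' = ⊥ := by rw [← hW'1]; exact (inf_eq_right.mpr hW'U).symm
    rw [hW'bot, sup_bot_eq] at hW'2
    apply hMne
    rw [eq_top_iff]
    intro g _
    apply hmemU
    rw [hW'2]; trivial

theorem result {A G : Type*} [Group A] [Finite A]
    [Group G] [Finite G] [MulDistribMulAction A G] (hcop : (Nat.card A).Coprime (Nat.card G)) (hsol : Group.IsSolvable A ∨ Group.IsSolvable G) :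
    ((∀ M N : Subgroup G, (M ≠ ⊤ ∧ (∀ a : A, ∀ x ∈ M, a • x ∈ M) ∧ ∀ L : Subgroup G, M < L → (∀ a : A, ∀ x ∈ L, a • x ∈ L) → L = ⊤) → (N ≠ ⊤ ∧ (∀ a : A, ∀ x ∈ N, a • x ∈ N) ∧ ∀ L : Subgroup G, N < L → (∀ a : A, ∀ x ∈ L, a • x ∈ L) → L = ⊤) →
        ∃ c : G, (∀ a : A, a • c = c) ∧ N = MulAut.conj c • M) ↔
      ((∃ p : ℕ, p.Prime ∧ IsPGroup p G) ∧ ∀ L : Subgroup G, frattini G < L → (∀ a : A, ∀ x ∈ L, a • x ∈ L) → L = ⊤)) ∧
    (((∃ p : ℕ, p.Prime ∧ IsPGroup p G) ∧ ∀ L : Subgroup G, frattini G < L → (∀ a : A, ∀ x ∈ L, a • x ∈ L) → L = ⊤) →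
      ∀ M : Subgroup G, (M ≠ ⊤ ∧ (∀ a : A, ∀ x ∈ M, a • x ∈ M) ∧ ∀ L : Subgroup G, M < L → (∀ a : A, ∀ x ∈ L, a • x ∈ L) → L = ⊤) ↔ (M = frattini G ∧ M ≠ ⊤)) := by
  have hΦinv : Inv A (frattini G) := inv_of_characteristic _
  refine ⟨⟨?_, ?_⟩, ?_⟩
  · -- forward
    intro hall
    have hall' : ∀ M N : Subgroup G, MaxInv A M → MaxInv A N →
        ∃ c : G, (∀ a : A, a • c = c) ∧ N = MulAut.conj c • M := hall
    -- G is a p-group
    have hpg : ∃ p : ℕ, p.Prime ∧ IsPGroup p G := by
      by_contra hcon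
      push Not at hcon
      have hcard1 : Nat.card G ≠ 1 := by
        intro h1
        apply hcon 2 Nat.prime_two
        apply IsPGroup.of_card (n := 0)
        rw [h1, pow_zero]
      -- for each prime, a maximal invariant subgroup containing a Sylow
      have hex : ∀ p : ℕ, p.Prime → ∃ M : Subgroup G, MaxInv A M ∧
          p ^ (Nat.card G).factorization p ∣ Nat.card M := by
        intro p hp
        haveI : Fact p.Prime := ⟨hp⟩
        obtain ⟨P, hPinv⟩ := exists_invariant_sylow (A := A) hcop hsol p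
        have hPne : (P : Subgroup G) ≠ ⊤ := by
          intro htop
          apply hcon p hp
          have := P.isPGroup'
          rw [htop] at this
          exact IsPGroup.of_surjective this (Subgroup.topEquiv (G := G)).toMonoidHom
            (Subgroup.topEquiv (G := G)).surjective
        obtain ⟨M, hPM, hMne, hMinv, hMmax⟩ := exists_max_inv (A := A) _ hPinv hPne
        refine ⟨M, ⟨hMne, hMinv, hMmax⟩, ?_⟩
        rw [← P.card_eq_multiplicity]
        exact Subgroup.card_dvd_of_le hPM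
      obtain ⟨p₀, hp₀, -⟩ := Nat.exists_prime_and_dvd hcard1
      obtain ⟨M₀, hM₀, -⟩ := hex p₀ hp₀
      have hdvd : Nat.card G ∣ Nat.card M₀ := by
        rw [← Nat.factorization_le_iff_dvd Nat.card_pos.ne' Nat.card_pos.ne']
        intro p
        by_cases hp : p.Prime
        · obtain ⟨M, hM, hd⟩ := hex p hp
          obtain ⟨c, -, hc⟩ := hall' M₀ M hM₀ hM
          have hcard : Nat.card M = Nat.card M₀ := by
            rw [hc]
            exact (Nat.card_congr (Subgroup.equivSMul (MulAut.conj c) M₀).toEquiv).symm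
          rw [hcard] at hd
          exact (hp.pow_dvd_iff_le_factorization Nat.card_pos.ne').mp hd
        · rw [Nat.factorization_eq_zero_of_not_prime _ hp]
          exact Nat.zero_le _
      have hle : Nat.card M₀ ≤ Nat.card G := Subgroup.card_le_card_group M₀
      have heq : Nat.card M₀ = Nat.card G := le_antisymm hle (Nat.le_of_dvd Nat.card_pos hdvd)
      exact hM₀.1 ((Subgroup.card_eq_iff_eq_top M₀).mp heq)
    refine ⟨hpg, ?_⟩
    obtain ⟨p, hp, hP⟩ := hpg
    haveI : Fact p.Prime := ⟨hp⟩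
    exact irred_of_unique hcop p hP hall'
  · -- backward
    rintro ⟨-, hirr⟩ M N hM hN
    have e1 := eq_frattini hirr M hM
    have e2 := eq_frattini hirr N hN
    refine ⟨1, fun a => smul_one a, ?_⟩
    rw [e1, e2, map_one, one_smul]
  · rintro ⟨-, hirr⟩ M
    constructor
    · intro hM
      exact ⟨eq_frattini hirr M hM, hM.1⟩
    · rintro ⟨rfl, hne⟩
      exact ⟨hne, hΦinv, fun L hL hLinv => hirr L hL hLinv⟩

end Cfsg.Agent.S4381
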