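import Mathlib
import Cfsg.Statements.S4387
import Cfsg.Agent.Lib.Helper7_Conj

set_option autoImplicit false
open Pointwise
open Cfsg

namespace Cfsg.Agent.S4387

open Cfsg.Agent.Lib.Helper7_Conj

theorem result {G : Type*} [Group G] [Finite G] [Nontrivial G]
    (h : ∀ M N : Subgroup G, IsCoatom M → IsCoatom N → ∃ g : G, N = MulAut.conj g • M) :
    IsCyclic G ∧ IsPrimePow (Nat.card G) := by
  -- a maximal subgroup
  obtain ⟨M, hM, -⟩ := exists_coatom_ge (⊥ : Subgroup G) bot_ne_top
  obtain ⟨x, hx⟩ := exists_not_mem_conj M hM.1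
  have hgen : Subgroup.zpowers x = ⊤ := by
    by_contra hne
    obtain ⟨N, hN, hle⟩ := exists_coatom_ge _ hne
    obtain ⟨g, hg⟩ := h M N hM hN
    apply hx g
    rw [← hg]
    exact hle (Subgroup.mem_zpowers x)
  have hcyc : IsCyclic G := by
    rw [isCyclic_iff_exists_zpowers_eq_top]
    exact ⟨x, hgen⟩
  refine ⟨hcyc, ?_⟩
  -- commutativity
  have hcomm : ∀ a b : G, a * b = b * a := by
    intro a b
    have ha : a ∈ Subgroup.zpowers x := by rw [hgen]; trivial
    have hb : b ∈ Subgroup.zpowers x := by rw [hgen]; trivial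
    obtain ⟨i, rfl⟩ := Subgroup.mem_zpowers_iff.mp ha
    obtain ⟨j, rfl⟩ := Subgroup.mem_zpowers_iff.mp hb
    exact ((Commute.refl x).zpow_zpow i j).eq
  -- every proper subgroup lies in M
  have hle : ∀ H : Subgroup G, H ≠ ⊤ → H ≤ M := by
    intro H hH
    obtain ⟨N, hN, hle⟩ := exists_coatom_ge H hH
    obtain ⟨g, hg⟩ := h M N hM hN
    intro y hy
    have hy' : y ∈ MulAut.conj g • M := by rw [← hg]; exact hle hy
    rw [Subgroup.mem_pointwise_smul_iff_inv_smul_mem, MulAut.smul_def, MulAut.conj_inv_apply] at hy'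
    have : g⁻¹ * y * g = y := by
      rw [mul_assoc, hcomm y g, ← mul_assoc, inv_mul_cancel, one_mul]
    rwa [this] at hy'
  by_contra hnp
  -- every Sylow subgroup is proper, hence in M
  have hsyl : ∀ (p : ℕ) [Fact p.Prime] (P : Sylow p G), (P : Subgroup G) ≤ M := by
    intro p _ P
    apply hle
    intro htop
    apply hnp
    have hc : Nat.card (P : Subgroup G) = Nat.card G := by
      rw [htop]; exact Subgroup.card_top
    obtain ⟨k, hk⟩ := IsPGroup.iff_card.mp P.isPGroup'
    rw [hc] at hk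
    rw [hk]
    have hk0 : k ≠ 0 := by
      rintro rfl
      rw [pow_zero] at hk
      have : 1 < Nat.card G := Finite.one_lt_card
      omega
    exact (Fact.out : p.Prime).isPrimePow.pow hk0
  have hdvd : Nat.card G ∣ Nat.card M := by
    have hG0 : Nat.card G ≠ 0 := Nat.card_pos.ne'
    have hM0 : Nat.card M ≠ 0 := Nat.card_pos.ne'
    rw [← Nat.factorization_prime_le_iff_dvd hG0 hM0]
    intro p hp
    haveI : Fact p.Prime := ⟨hp⟩
    obtain ⟨P⟩ : Nonempty (Sylow p G) := inferInstance
    have h1 : Nat.card (P : Subgroup G) ∣ Nat.card M := Subgroup.card_dvd_of_le (hsyl p P)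
    rw [Sylow.card_eq_multiplicity] at h1
    exact (hp.pow_dvd_iff_le_factorization hM0).mp h1
  have hMtop : M = ⊤ := by
    apply Subgroup.eq_top_of_le_card
    exact Nat.le_of_dvd Nat.card_pos hdvd
  exact hM.1 hMtop

end Cfsg.Agent.S4387
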