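import Cfsg.Statements.S4399
import Mathlib
import Cfsg.Agent.Lib.Helper5_MaxClassTwo
import Cfsg.Agent.S0115

set_option autoImplicit false
open Cfsg

namespace Cfsg.Agent.S4399

/-- Let S be a finite 2-group whose commutator quotient S/[S,S] is a Klein four-group (order 4 and exponent 2). Then S itself has order 4, or S is dihedral of order at least 8, semidihedral of order at least 16 (order 2^(k+4) with an element a of order 2^(k+3) and an involution b with b a b⁻¹ = a^(2^(k+2)−1)), or generalized quaternion of order at least 8. -/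
theorem result {S : Type*} [Group S] [Finite S] (h2 : IsPGroup 2 S) (hab : Nat.card (Abelianization S) = 4)
    (hexp : ∀ x : Abelianization S, x ^ 2 = 1) :
    Nat.card S = 4 ∨
    ((∃ k : ℕ, Nonempty (S ≃* DihedralGroup (2 ^ (k + 2)))) ∨
      (∃ k : ℕ, Nat.card S = 2 ^ (k + 4) ∧ ∃ a b : S, orderOf a = 2 ^ (k + 3) ∧ orderOf b = 2 ∧ b * a * b⁻¹ = a ^ (2 ^ (k + 2) - 1)) ∨
      (∃ k : ℕ, Nonempty (S ≃* QuaternionGroup (2 ^ (k + 1))))) := by
  haveI : Fact (Nat.Prime 2) := ⟨Nat.prime_two⟩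
  obtain ⟨n, hn⟩ := h2.exists_card_eq
  have h4 : 4 ∣ Nat.card S := by
    rw [← hab]
    exact Subgroup.card_quotient_dvd_card (commutator S)
  have hn2 : 2 ≤ n := by
    by_contra hlt
    push_neg at hlt
    rw [hn] at h4
    have := Nat.le_of_dvd (by positivity) h4
    have h5 : 2 ^ n ≤ 2 ^ 1 := Nat.pow_le_pow_right (by norm_num) (by omega)
    omega
  by_cases hn2' : n = 2
  · left; rw [hn, hn2']; norm_num
  right
  have hn3 : 3 ≤ n := by omega
  have hK : IsKleinFour (S ⧸ commutator S) := by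
    refine ⟨hab, ?_⟩
    have h1 : Monoid.exponent (S ⧸ commutator S) ∣ 2 :=
      Monoid.exponent_dvd_of_forall_pow_eq_one hexp
    rcases (Nat.dvd_prime Nat.prime_two).mp h1 with h2' | h2'
    · exfalso
      have := Monoid.exp_eq_one_iff.mp h2'
      have h3 : Nat.card (S ⧸ commutator S) = 1 := Nat.card_eq_one_iff_unique.mpr ⟨this, ⟨1⟩⟩
      have h5 : Nat.card (S ⧸ commutator S) = 4 := hab
      omega
    · exact h2'
  have hc := (Cfsg.Agent.S0115.result n hn3 hn).mpr hK
  obtain ⟨k, rfl⟩ : ∃ k, n = k + 3 := ⟨n - 3, by omega⟩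
  rcases Cfsg.Agent.Lib.Helper5_MaxClassTwo.maxclass_classify (k + 3) hn3 hn hc with
    h | ⟨h4', a, b, ha, hb, hrel⟩ | h
  · left
    have : k + 3 - 1 = k + 2 := by omega
    rw [this] at h
    exact ⟨k, h⟩
  · right; left
    obtain ⟨j, rfl⟩ : ∃ j, k = j + 1 := ⟨k - 1, by omega⟩
    have e1 : j + 1 + 3 - 1 = j + 3 := by omega
    have e2 : j + 1 + 3 - 2 = j + 2 := by omega
    rw [e1] at ha
    rw [e2] at hrel
    exact ⟨j, by rw [hn], a, b, ha, hb, hrel⟩
  · right; right
    have : k + 3 - 2 = k + 1 := by omega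
    rw [this] at h
    exact ⟨k, h⟩

end Cfsg.Agent.S4399
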