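import Mathlib
import Cfsg.Statements.S4406

set_option autoImplicit false

open Cfsg

namespace Cfsg.Agent.S4406

/-- the ambient group -/
abbrev P4 := ↥(alternatingGroup (Fin 4)) × ↥(alternatingGroup (Fin 4))

set_option maxRecDepth 100000 in
theorem F1 : ∀ u : alternatingGroup (Fin 4), u^4 = 1 → u^2 = 1 := by decide

set_option maxRecDepth 100000 in
theorem F2 : ∀ u : alternatingGroup (Fin 4), u^9 = 1 → u^3 = 1 := by decide

set_option maxRecDepth 1000000 in
set_option maxHeartbeats 4000000 in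
set_option synthInstance.maxHeartbeats 4000000 in
set_option synthInstance.maxSize 10000 in
theorem F3 : ∀ s u u' : alternatingGroup (Fin 4), s ≠ 1 → s^3 = 1 → u ≠ 1 → u^2 = 1 → u' ≠ 1 →
    u'^2 = 1 → u ≠ u' →
    (s*u*s⁻¹ = u' ∧ s*u'*s⁻¹ = u*u' ∧ s⁻¹*u*s = u*u' ∧ s⁻¹*u'*s = u) ∨
    (s*u*s⁻¹ = u*u' ∧ s*u'*s⁻¹ = u ∧ s⁻¹*u*s = u' ∧ s⁻¹*u'*s = u*u') := by decide

theorem card_A4 : Nat.card (alternatingGroup (Fin 4)) = 12 := by
  rw [Nat.card_eq_fintype_card]; decide

theorem fact144 : (144 : ℕ).factorization 3 = 2 := by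
  rw [show (144 : ℕ) = 3 ^ 2 * 16 by norm_num, Nat.factorization_mul (by norm_num) (by norm_num),
    Nat.Prime.factorization_pow Nat.prime_three]
  simp [Nat.factorization_eq_zero_of_not_dvd (show ¬ 3 ∣ 16 by norm_num)]

/-- normalizer membership from conjugation into `B` and `r^3 = 1` -/
theorem mem_normalizer_of_cube {P : Type*} [Group P] (B : Subgroup P) (r : P) (hr : r ^ 3 = 1)
    (h : ∀ x ∈ B, r * x * r⁻¹ ∈ B) : r ∈ Subgroup.normalizer (B : Set P) := by
  rw [Subgroup.mem_normalizer_iff]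
  intro x
  refine ⟨h x, fun hx => ?_⟩
  have h2 := h _ (h _ hx)
  have hr' : r * r * r = 1 := by simpa [pow_succ] using hr
  have e : r * (r * (r * x * r⁻¹) * r⁻¹) * r⁻¹ = (r * r * r) * x * (r * r * r)⁻¹ := by group
  rw [e, hr'] at h2
  simpa using h2

/-- packaging the subgroup `R` -/
theorem exists_R (Q B : Subgroup (↥(alternatingGroup (Fin 4)) × ↥(alternatingGroup (Fin 4))))
    (r : ↥(alternatingGroup (Fin 4)) × ↥(alternatingGroup (Fin 4)))
    (hrQ : r ∈ Q) (hr3 : r ^ 3 = 1) (hr1 : r.1 ≠ 1) (hr2 : r.2 ≠ 1)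
    (hN : r ∈ Subgroup.normalizer (B : Set _)) :
    ∃ R : Subgroup (↥(alternatingGroup (Fin 4)) × ↥(alternatingGroup (Fin 4))), R ≤ Q ∧ Nat.card ↥R = 3 ∧
        R ≠ Q ⊓ Subgroup.prod ⊤ ⊥ ∧ R ≠ Q ⊓ Subgroup.prod ⊥ ⊤ ∧ R ≤ Subgroup.normalizer (B : Set _) := by
  have hrne : r ≠ 1 := by
    intro h; rw [h] at hr1; exact hr1 rfl
  refine ⟨Subgroup.zpowers r, (Subgroup.zpowers_le).mpr hrQ, ?_, ?_, ?_, (Subgroup.zpowers_le).mpr hN⟩
  · rw [Nat.card_zpowers]
    haveI : Fact (Nat.Prime 3) := ⟨Nat.prime_three⟩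
    exact orderOf_eq_prime hr3 hrne
  · intro h
    have : r ∈ Q ⊓ Subgroup.prod ⊤ ⊥ := h ▸ Subgroup.mem_zpowers r
    rw [Subgroup.mem_inf, Subgroup.mem_prod] at this
    exact hr2 (Subgroup.mem_bot.mp this.2.2)
  · intro h
    have : r ∈ Q ⊓ Subgroup.prod ⊥ ⊤ := h ▸ Subgroup.mem_zpowers r
    rw [Subgroup.mem_inf, Subgroup.mem_prod] at this
    exact hr1 (Subgroup.mem_bot.mp this.2.1)

/-- a subgroup of order 9 of `A₄ × A₄` meets both factors -/
theorem meets (Q : Subgroup (↥(alternatingGroup (Fin 4)) × ↥(alternatingGroup (Fin 4))))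
    (hQ : Nat.card Q = 9) :
    (∃ s : alternatingGroup (Fin 4), s ≠ 1 ∧ ((s, 1) : P4) ∈ Q) ∧
    (∃ t : alternatingGroup (Fin 4), t ≠ 1 ∧ ((1, t) : P4) ∈ Q) := by
  constructor
  · by_contra hcon
    push Not at hcon
    let ψ : Q →* alternatingGroup (Fin 4) := (MonoidHom.snd _ _).comp Q.subtype
    have hinj : Function.Injective ψ := by
      rw [injective_iff_map_eq_one]
      intro q hq
      have hq2 : (q : P4).2 = 1 := hq
      by_contra hne
      have h1 : (q : P4).1 ≠ 1 := by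
        intro h1
        apply hne
        apply Subtype.ext
        exact Prod.ext h1 hq2
      have hmem : (((q : P4).1, 1) : P4) ∈ Q := by
        have : (((q : P4).1, 1) : ↥(alternatingGroup (Fin 4)) × ↥(alternatingGroup (Fin 4))) = (q : P4) :=
          Prod.ext rfl hq2.symm
        rw [this]; exact q.2
      exact hcon _ h1 hmem
    have := Subgroup.card_dvd_of_injective ψ hinj
    rw [hQ, card_A4] at this
    omega
  · by_contra hcon
    push Not at hcon
    let ψ : Q →* alternatingGroup (Fin 4) := (MonoidHom.fst _ _).comp Q.subtype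
    have hinj : Function.Injective ψ := by
      rw [injective_iff_map_eq_one]
      intro q hq
      have hq2 : (q : P4).1 = 1 := hq
      by_contra hne
      have h1 : (q : P4).2 ≠ 1 := by
        intro h1
        apply hne
        apply Subtype.ext
        exact Prod.ext hq2 h1
      have hmem : ((1, (q : P4).2) : P4) ∈ Q := by
        have : ((1, (q : P4).2) : ↥(alternatingGroup (Fin 4)) × ↥(alternatingGroup (Fin 4))) = (q : P4) :=
          Prod.ext hq2.symm rfl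
        rw [this]; exact q.2
      exact hcon _ h1 hmem
    have := Subgroup.card_dvd_of_injective ψ hinj
    rw [hQ, card_A4] at this
    omega

/-- In the direct product P = A₄ × A₄, let X be the Sylow 2-subgroup, X₁ and X₂ its intersections with the two direct factors, Q a Sylow 3-subgroup and Q₁, Q₂ its intersections with the two factors. Then every subgroup B of X of order 4 either meets X₁ or X₂ nontrivially, or is normalized by one of the two subgroups of Q of order 3 other than Q₁ and Q₂. -/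
theorem result
    (X : Sylow 2 (↥(alternatingGroup (Fin 4)) × ↥(alternatingGroup (Fin 4))))
    (Q : Sylow 3 (↥(alternatingGroup (Fin 4)) × ↥(alternatingGroup (Fin 4))))
    (B : Subgroup (↥(alternatingGroup (Fin 4)) × ↥(alternatingGroup (Fin 4)))) (hBX : B ≤ (X : Subgroup _)) (hB4 : Nat.card ↥B = 4) :
    B ⊓ ((X : Subgroup _) ⊓ Subgroup.prod ⊤ ⊥) ≠ ⊥ ∨ B ⊓ ((X : Subgroup _) ⊓ Subgroup.prod ⊥ ⊤) ≠ ⊥ ∨
      ∃ R : Subgroup (↥(alternatingGroup (Fin 4)) × ↥(alternatingGroup (Fin 4))), R ≤ (Q : Subgroup _) ∧ Nat.card ↥R = 3 ∧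
        R ≠ (Q : Subgroup _) ⊓ Subgroup.prod ⊤ ⊥ ∧ R ≠ (Q : Subgroup _) ⊓ Subgroup.prod ⊥ ⊤ ∧ R ≤ Subgroup.normalizer (B : Set _) := by
  classical
  by_contra hcon
  push Not at hcon
  obtain ⟨hX1, hX2, hR⟩ := hcon
  -- coordinates of nontrivial elements of B are nontrivial
  have hB2 : ∀ b ∈ B, b.2 = 1 → b = 1 := by
    intro b hb h2
    have : b ∈ B ⊓ ((X : Subgroup P4) ⊓ Subgroup.prod ⊤ ⊥) := by
      refine Subgroup.mem_inf.mpr ⟨hb, Subgroup.mem_inf.mpr ⟨hBX hb, ?_⟩⟩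
      rw [Subgroup.mem_prod]
      exact ⟨Subgroup.mem_top _, Subgroup.mem_bot.mpr h2⟩
    rw [hX1] at this
    exact Subgroup.mem_bot.mp this
  have hB1 : ∀ b ∈ B, b.1 = 1 → b = 1 := by
    intro b hb h2
    have : b ∈ B ⊓ ((X : Subgroup P4) ⊓ Subgroup.prod ⊥ ⊤) := by
      refine Subgroup.mem_inf.mpr ⟨hb, Subgroup.mem_inf.mpr ⟨hBX hb, ?_⟩⟩
      rw [Subgroup.mem_prod]
      exact ⟨Subgroup.mem_bot.mpr h2, Subgroup.mem_top _⟩
    rw [hX2] at this
    exact Subgroup.mem_bot.mp this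
  -- squares
  have hsq : ∀ b ∈ B, b.1 ^ 2 = 1 ∧ b.2 ^ 2 = 1 := by
    intro b hb
    have h4 : (⟨b, hb⟩ : B) ^ 4 = 1 := by
      have := pow_card_eq_one' (G := B) (x := ⟨b, hb⟩)
      rwa [hB4] at this
    have h4' : b ^ 4 = 1 := by
      have := congrArg (Subtype.val) h4
      simpa using this
    have e1 : b.1 ^ 4 = 1 := by
      have := congrArg Prod.fst h4'; simpa using this
    have e2 : b.2 ^ 4 = 1 := by
      have := congrArg Prod.snd h4'; simpa using this
    exact ⟨F1 _ e1, F1 _ e2⟩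
  have hsq' : ∀ b ∈ B, b * b = 1 := by
    intro b hb
    obtain ⟨h1, h2⟩ := hsq b hb
    apply Prod.ext
    · simpa [pow_two] using h1
    · simpa [pow_two] using h2
  -- Q has order 9
  have hQ9 : Nat.card (Q : Subgroup P4) = 9 := by
    rw [Q.card_eq_multiplicity, Nat.card_prod, card_A4]
    norm_num [fact144]
  obtain ⟨⟨s, hs1, hsQ⟩, ⟨t, ht1, htQ⟩⟩ := meets (Q : Subgroup P4) hQ9
  have hpow9 : ∀ q ∈ (Q : Subgroup P4), q ^ 9 = 1 := by
    intro q hq
    have h9 : (⟨q, hq⟩ : (Q : Subgroup P4)) ^ 9 = 1 := by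
      have := pow_card_eq_one' (G := (Q : Subgroup P4)) (x := ⟨q, hq⟩)
      rwa [hQ9] at this
    have := congrArg (Subtype.val) h9
    simpa using this
  have hs3 : s ^ 3 = 1 := by
    have := congrArg Prod.fst (hpow9 _ hsQ)
    exact F2 _ (by simpa using this)
  have ht3 : t ^ 3 = 1 := by
    have := congrArg Prod.snd (hpow9 _ htQ)
    exact F2 _ (by simpa using this)
  -- two generators of B
  have hBne : B ≠ ⊥ := by
    intro h
    rw [h, Subgroup.card_bot] at hB4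
    omega
  obtain ⟨⟨b1, hb1⟩, hb1ne⟩ := (Subgroup.ne_bot_iff_exists_ne_one).mp hBne
  have hb1ne' : (b1 : P4) ≠ 1 := fun h => hb1ne (Subtype.ext h)
  obtain ⟨b2, hb2, hb2n⟩ : ∃ b2, b2 ∈ (B : Set _) ∧ b2 ∉ ({1, (b1 : P4)} : Set _) := by
    apply Set.exists_mem_notMem_of_ncard_lt_ncard _ (Set.toFinite _)
    have h1 : ({1, (b1 : P4)} : Set (↥(alternatingGroup (Fin 4)) × ↥(alternatingGroup (Fin 4)))).ncard ≤ 2 := by
      refine (Set.ncard_insert_le _ _).trans ?_
      rw [Set.ncard_singleton]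
    have h2 : (B : Set (↥(alternatingGroup (Fin 4)) × ↥(alternatingGroup (Fin 4)))).ncard = 4 :=
      (Nat.card_coe_set_eq _).symm.trans hB4
    omega
  simp only [Set.mem_insert_iff, Set.mem_singleton_iff, not_or] at hb2n
  obtain ⟨hb2ne, hb21⟩ := hb2n
  replace hb2 : b2 ∈ B := hb2
  replace hb1ne : b1 ≠ 1 := hb1ne'
  -- coordinates
  have hu1 : b1.1 ≠ 1 := fun h => hb1ne (hB1 b1 hb1 h)
  have hv1 : b1.2 ≠ 1 := fun h => hb1ne (hB2 b1 hb1 h)
  have hu2 : b2.1 ≠ 1 := fun h => hb2ne (hB1 b2 hb2 h)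
  have hv2 : b2.2 ≠ 1 := fun h => hb2ne (hB2 b2 hb2 h)
  have hne_of : b1 * b2 ≠ 1 := by
    intro h
    apply hb21
    have := hsq' b1 hb1
    -- b2 = b1⁻¹ = b1
    calc b2 = b1⁻¹ := (inv_eq_of_mul_eq_one_right h).symm
      _ = b1 := inv_eq_of_mul_eq_one_right this
  have hu12 : b1.1 ≠ b2.1 := by
    intro h
    apply hne_of
    apply hB1 _ (B.mul_mem hb1 hb2)
    have := (hsq b2 hb2).1
    simp only [Prod.fst_mul, h]
    simpa [pow_two] using this
  have hv12 : b1.2 ≠ b2.2 := by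
    intro h
    apply hne_of
    apply hB2 _ (B.mul_mem hb1 hb2)
    have := (hsq b2 hb2).2
    simp only [Prod.snd_mul, h]
    simpa [pow_two] using this
  -- B = {1, b1, b2, b1 b2}
  have hBeq : ∀ b ∈ B, b = 1 ∨ b = b1 ∨ b = b2 ∨ b = b1 * b2 := by
    have hsub : (({1, b1, b2, b1 * b2} : Finset _) : Set (↥(alternatingGroup (Fin 4)) × ↥(alternatingGroup (Fin 4)))) ⊆ (B : Set _) := by
      intro z hz
      simp only [Finset.coe_insert, Finset.coe_singleton, Set.mem_insert_iff, Set.mem_singleton_iff] at hz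
      rcases hz with rfl | rfl | rfl | rfl
      · exact B.one_mem
      · exact hb1
      · exact hb2
      · exact B.mul_mem hb1 hb2
    have hcard : ({1, b1, b2, b1 * b2} : Finset (↥(alternatingGroup (Fin 4)) × ↥(alternatingGroup (Fin 4)))).card = 4 := by
      rw [Finset.card_insert_of_notMem, Finset.card_insert_of_notMem, Finset.card_insert_of_notMem,
        Finset.card_singleton]
      · simp only [Finset.mem_singleton]
        intro h
        exact hb1ne (by simpa using h.symm)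
      · simp only [Finset.mem_insert, Finset.mem_singleton, not_or]
        refine ⟨fun h => hb21 h.symm, fun h => hb2ne ?_⟩
        simpa using h.symm
      · simp only [Finset.mem_insert, Finset.mem_singleton, not_or]
        exact ⟨fun h => hb1ne h.symm, fun h => hb2ne h.symm, fun h => hne_of h.symm⟩
    have heq := Set.eq_of_subset_of_ncard_le hsub (by
      rw [Set.ncard_coe_finset, hcard]; exact ((Nat.card_coe_set_eq _).symm.trans hB4).le) (Set.toFinite _)
    intro b hb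
    have : b ∈ (({1, b1, b2, b1 * b2} : Finset _) : Set (↥(alternatingGroup (Fin 4)) × ↥(alternatingGroup (Fin 4)))) := by
      rw [heq]; exact hb
    simpa using this
  -- conjugation criterion
  have hcrit : ∀ r : ↥(alternatingGroup (Fin 4)) × ↥(alternatingGroup (Fin 4)), r ^ 3 = 1 →
      r * b1 * r⁻¹ ∈ B → r * b2 * r⁻¹ ∈ B → r ∈ Subgroup.normalizer (B : Set _) := by
    intro r hr3 h1 h2
    apply mem_normalizer_of_cube B r hr3
    intro x hx
    rcases hBeq x hx with rfl | rfl | rfl | rfl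
    · simpa using B.one_mem
    · exact h1
    · exact h2
    · have : r * (b1 * b2) * r⁻¹ = (r * b1 * r⁻¹) * (r * b2 * r⁻¹) := by group
      rw [this]; exact B.mul_mem h1 h2
  have hfin : ∀ r : ↥(alternatingGroup (Fin 4)) × ↥(alternatingGroup (Fin 4)), r ∈ (Q : Subgroup P4) →
      r ^ 3 = 1 → r.1 ≠ 1 → r.2 ≠ 1 → r * b1 * r⁻¹ ∈ B → r * b2 * r⁻¹ ∈ B → False := by
    intro r hrQ hr3 hr1 hr2 h1 h2
    obtain ⟨R, hRQ, hR3, hRn1, hRn2, hRN⟩ := exists_R (Q : Subgroup P4) B r hrQ hr3 hr1 hr2 (hcrit r hr3 h1 h2)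
    exact hR R hRQ hR3 hRn1 hRn2 hRN
  have hst : ((s, t) : P4) ∈ (Q : Subgroup P4) := by
    have := (Q : Subgroup P4).mul_mem hsQ htQ
    simpa using this
  have hst' : ((s, t⁻¹) : P4) ∈ (Q : Subgroup P4) := by
    have := (Q : Subgroup P4).mul_mem hsQ ((Q : Subgroup P4).inv_mem htQ)
    simpa using this
  have ht3' : t⁻¹ ^ 3 = 1 := by rw [inv_pow, ht3, inv_one]
  have hb12 : b1 * b2 ∈ B := B.mul_mem hb1 hb2
  rcases F3 s b1.1 b2.1 hs1 hs3 hu1 (hsq b1 hb1).1 hu2 (hsq b2 hb2).1 hu12 with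
    ⟨sa, sb, -, -⟩ | ⟨sa, sb, -, -⟩ <;>
  rcases F3 t b1.2 b2.2 ht1 ht3 hv1 (hsq b1 hb1).2 hv2 (hsq b2 hb2).2 hv12 with
    ⟨ta, tb, tc, td⟩ | ⟨ta, tb, tc, td⟩
  · -- s+, t+
    apply hfin (s, t) hst (by rw [Prod.pow_mk, hs3, ht3]; rfl) hs1 ht1
    · have : ((s, t) : P4) * b1 * (s, t)⁻¹ = b2 := Prod.ext sa ta
      rw [this]; exact hb2
    · have : ((s, t) : P4) * b2 * (s, t)⁻¹ = b1 * b2 := Prod.ext sb tb
      rw [this]; exact hb12
  · -- s+, t-  use t⁻¹ which is +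
    apply hfin (s, t⁻¹) hst' (by rw [Prod.pow_mk, hs3, ht3']; rfl) hs1 (inv_ne_one.mpr ht1)
    · have : ((s, t⁻¹) : P4) * b1 * (s, t⁻¹)⁻¹ = b2 := Prod.ext sa (by simpa using tc)
      rw [this]; exact hb2
    · have : ((s, t⁻¹) : P4) * b2 * (s, t⁻¹)⁻¹ = b1 * b2 := Prod.ext sb (by simpa using td)
      rw [this]; exact hb12
  · -- s-, t+  use t⁻¹ which is -
    apply hfin (s, t⁻¹) hst' (by rw [Prod.pow_mk, hs3, ht3']; rfl) hs1 (inv_ne_one.mpr ht1)
    · have : ((s, t⁻¹) : P4) * b1 * (s, t⁻¹)⁻¹ = b1 * b2 := Prod.ext sa (by simpa using tc)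
      rw [this]; exact hb12
    · have : ((s, t⁻¹) : P4) * b2 * (s, t⁻¹)⁻¹ = b1 := Prod.ext sb (by simpa using td)
      rw [this]; exact hb1
  · -- s-, t-
    apply hfin (s, t) hst (by rw [Prod.pow_mk, hs3, ht3]; rfl) hs1 ht1
    · have : ((s, t) : P4) * b1 * (s, t)⁻¹ = b1 * b2 := Prod.ext sa ta
      rw [this]; exact hb12
    · have : ((s, t) : P4) * b2 * (s, t)⁻¹ = b1 := Prod.ext sb tb
      rw [this]; exact hb1

end Cfsg.Agent.S4406
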