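import Mathlib
import Cfsg.Statements.S4408
import Cfsg.Agent.S0044
import Cfsg.Agent.Lib.Helper7_Eigen3
import Cfsg.Agent.Lib.Lead_Fitting

set_option autoImplicit false

open Cfsg

namespace Cfsg.Agent.S4408


/-- Let S be a finite solvable group whose Fitting subgroup F(S) has odd order, and let I be an elementary abelian 2-subgroup of S of order 2ⁿ with n ≥ 1. Then F(S) contains subgroups A₁, …, Aₙ of prime order, each normalized by I, pairwise commuting and generating a subgroup A of order |A₁|⋯|Aₙ| (their internal direct product), such that no non-identity element of I centralizes A. -/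
theorem result {S : Type*} [Group S] [Finite S]
    [Group.IsSolvable S] (hF : Odd (Nat.card ↥(Cfsg.fittingSubgroup S)))
    (I : Subgroup S) (hI : Cfsg.IsElementaryAbelian 2 I) (n : ℕ) (hn : 1 ≤ n) (hIn : Nat.card ↥I = 2 ^ n) :
    ∃ f : Fin n → Subgroup S, (∀ i, (Nat.card ↥(f i)).Prime) ∧ (∀ i, f i ≤ Cfsg.fittingSubgroup S) ∧
      (∀ i, I ≤ Subgroup.normalizer ((f i) : Set S)) ∧ (∀ i j, i ≠ j → ∀ a ∈ f i, ∀ b ∈ f j, a * b = b * a) ∧
      Nat.card ↥(⨆ i, f i) = ∏ i, Nat.card ↥(f i) ∧ I ⊓ Subgroup.centralizer ((⨆ i, f i : Subgroup S) : Set S) = ⊥ := by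
  classical
  have hFnorm : (Cfsg.fittingSubgroup S).Normal := Cfsg.Agent.S0044.fitting_normal
  have hFn : Group.IsNilpotent ↥(Cfsg.fittingSubgroup S) := by
    rw [Cfsg.Agent.Lib.Lead_Fitting.fitting_eq]
    exact Cfsg.Agent.Lib.Lead_Fitting.F0_nilpotent S
  have hc : ∀ a ∈ I, ∀ b ∈ I, a * b = b * a := by
    intro a ha b hb
    haveI := hI.1
    exact setLike_mul_comm ha hb
  have hs : ∀ a ∈ I, a * a = 1 := by
    intro a ha
    have := hI.2 a ha
    rwa [pow_two] at this
  have hF2 : ∀ x ∈ Cfsg.fittingSubgroup S, x * x = 1 → x = 1 := by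
    intro x hx hxx
    have h1 : orderOf x ∣ 2 := by
      apply orderOf_dvd_of_pow_eq_one
      rw [pow_two]; exact hxx
    have h2 : orderOf x ∣ Nat.card ↥(Cfsg.fittingSubgroup S) := by
      have := orderOf_dvd_natCard (⟨x, hx⟩ : ↥(Cfsg.fittingSubgroup S))
      rwa [Subgroup.orderOf_mk] at this
    have h3 : orderOf x = 1 := by
      rcases (Nat.dvd_prime Nat.prime_two).mp h1 with h | h
      · exact h
      · exfalso
        rw [h] at h2
        obtain ⟨k, hk⟩ := hF
        omega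
    exact orderOf_eq_one_iff.mp h3
  have hAF : I ≤ Subgroup.normalizer ((Cfsg.fittingSubgroup S : Subgroup S) : Set S) := by
    rw [Subgroup.normalizer_eq_top]
    exact le_top
  have hfaith : ∀ a ∈ I, (∀ f ∈ Cfsg.fittingSubgroup S, a * f = f * a) → a = 1 := by
    intro a ha hcen
    have h1 : a ∈ Subgroup.centralizer ((Cfsg.fittingSubgroup S : Subgroup S) : Set S) := by
      rw [Subgroup.mem_centralizer_iff]
      intro f hf
      exact (hcen f hf).symm
    exact hF2 a (Cfsg.Agent.S0044.result h1) (hs a ha)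
  obtain ⟨x, a, hx, hxx, he, hxf, ha, hinv, hcen, hgen⟩ :=
    Cfsg.Agent.Lib.Helper7_Eigen.exists_eigen_basis I (Cfsg.fittingSubgroup S) hc hs hFn hF2 hAF
      hfaith n hIn
  have hzF : ∀ i, Subgroup.zpowers (x i) ≤ Cfsg.fittingSubgroup S := by
    intro i
    rw [Subgroup.zpowers_le]
    exact (hx i).1
  refine ⟨fun i => Subgroup.zpowers (x i), ?_, hzF, ?_, ?_, ?_, ?_⟩
  · intro i
    rw [Nat.card_zpowers]
    exact (hx i).2
  · intro i
    apply Cfsg.Agent.Lib.Helper7_Eigen.le_normalizer_of_conj_mem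
    intro b hb y hy
    obtain ⟨k, rfl⟩ := Subgroup.mem_zpowers_iff.mp hy
    have := (MulAut.conj b).toMonoidHom.map_zpow (x i) k
    simp only [MulEquiv.coe_toMonoidHom, MulAut.conj_apply] at this
    rw [this]
    rcases he i b hb with h | h
    · rw [h]; exact Subgroup.zpow_mem _ (Subgroup.mem_zpowers _) _
    · rw [h]; exact Subgroup.zpow_mem _ (Subgroup.inv_mem _ (Subgroup.mem_zpowers _)) _
  · intro i j _ u hu v hv
    obtain ⟨k, rfl⟩ := Subgroup.mem_zpowers_iff.mp hu
    obtain ⟨l, rfl⟩ := Subgroup.mem_zpowers_iff.mp hv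
    have : Commute (x i) (x j) := hxx i j
    exact this.zpow_zpow k l
  · exact Cfsg.Agent.Lib.Helper7_Eigen.card_iSup_eigen n x a hxx
      (fun i y hy => hF2 y (hzF i hy)) hinv hcen
  · rw [eq_bot_iff]
    rintro b ⟨hbI, hbC⟩
    rw [Subgroup.mem_bot]
    apply hxf b hbI
    intro i
    have hbC' : b ∈ Subgroup.centralizer ((⨆ i, Subgroup.zpowers (x i) : Subgroup S) : Set S) := hbC
    rw [Subgroup.mem_centralizer_iff] at hbC'
    have h1 : x i ∈ (⨆ i, Subgroup.zpowers (x i) : Subgroup S) :=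
      (le_iSup (fun i => Subgroup.zpowers (x i)) i) (Subgroup.mem_zpowers _)
    exact (hbC' (x i) h1).symm

end Cfsg.Agent.S4408
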