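import Cfsg.Statements.S4416
import Mathlib
import Cfsg.Agent.Lib.Helper3_Extra2

set_option autoImplicit false
open Cfsg

namespace Cfsg.Agent.S4416

theorem arith (k s : ℕ) (hk : k ≠ 1)
    (h : (2 * (s : ℤ) - ((2 ^ k : ℕ) : ℤ)) ^ 2 = 2 * ((2 ^ k : ℕ) : ℤ)) :
    ∃ m : ℕ, 1 ≤ m ∧ k = 2 * m + 1 ∧ (s = 2 ^ (2 * m) + 2 ^ m ∨ s = 2 ^ (2 * m) - 2 ^ m) := by
  set T : ℕ := (2 * (s : ℤ) - ((2 ^ k : ℕ) : ℤ)).natAbs with hT
  have hT2 : T ^ 2 = 2 ^ (k + 1) := by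
    have : ((T ^ 2 : ℕ) : ℤ) = ((2 ^ (k + 1) : ℕ) : ℤ) := by
      rw [hT, Nat.cast_pow, Int.natAbs_sq, h]; push_cast; ring
    exact_mod_cast this
  have hdvd : T ∣ 2 ^ (k + 1) := hT2 ▸ Dvd.intro_left (T ^ 1) (by ring)
  obtain ⟨j, -, hj⟩ := (Nat.dvd_prime_pow Nat.prime_two).mp hdvd
  rw [hj, ← pow_mul] at hT2
  have hjk : j * 2 = k + 1 := Nat.pow_right_injective (le_refl 2) hT2
  have hj1 : 1 ≤ j := by omega
  refine ⟨j - 1, by omega, by omega, ?_⟩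
  have hk' : k = 2 * (j - 1) + 1 := by omega
  have hjm : j = (j - 1) + 1 := by omega
  obtain ⟨m, hm⟩ : ∃ m, m = j - 1 := ⟨_, rfl⟩
  rw [← hm] at hk' hjm ⊢
  obtain ⟨A, hA⟩ : ∃ A, A = 2 ^ (2 * m) := ⟨_, rfl⟩
  obtain ⟨B, hB⟩ : ∃ B, B = 2 ^ m := ⟨_, rfl⟩
  have hkA : 2 ^ k = 2 * A := by rw [hk', pow_succ, hA]; ring
  have hTB : T = 2 * B := by rw [hj, hjm, pow_succ, hB]; ring
  have hle : B ≤ A := by rw [hA, hB]; exact Nat.pow_le_pow_right (by norm_num) (by omega)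
  have h3 := Int.natAbs_eq (2 * (s : ℤ) - ((2 ^ k : ℕ) : ℤ))
  rw [← hT, hTB, hkA] at h3
  rw [← hA, ← hB]
  push_cast at h3
  omega
/-- Classification of extraspecial 2-groups in intrinsic form. An extraspecial 2-group has order 2^(2m+1) for some m ≥ 1, and the number of its elements squaring to the identity is either 2^(2m) + 2^m or 2^(2m) − 2^m; two extraspecial 2-groups of the same order with the same number of such elements are isomorphic. (The two cases are the central products of m dihedral groups of order 8, and of m − 1 dihedral groups with one quaternion group.) -/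
theorem result (E : Type*) [Group E] [Finite E] (hE : Cfsg.IsExtraspecial 2 E) :
    (∃ m : ℕ, 1 ≤ m ∧ Nat.card E = 2 ^ (2 * m + 1) ∧
      (Nat.card {x : E // x ^ 2 = 1} = 2 ^ (2 * m) + 2 ^ m ∨ Nat.card {x : E // x ^ 2 = 1} = 2 ^ (2 * m) - 2 ^ m)) ∧
    ∀ (E' : Type*) [Group E'] [Finite E'], Cfsg.IsExtraspecial 2 E' → Nat.card E' = Nat.card E →
      Nat.card {x : E' // x ^ 2 = 1} = Nat.card {x : E // x ^ 2 = 1} → Nonempty (E ≃* E') := by
  constructor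
  · obtain ⟨k, hk⟩ := (IsPGroup.iff_card.mp hE.1.1)
    have hne := Cfsg.Agent.Lib.Helper3_Extra2.card_ne_two hE
    have hsq := Cfsg.Agent.Lib.Helper3_Extra2.sq_count hE
    rw [hk] at hsq hne
    have hk1 : k ≠ 1 := by rintro rfl; exact hne (by norm_num)
    obtain ⟨m, hm1, hkm, hs⟩ := arith k _ hk1 hsq
    exact ⟨m, hm1, by rw [hk, hkm], hs⟩
  · intro E' _ _ hE' hc hs
    exact Cfsg.Agent.Lib.Helper3_Extra2.iso_of_card hE hE' hc.symm hs.symm

end Cfsg.Agent.S4416
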