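import Mathlib
import Cfsg.Statements.S4419
import Cfsg.Agent.Lib.Helper7_Metacyclic
import Cfsg.Agent.Lib.Helper7_NPC
import Cfsg.Agent.Lib.Helper7_PCore
import Cfsg.Agent.Lib.Helper5_PPrime

set_option autoImplicit false
open Cfsg

namespace Cfsg.Agent.S4419

open Cfsg.Agent.Lib.Helper7_Metacyclic Cfsg.Agent.Lib.Helper7_NPC Cfsg.Agent.Lib.Helper7_PCore
  Cfsg.Agent.Lib.Helper5_PPrime

/-- Let p be a prime and G a finite group whose Sylow p-subgroups are metacyclic (a cyclic normal subgroup with cyclic quotient). Then G has a normal p-complement if and only if the order of G/O_{p′,p}(G) is coprime to p² − 1. -/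
theorem result {G : Type*} [Group G] [Finite G] (p : ℕ) [Fact p.Prime] (S : Sylow p G) (hS : Cfsg.IsMetacyclic ↥(S : Subgroup G)) : Cfsg.HasNormalPComplement p G ↔ Nat.Coprime (Nat.card (G ⧸ Cfsg.pPrimePCore p G)) (p ^ 2 - 1) := by
  have hp := (Fact.out : p.Prime)
  haveI hKn : (pPrimeCore p G).Normal := pPrimeCore_normal p G
  rw [hasNormalPComplement_iff_npc]
  constructor
  · rintro ⟨N, hN, hNc, k, hk⟩
    have hNK : N ≤ pPrimeCore p G := le_pPrimeCore N hNc
    have hGK : IsPGroup p (G ⧸ pPrimeCore p G) := by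
      have h1 : (pPrimeCore p G).index ∣ p ^ k := by
        rw [← hk]; exact Subgroup.index_dvd_of_le hNK
      obtain ⟨e, -, he⟩ := (Nat.dvd_prime_pow hp).mp h1
      apply IsPGroup.of_card (n := e)
      rw [← he, Subgroup.index_eq_card]
    have h2 : pCore p (G ⧸ pPrimeCore p G) = ⊤ := by
      apply top_le_iff.mp
      apply le_pCore inferInstance
      exact hGK.to_subgroup ⊤
    have h3 : pPrimePCore p G = ⊤ := by
      unfold pPrimePCore
      rw [h2, Subgroup.comap_top]
    rw [h3]
    have : Nat.card (G ⧸ (⊤ : Subgroup G)) = 1 := by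
      rw [← Subgroup.index_eq_card, Subgroup.index_top]
    rw [this]
    exact Nat.coprime_one_left _
  · intro hcop
    apply npc_of_frobHyp
    apply frobHyp_of_sylow S
    intro Q hQS g hg hgcop
    apply mem_of_prime_power_parts (Subgroup.centralizer (Q : Set G)) (orderOf g) g rfl
    intro y hy q k hq hk
    by_contra hnc
    haveI : Fact q.Prime := ⟨hq⟩
    have hyN : y ∈ Subgroup.normalizer (Q : Set G) := (Subgroup.zpowers_le.mpr hg) hy
    have hyo : orderOf y ∣ orderOf g := orderOf_dvd_of_mem_zpowers hy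
    have hk0 : k ≠ 0 := by
      rintro rfl
      rw [pow_zero, orderOf_eq_one_iff] at hk
      subst hk
      exact hnc (one_mem _)
    have hqy : q ∣ orderOf y := by rw [hk]; exact dvd_pow_self q hk0
    have hqp : q ≠ p := by
      rintro rfl
      have h1 : q ∣ orderOf g := hqy.trans hyo
      have := Nat.Coprime.eq_one_of_dvd hgcop.symm h1
      exact hq.one_lt.ne' this
    have hQp : IsPGroup p Q := S.isPGroup'.to_le hQS
    have hcardQ : Nat.card (↥Q ⧸ frattini ↥Q) ∣ p ^ 2 := by
      obtain ⟨a, ha, b, hb, hab⟩ := exists_two_gen hS (Q.subgroupOf S)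
      have ha' : (a : G) ∈ Q := Subgroup.mem_subgroupOf.mp ha
      have hb' : (b : G) ∈ Q := Subgroup.mem_subgroupOf.mp hb
      apply card_quot_frattini_dvd p hQp ⟨a, ha'⟩ ⟨b, hb'⟩
      intro h
      obtain ⟨i, j, hij⟩ := hab ⟨h.1, hQS h.2⟩ (Subgroup.mem_subgroupOf.mpr h.2)
      refine ⟨i, j, ?_⟩
      apply Subtype.ext
      have := congrArg Subtype.val hij
      simpa using this
    have hqd : q ∣ p ^ 2 - 1 :=
      prime_dvd_of_not_centralize p q hqp Q hQp y hyN k hk hcardQ hnc
    -- `y ∉ M`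
    have hyM : y ∉ pPrimePCore p G := by
      intro hyM
      apply hnc
      unfold pPrimePCore at hyM
      rw [Subgroup.mem_comap] at hyM
      have h1 : IsPGroup p (pCore p (G ⧸ pPrimeCore p G)) := pCore_isPGroup p
      obtain ⟨e, he⟩ := h1 ⟨_, hyM⟩
      have h2 : (QuotientGroup.mk' (pPrimeCore p G) y) ^ p ^ e = 1 := by
        have := congrArg Subtype.val he
        simpa using this
      have h3 : (QuotientGroup.mk' (pPrimeCore p G) y) ^ q ^ k = 1 := by
        rw [← map_pow, ← hk, pow_orderOf_eq_one, map_one]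
      have h4 : (QuotientGroup.mk' (pPrimeCore p G) y) = 1 := by
        have hc : (p ^ e).Coprime (q ^ k) :=
          Nat.Coprime.pow _ _ ((Nat.coprime_primes hp hq).mpr hqp.symm)
        have h5 := orderOf_dvd_of_pow_eq_one h2
        have h6 := orderOf_dvd_of_pow_eq_one h3
        exact orderOf_eq_one_iff.mp (Nat.eq_one_of_dvd_coprimes hc h5 h6)
      have hyK : y ∈ pPrimeCore p G := by
        rwa [QuotientGroup.mk'_apply, QuotientGroup.eq_one_iff] at h4
      rw [Subgroup.mem_centralizer_iff]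
      intro x hx
      have h7 : y * x * y⁻¹ * x⁻¹ ∈ Q ⊓ pPrimeCore p G := by
        refine Subgroup.mem_inf.mpr ⟨?_, ?_⟩
        · exact Q.mul_mem ((Subgroup.mem_normalizer_iff.mp hyN x).mp hx) (Q.inv_mem hx)
        · have : y * x * y⁻¹ * x⁻¹ = y * (x * y⁻¹ * x⁻¹) := by group
          rw [this]
          exact (pPrimeCore p G).mul_mem hyK (hKn.conj_mem _ ((pPrimeCore p G).inv_mem hyK) x)
      rw [inf_eq_bot_of_pGroup_of_coprime hQp (pPrimeCore_coprime p G), Subgroup.mem_bot] at h7
      have : y * x = (y * x * y⁻¹ * x⁻¹) * (x * y) := by group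
      rw [this, h7, one_mul]
    -- hence `q ∣ |G/M|`
    have hMn : (pPrimePCore p G).Normal := by
      unfold pPrimePCore
      haveI := pCore_normal (G := G ⧸ pPrimeCore p G) p
      exact Subgroup.Normal.comap inferInstance _
    have h8 : (QuotientGroup.mk y : G ⧸ pPrimePCore p G) ≠ 1 := by
      rwa [Ne, QuotientGroup.eq_one_iff]
    have h9 : orderOf (QuotientGroup.mk y : G ⧸ pPrimePCore p G) ∣ q ^ k := by
      apply orderOf_dvd_of_pow_eq_one
      rw [← QuotientGroup.mk_pow, ← hk, pow_orderOf_eq_one, QuotientGroup.mk_one]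
    obtain ⟨e, -, he⟩ := (Nat.dvd_prime_pow hq).mp h9
    have he0 : e ≠ 0 := by
      rintro rfl
      rw [pow_zero, orderOf_eq_one_iff] at he
      exact h8 he
    have h10 : q ∣ Nat.card (G ⧸ pPrimePCore p G) := by
      have h11 : q ∣ orderOf (QuotientGroup.mk y : G ⧸ pPrimePCore p G) := by
        rw [he]; exact dvd_pow_self q he0
      exact h11.trans (orderOf_dvd_natCard _)
    have := Nat.Coprime.eq_one_of_dvd (Nat.Coprime.coprime_dvd_left h10 hcop) hqd
    exact hq.one_lt.ne' this

end Cfsg.Agent.S4419
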