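import Mathlib
import Cfsg.Statements.S4420

set_option autoImplicit false
open Cfsg

namespace Cfsg.Agent.S4420

/-- if every element outside a subgroup `B` has square one, then each such element inverts `B`. -/
theorem inverts {H : Type*} [Group H] (B : Subgroup H) (hD : ∀ x : H, x ∉ B → x ^ 2 = 1)
    (t : H) (ht : t ∉ B) (b : H) (hb : b ∈ B) : t * b * t⁻¹ = b⁻¹ := by
  have h1 : t * b ∉ B := by
    intro h
    apply ht
    have := B.mul_mem h (B.inv_mem hb)
    simpa using this
  have h2 := hD _ h1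
  have h3 := hD _ ht
  have h4 : t⁻¹ = t := by
    rw [inv_eq_iff_mul_eq_one, ← sq]; exact h3
  rw [h4]
  have h5 : t * b * (t * b) = 1 := by rw [← sq]; exact h2
  calc t * b * t = t * b * t * b * b⁻¹ := by group
    _ = (t * b * (t * b)) * b⁻¹ := by group
    _ = b⁻¹ := by rw [h5, one_mul]

theorem result {H : Type*} [Group H] [Finite H] (A : Subgroup H) (hA : A ≠ ⊤) (hD : ∀ x : H, x ∉ A → x ^ 2 = 1) :
    ∃ B : Subgroup H, B.Normal ∧ IsMulCommutative ↥B ∧ B.index = 2 ∧
      (∀ x : H, x ∉ B → x ^ 2 = 1 ∧ ∀ b ∈ B, x * b * x⁻¹ = b⁻¹) ∧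
      (¬ (IsMulCommutative H ∧ ∀ x : H, x ^ 2 = 1) →
        ∀ B' : Subgroup H, B'.Normal → IsMulCommutative ↥B' → B'.index = 2 →
          (∀ x : H, x ∉ B' → x ^ 2 = 1 ∧ ∀ b ∈ B', x * b * x⁻¹ = b⁻¹) → B' = B) := by
  classical
  by_cases hT : ∀ x : H, x ^ 2 = 1
  · -- elementary abelian 2-group
    have hcomm : ∀ a b : H, a * b = b * a := by
      intro a b
      have ha := hT a
      have hb := hT b
      have hab := hT (a * b)
      have ha' : a⁻¹ = a := by rw [inv_eq_iff_mul_eq_one, ← sq]; exact ha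
      have hb' : b⁻¹ = b := by rw [inv_eq_iff_mul_eq_one, ← sq]; exact hb
      have hab' : (a * b)⁻¹ = a * b := by rw [inv_eq_iff_mul_eq_one, ← sq]; exact hab
      rw [← hab', mul_inv_rev, ha', hb']
    have hinv : ∀ a : H, a⁻¹ = a := by
      intro a
      rw [inv_eq_iff_mul_eq_one, ← sq]; exact hT a
    have hP : IsPGroup 2 H := by
      intro g
      exact ⟨1, by rw [pow_one]; exact hT g⟩
    haveI : Fact (Nat.Prime 2) := ⟨Nat.prime_two⟩
    obtain ⟨n, hn⟩ := IsPGroup.iff_card.mp hP
    have hn0 : n ≠ 0 := by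
      rintro rfl
      rw [pow_zero] at hn
      apply hA
      haveI : Subsingleton H := (Nat.card_eq_one_iff_unique.mp hn).1
      exact Subsingleton.elim _ _
    obtain ⟨m, rfl⟩ := Nat.exists_eq_succ_of_ne_zero hn0
    obtain ⟨B, hB⟩ := Sylow.exists_subgroup_card_pow_prime 2 (n := m) (G := H)
      (by rw [hn]; exact pow_dvd_pow 2 (Nat.le_succ m))
    have hidx : B.index = 2 := by
      have h1 := B.card_mul_index
      rw [hB, hn, pow_succ] at h1
      exact Nat.eq_of_mul_eq_mul_left (pow_pos (by norm_num) m) h1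
    refine ⟨B, ?_, ?_, hidx, ?_, ?_⟩
    · exact Subgroup.normal_of_index_eq_two hidx
    · exact ⟨⟨fun a b => Subtype.ext (hcomm a b)⟩⟩
    · intro x _
      refine ⟨hT x, fun b _ => ?_⟩
      rw [hcomm x b, mul_inv_cancel_right, hinv]
    · intro hne
      exact absurd ⟨⟨⟨hcomm⟩⟩, hT⟩ hne
  · push Not at hT
    obtain ⟨x0, hx0⟩ := hT
    set T : Set H := {x : H | x ^ 2 ≠ 1} with hTdef
    set B : Subgroup H := Subgroup.closure T with hBdef
    have hTA : T ⊆ A := by
      intro x hx
      by_contra hxA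
      exact hx (hD x hxA)
    have hBA : B ≤ A := (Subgroup.closure_le A).mpr hTA
    have hBtop : B ≠ ⊤ := fun h => hA (top_le_iff.mp (h ▸ hBA))
    have hDB : ∀ x : H, x ∉ B → x ^ 2 = 1 := by
      intro x hx
      by_contra h
      exact hx (Subgroup.subset_closure h)
    have hx0B : x0 ∈ B := Subgroup.subset_closure hx0
    -- product of two elements outside B lies in B
    have hprod : ∀ x y : H, x ∉ B → y ∉ B → x * y ∈ B := by
      intro x y hx hy
      by_contra hxy
      have h1 := inverts B hDB x hx x0 hx0B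
      have h2 := inverts B hDB y hy x0 hx0B
      have h3 := inverts B hDB (x * y) hxy x0 hx0B
      have h4 : x * y * x0 * (x * y)⁻¹ = x * (y * x0 * y⁻¹) * x⁻¹ := by group
      rw [h4, h2] at h3
      have h5 : x * x0⁻¹ * x⁻¹ = (x * x0 * x⁻¹)⁻¹ := by group
      rw [h5, h1, inv_inv] at h3
      apply hx0
      rw [sq]
      calc x0 * x0 = x0⁻¹ * x0 := by rw [← h3]
        _ = 1 := inv_mul_cancel x0
    obtain ⟨t, ht⟩ : ∃ t : H, t ∉ B := by
      by_contra h
      push Not at h
      exact hBtop (Subgroup.eq_top_iff' B |>.mpr h)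
    have hidx : B.index = 2 := by
      rw [Subgroup.index_eq_two_iff]
      refine ⟨t, fun b => ?_⟩
      by_cases hb : b ∈ B
      · refine Or.inr ⟨hb, ?_⟩
        intro h
        apply ht
        have := B.mul_mem (B.inv_mem hb) h
        simpa using this
      · exact Or.inl ⟨hprod b t hb ht, hb⟩
    have hBcomm : ∀ a b : H, a ∈ B → b ∈ B → a * b = b * a := by
      intro a b ha hb
      have h1 := inverts B hDB t ht a ha
      have h2 := inverts B hDB t ht b hb
      have h3 := inverts B hDB t ht (a * b) (B.mul_mem ha hb)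
      have h4 : t * (a * b) * t⁻¹ = (t * a * t⁻¹) * (t * b * t⁻¹) := by group
      rw [h4, h1, h2, mul_inv_rev] at h3
      have := congrArg (fun z => z⁻¹) h3
      have h5 : b * a = a * b := by simpa using this
      exact h5.symm
    refine ⟨B, Subgroup.normal_of_index_eq_two hidx, ⟨⟨fun a b => Subtype.ext (hBcomm a b a.2 b.2)⟩⟩,
      hidx, ?_, ?_⟩
    · intro x hx
      exact ⟨hDB x hx, fun b hb => inverts B hDB x hx b hb⟩
    · intro _ B' _ _ hidx' hB'
      have hle : B ≤ B' := by
        rw [hBdef, Subgroup.closure_le]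
        intro x hx
        by_contra hxB'
        exact hx (hB' x hxB').1
      have hrel : B.relIndex B' * B'.index = B.index := Subgroup.relIndex_mul_index hle
      rw [hidx, hidx'] at hrel
      have h1 : B.relIndex B' = 1 := by omega
      exact le_antisymm (Subgroup.relIndex_eq_one.mp h1) hle

end Cfsg.Agent.S4420
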