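import Mathlib
import Cfsg.Statements.S4421

set_option autoImplicit false
open Cfsg

namespace Cfsg.Agent.S4421

theorem mem_map_conj {G : Type*} [Group G] (K : Subgroup G) (g x : G) :
    x ∈ K.map (MulAut.conj g).toMonoidHom ↔ g⁻¹ * x * g ∈ K := by
  constructor
  · rintro ⟨k, hk, rfl⟩
    simp only [MulEquiv.coe_toMonoidHom, MulAut.conj_apply]
    have : g⁻¹ * (g * k * g⁻¹) * g = k := by group
    rw [this]; exact hk
  · intro h
    refine ⟨g⁻¹ * x * g, h, ?_⟩
    simp only [MulEquiv.coe_toMonoidHom, MulAut.conj_apply]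
    group

theorem map_conj_eq_self_iff {G : Type*} [Group G] (K : Subgroup G) (g : G) :
    K.map (MulAut.conj g).toMonoidHom = K ↔ g ∈ Subgroup.normalizer (K : Set G) := by
  rw [Subgroup.mem_normalizer_iff]
  constructor
  · intro h k
    constructor
    · intro hk
      rw [← h]
      exact ⟨k, hk, by simp [MulAut.conj_apply]⟩
    · intro hk
      rw [← h] at hk
      rw [mem_map_conj] at hk
      have : g⁻¹ * (g * k * g⁻¹) * g = k := by group
      rwa [this] at hk
  · intro h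
    ext x
    rw [mem_map_conj]
    rw [h (g⁻¹ * x * g)]
    have : g * (g⁻¹ * x * g) * g⁻¹ = x := by group
    rw [this]

/-- A factorization of a normalizer from two-step control of fusion. -/
theorem result {G : Type*} [Group G] [Finite G] (A S H : Subgroup G)
    (hAS : A ≤ S) (hSH : S ≤ H)
    (h1 : ∀ g : G, A.map (MulAut.conj g).toMonoidHom ≤ S → ∃ s ∈ S, A.map (MulAut.conj g).toMonoidHom = A.map (MulAut.conj s).toMonoidHom)
    (h2 : ∀ g : G, S.map (MulAut.conj g).toMonoidHom ≤ H → ∃ y ∈ H, S.map (MulAut.conj g).toMonoidHom = S.map (MulAut.conj y).toMonoidHom)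
    (h3 : ∀ x ∈ Subgroup.normalizer (A : Set G), S.map (MulAut.conj x).toMonoidHom ≤ H) :
    ∀ x ∈ Subgroup.normalizer (A : Set G), ∃ y ∈ H ⊓ Subgroup.normalizer (A : Set G),
      ∃ z ∈ Subgroup.normalizer (S : Set G) ⊓ Subgroup.normalizer (A : Set G), x = y * z := by
  intro x hx
  obtain ⟨y, hyH, hy⟩ := h2 x (h3 x hx)
  -- n = y⁻¹ x normalizes S
  have hn : y⁻¹ * x ∈ Subgroup.normalizer (S : Set G) := by
    rw [← map_conj_eq_self_iff]
    have : (MulAut.conj (y⁻¹ * x)).toMonoidHom = (MulAut.conj y⁻¹).toMonoidHom.comp (MulAut.conj x).toMonoidHom := by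
      ext k; simp [MulAut.conj_apply, mul_assoc]
    rw [this, ← Subgroup.map_map, hy, Subgroup.map_map]
    have : (MulAut.conj y⁻¹).toMonoidHom.comp (MulAut.conj y).toMonoidHom = MonoidHom.id G := by
      ext k; simp [MulAut.conj_apply, mul_assoc]
    rw [this, Subgroup.map_id]
  -- y⁻¹ A y ≤ S
  have hAx : A.map (MulAut.conj x).toMonoidHom = A := (map_conj_eq_self_iff A x).mpr hx
  have hyA : A.map (MulAut.conj y⁻¹).toMonoidHom ≤ S := by
    intro k hk
    rw [mem_map_conj] at hk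
    -- k = y⁻¹ a y; a = x a' x⁻¹
    rw [inv_inv] at hk
    have hk' : y * k * y⁻¹ ∈ A.map (MulAut.conj x).toMonoidHom := by rw [hAx]; exact hk
    rw [mem_map_conj] at hk'
    -- x⁻¹ y k y⁻¹ x ∈ A ≤ S, and (y⁻¹ x) normalizes S
    have h5 := hAS hk'
    have h6 := (Subgroup.mem_normalizer_iff.mp hn (x⁻¹ * (y * k * y⁻¹) * x)).mp h5
    have : y⁻¹ * x * (x⁻¹ * (y * k * y⁻¹) * x) * (y⁻¹ * x)⁻¹ = k := by group
    rwa [this] at h6
  obtain ⟨s, hsS, hs⟩ := h1 y⁻¹ hyA
  -- y s normalizes A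
  have hysA : y * s ∈ Subgroup.normalizer (A : Set G) := by
    rw [← map_conj_eq_self_iff]
    have : (MulAut.conj (y * s)).toMonoidHom = (MulAut.conj y).toMonoidHom.comp (MulAut.conj s).toMonoidHom := by
      ext k; simp [MulAut.conj_apply, mul_assoc]
    rw [this, ← Subgroup.map_map, ← hs, Subgroup.map_map]
    have : (MulAut.conj y).toMonoidHom.comp (MulAut.conj y⁻¹).toMonoidHom = MonoidHom.id G := by
      ext k; simp [MulAut.conj_apply, mul_assoc]
    rw [this, Subgroup.map_id]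
  refine ⟨y * s, ⟨H.mul_mem hyH (hSH hsS), hysA⟩, (y * s)⁻¹ * x, ⟨?_, ?_⟩, by group⟩
  · have : (y * s)⁻¹ * x = s⁻¹ * (y⁻¹ * x) := by group
    rw [this]
    exact Subgroup.mul_mem _ (Subgroup.inv_mem _ (Subgroup.le_normalizer hsS)) hn
  · exact Subgroup.mul_mem _ (Subgroup.inv_mem _ hysA) hx

end Cfsg.Agent.S4421
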