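import Mathlib
import Cfsg.Statements.S4422

set_option autoImplicit false
open Cfsg

namespace Cfsg.Agent.S4422

theorem prime_case (q e p : ℕ) (hq : 2 ≤ q) (he : 1 ≤ e) (hp : p.Prime)
    (hm : p ∣ q ^ e - 1) (hcop : ∀ i : ℕ, 1 ≤ i → i < e → Nat.Coprime p (q ^ i - 1)) :
    p ≡ 1 [MOD e] := by
  haveI : Fact p.Prime := ⟨hp⟩
  have hqe : 1 ≤ q ^ e := Nat.one_le_pow _ _ (by omega)
  -- q^e = 1 in ZMod p
  have h1 : ((q : ZMod p)) ^ e = 1 := by
    have : ((q ^ e - 1 : ℕ) : ZMod p) = 0 := (ZMod.natCast_eq_zero_iff _ _).mpr hm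
    rw [Nat.cast_sub hqe, Nat.cast_pow, Nat.cast_one, sub_eq_zero] at this
    exact this
  have hq0 : (q : ZMod p) ≠ 0 := by
    intro h0
    rw [h0, zero_pow (by omega)] at h1
    exact zero_ne_one h1
  set d := orderOf (q : ZMod p) with hd
  have hde : d ∣ e := orderOf_dvd_of_pow_eq_one h1
  have hdpos : 0 < d := Nat.pos_of_dvd_of_pos hde (by omega)
  have hdeq : d = e := by
    by_contra hne
    have hlt : d < e := lt_of_le_of_ne (Nat.le_of_dvd (by omega) hde) hne
    have hc := hcop d hdpos hlt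
    have hqd : 1 ≤ q ^ d := Nat.one_le_pow _ _ (by omega)
    have h2 : p ∣ q ^ d - 1 := by
      rw [← ZMod.natCast_eq_zero_iff, Nat.cast_sub hqd, Nat.cast_pow, Nat.cast_one, sub_eq_zero]
      exact pow_orderOf_eq_one _
    have h3 : p ∣ Nat.gcd p (q ^ d - 1) := Nat.dvd_gcd dvd_rfl h2
    rw [hc] at h3
    exact hp.one_lt.ne' (Nat.dvd_one.mp h3)
  have h4 : d ∣ p - 1 := orderOf_dvd_of_pow_eq_one (ZMod.pow_card_sub_one_eq_one hq0)
  rw [hdeq] at h4
  exact ((Nat.modEq_iff_dvd' hp.one_lt.le).mpr h4).symm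

/-- Primitive divisors of `q^e - 1` are congruent to 1 modulo `e`. -/
theorem result (q e m : ℕ) (hq : 2 ≤ q) (he : 1 ≤ e)
    (hm : m ∣ q ^ e - 1) (hcop : ∀ i : ℕ, 1 ≤ i → i < e → Nat.Coprime m (q ^ i - 1)) :
    m % e = 1 % e := by
  show m ≡ 1 [MOD e]
  have hqe : 2 ≤ q ^ e := by
    calc 2 ≤ q := hq
      _ = q ^ 1 := (pow_one q).symm
      _ ≤ q ^ e := Nat.pow_le_pow_right (by omega) he
  have hm0 : m ≠ 0 := by
    rintro rfl
    rw [zero_dvd_iff] at hm
    omega
  induction m using Nat.strong_induction_on with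
  | _ m ih =>
    by_cases hm1 : m = 1
    · rw [hm1]
    · obtain ⟨p, hp, hpm⟩ := Nat.exists_prime_and_dvd hm1
      obtain ⟨m', rfl⟩ := hpm
      have hm'0 : m' ≠ 0 := by rintro rfl; simp at hm0
      have hlt : m' < p * m' := by
        have := hp.one_lt
        nlinarith [Nat.pos_of_ne_zero hm'0]
      have h1 : m' ≡ 1 [MOD e] := by
        apply ih m' hlt ((Dvd.intro_left p rfl).trans hm)
        · intro i hi1 hi2
          exact Nat.Coprime.coprime_dvd_left (Dvd.intro_left p rfl) (hcop i hi1 hi2)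
        · exact hm'0
      have h2 : p ≡ 1 [MOD e] := by
        apply prime_case q e p hq he hp ((Dvd.intro m' rfl).trans hm)
        intro i hi1 hi2
        exact Nat.Coprime.coprime_dvd_left (Dvd.intro m' rfl) (hcop i hi1 hi2)
      have := h2.mul h1
      simpa using this

end Cfsg.Agent.S4422
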