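import Cfsg.Statements.S4476
import Cfsg.Agent.Lib.Helper2_ClassFn
import Cfsg.Agent.Lib.Helper2_CharBasic
import Cfsg.Agent.Lib.Helper2_CharOrtho
import Cfsg.Agent.Lib.Helper2_Clifford
import Cfsg.Agent.Lib.Helper2_CharMore
import Cfsg.Agent.Lib.Helper2_CharNorm
import Cfsg.Agent.Lib.Helper2_CharValues
import Cfsg.Agent.Lib.Helper2_CharComplete
import Cfsg.Agent.Lib.Helper2_CharInd
import Cfsg.Agent.Lib.Helper2_CharTable
import Cfsg.Agent.Lib.Helper2_CharFrob
import Cfsg.Agent.Lib.Helper2_CharDeg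
import Cfsg.Agent.Lib.Helper2_CharSum
import Cfsg.Agent.Lib.Helper2_CharExtra
import Cfsg.Agent.Lib.Helper2_CharCentral
import Cfsg.Agent.Lib.Helper2_PermChar
import Cfsg.Agent.Lib.Helper2_FrobSchur
import Cfsg.Agent.Lib.Helper2_CliffordCorr
import Cfsg.Agent.Lib.Helper2_CharKernel
import Cfsg.Agent.Lib.Helper2_CyclicTI
import Cfsg.Agent.Lib.Helper2_CharGalois
import Cfsg.Agent.Lib.Helper2_CharInt
import Cfsg.Agent.Lib.Helper2_CharBurnside
import Cfsg.Agent.Lib.Helper2_CharCenter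
import Cfsg.Agent.Lib.Helper2_Ito
import Cfsg.Agent.Lib.Helper2_Gallagher
import Cfsg.Agent.Lib.Helper2_Artin
import Cfsg.Agent.Lib.Helper2_MGroup
import Cfsg.Agent.Lib.Helper2_RepEquiv
import Cfsg.Agent.Lib.Helper2_CyclicExt
import Cfsg.Agent.Lib.Helper2_Extraspecial
import Cfsg.Agent.Lib.Helper2_ProjLift
import Cfsg.Agent.Lib.Helper2_CentralExt
import Cfsg.Agent.Lib.Helper2_SylowExt
import Cfsg.Agent.Lib.Helper2_DetChar
import Cfsg.Agent.Lib.Helper2_LinExt
import Cfsg.Agent.Lib.Helper2_DetExt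
import Cfsg.Agent.Lib.Helper2_GallagherExt
import Cfsg.Agent.Lib.Helper2_PermInd
import Cfsg.Agent.Lib.Helper2_QuasiElem
import Cfsg.Agent.Lib.Helper2_BrauerInd
import Cfsg.Agent.Lib.Helper2_BrauerThm
import Cfsg.Agent.Lib.Helper2_NilDecomp
import Cfsg.Agent.Lib.Helper2_DefectZero
import Cfsg.Agent.Lib.Helper2_CharGalois2
import Cfsg.Agent.Lib.Helper2_CosetAvg
import Cfsg.Agent.Lib.Helper2_Thompson

set_option autoImplicit false
open Cfsg

namespace Cfsg.Agent.S4476

open Cfsg.Agent.Lib.Helper2_ClassFn Cfsg.Agent.Lib.Helper2_CharBasic Cfsg.Agent.Lib.Helper2_CharOrtho Cfsg.Agent.Lib.Helper2_Clifford Cfsg.Agent.Lib.Helper2_CharMore Cfsg.Agent.Lib.Helper2_CharNorm Cfsg.Agent.Lib.Helper2_CharValues Cfsg.Agent.Lib.Helper2_CharComplete Cfsg.Agent.Lib.Helper2_CharInd Cfsg.Agent.Lib.Helper2_CharTable Cfsg.Agent.Lib.Helper2_CharFrob Cfsg.Agent.Lib.Helper2_CharDeg Cfsg.Agent.Lib.Helper2_CharSum Cfsg.Agent.Lib.Helper2_CharExtra Cfsg.Agent.Lib.Helper2_CharCentral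 Cfsg.Agent.Lib.Helper2_PermChar Cfsg.Agent.Lib.Helper2_FrobSchur Cfsg.Agent.Lib.Helper2_CliffordCorr Cfsg.Agent.Lib.Helper2_CharKernel Cfsg.Agent.Lib.Helper2_CyclicTI Cfsg.Agent.Lib.Helper2_CharGalois Cfsg.Agent.Lib.Helper2_CharInt Cfsg.Agent.Lib.Helper2_CharBurnside Cfsg.Agent.Lib.Helper2_CharCenter Cfsg.Agent.Lib.Helper2_Ito Cfsg.Agent.Lib.Helper2_Gallagher Cfsg.Agent.Lib.Helper2_Artin Cfsg.Agent.Lib.Helper2_MGroup Cfsg.Agent.Lib.Helper2_RepEquiv Cfsg.Agent.Lib.Helper2_CyclicExt Cfsg.Agent.Lib.Helper2_Extraspecial Cfsg.Agent.Lib.Helper2_ProjLift Cfsg.Agent.Lib.Helper2_CentralExt Cfsg.Agent.Lib.Helper2_SylowExt Cfsg.Agent.Lib.Helper2_DetChar Cfsg.Agent.Lib.Helper2_LinExt Cfsg.Agent.Lib.Helper2_DetExt Cfsg.Agent.Lib.Helper2_GallagherExt Cfsg.Agent.Lib.Helper2_PermInd Cfsg.Agent.Lib.Helper2_QuasiElem Cfsg.Agent.Lib.Helper2_BrauerInd Cfsg.Agent.Lib.Helper2_BrauerThm Cfsg.Agent.Lib.Helper2_NilDecomp Cfsg.Agent.Lib.Helper2_DefectZero Cfsg.Agent.Lib.Helper2_CharGalois2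 Cfsg.Agent.Lib.Helper2_CosetAvg Cfsg.Agent.Lib.Helper2_Thompson
open scoped Pointwise
open scoped ComplexConjugate

open Classical in
/-- `∑_χ ν(χ) χ(1)` counts the solutions of `g * g = 1`. -/
theorem sum_indicator_mul_deg {G : Type*} [Group G] [Fintype G] :
    ∑ χ ∈ irrFinset G, ((Nat.card G : ℂ)⁻¹ * ∑ g : G, χ (g * g)) * χ 1
      = ((Finset.univ.filter (fun g : G => g * g = 1)).card : ℂ) := by
  have hG : (Nat.card G : ℂ) ≠ 0 := card_ne_zero_complex
  have h1 : ∀ χ ∈ irrFinset G, ((Nat.card G : ℂ)⁻¹ * ∑ g : G, χ (g * g)) * χ 1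
      = (Nat.card G : ℂ)⁻¹ * ∑ g : G, χ (g * g) * χ 1 := by
    intro χ _
    rw [mul_assoc, Finset.sum_mul]
  rw [Finset.sum_congr rfl h1, ← Finset.mul_sum, Finset.sum_comm]
  simp_rw [sum_irr_mul_deg]
  rw [Finset.sum_ite, Finset.sum_const_zero, add_zero, Finset.sum_const, nsmul_eq_mul]
  field_simp

open Classical in
theorem card_sq_eq_one {G : Type*} [Group G] [Fintype G] :
    (Finset.univ.filter (fun g : G => g * g = 1)).card = 1 + Nat.card {x : G // orderOf x = 2} := by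
  haveI : Fact (Nat.Prime 2) := ⟨Nat.prime_two⟩
  have h1 : Finset.univ.filter (fun g : G => g * g = 1)
      = insert 1 (Finset.univ.filter (fun g : G => orderOf g = 2)) := by
    ext g
    simp only [Finset.mem_filter, Finset.mem_univ, true_and, Finset.mem_insert]
    rw [orderOf_eq_prime_iff, pow_two]
    constructor
    · intro h
      by_cases hg : g = 1
      · left; exact hg
      · right; exact ⟨h, hg⟩
    · rintro (h | h)
      · rw [h]; simp
      · exact h.1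
  rw [h1, Finset.card_insert_of_notMem, add_comm, Nat.card_eq_fintype_card, Fintype.card_subtype]
  simp only [Finset.mem_filter, Finset.mem_univ, true_and, orderOf_one]
  norm_num

/-- Burnside counting: `∑_x |C(x)| = k |G|`. -/
theorem sum_card_centralizer {G : Type*} [Group G] [Fintype G] :
    ∑ x : G, Nat.card (Subgroup.centralizer ({x} : Set G)) = (irrFinset G).card * Nat.card G := by
  classical
  have h1 : ∀ x : G, (Nat.card (Subgroup.centralizer ({x} : Set G)) : ℂ)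
      = ∑ χ ∈ irrFinset G, χ x * conj (χ x) := by
    intro x
    rw [second_orthogonality' x x, if_pos (IsConj.refl x)]
  have h2 : ((∑ x : G, Nat.card (Subgroup.centralizer ({x} : Set G)) : ℕ) : ℂ)
      = (((irrFinset G).card * Nat.card G : ℕ) : ℂ) := by
    push_cast
    simp_rw [h1]
    rw [Finset.sum_comm]
    rw [Finset.sum_congr rfl (g := fun _ => (Nat.card G : ℂ))]
    · simp
    · intro χ hχ
      have := classInner_irr_self (mem_irrFinset.mp hχ)
      rw [classInner_def] at this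
      have hG : (Nat.card G : ℂ) ≠ 0 := card_ne_zero_complex
      field_simp at this
      exact this
  exact_mod_cast h2


/-- Let G be a finite group of even order g with exactly t involutions, and put α = (g − 1)/t (a rational number). Then (a) some non-identity element x of G has at most α² conjugates; and (b) some non-principal real-valued irreducible character of G has degree at most α. -/
theorem result {G : Type*} [Group G] [Fintype G] (heven : Even (Nat.card G)) (t : ℕ) (ht : Nat.card {x : G // orderOf x = 2} = t) : (∃ x : G, x ≠ 1 ∧ ((Subgroup.centralizer ({x} : Set G)).index : ℚ) ≤ (((Nat.card G : ℚ) - 1) / t) ^ 2) ∧ ∃ χ : Cfsg.IrrCharacter G, (χ : G → ℂ) ≠ (fun _ => 1) ∧ (∀ g : G, ((χ : G → ℂ) g).im = 0) ∧ (Cfsg.charDegree (χ : G → ℂ) : ℚ) ≤ ((Nat.card G : ℚ) - 1) / t := by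
  classical
  haveI : Fact (Nat.Prime 2) := ⟨Nat.prime_two⟩
  set g := Nat.card G with hg
  have hGc : (Nat.card G : ℂ) ≠ 0 := card_ne_zero_complex
  -- t ≥ 1
  have ht1 : 1 ≤ t := by
    obtain ⟨x, hx⟩ := exists_prime_orderOf_dvd_card' 2 heven.two_dvd
    rw [← ht]
    haveI : Nonempty {x : G // orderOf x = 2} := ⟨⟨x, hx⟩⟩
    exact Nat.card_pos
  have hg2 : 2 ≤ g := Nat.le_of_dvd Nat.card_pos heven.two_dvd
  set I := irrFinset G with hI
  set triv : G → ℂ := fun _ => 1 with htriv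
  have htrivI : triv ∈ I := mem_irrFinset.mpr isIrrCharacter_one
  set R := (I.erase triv).filter (fun χ : G → ℂ => (fun x => conj (χ x)) = χ) with hR
  have hdeg : ∀ χ ∈ I, χ 1 = (Cfsg.charDegree χ : ℂ) := by
    intro χ hχ
    obtain ⟨n, hn0, hn⟩ := IsIrrCharacter.apply_one (mem_irrFinset.mp hχ)
    rw [charDegree_eq hn, hn]
  have hdegpos : ∀ χ ∈ I, 0 < Cfsg.charDegree χ := by
    intro χ hχ
    obtain ⟨n, hn0, hn⟩ := IsIrrCharacter.apply_one (mem_irrFinset.mp hχ)
    rw [charDegree_eq hn]; exact hn0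
  have hdegtriv : Cfsg.charDegree triv = 1 := by
    apply charDegree_eq; simp [htriv]
  -- N1
  have hN1 : t ≤ ∑ χ ∈ R, Cfsg.charDegree χ := by
    have h1 := sum_indicator_mul_deg (G := G)
    rw [card_sq_eq_one, ht] at h1
    rw [← Finset.add_sum_erase _ _ htrivI] at h1
    have hνtriv : ((Nat.card G : ℂ)⁻¹ * ∑ x : G, triv (x * x)) * triv 1 = 1 := by
      simp only [htriv, Finset.sum_const, Finset.card_univ, nsmul_eq_mul, mul_one]
      rw [← Nat.card_eq_fintype_card]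
      field_simp
    rw [hνtriv] at h1
    have hterm : ∀ χ ∈ I.erase triv, (((Nat.card G : ℂ)⁻¹ * ∑ x : G, χ (x * x)) * χ 1).re
        ≤ if (fun x => conj (χ x)) = χ then (Cfsg.charDegree χ : ℝ) else 0 := by
      intro χ hχ
      have hχI := Finset.mem_of_mem_erase hχ
      rw [hdeg χ hχI]
      rcases indicator_cases (mem_irrFinset.mp hχI) with ⟨hnr, h0⟩ | ⟨hr, h1 | h1⟩
      · rw [if_neg hnr, h0]; simp
      · rw [if_pos hr, h1]; simp
      · rw [if_pos hr, h1]
        simp only [neg_mul, one_mul, Complex.neg_re, Complex.natCast_re]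
        have : (0 : ℝ) ≤ (Cfsg.charDegree χ : ℝ) := Nat.cast_nonneg _
        linarith
    have h2 := congrArg Complex.re h1
    rw [Complex.add_re, Complex.re_sum] at h2
    simp only [Complex.one_re, Nat.cast_add, Nat.cast_one, Complex.add_re, Complex.natCast_re] at h2
    have h3 : ∑ χ ∈ I.erase triv, (((Nat.card G : ℂ)⁻¹ * ∑ x : G, χ (x * x)) * χ 1).re
        ≤ ∑ χ ∈ I.erase triv, if (fun x => conj (χ x)) = χ then (Cfsg.charDegree χ : ℝ) else 0 :=
      Finset.sum_le_sum hterm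
    rw [← Finset.sum_filter] at h3
    have h4 : (t : ℝ) ≤ ((∑ χ ∈ R, Cfsg.charDegree χ : ℕ) : ℝ) := by
      push_cast
      linarith
    exact_mod_cast h4
  -- N2
  have hN2 : (∑ χ ∈ R, Cfsg.charDegree χ ^ 2) + 1 ≤ g := by
    have h1 := sum_irr_mul_deg (G := G) 1
    rw [if_pos rfl] at h1
    have h2 : ∑ χ ∈ I, Cfsg.charDegree χ ^ 2 = g := by
      have : ((∑ χ ∈ I, Cfsg.charDegree χ ^ 2 : ℕ) : ℂ) = (g : ℂ) := by
        rw [← h1]
        push_cast
        apply Finset.sum_congr rfl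
        intro χ hχ
        rw [hdeg χ hχ]; ring
      exact_mod_cast this
    rw [← Finset.add_sum_erase _ _ htrivI, hdegtriv] at h2
    have h3 : ∑ χ ∈ R, Cfsg.charDegree χ ^ 2 ≤ ∑ χ ∈ I.erase triv, Cfsg.charDegree χ ^ 2 :=
      Finset.sum_le_sum_of_subset (Finset.filter_subset _ _)
    omega
  -- N4
  have hN4 : R.card + 1 ≤ I.card := by
    have h1 : R.card ≤ (I.erase triv).card := Finset.card_le_card (Finset.filter_subset _ _)
    rw [Finset.card_erase_of_mem htrivI] at h1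
    have : 0 < I.card := Finset.card_pos.mpr ⟨triv, htrivI⟩
    omega
  -- Cauchy–Schwarz
  have hCS : (∑ χ ∈ R, Cfsg.charDegree χ) ^ 2 ≤ R.card * ∑ χ ∈ R, Cfsg.charDegree χ ^ 2 := by
    have := sq_sum_le_card_mul_sum_sq (s := R) (f := fun χ => (Cfsg.charDegree χ : ℚ))
    exact_mod_cast this
  have hgq : (1 : ℚ) ≤ (g : ℚ) - 1 := by
    have : (2 : ℚ) ≤ (g : ℚ) := by exact_mod_cast hg2
    linarith
  have htq : (0 : ℚ) < (t : ℚ) := by exact_mod_cast ht1
  have hα : (0 : ℚ) < ((g : ℚ) - 1) / t := by positivity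
  have hS1 : (t : ℚ) ≤ ((∑ χ ∈ R, Cfsg.charDegree χ : ℕ) : ℚ) := by exact_mod_cast hN1
  have hS2 : ((∑ χ ∈ R, Cfsg.charDegree χ ^ 2 : ℕ) : ℚ) ≤ (g : ℚ) - 1 := by
    have : ((∑ χ ∈ R, Cfsg.charDegree χ ^ 2 : ℕ) : ℚ) + 1 ≤ (g : ℚ) := by exact_mod_cast hN2
    linarith
  have hr : (R.card : ℚ) ≤ (I.card : ℚ) - 1 := by
    have : (R.card : ℚ) + 1 ≤ (I.card : ℚ) := by exact_mod_cast hN4
    linarith
  have hCSq : ((∑ χ ∈ R, Cfsg.charDegree χ : ℕ) : ℚ) ^ 2
      ≤ (R.card : ℚ) * ((∑ χ ∈ R, Cfsg.charDegree χ ^ 2 : ℕ) : ℚ) := by exact_mod_cast hCS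
  constructor
  · -- (a)
    by_contra hcon
    push Not at hcon
    have hc : ∀ x : G, (Nat.card (Subgroup.centralizer ({x} : Set G)) : ℚ)
        * ((Subgroup.centralizer ({x} : Set G)).index : ℚ) = (g : ℚ) := by
      intro x
      have := (Subgroup.centralizer ({x} : Set G)).card_mul_index
      exact_mod_cast this
    have hcpos : ∀ x : G, (0 : ℚ) < (Nat.card (Subgroup.centralizer ({x} : Set G)) : ℚ) := by
      intro x
      exact_mod_cast Nat.card_pos
    have hterm : ∀ x ∈ (Finset.univ : Finset G).erase 1,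
        (((g : ℚ) - 1) / t) ^ 2 * (Nat.card (Subgroup.centralizer ({x} : Set G)) : ℚ) < (g : ℚ) := by
      intro x hx
      have hx1 : x ≠ 1 := Finset.ne_of_mem_erase hx
      have h1 := hcon x hx1
      have h2 := mul_lt_mul_of_pos_right h1 (hcpos x)
      rw [mul_comm ((Subgroup.centralizer ({x} : Set G)).index : ℚ), hc x] at h2
      exact h2
    have hne : ((Finset.univ : Finset G).erase 1).Nonempty := by
      rw [← Finset.card_pos, Finset.card_erase_of_mem (Finset.mem_univ _), Finset.card_univ,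
        ← Nat.card_eq_fintype_card]
      omega
    have hsum := Finset.sum_lt_sum_of_nonempty hne hterm
    rw [← Finset.mul_sum, Finset.sum_const, Finset.card_erase_of_mem (Finset.mem_univ _),
      Finset.card_univ, ← Nat.card_eq_fintype_card, nsmul_eq_mul] at hsum
    have hc1 : Nat.card (Subgroup.centralizer ({(1 : G)} : Set G)) = g := by
      have : Subgroup.centralizer ({(1 : G)} : Set G) = ⊤ := by
        ext x
        simp [Subgroup.mem_centralizer_singleton_iff]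
      rw [this]
      exact Subgroup.card_top
    have htot := sum_card_centralizer (G := G)
    rw [← Finset.add_sum_erase _ _ (Finset.mem_univ (1 : G)), hc1] at htot
    have htot' : (∑ x ∈ (Finset.univ : Finset G).erase 1,
        (Nat.card (Subgroup.centralizer ({x} : Set G)) : ℚ)) = ((I.card : ℚ) - 1) * (g : ℚ) := by
      have : (g : ℚ) + (∑ x ∈ (Finset.univ : Finset G).erase 1,
          (Nat.card (Subgroup.centralizer ({x} : Set G)) : ℚ)) = (I.card : ℚ) * (g : ℚ) := by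
        exact_mod_cast htot
      linarith
    rw [htot'] at hsum
    have hcast : ((Nat.card G - 1 : ℕ) : ℚ) = (g : ℚ) - 1 := by
      rw [Nat.cast_sub (by omega)]
      simp [hg]
    rw [hcast] at hsum
    have hgpos : (0 : ℚ) < (g : ℚ) := by linarith
    have h2 : (((g : ℚ) - 1) / t) ^ 2 * ((I.card : ℚ) - 1) < (g : ℚ) - 1 := by
      have : (((g : ℚ) - 1) / t) ^ 2 * ((I.card : ℚ) - 1) * (g : ℚ) < ((g : ℚ) - 1) * (g : ℚ) := by
        rw [mul_assoc]; exact hsum
      exact lt_of_mul_lt_mul_right this hgpos.le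
    have h3 : ((g : ℚ) - 1) * ((I.card : ℚ) - 1) < (t : ℚ) ^ 2 := by
      have hα2 : (((g : ℚ) - 1) / t) ^ 2 * (t : ℚ) ^ 2 = ((g : ℚ) - 1) ^ 2 := by
        field_simp
      have ht2 : (0 : ℚ) < (t : ℚ) ^ 2 := by positivity
      have h4 := mul_lt_mul_of_pos_right h2 ht2
      have h5 : ((g : ℚ) - 1) * (((g : ℚ) - 1) * ((I.card : ℚ) - 1))
          < ((g : ℚ) - 1) * (t : ℚ) ^ 2 := by
        calc ((g : ℚ) - 1) * (((g : ℚ) - 1) * ((I.card : ℚ) - 1))
            = ((g : ℚ) - 1) ^ 2 * ((I.card : ℚ) - 1) := by ring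
          _ = (((g : ℚ) - 1) / t) ^ 2 * ((I.card : ℚ) - 1) * (t : ℚ) ^ 2 := by rw [← hα2]; ring
          _ < ((g : ℚ) - 1) * (t : ℚ) ^ 2 := h4
      exact lt_of_mul_lt_mul_left h5 (by linarith)
    have h6 : (t : ℚ) ^ 2 ≤ ((g : ℚ) - 1) * ((I.card : ℚ) - 1) := by
      have hS1nn : (0 : ℚ) ≤ (t : ℚ) := htq.le
      have h7 : (t : ℚ) ^ 2 ≤ ((∑ χ ∈ R, Cfsg.charDegree χ : ℕ) : ℚ) ^ 2 :=
        pow_le_pow_left₀ hS1nn hS1 2
      have hS2nn : (0 : ℚ) ≤ ((∑ χ ∈ R, Cfsg.charDegree χ ^ 2 : ℕ) : ℚ) := Nat.cast_nonneg _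
      have hrnn : (0 : ℚ) ≤ (R.card : ℚ) := Nat.cast_nonneg _
      have h8 : (R.card : ℚ) * ((∑ χ ∈ R, Cfsg.charDegree χ ^ 2 : ℕ) : ℚ)
          ≤ ((I.card : ℚ) - 1) * ((g : ℚ) - 1) :=
        mul_le_mul hr hS2 hS2nn (by linarith)
      linarith
    linarith
  · -- (b)
    by_contra hcon
    push Not at hcon
    have hRne : R.Nonempty := by
      by_contra hemp
      rw [Finset.not_nonempty_iff_eq_empty] at hemp
      rw [hemp, Finset.sum_empty] at hN1
      omega
    have hterm : ∀ χ ∈ R, ((g : ℚ) - 1) / t * (Cfsg.charDegree χ : ℚ)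
        < (Cfsg.charDegree χ : ℚ) ^ 2 := by
      intro χ hχ
      have hχ' := Finset.mem_filter.mp hχ
      have hχI : χ ∈ I := Finset.mem_of_mem_erase hχ'.1
      have hχne : χ ≠ triv := Finset.ne_of_mem_erase hχ'.1
      have hreal : ∀ x : G, (χ x).im = 0 := by
        intro x
        have := congrFun hχ'.2 x
        exact Complex.conj_eq_iff_im.mp this
      have h1 := hcon ⟨χ, mem_irrFinset.mp hχI⟩ hχne hreal
      have hpos : (0 : ℚ) < (Cfsg.charDegree χ : ℚ) := by exact_mod_cast hdegpos χ hχI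
      rw [pow_two]
      exact mul_lt_mul_of_pos_right h1 hpos
    have hsum := Finset.sum_lt_sum_of_nonempty hRne hterm
    rw [← Finset.mul_sum] at hsum
    have h2 : ((g : ℚ) - 1) / t * (t : ℚ) = (g : ℚ) - 1 := by field_simp
    have h3 : ((g : ℚ) - 1) / t * (t : ℚ)
        ≤ ((g : ℚ) - 1) / t * ∑ χ ∈ R, (Cfsg.charDegree χ : ℚ) := by
      apply mul_le_mul_of_nonneg_left _ hα.le
      have := hS1
      push_cast at this
      exact this
    have h4 : ∑ χ ∈ R, (Cfsg.charDegree χ : ℚ) ^ 2 ≤ (g : ℚ) - 1 := by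
      have := hS2
      push_cast at this
      exact this
    linarith

end Cfsg.Agent.S4476
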