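import Cfsg.Statements.S4478
import Cfsg.Agent.Lib.Helper2_ClassFn
import Cfsg.Agent.Lib.Helper2_CharBasic
import Cfsg.Agent.Lib.Helper2_CharOrtho
import Cfsg.Agent.Lib.Helper2_Clifford
import Cfsg.Agent.Lib.Helper2_CharMore
import Cfsg.Agent.Lib.Helper2_CharNorm
import Cfsg.Agent.Lib.Helper2_CharValues
import Cfsg.Agent.Lib.Helper2_CharComplete
import Cfsg.Agent.Lib.Helper2_CharInd
import Cfsg.Agent.Lib.Helper2_CharTable
import Cfsg.Agent.Lib.Helper2_CharFrob
import Cfsg.Agent.Lib.Helper2_CharDeg
import Cfsg.Agent.Lib.Helper2_CharSum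
import Cfsg.Agent.Lib.Helper2_CharExtra
import Cfsg.Agent.Lib.Helper2_CharCentral
import Cfsg.Agent.Lib.Helper2_PermChar
import Cfsg.Agent.Lib.Helper2_FrobSchur
import Cfsg.Agent.Lib.Helper2_CliffordCorr
import Cfsg.Agent.Lib.Helper2_CharKernel
import Cfsg.Agent.Lib.Helper2_CyclicTI
import Cfsg.Agent.Lib.Helper2_CharGalois
import Cfsg.Agent.Lib.Helper2_CharInt
import Cfsg.Agent.Lib.Helper2_CharBurnside
import Cfsg.Agent.Lib.Helper2_CharCenter
import Cfsg.Agent.Lib.Helper2_Ito
import Cfsg.Agent.Lib.Helper2_Gallagher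
import Cfsg.Agent.Lib.Helper2_Artin
import Cfsg.Agent.Lib.Helper2_MGroup
import Cfsg.Agent.Lib.Helper2_RepEquiv
import Cfsg.Agent.Lib.Helper2_CyclicExt
import Cfsg.Agent.Lib.Helper2_Extraspecial
import Cfsg.Agent.Lib.Helper2_ProjLift
import Cfsg.Agent.Lib.Helper2_CentralExt
import Cfsg.Agent.Lib.Helper2_SylowExt
import Cfsg.Agent.Lib.Helper2_DetChar
import Cfsg.Agent.Lib.Helper2_LinExt
import Cfsg.Agent.Lib.Helper2_DetExt
import Cfsg.Agent.Lib.Helper2_GallagherExt
import Cfsg.Agent.Lib.Helper2_PermInd
import Cfsg.Agent.Lib.Helper2_QuasiElem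
import Cfsg.Agent.Lib.Helper2_BrauerInd
import Cfsg.Agent.Lib.Helper2_BrauerThm
import Cfsg.Agent.Lib.Helper2_NilDecomp
import Cfsg.Agent.Lib.Helper2_DefectZero
import Cfsg.Agent.Lib.Helper2_CharGalois2
import Cfsg.Agent.Lib.Helper2_CosetAvg
import Cfsg.Agent.Lib.Helper2_Thompson

set_option autoImplicit false
open Cfsg

namespace Cfsg.Agent.S4478

open Cfsg.Agent.Lib.Helper2_ClassFn Cfsg.Agent.Lib.Helper2_CharBasic Cfsg.Agent.Lib.Helper2_CharOrtho Cfsg.Agent.Lib.Helper2_Clifford Cfsg.Agent.Lib.Helper2_CharMore Cfsg.Agent.Lib.Helper2_CharNorm Cfsg.Agent.Lib.Helper2_CharValues Cfsg.Agent.Lib.Helper2_CharComplete Cfsg.Agent.Lib.Helper2_CharInd Cfsg.Agent.Lib.Helper2_CharTable Cfsg.Agent.Lib.Helper2_CharFrob Cfsg.Agent.Lib.Helper2_CharDeg Cfsg.Agent.Lib.Helper2_CharSum Cfsg.Agent.Lib.Helper2_CharExtra Cfsg.Agent.Lib.Helper2_CharCentral Cfsg.Agent.Lib.Helper2_PermChar Cfsg.Agent.Lib.Helper2_FrobSchur Cfsg.Agent.Lib.Helper2_CliffordCorr Cfsg.Agent.Lib.Helper2_CharKernel Cfsg.Agent.Lib.Helper2_CyclicTI Cfsg.Agent.Lib.Helper2_CharGalois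 Cfsg.Agent.Lib.Helper2_CharInt Cfsg.Agent.Lib.Helper2_CharBurnside Cfsg.Agent.Lib.Helper2_CharCenter Cfsg.Agent.Lib.Helper2_Ito Cfsg.Agent.Lib.Helper2_Gallagher Cfsg.Agent.Lib.Helper2_Artin Cfsg.Agent.Lib.Helper2_MGroup Cfsg.Agent.Lib.Helper2_RepEquiv Cfsg.Agent.Lib.Helper2_CyclicExt Cfsg.Agent.Lib.Helper2_Extraspecial Cfsg.Agent.Lib.Helper2_ProjLift Cfsg.Agent.Lib.Helper2_CentralExt Cfsg.Agent.Lib.Helper2_SylowExt Cfsg.Agent.Lib.Helper2_DetChar Cfsg.Agent.Lib.Helper2_LinExt Cfsg.Agent.Lib.Helper2_DetExt Cfsg.Agent.Lib.Helper2_GallagherExt Cfsg.Agent.Lib.Helper2_PermInd Cfsg.Agent.Lib.Helper2_QuasiElem Cfsg.Agent.Lib.Helper2_BrauerInd Cfsg.Agent.Lib.Helper2_BrauerThm Cfsg.Agent.Lib.Helper2_NilDecomp Cfsg.Agent.Lib.Helper2_DefectZero Cfsg.Agent.Lib.Helper2_CharGalois2 Cfsg.Agent.Lib.Helper2_CosetAvg Cfsg.Agent.Lib.Helper2_Thompson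
open scoped Pointwise
open scoped ComplexConjugate

/-- An involution commuting with an element whose order is divisible by an odd prime `q` gives an
element of order `2 q`. -/
theorem exists_order_two_mul {G : Type*} [Group G] [Finite G] (s y : G) (hs : orderOf s = 2)
    (hc : Commute s y) (q : ℕ) (hq : q.Prime) (hq2 : q ≠ 2) (hqy : q ∣ orderOf y) :
    ∃ g : G, orderOf g = 2 * q := by
  have hz : orderOf (y ^ (orderOf y / q)) = q :=
    orderOf_pow_orderOf_div (orderOf_pos y).ne' hqy
  have hcz : Commute s (y ^ (orderOf y / q)) := hc.pow_right _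
  refine ⟨s * y ^ (orderOf y / q), ?_⟩
  rw [hcz.orderOf_mul_eq_mul_orderOf_of_coprime, hs, hz]
  rw [hs, hz]
  exact (Nat.coprime_primes Nat.prime_two hq).mpr (Ne.symm hq2)


/-- Let G be a finite group of even order and χ an irreducible character of G whose degree x is divisible by the full power of 2 dividing the order of G and, for every odd prime p such that G has an element of order 2p, by the full power of p dividing the order of G. Then all involutions of G are conjugate, the centralizer of every involution has order exactly x with x coprime to its index, and the Frobenius–Schur indicator of χ equals 1. -/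
theorem result {G : Type*} [Group G] [Fintype G] (heven : Even (Nat.card G)) (χ : Cfsg.IrrCharacter G) (h2 : 2 ^ (Nat.card G).factorization 2 ∣ Cfsg.charDegree (χ : G → ℂ)) (hp : ∀ p : ℕ, p.Prime → p ≠ 2 → (∃ g : G, orderOf g = 2 * p) → p ^ (Nat.card G).factorization p ∣ Cfsg.charDegree (χ : G → ℂ)) : (∀ s t : G, orderOf s = 2 → orderOf t = 2 → IsConj s t) ∧ (∀ s : G, orderOf s = 2 → Nat.card (Subgroup.centralizer ({s} : Set G)) = Cfsg.charDegree (χ : G → ℂ) ∧ (Nat.card (Subgroup.centralizer ({s} : Set G))).Coprime (Subgroup.centralizer ({s} : Set G)).index) ∧ (Nat.card G : ℂ)⁻¹ * ∑ g : G, (χ : G → ℂ) (g * g) = 1 := by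
  classical
  haveI : Fact (Nat.Prime 2) := ⟨Nat.prime_two⟩
  obtain ⟨χ, hχ⟩ := χ
  simp only at h2 hp ⊢
  have hχc := IsIrrCharacter.isCharacter hχ
  have hχcf := IsCharacter.isClassFunction hχc
  obtain ⟨x, hx0, hx⟩ := IsIrrCharacter.apply_one hχ
  rw [charDegree_eq hx] at h2 hp ⊢
  have hG0 : Nat.card G ≠ 0 := Nat.card_pos.ne'
  have hGc : (Nat.card G : ℂ) ≠ 0 := card_ne_zero_complex
  -- vanishing
  have hvan : ∀ (y : G) (p : ℕ), p.Prime → (p = 2 ∨ ∃ g : G, orderOf g = 2 * p) →
      p ∣ orderOf y → χ y = 0 := by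
    intro y p hpp hπ hpy
    have hdvd : p ^ (Nat.card G).factorization p ∣ x := by
      by_cases hp2 : p = 2
      · rw [hp2]; exact h2
      · rcases hπ with h | h
        · exact absurd h hp2
        · exact hp p hpp hp2 h
    exact vanish_of_defect_zero hχ p _ hpp (Nat.ordProj_dvd _ _)
      (Nat.pow_succ_factorization_not_dvd hG0 hpp) x hx hdvd y hpy
  -- elements of the centralizer of an involution
  have hvanC : ∀ s : G, orderOf s = 2 → ∀ y : G, Commute s y → y ≠ 1 → χ y = 0 := by
    intro s hs y hc hy1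
    have hoy : orderOf y ≠ 1 := by
      rw [Ne, orderOf_eq_one_iff]; exact hy1
    obtain ⟨q, hq, hqy⟩ := Nat.exists_prime_and_dvd hoy
    by_cases hq2 : q = 2
    · exact hvan y q hq (Or.inl hq2) hqy
    · exact hvan y q hq (Or.inr (exists_order_two_mul s y hs hc q hq hq2 hqy)) hqy
  -- |C(s)| divides x
  have hCdvd : ∀ s : G, orderOf s = 2 → Nat.card (Subgroup.centralizer ({s} : Set G)) ∣ x := by
    intro s hs
    set C := Subgroup.centralizer ({s} : Set G) with hC
    have hχC : IsCharacter C (fun c : C => χ c) := IsCharacter.restrict hχc C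
    obtain ⟨n, hn⟩ := IsCharacter.classInner_nat hχC (isCharacter_one (G := C))
    rw [classInner_def] at hn
    have hsum : ∑ c : C, (fun c : C => χ c) c * conj ((fun _ : C => (1 : ℂ)) c) = (x : ℂ) := by
      rw [Finset.sum_eq_single (1 : C)]
      · simp [hx]
      · intro c _ hc1
        have hcomm : Commute s (c : G) := by
          have h1 : (c : G) ∈ Subgroup.centralizer ({s} : Set G) := c.2
          rw [Subgroup.mem_centralizer_singleton_iff] at h1
          exact h1.symm
        have : (c : G) ≠ 1 := fun h => hc1 (Subtype.ext h)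
        simp [hvanC s hs c hcomm this]
      · intro h; exact absurd (Finset.mem_univ _) h
    rw [hsum] at hn
    have hCc : (Nat.card C : ℂ) ≠ 0 := card_ne_zero_complex
    have : (x : ℂ) = ((n * Nat.card C : ℕ) : ℂ) := by
      push_cast
      field_simp at hn
      rw [hn]; ring
    have h3 : x = n * Nat.card C := by exact_mod_cast this
    exact Dvd.intro_left n h3.symm
  -- χ is not principal
  have hxeven : 2 ∣ x := by
    have h1 : 1 ≤ (Nat.card G).factorization 2 :=
      (Nat.Prime.dvd_iff_one_le_factorization Nat.prime_two hG0).mp heven.two_dvd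
    exact (dvd_pow_self 2 (by omega)).trans h2
  have hsum0 : ∑ h : G, χ h = 0 := by
    have hne : χ ≠ (fun _ => (1 : ℂ)) := by
      intro h
      have := congrFun h 1
      rw [hx] at this
      have hx1 : x = 1 := by exact_mod_cast this
      omega
    have := classInner_irr hχ (isIrrCharacter_one (G := G))
    rw [if_neg hne, classInner_def] at this
    simp only [map_one, mul_one] at this
    rcases mul_eq_zero.mp this with h | h
    · exact absurd (inv_eq_zero.mp h) hGc
    · exact h
  -- even order elements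
  have hvanEven : ∀ h : G, ¬ Odd (orderOf h) → χ h = 0 := by
    intro h hodd
    have : Even (orderOf h) := Nat.not_odd_iff_even.mp hodd
    exact hvan h 2 Nat.prime_two (Or.inl rfl) this.two_dvd
  have hvanSq : ∀ g : G, ¬ Odd (orderOf g) → g * g ≠ 1 → χ (g * g) = 0 := by
    intro g hodd hne
    have hev : 2 ∣ orderOf g := (Nat.not_odd_iff_even.mp hodd).two_dvd
    have hu : orderOf (g ^ (orderOf g / 2)) = 2 :=
      orderOf_pow_orderOf_div (orderOf_pos g).ne' hev
    have hc : Commute (g ^ (orderOf g / 2)) (g * g) :=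
      ((Commute.refl g).mul_right (Commute.refl g)).pow_left _
    exact hvanC _ hu _ hc hne
  -- the odd part
  have hoddsum : ∑ g ∈ Finset.univ.filter (fun g : G => Odd (orderOf g)), χ (g * g) = 0 := by
    have hbij : ∑ g ∈ Finset.univ.filter (fun g : G => Odd (orderOf g)), χ (g * g)
        = ∑ h ∈ Finset.univ.filter (fun g : G => Odd (orderOf g)), χ h := by
      apply Finset.sum_nbij' (fun g => g * g) (fun h => h ^ ((orderOf h + 1) / 2))
      · intro g hg
        simp only [Finset.mem_filter, Finset.mem_univ, true_and] at hg ⊢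
        have hco : (orderOf g).Coprime 2 := Nat.Coprime.symm (Nat.coprime_two_left.mpr hg)
        rw [← pow_two, hco.orderOf_pow]
        exact hg
      · intro h hh
        simp only [Finset.mem_filter, Finset.mem_univ, true_and] at hh ⊢
        exact Odd.of_dvd_nat hh (orderOf_pow_dvd _)
      · intro g hg
        simp only [Finset.mem_filter, Finset.mem_univ, true_and] at hg
        have hco : (orderOf g).Coprime 2 := Nat.Coprime.symm (Nat.coprime_two_left.mpr hg)
        rw [← pow_two, hco.orderOf_pow, ← pow_mul]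
        obtain ⟨k, hk⟩ := hg
        have : 2 * ((orderOf g + 1) / 2) = orderOf g + 1 := by omega
        rw [this, pow_succ, pow_orderOf_eq_one, one_mul]
      · intro h hh
        simp only [Finset.mem_filter, Finset.mem_univ, true_and] at hh
        rw [← pow_add]
        obtain ⟨k, hk⟩ := hh
        have : (orderOf h + 1) / 2 + (orderOf h + 1) / 2 = orderOf h + 1 := by omega
        rw [this, pow_succ, pow_orderOf_eq_one, one_mul]
      · intro g _; rfl
    rw [hbij]
    have h1 := Finset.sum_filter_add_sum_filter_not Finset.univ (fun g : G => Odd (orderOf g)) χ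
    rw [hsum0] at h1
    have h2' : ∑ h ∈ Finset.univ.filter (fun g : G => ¬ Odd (orderOf g)), χ h = 0 :=
      Finset.sum_eq_zero (fun h hh => hvanEven h (Finset.mem_filter.mp hh).2)
    rw [h2', add_zero] at h1
    exact h1
  set T := Finset.univ.filter (fun g : G => orderOf g = 2) with hT
  have hevensum : ∑ g ∈ Finset.univ.filter (fun g : G => ¬ Odd (orderOf g)), χ (g * g)
      = (T.card : ℂ) * x := by
    have h1 : ∀ g ∈ Finset.univ.filter (fun g : G => ¬ Odd (orderOf g)),
        χ (g * g) = if orderOf g = 2 then (x : ℂ) else 0 := by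
      intro g hg
      have hodd := (Finset.mem_filter.mp hg).2
      by_cases hgg : g * g = 1
      · have hdvd : orderOf g ∣ 2 := by
          rw [orderOf_dvd_iff_pow_eq_one, pow_two]; exact hgg
        have h2' : orderOf g = 2 := by
          rcases (Nat.dvd_prime Nat.prime_two).mp hdvd with h | h
          · exfalso; apply hodd; rw [h]; exact odd_one
          · exact h
        rw [if_pos h2', hgg, hx]
      · have h2' : orderOf g ≠ 2 := by
          intro h
          apply hgg
          rw [← pow_two, ← h, pow_orderOf_eq_one]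
        rw [if_neg h2']
        exact hvanSq g hodd hgg
    rw [Finset.sum_congr rfl h1, ← Finset.sum_filter, Finset.filter_filter]
    have h3 : Finset.univ.filter (fun g : G => ¬ Odd (orderOf g) ∧ orderOf g = 2) = T := by
      ext g
      simp only [Finset.mem_filter, Finset.mem_univ, true_and, hT]
      constructor
      · exact fun h => h.2
      · intro h
        refine ⟨?_, h⟩
        rw [h]; decide
    rw [h3, Finset.sum_const, nsmul_eq_mul]
  have hall : ∑ g : G, χ (g * g) = (T.card : ℂ) * x := by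
    rw [← Finset.sum_filter_add_sum_filter_not Finset.univ (fun g : G => Odd (orderOf g)),
      hoddsum, zero_add, hevensum]
  have hTpos : 0 < T.card := by
    obtain ⟨s, hs⟩ := exists_prime_orderOf_dvd_card' 2 heven.two_dvd
    exact Finset.card_pos.mpr ⟨s, by simp [hT, hs]⟩
  -- indicator
  have hν : (Nat.card G : ℂ)⁻¹ * ∑ g : G, χ (g * g) = 1 := by
    have hpos : (0 : ℝ) < (T.card : ℝ) * x / Nat.card G := by
      have h1 : (0 : ℝ) < (T.card : ℝ) := by exact_mod_cast hTpos
      have h2' : (0 : ℝ) < (x : ℝ) := by exact_mod_cast hx0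
      have h3 : (0 : ℝ) < (Nat.card G : ℝ) := by exact_mod_cast Nat.card_pos
      positivity
    have hval : (Nat.card G : ℂ)⁻¹ * ∑ g : G, χ (g * g)
        = (((T.card : ℝ) * x / Nat.card G : ℝ) : ℂ) := by
      rw [hall]; push_cast; field_simp
    rcases indicator_cases hχ with ⟨-, h0⟩ | ⟨-, h1 | h1⟩
    · exfalso
      rw [hval] at h0
      have : ((T.card : ℝ) * x / Nat.card G : ℝ) = 0 := by exact_mod_cast h0
      linarith
    · exact h1
    · exfalso
      rw [hval] at h1
      have : ((T.card : ℝ) * x / Nat.card G : ℝ) = -1 := by exact_mod_cast h1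
      linarith
  have htx : T.card * x = Nat.card G := by
    rw [hall] at hν
    have : ((T.card * x : ℕ) : ℂ) = (Nat.card G : ℂ) := by
      push_cast
      field_simp at hν
      exact hν
    exact_mod_cast this
  -- classes of involutions
  have hcl : ∀ s : G, orderOf s = 2 →
      Finset.univ.filter (fun y : G => IsConj y s) = T ∧
        Nat.card (Subgroup.centralizer ({s} : Set G)) = x := by
    intro s hs
    have hsub : Finset.univ.filter (fun y : G => IsConj y s) ⊆ T := by
      intro y hy
      have hc := (Finset.mem_filter.mp hy).2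
      obtain ⟨c, hc'⟩ := isConj_iff.mp hc
      rw [hT, Finset.mem_filter]
      refine ⟨Finset.mem_univ _, ?_⟩
      have : orderOf (c * y * c⁻¹) = orderOf y := by
        simpa [MulAut.conj_apply] using (MulAut.conj c).orderOf_eq y
      rw [← this, hc', hs]
    have hle1 := Finset.card_le_card hsub
    have hmul := card_class_mul_card_centralizer s
    have hle2 : Nat.card (Subgroup.centralizer ({s} : Set G)) ≤ x :=
      Nat.le_of_dvd hx0 (hCdvd s hs)
    have hCpos : 0 < Nat.card (Subgroup.centralizer ({s} : Set G)) := Nat.card_pos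
    rw [← htx] at hmul
    have hCx : Nat.card (Subgroup.centralizer ({s} : Set G)) = x := by
      by_contra hne
      have hlt : Nat.card (Subgroup.centralizer ({s} : Set G)) < x := lt_of_le_of_ne hle2 hne
      have h1 : (Finset.univ.filter (fun y : G => IsConj y s)).card
          * Nat.card (Subgroup.centralizer ({s} : Set G))
          ≤ T.card * Nat.card (Subgroup.centralizer ({s} : Set G)) :=
        Nat.mul_le_mul_right _ hle1
      have h2' : T.card * Nat.card (Subgroup.centralizer ({s} : Set G)) < T.card * x :=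
        Nat.mul_lt_mul_of_pos_left hlt hTpos
      omega
    refine ⟨?_, hCx⟩
    apply Finset.eq_of_subset_of_card_le hsub
    rw [hCx] at hmul
    exact (Nat.eq_of_mul_eq_mul_right hx0 hmul).ge
  refine ⟨?_, ?_, hν⟩
  · intro s t' hs ht'
    have h1 := (hcl t' ht').1
    have hsT : s ∈ T := by simp [hT, hs]
    rw [← h1] at hsT
    exact (Finset.mem_filter.mp hsT).2
  · intro s hs
    obtain ⟨hcls, hCx⟩ := hcl s hs
    refine ⟨hCx, ?_⟩
    have hidx : (Subgroup.centralizer ({s} : Set G)).index = T.card := by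
      have h1 := (Subgroup.centralizer ({s} : Set G)).card_mul_index
      rw [hCx, ← htx, mul_comm] at h1
      exact Nat.eq_of_mul_eq_mul_right hx0 h1
    rw [hCx, hidx]
    apply Nat.coprime_of_dvd
    intro q hq hqx hqt
    have hqC : q ∣ Nat.card (Subgroup.centralizer ({s} : Set G)) := by rw [hCx]; exact hqx
    haveI : Fact q.Prime := ⟨hq⟩
    obtain ⟨z, hz⟩ := exists_prime_orderOf_dvd_card' q hqC
    have hzG : orderOf (z : G) = q := by rw [Subgroup.orderOf_coe]; exact hz
    have hcomm : Commute s (z : G) := by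
      have h1 : (z : G) ∈ Subgroup.centralizer ({s} : Set G) := z.2
      rw [Subgroup.mem_centralizer_singleton_iff] at h1
      exact h1.symm
    have hdvd : q ^ (Nat.card G).factorization q ∣ x := by
      by_cases hq2 : q = 2
      · rw [hq2]; exact h2
      · exact hp q hq hq2 (exists_order_two_mul s z hs hcomm q hq hq2 (by rw [hzG]))
    have hbad : q ^ ((Nat.card G).factorization q + 1) ∣ Nat.card G := by
      have h1 : q ^ ((Nat.card G).factorization q + 1) ∣ x * T.card := by
        rw [pow_succ]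
        exact Nat.mul_dvd_mul hdvd hqt
      rwa [mul_comm, htx] at h1
    exact Nat.pow_succ_factorization_not_dvd hG0 hq hbad

end Cfsg.Agent.S4478
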