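import Cfsg.Statements.S4518
import Cfsg.Agent.Lib.Helper2_ClassFn
import Cfsg.Agent.Lib.Helper2_CharBasic
import Cfsg.Agent.Lib.Helper2_CharOrtho
import Cfsg.Agent.Lib.Helper2_Clifford
import Cfsg.Agent.Lib.Helper2_CharMore
import Cfsg.Agent.Lib.Helper2_CharNorm
import Cfsg.Agent.Lib.Helper2_CharValues
import Cfsg.Agent.Lib.Helper2_CharComplete
import Cfsg.Agent.Lib.Helper2_CharInd
import Cfsg.Agent.Lib.Helper2_CharTable
import Cfsg.Agent.Lib.Helper2_CharFrob
import Cfsg.Agent.Lib.Helper2_CharDeg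
import Cfsg.Agent.Lib.Helper2_CharSum
import Cfsg.Agent.Lib.Helper2_CharExtra
import Cfsg.Agent.Lib.Helper2_CharCentral
import Cfsg.Agent.Lib.Helper2_PermChar
import Cfsg.Agent.Lib.Helper2_FrobSchur
import Cfsg.Agent.Lib.Helper2_CliffordCorr
import Cfsg.Agent.Lib.Helper2_CharKernel
import Cfsg.Agent.Lib.Helper2_CyclicTI
import Cfsg.Agent.Lib.Helper2_CharGalois
import Cfsg.Agent.Lib.Helper2_CharInt
import Cfsg.Agent.Lib.Helper2_CharBurnside
import Cfsg.Agent.Lib.Helper2_CharCenter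
import Cfsg.Agent.Lib.Helper2_Ito
import Cfsg.Agent.Lib.Helper2_Gallagher
import Cfsg.Agent.Lib.Helper2_Artin
import Cfsg.Agent.Lib.Helper2_MGroup
import Cfsg.Agent.Lib.Helper2_RepEquiv
import Cfsg.Agent.Lib.Helper2_CyclicExt
import Cfsg.Agent.Lib.Helper2_Extraspecial
import Cfsg.Agent.Lib.Helper2_ProjLift
import Cfsg.Agent.Lib.Helper2_CentralExt
import Cfsg.Agent.Lib.Helper2_SylowExt
import Cfsg.Agent.Lib.Helper2_DetChar
import Cfsg.Agent.Lib.Helper2_LinExt
import Cfsg.Agent.Lib.Helper2_DetExt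
import Cfsg.Agent.Lib.Helper2_GallagherExt
import Cfsg.Agent.Lib.Helper2_PermInd
import Cfsg.Agent.Lib.Helper2_QuasiElem
import Cfsg.Agent.Lib.Helper2_BrauerInd
import Cfsg.Agent.Lib.Helper2_BrauerThm
import Cfsg.Agent.Lib.Helper2_NilDecomp
import Cfsg.Agent.Lib.Helper2_DefectZero
import Cfsg.Agent.Lib.Helper2_CharGalois2
import Cfsg.Agent.Lib.Helper2_CosetAvg
import Cfsg.Agent.Lib.Helper2_Thompson
import Cfsg.Agent.Lib.Helper2_ItoSolv
import Cfsg.Agent.Lib.Helper2_ItoPSolv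
import Cfsg.Agent.Lib.Helper2_GaloisConj

set_option autoImplicit false
open Cfsg

namespace Cfsg.Agent.S4518

open Cfsg.Agent.Lib.Helper2_ClassFn Cfsg.Agent.Lib.Helper2_CharBasic Cfsg.Agent.Lib.Helper2_CharOrtho Cfsg.Agent.Lib.Helper2_Clifford Cfsg.Agent.Lib.Helper2_CharMore Cfsg.Agent.Lib.Helper2_CharNorm Cfsg.Agent.Lib.Helper2_CharValues Cfsg.Agent.Lib.Helper2_CharComplete Cfsg.Agent.Lib.Helper2_CharInd Cfsg.Agent.Lib.Helper2_CharTable Cfsg.Agent.Lib.Helper2_CharFrob Cfsg.Agent.Lib.Helper2_CharDeg Cfsg.Agent.Lib.Helper2_CharSum Cfsg.Agent.Lib.Helper2_CharExtra Cfsg.Agent.Lib.Helper2_CharCentral Cfsg.Agent.Lib.Helper2_PermChar Cfsg.Agent.Lib.Helper2_FrobSchur Cfsg.Agent.Lib.Helper2_CliffordCorr Cfsg.Agent.Lib.Helper2_CharKernel Cfsg.Agent.Lib.Helper2_CyclicTI Cfsg.Agent.Lib.Helper2_CharGalois Cfsg.Agent.Lib.Helper2_CharInt Cfsg.Agent.Lib.Helper2_CharBurnside Cfsg.Agent.Lib.Helper2_CharCenter Cfsg.Agent.Lib.Helper2_Ito Cfsg.Agent.Lib.Helper2_Gallagher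 Cfsg.Agent.Lib.Helper2_Artin Cfsg.Agent.Lib.Helper2_MGroup Cfsg.Agent.Lib.Helper2_RepEquiv Cfsg.Agent.Lib.Helper2_CyclicExt Cfsg.Agent.Lib.Helper2_Extraspecial Cfsg.Agent.Lib.Helper2_ProjLift Cfsg.Agent.Lib.Helper2_CentralExt Cfsg.Agent.Lib.Helper2_SylowExt Cfsg.Agent.Lib.Helper2_DetChar Cfsg.Agent.Lib.Helper2_LinExt Cfsg.Agent.Lib.Helper2_DetExt Cfsg.Agent.Lib.Helper2_GallagherExt Cfsg.Agent.Lib.Helper2_PermInd Cfsg.Agent.Lib.Helper2_QuasiElem Cfsg.Agent.Lib.Helper2_BrauerInd Cfsg.Agent.Lib.Helper2_BrauerThm Cfsg.Agent.Lib.Helper2_NilDecomp Cfsg.Agent.Lib.Helper2_DefectZero Cfsg.Agent.Lib.Helper2_CharGalois2 Cfsg.Agent.Lib.Helper2_CosetAvg Cfsg.Agent.Lib.Helper2_Thompson Cfsg.Agent.Lib.Helper2_ItoSolv Cfsg.Agent.Lib.Helper2_ItoPSolv Cfsg.Agent.Lib.Helper2_GaloisConj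
open scoped Pointwise
open Cfsg.Agent.Lib.Helper2_Thompson in
theorem galois_fixed_constituent {G : Type*} [Group G] [Fintype G] (p : ℕ) [Fact p.Prime]
    (N : Subgroup G) [hN : N.Normal] [Fintype N] (hidx : ¬ p ∣ N.index) (k e : ℕ)
    (hk : Nat.Coprime k (Nat.card G)) (hke : k ^ (p ^ e) ≡ 1 [MOD Nat.card G])
    (χ : G → ℂ) (hχi : IsIrrCharacter G χ)
    (hχ : ∀ g : G, χ (g ^ k) = χ g) (θ : IrrCharacter N)
    (hθ : Cfsg.classInner (fun n : N => χ n) (θ : N → ℂ) ≠ 0) :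
    powFn k θ.1 = θ.1 := by
  classical
  letI := irrAction N
  haveI : Fintype (IrrCharacter N) := Fintype.ofFinite _
  have hkN : k.Coprime (Nat.card N) :=
    Nat.Coprime.coprime_dvd_right (Subgroup.card_subgroup_dvd_card N) hk
  let σ : IrrCharacter N → IrrCharacter N :=
    fun θ' => ⟨powFn k θ'.1, powFn_isIrrCharacter k hkN θ'.2⟩
  have hcomm : ∀ (g : G) (θ' : IrrCharacter N), σ (g • θ') = g • σ θ' := by
    intro g θ'
    apply Subtype.ext
    change powFn k (conjFn N θ'.1 g⁻¹) = conjFn N (powFn k θ'.1) g⁻¹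
    ext n
    rw [powFn_apply, conjFn_apply, conjFn_apply, powFn_apply]
    apply congrArg
    apply Subtype.ext
    have := conj_pow (a := g⁻¹) (b := (n : G)) (i := k)
    simpa using this.symm
  have hres : powFn k (fun n : N => χ n) = fun n : N => χ n := by
    ext n
    rw [powFn_apply]
    exact hχ n
  have hσθ : σ θ ∈ MulAction.orbit G θ := by
    have h1 : classInner (fun n : N => χ n) (σ θ).1 ≠ 0 := by
      change classInner (fun n : N => χ n) (powFn k θ.1) ≠ 0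
      rw [← hres, classInner_powFn k hkN]
      exact hθ
    obtain ⟨g, hg⟩ := clifford_conj_of_constituent N hχi θ.2 (σ θ).2 hθ h1
    refine ⟨g⁻¹, ?_⟩
    apply Subtype.ext
    change conjFn N θ.1 (g⁻¹)⁻¹ = (σ θ).1
    rw [inv_inv, hg]
  have hmem : ∀ x : MulAction.orbit G θ, σ x.1 ∈ MulAction.orbit G θ := by
    rintro ⟨x, g, rfl⟩
    change σ (g • θ) ∈ _
    rw [hcomm]
    obtain ⟨h, hh⟩ := hσθ
    rw [← hh]
    exact ⟨g * h, mul_smul g h θ⟩
  let f : Function.End (MulAction.orbit G θ) := fun x => ⟨σ x.1, hmem x⟩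
  have hiter : ∀ (j : ℕ) (x : MulAction.orbit G θ), ((f ^ j) x).1.1 = powFn (k ^ j) x.1.1 := by
    intro j
    induction j with
    | zero =>
      intro x
      ext n
      have : n ^ k ^ 0 = n := by rw [pow_zero, pow_one]
      rw [powFn_apply, this]
      rfl
    | succ j ih =>
      intro x
      rw [pow_succ', Function.End.mul_def]
      change powFn k ((f ^ j) x).1.1 = _
      rw [ih]
      ext n
      rw [powFn_apply, powFn_apply, powFn_apply, ← pow_mul, pow_succ']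
  have hpow1 : ∀ ψ : N → ℂ, powFn (k ^ p ^ e) ψ = ψ := by
    intro ψ
    ext n
    rw [powFn_apply]
    congr 1
    conv_rhs => rw [← pow_one n]
    rw [pow_eq_pow_iff_modEq]
    apply hke.of_dvd
    have h1 : orderOf n ∣ Nat.card N := orderOf_dvd_natCard n
    exact h1.trans (Subgroup.card_subgroup_dvd_card N)
  have hf : f ^ p ^ e = 1 := by
    funext x
    apply Subtype.ext
    apply Subtype.ext
    rw [hiter, hpow1]
    rfl
  have hmod := Equiv.Perm.card_fixedPoints_modEq hf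
  have hcard : ¬ p ∣ Fintype.card (MulAction.orbit G θ) := by
    intro hdvd
    apply hidx
    have h1 : (MulAction.stabilizer G θ).index = Fintype.card (MulAction.orbit G θ) := by
      rw [MulAction.index_stabilizer, ← Nat.card_coe_set_eq, Nat.card_eq_fintype_card]
    have h2 : N ≤ MulAction.stabilizer G θ := by
      intro n hn
      rw [MulAction.mem_stabilizer_iff]
      apply Subtype.ext
      change conjFn N θ.1 n⁻¹ = θ.1
      ext m
      rw [conjFn_apply]
      have := IsCharacter.isClassFunction (IsIrrCharacter.isCharacter θ.2) m ⟨n⁻¹, N.inv_mem hn⟩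
      rw [← this]
      rfl
    have h3 := Subgroup.index_dvd_of_le h2
    rw [h1] at h3
    exact hdvd.trans h3
  have hne : Fintype.card (Function.fixedPoints f) ≠ 0 := by
    intro h0
    rw [h0] at hmod
    exact hcard ((Nat.modEq_zero_iff_dvd).mp hmod)
  obtain ⟨⟨x, g, rfl⟩, hx⟩ := Fintype.card_pos_iff.mp (Nat.pos_of_ne_zero hne)
  have hx' : σ (g • θ) = g • θ := by
    have := congrArg Subtype.val hx
    exact this
  rw [hcomm] at hx'
  have := smul_left_cancel g hx'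
  exact congrArg Subtype.val this


/-- Let N be a normal subgroup of the finite group G whose index is not divisible by the prime p, and let k be coprime to the order of G with k ^ (p ^ e) ≡ 1 modulo the order of G for some e (so g ↦ g ^ k induces a field automorphism of p-power order on character values). If an irreducible character χ of G satisfies χ (g ^ k) = χ g for all g, then every irreducible constituent θ of the restriction of χ to N satisfies θ (n ^ k) = θ n for all n. -/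
theorem result {G : Type*} [Group G] [Fintype G] (p : ℕ) [Fact p.Prime] (N : Subgroup G) [N.Normal] [Fintype N] (hidx : ¬ p ∣ N.index) (k e : ℕ) (hk : Nat.Coprime k (Nat.card G)) (hke : k ^ (p ^ e) ≡ 1 [MOD Nat.card G]) (χ : Cfsg.IrrCharacter G) (hχ : ∀ g : G, (χ : G → ℂ) (g ^ k) = (χ : G → ℂ) g) (θ : Cfsg.IrrCharacter N) (hθ : Cfsg.classInner (fun n : N => (χ : G → ℂ) n) (θ : N → ℂ) ≠ 0) : ∀ n : N, (θ : N → ℂ) (n ^ k) = (θ : N → ℂ) n := by
  intro n
  have := galois_fixed_constituent p N hidx k e hk hke χ.1 χ.2 hχ θ hθ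
  exact congrFun this n

end Cfsg.Agent.S4518
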