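import Mathlib
import Cfsg.Statements.S4558
import Cfsg.Agent.Lib.Helper7_RootsOfUnity

set_option autoImplicit false
open Cfsg

namespace Cfsg.Agent.S4558

open Cfsg.Agent.Lib.Helper7_RootsOfUnity

/-- eigenvalues of a matrix of finite order `N` are `N`-th roots of unity -/
theorem roots_pow_eq_one {n : ℕ} (A : Matrix (Fin n) (Fin n) ℂ) (N : ℕ) (hA : A ^ N = 1) :
    ∀ μ ∈ A.charpoly.roots, μ ^ N = 1 := by
  intro μ hμ
  rcases Nat.eq_zero_or_pos n with hn | hn
  · subst hn
    exfalso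
    have : A.charpoly = 1 := by
      rw [Matrix.charpoly, Matrix.det_isEmpty]
    rw [this, Polynomial.roots_one] at hμ
    simp at hμ
  · haveI : Nonempty (Fin n) := ⟨⟨0, hn⟩⟩
    have h0 : A.charpoly ≠ 0 := (Matrix.charpoly_monic A).ne_zero
    have h1 : μ ∈ spectrum ℂ A :=
      Matrix.mem_spectrum_iff_isRoot_charpoly.mpr ((Polynomial.mem_roots h0).mp hμ)
    have h2 := spectrum.pow_mem_pow A N h1
    rw [hA, spectrum.one_eq] at h2
    exact h2

theorem result {G : Type*} [Group G] [Finite G] (p : ℕ) [Fact p.Prime] (χ : G → ℂ) (hχ : Cfsg.IsCharacter G χ) (g : G) (hg : ∃ j : ℕ, orderOf g = p ^ j) (h0 : χ g = 0) : p ∣ Cfsg.charDegree χ := by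
  obtain ⟨n, ρ, rfl⟩ := hχ
  obtain ⟨j, hj⟩ := hg
  have hdeg : Cfsg.charDegree ρ.character = n := by
    unfold Cfsg.charDegree
    rw [Representation.char_one]
    simp
  rw [hdeg]
  set A : Matrix (Fin n) (Fin n) ℂ := LinearMap.toMatrix' (ρ g) with hAdef
  have hAtr : A.trace = 0 := by
    rw [← h0]
    unfold Representation.character
    rw [LinearMap.trace_eq_matrix_trace ℂ (Pi.basisFun ℂ (Fin n)), LinearMap.toMatrix_eq_toMatrix']
  have hApow : A ^ (p ^ j) = 1 := by
    have h1 : (ρ g) ^ (p ^ j) = 1 := by rw [← map_pow, ← hj, pow_orderOf_eq_one, map_one]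
    have h2 := congrArg (LinearMap.toMatrixAlgEquiv' (R := ℂ) (n := Fin n)) h1
    rw [map_pow, map_one] at h2
    exact h2
  have hroots := roots_pow_eq_one A (p ^ j) hApow
  have hcard : Multiset.card A.charpoly.roots = n := by
    rw [IsAlgClosed.card_roots_eq_natDegree, Matrix.charpoly_natDegree_eq_dim, Fintype.card_fin]
  have := dvd_card_of_sum_eq_zero p j A.charpoly.roots hroots
    (by rw [← Matrix.trace_eq_sum_roots_charpoly]; exact hAtr)
  rwa [hcard] at this

end Cfsg.Agent.S4558
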