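import Cfsg.Statements.S4566
import Cfsg.Agent.Lib.Helper2_ClassFn
import Cfsg.Agent.Lib.Helper2_CharBasic
import Cfsg.Agent.Lib.Helper2_CharOrtho
import Cfsg.Agent.Lib.Helper2_Clifford
import Cfsg.Agent.Lib.Helper2_CharMore
import Cfsg.Agent.Lib.Helper2_CharNorm
import Cfsg.Agent.Lib.Helper2_CharValues
import Cfsg.Agent.Lib.Helper2_CharComplete
import Cfsg.Agent.Lib.Helper2_CharInd
import Cfsg.Agent.Lib.Helper2_CharTable
import Cfsg.Agent.Lib.Helper2_CharFrob
import Cfsg.Agent.Lib.Helper2_CharDeg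
import Cfsg.Agent.Lib.Helper2_CharSum
import Cfsg.Agent.Lib.Helper2_CharExtra
import Cfsg.Agent.Lib.Helper2_CharCentral
import Cfsg.Agent.S0154

set_option autoImplicit false
open Cfsg

namespace Cfsg.Agent.S4566

open Cfsg.Agent.Lib.Helper2_ClassFn Cfsg.Agent.Lib.Helper2_CharBasic Cfsg.Agent.Lib.Helper2_CharOrtho Cfsg.Agent.Lib.Helper2_Clifford Cfsg.Agent.Lib.Helper2_CharMore Cfsg.Agent.Lib.Helper2_CharNorm Cfsg.Agent.Lib.Helper2_CharValues Cfsg.Agent.Lib.Helper2_CharComplete Cfsg.Agent.Lib.Helper2_CharInd Cfsg.Agent.Lib.Helper2_CharTable Cfsg.Agent.Lib.Helper2_CharFrob Cfsg.Agent.Lib.Helper2_CharDeg Cfsg.Agent.Lib.Helper2_CharSum Cfsg.Agent.Lib.Helper2_CharExtra Cfsg.Agent.Lib.Helper2_CharCentral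
open scoped Pointwise


/-- Let N be a central subgroup of the finite group G, ψ a faithful irreducible (hence degree-one) character of N, and χ an irreducible character of G whose restriction to N contains ψ. If g ∈ G and some x ∈ G has commutator x⁻¹ g⁻¹ x g in N but different from 1, then χ g = 0. -/
theorem result {G : Type*} [Group G] [Fintype G] (N : Subgroup G) [Fintype N] (hN : N ≤ Subgroup.center G) (ψ : Cfsg.IrrCharacter ↥N) (hfaith : ∀ n : ↥N, (ψ : ↥N → ℂ) n = (ψ : ↥N → ℂ) 1 → n = 1) (χ : Cfsg.IrrCharacter G) (hover : Cfsg.classInner (fun n : ↥N => (χ : G → ℂ) n) (ψ : ↥N → ℂ) ≠ 0) (g x : G) (hcomm : x⁻¹ * g⁻¹ * x * g ∈ N) (hne : x⁻¹ * g⁻¹ * x * g ≠ 1) : (χ : G → ℂ) g = 0 := by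
  classical
  obtain ⟨χ, hχ⟩ := χ
  obtain ⟨ψ, hψ⟩ := ψ
  change ∀ n : ↥N, ψ n = ψ 1 → n = 1 at hfaith
  change classInner (fun n : ↥N => χ n) ψ ≠ 0 at hover
  change χ g = 0
  have hχc := IsIrrCharacter.isCharacter hχ
  have hcf := IsCharacter.isClassFunction hχc
  have hψc := IsIrrCharacter.isCharacter hψ
  have h10 : χ 1 ≠ 0 := IsIrrCharacter.apply_one_ne_zero hχ
  have hNcomm : ∀ a b : ↥N, a * b = b * a := by
    intro a b
    apply Subtype.ext
    have := hN a.2
    rw [Subgroup.mem_center_iff] at this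
    exact (this b).symm
  have hψ1 : ψ 1 = 1 := IsIrrCharacter.apply_one_of_comm hNcomm hψ
  obtain ⟨ω, hω⟩ := Cfsg.Agent.S0154.exists_hom_of_degree_one ψ hψ hψ1
  set z : G := x⁻¹ * g⁻¹ * x * g with hz
  have hzc : ∀ y : G, z * y = y * z := by
    intro y
    have := hN hcomm
    rw [Subgroup.mem_center_iff] at this
    exact (this y).symm
  let zN : ↥N := ⟨z, hcomm⟩
  have hψz : ψ zN ≠ 1 := by
    intro h
    have := hfaith zN (by rw [h, hψ1])
    apply hne
    exact congrArg Subtype.val this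
  -- χ(z) = χ(1) ψ(z)
  have hS : ∑ n : ↥N, χ n * (starRingEnd ℂ) (ψ n) ≠ 0 := by
    intro h0
    apply hover
    rw [classInner_def, h0, mul_zero]
  have ha : ∑ n : ↥N, χ ((n * zN : ↥N) : G) * (starRingEnd ℂ) (ψ n)
      = (χ z / χ 1) * ∑ n : ↥N, χ n * (starRingEnd ℂ) (ψ n) := by
    rw [Finset.mul_sum]
    refine Finset.sum_congr rfl fun n _ => ?_
    have : ((n * zN : ↥N) : G) = z * n := by
      rw [Subgroup.coe_mul]
      exact (hzc n).symm
    rw [this, apply_central_mul hχ z hzc]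
    ring
  have hb : ∑ n : ↥N, χ ((n * zN : ↥N) : G) * (starRingEnd ℂ) (ψ n)
      = ψ zN * ∑ n : ↥N, χ n * (starRingEnd ℂ) (ψ n) := by
    rw [Finset.mul_sum]
    refine Fintype.sum_equiv (Equiv.mulRight zN) _ _ fun n => ?_
    simp only [Equiv.coe_mulRight]
    have h1 : ψ n = ψ (n * zN) * ψ zN⁻¹ := by
      rw [hω]
      simp only
      rw [← Units.val_mul, ← map_mul, mul_assoc, mul_inv_cancel, mul_one]
    rw [h1, map_mul, IsCharacter.apply_inv hψc, Complex.conj_conj]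
    ring
  have hχz : χ z = χ 1 * ψ zN := by
    have := ha.symm.trans hb
    have h2 := mul_right_cancel₀ hS this
    rw [← h2]
    field_simp
  -- χ(g) = χ(g z)
  have hconj : x * g * x⁻¹ = z * g := by
    have e1 : x * g = g * x * z := by rw [hz]; group
    calc x * g * x⁻¹ = g * x * z * x⁻¹ := by rw [e1]
      _ = g * (x * z) * x⁻¹ := by group
      _ = g * (z * x) * x⁻¹ := by rw [hzc x]
      _ = g * z := by group
      _ = z * g := (hzc g).symm
  have h3 : χ g = ψ zN * χ g := by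
    have := hcf g x
    rw [hconj, apply_central_mul hχ z hzc, hχz] at this
    calc χ g = χ 1 * ψ zN * χ g / χ 1 := this.symm
      _ = ψ zN * χ g := by field_simp
  have h4 : (1 - ψ zN) * χ g = 0 := by
    rw [sub_mul, one_mul, ← h3, sub_self]
  rcases mul_eq_zero.mp h4 with h | h
  · exfalso
    apply hψz
    exact (sub_eq_zero.mp h).symm
  · exact h

end Cfsg.Agent.S4566
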