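import Cfsg.Statements.S4574
import Cfsg.Agent.Lib.Helper2_ClassFn
import Cfsg.Agent.Lib.Helper2_CharBasic
import Cfsg.Agent.Lib.Helper2_CharOrtho
import Cfsg.Agent.Lib.Helper2_Clifford
import Cfsg.Agent.Lib.Helper2_CharMore
import Cfsg.Agent.Lib.Helper2_CharNorm
import Cfsg.Agent.Lib.Helper2_CharValues
import Cfsg.Agent.Lib.Helper2_CharComplete
import Cfsg.Agent.Lib.Helper2_CharInd
import Cfsg.Agent.Lib.Helper2_CharTable
import Cfsg.Agent.Lib.Helper2_CharFrob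
import Cfsg.Agent.Lib.Helper2_CharDeg
import Cfsg.Agent.Lib.Helper2_CharSum
import Cfsg.Agent.Lib.Helper2_CharExtra
import Cfsg.Agent.Lib.Helper2_CharCentral
import Cfsg.Agent.Lib.Helper2_PermChar
import Cfsg.Agent.Lib.Helper2_FrobSchur
import Cfsg.Agent.Lib.Helper2_CliffordCorr
import Cfsg.Agent.Lib.Helper2_CharKernel
import Cfsg.Agent.Lib.Helper2_CyclicTI
import Cfsg.Agent.Lib.Helper2_CharGalois
import Cfsg.Agent.Lib.Helper2_CharInt
import Cfsg.Agent.Lib.Helper2_CharBurnside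
import Cfsg.Agent.Lib.Helper2_CharCenter
import Cfsg.Agent.Lib.Helper2_Ito
import Cfsg.Agent.Lib.Helper2_Gallagher
import Cfsg.Agent.Lib.Helper2_Artin
import Cfsg.Agent.Lib.Helper2_MGroup
import Cfsg.Agent.Lib.Helper2_RepEquiv
import Cfsg.Agent.Lib.Helper2_CyclicExt
import Cfsg.Agent.Lib.Helper2_Extraspecial
import Cfsg.Agent.Lib.Helper2_ProjLift
import Cfsg.Agent.Lib.Helper2_CentralExt
import Cfsg.Agent.Lib.Helper2_SylowExt
import Cfsg.Agent.Lib.Helper2_DetChar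
import Cfsg.Agent.Lib.Helper2_LinExt
import Cfsg.Agent.Lib.Helper2_DetExt
import Cfsg.Agent.Lib.Helper2_GallagherExt
import Cfsg.Agent.Lib.Helper2_PermInd
import Cfsg.Agent.Lib.Helper2_QuasiElem
import Cfsg.Agent.Lib.Helper2_BrauerInd
import Cfsg.Agent.Lib.Helper2_BrauerThm
import Cfsg.Agent.Lib.Helper2_NilDecomp
import Cfsg.Agent.Lib.Helper2_DefectZero
import Cfsg.Agent.Lib.Helper2_CharGalois2
import Cfsg.Agent.Lib.Helper2_CosetAvg

set_option autoImplicit false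
open Cfsg

namespace Cfsg.Agent.S4574

open Cfsg.Agent.Lib.Helper2_ClassFn Cfsg.Agent.Lib.Helper2_CharBasic Cfsg.Agent.Lib.Helper2_CharOrtho Cfsg.Agent.Lib.Helper2_Clifford Cfsg.Agent.Lib.Helper2_CharMore Cfsg.Agent.Lib.Helper2_CharNorm Cfsg.Agent.Lib.Helper2_CharValues Cfsg.Agent.Lib.Helper2_CharComplete Cfsg.Agent.Lib.Helper2_CharInd Cfsg.Agent.Lib.Helper2_CharTable Cfsg.Agent.Lib.Helper2_CharFrob Cfsg.Agent.Lib.Helper2_CharDeg Cfsg.Agent.Lib.Helper2_CharSum Cfsg.Agent.Lib.Helper2_CharExtra Cfsg.Agent.Lib.Helper2_CharCentral Cfsg.Agent.Lib.Helper2_PermChar Cfsg.Agent.Lib.Helper2_FrobSchur Cfsg.Agent.Lib.Helper2_CliffordCorr Cfsg.Agent.Lib.Helper2_CharKernel Cfsg.Agent.Lib.Helper2_CyclicTI Cfsg.Agent.Lib.Helper2_CharGalois Cfsg.Agent.Lib.Helper2_CharInt Cfsg.Agent.Lib.Helper2_CharBurnside Cfsg.Agent.Lib.Helper2_CharCenter Cfsg.Agent.Lib.Helper2_Ito Cfsg.Agent.Lib.Helper2_Gallagher Cfsg.Agent.Lib.Helper2_Artin Cfsg.Agent.Lib.Helper2_MGroup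 Cfsg.Agent.Lib.Helper2_RepEquiv Cfsg.Agent.Lib.Helper2_CyclicExt Cfsg.Agent.Lib.Helper2_Extraspecial Cfsg.Agent.Lib.Helper2_ProjLift Cfsg.Agent.Lib.Helper2_CentralExt Cfsg.Agent.Lib.Helper2_SylowExt Cfsg.Agent.Lib.Helper2_DetChar Cfsg.Agent.Lib.Helper2_LinExt Cfsg.Agent.Lib.Helper2_DetExt Cfsg.Agent.Lib.Helper2_GallagherExt Cfsg.Agent.Lib.Helper2_PermInd Cfsg.Agent.Lib.Helper2_QuasiElem Cfsg.Agent.Lib.Helper2_BrauerInd Cfsg.Agent.Lib.Helper2_BrauerThm Cfsg.Agent.Lib.Helper2_NilDecomp Cfsg.Agent.Lib.Helper2_DefectZero Cfsg.Agent.Lib.Helper2_CharGalois2 Cfsg.Agent.Lib.Helper2_CosetAvg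
open scoped Pointwise
open scoped ComplexConjugate

theorem char_pow_eq_of_eq {G : Type*} [Group G] [Finite G] {ψ : G → ℂ} (hψ : IsCharacter G ψ)
    (g : G) (h : ψ g = ψ 1) (k : ℕ) : ψ (g ^ k) = ψ 1 := by
  obtain ⟨n, ρ, rfl⟩ := hψ
  have h1 := rep_eq_one_of_char_eq ρ g h
  unfold Representation.character
  rw [map_pow, h1, one_pow, map_one ρ]

theorem norm_pow_eq_of_norm_eq {G : Type*} [Group G] [Finite G] {χ : G → ℂ} (hχ : IsCharacter G χ)
    (g : G) (h : ‖χ g‖ = ‖χ 1‖) (k : ℕ) : ‖χ (g ^ k)‖ = ‖χ 1‖ := by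
  have hψ : IsCharacter G (fun x => χ x * conj (χ x)) := IsCharacter.mul hχ (IsCharacter.conj hχ)
  have e : ∀ x, χ x * conj (χ x) = ((‖χ x‖ ^ 2 : ℝ) : ℂ) := by
    intro x
    rw [Complex.mul_conj, Complex.normSq_eq_norm_sq]
  have h1 := char_pow_eq_of_eq hψ g (by simp only [e, h]) k
  simp only [e] at h1
  have h2 : ‖χ (g ^ k)‖ ^ 2 = ‖χ 1‖ ^ 2 := by exact_mod_cast h1
  exact (sq_eq_sq₀ (norm_nonneg _) (norm_nonneg _)).mp h2


/-- Let χ be an irreducible character of the finite group G, of degree d, and let Z(χ) be the set of elements g with |χ g| = d (the centre of χ). Then χ vanishes on at least (d ^ 2 - 1) · |Z(χ)| elements of G, with equality when every value |χ g| is 0, 1 or d. -/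
theorem result {G : Type*} [Group G] [Fintype G] [DecidableEq G] (χ : G → ℂ) (hχ : Cfsg.IsIrrCharacter G χ) : (Cfsg.charDegree χ ^ 2 - 1) * (Finset.univ.filter (fun g : G => ‖χ g‖ = (Cfsg.charDegree χ : ℝ))).card ≤ (Finset.univ.filter (fun g : G => χ g = 0)).card ∧ ((∀ g : G, ‖χ g‖ = 0 ∨ ‖χ g‖ = 1 ∨ ‖χ g‖ = (Cfsg.charDegree χ : ℝ)) → (Cfsg.charDegree χ ^ 2 - 1) * (Finset.univ.filter (fun g : G => ‖χ g‖ = (Cfsg.charDegree χ : ℝ))).card = (Finset.univ.filter (fun g : G => χ g = 0)).card) := by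
  classical
  have hχc := IsIrrCharacter.isCharacter hχ
  obtain ⟨n, hn, h1⟩ := IsIrrCharacter.apply_one hχ
  have hd : Cfsg.charDegree χ = n := by
    unfold Cfsg.charDegree; rw [h1]; simp
  rw [hd]
  have hnorm1 : ‖χ 1‖ = (n : ℝ) := by rw [h1]; simp
  set Z := Finset.univ.filter (fun g : G => ‖χ g‖ = (n : ℝ)) with hZ
  set S := Finset.univ.filter (fun g : G => ¬ ‖χ g‖ = (n : ℝ)) with hS
  set Z0 := Finset.univ.filter (fun g : G => χ g = 0) with hZ0
  have hclosed : ∀ g ∈ S, ∀ k : ℕ, k.Coprime (Nat.card G) → g ^ k ∈ S := by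
    intro g hg k hk
    rw [hS, Finset.mem_filter] at hg ⊢
    refine ⟨Finset.mem_univ _, fun hcon => hg.2 ?_⟩
    obtain ⟨m, hm⟩ : ∃ m : ℕ, (g ^ k) ^ m = g := by
      have hco : k.Coprime (orderOf g) := Nat.Coprime.coprime_dvd_right (orderOf_dvd_natCard g) hk
      rcases Nat.lt_or_ge 1 (orderOf g) with h | h
      · obtain ⟨m, -, hm⟩ := Nat.exists_mul_mod_eq_one_of_coprime hco h
        refine ⟨m, ?_⟩
        rw [← pow_mul, ← pow_mod_orderOf, hm, pow_one]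
      · have : orderOf g = 1 := le_antisymm h (orderOf_pos g)
        rw [orderOf_eq_one_iff] at this
        exact ⟨0, by rw [this]; simp⟩
    have := norm_pow_eq_of_norm_eq hχc (g ^ k) (by rw [hcon, hnorm1]) m
    rw [hm, hnorm1] at this
    exact this
  have key := card_nonzero_le_sum_sq hχc S hclosed
  have hsum := sum_norm_sq_eq_card hχ
  have hsplit : ∑ g : G, ‖χ g‖ ^ 2 = ∑ g ∈ Z, ‖χ g‖ ^ 2 + ∑ g ∈ S, ‖χ g‖ ^ 2 :=
    (Finset.sum_filter_add_sum_filter_not Finset.univ _ _).symm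
  have hZsum : ∑ g ∈ Z, ‖χ g‖ ^ 2 = (n : ℝ) ^ 2 * Z.card := by
    rw [Finset.sum_congr rfl (g := fun _ => (n : ℝ) ^ 2), Finset.sum_const, nsmul_eq_mul, mul_comm]
    intro g hg
    rw [(Finset.mem_filter.mp hg).2]
  have hcard : (Nat.card G : ℝ) = Z.card + S.card := by
    rw [Nat.card_eq_fintype_card, ← Finset.card_univ,
      ← Finset.card_filter_add_card_filter_not (fun g : G => ‖χ g‖ = (n : ℝ))]
    push_cast
    rfl
  have hSsplit : (S.card : ℝ) = (S.filter (fun g => χ g ≠ 0)).card + Z0.card := by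
    have h0 : S.filter (fun g => ¬ χ g ≠ 0) = Z0 := by
      ext g
      simp only [hS, hZ0, Finset.mem_filter, Finset.mem_univ, true_and, not_not]
      constructor
      · rintro ⟨_, h⟩; exact h
      · intro h
        refine ⟨?_, h⟩
        rw [h, norm_zero]
        intro h0
        have : (n : ℝ) ≠ 0 := by exact_mod_cast hn.ne'
        exact this h0.symm
    rw [← Finset.card_filter_add_card_filter_not (fun g : G => χ g ≠ 0) (s := S), h0]
    push_cast
    rfl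
  have hcast : (((n ^ 2 - 1 : ℕ) : ℝ)) = (n : ℝ) ^ 2 - 1 := by
    rw [Nat.cast_sub (Nat.one_le_pow _ _ hn)]
    push_cast
    rfl
  constructor
  · have : (((n ^ 2 - 1) * Z.card : ℕ) : ℝ) ≤ (Z0.card : ℝ) := by
      rw [Nat.cast_mul, hcast]
      nlinarith
    exact_mod_cast this
  · intro hall
    have hSsum : ∑ g ∈ S, ‖χ g‖ ^ 2 = ((S.filter (fun g => χ g ≠ 0)).card : ℝ) := by
      have hthis : ((S.filter (fun g => χ g ≠ 0)).card : ℝ)
          = ∑ g ∈ S, (if χ g ≠ 0 then (1:ℝ) else 0) := by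
        rw [Finset.card_eq_sum_ones, Finset.sum_filter]
        push_cast
        rfl
      rw [hthis]
      apply Finset.sum_congr rfl
      intro g hg
      have hgS := (Finset.mem_filter.mp hg).2
      rcases hall g with h | h | h
      · have : χ g = 0 := norm_eq_zero.mp h
        simp [this]
      · have : χ g ≠ 0 := by
          intro h0
          rw [h0, norm_zero] at h
          exact zero_ne_one h
        simp [this, h]
      · exact absurd h hgS
    have : (((n ^ 2 - 1) * Z.card : ℕ) : ℝ) = (Z0.card : ℝ) := by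
      rw [Nat.cast_mul, hcast]
      nlinarith
    exact_mod_cast this

end Cfsg.Agent.S4574
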