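import Cfsg.Statements.S4584
import Mathlib
import Cfsg.Agent.S3807
import Cfsg.Agent.Lib.Helper6_OrderP4

set_option autoImplicit false
open Cfsg
open Cfsg.Agent.Lib.Helper6_OrderP4

namespace Cfsg.Agent.S4584

/-- Let p be a prime and P a group of order p^4. Then the derived subgroup P' has order p if and only if the centre Z(P) has index p^2 in P. -/
theorem result {P : Type*} [Group P] [Finite P] (p : ℕ) [Fact p.Prime] (hP : Nat.card P = p ^ 4) :
    Nat.card (commutator P) = p ↔ (Subgroup.center P).index = p ^ 2 := by
  have hp := (Fact.out : p.Prime)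
  have hPp : IsPGroup p P := IsPGroup.of_card hP
  by_cases hab : IsMulCommutative P
  · have h1 : commutator P = ⊥ := by
      rw [eq_bot_iff, commutator_def, Subgroup.commutator_le]
      intro a _ b _
      rw [Subgroup.mem_bot, commutatorElement_eq_one_iff_mul_comm]
      exact hab.is_comm.comm a b
    have h2 : Subgroup.center P = ⊤ := by
      rw [eq_top_iff]; intro b _
      rw [Subgroup.mem_center_iff]; intro g
      exact hab.is_comm.comm g b
    rw [h1, h2, Subgroup.index_top, Subgroup.card_bot]
    constructor
    · intro h; exact absurd h.symm hp.one_lt.ne'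
    · intro h
      have : 1 < p ^ 2 := Nat.one_lt_pow (by norm_num) hp.one_lt
      omega
  · obtain ⟨A, hA, hAi⟩ := exists_abelian_index_p hP
    have h := Cfsg.Agent.S3807.index_center_eq hPp hab A hA hAi
    rw [h]
    constructor
    · intro h1; rw [h1, sq]
    · intro h1
      rw [sq] at h1
      exact Nat.eq_of_mul_eq_mul_left hp.pos h1

end Cfsg.Agent.S4584
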