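import Cfsg.Statements.S4585
import Mathlib
import Cfsg.Agent.S3807
import Cfsg.Agent.Lib.Helper6_OrderP4
import Cfsg.Agent.Lib.Helper6_MaxClass
import Cfsg.Agent.Lib.Helper4_MaxNormAb0

set_option autoImplicit false
open Cfsg
open Cfsg.Agent.Lib.Helper6_OrderP4

namespace Cfsg.Agent.S4585

/-- Let p be a prime and P a group of order p^4. Then P' has index p^2 in P if and only if P has maximal nilpotency class, that is, nilpotency class exactly 3. -/
theorem result {P : Type*} [Group P] [Finite P] (p : ℕ) [Fact p.Prime] (hP : Nat.card P = p ^ 4) :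
    (commutator P).index = p ^ 2 ↔ Group.nilpotencyClass P = 3 := by
  have hp := (Fact.out : p.Prime)
  have hPp : IsPGroup p P := IsPGroup.of_card hP
  haveI hnil : Group.IsNilpotent P := hPp.isNilpotent
  have hcl3 : Group.nilpotencyClass P ≤ 3 :=
    Cfsg.Agent.Lib.Helper6_MaxClass.class_le p 4 P hP (by norm_num)
  -- class ≤ 2 iff P' ≤ Z(P)
  have hcl2 : Group.nilpotencyClass P ≤ 2 ↔ commutator P ≤ Subgroup.center P := by
    rw [← Subgroup.lowerCentralSeries_eq_bot_iff_nilpotencyClass_le]
    have e : (⊤ : Subgroup P).lowerCentralSeries 2 = ⁅commutator P, (⊤ : Subgroup P)⁆ := rfl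
    rw [e, Subgroup.commutator_eq_bot_iff_le_centralizer, Subgroup.coe_top,
      Subgroup.centralizer_univ]
  have hcm := (commutator P).card_mul_index
  rw [hP] at hcm
  have hcz := (Subgroup.center P).card_mul_index
  rw [hP] at hcz
  haveI : Nontrivial P := by
    rw [← Finite.one_lt_card_iff_nontrivial, hP]
    exact Nat.one_lt_pow (by norm_num) hp.one_lt
  have hZnt : Nontrivial (Subgroup.center P) := hPp.center_nontrivial
  have hZ1 : 1 < Nat.card (Subgroup.center P) := Finite.one_lt_card_iff_nontrivial.mpr hZnt
  -- nonabelian consequences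
  have key : ¬ IsMulCommutative P →
      (Subgroup.center P).index = p * Nat.card (commutator P) := by
    intro hab
    obtain ⟨A, hA, hAi⟩ := exists_abelian_index_p hP
    exact Cfsg.Agent.S3807.index_center_eq hPp hab A hA hAi
  have habel : IsMulCommutative P → commutator P = ⊥ := by
    intro hab
    rw [eq_bot_iff, commutator_def, Subgroup.commutator_le]
    intro a _ b _
    rw [Subgroup.mem_bot, commutatorElement_eq_one_iff_mul_comm]
    exact hab.is_comm.comm a b
  constructor
  · intro hidx
    have hc : Nat.card (commutator P) = p ^ 2 := by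
      rw [hidx] at hcm
      have : Nat.card (commutator P) * p ^ 2 = p ^ 2 * p ^ 2 := by rw [hcm]; ring
      exact Nat.eq_of_mul_eq_mul_right (pow_pos hp.pos 2) this
    have hab : ¬ IsMulCommutative P := by
      intro hab
      rw [habel hab, Subgroup.card_bot] at hc
      have : 1 < p ^ 2 := Nat.one_lt_pow (by norm_num) hp.one_lt
      omega
    have h2 : ¬ Group.nilpotencyClass P ≤ 2 := by
      rw [hcl2]
      intro hle
      have h3 := key hab
      rw [hc] at h3
      rw [h3] at hcz
      have h4 : Nat.card (Subgroup.center P) * (p * p ^ 2) = p * (p * p ^ 2) := by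
        rw [hcz]; ring
      have h5 : Nat.card (Subgroup.center P) = p :=
        Nat.eq_of_mul_eq_mul_right (Nat.mul_pos hp.pos (pow_pos hp.pos 2)) h4
      have h6 := Subgroup.card_le_of_le hle
      rw [hc, h5] at h6
      have h7 : p < p ^ 2 := by
        calc p = p ^ 1 := (pow_one p).symm
          _ < p ^ 2 := Nat.pow_lt_pow_right hp.one_lt (by norm_num)
      omega
    omega
  · intro hcl
    have h2 : ¬ commutator P ≤ Subgroup.center P := by
      rw [← hcl2]; omega
    have hab : ¬ IsMulCommutative P := by
      intro hab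
      apply h2
      rw [habel hab]; exact bot_le
    have h3 := key hab
    obtain ⟨k, hk⟩ := (hPp.to_subgroup (commutator P)).exists_card_eq
    rw [hk] at h3
    -- k ≠ 0
    have hk0 : k ≠ 0 := by
      rintro rfl
      apply h2
      rw [pow_zero, Subgroup.card_eq_one] at hk
      rw [hk]; exact bot_le
    -- k ≠ 1
    have hk1 : k ≠ 1 := by
      rintro rfl
      rw [pow_one] at hk
      apply h2
      obtain ⟨a, haN, haZ, ha1⟩ := Cfsg.Agent.Lib.Helper4_MaxNormAb0.normal_inf_center
        (commutator P) (by
          intro h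
          rw [h, Subgroup.card_bot] at hk
          exact hp.one_lt.ne hk)
      intro c hc
      have hmem : (⟨c, hc⟩ : ↥(commutator P)) ∈ Subgroup.zpowers (⟨a, haN⟩ : ↥(commutator P)) :=
        mem_zpowers_of_prime_card hk (fun h => ha1 (congrArg Subtype.val h))
      obtain ⟨j, hj⟩ := hmem
      have hj' : a ^ j = c := by
        have := congrArg Subtype.val hj
        simpa using this
      rw [← hj']
      exact Subgroup.zpow_mem _ haZ j
    -- k ≤ 2
    have hk3 : k ≤ 2 := by
      by_contra hcon
      push Not at hcon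
      rw [h3] at hcz
      have h4 : p ^ 3 ≤ p ^ k := Nat.pow_le_pow_right hp.pos hcon
      have h5 : 2 * (p * p ^ 3) ≤ Nat.card (Subgroup.center P) * (p * p ^ k) :=
        Nat.mul_le_mul hZ1 (Nat.mul_le_mul_left p h4)
      rw [hcz] at h5
      have e : p * p ^ 3 = p ^ 4 := by ring
      have : 0 < p ^ 4 := pow_pos hp.pos 4
      omega
    have hk2 : k = 2 := by omega
    rw [hk2] at hk
    rw [hk] at hcm
    have : p ^ 2 * (commutator P).index = p ^ 2 * p ^ 2 := by rw [hcm]; ring
    exact Nat.eq_of_mul_eq_mul_left (pow_pos hp.pos 2) this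

end Cfsg.Agent.S4585
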