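import Cfsg.Statements.S4586
import Mathlib
import Cfsg.Agent.Lib.Lead_Coprime
import Cfsg.Agent.Lib.Helper6_MinNonPClosed

set_option autoImplicit false
open Cfsg
open Cfsg.Agent.Lib.Lead_Coprime Cfsg.Agent.Lib.Helper6_MinNonPClosed
open scoped commutatorElement

namespace Cfsg.Agent.S4586

/-- For an abelian normal subgroup `A` of a finite group `S` and `x` with `⟨A, x⟩ = S` in the strong sense
that every subgroup containing `A` and `x` is `⊤`: `|A| = |C_A(x)| · |S'|`. -/
theorem card_eq_card_centralizer_mul_card_commutator {S : Type*} [Group S] [Finite S]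
    (A : Subgroup S) [hAn : A.Normal] (hcomm : ∀ u ∈ A, ∀ v ∈ A, u * v = v * u) (x : S)
    (hsup : ∀ H : Subgroup S, A ≤ H → x ∈ H → H = ⊤) :
    Nat.card ↥A = Nat.card ↥(A ⊓ Subgroup.centralizer ({x} : Set S)) * Nat.card (commutator S) := by
  have hmem : ∀ a ∈ A, ⁅a, x⁆ ∈ A := by
    intro a ha
    have h1 : x * a⁻¹ * x⁻¹ ∈ A := hAn.conj_mem a⁻¹ (A.inv_mem ha) x
    have e : ⁅a, x⁆ = a * (x * a⁻¹ * x⁻¹) := by simp only [commutatorElement_def]; group
    rw [e]; exact A.mul_mem ha h1
  let φ : ↥A →* ↥A :=
    { toFun := fun a => ⟨⁅(a : S), x⁆, hmem a a.2⟩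
      map_one' := by
        apply Subtype.ext
        simp
      map_mul' := by
        intro a b
        apply Subtype.ext
        have ha' : x * (a : S)⁻¹ * x⁻¹ ∈ A := hAn.conj_mem _ (A.inv_mem a.2) x
        have hb' : x * (b : S)⁻¹ * x⁻¹ ∈ A := hAn.conj_mem _ (A.inv_mem b.2) x
        have h1 := hcomm _ (A.mul_mem b.2 hb') _ ha'
        show ⁅(a : S) * (b : S), x⁆ = ⁅(a : S), x⁆ * ⁅(b : S), x⁆
        calc ⁅(a : S) * (b : S), x⁆
            = (a : S) * (((b : S) * (x * (b : S)⁻¹ * x⁻¹)) * (x * (a : S)⁻¹ * x⁻¹)) := by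
              simp only [commutatorElement_def]; group
          _ = (a : S) * ((x * (a : S)⁻¹ * x⁻¹) * ((b : S) * (x * (b : S)⁻¹ * x⁻¹))) := by
              rw [h1]
          _ = ⁅(a : S), x⁆ * ⁅(b : S), x⁆ := by
              simp only [commutatorElement_def]; group }
  have hφ : ∀ a : ↥A, ((φ a : ↥A) : S) = ⁅(a : S), x⁆ := fun a => rfl
  -- kernel
  have hker : φ.ker = (A ⊓ Subgroup.centralizer ({x} : Set S)).subgroupOf A := by
    ext a
    rw [MonoidHom.mem_ker, Subgroup.mem_subgroupOf, Subgroup.mem_inf,
      Subgroup.mem_centralizer_singleton_iff]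
    constructor
    · intro h
      have h1 : ⁅(a : S), x⁆ = 1 := by rw [← hφ, h]; rfl
      rw [commutatorElement_eq_one_iff_mul_comm] at h1
      exact ⟨a.2, h1⟩
    · intro h
      apply Subtype.ext
      rw [hφ]
      rw [Subgroup.coe_one, commutatorElement_eq_one_iff_mul_comm]
      exact h.2
  -- range
  have hR1 : (φ.range).map A.subtype ≤ commutator S := by
    rintro _ ⟨_, ⟨a, rfl⟩, rfl⟩
    rw [commutator_def]
    exact Subgroup.commutator_mem_commutator (Subgroup.mem_top _) (Subgroup.mem_top _)
  have hRA : (φ.range).map A.subtype ≤ A := Subgroup.map_subtype_le _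
  have hRmem : ∀ a ∈ A, ⁅a, x⁆ ∈ (φ.range).map A.subtype := by
    intro a ha
    exact ⟨φ ⟨a, ha⟩, ⟨⟨a, ha⟩, rfl⟩, rfl⟩
  have hRnorm : ((φ.range).map A.subtype).Normal := by
    rw [← Subgroup.normalizer_eq_top_iff]
    apply hsup
    · intro a ha
      have key : ∀ b ∈ A, ∀ r ∈ (φ.range).map A.subtype, b * r * b⁻¹ ∈ (φ.range).map A.subtype := by
        intro b hb r hr
        have : b * r * b⁻¹ = r := by
          rw [hcomm b hb r (hRA hr)]; group
        rw [this]; exact hr
      refine mem_normalizer_of_conj_mem (key a ha) ?_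
      intro r hr
      have := key a⁻¹ (A.inv_mem ha) r hr
      rwa [inv_inv] at this
    · refine mem_normalizer_of_conj_mem ?_ ?_
      · rintro _ ⟨_, ⟨a, rfl⟩, rfl⟩
        have e : x * A.subtype (φ a) * x⁻¹ = ⁅x * (a : S) * x⁻¹, x⁆ := by
          rw [Subgroup.coe_subtype, hφ]
          simp only [commutatorElement_def]; group
        rw [e]
        exact hRmem _ (hAn.conj_mem _ a.2 x)
      · rintro _ ⟨_, ⟨a, rfl⟩, rfl⟩
        have e : x⁻¹ * A.subtype (φ a) * x = ⁅x⁻¹ * (a : S) * x, x⁆ := by
          rw [Subgroup.coe_subtype, hφ]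
          simp only [commutatorElement_def]; group
        rw [e]
        have := hAn.conj_mem _ a.2 x⁻¹
        rw [inv_inv] at this
        exact hRmem _ this
  have hR2 : commutator S ≤ (φ.range).map A.subtype := by
    set R := (φ.range).map A.subtype with hR
    apply Subgroup.Normal.quotient_commutative_iff_commutator_le.mp
    let π := QuotientGroup.mk' R
    have hπx : ∀ g : S, π g * π x = π x * π g := by
      have h1 : (Subgroup.centralizer ({π x} : Set (S ⧸ R))).comap π = ⊤ := by
        apply hsup
        · intro a ha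
          rw [Subgroup.mem_comap, Subgroup.mem_centralizer_singleton_iff]
          rw [← commutatorElement_eq_one_iff_mul_comm, ← map_commutatorElement]
          exact (QuotientGroup.eq_one_iff _).mpr (hRmem a ha)
        · rw [Subgroup.mem_comap, Subgroup.mem_centralizer_singleton_iff]
      intro g
      have : g ∈ (Subgroup.centralizer ({π x} : Set (S ⧸ R))).comap π := by rw [h1]; trivial
      rw [Subgroup.mem_comap, Subgroup.mem_centralizer_singleton_iff] at this
      exact this
    have hπa : ∀ a ∈ A, ∀ g : S, π g * π a = π a * π g := by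
      intro a ha
      have h1 : (Subgroup.centralizer ({π a} : Set (S ⧸ R))).comap π = ⊤ := by
        apply hsup
        · intro b hb
          rw [Subgroup.mem_comap, Subgroup.mem_centralizer_singleton_iff]
          rw [← map_mul, ← map_mul, hcomm b hb a ha]
        · rw [Subgroup.mem_comap, Subgroup.mem_centralizer_singleton_iff]
          exact (hπx a).symm
      intro g
      have : g ∈ (Subgroup.centralizer ({π a} : Set (S ⧸ R))).comap π := by rw [h1]; trivial
      rw [Subgroup.mem_comap, Subgroup.mem_centralizer_singleton_iff] at this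
      exact this
    have hcen : (Subgroup.center (S ⧸ R)).comap π = ⊤ := by
      apply hsup
      · intro a ha
        rw [Subgroup.mem_comap, Subgroup.mem_center_iff]
        intro g'
        obtain ⟨g, rfl⟩ := QuotientGroup.mk'_surjective R g'
        exact hπa a ha g
      · rw [Subgroup.mem_comap, Subgroup.mem_center_iff]
        intro g'
        obtain ⟨g, rfl⟩ := QuotientGroup.mk'_surjective R g'
        exact hπx g
    refine ⟨⟨fun u v => ?_⟩⟩
    obtain ⟨g, rfl⟩ := QuotientGroup.mk'_surjective R v
    have : g ∈ (Subgroup.center (S ⧸ R)).comap π := by rw [hcen]; trivial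
    rw [Subgroup.mem_comap, Subgroup.mem_center_iff] at this
    exact this u
  have hRange : (φ.range).map A.subtype = commutator S := le_antisymm hR1 hR2
  -- cardinalities
  have c1 : Nat.card ↥A = Nat.card φ.ker * Nat.card φ.range := by
    rw [Subgroup.card_eq_card_quotient_mul_card_subgroup φ.ker,
      Nat.card_congr (QuotientGroup.quotientKerEquivRange φ).toEquiv, mul_comm]
  have c2 : Nat.card φ.ker = Nat.card ↥(A ⊓ Subgroup.centralizer ({x} : Set S)) := by
    rw [hker]
    exact Nat.card_congr (Subgroup.subgroupOfEquivOfLe inf_le_left).toEquiv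
  have c3 : Nat.card φ.range = Nat.card (commutator S) := by
    rw [← hRange]
    exact (Subgroup.card_map_of_injective A.subtype_injective).symm
  rw [c1, c2, c3]

/-- The index formula `[P : P'] · #N' = p · c(x)`. -/
theorem index_commutator_mul {P : Type*} [Group P] [Finite P] (p : ℕ) [Fact p.Prime]
    (N : Subgroup P) [N.Normal] (hN : N.index = p) (x : P) (hx : x ∉ N) :
    (commutator P).index * Nat.card (commutator N) =
      p * Nat.card {n : N // x * n * x⁻¹ * (n : P)⁻¹ ∈ (commutator N).map N.subtype} := by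
  have hp := (Fact.out : p.Prime)
  have hKeq : (commutator N).map N.subtype = ⁅N, N⁆ := N.map_subtype_commutator
  set K : Subgroup P := ⁅N, N⁆ with hK
  have hKN : K ≤ N := N.commutator_le_self
  have hKP : K ≤ commutator P := by
    rw [commutator_def]; exact Subgroup.commutator_mono le_top le_top
  have hKcard : Nat.card (commutator N) = Nat.card K := by
    rw [← hKeq]; exact (Subgroup.card_map_of_injective N.subtype_injective).symm
  let π := QuotientGroup.mk' K
  have hπs : Function.Surjective π := QuotientGroup.mk'_surjective K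
  have hkerπ : π.ker = K := QuotientGroup.ker_mk' K
  have hsupP : ∀ H : Subgroup P, N ≤ H → x ∈ H → H = ⊤ := by
    intro H hNH hxH
    rcases eq_or_eq_top_of_prime_index hp N hN H hNH with h | h
    · exact absurd (h ▸ hxH) hx
    · exact h
  set A : Subgroup (P ⧸ K) := N.map π with hA
  haveI hAn : A.Normal := Subgroup.Normal.map inferInstance π hπs
  have hcomm : ∀ u ∈ A, ∀ v ∈ A, u * v = v * u := by
    rintro _ ⟨a, ha, rfl⟩ _ ⟨b, hb, rfl⟩
    rw [← commutatorElement_eq_one_iff_mul_comm, ← map_commutatorElement]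
    exact (QuotientGroup.eq_one_iff _).mpr (Subgroup.commutator_mem_commutator ha hb)
  have hsup : ∀ H : Subgroup (P ⧸ K), A ≤ H → π x ∈ H → H = ⊤ := by
    intro H hAH hxH
    have h1 : H.comap π = ⊤ := by
      apply hsupP
      · intro n hn
        exact hAH (Subgroup.mem_map_of_mem π hn)
      · exact hxH
    rw [← Subgroup.map_comap_eq_self_of_surjective hπs H, h1, Subgroup.map_top_of_surjective π hπs]
  have key := card_eq_card_centralizer_mul_card_commutator A hcomm (π x) hsup
  -- translate
  have i1 : A.index = p := by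
    rw [hA, Subgroup.index_map_eq _ hπs (by rw [hkerπ]; exact hKN)]; exact hN
  have hcG : commutator (P ⧸ K) = (commutator P).map π := by
    rw [commutator_def, commutator_def, Subgroup.map_commutator, Subgroup.map_top_of_surjective π hπs]
  have i2 : (commutator (P ⧸ K)).index = (commutator P).index := by
    rw [hcG, Subgroup.index_map_eq _ hπs (by rw [hkerπ]; exact hKP)]
  set C : Subgroup P := N ⊓ (Subgroup.centralizer ({π x} : Set (P ⧸ K))).comap π with hC
  have hKC : K ≤ C := by
    intro k hk
    refine ⟨hKN hk, ?_⟩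
    show π k ∈ Subgroup.centralizer ({π x} : Set (P ⧸ K))
    have hk1 : π k = 1 := (QuotientGroup.eq_one_iff k).mpr hk
    rw [hk1]
    exact Subgroup.one_mem _
  have hCmap : A ⊓ Subgroup.centralizer ({π x} : Set (P ⧸ K)) = C.map π := by
    ext g
    constructor
    · rintro ⟨⟨n, hn, rfl⟩, h2⟩
      exact ⟨n, ⟨hn, h2⟩, rfl⟩
    · rintro ⟨n, ⟨hn, h2⟩, rfl⟩
      exact ⟨⟨n, hn, rfl⟩, h2⟩
  have i3 : (A ⊓ Subgroup.centralizer ({π x} : Set (P ⧸ K))).index = C.index := by
    rw [hCmap, Subgroup.index_map_eq _ hπs (by rw [hkerπ]; exact hKC)]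
  have i4 : Nat.card (P ⧸ K) * Nat.card K = Nat.card P :=
    (Subgroup.card_eq_card_quotient_mul_card_subgroup K).symm
  -- count
  have hcx : Nat.card {n : N // x * n * x⁻¹ * (n : P)⁻¹ ∈ (commutator N).map N.subtype} =
      Nat.card C := by
    apply Nat.card_congr
    have hiff : ∀ n : P, n ∈ N → (x * n * x⁻¹ * n⁻¹ ∈ K ↔ n ∈ C) := by
      intro n hn
      rw [hC, Subgroup.mem_inf, Subgroup.mem_comap, Subgroup.mem_centralizer_singleton_iff]
      constructor
      · intro h
        refine ⟨hn, ?_⟩
        have h1 : π (x * n * x⁻¹ * n⁻¹) = 1 := (QuotientGroup.eq_one_iff _).mpr h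
        rw [map_mul, map_mul, map_mul, map_inv, map_inv] at h1
        have : π n * π x = (π x * π n * (π x)⁻¹ * (π n)⁻¹) * (π n * π x) := by rw [h1, one_mul]
        rw [this]; group
      · rintro ⟨_, h⟩
        apply (QuotientGroup.eq_one_iff _).mp
        show π (x * n * x⁻¹ * n⁻¹) = 1
        rw [map_mul, map_mul, map_mul, map_inv, map_inv, ← h]; group
    refine
      { toFun := fun n => ⟨(n.1 : P), (hiff _ n.1.2).mp (hKeq ▸ n.2)⟩
        invFun := fun c => ⟨⟨c.1, c.2.1⟩, by rw [hKeq]; exact (hiff _ c.2.1).mpr c.2⟩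
        left_inv := fun n => rfl
        right_inv := fun c => rfl }
  rw [hcx, hKcard]
  -- arithmetic
  have a1 := A.card_mul_index
  have a2 := (commutator (P ⧸ K)).card_mul_index
  have a3 := (A ⊓ Subgroup.centralizer ({π x} : Set (P ⧸ K))).card_mul_index
  have a4 := C.card_mul_index
  rw [i1] at a1
  rw [i2] at a2
  rw [i3] at a3
  have hgpos : 0 < Nat.card (P ⧸ K) := Nat.card_pos
  have hipos : 0 < C.index := Nat.pos_of_ne_zero (Subgroup.index_ne_zero_of_finite)
  set a := Nat.card ↥A
  set c := Nat.card ↥(A ⊓ Subgroup.centralizer ({π x} : Set (P ⧸ K)))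
  set d := Nat.card ↥(commutator (P ⧸ K))
  set g := Nat.card (P ⧸ K)
  set ic := C.index
  set id' := (commutator P).index
  set k := Nat.card ↥K
  have e1 : g * (ic * id') = g * (g * p) := by
    calc g * (ic * id') = (a * p) * (ic * id') := by rw [a1]
      _ = (c * d) * p * (ic * id') := by rw [key]
      _ = (c * ic) * (d * id') * p := by ring
      _ = g * (g * p) := by rw [a2, a3]; ring
  have e2 : ic * id' = g * p := Nat.eq_of_mul_eq_mul_left hgpos e1
  have e3 : ic * (id' * k) = ic * (p * Nat.card ↥C) := by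
    calc ic * (id' * k) = (ic * id') * k := by ring
      _ = g * p * k := by rw [e2]
      _ = (g * k) * p := by ring
      _ = Nat.card P * p := by rw [i4]
      _ = (Nat.card ↥C * ic) * p := by rw [a4]
      _ = ic * (p * Nat.card ↥C) := by ring
  exact Nat.eq_of_mul_eq_mul_left hipos e3

/-- Let p be a prime, P a finite p-group and N a normal subgroup of P of index p. For x ∈ P write c(x) for the number of elements n of N whose commutator x n x⁻¹ n⁻¹ lies in the derived subgroup N' (so c(x)/#N' is the order of the centralizer of x acting on N/N'). Then [P : P'] = p² if and only if c(x) = p·#N' for every x ∈ P outside N, and also if and only if c(x) = p·#N' for some x ∈ P outside N. -/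
theorem result {P : Type*} [Group P] [Finite P] (p : ℕ) [Fact p.Prime] (hP : IsPGroup p P) (N : Subgroup P) [N.Normal] (hN : N.index = p) :
    ((commutator P).index = p ^ 2 ↔ ∀ x : P, x ∉ N →
        Nat.card {n : N // x * n * x⁻¹ * (n : P)⁻¹ ∈ (commutator N).map N.subtype} = p * Nat.card (commutator N)) ∧
    ((commutator P).index = p ^ 2 ↔ ∃ x : P, x ∉ N ∧
        Nat.card {n : N // x * n * x⁻¹ * (n : P)⁻¹ ∈ (commutator N).map N.subtype} = p * Nat.card (commutator N)) := by
  have hp := (Fact.out : p.Prime)
  have hkpos : 0 < Nat.card (commutator N) := Nat.card_pos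
  have hiff : ∀ x : P, x ∉ N → ((commutator P).index = p ^ 2 ↔
      Nat.card {n : N // x * n * x⁻¹ * (n : P)⁻¹ ∈ (commutator N).map N.subtype} =
        p * Nat.card (commutator N)) := by
    intro x hx
    have h := index_commutator_mul p N hN x hx
    constructor
    · intro h1
      rw [h1, sq, mul_assoc] at h
      exact (Nat.eq_of_mul_eq_mul_left hp.pos h).symm
    · intro h1
      rw [h1, ← mul_assoc, ← sq] at h
      exact Nat.eq_of_mul_eq_mul_right hkpos h
  obtain ⟨x0, hx0⟩ : ∃ x : P, x ∉ N := by
    by_contra hcon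
    push Not at hcon
    have : N = ⊤ := by rw [eq_top_iff]; intro y _; exact hcon y
    rw [this, Subgroup.index_top] at hN
    exact hp.one_lt.ne hN
  refine ⟨⟨fun h x hx => (hiff x hx).mp h, fun h => (hiff x0 hx0).mpr (h x0 hx0)⟩,
    ⟨fun h => ⟨x0, hx0, (hiff x0 hx0).mp h⟩, fun ⟨x, hx, h⟩ => (hiff x hx).mpr h⟩⟩

end Cfsg.Agent.S4586
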