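import Mathlib
import Cfsg.Statements.S4602
import Cfsg.Agent.S1958
import Cfsg.Agent.Lib.Helper6_HallHigman
import Cfsg.Agent.Lib.Helper7_PSolvable
import Cfsg.Agent.Lib.Helper7_PCore
import Cfsg.Agent.Lib.Lead_Coprime

set_option autoImplicit false
open Cfsg

namespace Cfsg.Agent.S4602

open Subgroup

/-- In a `p`-solvable group, a Sylow `q`-subgroup (`q ≠ p`) normalized by a Sylow `p`-subgroup
lies in `O_{p'}(G)`. -/
theorem le_pPrimeCore_of_normalized {G : Type*} [Group G] [Finite G] (p q : ℕ) [Fact p.Prime]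
    [Fact q.Prime] (hpq : p ≠ q) (hsolv : IsPSolvable p G) (P : Sylow p G) (Q : Subgroup G)
    (hQ : IsPGroup q Q) (hPQ : (P : Subgroup G) ≤ normalizer (Q : Set G)) :
    Q ≤ pPrimeCore p G := by
  have hp : p.Prime := Fact.out
  set N := pPrimeCore p G with hN
  set π := QuotientGroup.mk' N with hπ
  have hπs : Function.Surjective π := QuotientGroup.mk'_surjective N
  have hsolvq : IsPSolvable p (G ⧸ N) := Cfsg.Agent.Lib.Helper7_PSolvable.quotient hp hsolv N
  have hO : pPrimeCore p (G ⧸ N) = ⊥ := Cfsg.Agent.S1958.pPrimeCore_quotient p G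
  have hC := Cfsg.Agent.Lib.Helper6_HallHigman.centralizer_pCore_le hsolvq hO
  set Qb := Q.map π with hQb
  have hQbq : IsPGroup q Qb := hQ.map π
  have hOp : IsPGroup p (pCore p (G ⧸ N)) := Cfsg.Agent.Lib.Helper7_PCore.pCore_isPGroup p
  have hOple : pCore p (G ⧸ N) ≤ (P : Subgroup G).map π := by
    have := Cfsg.Agent.Lib.Helper7_PCore.pCore_le_sylow (P.mapSurjective hπs)
    rwa [Sylow.coe_mapSurjective] at this
  have hPbn : (P : Subgroup G).map π ≤ normalizer (Qb : Set (G ⧸ N)) :=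
    (Subgroup.map_mono hPQ).trans (Subgroup.le_normalizer_map π)
  have hdisj : Qb ⊓ pCore p (G ⧸ N) = ⊥ :=
    (IsPGroup.disjoint_of_ne q p hpq.symm _ _ hQbq hOp).eq_bot
  have hQbc : Qb ≤ centralizer (pCore p (G ⧸ N) : Set (G ⧸ N)) := by
    intro x hx
    rw [mem_centralizer_iff]
    intro y hy
    have h1 : y * x * y⁻¹ * x⁻¹ ∈ Qb := by
      have hyn : y ∈ normalizer (Qb : Set (G ⧸ N)) := hPbn (hOple hy)
      exact Qb.mul_mem ((mem_normalizer_iff.mp hyn x).mp hx) (Qb.inv_mem hx)
    have h2 : y * x * y⁻¹ * x⁻¹ ∈ pCore p (G ⧸ N) := by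
      have hn : (pCore p (G ⧸ N)).Normal := inferInstance
      have h3 : x * y⁻¹ * x⁻¹ ∈ pCore p (G ⧸ N) := hn.conj_mem _ (Subgroup.inv_mem _ hy) x
      have h4 : y * x * y⁻¹ * x⁻¹ = y * (x * y⁻¹ * x⁻¹) := by group
      rw [h4]
      exact Subgroup.mul_mem _ hy h3
    have h5 : y * x * y⁻¹ * x⁻¹ ∈ Qb ⊓ pCore p (G ⧸ N) := ⟨h1, h2⟩
    rw [hdisj, mem_bot] at h5
    calc y * x = (y * x * y⁻¹ * x⁻¹) * (x * y) := by group
      _ = x * y := by rw [h5, one_mul]
  have hQbot : Qb = ⊥ := by
    rw [eq_bot_iff, ← hdisj]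
    exact le_inf le_rfl (hQbc.trans hC)
  intro x hx
  have h1 : π x ∈ Qb := Subgroup.mem_map_of_mem π hx
  rw [hQbot, mem_bot, hπ, QuotientGroup.mk'_apply, QuotientGroup.eq_one_iff] at h1
  exact h1

/-- Let G be a finite p-solvable group and q a prime different from p. Some Sylow p-subgroup of G normalizes some Sylow q-subgroup of G if and only if q does not divide the order of G/O_{p'}(G), the quotient by the largest normal subgroup of order prime to p. -/
theorem result {G : Type*} [Group G] [Finite G] (p q : ℕ) [Fact p.Prime] [Fact q.Prime] (hpq : p ≠ q) (hsolv : Cfsg.IsPSolvable p G) :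
    (∃ (P : Sylow p G) (Q : Sylow q G), (P : Subgroup G) ≤ Subgroup.normalizer ((Q : Subgroup G) : Set G)) ↔ ¬ q ∣ (Cfsg.pPrimeCore p G).index := by
  have hp : p.Prime := Fact.out
  have hq : q.Prime := Fact.out
  constructor
  · rintro ⟨P, Q, hPQ⟩
    have hle := le_pPrimeCore_of_normalized p q hpq hsolv P (Q : Subgroup G) Q.isPGroup' hPQ
    intro hdvd
    exact Q.not_dvd_index (hdvd.trans (Subgroup.index_dvd_of_le hle))
  · intro hnd
    obtain ⟨P⟩ : Nonempty (Sylow p G) := inferInstance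
    set N := pPrimeCore p G with hN
    have hNc : (Nat.card N).Coprime p := Cfsg.Agent.Lib.Helper5_PPrime.pPrimeCore_coprime p G
    have hPN : (P : Subgroup G) ≤ normalizer (N : Set G) := by
      rw [normalizer_eq_top]; exact le_top
    have hcop : (Nat.card (P : Subgroup G)).Coprime (Nat.card N) := by
      obtain ⟨k, hk⟩ := IsPGroup.iff_card.mp P.isPGroup'
      rw [hk]
      exact Nat.Coprime.pow_left k hNc.symm
    have hPsol : Group.IsSolvable (P : Subgroup G) := by
      haveI := P.isPGroup'.isNilpotent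
      infer_instance
    obtain ⟨Q₀, hQ₀⟩ := Cfsg.Agent.Lib.Lead_Coprime.exists_invariant_sylow (P : Subgroup G) N hPN hcop
      (Or.inl hPsol) q
    have hcard : Nat.card ((Q₀ : Subgroup N).map N.subtype) = q ^ (Nat.card G).factorization q := by
      rw [Nat.card_congr ((Q₀ : Subgroup N).equivMapOfInjective N.subtype
        N.subtype_injective).symm.toEquiv, Q₀.card_eq_multiplicity]
      congr 1
      rw [← Subgroup.card_mul_index N, Nat.factorization_mul Nat.card_pos.ne'
        (Subgroup.index_ne_zero_of_finite)]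
      simp [Nat.factorization_eq_zero_of_not_dvd hnd]
    exact ⟨P, Sylow.ofCard _ hcard, hQ₀⟩

end Cfsg.Agent.S4602
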