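import Mathlib
import Cfsg.Statements.S4601
import Cfsg.Agent.S4602
import Cfsg.Agent.Lib.Helper7_SylowCount
import Cfsg.Agent.Lib.Helper2_Hall
import Cfsg.Agent.Lib.Helper7_Basic
import Cfsg.Agent.Lib.Lead_Coprime

set_option autoImplicit false
open Cfsg

namespace Cfsg.Agent.S4601

open Subgroup

/-- the class-size hypothesis -/
def Hyp (p q : ℕ) (G : Type*) [Group G] : Prop :=
  ∀ y : G, (∃ k : ℕ, orderOf y = q ^ k) → ¬ p ∣ (centralizer ({y} : Set G)).index

/-- the hypothesis passes to quotients -/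
theorem Hyp.quotient {G : Type*} [Group G] [Finite G] {p q : ℕ} [Fact q.Prime] (h : Hyp p q G)
    (N : Subgroup G) [N.Normal] : Hyp p q (G ⧸ N) := by
  intro yb ⟨k, hk⟩
  set π := QuotientGroup.mk' N with hπ
  have hπs : Function.Surjective π := QuotientGroup.mk'_surjective N
  have hZ : IsPGroup q (zpowers yb) := by
    apply IsPGroup.of_card (n := k)
    rw [Nat.card_zpowers, hk]
  obtain ⟨Qb, hQb⟩ := hZ.exists_le_sylow
  obtain ⟨Q, rfl⟩ := Sylow.mapSurjective_surjective hπs q Qb
  have hyb : yb ∈ (Q : Subgroup G).map π := by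
    have := hQb (mem_zpowers yb)
    rwa [Sylow.coe_mapSurjective] at this
  obtain ⟨y, hyQ, rfl⟩ := hyb
  obtain ⟨j, hj⟩ := (IsPGroup.iff_orderOf.mp Q.isPGroup') ⟨y, hyQ⟩
  rw [Subgroup.orderOf_mk] at hj
  have h1 := h y ⟨j, hj⟩
  intro hdvd
  apply h1
  have hle : (centralizer ({y} : Set G)).map π ≤ centralizer ({π y} : Set (G ⧸ N)) := by
    rintro _ ⟨c, hc, rfl⟩
    have hc' : c ∈ centralizer ({y} : Set G) := hc
    rw [mem_centralizer_singleton_iff] at hc' ⊢
    rw [← map_mul, ← map_mul, hc']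
  exact (hdvd.trans (Subgroup.index_dvd_of_le hle)).trans (Subgroup.index_map_dvd _ hπs)

/-- under the hypothesis, every `q`-element centralizes a Sylow `p`-subgroup of any normal
subgroup -/
theorem exists_sylow_le_centralizer {G : Type*} [Group G] [Finite G] {p q : ℕ} [Fact p.Prime]
    (h : Hyp p q G) (N : Subgroup G) [N.Normal] (y : G) (hy : ∃ k : ℕ, orderOf y = q ^ k) :
    ∃ S : Sylow p N, (S : Subgroup N).map N.subtype ≤ centralizer ({y} : Set G) := by
  have hp : p.Prime := Fact.out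
  set C := centralizer ({y} : Set G) with hC
  have h1 : ¬ p ∣ C.index := h y hy
  set D := N ⊓ C with hD
  have h2 : ¬ p ∣ D.relIndex N := by
    rw [hD, ← Cfsg.Agent.S4244.second_iso_abs N C]
    exact fun hd => h1 (hd.trans (Subgroup.relIndex_dvd_index_of_le le_sup_right))
  obtain ⟨T⟩ : Nonempty (Sylow p D) := inferInstance
  set T₁ := (T : Subgroup D).map D.subtype with hT₁
  have hT₁D : T₁ ≤ D := Subgroup.map_subtype_le _
  have hT₁N : T₁ ≤ N := hT₁D.trans inf_le_left
  have hcardT : Nat.card T₁ = p ^ (Nat.card D).factorization p := by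
    rw [hT₁, Nat.card_congr ((T : Subgroup D).equivMapOfInjective D.subtype
      D.subtype_injective).symm.toEquiv, T.card_eq_multiplicity]
  have hfact : (Nat.card D).factorization p = (Nat.card N).factorization p := by
    have h3 : Nat.card D * D.relIndex N = Nat.card N := by
      have := Subgroup.relIndex_mul_relIndex ⊥ D N bot_le inf_le_left
      rwa [Subgroup.relIndex_bot_left, Subgroup.relIndex_bot_left] at this
    have h0 : D.relIndex N ≠ 0 := by
      intro h0
      rw [h0, mul_zero] at h3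
      exact Nat.card_pos.ne' h3.symm
    rw [← h3, Nat.factorization_mul Nat.card_pos.ne' h0]
    simp [Nat.factorization_eq_zero_of_not_dvd h2]
  have hcard : Nat.card (T₁.subgroupOf N) = p ^ (Nat.card N).factorization p := by
    rw [Nat.card_congr (Subgroup.subgroupOfEquivOfLe hT₁N).toEquiv, hcardT, hfact]
  refine ⟨Sylow.ofCard _ hcard, ?_⟩
  rw [Sylow.coe_ofCard, Subgroup.map_subgroupOf_eq_of_le hT₁N]
  exact hT₁D.trans inf_le_right

/-- conjugate Sylow subgroups of a subgroup, seen in the big group -/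
theorem mem_map_smul_iff {G : Type*} [Group G] {p : ℕ} (N : Subgroup G) (m : N) (S : Sylow p N)
    (s : G) : s ∈ ((m • S : Sylow p N) : Subgroup N).map N.subtype ↔
      (m : G)⁻¹ * s * (m : G) ∈ (S : Subgroup N).map N.subtype := by
  constructor
  · rintro ⟨s₀, hs₀, rfl⟩
    have h1 : s₀ ∈ m • S := hs₀
    rw [Cfsg.Agent.Lib.Helper7_Basic.mem_smul_sylow] at h1
    exact ⟨_, h1, by simp⟩
  · rintro ⟨t, ht, hts⟩
    refine ⟨m * t * m⁻¹, ?_, ?_⟩
    · show m * t * m⁻¹ ∈ m • S
      rw [Cfsg.Agent.Lib.Helper7_Basic.mem_smul_sylow]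
      have : m⁻¹ * (m * t * m⁻¹) * m = t := by group
      rw [this]; exact ht
    · have h2 : (N.subtype t : G) = (m : G)⁻¹ * s * (m : G) := hts
      simp only [Subgroup.coe_subtype, Subgroup.coe_mul, Subgroup.coe_inv] at h2 ⊢
      rw [h2]; group

/-- Under the hypothesis, a `q`-element normalizing a Sylow `p`-subgroup of a normal `q'`-subgroup
centralizes it. -/
theorem centralizes_of_normalizes {G : Type*} [Group G] [Finite G] {p q : ℕ} [Fact p.Prime]
    [Fact q.Prime] (h : Hyp p q G) (N : Subgroup G) [hNn : N.Normal] (hqN : (Nat.card N).Coprime q)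
    (S : Sylow p N) (y : G) (hy : ∃ k : ℕ, orderOf y = q ^ k)
    (hyS : y ∈ normalizer (((S : Subgroup N).map N.subtype : Subgroup G) : Set G)) :
    ∀ s ∈ (S : Subgroup N).map N.subtype, y * s = s * y := by
  obtain ⟨S', hS'⟩ := exists_sylow_le_centralizer h N y hy
  obtain ⟨m, hm⟩ := MulAction.exists_smul_eq N S' S
  set S₁ := (S : Subgroup N).map N.subtype with hS₁
  set S₂ := (S' : Subgroup N).map N.subtype with hS₂
  have hconj : ∀ s : G, s ∈ S₁ ↔ (m : G)⁻¹ * s * (m : G) ∈ S₂ := by
    intro s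
    rw [hS₁, ← hm]
    exact mem_map_smul_iff N m S' s
  have hycomm : ∀ t ∈ S₂, t * y = y * t := fun t ht => mem_centralizer_singleton_iff.mp (hS' ht)
  set A := zpowers y with hA
  have hAcomm : ∀ a ∈ A, ∀ t ∈ S₂, a * t = t * a := by
    intro a ha t ht
    obtain ⟨j, rfl⟩ := mem_zpowers_iff.mp ha
    exact ((show Commute y t from (hycomm t ht).symm).zpow_left j).eq
  have hAS₂ : A ≤ normalizer (S₂ : Set G) := by
    intro a ha
    apply Subgroup.mem_normalizer_fintype
    intro t ht
    have : a * t * a⁻¹ = t := by rw [hAcomm a ha t ht]; group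
    rw [this]; exact ht
  have hAS₁ : A ≤ normalizer (S₁ : Set G) := by
    rw [hA, zpowers_le]; exact hyS
  have hAN : A ≤ normalizer (N : Set G) := by rw [normalizer_eq_top]; exact le_top
  set D := normalizer (S₂ : Set G) ⊓ N with hD
  have hAD : A ≤ normalizer (D : Set G) :=
    Cfsg.Agent.Lib.Lead_Coprime.le_normalizer_normalizer_inf A S₂ N hAS₂ hAN
  have hcop : (Nat.card A).Coprime (Nat.card D) := by
    obtain ⟨k, hk⟩ := hy
    rw [hA, Nat.card_zpowers, hk]
    apply Nat.Coprime.pow_left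
    exact (Nat.Coprime.coprime_dvd_left (Subgroup.card_dvd_of_le inf_le_right) hqN).symm
  have hsolv : Group.IsSolvable A := by
    apply Group.isSolvable_of_comm
    rintro ⟨a, ha⟩ ⟨b, hb⟩
    apply Subtype.ext
    obtain ⟨i, rfl⟩ := mem_zpowers_iff.mp ha
    obtain ⟨j, rfl⟩ := mem_zpowers_iff.mp hb
    show y ^ i * y ^ j = y ^ j * y ^ i
    rw [← zpow_add, ← zpow_add, add_comm]
  have hx : ∀ a ∈ A, (m : G)⁻¹ * a * (m : G) * a⁻¹ ∈ D := by
    intro a ha
    refine ⟨?_, ?_⟩
    · apply Subgroup.mem_normalizer_fintype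
      intro t ht
      -- a⁻¹ t a = t
      have h1 : a⁻¹ * t * a = t := by
        have := hAcomm a ha t ht
        calc a⁻¹ * t * a = a⁻¹ * (t * a) := by group
          _ = a⁻¹ * (a * t) := by rw [this]
          _ = t := by group
      have h2 : (m : G) * t * (m : G)⁻¹ ∈ S₁ := by
        rw [hconj]
        have : (m : G)⁻¹ * ((m : G) * t * (m : G)⁻¹) * (m : G) = t := by group
        rw [this]; exact ht
      have h3 : a * ((m : G) * t * (m : G)⁻¹) * a⁻¹ ∈ S₁ :=
        (mem_normalizer_iff.mp (hAS₁ ha) _).mp h2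
      have h4 := (hconj _).mp h3
      have h5 : (m : G)⁻¹ * a * (m : G) * a⁻¹ * t * ((m : G)⁻¹ * a * (m : G) * a⁻¹)⁻¹ =
          (m : G)⁻¹ * (a * ((m : G) * (a⁻¹ * t * a) * (m : G)⁻¹) * a⁻¹) * (m : G) := by group
      rw [h5, h1]
      exact h4
    · have h1 : a * (m : G) * a⁻¹ ∈ N := hNn.conj_mem _ m.2 a
      have h2 : (m : G)⁻¹ * a * (m : G) * a⁻¹ = (m : G)⁻¹ * (a * (m : G) * a⁻¹) := by group
      rw [h2]
      exact N.mul_mem (N.inv_mem m.2) h1
  obtain ⟨d, hdD, hdc⟩ := Cfsg.Agent.Lib.Lead_Coprime.lemmaC D A hAD hcop (Or.inl hsolv) (m : G) hx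
  intro s hs
  have hs' := (hconj s).mp hs
  have hdn : d⁻¹ ∈ normalizer (S₂ : Set G) := Subgroup.inv_mem _ hdD.1
  have hs'' : d⁻¹ * ((m : G)⁻¹ * s * (m : G)) * d⁻¹⁻¹ ∈ S₂ :=
    (mem_normalizer_iff.mp hdn _).mp hs'
  have hymd : ((m : G) * d) * y = y * ((m : G) * d) :=
    (mem_centralizer_iff.mp hdc) y (mem_zpowers y) |>.symm
  have hyt := hycomm _ hs''
  have hse : s = ((m : G) * d) * (d⁻¹ * ((m : G)⁻¹ * s * (m : G)) * d⁻¹⁻¹) * ((m : G) * d)⁻¹ := by
    group
  have c1 : Commute y ((m : G) * d) := hymd.symm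
  have c2 : Commute y (d⁻¹ * ((m : G)⁻¹ * s * (m : G)) * d⁻¹⁻¹) := hyt.symm
  have c3 : Commute y s := by
    rw [hse]
    exact (c1.mul_right c2).mul_right c1.inv_right
  exact c3.eq

/-- The number of Sylow `q`-subgroups of `Q N` is prime to `p` when `N` is a normal `q'`-subgroup. -/
theorem not_dvd_card_sylow_sup {G : Type*} [Group G] [Finite G] {p q : ℕ} [hpf : Fact p.Prime]
    [hqf : Fact q.Prime] (hpq : p ≠ q) (h : Hyp p q G) (N : Subgroup G) [hNn : N.Normal]
    (hqN : (Nat.card N).Coprime q) (Q : Sylow q G) :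
    ¬ p ∣ Nat.card (Sylow q ↥((Q : Subgroup G) ⊔ N)) := by
  have hp : p.Prime := hpf.out
  have hq : q.Prime := hqf.out
  set L := (Q : Subgroup G) ⊔ N with hL
  have hQL : (Q : Subgroup G) ≤ L := le_sup_left
  have e1 : Nat.card (Sylow q ↥L) = (normalizer ((Q : Subgroup G) : Set G)).relIndex L := by
    have e : Nat.card (Sylow q ↥L) = (normalizer
        (((Q : Subgroup G).subgroupOf L : Subgroup ↥L) : Set ↥L)).index :=
      Sylow.card_eq_index_normalizer (Q.subtype hQL)
    rw [e, ← subgroupOf_normalizer_eq hQL]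
    rfl
  -- the invariant Sylow p-subgroup of N
  have hQN : (Q : Subgroup G) ≤ normalizer (N : Set G) := by
    rw [normalizer_eq_top]; exact le_top
  obtain ⟨b, hb⟩ := IsPGroup.iff_card.mp Q.isPGroup'
  have hcop : (Nat.card (Q : Subgroup G)).Coprime (Nat.card N) := by
    rw [hb]; exact Nat.Coprime.pow_left b hqN.symm
  have hQsol : Group.IsSolvable (Q : Subgroup G) := by
    haveI := Q.isPGroup'.isNilpotent
    infer_instance
  obtain ⟨S, hS⟩ := Cfsg.Agent.Lib.Lead_Coprime.exists_invariant_sylow (Q : Subgroup G) N hQN hcop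
    (Or.inl hQsol) p
  set S₁ := (S : Subgroup N).map N.subtype with hS₁
  have hcent : ∀ y ∈ (Q : Subgroup G), ∀ s ∈ S₁, y * s = s * y := by
    intro y hy
    obtain ⟨k, hk⟩ := (IsPGroup.iff_orderOf.mp Q.isPGroup') ⟨y, hy⟩
    rw [Subgroup.orderOf_mk] at hk
    exact centralizes_of_normalizes h N hqN S y ⟨k, hk⟩ (hS hy)
  set R := normalizer ((Q : Subgroup G) : Set G) ⊓ L with hR
  have hQR : (Q : Subgroup G) ≤ R := le_inf le_normalizer hQL
  have hS₁N : S₁ ≤ N := Subgroup.map_subtype_le _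
  have hS₁R : S₁ ≤ R := by
    intro s hs
    refine ⟨?_, le_sup_right (a := (Q : Subgroup G)) (hS₁N hs)⟩
    apply Subgroup.mem_normalizer_fintype
    intro y hy
    have hy' : y ∈ (Q : Subgroup G) := hy
    have : s * y * s⁻¹ = y := by rw [← hcent y hy' s hs]; group
    rw [this]; exact hy
  have hcardS : Nat.card S₁ = p ^ (Nat.card N).factorization p := by
    rw [hS₁, Nat.card_congr ((S : Subgroup N).equivMapOfInjective N.subtype
      N.subtype_injective).symm.toEquiv, S.card_eq_multiplicity]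
  have hdvdR : Nat.card (Q : Subgroup G) * Nat.card S₁ ∣ Nat.card R := by
    apply Nat.Coprime.mul_dvd_of_dvd_of_dvd
    · rw [hb, hcardS]
      exact Nat.Coprime.pow _ _ ((Nat.coprime_primes hq hp).mpr hpq.symm)
    · exact Subgroup.card_dvd_of_le hQR
    · exact Subgroup.card_dvd_of_le hS₁R
  have hRL : Nat.card R * (normalizer ((Q : Subgroup G) : Set G)).relIndex L = Nat.card L := by
    have h1 := Subgroup.relIndex_mul_relIndex ⊥ R L bot_le inf_le_right
    rw [Subgroup.relIndex_bot_left, Subgroup.relIndex_bot_left, hR,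
      Subgroup.inf_relIndex_right] at h1
    exact h1
  have hLdvd : Nat.card L ∣ Nat.card N * Nat.card (Q : Subgroup G) := by
    rw [hL, sup_comm]
    exact Cfsg.Agent.Lib.Helper2_Hall.card_sup_dvd_mul N (Q : Subgroup G)
  rw [e1]
  intro hdvd
  have h1 : Nat.card (Q : Subgroup G) * Nat.card S₁ * p ∣ Nat.card N * Nat.card (Q : Subgroup G) := by
    refine dvd_trans ?_ hLdvd
    rw [← hRL]
    exact Nat.mul_dvd_mul hdvdR hdvd
  have h2 : Nat.card S₁ * p ∣ Nat.card N := by
    have hpos : 0 < Nat.card (Q : Subgroup G) := Nat.card_pos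
    apply Nat.dvd_of_mul_dvd_mul_left hpos
    rw [mul_comm (Nat.card (Q : Subgroup G)) (Nat.card N), ← mul_assoc]
    exact h1
  rw [hcardS, ← pow_succ] at h2
  exact Nat.pow_succ_factorization_not_dvd Nat.card_pos.ne' hp h2

universe u

/-- Main lemma: in a `q`-solvable group satisfying the hypothesis, the number of Sylow
`q`-subgroups is prime to `p`. -/
theorem not_dvd_card_sylow_aux (p q : ℕ) [hpf : Fact p.Prime] [hqf : Fact q.Prime] (hpq : p ≠ q) :
    ∀ (n : ℕ) (G : Type u) [Group G] [Finite G], Nat.card G = n → IsPSolvable q G →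
      Hyp p q G → ¬ p ∣ Nat.card (Sylow q G) := by
  have hp : p.Prime := hpf.out
  have hq : q.Prime := hqf.out
  intro n
  induction n using Nat.strong_induction_on with
  | _ n ih =>
  intro G _ _ hn hsolv h
  by_cases hnt : Nontrivial G
  · obtain ⟨N, hNn, hNne, hNP⟩ := Cfsg.Agent.Lib.Helper7_PSolvable.exists_normal_PorC hsolv
    haveI := hNn
    have hlt : Nat.card (G ⧸ N) < n := by
      rw [← hn, ← Subgroup.index_eq_card, ← Subgroup.card_mul_index N]
      have h1 : 1 < Nat.card N := (Subgroup.one_lt_card_iff_ne_bot (H := N)).mpr hNne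
      have h2 : 0 < N.index := Nat.pos_of_ne_zero Subgroup.index_ne_zero_of_finite
      nlinarith
    have h1 := ih _ hlt (G ⧸ N) rfl (Cfsg.Agent.Lib.Helper7_PSolvable.quotient hq hsolv N)
      (h.quotient N)
    obtain ⟨Q⟩ : Nonempty (Sylow q G) := inferInstance
    rw [Cfsg.Agent.Lib.Helper7_SylowCount.card_sylow_eq_mul q N Q]
    intro hdvd
    rcases (Nat.Prime.dvd_mul hp).mp hdvd with h2 | h2
    · exact h1 h2
    · rcases hNP with ⟨m, hm⟩ | hcop
      · have hNQ : N ≤ Q :=
          Cfsg.Agent.Lib.Helper7_PCore.normal_pgroup_le_sylow hNn (IsPGroup.of_card hm) Q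
        have hQL : (Q : Subgroup G) ≤ (Q : Subgroup G) ⊔ N := le_sup_left
        have h3 := (Q.subtype hQL).card_dvd_index
        have h4 : ((Q.subtype hQL : Sylow q ↥((Q : Subgroup G) ⊔ N)) :
            Subgroup ↥((Q : Subgroup G) ⊔ N)).index = 1 := by
          rw [Sylow.coe_subtype]
          show (Q : Subgroup G).relIndex ((Q : Subgroup G) ⊔ N) = 1
          rw [Subgroup.relIndex_eq_one]
          exact sup_le le_rfl hNQ
        rw [h4] at h3
        exact hp.one_lt.ne' (Nat.dvd_one.mp (h2.trans h3))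
      · exact not_dvd_card_sylow_sup hpq h N hcop Q h2
  · rw [not_nontrivial_iff_subsingleton] at hnt
    obtain ⟨Q⟩ : Nonempty (Sylow q G) := inferInstance
    have h3 := Q.card_dvd_index
    have h4 : (Q : Subgroup G).index ∣ Nat.card G := Subgroup.index_dvd_card _
    rw [Nat.card_eq_one_iff_unique.mpr ⟨hnt, ⟨1⟩⟩] at h4
    intro hdvd
    exact hp.one_lt.ne' (Nat.dvd_one.mp ((hdvd.trans h3).trans h4))

/-- a normal `p`-subgroup lies in every subgroup of index prime to `p` -/
theorem normal_pgroup_le_of_not_dvd_index {G : Type*} [Group G] [Finite G] {p : ℕ}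
    [hpf : Fact p.Prime] (R H : Subgroup G) [R.Normal] (hR : IsPGroup p R)
    (hH : ¬ p ∣ H.index) : R ≤ H := by
  have hp : p.Prime := hpf.out
  have h1 : H.relIndex (R ⊔ H) ∣ H.index := Subgroup.relIndex_dvd_index_of_le le_sup_right
  have h2 : H.relIndex (R ⊔ H) = (R ⊓ H).relIndex R := Cfsg.Agent.S4244.second_iso_abs R H
  obtain ⟨k, hk⟩ := IsPGroup.iff_card.mp hR
  have h3 : (R ⊓ H).relIndex R ∣ p ^ k := by
    rw [← hk]
    have := Subgroup.relIndex_mul_relIndex ⊥ (R ⊓ H) R bot_le inf_le_left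
    rw [Subgroup.relIndex_bot_left, Subgroup.relIndex_bot_left] at this
    exact Dvd.intro_left _ this
  obtain ⟨j, -, hj⟩ := (Nat.dvd_prime_pow hp).mp h3
  have hj0 : j = 0 := by
    by_contra hne
    apply hH
    refine dvd_trans ?_ h1
    rw [h2, hj]
    exact dvd_pow_self p hne
  rw [hj0, pow_zero] at hj
  rw [← h2, Subgroup.relIndex_eq_one] at hj
  exact le_sup_left.trans hj

/-- Let p and q be primes and G a finite group that is p-solvable or q-solvable, in which no q-element has conjugacy class size divisible by p. Then some Sylow p-subgroup of G normalizes some Sylow q-subgroup of G. -/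
theorem result {G : Type*} [Group G] [Finite G] (p q : ℕ) [Fact p.Prime] [Fact q.Prime] (hsolv : Cfsg.IsPSolvable p G ∨ Cfsg.IsPSolvable q G)
    (h : ∀ y : G, (∃ k : ℕ, orderOf y = q ^ k) → ¬ p ∣ (Subgroup.centralizer ({y} : Set G)).index) :
    ∃ (P : Sylow p G) (Q : Sylow q G), (P : Subgroup G) ≤ Subgroup.normalizer ((Q : Subgroup G) : Set G) := by
  have hp : p.Prime := Fact.out
  have hq : q.Prime := Fact.out
  by_cases hpq : p = q
  · subst hpq
    obtain ⟨P⟩ : Nonempty (Sylow p G) := inferInstance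
    exact ⟨P, P, le_normalizer⟩
  rcases hsolv with hs | hs
  · -- the p-solvable case
    apply (Cfsg.Agent.S4602.result p q hpq hs).mpr
    obtain ⟨Q⟩ : Nonempty (Sylow q G) := inferInstance
    set N := pPrimeCore p G with hN
    set π := QuotientGroup.mk' N with hπ
    have hπs : Function.Surjective π := QuotientGroup.mk'_surjective N
    have hsolvq : IsPSolvable p (G ⧸ N) := Cfsg.Agent.Lib.Helper7_PSolvable.quotient hp hs N
    have hO : pPrimeCore p (G ⧸ N) = ⊥ := Cfsg.Agent.S1958.pPrimeCore_quotient p G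
    have hC := Cfsg.Agent.Lib.Helper6_HallHigman.centralizer_pCore_le hsolvq hO
    have hOp : IsPGroup p (pCore p (G ⧸ N)) := Cfsg.Agent.Lib.Helper7_PCore.pCore_isPGroup p
    have hQN : (Q : Subgroup G) ≤ N := by
      intro y hy
      obtain ⟨j, hj⟩ := (IsPGroup.iff_orderOf.mp Q.isPGroup') ⟨y, hy⟩
      rw [Subgroup.orderOf_mk] at hj
      have h1 : ¬ p ∣ (Subgroup.centralizer ({y} : Set G)).index := h y ⟨j, hj⟩
      have h2 : ¬ p ∣ ((Subgroup.centralizer ({y} : Set G)).map π).index :=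
        fun hd => h1 (hd.trans (Subgroup.index_map_dvd _ hπs))
      have h3 : pCore p (G ⧸ N) ≤ (Subgroup.centralizer ({y} : Set G)).map π :=
        normal_pgroup_le_of_not_dvd_index _ _ hOp h2
      have h4 : π y ∈ Subgroup.centralizer (pCore p (G ⧸ N) : Set (G ⧸ N)) := by
        rw [Subgroup.mem_centralizer_iff]
        intro z hz
        obtain ⟨c, hc, rfl⟩ := h3 hz
        have hc' : c ∈ Subgroup.centralizer ({y} : Set G) := hc
        rw [Subgroup.mem_centralizer_singleton_iff] at hc'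
        rw [← map_mul, ← map_mul, hc']
      have h5 : π y ∈ pCore p (G ⧸ N) := hC h4
      obtain ⟨i, hi⟩ := (IsPGroup.iff_orderOf.mp hOp) ⟨π y, h5⟩
      rw [Subgroup.orderOf_mk] at hi
      have h6 : orderOf (π y) ∣ q ^ j := by rw [← hj]; exact orderOf_map_dvd π y
      rw [hi] at h6
      have hi0 : i = 0 := by
        by_contra hne
        have h7 : p ∣ q ^ j := (dvd_pow_self p hne).trans h6
        exact hpq ((Nat.prime_dvd_prime_iff_eq hp hq).mp (hp.dvd_of_dvd_pow h7))
      rw [hi0, pow_zero, orderOf_eq_one_iff, hπ, QuotientGroup.mk'_apply,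
        QuotientGroup.eq_one_iff] at hi
      exact hi
    intro hdvd
    exact Q.not_dvd_index (hdvd.trans (Subgroup.index_dvd_of_le hQN))
  · -- the q-solvable case
    have h1 := not_dvd_card_sylow_aux p q hpq _ G rfl hs h
    obtain ⟨Q⟩ : Nonempty (Sylow q G) := inferInstance
    rw [Sylow.card_eq_index_normalizer Q] at h1
    set M := Subgroup.normalizer ((Q : Subgroup G) : Set G) with hM
    obtain ⟨T⟩ : Nonempty (Sylow p M) := inferInstance
    set T₁ := (T : Subgroup M).map M.subtype with hT₁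
    have hT₁M : T₁ ≤ M := Subgroup.map_subtype_le _
    have hcard : Nat.card T₁ = p ^ (Nat.card G).factorization p := by
      rw [hT₁, Nat.card_congr ((T : Subgroup M).equivMapOfInjective M.subtype
        M.subtype_injective).symm.toEquiv, T.card_eq_multiplicity]
      congr 1
      have h1' : ¬ p ∣ M.index := h1
      rw [← Subgroup.card_mul_index M, Nat.factorization_mul Nat.card_pos.ne'
        (Subgroup.index_ne_zero_of_finite)]
      simp [Nat.factorization_eq_zero_of_not_dvd h1']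
    exact ⟨Sylow.ofCard T₁ hcard, Q, hT₁M⟩

end Cfsg.Agent.S4601
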