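import Cfsg.Statements.S4604
import Cfsg.Agent.Lib.Helper2_ClassFn
import Cfsg.Agent.Lib.Helper2_CharBasic
import Cfsg.Agent.Lib.Helper2_CharOrtho
import Cfsg.Agent.Lib.Helper2_Clifford
import Cfsg.Agent.Lib.Helper2_CharMore
import Cfsg.Agent.Lib.Helper2_CharNorm
import Cfsg.Agent.Lib.Helper2_CharValues
import Cfsg.Agent.Lib.Helper2_CharComplete
import Cfsg.Agent.Lib.Helper2_CharInd
import Cfsg.Agent.Lib.Helper2_CharTable
import Cfsg.Agent.Lib.Helper2_CharFrob
import Cfsg.Agent.Lib.Helper2_CharDeg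
import Cfsg.Agent.Lib.Helper2_CharSum
import Cfsg.Agent.Lib.Helper2_CharExtra
import Cfsg.Agent.Lib.Helper2_CharCentral
import Cfsg.Agent.Lib.Helper2_PermChar
import Cfsg.Agent.Lib.Helper2_FrobSchur
import Cfsg.Agent.Lib.Helper2_CliffordCorr
import Cfsg.Agent.Lib.Helper2_CharKernel
import Cfsg.Agent.Lib.Helper2_CyclicTI
import Cfsg.Agent.Lib.Helper2_CharGalois
import Cfsg.Agent.Lib.Helper2_CharInt
import Cfsg.Agent.Lib.Helper2_CharBurnside
import Cfsg.Agent.Lib.Helper2_CharCenter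
import Cfsg.Agent.Lib.Helper2_Ito
import Cfsg.Agent.Lib.Helper2_Gallagher
import Cfsg.Agent.Lib.Helper2_Artin
import Cfsg.Agent.Lib.Helper2_MGroup
import Cfsg.Agent.Lib.Helper2_RepEquiv
import Cfsg.Agent.Lib.Helper2_CyclicExt
import Cfsg.Agent.Lib.Helper2_Extraspecial
import Cfsg.Agent.Lib.Helper2_ProjLift
import Cfsg.Agent.Lib.Helper2_CentralExt
import Cfsg.Agent.Lib.Helper2_SylowExt
import Cfsg.Agent.Lib.Helper2_DetChar
import Cfsg.Agent.Lib.Helper2_LinExt
import Cfsg.Agent.Lib.Helper2_DetExt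
import Cfsg.Agent.Lib.Helper2_GallagherExt
import Cfsg.Agent.Lib.Helper2_PermInd
import Cfsg.Agent.Lib.Helper2_QuasiElem
import Cfsg.Agent.Lib.Helper2_BrauerInd
import Cfsg.Agent.Lib.Helper2_BrauerThm
import Cfsg.Agent.Lib.Helper2_NilDecomp
import Cfsg.Agent.Lib.Helper2_DefectZero
import Cfsg.Agent.Lib.Helper2_CharGalois2
import Cfsg.Agent.Lib.Helper2_CosetAvg
import Cfsg.Agent.Lib.Helper2_Thompson
import Cfsg.Agent.Lib.Helper2_ItoSolv
import Cfsg.Agent.Lib.Helper2_ItoPSolv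
import Cfsg.Agent.Lib.Helper2_GaloisConj
import Cfsg.Agent.Lib.Helper2_AbelInertia
import Cfsg.Agent.Lib.Helper2_Gagola
import Cfsg.Agent.Lib.Helper2_GoingDown
import Cfsg.Agent.Lib.Helper2_RelMGroup
import Cfsg.Agent.Lib.Helper2_Gagola2
import Cfsg.Agent.Lib.Helper2_Gagola3
import Cfsg.Agent.Lib.Helper2_Dade
import Cfsg.Agent.Lib.Helper2_PiSection
import Cfsg.Agent.Lib.Helper2_ModM

set_option autoImplicit false
open Cfsg

namespace Cfsg.Agent.S4604

open Cfsg.Agent.Lib.Helper2_ClassFn Cfsg.Agent.Lib.Helper2_CharBasic Cfsg.Agent.Lib.Helper2_CharOrtho Cfsg.Agent.Lib.Helper2_Clifford Cfsg.Agent.Lib.Helper2_CharMore Cfsg.Agent.Lib.Helper2_CharNorm Cfsg.Agent.Lib.Helper2_CharValues Cfsg.Agent.Lib.Helper2_CharComplete Cfsg.Agent.Lib.Helper2_CharInd Cfsg.Agent.Lib.Helper2_CharTable Cfsg.Agent.Lib.Helper2_CharFrob Cfsg.Agent.Lib.Helper2_CharDeg Cfsg.Agent.Lib.Helper2_CharSum Cfsg.Agent.Lib.Helper2_CharExtra Cfsg.Agent.Lib.Helper2_CharCentral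 Cfsg.Agent.Lib.Helper2_PermChar Cfsg.Agent.Lib.Helper2_FrobSchur Cfsg.Agent.Lib.Helper2_CliffordCorr Cfsg.Agent.Lib.Helper2_CharKernel Cfsg.Agent.Lib.Helper2_CyclicTI Cfsg.Agent.Lib.Helper2_CharGalois Cfsg.Agent.Lib.Helper2_CharInt Cfsg.Agent.Lib.Helper2_CharBurnside Cfsg.Agent.Lib.Helper2_CharCenter Cfsg.Agent.Lib.Helper2_Ito Cfsg.Agent.Lib.Helper2_Gallagher Cfsg.Agent.Lib.Helper2_Artin Cfsg.Agent.Lib.Helper2_MGroup Cfsg.Agent.Lib.Helper2_RepEquiv Cfsg.Agent.Lib.Helper2_CyclicExt Cfsg.Agent.Lib.Helper2_Extraspecial Cfsg.Agent.Lib.Helper2_ProjLift Cfsg.Agent.Lib.Helper2_CentralExt Cfsg.Agent.Lib.Helper2_SylowExt Cfsg.Agent.Lib.Helper2_DetChar Cfsg.Agent.Lib.Helper2_LinExt Cfsg.Agent.Lib.Helper2_DetExt Cfsg.Agent.Lib.Helper2_GallagherExt Cfsg.Agent.Lib.Helper2_PermInd Cfsg.Agent.Lib.Helper2_QuasiElem Cfsg.Agent.Lib.Helper2_BrauerInd Cfsg.Agent.Lib.Helper2_BrauerThm Cfsg.Agent.Lib.Helper2_NilDecomp Cfsg.Agent.Lib.Helper2_DefectZero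 Cfsg.Agent.Lib.Helper2_CharGalois2 Cfsg.Agent.Lib.Helper2_CosetAvg Cfsg.Agent.Lib.Helper2_Thompson Cfsg.Agent.Lib.Helper2_ItoSolv Cfsg.Agent.Lib.Helper2_ItoPSolv Cfsg.Agent.Lib.Helper2_GaloisConj Cfsg.Agent.Lib.Helper2_AbelInertia Cfsg.Agent.Lib.Helper2_Gagola Cfsg.Agent.Lib.Helper2_GoingDown Cfsg.Agent.Lib.Helper2_RelMGroup Cfsg.Agent.Lib.Helper2_Gagola2 Cfsg.Agent.Lib.Helper2_Gagola3 Cfsg.Agent.Lib.Helper2_Dade Cfsg.Agent.Lib.Helper2_PiSection Cfsg.Agent.Lib.Helper2_ModM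
open scoped Pointwise


/-- Let G be a finite group, p a prime and p^a the p-part of the order of G. Let x, y ∈ G and let x′, y′ be their p-regular parts: x′ has order prime to p, commutes with x·x′⁻¹, and x·x′⁻¹ has p-power order (likewise for y). Then x′ and y′ are conjugate in G if and only if for every irreducible character χ of G the algebraic integer χ(x)^(p^a) − χ(y)^(p^a) is p times an algebraic integer. -/
theorem result {G : Type*} [Group G] [Finite G] (p : ℕ) [Fact p.Prime] (x y x' y' : G)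
    (hx : (∃ k : ℕ, orderOf (x * x'⁻¹) = p ^ k) ∧ Commute (x * x'⁻¹) x' ∧ ¬ p ∣ orderOf x')
    (hy : (∃ k : ℕ, orderOf (y * y'⁻¹) = p ^ k) ∧ Commute (y * y'⁻¹) y' ∧ ¬ p ∣ orderOf y') :
    IsConj x' y' ↔ ∀ χ : Cfsg.IrrCharacter G, ∃ γ : Cfsg.AlgInt,
      (χ : G → ℂ) x ^ (p ^ (Nat.card G).factorization p) - (χ : G → ℂ) y ^ (p ^ (Nat.card G).factorization p) = (p : ℂ) * (γ : ℂ) := by
  classical
  haveI : Fintype G := Fintype.ofFinite G
  have hp : p.Prime := Fact.out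
  have hcard0 : Nat.card G ≠ 0 := Nat.card_pos.ne'
  set e := (Nat.card G).factorization p with he
  set m := p ^ e with hm_def
  set n := Nat.card G / p ^ e with hn_def
  have hmn : Nat.card G = m * n := (Nat.ordProj_mul_ordCompl_eq_self (Nat.card G) p).symm
  have hpn : p.Coprime n := Nat.coprime_ordCompl hp hcard0
  have hcop : m.Coprime n := hpn.pow_left e
  have hpos : 0 < m * n := by rw [← hmn]; exact Nat.card_pos
  obtain ⟨r, hm, hn, hr⟩ := exists_crt_exp m n hcop hpos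
  obtain ⟨t, ht⟩ := hn
  obtain ⟨q, hq⟩ := hm
  have hrt : r = n * t + 1 := by omega
  have hpowG : ∀ z : G, z ^ (m * n) = 1 := by
    intro z
    rw [← hmn]
    exact pow_card_eq_one'
  have key : ∀ z z' : G, ((∃ k : ℕ, orderOf (z * z'⁻¹) = p ^ k) ∧ Commute (z * z'⁻¹) z' ∧
      ¬ p ∣ orderOf z') → z ^ m = z' ^ m ∧ z' ^ r = z' := by
    rintro z z' ⟨⟨k, hk⟩, hcomm, hz'⟩
    have hc1 : orderOf (z * z'⁻¹) ∣ m := by
      have h1 : orderOf (z * z'⁻¹) ∣ m * n := orderOf_dvd_of_pow_eq_one (hpowG _)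
      have h2 : (orderOf (z * z'⁻¹)).Coprime n := by rw [hk]; exact hpn.pow_left k
      exact Nat.Coprime.dvd_of_dvd_mul_right h2 h1
    have hw1 : orderOf z' ∣ n := by
      have h1 : orderOf z' ∣ m * n := orderOf_dvd_of_pow_eq_one (hpowG z')
      have h2 : (orderOf z').Coprime m := by
        have : p.Coprime (orderOf z') := (Nat.Prime.coprime_iff_not_dvd hp).mpr hz'
        exact (this.pow_left e).symm
      exact Nat.Coprime.dvd_of_dvd_mul_left h2 h1
    constructor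
    · have hz : z = (z * z'⁻¹) * z' := by group
      conv_lhs => rw [hz]
      rw [hcomm.mul_pow, orderOf_dvd_iff_pow_eq_one.mp hc1, one_mul]
    · rw [hrt, pow_succ, pow_mul, orderOf_dvd_iff_pow_eq_one.mp hw1, one_pow, one_mul]
  obtain ⟨hxm, hxr⟩ := key x x' hx
  obtain ⟨hym, hyr⟩ := key y y' hy
  have hclass : ∀ (χ : G → ℂ), Cfsg.IsCharacter G χ → ∀ a b : G, IsConj a b → χ a = χ b := by
    intro χ hχ a b hab
    obtain ⟨c, hc⟩ := isConj_iff.mp hab
    rw [← hc]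
    exact (IsCharacter.isClassFunction hχ _ _).symm
  have hconjpow : ∀ (a b : G) (k : ℕ), IsConj a b → IsConj (a ^ k) (b ^ k) := by
    intro a b k hab
    obtain ⟨c, hc⟩ := isConj_iff.mp hab
    rw [← hc, conj_pow]
    exact isConj_iff.mpr ⟨c, rfl⟩
  constructor
  · intro hconj χ
    have hχ := IsIrrCharacter.isCharacter χ.2
    have h1 := char_frobenius p hχ x e
    have h2 := char_frobenius p hχ y e
    have h3 : (χ : G → ℂ) (x ^ m) = (χ : G → ℂ) (y ^ m) := by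
      rw [hxm, hym]
      exact hclass _ hχ _ _ (hconjpow _ _ m hconj)
    have : (χ : G → ℂ) x ^ m - (χ : G → ℂ) y ^ m =
        ((χ : G → ℂ) x ^ m - (χ : G → ℂ) (x ^ m)) - ((χ : G → ℂ) y ^ m - (χ : G → ℂ) (y ^ m)) := by
      rw [h3]; ring
    have h4 := dvdP_sub h1 h2
    rw [← this] at h4
    exact h4
  · intro hall
    have hall' : ∀ χ : Cfsg.IrrCharacter G,
        DvdP p ((χ : G → ℂ) (x' ^ m) - (χ : G → ℂ) (y' ^ m)) := by
      intro χ
      have hχ := IsIrrCharacter.isCharacter χ.2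
      have h1 := char_frobenius p hχ x e
      have h2 := char_frobenius p hχ y e
      have h0 : DvdP p ((χ : G → ℂ) x ^ m - (χ : G → ℂ) y ^ m) := hall χ
      have : (χ : G → ℂ) (x' ^ m) - (χ : G → ℂ) (y' ^ m) =
          ((χ : G → ℂ) x ^ m - (χ : G → ℂ) y ^ m) -
          (((χ : G → ℂ) x ^ m - (χ : G → ℂ) (x ^ m)) - ((χ : G → ℂ) y ^ m - (χ : G → ℂ) (y ^ m))) := by
        rw [hxm, hym]; ring
      rw [this]
      exact dvdP_sub h0 (dvdP_sub h1 h2)
    set s := x' ^ m with hs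
    set u := y' ^ m with hu
    have hsr : s ^ r = s := by
      rw [hs, ← pow_mul, mul_comm, pow_mul, hxr]
    have hur : u ^ r = u := by
      rw [hu, ← pow_mul, mul_comm, pow_mul, hyr]
    have hsu : IsConj s u := by
      by_contra hnc
      set ϑ : G → ℂ := fun z => if IsConj (z ^ r) s then (n : ℂ) else 0 with hϑ
      have k1 : ∀ z : G, IsConj (z ^ r) s → ϑ z = n := by
        intro z hz
        simp only [hϑ, if_pos hz]
      have k0 : ∀ z : G, ¬ IsConj (z ^ r) s → ϑ z = 0 := by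
        intro z hz
        simp only [hϑ, if_neg hz]
      have hcf := classFn_of_pow r s (n : ℂ) ϑ k1 k0
      have hR := pi_section_rint' m n r hmn hcop ⟨q, hq⟩ ⟨t, ht⟩ hr s ϑ k1 k0
      have hexp := IsClassFunction.expansion hcf
      have hx1 : ϑ s = n := k1 s (by rw [hsr])
      have hy1 : ϑ u = 0 := k0 u (by rw [hur]; exact fun h => hnc h.symm)
      have hdiff : ϑ s - ϑ u = ∑ ν ∈ irrFinset G, classInner ϑ ν * (ν s - ν u) := by
        have ex := congrFun hexp s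
        have ey := congrFun hexp u
        rw [Finset.sum_apply] at ex ey
        rw [ex, ey, ← Finset.sum_sub_distrib]
        apply Finset.sum_congr rfl
        intro ν _
        simp only [Pi.smul_apply, smul_eq_mul]
        ring
      have hmem : DvdP p (ϑ s - ϑ u) := by
        rw [hdiff]
        apply dvdP_sum
        intro ν hν
        have hνirr := mem_irrFinset.mp hν
        exact dvdP_mul_int (hall' ⟨ν, hνirr⟩) (hR ν hνirr)
      rw [hx1, hy1, sub_zero] at hmem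
      have hdvd := nat_dvd_of_dvdP hp.ne_zero n hmem
      have : p ∣ Nat.gcd p n := Nat.dvd_gcd dvd_rfl hdvd
      rw [Nat.Coprime.gcd_eq_one hpn] at this
      exact hp.one_lt.ne' (Nat.dvd_one.mp this)
    have h5 := hconjpow s u q hsu
    have hxs : s ^ q = x' := by
      rw [hs, ← pow_mul, ← hq, hxr]
    have hyu : u ^ q = y' := by
      rw [hu, ← pow_mul, ← hq, hyr]
    rw [hxs, hyu] at h5
    exact h5

end Cfsg.Agent.S4604
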