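import Cfsg.Statements.S4626
import Cfsg.Agent.Lib.Helper2_ClassFn
import Cfsg.Agent.Lib.Helper2_CharBasic
import Cfsg.Agent.Lib.Helper2_CharOrtho
import Cfsg.Agent.Lib.Helper2_Clifford
import Cfsg.Agent.Lib.Helper2_CharMore
import Cfsg.Agent.Lib.Helper2_CharNorm
import Cfsg.Agent.Lib.Helper2_CharValues
import Cfsg.Agent.Lib.Helper2_CharComplete
import Cfsg.Agent.Lib.Helper2_CharInd
import Cfsg.Agent.Lib.Helper2_CharTable
import Cfsg.Agent.Lib.Helper2_CharFrob
import Cfsg.Agent.Lib.Helper2_CharDeg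
import Cfsg.Agent.Lib.Helper2_CharSum
import Cfsg.Agent.Lib.Helper2_CharExtra
import Cfsg.Agent.Lib.Helper2_CharCentral
import Cfsg.Agent.Lib.Helper2_PermChar
import Cfsg.Agent.Lib.Helper2_FrobSchur
import Cfsg.Agent.Lib.Helper2_CliffordCorr
import Cfsg.Agent.Lib.Helper2_CharKernel
import Cfsg.Agent.Lib.Helper2_CyclicTI
import Cfsg.Agent.Lib.Helper2_CharGalois
import Cfsg.Agent.Lib.Helper2_CharInt
import Cfsg.Agent.Lib.Helper2_CharBurnside
import Cfsg.Agent.Lib.Helper2_CharCenter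
import Cfsg.Agent.Lib.Helper2_Ito
import Cfsg.Agent.Lib.Helper2_Gallagher
import Cfsg.Agent.Lib.Helper2_Artin
import Cfsg.Agent.Lib.Helper2_MGroup
import Cfsg.Agent.Lib.Helper2_RepEquiv
import Cfsg.Agent.Lib.Helper2_CyclicExt
import Cfsg.Agent.Lib.Helper2_Extraspecial
import Cfsg.Agent.Lib.Helper2_ProjLift
import Cfsg.Agent.Lib.Helper2_CentralExt
import Cfsg.Agent.Lib.Helper2_SylowExt
import Cfsg.Agent.Lib.Helper2_DetChar
import Cfsg.Agent.Lib.Helper2_LinExt
import Cfsg.Agent.Lib.Helper2_DetExt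
import Cfsg.Agent.Lib.Helper2_GallagherExt
import Cfsg.Agent.Lib.Helper2_PermInd
import Cfsg.Agent.Lib.Helper2_QuasiElem
import Cfsg.Agent.Lib.Helper2_BrauerInd
import Cfsg.Agent.Lib.Helper2_BrauerThm
import Cfsg.Agent.Lib.Helper2_NilDecomp
import Cfsg.Agent.Lib.Helper2_DefectZero
import Cfsg.Agent.Lib.Helper2_CharGalois2
import Cfsg.Agent.Lib.Helper2_CosetAvg
import Cfsg.Agent.Lib.Helper2_Thompson
import Cfsg.Agent.Lib.Helper2_ItoSolv
import Cfsg.Agent.Lib.Helper2_ItoPSolv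
import Cfsg.Agent.Lib.Helper2_GaloisConj
import Cfsg.Agent.Lib.Helper2_AbelInertia
import Cfsg.Agent.Lib.Helper2_Gagola
import Cfsg.Agent.Lib.Helper2_GoingDown
import Cfsg.Agent.Lib.Helper2_RelMGroup
import Cfsg.Agent.Lib.Helper2_Gagola2
import Cfsg.Agent.Lib.Helper2_Gagola3
import Cfsg.Agent.Lib.Helper2_Dade
import Cfsg.Agent.Lib.Helper2_PiSection
import Cfsg.Agent.Lib.Helper2_ModM
import Cfsg.Agent.Lib.Helper2_HallCompl
import Cfsg.Agent.Lib.Helper2_PRegular
import Cfsg.Agent.Lib.Helper2_SelfCent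

set_option autoImplicit false
open Cfsg

namespace Cfsg.Agent.S4626

open Cfsg.Agent.Lib.Helper2_ClassFn Cfsg.Agent.Lib.Helper2_CharBasic Cfsg.Agent.Lib.Helper2_CharOrtho Cfsg.Agent.Lib.Helper2_Clifford Cfsg.Agent.Lib.Helper2_CharMore Cfsg.Agent.Lib.Helper2_CharNorm Cfsg.Agent.Lib.Helper2_CharValues Cfsg.Agent.Lib.Helper2_CharComplete Cfsg.Agent.Lib.Helper2_CharInd Cfsg.Agent.Lib.Helper2_CharTable Cfsg.Agent.Lib.Helper2_CharFrob Cfsg.Agent.Lib.Helper2_CharDeg Cfsg.Agent.Lib.Helper2_CharSum Cfsg.Agent.Lib.Helper2_CharExtra Cfsg.Agent.Lib.Helper2_CharCentral Cfsg.Agent.Lib.Helper2_PermChar Cfsg.Agent.Lib.Helper2_FrobSchur Cfsg.Agent.Lib.Helper2_CliffordCorr Cfsg.Agent.Lib.Helper2_CharKernel Cfsg.Agent.Lib.Helper2_CyclicTI Cfsg.Agent.Lib.Helper2_CharGalois Cfsg.Agent.Lib.Helper2_CharInt Cfsg.Agent.Lib.Helper2_CharBurnside Cfsg.Agent.Lib.Helper2_CharCenter Cfsg.Agent.Lib.Helper2_Ito Cfsg.Agent.Lib.Helper2_Gallagher Cfsg.Agent.Lib.Helper2_Artin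 Cfsg.Agent.Lib.Helper2_MGroup Cfsg.Agent.Lib.Helper2_RepEquiv Cfsg.Agent.Lib.Helper2_CyclicExt Cfsg.Agent.Lib.Helper2_Extraspecial Cfsg.Agent.Lib.Helper2_ProjLift Cfsg.Agent.Lib.Helper2_CentralExt Cfsg.Agent.Lib.Helper2_SylowExt Cfsg.Agent.Lib.Helper2_DetChar Cfsg.Agent.Lib.Helper2_LinExt Cfsg.Agent.Lib.Helper2_DetExt Cfsg.Agent.Lib.Helper2_GallagherExt Cfsg.Agent.Lib.Helper2_PermInd Cfsg.Agent.Lib.Helper2_QuasiElem Cfsg.Agent.Lib.Helper2_BrauerInd Cfsg.Agent.Lib.Helper2_BrauerThm Cfsg.Agent.Lib.Helper2_NilDecomp Cfsg.Agent.Lib.Helper2_DefectZero Cfsg.Agent.Lib.Helper2_CharGalois2 Cfsg.Agent.Lib.Helper2_CosetAvg Cfsg.Agent.Lib.Helper2_Thompson Cfsg.Agent.Lib.Helper2_ItoSolv Cfsg.Agent.Lib.Helper2_ItoPSolv Cfsg.Agent.Lib.Helper2_GaloisConj Cfsg.Agent.Lib.Helper2_AbelInertia Cfsg.Agent.Lib.Helper2_Gagola Cfsg.Agent.Lib.Helper2_GoingDown Cfsg.Agent.Lib.Helper2_RelMGroup Cfsg.Agent.Lib.Helper2_Gagola2 Cfsg.Agent.Lib.Helper2_Gagola3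 Cfsg.Agent.Lib.Helper2_Dade Cfsg.Agent.Lib.Helper2_PiSection Cfsg.Agent.Lib.Helper2_ModM Cfsg.Agent.Lib.Helper2_HallCompl Cfsg.Agent.Lib.Helper2_PRegular Cfsg.Agent.Lib.Helper2_SelfCent
open scoped Pointwise
theorem mem_of_index_coprime {G : Type*} [Group G] [Finite G] (p : ℕ) [Fact p.Prime]
    (P : Sylow p G) (N : Subgroup G) [N.Normal]
    (hC : Subgroup.centralizer ((P : Subgroup G) : Set G) ≤ N) (g : G)
    (hg : ¬ p ∣ (Subgroup.centralizer ({g} : Set G)).index) : g ∈ N := by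
  classical
  set C := Subgroup.centralizer ({g} : Set G) with hCdef
  have hp := (Fact.out : p.Prime)
  obtain ⟨Q⟩ : Nonempty (Sylow p C) := inferInstance
  have hQcard : Nat.card Q = p ^ (Nat.card C).factorization p := Sylow.card_eq_multiplicity Q
  have hcardG : Nat.card G = Nat.card C * C.index := (Subgroup.card_mul_index C).symm
  have hfac : (Nat.card G).factorization p = (Nat.card C).factorization p := by
    rw [hcardG, Nat.factorization_mul Nat.card_pos.ne' (Subgroup.index_ne_zero_of_finite)]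
    simp only [Finsupp.coe_add, Pi.add_apply]
    rw [Nat.factorization_eq_zero_of_not_dvd hg, add_zero]
  let Q' : Subgroup G := (Q : Subgroup C).map C.subtype
  have hQ'p : IsPGroup p Q' := Q.isPGroup'.map C.subtype
  have hQ'card : Nat.card Q' = Nat.card Q :=
    Subgroup.card_map_of_injective (Subgroup.subtype_injective C)
  obtain ⟨P', hle⟩ := hQ'p.exists_le_sylow
  have hP'card : Nat.card P' = p ^ (Nat.card G).factorization p := Sylow.card_eq_multiplicity P'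
  have heq : Q' = (P' : Subgroup G) := by
    apply Subgroup.eq_of_le_of_card_ge hle
    rw [hP'card, hQ'card, hQcard, hfac]
  obtain ⟨x, hx⟩ := MulAction.exists_smul_eq G P P'
  -- g commutes with every element of P'
  have hcomm : ∀ q ∈ (P' : Subgroup G), q * g = g * q := by
    intro q hq
    rw [← heq] at hq
    obtain ⟨c, _, rfl⟩ := hq
    have hc := c.2
    rw [Subgroup.mem_centralizer_iff] at hc
    exact (hc g (Set.mem_singleton g)).symm
  have hmem : x⁻¹ * g * x ∈ Subgroup.centralizer ((P : Subgroup G) : Set G) := by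
    rw [Subgroup.mem_centralizer_iff]
    intro y hy
    have hy' : x * y * x⁻¹ ∈ (P' : Subgroup G) := by
      rw [← hx, Sylow.coe_subgroup_smul]
      exact ⟨y, hy, rfl⟩
    have h1 := hcomm _ hy'
    have : y * (x⁻¹ * g * x) = x⁻¹ * ((x * y * x⁻¹) * g) * x := by group
    rw [this, h1]
    group
  have h2 := hC hmem
  have h3 : x * (x⁻¹ * g * x) * x⁻¹ ∈ N := Subgroup.Normal.conj_mem inferInstance _ h2 x
  have h4 : x * (x⁻¹ * g * x) * x⁻¹ = g := by group
  rwa [h4] at h3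



/-- Let G be a finite group, p a prime, M a maximal ideal of the algebraic integers containing p, P a Sylow p-subgroup of G and N a normal subgroup of index prime to p containing the centralizer C_G(P). Then every irreducible character of G whose kernel contains N lies in the principal p-block of G. -/
theorem result {G : Type*} [Group G] [Finite G] (p : ℕ) [Fact p.Prime] (M : Ideal Cfsg.AlgInt) (hM : Cfsg.IsPModular p M) (P : Sylow p G) (N : Subgroup G) [N.Normal] (hidx : ¬ p ∣ N.index)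
    (hC : Subgroup.centralizer ((P : Subgroup G) : Set G) ≤ N) (χ : Cfsg.IrrCharacter G) (hker : ∀ n ∈ N, (χ : G → ℂ) n = (χ : G → ℂ) 1) :
    χ ∈ Cfsg.principalBlock M G := by
  classical
  have hMmax := hM.2.1
  have hp := (Fact.out : p.Prime)
  have hχirr : Cfsg.IsIrrCharacter G (χ : G → ℂ) := χ.2
  have hχc := IsIrrCharacter.isCharacter hχirr
  obtain ⟨d, hdpos, hd⟩ := IsIrrCharacter.apply_one hχirr
  obtain ⟨ψ, hψ, hψv⟩ := IsIrrCharacter.deflate hχirr N hker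
  have hψ1 : ψ 1 = d := by
    have := hψv 1
    rw [QuotientGroup.mk_one] at this
    rw [this, hd]
  haveI : Fintype (G ⧸ N) := Fintype.ofFinite _
  have hdvd : d ∣ N.index := by
    have := degree_dvd_card hψ d hψ1
    rwa [← Subgroup.index_eq_card] at this
  have hdcop : d.Coprime p := by
    rw [Nat.coprime_comm]
    exact (Nat.Prime.coprime_iff_not_dvd hp).mpr (fun h => hidx (h.trans hdvd))
  have hdnot : (d : Cfsg.AlgInt) ∉ M := by
    intro h
    have := memLocalIdeal_of_mem hMmax h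
    exact not_memLocalIdeal_nat hM d hdcop (by simpa using this)
  show Cfsg.SameBlock M (fun _ : G => (1 : ℂ)) (χ : G → ℂ)
  intro g
  unfold Cfsg.centralChar
  set k := (Subgroup.centralizer ({g} : Set G)).index with hk
  by_cases hpk : p ∣ k
  · obtain ⟨k', hk'⟩ := hpk
    have hint : IsIntegral ℤ ((χ : G → ℂ) 1 - (χ : G → ℂ) g) :=
      (IsCharacter.isIntegral hχc 1).sub (IsCharacter.isIntegral hχc g)
    refine ⟨(p : Cfsg.AlgInt) * ((k' : Cfsg.AlgInt) * ⟨_, hint⟩), (d : Cfsg.AlgInt),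
      M.mul_mem_right _ hM.2.2, hdnot, ?_⟩
    rw [hk']
    have hcast : (((p : Cfsg.AlgInt) * ((k' : Cfsg.AlgInt) * ⟨_, hint⟩) : Cfsg.AlgInt) : ℂ)
        = (p : ℂ) * ((k' : ℂ) * ((χ : G → ℂ) 1 - (χ : G → ℂ) g)) := by
      push_cast; rfl
    rw [hcast]
    have hdc : ((d : Cfsg.AlgInt) : ℂ) = (χ : G → ℂ) 1 := by
      rw [hd]; push_cast; rfl
    rw [hdc]
    have h1 : (χ : G → ℂ) 1 ≠ 0 := by rw [hd]; exact_mod_cast hdpos.ne'
    push_cast
    field_simp
  · have hgN := mem_of_index_coprime p P N hC g hpk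
    rw [hker g hgN]
    have h1 : (χ : G → ℂ) 1 ≠ 0 := by
      rw [hd]; exact_mod_cast hdpos.ne'
    have : (k : ℂ) * 1 / 1 - (k : ℂ) * (χ : G → ℂ) 1 / (χ : G → ℂ) 1 = 0 := by
      field_simp
      ring
    rw [this]
    exact memLocalIdeal_zero hMmax

end Cfsg.Agent.S4626
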