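import Mathlib
import Cfsg.Statements.S4636
import Cfsg.Agent.Lib.Helper7_Basic

set_option autoImplicit false
open scoped Pointwise
open Cfsg
open Cfsg.Agent.Lib.Helper7_Basic

namespace Cfsg.Agent.S4636

theorem part1 {G : Type*} [Group G] [Finite G] (p : ℕ) [Fact p.Prime] (P : Subgroup G) (hP : IsPGroup p P) (hcyc : IsCyclic P) (Z : Subgroup G) (hZ : Z ≤ P) (hZcard : Nat.card Z = p)
    (x : G) (hne : P ⊓ MulAut.conj x • P ≠ ⊥) : x ∈ Subgroup.normalizer (Z : Set G) := by
  set D := P ⊓ MulAut.conj x • P with hD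
  have hDP : D ≤ P := inf_le_left
  have hDp : IsPGroup p D := hP.to_le hDP
  have hDcard : p ∣ Nat.card D := by
    rcases hDp.card_eq_or_dvd with h | h
    · exact absurd (Subgroup.card_eq_one.mp h) hne
    · exact h
  obtain ⟨z, hz⟩ := exists_prime_orderOf_dvd_card' p hDcard
  -- Z' = zpowers of z in G
  set Z' : Subgroup G := Subgroup.zpowers (z : G) with hZ'
  have hZ'card : Nat.card Z' = p := by
    rw [Nat.card_zpowers, Subgroup.orderOf_coe, hz]
  have hZ'D : Z' ≤ D := by
    rw [hZ', Subgroup.zpowers_le]; exact z.2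
  have h1 : Z' = Z := cyclic_subgroup_unique P hcyc Z' Z (hZ'D.trans hDP) hZ (by rw [hZ'card, hZcard])
  have hcyc2 : IsCyclic (MulAut.conj x • P : Subgroup G) :=
    (Subgroup.equivSMul (MulAut.conj x) P).isCyclic.mp hcyc
  have h2 : Z' = MulAut.conj x • Z := by
    apply cyclic_subgroup_unique (MulAut.conj x • P) hcyc2 Z' _ (hZ'D.trans inf_le_right)
      (Subgroup.pointwise_smul_le_pointwise_smul_iff.mpr hZ)
    rw [hZ'card, ← hZcard]
    exact Nat.card_congr (Subgroup.equivSMul (MulAut.conj x) Z).toEquiv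
  have h3 : MulAut.conj x • Z = Z := h2.symm.trans h1
  rw [Subgroup.mem_normalizer_iff]
  intro h
  constructor
  · intro hh
    rw [← h3, mem_conj_smul]
    have : x⁻¹ * (x * h * x⁻¹) * x = h := by group
    rw [this]; exact hh
  · intro hh
    rw [← h3, mem_conj_smul] at hh
    have : x⁻¹ * (x * h * x⁻¹) * x = h := by group
    rwa [this] at hh

/-- Let P be a nontrivial cyclic p-subgroup of the finite group G and Z its subgroup of order p. For every x outside N_G(Z), P meets its conjugate xPx⁻¹ trivially; consequently N_G(Q) ≤ N_G(Z) for every nontrivial subgroup Q of P. -/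
theorem result {G : Type*} [Group G] [Finite G] (p : ℕ) [Fact p.Prime] (P : Subgroup G) (hP : IsPGroup p P) (hP1 : P ≠ ⊥) (hcyc : IsCyclic P) (Z : Subgroup G) (hZ : Z ≤ P) (hZcard : Nat.card Z = p) : (∀ x : G, x ∉ Subgroup.normalizer (Z : Set G) → P ⊓ MulAut.conj x • P = ⊥) ∧ ∀ Q : Subgroup G, Q ≤ P → Q ≠ ⊥ → Subgroup.normalizer (Q : Set G) ≤ Subgroup.normalizer (Z : Set G) := by
  refine ⟨?_, ?_⟩
  · intro x hx
    by_contra hne
    exact hx (part1 p P hP hcyc Z hZ hZcard x hne)
  · intro Q hQ hQ1 g hg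
    apply part1 p P hP hcyc Z hZ hZcard g
    intro hbot
    apply hQ1
    rw [Subgroup.eq_bot_iff_forall]
    intro y hy
    have h1 : y ∈ P ⊓ MulAut.conj g • P := by
      refine Subgroup.mem_inf.mpr ⟨hQ hy, ?_⟩
      rw [mem_conj_smul]
      apply hQ
      -- g⁻¹ y g ∈ Q since g ∈ N(Q)
      have h2 := (Subgroup.mem_normalizer_iff.mp hg (g⁻¹ * y * g))
      have h3 : g * (g⁻¹ * y * g) * g⁻¹ = y := by group
      rw [h3] at h2
      exact h2.mpr hy
    rw [hbot, Subgroup.mem_bot] at h1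
    exact h1

end Cfsg.Agent.S4636
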