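import Mathlib
import Cfsg.Statements.S4665
import Cfsg.Agent.Lib.Helper2_CharOrtho
import Cfsg.Agent.Lib.Helper2_CharInd
import Cfsg.Agent.Lib.Helper2_CharSum

set_option autoImplicit false

open Cfsg

namespace Cfsg.Agent.S4665

open Cfsg.Agent.Lib.Helper2_CharOrtho Cfsg.Agent.Lib.Helper2_CharInd Cfsg.Agent.Lib.Helper2_CharSum in
theorem gen_of_finsum {G : Type*} [Group G] [Fintype G] (B : Set (Cfsg.IrrCharacter G))
    (θ : G → ℂ) (n : Cfsg.IrrCharacter G → ℤ)
    (h : ∀ g : G, θ g = ∑ᶠ ψ ∈ B, (n ψ : ℂ) * (ψ : G → ℂ) g) :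
    Cfsg.IsGeneralizedCharacter G θ := by
  classical
  have hfin : B.Finite := Set.toFinite B
  have hθ : θ = ∑ ψ ∈ hfin.toFinset, (n ψ) • (ψ : G → ℂ) := by
    funext g
    rw [h g, finsum_mem_eq_finite_toFinset_sum _ hfin, Finset.sum_apply]
    refine Finset.sum_congr rfl fun ψ _ => ?_
    simp [zsmul_eq_mul]
  rw [hθ]
  apply IsGeneralizedCharacter.sum
  intro ψ _
  exact IsGeneralizedCharacter.zsmul _ (IsIrrCharacter.isGeneralizedCharacter ψ.2)

/-- Fix a prime p, a maximal ideal M of the algebraic integers containing p, and a p-block B of the finite group G, and let p^a be the p-part of the order of G. Let χ be an integer combination of the irreducible characters in B. If the function that agrees with χ on p-regular elements and vanishes on p-singular elements is again an integer combination of the irreducible characters in B, then p^a divides χ(1). -/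
theorem result {G : Type*} [Group G] [Fintype G] (p : ℕ) [Fact p.Prime] (M : Ideal Cfsg.AlgInt) (hM : Cfsg.IsPModular p M) (B : Set (Cfsg.IrrCharacter G)) (hB : Cfsg.IsPBlock M B) (χ : G → ℂ) (hχ : (∃ n : Cfsg.IrrCharacter G → ℤ, ∀ g : G, χ g = ∑ᶠ ψ ∈ B, (n ψ : ℂ) * (ψ : G → ℂ) g)) (h0 : (∃ n : Cfsg.IrrCharacter G → ℤ, ∀ g : G, Cfsg.pRegularPart p χ g = ∑ᶠ ψ ∈ B, (n ψ : ℂ) * (ψ : G → ℂ) g)) : ∃ k : ℤ, χ 1 = (p ^ (Nat.card G).factorization p : ℂ) * k := by
  classical
  obtain ⟨n, hn⟩ := h0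
  have hgen := gen_of_finsum B _ n hn
  obtain ⟨P⟩ : Nonempty (Sylow p G) := inferInstance
  have hres := Cfsg.Agent.Lib.Helper2_CharInd.IsGeneralizedCharacter.restrict hgen (P : Subgroup G)
  have hone : Cfsg.IsGeneralizedCharacter (P : Subgroup G) (fun _ => (1 : ℂ)) :=
    Cfsg.Agent.Lib.Helper2_CharOrtho.IsCharacter.isGeneralizedCharacter
      Cfsg.Agent.Lib.Helper2_CharOrtho.isCharacter_one
  obtain ⟨k, hk⟩ := Cfsg.Agent.Lib.Helper2_CharOrtho.IsGeneralizedCharacter.classInner_int hres hone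
  refine ⟨k, ?_⟩
  have hcard : Nat.card (P : Subgroup G) = p ^ (Nat.card G).factorization p := P.card_eq_multiplicity
  have hsum : ∑ x : (P : Subgroup G), Cfsg.pRegularPart p χ (x : G) * (starRingEnd ℂ) 1 = χ 1 := by
    rw [Finset.sum_eq_single (1 : (P : Subgroup G))]
    · simp [Cfsg.pRegularPart, Cfsg.IsPRegular, (Fact.out : p.Prime).one_lt.ne']
    · intro x _ hx
      have hx1 : orderOf x ≠ 1 := by
        rw [Ne, orderOf_eq_one_iff]; exact hx
      obtain ⟨j, hj⟩ := IsPGroup.iff_orderOf.mp P.isPGroup' x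
      have hdvd : p ∣ orderOf (x : G) := by
        rw [Subgroup.orderOf_coe, hj]
        cases j with
        | zero => rw [hj] at hx1; simp at hx1
        | succ j => exact dvd_pow_self p (Nat.succ_ne_zero j)
      have hz : Cfsg.pRegularPart p χ (x : G) = 0 := by
        unfold Cfsg.pRegularPart Cfsg.IsPRegular
        rw [if_neg (not_not.mpr hdvd)]
      rw [hz, zero_mul]
    · intro h; exact absurd (Finset.mem_univ _) h
  unfold Cfsg.classInner at hk
  rw [hsum, hcard] at hk
  have hp0 : ((p ^ (Nat.card G).factorization p : ℕ) : ℂ) ≠ 0 := by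
    exact_mod_cast (pow_pos (Fact.out : p.Prime).pos _).ne'
  rw [← hk]
  push_cast at hp0 ⊢
  field_simp

end Cfsg.Agent.S4665
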