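import Cfsg.Statements.S4754
import Cfsg.Agent.Lib.Helper2_ClassFn
import Cfsg.Agent.Lib.Helper2_CharBasic
import Cfsg.Agent.Lib.Helper2_CharOrtho
import Cfsg.Agent.Lib.Helper2_Clifford
import Cfsg.Agent.Lib.Helper2_CharMore
import Cfsg.Agent.Lib.Helper2_CharNorm
import Cfsg.Agent.Lib.Helper2_CharValues
import Cfsg.Agent.Lib.Helper2_CharComplete
import Cfsg.Agent.Lib.Helper2_CharInd
import Cfsg.Agent.Lib.Helper2_CharTable
import Cfsg.Agent.Lib.Helper2_CharFrob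
import Cfsg.Agent.Lib.Helper2_CharDeg
import Cfsg.Agent.Lib.Helper2_CharSum
import Cfsg.Agent.Lib.Helper2_CharExtra
import Cfsg.Agent.Lib.Helper2_CharCentral
import Cfsg.Agent.Lib.Helper2_PermChar
import Cfsg.Agent.Lib.Helper2_FrobSchur
import Cfsg.Agent.Lib.Helper2_CliffordCorr
import Cfsg.Agent.Lib.Helper2_CharKernel
import Cfsg.Agent.Lib.Helper2_CyclicTI
import Cfsg.Agent.Lib.Helper2_CharGalois
import Cfsg.Agent.Lib.Helper2_CharInt
import Cfsg.Agent.Lib.Helper2_CharBurnside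
import Cfsg.Agent.Lib.Helper2_CharCenter
import Cfsg.Agent.Lib.Helper2_Ito
import Cfsg.Agent.Lib.Helper2_Gallagher
import Cfsg.Agent.Lib.Helper2_Artin
import Cfsg.Agent.Lib.Helper2_MGroup
import Cfsg.Agent.Lib.Helper2_RepEquiv
import Cfsg.Agent.Lib.Helper2_CyclicExt
import Cfsg.Agent.Lib.Helper2_Extraspecial
import Cfsg.Agent.Lib.Helper2_ProjLift
import Cfsg.Agent.Lib.Helper2_CentralExt
import Cfsg.Agent.Lib.Helper2_SylowExt
import Cfsg.Agent.Lib.Helper2_DetChar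
import Cfsg.Agent.Lib.Helper2_LinExt
import Cfsg.Agent.Lib.Helper2_DetExt
import Cfsg.Agent.Lib.Helper2_GallagherExt
import Cfsg.Agent.Lib.Helper2_PermInd
import Cfsg.Agent.Lib.Helper2_QuasiElem
import Cfsg.Agent.Lib.Helper2_BrauerInd
import Cfsg.Agent.Lib.Helper2_BrauerThm
import Cfsg.Agent.Lib.Helper2_NilDecomp
import Cfsg.Agent.Lib.Helper2_DefectZero

set_option autoImplicit false
open Cfsg

namespace Cfsg.Agent.S4754

open Cfsg.Agent.Lib.Helper2_ClassFn Cfsg.Agent.Lib.Helper2_CharBasic Cfsg.Agent.Lib.Helper2_CharOrtho Cfsg.Agent.Lib.Helper2_Clifford Cfsg.Agent.Lib.Helper2_CharMore Cfsg.Agent.Lib.Helper2_CharNorm Cfsg.Agent.Lib.Helper2_CharValues Cfsg.Agent.Lib.Helper2_CharComplete Cfsg.Agent.Lib.Helper2_CharInd Cfsg.Agent.Lib.Helper2_CharTable Cfsg.Agent.Lib.Helper2_CharFrob Cfsg.Agent.Lib.Helper2_CharDeg Cfsg.Agent.Lib.Helper2_CharSum Cfsg.Agent.Lib.Helper2_CharExtra Cfsg.Agent.Lib.Helper2_CharCentral Cfsg.Agent.Lib.Helper2_PermChar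 Cfsg.Agent.Lib.Helper2_FrobSchur Cfsg.Agent.Lib.Helper2_CliffordCorr Cfsg.Agent.Lib.Helper2_CharKernel Cfsg.Agent.Lib.Helper2_CyclicTI Cfsg.Agent.Lib.Helper2_CharGalois Cfsg.Agent.Lib.Helper2_CharInt Cfsg.Agent.Lib.Helper2_CharBurnside Cfsg.Agent.Lib.Helper2_CharCenter Cfsg.Agent.Lib.Helper2_Ito Cfsg.Agent.Lib.Helper2_Gallagher Cfsg.Agent.Lib.Helper2_Artin Cfsg.Agent.Lib.Helper2_MGroup Cfsg.Agent.Lib.Helper2_RepEquiv Cfsg.Agent.Lib.Helper2_CyclicExt Cfsg.Agent.Lib.Helper2_Extraspecial Cfsg.Agent.Lib.Helper2_ProjLift Cfsg.Agent.Lib.Helper2_CentralExt Cfsg.Agent.Lib.Helper2_SylowExt Cfsg.Agent.Lib.Helper2_DetChar Cfsg.Agent.Lib.Helper2_LinExt Cfsg.Agent.Lib.Helper2_DetExt Cfsg.Agent.Lib.Helper2_GallagherExt Cfsg.Agent.Lib.Helper2_PermInd Cfsg.Agent.Lib.Helper2_QuasiElem Cfsg.Agent.Lib.Helper2_BrauerInd Cfsg.Agent.Lib.Helper2_BrauerThm Cfsg.Agent.Lib.Helper2_NilDecomp Cfsg.Agent.Lib.Helper2_DefectZero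
open scoped Pointwise
open scoped ComplexConjugate

/-- Elements not separated by irreducible characters are conjugate. -/
theorem isConj_of_forall_irr {G : Type*} [Group G] [Fintype G] (z w : G)
    (h : ∀ χ : G → ℂ, IsIrrCharacter G χ → χ z = χ w) : IsConj z w := by
  classical
  by_contra hcon
  have h1 := second_orthogonality' z w
  rw [if_neg hcon] at h1
  have h2 := second_orthogonality' w w
  rw [if_pos (IsConj.refl w)] at h2
  have h3 : ∑ χ ∈ irrFinset G, χ z * conj (χ w) = ∑ χ ∈ irrFinset G, χ w * conj (χ w) := by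
    refine Finset.sum_congr rfl fun χ hχ => ?_
    rw [h χ (mem_irrFinset.mp hχ)]
  rw [h1, h2] at h3
  have : (Nat.card (Subgroup.centralizer ({w} : Set G)) : ℂ) ≠ 0 := by
    exact_mod_cast Nat.card_pos.ne'
  exact this h3.symm


/-- For elements x, y of a finite group G, the conjugacy class of x y equals the set of all products of a conjugate of x with a conjugate of y if and only if χ(1) χ(a x a⁻¹ b y b⁻¹) = χ(x) χ(y) for all a, b ∈ G and every irreducible character χ. -/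
theorem result {G : Type*} [Group G] [Finite G] (x y : G) : (∀ z : G, IsConj (x * y) z ↔ ∃ a b : G, z = a * x * a⁻¹ * (b * y * b⁻¹)) ↔ ∀ (a b : G) (χ : Cfsg.IrrCharacter G), (χ : G → ℂ) 1 * (χ : G → ℂ) (a * x * a⁻¹ * (b * y * b⁻¹)) = (χ : G → ℂ) x * (χ : G → ℂ) y := by
  classical
  haveI := Fintype.ofFinite G
  constructor
  · intro hset a b χ
    have hχ := χ.2
    have hcf := IsCharacter.isClassFunction (IsIrrCharacter.isCharacter hχ)
    have hval : ∀ a' b' : G, (χ : G → ℂ) (a' * x * a'⁻¹ * (b' * y * b'⁻¹)) = (χ : G → ℂ) (x * y) := by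
      intro a' b'
      have hc : IsConj (x * y) (a' * x * a'⁻¹ * (b' * y * b'⁻¹)) := (hset _).mpr ⟨a', b', rfl⟩
      obtain ⟨c, hc'⟩ := isConj_iff.mp hc
      rw [← hc', hcf]
    have hsum := sum_conj_mul hχ (a * x * a⁻¹) (b * y * b⁻¹)
    have h1 : ∀ g : G, (χ : G → ℂ) (g * (a * x * a⁻¹) * g⁻¹ * (b * y * b⁻¹)) = (χ : G → ℂ) (x * y) := by
      intro g
      have := hval (g * a) b
      rw [← this]
      congr 1
      group
    simp only [h1] at hsum
    rw [Finset.sum_const, Finset.card_univ, nsmul_eq_mul, ← Nat.card_eq_fintype_card] at hsum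
    have hG : (Nat.card G : ℂ) ≠ 0 := card_ne_zero_complex
    have h10 : (χ : G → ℂ) 1 ≠ 0 := IsIrrCharacter.apply_one_ne_zero hχ
    have hxa : (χ : G → ℂ) (a * x * a⁻¹) = (χ : G → ℂ) x := hcf x a
    have hyb : (χ : G → ℂ) (b * y * b⁻¹) = (χ : G → ℂ) y := hcf y b
    rw [hxa, hyb] at hsum
    rw [hval a b]
    field_simp at hsum
    linear_combination hsum
  · intro hχ z
    constructor
    · intro hc
      obtain ⟨c, hc'⟩ := isConj_iff.mp hc
      refine ⟨c, c, ?_⟩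
      rw [← hc']
      group
    · rintro ⟨a, b, rfl⟩
      apply IsConj.symm
      apply isConj_of_forall_irr
      intro χ hχirr
      have h1 := hχ a b ⟨χ, hχirr⟩
      have h2 := hχ 1 1 ⟨χ, hχirr⟩
      simp only [one_mul, inv_one, mul_one] at h2
      have h10 : χ 1 ≠ 0 := IsIrrCharacter.apply_one_ne_zero hχirr
      simp only at h1 h2
      have : χ 1 * χ (a * x * a⁻¹ * (b * y * b⁻¹)) = χ 1 * χ (x * y) := by rw [h1, h2]
      exact mul_left_cancel₀ h10 this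

end Cfsg.Agent.S4754
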