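import Cfsg.Statements.S4755
import Cfsg.Agent.Lib.Helper2_ClassFn
import Cfsg.Agent.Lib.Helper2_CharBasic
import Cfsg.Agent.Lib.Helper2_CharOrtho
import Cfsg.Agent.Lib.Helper2_Clifford
import Cfsg.Agent.Lib.Helper2_CharMore
import Cfsg.Agent.Lib.Helper2_CharNorm
import Cfsg.Agent.Lib.Helper2_CharValues
import Cfsg.Agent.Lib.Helper2_CharComplete
import Cfsg.Agent.Lib.Helper2_CharInd
import Cfsg.Agent.Lib.Helper2_CharTable
import Cfsg.Agent.Lib.Helper2_CharFrob
import Cfsg.Agent.Lib.Helper2_CharDeg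
import Cfsg.Agent.Lib.Helper2_CharSum
import Cfsg.Agent.Lib.Helper2_CharExtra
import Cfsg.Agent.Lib.Helper2_CharCentral
import Cfsg.Agent.Lib.Helper2_PermChar
import Cfsg.Agent.Lib.Helper2_FrobSchur
import Cfsg.Agent.Lib.Helper2_CliffordCorr
import Cfsg.Agent.Lib.Helper2_CharKernel
import Cfsg.Agent.Lib.Helper2_CyclicTI
import Cfsg.Agent.Lib.Helper2_CharGalois
import Cfsg.Agent.Lib.Helper2_CharInt
import Cfsg.Agent.Lib.Helper2_CharBurnside
import Cfsg.Agent.Lib.Helper2_CharCenter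
import Cfsg.Agent.Lib.Helper2_Ito
import Cfsg.Agent.Lib.Helper2_Gallagher
import Cfsg.Agent.Lib.Helper2_Artin
import Cfsg.Agent.Lib.Helper2_MGroup
import Cfsg.Agent.Lib.Helper2_RepEquiv
import Cfsg.Agent.Lib.Helper2_CyclicExt
import Cfsg.Agent.Lib.Helper2_Extraspecial
import Cfsg.Agent.Lib.Helper2_ProjLift
import Cfsg.Agent.Lib.Helper2_CentralExt
import Cfsg.Agent.Lib.Helper2_SylowExt
import Cfsg.Agent.Lib.Helper2_DetChar
import Cfsg.Agent.Lib.Helper2_LinExt
import Cfsg.Agent.Lib.Helper2_DetExt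
import Cfsg.Agent.Lib.Helper2_GallagherExt
import Cfsg.Agent.Lib.Helper2_PermInd
import Cfsg.Agent.Lib.Helper2_QuasiElem
import Cfsg.Agent.Lib.Helper2_BrauerInd
import Cfsg.Agent.Lib.Helper2_BrauerThm
import Cfsg.Agent.Lib.Helper2_NilDecomp
import Cfsg.Agent.Lib.Helper2_DefectZero
import Cfsg.Agent.S4754
import Cfsg.Agent.S0154

set_option autoImplicit false
open Cfsg

namespace Cfsg.Agent.S4755

open Cfsg.Agent.Lib.Helper2_ClassFn Cfsg.Agent.Lib.Helper2_CharBasic Cfsg.Agent.Lib.Helper2_CharOrtho Cfsg.Agent.Lib.Helper2_Clifford Cfsg.Agent.Lib.Helper2_CharMore Cfsg.Agent.Lib.Helper2_CharNorm Cfsg.Agent.Lib.Helper2_CharValues Cfsg.Agent.Lib.Helper2_CharComplete Cfsg.Agent.Lib.Helper2_CharInd Cfsg.Agent.Lib.Helper2_CharTable Cfsg.Agent.Lib.Helper2_CharFrob Cfsg.Agent.Lib.Helper2_CharDeg Cfsg.Agent.Lib.Helper2_CharSum Cfsg.Agent.Lib.Helper2_CharExtra Cfsg.Agent.Lib.Helper2_CharCentral Cfsg.Agent.Lib.Helper2_PermChar Cfsg.Agent.Lib.Helper2_FrobSchur Cfsg.Agent.Lib.Helper2_CliffordCorr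 Cfsg.Agent.Lib.Helper2_CharKernel Cfsg.Agent.Lib.Helper2_CyclicTI Cfsg.Agent.Lib.Helper2_CharGalois Cfsg.Agent.Lib.Helper2_CharInt Cfsg.Agent.Lib.Helper2_CharBurnside Cfsg.Agent.Lib.Helper2_CharCenter Cfsg.Agent.Lib.Helper2_Ito Cfsg.Agent.Lib.Helper2_Gallagher Cfsg.Agent.Lib.Helper2_Artin Cfsg.Agent.Lib.Helper2_MGroup Cfsg.Agent.Lib.Helper2_RepEquiv Cfsg.Agent.Lib.Helper2_CyclicExt Cfsg.Agent.Lib.Helper2_Extraspecial Cfsg.Agent.Lib.Helper2_ProjLift Cfsg.Agent.Lib.Helper2_CentralExt Cfsg.Agent.Lib.Helper2_SylowExt Cfsg.Agent.Lib.Helper2_DetChar Cfsg.Agent.Lib.Helper2_LinExt Cfsg.Agent.Lib.Helper2_DetExt Cfsg.Agent.Lib.Helper2_GallagherExt Cfsg.Agent.Lib.Helper2_PermInd Cfsg.Agent.Lib.Helper2_QuasiElem Cfsg.Agent.Lib.Helper2_BrauerInd Cfsg.Agent.Lib.Helper2_BrauerThm Cfsg.Agent.Lib.Helper2_NilDecomp Cfsg.Agent.Lib.Helper2_DefectZero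
open scoped Pointwise
open scoped ComplexConjugate


/-- Let x, y be non-identity elements of the finite group G such that χ(x' y') = χ(x') χ(y') for all conjugates x' of x, y' of y and every irreducible character χ. Then the conjugacy class of x y is the set of all products of a conjugate of x with a conjugate of y; every irreducible character of degree greater than 1 vanishes at x y; and the conjugacy class of x y is the coset of the commutator subgroup containing x y. -/
theorem result {G : Type*} [Group G] [Finite G] (x y : G) (hx : x ≠ 1) (hy : y ≠ 1) (h : ∀ (a b : G) (χ : Cfsg.IrrCharacter G), (χ : G → ℂ) (a * x * a⁻¹ * (b * y * b⁻¹)) = (χ : G → ℂ) (a * x * a⁻¹) * (χ : G → ℂ) (b * y * b⁻¹)) : (∀ z : G, IsConj (x * y) z ↔ ∃ a b : G, z = a * x * a⁻¹ * (b * y * b⁻¹)) ∧ (∀ χ : Cfsg.IrrCharacter G, (χ : G → ℂ) 1 ≠ 1 → (χ : G → ℂ) (x * y) = 0) ∧ (∀ z : G, IsConj (x * y) z ↔ (x * y)⁻¹ * z ∈ commutator G) := by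
  classical
  haveI := Fintype.ofFinite G
  have hG : (Nat.card G : ℂ) ≠ 0 := card_ne_zero_complex
  -- nonlinear characters kill x or y
  have hprod : ∀ χ : Cfsg.IrrCharacter G, (χ : G → ℂ) 1 ≠ 1 → (χ : G → ℂ) x * (χ : G → ℂ) y = 0 := by
    intro χ hχ1
    have hχ := χ.2
    have hcf := IsCharacter.isClassFunction (IsIrrCharacter.isCharacter hχ)
    have hsum := sum_conj_mul hχ x y
    have h1 : ∀ g : G, (χ : G → ℂ) (g * x * g⁻¹ * y) = (χ : G → ℂ) x * (χ : G → ℂ) y := by
      intro g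
      have := h g 1 χ
      simp only [one_mul, inv_one, mul_one] at this
      rw [this, hcf x g]
    simp only [h1] at hsum
    rw [Finset.sum_const, Finset.card_univ, nsmul_eq_mul, ← Nat.card_eq_fintype_card] at hsum
    have h10 : (χ : G → ℂ) 1 ≠ 0 := IsIrrCharacter.apply_one_ne_zero hχ
    field_simp at hsum
    have h2 : (χ : G → ℂ) x * (χ : G → ℂ) y * ((χ : G → ℂ) 1 - 1) = 0 := by
      linear_combination hsum
    rcases mul_eq_zero.mp h2 with h3 | h3
    · exact h3
    · exact absurd (sub_eq_zero.mp h3) hχ1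
  have hxy : ∀ χ : Cfsg.IrrCharacter G, (χ : G → ℂ) (x * y) = (χ : G → ℂ) x * (χ : G → ℂ) y := by
    intro χ
    have := h 1 1 χ
    simpa using this
  have part2 : ∀ χ : Cfsg.IrrCharacter G, (χ : G → ℂ) 1 ≠ 1 → (χ : G → ℂ) (x * y) = 0 := by
    intro χ hχ1
    rw [hxy, hprod χ hχ1]
  have part1 : ∀ z : G, IsConj (x * y) z ↔ ∃ a b : G, z = a * x * a⁻¹ * (b * y * b⁻¹) := by
    apply (Cfsg.Agent.S4754.result x y).mpr
    intro a b χ
    have hcf := IsCharacter.isClassFunction (IsIrrCharacter.isCharacter χ.2)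
    rw [h a b χ, hcf x a, hcf y b]
    by_cases hχ1 : (χ : G → ℂ) 1 = 1
    · rw [hχ1, one_mul]
    · rw [hprod χ hχ1, mul_zero]
  refine ⟨part1, part2, ?_⟩
  set w := x * y with hw
  -- size of the centralizer
  have hcent : Nat.card (Subgroup.centralizer ({w} : Set G)) = (commutator G).index := by
    have h1 := second_orthogonality' w w
    rw [if_pos (IsConj.refl w)] at h1
    have h2 : ∑ χ ∈ irrFinset G, χ w * conj (χ w)
        = ∑ χ ∈ (irrFinset G).filter (fun χ => χ 1 = 1), (1 : ℂ) := by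
      rw [Finset.sum_filter]
      refine Finset.sum_congr rfl fun χ hχm => ?_
      have hχ := mem_irrFinset.mp hχm
      by_cases hχ1 : χ 1 = 1
      · rw [if_pos hχ1]
        obtain ⟨ω, rfl⟩ := Cfsg.Agent.S0154.exists_hom_of_degree_one χ hχ hχ1
        rw [← IsCharacter.apply_inv (IsIrrCharacter.isCharacter hχ)]
        simp only
        rw [← Units.val_mul, ← map_mul, mul_inv_cancel, map_one, Units.val_one]
      · rw [if_neg hχ1]
        have := part2 ⟨χ, hχ⟩ hχ1
        simp only at this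
        rw [this, zero_mul]
    rw [h2, Finset.sum_const, nsmul_eq_mul, mul_one] at h1
    have h3 : ((irrFinset G).filter (fun χ => χ 1 = 1)).card
        = Nat.card {χ : Cfsg.IrrCharacter G // (χ : G → ℂ) 1 = 1} := by
      rw [← Nat.card_eq_finsetCard]
      apply Nat.card_congr
      exact
        { toFun := fun χ => ⟨⟨χ.1, mem_irrFinset.mp (Finset.mem_filter.mp χ.2).1⟩,
            (Finset.mem_filter.mp χ.2).2⟩
          invFun := fun χ => ⟨χ.1.1, Finset.mem_filter.mpr ⟨mem_irrFinset.mpr χ.1.2, χ.2⟩⟩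
          left_inv := fun χ => rfl
          right_inv := fun χ => rfl }
    rw [h3, Cfsg.Agent.S0154.result] at h1
    exact_mod_cast h1.symm
  have hclass : (Finset.univ.filter (fun z : G => IsConj z w)).card = Nat.card (commutator G) := by
    have h1 := card_class_mul_card_centralizer w
    rw [hcent] at h1
    have h2 := Subgroup.card_mul_index (commutator G)
    have hpos : 0 < (commutator G).index := Nat.pos_of_ne_zero Subgroup.index_ne_zero_of_finite
    exact Nat.eq_of_mul_eq_mul_right hpos (h1.trans h2.symm)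
  have hsub : Finset.univ.filter (fun z : G => IsConj z w)
      ⊆ Finset.univ.filter (fun z : G => w⁻¹ * z ∈ commutator G) := by
    intro z hz
    rw [Finset.mem_filter] at hz ⊢
    refine ⟨Finset.mem_univ _, ?_⟩
    obtain ⟨c, hc⟩ := isConj_iff.mp hz.2.symm
    rw [← hc, commutator_def]
    have hm := Subgroup.commutator_mem_commutator (H₁ := (⊤ : Subgroup G)) (H₂ := (⊤ : Subgroup G))
      (Subgroup.mem_top w⁻¹) (Subgroup.mem_top c)
    rw [commutatorElement_def] at hm
    convert hm using 1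
    group
  have hcard2 : (Finset.univ.filter (fun z : G => w⁻¹ * z ∈ commutator G)).card
      = Nat.card (commutator G) := by
    rw [← Fintype.card_subtype, ← Nat.card_eq_fintype_card]
    apply Nat.card_congr
    exact
      { toFun := fun z => ⟨w⁻¹ * z.1, z.2⟩
        invFun := fun c => ⟨w * c.1, by simp⟩
        left_inv := fun z => by simp
        right_inv := fun c => by simp }
  have heq := Finset.eq_of_subset_of_card_le hsub (by rw [hcard2, hclass])
  intro z
  have h1 : z ∈ Finset.univ.filter (fun z : G => IsConj z w)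
      ↔ z ∈ Finset.univ.filter (fun z : G => w⁻¹ * z ∈ commutator G) := by rw [heq]
  simp only [Finset.mem_filter, Finset.mem_univ, true_and] at h1
  rw [← h1]
  exact ⟨fun hc => hc.symm, fun hc => hc.symm⟩

end Cfsg.Agent.S4755
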