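import Cfsg.Statements.S4762
import Cfsg.Agent.Lib.Helper2_ClassFn
import Cfsg.Agent.Lib.Helper2_CharBasic
import Cfsg.Agent.Lib.Helper2_CharOrtho
import Cfsg.Agent.Lib.Helper2_Clifford
import Cfsg.Agent.Lib.Helper2_CharMore
import Cfsg.Agent.Lib.Helper2_CharNorm
import Cfsg.Agent.Lib.Helper2_CharValues
import Cfsg.Agent.Lib.Helper2_CharComplete
import Cfsg.Agent.Lib.Helper2_CharInd
import Cfsg.Agent.Lib.Helper2_CharTable
import Cfsg.Agent.Lib.Helper2_CharFrob
import Cfsg.Agent.Lib.Helper2_CharDeg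
import Cfsg.Agent.Lib.Helper2_CharSum
import Cfsg.Agent.Lib.Helper2_CharExtra
import Cfsg.Agent.Lib.Helper2_CharCentral
import Cfsg.Agent.Lib.Helper2_PermChar
import Cfsg.Agent.Lib.Helper2_FrobSchur
import Cfsg.Agent.Lib.Helper2_CliffordCorr
import Cfsg.Agent.Lib.Helper2_CharKernel
import Cfsg.Agent.Lib.Helper2_CyclicTI
import Cfsg.Agent.Lib.Helper2_CharGalois
import Cfsg.Agent.Lib.Helper2_CharInt
import Cfsg.Agent.Lib.Helper2_CharBurnside
import Cfsg.Agent.Lib.Helper2_CharCenter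
import Cfsg.Agent.Lib.Helper2_Ito
import Cfsg.Agent.Lib.Helper2_Gallagher
import Cfsg.Agent.Lib.Helper2_Artin
import Cfsg.Agent.Lib.Helper2_MGroup
import Cfsg.Agent.Lib.Helper2_RepEquiv
import Cfsg.Agent.Lib.Helper2_CyclicExt
import Cfsg.Agent.Lib.Helper2_Extraspecial
import Cfsg.Agent.Lib.Helper2_ProjLift
import Cfsg.Agent.Lib.Helper2_CentralExt
import Cfsg.Agent.Lib.Helper2_SylowExt
import Cfsg.Agent.Lib.Helper2_DetChar
import Cfsg.Agent.Lib.Helper2_LinExt
import Cfsg.Agent.Lib.Helper2_DetExt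
import Cfsg.Agent.Lib.Helper2_GallagherExt
import Cfsg.Agent.Lib.Helper2_PermInd
import Cfsg.Agent.Lib.Helper2_QuasiElem
import Cfsg.Agent.Lib.Helper2_BrauerInd
import Cfsg.Agent.Lib.Helper2_BrauerThm
import Cfsg.Agent.Lib.Helper2_NilDecomp
import Cfsg.Agent.Lib.Helper2_DefectZero
import Cfsg.Agent.Lib.Helper2_CharGalois2
import Cfsg.Agent.Lib.Helper2_CosetAvg
import Cfsg.Agent.Lib.Helper2_Thompson
import Cfsg.Agent.Lib.Helper2_ItoSolv
import Cfsg.Agent.Lib.Helper2_ItoPSolv
import Cfsg.Agent.Lib.Helper2_GaloisConj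
import Cfsg.Agent.Lib.Helper2_AbelInertia
import Cfsg.Agent.Lib.Helper2_Gagola
import Cfsg.Agent.Lib.Helper2_GoingDown
import Cfsg.Agent.Lib.Helper2_RelMGroup
import Cfsg.Agent.Lib.Helper2_Gagola2
import Cfsg.Agent.Lib.Helper2_Gagola3
import Cfsg.Agent.Lib.Helper2_Dade
import Cfsg.Agent.S0154
import Cfsg.Agent.Lib.Helper4_Frattini
import Cfsg.Agent.Lib.Helper7_PFrattini

set_option autoImplicit false
open Cfsg

namespace Cfsg.Agent.S4762

open Cfsg.Agent.Lib.Helper2_ClassFn Cfsg.Agent.Lib.Helper2_CharBasic Cfsg.Agent.Lib.Helper2_CharOrtho Cfsg.Agent.Lib.Helper2_Clifford Cfsg.Agent.Lib.Helper2_CharMore Cfsg.Agent.Lib.Helper2_CharNorm Cfsg.Agent.Lib.Helper2_CharValues Cfsg.Agent.Lib.Helper2_CharComplete Cfsg.Agent.Lib.Helper2_CharInd Cfsg.Agent.Lib.Helper2_CharTable Cfsg.Agent.Lib.Helper2_CharFrob Cfsg.Agent.Lib.Helper2_CharDeg Cfsg.Agent.Lib.Helper2_CharSum Cfsg.Agent.Lib.Helper2_CharExtra Cfsg.Agent.Lib.Helper2_CharCentral Cfsg.Agent.Lib.Helper2_PermChar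 Cfsg.Agent.Lib.Helper2_FrobSchur Cfsg.Agent.Lib.Helper2_CliffordCorr Cfsg.Agent.Lib.Helper2_CharKernel Cfsg.Agent.Lib.Helper2_CyclicTI Cfsg.Agent.Lib.Helper2_CharGalois Cfsg.Agent.Lib.Helper2_CharInt Cfsg.Agent.Lib.Helper2_CharBurnside Cfsg.Agent.Lib.Helper2_CharCenter Cfsg.Agent.Lib.Helper2_Ito Cfsg.Agent.Lib.Helper2_Gallagher Cfsg.Agent.Lib.Helper2_Artin Cfsg.Agent.Lib.Helper2_MGroup Cfsg.Agent.Lib.Helper2_RepEquiv Cfsg.Agent.Lib.Helper2_CyclicExt Cfsg.Agent.Lib.Helper2_Extraspecial Cfsg.Agent.Lib.Helper2_ProjLift Cfsg.Agent.Lib.Helper2_CentralExt Cfsg.Agent.Lib.Helper2_SylowExt Cfsg.Agent.Lib.Helper2_DetChar Cfsg.Agent.Lib.Helper2_LinExt Cfsg.Agent.Lib.Helper2_DetExt Cfsg.Agent.Lib.Helper2_GallagherExt Cfsg.Agent.Lib.Helper2_PermInd Cfsg.Agent.Lib.Helper2_QuasiElem Cfsg.Agent.Lib.Helper2_BrauerInd Cfsg.Agent.Lib.Helper2_BrauerThm Cfsg.Agent.Lib.Helper2_NilDecomp Cfsg.Agent.Lib.Helper2_DefectZero Cfsg.Agent.Lib.Helper2_CharGalois2 Cfsg.Agent.Lib.Helper2_CosetAvg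 Cfsg.Agent.Lib.Helper2_Thompson Cfsg.Agent.Lib.Helper2_ItoSolv Cfsg.Agent.Lib.Helper2_ItoPSolv Cfsg.Agent.Lib.Helper2_GaloisConj Cfsg.Agent.Lib.Helper2_AbelInertia Cfsg.Agent.Lib.Helper2_Gagola Cfsg.Agent.Lib.Helper2_GoingDown Cfsg.Agent.Lib.Helper2_RelMGroup Cfsg.Agent.Lib.Helper2_Gagola2 Cfsg.Agent.Lib.Helper2_Gagola3 Cfsg.Agent.Lib.Helper2_Dade
open scoped Pointwise
open scoped commutatorElement

/-- In a nilpotent group a nontrivial normal subgroup meets the centre nontrivially. -/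
theorem normal_meets_center {Q : Type*} [Group Q] [Group.IsNilpotent Q] (A : Subgroup Q)
    [hAn : A.Normal] (hA : A ≠ ⊥) : ∃ a ∈ A, a ∈ Subgroup.center Q ∧ a ≠ 1 := by
  classical
  obtain ⟨n, hn⟩ := Group.IsNilpotent.nilpotent Q
  have hex : ∃ i, A ⊓ Subgroup.upperCentralSeries Q i ≠ ⊥ := ⟨n, by rw [hn, inf_top_eq]; exact hA⟩
  have hspec := Nat.find_spec hex
  have hmin := fun {m : ℕ} (h : m < Nat.find hex) => Nat.find_min hex h
  cases hi : Nat.find hex with
  | zero =>
    rw [hi, Subgroup.upperCentralSeries_zero, inf_bot_eq] at hspec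
    exact absurd rfl hspec
  | succ j =>
    rw [hi] at hspec
    have hj : A ⊓ Subgroup.upperCentralSeries Q j = ⊥ := by
      have := hmin (m := j) (by omega)
      rwa [not_not] at this
    obtain ⟨a, ha1⟩ := (Subgroup.ne_bot_iff_exists_ne_one).mp hspec
    have haA : (a : Q) ∈ A := (Subgroup.mem_inf.mp a.2).1
    have haZ : (a : Q) ∈ Subgroup.upperCentralSeries Q (j + 1) := (Subgroup.mem_inf.mp a.2).2
    refine ⟨a, haA, ?_, fun h => ha1 (Subtype.ext h)⟩
    rw [Subgroup.mem_center_iff]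
    intro y
    have h1 : ⁅(a : Q), y⁆ ∈ Subgroup.upperCentralSeries Q j :=
      Subgroup.mem_upperCentralSeries_succ_iff.mp haZ y
    have h2 : ⁅(a : Q), y⁆ ∈ A := by
      have e : ⁅(a : Q), y⁆ = (a : Q) * (y * (a : Q)⁻¹ * y⁻¹) := by
        simp only [commutatorElement_def]; group
      rw [e]
      exact A.mul_mem haA (hAn.conj_mem _ (A.inv_mem haA) y)
    have h3 : ⁅(a : Q), y⁆ ∈ A ⊓ Subgroup.upperCentralSeries Q j := Subgroup.mem_inf.mpr ⟨h2, h1⟩
    rw [hj, Subgroup.mem_bot, commutatorElement_def] at h3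
    have := congrArg (fun z => z * y * (a : Q)) h3
    simp only [one_mul] at this
    rw [← this]; group

/-- A character of degree prime to `p` is trivial on the derived subgroup of a normal Sylow
`p`-subgroup. -/
theorem trivial_on_comm {G : Type*} [Group G] [Fintype G] (p : ℕ) [hpf : Fact p.Prime]
    (P : Sylow p G) [hPn : (P : Subgroup G).Normal] {χ : G → ℂ} (hχ : IsIrrCharacter G χ)
    (n : ℕ) (hn : χ 1 = n) (hpn : ¬ p ∣ n) (c : G)
    (hc : c ∈ ⁅(P : Subgroup G), (P : Subgroup G)⁆) : χ c = χ 1 := by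
  classical
  have hp : p.Prime := hpf.out
  haveI : Fintype (P : Subgroup G) := Fintype.ofFinite _
  have hχc := IsIrrCharacter.isCharacter hχ
  have hχP : IsCharacter (P : Subgroup G) (fun x : (P : Subgroup G) => χ x) :=
    IsCharacter.restrict hχc (P : Subgroup G)
  have hne : (fun x : (P : Subgroup G) => χ x) ≠ 0 := by
    intro h0
    have := congrFun h0 1
    exact IsIrrCharacter.apply_one_ne_zero hχ this
  obtain ⟨θ, hθ, e, he0, he⟩ := IsCharacter.exists_constituent hχP hne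
  have hcon : classInner (fun x : (P : Subgroup G) => χ x) θ ≠ 0 := by
    rw [he]; exact_mod_cast he0.ne'
  obtain ⟨d, hd0, hd⟩ := IsIrrCharacter.apply_one hθ
  have hdvd := constituent_degree_dvd (P : Subgroup G) hχ hθ hcon n d hn hd
  have hdP : d ∣ Nat.card (P : Subgroup G) := degree_dvd_card hθ d hd
  obtain ⟨j, hj⟩ := IsPGroup.iff_card.mp P.2
  rw [hj] at hdP
  obtain ⟨i, hi, hdi⟩ := (Nat.dvd_prime_pow hp).mp hdP
  have hi0 : i = 0 := by
    by_contra h
    apply hpn
    rw [hdi] at hdvd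
    exact dvd_trans (dvd_pow_self p h) hdvd
  have hd1 : d = 1 := by rw [hdi, hi0, pow_zero]
  have hcl := clifford (P : Subgroup G) hχ hθ hcon
  have hcP : c ∈ (P : Subgroup G) := Subgroup.commutator_le_self _ hc
  have hc' : (⟨c, hcP⟩ : (P : Subgroup G)) ∈ commutator (P : Subgroup G) := by
    rw [← Subgroup.map_subtype_commutator] at hc
    obtain ⟨c', hc', hcc⟩ := Subgroup.mem_map.mp hc
    have : c' = ⟨c, hcP⟩ := Subtype.ext hcc
    rw [← this]; exact hc'
  have hψ : ∀ ψ ∈ Finset.univ.image (conjFn (P : Subgroup G) θ), ψ ⟨c, hcP⟩ = ψ 1 := by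
    intro ψ hψ
    obtain ⟨g, -, rfl⟩ := Finset.mem_image.mp hψ
    have hirr := IsIrrCharacter.conjFn hθ g
    have h1 : conjFn (P : Subgroup G) θ g 1 = 1 := by
      rw [conjFn_apply]
      have : (⟨g * ((1 : (P : Subgroup G)) : G) * g⁻¹,
          hPn.conj_mem ((1 : (P : Subgroup G)) : G) (1 : (P : Subgroup G)).2 g⟩ :
          (P : Subgroup G)) = 1 := by
        apply Subtype.ext; simp
      rw [this, hd, hd1, Nat.cast_one]
    obtain ⟨ω, hω⟩ := Cfsg.Agent.S0154.exists_hom_of_degree_one _ hirr h1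
    rw [h1, hω]
    have := Abelianization.commutator_subset_ker ω hc'
    show ((ω ⟨c, hcP⟩ : ℂˣ) : ℂ) = 1
    rw [MonoidHom.mem_ker.mp this, Units.val_one]
  have h1 := congrFun hcl ⟨c, hcP⟩
  have h2 := congrFun hcl 1
  simp only [Pi.smul_apply, smul_eq_mul, Finset.sum_apply] at h1 h2
  rw [Finset.sum_congr rfl hψ, ← h2] at h1
  exact h1

open Classical in
theorem backward {G : Type*} [Group G] [Fintype G] (hE : Cfsg.IsExtraspecial 2 G) :
    Nat.card {χ : Cfsg.IrrCharacter G // 2 ∣ Cfsg.charDegree (χ : G → ℂ)} = 1 := by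
  haveI : Fact (Nat.Prime 2) := ⟨Nat.prime_two⟩
  have hP2 : IsPGroup 2 G := hE.1.1
  have hcc : commutator G = Subgroup.center G := hE.1.2.2
  have hZ2 : Nat.card (Subgroup.center G) = 2 := hE.2
  -- a nonlinear irreducible character
  have hex : ∃ χ : G → ℂ, IsIrrCharacter G χ ∧ χ 1 ≠ 1 := by
    by_contra hcon
    push Not at hcon
    have hab := abelian_of_all_linear hcon
    have hcomm : commutator G = ⊥ := by
      rw [commutator_def, Subgroup.commutator_eq_bot_iff_le_centralizer]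
      intro a _
      rw [Subgroup.mem_centralizer_iff]
      intro b _
      exact hab b a
    rw [hcomm] at hcc
    rw [← hcc] at hZ2
    simp at hZ2
  obtain ⟨χ1, hχ1, hne1⟩ := hex
  have hz : ∃ z₀ ∈ Subgroup.center G, χ1 z₀ ≠ χ1 1 := by
    by_contra hcon
    push Not at hcon
    apply hne1
    apply Cfsg.Agent.Lib.Helper2_Extraspecial.degree_one_of_commutator_le_ker hχ1
    intro c hc
    rw [hcc] at hc
    exact hcon c hc
  obtain ⟨z₀, hz₀, hne⟩ := hz
  obtain ⟨d, hd0, hd⟩ := IsIrrCharacter.apply_one hχ1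
  have h1 := sum_norm_sq_eq_card hχ1
  have h2 : ∑ g : G, ‖χ1 g‖ ^ 2 =
      ∑ g ∈ Finset.univ.filter (fun g : G => g ∈ Subgroup.center G), (d : ℝ) ^ 2 := by
    rw [Finset.sum_filter]
    refine Finset.sum_congr rfl fun g _ => ?_
    split_ifs with hg
    · rw [Cfsg.Agent.Lib.Helper2_Extraspecial.norm_central hχ1 g hg, hd, Complex.norm_natCast]
    · rw [vanish_off_center 2 hE hχ1 z₀ hz₀ hne g hg]
      simp
  rw [h2, Finset.sum_const, nsmul_eq_mul] at h1
  have h3 : (Finset.univ.filter (fun g : G => g ∈ Subgroup.center G)).card = 2 := by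
    rw [← hZ2, Nat.card_eq_fintype_card, Fintype.card_subtype]
  rw [h3] at h1
  have h4 : 2 * d ^ 2 = Nat.card G := by exact_mod_cast h1
  obtain ⟨m, hm⟩ := IsPGroup.iff_card.mp hP2
  have hdG : d ∣ 2 ^ m := by
    rw [← hm]
    exact degree_dvd_card hχ1 d hd
  obtain ⟨n, hnm, hdn⟩ := (Nat.dvd_prime_pow Nat.prime_two).mp hdG
  have hcard : Nat.card G = 2 ^ (2 * n + 1) := by
    rw [← h4, hdn]; ring
  have hn0 : n ≠ 0 := by
    intro h
    apply hne1
    rw [hd, hdn, h]
    simp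
  have hcount := card_nonlinear 2 hE n hcard
  have hiff : ∀ χ ∈ irrFinset G, (2 ∣ Cfsg.charDegree χ ↔ χ 1 = ((2 : ℕ) : ℂ) ^ n) := by
    intro χ hχ
    have hχ' := mem_irrFinset.mp hχ
    rcases degree_cases 2 hE n hcard hχ' with h | h
    · have e : Cfsg.charDegree χ = 1 := charDegree_eq (by rw [h]; simp)
      rw [e, h]
      constructor
      · intro h2; omega
      · intro h2
        exfalso
        have h3 : ((2 ^ n : ℕ) : ℂ) = ((1 : ℕ) : ℂ) := by push_cast; exact h2.symm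
        have h4 := Nat.cast_injective h3
        have : 1 < 2 ^ n := Nat.one_lt_two_pow hn0
        omega
    · have e : Cfsg.charDegree χ = 2 ^ n := charDegree_eq (by rw [h]; push_cast; rfl)
      rw [e]
      constructor
      · intro _; exact h
      · intro _; exact dvd_pow_self 2 hn0
  have e : {χ : Cfsg.IrrCharacter G // 2 ∣ Cfsg.charDegree (χ : G → ℂ)} ≃
      {χ : Cfsg.IrrCharacter G // (χ : G → ℂ) 1 = ((2 : ℕ) : ℂ) ^ n} :=
    Equiv.subtypeEquivRight (fun χ => hiff χ.1 (mem_irrFinset.mpr χ.2))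
  rw [Nat.card_congr e, card_irr_subtype (fun χ => χ 1 = ((2 : ℕ) : ℂ) ^ n)]
  exact hcount

open Classical in
theorem forward {G : Type*} [Group G] [Fintype G] [Group.IsNilpotent G] (p : ℕ)
    [hpf : Fact p.Prime]
    (hone : Nat.card {χ : Cfsg.IrrCharacter G // p ∣ Cfsg.charDegree (χ : G → ℂ)} = 1) :
    p = 2 ∧ Cfsg.IsExtraspecial 2 G := by
  have hp : p.Prime := hpf.out
  obtain ⟨hsub, ⟨⟨χ0, hχ0p⟩⟩⟩ := Nat.card_eq_one_iff_unique.mp hone
  set f0 : G → ℂ := χ0.1 with hf0
  have h0 : IsIrrCharacter G f0 := χ0.2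
  obtain ⟨d0, hd0pos, hd0⟩ := IsIrrCharacter.apply_one h0
  have hpd0 : p ∣ d0 := by
    have : Cfsg.charDegree f0 = d0 := charDegree_eq hd0
    rw [← this]; exact hχ0p
  have hother : ∀ χ : G → ℂ, IsIrrCharacter G χ → χ ≠ f0 → ∀ n : ℕ, χ 1 = n → ¬ p ∣ n := by
    intro χ hχ hne n hn hpn
    apply hne
    have hdeg : p ∣ Cfsg.charDegree χ := by rw [charDegree_eq hn]; exact hpn
    have := hsub.elim (⟨⟨χ, hχ⟩, hdeg⟩ :
      {χ : Cfsg.IrrCharacter G // p ∣ Cfsg.charDegree (χ : G → ℂ)}) ⟨χ0, hχ0p⟩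
    exact congrArg (fun x => x.1.1) this
  obtain ⟨P, Q, hPQ, hQp, hQmem, hcomm⟩ := nilpotent_p_decomp (E := G) p
  haveI hPn : (P : Subgroup G).Normal := inferInstance
  set M : Subgroup G := ⁅(P : Subgroup G), (P : Subgroup G)⁆ with hM
  haveI hMn : M.Normal := Subgroup.commutator_normal _ _
  -- characters other than f0 are trivial on M
  have htriv : ∀ χ : G → ℂ, IsIrrCharacter G χ → χ ≠ f0 → ∀ c ∈ M, χ c = χ 1 := by
    intro χ hχ hne c hc
    obtain ⟨n, _, hn⟩ := IsIrrCharacter.apply_one hχ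
    exact trivial_on_comm p P hχ n hn (hother χ hχ hne n hn) c hc
  -- M ≠ ⊥
  have hMne : M ≠ ⊥ := by
    intro hbot
    have hab : ∀ a ∈ (P : Subgroup G), ∀ b ∈ (P : Subgroup G), a * b = b * a := by
      intro a ha b hb
      have h1 := (Subgroup.commutator_eq_bot_iff_le_centralizer (H₁ := (P : Subgroup G))
        (H₂ := (P : Subgroup G))).mp hbot
      have h2 := h1 ha
      rw [Subgroup.mem_centralizer_iff] at h2
      exact (h2 b hb).symm
    have := ito h0 (P : Subgroup G) hab d0 hd0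
    exact P.not_dvd_index (dvd_trans hpd0 this)
  obtain ⟨z, hzM, hzZ, hz1⟩ := normal_meets_center M hMne
  -- column orthogonality
  have hf0mem : f0 ∈ irrFinset G := mem_irrFinset.mpr h0
  have ha := sum_irr_mul_deg (G := G) 1
  rw [if_pos rfl, ← Finset.sum_erase_add _ _ hf0mem, hd0] at ha
  have hb := sum_irr_mul_deg (G := G) z
  rw [if_neg hz1, ← Finset.sum_erase_add _ _ hf0mem, hd0] at hb
  have hS : ∑ χ ∈ (irrFinset G).erase f0, χ z * χ 1 = ∑ χ ∈ (irrFinset G).erase f0, χ 1 * χ 1 := by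
    apply Finset.sum_congr rfl
    intro χ hχ
    obtain ⟨hne, hmem⟩ := Finset.mem_erase.mp hχ
    rw [htriv χ (mem_irrFinset.mp hmem) hne z hzM]
  rw [hS] at hb
  have hd0ne : (d0 : ℂ) ≠ 0 := by exact_mod_cast hd0pos.ne'
  have hfz : f0 z = ((d0 : ℂ) * d0 - (Nat.card G : ℂ)) / d0 := by
    field_simp
    linear_combination hb - ha
  have hnorm := Cfsg.Agent.Lib.Helper2_CharCenter.norm_central h0 hzZ
  rw [hd0, Complex.norm_natCast] at hnorm
  have hreal : f0 z = (((d0 : ℝ) * d0 - (Nat.card G : ℝ)) / d0 : ℝ) := by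
    rw [hfz]; push_cast; ring
  rw [hreal, Complex.norm_real, Real.norm_eq_abs] at hnorm
  have hd0R : (0 : ℝ) < d0 := by exact_mod_cast hd0pos
  have hGR : (0 : ℝ) < (Nat.card G : ℝ) := by exact_mod_cast (Nat.card_pos (α := G))
  have hcard2 : (Nat.card G : ℝ) = 2 * (d0 : ℝ) * d0 := by
    rw [abs_div, abs_of_pos hd0R, div_eq_iff hd0R.ne'] at hnorm
    rcases abs_cases ((d0 : ℝ) * d0 - (Nat.card G : ℝ)) with ⟨h1, _⟩ | ⟨h1, _⟩
    · rw [h1] at hnorm; linarith
    · rw [h1] at hnorm; linarith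
  have hcardN : Nat.card G = 2 * d0 * d0 := by exact_mod_cast hcard2
  -- centre has order 2
  have hZle := sq_mul_card_le h0 (Subgroup.center G)
    (fun d hd => Cfsg.Agent.Lib.Helper2_CharCenter.norm_central h0 hd)
  rw [hd0, Complex.norm_natCast, hcard2] at hZle
  have hZle2 : Nat.card (Subgroup.center G) ≤ 2 := by
    have h1 : (d0 : ℝ) ^ 2 * (Nat.card (Subgroup.center G) : ℝ) ≤ (d0 : ℝ) ^ 2 * 2 := by
      calc (d0 : ℝ) ^ 2 * (Nat.card (Subgroup.center G) : ℝ) ≤ 2 * (d0 : ℝ) * d0 := hZle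
        _ = (d0 : ℝ) ^ 2 * 2 := by ring
    have h2 : (Nat.card (Subgroup.center G) : ℝ) ≤ 2 :=
      le_of_mul_le_mul_left h1 (by positivity)
    exact_mod_cast h2
  have hZ2 : Nat.card (Subgroup.center G) = 2 := by
    apply le_antisymm hZle2
    have hne : (⟨z, hzZ⟩ : Subgroup.center G) ≠ 1 := fun h => hz1 (congrArg Subtype.val h)
    have : 1 < Nat.card (Subgroup.center G) := by
      rw [Finite.one_lt_card_iff_nontrivial]
      exact ⟨⟨z, hzZ⟩, 1, hne⟩
    omega
  have hZelts : ∀ w ∈ Subgroup.center G, w = 1 ∨ w = z := by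
    intro w hw
    by_contra hcon
    push Not at hcon
    obtain ⟨y, hy1, hy2⟩ := (Nat.card_eq_two_iff' (1 : Subgroup.center G)).mp hZ2
    have e1 := hy2 ⟨z, hzZ⟩ (fun h => hz1 (congrArg Subtype.val h))
    have e2 := hy2 ⟨w, hw⟩ (fun h => hcon.1 (congrArg Subtype.val h))
    apply hcon.2
    have := e2.trans e1.symm
    exact congrArg Subtype.val this
  have hzsq : z * z = 1 := by
    rcases hZelts (z * z) (Subgroup.mul_mem _ hzZ hzZ) with h | h
    · exact h
    · exfalso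
      apply hz1
      have : z * z = z * 1 := by rw [h, mul_one]
      exact mul_left_cancel this
  -- Q is trivial
  have hzP : z ∈ (P : Subgroup G) := Subgroup.commutator_le_self _ hzM
  have hpz : p ∣ orderOf z := by
    obtain ⟨k, hk⟩ := P.2 ⟨z, hzP⟩
    have h1 : z ^ p ^ k = 1 := by
      have := congrArg Subtype.val hk
      rwa [Subgroup.coe_pow, Subgroup.coe_one] at this
    have h2 : orderOf z ∣ p ^ k := orderOf_dvd_of_pow_eq_one h1
    obtain ⟨i, _, hi⟩ := (Nat.dvd_prime_pow hp).mp h2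
    have hi0 : i ≠ 0 := by
      intro h
      rw [h, pow_zero, orderOf_eq_one_iff] at hi
      exact hz1 hi
    rw [hi]
    exact dvd_pow_self p hi0
  have hp2 : p = 2 := by
    have h1 : orderOf z ∣ 2 := orderOf_dvd_of_pow_eq_one (by rw [pow_two]; exact hzsq)
    have h2 : p ∣ 2 := dvd_trans hpz h1
    exact (Nat.prime_dvd_prime_iff_eq hp Nat.prime_two).mp h2
  haveI hQn : Q.Normal := by
    constructor
    intro y hy g
    rw [hQmem] at hy ⊢
    have : orderOf (g * y * g⁻¹) = orderOf y := by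
      have := orderOf_injective (MulAut.conj g).toMonoidHom (MulAut.conj g).injective y
      simpa using this
    rw [this]; exact hy
  have hQbot : Q = ⊥ := by
    by_contra hQne
    obtain ⟨y, hyQ, hyZ, hy1⟩ := normal_meets_center Q hQne
    rcases hZelts y hyZ with h | h
    · exact hy1 h
    · rw [h] at hyQ
      exact (hQmem z).mp hyQ hpz
  have hPcard : Nat.card (P : Subgroup G) = Nat.card G := by
    rw [hQbot] at hPQ
    simpa using hPQ
  subst hp2
  have hG2 : IsPGroup 2 G := by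
    obtain ⟨j, hj⟩ := IsPGroup.iff_card.mp P.2
    exact IsPGroup.of_card (hPcard ▸ hj)
  obtain ⟨m, hm⟩ := IsPGroup.iff_card.mp hG2
  -- all other characters are linear
  have hlin : ∀ χ ∈ (irrFinset G).erase f0, χ 1 = 1 := by
    intro χ hχ
    obtain ⟨hne, hmem⟩ := Finset.mem_erase.mp hχ
    have hχi := mem_irrFinset.mp hmem
    obtain ⟨n, hn0, hn⟩ := IsIrrCharacter.apply_one hχi
    have h1 := hother χ hχi hne n hn
    have h2 : n ∣ 2 ^ m := by rw [← hm]; exact degree_dvd_card hχi n hn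
    obtain ⟨i, _, hi⟩ := (Nat.dvd_prime_pow Nat.prime_two).mp h2
    have hi0 : i = 0 := by
      by_contra h
      apply h1
      rw [hi]; exact dvd_pow_self 2 h
    rw [hn, hi, hi0]; simp
  have hcnt : ((irrFinset G).erase f0).card = d0 * d0 := by
    rw [Finset.sum_congr rfl (fun χ hχ => by rw [hlin χ hχ, mul_one])] at ha
    rw [Finset.sum_const, nsmul_eq_mul, mul_one, hcardN] at ha
    have : (((irrFinset G).erase f0).card : ℂ) + (d0 : ℂ) * d0 = ((2 * d0 * d0 : ℕ) : ℂ) := ha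
    have h2 : (((irrFinset G).erase f0).card + d0 * d0 : ℕ) = 2 * d0 * d0 := by
      exact_mod_cast this
    rw [show 2 * d0 * d0 = d0 * d0 + d0 * d0 by ring] at h2
    omega
  have hd0ne1 : d0 ≠ 1 := by
    intro h
    rw [h] at hpd0
    omega
  have hlincount : Nat.card {χ : Cfsg.IrrCharacter G // (χ : G → ℂ) 1 = 1} = d0 * d0 := by
    rw [card_irr_subtype (fun χ => χ 1 = 1), ← hcnt]
    congr 1
    ext χ
    constructor
    · intro h
      obtain ⟨h1, h2⟩ := Finset.mem_filter.mp h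
      refine Finset.mem_erase.mpr ⟨?_, h1⟩
      intro he
      rw [he, hd0] at h2
      apply hd0ne1
      exact_mod_cast h2
    · intro h
      exact Finset.mem_filter.mpr ⟨(Finset.mem_erase.mp h).2, hlin χ h⟩
  rw [Cfsg.Agent.S0154.result] at hlincount
  have hG'card : Nat.card (commutator G) = 2 := by
    have h1 := Subgroup.card_mul_index (commutator G)
    rw [hlincount, hcardN] at h1
    have hpos : 0 < d0 * d0 := Nat.mul_pos hd0pos hd0pos
    have : Nat.card (commutator G) * (d0 * d0) = 2 * (d0 * d0) := by rw [h1]; ring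
    exact Nat.eq_of_mul_eq_mul_right hpos this
  have hzG' : z ∈ commutator G := by
    rw [commutator_def]
    exact Subgroup.commutator_mono le_top le_top hzM
  have hG'elts : ∀ w ∈ commutator G, w = 1 ∨ w = z := by
    intro w hw
    by_contra hcon
    push Not at hcon
    obtain ⟨y, hy1, hy2⟩ := (Nat.card_eq_two_iff' (1 : commutator G)).mp hG'card
    have e1 := hy2 ⟨z, hzG'⟩ (fun h => hz1 (congrArg Subtype.val h))
    have e2 := hy2 ⟨w, hw⟩ (fun h => hcon.1 (congrArg Subtype.val h))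
    apply hcon.2
    have := e2.trans e1.symm
    exact congrArg Subtype.val this
  have hcc : commutator G = Subgroup.center G := by
    apply Subgroup.eq_of_le_of_card_ge
    · intro w hw
      rcases hG'elts w hw with h | h
      · rw [h]; exact Subgroup.one_mem _
      · rw [h]; exact hzZ
    · rw [hZ2, hG'card]
  have hcommZ : ∀ a b : G, ⁅a, b⁆ ∈ Subgroup.center G := by
    intro a b
    rw [← hcc, commutator_def]
    exact Subgroup.commutator_mem_commutator (Subgroup.mem_top a) (Subgroup.mem_top b)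
  have hsqZ : ∀ a : G, a ^ 2 ∈ Subgroup.center G := by
    intro a
    rw [Subgroup.mem_center_iff]
    intro y
    set c := ⁅a, y⁆ with hc
    have hcZ := hcommZ a y
    have hcc2 : c * c = 1 := by
      rcases hZelts c hcZ with h | h
      · rw [h, mul_one]
      · rw [h]; exact hzsq
    have hcy : ∀ g : G, g * c = c * g := fun g => Subgroup.mem_center_iff.mp hcZ g
    have hay : a * y = c * y * a := by
      rw [hc, commutatorElement_def]; group
    calc y * a ^ 2 = (c * c) * y * a ^ 2 := by rw [hcc2, one_mul]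
      _ = c * (c * y * a) * a := by rw [pow_two]; group
      _ = c * (a * y) * a := by rw [hay]
      _ = (c * a) * y * a := by group
      _ = (a * c) * y * a := by rw [hcy a]
      _ = a * (c * y * a) := by group
      _ = a * (a * y) := by rw [hay]
      _ = a ^ 2 * y := by rw [pow_two]; group
  have hfr : frattini G = Subgroup.center G := by
    apply le_antisymm
    · exact Cfsg.Agent.Lib.Helper4_Frattini.frattini_le_of_elementary_quotient (p := 2)
        (Subgroup.center G) hcommZ hsqZ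
    · rw [← hcc, commutator_def, Subgroup.commutator_le]
      intro a _ b _
      rw [commutatorElement_def]
      exact Cfsg.Agent.Lib.Helper7_PFrattini.comm_mem_frattini hG2 a b
  exact ⟨rfl, ⟨hG2, hfr, hcc⟩, hZ2⟩


/-- Let p be a prime and G a finite nilpotent group. Then G has exactly one irreducible complex character of degree divisible by p if and only if p = 2 and G is an extraspecial 2-group. -/
theorem result {G : Type*} [Group G] [Finite G] [Group.IsNilpotent G] (p : ℕ) [Fact p.Prime] : Nat.card {χ : Cfsg.IrrCharacter G // p ∣ Cfsg.charDegree (χ : G → ℂ)} = 1 ↔ (p = 2 ∧ Cfsg.IsExtraspecial 2 G) := by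
  classical
  haveI := Fintype.ofFinite G
  constructor
  · intro h
    exact forward p h
  · rintro ⟨rfl, hE⟩
    exact backward hE

end Cfsg.Agent.S4762
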