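import Cfsg.Statements.S4784
import Cfsg.Agent.Lib.Helper2_ClassFn
import Cfsg.Agent.Lib.Helper2_CharBasic
import Cfsg.Agent.Lib.Helper2_CharOrtho
import Cfsg.Agent.Lib.Helper2_Clifford
import Cfsg.Agent.Lib.Helper2_CharMore
import Cfsg.Agent.Lib.Helper2_CharNorm
import Cfsg.Agent.Lib.Helper2_CharValues
import Cfsg.Agent.Lib.Helper2_CharComplete
import Cfsg.Agent.Lib.Helper2_CharInd
import Cfsg.Agent.Lib.Helper2_CharTable
import Cfsg.Agent.Lib.Helper2_CharFrob
import Cfsg.Agent.Lib.Helper2_CharDeg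
import Cfsg.Agent.Lib.Helper2_CharSum
import Cfsg.Agent.Lib.Helper2_CharExtra
import Cfsg.Agent.Lib.Helper2_CharCentral
import Cfsg.Agent.Lib.Helper2_PermChar
import Cfsg.Agent.Lib.Helper2_FrobSchur
import Cfsg.Agent.Lib.Helper2_CliffordCorr
import Cfsg.Agent.Lib.Helper2_CharKernel
import Cfsg.Agent.Lib.Helper2_CyclicTI
import Cfsg.Agent.Lib.Helper2_CharGalois
import Cfsg.Agent.Lib.Helper2_CharInt
import Cfsg.Agent.Lib.Helper2_CharBurnside
import Cfsg.Agent.Lib.Helper2_CharCenter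
import Cfsg.Agent.Lib.Helper2_Ito
import Cfsg.Agent.Lib.Helper2_Gallagher
import Cfsg.Agent.Lib.Helper2_Artin
import Cfsg.Agent.Lib.Helper2_MGroup
import Cfsg.Agent.Lib.Helper2_RepEquiv
import Cfsg.Agent.Lib.Helper2_CyclicExt
import Cfsg.Agent.Lib.Helper2_Extraspecial
import Cfsg.Agent.Lib.Helper2_ProjLift
import Cfsg.Agent.Lib.Helper2_CentralExt
import Cfsg.Agent.Lib.Helper2_SylowExt
import Cfsg.Agent.Lib.Helper2_DetChar
import Cfsg.Agent.Lib.Helper2_LinExt
import Cfsg.Agent.Lib.Helper2_DetExt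
import Cfsg.Agent.Lib.Helper2_GallagherExt
import Cfsg.Agent.Lib.Helper2_PermInd
import Cfsg.Agent.Lib.Helper2_QuasiElem
import Cfsg.Agent.Lib.Helper2_BrauerInd
import Cfsg.Agent.Lib.Helper2_BrauerThm
import Cfsg.Agent.Lib.Helper2_NilDecomp
import Cfsg.Agent.Lib.Helper2_DefectZero
import Cfsg.Agent.Lib.Helper2_CharGalois2
import Cfsg.Agent.Lib.Helper2_CosetAvg
import Cfsg.Agent.Lib.Helper2_Thompson
import Cfsg.Agent.Lib.Helper2_ItoSolv
import Cfsg.Agent.Lib.Helper2_ItoPSolv
import Cfsg.Agent.Lib.Helper2_GaloisConj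
import Cfsg.Agent.Lib.Helper2_AbelInertia
import Cfsg.Agent.Lib.Helper2_Gagola
import Cfsg.Agent.Lib.Helper2_GoingDown
import Cfsg.Agent.Lib.Helper2_RelMGroup
import Cfsg.Agent.Lib.Helper2_Gagola2
import Cfsg.Agent.Lib.Helper2_Gagola3
import Cfsg.Agent.S0161

set_option autoImplicit false
open Cfsg

namespace Cfsg.Agent.S4784

open Cfsg.Agent.Lib.Helper2_ClassFn Cfsg.Agent.Lib.Helper2_CharBasic Cfsg.Agent.Lib.Helper2_CharOrtho Cfsg.Agent.Lib.Helper2_Clifford Cfsg.Agent.Lib.Helper2_CharMore Cfsg.Agent.Lib.Helper2_CharNorm Cfsg.Agent.Lib.Helper2_CharValues Cfsg.Agent.Lib.Helper2_CharComplete Cfsg.Agent.Lib.Helper2_CharInd Cfsg.Agent.Lib.Helper2_CharTable Cfsg.Agent.Lib.Helper2_CharFrob Cfsg.Agent.Lib.Helper2_CharDeg Cfsg.Agent.Lib.Helper2_CharSum Cfsg.Agent.Lib.Helper2_CharExtra Cfsg.Agent.Lib.Helper2_CharCentral Cfsg.Agent.Lib.Helper2_PermChar Cfsg.Agent.Lib.Helper2_FrobSchur Cfsg.Agent.Lib.Helper2_CliffordCorr Cfsg.Agent.Lib.Helper2_CharKernel Cfsg.Agent.Lib.Helper2_CyclicTI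 Cfsg.Agent.Lib.Helper2_CharGalois Cfsg.Agent.Lib.Helper2_CharInt Cfsg.Agent.Lib.Helper2_CharBurnside Cfsg.Agent.Lib.Helper2_CharCenter Cfsg.Agent.Lib.Helper2_Ito Cfsg.Agent.Lib.Helper2_Gallagher Cfsg.Agent.Lib.Helper2_Artin Cfsg.Agent.Lib.Helper2_MGroup Cfsg.Agent.Lib.Helper2_RepEquiv Cfsg.Agent.Lib.Helper2_CyclicExt Cfsg.Agent.Lib.Helper2_Extraspecial Cfsg.Agent.Lib.Helper2_ProjLift Cfsg.Agent.Lib.Helper2_CentralExt Cfsg.Agent.Lib.Helper2_SylowExt Cfsg.Agent.Lib.Helper2_DetChar Cfsg.Agent.Lib.Helper2_LinExt Cfsg.Agent.Lib.Helper2_DetExt Cfsg.Agent.Lib.Helper2_GallagherExt Cfsg.Agent.Lib.Helper2_PermInd Cfsg.Agent.Lib.Helper2_QuasiElem Cfsg.Agent.Lib.Helper2_BrauerInd Cfsg.Agent.Lib.Helper2_BrauerThm Cfsg.Agent.Lib.Helper2_NilDecomp Cfsg.Agent.Lib.Helper2_DefectZero Cfsg.Agent.Lib.Helper2_CharGalois2 Cfsg.Agent.Lib.Helper2_CosetAvg Cfsg.Agent.Lib.Helper2_Thompson Cfsg.Agent.Lib.Helper2_ItoSolv Cfsg.Agent.Lib.Helper2_ItoPSolv Cfsg.Agent.Lib.Helper2_GaloisConj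 Cfsg.Agent.Lib.Helper2_AbelInertia Cfsg.Agent.Lib.Helper2_Gagola Cfsg.Agent.Lib.Helper2_GoingDown Cfsg.Agent.Lib.Helper2_RelMGroup Cfsg.Agent.Lib.Helper2_Gagola2 Cfsg.Agent.Lib.Helper2_Gagola3
open scoped Pointwise
variable {G : Type*} [Group G] [Fintype G]

open Classical in
theorem sum_sq_ind (H : Subgroup G) :
    ∑ ψ ∈ irrFinset G, classInner (indFun H (fun _ : H => (1 : ℂ))) ψ
        * ((Nat.card G : ℂ)⁻¹ * ∑ g : G, ψ (g * g))
      = (Nat.card H : ℂ)⁻¹ * ((Finset.univ.filter (fun v : G => v * v ∈ H)).card : ℂ) := by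
  set π := indFun H (fun _ : H => (1 : ℂ)) with hπ
  have hcf : IsClassFunction G π := indFun_isClassFunction H _
  have hexp := IsClassFunction.expansion hcf
  have hval : ∀ g, π g = ∑ ψ ∈ irrFinset G, classInner π ψ * ψ g := by
    intro g
    have := congrFun hexp g
    rw [Finset.sum_apply] at this
    exact this.trans (Finset.sum_congr rfl fun ψ _ => by rw [Pi.smul_apply, smul_eq_mul])
  have h1 : ∑ ψ ∈ irrFinset G, classInner π ψ * ((Nat.card G : ℂ)⁻¹ * ∑ g : G, ψ (g * g))
      = (Nat.card G : ℂ)⁻¹ * ∑ u : G, π (u * u) := by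
    calc ∑ ψ ∈ irrFinset G, classInner π ψ * ((Nat.card G : ℂ)⁻¹ * ∑ g : G, ψ (g * g))
        = ∑ ψ ∈ irrFinset G, ∑ u : G,
            (Nat.card G : ℂ)⁻¹ * (classInner π ψ * ψ (u * u)) := by
          refine Finset.sum_congr rfl fun ψ _ => ?_
          rw [Finset.mul_sum, Finset.mul_sum]
          refine Finset.sum_congr rfl fun u _ => by ring
      _ = ∑ u : G, ∑ ψ ∈ irrFinset G,
            (Nat.card G : ℂ)⁻¹ * (classInner π ψ * ψ (u * u)) := Finset.sum_comm
      _ = (Nat.card G : ℂ)⁻¹ * ∑ u : G, π (u * u) := by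
          rw [Finset.mul_sum]
          refine Finset.sum_congr rfl fun u _ => ?_
          rw [hval (u * u), Finset.mul_sum]
  have hext : ∀ y : G, extendByZero H (fun _ : H => (1 : ℂ)) y = if y ∈ H then 1 else 0 := by
    intro y
    split_ifs with hy
    · exact extendByZero_of_mem H _ hy
    · exact extendByZero_of_not_mem H _ hy
  have h2 : ∑ u : G, π (u * u) = (Nat.card H : ℂ)⁻¹ * ((Nat.card G : ℂ)
      * ((Finset.univ.filter (fun v : G => v * v ∈ H)).card : ℂ)) := by
    simp only [hπ, indFun_apply]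
    rw [← Finset.mul_sum, Finset.sum_comm]
    congr 1
    have h3 : ∀ x : G, ∑ u : G, extendByZero H (fun _ : H => (1 : ℂ)) (x⁻¹ * (u * u) * x)
        = ((Finset.univ.filter (fun v : G => v * v ∈ H)).card : ℂ) := by
      intro x
      rw [Finset.card_filter]
      push_cast
      refine Fintype.sum_equiv (MulAut.conj x⁻¹).toEquiv _ _ fun u => ?_
      rw [hext]
      have e0 : (MulAut.conj x⁻¹).toEquiv u = x⁻¹ * u * x := by
        simp
      rw [e0]
      have e : x⁻¹ * (u * u) * x = (x⁻¹ * u * x) * (x⁻¹ * u * x) := by group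
      rw [e]
    rw [Finset.sum_congr rfl (fun x _ => h3 x), Finset.sum_const, Finset.card_univ, nsmul_eq_mul,
      Nat.card_eq_fintype_card]
  rw [h1, h2]
  have hG0 : (Nat.card G : ℂ) ≠ 0 := card_ne_zero_complex
  field_simp



/-- Let H be a subgroup of the finite group G and consider the permutation character of G on the cosets of H (the function induced from the principal character of H). Then exactly one irreducible constituent of it is real-valued with Frobenius–Schur indicator +1 (namely the principal character) if and only if the normal core of H has odd index in G. -/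
theorem result {G : Type*} [Group G] [Fintype G] (H : Subgroup G) : Nat.card {χ : Cfsg.IrrCharacter G // Cfsg.classInner (Cfsg.indFun H (fun _ : H => (1 : ℂ))) (χ : G → ℂ) ≠ 0 ∧ (∀ g : G, (starRingEnd ℂ) ((χ : G → ℂ) g) = (χ : G → ℂ) g) ∧ (Nat.card G : ℂ)⁻¹ * ∑ g : G, (χ : G → ℂ) (g * g) = 1} = 1 ↔ Odd H.normalCore.index := by
  classical
  set π := Cfsg.indFun H (fun _ : H => (1 : ℂ)) with hπ
  have hπc : IsCharacter G π := IsCharacter.indFun isCharacter_one
  have h1irr : IsIrrCharacter G (fun _ => (1 : ℂ)) := isIrrCharacter_one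
  have hG0 : (Nat.card G : ℂ) ≠ 0 := card_ne_zero_complex
  have hH0 : (Nat.card H : ℂ) ≠ 0 := card_ne_zero_complex
  have hm1 : classInner π (fun _ => (1 : ℂ)) = 1 := by
    rw [hπ, frobenius_reciprocity H _ _
      (IsCharacter.isClassFunction (IsIrrCharacter.isCharacter h1irr))]
    exact classInner_irr_self (isIrrCharacter_one (G := H))
  have hnu1 : (Nat.card G : ℂ)⁻¹ * ∑ g : G, (fun _ : G => (1 : ℂ)) (g * g) = 1 := by
    simp only [Finset.sum_const, Finset.card_univ, nsmul_eq_mul, mul_one]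
    rw [← Nat.card_eq_fintype_card]
    exact inv_mul_cancel₀ hG0
  let triv : {χ : Cfsg.IrrCharacter G // Cfsg.classInner π (χ : G → ℂ) ≠ 0 ∧
      (∀ g : G, (starRingEnd ℂ) ((χ : G → ℂ) g) = (χ : G → ℂ) g) ∧
      (Nat.card G : ℂ)⁻¹ * ∑ g : G, (χ : G → ℂ) (g * g) = 1} :=
    ⟨⟨fun _ => 1, h1irr⟩, by
      change classInner π (fun _ => (1 : ℂ)) ≠ 0
      rw [hm1]
      exact one_ne_zero, fun g => by
      change (starRingEnd ℂ) (1 : ℂ) = 1
      exact map_one _, hnu1⟩
  constructor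
  · intro hcard
    by_contra hodd
    rw [Nat.not_odd_iff_even] at hodd
    rw [Nat.card_eq_one_iff_unique] at hcard
    obtain ⟨hsub, -⟩ := hcard
    -- an element t outside the core with square in the core
    haveI : Fact (Nat.Prime 2) := ⟨Nat.prime_two⟩
    have hcardQ : 2 ∣ Nat.card (G ⧸ H.normalCore) := by
      rw [← Subgroup.index_eq_card]
      exact hodd.two_dvd
    obtain ⟨q, hq⟩ := exists_prime_orderOf_dvd_card' 2 hcardQ
    obtain ⟨t, rfl⟩ := QuotientGroup.mk_surjective q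
    have ht1 : t ∉ H.normalCore := by
      intro ht
      have : (t : G ⧸ H.normalCore) = 1 := (QuotientGroup.eq_one_iff t).mpr ht
      rw [this, orderOf_one] at hq
      norm_num at hq
    have ht2 : t * t ∈ H.normalCore := by
      rw [← QuotientGroup.eq_one_iff, QuotientGroup.mk_mul, ← pow_two, ← hq]
      exact pow_orderOf_eq_one _
    have hex : ∃ b : G, b * t * b⁻¹ ∉ H := by
      by_contra hall
      push Not at hall
      exact ht1 hall
    obtain ⟨b, hb⟩ := hex
    have hb2 : (b * t * b⁻¹) * (b * t * b⁻¹) ∈ H := by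
      have e : (b * t * b⁻¹) * (b * t * b⁻¹) = b * (t * t) * b⁻¹ := by group
      rw [e]
      exact ht2 b
    -- counting
    have hcount : Nat.card H + 1 ≤ (Finset.univ.filter (fun v : G => v * v ∈ H)).card := by
      have hsubset : insert (b * t * b⁻¹) (Finset.univ.filter (fun v : G => v ∈ H))
          ⊆ Finset.univ.filter (fun v : G => v * v ∈ H) := by
        intro v hv
        rw [Finset.mem_insert] at hv
        rw [Finset.mem_filter]
        refine ⟨Finset.mem_univ _, ?_⟩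
        rcases hv with rfl | hv
        · exact hb2
        · exact H.mul_mem (Finset.mem_filter.mp hv).2 (Finset.mem_filter.mp hv).2
      have hcardins : (insert (b * t * b⁻¹) (Finset.univ.filter (fun v : G => v ∈ H))).card
          = Nat.card H + 1 := by
        rw [Finset.card_insert_of_notMem]
        · congr 1
          rw [← Fintype.card_subtype, Nat.card_eq_fintype_card]
        · intro hmem
          exact hb (Finset.mem_filter.mp hmem).2
      rw [← hcardins]
      exact Finset.card_le_card hsubset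
    have hsum := sum_sq_ind H
    rw [← hπ, ← Finset.add_sum_erase _ _ (mem_irrFinset.mpr h1irr), hm1, hnu1, one_mul] at hsum
    have hre := congrArg Complex.re hsum
    rw [Complex.add_re, Complex.one_re, Complex.re_sum] at hre
    have hrhs : 1 < ((Nat.card H : ℂ)⁻¹
        * ((Finset.univ.filter (fun v : G => v * v ∈ H)).card : ℂ)).re := by
      have hHpos : (0 : ℝ) < (Nat.card H : ℝ) := by exact_mod_cast Nat.card_pos
      have e : ((Nat.card H : ℂ)⁻¹
          * ((Finset.univ.filter (fun v : G => v * v ∈ H)).card : ℂ))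
          = (((Nat.card H : ℝ)⁻¹
            * ((Finset.univ.filter (fun v : G => v * v ∈ H)).card : ℝ) : ℝ) : ℂ) := by
        push_cast
        rfl
      rw [e, Complex.ofReal_re]
      have hc' : (Nat.card H : ℝ) + 1 ≤ ((Finset.univ.filter (fun v : G => v * v ∈ H)).card : ℝ) := by
        exact_mod_cast hcount
      rw [inv_mul_eq_div, lt_div_iff₀ hHpos]
      linarith
    have hpos : 0 < ∑ ψ ∈ (irrFinset G).erase (fun _ => (1 : ℂ)),
        (classInner π ψ * ((Nat.card G : ℂ)⁻¹ * ∑ g : G, ψ (g * g))).re := by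
      linarith
    obtain ⟨ψ, hψmem, hψpos⟩ := Finset.exists_lt_of_sum_lt
      (s := (irrFinset G).erase (fun _ => (1 : ℂ))) (f := fun _ => (0 : ℝ))
      (g := fun ψ => (classInner π ψ * ((Nat.card G : ℂ)⁻¹ * ∑ g : G, ψ (g * g))).re)
      (by rw [Finset.sum_const_zero]; exact hpos)
    rw [Finset.mem_erase] at hψmem
    have hirr := mem_irrFinset.mp hψmem.2
    obtain ⟨n, hn⟩ := IsCharacter.classInner_nat hπc (IsIrrCharacter.isCharacter hirr)
    rw [hn] at hψpos
    have hψS : classInner π ψ ≠ 0 ∧ (∀ g : G, (starRingEnd ℂ) (ψ g) = ψ g) ∧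
        (Nat.card G : ℂ)⁻¹ * ∑ g : G, ψ (g * g) = 1 := by
      rcases indicator_cases hirr with ⟨_, h0⟩ | ⟨hreal, h0 | h0⟩
      · rw [h0, mul_zero, Complex.zero_re] at hψpos
        exact absurd hψpos (lt_irrefl _)
      · refine ⟨?_, fun g => congrFun hreal g, h0⟩
        rw [hn]
        intro hn0
        rw [h0, hn0, zero_mul, Complex.zero_re] at hψpos
        exact absurd hψpos (lt_irrefl _)
      · rw [h0] at hψpos
        simp at hψpos
        have : (0 : ℝ) ≤ n := Nat.cast_nonneg n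
        linarith
    have heq := hsub.elim triv ⟨⟨ψ, hirr⟩, hψS⟩
    apply hψmem.1
    have := congrArg (fun a => (a.1 : G → ℂ)) heq
    exact this.symm
  · intro hodd
    rw [Nat.card_eq_one_iff_unique]
    have key : ∀ a : {χ : Cfsg.IrrCharacter G // Cfsg.classInner π (χ : G → ℂ) ≠ 0 ∧
        (∀ g : G, (starRingEnd ℂ) ((χ : G → ℂ) g) = (χ : G → ℂ) g) ∧
        (Nat.card G : ℂ)⁻¹ * ∑ g : G, (χ : G → ℂ) (g * g) = 1}, a = triv := by
      rintro ⟨⟨χ, hχ⟩, hm, hreal, hν⟩
      change classInner π χ ≠ 0 at hm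
      change ∀ g : G, (starRingEnd ℂ) (χ g) = χ g at hreal
      apply Subtype.ext
      apply Subtype.ext
      change χ = fun _ => 1
      have hker : ∀ n ∈ H.normalCore, χ n = χ 1 := by
        intro n hn
        apply IsCharacter.constituent_apply_eq hπc hχ hm n
        rw [hπ, indFun_apply, indFun_apply]
        congr 1
        refine Finset.sum_congr rfl fun x _ => ?_
        have h1 : x⁻¹ * n * x ∈ H := by
          have := hn x⁻¹
          rwa [inv_inv] at this
        have h2 : x⁻¹ * 1 * x ∈ H := by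
          rw [mul_one, inv_mul_cancel]
          exact H.one_mem
        rw [extendByZero_of_mem H _ h1, extendByZero_of_mem H _ h2]
      obtain ⟨ψ, hψ, hψχ⟩ := IsIrrCharacter.deflate hχ H.normalCore hker
      have hoddQ : Odd (Nat.card (G ⧸ H.normalCore)) := by
        rw [← Subgroup.index_eq_card]
        exact hodd
      have hψreal : ∀ q : G ⧸ H.normalCore, (((⟨ψ, hψ⟩ : Cfsg.IrrCharacter (G ⧸ H.normalCore)) :
          G ⧸ H.normalCore → ℂ) q).im = 0 := by
        intro q
        obtain ⟨g, rfl⟩ := QuotientGroup.mk_surjective q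
        change (ψ (QuotientGroup.mk g)).im = 0
        rw [hψχ]
        exact Complex.conj_eq_iff_im.mp (hreal g)
      have htriv := Cfsg.Agent.S0161.result hoddQ ⟨ψ, hψ⟩ hψreal
      change ψ = fun _ => 1 at htriv
      funext g
      rw [← hψχ g, htriv]
    refine ⟨⟨fun a b => ?_⟩, ⟨triv⟩⟩
    rw [key a, key b]

end Cfsg.Agent.S4784
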