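import Cfsg.Statements.S4797
import Cfsg.Agent.Lib.Helper2_ClassFn
import Cfsg.Agent.Lib.Helper2_CharBasic
import Cfsg.Agent.Lib.Helper2_CharOrtho
import Cfsg.Agent.Lib.Helper2_Clifford
import Cfsg.Agent.Lib.Helper2_CharMore
import Cfsg.Agent.Lib.Helper2_CharNorm
import Cfsg.Agent.Lib.Helper2_CharValues
import Cfsg.Agent.Lib.Helper2_CharComplete
import Cfsg.Agent.Lib.Helper2_CharInd
import Cfsg.Agent.Lib.Helper2_CharTable
import Cfsg.Agent.Lib.Helper2_CharFrob
import Cfsg.Agent.Lib.Helper2_CharDeg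
import Cfsg.Agent.Lib.Helper2_CharSum
import Cfsg.Agent.Lib.Helper2_CharExtra
import Cfsg.Agent.Lib.Helper2_CharCentral
import Cfsg.Agent.Lib.Helper2_PermChar
import Cfsg.Agent.Lib.Helper2_FrobSchur
import Cfsg.Agent.Lib.Helper2_CliffordCorr
import Cfsg.Agent.Lib.Helper2_CharKernel
import Cfsg.Agent.Lib.Helper2_CyclicTI
import Cfsg.Agent.Lib.Helper2_CharGalois
import Cfsg.Agent.Lib.Helper2_CharInt
import Cfsg.Agent.Lib.Helper2_CharBurnside
import Cfsg.Agent.Lib.Helper2_CharCenter
import Cfsg.Agent.Lib.Helper2_Ito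
import Cfsg.Agent.Lib.Helper2_Gallagher
import Cfsg.Agent.Lib.Helper2_Artin
import Cfsg.Agent.Lib.Helper2_MGroup
import Cfsg.Agent.Lib.Helper2_RepEquiv
import Cfsg.Agent.Lib.Helper2_CyclicExt
import Cfsg.Agent.Lib.Helper2_Extraspecial
import Cfsg.Agent.Lib.Helper2_ProjLift
import Cfsg.Agent.Lib.Helper2_CentralExt
import Cfsg.Agent.Lib.Helper2_SylowExt
import Cfsg.Agent.Lib.Helper2_DetChar
import Cfsg.Agent.Lib.Helper2_LinExt
import Cfsg.Agent.Lib.Helper2_DetExt
import Cfsg.Agent.Lib.Helper2_GallagherExt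
import Cfsg.Agent.Lib.Helper2_PermInd
import Cfsg.Agent.Lib.Helper2_QuasiElem
import Cfsg.Agent.Lib.Helper2_BrauerInd
import Cfsg.Agent.Lib.Helper2_BrauerThm
import Cfsg.Agent.Lib.Helper2_NilDecomp
import Cfsg.Agent.Lib.Helper2_DefectZero
import Cfsg.Agent.Lib.Helper2_CharGalois2
import Cfsg.Agent.Lib.Helper2_CosetAvg
import Cfsg.Agent.Lib.Helper2_Thompson
import Cfsg.Agent.Lib.Helper2_ItoSolv
import Cfsg.Agent.Lib.Helper2_ItoPSolv
import Cfsg.Agent.Lib.Helper2_GaloisConj

set_option autoImplicit false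
open Cfsg

namespace Cfsg.Agent.S4797

open Cfsg.Agent.Lib.Helper2_ClassFn Cfsg.Agent.Lib.Helper2_CharBasic Cfsg.Agent.Lib.Helper2_CharOrtho Cfsg.Agent.Lib.Helper2_Clifford Cfsg.Agent.Lib.Helper2_CharMore Cfsg.Agent.Lib.Helper2_CharNorm Cfsg.Agent.Lib.Helper2_CharValues Cfsg.Agent.Lib.Helper2_CharComplete Cfsg.Agent.Lib.Helper2_CharInd Cfsg.Agent.Lib.Helper2_CharTable Cfsg.Agent.Lib.Helper2_CharFrob Cfsg.Agent.Lib.Helper2_CharDeg Cfsg.Agent.Lib.Helper2_CharSum Cfsg.Agent.Lib.Helper2_CharExtra Cfsg.Agent.Lib.Helper2_CharCentral Cfsg.Agent.Lib.Helper2_PermChar Cfsg.Agent.Lib.Helper2_FrobSchur Cfsg.Agent.Lib.Helper2_CliffordCorr Cfsg.Agent.Lib.Helper2_CharKernel Cfsg.Agent.Lib.Helper2_CyclicTI Cfsg.Agent.Lib.Helper2_CharGalois Cfsg.Agent.Lib.Helper2_CharInt Cfsg.Agent.Lib.Helper2_CharBurnside Cfsg.Agent.Lib.Helper2_CharCenter Cfsg.Agent.Lib.Helper2_Ito Cfsg.Agent.Lib.Helper2_Gallagher Cfsg.Agent.Lib.Helper2_Artin Cfsg.Agent.Lib.Helper2_MGroup Cfsg.Agent.Lib.Helper2_RepEquiv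 Cfsg.Agent.Lib.Helper2_CyclicExt Cfsg.Agent.Lib.Helper2_Extraspecial Cfsg.Agent.Lib.Helper2_ProjLift Cfsg.Agent.Lib.Helper2_CentralExt Cfsg.Agent.Lib.Helper2_SylowExt Cfsg.Agent.Lib.Helper2_DetChar Cfsg.Agent.Lib.Helper2_LinExt Cfsg.Agent.Lib.Helper2_DetExt Cfsg.Agent.Lib.Helper2_GallagherExt Cfsg.Agent.Lib.Helper2_PermInd Cfsg.Agent.Lib.Helper2_QuasiElem Cfsg.Agent.Lib.Helper2_BrauerInd Cfsg.Agent.Lib.Helper2_BrauerThm Cfsg.Agent.Lib.Helper2_NilDecomp Cfsg.Agent.Lib.Helper2_DefectZero Cfsg.Agent.Lib.Helper2_CharGalois2 Cfsg.Agent.Lib.Helper2_CosetAvg Cfsg.Agent.Lib.Helper2_Thompson Cfsg.Agent.Lib.Helper2_ItoSolv Cfsg.Agent.Lib.Helper2_ItoPSolv Cfsg.Agent.Lib.Helper2_GaloisConj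
open scoped Pointwise
theorem one_add_sq_le_card {Q : Type*} [Group Q] [Finite Q] {ψ : Q → ℂ}
    (hψ : IsIrrCharacter Q ψ) (hne : ψ ≠ fun _ => (1 : ℂ)) (d : ℕ) (hd : ψ 1 = d) :
    1 + d ^ 2 ≤ Nat.card Q := by
  classical
  haveI := Fintype.ofFinite Q
  have h1 := sum_irr_mul_deg (G := Q) 1
  rw [if_pos rfl] at h1
  have h2 : ∀ χ ∈ irrFinset Q, χ 1 * χ 1 = ((charDegree χ ^ 2 : ℕ) : ℂ) := by
    intro χ hχ
    obtain ⟨n, -, hn⟩ := IsIrrCharacter.apply_one (mem_irrFinset.mp hχ)
    rw [Cfsg.Agent.Lib.Helper2_Thompson.charDegree_eq hn, hn]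
    push_cast
    ring
  rw [Finset.sum_congr rfl h2, ← Nat.cast_sum] at h1
  have h3 : ∑ χ ∈ irrFinset Q, charDegree χ ^ 2 = Nat.card Q := by exact_mod_cast h1
  rw [← h3]
  have hsub : ({(fun _ => (1 : ℂ)), ψ} : Finset (Q → ℂ)) ⊆ irrFinset Q := by
    intro χ hχ
    rw [Finset.mem_insert, Finset.mem_singleton] at hχ
    rcases hχ with rfl | rfl
    · exact mem_irrFinset.mpr isIrrCharacter_one
    · exact mem_irrFinset.mpr hψ
  have h4 := Finset.sum_le_sum_of_subset (f := fun χ : Q → ℂ => charDegree χ ^ 2) hsub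
  rw [Finset.sum_pair (Ne.symm hne)] at h4
  have e1 : charDegree (fun _ : Q => (1 : ℂ)) = 1 :=
    Cfsg.Agent.Lib.Helper2_Thompson.charDegree_eq (by simp)
  have e2 : charDegree ψ = d := Cfsg.Agent.Lib.Helper2_Thompson.charDegree_eq hd
  simp only [e1, e2] at h4
  simpa using h4

theorem not_perfect_of_card {Q : Type*} [Group Q] [Finite Q] (p d : ℕ) (hp : p.Prime)
    (hd0 : 0 < d) (hdp : d < p) (hcard : Nat.card Q = p * d) : commutator Q ≠ ⊤ := by
  intro hperf
  haveI : Fact p.Prime := ⟨hp⟩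
  have hpd : ¬ p ∣ d := fun h => absurd (Nat.le_of_dvd hd0 h) (by omega)
  let P : Sylow p Q := default
  have hPcard : Nat.card P = p := by
    rw [Sylow.card_eq_multiplicity, hcard, Nat.factorization_mul hp.ne_zero hd0.ne',
      Finsupp.add_apply, hp.factorization_self, Nat.factorization_eq_zero_of_not_dvd hpd, pow_one]
  have hidx : (P : Subgroup Q).index = d := by
    have := Subgroup.card_mul_index (P : Subgroup Q)
    rw [hPcard, hcard] at this
    exact Nat.eq_of_mul_eq_mul_left hp.pos this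
  have hn1 : Nat.card (Sylow p Q) = 1 := by
    have h1 := card_sylow_modEq_one p Q
    have h2 := Sylow.card_dvd_index P
    rw [hidx] at h2
    have h3 : Nat.card (Sylow p Q) ≤ d := Nat.le_of_dvd hd0 h2
    have h4 : Nat.card (Sylow p Q) % p = 1 % p := h1
    rw [Nat.mod_eq_of_lt (by omega), Nat.mod_eq_of_lt hp.one_lt] at h4
    exact h4
  haveI : Subsingleton (Sylow p Q) := (Nat.card_eq_one_iff_unique.mp hn1).1
  haveI hPn : (P : Subgroup Q).Normal := Sylow.normal_of_subsingleton P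
  haveI hcyc : IsCyclic (P : Subgroup Q) := isCyclic_of_prime_card hPcard
  -- every hom to a commutative group is trivial
  have htriv : ∀ {A : Type} [CommGroup A] (f : Q →* A) (g : Q), f g = 1 := by
    intro A _ f g
    have := Abelianization.commutator_subset_ker f
    rw [hperf] at this
    exact MonoidHom.mem_ker.mp (this (Subgroup.mem_top g))
  have hcent : ∀ (g : Q) (x : Q), x ∈ (P : Subgroup Q) → g * x * g⁻¹ = x := by
    intro g x hx
    let f : Q →* (ZMod (Nat.card (P : Subgroup Q)))ˣ :=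
      (IsCyclic.mulAutMulEquiv (P : Subgroup Q)).toMonoidHom.comp
        (MulAut.conjNormal (H := (P : Subgroup Q)))
    have h1 := htriv f g
    have h2 : (MulAut.conjNormal g : MulAut (P : Subgroup Q)) = 1 := by
      apply (IsCyclic.mulAutMulEquiv (P : Subgroup Q)).injective
      rw [map_one]; exact h1
    have h3 := congrArg (fun φ : MulAut (P : Subgroup Q) => ((φ ⟨x, hx⟩ : (P : Subgroup Q)) : Q)) h2
    simpa [MulAut.conjNormal_apply] using h3
  have hP : Subgroup.normalizer (P : Set Q) ≤ Subgroup.centralizer (P : Set Q) := by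
    intro g _
    rw [Subgroup.mem_centralizer_iff]
    intro x hx
    have := hcent g x hx
    calc x * g = (g * x * g⁻¹) * g := by rw [this]
      _ = g * x := by group
  have hcomp := MonoidHom.ker_transferSylow_isComplement' P hP
  have hker : (MonoidHom.transferSylow P hP).ker = ⊤ := by
    rw [eq_top_iff, ← hperf, commutator_def, Subgroup.commutator_le]
    intro a _ b _
    rw [MonoidHom.mem_ker, map_commutatorElement, commutatorElement_eq_one_iff_commute]
    apply Subtype.ext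
    have hb := (MonoidHom.transferSylow P hP b).2
    have := hcent (MonoidHom.transferSylow P hP a : Q) _ hb
    simp only [Subgroup.coe_mul]
    calc ((MonoidHom.transferSylow P hP a : Q)) * (MonoidHom.transferSylow P hP b : Q)
        = ((MonoidHom.transferSylow P hP a : Q) * (MonoidHom.transferSylow P hP b : Q)
            * (MonoidHom.transferSylow P hP a : Q)⁻¹) * (MonoidHom.transferSylow P hP a : Q) := by
          group
      _ = _ := by rw [this]
  rw [hker] at hcomp
  have h5 := hcomp.card_mul_card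
  rw [Subgroup.card_top, hPcard, hcard] at h5
  have : p = 1 := by
    have hpos : 0 < p * d := Nat.mul_pos hp.pos hd0
    exact Nat.eq_of_mul_eq_mul_left hpos (by rw [h5, mul_one])
  exact hp.one_lt.ne' this


/-- The codegree of an irreducible complex character χ of a finite group G is [G : ker χ] / χ(1), where ker χ is the set of elements at which χ takes the value χ(1). A non-trivial finite group is perfect if and only if no irreducible complex character of it has prime codegree. -/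
theorem result {G : Type*} [Group G] [Finite G] [Nontrivial G] : commutator G = ⊤ ↔ ∀ χ : Cfsg.IrrCharacter G, ¬ ((Nat.card G / (Nat.card {g : G // (χ : G → ℂ) g = (χ : G → ℂ) 1} * Cfsg.charDegree (χ : G → ℂ)))).Prime := by
  classical
  constructor
  · intro hperf χ hprime
    obtain ⟨K, hKn, hK⟩ := exists_ker (IsIrrCharacter.isCharacter χ.2)
    haveI := hKn
    obtain ⟨ψ, hψ, hψχ⟩ := IsIrrCharacter.deflate χ.2 K (fun n hn => (hK n).mp hn)
    obtain ⟨d, hd0, hd⟩ := IsIrrCharacter.apply_one χ.2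
    have hdeg : charDegree χ.1 = d := Cfsg.Agent.Lib.Helper2_Thompson.charDegree_eq hd
    have hψ1 : ψ 1 = d := by rw [← hd, ← hψχ 1]; rfl
    have hcardK : Nat.card {g : G // χ.1 g = χ.1 1} = Nat.card K :=
      Nat.card_congr (Equiv.subtypeEquivRight (fun g => (hK g).symm))
    rw [hcardK, hdeg] at hprime
    haveI : Fintype (G ⧸ K) := Fintype.ofFinite _
    have hdvd : d ∣ Nat.card (G ⧸ K) := degree_dvd_card hψ d hψ1
    have hmul : Nat.card G = Nat.card K * Nat.card (G ⧸ K) := by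
      rw [← Subgroup.index_eq_card, Subgroup.card_mul_index]
    obtain ⟨c, hc⟩ := hdvd
    have hq : Nat.card G / (Nat.card K * d) = c := by
      rw [hmul, hc, ← mul_assoc, Nat.mul_div_cancel_left _ (Nat.mul_pos Nat.card_pos hd0)]
    rw [hq] at hprime
    have hne : ψ ≠ fun _ => 1 := by
      intro h
      have hall : ∀ g, g ∈ K := fun g => (hK g).mpr (by rw [← hψχ g, ← hψχ 1, h])
      have hcard1 : Nat.card (G ⧸ K) = 1 := by
        rw [← Subgroup.index_eq_card, (Subgroup.eq_top_iff' K).mpr hall]; exact Subgroup.index_top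
      rw [hcard1] at hc
      have : c = 1 := Nat.eq_one_of_mul_eq_one_left hc.symm
      rw [this] at hprime
      exact Nat.not_prime_one hprime
    have hle := one_add_sq_le_card hψ hne d hψ1
    have hdc : d < c := by rw [hc] at hle; nlinarith
    have hQperf : commutator (G ⧸ K) = ⊤ := by
      rw [commutator_def, ← Subgroup.map_top_of_surjective (QuotientGroup.mk' K)
        (QuotientGroup.mk'_surjective K), ← Subgroup.map_commutator, ← commutator_def, hperf]
    exact not_perfect_of_card c d hprime hd0 hdc (by rw [hc, mul_comm]) hQperf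
  · intro h
    by_contra hne
    have hlt : commutator G < ⊤ := lt_top_iff_ne_top.mpr hne
    obtain ⟨M, hMn, hMp⟩ : ∃ M : Subgroup G, M.Normal ∧ M.index.Prime := by
      have hsurj : Function.Surjective (Abelianization.of (G := G)) := by
        intro x
        induction x using Quot.inductionOn with
        | h a => exact ⟨a, rfl⟩
      haveI : Nontrivial (Abelianization G) := by
        by_contra hnt
        rw [not_nontrivial_iff_subsingleton] at hnt
        apply hlt.ne
        rw [← Abelianization.ker_of, MonoidHom.ker_eq_top_iff]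
        ext x
        exact Subsingleton.elim _ _
      obtain ⟨K, hK⟩ := exists_prime_index_of_comm (A := Abelianization G)
      refine ⟨K.comap Abelianization.of, inferInstance, ?_⟩
      rw [Subgroup.index_comap_of_surjective _ hsurj]
      exact hK
    haveI := hMn
    have hQcard : Nat.card (G ⧸ M) = M.index := (Subgroup.index_eq_card M).symm
    haveI : Fact (Nat.card (G ⧸ M)).Prime := ⟨by rw [hQcard]; exact hMp⟩
    haveI : Fact (M.index).Prime := ⟨hMp⟩
    haveI hcyc : IsCyclic (G ⧸ M) := isCyclic_of_prime_card hQcard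
    have hlin := Cfsg.Agent.S0154.result (G := G ⧸ M)
    have hcomm : commutator (G ⧸ M) = ⊥ := by
      rw [eq_bot_iff, commutator_def, Subgroup.commutator_le]
      intro a _ b _
      rw [Subgroup.mem_bot, commutatorElement_eq_one_iff_commute]
      obtain ⟨g, hg⟩ := hcyc.exists_generator
      obtain ⟨i, rfl⟩ := Subgroup.mem_zpowers_iff.mp (hg a)
      obtain ⟨j, rfl⟩ := Subgroup.mem_zpowers_iff.mp (hg b)
      exact (Commute.refl g).zpow_zpow i j
    rw [hcomm, Subgroup.index_bot, hQcard] at hlin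
    let t : {χ : Cfsg.IrrCharacter (G ⧸ M) // (χ : G ⧸ M → ℂ) 1 = 1} :=
      ⟨⟨fun _ => 1, isIrrCharacter_one⟩, rfl⟩
    haveI : Nontrivial {χ : Cfsg.IrrCharacter (G ⧸ M) // (χ : G ⧸ M → ℂ) 1 = 1} := by
      haveI : Finite {χ : Cfsg.IrrCharacter (G ⧸ M) // (χ : G ⧸ M → ℂ) 1 = 1} :=
        Nat.finite_of_card_ne_zero (by rw [hlin]; exact hMp.ne_zero)
      apply (Finite.one_lt_card_iff_nontrivial).mp
      rw [hlin]; exact hMp.one_lt
    obtain ⟨ψ, hψne⟩ := exists_ne t
    obtain ⟨ω, hω⟩ := Cfsg.Agent.S0154.exists_hom_of_degree_one ψ.1.1 ψ.1.2 ψ.2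
    have hker : ω.ker = ⊥ := by
      rcases Subgroup.eq_bot_or_eq_top_of_prime_card ω.ker with h0 | h0
      · exact h0
      · exfalso
        apply hψne
        apply Subtype.ext
        apply Subtype.ext
        change ψ.1.1 = fun _ => 1
        rw [hω]
        ext q
        have : q ∈ ω.ker := by rw [h0]; exact Subgroup.mem_top q
        rw [MonoidHom.mem_ker] at this
        rw [this]; rfl
    let χ : Cfsg.IrrCharacter G := ⟨infl M ψ.1.1, IsIrrCharacter.infl M ψ.1.2⟩
    apply h χ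
    have hset : Nat.card {g : G // (χ : G → ℂ) g = (χ : G → ℂ) 1} = Nat.card M := by
      apply Nat.card_congr
      apply Equiv.subtypeEquivRight
      intro g
      change ψ.1.1 (g : G ⧸ M) = ψ.1.1 ((1 : G) : G ⧸ M) ↔ g ∈ M
      rw [hω]
      simp only [QuotientGroup.mk_one, map_one, Units.val_one, Units.val_eq_one]
      rw [← MonoidHom.mem_ker, hker, Subgroup.mem_bot, QuotientGroup.eq_one_iff]
    have hdeg : Cfsg.charDegree (χ : G → ℂ) = 1 := by
      apply Cfsg.Agent.Lib.Helper2_Thompson.charDegree_eq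
      change ψ.1.1 ((1 : G) : G ⧸ M) = ((1 : ℕ) : ℂ)
      rw [QuotientGroup.mk_one, ψ.2]; simp
    rw [hset, hdeg, mul_one, ← Subgroup.card_mul_index M, Nat.mul_div_cancel_left _ Nat.card_pos]
    exact hMp

end Cfsg.Agent.S4797
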