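import Cfsg.Statements.S4796
import Cfsg.Agent.Lib.Helper2_ClassFn
import Cfsg.Agent.Lib.Helper2_CharBasic
import Cfsg.Agent.Lib.Helper2_CharOrtho
import Cfsg.Agent.Lib.Helper2_Clifford
import Cfsg.Agent.Lib.Helper2_CharMore
import Cfsg.Agent.Lib.Helper2_CharNorm
import Cfsg.Agent.Lib.Helper2_CharValues
import Cfsg.Agent.Lib.Helper2_CharComplete
import Cfsg.Agent.Lib.Helper2_CharInd
import Cfsg.Agent.Lib.Helper2_CharTable
import Cfsg.Agent.Lib.Helper2_CharFrob
import Cfsg.Agent.Lib.Helper2_CharDeg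
import Cfsg.Agent.Lib.Helper2_CharSum
import Cfsg.Agent.Lib.Helper2_CharExtra
import Cfsg.Agent.Lib.Helper2_CharCentral
import Cfsg.Agent.Lib.Helper2_PermChar
import Cfsg.Agent.Lib.Helper2_FrobSchur
import Cfsg.Agent.Lib.Helper2_CliffordCorr
import Cfsg.Agent.Lib.Helper2_CharKernel
import Cfsg.Agent.Lib.Helper2_CyclicTI
import Cfsg.Agent.Lib.Helper2_CharGalois
import Cfsg.Agent.Lib.Helper2_CharInt
import Cfsg.Agent.Lib.Helper2_CharBurnside
import Cfsg.Agent.Lib.Helper2_CharCenter
import Cfsg.Agent.Lib.Helper2_Ito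
import Cfsg.Agent.Lib.Helper2_Gallagher
import Cfsg.Agent.Lib.Helper2_Artin
import Cfsg.Agent.Lib.Helper2_MGroup
import Cfsg.Agent.Lib.Helper2_RepEquiv
import Cfsg.Agent.Lib.Helper2_CyclicExt
import Cfsg.Agent.Lib.Helper2_Extraspecial
import Cfsg.Agent.Lib.Helper2_ProjLift
import Cfsg.Agent.Lib.Helper2_CentralExt
import Cfsg.Agent.Lib.Helper2_SylowExt
import Cfsg.Agent.Lib.Helper2_DetChar
import Cfsg.Agent.Lib.Helper2_LinExt
import Cfsg.Agent.Lib.Helper2_DetExt
import Cfsg.Agent.Lib.Helper2_GallagherExt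
import Cfsg.Agent.Lib.Helper2_PermInd
import Cfsg.Agent.Lib.Helper2_QuasiElem
import Cfsg.Agent.Lib.Helper2_BrauerInd
import Cfsg.Agent.Lib.Helper2_BrauerThm
import Cfsg.Agent.Lib.Helper2_NilDecomp
import Cfsg.Agent.Lib.Helper2_DefectZero
import Cfsg.Agent.Lib.Helper2_CharGalois2
import Cfsg.Agent.Lib.Helper2_CosetAvg
import Cfsg.Agent.Lib.Helper2_Thompson
import Cfsg.Agent.Lib.Helper2_ItoSolv
import Cfsg.Agent.Lib.Helper2_ItoPSolv
import Cfsg.Agent.Lib.Helper2_GaloisConj
import Cfsg.Agent.Lib.Helper2_AbelInertia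
import Cfsg.Agent.Lib.Helper2_Gagola
import Cfsg.Agent.Lib.Helper2_GoingDown
import Cfsg.Agent.Lib.Helper2_RelMGroup
import Cfsg.Agent.Lib.Helper2_Gagola2
import Cfsg.Agent.Lib.Helper2_Gagola3
import Cfsg.Agent.S4797

set_option autoImplicit false
open Cfsg

namespace Cfsg.Agent.S4796

open Cfsg.Agent.Lib.Helper2_ClassFn Cfsg.Agent.Lib.Helper2_CharBasic Cfsg.Agent.Lib.Helper2_CharOrtho Cfsg.Agent.Lib.Helper2_Clifford Cfsg.Agent.Lib.Helper2_CharMore Cfsg.Agent.Lib.Helper2_CharNorm Cfsg.Agent.Lib.Helper2_CharValues Cfsg.Agent.Lib.Helper2_CharComplete Cfsg.Agent.Lib.Helper2_CharInd Cfsg.Agent.Lib.Helper2_CharTable Cfsg.Agent.Lib.Helper2_CharFrob Cfsg.Agent.Lib.Helper2_CharDeg Cfsg.Agent.Lib.Helper2_CharSum Cfsg.Agent.Lib.Helper2_CharExtra Cfsg.Agent.Lib.Helper2_CharCentral Cfsg.Agent.Lib.Helper2_PermChar Cfsg.Agent.Lib.Helper2_FrobSchur Cfsg.Agent.Lib.Helper2_CliffordCorr Cfsg.Agent.Lib.Helper2_CharKernel Cfsg.Agent.Lib.Helper2_CyclicTI Cfsg.Agent.Lib.Helper2_CharGalois Cfsg.Agent.Lib.Helper2_CharInt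 Cfsg.Agent.Lib.Helper2_CharBurnside Cfsg.Agent.Lib.Helper2_CharCenter Cfsg.Agent.Lib.Helper2_Ito Cfsg.Agent.Lib.Helper2_Gallagher Cfsg.Agent.Lib.Helper2_Artin Cfsg.Agent.Lib.Helper2_MGroup Cfsg.Agent.Lib.Helper2_RepEquiv Cfsg.Agent.Lib.Helper2_CyclicExt Cfsg.Agent.Lib.Helper2_Extraspecial Cfsg.Agent.Lib.Helper2_ProjLift Cfsg.Agent.Lib.Helper2_CentralExt Cfsg.Agent.Lib.Helper2_SylowExt Cfsg.Agent.Lib.Helper2_DetChar Cfsg.Agent.Lib.Helper2_LinExt Cfsg.Agent.Lib.Helper2_DetExt Cfsg.Agent.Lib.Helper2_GallagherExt Cfsg.Agent.Lib.Helper2_PermInd Cfsg.Agent.Lib.Helper2_QuasiElem Cfsg.Agent.Lib.Helper2_BrauerInd Cfsg.Agent.Lib.Helper2_BrauerThm Cfsg.Agent.Lib.Helper2_NilDecomp Cfsg.Agent.Lib.Helper2_DefectZero Cfsg.Agent.Lib.Helper2_CharGalois2 Cfsg.Agent.Lib.Helper2_CosetAvg Cfsg.Agent.Lib.Helper2_Thompson Cfsg.Agent.Lib.Helper2_ItoSolv Cfsg.Agent.Lib.Helper2_ItoPSolv Cfsg.Agent.Lib.Helper2_GaloisConj Cfsg.Agent.Lib.Helper2_AbelInertia Cfsg.Agent.Lib.Helper2_Gagola Cfsg.Agent.Lib.Helper2_GoingDown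 Cfsg.Agent.Lib.Helper2_RelMGroup Cfsg.Agent.Lib.Helper2_Gagola2 Cfsg.Agent.Lib.Helper2_Gagola3
open scoped Pointwise
theorem mem_conj_smul' {G : Type*} [Group G] (a x : G) (H : Subgroup G) :
    x ∈ MulAut.conj a • H ↔ a⁻¹ * x * a ∈ H := by
  rw [Subgroup.mem_pointwise_smul_iff_inv_smul_mem, MulAut.smul_def, MulAut.conj_inv_apply]

theorem frobenius_of_self_centralizing {G : Type*} [Group G] [Finite G] (p : ℕ) (hp : p.Prime)
    (P : Subgroup G) [hPn : P.Normal] (hPcard : Nat.card P = p)
    (hC : ∀ x : G, (∀ u ∈ P, x * u = u * x) → x ∈ P)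
    (H : Subgroup G) (hcomp : Subgroup.IsComplement' P H) (hH1 : H ≠ ⊥) :
    Cfsg.IsFrobeniusComplement H ∧ Nat.card ↥(Cfsg.frobeniusKernel H) = p := by
  classical
  haveI : Fact p.Prime := ⟨hp⟩
  have hdisj : ∀ x : G, x ∈ P → x ∈ H → x = 1 := by
    intro x hxP hxH
    exact Subgroup.disjoint_def.mp hcomp.disjoint hxP hxH
  have hdec : ∀ g : G, ∃ u ∈ P, ∃ h ∈ H, g = u * h := by
    intro g
    obtain ⟨⟨u, h⟩, hx, -⟩ := Subgroup.isComplement_iff_existsUnique.mp hcomp g
    exact ⟨u.1, u.2, h.1, h.2, hx.symm⟩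
  -- commuting with a nontrivial element of P forces membership in P
  have hgen : ∀ u ∈ P, u ≠ 1 → ∀ x : G, x * u = u * x → x ∈ P := by
    intro u hu hu1 x hxu
    apply hC
    intro v hv
    have hu1' : (⟨u, hu⟩ : P) ≠ 1 := fun h => hu1 (congrArg Subtype.val h)
    have hmem : (⟨v, hv⟩ : P) ∈ Subgroup.zpowers (⟨u, hu⟩ : P) :=
      mem_zpowers_of_prime_card hPcard hu1'
    obtain ⟨k, hk⟩ := Subgroup.mem_zpowers_iff.mp hmem
    have hk' : u ^ k = v := by
      have := congrArg Subtype.val hk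
      simpa using this
    rw [← hk']
    have hcomm : Commute x u := hxu
    exact (hcomm.zpow_right k).eq
  have hPne : P ≠ ⊥ := by
    intro h
    rw [h, Subgroup.card_bot] at hPcard
    exact hp.one_lt.ne hPcard
  have hHtop : H ≠ ⊤ := by
    intro h
    apply hPne
    rw [Subgroup.eq_bot_iff_forall]
    intro x hx
    exact hdisj x hx (by rw [h]; exact Subgroup.mem_top x)
  constructor
  · refine ⟨hH1, hHtop, ?_⟩
    intro g hg
    rw [Subgroup.eq_bot_iff_forall]
    intro x hx
    obtain ⟨hxH, hxg⟩ := Subgroup.mem_inf.mp hx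
    rw [mem_conj_smul'] at hxg
    obtain ⟨u, hu, h, hh, rfl⟩ := hdec g
    have hu1 : u ≠ 1 := by
      intro h1
      apply hg
      rw [h1, one_mul]
      exact hh
    set y' := h * ((u * h)⁻¹ * x * (u * h)) * h⁻¹ with hy'
    have hy'H : y' ∈ H := H.mul_mem (H.mul_mem hh hxg) (H.inv_mem hh)
    have hx_eq : x = u * y' * u⁻¹ := by
      rw [hy']
      group
    have h1 : x * y'⁻¹ ∈ P := by
      have e : x * y'⁻¹ = u * (y' * u⁻¹ * y'⁻¹) := by
        rw [hx_eq]
        group
      rw [e]
      exact P.mul_mem hu (hPn.conj_mem _ (P.inv_mem hu) y')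
    have h2 : x * y'⁻¹ ∈ H := H.mul_mem hxH (H.inv_mem hy'H)
    have h3 := hdisj _ h1 h2
    have hxy : x = y' := by
      have := mul_inv_eq_one.mp h3
      exact this
    have hcomm : x * u = u * x := by
      have e : x = u * x * u⁻¹ := by
        nth_rewrite 2 [hxy]
        exact hx_eq
      calc x * u = (u * x * u⁻¹) * u := by rw [← e]
        _ = u * x := by group
    exact hdisj x (hgen u hu hu1 x hcomm) hxH
  · have hset : Cfsg.frobeniusKernel H = (P : Set G) := by
      ext x
      constructor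
      · intro hx
        rcases hx with rfl | hx
        · exact P.one_mem
        · by_contra hxP
          obtain ⟨u, hu, h, hh, rfl⟩ := hdec x
          have hh1 : h ≠ 1 := by
            intro h1
            apply hxP
            rw [h1, mul_one]
            exact hu
          -- the map v ↦ v (h v⁻¹ h⁻¹) on P
          let φ : P → P := fun v => ⟨v.1 * (h * v.1⁻¹ * h⁻¹),
            P.mul_mem v.2 (hPn.conj_mem _ (P.inv_mem v.2) h)⟩
          have hinj : Function.Injective φ := by
            intro v w hvw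
            have h1 : v.1 * (h * v.1⁻¹ * h⁻¹) = w.1 * (h * w.1⁻¹ * h⁻¹) :=
              congrArg Subtype.val hvw
            by_contra hne
            have hne' : w.1⁻¹ * v.1 ≠ 1 := by
              intro h2
              apply hne
              apply Subtype.ext
              have := inv_mul_eq_one.mp h2
              exact this.symm
            have hcomm : h * (w.1⁻¹ * v.1) = (w.1⁻¹ * v.1) * h := by
              have e1 : v.1 * h * v.1⁻¹ = w.1 * h * w.1⁻¹ := by
                have : v.1 * h * v.1⁻¹ = (v.1 * (h * v.1⁻¹ * h⁻¹)) * h := by group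
                rw [this, h1]
                group
              calc h * (w.1⁻¹ * v.1) = w.1⁻¹ * (w.1 * h * w.1⁻¹) * v.1 := by group
                _ = w.1⁻¹ * (v.1 * h * v.1⁻¹) * v.1 := by rw [e1]
                _ = (w.1⁻¹ * v.1) * h := by group
            have hmemP : w.1⁻¹ * v.1 ∈ P := P.mul_mem (P.inv_mem w.2) v.2
            have := hgen _ hmemP hne' h hcomm
            exact hh1 (hdisj h this hh)
          have hsurj : Function.Surjective φ := Finite.injective_iff_surjective.mp hinj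
          obtain ⟨v, hv⟩ := hsurj ⟨u, hu⟩
          have hv' : v.1 * (h * v.1⁻¹ * h⁻¹) = u := congrArg Subtype.val hv
          apply hx v.1
          rw [mem_conj_smul']
          have e : v.1⁻¹ * (u * h) * v.1 = h := by
            rw [← hv']
            group
          rw [e]
          exact hh
      · intro hx
        by_cases hx1 : x = 1
        · left
          exact hx1
        · right
          intro g hg
          rw [mem_conj_smul'] at hg
          have hP' : g⁻¹ * x * g ∈ P := by
            have := hPn.conj_mem x hx g⁻¹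
            rwa [inv_inv] at this
          have h1 := hdisj _ hP' hg
          apply hx1
          have : x = g * (g⁻¹ * x * g) * g⁻¹ := by group
          rw [this, h1]
          group
    rw [hset]
    exact hPcard



/-- Let G be a finite group with a faithful irreducible complex character χ whose codegree #G / χ(1) is a prime p (for a faithful character the kernel is trivial, so the codegree is #G / χ(1)). Then either G is cyclic of order p, or G is a Frobenius group whose Frobenius kernel has order p: some proper non-trivial subgroup H satisfies H ∩ gHg⁻¹ = 1 for every element g outside H, and the set of elements lying in no conjugate of H, together with the identity, has exactly p elements. -/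
theorem result {G : Type*} [Group G] [Finite G] (χ : Cfsg.IrrCharacter G) (hfaith : ∀ g : G, (χ : G → ℂ) g = (χ : G → ℂ) 1 → g = 1) (p : ℕ) (hp : p.Prime) (hcod : Nat.card G = p * Cfsg.charDegree (χ : G → ℂ)) : (IsCyclic G ∧ Nat.card G = p) ∨ ∃ H : Subgroup G, Cfsg.IsFrobeniusComplement H ∧ Nat.card ↥(Cfsg.frobeniusKernel H) = p := by
  classical
  haveI := Fintype.ofFinite G
  obtain ⟨χ, hχ⟩ := χ
  change ∀ g : G, χ g = χ 1 → g = 1 at hfaith
  change Nat.card G = p * Cfsg.charDegree χ at hcod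
  obtain ⟨d, hd0, hd⟩ := IsIrrCharacter.apply_one hχ
  rw [charDegree_eq hd] at hcod
  haveI : Fact p.Prime := ⟨hp⟩
  have hχc := IsIrrCharacter.isCharacter hχ
  have hne : χ ≠ fun _ => (1 : ℂ) := by
    intro h
    have hall : ∀ g : G, g = 1 := fun g => hfaith g (by rw [h])
    have hc1 : Nat.card G = 1 :=
      Nat.card_eq_one_iff_unique.mpr ⟨⟨fun a b => by rw [hall a, hall b]⟩, ⟨1⟩⟩
    rw [hc1] at hcod
    have := hp.two_le
    nlinarith [hcod, hd0]
  have h1 := Cfsg.Agent.S4797.one_add_sq_le_card hχ hne d hd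
  have hdp : d < p := by
    rw [hcod] at h1
    nlinarith
  have hpd : ¬ p ∣ d := fun h => absurd (Nat.le_of_dvd hd0 h) (by omega)
  let P : Sylow p G := default
  have hPcard : Nat.card P = p := by
    rw [Sylow.card_eq_multiplicity, hcod, Nat.factorization_mul hp.ne_zero hd0.ne',
      Finsupp.add_apply, hp.factorization_self, Nat.factorization_eq_zero_of_not_dvd hpd, pow_one]
  have hidx : (P : Subgroup G).index = d := by
    have := Subgroup.card_mul_index (P : Subgroup G)
    rw [hPcard, hcod] at this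
    exact Nat.eq_of_mul_eq_mul_left hp.pos this
  have hn1 : Nat.card (Sylow p G) = 1 := by
    have h1 := card_sylow_modEq_one p G
    have h2 := Sylow.card_dvd_index P
    rw [hidx] at h2
    have h3 : Nat.card (Sylow p G) ≤ d := Nat.le_of_dvd hd0 h2
    have h4 : Nat.card (Sylow p G) % p = 1 % p := h1
    rw [Nat.mod_eq_of_lt (by omega), Nat.mod_eq_of_lt hp.one_lt] at h4
    exact h4
  haveI : Subsingleton (Sylow p G) := (Nat.card_eq_one_iff_unique.mp hn1).1
  haveI hPn : (P : Subgroup G).Normal := Sylow.normal_of_subsingleton P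
  haveI hcyc : IsCyclic (P : Subgroup G) := isCyclic_of_prime_card hPcard
  -- P is abelian
  have hPab : ∀ u ∈ (P : Subgroup G), ∀ v ∈ (P : Subgroup G), u * v = v * u := by
    intro u hu v hv
    have h : (⟨u, hu⟩ : (P : Subgroup G)) * ⟨v, hv⟩ = ⟨v, hv⟩ * ⟨u, hu⟩ :=
      (IsCyclic.isMulCommutative (α := (P : Subgroup G))).is_comm.comm _ _
    exact Subtype.ext_iff.mp h
  set C : Subgroup G := Subgroup.centralizer ((P : Subgroup G) : Set G) with hCdef
  have hPC : (P : Subgroup G) ≤ C := by
    intro u hu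
    rw [hCdef, Subgroup.mem_centralizer_iff]
    intro v hv
    exact hPab v hv u hu
  haveI : Fintype C := Fintype.ofFinite _
  -- a constituent of χ restricted to C
  have hχC : IsCharacter C (fun c : C => χ c) := IsCharacter.restrict hχc C
  have hχC0 : (fun c : C => χ c) ≠ 0 := by
    intro h0
    have := congrFun h0 1
    exact IsIrrCharacter.apply_one_ne_zero hχ this
  obtain ⟨η, hη, c, hc0, hc⟩ := IsCharacter.exists_constituent hχC hχC0
  obtain ⟨e, he0, he⟩ := IsIrrCharacter.apply_one hη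
  -- (a) e² p ≤ |C|
  have ha : e ^ 2 * p ≤ Nat.card C := by
    have hD : ∀ z ∈ (P : Subgroup G).subgroupOf C, ‖η z‖ = ‖η 1‖ := by
      intro z hz
      apply Cfsg.Agent.Lib.Helper2_CharCenter.norm_central hη
      rw [Subgroup.mem_center_iff]
      intro y
      apply Subtype.ext
      rw [Subgroup.coe_mul, Subgroup.coe_mul]
      have hy : (y : G) ∈ Subgroup.centralizer ((P : Subgroup G) : Set G) := y.2
      rw [Subgroup.mem_centralizer_iff] at hy
      exact (hy z.1 (Subgroup.mem_subgroupOf.mp hz)).symm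
    have h2 := sq_mul_card_le hη ((P : Subgroup G).subgroupOf C) hD
    have h3 : Nat.card ((P : Subgroup G).subgroupOf C) = p := by
      rw [Nat.card_congr (Subgroup.subgroupOfEquivOfLe hPC).toEquiv, hPcard]
    rw [h3, he, Complex.norm_natCast] at h2
    exact_mod_cast h2
  -- (b) d ≤ [G:C] e
  have hb : d ≤ C.index * e := by
    have hΦ : IsCharacter G (indFun C η) := IsCharacter.indFun (IsIrrCharacter.isCharacter hη)
    have hcon : classInner (indFun C η) χ ≠ 0 := by
      rw [frobenius_reciprocity C η χ (IsCharacter.isClassFunction hχc), ← classInner_conj_symm, hc]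
      simp only [map_natCast]
      exact_mod_cast hc0.ne'
    have hsub := IsCharacter.sub_constituent hΦ hχ hcon
    obtain ⟨n, hn⟩ := IsCharacter.apply_one hsub
    rw [Pi.sub_apply, indFun_one, he, hd] at hn
    have h5 : (C.index * e : ℕ) = d + n := by
      have : ((C.index * e : ℕ) : ℂ) = ((d + n : ℕ) : ℂ) := by
        push_cast
        linear_combination hn
      exact_mod_cast this
    omega
  -- |C| ≤ p e
  have hCle : Nat.card C ≤ p * e := by
    have h6 := Subgroup.card_mul_index C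
    have h7 : Nat.card C * C.index ≤ p * e * C.index := by
      rw [h6, hcod]
      calc p * d ≤ p * (C.index * e) := Nat.mul_le_mul_left p hb
        _ = p * e * C.index := by ring
    have hpos : 0 < C.index := Nat.pos_of_ne_zero Subgroup.index_ne_zero_of_finite
    exact Nat.le_of_mul_le_mul_right h7 hpos
  have he1 : e = 1 := by
    have h8 : e ^ 2 * p ≤ p * e := le_trans ha hCle
    have h9 : e * e ≤ e := by
      have : p * (e * e) ≤ p * e := by nlinarith
      exact Nat.le_of_mul_le_mul_left this hp.pos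
    have : e ≤ 1 := by nlinarith
    omega
  have hCP : C = (P : Subgroup G) := by
    symm
    apply Subgroup.eq_of_le_of_card_ge hPC
    rw [hPcard]
    rw [he1, mul_one] at hCle
    exact hCle
  have hCmem : ∀ x : G, (∀ u ∈ (P : Subgroup G), x * u = u * x) → x ∈ (P : Subgroup G) := by
    intro x hx
    rw [← hCP, hCdef, Subgroup.mem_centralizer_iff]
    intro u hu
    exact (hx u hu).symm
  -- complement
  have hcop : Nat.Coprime (Nat.card (P : Subgroup G)) (P : Subgroup G).index := by
    rw [hPcard, hidx]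
    exact (Nat.Prime.coprime_iff_not_dvd hp).mpr hpd
  obtain ⟨H, hH⟩ := Subgroup.exists_right_complement'_of_coprime hcop
  have hHcard : Nat.card H = d := by
    have := hH.card_mul_card
    rw [hPcard, hcod] at this
    exact Nat.eq_of_mul_eq_mul_left hp.pos this
  by_cases hd1 : d = 1
  · left
    rw [hd1, mul_one] at hcod
    exact ⟨isCyclic_of_prime_card hcod, hcod⟩
  · right
    refine ⟨H, frobenius_of_self_centralizing p hp (P : Subgroup G) hPcard hCmem H hH ?_⟩
    intro hbot
    rw [hbot, Subgroup.card_bot] at hHcard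
    exact hd1 hHcard.symm

end Cfsg.Agent.S4796
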