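import Cfsg.Statements.S4798
import Cfsg.Agent.Lib.Helper2_ClassFn
import Cfsg.Agent.Lib.Helper2_CharBasic
import Cfsg.Agent.Lib.Helper2_CharOrtho
import Cfsg.Agent.Lib.Helper2_Clifford
import Cfsg.Agent.Lib.Helper2_CharMore
import Cfsg.Agent.Lib.Helper2_CharNorm
import Cfsg.Agent.Lib.Helper2_CharValues
import Cfsg.Agent.Lib.Helper2_CharComplete
import Cfsg.Agent.Lib.Helper2_CharInd
import Cfsg.Agent.Lib.Helper2_CharTable
import Cfsg.Agent.Lib.Helper2_CharFrob
import Cfsg.Agent.Lib.Helper2_CharDeg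
import Cfsg.Agent.Lib.Helper2_CharSum
import Cfsg.Agent.Lib.Helper2_CharExtra
import Cfsg.Agent.Lib.Helper2_CharCentral
import Cfsg.Agent.Lib.Helper2_PermChar
import Cfsg.Agent.Lib.Helper2_FrobSchur
import Cfsg.Agent.Lib.Helper2_CliffordCorr
import Cfsg.Agent.Lib.Helper2_CharKernel
import Cfsg.Agent.Lib.Helper2_CyclicTI
import Cfsg.Agent.Lib.Helper2_CharGalois
import Cfsg.Agent.Lib.Helper2_CharInt
import Cfsg.Agent.Lib.Helper2_CharBurnside
import Cfsg.Agent.Lib.Helper2_CharCenter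
import Cfsg.Agent.Lib.Helper2_Ito
import Cfsg.Agent.Lib.Helper2_Gallagher
import Cfsg.Agent.Lib.Helper2_Artin
import Cfsg.Agent.Lib.Helper2_MGroup
import Cfsg.Agent.Lib.Helper2_RepEquiv
import Cfsg.Agent.Lib.Helper2_CyclicExt
import Cfsg.Agent.Lib.Helper2_Extraspecial
import Cfsg.Agent.Lib.Helper2_ProjLift
import Cfsg.Agent.Lib.Helper2_CentralExt
import Cfsg.Agent.Lib.Helper2_SylowExt
import Cfsg.Agent.Lib.Helper2_DetChar
import Cfsg.Agent.Lib.Helper2_LinExt
import Cfsg.Agent.Lib.Helper2_DetExt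
import Cfsg.Agent.Lib.Helper2_GallagherExt
import Cfsg.Agent.Lib.Helper2_PermInd
import Cfsg.Agent.Lib.Helper2_QuasiElem
import Cfsg.Agent.Lib.Helper2_BrauerInd
import Cfsg.Agent.Lib.Helper2_BrauerThm
import Cfsg.Agent.Lib.Helper2_NilDecomp
import Cfsg.Agent.Lib.Helper2_DefectZero
import Cfsg.Agent.Lib.Helper2_CharGalois2
import Cfsg.Agent.Lib.Helper2_CosetAvg
import Cfsg.Agent.Lib.Helper2_Thompson
import Cfsg.Agent.Lib.Helper2_ItoSolv
import Cfsg.Agent.Lib.Helper2_ItoPSolv

set_option autoImplicit false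
open Cfsg

namespace Cfsg.Agent.S4798

open Cfsg.Agent.Lib.Helper2_ClassFn Cfsg.Agent.Lib.Helper2_CharBasic Cfsg.Agent.Lib.Helper2_CharOrtho Cfsg.Agent.Lib.Helper2_Clifford Cfsg.Agent.Lib.Helper2_CharMore Cfsg.Agent.Lib.Helper2_CharNorm Cfsg.Agent.Lib.Helper2_CharValues Cfsg.Agent.Lib.Helper2_CharComplete Cfsg.Agent.Lib.Helper2_CharInd Cfsg.Agent.Lib.Helper2_CharTable Cfsg.Agent.Lib.Helper2_CharFrob Cfsg.Agent.Lib.Helper2_CharDeg Cfsg.Agent.Lib.Helper2_CharSum Cfsg.Agent.Lib.Helper2_CharExtra Cfsg.Agent.Lib.Helper2_CharCentral Cfsg.Agent.Lib.Helper2_PermChar Cfsg.Agent.Lib.Helper2_FrobSchur Cfsg.Agent.Lib.Helper2_CliffordCorr Cfsg.Agent.Lib.Helper2_CharKernel Cfsg.Agent.Lib.Helper2_CyclicTI Cfsg.Agent.Lib.Helper2_CharGalois Cfsg.Agent.Lib.Helper2_CharInt Cfsg.Agent.Lib.Helper2_CharBurnside Cfsg.Agent.Lib.Helper2_CharCenter Cfsg.Agent.Lib.Helper2_Ito Cfsg.Agent.Lib.Helper2_Gallagher Cfsg.Agent.Lib.Helper2_Artin Cfsg.Agent.Lib.Helper2_MGroup Cfsg.Agent.Lib.Helper2_RepEquiv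 Cfsg.Agent.Lib.Helper2_CyclicExt Cfsg.Agent.Lib.Helper2_Extraspecial Cfsg.Agent.Lib.Helper2_ProjLift Cfsg.Agent.Lib.Helper2_CentralExt Cfsg.Agent.Lib.Helper2_SylowExt Cfsg.Agent.Lib.Helper2_DetChar Cfsg.Agent.Lib.Helper2_LinExt Cfsg.Agent.Lib.Helper2_DetExt Cfsg.Agent.Lib.Helper2_GallagherExt Cfsg.Agent.Lib.Helper2_PermInd Cfsg.Agent.Lib.Helper2_QuasiElem Cfsg.Agent.Lib.Helper2_BrauerInd Cfsg.Agent.Lib.Helper2_BrauerThm Cfsg.Agent.Lib.Helper2_NilDecomp Cfsg.Agent.Lib.Helper2_DefectZero Cfsg.Agent.Lib.Helper2_CharGalois2 Cfsg.Agent.Lib.Helper2_CosetAvg Cfsg.Agent.Lib.Helper2_Thompson Cfsg.Agent.Lib.Helper2_ItoSolv Cfsg.Agent.Lib.Helper2_ItoPSolv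
open scoped Pointwise
/-- An irreducible character is not a sum of two nonzero characters. -/
theorem eq_zero_of_add_irr {G : Type*} [Group G] [Fintype G] {A B : G → ℂ}
    (hA : IsCharacter G A) (hB : IsCharacter G B) (hirr : IsIrrCharacter G (A + B)) (hA0 : A ≠ 0) :
    B = 0 := by
  classical
  by_contra hB0
  obtain ⟨ψ, hψ, n, hn0, hn⟩ := IsCharacter.exists_constituent hA hA0
  obtain ⟨ψ', hψ', n', hn0', hn'⟩ := IsCharacter.exists_constituent hB hB0
  obtain ⟨k, hk⟩ := IsCharacter.classInner_nat hB (IsIrrCharacter.isCharacter hψ)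
  obtain ⟨k', hk'⟩ := IsCharacter.classInner_nat hA (IsIrrCharacter.isCharacter hψ')
  have h1 : classInner (A + B) ψ = ((n + k : ℕ) : ℂ) := by
    rw [classInner_add_left, hn, hk]; push_cast; rfl
  have h2 : classInner (A + B) ψ' = ((k' + n' : ℕ) : ℂ) := by
    rw [classInner_add_left, hn', hk']; push_cast; rfl
  rw [classInner_irr hirr hψ] at h1
  rw [classInner_irr hirr hψ'] at h2
  have e1 : A + B = ψ := by
    by_contra hne
    rw [if_neg hne] at h1
    have : (0 : ℕ) = n + k := by exact_mod_cast h1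
    omega
  have e2 : A + B = ψ' := by
    by_contra hne
    rw [if_neg hne] at h2
    have : (0 : ℕ) = k' + n' := by exact_mod_cast h2
    omega
  rw [if_pos e1] at h1
  have hnk : n + k = 1 := by exact_mod_cast h1.symm
  have hk0 : k = 0 := by omega
  rw [← e1, e2, hn'] at hk
  have : n' = k := by exact_mod_cast hk
  omega


/-- Let p be a prime and χ a faithful irreducible complex character of the finite group G (χ(g) = χ(1) only for g = 1), so that its codegree is #G / χ(1). Then #G / χ(1) is a power of p if and only if χ is induced from a character of a Sylow p-subgroup of G. -/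
theorem result {G : Type*} [Group G] [Fintype G] (p : ℕ) [Fact p.Prime] (χ : Cfsg.IrrCharacter G) (hfaith : ∀ g : G, (χ : G → ℂ) g = (χ : G → ℂ) 1 → g = 1) : (∃ k : ℕ, Nat.card G = p ^ k * Cfsg.charDegree (χ : G → ℂ)) ↔ ∃ (P : Sylow p G) (θ : ↥(P : Subgroup G) → ℂ), Cfsg.IsCharacter ↥(P : Subgroup G) θ ∧ (χ : G → ℂ) = Cfsg.indFun (P : Subgroup G) θ := by
  classical
  have hp : p.Prime := Fact.out
  obtain ⟨χ, hχ⟩ := χ
  simp only at hfaith ⊢
  have hχc := IsIrrCharacter.isCharacter hχ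
  have hχcf := IsCharacter.isClassFunction hχc
  obtain ⟨d, hd0, hd⟩ := IsIrrCharacter.apply_one hχ
  rw [charDegree_eq hd]
  constructor
  · rintro ⟨k, hk⟩
    let P : Sylow p G := default
    obtain ⟨s, hs⟩ := IsPGroup.iff_card.mp P.isPGroup'
    have hidx : ¬ p ∣ (P : Subgroup G).index := Sylow.not_dvd_index P
    have hcm := (P : Subgroup G).card_mul_index
    rw [hs, hk] at hcm
    -- d = idx * p^b
    have hidxd : (P : Subgroup G).index ∣ d := by
      have h1 : (P : Subgroup G).index ∣ p ^ k * d := ⟨p ^ s, by rw [← hcm]; ring⟩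
      have hcop : Nat.Coprime (P : Subgroup G).index (p ^ k) :=
        Nat.Coprime.pow_right _ ((Nat.Prime.coprime_iff_not_dvd hp).mpr hidx).symm
      exact hcop.dvd_of_dvd_mul_left h1
    obtain ⟨e, he⟩ := hidxd
    have hidxpos : 0 < (P : Subgroup G).index := Nat.pos_of_ne_zero Subgroup.index_ne_zero_of_finite
    have he' : p ^ s = p ^ k * e := by
      have : (P : Subgroup G).index * p ^ s = (P : Subgroup G).index * (p ^ k * e) := by
        rw [mul_comm, hcm, he]; ring
      exact Nat.eq_of_mul_eq_mul_left hidxpos this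
    obtain ⟨b, -, hb⟩ := (Nat.dvd_prime_pow hp).mp (Dvd.intro_left _ he'.symm : e ∣ p ^ s)
    -- decomposition of the restriction
    have hχP : IsCharacter P (fun x : P => χ x) := IsCharacter.restrict hχc P
    obtain ⟨m, hm, hmsum⟩ := IsCharacter.exists_irr_decomp hχP
    have hlow : ∀ θ ∈ m, ∃ j : ℕ, θ 1 = ((p ^ j : ℕ) : ℂ) ∧ b ≤ j ∧
        (j = b → χ = indFun (P : Subgroup G) θ) := by
      intro θ hθm
      have hθ := hm θ hθm
      obtain ⟨t, ht0, ht⟩ := IsIrrCharacter.apply_one hθ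
      have htdvd : t ∣ Nat.card P := degree_dvd_card hθ t ht
      rw [hs] at htdvd
      obtain ⟨j, -, hj⟩ := (Nat.dvd_prime_pow hp).mp htdvd
      have hcon : classInner (fun x : P => χ x) θ ≠ 0 := by
        rw [hmsum, classInner_multiset_sum_irr hm hθ]
        exact_mod_cast (Multiset.count_pos.mpr hθm).ne'
      have hΦ : IsCharacter G (indFun (P : Subgroup G) θ) :=
        IsCharacter.indFun (IsIrrCharacter.isCharacter hθ)
      have hcon' : classInner (indFun (P : Subgroup G) θ) χ ≠ 0 := by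
        rw [frobenius_reciprocity _ θ χ hχcf, ← classInner_conj_symm]
        intro h0
        apply hcon
        have h1 := congrArg (starRingEnd ℂ) h0
        rw [Complex.conj_conj, map_zero] at h1
        exact h1
      have hΔ := IsCharacter.sub_constituent hΦ hχ hcon'
      obtain ⟨r, hr⟩ := IsCharacter.apply_one hΔ
      rw [Pi.sub_apply, indFun_one, ht, hd] at hr
      have hr' : (P : Subgroup G).index * t = d + r := by
        have : (((P : Subgroup G).index * t : ℕ) : ℂ) = ((d + r : ℕ) : ℂ) := by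
          push_cast; rw [← hr]; ring
        exact_mod_cast this
      rw [he, hb, hj] at hr'
      have hbj : b ≤ j := by
        have h1 : (P : Subgroup G).index * p ^ b ≤ (P : Subgroup G).index * p ^ j := by omega
        have h2 : p ^ b ≤ p ^ j := Nat.le_of_mul_le_mul_left h1 hidxpos
        exact (Nat.pow_le_pow_iff_right hp.one_lt).mp h2
      refine ⟨j, by rw [ht, hj], hbj, ?_⟩
      intro hjb
      rw [hjb] at hr'
      have hr0 : r = 0 := by omega
      have hΔ0 : (indFun (P : Subgroup G) θ - χ) 1 = 0 := by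
        rw [Pi.sub_apply, indFun_one, ht, hd, hj, hjb, he, hb]
        push_cast; ring
      have := IsCharacter.eq_zero_of_apply_one hΔ hΔ0
      exact (sub_eq_zero.mp this).symm
    by_cases hex : ∃ θ ∈ m, ∃ j : ℕ, θ 1 = ((p ^ j : ℕ) : ℂ) ∧ j = b
    · obtain ⟨θ, hθm, j, hj1, hjb⟩ := hex
      obtain ⟨j', hj', -, himp⟩ := hlow θ hθm
      have : j' = j := by
        have h1 : ((p ^ j' : ℕ) : ℂ) = ((p ^ j : ℕ) : ℂ) := by rw [← hj', hj1]
        have h2 : p ^ j' = p ^ j := by exact_mod_cast h1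
        exact Nat.pow_right_injective hp.two_le h2
      exact ⟨P, θ, IsIrrCharacter.isCharacter (hm θ hθm), himp (by rw [this, hjb])⟩
    · exfalso
      push Not at hex
      have hall : ∀ θ ∈ m, ∃ t : ℕ, θ 1 = ((p ^ (b + 1) * t : ℕ) : ℂ) := by
        intro θ hθm
        obtain ⟨j, hj, hbj, -⟩ := hlow θ hθm
        have hne := hex θ hθm j hj
        have hlt : b + 1 ≤ j := by omega
        refine ⟨p ^ (j - (b + 1)), ?_⟩
        rw [hj, ← pow_add]
        congr 3
        omega
      have hsum1 : ∃ t : ℕ, (m.sum : P → ℂ) 1 = ((p ^ (b + 1) * t : ℕ) : ℂ) := by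
        clear hmsum hlow hex hm
        induction m using Multiset.induction_on with
        | empty => exact ⟨0, by simp⟩
        | cons a m ih =>
          obtain ⟨t1, ht1⟩ := hall a (Multiset.mem_cons_self a m)
          obtain ⟨t2, ht2⟩ := ih (fun θ hθ => hall θ (Multiset.mem_cons_of_mem hθ))
          refine ⟨t1 + t2, ?_⟩
          rw [Multiset.sum_cons, Pi.add_apply, ht1, ht2]
          push_cast; ring
      obtain ⟨t, ht⟩ := hsum1
      rw [← hmsum] at ht
      have hd' : (fun x : P => χ x) 1 = d := by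
        change χ ((1 : P) : G) = d
        rw [Subgroup.coe_one, hd]
      rw [hd'] at ht
      have hdt : d = p ^ (b + 1) * t := by exact_mod_cast ht
      rw [he, hb] at hdt
      apply hidx
      have h1 : p ^ b * (P : Subgroup G).index = p ^ b * (p * t) := by
        rw [mul_comm, hdt, pow_succ]; ring
      have h2 := Nat.eq_of_mul_eq_mul_left (pow_pos hp.pos b) h1
      exact ⟨t, h2⟩
  · rintro ⟨P, θ, hθ, hind⟩
    obtain ⟨s, hs⟩ := IsPGroup.iff_card.mp P.isPGroup'
    have hidxpos : 0 < (P : Subgroup G).index := Nat.pos_of_ne_zero Subgroup.index_ne_zero_of_finite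
    have hθ0 : θ ≠ 0 := by
      intro h0
      have h1 := congrFun hind 1
      rw [hd, h0, indFun_one] at h1
      simp only [Pi.zero_apply, mul_zero, Nat.cast_eq_zero] at h1
      omega
    obtain ⟨θ₁, hθ₁, n, hn0, hn⟩ := IsCharacter.exists_constituent hθ hθ0
    have hΔ : IsCharacter P (θ - θ₁) :=
      IsCharacter.sub_constituent hθ hθ₁ (by rw [hn]; exact_mod_cast hn0.ne')
    obtain ⟨t, ht0, ht⟩ := IsIrrCharacter.apply_one hθ₁
    have hA : IsCharacter G (indFun (P : Subgroup G) θ₁) :=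
      IsCharacter.indFun (IsIrrCharacter.isCharacter hθ₁)
    have hB : IsCharacter G (indFun (P : Subgroup G) (θ - θ₁)) := IsCharacter.indFun hΔ
    have hsum : indFun (P : Subgroup G) θ₁ + indFun (P : Subgroup G) (θ - θ₁) = χ := by
      rw [← indFun_add, hind]
      congr 1
      abel
    have hA0 : indFun (P : Subgroup G) θ₁ ≠ 0 := by
      intro h0
      have h1 := congrFun h0 1
      rw [indFun_one, ht] at h1
      simp only [Pi.zero_apply, mul_eq_zero, Nat.cast_eq_zero] at h1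
      omega
    have hB0 := eq_zero_of_add_irr hA hB (by rw [hsum]; exact hχ) hA0
    have hd1 : d = (P : Subgroup G).index * t := by
      have h1 := congrFun hsum 1
      rw [hB0, Pi.add_apply, Pi.zero_apply, add_zero, indFun_one, ht, hd] at h1
      exact_mod_cast h1.symm
    have htdvd : t ∣ Nat.card P := degree_dvd_card hθ₁ t ht
    rw [hs] at htdvd
    obtain ⟨j, hjs, hj⟩ := (Nat.dvd_prime_pow hp).mp htdvd
    refine ⟨s - j, ?_⟩
    rw [← (P : Subgroup G).card_mul_index, hs, hd1, hj]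
    have : p ^ s = p ^ (s - j) * p ^ j := by rw [← pow_add]; congr 1; omega
    rw [this]; ring

end Cfsg.Agent.S4798
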