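import Cfsg.Statements.S4802
import Cfsg.Agent.Lib.Helper2_ClassFn
import Cfsg.Agent.Lib.Helper2_CharBasic
import Cfsg.Agent.Lib.Helper2_CharOrtho
import Cfsg.Agent.Lib.Helper2_Clifford
import Cfsg.Agent.Lib.Helper2_CharMore
import Cfsg.Agent.Lib.Helper2_CharNorm
import Cfsg.Agent.Lib.Helper2_CharValues
import Cfsg.Agent.Lib.Helper2_CharComplete
import Cfsg.Agent.Lib.Helper2_CharInd
import Cfsg.Agent.Lib.Helper2_CharTable
import Cfsg.Agent.Lib.Helper2_CharFrob
import Cfsg.Agent.Lib.Helper2_CharDeg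
import Cfsg.Agent.Lib.Helper2_CharSum
import Cfsg.Agent.Lib.Helper2_CharExtra
import Cfsg.Agent.Lib.Helper2_CharCentral
import Cfsg.Agent.Lib.Helper2_PermChar
import Cfsg.Agent.Lib.Helper2_FrobSchur
import Cfsg.Agent.Lib.Helper2_CliffordCorr
import Cfsg.Agent.Lib.Helper2_CharKernel
import Cfsg.Agent.Lib.Helper2_CyclicTI
import Cfsg.Agent.Lib.Helper2_CharGalois
import Cfsg.Agent.Lib.Helper2_CharInt
import Cfsg.Agent.Lib.Helper2_CharBurnside
import Cfsg.Agent.Lib.Helper2_CharCenter
import Cfsg.Agent.Lib.Helper2_Ito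
import Cfsg.Agent.Lib.Helper2_Gallagher
import Cfsg.Agent.Lib.Helper2_Artin
import Cfsg.Agent.Lib.Helper2_MGroup
import Cfsg.Agent.Lib.Helper2_RepEquiv
import Cfsg.Agent.Lib.Helper2_CyclicExt
import Cfsg.Agent.Lib.Helper2_Extraspecial
import Cfsg.Agent.Lib.Helper2_ProjLift
import Cfsg.Agent.Lib.Helper2_CentralExt
import Cfsg.Agent.Lib.Helper2_SylowExt
import Cfsg.Agent.Lib.Helper2_DetChar
import Cfsg.Agent.Lib.Helper2_LinExt
import Cfsg.Agent.Lib.Helper2_DetExt
import Cfsg.Agent.Lib.Helper2_GallagherExt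
import Cfsg.Agent.Lib.Helper2_PermInd
import Cfsg.Agent.Lib.Helper2_QuasiElem
import Cfsg.Agent.Lib.Helper2_BrauerInd
import Cfsg.Agent.Lib.Helper2_BrauerThm
import Cfsg.Agent.Lib.Helper2_NilDecomp
import Cfsg.Agent.Lib.Helper2_DefectZero
import Cfsg.Agent.Lib.Helper2_CharGalois2
import Cfsg.Agent.Lib.Helper2_CosetAvg
import Cfsg.Agent.Lib.Helper2_Thompson
import Cfsg.Agent.Lib.Helper2_ItoSolv
import Cfsg.Agent.Lib.Helper2_ItoPSolv

set_option autoImplicit false
open Cfsg

namespace Cfsg.Agent.S4802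

open Cfsg.Agent.Lib.Helper2_ClassFn Cfsg.Agent.Lib.Helper2_CharBasic Cfsg.Agent.Lib.Helper2_CharOrtho Cfsg.Agent.Lib.Helper2_Clifford Cfsg.Agent.Lib.Helper2_CharMore Cfsg.Agent.Lib.Helper2_CharNorm Cfsg.Agent.Lib.Helper2_CharValues Cfsg.Agent.Lib.Helper2_CharComplete Cfsg.Agent.Lib.Helper2_CharInd Cfsg.Agent.Lib.Helper2_CharTable Cfsg.Agent.Lib.Helper2_CharFrob Cfsg.Agent.Lib.Helper2_CharDeg Cfsg.Agent.Lib.Helper2_CharSum Cfsg.Agent.Lib.Helper2_CharExtra Cfsg.Agent.Lib.Helper2_CharCentral Cfsg.Agent.Lib.Helper2_PermChar Cfsg.Agent.Lib.Helper2_FrobSchur Cfsg.Agent.Lib.Helper2_CliffordCorr Cfsg.Agent.Lib.Helper2_CharKernel Cfsg.Agent.Lib.Helper2_CyclicTI Cfsg.Agent.Lib.Helper2_CharGalois Cfsg.Agent.Lib.Helper2_CharInt Cfsg.Agent.Lib.Helper2_CharBurnside Cfsg.Agent.Lib.Helper2_CharCenter Cfsg.Agent.Lib.Helper2_Ito Cfsg.Agent.Lib.Helper2_Gallagher Cfsg.Agent.Lib.Helper2_Artin Cfsg.Agent.Lib.Helper2_MGroup Cfsg.Agent.Lib.Helper2_RepEquiv Cfsg.Agent.Lib.Helper2_CyclicExt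 Cfsg.Agent.Lib.Helper2_Extraspecial Cfsg.Agent.Lib.Helper2_ProjLift Cfsg.Agent.Lib.Helper2_CentralExt Cfsg.Agent.Lib.Helper2_SylowExt Cfsg.Agent.Lib.Helper2_DetChar Cfsg.Agent.Lib.Helper2_LinExt Cfsg.Agent.Lib.Helper2_DetExt Cfsg.Agent.Lib.Helper2_GallagherExt Cfsg.Agent.Lib.Helper2_PermInd Cfsg.Agent.Lib.Helper2_QuasiElem Cfsg.Agent.Lib.Helper2_BrauerInd Cfsg.Agent.Lib.Helper2_BrauerThm Cfsg.Agent.Lib.Helper2_NilDecomp Cfsg.Agent.Lib.Helper2_DefectZero Cfsg.Agent.Lib.Helper2_CharGalois2 Cfsg.Agent.Lib.Helper2_CosetAvg Cfsg.Agent.Lib.Helper2_Thompson Cfsg.Agent.Lib.Helper2_ItoSolv Cfsg.Agent.Lib.Helper2_ItoPSolv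
open scoped Pointwise
open scoped ComplexConjugate

/-- If `N` is not in the kernel of the irreducible character `χ`, the sum of `χ` over `N` is zero. -/
theorem sum_normal_eq_zero {G : Type*} [Group G] [Fintype G] (N : Subgroup G) [hN : N.Normal]
    [Fintype N] {χ : G → ℂ} (hχ : IsIrrCharacter G χ) (hker : ∃ x ∈ N, χ x ≠ χ 1) :
    ∑ n : N, χ n = 0 := by
  classical
  by_contra hne
  have h1 : IsIrrCharacter N (fun _ => (1 : ℂ)) := isIrrCharacter_one
  have hcon : classInner (fun n : N => χ n) (fun _ : N => (1 : ℂ)) ≠ 0 := by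
    rw [classInner_def]
    simp only [map_one, mul_one]
    intro h0
    rcases mul_eq_zero.mp h0 with h | h
    · exact absurd (inv_eq_zero.mp h) card_ne_zero_complex
    · exact hne h
  have hinv : ∀ g : G, conjFn N (fun _ : N => (1 : ℂ)) g = fun _ => 1 := by
    intro g; ext n; rfl
  have hres := restrict_eq_smul_of_invariant N hχ h1 hinv hcon
  obtain ⟨x, hx, hxne⟩ := hker
  apply hxne
  have e1 := congrFun hres ⟨x, hx⟩
  have e2 := congrFun hres 1
  simp only [Pi.smul_apply, smul_eq_mul, mul_one] at e1 e2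
  rw [Subgroup.coe_one] at e2
  rw [e1, e2]

/-- Sum of `χ` over a coset of a normal subgroup not in the kernel vanishes. -/
theorem sum_coset_eq_zero {G : Type*} [Group G] [Fintype G] (N : Subgroup G) [hN : N.Normal]
    [Fintype N] {χ : G → ℂ} (hχ : IsIrrCharacter G χ) (hker : ∃ x ∈ N, χ x ≠ χ 1) (w : G) :
    ∑ n : N, χ ((n : G) * w) = 0 := by
  classical
  have hcf : IsClassFunction G (fun g : G => if g ∈ N then (1 : ℂ) else 0) := by
    intro g h
    have : h * g * h⁻¹ ∈ N ↔ g ∈ N := by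
      constructor
      · intro hh
        have := hN.conj_mem _ hh h⁻¹
        simpa [mul_assoc] using this
      · intro hg
        exact hN.conj_mem g hg h
    simp only [this]
  have h := sum_classFn_mul hχ hcf w
  simp only [ite_mul, one_mul, zero_mul] at h
  rw [← Finset.sum_filter, ← Finset.sum_filter] at h
  have e1 : ∑ g ∈ Finset.univ.filter (fun g : G => g ∈ N), χ (g * w) = ∑ n : N, χ ((n : G) * w) := by
    rw [Finset.sum_subtype (Finset.univ.filter (fun g : G => g ∈ N)) (p := (· ∈ N)) (by simp)]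
  have e2 : ∑ g ∈ Finset.univ.filter (fun g : G => g ∈ N), χ g = ∑ n : N, χ (n : G) := by
    rw [Finset.sum_subtype (Finset.univ.filter (fun g : G => g ∈ N)) (p := (· ∈ N)) (by simp)]
  rw [e1, e2, sum_normal_eq_zero N hχ hker] at h
  rw [h]; simp


/-- Let N < M be normal subgroups of the finite group G and g ∈ M ∖ N. Then the conjugacy class of g is exactly M ∖ N if and only if every irreducible complex character of G whose kernel contains N takes the same value at all elements of M ∖ N, and every irreducible complex character of G whose kernel does not contain N vanishes at g. -/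
theorem result {G : Type*} [Group G] [Finite G] (N M : Subgroup G) [N.Normal] [M.Normal] (hNM : N < M) (g : G) (hgM : g ∈ M) (hgN : g ∉ N) : {h : G | IsConj g h} = (M : Set G) \ (N : Set G) ↔ ((∀ χ : Cfsg.IrrCharacter G, (∀ x ∈ N, (χ : G → ℂ) x = (χ : G → ℂ) 1) → ∀ x ∈ M, x ∉ N → ∀ y ∈ M, y ∉ N → (χ : G → ℂ) x = (χ : G → ℂ) y) ∧ (∀ χ : Cfsg.IrrCharacter G, (∃ x ∈ N, (χ : G → ℂ) x ≠ (χ : G → ℂ) 1) → (χ : G → ℂ) g = 0)) := by
  classical
  haveI := Fintype.ofFinite G
  have hNM' : N ≤ M := hNM.le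
  constructor
  · intro hcl
    have hconj : ∀ x ∈ M, x ∉ N → IsConj g x := by
      intro x hxM hxN
      have : x ∈ (M : Set G) \ (N : Set G) := ⟨hxM, hxN⟩
      rw [← hcl] at this
      exact this
    constructor
    · intro χ _ x hxM hxN y hyM hyN
      have hcf := IsCharacter.isClassFunction (IsIrrCharacter.isCharacter χ.2)
      obtain ⟨c, hc⟩ := isConj_iff.mp (hconj x hxM hxN)
      obtain ⟨c', hc'⟩ := isConj_iff.mp (hconj y hyM hyN)
      rw [← hc, ← hc', hcf, hcf]
    · intro χ hker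
      have hcf := IsCharacter.isClassFunction (IsIrrCharacter.isCharacter χ.2)
      have h0 := sum_coset_eq_zero N χ.2 hker g
      have h1 : ∀ n : N, (χ : G → ℂ) ((n : G) * g) = (χ : G → ℂ) g := by
        intro n
        have hM' : (n : G) * g ∈ M := M.mul_mem (hNM' n.2) hgM
        have hN' : (n : G) * g ∉ N := by
          intro h
          apply hgN
          have := N.mul_mem (N.inv_mem n.2) h
          simpa using this
        obtain ⟨c, hc⟩ := isConj_iff.mp (hconj _ hM' hN')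
        rw [← hc, hcf]
      rw [Finset.sum_congr rfl (fun n _ => h1 n), Finset.sum_const, Finset.card_univ,
        nsmul_eq_mul] at h0
      rcases mul_eq_zero.mp h0 with h | h
      · exfalso
        have : (0 : ℕ) < Fintype.card N := Fintype.card_pos
        have h' : Fintype.card N = 0 := by exact_mod_cast h
        omega
      · exact h
  · rintro ⟨h1, h2⟩
    ext h
    simp only [Set.mem_ofPred_eq, Set.mem_sdiff, SetLike.mem_coe]
    constructor
    · intro hc
      obtain ⟨c, hc⟩ := isConj_iff.mp hc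
      rw [← hc]
      refine ⟨‹M.Normal›.conj_mem g hgM c, ?_⟩
      intro hN'
      apply hgN
      have := ‹N.Normal›.conj_mem _ hN' c⁻¹
      simpa [mul_assoc] using this
    · rintro ⟨hM, hN'⟩
      have hso := second_orthogonality' g h
      have hso' := second_orthogonality' g g
      rw [if_pos (IsConj.refl g)] at hso'
      have hterm : ∀ χ ∈ irrFinset G, χ g * conj (χ h) = χ g * conj (χ g) := by
        intro χ hχ
        have hχ' := mem_irrFinset.mp hχ
        by_cases hker : ∀ x ∈ N, χ x = χ 1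
        · have e : χ h = χ g := h1 ⟨χ, hχ'⟩ hker h hM hN' g hgM hgN
          rw [e]
        · push Not at hker
          have := h2 ⟨χ, hχ'⟩ hker
          simp only at this
          rw [this, zero_mul, zero_mul]
      rw [Finset.sum_congr rfl hterm, hso'] at hso
      by_contra hnc
      rw [if_neg hnc] at hso
      have : (0 : ℕ) < Nat.card (Subgroup.centralizer ({g} : Set G)) := Nat.card_pos
      have h' : Nat.card (Subgroup.centralizer ({g} : Set G)) = 0 := by exact_mod_cast hso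
      omega

end Cfsg.Agent.S4802
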