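import Cfsg.Statements.S4808
import Cfsg.Agent.Lib.Helper2_ClassFn
import Cfsg.Agent.Lib.Helper2_CharBasic
import Cfsg.Agent.Lib.Helper2_CharOrtho
import Cfsg.Agent.Lib.Helper2_Clifford
import Cfsg.Agent.Lib.Helper2_CharMore
import Cfsg.Agent.Lib.Helper2_CharNorm
import Cfsg.Agent.Lib.Helper2_CharValues
import Cfsg.Agent.Lib.Helper2_CharComplete
import Cfsg.Agent.Lib.Helper2_CharInd
import Cfsg.Agent.Lib.Helper2_CharTable
import Cfsg.Agent.Lib.Helper2_CharFrob
import Cfsg.Agent.Lib.Helper2_CharDeg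
import Cfsg.Agent.Lib.Helper2_CharSum
import Cfsg.Agent.Lib.Helper2_CharExtra
import Cfsg.Agent.Lib.Helper2_CharCentral
import Cfsg.Agent.Lib.Helper2_PermChar
import Cfsg.Agent.Lib.Helper2_FrobSchur
import Cfsg.Agent.Lib.Helper2_CliffordCorr
import Cfsg.Agent.Lib.Helper2_CharKernel
import Cfsg.Agent.Lib.Helper2_CyclicTI
import Cfsg.Agent.Lib.Helper2_CharGalois
import Cfsg.Agent.Lib.Helper2_CharInt
import Cfsg.Agent.Lib.Helper2_CharBurnside
import Cfsg.Agent.Lib.Helper2_CharCenter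
import Cfsg.Agent.Lib.Helper2_Ito
import Cfsg.Agent.Lib.Helper2_Gallagher
import Cfsg.Agent.Lib.Helper2_Artin
import Cfsg.Agent.Lib.Helper2_MGroup
import Cfsg.Agent.Lib.Helper2_RepEquiv
import Cfsg.Agent.Lib.Helper2_CyclicExt
import Cfsg.Agent.Lib.Helper2_Extraspecial
import Cfsg.Agent.Lib.Helper2_ProjLift
import Cfsg.Agent.Lib.Helper2_CentralExt
import Cfsg.Agent.Lib.Helper2_SylowExt
import Cfsg.Agent.Lib.Helper2_DetChar
import Cfsg.Agent.Lib.Helper2_LinExt
import Cfsg.Agent.Lib.Helper2_DetExt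
import Cfsg.Agent.Lib.Helper2_GallagherExt
import Cfsg.Agent.Lib.Helper2_PermInd
import Cfsg.Agent.Lib.Helper2_QuasiElem
import Cfsg.Agent.Lib.Helper2_BrauerInd
import Cfsg.Agent.Lib.Helper2_BrauerThm
import Cfsg.Agent.Lib.Helper2_NilDecomp
import Cfsg.Agent.Lib.Helper2_DefectZero
import Cfsg.Agent.Lib.Helper2_CharGalois2
import Cfsg.Agent.Lib.Helper2_CosetAvg
import Cfsg.Agent.Lib.Helper2_Thompson
import Cfsg.Agent.Lib.Helper2_ItoSolv
import Cfsg.Agent.Lib.Helper2_ItoPSolv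

set_option autoImplicit false
open Cfsg

namespace Cfsg.Agent.S4808

open Cfsg.Agent.Lib.Helper2_ClassFn Cfsg.Agent.Lib.Helper2_CharBasic Cfsg.Agent.Lib.Helper2_CharOrtho Cfsg.Agent.Lib.Helper2_Clifford Cfsg.Agent.Lib.Helper2_CharMore Cfsg.Agent.Lib.Helper2_CharNorm Cfsg.Agent.Lib.Helper2_CharValues Cfsg.Agent.Lib.Helper2_CharComplete Cfsg.Agent.Lib.Helper2_CharInd Cfsg.Agent.Lib.Helper2_CharTable Cfsg.Agent.Lib.Helper2_CharFrob Cfsg.Agent.Lib.Helper2_CharDeg Cfsg.Agent.Lib.Helper2_CharSum Cfsg.Agent.Lib.Helper2_CharExtra Cfsg.Agent.Lib.Helper2_CharCentral Cfsg.Agent.Lib.Helper2_PermChar Cfsg.Agent.Lib.Helper2_FrobSchur Cfsg.Agent.Lib.Helper2_CliffordCorr Cfsg.Agent.Lib.Helper2_CharKernel Cfsg.Agent.Lib.Helper2_CyclicTI Cfsg.Agent.Lib.Helper2_CharGalois Cfsg.Agent.Lib.Helper2_CharInt Cfsg.Agent.Lib.Helper2_CharBurnside Cfsg.Agent.Lib.Helper2_CharCenter Cfsg.Agent.Lib.Helper2_Ito Cfsg.Agent.Lib.Helper2_Gallagher Cfsg.Agent.Lib.Helper2_Artin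 Cfsg.Agent.Lib.Helper2_MGroup Cfsg.Agent.Lib.Helper2_RepEquiv Cfsg.Agent.Lib.Helper2_CyclicExt Cfsg.Agent.Lib.Helper2_Extraspecial Cfsg.Agent.Lib.Helper2_ProjLift Cfsg.Agent.Lib.Helper2_CentralExt Cfsg.Agent.Lib.Helper2_SylowExt Cfsg.Agent.Lib.Helper2_DetChar Cfsg.Agent.Lib.Helper2_LinExt Cfsg.Agent.Lib.Helper2_DetExt Cfsg.Agent.Lib.Helper2_GallagherExt Cfsg.Agent.Lib.Helper2_PermInd Cfsg.Agent.Lib.Helper2_QuasiElem Cfsg.Agent.Lib.Helper2_BrauerInd Cfsg.Agent.Lib.Helper2_BrauerThm Cfsg.Agent.Lib.Helper2_NilDecomp Cfsg.Agent.Lib.Helper2_DefectZero Cfsg.Agent.Lib.Helper2_CharGalois2 Cfsg.Agent.Lib.Helper2_CosetAvg Cfsg.Agent.Lib.Helper2_Thompson Cfsg.Agent.Lib.Helper2_ItoSolv Cfsg.Agent.Lib.Helper2_ItoPSolv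
open scoped Pointwise
/-- The kernel data of an irreducible character: `|G| = |ker χ| * χ(1) * c`. -/
theorem exists_codegree {G : Type*} [Group G] [Finite G] {χ : G → ℂ} (hχ : IsIrrCharacter G χ)
    (d : ℕ) (hd : χ 1 = d) :
    ∃ (K : Subgroup G) (_ : K.Normal) (c : ℕ), (∀ x, x ∈ K ↔ χ x = χ 1) ∧
      Nat.card {g : G // χ g = χ 1} = Nat.card K ∧ Nat.card G = Nat.card K * d * c ∧
      K.index = d * c := by
  classical
  haveI := Fintype.ofFinite G
  obtain ⟨K, hKn, hK⟩ := exists_ker (IsIrrCharacter.isCharacter hχ)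
  haveI := hKn
  obtain ⟨ψ, hψ, hψχ⟩ := IsIrrCharacter.deflate hχ K (fun n hn => (hK n).mp hn)
  have hψ1 : ψ 1 = d := by
    have := hψχ 1
    rw [QuotientGroup.mk_one] at this
    rw [this, hd]
  obtain ⟨c, hc⟩ := degree_dvd_card hψ d hψ1
  refine ⟨K, hKn, c, hK, ?_, ?_, ?_⟩
  · apply Nat.card_congr
    exact Equiv.subtypeEquivRight (fun x => (hK x).symm)
  · rw [← K.card_mul_index, Subgroup.index, hc, mul_assoc]
  · rw [Subgroup.index, hc]


/-- The codegree of an irreducible complex character χ of a finite group G is [G : ker χ] / χ(1), where ker χ is the set of elements at which χ takes the value χ(1). A prime divides the order of G if and only if it divides the codegree of some irreducible complex character of G. -/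
theorem result {G : Type*} [Group G] [Finite G] (p : ℕ) (hp : p.Prime) : p ∣ Nat.card G ↔ ∃ χ : Cfsg.IrrCharacter G, p ∣ (Nat.card G / (Nat.card {g : G // (χ : G → ℂ) g = (χ : G → ℂ) 1} * Cfsg.charDegree (χ : G → ℂ))) := by
  classical
  haveI := Fintype.ofFinite G
  haveI : Fact p.Prime := ⟨hp⟩
  have hquot : ∀ (χ : Cfsg.IrrCharacter G) (d : ℕ), (χ : G → ℂ) 1 = d →
      ∀ (K : Subgroup G) (c : ℕ), Nat.card {g : G // (χ : G → ℂ) g = (χ : G → ℂ) 1} = Nat.card K →
      Nat.card G = Nat.card K * d * c →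
      Nat.card G / (Nat.card {g : G // (χ : G → ℂ) g = (χ : G → ℂ) 1}
        * Cfsg.charDegree (χ : G → ℂ)) = c := by
    intro χ d hd K c h1 h2
    rw [h1, charDegree_eq hd, h2]
    have hpos : 0 < Nat.card K * d := by
      obtain ⟨n, hn0, hn⟩ := IsIrrCharacter.apply_one χ.2
      have : d = n := by
        have : (d : ℂ) = n := by rw [← hd, hn]
        exact_mod_cast this
      rw [this]
      exact Nat.mul_pos Nat.card_pos hn0
    exact Nat.mul_div_cancel_left c hpos
  constructor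
  · intro hpG
    by_contra hcon
    push Not at hcon
    obtain ⟨x, hx⟩ := exists_prime_orderOf_dvd_card' p hpG
    have hx1 : x ≠ 1 := by
      intro h
      rw [h, orderOf_one] at hx
      exact hp.one_lt.ne hx
    have hval : ∀ χ ∈ irrFinset G, χ x = χ 1 ∨ χ x = 0 := by
      intro χ hχI
      have hχ := mem_irrFinset.mp hχI
      obtain ⟨d, hd0, hd⟩ := IsIrrCharacter.apply_one hχ
      obtain ⟨K, hKn, c, hK, hKcard, hGcard, hKidx⟩ := exists_codegree hχ d hd
      haveI := hKn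
      have hc := hquot ⟨χ, hχ⟩ d hd K c hKcard hGcard
      have hpc : ¬ p ∣ c := by
        have := hcon ⟨χ, hχ⟩
        rwa [hc] at this
      by_cases hxK : x ∈ K
      · left; exact (hK x).mp hxK
      · right
        obtain ⟨ψ, hψ, hψχ⟩ := IsIrrCharacter.deflate hχ K (fun n hn => (hK n).mp hn)
        have hψ1 : ψ 1 = d := by
          have := hψχ 1
          rw [QuotientGroup.mk_one] at this
          rw [this, hd]
        have hQcard : Nat.card (G ⧸ K) = d * c := by rw [← hKidx]; rfl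
        have hQ0 : Nat.card (G ⧸ K) ≠ 0 := Nat.card_pos.ne'
        have hdvd : p ^ (Nat.card (G ⧸ K)).factorization p ∣ d := by
          have h1 : p ^ (Nat.card (G ⧸ K)).factorization p ∣ d * c := by
            rw [← hQcard]; exact Nat.ordProj_dvd _ _
          have hcop : Nat.Coprime (p ^ (Nat.card (G ⧸ K)).factorization p) c :=
            Nat.Coprime.pow_left _ ((Nat.Prime.coprime_iff_not_dvd hp).mpr hpc)
          exact hcop.dvd_of_dvd_mul_right h1
        have hord : p ∣ orderOf ((x : G) : G ⧸ K) := by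
          have h1 : orderOf ((x : G) : G ⧸ K) ∣ p := by
            rw [← hx]
            exact orderOf_map_dvd (QuotientGroup.mk' K) x
          rcases (Nat.dvd_prime hp).mp h1 with h | h
          · exfalso
            rw [orderOf_eq_one_iff, QuotientGroup.eq_one_iff] at h
            exact hxK h
          · rw [h]
        haveI : Fintype (G ⧸ K) := Fintype.ofFinite _
        have := vanish_of_defect_zero hψ p _ hp (Nat.ordProj_dvd _ _)
          (Nat.pow_succ_factorization_not_dvd hQ0 hp) d hψ1 hdvd _ hord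
        rw [← hψχ x]
        exact this
    have hsum := sum_irr_mul_deg (G := G) x
    rw [if_neg hx1] at hsum
    have hnat : ∀ χ ∈ irrFinset G, ∃ k : ℕ, χ x * χ 1 = (k : ℂ) ∧
        (χ = (fun _ => 1) → k = 1) := by
      intro χ hχI
      obtain ⟨d, hd0, hd⟩ := IsIrrCharacter.apply_one (mem_irrFinset.mp hχI)
      rcases hval χ hχI with h | h
      · refine ⟨d * d, by rw [h, hd]; push_cast; ring, ?_⟩
        intro hχ1
        rw [hχ1] at hd
        have hd' : (1 : ℂ) = (d : ℂ) := hd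
        have : d = 1 := by exact_mod_cast hd'.symm
        rw [this]
      · refine ⟨0, by rw [h]; simp, ?_⟩
        intro hχ1
        rw [hχ1] at h
        exact absurd h one_ne_zero
    choose! k hk1 hk2 using hnat
    have hsum' : ((∑ χ ∈ irrFinset G, k χ : ℕ) : ℂ) = 0 := by
      rw [← hsum]
      push_cast
      exact Finset.sum_congr rfl (fun χ hχ => (hk1 χ hχ).symm)
    have hsum'' : ∑ χ ∈ irrFinset G, k χ = 0 := by exact_mod_cast hsum'
    have htriv : (fun _ => (1 : ℂ)) ∈ irrFinset G := mem_irrFinset.mpr isIrrCharacter_one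
    have := (Finset.sum_eq_zero_iff.mp hsum'') _ htriv
    rw [hk2 _ htriv rfl] at this
    exact one_ne_zero this
  · rintro ⟨χ, hdvd⟩
    obtain ⟨d, hd0, hd⟩ := IsIrrCharacter.apply_one χ.2
    obtain ⟨K, hKn, c, hK, hKcard, hGcard, hKidx⟩ := exists_codegree χ.2 d hd
    rw [hquot χ d hd K c hKcard hGcard] at hdvd
    rw [hGcard]
    exact Dvd.dvd.mul_left hdvd _

end Cfsg.Agent.S4808
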