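import Cfsg.Statements.S4814
import Cfsg.Agent.Lib.Helper2_ClassFn
import Cfsg.Agent.Lib.Helper2_CharBasic
import Cfsg.Agent.Lib.Helper2_CharOrtho
import Cfsg.Agent.Lib.Helper2_Clifford
import Cfsg.Agent.Lib.Helper2_CharMore
import Cfsg.Agent.Lib.Helper2_CharNorm
import Cfsg.Agent.Lib.Helper2_CharValues
import Cfsg.Agent.Lib.Helper2_CharComplete
import Cfsg.Agent.Lib.Helper2_CharInd
import Cfsg.Agent.Lib.Helper2_CharTable
import Cfsg.Agent.Lib.Helper2_CharFrob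
import Cfsg.Agent.Lib.Helper2_CharDeg
import Cfsg.Agent.Lib.Helper2_CharSum
import Cfsg.Agent.Lib.Helper2_CharExtra
import Cfsg.Agent.Lib.Helper2_CharCentral
import Cfsg.Agent.Lib.Helper2_PermChar
import Cfsg.Agent.Lib.Helper2_FrobSchur
import Cfsg.Agent.Lib.Helper2_CliffordCorr
import Cfsg.Agent.Lib.Helper2_CharKernel
import Cfsg.Agent.Lib.Helper2_CyclicTI
import Cfsg.Agent.Lib.Helper2_CharGalois
import Cfsg.Agent.Lib.Helper2_CharInt
import Cfsg.Agent.Lib.Helper2_CharBurnside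
import Cfsg.Agent.Lib.Helper2_CharCenter
import Cfsg.Agent.Lib.Helper2_Ito
import Cfsg.Agent.Lib.Helper2_Gallagher
import Cfsg.Agent.Lib.Helper2_Artin
import Cfsg.Agent.Lib.Helper2_MGroup
import Cfsg.Agent.Lib.Helper2_RepEquiv
import Cfsg.Agent.Lib.Helper2_CyclicExt
import Cfsg.Agent.Lib.Helper2_Extraspecial
import Cfsg.Agent.Lib.Helper2_ProjLift
import Cfsg.Agent.Lib.Helper2_CentralExt
import Cfsg.Agent.Lib.Helper2_SylowExt
import Cfsg.Agent.Lib.Helper2_DetChar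
import Cfsg.Agent.Lib.Helper2_LinExt
import Cfsg.Agent.Lib.Helper2_DetExt
import Cfsg.Agent.Lib.Helper2_GallagherExt
import Cfsg.Agent.Lib.Helper2_PermInd
import Cfsg.Agent.Lib.Helper2_QuasiElem
import Cfsg.Agent.Lib.Helper2_BrauerInd
import Cfsg.Agent.Lib.Helper2_BrauerThm
import Cfsg.Agent.Lib.Helper2_NilDecomp
import Cfsg.Agent.Lib.Helper2_DefectZero
import Cfsg.Agent.S0167

set_option autoImplicit false
open Cfsg

namespace Cfsg.Agent.S4814

open Cfsg.Agent.Lib.Helper2_ClassFn Cfsg.Agent.Lib.Helper2_CharBasic Cfsg.Agent.Lib.Helper2_CharOrtho Cfsg.Agent.Lib.Helper2_Clifford Cfsg.Agent.Lib.Helper2_CharMore Cfsg.Agent.Lib.Helper2_CharNorm Cfsg.Agent.Lib.Helper2_CharValues Cfsg.Agent.Lib.Helper2_CharComplete Cfsg.Agent.Lib.Helper2_CharInd Cfsg.Agent.Lib.Helper2_CharTable Cfsg.Agent.Lib.Helper2_CharFrob Cfsg.Agent.Lib.Helper2_CharDeg Cfsg.Agent.Lib.Helper2_CharSum Cfsg.Agent.Lib.Helper2_CharExtra Cfsg.Agent.Lib.Helper2_CharCentral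 Cfsg.Agent.Lib.Helper2_PermChar Cfsg.Agent.Lib.Helper2_FrobSchur Cfsg.Agent.Lib.Helper2_CliffordCorr Cfsg.Agent.Lib.Helper2_CharKernel Cfsg.Agent.Lib.Helper2_CyclicTI Cfsg.Agent.Lib.Helper2_CharGalois Cfsg.Agent.Lib.Helper2_CharInt Cfsg.Agent.Lib.Helper2_CharBurnside Cfsg.Agent.Lib.Helper2_CharCenter Cfsg.Agent.Lib.Helper2_Ito Cfsg.Agent.Lib.Helper2_Gallagher Cfsg.Agent.Lib.Helper2_Artin Cfsg.Agent.Lib.Helper2_MGroup Cfsg.Agent.Lib.Helper2_RepEquiv Cfsg.Agent.Lib.Helper2_CyclicExt Cfsg.Agent.Lib.Helper2_Extraspecial Cfsg.Agent.Lib.Helper2_ProjLift Cfsg.Agent.Lib.Helper2_CentralExt Cfsg.Agent.Lib.Helper2_SylowExt Cfsg.Agent.Lib.Helper2_DetChar Cfsg.Agent.Lib.Helper2_LinExt Cfsg.Agent.Lib.Helper2_DetExt Cfsg.Agent.Lib.Helper2_GallagherExt Cfsg.Agent.Lib.Helper2_PermInd Cfsg.Agent.Lib.Helper2_QuasiElem Cfsg.Agent.Lib.Helper2_BrauerInd Cfsg.Agent.Lib.Helper2_BrauerThm Cfsg.Agent.Lib.Helper2_NilDecomp Cfsg.Agent.Lib.Helper2_DefectZero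
open scoped Pointwise
open scoped ComplexConjugate


/-- Let G be a finite group such that the sum, over the irreducible complex characters χ of G, of 1/χ(1)² is less than 2. Then every element of G is a product of two commutators. -/
theorem result {G : Type*} [Group G] [Finite G]
    (h : ∑ᶠ χ : Cfsg.IrrCharacter G, 1 / ‖(χ : G → ℂ) 1‖ ^ 2 < (2 : ℝ)) (g : G) :
    ∃ a b c d : G, (a * b * a⁻¹ * b⁻¹) * (c * d * c⁻¹ * d⁻¹) = g := by
  classical
  haveI := Fintype.ofFinite G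
  rw [finsum_irr_eq_sum (fun χ : G → ℂ => 1 / ‖χ 1‖ ^ 2)] at h
  have hG : (Nat.card G : ℂ) ≠ 0 := card_ne_zero_complex
  set F : G → ℂ := fun x => ∑ χ ∈ irrFinset G, χ x / χ 1 with hF
  set T : ℂ := ∑ χ ∈ irrFinset G, χ g / (χ 1) ^ 3 with hT
  -- the convolution identity
  have hconv : ∑ x : G, F x⁻¹ * F (x * g) = (Nat.card G : ℂ) * T := by
    simp only [hF]
    have h1 : ∀ x : G, (∑ ψ ∈ irrFinset G, ψ x⁻¹ / ψ 1) * (∑ χ ∈ irrFinset G, χ (x * g) / χ 1)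
        = ∑ χ ∈ irrFinset G, ∑ ψ ∈ irrFinset G, (ψ x⁻¹ * χ (x * g)) / (ψ 1 * χ 1) := by
      intro x
      rw [Finset.sum_mul_sum, Finset.sum_comm]
      refine Finset.sum_congr rfl fun χ _ => Finset.sum_congr rfl fun ψ _ => ?_
      rw [div_mul_div_comm]
    simp only [h1]
    rw [Finset.sum_comm, hT, Finset.mul_sum]
    refine Finset.sum_congr rfl fun χ hχm => ?_
    have hχ := mem_irrFinset.mp hχm
    have hχc := IsIrrCharacter.isCharacter hχ
    have h10 : χ 1 ≠ 0 := IsIrrCharacter.apply_one_ne_zero hχ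
    rw [Finset.sum_comm]
    have h2 : ∀ ψ ∈ irrFinset G, ∑ x : G, (ψ x⁻¹ * χ (x * g)) / (ψ 1 * χ 1)
        = if ψ = χ then (Nat.card G : ℂ) * χ g / (χ 1) ^ 3 else 0 := by
      intro ψ hψm
      have hψ := mem_irrFinset.mp hψm
      have hψc := IsIrrCharacter.isCharacter hψ
      have hcf : IsClassFunction G (fun x => ψ x⁻¹) := by
        intro x y
        have := IsCharacter.isClassFunction hψc x⁻¹ y
        simpa [mul_assoc] using this
      rw [← Finset.sum_div, sum_classFn_mul hχ hcf g]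
      have h3 : ∑ x : G, ψ x⁻¹ * χ x = (Nat.card G : ℂ) * classInner χ ψ := by
        rw [classInner_def, ← mul_assoc, mul_inv_cancel₀ hG, one_mul]
        refine Finset.sum_congr rfl fun x _ => ?_
        rw [← IsCharacter.apply_inv hψc, mul_comm]
      rw [h3, classInner_irr hχ hψ]
      by_cases hψχ : ψ = χ
      · subst hψχ
        rw [if_pos rfl, if_pos rfl]
        field_simp
      · rw [if_neg hψχ, if_neg (fun h => hψχ h.symm)]
        simp
    rw [Finset.sum_congr rfl h2, Finset.sum_ite_eq' (irrFinset G) χ, if_pos hχm]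
    ring
  -- T ≠ 0
  have hT0 : T ≠ 0 := by
    have h1mem : (fun _ : G => (1 : ℂ)) ∈ irrFinset G := mem_irrFinset.mpr isIrrCharacter_one
    have hsplitT : T = 1 + ∑ χ ∈ (irrFinset G).erase (fun _ : G => (1 : ℂ)), χ g / (χ 1) ^ 3 := by
      rw [hT, ← Finset.add_sum_erase _ _ h1mem]
      simp
    have hsplitH : ∑ χ ∈ irrFinset G, 1 / ‖χ 1‖ ^ 2
        = 1 + ∑ χ ∈ (irrFinset G).erase (fun _ : G => (1 : ℂ)), 1 / ‖χ 1‖ ^ 2 := by
      rw [← Finset.add_sum_erase _ _ h1mem]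
      simp
    rw [hsplitH] at h
    have hbound : ‖∑ χ ∈ (irrFinset G).erase (fun _ : G => (1 : ℂ)), χ g / (χ 1) ^ 3‖
        ≤ ∑ χ ∈ (irrFinset G).erase (fun _ : G => (1 : ℂ)), 1 / ‖χ 1‖ ^ 2 := by
      refine (norm_sum_le _ _).trans (Finset.sum_le_sum fun χ hχm => ?_)
      have hχ := mem_irrFinset.mp (Finset.mem_of_mem_erase hχm)
      obtain ⟨n, hn0, hn⟩ := IsIrrCharacter.apply_one hχ
      have hle := IsCharacter.norm_le (IsIrrCharacter.isCharacter hχ) g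
      rw [hn] at hle ⊢
      simp only [Complex.natCast_re] at hle
      rw [norm_div, norm_pow, Complex.norm_natCast]
      have hn0' : (0 : ℝ) < n := by exact_mod_cast hn0
      rw [div_le_div_iff₀ (by positivity) (by positivity)]
      calc ‖χ g‖ * (n : ℝ) ^ 2 ≤ (n : ℝ) * (n : ℝ) ^ 2 := by
            apply mul_le_mul_of_nonneg_right hle (by positivity)
        _ = 1 * (n : ℝ) ^ 3 := by ring
    intro hzero
    rw [hsplitT] at hzero
    have h2 : ∑ χ ∈ (irrFinset G).erase (fun _ : G => (1 : ℂ)), χ g / (χ 1) ^ 3 = -1 := by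
      linear_combination hzero
    rw [h2, norm_neg, norm_one] at hbound
    linarith
  -- conclude
  have hne : ∑ x : G, F x⁻¹ * F (x * g) ≠ 0 := by
    rw [hconv]; exact mul_ne_zero hG hT0
  obtain ⟨x, -, hx⟩ := Finset.exists_ne_zero_of_sum_ne_zero hne
  have hx1 : F x⁻¹ ≠ 0 := left_ne_zero_of_mul hx
  have hx2 : F (x * g) ≠ 0 := right_ne_zero_of_mul hx
  have e1 := (Cfsg.Agent.S0167.result x⁻¹).mpr (by
    rw [finsum_irr_eq_sum (fun χ : G → ℂ => χ x⁻¹ / χ 1)]; exact hx1)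
  have e2 := (Cfsg.Agent.S0167.result (x * g)).mpr (by
    rw [finsum_irr_eq_sum (fun χ : G → ℂ => χ (x * g) / χ 1)]; exact hx2)
  obtain ⟨a, b, hab⟩ := e1
  obtain ⟨c, d, hcd⟩ := e2
  refine ⟨a, b, c, d, ?_⟩
  rw [← hab, ← hcd]
  group

end Cfsg.Agent.S4814
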