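import Cfsg.Statements.S4856
import Cfsg.Agent.Lib.Helper2_ClassFn
import Cfsg.Agent.Lib.Helper2_CharBasic
import Cfsg.Agent.Lib.Helper2_CharOrtho
import Cfsg.Agent.Lib.Helper2_Clifford
import Cfsg.Agent.Lib.Helper2_CharMore
import Cfsg.Agent.Lib.Helper2_CharNorm
import Cfsg.Agent.Lib.Helper2_CharValues
import Cfsg.Agent.Lib.Helper2_CharComplete
import Cfsg.Agent.Lib.Helper2_CharInd
import Cfsg.Agent.Lib.Helper2_CharTable
import Cfsg.Agent.Lib.Helper2_CharFrob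
import Cfsg.Agent.Lib.Helper2_CharDeg
import Cfsg.Agent.Lib.Helper2_CharSum
import Cfsg.Agent.Lib.Helper2_CharExtra
import Cfsg.Agent.Lib.Helper2_CharCentral
import Cfsg.Agent.Lib.Helper2_PermChar
import Cfsg.Agent.Lib.Helper2_FrobSchur
import Cfsg.Agent.Lib.Helper2_CliffordCorr
import Cfsg.Agent.Lib.Helper2_CharKernel
import Cfsg.Agent.Lib.Helper2_CyclicTI
import Cfsg.Agent.Lib.Helper2_CharGalois
import Cfsg.Agent.Lib.Helper2_CharInt
import Cfsg.Agent.Lib.Helper2_CharBurnside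
import Cfsg.Agent.Lib.Helper2_CharCenter
import Cfsg.Agent.Lib.Helper2_Ito
import Cfsg.Agent.Lib.Helper2_Gallagher
import Cfsg.Agent.Lib.Helper2_Artin
import Cfsg.Agent.Lib.Helper2_MGroup
import Cfsg.Agent.Lib.Helper2_RepEquiv
import Cfsg.Agent.Lib.Helper2_CyclicExt
import Cfsg.Agent.Lib.Helper2_Extraspecial
import Cfsg.Agent.Lib.Helper2_ProjLift
import Cfsg.Agent.Lib.Helper2_CentralExt
import Cfsg.Agent.Lib.Helper2_SylowExt
import Cfsg.Agent.Lib.Helper2_DetChar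
import Cfsg.Agent.Lib.Helper2_LinExt
import Cfsg.Agent.Lib.Helper2_DetExt
import Cfsg.Agent.Lib.Helper2_GallagherExt
import Cfsg.Agent.Lib.Helper2_PermInd
import Cfsg.Agent.Lib.Helper2_QuasiElem
import Cfsg.Agent.Lib.Helper2_BrauerInd
import Cfsg.Agent.Lib.Helper2_BrauerThm
import Cfsg.Agent.Lib.Helper2_NilDecomp
import Cfsg.Agent.Lib.Helper2_DefectZero
import Cfsg.Agent.Lib.Helper2_CharGalois2
import Cfsg.Agent.Lib.Helper2_CosetAvg
import Cfsg.Agent.Lib.Helper2_Thompson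
import Cfsg.Agent.Lib.Helper2_ItoSolv
import Cfsg.Agent.Lib.Helper2_ItoPSolv

set_option autoImplicit false
open Cfsg

namespace Cfsg.Agent.S4856

open Cfsg.Agent.Lib.Helper2_ClassFn Cfsg.Agent.Lib.Helper2_CharBasic Cfsg.Agent.Lib.Helper2_CharOrtho Cfsg.Agent.Lib.Helper2_Clifford Cfsg.Agent.Lib.Helper2_CharMore Cfsg.Agent.Lib.Helper2_CharNorm Cfsg.Agent.Lib.Helper2_CharValues Cfsg.Agent.Lib.Helper2_CharComplete Cfsg.Agent.Lib.Helper2_CharInd Cfsg.Agent.Lib.Helper2_CharTable Cfsg.Agent.Lib.Helper2_CharFrob Cfsg.Agent.Lib.Helper2_CharDeg Cfsg.Agent.Lib.Helper2_CharSum Cfsg.Agent.Lib.Helper2_CharExtra Cfsg.Agent.Lib.Helper2_CharCentral Cfsg.Agent.Lib.Helper2_PermChar Cfsg.Agent.Lib.Helper2_FrobSchur Cfsg.Agent.Lib.Helper2_CliffordCorr Cfsg.Agent.Lib.Helper2_CharKernel Cfsg.Agent.Lib.Helper2_CyclicTI Cfsg.Agent.Lib.Helper2_CharGalois Cfsg.Agent.Lib.Helper2_CharInt Cfsg.Agent.Lib.Helper2_CharBurnside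 Cfsg.Agent.Lib.Helper2_CharCenter Cfsg.Agent.Lib.Helper2_Ito Cfsg.Agent.Lib.Helper2_Gallagher Cfsg.Agent.Lib.Helper2_Artin Cfsg.Agent.Lib.Helper2_MGroup Cfsg.Agent.Lib.Helper2_RepEquiv Cfsg.Agent.Lib.Helper2_CyclicExt Cfsg.Agent.Lib.Helper2_Extraspecial Cfsg.Agent.Lib.Helper2_ProjLift Cfsg.Agent.Lib.Helper2_CentralExt Cfsg.Agent.Lib.Helper2_SylowExt Cfsg.Agent.Lib.Helper2_DetChar Cfsg.Agent.Lib.Helper2_LinExt Cfsg.Agent.Lib.Helper2_DetExt Cfsg.Agent.Lib.Helper2_GallagherExt Cfsg.Agent.Lib.Helper2_PermInd Cfsg.Agent.Lib.Helper2_QuasiElem Cfsg.Agent.Lib.Helper2_BrauerInd Cfsg.Agent.Lib.Helper2_BrauerThm Cfsg.Agent.Lib.Helper2_NilDecomp Cfsg.Agent.Lib.Helper2_DefectZero Cfsg.Agent.Lib.Helper2_CharGalois2 Cfsg.Agent.Lib.Helper2_CosetAvg Cfsg.Agent.Lib.Helper2_Thompson Cfsg.Agent.Lib.Helper2_ItoSolv Cfsg.Agent.Lib.Helper2_ItoPSolv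
open scoped Pointwise
open scoped ComplexConjugate

theorem card_commutator_pairs {G : Type*} [Group G] [Fintype G] [DecidableEq G] (g : G) :
    ((Finset.univ.filter (fun p : G × G => p.1 * p.2 * p.1⁻¹ * p.2⁻¹ = g)).card : ℂ)
      = (Nat.card G : ℂ) * (starRingEnd ℂ) (∑ χ ∈ irrFinset G, χ g / χ 1) := by
  set S := Finset.univ.filter (fun p : G × G => p.1 * p.2 * p.1⁻¹ * p.2⁻¹ = g) with hS
  have hG : (Nat.card G : ℂ) ≠ 0 := card_ne_zero_complex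
  have hcount : (S.card : ℂ)
      = (Nat.card G : ℂ) * (starRingEnd ℂ) (∑ χ ∈ irrFinset G, χ g / χ 1) := by
    have h1 : (S.card : ℂ)
        = ∑ p : G × G, if p.1 * p.2 * p.1⁻¹ * p.2⁻¹ = g then (1 : ℂ) else 0 := by
      rw [hS, Finset.card_filter]
      push_cast
      rfl
    have h2 : ∀ p : G × G, (if p.1 * p.2 * p.1⁻¹ * p.2⁻¹ = g then (1 : ℂ) else 0)
        = (Nat.card G : ℂ)⁻¹ *
          ∑ χ ∈ irrFinset G, χ (p.1 * p.2 * p.1⁻¹ * (p.2⁻¹ * g⁻¹)) * χ 1 := by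
      intro p
      rw [sum_irr_mul_deg]
      by_cases h : p.1 * p.2 * p.1⁻¹ * p.2⁻¹ = g
      · rw [if_pos h, if_pos, inv_mul_cancel₀ hG]
        rw [← mul_assoc, h, mul_inv_cancel]
      · rw [if_neg h, if_neg, mul_zero]
        intro h'
        apply h
        rw [← mul_assoc] at h'
        exact mul_inv_eq_one.mp h'
    rw [h1]
    simp_rw [h2]
    rw [← Finset.mul_sum, Finset.sum_comm, map_sum, Finset.mul_sum, Finset.mul_sum]
    refine Finset.sum_congr rfl fun χ hχ => ?_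
    have hirr := mem_irrFinset.mp hχ
    have hc := IsIrrCharacter.isCharacter hirr
    have h10 : χ 1 ≠ 0 := IsIrrCharacter.apply_one_ne_zero hirr
    rw [Fintype.sum_prod_type_right]
    have h3 : ∀ b : G, ∑ a : G, χ (a * b * a⁻¹ * (b⁻¹ * g⁻¹)) * χ 1
        = (Nat.card G : ℂ) * (χ b⁻¹⁻¹ * χ (b⁻¹ * g⁻¹)) := by
      intro b
      rw [← Finset.sum_mul, sum_conj_mul hirr, inv_inv]
      field_simp
    simp_rw [h3]
    rw [← Finset.mul_sum]
    have h4 : ∑ b : G, χ b⁻¹⁻¹ * χ (b⁻¹ * g⁻¹) = ∑ b : G, χ b⁻¹ * χ (b * g⁻¹) :=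
      Fintype.sum_equiv (Equiv.inv G) _ _ (fun _ => rfl)
    rw [h4, sum_inv_mul hirr, IsCharacter.apply_inv hc, map_div₀]
    obtain ⟨n, -, hn⟩ := IsIrrCharacter.apply_one hirr
    rw [hn, Complex.conj_natCast]
    field_simp
  exact hcount


/-- For an element z of a finite group G, the number of pairs (x, y) of elements with x y x⁻¹ y⁻¹ = z equals the order of G times the sum over the irreducible characters χ of χ(z)/χ(1). -/
theorem result {G : Type*} [Group G] [Finite G] (z : G) : (Nat.card {xy : G × G // xy.1 * xy.2 * xy.1⁻¹ * xy.2⁻¹ = z} : ℂ) = (Nat.card G : ℂ) * ∑ᶠ χ : Cfsg.IrrCharacter G, (χ : G → ℂ) z / (χ : G → ℂ) 1 := by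
  classical
  haveI := Fintype.ofFinite G
  rw [finsum_irr_eq_sum (fun χ : G → ℂ => χ z / χ 1)]
  have h := card_commutator_pairs z
  have hcard : Nat.card {xy : G × G // xy.1 * xy.2 * xy.1⁻¹ * xy.2⁻¹ = z}
      = (Finset.univ.filter (fun p : G × G => p.1 * p.2 * p.1⁻¹ * p.2⁻¹ = z)).card := by
    rw [Nat.card_eq_fintype_card, Fintype.card_subtype]
  rw [hcard]
  have h2 := congrArg (starRingEnd ℂ) h
  rw [Complex.conj_natCast, map_mul, Complex.conj_natCast, Complex.conj_conj] at h2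
  exact h2

end Cfsg.Agent.S4856
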