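import Cfsg.Statements.S4859
import Cfsg.Agent.Lib.Helper2_ClassFn
import Cfsg.Agent.Lib.Helper2_CharBasic
import Cfsg.Agent.Lib.Helper2_CharOrtho
import Cfsg.Agent.Lib.Helper2_Clifford
import Cfsg.Agent.Lib.Helper2_CharMore
import Cfsg.Agent.Lib.Helper2_CharNorm
import Cfsg.Agent.Lib.Helper2_CharValues
import Cfsg.Agent.Lib.Helper2_CharComplete
import Cfsg.Agent.Lib.Helper2_CharInd
import Cfsg.Agent.Lib.Helper2_CharTable
import Cfsg.Agent.Lib.Helper2_CharFrob
import Cfsg.Agent.Lib.Helper2_CharDeg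
import Cfsg.Agent.Lib.Helper2_CharSum
import Cfsg.Agent.Lib.Helper2_CharExtra
import Cfsg.Agent.Lib.Helper2_CharCentral
import Cfsg.Agent.Lib.Helper2_PermChar
import Cfsg.Agent.Lib.Helper2_FrobSchur
import Cfsg.Agent.Lib.Helper2_CliffordCorr
import Cfsg.Agent.Lib.Helper2_CharKernel
import Cfsg.Agent.Lib.Helper2_CyclicTI
import Cfsg.Agent.Lib.Helper2_CharGalois
import Cfsg.Agent.Lib.Helper2_CharInt
import Cfsg.Agent.Lib.Helper2_CharBurnside
import Cfsg.Agent.Lib.Helper2_CharCenter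
import Cfsg.Agent.Lib.Helper2_Ito
import Cfsg.Agent.Lib.Helper2_Gallagher
import Cfsg.Agent.Lib.Helper2_Artin
import Cfsg.Agent.Lib.Helper2_MGroup
import Cfsg.Agent.Lib.Helper2_RepEquiv
import Cfsg.Agent.Lib.Helper2_CyclicExt
import Cfsg.Agent.Lib.Helper2_Extraspecial
import Cfsg.Agent.Lib.Helper2_ProjLift
import Cfsg.Agent.Lib.Helper2_CentralExt
import Cfsg.Agent.Lib.Helper2_SylowExt
import Cfsg.Agent.Lib.Helper2_DetChar
import Cfsg.Agent.Lib.Helper2_LinExt
import Cfsg.Agent.Lib.Helper2_DetExt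
import Cfsg.Agent.Lib.Helper2_GallagherExt
import Cfsg.Agent.Lib.Helper2_PermInd
import Cfsg.Agent.Lib.Helper2_QuasiElem
import Cfsg.Agent.Lib.Helper2_BrauerInd
import Cfsg.Agent.Lib.Helper2_BrauerThm
import Cfsg.Agent.Lib.Helper2_NilDecomp
import Cfsg.Agent.Lib.Helper2_DefectZero
import Cfsg.Agent.Lib.Helper2_CharGalois2
import Cfsg.Agent.Lib.Helper2_CosetAvg
import Cfsg.Agent.Lib.Helper2_Thompson
import Cfsg.Agent.Lib.Helper2_ItoSolv
import Cfsg.Agent.Lib.Helper2_ItoPSolv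
import Cfsg.Agent.Lib.Helper2_GaloisConj
import Cfsg.Agent.Lib.Helper2_AbelInertia
import Cfsg.Agent.Lib.Helper2_Gagola
import Cfsg.Agent.Lib.Helper2_GoingDown
import Cfsg.Agent.Lib.Helper2_RelMGroup
import Cfsg.Agent.Lib.Helper2_Gagola2
import Cfsg.Agent.Lib.Helper2_Gagola3

set_option autoImplicit false
open Cfsg

namespace Cfsg.Agent.S4859

open Cfsg.Agent.Lib.Helper2_ClassFn Cfsg.Agent.Lib.Helper2_CharBasic Cfsg.Agent.Lib.Helper2_CharOrtho Cfsg.Agent.Lib.Helper2_Clifford Cfsg.Agent.Lib.Helper2_CharMore Cfsg.Agent.Lib.Helper2_CharNorm Cfsg.Agent.Lib.Helper2_CharValues Cfsg.Agent.Lib.Helper2_CharComplete Cfsg.Agent.Lib.Helper2_CharInd Cfsg.Agent.Lib.Helper2_CharTable Cfsg.Agent.Lib.Helper2_CharFrob Cfsg.Agent.Lib.Helper2_CharDeg Cfsg.Agent.Lib.Helper2_CharSum Cfsg.Agent.Lib.Helper2_CharExtra Cfsg.Agent.Lib.Helper2_CharCentral Cfsg.Agent.Lib.Helper2_PermChar Cfsg.Agent.Lib.Helper2_FrobSchur Cfsg.Agent.Lib.Helper2_CliffordCorr Cfsg.Agent.Lib.Helper2_CharKernel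 Cfsg.Agent.Lib.Helper2_CyclicTI Cfsg.Agent.Lib.Helper2_CharGalois Cfsg.Agent.Lib.Helper2_CharInt Cfsg.Agent.Lib.Helper2_CharBurnside Cfsg.Agent.Lib.Helper2_CharCenter Cfsg.Agent.Lib.Helper2_Ito Cfsg.Agent.Lib.Helper2_Gallagher Cfsg.Agent.Lib.Helper2_Artin Cfsg.Agent.Lib.Helper2_MGroup Cfsg.Agent.Lib.Helper2_RepEquiv Cfsg.Agent.Lib.Helper2_CyclicExt Cfsg.Agent.Lib.Helper2_Extraspecial Cfsg.Agent.Lib.Helper2_ProjLift Cfsg.Agent.Lib.Helper2_CentralExt Cfsg.Agent.Lib.Helper2_SylowExt Cfsg.Agent.Lib.Helper2_DetChar Cfsg.Agent.Lib.Helper2_LinExt Cfsg.Agent.Lib.Helper2_DetExt Cfsg.Agent.Lib.Helper2_GallagherExt Cfsg.Agent.Lib.Helper2_PermInd Cfsg.Agent.Lib.Helper2_QuasiElem Cfsg.Agent.Lib.Helper2_BrauerInd Cfsg.Agent.Lib.Helper2_BrauerThm Cfsg.Agent.Lib.Helper2_NilDecomp Cfsg.Agent.Lib.Helper2_DefectZero Cfsg.Agent.Lib.Helper2_CharGalois2 Cfsg.Agent.Lib.Helper2_CosetAvg Cfsg.Agent.Lib.Helper2_Thompson Cfsg.Agent.Lib.Helper2_ItoSolv Cfsg.Agent.Lib.Helper2_ItoPSolv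 Cfsg.Agent.Lib.Helper2_GaloisConj Cfsg.Agent.Lib.Helper2_AbelInertia Cfsg.Agent.Lib.Helper2_Gagola Cfsg.Agent.Lib.Helper2_GoingDown Cfsg.Agent.Lib.Helper2_RelMGroup Cfsg.Agent.Lib.Helper2_Gagola2 Cfsg.Agent.Lib.Helper2_Gagola3
open scoped Pointwise
open Classical in
theorem root_count {G : Type*} [Group G] [Fintype G] (g : G) :
    ∑ ψ ∈ irrFinset G, ((Nat.card G : ℂ)⁻¹ * ∑ h : G, ψ (h * h)) * ψ g
      = ((Finset.univ.filter (fun u : G => u * u = g)).card : ℂ) := by
  set θ : G → ℂ := fun g => ((Finset.univ.filter (fun u : G => u * u = g)).card : ℂ) with hθ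
  have hcf : IsClassFunction G θ := by
    intro a h
    simp only [hθ]
    congr 1
    apply Finset.card_bij (fun u _ => h⁻¹ * u * h)
    · intro u hu
      rw [Finset.mem_filter] at hu ⊢
      refine ⟨Finset.mem_univ _, ?_⟩
      calc h⁻¹ * u * h * (h⁻¹ * u * h) = h⁻¹ * (u * u) * h := by group
        _ = a := by rw [hu.2]; group
    · intro u _ v _ huv
      simpa using huv
    · intro v hv
      rw [Finset.mem_filter] at hv
      refine ⟨h * v * h⁻¹, ?_, by group⟩
      rw [Finset.mem_filter]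
      refine ⟨Finset.mem_univ _, ?_⟩
      calc h * v * h⁻¹ * (h * v * h⁻¹) = h * (v * v) * h⁻¹ := by group
        _ = h * a * h⁻¹ := by rw [hv.2]
  have hexp := IsClassFunction.expansion hcf
  have hinner : ∀ ψ ∈ irrFinset G, classInner θ ψ = (Nat.card G : ℂ)⁻¹ * ∑ h : G, ψ (h * h) := by
    intro ψ hψ
    have hirr := mem_irrFinset.mp hψ
    have h1 : classInner θ ψ
        = (starRingEnd ℂ) ((Nat.card G : ℂ)⁻¹ * ∑ h : G, ψ (h * h)) := by
      rw [classInner_def, map_mul, map_inv₀, Complex.conj_natCast, map_sum]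
      congr 1
      have h2 : ∀ a : G, θ a * (starRingEnd ℂ) (ψ a)
          = ∑ u : G, if u * u = a then (starRingEnd ℂ) (ψ a) else 0 := by
        intro a
        simp only [hθ]
        rw [Finset.card_filter, Nat.cast_sum, Finset.sum_mul]
        refine Finset.sum_congr rfl fun u _ => ?_
        split_ifs <;> simp
      rw [Finset.sum_congr rfl (fun a _ => h2 a), Finset.sum_comm]
      refine Finset.sum_congr rfl fun u _ => ?_
      rw [Finset.sum_ite_eq]
      simp
    rw [h1]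
    rcases indicator_cases hirr with ⟨_, h0⟩ | ⟨_, h0 | h0⟩
    · rw [h0, map_zero]
    · rw [h0, map_one]
    · rw [h0, map_neg, map_one]
  have := congrFun hexp g
  rw [Finset.sum_apply] at this
  symm
  change θ g = _
  rw [this]
  symm
  refine Finset.sum_congr rfl fun ψ hψ => ?_
  rw [Pi.smul_apply, smul_eq_mul, hinner ψ hψ]



/-- Let p be an odd prime, G a finite group and x an element of G whose order is a power of p (possibly 1) and whose centralizer has even order. Let y be a 2-element of the centralizer of x whose order is largest among the 2-elements of that centralizer. Then x * y is not a square in G, and some non-principal real-valued irreducible character of G does not vanish at x * y. -/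
theorem result {G : Type*} [Group G] [Finite G] (p : ℕ) [Fact p.Prime] (hp : p ≠ 2) (x : G) (hx : ∃ k : ℕ, orderOf x = p ^ k) (heven : Even (Nat.card (Subgroup.centralizer ({x} : Set G)))) (y : G) (hy : y ∈ Subgroup.centralizer ({x} : Set G)) (hy2 : ∃ k : ℕ, orderOf y = 2 ^ k) (hmax : ∀ z ∈ Subgroup.centralizer ({x} : Set G), (∃ k : ℕ, orderOf z = 2 ^ k) → orderOf z ≤ orderOf y) : (¬ ∃ u : G, u * u = x * y) ∧ ∃ χ : Cfsg.IrrCharacter G, ¬ ((χ : G → ℂ) = fun _ => (1 : ℂ)) ∧ (∀ g : G, ((χ : G → ℂ) g).im = 0) ∧ (χ : G → ℂ) (x * y) ≠ 0 := by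
  classical
  haveI := Fintype.ofFinite G
  have hp2 : Nat.Coprime 2 p :=
    (Nat.coprime_primes Nat.prime_two (Fact.out)).mpr (Ne.symm hp)
  have hxy : Commute x y := by
    have := Subgroup.mem_centralizer_singleton_iff.mp hy
    exact this.symm
  obtain ⟨k, hk⟩ := hx
  obtain ⟨j, hj⟩ := hy2
  have hj1 : 1 ≤ j := by
    by_contra hj0
    have hj0' : j = 0 := by omega
    subst hj0'
    haveI : Fact (Nat.Prime 2) := ⟨Nat.prime_two⟩
    obtain ⟨z, hz⟩ := exists_prime_orderOf_dvd_card' 2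
      (G := Subgroup.centralizer ({x} : Set G)) heven.two_dvd
    have hz' : orderOf (z : G) = 2 := by rw [Subgroup.orderOf_coe, hz]
    have := hmax z.1 z.2 ⟨1, by rw [hz', pow_one]⟩
    rw [hz', hj] at this
    norm_num at this
  have hnosq : ¬ ∃ u : G, u * u = x * y := by
    rintro ⟨u, hu⟩
    have hcop : Nat.Coprime (2 ^ j) (orderOf x) := by
      rw [hk]
      exact Nat.Coprime.pow _ _ hp2
    obtain ⟨c, hc⟩ := exists_pow_eq_self_of_coprime hcop
    have hy1 : y ^ (2 ^ j) = 1 := by rw [← hj]; exact pow_orderOf_eq_one y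
    have hx1 : x ^ (p ^ k) = 1 := by rw [← hk]; exact pow_orderOf_eq_one x
    have hxpow : x = u ^ (2 * 2 ^ j * c) := by
      rw [mul_assoc, pow_mul, pow_two, hu, pow_mul, hxy.mul_pow, hy1, mul_one, hc]
    have hux : Commute u x := by
      rw [hxpow]
      exact Commute.pow_right (Commute.refl u) _
    set w := u ^ (p ^ k) with hw
    have hwC : w ∈ Subgroup.centralizer ({x} : Set G) := by
      rw [Subgroup.mem_centralizer_singleton_iff]
      exact (hux.pow_left _).eq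
    have hw2 : w * w = y ^ (p ^ k) := by
      calc w * w = (u * u) ^ (p ^ k) := by rw [hw, (Commute.refl u).mul_pow]
        _ = y ^ (p ^ k) := by rw [hu, hxy.mul_pow, hx1, one_mul]
    have hoy : orderOf (y ^ (p ^ k)) = 2 ^ j := by
      rw [Nat.Coprime.orderOf_pow, hj]
      rw [hj]
      exact Nat.Coprime.pow _ _ hp2
    have how : orderOf w = 2 ^ (j + 1) := by
      have h1 : orderOf (w ^ 2) = orderOf w / Nat.gcd (orderOf w) 2 := orderOf_pow w
      rw [pow_two, hw2, hoy] at h1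
      rcases Nat.even_or_odd (orderOf w) with he | ho
      · obtain ⟨r, hr⟩ := he
        have hg : Nat.gcd (orderOf w) 2 = 2 := by
          apply Nat.gcd_eq_right
          rw [hr]
          exact ⟨r, by ring⟩
        rw [hg, hr] at h1
        have : (r + r) / 2 = r := by omega
        rw [this] at h1
        rw [hr, ← h1, pow_succ]
        ring
      · exfalso
        have hg : Nat.gcd (orderOf w) 2 = 1 := Nat.coprime_two_right.mpr ho
        rw [hg, Nat.div_one] at h1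
        have hev : Even (2 ^ j) := Nat.even_pow.mpr ⟨even_two, by omega⟩
        rw [h1] at hev
        exact (Nat.not_even_iff_odd.mpr ho) hev
    have h3 := hmax w hwC ⟨j + 1, how⟩
    rw [how, hj] at h3
    have h4 : 2 ^ j < 2 ^ (j + 1) := Nat.pow_lt_pow_right (by norm_num) (by omega)
    omega
  refine ⟨hnosq, ?_⟩
  have hrc := root_count (x * y)
  have hempty : (Finset.univ.filter (fun u : G => u * u = x * y)) = ∅ := by
    rw [Finset.filter_eq_empty_iff]
    intro u _ hu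
    exact hnosq ⟨u, hu⟩
  rw [hempty, Finset.card_empty, Nat.cast_zero] at hrc
  have h1irr : IsIrrCharacter G (fun _ => (1 : ℂ)) := isIrrCharacter_one
  have h1mem : (fun _ => (1 : ℂ)) ∈ irrFinset G := mem_irrFinset.mpr h1irr
  rw [← Finset.add_sum_erase _ _ h1mem] at hrc
  have hG0 : (Nat.card G : ℂ) ≠ 0 := card_ne_zero_complex
  have hone : ((Nat.card G : ℂ)⁻¹ * ∑ h : G, (fun _ : G => (1 : ℂ)) (h * h))
      * (fun _ : G => (1 : ℂ)) (x * y) = 1 := by
    simp only [Finset.sum_const, Finset.card_univ, nsmul_eq_mul, mul_one]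
    rw [← Nat.card_eq_fintype_card]
    exact inv_mul_cancel₀ hG0
  rw [hone] at hrc
  have hne : ∑ ψ ∈ (irrFinset G).erase (fun _ => (1 : ℂ)),
      ((Nat.card G : ℂ)⁻¹ * ∑ h : G, ψ (h * h)) * ψ (x * y) ≠ 0 := by
    intro h0
    rw [h0, add_zero] at hrc
    exact one_ne_zero hrc
  obtain ⟨ψ, hψmem, hψne⟩ := Finset.exists_ne_zero_of_sum_ne_zero hne
  rw [Finset.mem_erase] at hψmem
  have hirr := mem_irrFinset.mp hψmem.2
  refine ⟨⟨ψ, hirr⟩, hψmem.1, ?_, ?_⟩
  · intro g
    change (ψ g).im = 0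
    rcases indicator_cases hirr with ⟨_, h0⟩ | ⟨hreal, _⟩
    · exfalso
      apply hψne
      rw [h0, zero_mul]
    · have := congrFun hreal g
      exact Complex.conj_eq_iff_im.mp this
  · change ψ (x * y) ≠ 0
    intro h0
    apply hψne
    rw [h0, mul_zero]

end Cfsg.Agent.S4859
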