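import Cfsg.Statements.S4870
import Cfsg.Agent.Lib.Helper2_ClassFn
import Cfsg.Agent.Lib.Helper2_CharBasic
import Cfsg.Agent.Lib.Helper2_CharOrtho
import Cfsg.Agent.Lib.Helper2_Clifford
import Cfsg.Agent.Lib.Helper2_CharMore
import Cfsg.Agent.Lib.Helper2_CharNorm
import Cfsg.Agent.Lib.Helper2_CharValues
import Cfsg.Agent.Lib.Helper2_CharComplete
import Cfsg.Agent.Lib.Helper2_CharInd
import Cfsg.Agent.Lib.Helper2_CharTable
import Cfsg.Agent.Lib.Helper2_CharFrob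
import Cfsg.Agent.Lib.Helper2_CharDeg
import Cfsg.Agent.Lib.Helper2_CharSum
import Cfsg.Agent.Lib.Helper2_CharExtra
import Cfsg.Agent.Lib.Helper2_CharCentral
import Cfsg.Agent.Lib.Helper2_PermChar
import Cfsg.Agent.Lib.Helper2_FrobSchur
import Cfsg.Agent.Lib.Helper2_CliffordCorr
import Cfsg.Agent.Lib.Helper2_CharKernel
import Cfsg.Agent.Lib.Helper2_CyclicTI
import Cfsg.Agent.Lib.Helper2_CharGalois
import Cfsg.Agent.Lib.Helper2_CharInt
import Cfsg.Agent.Lib.Helper2_CharBurnside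
import Cfsg.Agent.Lib.Helper2_CharCenter
import Cfsg.Agent.Lib.Helper2_Ito
import Cfsg.Agent.Lib.Helper2_Gallagher
import Cfsg.Agent.Lib.Helper2_Artin
import Cfsg.Agent.Lib.Helper2_MGroup
import Cfsg.Agent.Lib.Helper2_RepEquiv
import Cfsg.Agent.Lib.Helper2_CyclicExt
import Cfsg.Agent.Lib.Helper2_Extraspecial
import Cfsg.Agent.Lib.Helper2_ProjLift
import Cfsg.Agent.Lib.Helper2_CentralExt
import Cfsg.Agent.Lib.Helper2_SylowExt
import Cfsg.Agent.Lib.Helper2_DetChar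
import Cfsg.Agent.Lib.Helper2_LinExt
import Cfsg.Agent.Lib.Helper2_DetExt
import Cfsg.Agent.Lib.Helper2_GallagherExt
import Cfsg.Agent.Lib.Helper2_PermInd
import Cfsg.Agent.Lib.Helper2_QuasiElem
import Cfsg.Agent.Lib.Helper2_BrauerInd
import Cfsg.Agent.Lib.Helper2_BrauerThm
import Cfsg.Agent.Lib.Helper2_NilDecomp
import Cfsg.Agent.Lib.Helper2_DefectZero
import Cfsg.Agent.Lib.Helper2_CharGalois2
import Cfsg.Agent.Lib.Helper2_CosetAvg
import Cfsg.Agent.Lib.Helper2_Thompson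
import Cfsg.Agent.Lib.Helper2_ItoSolv
import Cfsg.Agent.Lib.Helper2_ItoPSolv
import Cfsg.Agent.Lib.Helper2_GaloisConj
import Cfsg.Agent.Lib.Helper2_AbelInertia
import Cfsg.Agent.Lib.Helper2_Gagola
import Cfsg.Agent.Lib.Helper2_GoingDown
import Cfsg.Agent.Lib.Helper2_RelMGroup
import Cfsg.Agent.Lib.Helper2_Gagola2
import Cfsg.Agent.Lib.Helper2_Gagola3
import Cfsg.Agent.S0154

set_option autoImplicit false
open Cfsg

namespace Cfsg.Agent.S4870

open Cfsg.Agent.Lib.Helper2_ClassFn Cfsg.Agent.Lib.Helper2_CharBasic Cfsg.Agent.Lib.Helper2_CharOrtho Cfsg.Agent.Lib.Helper2_Clifford Cfsg.Agent.Lib.Helper2_CharMore Cfsg.Agent.Lib.Helper2_CharNorm Cfsg.Agent.Lib.Helper2_CharValues Cfsg.Agent.Lib.Helper2_CharComplete Cfsg.Agent.Lib.Helper2_CharInd Cfsg.Agent.Lib.Helper2_CharTable Cfsg.Agent.Lib.Helper2_CharFrob Cfsg.Agent.Lib.Helper2_CharDeg Cfsg.Agent.Lib.Helper2_CharSum Cfsg.Agent.Lib.Helper2_CharExtra Cfsg.Agent.Lib.Helper2_CharCentral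 Cfsg.Agent.Lib.Helper2_PermChar Cfsg.Agent.Lib.Helper2_FrobSchur Cfsg.Agent.Lib.Helper2_CliffordCorr Cfsg.Agent.Lib.Helper2_CharKernel Cfsg.Agent.Lib.Helper2_CyclicTI Cfsg.Agent.Lib.Helper2_CharGalois Cfsg.Agent.Lib.Helper2_CharInt Cfsg.Agent.Lib.Helper2_CharBurnside Cfsg.Agent.Lib.Helper2_CharCenter Cfsg.Agent.Lib.Helper2_Ito Cfsg.Agent.Lib.Helper2_Gallagher Cfsg.Agent.Lib.Helper2_Artin Cfsg.Agent.Lib.Helper2_MGroup Cfsg.Agent.Lib.Helper2_RepEquiv Cfsg.Agent.Lib.Helper2_CyclicExt Cfsg.Agent.Lib.Helper2_Extraspecial Cfsg.Agent.Lib.Helper2_ProjLift Cfsg.Agent.Lib.Helper2_CentralExt Cfsg.Agent.Lib.Helper2_SylowExt Cfsg.Agent.Lib.Helper2_DetChar Cfsg.Agent.Lib.Helper2_LinExt Cfsg.Agent.Lib.Helper2_DetExt Cfsg.Agent.Lib.Helper2_GallagherExt Cfsg.Agent.Lib.Helper2_PermInd Cfsg.Agent.Lib.Helper2_QuasiElem Cfsg.Agent.Lib.Helper2_BrauerInd Cfsg.Agent.Lib.Helper2_BrauerThm Cfsg.Agent.Lib.Helper2_NilDecomp Cfsg.Agent.Lib.Helper2_DefectZero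 Cfsg.Agent.Lib.Helper2_CharGalois2 Cfsg.Agent.Lib.Helper2_CosetAvg Cfsg.Agent.Lib.Helper2_Thompson Cfsg.Agent.Lib.Helper2_ItoSolv Cfsg.Agent.Lib.Helper2_ItoPSolv Cfsg.Agent.Lib.Helper2_GaloisConj Cfsg.Agent.Lib.Helper2_AbelInertia Cfsg.Agent.Lib.Helper2_Gagola Cfsg.Agent.Lib.Helper2_GoingDown Cfsg.Agent.Lib.Helper2_RelMGroup Cfsg.Agent.Lib.Helper2_Gagola2 Cfsg.Agent.Lib.Helper2_Gagola3
open scoped Pointwise
section Pre

variable {G : Type*} [Group G]

theorem le_commutator_of_minimal (N : Subgroup G) (hN : N.Normal)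
    (hmin : ∀ M : Subgroup G, M.Normal → M ≤ N → M = ⊥ ∨ M = N)
    (hna : ¬ IsMulCommutative ↥N) : N ≤ commutator G := by
  haveI := hN
  have hM : (⁅N, N⁆ : Subgroup G).Normal := inferInstance
  have hle : ⁅N, N⁆ ≤ N := Subgroup.commutator_le_right N N
  rcases hmin _ hM hle with h | h
  · exfalso
    apply hna
    rw [Subgroup.commutator_eq_bot_iff_le_centralizer] at h
    refine ⟨⟨fun a b => ?_⟩⟩
    apply Subtype.ext
    have := (Subgroup.mem_centralizer_iff.mp (h a.2)) b b.2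
    exact this.symm
  · rw [← h, commutator_def]
    exact Subgroup.commutator_mono le_top le_top

theorem hom_eq_one_of_mem_commutator (ν : G →* ℂˣ) {g : G} (hg : g ∈ commutator G) :
    ν g = 1 := by
  have := Abelianization.commutator_subset_ker ν hg
  exact MonoidHom.mem_ker.mp this

variable [Fintype G]

/-- projection formula for a linear character -/
theorem indFun_mul_hom (I : Subgroup G) (ψ : ↥I → ℂ) (ν : G →* ℂˣ) :
    indFun I (fun x : ↥I => ψ x * ((ν x : ℂˣ) : ℂ)) = fun g => indFun I ψ g * ((ν g : ℂˣ) : ℂ) := by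
  funext g
  rw [indFun_apply, indFun_apply, mul_assoc, Finset.sum_mul]
  congr 1
  refine Finset.sum_congr rfl fun x _ => ?_
  by_cases hx : x⁻¹ * g * x ∈ I
  · rw [extendByZero_of_mem I _ hx, extendByZero_of_mem I _ hx]
    congr 2
    rw [map_mul, map_mul, map_inv, mul_comm, ← mul_assoc, mul_inv_cancel, one_mul]
  · rw [extendByZero_of_not_mem I _ hx, extendByZero_of_not_mem I _ hx, zero_mul]

end Pre

section Key

variable {G : Type*} [Group G] [Fintype G]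

theorem key (N : Subgroup G) [hN : N.Normal] (hNc : N ≤ commutator G) {φ : ↥N → ℂ}
    (hφ : IsIrrCharacter ↥N φ) (I : Subgroup G)
    (hI : ∀ g : G, g ∈ I ↔ ∀ h : ↥N, φ ⟨g * h * g⁻¹, hN.conj_mem h h.2 g⟩ = φ h) (hNI : N ≤ I)
    {ψ : ↥I → ℂ} (hψ : IsIrrCharacter ↥I ψ) (hres : ∀ n : ↥N, ψ ⟨n, hNI n.2⟩ = φ n)
    (ν : G →* ℂˣ) (hfix : (fun g => indFun I ψ g * ((ν g : ℂˣ) : ℂ)) = indFun I ψ) :
    ∀ x ∈ I, ν x = 1 := by
  classical
  haveI : Fintype ↥I := Fintype.ofFinite _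
  haveI : Fintype ↥N := Fintype.ofFinite _
  set νI : ↥I →* ℂˣ := ν.comp I.subtype with hνI
  set ψ' : ↥I → ℂ := fun x => ψ x * ((νI x : ℂˣ) : ℂ) with hψ'
  have hψ'irr : IsIrrCharacter ↥I ψ' := isIrr_mul_hom hψ νI
  have hνN : ∀ n : ↥N, ν (n : G) = 1 := fun n => hom_eq_one_of_mem_commutator ν (hNc n.2)
  have hr : (fun h : ↥N => ψ ⟨h, hNI h.2⟩) = (1 : ℂ) • φ := by
    funext n
    rw [Pi.smul_apply, smul_eq_mul, one_mul]
    exact hres n
  have hr' : (fun h : ↥N => ψ' ⟨h, hNI h.2⟩) = (1 : ℂ) • φ := by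
    funext n
    rw [Pi.smul_apply, smul_eq_mul, one_mul]
    change ψ ⟨n, hNI n.2⟩ * ((ν (n : G) : ℂˣ) : ℂ) = φ n
    rw [hνN n, hres n, Units.val_one, mul_one]
  have hind : indFun I ψ' = indFun I ψ := by
    have := indFun_mul_hom I ψ ν
    rw [← hfix]
    exact this
  have heq : ψ' = ψ := clifford_corr_inj N I hφ hI hNI hψ'irr hψ 1 1 one_ne_zero one_ne_zero
    hr' hr hind
  set N' : Subgroup ↥I := N.subgroupOf I with hN'
  haveI : N'.Normal := by rw [hN']; infer_instance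
  haveI : Fintype ↥N' := Fintype.ofFinite _
  haveI : Fintype (↥I ⧸ N') := Fintype.ofFinite _
  have hψN' : IsIrrCharacter ↥N' (fun n : ↥N' => ψ n) := by
    let e : ↥N' ≃* ↥N := Subgroup.subgroupOfEquivOfLe hNI
    have := IsIrrCharacter.comp_mulEquiv hφ e
    convert this using 1
    funext n
    rw [← hres (e n)]
    rfl
  have hker : N' ≤ νI.ker := by
    intro x hx
    rw [MonoidHom.mem_ker]
    have hxN : (x : G) ∈ N := Subgroup.mem_subgroupOf.mp hx
    exact hνN ⟨x, hxN⟩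
  set β : ↥I ⧸ N' →* ℂˣ := QuotientGroup.lift N' νI hker with hβ
  have hβirr := isIrrCharacter_of_hom β
  have h1irr : IsIrrCharacter (↥I ⧸ N') (fun _ => (1 : ℂ)) := isIrrCharacter_one
  have hg := gallagher N' hψ hψN' hβirr h1irr
  have e1 : infl N' (fun q => ((β q : ℂˣ) : ℂ)) * ψ = ψ := by
    funext x
    rw [Pi.mul_apply, infl_apply]
    have : β (x : ↥I ⧸ N') = νI x := QuotientGroup.lift_mk N' hker _
    rw [this, mul_comm]
    exact congrFun heq x
  have e2 : infl N' (fun _ : ↥I ⧸ N' => (1 : ℂ)) * ψ = ψ := by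
    funext x
    rw [Pi.mul_apply, infl_apply, one_mul]
  rw [e1, e2, classInner_irr_self hψ] at hg
  have hβ1 : (fun q => ((β q : ℂˣ) : ℂ)) = fun _ => (1 : ℂ) := by
    by_contra hne
    rw [if_neg hne] at hg
    exact one_ne_zero hg
  intro x hx
  have h3 := congrFun hβ1 ((⟨x, hx⟩ : ↥I) : ↥I ⧸ N')
  have h2 : β ((⟨x, hx⟩ : ↥I) : ↥I ⧸ N') = νI ⟨x, hx⟩ := QuotientGroup.lift_mk N' hker _
  simp only [h2] at h3
  exact Units.ext h3

open Classical in
theorem card_trivial_on (I : Subgroup G) :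
    ((irrFinset G).filter (fun χ => χ 1 = 1 ∧ ∀ x ∈ I, χ x = 1)).card ≤ I.index := by
  classical
  haveI : Fintype ↥I := Fintype.ofFinite _
  set π := indFun I (fun _ : ↥I => (1 : ℂ)) with hπ
  have hπc : IsCharacter G π := IsCharacter.indFun isCharacter_one
  have hexp := IsClassFunction.expansion (IsCharacter.isClassFunction hπc)
  have h1 := congrFun hexp 1
  rw [Finset.sum_apply] at h1
  have hπ1 : π 1 = (I.index : ℂ) := by rw [hπ, indFun_one, mul_one]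
  rw [hπ1] at h1
  have hre := congrArg Complex.re h1
  rw [Complex.natCast_re, Complex.re_sum] at hre
  set S := (irrFinset G).filter (fun χ => χ 1 = 1 ∧ ∀ x ∈ I, χ x = 1) with hS
  have hsub : S ⊆ irrFinset G := Finset.filter_subset _ _
  have hnonneg : ∀ χ ∈ irrFinset G, 0 ≤ ((classInner π χ • χ) 1).re := by
    intro χ hχ
    obtain ⟨n, hn⟩ := IsCharacter.classInner_nat hπc
      (IsIrrCharacter.isCharacter (mem_irrFinset.mp hχ))
    obtain ⟨d, _, hd⟩ := IsIrrCharacter.apply_one (mem_irrFinset.mp hχ)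
    rw [Pi.smul_apply, smul_eq_mul, hn, hd, ← Nat.cast_mul, Complex.natCast_re]
    exact Nat.cast_nonneg _
  have hS1 : ∀ χ ∈ S, ((classInner π χ • χ) 1).re = 1 := by
    intro χ hχ
    obtain ⟨hχirr, hχ1, hχI⟩ := Finset.mem_filter.mp hχ
    have h5 : classInner π χ = 1 := by
      rw [hπ, frobenius_reciprocity I _ _ (IsCharacter.isClassFunction
        (IsIrrCharacter.isCharacter (mem_irrFinset.mp hχirr)))]
      have h6 : (fun h : ↥I => χ h) = fun _ => (1 : ℂ) := by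
        funext h
        exact hχI h h.2
      rw [h6]
      exact classInner_irr_self (isIrrCharacter_one (G := ↥I))
    rw [Pi.smul_apply, smul_eq_mul, h5, one_mul, hχ1, Complex.one_re]
  have hfin : (S.card : ℝ) ≤ I.index := by
    rw [hre]
    calc (S.card : ℝ) = ∑ χ ∈ S, (1 : ℝ) := by simp
      _ = ∑ χ ∈ S, ((classInner π χ • χ) 1).re :=
          (Finset.sum_congr rfl fun χ hχ => (hS1 χ hχ).symm)
      _ ≤ ∑ χ ∈ irrFinset G, ((classInner π χ • χ) 1).re :=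
          Finset.sum_le_sum_of_subset_of_nonneg hsub (fun χ hχ _ => hnonneg χ hχ)
  exact_mod_cast hfin

theorem card_degree_eq (k : ℕ) :
    Nat.card {χ : Cfsg.IrrCharacter G // Cfsg.charDegree (χ : G → ℂ) = k}
      = ((irrFinset G).filter (fun χ => χ 1 = (k : ℂ))).card := by
  classical
  rw [← Nat.card_eq_finsetCard]
  apply Nat.card_congr
  have hiff : ∀ χ : G → ℂ, IsIrrCharacter G χ → (charDegree χ = k ↔ χ 1 = (k : ℂ)) := by
    intro χ hχ
    obtain ⟨n, _, hn⟩ := IsIrrCharacter.apply_one hχ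
    rw [charDegree_eq hn, hn]
    exact ⟨fun h => by rw [h], fun h => by exact_mod_cast h⟩
  exact
    { toFun := fun χ => ⟨χ.1.1, Finset.mem_filter.mpr ⟨mem_irrFinset.mpr χ.1.2,
        (hiff _ χ.1.2).mp χ.2⟩⟩
      invFun := fun χ => ⟨⟨χ.1, mem_irrFinset.mp (Finset.mem_filter.mp χ.2).1⟩,
        (hiff _ (mem_irrFinset.mp (Finset.mem_filter.mp χ.2).1)).mpr (Finset.mem_filter.mp χ.2).2⟩
      left_inv := fun _ => rfl
      right_inv := fun _ => rfl }

end Key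



/-- Let G be a finite group with a non-abelian minimal normal subgroup N, and let φ be an irreducible complex character of N with stabilizer I in G (the elements g with φ(g n g⁻¹) = φ(n) for all n ∈ N) such that φ extends to an irreducible character of I. Put d = φ(1)·[G : I]. Then the number of linear characters of G is at most [G : I] times the number of irreducible characters of G of degree d. -/
theorem result {G : Type*} [Group G] [Finite G] (N : Subgroup G) (hN : N.Normal) (hN1 : N ≠ ⊥) (hmin : ∀ M : Subgroup G, M.Normal → M ≤ N → M = ⊥ ∨ M = N) (hna : ¬ IsMulCommutative ↥N) (φ : Cfsg.IrrCharacter ↥N) (I : Subgroup G) (hI : ∀ g : G, g ∈ I ↔ ∀ n n' : ↥N, (n' : G) = g * (n : G) * g⁻¹ → (φ : ↥N → ℂ) n' = (φ : ↥N → ℂ) n) (hNI : N ≤ I) (hext : ∃ ψ : Cfsg.IrrCharacter ↥I, ∀ n : ↥N, (ψ : ↥I → ℂ) (Subgroup.inclusion hNI n) = (φ : ↥N → ℂ) n) : Nat.card {χ : Cfsg.IrrCharacter G // Cfsg.charDegree (χ : G → ℂ) = 1}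 ≤ I.index * Nat.card {χ : Cfsg.IrrCharacter G // Cfsg.charDegree (χ : G → ℂ) = Cfsg.charDegree (φ : ↥N → ℂ) * I.index} := by
  classical
  haveI := Fintype.ofFinite G
  haveI := hN
  haveI : Fintype ↥I := Fintype.ofFinite _
  haveI : Fintype ↥N := Fintype.ofFinite _
  obtain ⟨φ, hφ⟩ := φ
  obtain ⟨⟨ψ, hψ⟩, hψφ⟩ := hext
  change ∀ n : ↥N, ψ (Subgroup.inclusion hNI n) = φ n at hψφ
  change ∀ g : G, g ∈ I ↔ ∀ n n' : ↥N, (n' : G) = g * (n : G) * g⁻¹ → φ n' = φ n at hI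
  have hNc := le_commutator_of_minimal N hN hmin hna
  have hI' : ∀ g : G, g ∈ I ↔ ∀ h : ↥N, φ ⟨g * h * g⁻¹, hN.conj_mem h h.2 g⟩ = φ h := by
    intro g
    rw [hI g]
    constructor
    · intro h n
      exact h n ⟨g * n * g⁻¹, hN.conj_mem n n.2 g⟩ rfl
    · intro h n n' hn'
      have h1 := h n
      have h2 : n' = ⟨g * n * g⁻¹, hN.conj_mem n n.2 g⟩ := Subtype.ext hn'
      rw [h2]
      exact h1
  have hres : ∀ n : ↥N, ψ ⟨n, hNI n.2⟩ = φ n := hψφ
  obtain ⟨dφ, hdφ0, hdφ⟩ := IsIrrCharacter.apply_one hφ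
  have hcdφ : Cfsg.charDegree φ = dφ := charDegree_eq hdφ
  set χ₀ := indFun I ψ with hχ₀
  have hr : (fun h : ↥N => ψ ⟨h, hNI h.2⟩) = (1 : ℂ) • φ := by
    funext n
    rw [Pi.smul_apply, smul_eq_mul, one_mul]
    exact hres n
  obtain ⟨hχ₀irr, -⟩ := clifford_corr N I hφ hI' hNI hψ 1 one_ne_zero hr
  have hχ₀1 : χ₀ 1 = ((dφ * I.index : ℕ) : ℂ) := by
    rw [hχ₀, indFun_one]
    have h1 : ψ 1 = φ 1 := hres 1
    rw [h1, hdφ]
    push_cast
    ring
  rw [show (1 : ℕ) = 1 from rfl, card_degree_eq 1, hcdφ, card_degree_eq (dφ * I.index)]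
  set L := (irrFinset G).filter (fun χ => χ 1 = ((1 : ℕ) : ℂ)) with hL
  set D := (irrFinset G).filter (fun χ => χ 1 = ((dφ * I.index : ℕ) : ℂ)) with hD
  set F : (G → ℂ) → (G → ℂ) := fun lam => fun g => χ₀ g * lam g with hF
  apply Finset.card_le_mul_card_image_of_maps_to (f := F)
  · intro lam hlam
    obtain ⟨hirr, h1⟩ := Finset.mem_filter.mp hlam
    rw [Nat.cast_one] at h1
    obtain ⟨ω, rfl⟩ := Cfsg.Agent.S0154.exists_hom_of_degree_one lam (mem_irrFinset.mp hirr) h1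
    rw [hD, Finset.mem_filter, mem_irrFinset]
    refine ⟨isIrr_mul_hom hχ₀irr ω, ?_⟩
    simp only [hF]
    rw [hχ₀1, map_one, Units.val_one, mul_one]
  · intro b hb
    by_cases hne : (L.filter (fun a => F a = b)).Nonempty
    · obtain ⟨μ, hμ⟩ := hne
      obtain ⟨hμL, hμb⟩ := Finset.mem_filter.mp hμ
      obtain ⟨hμirr, hμ1⟩ := Finset.mem_filter.mp hμL
      rw [Nat.cast_one] at hμ1
      obtain ⟨ωμ, rfl⟩ := Cfsg.Agent.S0154.exists_hom_of_degree_one μ (mem_irrFinset.mp hμirr) hμ1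
      refine le_trans ?_ (card_trivial_on I)
      apply Finset.card_le_card_of_injOn (fun lam => fun g => lam g * ((ωμ g⁻¹ : ℂˣ) : ℂ))
      · intro lam hlam
        obtain ⟨hlamL, hlamb⟩ := Finset.mem_filter.mp hlam
        obtain ⟨hlamirr, hlam1⟩ := Finset.mem_filter.mp hlamL
        rw [Nat.cast_one] at hlam1
        obtain ⟨ω, rfl⟩ := Cfsg.Agent.S0154.exists_hom_of_degree_one lam
          (mem_irrFinset.mp hlamirr) hlam1
        set ν : G →* ℂˣ := ω * ωμ⁻¹ with hν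
        have hνval : ∀ g : G, ((ν g : ℂˣ) : ℂ) = ((ω g : ℂˣ) : ℂ) * ((ωμ g⁻¹ : ℂˣ) : ℂ) := by
          intro g
          rw [hν, MonoidHom.mul_apply, MonoidHom.inv_apply, Units.val_mul, map_inv]
        have hfix : (fun g => indFun I ψ g * ((ν g : ℂˣ) : ℂ)) = indFun I ψ := by
          funext g
          rw [hνval g]
          have h1 := congrFun (hlamb.trans hμb.symm) g
          simp only [hF] at h1
          rw [← mul_assoc, ← hχ₀, h1, mul_assoc, ← Units.val_mul, ← map_mul, mul_inv_cancel,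
            map_one, Units.val_one, mul_one]
        have hkey := key N hNc hφ I hI' hNI hψ hres ν hfix
        have hfun : (fun g => ((ω g : ℂˣ) : ℂ) * ((ωμ g⁻¹ : ℂˣ) : ℂ))
            = fun g => ((ν g : ℂˣ) : ℂ) := by
          funext g
          rw [hνval g]
        rw [Finset.mem_coe, Finset.mem_filter]
        change (fun g => ((ω g : ℂˣ) : ℂ) * ((ωμ g⁻¹ : ℂˣ) : ℂ)) ∈ irrFinset G ∧
          (fun g => ((ω g : ℂˣ) : ℂ) * ((ωμ g⁻¹ : ℂˣ) : ℂ)) 1 = 1 ∧
          ∀ x ∈ I, (fun g => ((ω g : ℂˣ) : ℂ) * ((ωμ g⁻¹ : ℂˣ) : ℂ)) x = 1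
        rw [hfun]
        refine ⟨mem_irrFinset.mpr (isIrrCharacter_of_hom ν), ?_, ?_⟩
        · change ((ν 1 : ℂˣ) : ℂ) = 1
          rw [map_one, Units.val_one]
        · intro x hx
          change ((ν x : ℂˣ) : ℂ) = 1
          rw [hkey x hx, Units.val_one]
      · intro lam hlam lam' hlam' heq
        funext g
        have h1 := congrFun heq g
        simp only at h1
        have hne0 : ((ωμ g⁻¹ : ℂˣ) : ℂ) ≠ 0 := Units.ne_zero _
        exact mul_right_cancel₀ hne0 h1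
    · rw [Finset.not_nonempty_iff_eq_empty.mp hne, Finset.card_empty]
      exact Nat.zero_le _

end Cfsg.Agent.S4870
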