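import Cfsg.Statements.S4956
import Cfsg.Agent.Lib.Helper2_ClassFn
import Cfsg.Agent.Lib.Helper2_CharBasic
import Cfsg.Agent.Lib.Helper2_CharOrtho
import Cfsg.Agent.Lib.Helper2_Clifford
import Cfsg.Agent.Lib.Helper2_CharMore
import Cfsg.Agent.Lib.Helper2_CharNorm
import Cfsg.Agent.Lib.Helper2_CharValues
import Cfsg.Agent.Lib.Helper2_CharComplete
import Cfsg.Agent.Lib.Helper2_CharInd
import Cfsg.Agent.Lib.Helper2_CharTable
import Cfsg.Agent.Lib.Helper2_CharFrob
import Cfsg.Agent.Lib.Helper2_CharDeg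
import Cfsg.Agent.Lib.Helper2_CharSum
import Cfsg.Agent.Lib.Helper2_CharExtra
import Cfsg.Agent.Lib.Helper2_CharCentral
import Cfsg.Agent.Lib.Helper2_PermChar
import Cfsg.Agent.Lib.Helper2_FrobSchur
import Cfsg.Agent.Lib.Helper2_CliffordCorr
import Cfsg.Agent.Lib.Helper2_CharKernel
import Cfsg.Agent.Lib.Helper2_CyclicTI
import Cfsg.Agent.Lib.Helper2_CharGalois
import Cfsg.Agent.Lib.Helper2_CharInt
import Cfsg.Agent.Lib.Helper2_CharBurnside
import Cfsg.Agent.Lib.Helper2_CharCenter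
import Cfsg.Agent.Lib.Helper2_Ito
import Cfsg.Agent.Lib.Helper2_Gallagher
import Cfsg.Agent.Lib.Helper2_Artin
import Cfsg.Agent.Lib.Helper2_MGroup
import Cfsg.Agent.Lib.Helper2_RepEquiv
import Cfsg.Agent.Lib.Helper2_CyclicExt
import Cfsg.Agent.Lib.Helper2_Extraspecial
import Cfsg.Agent.Lib.Helper2_ProjLift
import Cfsg.Agent.Lib.Helper2_CentralExt
import Cfsg.Agent.Lib.Helper2_SylowExt
import Cfsg.Agent.Lib.Helper2_DetChar
import Cfsg.Agent.Lib.Helper2_LinExt
import Cfsg.Agent.Lib.Helper2_DetExt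
import Cfsg.Agent.Lib.Helper2_GallagherExt
import Cfsg.Agent.Lib.Helper2_PermInd
import Cfsg.Agent.Lib.Helper2_QuasiElem
import Cfsg.Agent.Lib.Helper2_BrauerInd
import Cfsg.Agent.Lib.Helper2_BrauerThm
import Cfsg.Agent.Lib.Helper2_NilDecomp
import Cfsg.Agent.Lib.Helper2_DefectZero
import Cfsg.Agent.Lib.Helper2_CharGalois2
import Cfsg.Agent.Lib.Helper2_CosetAvg
import Cfsg.Agent.Lib.Helper2_Thompson
import Cfsg.Agent.Lib.Helper2_ItoSolv
import Cfsg.Agent.Lib.Helper2_ItoPSolv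
import Cfsg.Agent.Lib.Helper2_GaloisConj
import Cfsg.Agent.Lib.Helper2_AbelInertia
import Cfsg.Agent.Lib.Helper2_Gagola
import Cfsg.Agent.Lib.Helper2_GoingDown
import Cfsg.Agent.Lib.Helper2_RelMGroup
import Cfsg.Agent.Lib.Helper2_Gagola2
import Cfsg.Agent.Lib.Helper2_Gagola3

set_option autoImplicit false
open Cfsg

namespace Cfsg.Agent.S4956

open Cfsg.Agent.Lib.Helper2_ClassFn Cfsg.Agent.Lib.Helper2_CharBasic Cfsg.Agent.Lib.Helper2_CharOrtho Cfsg.Agent.Lib.Helper2_Clifford Cfsg.Agent.Lib.Helper2_CharMore Cfsg.Agent.Lib.Helper2_CharNorm Cfsg.Agent.Lib.Helper2_CharValues Cfsg.Agent.Lib.Helper2_CharComplete Cfsg.Agent.Lib.Helper2_CharInd Cfsg.Agent.Lib.Helper2_CharTable Cfsg.Agent.Lib.Helper2_CharFrob Cfsg.Agent.Lib.Helper2_CharDeg Cfsg.Agent.Lib.Helper2_CharSum Cfsg.Agent.Lib.Helper2_CharExtra Cfsg.Agent.Lib.Helper2_CharCentral Cfsg.Agent.Lib.Helper2_PermChar Cfsg.Agent.Lib.Helper2_FrobSchur Cfsg.Agent.Lib.Helper2_CliffordCorr Cfsg.Agent.Lib.Helper2_CharKernel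 Cfsg.Agent.Lib.Helper2_CyclicTI Cfsg.Agent.Lib.Helper2_CharGalois Cfsg.Agent.Lib.Helper2_CharInt Cfsg.Agent.Lib.Helper2_CharBurnside Cfsg.Agent.Lib.Helper2_CharCenter Cfsg.Agent.Lib.Helper2_Ito Cfsg.Agent.Lib.Helper2_Gallagher Cfsg.Agent.Lib.Helper2_Artin Cfsg.Agent.Lib.Helper2_MGroup Cfsg.Agent.Lib.Helper2_RepEquiv Cfsg.Agent.Lib.Helper2_CyclicExt Cfsg.Agent.Lib.Helper2_Extraspecial Cfsg.Agent.Lib.Helper2_ProjLift Cfsg.Agent.Lib.Helper2_CentralExt Cfsg.Agent.Lib.Helper2_SylowExt Cfsg.Agent.Lib.Helper2_DetChar Cfsg.Agent.Lib.Helper2_LinExt Cfsg.Agent.Lib.Helper2_DetExt Cfsg.Agent.Lib.Helper2_GallagherExt Cfsg.Agent.Lib.Helper2_PermInd Cfsg.Agent.Lib.Helper2_QuasiElem Cfsg.Agent.Lib.Helper2_BrauerInd Cfsg.Agent.Lib.Helper2_BrauerThm Cfsg.Agent.Lib.Helper2_NilDecomp Cfsg.Agent.Lib.Helper2_DefectZero Cfsg.Agent.Lib.Helper2_CharGalois2 Cfsg.Agent.Lib.Helper2_CosetAvg Cfsg.Agent.Lib.Helper2_Thompson Cfsg.Agent.Lib.Helper2_ItoSolv Cfsg.Agent.Lib.Helper2_ItoPSolv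 Cfsg.Agent.Lib.Helper2_GaloisConj Cfsg.Agent.Lib.Helper2_AbelInertia Cfsg.Agent.Lib.Helper2_Gagola Cfsg.Agent.Lib.Helper2_GoingDown Cfsg.Agent.Lib.Helper2_RelMGroup Cfsg.Agent.Lib.Helper2_Gagola2 Cfsg.Agent.Lib.Helper2_Gagola3
open scoped Pointwise



open Classical in
theorem core {A : Type*} [Group A] [Fintype A] (α β : A →* A)
    (H1 : ∀ u, α (α u) = 1 → α u = 1) (H2 : ∀ u, α (β u) = β (α u)) :
    ∑ a : A, ∑ b : A, (if β a = α b then 1 else 0) =
      Fintype.card A * ∑ c : A, (if α c = 1 ∧ β c = 1 then 1 else 0) := by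
  have hdisj : Disjoint α.ker α.range := by
    rw [Subgroup.disjoint_def]
    intro x hx1 hx2
    obtain ⟨u, rfl⟩ := hx2
    exact H1 u (MonoidHom.mem_ker.mp hx1)
  have hcard : Nat.card α.ker * Nat.card α.range = Nat.card A := by
    rw [← Subgroup.index_ker, Subgroup.card_mul_index]
  have hbij : Function.Bijective (fun x : α.ker × α.range => (x.1 : A) * x.2) :=
    Subgroup.isComplement'_of_card_mul_and_disjoint hcard hdisj
  rw [← Function.Bijective.sum_comp hbij (fun a => ∑ b : A, (if β a = α b then 1 else 0))]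
  have hker : ∑ b : A, (if α b = 1 then 1 else 0) = Nat.card α.ker := by
    rw [Nat.card_eq_fintype_card, Fintype.card_subtype, Finset.card_filter]
    exact Finset.sum_congr rfl (fun b _ => if_congr MonoidHom.mem_ker.symm rfl rfl)
  have hinner : ∀ x : α.ker × α.range,
      ∑ b : A, (if β ((x.1 : A) * x.2) = α b then 1 else 0) =
        if β x.1 = 1 then Nat.card α.ker else 0 := by
    rintro ⟨⟨c, hc⟩, ⟨i, u, rfl⟩⟩
    simp only
    have hc' : α c = 1 := hc
    have hβc : α (β c) = 1 := by rw [H2, hc', map_one]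
    rw [← Equiv.sum_comp (Equiv.mulRight (β u))
      (fun b => if β (c * α u) = α b then 1 else 0)]
    have h1 : ∀ b : A, (β (c * α u) = α ((Equiv.mulRight (β u)) b)) ↔ (β c = 1 ∧ α b = 1) := by
      intro b
      rw [Equiv.coe_mulRight, map_mul, map_mul, ← H2 u, mul_left_inj]
      constructor
      · intro h
        have : α (α b) = 1 := by rw [← h]; exact hβc
        have h2 := H1 b this
        exact ⟨by rw [h, h2], h2⟩
      · rintro ⟨h1, h2⟩
        rw [h1, h2]
    simp only [h1]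
    by_cases hb : β c = 1
    · simp only [hb, true_and, if_true]
      exact hker
    · simp only [hb, false_and, if_false, Finset.sum_const_zero]
  simp only [hinner]
  rw [Fintype.sum_prod_type]
  have hconst : ∀ x : α.ker, ∑ _y : α.range, (if β (x:A) = 1 then Nat.card α.ker else 0) =
      Nat.card α.range * (if β (x:A) = 1 then Nat.card α.ker else 0) := by
    intro x
    rw [Finset.sum_const, Finset.card_univ, smul_eq_mul]
    simp only [Nat.card_eq_fintype_card]
  simp only [hconst]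
  rw [← Finset.mul_sum]
  have hsub : ∑ c : A, (if α c = 1 ∧ β c = 1 then 1 else 0) =
      ∑ c : α.ker, (if β (c : A) = 1 then 1 else 0) := by
    have : ∀ c : A, (if α c = 1 ∧ β c = 1 then 1 else 0) =
        if c ∈ α.ker then (if β c = 1 then 1 else 0) else 0 := by
      intro c
      by_cases h : α c = 1
      · have h' : c ∈ α.ker := MonoidHom.mem_ker.mpr h
        simp [h, h']
      · have h' : c ∉ α.ker := fun h'' => h (MonoidHom.mem_ker.mp h'')
        simp [h, h']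
    simp only [this]
    rw [← Finset.sum_filter]
    apply Finset.sum_subtype
    intro x
    simp
  rw [hsub, ← Nat.card_eq_fintype_card (α := A), ← hcard]
  simp only [Nat.card_eq_fintype_card]
  have : ∀ c : α.ker, (if β (c : A) = 1 then Fintype.card α.ker else 0) =
      Fintype.card α.ker * (if β (c : A) = 1 then 1 else 0) := by
    intro c
    by_cases h : β (c : A) = 1 <;> simp [h]
  simp only [this]
  rw [← Finset.mul_sum]
  ring



theorem comm_pow {X : Type*} [Group X] (g u : X) (hw : g * (u * g * u⁻¹ * g⁻¹) = (u * g * u⁻¹ * g⁻¹) * g) (k : ℕ) :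
    (u * g * u⁻¹ * g⁻¹) ^ k = u * g ^ k * u⁻¹ * (g ^ k)⁻¹ := by
  induction k with
  | zero => simp
  | succ k ih =>
    have hc : Commute g (u * g * u⁻¹ * g⁻¹) := hw
    have hc2 : Commute ((g ^ k)⁻¹) (u * g * u⁻¹ * g⁻¹) := (hc.pow_left k).inv_left
    rw [pow_succ, ih]
    calc u * g ^ k * u⁻¹ * (g ^ k)⁻¹ * (u * g * u⁻¹ * g⁻¹)
        = u * g ^ k * u⁻¹ * ((g ^ k)⁻¹ * (u * g * u⁻¹ * g⁻¹)) := by group
      _ = u * g ^ k * u⁻¹ * ((u * g * u⁻¹ * g⁻¹) * (g ^ k)⁻¹) := by rw [hc2.eq]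
      _ = u * g ^ (k + 1) * u⁻¹ * (g ^ (k + 1))⁻¹ := by
        rw [pow_succ]; group

theorem comm_eq_one {X : Type*} [Group X] (g u : X) (m : ℕ) (hm : (orderOf g).Coprime m)
    (hw : g * (u * g * u⁻¹ * g⁻¹) = (u * g * u⁻¹ * g⁻¹) * g) (hwm : (u * g * u⁻¹ * g⁻¹) ^ m = 1) :
    u * g * u⁻¹ * g⁻¹ = 1 := by
  have h1 : (u * g * u⁻¹ * g⁻¹) ^ (orderOf g) = 1 := by
    rw [comm_pow g u hw, pow_orderOf_eq_one]; group
  have h2 : orderOf (u * g * u⁻¹ * g⁻¹) ∣ orderOf g := orderOf_dvd_of_pow_eq_one h1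
  have h3 : orderOf (u * g * u⁻¹ * g⁻¹) ∣ m := orderOf_dvd_of_pow_eq_one hwm
  have h4 : orderOf (u * g * u⁻¹ * g⁻¹) ∣ 1 := by
    have := Nat.dvd_gcd h2 h3
    rwa [Nat.Coprime.gcd_eq_one hm] at this
  exact orderOf_eq_one_iff.mp (Nat.dvd_one.mp h4)


variable {X : Type*} [Group X]

/-- γ g u = u * (g u⁻¹ g⁻¹) as MonoidHom on V -/
noncomputable def gam (V : Subgroup X) [hn : V.Normal] (hab : ∀ a ∈ V, ∀ b ∈ V, a * b = b * a)
    (g : X) : V →* V :=
  MonoidHom.mk' (fun u => ⟨(u:X) * (g * (u:X)⁻¹ * g⁻¹),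
      V.mul_mem u.2 (hn.conj_mem _ (V.inv_mem u.2) g)⟩)
  (by
    intro u v
    apply Subtype.ext
    simp only [Subgroup.coe_mul]
    have hU : g * (u:X)⁻¹ * g⁻¹ ∈ V := hn.conj_mem _ (V.inv_mem u.2) g
    have hV' : g * (v:X)⁻¹ * g⁻¹ ∈ V := hn.conj_mem _ (V.inv_mem v.2) g
    have e1 : g * ((u:X) * v)⁻¹ * g⁻¹ = (g * (v:X)⁻¹ * g⁻¹) * (g * (u:X)⁻¹ * g⁻¹) := by group
    rw [e1]
    have c1 := hab _ hU _ (V.mul_mem v.2 hV')
    calc (u:X) * v * ((g * (v:X)⁻¹ * g⁻¹) * (g * (u:X)⁻¹ * g⁻¹))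
        = u * ((v * (g * (v:X)⁻¹ * g⁻¹)) * (g * (u:X)⁻¹ * g⁻¹)) := by group
      _ = u * ((g * (u:X)⁻¹ * g⁻¹) * (v * (g * (v:X)⁻¹ * g⁻¹))) := by rw [c1]
      _ = _ := by group)

theorem gam_coe (V : Subgroup X) [hn : V.Normal] (hab : ∀ a ∈ V, ∀ b ∈ V, a * b = b * a)
    (g : X) (u : V) : ((gam V hab g u : V) : X) = (u:X) * (g * (u:X)⁻¹ * g⁻¹) := rfl

theorem gam_eq_one_iff (V : Subgroup X) [hn : V.Normal] (hab : ∀ a ∈ V, ∀ b ∈ V, a * b = b * a)
    (g : X) (u : V) : gam V hab g u = 1 ↔ g * u = u * g := by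
  rw [Subtype.ext_iff, gam_coe, Subgroup.coe_one]
  constructor
  · intro h
    calc g * (u:X) = ((u:X) * (g * (u:X)⁻¹ * g⁻¹))⁻¹ * u * g := by group
      _ = u * g := by rw [h]; group
  · intro h
    calc (u:X) * (g * (u:X)⁻¹ * g⁻¹) = (u * g) * (u:X)⁻¹ * g⁻¹ := by group
      _ = 1 := by rw [← h]; group


theorem gam_H1 [Finite X] (V : Subgroup X) [hn : V.Normal] (hab : ∀ a ∈ V, ∀ b ∈ V, a * b = b * a)
    (g : X) (hg : (orderOf g).Coprime (Nat.card V)) (u : V)
    (h : gam V hab g (gam V hab g u) = 1) : gam V hab g u = 1 := by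
  rw [gam_eq_one_iff] at h
  rw [gam_coe] at h
  have e : (u:X) * (g * (u:X)⁻¹ * g⁻¹) = u * g * (u:X)⁻¹ * g⁻¹ := by group
  rw [e] at h
  have hpow : ((u:X) * g * (u:X)⁻¹ * g⁻¹) ^ (Nat.card V) = 1 := by
    have h1 : (gam V hab g u) ^ (Nat.card V) = 1 := pow_card_eq_one'
    have h2 := congrArg Subtype.val h1
    rw [Subgroup.coe_pow, gam_coe, e, Subgroup.coe_one] at h2
    exact h2
  have := comm_eq_one g u (Nat.card V) hg h hpow
  apply Subtype.ext
  rw [gam_coe, e, this, Subgroup.coe_one]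

theorem gam_H2 (V : Subgroup X) [hn : V.Normal] (hab : ∀ a ∈ V, ∀ b ∈ V, a * b = b * a)
    (g h : X) (hgh : g * h = h * g) (u : V) :
    gam V hab g (gam V hab h u) = gam V hab h (gam V hab g u) := by
  apply Subtype.ext
  rw [gam_coe, gam_coe, gam_coe, gam_coe]
  have hP : h * (u:X)⁻¹ * h⁻¹ ∈ V := hn.conj_mem _ (V.inv_mem u.2) h
  have hR : g * (u:X)⁻¹ * g⁻¹ ∈ V := hn.conj_mem _ (V.inv_mem u.2) g
  have hQ : (g * h) * (u:X) * (g * h)⁻¹ ∈ V := hn.conj_mem _ u.2 (g * h)
  have e1 : (u:X) * (h * (u:X)⁻¹ * h⁻¹) * (g * ((u:X) * (h * (u:X)⁻¹ * h⁻¹))⁻¹ * g⁻¹) =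
      u * ((h * (u:X)⁻¹ * h⁻¹) * (((g * h) * (u:X) * (g * h)⁻¹) * (g * (u:X)⁻¹ * g⁻¹))) := by group
  have e2 : (u:X) * (g * (u:X)⁻¹ * g⁻¹) * (h * ((u:X) * (g * (u:X)⁻¹ * g⁻¹))⁻¹ * h⁻¹) =
      u * ((g * (u:X)⁻¹ * g⁻¹) * (((h * g) * (u:X) * (h * g)⁻¹) * (h * (u:X)⁻¹ * h⁻¹))) := by group
  rw [e1, e2, ← hgh]
  congr 1
  calc (h * (u:X)⁻¹ * h⁻¹) * (((g * h) * (u:X) * (g * h)⁻¹) * (g * (u:X)⁻¹ * g⁻¹))
      = (((g * h) * (u:X) * (g * h)⁻¹) * (g * (u:X)⁻¹ * g⁻¹)) * (h * (u:X)⁻¹ * h⁻¹) :=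
        hab _ hP _ (V.mul_mem hQ hR)
    _ = ((g * (u:X)⁻¹ * g⁻¹) * ((g * h) * (u:X) * (g * h)⁻¹)) * (h * (u:X)⁻¹ * h⁻¹) := by
        rw [hab _ hQ _ hR]
    _ = _ := mul_assoc _ _ _

theorem comm_swap (a A' b B : X) (hc : A' * B = B * A') :
    a * B = b * A' ↔ a * A'⁻¹ = b * B⁻¹ := by
  constructor
  · intro h
    calc a * A'⁻¹ = (a * B) * (A' * B)⁻¹ := by group
      _ = (b * A') * (B * A')⁻¹ := by rw [h, hc]
      _ = b * B⁻¹ := by group
  · intro h
    calc a * B = (a * A'⁻¹) * (A' * B) := by group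
      _ = (b * B⁻¹) * (B * A') := by rw [h, hc]
      _ = b * A' := by group

open Classical in
theorem count_N [Finite X] (V G : Subgroup X) [hn : V.Normal]
    (hab : ∀ a ∈ V, ∀ b ∈ V, a * b = b * a) (hGV : Subgroup.IsComplement' V G)
    (hcop : (Nat.card V).Coprime (Nat.card G)) [Fintype V]
    (g h : X) (hg : g ∈ G) (hh : h ∈ G) :
    ∑ a : V, ∑ b : V, (if (a:X) * g * (b * h) = b * h * (a * g) then 1 else 0) =
      if g * h = h * g then
        Fintype.card V * ∑ c : V, (if g * c = c * g ∧ h * c = c * h then 1 else 0) else 0 := by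
  by_cases hgh : g * h = h * g
  · rw [if_pos hgh]
    have hog : (orderOf g).Coprime (Nat.card V) := by
      have h1 : orderOf g ∣ Nat.card G := by
        have := orderOf_dvd_natCard (⟨g, hg⟩ : G)
        rwa [Subgroup.orderOf_mk] at this
      exact (Nat.Coprime.coprime_dvd_right h1 hcop).symm
    have hcore := core (gam V hab g) (gam V hab h) (gam_H1 V hab g hog) (gam_H2 V hab g h hgh)
    have key : ∀ a b : V, ((a:X) * g * (b * h) = b * h * (a * g)) ↔
        gam V hab h a = gam V hab g b := by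
      intro a b
      rw [Subtype.ext_iff, gam_coe, gam_coe]
      have hA : h * (a:X) * h⁻¹ ∈ V := hn.conj_mem _ a.2 h
      have hB : g * (b:X) * g⁻¹ ∈ V := hn.conj_mem _ b.2 g
      have e1 : h * (a:X)⁻¹ * h⁻¹ = (h * (a:X) * h⁻¹)⁻¹ := by group
      have e2 : g * (b:X)⁻¹ * g⁻¹ = (g * (b:X) * g⁻¹)⁻¹ := by group
      rw [e1, e2, ← comm_swap _ _ _ _ (hab _ hA _ hB)]
      have e3 : (a:X) * g * (b * h) = (a * (g * b * g⁻¹)) * (g * h) := by group
      have e4 : (b:X) * h * (a * g) = (b * (h * a * h⁻¹)) * (g * h) := by rw [hgh]; group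
      rw [e3, e4, mul_left_inj]
    have hk2 : ∀ c : V, (g * (c:X) = c * g ∧ h * (c:X) = c * h) ↔
        (gam V hab g c = 1 ∧ gam V hab h c = 1) := by
      intro c
      rw [gam_eq_one_iff, gam_eq_one_iff]
    rw [Finset.sum_congr rfl (fun a _ => Finset.sum_congr rfl
      (fun b _ => if_congr (key a b) rfl rfl)),
      Finset.sum_congr rfl (fun c _ => if_congr (hk2 c) rfl rfl)]
    convert hcore
  · rw [if_neg hgh]
    apply Finset.sum_eq_zero
    intro a _
    apply Finset.sum_eq_zero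
    intro b _
    rw [if_neg]
    intro hcomm
    apply hgh
    have hA : h * (a:X) * h⁻¹ ∈ V := hn.conj_mem _ a.2 h
    have hB : g * (b:X) * g⁻¹ ∈ V := hn.conj_mem _ b.2 g
    have e3 : (a:X) * g * (b * h) = (a * (g * b * g⁻¹)) * (g * h) := by group
    have e4 : (b:X) * h * (a * g) = (b * (h * a * h⁻¹)) * (h * g) := by group
    rw [e3, e4] at hcomm
    have hinj := hGV.1
    have := @hinj (⟨(a:X) * (g * b * g⁻¹), V.mul_mem a.2 hB⟩, ⟨g * h, G.mul_mem hg hh⟩)
      (⟨(b:X) * (h * a * h⁻¹), V.mul_mem b.2 hA⟩, ⟨h * g, G.mul_mem hh hg⟩) hcomm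
    have h2 := congrArg (fun p => (p.2 : X)) this
    exact h2

open Classical in
theorem sum_sub [Fintype X] (K : Subgroup X) [Fintype K] (F : X → ℕ) :
    ∑ x : K, F x = ∑ x : X, (if x ∈ K then F x else 0) := by
  rw [← Finset.sum_filter]
  symm
  apply Finset.sum_subtype
  intro x
  simp

open Classical in
/-- the number of commuting pairs of `G` centralizing `v` -/
noncomputable def ff (G : Subgroup X) [Fintype G] (v : X) : ℕ :=
  ∑ g : G, ∑ h : G,
    (if (g:X) * h = h * g ∧ (g:X) * v = v * g ∧ (h:X) * v = v * h then 1 else 0)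

open Classical in
theorem comm_count [Fintype X] :
    ∑ x : X, ∑ y : X, (if x * y = y * x then 1 else 0) =
      Nat.card (ConjClasses X) * Nat.card X := by
  rw [← card_comm_eq_card_conjClasses_mul_card, Nat.card_eq_fintype_card, Fintype.card_subtype,
    Finset.card_filter, Fintype.sum_prod_type]
  apply Finset.sum_congr rfl
  intro x _
  apply Finset.sum_congr rfl
  intro y _
  exact if_congr (commute_iff_eq x y).symm rfl rfl

open Classical in
theorem ff_eq [Fintype X] (G : Subgroup X) [Fintype G] (v : X) :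
    ff G v = Nat.card (ConjClasses ↥(G ⊓ Subgroup.centralizer ({v} : Set X))) *
      Nat.card ↥(G ⊓ Subgroup.centralizer ({v} : Set X)) := by
  haveI : Fintype ↥(G ⊓ Subgroup.centralizer ({v} : Set X)) := Fintype.ofFinite _
  rw [← card_comm_eq_card_conjClasses_mul_card, Nat.card_eq_fintype_card, Fintype.card_subtype,
    Finset.card_filter, Fintype.sum_prod_type]
  symm
  trans (∑ x : ↥(G ⊓ Subgroup.centralizer ({v} : Set X)),
      ∑ y : ↥(G ⊓ Subgroup.centralizer ({v} : Set X)),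
        (if (x:X) * (y:X) = y * x then 1 else 0))
  · apply Finset.sum_congr rfl
    intro x _
    apply Finset.sum_congr rfl
    intro y _
    apply if_congr _ rfl rfl
    rw [commute_iff_eq, Subtype.ext_iff, Subgroup.coe_mul, Subgroup.coe_mul]
  symm
  rw [ff]
  rw [sum_sub G (fun x => ∑ h : G,
    (if x * (h:X) = h * x ∧ x * v = v * x ∧ (h:X) * v = v * h then 1 else 0))]
  rw [sum_sub (G ⊓ Subgroup.centralizer ({v} : Set X)) (fun x =>
    ∑ y : ↥(G ⊓ Subgroup.centralizer ({v} : Set X)), (if x * (y:X) = y * x then 1 else 0))]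
  apply Finset.sum_congr rfl
  intro x _
  rw [sum_sub G (fun y => (if x * y = y * x ∧ x * v = v * x ∧ y * v = v * y then 1 else 0))]
  rw [sum_sub (G ⊓ Subgroup.centralizer ({v} : Set X)) (fun y => (if x * y = y * x then 1 else 0))]
  simp only [Subgroup.mem_inf, Subgroup.mem_centralizer_singleton_iff]
  by_cases hx : x ∈ G
  · by_cases hxv : x * v = v * x
    · simp only [hx, hxv, true_and, if_true]
      apply Finset.sum_congr rfl
      intro y _
      by_cases hy : y ∈ G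
      · by_cases hyv : y * v = v * y
        · simp [hy, hyv]
        · simp [hy, hyv]
      · simp [hy]
    · simp [hx, hxv]
  · simp [hx]


theorem conj_comm_iff (t x y : X) :
    (t * x * t⁻¹) * (t * y * t⁻¹) = (t * y * t⁻¹) * (t * x * t⁻¹) ↔ x * y = y * x := by
  constructor
  · intro h
    have : t * (x * y) * t⁻¹ = t * (y * x) * t⁻¹ := by
      calc t * (x * y) * t⁻¹ = (t * x * t⁻¹) * (t * y * t⁻¹) := by group
        _ = (t * y * t⁻¹) * (t * x * t⁻¹) := h
        _ = t * (y * x) * t⁻¹ := by group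
    exact mul_left_cancel (mul_right_cancel this)
  · intro h
    calc (t * x * t⁻¹) * (t * y * t⁻¹) = t * (x * y) * t⁻¹ := by group
      _ = t * (y * x) * t⁻¹ := by rw [h]
      _ = _ := by group

open Classical in
theorem ff_conj (G : Subgroup X) [Fintype G] (v t : X) (ht : t ∈ G) :
    ff G (t * v * t⁻¹) = ff G v := by
  rw [ff, ff]
  let e : G ≃ G := (MulAut.conj (⟨t, ht⟩ : G)).toEquiv
  have he : ∀ g : G, ((e g : G) : X) = t * g * t⁻¹ := by
    intro g
    rfl
  rw [← Equiv.sum_comp e]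
  apply Finset.sum_congr rfl
  intro g _
  rw [← Equiv.sum_comp e]
  apply Finset.sum_congr rfl
  intro h _
  apply if_congr _ rfl rfl
  rw [he, he, conj_comm_iff, conj_comm_iff, conj_comm_iff]

open Classical in
theorem card_cent [Fintype X] (G : Subgroup X) [Fintype G] (s : X) :
    ∑ g : G, (if (g:X) * s = s * g then 1 else 0) =
      Nat.card ↥(G ⊓ Subgroup.centralizer ({s} : Set X)) := by
  haveI : Fintype ↥(G ⊓ Subgroup.centralizer ({s} : Set X)) := Fintype.ofFinite _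
  rw [Nat.card_eq_fintype_card, ← Finset.card_univ, Finset.card_eq_sum_ones]
  rw [sum_sub G (fun g => if g * s = s * g then 1 else 0)]
  have := sum_sub (G ⊓ Subgroup.centralizer ({s} : Set X)) (fun _ => 1)
  convert this.symm using 1
  · apply Finset.sum_congr rfl
    intro x _
    simp only [Subgroup.mem_inf, Subgroup.mem_centralizer_singleton_iff]
    by_cases hx : x ∈ G
    · by_cases hxv : x * s = s * x <;> simp [hx, hxv]
    · simp [hx]


open Classical in
theorem orb_stab [Fintype X] (V G : Subgroup X) [hn : V.Normal] [Fintype V] [Fintype G]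
    (s : X) (hs : s ∈ V) :
    Nat.card ↥(G ⊓ Subgroup.centralizer ({s} : Set X)) *
      ∑ c : V, (if ∃ g ∈ G, g * (c:X) * g⁻¹ = s then 1 else 0) = Fintype.card G := by
  have hmem : ∀ g : G, (g:X)⁻¹ * s * g ∈ V := by
    intro g
    have := hn.conj_mem s hs (g:X)⁻¹
    rwa [inv_inv] at this
  have h1 : ∀ g : G, ∑ c : V, (if (g:X) * c * (g:X)⁻¹ = s then 1 else 0) = 1 := by
    intro g
    rw [Finset.sum_eq_single (⟨(g:X)⁻¹ * s * g, hmem g⟩ : V)]
    · rw [if_pos]; group
    · intro c _ hc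
      rw [if_neg]
      intro h
      apply hc
      apply Subtype.ext
      show (c:X) = (g:X)⁻¹ * s * g
      rw [← h]; group
    · intro h; exact absurd (Finset.mem_univ _) h
  have h2 : Fintype.card G =
      ∑ g : G, ∑ c : V, (if (g:X) * c * (g:X)⁻¹ = s then 1 else 0) := by
    simp only [h1]; simp
  rw [h2, Finset.sum_comm, Finset.mul_sum]
  apply Finset.sum_congr rfl
  intro c _
  by_cases hc : ∃ g ∈ G, g * (c:X) * g⁻¹ = s
  · rw [if_pos hc, mul_one]
    obtain ⟨g1, hg1, hg1e⟩ := hc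
    rw [← card_cent G s]
    rw [← Equiv.sum_comp (Equiv.mulRight (⟨g1, hg1⟩ : G))
      (fun g : G => if (g:X) * c * (g:X)⁻¹ = s then 1 else 0)]
    apply Finset.sum_congr rfl
    intro g _
    apply if_congr _ rfl rfl
    rw [Equiv.coe_mulRight, Subgroup.coe_mul]
    have e : (g:X) * g1 * c * ((g:X) * g1)⁻¹ = g * (g1 * c * g1⁻¹) * (g:X)⁻¹ := by group
    rw [e, hg1e, mul_inv_eq_iff_eq_mul]
  · rw [if_neg hc, mul_zero]
    symm
    apply Finset.sum_eq_zero
    intro g _
    rw [if_neg]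
    intro h
    exact hc ⟨g, g.2, h⟩



/-- Let X be a finite group, V an abelian normal subgroup of X (any two elements of V commute) and G a complement to V in X whose order is coprime to that of V. Let S be a set of representatives of the orbits of G on V under conjugation: S lies in V and every element of V is conjugate under G to exactly one member of S. Then the number of conjugacy classes of X equals the sum, over s in S, of the number of conjugacy classes of the centralizer of s in G. -/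
theorem result {X : Type*} [Group X] [Finite X] (V : Subgroup X) [V.Normal] (hab : ∀ a ∈ V, ∀ b ∈ V, a * b = b * a) (G : Subgroup X) (hGV : Subgroup.IsComplement' V G) (hcop : (Nat.card V).Coprime (Nat.card G)) (S : Finset X) (hSV : ∀ s ∈ S, s ∈ V) (hrep : ∀ v ∈ V, ∃! s, s ∈ S ∧ ∃ g ∈ G, g * v * g⁻¹ = s) : Nat.card (ConjClasses X) = ∑ s ∈ S, Nat.card (ConjClasses ↥(G ⊓ Subgroup.centralizer ({s} : Set X))) := by
  classical
  haveI : Fintype X := Fintype.ofFinite X
  haveI : Fintype V := Fintype.ofFinite V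
  haveI : Fintype G := Fintype.ofFinite G
  have hbij : Function.Bijective (fun p : V × G => (p.1:X) * p.2) := hGV
  have E1 := comm_count (X := X)
  have E2 : ∑ x : X, ∑ y : X, (if x * y = y * x then 1 else 0) =
      ∑ g : G, ∑ h : G, ∑ a : V, ∑ b : V,
        (if (a:X) * g * (b * h) = b * h * (a * g) then 1 else 0) := by
    rw [← Function.Bijective.sum_comp hbij (fun x => ∑ y : X, (if x * y = y * x then 1 else 0))]
    have hin : ∀ x : X, ∑ y : X, (if x * y = y * x then 1 else 0) =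
        ∑ q : V × G, (if x * ((q.1:X) * q.2) = (q.1:X) * q.2 * x then 1 else 0) := fun x =>
      (Function.Bijective.sum_comp hbij (fun y => if x * y = y * x then 1 else 0)).symm
    simp only [hin]
    simp only [Fintype.sum_prod_type]
    rw [Finset.sum_comm]
    apply Finset.sum_congr rfl
    intro g _
    trans (∑ a : V, ∑ h : G, ∑ b : V,
        (if (a:X) * g * (b * h) = b * h * (a * g) then 1 else 0))
    · exact Finset.sum_congr rfl (fun a _ => Finset.sum_comm)
    · exact Finset.sum_comm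
  have E4 : ∑ g : G, ∑ h : G, ∑ a : V, ∑ b : V,
        (if (a:X) * g * (b * h) = b * h * (a * g) then 1 else 0) =
      Fintype.card V * ∑ c : V, ff G c := by
    have h0 : ∀ g h : G, ∑ a : V, ∑ b : V,
        (if (a:X) * g * (b * h) = b * h * (a * g) then 1 else 0) =
        if (g:X) * h = h * g then Fintype.card V *
          ∑ c : V, (if (g:X) * c = c * g ∧ (h:X) * c = c * h then 1 else 0) else 0 :=
      fun g h => count_N V G hab hGV hcop g h g.2 h.2
    simp only [h0]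
    rw [Finset.mul_sum]
    have h3 : ∀ g h : G, (if (g:X) * h = h * g then Fintype.card V *
          ∑ c : V, (if (g:X) * c = c * g ∧ (h:X) * c = c * h then 1 else 0) else 0) =
        ∑ c : V, Fintype.card V *
          (if (g:X) * h = h * g ∧ (g:X) * c = c * g ∧ (h:X) * c = c * h then 1 else 0) := by
      intro g h
      by_cases hgh : (g:X) * h = h * g
      · simp only [hgh, true_and, if_true]
        rw [Finset.mul_sum]
      · simp only [hgh, false_and, if_false, mul_zero, Finset.sum_const_zero]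
    simp only [h3]
    simp only [ff, Finset.mul_sum]
    trans (∑ g : G, ∑ c : V, ∑ h : G, Fintype.card V *
          (if (g:X) * h = h * g ∧ (g:X) * c = c * g ∧ (h:X) * c = c * h then 1 else 0))
    · exact Finset.sum_congr rfl (fun g _ => Finset.sum_comm)
    · exact Finset.sum_comm
  have E5 : ∑ c : V, ff G c = Fintype.card G *
      ∑ s ∈ S, Nat.card (ConjClasses ↥(G ⊓ Subgroup.centralizer ({s} : Set X))) := by
    have hstep : ∀ c : V, ff G c =
        ∑ s ∈ S, (if ∃ g ∈ G, g * (c:X) * g⁻¹ = s then ff G s else 0) := by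
      intro c
      obtain ⟨s0, ⟨hs0S, g1, hg1, hg1e⟩, huniq⟩ := hrep c c.2
      rw [Finset.sum_eq_single s0]
      · rw [if_pos ⟨g1, hg1, hg1e⟩, ← hg1e, ff_conj G c g1 hg1]
      · intro s hsS hne
        rw [if_neg]
        rintro ⟨g, hg, hge⟩
        exact hne (huniq s ⟨hsS, g, hg, hge⟩)
      · intro h
        exact absurd hs0S h
    simp only [hstep]
    rw [Finset.sum_comm, Finset.mul_sum]
    apply Finset.sum_congr rfl
    intro s hsS
    have h4 : ∀ c : V, (if ∃ g ∈ G, g * (c:X) * g⁻¹ = s then ff G s else 0) =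
        ff G s * (if ∃ g ∈ G, g * (c:X) * g⁻¹ = s then 1 else 0) := by
      intro c
      split_ifs <;> simp
    simp only [h4]
    rw [← Finset.mul_sum, ff_eq G s, mul_assoc, orb_stab V G s (hSV s hsS), mul_comm]
  have hXcard : Nat.card X = Nat.card V * Nat.card G := hGV.card_mul_card.symm
  have hfinal : Nat.card (ConjClasses X) * Nat.card X =
      (∑ s ∈ S, Nat.card (ConjClasses ↥(G ⊓ Subgroup.centralizer ({s} : Set X)))) *
        Nat.card X := by
    rw [← E1, E2, E4, E5, hXcard]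
    simp only [Nat.card_eq_fintype_card]
    ring
  exact Nat.eq_of_mul_eq_mul_right Nat.card_pos hfinal

end Cfsg.Agent.S4956
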