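import Cfsg.Statements.S4965
import Mathlib

set_option autoImplicit false
open Cfsg

namespace Cfsg.Agent.S4965

/-- Let X be a finite group with an abelian normal subgroup V (any two elements of V commute), and let φ be the action of X ⧸ V on V induced by conjugation (well defined because V is abelian; the hypothesis hφ says that the class of x acts as conjugation by x). Then X has at most as many conjugacy classes as the semidirect product of V by X ⧸ V formed with this action: the split extension has the largest class number among extensions with the given action. -/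
theorem result {X : Type*} [Group X] [Finite X] (V : Subgroup X) [V.Normal] (hab : ∀ a ∈ V, ∀ b ∈ V, a * b = b * a) (φ : X ⧸ V →* MulAut ↥V) (hφ : ∀ (x : X) (v : ↥V), ((φ (QuotientGroup.mk x) v : ↥V) : X) = x * v * x⁻¹) : Nat.card (ConjClasses X) ≤ Nat.card (ConjClasses (SemidirectProduct ↥V (X ⧸ V) φ)) := by
  classical
  have hcardS : Nat.card (SemidirectProduct ↥V (X ⧸ V) φ) = Nat.card X := by
    rw [SemidirectProduct.card, mul_comm]
    exact (Subgroup.card_eq_card_quotient_mul_card_subgroup V).symm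
  have hinj : Nat.card {p : X × X // Commute p.1 p.2} ≤
      Nat.card {p : (SemidirectProduct ↥V (X ⧸ V) φ) × (SemidirectProduct ↥V (X ⧸ V) φ) //
        Commute p.1 p.2} := by
    -- representatives
    have hR : ∀ ab : (X ⧸ V) × (X ⧸ V), ∃ r : X × X,
        (∃ p : X × X, Commute p.1 p.2 ∧ (QuotientGroup.mk p.1 : X ⧸ V) = ab.1 ∧
          (QuotientGroup.mk p.2 : X ⧸ V) = ab.2) →
        (Commute r.1 r.2 ∧ (QuotientGroup.mk r.1 : X ⧸ V) = ab.1 ∧
          (QuotientGroup.mk r.2 : X ⧸ V) = ab.2) := by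
      intro ab
      by_cases h : ∃ p : X × X, Commute p.1 p.2 ∧ (QuotientGroup.mk p.1 : X ⧸ V) = ab.1 ∧
          (QuotientGroup.mk p.2 : X ⧸ V) = ab.2
      · obtain ⟨p, hp⟩ := h
        exact ⟨p, fun _ => hp⟩
      · exact ⟨(1, 1), fun h' => absurd h' h⟩
    choose R hRspec using hR
    let toV : X → ↥V := fun x => if h : x ∈ V then ⟨x, h⟩ else 1
    have toV_coe : ∀ x, x ∈ V → ((toV x : ↥V) : X) = x := by
      intro x hx
      simp [toV, hx]
    let g : X × X → (SemidirectProduct ↥V (X ⧸ V) φ) × (SemidirectProduct ↥V (X ⧸ V) φ) :=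
      fun p =>
        (⟨toV (p.1 * (R (QuotientGroup.mk p.1, QuotientGroup.mk p.2)).1⁻¹), QuotientGroup.mk p.1⟩,
         ⟨toV (p.2 * (R (QuotientGroup.mk p.1, QuotientGroup.mk p.2)).2⁻¹), QuotientGroup.mk p.2⟩)
    -- membership
    have hmem : ∀ x x0 : X, (QuotientGroup.mk x0 : X ⧸ V) = QuotientGroup.mk x → x * x0⁻¹ ∈ V := by
      intro x x0 h
      have h1 : x0⁻¹ * x ∈ V := QuotientGroup.eq.mp h
      have h2 := ‹V.Normal›.conj_mem _ h1 x0
      have h3 : x0 * (x0⁻¹ * x) * x0⁻¹ = x * x0⁻¹ := by group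
      rwa [h3] at h2
    have hcomm : ∀ p : X × X, Commute p.1 p.2 → Commute (g p).1 (g p).2 := by
      rintro ⟨x, y⟩ hxy
      obtain ⟨h0, h1, h2⟩ := hRspec (QuotientGroup.mk x, QuotientGroup.mk y) ⟨(x, y), hxy, rfl, rfl⟩
      obtain ⟨r, hr⟩ : ∃ r, r = R ((QuotientGroup.mk x : X ⧸ V), (QuotientGroup.mk y : X ⧸ V)) :=
        ⟨_, rfl⟩
      rw [← hr] at h0 h1 h2
      replace h1 : (QuotientGroup.mk r.1 : X ⧸ V) = QuotientGroup.mk x := h1
      replace h2 : (QuotientGroup.mk r.2 : X ⧸ V) = QuotientGroup.mk y := h2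
      have hu : x * r.1⁻¹ ∈ V := hmem x r.1 h1
      have hv : y * r.2⁻¹ ∈ V := hmem y r.2 h2
      change (g (x, y)).1 * (g (x, y)).2 = (g (x, y)).2 * (g (x, y)).1
      have hg1 : (g (x, y)).1 = ⟨toV (x * r.1⁻¹), QuotientGroup.mk x⟩ := by
        simp only [g, hr]
      have hg2 : (g (x, y)).2 = ⟨toV (y * r.2⁻¹), QuotientGroup.mk y⟩ := by
        simp only [g, hr]
      rw [hg1, hg2]
      have hxy' : x * y = y * x := hxy
      have h0' : r.1 * r.2 = r.2 * r.1 := h0
      ext
      · simp only [SemidirectProduct.mul_left]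
        change ((toV (x * r.1⁻¹) * (φ (QuotientGroup.mk x)) (toV (y * r.2⁻¹)) : ↥V) : X) =
          ((toV (y * r.2⁻¹) * (φ (QuotientGroup.mk y)) (toV (x * r.1⁻¹)) : ↥V) : X)
        rw [Subgroup.coe_mul, Subgroup.coe_mul]
        conv_lhs => rw [← h1]
        conv_rhs => rw [← h2]
        rw [hφ, hφ, toV_coe _ hu, toV_coe _ hv]
        have e1 : x * r.1⁻¹ * (r.1 * (y * r.2⁻¹) * r.1⁻¹) = (x * y) * (r.1 * r.2)⁻¹ := by group
        have e2 : y * r.2⁻¹ * (r.2 * (x * r.1⁻¹) * r.2⁻¹) = (y * x) * (r.2 * r.1)⁻¹ := by group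
        rw [e1, e2, hxy', h0']
      · simp only [SemidirectProduct.mul_right]
        rw [← QuotientGroup.mk_mul, ← QuotientGroup.mk_mul, hxy']
    haveI : Finite (SemidirectProduct ↥V (X ⧸ V) φ) := Nat.finite_of_card_ne_zero (by
      rw [hcardS]; exact Nat.card_pos.ne')
    refine Nat.card_le_card_of_injective (fun p => ⟨g p.1, hcomm p.1 p.2⟩) ?_
    rintro ⟨⟨x, y⟩, hxy⟩ ⟨⟨x', y'⟩, hxy'⟩ h
    have h' : g (x, y) = g (x', y') := congrArg Subtype.val h
    have ha : (QuotientGroup.mk x : X ⧸ V) = QuotientGroup.mk x' := by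
      have := congrArg (fun q => q.1.right) h'
      simpa [g] using this
    have hb : (QuotientGroup.mk y : X ⧸ V) = QuotientGroup.mk y' := by
      have := congrArg (fun q => q.2.right) h'
      simpa [g] using this
    obtain ⟨h0, h1, h2⟩ := hRspec (QuotientGroup.mk x, QuotientGroup.mk y) ⟨(x, y), hxy, rfl, rfl⟩
    obtain ⟨r, hr⟩ : ∃ r, r = R ((QuotientGroup.mk x : X ⧸ V), (QuotientGroup.mk y : X ⧸ V)) :=
      ⟨_, rfl⟩
    rw [← hr] at h0 h1 h2
    replace h1 : (QuotientGroup.mk r.1 : X ⧸ V) = QuotientGroup.mk x := h1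
    replace h2 : (QuotientGroup.mk r.2 : X ⧸ V) = QuotientGroup.mk y := h2
    have hu : x * r.1⁻¹ ∈ V := hmem x r.1 h1
    have hv : y * r.2⁻¹ ∈ V := hmem y r.2 h2
    have hu' : x' * r.1⁻¹ ∈ V := hmem x' r.1 (h1.trans ha)
    have hv' : y' * r.2⁻¹ ∈ V := hmem y' r.2 (h2.trans hb)
    have hl1 : toV (x * r.1⁻¹) = toV (x' * r.1⁻¹) := by
      have := congrArg (fun q => q.1.left) h'
      simp only [g] at this
      rw [← ha, ← hb, ← hr] at this
      exact this
    have hl2 : toV (y * r.2⁻¹) = toV (y' * r.2⁻¹) := by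
      have := congrArg (fun q => q.2.left) h'
      simp only [g] at this
      rw [← ha, ← hb, ← hr] at this
      exact this
    have e1 : x * r.1⁻¹ = x' * r.1⁻¹ := by
      rw [← toV_coe _ hu, ← toV_coe _ hu', hl1]
    have e2 : y * r.2⁻¹ = y' * r.2⁻¹ := by
      rw [← toV_coe _ hv, ← toV_coe _ hv', hl2]
    have e1' : x = x' := mul_right_cancel e1
    have e2' : y = y' := mul_right_cancel e2
    subst e1' e2'
    rfl
  rw [card_comm_eq_card_conjClasses_mul_card, card_comm_eq_card_conjClasses_mul_card, hcardS] at hinj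
  exact Nat.le_of_mul_le_mul_right hinj Nat.card_pos

end Cfsg.Agent.S4965
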