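import Cfsg.Statements.S4969
import Cfsg.Agent.Lib.Helper2_ClassFn
import Cfsg.Agent.Lib.Helper2_CharBasic
import Cfsg.Agent.Lib.Helper2_CharOrtho
import Cfsg.Agent.Lib.Helper2_Clifford
import Cfsg.Agent.Lib.Helper2_CharMore
import Cfsg.Agent.Lib.Helper2_CharNorm
import Cfsg.Agent.Lib.Helper2_CharValues
import Cfsg.Agent.Lib.Helper2_CharComplete
import Cfsg.Agent.Lib.Helper2_CharInd
import Cfsg.Agent.Lib.Helper2_CharTable
import Cfsg.Agent.Lib.Helper2_CharFrob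
import Cfsg.Agent.Lib.Helper2_CharDeg
import Cfsg.Agent.Lib.Helper2_CharSum
import Cfsg.Agent.Lib.Helper2_CharExtra
import Cfsg.Agent.Lib.Helper2_CharCentral
import Cfsg.Agent.S0133

set_option autoImplicit false
open Cfsg

namespace Cfsg.Agent.S4969

open Cfsg.Agent.Lib.Helper2_ClassFn Cfsg.Agent.Lib.Helper2_CharBasic Cfsg.Agent.Lib.Helper2_CharOrtho Cfsg.Agent.Lib.Helper2_Clifford Cfsg.Agent.Lib.Helper2_CharMore Cfsg.Agent.Lib.Helper2_CharNorm Cfsg.Agent.Lib.Helper2_CharValues Cfsg.Agent.Lib.Helper2_CharComplete Cfsg.Agent.Lib.Helper2_CharInd Cfsg.Agent.Lib.Helper2_CharTable Cfsg.Agent.Lib.Helper2_CharFrob Cfsg.Agent.Lib.Helper2_CharDeg Cfsg.Agent.Lib.Helper2_CharSum Cfsg.Agent.Lib.Helper2_CharExtra Cfsg.Agent.Lib.Helper2_CharCentral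
open scoped Pointwise


/-- Let G be a finite group with k conjugacy classes, g ∈ G, and N > 0. Then the sum over the irreducible complex characters χ of G with χ(1) ≥ N of |χ(g)|/χ(1) is at most √(k · #C_G(g)) / N. -/
theorem result {G : Type*} [Group G] [Finite G] (g : G) (N : ℝ) (hN : 0 < N) :
    ∑ᶠ χ : Cfsg.IrrCharacter G, (if N ≤ ‖(χ : G → ℂ) 1‖ then ‖(χ : G → ℂ) g‖ / ‖(χ : G → ℂ) 1‖ else 0) ≤
      Real.sqrt ((Nat.card (ConjClasses G) : ℝ) * (Nat.card ↥(Subgroup.centralizer ({g} : Set G)) : ℝ)) / N := by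
  classical
  have := Fintype.ofFinite G
  rw [finsum_irr_eq_sum (fun χ : G → ℂ => if N ≤ ‖χ 1‖ then ‖χ g‖ / ‖χ 1‖ else 0)]
  have hk : (Nat.card (ConjClasses G) : ℝ) = ((irrFinset G).card : ℝ) := by
    rw [← Cfsg.Agent.S0133.result, card_irr]
  have hso : ∑ ψ ∈ irrFinset G, ‖ψ g‖ ^ 2
      = (Nat.card ↥(Subgroup.centralizer ({g} : Set G)) : ℝ) := by
    have h := second_orthogonality' g g
    rw [if_pos (IsConj.refl g)] at h
    have h2 : ∀ ψ ∈ irrFinset G, ψ g * (starRingEnd ℂ) (ψ g) = ((‖ψ g‖ ^ 2 : ℝ) : ℂ) := by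
      intro ψ _
      rw [Complex.mul_conj, Complex.normSq_eq_norm_sq]
    rw [Finset.sum_congr rfl h2, ← Complex.ofReal_sum] at h
    exact_mod_cast h
  have hterm : ∀ ψ ∈ irrFinset G, (if N ≤ ‖ψ 1‖ then ‖ψ g‖ / ‖ψ 1‖ else 0) ≤ ‖ψ g‖ / N := by
    intro ψ _
    split_ifs with h
    · exact div_le_div_of_nonneg_left (norm_nonneg _) hN h
    · exact div_nonneg (norm_nonneg _) hN.le
  calc ∑ ψ ∈ irrFinset G, (if N ≤ ‖ψ 1‖ then ‖ψ g‖ / ‖ψ 1‖ else 0)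
      ≤ ∑ ψ ∈ irrFinset G, ‖ψ g‖ / N := Finset.sum_le_sum hterm
    _ = (∑ ψ ∈ irrFinset G, ‖ψ g‖) / N := by rw [Finset.sum_div]
    _ ≤ _ := by
        apply div_le_div_of_nonneg_right _ hN.le
        apply Real.le_sqrt_of_sq_le
        rw [hk, ← hso]
        exact sq_sum_le_card_mul_sum_sq

end Cfsg.Agent.S4969
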