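import Cfsg.Statements.S4989
import Cfsg.Agent.Lib.Helper2_ClassFn
import Cfsg.Agent.Lib.Helper2_CharBasic
import Cfsg.Agent.Lib.Helper2_CharOrtho
import Cfsg.Agent.Lib.Helper2_Clifford
import Cfsg.Agent.Lib.Helper2_CharMore
import Cfsg.Agent.Lib.Helper2_CharNorm
import Cfsg.Agent.Lib.Helper2_CharValues
import Cfsg.Agent.Lib.Helper2_CharComplete
import Cfsg.Agent.Lib.Helper2_CharInd
import Cfsg.Agent.Lib.Helper2_CharTable
import Cfsg.Agent.Lib.Helper2_CharFrob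
import Cfsg.Agent.Lib.Helper2_CharDeg
import Cfsg.Agent.Lib.Helper2_CharSum
import Cfsg.Agent.Lib.Helper2_CharExtra
import Cfsg.Agent.Lib.Helper2_CharCentral
import Cfsg.Agent.Lib.Helper2_PermChar
import Cfsg.Agent.Lib.Helper2_FrobSchur
import Cfsg.Agent.Lib.Helper2_CliffordCorr
import Cfsg.Agent.Lib.Helper2_CharKernel
import Cfsg.Agent.Lib.Helper2_CyclicTI
import Cfsg.Agent.Lib.Helper2_CharGalois

set_option autoImplicit false
open Cfsg

namespace Cfsg.Agent.S4989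

open Cfsg.Agent.Lib.Helper2_ClassFn Cfsg.Agent.Lib.Helper2_CharBasic Cfsg.Agent.Lib.Helper2_CharOrtho Cfsg.Agent.Lib.Helper2_Clifford Cfsg.Agent.Lib.Helper2_CharMore Cfsg.Agent.Lib.Helper2_CharNorm Cfsg.Agent.Lib.Helper2_CharValues Cfsg.Agent.Lib.Helper2_CharComplete Cfsg.Agent.Lib.Helper2_CharInd Cfsg.Agent.Lib.Helper2_CharTable Cfsg.Agent.Lib.Helper2_CharFrob Cfsg.Agent.Lib.Helper2_CharDeg Cfsg.Agent.Lib.Helper2_CharSum Cfsg.Agent.Lib.Helper2_CharExtra Cfsg.Agent.Lib.Helper2_CharCentral Cfsg.Agent.Lib.Helper2_PermChar Cfsg.Agent.Lib.Helper2_FrobSchur Cfsg.Agent.Lib.Helper2_CliffordCorr Cfsg.Agent.Lib.Helper2_CharKernel Cfsg.Agent.Lib.Helper2_CyclicTI Cfsg.Agent.Lib.Helper2_CharGalois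
open scoped Pointwise


/-- Let H be a subgroup of the finite group G and χ an irreducible complex character of G. Then the inner product of the restriction of χ to H with itself, (1/#H)·Σ_{h ∈ H} |χ(h)|², is at most 1 + #(Z ∖ H)/#H, where Z is the set of zeros of χ in G. -/
theorem result {G : Type*} [Group G] [Finite G] (H : Subgroup G) (χ : Cfsg.IrrCharacter G) : (Nat.card ↥H : ℝ)⁻¹ * ∑ᶠ h : ↥H, ‖(χ : G → ℂ) h‖ ^ 2 ≤ 1 + (Set.ncard ({x : G | (χ : G → ℂ) x = 0} \ (H : Set G)) : ℝ) / (Nat.card ↥H : ℝ) := by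
  classical
  have := Fintype.ofFinite G
  obtain ⟨χ, hχ⟩ := χ
  change (Nat.card ↥H : ℝ)⁻¹ * ∑ᶠ h : ↥H, ‖χ h‖ ^ 2 ≤
    1 + (Set.ncard ({x : G | χ x = 0} \ (H : Set G)) : ℝ) / (Nat.card ↥H : ℝ)
  have hχc := IsIrrCharacter.isCharacter hχ
  have hHpos : (0 : ℝ) < (Nat.card H : ℝ) := by exact_mod_cast Nat.card_pos
  -- S = G \ H
  set S : Finset G := Finset.univ.filter (fun g => g ∉ H) with hS
  have hclosed : ∀ g ∈ S, ∀ k : ℕ, k.Coprime (Nat.card G) → g ^ k ∈ S := by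
    intro g hg k hk
    rw [hS, Finset.mem_filter] at hg ⊢
    refine ⟨Finset.mem_univ _, ?_⟩
    intro hmem
    apply hg.2
    -- g is a power of g ^ k
    have hcop : (orderOf g).Coprime k :=
      Nat.Coprime.coprime_dvd_left (orderOf_dvd_natCard g) hk.symm
    obtain ⟨m, hm⟩ := exists_pow_eq_self_of_coprime hcop.symm
    rw [← hm]
    exact H.pow_mem hmem m
  have key := card_nonzero_le_sum_sq hχc S hclosed
  have hsum := sum_norm_sq_eq_card hχ
  -- split the total sum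
  have hsplit : ∑ g : G, ‖χ g‖ ^ 2
      = ∑ g ∈ Finset.univ.filter (fun g => g ∈ H), ‖χ g‖ ^ 2 + ∑ g ∈ S, ‖χ g‖ ^ 2 := by
    rw [hS, Finset.sum_filter_add_sum_filter_not]
  have hHsum : ∑ g ∈ Finset.univ.filter (fun g => g ∈ H), ‖χ g‖ ^ 2
      = ∑ᶠ h : ↥H, ‖χ h‖ ^ 2 := by
    rw [finsum_eq_sum_of_fintype]
    rw [← Finset.sum_subtype (Finset.univ.filter (fun g => g ∈ H)) (by simp)
      (fun g => ‖χ g‖ ^ 2)]
  -- count of S
  have hScard : (S.card : ℝ) = (Nat.card G : ℝ) - (Nat.card H : ℝ) := by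
    have h1 : S.card + (Finset.univ.filter (fun g : G => g ∈ H)).card = Fintype.card G := by
      rw [hS, add_comm, Finset.card_filter_add_card_filter_not, Finset.card_univ]
    have h2 : (Finset.univ.filter (fun g : G => g ∈ H)).card = Nat.card H := by
      rw [Nat.card_eq_fintype_card, Fintype.card_subtype]
    rw [h2, ← Nat.card_eq_fintype_card] at h1
    have : (S.card : ℝ) + (Nat.card H : ℝ) = (Nat.card G : ℝ) := by exact_mod_cast h1
    linarith
  -- zeros in S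
  have hzeros : (Set.ncard ({x : G | χ x = 0} \ (H : Set G)) : ℝ)
      = (S.card : ℝ) - ((S.filter (fun g => χ g ≠ 0)).card : ℝ) := by
    have h1 : ({x : G | χ x = 0} \ (H : Set G)) = ↑(S.filter (fun g => ¬ χ g ≠ 0)) := by
      ext x
      simp [hS, and_comm]
    rw [h1, Set.ncard_coe_finset]
    have h2 := Finset.card_filter_add_card_filter_not (s := S) (fun g => χ g ≠ 0)
    have : ((S.filter (fun g => χ g ≠ 0)).card : ℝ) + ((S.filter (fun g => ¬ χ g ≠ 0)).card : ℝ)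
        = (S.card : ℝ) := by exact_mod_cast h2
    linarith
  rw [hzeros, ← hHsum]
  have hH : ∑ g ∈ Finset.univ.filter (fun g => g ∈ H), ‖χ g‖ ^ 2
      ≤ (Nat.card H : ℝ) + ((S.card : ℝ) - ((S.filter (fun g => χ g ≠ 0)).card : ℝ)) := by
    linarith
  calc (Nat.card H : ℝ)⁻¹ * ∑ g ∈ Finset.univ.filter (fun g => g ∈ H), ‖χ g‖ ^ 2
      ≤ (Nat.card H : ℝ)⁻¹ * ((Nat.card H : ℝ)
          + ((S.card : ℝ) - ((S.filter (fun g => χ g ≠ 0)).card : ℝ))) := by
        apply mul_le_mul_of_nonneg_left hH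
        positivity
    _ = 1 + ((S.card : ℝ) - ((S.filter (fun g => χ g ≠ 0)).card : ℝ)) / (Nat.card H : ℝ) := by
        field_simp

end Cfsg.Agent.S4989
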