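import Cfsg.Statements.S4996
import Cfsg.Agent.Lib.Helper2_ClassFn
import Cfsg.Agent.Lib.Helper2_CharBasic
import Cfsg.Agent.Lib.Helper2_CharOrtho
import Cfsg.Agent.Lib.Helper2_Clifford
import Cfsg.Agent.Lib.Helper2_CharMore
import Cfsg.Agent.Lib.Helper2_CharNorm
import Cfsg.Agent.Lib.Helper2_CharValues
import Cfsg.Agent.Lib.Helper2_CharComplete
import Cfsg.Agent.Lib.Helper2_CharInd
import Cfsg.Agent.Lib.Helper2_CharTable
import Cfsg.Agent.Lib.Helper2_CharFrob
import Cfsg.Agent.Lib.Helper2_CharDeg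
import Cfsg.Agent.Lib.Helper2_CharSum
import Cfsg.Agent.Lib.Helper2_CharExtra
import Cfsg.Agent.Lib.Helper2_CharCentral
import Cfsg.Agent.Lib.Helper2_PermChar
import Cfsg.Agent.Lib.Helper2_FrobSchur
import Cfsg.Agent.Lib.Helper2_CliffordCorr
import Cfsg.Agent.Lib.Helper2_CharKernel
import Cfsg.Agent.Lib.Helper2_CyclicTI
import Cfsg.Agent.Lib.Helper2_CharGalois
import Cfsg.Agent.Lib.Helper2_CharInt
import Cfsg.Agent.Lib.Helper2_CharBurnside
import Cfsg.Agent.Lib.Helper2_CharCenter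
import Cfsg.Agent.Lib.Helper2_Ito
import Cfsg.Agent.Lib.Helper2_Gallagher
import Cfsg.Agent.Lib.Helper2_Artin
import Cfsg.Agent.Lib.Helper2_MGroup
import Cfsg.Agent.Lib.Helper2_RepEquiv
import Cfsg.Agent.Lib.Helper2_CyclicExt
import Cfsg.Agent.Lib.Helper2_Extraspecial
import Cfsg.Agent.Lib.Helper2_ProjLift
import Cfsg.Agent.Lib.Helper2_CentralExt
import Cfsg.Agent.Lib.Helper2_SylowExt
import Cfsg.Agent.Lib.Helper2_DetChar
import Cfsg.Agent.Lib.Helper2_LinExt
import Cfsg.Agent.Lib.Helper2_DetExt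
import Cfsg.Agent.Lib.Helper2_GallagherExt
import Cfsg.Agent.Lib.Helper2_PermInd
import Cfsg.Agent.Lib.Helper2_QuasiElem
import Cfsg.Agent.Lib.Helper2_BrauerInd
import Cfsg.Agent.Lib.Helper2_BrauerThm
import Cfsg.Agent.Lib.Helper2_NilDecomp
import Cfsg.Agent.Lib.Helper2_DefectZero
import Cfsg.Agent.Lib.Helper2_CharGalois2
import Cfsg.Agent.Lib.Helper2_CosetAvg

set_option autoImplicit false
open Cfsg

namespace Cfsg.Agent.S4996

open Cfsg.Agent.Lib.Helper2_ClassFn Cfsg.Agent.Lib.Helper2_CharBasic Cfsg.Agent.Lib.Helper2_CharOrtho Cfsg.Agent.Lib.Helper2_Clifford Cfsg.Agent.Lib.Helper2_CharMore Cfsg.Agent.Lib.Helper2_CharNorm Cfsg.Agent.Lib.Helper2_CharValues Cfsg.Agent.Lib.Helper2_CharComplete Cfsg.Agent.Lib.Helper2_CharInd Cfsg.Agent.Lib.Helper2_CharTable Cfsg.Agent.Lib.Helper2_CharFrob Cfsg.Agent.Lib.Helper2_CharDeg Cfsg.Agent.Lib.Helper2_CharSum Cfsg.Agent.Lib.Helper2_CharExtra Cfsg.Agent.Lib.Helper2_CharCentral Cfsg.Agent.Lib.Helper2_PermChar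 Cfsg.Agent.Lib.Helper2_FrobSchur Cfsg.Agent.Lib.Helper2_CliffordCorr Cfsg.Agent.Lib.Helper2_CharKernel Cfsg.Agent.Lib.Helper2_CyclicTI Cfsg.Agent.Lib.Helper2_CharGalois Cfsg.Agent.Lib.Helper2_CharInt Cfsg.Agent.Lib.Helper2_CharBurnside Cfsg.Agent.Lib.Helper2_CharCenter Cfsg.Agent.Lib.Helper2_Ito Cfsg.Agent.Lib.Helper2_Gallagher Cfsg.Agent.Lib.Helper2_Artin Cfsg.Agent.Lib.Helper2_MGroup Cfsg.Agent.Lib.Helper2_RepEquiv Cfsg.Agent.Lib.Helper2_CyclicExt Cfsg.Agent.Lib.Helper2_Extraspecial Cfsg.Agent.Lib.Helper2_ProjLift Cfsg.Agent.Lib.Helper2_CentralExt Cfsg.Agent.Lib.Helper2_SylowExt Cfsg.Agent.Lib.Helper2_DetChar Cfsg.Agent.Lib.Helper2_LinExt Cfsg.Agent.Lib.Helper2_DetExt Cfsg.Agent.Lib.Helper2_GallagherExt Cfsg.Agent.Lib.Helper2_PermInd Cfsg.Agent.Lib.Helper2_QuasiElem Cfsg.Agent.Lib.Helper2_BrauerInd Cfsg.Agent.Lib.Helper2_BrauerThm Cfsg.Agent.Lib.Helper2_NilDecomp Cfsg.Agent.Lib.Helper2_DefectZero Cfsg.Agent.Lib.Helper2_CharGalois2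 Cfsg.Agent.Lib.Helper2_CosetAvg
open scoped Pointwise
open scoped ComplexConjugate


/-- Let N be a normal subgroup of the finite group G and χ an irreducible complex character of G. Then the restriction of χ to N is not irreducible if and only if χ vanishes on some whole coset Nx of N in G. -/
theorem result {G : Type*} [Group G] [Finite G] (N : Subgroup G) [N.Normal] (χ : Cfsg.IrrCharacter G) : ¬ Cfsg.IsIrrCharacter ↥N (fun n : ↥N => (χ : G → ℂ) n) ↔ ∃ x : G, ∀ n : ↥N, (χ : G → ℂ) ((n : G) * x) = 0 := by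
  classical
  haveI := Fintype.ofFinite G
  haveI : Fintype N := Fintype.ofFinite _
  haveI : Fintype (G ⧸ N) := Fintype.ofFinite _
  have hχ := χ.2
  have hχc := IsIrrCharacter.isCharacter hχ
  set Φ := cosetAvg N (χ : G → ℂ) with hΦ
  have hΦc : IsCharacter (G ⧸ N) Φ := cosetAvg_isCharacter N hχc
  have hΦreal := cosetAvg_real N (χ : G → ℂ)
  have hresc : IsCharacter N (fun n : N => (χ : G → ℂ) n) := IsCharacter.restrict hχc N
  obtain ⟨k, hk⟩ := IsCharacter.classInner_nat hresc hresc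
  have hΦ1 : Φ 1 = k := by rw [hΦ, cosetAvg_one, hk]
  have hcoset : ∀ (x : G) (g : G), (g : G ⧸ N) = (x : G ⧸ N) → ∃ n : N, g = (n : G) * x := by
    intro x g hg
    have : g * x⁻¹ ∈ N := by
      rw [← QuotientGroup.eq_one_iff, QuotientGroup.mk_mul, QuotientGroup.mk_inv, hg,
        mul_inv_cancel]
    exact ⟨⟨g * x⁻¹, this⟩, by simp⟩
  constructor
  · intro hnirr
    have hk1 : k ≠ 1 := by
      intro h1
      apply hnirr
      apply IsCharacter.isIrr_of_norm_one hresc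
      rw [hk, h1]; simp
    have hk0 : k ≠ 0 := by
      intro h0
      have h1 : Φ 1 = 0 := by rw [hΦ1, h0]; simp
      have h2 := (cosetAvg_eq_zero_iff N _ 1).mp h1 1 (by simp)
      exact IsIrrCharacter.apply_one_ne_zero hχ h2
    have hk2 : 2 ≤ k := by omega
    by_contra hcon
    push Not at hcon
    have hnz : ∀ q : G ⧸ N, Φ q ≠ 0 := by
      intro q
      obtain ⟨x, rfl⟩ := QuotientGroup.mk_surjective q
      obtain ⟨n, hn⟩ := hcon x
      intro h0
      apply hn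
      apply (cosetAvg_eq_zero_iff N _ _).mp h0
      rw [QuotientGroup.mk_mul, (QuotientGroup.eq_one_iff (n : G)).mpr n.2, one_mul]
    have hbound := card_nonzero_le_sum_re hΦc hΦreal (Finset.univ.erase (1 : G ⧸ N)) (by
      intro q hq m hm
      rw [Finset.mem_erase] at hq ⊢
      refine ⟨?_, Finset.mem_univ _⟩
      intro h1
      apply hq.1
      have h2 : orderOf q ∣ m := orderOf_dvd_of_pow_eq_one h1
      have h3 : orderOf q ∣ Nat.card (G ⧸ N) := orderOf_dvd_natCard q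
      have h4 : orderOf q ∣ Nat.gcd m (Nat.card (G ⧸ N)) := Nat.dvd_gcd h2 h3
      rw [hm.gcd_eq_one, Nat.dvd_one] at h4
      exact orderOf_eq_one_iff.mp h4)
    have hfilter : (Finset.univ.erase (1 : G ⧸ N)).filter (fun q => Φ q ≠ 0)
        = Finset.univ.erase 1 := by
      apply Finset.filter_true_of_mem
      intro q _
      exact hnz q
    rw [hfilter] at hbound
    have hsum : ∑ q ∈ Finset.univ.erase (1 : G ⧸ N), (Φ q).re
        = (Nat.card (G ⧸ N) : ℝ) - k := by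
      have h1 := sum_cosetAvg N hχ
      have h2 : ∑ q : G ⧸ N, (Φ q).re = (Nat.card (G ⧸ N) : ℝ) := by
        have := congrArg Complex.re h1
        rw [Complex.re_sum] at this
        simpa using this
      rw [← Finset.add_sum_erase _ _ (Finset.mem_univ (1 : G ⧸ N)), hΦ1] at h2
      simp only [Complex.natCast_re] at h2
      linarith
    rw [hsum, Finset.card_erase_of_mem (Finset.mem_univ _), Finset.card_univ,
      ← Nat.card_eq_fintype_card] at hbound
    have hpos : 0 < Nat.card (G ⧸ N) := Nat.card_pos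
    have hk2' : (2 : ℝ) ≤ k := by exact_mod_cast hk2
    rw [Nat.cast_sub hpos] at hbound
    push_cast at hbound
    linarith
  · rintro ⟨x, hx⟩ hirr
    have hk1 : (k : ℂ) = 1 := by rw [← hk]; exact classInner_irr_self hirr
    obtain ⟨ω, hω⟩ := exists_hom_of_linear ⟨hΦc, by rw [hΦ1, hk1]⟩
    have h0 : Φ (x : G ⧸ N) = 0 := by
      apply (cosetAvg_eq_zero_iff N _ _).mpr
      intro g hg
      obtain ⟨n, rfl⟩ := hcoset x g hg
      exact hx n
    rw [hω] at h0
    exact Units.ne_zero _ h0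

end Cfsg.Agent.S4996
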