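import Cfsg.Statements.S5011
import Mathlib

set_option autoImplicit false
open Cfsg

namespace Cfsg.Agent.S5011

/-- The elements acting as scalars form a normal subgroup. -/
def scalarSubgroup {G : Type*} [Group G] {V : Type*} [AddCommGroup V] [Module ℂ V] [Nontrivial V]
    (ρ : Representation ℂ G V) : Subgroup G where
  carrier := {x | ∃ μ : ℂ, ∀ v : V, ρ x v = μ • v}
  one_mem' := ⟨1, fun v => by simp⟩
  mul_mem' := by
    rintro x y ⟨μ, hμ⟩ ⟨ν, hν⟩
    refine ⟨μ * ν, fun v => ?_⟩
    rw [map_mul, Module.End.mul_apply, hν, map_smul, hμ, smul_smul, mul_comm]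
  inv_mem' := by
    rintro x ⟨μ, hμ⟩
    have hμ0 : μ ≠ 0 := by
      intro h0
      obtain ⟨v, hv⟩ := exists_ne (0 : V)
      apply hv
      have h1 : ρ x⁻¹ (ρ x v) = v := by
        rw [← Module.End.mul_apply, ← map_mul, inv_mul_cancel, map_one, Module.End.one_apply]
      rw [← h1, hμ, h0, zero_smul, map_zero]
    refine ⟨μ⁻¹, fun v => ?_⟩
    have h1 : ρ x (ρ x⁻¹ v) = v := by
      rw [← Module.End.mul_apply, ← map_mul, mul_inv_cancel, map_one, Module.End.one_apply]
    rw [hμ] at h1
    rw [← h1, smul_smul, inv_mul_cancel₀ hμ0, one_smul, h1]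

theorem scalarSubgroup_normal {G : Type*} [Group G] {V : Type*} [AddCommGroup V] [Module ℂ V] [Nontrivial V]
    (ρ : Representation ℂ G V) : (scalarSubgroup ρ).Normal := by
  constructor
  rintro x ⟨μ, hμ⟩ y
  refine ⟨μ, fun v => ?_⟩
  rw [map_mul, map_mul, Module.End.mul_apply, Module.End.mul_apply, hμ, map_smul]
  congr 1
  rw [← Module.End.mul_apply, ← map_mul, mul_inv_cancel, map_one, Module.End.one_apply]

/-- Let G be a finite non-abelian simple group and ρ an irreducible complex representation of G on a space of dimension greater than one (irreducible in the sense that the only subspaces invariant under every ρ(x) are 0 and the whole space). Then for every non-identity element g of G, the centralizer of g does not act irreducibly: there is a non-zero proper subspace invariant under ρ(c) for every c commuting with g. -/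
theorem result {G : Type*} [Group G] [Finite G] [IsSimpleGroup G]
    (hG : ¬ IsMulCommutative G) {V : Type*} [AddCommGroup V] [Module ℂ V] [FiniteDimensional ℂ V]
    (ρ : Representation ℂ G V)
    (hirr : ∀ W : Submodule ℂ V, (∀ x : G, ∀ v ∈ W, ρ x v ∈ W) → W = ⊥ ∨ W = ⊤)
    (hdim : 1 < Module.finrank ℂ V) (g : G) (hg : g ≠ 1) :
    ∃ W : Submodule ℂ V, W ≠ ⊥ ∧ W ≠ ⊤ ∧ ∀ c ∈ Subgroup.centralizer ({g} : Set G), ∀ v ∈ W, ρ c v ∈ W := by
  haveI : Nontrivial V := Module.nontrivial_of_finrank_pos (R := ℂ) (by omega)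
  obtain ⟨μ, hμ⟩ := Module.End.exists_eigenvalue (ρ g)
  refine ⟨Module.End.eigenspace (ρ g) μ, hμ, ?_, ?_⟩
  · intro htop
    -- ρ g is scalar
    have hgN : g ∈ scalarSubgroup ρ := by
      refine ⟨μ, fun v => ?_⟩
      have : v ∈ Module.End.eigenspace (ρ g) μ := by rw [htop]; exact Submodule.mem_top
      exact Module.End.mem_eigenspace_iff.mp this
    rcases (scalarSubgroup_normal ρ).eq_bot_or_eq_top with hbot | htop'
    · rw [hbot, Subgroup.mem_bot] at hgN
      exact hg hgN
    · obtain ⟨v, hv⟩ := exists_ne (0 : V)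
      have hinv : ∀ x : G, ∀ w ∈ Submodule.span ℂ ({v} : Set V), ρ x w ∈ Submodule.span ℂ ({v} : Set V) := by
        intro x w hw
        have hx : x ∈ scalarSubgroup ρ := by rw [htop']; exact Subgroup.mem_top x
        obtain ⟨ν, hν⟩ := hx
        rw [hν]
        exact Submodule.smul_mem _ _ hw
      rcases hirr _ hinv with h0 | h1
      · apply hv
        have : v ∈ Submodule.span ℂ ({v} : Set V) := Submodule.mem_span_singleton_self v
        rw [h0, Submodule.mem_bot] at this
        exact this
      · have h2 := finrank_span_singleton (K := ℂ) hv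
        rw [h1, finrank_top] at h2
        omega
  · intro c hc v hv
    rw [Module.End.mem_eigenspace_iff] at hv ⊢
    rw [Subgroup.mem_centralizer_iff] at hc
    have hcg := hc g rfl
    rw [← Module.End.mul_apply, ← map_mul, hcg, map_mul, Module.End.mul_apply, hv, map_smul]

end Cfsg.Agent.S5011
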