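import Cfsg.Statements.S5015
import Cfsg.Agent.Lib.Helper8_RankOne

set_option autoImplicit false
open Cfsg

namespace Cfsg.Agent.S5015

open Cfsg.Agent.Lib.Helper8_RankOne

section
variable {Y Ω : Type*} [Group Y] [MulAction Y Ω] {α : Ω} {A : Subgroup Y}

/-- The conjugate of `A` by `g` only depends on the point `g • α`. -/
theorem conj_eq_of_smul_eq (hAn : ∀ y ∈ MulAction.stabilizer Y α, Cfsg.conjBy A y = A)
    {g g' : Y} (e : g • α = g' • α) : Cfsg.conjBy A g = Cfsg.conjBy A g' := by
  have h1 : g'⁻¹ * g ∈ MulAction.stabilizer Y α := by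
    rw [MulAction.mem_stabilizer_iff, mul_smul, e, inv_smul_smul]
  have h2 := hAn _ h1
  have : g = g' * (g'⁻¹ * g) := by group
  rw [this, ← conjBy_conjBy, h2]

theorem conj_fixes (hA : A ≤ MulAction.stabilizer Y α) (y : Y) {b : Y} (hb : b ∈ Cfsg.conjBy A y) :
    b • (y • α) = y • α := by
  rw [mem_conjBy] at hb
  have := MulAction.mem_stabilizer_iff.mp (hA hb)
  rw [mul_smul, mul_smul, inv_smul_eq_iff] at this
  exact this

theorem conj_trans (hreg : ∀ β γ : Ω, β ≠ α → γ ≠ α → ∃! a : Y, a ∈ A ∧ a • β = γ) (y : Y)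
    {γ δ : Ω} (hγ : γ ≠ y • α) (hδ : δ ≠ y • α) : ∃ b ∈ Cfsg.conjBy A y, b • γ = δ := by
  have hγ' : y⁻¹ • γ ≠ α := fun e => hγ (by rw [← e, smul_inv_smul])
  have hδ' : y⁻¹ • δ ≠ α := fun e => hδ (by rw [← e, smul_inv_smul])
  obtain ⟨a, ⟨ha, e⟩, _⟩ := hreg _ _ hγ' hδ'
  refine ⟨y * a * y⁻¹, conj_mem_conjBy A y ha, ?_⟩
  rw [mul_smul, mul_smul, e, smul_inv_smul]

theorem conj_semiregular (hreg : ∀ β γ : Ω, β ≠ α → γ ≠ α → ∃! a : Y, a ∈ A ∧ a • β = γ) (y : Y)
    {γ : Ω} (hγ : γ ≠ y • α) {b : Y} (hb : b ∈ Cfsg.conjBy A y) (e : b • γ = γ) : b = 1 := by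
  have hγ' : y⁻¹ • γ ≠ α := fun e => hγ (by rw [← e, smul_inv_smul])
  rw [mem_conjBy] at hb
  obtain ⟨a, _, huniq⟩ := hreg _ _ hγ' hγ'
  have h1 : y⁻¹ * b * y = a := by
    apply huniq
    refine ⟨hb, ?_⟩
    rw [mul_smul, mul_smul, smul_inv_smul, e]
  have h2 : (1 : Y) = a := by
    apply huniq
    exact ⟨A.one_mem, one_smul _ _⟩
  have : b = y * (y⁻¹ * b * y) * y⁻¹ := by group
  rw [this, h1, ← h2]; group

/-- The one-sided rank one condition between two conjugates attached to different points. -/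
theorem rankOneCondition_conj (hA : A ≤ MulAction.stabilizer Y α)
    (hAn : ∀ y ∈ MulAction.stabilizer Y α, Cfsg.conjBy A y = A)
    (hreg : ∀ β γ : Ω, β ≠ α → γ ≠ α → ∃! a : Y, a ∈ A ∧ a • β = γ)
    (y y' : Y) (hne : y • α ≠ y' • α) :
    Cfsg.RankOneCondition (Cfsg.conjBy A y) (Cfsg.conjBy A y') := by
  intro b hb hb1
  have hb1' : b⁻¹ ≠ 1 := fun e => hb1 (inv_eq_one.mp e)
  have hbinv : b⁻¹ ∈ Cfsg.conjBy A y := Subgroup.inv_mem _ hb
  -- b⁻¹ moves β' = y' • α
  have hmove : b⁻¹ • (y' • α) ≠ y' • α := by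
    intro e
    exact hb1' (conj_semiregular hreg y hne.symm hbinv e)
  obtain ⟨b'', hb'', e⟩ := conj_trans hreg y' hne hmove
  refine ⟨b''⁻¹, Subgroup.inv_mem _ hb'', ?_, ?_⟩
  · intro e1
    rw [inv_eq_one] at e1
    rw [e1, one_smul] at e
    -- y • α = b⁻¹ • y' • α, so b • y • α = y' • α, but b fixes y • α
    have h1 := conj_fixes hA y hb
    apply hne
    rw [← h1, e, smul_inv_smul]
  · rw [inv_inv, conjBy_conjBy, conjBy_conjBy]
    apply conj_eq_of_smul_eq hAn
    rw [mul_smul, mul_smul, e]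

end

/-- Let a group Y act doubly transitively on a set Ω with at least three points, and suppose that the stabilizer of a point α contains a nilpotent subgroup A, normalized by that stabilizer, which acts regularly on the points other than α. Then for any y in Y moving α, the subgroups A and y A y⁻¹ are the unipotent subgroups of a rank one group, and the normal closure of A in Y (the subgroup generated by all conjugates of A) is generated by A and y A y⁻¹ alone. -/
theorem result {Y Ω : Type*} [Group Y] [MulAction Y Ω]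
    (h2 : MulAction.IsMultiplyPretransitive Y Ω 2) (hΩ : 3 ≤ ENat.card Ω) (α : Ω) (A : Subgroup Y)
    (hA : A ≤ MulAction.stabilizer Y α) (hAn : ∀ y ∈ MulAction.stabilizer Y α, Cfsg.conjBy A y = A)
    (hnil : Group.IsNilpotent A) (hreg : ∀ β γ : Ω, β ≠ α → γ ≠ α → ∃! a : Y, a ∈ A ∧ a • β = γ)
    (y : Y) (hy : y ∉ MulAction.stabilizer Y α) :
    Cfsg.IsRankOnePair A (Cfsg.conjBy A y) ∧ Subgroup.normalClosure (A : Set Y) = A ⊔ Cfsg.conjBy A y := by
  have hβ : y • α ≠ α := fun e => hy (MulAction.mem_stabilizer_iff.mpr e)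
  have hβ1 : (1 : Y) • α ≠ y • α := by rw [one_smul]; exact hβ.symm
  have hβ2 : y • α ≠ (1 : Y) • α := by rw [one_smul]; exact hβ
  have c1 := rankOneCondition_conj hA hAn hreg 1 y hβ1
  have c2 := rankOneCondition_conj hA hAn hreg y 1 hβ2
  rw [conjBy_one] at c1 c2
  constructor
  · refine ⟨?_, hnil, ?_, c1, c2⟩
    · -- A ≠ B
      intro hAB
      -- a third point
      have h3 : ∃ γ : Ω, γ ≠ α ∧ γ ≠ y • α := by
        by_contra hno
        push_neg at hno
        have hsub : (Set.univ : Set Ω) ⊆ {α, y • α} := by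
          intro γ _
          by_cases hγ : γ = α
          · left; exact hγ
          · right; exact hno γ hγ
        have h1 := Set.encard_le_encard hsub
        rw [Set.encard_univ, Set.encard_pair hβ.symm] at h1
        have := le_trans hΩ h1
        exact absurd this (by norm_num)
      obtain ⟨γ, hγ1, hγ2⟩ := h3
      obtain ⟨a, ⟨ha, e⟩, _⟩ := hreg (y • α) γ hβ hγ1
      rw [hAB] at ha
      have := conj_fixes hA y ha
      rw [this] at e
      exact hγ2 e.symm
    · -- nilpotent
      haveI := hnil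
      exact Group.nilpotent_of_surjective _ (MonoidHom.subgroupMap_surjective (MulAut.conj y).toMonoidHom A)
  · apply le_antisymm
    · unfold Subgroup.normalClosure
      rw [Subgroup.closure_le]
      intro x hx
      rw [Group.mem_conjugatesOfSet_iff] at hx
      obtain ⟨a, ha, hconj⟩ := hx
      rw [isConj_iff] at hconj
      obtain ⟨g, rfl⟩ := hconj
      have hmem : g * a * g⁻¹ ∈ Cfsg.conjBy A g := conj_mem_conjBy A g ha
      by_cases hg : g • α = α
      · have : Cfsg.conjBy A g = A := hAn g (MulAction.mem_stabilizer_iff.mpr hg)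
        rw [this] at hmem
        exact Subgroup.mem_sup_left hmem
      · obtain ⟨a', ⟨ha', e⟩, _⟩ := hreg (y • α) (g • α) hβ hg
        have : Cfsg.conjBy A g = Cfsg.conjBy (Cfsg.conjBy A y) a' := by
          rw [conjBy_conjBy]
          apply conj_eq_of_smul_eq hAn
          rw [mul_smul, e]
        rw [this] at hmem
        exact (conjBy_le_of_mem le_sup_right (Subgroup.mem_sup_left ha')) hmem
    · apply sup_le Subgroup.le_normalClosure
      intro x hx
      rw [mem_conjBy] at hx
      have h1 : y⁻¹ * x * y ∈ Subgroup.normalClosure (A : Set Y) := Subgroup.le_normalClosure hx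
      have h2 := (Subgroup.normalClosure_normal (s := (A : Set Y))).conj_mem _ h1 y
      have : y * (y⁻¹ * x * y) * y⁻¹ = x := by group
      rwa [this] at h2

end Cfsg.Agent.S5015
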