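import Cfsg.Statements.S5017
import Cfsg.Agent.Lib.Helper8_RankOne

set_option autoImplicit false
open Cfsg

namespace Cfsg.Agent.S5017

open Cfsg.Agent.Lib.Helper8_RankOne

/-- Let X be a rank one group with unipotent subgroups A and B and N a normal subgroup of X. Then either X = N A or N lies in the centre of X. Consequently a perfect rank one group is quasisimple. -/
theorem result {X : Type*} [Group X] {A B : Subgroup X} (h : Cfsg.IsRankOneGroup X A B) :
    (∀ N : Subgroup X, N.Normal → N ⊔ A = ⊤ ∨ N ≤ Subgroup.center X) ∧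
    (Group.IsPerfect X → Cfsg.IsQuasisimple X) := by
  obtain ⟨htop, hp⟩ := h
  have part1 : ∀ N : Subgroup X, N.Normal → N ⊔ A = ⊤ ∨ N ≤ Subgroup.center X :=
    fun N hN => normal_cases hp htop N hN
  refine ⟨part1, ?_⟩
  intro hperf
  refine ⟨hperf, ?_⟩
  -- the centre is proper
  have hcen : Subgroup.center X ≠ ⊤ := by
    intro hcen
    obtain ⟨b, hb, hb1⟩ := exists_right_ne_one hp
    apply hb1
    apply norm_right hp hb
    apply Subgroup.center_le_normalizer
    rw [hcen]; exact Subgroup.mem_top b
  have hnontriv : Nontrivial (X ⧸ Subgroup.center X) := by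
    by_contra hnot
    rw [not_nontrivial_iff_subsingleton] at hnot
    exact hcen (QuotientGroup.subgroup_eq_top_of_subsingleton _ hnot)
  refine { toNontrivial := hnontriv, eq_bot_or_eq_top_of_normal := ?_ }
  intro M hM
  have hsurj : Function.Surjective (QuotientGroup.mk' (Subgroup.center X)) := QuotientGroup.mk'_surjective _
  have hNn : (M.comap (QuotientGroup.mk' (Subgroup.center X))).Normal := hM.comap _
  rcases part1 _ hNn with hNA | hNZ
  · right
    -- X / N is a quotient of A, hence nilpotent, and perfect, hence trivial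
    set N := M.comap (QuotientGroup.mk' (Subgroup.center X)) with hN
    haveI : N.Normal := hNn
    haveI : Group.IsNilpotent A := hp.nilpotent_left
    have hsurjA : Function.Surjective ((QuotientGroup.mk' N).comp A.subtype) := by
      intro q
      obtain ⟨x, rfl⟩ := QuotientGroup.mk'_surjective N q
      have hx : x ∈ N ⊔ A := by rw [hNA]; exact Subgroup.mem_top x
      obtain ⟨n, hn, a, ha, rfl⟩ := Subgroup.mem_sup_of_normal_left.mp hx
      refine ⟨⟨a, ha⟩, ?_⟩
      simp only [MonoidHom.comp_apply, Subgroup.coe_subtype, QuotientGroup.mk'_apply]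
      rw [QuotientGroup.eq]
      have : a⁻¹ * (n * a) = a⁻¹ * n * a := by group
      rw [this]
      have := hNn.conj_mem n hn a⁻¹
      rwa [inv_inv] at this
    haveI : Group.IsNilpotent (X ⧸ N) := Group.nilpotent_of_surjective _ hsurjA
    haveI : Group.IsPerfect (X ⧸ N) := inferInstance
    have hsub : Subsingleton (X ⧸ N) := by
      by_contra hnot
      rw [not_subsingleton_iff_nontrivial] at hnot
      exact Group.IsPerfect.not_isNilpotent (X ⧸ N) inferInstance
    have hNtop : N = ⊤ := QuotientGroup.subgroup_eq_top_of_subsingleton _ hsub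
    rw [← Subgroup.map_comap_eq_self_of_surjective hsurj M, ← hN, hNtop]
    exact Subgroup.map_top_of_surjective _ hsurj
  · left
    rw [← Subgroup.map_comap_eq_self_of_surjective hsurj M]
    rw [eq_bot_iff]
    rintro _ ⟨x, hx, rfl⟩
    rw [Subgroup.mem_bot, QuotientGroup.mk'_apply, QuotientGroup.eq_one_iff]
    exact hNZ hx

end Cfsg.Agent.S5017
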