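import Cfsg.Statements.S5018
import Cfsg.Agent.Lib.Helper8_RankOne

set_option autoImplicit false
open Cfsg

namespace Cfsg.Agent.S5018

open Cfsg.Agent.Lib.Helper8_RankOne
open scoped commutatorElement

/-- A rank one group is not nilpotent, and its second centre equals its centre. -/
theorem result {X : Type*} [Group X] {A B : Subgroup X} (h : Cfsg.IsRankOneGroup X A B) :
    Subgroup.upperCentralSeries X 2 = Subgroup.center X ∧ ¬ Group.IsNilpotent X := by
  obtain ⟨htop, hp⟩ := h
  have htop' : B ⊔ A = ⊤ := by rw [sup_comm]; exact htop
  have key : ∀ y : X, (∀ x : X, ⁅y, x⁆ ∈ Subgroup.center X) → y ∈ Subgroup.center X := by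
    intro y hy
    have hy' : ∀ x : X, y * x * y⁻¹ * x⁻¹ ∈ Subgroup.center X := by
      intro x; have := hy x; rwa [commutatorElement_def] at this
    apply mem_center_of_commute_gens htop
    · intro a ha; exact (second_centre_commute hp htop hy' a ha).symm
    · intro b hb; exact (second_centre_commute (Cfsg.RankOnePair_symm hp) htop' hy' b hb).symm
  have h2 : Subgroup.upperCentralSeries X 2 = Subgroup.center X := by
    apply le_antisymm
    · intro y hy
      rw [show (2 : ℕ) = 1 + 1 from rfl, Subgroup.mem_upperCentralSeries_succ_iff,
        Subgroup.upperCentralSeries_one] at hy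
      exact key y hy
    · rw [← Subgroup.upperCentralSeries_one]
      exact Subgroup.upperCentralSeries_mono X (by norm_num)
  refine ⟨h2, ?_⟩
  intro hnil
  obtain ⟨n, hn⟩ := (Group.isNilpotent_iff X).mp hnil
  -- all terms from 1 on equal the centre
  have hall : ∀ m : ℕ, Subgroup.upperCentralSeries X (m + 1) = Subgroup.center X := by
    intro m
    induction m with
    | zero => exact Subgroup.upperCentralSeries_one X
    | succ m ih =>
      ext y
      rw [Subgroup.mem_upperCentralSeries_succ_iff, ih]
      constructor
      · exact key y
      · intro hy x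
        rw [commutatorElement_def]
        have := Subgroup.mem_center_iff.mp hy x
        have e : y * x * y⁻¹ * x⁻¹ = 1 := by
          rw [← this]; group
        rw [e]; exact Subgroup.one_mem _
  have hcen : Subgroup.center X = ⊤ := by
    rcases n with _ | m
    · -- trivial group
      rw [Subgroup.upperCentralSeries_zero] at hn
      rw [eq_top_iff, ← hn]
      exact bot_le
    · rw [← hall m, hn]
  obtain ⟨b, hb, hb1⟩ := exists_right_ne_one hp
  apply hb1
  apply norm_right hp hb
  apply Subgroup.center_le_normalizer
  rw [hcen]; exact Subgroup.mem_top b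

end Cfsg.Agent.S5018
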