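import Cfsg.Statements.S5019
import Cfsg.Agent.Lib.Helper8_RankOneModule

set_option autoImplicit false
open Cfsg

namespace Cfsg.Agent.S5019

/-- Let X be a rank one group with abelian unipotent subgroups A and B, and suppose X acts on an abelian group N (written additively) in such a way that A acts quadratically, meaning a' • (a • n − n) = a • n − n for all a, a' in A and n in N, while X as a whole does not: y • (x • n − n) ≠ x • n − n for some x, y in X and n in N. Then X is a special rank one group. -/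
theorem result {X : Type*} [Group X] {A B : Subgroup X} (h : Cfsg.IsRankOneGroup X A B)
    (hab : Cfsg.HasAbelianUnipotents A B) {N : Type*} [AddCommGroup N] [DistribMulAction X N]
    (hq : ∀ a ∈ A, ∀ a' ∈ A, ∀ n : N, a' • (a • n - n) = a • n - n)
    (hX : ∃ x y : X, ∃ n : N, y • (x • n - n) ≠ x • n - n) : Cfsg.IsSpecialRankOnePair A B := by
  classical
  obtain ⟨htop, hp⟩ := h
  have hqA : Lib.Helper8_RankOneModule.Quad N A := hq
  obtain ⟨x0, hx0, eB⟩ := Lib.Helper8_RankOne.right_mem_unipotent hp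
  have hqB : Lib.Helper8_RankOneModule.Quad N B := by
    rw [eB]; exact Lib.Helper8_RankOneModule.quad_conj hqA x0
  refine ⟨hp, ?_⟩
  intro a ha ha1 b hb hb1 e
  -- notation
  have hZfix := Lib.Helper8_RankOneModule.comm_inf_le_fix_sup (V := N) hqA hqB
  -- the two identities
  have k1 : ∀ w ∈ Lib.Helper8_RankOneModule.comm N B,
      w + (b • (a⁻¹ • w - w) - (a⁻¹ • w - w)) ∈ Lib.Helper8_RankOneModule.fix N (A ⊔ B) :=
    fun w hw => hZfix (Lib.Helper8_RankOneModule.key hqA hqB ha hb e hw)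
  have k2 : ∀ w ∈ Lib.Helper8_RankOneModule.comm N A,
      w + (a • (b⁻¹ • w - w) - (b⁻¹ • w - w)) ∈ Lib.Helper8_RankOneModule.fix N (A ⊔ B) := by
    intro w hw
    have := Lib.Helper8_RankOneModule.key hqB hqA hb ha e.symm hw
    rw [inf_comm] at this
    exact hZfix this
  -- the difference of the two conjugates acts into the fixed points
  have hdiff : ∀ v : N, (b⁻¹ * a * b) • v - (a⁻¹ * b⁻¹ * a) • v ∈
      Lib.Helper8_RankOneModule.fix N (A ⊔ B) := by
    intro v
    -- abbreviations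
    have qa : ∀ x : N, a • (a • x - x) = a • x - x := fun x => hq a ha a ha x
    have qb : ∀ x : N, b • (b • x - x) = b • x - x := fun x => hqB b hb b hb x
    have ia : ∀ x : N, a⁻¹ • x = x - (a • x - x) := by
      intro x
      have := Lib.Helper8_RankOneModule.inv_smul_sub (qa x)
      rw [sub_eq_iff_eq_add] at this
      rw [this]; abel
    have ib : ∀ x : N, b⁻¹ • x = x - (b • x - x) := by
      intro x
      have := Lib.Helper8_RankOneModule.inv_smul_sub (qb x)
      rw [sub_eq_iff_eq_add] at this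
      rw [this]; abel
    have h1 := k1 (b • v - v) (Lib.Helper8_RankOneModule.gen_mem_comm hb v)
    have h2 := k2 (a • v - v) (Lib.Helper8_RankOneModule.gen_mem_comm ha v)
    have hsum := add_mem h1 h2
    have key_eq : (b⁻¹ * a * b) • v - (a⁻¹ * b⁻¹ * a) • v =
        ((b • v - v) + (b • (a⁻¹ • (b • v - v) - (b • v - v)) - (a⁻¹ • (b • v - v) - (b • v - v)))) +
        ((a • v - v) + (a • (b⁻¹ • (a • v - v) - (a • v - v)) - (b⁻¹ • (a • v - v) - (a • v - v)))) := by
      simp only [mul_smul]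
      rw [ia (b • v - v), ib (a • v - v), ib (a • b • v), ia (b⁻¹ • a • v), ib (a • v)]
      simp only [smul_sub, smul_add, smul_neg, qa, qb]
      have qa' : ∀ x : N, a • a • x = a • x + (a • x - x) := by
        intro x
        have := qa x
        rw [smul_sub] at this
        rw [sub_eq_iff_eq_add] at this
        rw [this]; abel
      have qb' : ∀ x : N, b • b • x = b • x + (b • x - x) := by
        intro x
        have := qb x
        rw [smul_sub] at this
        rw [sub_eq_iff_eq_add] at this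
        rw [this]; abel
      simp only [qa', qb', smul_sub, smul_add]
      abel
    rw [key_eq]
    exact hsum
  -- g = c₁⁻¹ c₂ lies in the conjugate of A and acts trivially modulo fixed points
  by_contra hne
  have hg1 : (b⁻¹ * a * b)⁻¹ * (a⁻¹ * b⁻¹ * a) ≠ 1 := by
    intro h1
    exact hne (inv_mul_eq_one.mp h1)
  have hc1 : b⁻¹ * a * b ∈ Cfsg.conjBy A b⁻¹ := by
    have := Lib.Helper8_RankOne.conj_mem_conjBy A b⁻¹ ha
    rwa [inv_inv] at this
  have hc2 : a⁻¹ * b⁻¹ * a ∈ Cfsg.conjBy A b⁻¹ := by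
    rw [e]
    have := Lib.Helper8_RankOne.conj_mem_conjBy B a⁻¹ (B.inv_mem hb)
    rwa [inv_inv] at this
  have hg : (b⁻¹ * a * b)⁻¹ * (a⁻¹ * b⁻¹ * a) ∈ Cfsg.conjBy A b⁻¹ :=
    mul_mem (inv_mem hc1) hc2
  have hpC : Cfsg.IsRankOnePair (Cfsg.conjBy A b⁻¹) B := by
    have := Lib.Helper8_RankOne.rankOnePair_conj hp b⁻¹
    rwa [Lib.Helper8_RankOne.conjBy_of_mem (B.inv_mem hb)] at this
  have hqC : Lib.Helper8_RankOneModule.Quad N (Cfsg.conjBy A b⁻¹) :=
    Lib.Helper8_RankOneModule.quad_conj hqA _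
  have hsup : Cfsg.conjBy A b⁻¹ ⊔ B = A ⊔ B := by
    rw [htop, eq_top_iff]
    have h1 : Cfsg.conjBy (A ⊔ B) b⁻¹ = ⊤ := by
      rw [htop, eq_top_iff]
      intro x _
      rw [Lib.Helper8_RankOne.mem_conjBy]
      exact Subgroup.mem_top _
    rw [← h1, Lib.Helper8_RankOne.conjBy_sup, Lib.Helper8_RankOne.conjBy_of_mem (B.inv_mem hb)]
  have hfixg : ∀ v : N, ((b⁻¹ * a * b)⁻¹ * (a⁻¹ * b⁻¹ * a)) • v - v ∈
      Lib.Helper8_RankOneModule.fix N (Cfsg.conjBy A b⁻¹ ⊔ B) := by
    intro v
    rw [hsup]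
    have h1 := hdiff v
    have h2 := neg_mem h1
    rw [neg_sub] at h2
    have h3 := h2 ((b⁻¹ * a * b)⁻¹) (by rw [htop]; exact Subgroup.mem_top _)
    rw [smul_sub, inv_smul_smul] at h3
    have : ((b⁻¹ * a * b)⁻¹ * (a⁻¹ * b⁻¹ * a)) • v - v =
        (a⁻¹ * b⁻¹ * a) • v - (b⁻¹ * a * b) • v := by
      rw [mul_smul ((b⁻¹ * a * b)⁻¹), h3]
    rw [this]; exact h2
  have hB1 : Lib.Helper8_RankOneModule.comm N B ≤
      Lib.Helper8_RankOneModule.fix N (Cfsg.conjBy A b⁻¹ ⊔ B) :=
    Lib.Helper8_RankOneModule.comm_right_le_fix hpC hqC hqB hg hg1 hfixg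
  rw [hsup] at hB1
  have hA1 : Lib.Helper8_RankOneModule.comm N A ≤ Lib.Helper8_RankOneModule.fix N (A ⊔ B) :=
    Lib.Helper8_RankOneModule.comm_left_le_fix_of_right hp hB1
  have hall := Lib.Helper8_RankOneModule.all_quadratic hA1 hB1
  obtain ⟨x, y, n, hxy⟩ := hX
  apply hxy
  have := hall x (by rw [htop]; exact Subgroup.mem_top _) n
  exact this y (by rw [htop]; exact Subgroup.mem_top _)

end Cfsg.Agent.S5019
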