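import Cfsg.Statements.S5023
import Cfsg.Agent.Lib.Helper8_RankOneModule

set_option autoImplicit false
open Cfsg

namespace Cfsg.Agent.S5023

/-- Let X be a rank one group with unipotent subgroups A and B that acts faithfully on an abelian group V (written additively) with A acting quadratically: a' • (a • v − v) = a • v − v for all a, a' in A and v in V. Then A is either torsion-free or an elementary abelian p-group for some prime p. -/
theorem result {X : Type*} [Group X] {A B : Subgroup X} (h : Cfsg.IsRankOneGroup X A B)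
    {V : Type*} [AddCommGroup V] [DistribMulAction X V] (hf : ∀ x : X, (∀ v : V, x • v = v) → x = 1)
    (hq : ∀ a ∈ A, ∀ a' ∈ A, ∀ v : V, a' • (a • v - v) = a • v - v) :
    (∀ a ∈ A, a ≠ 1 → ¬ IsOfFinOrder a) ∨ ∃ p : ℕ, p.Prime ∧ Cfsg.IsElementaryAbelian p A := by
  classical
  obtain ⟨htop, hp⟩ := h
  have hqA : Lib.Helper8_RankOneModule.Quad V A := hq
  obtain ⟨x0, hx0, eB⟩ := Lib.Helper8_RankOne.right_mem_unipotent hp
  have hqB : Lib.Helper8_RankOneModule.Quad V B := by
    rw [eB]; exact Lib.Helper8_RankOneModule.quad_conj hqA x0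
  have hfaith : ∀ x y : X, (∀ v : V, x • v = y • v) → x = y := by
    intro x y hxy
    have : y⁻¹ * x = 1 := hf _ (fun v => by rw [mul_smul, hxy v, inv_smul_smul])
    exact (inv_mul_eq_one.mp this).symm
  have hcomm : IsMulCommutative A := by
    refine ⟨⟨?_⟩⟩
    rintro ⟨a, ha⟩ ⟨a', ha'⟩
    apply Subtype.ext
    show a * a' = a' * a
    apply hfaith
    intro v
    have h1 := hq a' ha' a ha v
    have h2 := hq a ha a' ha' v
    rw [smul_sub] at h1 h2
    rw [mul_smul, mul_smul]
    have e1 : a • a' • v = a' • v - v + a • v := by rw [← h1]; abel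
    have e2 : a' • a • v = a • v - v + a' • v := by rw [← h2]; abel
    rw [e1, e2]; abel
  by_cases htf : ∀ a ∈ A, a ≠ 1 → ¬ IsOfFinOrder a
  · left; exact htf
  · right
    push_neg at htf
    obtain ⟨a0, ha0, ha01, hfin⟩ := htf
    have hN : 1 < orderOf a0 := by
      have h0 : 0 < orderOf a0 := hfin.orderOf_pos
      have h1 : orderOf a0 ≠ 1 := by rw [Ne, orderOf_eq_one_iff]; exact ha01
      omega
    obtain ⟨N, hNdef⟩ : ∃ N, N = orderOf a0 := ⟨_, rfl⟩
    rw [← hNdef] at hN
    have hpp : (N.minFac).Prime := Nat.minFac_prime (by omega)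
    have hpd : N.minFac ∣ N := Nat.minFac_dvd N
    obtain ⟨p, hpdef⟩ : ∃ p, p = N.minFac := ⟨_, rfl⟩
    rw [← hpdef] at hpp hpd
    obtain ⟨a, hadef⟩ : ∃ a, a = a0 ^ (N / p) := ⟨_, rfl⟩
    have ha : a ∈ A := by rw [hadef]; exact A.pow_mem ha0 _
    have hap : a ^ p = 1 := by
      rw [hadef, ← pow_mul, Nat.div_mul_cancel hpd, hNdef]; exact pow_orderOf_eq_one a0
    have ha1 : a ≠ 1 := by
      intro e
      rw [hadef] at e
      have hd : N ∣ N / p := by rw [hNdef]; exact orderOf_dvd_of_pow_eq_one (hNdef ▸ e)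
      have hlt : N / p < N := Nat.div_lt_self (by omega) hpp.one_lt
      have hpos : 0 < N / p := Nat.div_pos (Nat.le_of_dvd (by omega) hpd) hpp.pos
      exact absurd (Nat.le_of_dvd hpos hd) (by omega)
    refine ⟨p, hpp, hcomm, ?_⟩
    have hpa : ∀ v : V, p • (a • v - v) = 0 := by
      intro v
      have h1 := Lib.Helper8_RankOneModule.pow_smul_quad (hq a ha a ha v) p
      rw [hap, one_smul] at h1
      have h2 : v + p • (a • v - v) = v + 0 := by rw [add_zero]; exact h1.symm
      exact add_left_cancel h2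
    have hpa' : ∀ v : V, p • (a⁻¹ • v - v) = 0 := by
      intro v
      rw [Lib.Helper8_RankOneModule.inv_smul_sub (hq a ha a ha v), smul_neg, hpa v, neg_zero]
    obtain ⟨b, hb, hb1, e⟩ := hp.cond_left a ha ha1
    have hZ : ∀ w ∈ Lib.Helper8_RankOneModule.comm V B,
        p • w ∈ Lib.Helper8_RankOneModule.fix V (A ⊔ B) := by
      intro w hw
      have hk := Lib.Helper8_RankOneModule.key hqA hqB ha hb e hw
      have h2 := AddSubgroup.nsmul_mem _ hk p
      rw [smul_add, smul_sub, smul_comm p b, hpa' w, smul_zero, sub_zero, add_zero] at h2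
      exact Lib.Helper8_RankOneModule.comm_inf_le_fix_sup hqA hqB h2
    have hBexp : ∀ β ∈ B, β ^ p = 1 := by
      intro β hβ
      by_contra hg1
      have hg : β ^ p ∈ B := B.pow_mem hβ p
      have hfix : ∀ v : V, (β ^ p) • v - v ∈ Lib.Helper8_RankOneModule.fix V (B ⊔ A) := by
        intro v
        rw [Lib.Helper8_RankOneModule.pow_smul_quad (hqB β hβ β hβ v) p, add_sub_cancel_left,
          sup_comm]
        exact hZ _ (Lib.Helper8_RankOneModule.gen_mem_comm hβ v)
      have hps := Cfsg.RankOnePair_symm hp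
      have h1 : Lib.Helper8_RankOneModule.comm V A ≤ Lib.Helper8_RankOneModule.fix V (B ⊔ A) :=
        Lib.Helper8_RankOneModule.comm_right_le_fix hps hqB hqA hg hg1 hfix
      have h2 : Lib.Helper8_RankOneModule.comm V B ≤ Lib.Helper8_RankOneModule.fix V (B ⊔ A) :=
        Lib.Helper8_RankOneModule.comm_left_le_fix_of_right hps h1
      have hall := Lib.Helper8_RankOneModule.all_quadratic h2 h1
      apply Lib.Helper8_RankOne.not_centralizes hp
      intro a' ha' b' hb'
      apply hfaith
      intro v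
      have e1 := hall b' (Subgroup.mem_sup_left hb') v
      have e2 := hall a' (Subgroup.mem_sup_right ha') v
      have e3 := e1 a' (Subgroup.mem_sup_right ha')
      have e4 := e2 b' (Subgroup.mem_sup_left hb')
      rw [smul_sub] at e3 e4
      rw [mul_smul, mul_smul]
      have f1 : a' • b' • v = b' • v - v + a' • v := by rw [← e3]; abel
      have f2 : b' • a' • v = a' • v - v + b' • v := by rw [← e4]; abel
      rw [f1, f2]; abel
    obtain ⟨y, hy, eA⟩ := Lib.Helper8_RankOne.right_mem_unipotent (Cfsg.RankOnePair_symm hp)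
    intro c hc
    rw [eA, Lib.Helper8_RankOne.mem_conjBy] at hc
    have h3 := hBexp _ hc
    have h4 : c = y * (y⁻¹ * c * y) * y⁻¹ := by group
    rw [h4, conj_pow, h3, mul_one, mul_inv_cancel]

end Cfsg.Agent.S5023
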