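import Cfsg.Statements.S5026
import Cfsg.Agent.Lib.Helper8_RankOne
import Cfsg.Agent.S5025

set_option autoImplicit false
open Cfsg

namespace Cfsg.Agent.S5026

open Cfsg.Agent.Lib.Helper8_RankOne

theorem le_centralizer_zpowers_iff {G : Type*} [Group G] (E : Subgroup G) (x : G) :
    E ≤ Subgroup.centralizer ((Subgroup.zpowers x : Subgroup G) : Set G) ↔ ∀ e ∈ E, e * x = x * e := by
  constructor
  · intro h e he
    have := h he
    rw [Subgroup.mem_centralizer_iff] at this
    exact (this x (Subgroup.mem_zpowers x)).symm
  · intro h e he
    rw [Subgroup.mem_centralizer_iff]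
    rintro y ⟨k, rfl⟩
    have hc : Commute x e := (h e he).symm
    exact (hc.zpow_left k).eq

/-- Let S be a degenerate set of abstract root subgroups of G (a set of abstract transvection groups) and let a, b be commuting non-identity elements of members of S with a b ≠ 1. Then the members of S centralizing a b are exactly those centralizing both a and b. -/
theorem result {G : Type*} [Group G] {S : Set (Subgroup G)} (hS : Cfsg.IsRootSubgroupSet S) (hdeg : Cfsg.IsDegenerateRootSet S)
    {a b : G} (ha : a ∈ Cfsg.rootElements S) (hb : b ∈ Cfsg.rootElements S) (hab : a * b = b * a) (hab1 : a * b ≠ 1) :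
    Cfsg.centralizingMembers S (Subgroup.zpowers (a * b)) =
      Cfsg.centralizingMembers S (Subgroup.zpowers a) ∩ Cfsg.centralizingMembers S (Subgroup.zpowers b) := by
  obtain ⟨ha1, A, hAS, haA⟩ := ha
  obtain ⟨hb1, B, hBS, hbB⟩ := hb
  have hAcomm := hS.commutative A hAS
  have hBcomm := hS.commutative B hBS
  -- A and B commute elementwise
  have hABc : ∀ x ∈ A, ∀ y ∈ B, x * y = y * x := by
    rcases hS.pair A hAS B hBS with h0 | h1 | h2
    · intro x hx y hy
      have := (Subgroup.commutator_eq_bot_iff_le_centralizer.mp h0) hx
      rw [Subgroup.mem_centralizer_iff] at this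
      exact (this y hy).symm
    · exact absurd hab (not_commute h1 hBcomm haA ha1 hbB hb1)
    · exact absurd h2 (hdeg A hAS B hBS)
  ext E
  unfold Cfsg.centralizingMembers
  simp only [Set.mem_ofPred_eq, Set.mem_inter_iff, le_centralizer_zpowers_iff]
  constructor
  · rintro ⟨hES, hE⟩
    have hEa : ∀ e ∈ E, e * a = a * e := by
      rcases hS.pair E hES A hAS with h0 | h1 | h2
      · intro e he
        have := (Subgroup.commutator_eq_bot_iff_le_centralizer.mp h0) he
        rw [Subgroup.mem_centralizer_iff] at this
        exact (this a haA).symm
      · exfalso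
        have hzc : a * b ∈ Subgroup.centralizer ((A ⊔ E : Subgroup G) : Set G) := by
          have : A ⊔ E ≤ Subgroup.centralizer ({a * b} : Set G) := by
            apply sup_le
            · intro x hx
              rw [Subgroup.mem_centralizer_iff]
              intro y hy
              rw [Set.mem_singleton_iff] at hy
              rw [hy]
              have h3 : x * a = a * x := comm_of_isMulCommutative hAcomm hx haA
              have h4 := hABc x hx b hbB
              calc a * b * x = a * (b * x) := by group
                _ = a * (x * b) := by rw [h4]
                _ = (a * x) * b := by group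
                _ = (x * a) * b := by rw [h3]
                _ = x * (a * b) := by group
            · intro x hx
              rw [Subgroup.mem_centralizer_iff]
              intro y hy
              rw [Set.mem_singleton_iff] at hy
              rw [hy]
              exact (hE x hx).symm
          rw [Subgroup.mem_centralizer_iff]
          intro g hg
          have := this hg
          rw [Subgroup.mem_centralizer_iff] at this
          exact (this (a * b) rfl).symm
        have ha1' : a⁻¹ ≠ 1 := fun e => ha1 (inv_eq_one.mp e)
        have := Cfsg.Agent.S5025.result hS hAS ⟨hES, Cfsg.RankOnePair_symm h1⟩ hzc hab1 a⁻¹ (A.inv_mem haA) ha1'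
        apply this
        have e2 : a * b * a⁻¹ = b := by rw [hab]; group
        rw [e2]
        exact ⟨hb1, B, hBS, hbB⟩
      · exact absurd h2 (hdeg E hES A hAS)
    refine ⟨⟨hES, hEa⟩, hES, ?_⟩
    intro e he
    have h3 := hE e he
    have h4 := hEa e he
    calc e * b = a⁻¹ * (a * e) * b := by group
      _ = a⁻¹ * (e * a) * b := by rw [h4]
      _ = a⁻¹ * (e * (a * b)) := by group
      _ = a⁻¹ * ((a * b) * e) := by rw [h3]
      _ = b * e := by group
  · rintro ⟨⟨hES, hEa⟩, _, hEb⟩
    refine ⟨hES, ?_⟩
    intro e he
    have h3 := hEa e he
    have h4 := hEb e he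
    calc e * (a * b) = (e * a) * b := by group
      _ = (a * e) * b := by rw [h3]
      _ = a * (e * b) := by group
      _ = a * (b * e) := by rw [h4]
      _ = a * b * e := by group

end Cfsg.Agent.S5026
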