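import Cfsg.Statements.S5027
import Cfsg.Agent.Lib.Helper8_RankOne
import Cfsg.Agent.S5025

set_option autoImplicit false
open Cfsg

namespace Cfsg.Agent.S5027

open Cfsg.Agent.Lib.Helper8_RankOne
open scoped commutatorElement

/-- Let S be a set of abstract root subgroups of G such that every member of S has a rank one partner in S (the graph of rank one pairs on S has no isolated vertex). Then the second centre of G equals its centre. -/
theorem result {G : Type*} [Group G] {S : Set (Subgroup G)} (hS : Cfsg.IsRootSubgroupSet S)
    (hF : ∀ A ∈ S, ¬ Cfsg.IsIsolatedIn (Cfsg.FAdj S) S A) : Subgroup.upperCentralSeries G 2 = Subgroup.center G := by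
  apply le_antisymm
  · intro y hy
    rw [show (2 : ℕ) = 1 + 1 from rfl, Subgroup.mem_upperCentralSeries_succ_iff,
      Subgroup.upperCentralSeries_one] at hy
    have hy' : ∀ x : G, y * x * y⁻¹ * x⁻¹ ∈ Subgroup.center G := by
      intro x; have := hy x; rwa [commutatorElement_def] at this
    -- y commutes with every member of S
    have hcomm : ∀ A ∈ S, A ≤ Subgroup.centralizer ({y} : Set G) := by
      intro A hAS a ha
      rw [Subgroup.mem_centralizer_iff]
      intro x hx
      rw [Set.mem_singleton_iff] at hx
      rw [hx]
      -- partner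
      have hpart : ∃ C ∈ S, Cfsg.IsRankOnePair A C := by
        by_contra hno
        apply hF A hAS
        refine ⟨hAS, ?_⟩
        intro B
        constructor
        · rintro ⟨_, hB, hAB⟩
          exact hno ⟨B, hB, hAB⟩
        · rintro ⟨hB, _, hBA⟩
          exact hno ⟨B, hB, Cfsg.RankOnePair_symm hBA⟩
      obtain ⟨B, hBS, hAB⟩ := hpart
      by_contra hne
      have hz := hy' a
      have hz1 : y * a * y⁻¹ * a⁻¹ ≠ 1 := by
        intro e
        apply hne
        have : y * a = (y * a * y⁻¹ * a⁻¹) * (a * y) := by group
        rw [this, e, one_mul]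
      have ha1 : a ≠ 1 := by
        intro e
        apply hne
        rw [e, mul_one, one_mul]
      have hzc : y * a * y⁻¹ * a⁻¹ ∈ Subgroup.centralizer ((A ⊔ B : Subgroup G) : Set G) := by
        rw [Subgroup.mem_centralizer_iff]
        intro g _
        exact Subgroup.mem_center_iff.mp hz g
      have := Cfsg.Agent.S5025.result hS hAS ⟨hBS, hAB⟩ hzc hz1 a ha ha1
      apply this
      refine ⟨?_, Cfsg.conjBy A y, hS.conj_mem A hAS y, ?_⟩
      · intro e
        apply ha1
        have e2 : y * a * y⁻¹ * a⁻¹ * a = y * a * y⁻¹ := by group
        rw [e2] at e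
        have : a = y⁻¹ * (y * a * y⁻¹) * y := by group
        rw [this, e]; group
      · have e2 : y * a * y⁻¹ * a⁻¹ * a = y * a * y⁻¹ := by group
        rw [e2]
        exact conj_mem_conjBy A y ha
    have htop : (⊤ : Subgroup G) ≤ Subgroup.centralizer ({y} : Set G) := by
      rw [← hS.generates]
      exact iSup₂_le hcomm
    rw [Subgroup.mem_center_iff]
    intro g
    have := htop (Subgroup.mem_top g)
    rw [Subgroup.mem_centralizer_iff] at this
    exact (this y rfl).symm
  · rw [← Subgroup.upperCentralSeries_one]
    exact Subgroup.upperCentralSeries_mono G (by norm_num)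

end Cfsg.Agent.S5027
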