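import Cfsg.Statements.S5032
import Cfsg.Agent.Lib.Helper8_RootComp

set_option autoImplicit false
open Cfsg

namespace Cfsg.Agent.S5032

/-- Let S be a set of abstract root subgroups of G with more than one member. Then the graph of rank one pairs on S is connected if and only if S is a single conjugacy class of G and some member of S has a rank one partner in S. -/
theorem result {G : Type*} [Group G] {S : Set (Subgroup G)} (hS : Cfsg.IsRootSubgroupSet S) (h2 : ∃ A ∈ S, ∃ B ∈ S, A ≠ B) :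
    Cfsg.IsConnectedFamily (Cfsg.FAdj S) S ↔
      (Cfsg.IsConjClassOfSubgroups S ∧ ∃ A ∈ S, ¬ Cfsg.IsIsolatedIn (Cfsg.FAdj S) S A) := by
  obtain ⟨A₁, hA₁, B₁, hB₁, hne⟩ := h2
  constructor
  · intro hc
    refine ⟨Lib.Helper8_RootComp.class_of_connected hS hc hA₁, A₁, hA₁, ?_⟩
    have hp := hc A₁ hA₁ B₁ hB₁
    rcases hp.cases_head with e | ⟨E, hadj, _⟩
    · exact absurd e hne
    · exact Lib.Helper8_RootBase.not_isolated_of_partner hA₁ hadj.2.1 hadj.2.2
  · rintro ⟨hcl, A₀, hA₀, hni⟩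
    obtain ⟨E₀, hE₀, h₀⟩ := Lib.Helper8_RootBase.exists_partner_of_not_isolated hA₀ hni
    exact Lib.Helper8_RootComp.connected_of_class hS hcl hA₀ hE₀ h₀

end Cfsg.Agent.S5032
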