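import Cfsg.Statements.S5035
import Cfsg.Agent.Lib.Helper8_RootImage

set_option autoImplicit false
open Cfsg

namespace Cfsg.Agent.S5035

/-- Let S be a set of abstract root subgroups of G whose graph of rank one pairs is connected, and f a homomorphism from G onto a group H. Then either the images of the members of S form a set of abstract root subgroups of H whose graph of rank one pairs is again connected, or H equals the image of a member of S. -/
theorem result {G H : Type*} [Group G] [Group H] {S : Set (Subgroup G)} (hS : Cfsg.IsRootSubgroupSet S)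
    (hc : Cfsg.IsConnectedFamily (Cfsg.FAdj S) S) (f : G →* H) (hf : Function.Surjective f) :
    (Cfsg.IsRootSubgroupSet ((fun A : Subgroup G => A.map f) '' S) ∧
      Cfsg.IsConnectedFamily (Cfsg.FAdj ((fun A : Subgroup G => A.map f) '' S)) ((fun A : Subgroup G => A.map f) '' S)) ∨
    ∃ A ∈ S, A.map f = ⊤ := by
  by_cases hker : ∃ A ∈ S, A ≤ f.ker
  · right
    obtain ⟨A, hA, hAk⟩ := hker
    have hall : ∀ B ∈ S, B ≤ f.ker := by
      intro B hB
      have hpath := hc A hA B hB
      induction hpath with
      | refl => exact hAk
      | tail _ hadj ih =>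
        obtain ⟨hT, hT', hr⟩ := hadj
        obtain ⟨x, _, hx⟩ := Lib.Helper8_RankOne.right_mem_unipotent hr
        rw [hx]
        intro y hy
        rw [Lib.Helper8_RankOne.mem_conjBy] at hy
        have h1 := ih hT hy
        rw [MonoidHom.mem_ker] at h1 ⊢
        rw [map_mul, map_mul, map_inv] at h1
        have : f y = f x * (f x⁻¹ * f y * f x) * (f x)⁻¹ := by
          rw [map_inv]; group
        rw [this, map_inv, h1]; group
    have htop : f.ker = ⊤ := by
      rw [eq_top_iff, ← hS.generates]
      exact iSup₂_le hall
    refine ⟨A, hA, ?_⟩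
    rw [eq_top_iff]
    intro h _
    obtain ⟨g, rfl⟩ := hf h
    have : g ∈ f.ker := by rw [htop]; exact Subgroup.mem_top g
    rw [MonoidHom.mem_ker] at this
    rw [this]; exact Subgroup.one_mem _
  · left
    push Not at hker
    exact ⟨Lib.Helper8_RootImage.image_root hS f hf hker,
      Lib.Helper8_RootImage.image_connected hS hc f⟩

end Cfsg.Agent.S5035
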