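import Mathlib
import Cfsg.Statements.S5058
import Cfsg.Agent.Lib.Helper4_Transv1
import Cfsg.Agent.Lib.Helper9_SLn

set_option autoImplicit false

open Matrix
open Cfsg

namespace Cfsg.Agent.S5058

open Matrix

section alg
variable {F : Type*} [Field F] {R : Type*} [Ring R] [Algebra F R]

omit [Algebra F R] in
lemma one_add_mul_one_add (A B : R) : (1 + A) * (1 + B) = 1 + (A + B + A * B) := by noncomm_ring

omit [Algebra F R] in
lemma sq_char2 (hchar : ∀ x : R, x + x = 0) (P Q : R) (hc : P * Q = Q * P) :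
    (P + Q) * (P + Q) = P * P + Q * Q := by
  have : (P + Q) * (P + Q) = P * P + (P * Q + P * Q) + Q * Q := by
    rw [add_mul, mul_add, mul_add, ← hc]; abel
  rw [this, hchar, add_zero]

omit [Algebra F R] in
lemma case_BA_zero (A B : R) (hAA : A * A = 0) (hBB : B * B = 0) (hBA : B * A = 0) :
    (A + B + A * B) * (A + B + A * B) = A * B := by
  have hAA' : ∀ x, A * (A * x) = 0 := fun x => by rw [← mul_assoc, hAA, zero_mul]
  have hBB' : ∀ x, B * (B * x) = 0 := fun x => by rw [← mul_assoc, hBB, zero_mul]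
  have hBA' : ∀ x, B * (A * x) = 0 := fun x => by rw [← mul_assoc, hBA, zero_mul]
  simp only [mul_add, add_mul, mul_assoc, hAA, hBB, hBA, hAA', hBB', hBA', mul_zero, zero_mul,
    add_zero, zero_add]

omit [Algebra F R] in
lemma case_AB_zero (A B : R) (hAA : A * A = 0) (hBB : B * B = 0) (hAB : A * B = 0) :
    (A + B + A * B) * (A + B + A * B) = B * A := by
  rw [hAB, add_zero]
  simp only [mul_add, add_mul, hAA, hBB, hAB, add_zero, zero_add]

lemma generic_XX (τ : F) (A B : R) (hAA : A * A = 0) (hBB : B * B = 0)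
    (hABA : A * B * A = τ • A) (hBAB : B * A * B = τ • B) :
    (A + B + A * B) * (A + B + A * B) = A * B + B * A + τ • (A + B + A * B) := by
  have hAA' : ∀ x, A * (A * x) = 0 := fun x => by rw [← mul_assoc, hAA, zero_mul]
  have hBB' : ∀ x, B * (B * x) = 0 := fun x => by rw [← mul_assoc, hBB, zero_mul]
  have hABA' : ∀ x, A * (B * (A * x)) = τ • (A * x) := fun x => by
    rw [← mul_assoc, ← mul_assoc, hABA, smul_mul_assoc]
  have hABA'' : A * (B * A) = τ • A := by rw [← mul_assoc, hABA]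
  have hBAB'' : B * (A * B) = τ • B := by rw [← mul_assoc, hBAB]
  simp only [mul_add, add_mul, mul_assoc, hAA, hBB, hAA', hBB', hABA', hABA'', hBAB'', mul_zero,
    zero_mul, add_zero, zero_add, smul_add, mul_smul_comm]
  abel

lemma generic_XC (τ : F) (A B : R) (hAA : A * A = 0) (hBB : B * B = 0)
    (hABA : A * B * A = τ • A) (hBAB : B * A * B = τ • B) :
    (A + B + A * B) * (A * B + B * A) = τ • (A + B + A * B) := by
  have hAA' : ∀ x, A * (A * x) = 0 := fun x => by rw [← mul_assoc, hAA, zero_mul]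
  have hBB' : ∀ x, B * (B * x) = 0 := fun x => by rw [← mul_assoc, hBB, zero_mul]
  have hABA' : ∀ x, A * (B * (A * x)) = τ • (A * x) := fun x => by
    rw [← mul_assoc, ← mul_assoc, hABA, smul_mul_assoc]
  have hABA'' : A * (B * A) = τ • A := by rw [← mul_assoc, hABA]
  have hBAB'' : B * (A * B) = τ • B := by rw [← mul_assoc, hBAB]
  simp only [mul_add, add_mul, mul_assoc, hAA, hBB, hAA', hBB', hABA', hABA'', hBAB'', mul_zero,
    zero_mul, add_zero, zero_add, smul_add, mul_smul_comm]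
  abel

lemma generic_X3 (τ : F) (A B : R) (hAA : A * A = 0) (hBB : B * B = 0)
    (hABA : A * B * A = τ • A) (hBAB : B * A * B = τ • B) :
    (A + B + A * B) * ((A + B + A * B) * (A + B + A * B))
      = τ • ((A + B + A * B) * (A + B + A * B)) + τ • (A + B + A * B) := by
  have h1 := generic_XX τ A B hAA hBB hABA hBAB
  have h2 := generic_XC τ A B hAA hBB hABA hBAB
  generalize A + B + A * B = X at h1 h2 ⊢
  conv_lhs => rw [h1]
  rw [mul_add, h2, mul_smul_comm]
  abel

lemma generic_indep (τ : F) (hτ : τ ≠ 0) (A B : R) (hA0 : A ≠ 0) (hAA : A * A = 0) (hBB : B * B = 0)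
    (hABA : A * B * A = τ • A) (hBAB : B * A * B = τ • B) (c₁ c₂ : F)
    (h : c₁ • (A + B + A * B) + c₂ • ((A + B + A * B) * (A + B + A * B)) = 0) : c₁ = 0 ∧ c₂ = 0 := by
  have hAA' : ∀ x, A * (A * x) = 0 := fun x => by rw [← mul_assoc, hAA, zero_mul]
  have hABA'' : A * (B * A) = τ • A := by rw [← mul_assoc, hABA]
  have hAB0 : A * B ≠ 0 := by
    intro h0
    rw [h0, zero_mul] at hABA
    exact hA0 ((smul_eq_zero.mp hABA.symm).resolve_left hτ)
  rw [generic_XX τ A B hAA hBB hABA hBAB] at h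
  have h1 := congrArg (fun Z => A * Z) h
  simp only [mul_add, mul_smul_comm, mul_zero, hAA, hAA', hABA'', smul_zero, add_zero, zero_add] at h1
  have h2 := congrArg (fun Z => Z * B) h1
  simp only [add_mul, smul_mul_assoc, mul_assoc, hBB, mul_zero, smul_zero, add_zero, zero_add, zero_mul] at h2
  have hc2 : c₂ = 0 := by
    rw [smul_smul] at h2
    have := (smul_eq_zero.mp h2).resolve_right hAB0
    exact (mul_eq_zero.mp this).resolve_right hτ
  rw [hc2] at h1
  simp only [zero_smul, add_zero] at h1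
  exact ⟨(smul_eq_zero.mp h1).resolve_right hAB0, hc2⟩

lemma pow_form (τ : F) (X : R)
    (hX3 : X * (X * X) = τ • (X * X) + τ • X) (k : ℕ) :
    ∃ s t : F, (1 + X) ^ k = 1 + (s • X + t • (X * X)) := by
  induction k with
  | zero => exact ⟨0, 0, by simp⟩
  | succ k ih =>
    obtain ⟨s, t, h⟩ := ih
    refine ⟨s + 1 + t * τ, s + t + t * τ, ?_⟩
    have hX3' : X * X * X = τ • (X * X) + τ • X := by rw [mul_assoc, hX3]
    rw [pow_succ, h]
    simp only [mul_add, add_mul, mul_one, one_mul, smul_mul_assoc, hX3', smul_add, smul_smul]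
    module

lemma pow_eq_one_of_sq (hchar : ∀ x : R, x + x = 0) (τ : F) (hτ : τ ≠ 0) (X : R)
    (hX3 : X * (X * X) = τ • (X * X) + τ • X)
    (hind : ∀ c₁ c₂ : F, c₁ • X + c₂ • (X * X) = 0 → c₁ = 0 ∧ c₂ = 0)
    (k : ℕ) (hk : (1 + X) ^ k * (1 + X) ^ k = 1) : (1 + X) ^ k = 1 := by
  obtain ⟨s, t, hst⟩ := pow_form τ X hX3 k
  rw [hst] at hk ⊢
  rw [sq_char2 hchar 1 _ (by rw [one_mul, mul_one]), one_mul] at hk
  have hY : (s • X + t • (X * X)) * (s • X + t • (X * X)) = 0 := by
    have := hk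
    rwa [add_eq_left] at this
  have hcomm : (s • X) * (t • (X * X)) = (t • (X * X)) * (s • X) := by
    simp only [smul_mul_assoc, mul_smul_comm, mul_assoc]
    rw [smul_comm]
  rw [sq_char2 hchar _ _ hcomm] at hY
  have hX4 : X * X * (X * X) = (τ * τ + τ) • (X * X) + (τ * τ) • X := by
    rw [mul_assoc, hX3, mul_add, mul_smul_comm, mul_smul_comm, hX3]
    simp only [smul_add, smul_smul]
    module
  simp only [smul_mul_assoc, mul_smul_comm, hX4, smul_add, smul_smul] at hY
  have hY' : (t * (t * (τ * τ))) • X + (s * s + t * (t * (τ * τ + τ))) • (X * X) = 0 := by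
    rw [← hY]; module
  obtain ⟨h1, h2⟩ := hind _ _ hY'
  have ht : t = 0 := by
    rcases mul_eq_zero.mp h1 with h | h
    · exact h
    · rcases mul_eq_zero.mp h with h | h
      · exact h
      · exact absurd (mul_self_eq_zero.mp h) hτ
  rw [ht] at h2
  have hs : s = 0 := by
    simp only [zero_mul, add_zero] at h2
    exact mul_self_eq_zero.mp h2
  rw [hs, ht, zero_smul, zero_smul, add_zero, add_zero]

end alg

section mat
variable {F : Type*} [Field F] {ι : Type} [Fintype ι] [DecidableEq ι]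

lemma rank_ne_zero_of_ne_zero (M : Matrix ι ι F) (hM : M ≠ 0) : M.rank ≠ 0 := by
  intro h
  apply hM
  unfold Matrix.rank at h
  have h1 : LinearMap.range M.mulVecLin = ⊥ := Submodule.finrank_eq_zero.mp h
  have h2 : M.mulVecLin = 0 := LinearMap.range_eq_bot.mp h1
  ext i j
  have := congrFun (LinearMap.congr_fun h2 (Pi.single j 1)) i
  simpa using this

lemma exists_vecMulVec_of_rank_one (M : Matrix ι ι F) (h : M.rank = 1) :
    ∃ u φ : ι → F, M = vecMulVec u φ := by
  unfold Matrix.rank at h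
  obtain ⟨v, hv0, hv⟩ := finrank_eq_one_iff'.mp h
  have hcol : ∀ j, ∃ c : F, c • (v : ι → F) = M *ᵥ (Pi.single j 1) := by
    intro j
    obtain ⟨c, hc⟩ := hv ⟨M *ᵥ (Pi.single j 1), ⟨Pi.single j 1, rfl⟩⟩
    exact ⟨c, congrArg Subtype.val hc⟩
  choose φ hφ using hcol
  refine ⟨(v : ι → F), φ, ?_⟩
  ext i j
  have := congrFun (hφ j) i
  simp only [Pi.smul_apply, smul_eq_mul, Matrix.mulVec_single_one, Matrix.col_apply] at this
  rw [vecMulVec_apply, mul_comm, this]

lemma vmv_smul (u φ : ι → F) (c : F) : vecMulVec u (c • φ) = c • vecMulVec u φ := by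
  ext i j
  simp only [vecMulVec_apply, Pi.smul_apply, smul_eq_mul, Matrix.smul_apply]
  ring

lemma vmv_ne_zero (u φ : ι → F) (hu : u ≠ 0) (hφ : φ ≠ 0) : vecMulVec u φ ≠ 0 := by
  obtain ⟨i, hi⟩ := Function.ne_iff.mp hu
  obtain ⟨j, hj⟩ := Function.ne_iff.mp hφ
  intro h0
  have := congrFun (congrFun h0 i) j
  rw [vecMulVec_apply] at this
  exact (mul_ne_zero hi hj) this

lemma isTransvection_iff (t : Matrix ι ι F) :
    Cfsg.IsTransvection t ↔ ∃ u φ : ι → F, t = 1 + vecMulVec u φ ∧ u ≠ 0 ∧ φ ≠ 0 ∧ φ ⬝ᵥ u = 0 := by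
  constructor
  · rintro ⟨hr, hs⟩
    obtain ⟨u, φ, huφ⟩ := exists_vecMulVec_of_rank_one _ hr
    have hne : vecMulVec u φ ≠ 0 := by
      intro h0; rw [huφ, h0, Matrix.rank_zero] at hr; exact zero_ne_one hr
    refine ⟨u, φ, by rw [← huφ]; abel, ?_, ?_, ?_⟩
    · rintro rfl; apply hne; ext i j; simp [vecMulVec_apply]
    · rintro rfl; apply hne; ext i j; simp [vecMulVec_apply]
    · rw [huφ, vecMulVec_mul_vecMulVec, vmv_smul] at hs
      by_contra hne'
      exact hne ((smul_eq_zero.mp hs).resolve_left hne')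
  · rintro ⟨u, φ, rfl, hu, hφ, hz⟩
    have hne := vmv_ne_zero u φ hu hφ
    constructor
    · rw [add_sub_cancel_left]
      have h1 := rank_vecMulVec_le u φ
      have h2 := rank_ne_zero_of_ne_zero _ hne
      omega
    · rw [add_sub_cancel_left, vecMulVec_mul_vecMulVec, hz, zero_smul]
      ext i j; simp [vecMulVec_apply]

lemma isTransvection_elem {i j : ι} (hij : i ≠ j) (c : F) (hc : c ≠ 0) :
    Cfsg.IsTransvection (1 + Matrix.single i j c) := by
  rw [isTransvection_iff]
  refine ⟨Pi.single i c, Pi.single j 1, ?_, ?_, ?_, ?_⟩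
  · congr 1
    ext a b
    rw [vecMulVec_apply, Matrix.single_apply, Pi.single_apply, Pi.single_apply]
    by_cases h1 : a = i
    · by_cases h2 : b = j
      · rw [if_pos ⟨h1.symm, h2.symm⟩, if_pos h1, if_pos h2, mul_one]
      · rw [if_neg (fun h => h2 h.2.symm), if_neg h2, mul_zero]
    · rw [if_neg (fun h => h1 h.1.symm), if_neg h1, zero_mul]
  · intro h0
    have := congrFun h0 i
    simp at this
    exact hc this
  · intro h0
    have := congrFun h0 j
    simp at this
  · rw [dotProduct_comm, single_dotProduct, Pi.single_apply, if_neg hij, mul_zero]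

lemma pair_data [CharP F 2] (a b : Matrix ι ι F) (ha : Cfsg.IsTransvection a) (hb : Cfsg.IsTransvection b) :
    (a * b = b * a) ∨
    (Cfsg.IsTransvection ((a * b) * (a * b))) ∨
    (∃ τ : F, τ ≠ 0 ∧ ∃ X : Matrix ι ι F, a * b = 1 + X ∧ X * (X * X) = τ • (X * X) + τ • X ∧
      ∀ c₁ c₂ : F, c₁ • X + c₂ • (X * X) = 0 → c₁ = 0 ∧ c₂ = 0) := by
  obtain ⟨u, φ, rfl, hu, hφ, hφu⟩ := (isTransvection_iff a).mp ha
  obtain ⟨v, ψ, rfl, hv, hψ, hψv⟩ := (isTransvection_iff b).mp hb
  have hchar : ∀ M : Matrix ι ι F, M + M = 0 := by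
    intro M; ext i j
    simp only [Matrix.add_apply, Matrix.zero_apply]
    exact CharTwo.add_self_eq_zero _
  have hAA : vecMulVec u φ * vecMulVec u φ = 0 := by
    rw [vecMulVec_mul_vecMulVec, hφu, zero_smul]; ext i j; simp [vecMulVec_apply]
  have hBB : vecMulVec v ψ * vecMulVec v ψ = 0 := by
    rw [vecMulVec_mul_vecMulVec, hψv, zero_smul]; ext i j; simp [vecMulVec_apply]
  have hAB : vecMulVec u φ * vecMulVec v ψ = vecMulVec u ((φ ⬝ᵥ v) • ψ) := vecMulVec_mul_vecMulVec _ _ _ _
  have hBA : vecMulVec v ψ * vecMulVec u φ = vecMulVec v ((ψ ⬝ᵥ u) • φ) := vecMulVec_mul_vecMulVec _ _ _ _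
  have hABA : vecMulVec u φ * vecMulVec v ψ * vecMulVec u φ = ((φ ⬝ᵥ v) * (ψ ⬝ᵥ u)) • vecMulVec u φ := by
    rw [hAB, vecMulVec_mul_vecMulVec, smul_dotProduct, vmv_smul, smul_eq_mul]
  have hBAB : vecMulVec v ψ * vecMulVec u φ * vecMulVec v ψ = ((φ ⬝ᵥ v) * (ψ ⬝ᵥ u)) • vecMulVec v ψ := by
    rw [hBA, vecMulVec_mul_vecMulVec, smul_dotProduct, vmv_smul, smul_eq_mul, mul_comm]
  have hsq : ∀ X : Matrix ι ι F, (1 + X) * (1 + X) = 1 + X * X := by
    intro X
    rw [sq_char2 hchar 1 X (by rw [one_mul, mul_one]), one_mul]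
  by_cases hα : φ ⬝ᵥ v = 0
  · by_cases hβ : ψ ⬝ᵥ u = 0
    · left
      have h1 : vecMulVec u φ * vecMulVec v ψ = 0 := by
        rw [hAB, hα, zero_smul]; ext i j; simp [vecMulVec_apply]
      have h2 : vecMulVec v ψ * vecMulVec u φ = 0 := by
        rw [hBA, hβ, zero_smul]; ext i j; simp [vecMulVec_apply]
      rw [one_add_mul_one_add, one_add_mul_one_add, h1, h2]
      abel
    · right; left
      have h1 : vecMulVec u φ * vecMulVec v ψ = 0 := by
        rw [hAB, hα, zero_smul]; ext i j; simp [vecMulVec_apply]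
      rw [one_add_mul_one_add, hsq, case_AB_zero _ _ hAA hBB h1, hBA, isTransvection_iff]
      refine ⟨v, (ψ ⬝ᵥ u) • φ, rfl, hv, ?_, ?_⟩
      · exact smul_ne_zero hβ hφ
      · rw [smul_dotProduct, hα, smul_zero]
  · by_cases hβ : ψ ⬝ᵥ u = 0
    · right; left
      have h2 : vecMulVec v ψ * vecMulVec u φ = 0 := by
        rw [hBA, hβ, zero_smul]; ext i j; simp [vecMulVec_apply]
      rw [one_add_mul_one_add, hsq, case_BA_zero _ _ hAA hBB h2, hAB, isTransvection_iff]
      refine ⟨u, (φ ⬝ᵥ v) • ψ, rfl, hu, ?_, ?_⟩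
      · exact smul_ne_zero hα hψ
      · rw [smul_dotProduct, hβ, smul_zero]
    · right; right
      refine ⟨(φ ⬝ᵥ v) * (ψ ⬝ᵥ u), mul_ne_zero hα hβ, _, one_add_mul_one_add _ _, ?_, ?_⟩
      · exact generic_X3 _ _ _ hAA hBB hABA hBAB
      · intro c₁ c₂ h
        exact generic_indep _ (mul_ne_zero hα hβ) _ _ (vmv_ne_zero u φ hu hφ) hAA hBB hABA hBAB c₁ c₂ h

end mat

section sl
variable {F : Type*} [Field F]

lemma isTransvection_conj {n : ℕ} (t g : SpecialLinearGroup (Fin n) F)
    (ht : Cfsg.IsTransvection (t : Matrix (Fin n) (Fin n) F)) :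
    Cfsg.IsTransvection ((g * t * g⁻¹ : SpecialLinearGroup (Fin n) F) : Matrix (Fin n) (Fin n) F) := by
  obtain ⟨hr, hs⟩ := ht
  have hg : (g : Matrix (Fin n) (Fin n) F) * ((g⁻¹ : SpecialLinearGroup (Fin n) F) : Matrix (Fin n) (Fin n) F) = 1 := by
    rw [← Matrix.SpecialLinearGroup.coe_mul, mul_inv_cancel, Matrix.SpecialLinearGroup.coe_one]
  have hg' : ((g⁻¹ : SpecialLinearGroup (Fin n) F) : Matrix (Fin n) (Fin n) F) * (g : Matrix (Fin n) (Fin n) F) = 1 := by
    rw [← Matrix.SpecialLinearGroup.coe_mul, inv_mul_cancel, Matrix.SpecialLinearGroup.coe_one]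
  have hsub : ((g * t * g⁻¹ : SpecialLinearGroup (Fin n) F) : Matrix (Fin n) (Fin n) F) - 1
      = (g : Matrix (Fin n) (Fin n) F) * ((t : Matrix (Fin n) (Fin n) F) - 1)
        * ((g⁻¹ : SpecialLinearGroup (Fin n) F) : Matrix (Fin n) (Fin n) F) := by
    rw [Matrix.SpecialLinearGroup.coe_mul, Matrix.SpecialLinearGroup.coe_mul, Matrix.mul_sub, Matrix.sub_mul,
      Matrix.mul_one, hg]
  have hdet : IsUnit (g : Matrix (Fin n) (Fin n) F).det := by rw [g.2]; exact isUnit_one
  have hdet' : IsUnit ((g⁻¹ : SpecialLinearGroup (Fin n) F) : Matrix (Fin n) (Fin n) F).det := by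
    rw [(g⁻¹).2]; exact isUnit_one
  constructor
  · rw [hsub, rank_mul_eq_left_of_isUnit_det _ _ hdet', rank_mul_eq_right_of_isUnit_det _ _ hdet, hr]
  · rw [hsub]
    calc (g : Matrix (Fin n) (Fin n) F) * ((t : Matrix (Fin n) (Fin n) F) - 1)
          * ((g⁻¹ : SpecialLinearGroup (Fin n) F) : Matrix (Fin n) (Fin n) F)
          * ((g : Matrix (Fin n) (Fin n) F) * ((t : Matrix (Fin n) (Fin n) F) - 1)
          * ((g⁻¹ : SpecialLinearGroup (Fin n) F) : Matrix (Fin n) (Fin n) F))
        = (g : Matrix (Fin n) (Fin n) F) * (((t : Matrix (Fin n) (Fin n) F) - 1)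
          * (((g⁻¹ : SpecialLinearGroup (Fin n) F) : Matrix (Fin n) (Fin n) F) * (g : Matrix (Fin n) (Fin n) F))
          * ((t : Matrix (Fin n) (Fin n) F) - 1))
          * ((g⁻¹ : SpecialLinearGroup (Fin n) F) : Matrix (Fin n) (Fin n) F) := by
          simp only [Matrix.mul_assoc]
      _ = 0 := by rw [hg', Matrix.mul_one, hs, Matrix.mul_zero, Matrix.zero_mul]

lemma mem_D_iff (n : ℕ) (t : SpecialLinearGroup (Fin (n + 3)) F) :
    (∃ c : F, c ≠ 0 ∧ ∃ g : SpecialLinearGroup (Fin (n + 3)) F,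
      ((g⁻¹ * t * g : SpecialLinearGroup (Fin (n + 3)) F) : Matrix (Fin (n + 3)) (Fin (n + 3)) F)
        = Matrix.transvection 0 1 c)
    ↔ Cfsg.IsTransvection (t : Matrix (Fin (n + 3)) (Fin (n + 3)) F) := by
  have h01 : (0 : Fin (n + 3)) ≠ 1 := by
    intro h
    have := congrArg Fin.val h
    rw [Fin.val_zero, Fin.val_one] at this
    omega
  constructor
  · rintro ⟨c, hc, g, hg⟩
    have h1 : Cfsg.IsTransvection
        ((g⁻¹ * t * g : SpecialLinearGroup (Fin (n + 3)) F) : Matrix (Fin (n + 3)) (Fin (n + 3)) F) := by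
      rw [hg]; exact isTransvection_elem h01 c hc
    have h2 := isTransvection_conj (g⁻¹ * t * g) g h1
    have : g * (g⁻¹ * t * g) * g⁻¹ = t := by group
    rwa [this] at h2
  · intro ht
    have hs : Cfsg.IsTransvection ((SpecialLinearGroup.transvection h01 (1 : F) :
        SpecialLinearGroup (Fin (n + 3)) F) : Matrix (Fin (n + 3)) (Fin (n + 3)) F) := by
      rw [SpecialLinearGroup.transvection_coe]; exact isTransvection_elem h01 1 one_ne_zero
    obtain ⟨c, hc⟩ := isConj_iff.mp (Cfsg.Agent.Lib.Helper4_Transv1.transvections_conj t _ ht hs)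
    refine ⟨1, one_ne_zero, c⁻¹, ?_⟩
    rw [inv_inv, hc, SpecialLinearGroup.transvection_coe]
    rfl

end sl

/-- Let F be a finite field of characteristic 2 and n a natural number. Then the transvections of SL_{n+3}(F) (so in every dimension at least 3) (the conjugates of the elementary matrices 1 + c E₁₂, c ≠ 0) form a class of root involutions of SL_{n+3}(F); when F has two elements they form a class of {3,4}⁺-transpositions (every product of odd order has order 1 or 3). -/
theorem result (F : Type*) [Field F] [Fintype F] [CharP F 2] (n : ℕ) :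
    Cfsg.IsRootInvolutionClass {t : Matrix.SpecialLinearGroup (Fin (n + 3)) F | ∃ c : F, c ≠ 0 ∧
        ∃ g : Matrix.SpecialLinearGroup (Fin (n + 3)) F, ((g⁻¹ * t * g : Matrix.SpecialLinearGroup (Fin (n + 3)) F) :
          Matrix (Fin (n + 3)) (Fin (n + 3)) F) = Matrix.transvection 0 1 c} ∧
    (Fintype.card F = 2 → Cfsg.IsThreeFourPlusTranspositionSet {t : Matrix.SpecialLinearGroup (Fin (n + 3)) F | ∃ c : F, c ≠ 0 ∧
        ∃ g : Matrix.SpecialLinearGroup (Fin (n + 3)) F, ((g⁻¹ * t * g : Matrix.SpecialLinearGroup (Fin (n + 3)) F) :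
          Matrix (Fin (n + 3)) (Fin (n + 3)) F) = Matrix.transvection 0 1 c}) := by
  classical
  have hmem : ∀ t : Matrix.SpecialLinearGroup (Fin (n + 3)) F,
      t ∈ {t : Matrix.SpecialLinearGroup (Fin (n + 3)) F | ∃ c : F, c ≠ 0 ∧
        ∃ g : Matrix.SpecialLinearGroup (Fin (n + 3)) F, ((g⁻¹ * t * g : Matrix.SpecialLinearGroup (Fin (n + 3)) F) :
          Matrix (Fin (n + 3)) (Fin (n + 3)) F) = Matrix.transvection 0 1 c}
      ↔ Cfsg.IsTransvection (t : Matrix (Fin (n + 3)) (Fin (n + 3)) F) := fun t => mem_D_iff n t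
  generalize {t : Matrix.SpecialLinearGroup (Fin (n + 3)) F | ∃ c : F, c ≠ 0 ∧
        ∃ g : Matrix.SpecialLinearGroup (Fin (n + 3)) F, ((g⁻¹ * t * g : Matrix.SpecialLinearGroup (Fin (n + 3)) F) :
          Matrix (Fin (n + 3)) (Fin (n + 3)) F) = Matrix.transvection 0 1 c} = D at hmem ⊢
  have hcharM : ∀ M : Matrix (Fin (n + 3)) (Fin (n + 3)) F, M + M = 0 := by
    intro M; ext i j
    simp only [Matrix.add_apply, Matrix.zero_apply]
    exact CharTwo.add_self_eq_zero _
  have h01 : (0 : Fin (n + 3)) ≠ 1 := by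
    intro h
    have := congrArg Fin.val h
    rw [Fin.val_zero, Fin.val_one] at this
    omega
  have hsq1 : ∀ d ∈ D, d * d = 1 := by
    intro d hd
    obtain ⟨u, φ, hd', hu, hφ, hz⟩ := (isTransvection_iff _).mp ((hmem d).mp hd)
    apply Subtype.ext
    rw [Matrix.SpecialLinearGroup.coe_mul, Matrix.SpecialLinearGroup.coe_one, hd',
      sq_char2 hcharM 1 _ (by rw [one_mul, mul_one]), one_mul, vecMulVec_mul_vecMulVec, hz, zero_smul]
    have : vecMulVec u (0 : Fin (n + 3) → F) = 0 := by ext i j; simp [vecMulVec_apply]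
    rw [this, add_zero]
  have hne1 : ∀ d ∈ D, d ≠ 1 := by
    intro d hd h1
    have := (hmem d).mp hd
    rw [h1, Matrix.SpecialLinearGroup.coe_one] at this
    have h2 := this.1
    rw [sub_self, Matrix.rank_zero] at h2
    exact zero_ne_one h2
  haveI : Fact (Nat.Prime 2) := ⟨Nat.prime_two⟩
  have hord : ∀ d ∈ D, orderOf d = 2 := fun d hd =>
    orderOf_eq_prime (by rw [pow_two]; exact hsq1 d hd) (hne1 d hd)
  have hconj : ∀ d ∈ D, ∀ g : Matrix.SpecialLinearGroup (Fin (n + 3)) F, g * d * g⁻¹ ∈ D :=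
    fun d hd g => (hmem _).mpr (isTransvection_conj d g ((hmem d).mp hd))
  have hgen : Subgroup.closure D = ⊤ := by
    rw [eq_top_iff]
    intro M _
    haveI : Nontrivial (Fin (n + 3)) := ⟨⟨0, 1, h01⟩⟩
    apply Cfsg.Agent.Helper9SLn.transvection_induction (fun M => M ∈ Subgroup.closure D) M
    · intro i j hij a
      by_cases ha : a = 0
      · subst ha
        have : Matrix.SpecialLinearGroup.transvection hij (0 : F) = 1 := by
          apply Subtype.ext
          rw [Matrix.SpecialLinearGroup.transvection_coe]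
          simp
        rw [this]; exact Subgroup.one_mem _
      · apply Subgroup.subset_closure
        rw [hmem, Matrix.SpecialLinearGroup.transvection_coe]
        exact isTransvection_elem hij a ha
    · intro A B hA hB; exact Subgroup.mul_mem _ hA hB
  have hpair : ∀ a ∈ D, ∀ b ∈ D, a * b = b * a ∨ (orderOf (a * b) = 4 ∧ (a * b) ^ 2 ∈ D) ∨
      (∃ τ : F, τ ≠ 0 ∧ ∃ X : Matrix (Fin (n + 3)) (Fin (n + 3)) F,
        ((a * b : Matrix.SpecialLinearGroup (Fin (n + 3)) F) : Matrix (Fin (n + 3)) (Fin (n + 3)) F) = 1 + X ∧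
        X * (X * X) = τ • (X * X) + τ • X ∧
        ∀ c₁ c₂ : F, c₁ • X + c₂ • (X * X) = 0 → c₁ = 0 ∧ c₂ = 0) := by
    intro a ha b hb
    rcases pair_data (a : Matrix (Fin (n + 3)) (Fin (n + 3)) F) (b : Matrix (Fin (n + 3)) (Fin (n + 3)) F)
      ((hmem a).mp ha) ((hmem b).mp hb) with h | h | h
    · left
      apply Subtype.ext
      rw [Matrix.SpecialLinearGroup.coe_mul, Matrix.SpecialLinearGroup.coe_mul]
      exact h
    · right; left
      have hD2 : (a * b) ^ 2 ∈ D := by
        rw [hmem, pow_two, Matrix.SpecialLinearGroup.coe_mul, Matrix.SpecialLinearGroup.coe_mul]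
        exact h
      refine ⟨?_, hD2⟩
      have h4 := orderOf_eq_prime_pow (x := a * b) (p := 2) (n := 1)
        (by rw [pow_one]; exact hne1 _ hD2)
        (by
          have h5 := hsq1 _ hD2
          rw [← pow_two, ← pow_mul] at h5
          exact h5)
      simpa using h4
    · right; right
      rw [Matrix.SpecialLinearGroup.coe_mul]
      exact h
  have hodd : ∀ g : Matrix.SpecialLinearGroup (Fin (n + 3)) F,
      (∃ τ : F, τ ≠ 0 ∧ ∃ X : Matrix (Fin (n + 3)) (Fin (n + 3)) F,
        (g : Matrix (Fin (n + 3)) (Fin (n + 3)) F) = 1 + X ∧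
        X * (X * X) = τ • (X * X) + τ • X ∧
        ∀ c₁ c₂ : F, c₁ • X + c₂ • (X * X) = 0 → c₁ = 0 ∧ c₂ = 0) → Odd (orderOf g) := by
    rintro g ⟨τ, hτ, X, hgX, hX3, hind⟩
    by_contra hno
    rw [Nat.not_odd_iff_even] at hno
    obtain ⟨k, hk⟩ := hno
    have hpos : 0 < orderOf g := orderOf_pos g
    have h1 : g ^ k * g ^ k = 1 := by rw [← pow_add, ← hk, pow_orderOf_eq_one]
    have h2 : (1 + X) ^ k * (1 + X) ^ k = 1 := by
      have := congrArg (fun s : Matrix.SpecialLinearGroup (Fin (n + 3)) F =>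
        (s : Matrix (Fin (n + 3)) (Fin (n + 3)) F)) h1
      simp only [Matrix.SpecialLinearGroup.coe_mul, Matrix.SpecialLinearGroup.coe_pow,
        Matrix.SpecialLinearGroup.coe_one, hgX] at this
      exact this
    have h3 := pow_eq_one_of_sq hcharM τ hτ X hX3 hind k h2
    have h4 : g ^ k = 1 := by
      apply Subtype.ext
      rw [Matrix.SpecialLinearGroup.coe_pow, hgX, h3, Matrix.SpecialLinearGroup.coe_one]
    have h5 := orderOf_dvd_of_pow_eq_one h4
    have hk0 : 0 < k := by omega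
    have : orderOf g ≤ k := Nat.le_of_dvd hk0 h5
    omega
  have hroot : Cfsg.IsRootInvolutionSet D := by
    refine ⟨hord, hgen, hconj, ?_⟩
    intro a ha b hb
    rcases hpair a ha b hb with h | h | h
    · exact Or.inl h
    · exact Or.inr (Or.inr h)
    · exact Or.inr (Or.inl (hodd _ h))
  refine ⟨⟨hroot, ?_, ?_⟩, ?_⟩
  · refine ⟨Matrix.SpecialLinearGroup.transvection h01 (1 : F), ?_⟩
    rw [hmem, Matrix.SpecialLinearGroup.transvection_coe]
    exact isTransvection_elem h01 1 one_ne_zero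
  · intro a ha b hb
    obtain ⟨c, hc⟩ := isConj_iff.mp
      (Cfsg.Agent.Lib.Helper4_Transv1.transvections_conj a b ((hmem a).mp ha) ((hmem b).mp hb))
    exact ⟨c, hc.symm⟩
  · intro hF2
    refine ⟨hroot, ?_⟩
    intro a ha b hb hoddab
    rcases hpair a ha b hb with h | h | h
    · left
      have h2 : (a * b) ^ 2 = 1 := by
        rw [pow_two]
        calc a * b * (a * b) = a * (b * a) * b := by group
          _ = a * (a * b) * b := by rw [h]
          _ = (a * a) * (b * b) := by group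
          _ = 1 := by rw [hsq1 a ha, hsq1 b hb, one_mul]
      have h3 := orderOf_dvd_of_pow_eq_one h2
      rcases (Nat.dvd_prime Nat.prime_two).mp h3 with h4 | h4
      · exact h4
      · rw [h4] at hoddab
        exact absurd hoddab (by decide)
    · rw [h.1] at hoddab
      exact absurd hoddab (by decide)
    · obtain ⟨τ, hτ, X, hgX, hX3, hind⟩ := h
      have hτ1 : τ = 1 := by
        have huniv : (Finset.univ : Finset F) = {0, 1} := by
          symm
          apply Finset.eq_univ_of_card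
          rw [Finset.card_pair zero_ne_one, hF2]
        have := Finset.mem_univ τ
        rw [huniv, Finset.mem_insert, Finset.mem_singleton] at this
        exact this.resolve_left hτ
      rw [hτ1, one_smul, one_smul] at hX3
      have h3 : (a * b) ^ 3 = 1 := by
        apply Subtype.ext
        rw [Matrix.SpecialLinearGroup.coe_pow, hgX, Matrix.SpecialLinearGroup.coe_one]
        have e1 : (1 + X) ^ 3 = (1 + X) * ((1 + X) * (1 + X)) := by
          noncomm_ring
        rw [e1, sq_char2 hcharM 1 X (by rw [one_mul, mul_one]), one_mul, add_mul, one_mul, mul_add, mul_one,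
          hX3]
        have e2 : (1 : Matrix (Fin (n + 3)) (Fin (n + 3)) F) + X * X + (X + (X * X + X))
            = 1 + (X * X + X * X) + (X + X) := by abel
        rw [e2, hcharM, hcharM, add_zero, add_zero]
      have h4 := orderOf_dvd_of_pow_eq_one h3
      rcases (Nat.dvd_prime Nat.prime_three).mp h4 with h5 | h5
      · exact Or.inl h5
      · exact Or.inr h5

end Cfsg.Agent.S5058
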