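import Mathlib
import Cfsg.Statements.S5043
import Cfsg.Agent.S5058

set_option autoImplicit false

open Matrix
open Cfsg

namespace Cfsg.Agent.S5043

open Matrix

section basic

variable {ι : Type} [Fintype ι] [DecidableEq ι] {k : Type*} [Field k]

lemma one_add_smul_mul (N : Matrix ι ι k) (hN : N * N = 0) (c d : k) :
    (1 + c • N) * (1 + d • N) = 1 + (c + d) • N := by
  simp only [Matrix.add_mul, Matrix.mul_add, Matrix.one_mul, Matrix.mul_one, Matrix.smul_mul,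
    Matrix.mul_smul, hN, smul_zero, add_zero, add_smul]
  abel

/-- the group of `1 + c N` -/
def TN (N : Matrix ι ι k) : Subgroup (SpecialLinearGroup ι k) where
  carrier := {t | t = 1 ∨ (N * N = 0 ∧ ∃ c : k, (t : Matrix ι ι k) = 1 + c • N)}
  one_mem' := Or.inl rfl
  mul_mem' := by
    rintro s t (rfl | ⟨hN, c, hc⟩) (rfl | ⟨hN', d, hd⟩)
    · left; simp
    · right; exact ⟨hN', d, by simpa using hd⟩
    · right; exact ⟨hN, c, by simpa using hc⟩
    · right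
      refine ⟨hN, c + d, ?_⟩
      rw [Matrix.SpecialLinearGroup.coe_mul, hc, hd, one_add_smul_mul N hN]
  inv_mem' := by
    rintro t (rfl | ⟨hN, c, hc⟩)
    · left; simp
    · right
      refine ⟨hN, -c, ?_⟩
      have h1 : (t : Matrix ι ι k) * (1 + (-c) • N) = 1 := by
        rw [hc, one_add_smul_mul N hN, add_neg_cancel, zero_smul, add_zero]
      have h2 : ((t⁻¹ : SpecialLinearGroup ι k) : Matrix ι ι k) * (t : Matrix ι ι k) = 1 := by
        rw [← Matrix.SpecialLinearGroup.coe_mul, inv_mul_cancel, Matrix.SpecialLinearGroup.coe_one]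
      calc ((t⁻¹ : SpecialLinearGroup ι k) : Matrix ι ι k)
          = ((t⁻¹ : SpecialLinearGroup ι k) : Matrix ι ι k) * ((t : Matrix ι ι k) * (1 + (-c) • N)) := by
            rw [h1, Matrix.mul_one]
        _ = 1 + (-c) • N := by rw [← Matrix.mul_assoc, h2, Matrix.one_mul]

lemma mem_TN (N : Matrix ι ι k) (hN : N * N = 0) (t : SpecialLinearGroup ι k) :
    t ∈ TN N ↔ ∃ c : k, (t : Matrix ι ι k) = 1 + c • N := by
  constructor
  · rintro (rfl | ⟨_, c, hc⟩)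
    · exact ⟨0, by simp⟩
    · exact ⟨c, hc⟩
  · rintro ⟨c, hc⟩
    exact Or.inr ⟨hN, c, hc⟩

lemma coe_mul_inv (g : SpecialLinearGroup ι k) :
    (g : Matrix ι ι k) * ((g⁻¹ : SpecialLinearGroup ι k) : Matrix ι ι k) = 1 := by
  rw [← Matrix.SpecialLinearGroup.coe_mul, mul_inv_cancel, Matrix.SpecialLinearGroup.coe_one]

lemma coe_inv_mul (g : SpecialLinearGroup ι k) :
    ((g⁻¹ : SpecialLinearGroup ι k) : Matrix ι ι k) * (g : Matrix ι ι k) = 1 := by
  rw [← Matrix.SpecialLinearGroup.coe_mul, inv_mul_cancel, Matrix.SpecialLinearGroup.coe_one]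

lemma conj_sq_zero (N : Matrix ι ι k) (hN : N * N = 0) (g : SpecialLinearGroup ι k) :
    ((g : Matrix ι ι k) * N * ((g⁻¹ : SpecialLinearGroup ι k) : Matrix ι ι k)) *
      ((g : Matrix ι ι k) * N * ((g⁻¹ : SpecialLinearGroup ι k) : Matrix ι ι k)) = 0 := by
  calc ((g : Matrix ι ι k) * N * ((g⁻¹ : SpecialLinearGroup ι k) : Matrix ι ι k)) *
      ((g : Matrix ι ι k) * N * ((g⁻¹ : SpecialLinearGroup ι k) : Matrix ι ι k))
      = (g : Matrix ι ι k) * (N * (((g⁻¹ : SpecialLinearGroup ι k) : Matrix ι ι k) * (g : Matrix ι ι k)) * N)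
        * ((g⁻¹ : SpecialLinearGroup ι k) : Matrix ι ι k) := by simp only [Matrix.mul_assoc]
    _ = 0 := by rw [coe_inv_mul, Matrix.mul_one, hN, Matrix.mul_zero, Matrix.zero_mul]

lemma conjBy_TN (N : Matrix ι ι k) (hN : N * N = 0) (g : SpecialLinearGroup ι k) :
    Cfsg.conjBy (TN N) g
      = TN ((g : Matrix ι ι k) * N * ((g⁻¹ : SpecialLinearGroup ι k) : Matrix ι ι k)) := by
  ext t
  rw [Cfsg.conjBy, Subgroup.mem_map_equiv, mem_TN N hN, mem_TN _ (conj_sq_zero N hN g)]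
  simp only [MulAut.conj_symm_apply, Matrix.SpecialLinearGroup.coe_mul]
  constructor
  · rintro ⟨c, hc⟩
    refine ⟨c, ?_⟩
    calc (t : Matrix ι ι k)
        = ((g : Matrix ι ι k) * ((g⁻¹ : SpecialLinearGroup ι k) : Matrix ι ι k)) * (t : Matrix ι ι k)
          * ((g : Matrix ι ι k) * ((g⁻¹ : SpecialLinearGroup ι k) : Matrix ι ι k)) := by
          rw [coe_mul_inv, Matrix.one_mul, Matrix.mul_one]
      _ = (g : Matrix ι ι k) * (((g⁻¹ : SpecialLinearGroup ι k) : Matrix ι ι k) * (t : Matrix ι ι k)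
          * (g : Matrix ι ι k)) * ((g⁻¹ : SpecialLinearGroup ι k) : Matrix ι ι k) := by
          simp only [Matrix.mul_assoc]
      _ = 1 + c • ((g : Matrix ι ι k) * N * ((g⁻¹ : SpecialLinearGroup ι k) : Matrix ι ι k)) := by
          rw [hc, Matrix.mul_add, Matrix.add_mul, Matrix.mul_one, coe_mul_inv, Matrix.mul_smul,
            Matrix.smul_mul]
  · rintro ⟨c, hc⟩
    refine ⟨c, ?_⟩
    rw [hc, Matrix.mul_add, Matrix.add_mul, Matrix.mul_one, coe_inv_mul, Matrix.mul_smul,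
      Matrix.smul_mul]
    congr 2
    calc ((g⁻¹ : SpecialLinearGroup ι k) : Matrix ι ι k) * ((g : Matrix ι ι k) * N
          * ((g⁻¹ : SpecialLinearGroup ι k) : Matrix ι ι k)) * (g : Matrix ι ι k)
        = (((g⁻¹ : SpecialLinearGroup ι k) : Matrix ι ι k) * (g : Matrix ι ι k)) * N
          * (((g⁻¹ : SpecialLinearGroup ι k) : Matrix ι ι k) * (g : Matrix ι ι k)) := by
          simp only [Matrix.mul_assoc]
      _ = N := by rw [coe_inv_mul, Matrix.one_mul, Matrix.mul_one]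

lemma TN_smul (N : Matrix ι ι k) (hN : N * N = 0) (l : k) (hl : l ≠ 0) : TN (l • N) = TN N := by
  have hN' : (l • N) * (l • N) = 0 := by
    rw [Matrix.smul_mul, Matrix.mul_smul, hN, smul_zero, smul_zero]
  ext t
  rw [mem_TN _ hN', mem_TN _ hN]
  constructor
  · rintro ⟨c, hc⟩
    exact ⟨c * l, by rw [hc, mul_smul]⟩
  · rintro ⟨c, hc⟩
    exact ⟨c / l, by rw [hc, smul_smul, div_mul_cancel₀ c hl]⟩

end basic

section vec

variable {ι : Type} [Fintype ι] [DecidableEq ι] {k : Type*} [Field k]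

lemma vmv_sq (u φ : ι → k) (h : φ ⬝ᵥ u = 0) : vecMulVec u φ * vecMulVec u φ = 0 := by
  rw [vecMulVec_mul_vecMulVec, h, zero_smul, vecMulVec_zero]

lemma vmv_mul (u φ w ψ : ι → k) :
    vecMulVec u φ * vecMulVec w ψ = (φ ⬝ᵥ w) • vecMulVec u ψ := by
  rw [vecMulVec_mul_vecMulVec, vecMulVec_smul]

lemma det_tv (u φ : ι → k) (h : φ ⬝ᵥ u = 0) (c : k) : (1 + c • vecMulVec u φ).det = 1 := by
  rw [← smul_vecMulVec, vecMulVec_eq Unit, det_one_add_replicateCol_mul_replicateRow,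
    dotProduct_smul, h, smul_zero, add_zero]

open Classical in
/-- the matrix `1 + c u φᵀ` -/
noncomputable def tvM (u φ : ι → k) (c : k) : Matrix ι ι k :=
  if φ ⬝ᵥ u = 0 then 1 + c • vecMulVec u φ else 1

lemma det_tvM (u φ : ι → k) (c : k) : (tvM u φ c).det = 1 := by
  unfold tvM
  split_ifs with h
  · exact det_tv u φ h c
  · exact det_one

/-- the element `1 + c u φᵀ` -/
noncomputable def tv (u φ : ι → k) (c : k) : SpecialLinearGroup ι k :=
  ⟨tvM u φ c, det_tvM u φ c⟩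

lemma coe_tv (u φ : ι → k) (h : φ ⬝ᵥ u = 0) (c : k) :
    ((tv u φ c : SpecialLinearGroup ι k) : Matrix ι ι k) = 1 + c • vecMulVec u φ := by
  show tvM u φ c = _
  rw [tvM, if_pos h]

lemma tv_mem (u φ : ι → k) (h : φ ⬝ᵥ u = 0) (c : k) : tv u φ c ∈ TN (vecMulVec u φ) :=
  (mem_TN _ (vmv_sq u φ h) _).mpr ⟨c, coe_tv u φ h c⟩

lemma mem_T_iff (u φ : ι → k) (h : φ ⬝ᵥ u = 0) (t : SpecialLinearGroup ι k) :
    t ∈ TN (vecMulVec u φ) ↔ ∃ c, t = tv u φ c := by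
  rw [mem_TN _ (vmv_sq u φ h)]
  constructor
  · rintro ⟨c, hc⟩
    exact ⟨c, Subtype.ext (by rw [hc, coe_tv u φ h])⟩
  · rintro ⟨c, rfl⟩
    exact ⟨c, coe_tv u φ h c⟩

lemma tv_zero (u φ : ι → k) : tv u φ 0 = 1 := by
  apply Subtype.ext
  show tvM u φ 0 = 1
  unfold tvM
  split_ifs <;> simp

lemma tv_ne_one (u φ : ι → k) (h : φ ⬝ᵥ u = 0) (hu : u ≠ 0) (hφ : φ ≠ 0) (c : k) (hc : c ≠ 0) :
    tv u φ c ≠ 1 := by
  intro h1
  have h2 := congrArg (fun t : SpecialLinearGroup ι k => (t : Matrix ι ι k)) h1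
  simp only [coe_tv u φ h, Matrix.SpecialLinearGroup.coe_one] at h2
  have h3 : c • vecMulVec u φ = 0 := by
    have := congrArg (fun X => X - 1) h2
    simpa using this
  rcases smul_eq_zero.mp h3 with h4 | h4
  · exact hc h4
  · rcases vecMulVec_eq_zero.mp h4 with h5 | h5
    · exact hu h5
    · exact hφ h5

lemma tv_mul (u φ : ι → k) (h : φ ⬝ᵥ u = 0) (c d : k) : tv u φ c * tv u φ d = tv u φ (c + d) := by
  apply Subtype.ext
  rw [Matrix.SpecialLinearGroup.coe_mul, coe_tv u φ h, coe_tv u φ h, coe_tv u φ h,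
    one_add_smul_mul _ (vmv_sq u φ h)]

lemma tv_inv (u φ : ι → k) (h : φ ⬝ᵥ u = 0) (c : k) : (tv u φ c)⁻¹ = tv u φ (-c) := by
  apply inv_eq_of_mul_eq_one_right
  rw [tv_mul u φ h, add_neg_cancel, tv_zero]

lemma tv_conj_formula (u φ w ψ : ι → k) (e d : k) :
    (1 + e • vecMulVec w ψ) * vecMulVec u φ * (1 + d • vecMulVec w ψ)
      = vecMulVec (u + (e * (ψ ⬝ᵥ u)) • w) (φ + (d * (φ ⬝ᵥ w)) • ψ) := by
  rw [mul_vecMulVec, vecMulVec_mul]
  congr 1
  · rw [add_mulVec, one_mulVec, smul_mulVec, vecMulVec_mulVec, op_smul_eq_smul, smul_smul]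
  · rw [vecMul_add, vecMul_one, vecMul_smul, vecMul_vecMulVec, smul_smul]

lemma conjBy_T_tv_inv (u φ w ψ : ι → k) (h1 : φ ⬝ᵥ u = 0) (h2 : ψ ⬝ᵥ w = 0) (d : k) :
    Cfsg.conjBy (TN (vecMulVec u φ)) (tv w ψ d)⁻¹
      = TN (vecMulVec (u + (-d * (ψ ⬝ᵥ u)) • w) (φ + (d * (φ ⬝ᵥ w)) • ψ)) := by
  rw [conjBy_TN _ (vmv_sq u φ h1), inv_inv, tv_inv w ψ h2, coe_tv w ψ h2, coe_tv w ψ h2,
    tv_conj_formula]

end vec

section pairs

open scoped commutatorElement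

variable {ι : Type} [Fintype ι] [DecidableEq ι] {k : Type*} [Field k]

lemma tv_comm_of (u φ w ψ : ι → k) (h1 : φ ⬝ᵥ u = 0) (h2 : ψ ⬝ᵥ w = 0)
    (hα : φ ⬝ᵥ w = 0) (hβ : ψ ⬝ᵥ u = 0) (c d : k) :
    tv u φ c * tv w ψ d = tv w ψ d * tv u φ c := by
  apply Subtype.ext
  rw [Matrix.SpecialLinearGroup.coe_mul, Matrix.SpecialLinearGroup.coe_mul, coe_tv u φ h1,
    coe_tv w ψ h2]
  simp only [Matrix.add_mul, Matrix.mul_add, Matrix.one_mul, Matrix.mul_one, Matrix.smul_mul,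
    Matrix.mul_smul, vmv_mul, hα, hβ, zero_smul, smul_zero, add_zero]
  abel

lemma comm_case (u φ w ψ : ι → k) (h1 : φ ⬝ᵥ u = 0) (h2 : ψ ⬝ᵥ w = 0)
    (hα : φ ⬝ᵥ w = 0) (hβ : ψ ⬝ᵥ u = 0) :
    ⁅TN (vecMulVec u φ), TN (vecMulVec w ψ)⁆ = ⊥ := by
  rw [Subgroup.commutator_eq_bot_iff_le_centralizer]
  intro a ha
  rw [Subgroup.mem_centralizer_iff]
  intro b hb
  obtain ⟨c, rfl⟩ := (mem_T_iff u φ h1 a).mp ha
  obtain ⟨d, rfl⟩ := (mem_T_iff w ψ h2 b).mp hb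
  exact (tv_comm_of u φ w ψ h1 h2 hα hβ c d).symm

lemma TN_comm (N : Matrix ι ι k) (s t : SpecialLinearGroup ι k) (hs : s ∈ TN N) (ht : t ∈ TN N) :
    s * t = t * s := by
  rcases hs with rfl | ⟨hN, c, hc⟩
  · simp
  rcases ht with rfl | ⟨_, d, hd⟩
  · simp
  apply Subtype.ext
  rw [Matrix.SpecialLinearGroup.coe_mul, Matrix.SpecialLinearGroup.coe_mul, hc, hd,
    one_add_smul_mul N hN, one_add_smul_mul N hN, add_comm c d]

lemma TN_isMulCommutative (N : Matrix ι ι k) : IsMulCommutative (TN N) :=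
  ⟨⟨fun a b => Subtype.ext (TN_comm N a b a.2 b.2)⟩⟩

lemma TN_nilpotent (N : Matrix ι ι k) : Group.IsNilpotent (TN N) := by
  letI : CommGroup (TN N) :=
    { (inferInstance : Group (TN N)) with
      mul_comm := fun a b => Subtype.ext (TN_comm N a b a.2 b.2) }
  exact CommGroup.isNilpotent

lemma T_ne (u φ w ψ : ι → k) (h1 : φ ⬝ᵥ u = 0) (h2 : ψ ⬝ᵥ w = 0)
    (hα : φ ⬝ᵥ w ≠ 0) (hβ : ψ ⬝ᵥ u ≠ 0) : TN (vecMulVec u φ) ≠ TN (vecMulVec w ψ) := by
  intro heq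
  have hmem : tv w ψ 1 ∈ TN (vecMulVec u φ) := heq ▸ tv_mem w ψ h2 1
  obtain ⟨c, hc⟩ := (mem_TN _ (vmv_sq u φ h1) _).mp hmem
  rw [coe_tv w ψ h2] at hc
  have hM : vecMulVec w ψ = c • vecMulVec u φ := by
    have := congrArg (fun X => X - 1) hc
    simpa using this
  have h3 := congrArg (fun X => X *ᵥ u) hM
  simp only [vecMulVec_mulVec, smul_mulVec, op_smul_eq_smul, h1, zero_smul, smul_zero] at h3
  rcases smul_eq_zero.mp h3 with h | h
  · exact hβ h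
  · rw [h, dotProduct_zero] at hα
    exact hα rfl

lemma rank_one_cond (u φ w ψ : ι → k) (h1 : φ ⬝ᵥ u = 0) (h2 : ψ ⬝ᵥ w = 0)
    (hα : φ ⬝ᵥ w ≠ 0) (hβ : ψ ⬝ᵥ u ≠ 0) :
    Cfsg.RankOneCondition (TN (vecMulVec u φ)) (TN (vecMulVec w ψ)) := by
  have hw : w ≠ 0 := by
    rintro rfl
    exact hα (dotProduct_zero φ)
  have hψ : ψ ≠ 0 := by
    rintro rfl
    exact hβ (zero_dotProduct u)
  intro a ha ha1
  obtain ⟨c, rfl⟩ := (mem_T_iff u φ h1 a).mp ha
  have hc : c ≠ 0 := by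
    rintro rfl
    exact ha1 (tv_zero u φ)
  refine ⟨tv w ψ (c * (φ ⬝ᵥ w) * (ψ ⬝ᵥ u))⁻¹, tv_mem w ψ h2 _,
    tv_ne_one w ψ h2 hw hψ _ (inv_ne_zero (mul_ne_zero (mul_ne_zero hc hα) hβ)), ?_⟩
  rw [conjBy_T_tv_inv u φ w ψ h1 h2, conjBy_T_tv_inv w ψ u φ h2 h1]
  generalize hαd : φ ⬝ᵥ w = α at *
  generalize hβd : ψ ⬝ᵥ u = β at *
  have e1 : u + (-(c * α * β)⁻¹ * β) • w = (-(c * α)⁻¹) • (w + (-c * α) • u) := by
    ext i
    simp only [Pi.add_apply, Pi.smul_apply, smul_eq_mul]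
    field_simp
    ring
  have e2 : φ + ((c * α * β)⁻¹ * α) • ψ = (c * β)⁻¹ • (ψ + (c * β) • φ) := by
    ext i
    simp only [Pi.add_apply, Pi.smul_apply, smul_eq_mul]
    field_simp
    ring
  rw [e1, e2, smul_vecMulVec, vecMulVec_smul, smul_smul]
  apply TN_smul
  · apply vmv_sq
    simp only [add_dotProduct, dotProduct_add, smul_dotProduct, dotProduct_smul, smul_eq_mul, h1,
      h2, hαd, hβd]
    ring
  · exact mul_ne_zero (neg_ne_zero.mpr (inv_ne_zero (mul_ne_zero hc hα)))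
      (inv_ne_zero (mul_ne_zero hc hβ))

lemma rank_one_pair (u φ w ψ : ι → k) (h1 : φ ⬝ᵥ u = 0) (h2 : ψ ⬝ᵥ w = 0)
    (hα : φ ⬝ᵥ w ≠ 0) (hβ : ψ ⬝ᵥ u ≠ 0) :
    Cfsg.IsRankOnePair (TN (vecMulVec u φ)) (TN (vecMulVec w ψ)) where
  ne := T_ne u φ w ψ h1 h2 hα hβ
  nilpotent_left := TN_nilpotent _
  nilpotent_right := TN_nilpotent _
  cond_left := rank_one_cond u φ w ψ h1 h2 hα hβ
  cond_right := rank_one_cond w ψ u φ h2 h1 hβ hα

end pairs

section commcase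

open scoped commutatorElement

variable {ι : Type} [Fintype ι] [DecidableEq ι] {k : Type*} [Field k]

lemma comm_formula (u φ w ψ : ι → k) (h1 : φ ⬝ᵥ u = 0) (h2 : ψ ⬝ᵥ w = 0)
    (hα : φ ⬝ᵥ w = 0) (c d : k) :
    ⁅tv u φ c, tv w ψ d⁆ = tv w φ (-(c * d * (ψ ⬝ᵥ u))) := by
  rw [commutatorElement_def]
  have key : tv u φ c * tv w ψ d
      = tv w φ (-(c * d * (ψ ⬝ᵥ u))) * (tv w ψ d * tv u φ c) := by
    apply Subtype.ext
    simp only [Matrix.SpecialLinearGroup.coe_mul, coe_tv u φ h1, coe_tv w ψ h2, coe_tv w φ hα]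
    simp only [Matrix.add_mul, Matrix.mul_add, Matrix.one_mul, Matrix.mul_one, Matrix.smul_mul,
      Matrix.mul_smul, vmv_mul, h1, h2, hα, zero_smul, smul_zero, add_zero, smul_smul]
    module
  rw [key]
  group

lemma rcc_of (S : Set (Subgroup (SpecialLinearGroup ι k)))
    (hS : ∀ x χ : ι → k, x ≠ 0 → χ ≠ 0 → χ ⬝ᵥ x = 0 → TN (vecMulVec x χ) ∈ S)
    (u φ w ψ : ι → k) (h1 : φ ⬝ᵥ u = 0) (h2 : ψ ⬝ᵥ w = 0) (hw : w ≠ 0) (hφ : φ ≠ 0)
    (hα : φ ⬝ᵥ w = 0) (hβ : ψ ⬝ᵥ u ≠ 0) :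
    Cfsg.RootCommutatorCase S (TN (vecMulVec u φ)) (TN (vecMulVec w ψ)) := by
  have hcomm : ⁅TN (vecMulVec u φ), TN (vecMulVec w ψ)⁆ = TN (vecMulVec w φ) := by
    apply le_antisymm
    · rw [Subgroup.commutator_le]
      intro a ha b hb
      obtain ⟨c, rfl⟩ := (mem_T_iff u φ h1 a).mp ha
      obtain ⟨d, rfl⟩ := (mem_T_iff w ψ h2 b).mp hb
      rw [comm_formula u φ w ψ h1 h2 hα]
      exact tv_mem w φ hα _
    · intro t ht
      obtain ⟨e, rfl⟩ := (mem_T_iff w φ hα t).mp ht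
      have : tv w φ e = ⁅tv u φ 1, tv w ψ (-e / (ψ ⬝ᵥ u))⁆ := by
        rw [comm_formula u φ w ψ h1 h2 hα]
        congr 1
        field_simp
      rw [this]
      exact Subgroup.commutator_mem_commutator (tv_mem u φ h1 _) (tv_mem w ψ h2 _)
  refine ⟨?_, ?_, ?_, ?_⟩
  · rw [hcomm]
    exact hS w φ hw hφ hα
  · rw [hcomm]
    intro z hz x hx
    have hle : TN (vecMulVec u φ) ⊔ TN (vecMulVec w ψ) ≤ Subgroup.centralizer {z} := by
      obtain ⟨e, rfl⟩ := (mem_T_iff w φ hα z).mp hz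
      apply sup_le
      · intro a ha
        rw [Subgroup.mem_centralizer_iff]
        intro y hy
        rw [Set.mem_singleton_iff] at hy
        subst hy
        obtain ⟨c, rfl⟩ := (mem_T_iff u φ h1 a).mp ha
        exact tv_comm_of w φ u φ hα h1 h1 hα e c
      · intro b hb
        rw [Subgroup.mem_centralizer_iff]
        intro y hy
        rw [Set.mem_singleton_iff] at hy
        subst hy
        obtain ⟨d, rfl⟩ := (mem_T_iff w ψ h2 b).mp hb
        exact tv_comm_of w φ w ψ hα h2 hα h2 e d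
    have := hle hx
    rw [Subgroup.mem_centralizer_iff] at this
    exact this z rfl
  · intro a ha ha1
    obtain ⟨c, rfl⟩ := (mem_T_iff u φ h1 a).mp ha
    have hc : c ≠ 0 := by
      rintro rfl
      exact ha1 (tv_zero u φ)
    rw [hcomm]
    apply le_antisymm
    · rw [Subgroup.closure_le]
      rintro _ ⟨b, hb, rfl⟩
      obtain ⟨d, rfl⟩ := (mem_T_iff w ψ h2 b).mp hb
      show tv u φ c * tv w ψ d * (tv u φ c)⁻¹ * (tv w ψ d)⁻¹ ∈ TN (vecMulVec w φ)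
      rw [← commutatorElement_def, comm_formula u φ w ψ h1 h2 hα]
      exact tv_mem w φ hα _
    · intro t ht
      obtain ⟨e, rfl⟩ := (mem_T_iff w φ hα t).mp ht
      apply Subgroup.subset_closure
      refine ⟨tv w ψ (-e / (c * (ψ ⬝ᵥ u))), tv_mem w ψ h2 _, ?_⟩
      show tv u φ c * tv w ψ (-e / (c * (ψ ⬝ᵥ u))) * (tv u φ c)⁻¹
        * (tv w ψ (-e / (c * (ψ ⬝ᵥ u))))⁻¹ = tv w φ e
      rw [← commutatorElement_def, comm_formula u φ w ψ h1 h2 hα]
      congr 1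
      field_simp
  · intro b hb hb1
    obtain ⟨d, rfl⟩ := (mem_T_iff w ψ h2 b).mp hb
    have hd : d ≠ 0 := by
      rintro rfl
      exact hb1 (tv_zero w ψ)
    rw [hcomm]
    apply le_antisymm
    · rw [Subgroup.closure_le]
      rintro _ ⟨a, ha, rfl⟩
      obtain ⟨c, rfl⟩ := (mem_T_iff u φ h1 a).mp ha
      show tv u φ c * tv w ψ d * (tv u φ c)⁻¹ * (tv w ψ d)⁻¹ ∈ TN (vecMulVec w φ)
      rw [← commutatorElement_def, comm_formula u φ w ψ h1 h2 hα]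
      exact tv_mem w φ hα _
    · intro t ht
      obtain ⟨e, rfl⟩ := (mem_T_iff w φ hα t).mp ht
      apply Subgroup.subset_closure
      refine ⟨tv u φ (-e / (d * (ψ ⬝ᵥ u))), tv_mem u φ h1 _, ?_⟩
      show tv u φ (-e / (d * (ψ ⬝ᵥ u))) * tv w ψ d * (tv u φ (-e / (d * (ψ ⬝ᵥ u))))⁻¹
        * (tv w ψ d)⁻¹ = tv w φ e
      rw [← commutatorElement_def, comm_formula u φ w ψ h1 h2 hα]
      congr 1
      field_simp

lemma rcc_symm {G : Type*} [Group G] (S : Set (Subgroup G)) (A B : Subgroup G)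
    (h : Cfsg.RootCommutatorCase S A B) : Cfsg.RootCommutatorCase S B A := by
  obtain ⟨h1, h2, h3, h4⟩ := h
  have hc : ⁅B, A⁆ = ⁅A, B⁆ := Subgroup.commutator_comm B A
  have hset : ∀ (X : Subgroup G) (y : G),
      (fun x : G => y * x * y⁻¹ * x⁻¹) '' (X : Set G)
        = ((fun x : G => x * y * x⁻¹ * y⁻¹) '' (X : Set G))⁻¹ := by
    intro X y
    ext z
    simp only [Set.mem_image, Set.mem_inv]
    constructor
    · rintro ⟨x, hx, rfl⟩
      exact ⟨x, hx, by group⟩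
    · rintro ⟨x, hx, hz⟩
      refine ⟨x, hx, ?_⟩
      rw [← inv_inv z, ← hz]
      group
  refine ⟨by rw [hc]; exact h1, ?_, ?_, ?_⟩
  · intro c hc' x hx
    rw [hc] at hc'
    rw [sup_comm] at hx
    exact h2 c hc' x hx
  · intro b hb hb1
    rw [hc, ← h4 b hb hb1, hset A b, Subgroup.closure_inv]
  · intro a ha ha1
    rw [hc, ← h3 a ha ha1, hset B a, Subgroup.closure_inv]

end commcase

section Sdef

variable {k : Type*} [Field k] {n : ℕ}

lemma single_eq_vmv {ι : Type} [Fintype ι] [DecidableEq ι] (i j : ι) (c : k) :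
    Matrix.single i j c = c • vecMulVec (Pi.single i (1 : k)) (Pi.single j (1 : k)) := by
  ext a b
  simp only [Matrix.single_apply, Matrix.smul_apply, vecMulVec_apply, Pi.single_apply, smul_eq_mul]
  by_cases h1 : i = a <;> by_cases h2 : j = b <;> simp [h1, h2, eq_comm]

/-- the set of transvection subgroups -/
def Sset (k : Type*) [Field k] (n : ℕ) : Set (Subgroup (SpecialLinearGroup (Fin (n + 3)) k)) :=
  {A | ∃ g : SpecialLinearGroup (Fin (n + 3)) k,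
    A = Cfsg.conjBy (Subgroup.closure {t : SpecialLinearGroup (Fin (n + 3)) k |
      ∃ c : k, (t : Matrix (Fin (n + 3)) (Fin (n + 3)) k) = Matrix.transvection 0 1 c}) g}

lemma h01' (n : ℕ) : (0 : Fin (n + 3)) ≠ 1 := by
  intro h
  have := congrArg Fin.val h
  rw [Fin.val_zero, Fin.val_one] at this
  omega

lemma e1e0 (k : Type*) [Field k] (n : ℕ) :
    (Pi.single (1 : Fin (n + 3)) (1 : k)) ⬝ᵥ (Pi.single (0 : Fin (n + 3)) (1 : k)) = 0 := by
  rw [single_dotProduct, one_mul, Pi.single_apply, if_neg (h01' n).symm]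

lemma T0_eq : Subgroup.closure {t : SpecialLinearGroup (Fin (n + 3)) k |
      ∃ c : k, (t : Matrix (Fin (n + 3)) (Fin (n + 3)) k) = Matrix.transvection 0 1 c}
    = TN (vecMulVec (Pi.single (0 : Fin (n + 3)) (1 : k)) (Pi.single (1 : Fin (n + 3)) (1 : k))) := by
  apply le_antisymm
  · rw [Subgroup.closure_le]
    rintro t ⟨c, hc⟩
    rw [SetLike.mem_coe, mem_TN _ (vmv_sq _ _ (e1e0 k n))]
    exact ⟨c, by rw [hc, Matrix.transvection, single_eq_vmv]⟩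
  · intro t ht
    obtain ⟨c, hc⟩ := (mem_TN _ (vmv_sq _ _ (e1e0 k n)) t).mp ht
    apply Subgroup.subset_closure
    exact ⟨c, by rw [hc, Matrix.transvection, single_eq_vmv]⟩

lemma S_iff (A : Subgroup (SpecialLinearGroup (Fin (n + 3)) k)) :
    A ∈ Sset k n ↔ ∃ u φ : Fin (n + 3) → k, u ≠ 0 ∧ φ ≠ 0 ∧ φ ⬝ᵥ u = 0 ∧
      A = TN (vecMulVec u φ) := by
  constructor
  · rintro ⟨g, rfl⟩
    rw [T0_eq, conjBy_TN _ (vmv_sq _ _ (e1e0 k n)), mul_vecMulVec, vecMulVec_mul]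
    refine ⟨_, _, ?_, ?_, ?_, rfl⟩
    · intro h0
      have h := congrArg (fun v => ((g⁻¹ : SpecialLinearGroup (Fin (n + 3)) k) :
        Matrix (Fin (n + 3)) (Fin (n + 3)) k) *ᵥ v) h0
      simp only [mulVec_mulVec, coe_inv_mul, one_mulVec, mulVec_zero] at h
      have := congrFun h 0
      simp at this
    · intro h0
      have h := congrArg (fun v => v ᵥ* (g : Matrix (Fin (n + 3)) (Fin (n + 3)) k)) h0
      simp only [vecMul_vecMul, coe_inv_mul, vecMul_one, zero_vecMul] at h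
      have := congrFun h 1
      simp at this
    · rw [← dotProduct_mulVec, mulVec_mulVec, coe_inv_mul, one_mulVec]
      exact e1e0 k n
  · rintro ⟨u, φ, hu, hφ, h, rfl⟩
    have ht : Cfsg.IsTransvection ((tv u φ 1 : SpecialLinearGroup (Fin (n + 3)) k) :
        Matrix (Fin (n + 3)) (Fin (n + 3)) k) := by
      rw [Cfsg.Agent.S5058.isTransvection_iff]
      exact ⟨u, φ, by rw [coe_tv u φ h, one_smul], hu, hφ, h⟩
    have hs : Cfsg.IsTransvection ((Matrix.SpecialLinearGroup.transvection (h01' n) (1 : k) :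
        SpecialLinearGroup (Fin (n + 3)) k) : Matrix (Fin (n + 3)) (Fin (n + 3)) k) := by
      rw [Matrix.SpecialLinearGroup.transvection_coe]
      exact Cfsg.Agent.S5058.isTransvection_elem (h01' n) 1 one_ne_zero
    obtain ⟨g, hg⟩ := isConj_iff.mp
      (Cfsg.Agent.Lib.Helper4_Transv1.transvections_conj _ _ hs ht)
    refine ⟨g, ?_⟩
    rw [T0_eq, conjBy_TN _ (vmv_sq _ _ (e1e0 k n))]
    congr 1
    have hm := congrArg (fun t : SpecialLinearGroup (Fin (n + 3)) k =>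
      (t : Matrix (Fin (n + 3)) (Fin (n + 3)) k)) hg
    simp only [Matrix.SpecialLinearGroup.coe_mul, Matrix.SpecialLinearGroup.transvection_coe,
      coe_tv u φ h, one_smul, single_eq_vmv, Matrix.mul_add, Matrix.add_mul, Matrix.mul_one,
      coe_mul_inv] at hm
    exact (add_left_cancel hm).symm

end Sdef

section rootset

variable {k : Type*} [Field k] {n : ℕ}

lemma e_ne (i : Fin (n + 3)) : (Pi.single i (1 : k) : Fin (n + 3) → k) ≠ 0 := by
  intro h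
  have := congrFun h i
  simp at this

lemma ee (i j : Fin (n + 3)) (hij : i ≠ j) :
    (Pi.single j (1 : k) : Fin (n + 3) → k) ⬝ᵥ (Pi.single i (1 : k)) = 0 := by
  rw [single_dotProduct, one_mul, Pi.single_apply, if_neg hij.symm]

lemma ee_self (i : Fin (n + 3)) :
    (Pi.single i (1 : k) : Fin (n + 3) → k) ⬝ᵥ (Pi.single i (1 : k)) = 1 := by
  rw [single_dotProduct, one_mul, Pi.single_apply, if_pos rfl]

lemma hSmem (x χ : Fin (n + 3) → k) (hx : x ≠ 0) (hχ : χ ≠ 0) (h : χ ⬝ᵥ x = 0) :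
    TN (vecMulVec x χ) ∈ Sset k n :=
  (S_iff _).mpr ⟨x, χ, hx, hχ, h, rfl⟩

lemma conjBy_conjBy {G : Type*} [Group G] (X : Subgroup G) (g h : G) :
    Cfsg.conjBy (Cfsg.conjBy X g) h = Cfsg.conjBy X (h * g) := by
  ext x
  simp only [Cfsg.conjBy, Subgroup.mem_map_equiv, MulAut.conj_symm_apply]
  rw [_root_.mul_inv_rev]
  simp only [mul_assoc]

lemma generates : (⨆ A ∈ Sset k n, A) = ⊤ := by
  rw [eq_top_iff]
  intro M _
  apply Cfsg.Agent.Helper9SLn.transvection_induction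
    (P := fun M => M ∈ ⨆ A ∈ Sset k n, A) M
  · intro i j hij a
    have hS : TN (vecMulVec (Pi.single i (1 : k)) (Pi.single j (1 : k))) ∈ Sset k n :=
      hSmem _ _ (e_ne i) (e_ne j) (ee i j hij)
    apply Subgroup.mem_iSup_of_mem (TN (vecMulVec (Pi.single i (1 : k)) (Pi.single j (1 : k))))
    apply Subgroup.mem_iSup_of_mem hS
    rw [mem_TN _ (vmv_sq _ _ (ee i j hij))]
    exact ⟨a, by rw [Matrix.SpecialLinearGroup.transvection_coe, single_eq_vmv]⟩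
  · intro A B hA hB
    exact Subgroup.mul_mem _ hA hB

theorem isRootSubgroupSet : Cfsg.IsRootSubgroupSet (Sset k n) where
  commutative := by
    intro A hA
    obtain ⟨u, φ, _, _, _, rfl⟩ := (S_iff A).mp hA
    exact TN_isMulCommutative _
  ne_bot := by
    intro A hA
    obtain ⟨u, φ, hu, hφ, h, rfl⟩ := (S_iff A).mp hA
    intro hbot
    have h1 := tv_mem u φ h 1
    rw [hbot, Subgroup.mem_bot] at h1
    exact tv_ne_one u φ h hu hφ 1 one_ne_zero h1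
  generates := generates
  conj_mem := by
    rintro A ⟨g, rfl⟩ h
    exact ⟨h * g, conjBy_conjBy _ g h⟩
  pair := by
    intro A hA B hB
    obtain ⟨u, φ, hu, hφ, h1, rfl⟩ := (S_iff A).mp hA
    obtain ⟨w, ψ, hw, hψ, h2, rfl⟩ := (S_iff B).mp hB
    by_cases hα : φ ⬝ᵥ w = 0
    · by_cases hβ : ψ ⬝ᵥ u = 0
      · left
        exact comm_case u φ w ψ h1 h2 hα hβ
      · right; right
        exact rcc_of (Sset k n) hSmem u φ w ψ h1 h2 hw hφ hα hβ
    · by_cases hβ : ψ ⬝ᵥ u = 0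
      · right; right
        apply rcc_symm
        exact rcc_of (Sset k n) hSmem w ψ u φ h2 h1 hu hψ hβ hα
      · right; left
        exact rank_one_pair u φ w ψ h1 h2 hα hβ

theorem isConjClass : Cfsg.IsConjClassOfSubgroups (Sset k n) := by
  refine ⟨⟨_, 1, rfl⟩, ?_⟩
  rintro A ⟨g₁, rfl⟩ B ⟨g₂, rfl⟩
  refine ⟨g₂ * g₁⁻¹, ?_⟩
  rw [conjBy_conjBy, inv_mul_cancel_right]

end rootset

section nondeg

variable {k : Type*} [Field k] {n : ℕ}

lemma h02' (n : ℕ) : (0 : Fin (n + 3)) ≠ 2 := by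
  intro h
  have := congrArg Fin.val h
  rw [Fin.val_zero, Fin.val_two] at this
  omega

lemma h12' (n : ℕ) : (1 : Fin (n + 3)) ≠ 2 := by
  intro h
  have := congrArg Fin.val h
  rw [Fin.val_one, Fin.val_two] at this
  omega

theorem isNondegenerate : Cfsg.IsNondegenerateRootSet (Sset k n) := by
  refine ⟨?_, ?_, ?_⟩
  · refine ⟨TN (vecMulVec (Pi.single 0 (1 : k)) (Pi.single 1 (1 : k))),
      hSmem _ _ (e_ne 0) (e_ne 1) (ee 0 1 (h01' n)),
      TN (vecMulVec (Pi.single 0 (1 : k)) (Pi.single 2 (1 : k))),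
      hSmem _ _ (e_ne 0) (e_ne 2) (ee 0 2 (h02' n)), ?_, ?_⟩
    · intro heq
      have hmem : tv (Pi.single 0 (1 : k)) (Pi.single (2 : Fin (n + 3)) (1 : k)) 1
          ∈ TN (vecMulVec (Pi.single (0 : Fin (n + 3)) (1 : k)) (Pi.single 1 (1 : k))) :=
        heq ▸ tv_mem _ _ (ee 0 2 (h02' n)) 1
      obtain ⟨c, hc⟩ := (mem_TN _ (vmv_sq _ _ (ee 0 1 (h01' n))) _).mp hmem
      rw [coe_tv _ _ (ee 0 2 (h02' n))] at hc
      have h3 := congrFun (congrFun hc 0) 2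
      simp [Matrix.add_apply, Matrix.smul_apply, vecMulVec_apply, Pi.single_apply, h02' n,
        (h12' n).symm, Matrix.one_apply] at h3
    · exact comm_case _ _ _ _ (ee 0 1 (h01' n)) (ee 0 2 (h02' n)) (ee 0 1 (h01' n))
        (ee 0 2 (h02' n))
  · refine ⟨TN (vecMulVec (Pi.single 0 (1 : k)) (Pi.single 1 (1 : k))),
      hSmem _ _ (e_ne 0) (e_ne 1) (ee 0 1 (h01' n)),
      TN (vecMulVec (Pi.single 1 (1 : k)) (Pi.single 0 (1 : k))),
      hSmem _ _ (e_ne 1) (e_ne 0) (ee 1 0 (h01' n).symm), ?_⟩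
    apply rank_one_pair _ _ _ _ (ee 0 1 (h01' n)) (ee 1 0 (h01' n).symm)
    · rw [ee_self]; exact one_ne_zero
    · rw [ee_self]; exact one_ne_zero
  · refine ⟨TN (vecMulVec (Pi.single 1 (1 : k)) (Pi.single 2 (1 : k))),
      hSmem _ _ (e_ne 1) (e_ne 2) (ee 1 2 (h12' n)),
      TN (vecMulVec (Pi.single 0 (1 : k)) (Pi.single 1 (1 : k))),
      hSmem _ _ (e_ne 0) (e_ne 1) (ee 0 1 (h01' n)), ?_⟩
    apply rcc_of (Sset k n) hSmem _ _ _ _ (ee 1 2 (h12' n)) (ee 0 1 (h01' n)) (e_ne 0) (e_ne 2)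
      (ee 0 2 (h02' n))
    rw [ee_self]; exact one_ne_zero

lemma exists_dot_ne (φ : Fin (n + 3) → k) (hφ : φ ≠ 0) : ∃ x : Fin (n + 3) → k, φ ⬝ᵥ x ≠ 0 := by
  obtain ⟨i, hi⟩ := Function.ne_iff.mp hφ
  refine ⟨Pi.single i 1, ?_⟩
  rw [dotProduct_single, mul_one]
  exact hi

lemma exists_two_dot_ne (φ ψ : Fin (n + 3) → k) (hφ : φ ≠ 0) (hψ : ψ ≠ 0) :
    ∃ x : Fin (n + 3) → k, φ ⬝ᵥ x ≠ 0 ∧ ψ ⬝ᵥ x ≠ 0 := by
  obtain ⟨x₁, h₁⟩ := exists_dot_ne φ hφ
  obtain ⟨x₂, h₂⟩ := exists_dot_ne ψ hψ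
  by_cases h3 : ψ ⬝ᵥ x₁ = 0
  · by_cases h4 : φ ⬝ᵥ x₂ = 0
    · refine ⟨x₁ + x₂, ?_, ?_⟩
      · rw [dotProduct_add, h4, add_zero]; exact h₁
      · rw [dotProduct_add, h3, zero_add]; exact h₂
    · exact ⟨x₂, h4, h₂⟩
  · exact ⟨x₁, h₁, h3⟩

lemma exists_chi (u φ w ψ x : Fin (n + 3) → k) (hu : u ≠ 0) (hw : w ≠ 0)
    (h1 : φ ⬝ᵥ u = 0) (h2 : ψ ⬝ᵥ w = 0) (hx1 : φ ⬝ᵥ x ≠ 0) (hx2 : ψ ⬝ᵥ x ≠ 0) :
    ∃ χ : Fin (n + 3) → k, χ ⬝ᵥ x = 0 ∧ χ ⬝ᵥ u ≠ 0 ∧ χ ⬝ᵥ w ≠ 0 := by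
  obtain ⟨η₁, hη₁⟩ := exists_dot_ne u hu
  obtain ⟨η₂, hη₂⟩ := exists_dot_ne w hw
  rw [dotProduct_comm] at hη₁ hη₂
  have c1x : (η₁ - ((η₁ ⬝ᵥ x) / (φ ⬝ᵥ x)) • φ) ⬝ᵥ x = 0 := by
    rw [sub_dotProduct, smul_dotProduct, smul_eq_mul, div_mul_cancel₀ _ hx1, sub_self]
  have c1u : (η₁ - ((η₁ ⬝ᵥ x) / (φ ⬝ᵥ x)) • φ) ⬝ᵥ u ≠ 0 := by
    rw [sub_dotProduct, smul_dotProduct, h1, smul_zero, sub_zero]; exact hη₁
  have c2x : (η₂ - ((η₂ ⬝ᵥ x) / (ψ ⬝ᵥ x)) • ψ) ⬝ᵥ x = 0 := by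
    rw [sub_dotProduct, smul_dotProduct, smul_eq_mul, div_mul_cancel₀ _ hx2, sub_self]
  have c2w : (η₂ - ((η₂ ⬝ᵥ x) / (ψ ⬝ᵥ x)) • ψ) ⬝ᵥ w ≠ 0 := by
    rw [sub_dotProduct, smul_dotProduct, h2, smul_zero, sub_zero]; exact hη₂
  generalize η₁ - ((η₁ ⬝ᵥ x) / (φ ⬝ᵥ x)) • φ = χ₁ at c1x c1u
  generalize η₂ - ((η₂ ⬝ᵥ x) / (ψ ⬝ᵥ x)) • ψ = χ₂ at c2x c2w
  by_cases h3 : χ₁ ⬝ᵥ w = 0
  · by_cases h4 : χ₂ ⬝ᵥ u = 0
    · refine ⟨χ₁ + χ₂, ?_, ?_, ?_⟩
      · rw [add_dotProduct, c1x, c2x, add_zero]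
      · rw [add_dotProduct, h4, add_zero]; exact c1u
      · rw [add_dotProduct, h3, zero_add]; exact c2w
    · exact ⟨χ₂, c2x, h4, c2w⟩
  · exact ⟨χ₁, c1x, c1u, h3⟩

theorem isConnected : Cfsg.IsConnectedFamily (Cfsg.FAdj (Sset k n)) (Sset k n) := by
  intro A hA B hB
  obtain ⟨u, φ, hu, hφ, h1, rfl⟩ := (S_iff A).mp hA
  obtain ⟨w, ψ, hw, hψ, h2, rfl⟩ := (S_iff B).mp hB
  obtain ⟨x, hx1, hx2⟩ := exists_two_dot_ne φ ψ hφ hψ
  obtain ⟨χ, hχx, hχu, hχw⟩ := exists_chi u φ w ψ x hu hw h1 h2 hx1 hx2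
  have hx : x ≠ 0 := by
    rintro rfl
    exact hx1 (dotProduct_zero φ)
  have hχ : χ ≠ 0 := by
    rintro rfl
    exact hχu (zero_dotProduct u)
  have hC : TN (vecMulVec x χ) ∈ Sset k n := hSmem x χ hx hχ hχx
  have hAC : Cfsg.FAdj (Sset k n) (TN (vecMulVec u φ)) (TN (vecMulVec x χ)) :=
    ⟨hA, hC, rank_one_pair u φ x χ h1 hχx hx1 hχu⟩
  have hCB : Cfsg.FAdj (Sset k n) (TN (vecMulVec x χ)) (TN (vecMulVec w ψ)) :=
    ⟨hC, hB, rank_one_pair x χ w ψ hχx h2 hχw hx2⟩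
  exact (Relation.ReflTransGen.single hAC).trans (Relation.ReflTransGen.single hCB)

end nondeg

section psl2

variable {ι : Type} [Fintype ι] [DecidableEq ι] {k : Type*} [Field k]

/-- embedding of 2×2 matrices -/
def iot (U : Matrix ι (Fin 2) k) (Φ : Matrix (Fin 2) ι k) (X : Matrix (Fin 2) (Fin 2) k) :
    Matrix ι ι k := U * X * Φ

lemma iot_mul (U : Matrix ι (Fin 2) k) (Φ : Matrix (Fin 2) ι k) (h : Φ * U = 1)
    (X Y : Matrix (Fin 2) (Fin 2) k) : iot U Φ X * iot U Φ Y = iot U Φ (X * Y) := by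
  unfold iot
  calc U * X * Φ * (U * Y * Φ) = U * (X * ((Φ * U) * Y)) * Φ := by simp only [Matrix.mul_assoc]
    _ = U * (X * Y) * Φ := by rw [h, Matrix.one_mul]

lemma iot_add (U : Matrix ι (Fin 2) k) (Φ : Matrix (Fin 2) ι k)
    (X Y : Matrix (Fin 2) (Fin 2) k) : iot U Φ (X + Y) = iot U Φ X + iot U Φ Y := by
  unfold iot
  rw [Matrix.mul_add, Matrix.add_mul]

lemma iot_zero (U : Matrix ι (Fin 2) k) (Φ : Matrix (Fin 2) ι k) : iot U Φ 0 = 0 := by
  unfold iot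
  simp

lemma det_rho (U : Matrix ι (Fin 2) k) (Φ : Matrix (Fin 2) ι k) (h : Φ * U = 1)
    (g : SpecialLinearGroup (Fin 2) k) :
    (1 + iot U Φ ((g : Matrix (Fin 2) (Fin 2) k) - 1)).det = 1 := by
  unfold iot
  rw [Matrix.mul_assoc, det_one_add_mul_comm, Matrix.mul_assoc, h, Matrix.mul_one,
    add_sub_cancel, g.2]

/-- the homomorphism from `SL₂` -/
noncomputable def rho (U : Matrix ι (Fin 2) k) (Φ : Matrix (Fin 2) ι k) (h : Φ * U = 1) :
    SpecialLinearGroup (Fin 2) k →* SpecialLinearGroup ι k where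
  toFun g := ⟨1 + iot U Φ ((g : Matrix (Fin 2) (Fin 2) k) - 1), det_rho U Φ h g⟩
  map_one' := by
    apply Subtype.ext
    show 1 + iot U Φ (((1 : SpecialLinearGroup (Fin 2) k) : Matrix (Fin 2) (Fin 2) k) - 1) = 1
    rw [Matrix.SpecialLinearGroup.coe_one, sub_self, iot_zero, add_zero]
  map_mul' g g' := by
    apply Subtype.ext
    show 1 + iot U Φ (((g * g' : SpecialLinearGroup (Fin 2) k) : Matrix (Fin 2) (Fin 2) k) - 1)
      = (1 + iot U Φ ((g : Matrix (Fin 2) (Fin 2) k) - 1))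
        * (1 + iot U Φ ((g' : Matrix (Fin 2) (Fin 2) k) - 1))
    rw [Matrix.add_mul, Matrix.mul_add, Matrix.mul_add, Matrix.one_mul, Matrix.mul_one,
      Matrix.one_mul, iot_mul U Φ h, Matrix.SpecialLinearGroup.coe_mul]
    have : ((g : Matrix (Fin 2) (Fin 2) k) * (g' : Matrix (Fin 2) (Fin 2) k) - 1)
        = ((g' : Matrix (Fin 2) (Fin 2) k) - 1) + (((g : Matrix (Fin 2) (Fin 2) k) - 1)
          + ((g : Matrix (Fin 2) (Fin 2) k) - 1) * ((g' : Matrix (Fin 2) (Fin 2) k) - 1)) := by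
      noncomm_ring
    rw [this, iot_add, iot_add]
    abel

lemma coe_rho (U : Matrix ι (Fin 2) k) (Φ : Matrix (Fin 2) ι k) (h : Φ * U = 1)
    (g : SpecialLinearGroup (Fin 2) k) :
    ((rho U Φ h g : SpecialLinearGroup ι k) : Matrix ι ι k)
      = 1 + iot U Φ ((g : Matrix (Fin 2) (Fin 2) k) - 1) := rfl

lemma rho_injective (U : Matrix ι (Fin 2) k) (Φ : Matrix (Fin 2) ι k) (h : Φ * U = 1) :
    Function.Injective (rho U Φ h) := by
  intro g g' hgg
  have h1 := congrArg (fun t : SpecialLinearGroup ι k => (t : Matrix ι ι k)) hgg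
  simp only [coe_rho] at h1
  have h2 := add_left_cancel h1
  have h3 := congrArg (fun X => Φ * X * U) h2
  simp only [iot] at h3
  have hred : ∀ X : Matrix (Fin 2) (Fin 2) k, Φ * (U * X * Φ) * U = X := by
    intro X
    calc Φ * (U * X * Φ) * U = (Φ * U) * X * (Φ * U) := by simp only [Matrix.mul_assoc]
      _ = X := by rw [h, Matrix.one_mul, Matrix.mul_one]
  rw [hred, hred] at h3
  apply Subtype.ext
  exact sub_left_injective h3

lemma iot_upper (U : Matrix ι (Fin 2) k) (Φ : Matrix (Fin 2) ι k) (X : Matrix (Fin 2) (Fin 2) k)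
    (h00 : X 0 0 = 0) (h10 : X 1 0 = 0) (h11 : X 1 1 = 0) :
    iot U Φ X = X 0 1 • vecMulVec (fun i => U i 0) (fun j => Φ 1 j) := by
  ext i j
  simp only [iot, Matrix.mul_apply, Fin.sum_univ_two, h00, h10, h11, Matrix.smul_apply,
    vecMulVec_apply, smul_eq_mul, mul_zero, zero_mul, add_zero, zero_add]
  ring

lemma iot_lower (U : Matrix ι (Fin 2) k) (Φ : Matrix (Fin 2) ι k) (X : Matrix (Fin 2) (Fin 2) k)
    (h00 : X 0 0 = 0) (h01 : X 0 1 = 0) (h11 : X 1 1 = 0) :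
    iot U Φ X = X 1 0 • vecMulVec (fun i => U i 1) (fun j => Φ 0 j) := by
  ext i j
  simp only [iot, Matrix.mul_apply, Fin.sum_univ_two, h00, h01, h11, Matrix.smul_apply,
    vecMulVec_apply, smul_eq_mul, mul_zero, zero_mul, add_zero, zero_add]
  ring

lemma sl2_top : Cfsg.upperUnipotentSL2 k ⊔ Cfsg.lowerUnipotentSL2 k = ⊤ := by
  rw [eq_top_iff]
  intro M _
  apply Cfsg.Agent.Helper9SLn.transvection_induction
    (P := fun M => M ∈ Cfsg.upperUnipotentSL2 k ⊔ Cfsg.lowerUnipotentSL2 k) M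
  · intro i j hij a
    fin_cases i <;> fin_cases j
    · exact absurd rfl hij
    · apply Subgroup.mem_sup_left
      apply Subgroup.subset_closure
      simp [Matrix.SpecialLinearGroup.transvection_coe, Matrix.single_apply]
    · apply Subgroup.mem_sup_right
      apply Subgroup.subset_closure
      simp [Matrix.SpecialLinearGroup.transvection_coe, Matrix.single_apply]
    · exact absurd rfl hij
  · intro A B hA hB
    exact Subgroup.mul_mem _ hA hB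

end psl2

section kroot

variable {ι : Type} [Fintype ι] [DecidableEq ι] {k : Type*} [Field k]

lemma alpha_ne_zero (u φ w ψ : ι → k) (hu : u ≠ 0) (hφ : φ ≠ 0) (hw : w ≠ 0)
    (h1 : φ ⬝ᵥ u = 0) (h2 : ψ ⬝ᵥ w = 0)
    (hR : Cfsg.IsRankOnePair (TN (vecMulVec u φ)) (TN (vecMulVec w ψ))) : φ ⬝ᵥ w ≠ 0 := by
  intro hα
  obtain ⟨b, hb, hb1, hconj⟩ := hR.cond_left (tv u φ 1) (tv_mem u φ h1 1)
    (tv_ne_one u φ h1 hu hφ 1 one_ne_zero)
  obtain ⟨d, rfl⟩ := (mem_T_iff w ψ h2 b).mp hb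
  rw [conjBy_T_tv_inv u φ w ψ h1 h2, conjBy_T_tv_inv w ψ u φ h2 h1] at hconj
  rw [hα] at hconj
  simp only [mul_zero, zero_smul, add_zero, one_mul] at hconj
  by_cases hβ : ψ ⬝ᵥ u = 0
  · rw [hβ] at hconj
    simp only [mul_zero, zero_smul, add_zero] at hconj
    exact hR.ne hconj
  · have hsq1 : φ ⬝ᵥ (u + (-d * (ψ ⬝ᵥ u)) • w) = 0 := by
      rw [dotProduct_add, dotProduct_smul, h1, hα, smul_zero, add_zero]
    have hsq2 : (ψ + (ψ ⬝ᵥ u) • φ) ⬝ᵥ w = 0 := by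
      rw [add_dotProduct, smul_dotProduct, h2, hα, smul_zero, add_zero]
    have hmem : tv (u + (-d * (ψ ⬝ᵥ u)) • w) φ 1 ∈ TN (vecMulVec w (ψ + (ψ ⬝ᵥ u) • φ)) :=
      hconj ▸ tv_mem _ _ hsq1 1
    obtain ⟨e, he⟩ := (mem_TN _ (vmv_sq _ _ hsq2) _).mp hmem
    rw [coe_tv _ _ hsq1, one_smul] at he
    have hN := add_left_cancel he
    have h3 := congrArg (fun X => X *ᵥ u) hN
    simp only [vecMulVec_mulVec, smul_mulVec, op_smul_eq_smul, h1, zero_smul, add_dotProduct,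
      smul_dotProduct, smul_zero, add_zero] at h3
    have he0 : e = 0 := by
      rw [eq_comm, smul_smul, smul_eq_zero] at h3
      rcases h3 with h3 | h3
      · rcases mul_eq_zero.mp h3 with h4 | h4
        · exact h4
        · exact absurd h4 hβ
      · exact absurd h3 hw
    rw [he0, zero_smul] at hN
    rcases vecMulVec_eq_zero.mp hN with h4 | h4
    · have h5 := congrArg (fun v => ψ ⬝ᵥ v) h4
      simp only [dotProduct_add, dotProduct_smul, h2, smul_zero, add_zero, dotProduct_zero] at h5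
      exact hβ h5
    · exact hφ h4

theorem psl2_pair (u φ w ψ : ι → k) (h1 : φ ⬝ᵥ u = 0) (h2 : ψ ⬝ᵥ w = 0)
    (hα : φ ⬝ᵥ w ≠ 0) (hβ : ψ ⬝ᵥ u ≠ 0) :
    Cfsg.IsPSL2PairOver k (TN (vecMulVec u φ)) (TN (vecMulVec w ψ)) := by
  let U : Matrix ι (Fin 2) k := Matrix.of fun i j => if j = 0 then u i else (φ ⬝ᵥ w)⁻¹ * w i
  let Φ : Matrix (Fin 2) ι k := Matrix.of fun j i => if j = 0 then (ψ ⬝ᵥ u)⁻¹ * ψ i else φ i
  have hU0 : (fun i => U i 0) = u := by
    ext i; simp [U]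
  have hU1 : (fun i => U i 1) = (φ ⬝ᵥ w)⁻¹ • w := by
    ext i; simp [U]
  have hΦ0 : (fun j => Φ 0 j) = (ψ ⬝ᵥ u)⁻¹ • ψ := by
    ext i; simp [Φ]
  have hΦ1 : (fun j => Φ 1 j) = φ := by
    ext i; simp [Φ]
  have hΦU : Φ * U = 1 := by
    ext a b
    have hab : (Φ * U) a b = (fun j => Φ a j) ⬝ᵥ (fun i => U i b) := by
      rw [Matrix.mul_apply]; rfl
    rw [hab]
    fin_cases a <;> fin_cases b
    · show (fun j => Φ 0 j) ⬝ᵥ (fun i => U i 0) = (1 : Matrix (Fin 2) (Fin 2) k) 0 0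
      rw [hΦ0, hU0, smul_dotProduct, smul_eq_mul, inv_mul_cancel₀ hβ, Matrix.one_apply_eq]
    · show (fun j => Φ 0 j) ⬝ᵥ (fun i => U i 1) = (1 : Matrix (Fin 2) (Fin 2) k) 0 1
      rw [hΦ0, hU1, smul_dotProduct, dotProduct_smul, h2, smul_zero, smul_zero,
        Matrix.one_apply_ne (by decide)]
    · show (fun j => Φ 1 j) ⬝ᵥ (fun i => U i 0) = (1 : Matrix (Fin 2) (Fin 2) k) 1 0
      rw [hΦ1, hU0, h1, Matrix.one_apply_ne (by decide)]
    · show (fun j => Φ 1 j) ⬝ᵥ (fun i => U i 1) = (1 : Matrix (Fin 2) (Fin 2) k) 1 1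
      rw [hΦ1, hU1, dotProduct_smul, smul_eq_mul, inv_mul_cancel₀ hα, Matrix.one_apply_eq]
  have hup : (Cfsg.upperUnipotentSL2 k).map (rho U Φ hΦU) = TN (vecMulVec u φ) := by
    unfold Cfsg.upperUnipotentSL2
    rw [MonoidHom.map_closure]
    apply le_antisymm
    · rw [Subgroup.closure_le]
      rintro _ ⟨g, ⟨h10, h00, h11⟩, rfl⟩
      rw [SetLike.mem_coe, mem_TN _ (vmv_sq u φ h1)]
      refine ⟨(g : Matrix (Fin 2) (Fin 2) k) 0 1, ?_⟩
      rw [coe_rho, iot_upper U Φ _ (by simp [h00]) (by simp [h10]) (by simp [h11]), hU0, hΦ1]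
      simp
    · intro t ht
      obtain ⟨c, hc⟩ := (mem_TN _ (vmv_sq u φ h1) t).mp ht
      apply Subgroup.subset_closure
      refine ⟨Matrix.SpecialLinearGroup.transvection (zero_ne_one : (0 : Fin 2) ≠ 1) c, ?_, ?_⟩
      · simp [Matrix.SpecialLinearGroup.transvection_coe]
      · apply Subtype.ext
        rw [coe_rho, hc, iot_upper U Φ _ (by simp [Matrix.SpecialLinearGroup.transvection_coe])
          (by simp [Matrix.SpecialLinearGroup.transvection_coe])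
          (by simp [Matrix.SpecialLinearGroup.transvection_coe]), hU0, hΦ1]
        simp [Matrix.SpecialLinearGroup.transvection_coe]
  have hlow : (Cfsg.lowerUnipotentSL2 k).map (rho U Φ hΦU) = TN (vecMulVec w ψ) := by
    unfold Cfsg.lowerUnipotentSL2
    rw [MonoidHom.map_closure]
    apply le_antisymm
    · rw [Subgroup.closure_le]
      rintro _ ⟨g, ⟨h01, h00, h11⟩, rfl⟩
      rw [SetLike.mem_coe, mem_TN _ (vmv_sq w ψ h2)]
      refine ⟨(g : Matrix (Fin 2) (Fin 2) k) 1 0 * (φ ⬝ᵥ w)⁻¹ * (ψ ⬝ᵥ u)⁻¹, ?_⟩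
      rw [coe_rho, iot_lower U Φ _ (by simp [h00]) (by simp [h01]) (by simp [h11]), hU1, hΦ0,
        smul_vecMulVec, vecMulVec_smul, smul_smul, smul_smul]
      simp
    · intro t ht
      obtain ⟨c, hc⟩ := (mem_TN _ (vmv_sq w ψ h2) t).mp ht
      apply Subgroup.subset_closure
      refine ⟨Matrix.SpecialLinearGroup.transvection (one_ne_zero : (1 : Fin 2) ≠ 0)
        (c * ((φ ⬝ᵥ w) * (ψ ⬝ᵥ u))), ?_, ?_⟩
      · simp [Matrix.SpecialLinearGroup.transvection_coe]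
      · apply Subtype.ext
        rw [coe_rho, hc, iot_lower U Φ _ (by simp [Matrix.SpecialLinearGroup.transvection_coe])
          (by simp [Matrix.SpecialLinearGroup.transvection_coe])
          (by simp [Matrix.SpecialLinearGroup.transvection_coe]), hU1, hΦ0,
          smul_vecMulVec, vecMulVec_smul, smul_smul, smul_smul]
        simp [Matrix.SpecialLinearGroup.transvection_coe]
        field_simp
  refine ⟨rho U Φ hΦU, ?_, ?_, hup, hlow⟩
  · rw [← hup, ← hlow, ← Subgroup.map_sup, sl2_top, MonoidHom.range_eq_map]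
  · rw [(MonoidHom.ker_eq_bot_iff _).mpr (rho_injective U Φ hΦU)]
    exact bot_le

end kroot

/-- Let k be a field and n a natural number. In SL_{n+3}(k) (so in every dimension at least 3) the conjugates of the root subgroup of elementary transvections 1 + c E₁₂ (c ∈ k) — that is, the groups of transvections attached to an incident point–hyperplane pair — form a non-degenerate class of abstract k-root subgroups of SL_{n+3}(k) whose graph of rank one pairs is connected. -/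
theorem result (k : Type*) [Field k] (n : ℕ) :
    Cfsg.IsRootSubgroupClass {A : Subgroup (Matrix.SpecialLinearGroup (Fin (n + 3)) k) |
        ∃ g : Matrix.SpecialLinearGroup (Fin (n + 3)) k,
          A = Cfsg.conjBy (Subgroup.closure {t : Matrix.SpecialLinearGroup (Fin (n + 3)) k |
            ∃ c : k, (t : Matrix (Fin (n + 3)) (Fin (n + 3)) k) = Matrix.transvection 0 1 c}) g} ∧
    Cfsg.IsNondegenerateRootSet {A : Subgroup (Matrix.SpecialLinearGroup (Fin (n + 3)) k) |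
        ∃ g : Matrix.SpecialLinearGroup (Fin (n + 3)) k,
          A = Cfsg.conjBy (Subgroup.closure {t : Matrix.SpecialLinearGroup (Fin (n + 3)) k |
            ∃ c : k, (t : Matrix (Fin (n + 3)) (Fin (n + 3)) k) = Matrix.transvection 0 1 c}) g} ∧
    Cfsg.IsKRootSubgroupSet k {A : Subgroup (Matrix.SpecialLinearGroup (Fin (n + 3)) k) |
        ∃ g : Matrix.SpecialLinearGroup (Fin (n + 3)) k,
          A = Cfsg.conjBy (Subgroup.closure {t : Matrix.SpecialLinearGroup (Fin (n + 3)) k |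
            ∃ c : k, (t : Matrix (Fin (n + 3)) (Fin (n + 3)) k) = Matrix.transvection 0 1 c}) g} ∧
    Cfsg.IsConnectedFamily (Cfsg.FAdj {A : Subgroup (Matrix.SpecialLinearGroup (Fin (n + 3)) k) |
        ∃ g : Matrix.SpecialLinearGroup (Fin (n + 3)) k,
          A = Cfsg.conjBy (Subgroup.closure {t : Matrix.SpecialLinearGroup (Fin (n + 3)) k |
            ∃ c : k, (t : Matrix (Fin (n + 3)) (Fin (n + 3)) k) = Matrix.transvection 0 1 c}) g})
      {A : Subgroup (Matrix.SpecialLinearGroup (Fin (n + 3)) k) |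
        ∃ g : Matrix.SpecialLinearGroup (Fin (n + 3)) k,
          A = Cfsg.conjBy (Subgroup.closure {t : Matrix.SpecialLinearGroup (Fin (n + 3)) k |
            ∃ c : k, (t : Matrix (Fin (n + 3)) (Fin (n + 3)) k) = Matrix.transvection 0 1 c}) g} := by
  have hroot : Cfsg.IsRootSubgroupSet (Sset k n) := isRootSubgroupSet
  refine ⟨⟨hroot, isConjClass⟩, isNondegenerate, ⟨hroot, ?_⟩, isConnected⟩
  intro A hA B hB hR
  obtain ⟨u, φ, hu, hφ, h1, rfl⟩ := (S_iff A).mp hA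
  obtain ⟨w, ψ, hw, hψ, h2, rfl⟩ := (S_iff B).mp hB
  have hα := alpha_ne_zero u φ w ψ hu hφ hw h1 h2 hR
  have hβ := alpha_ne_zero w ψ u φ hw hψ hu h2 h1 (Cfsg.RankOnePair_symm hR)
  exact psl2_pair u φ w ψ h1 h2 hα hβ

end Cfsg.Agent.S5043
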