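import Cfsg.Statements.S5049
import Cfsg.Agent.Lib.Helper4_PCore

set_option autoImplicit false
open Cfsg

namespace Cfsg.Agent.S5049

open Cfsg.Agent.Lib.Helper4_PCore

theorem sq_of_order_two {G : Type*} [Group G] {d : G} (h : orderOf d = 2) : d * d = 1 := by
  rw [← pow_two, ← h, pow_orderOf_eq_one]

/-- Two odd transpositions whose commutator lies in `O₂(G)` commute. -/
theorem commute_of_sq_mem {G : Type*} [Group G] {D : Set G} (hD : Cfsg.IsOddTranspositionSet D)
    {d₁ d₂ : G} (h₁ : d₁ ∈ D) (h₂ : d₂ ∈ D) (hQ : (d₁ * d₂) ^ 2 ∈ Cfsg.pCore 2 G) : d₁ * d₂ = d₂ * d₁ := by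
  have e1 := sq_of_order_two (hD.1.orderOf_eq d₁ h₁)
  have e2 := sq_of_order_two (hD.1.orderOf_eq d₂ h₂)
  have hinv1 : d₁⁻¹ = d₁ := inv_eq_of_mul_eq_one_left e1
  have hinv2 : d₂⁻¹ = d₂ := inv_eq_of_mul_eq_one_left e2
  have hcomm_of_sq : (d₁ * d₂) ^ 2 = 1 → d₁ * d₂ = d₂ * d₁ := by
    intro h
    have h' : d₁ * d₂ * (d₁ * d₂) = 1 := by rw [← pow_two]; exact h
    calc d₁ * d₂ = d₁ * d₂ * (d₁ * d₂) * (d₂⁻¹ * d₁⁻¹) := by group
      _ = d₂ * d₁ := by rw [h', one_mul, hinv1, hinv2]
  rcases hD.1.pair d₁ h₁ d₂ h₂ with h | h | h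
  · exact h
  · apply hcomm_of_sq
    -- the square has odd order and 2-power order
    have hp : IsPGroup 2 (Cfsg.pCore 2 G) := pCore_isPGroup
    obtain ⟨k, hk⟩ := hp ⟨(d₁ * d₂) ^ 2, hQ⟩
    have hk' : ((d₁ * d₂) ^ 2) ^ (2 ^ k) = 1 := by
      have := congrArg Subtype.val hk
      simpa using this
    have h1 : orderOf ((d₁ * d₂) ^ 2) ∣ 2 ^ k := orderOf_dvd_of_pow_eq_one hk'
    have h2 : orderOf ((d₁ * d₂) ^ 2) ∣ orderOf (d₁ * d₂) := orderOf_pow_dvd 2
    have hcop : Nat.Coprime (orderOf (d₁ * d₂)) (2 ^ k) := by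
      apply Nat.Coprime.pow_right
      exact (Nat.coprime_two_right).mpr h
    have h3 : orderOf ((d₁ * d₂) ^ 2) ∣ Nat.gcd (orderOf (d₁ * d₂)) (2 ^ k) := Nat.dvd_gcd h2 h1
    rw [hcop, Nat.dvd_one, orderOf_eq_one_iff] at h3
    exact h3
  · exact absurd h.1 (hD.2 d₁ h₁ d₂ h₂)

/-- Let G be a finite group generated by a set D of odd transpositions (root involutions with no product of order 4), Q = O₂(G), and for a ∈ D let Q_a be the commutator subgroup of Q with a. Then every member of D commuting with a centralizes Q_a; and for b ∈ D with ab of odd order greater than 1, the centralizer of ab in Q is the intersection of the centralizers of a and b in Q. -/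
theorem result {G : Type*} [Group G] [Finite G] {D : Set G} (hD : Cfsg.IsOddTranspositionSet D) {a : G} (ha : a ∈ D) :
    (∀ e ∈ Cfsg.commutingMembers D a, ∀ q ∈ ⁅Cfsg.pCore 2 G, Subgroup.zpowers a⁆, e * q = q * e) ∧
    (∀ b ∈ Cfsg.oddPartners D a,
      Cfsg.pCore 2 G ⊓ Subgroup.centralizer {a * b} = Cfsg.pCore 2 G ⊓ Subgroup.centralizer {a} ⊓ Subgroup.centralizer {b}) := by
  have hQn : (Cfsg.pCore 2 G).Normal := pCore_normal 2 G
  have ea := sq_of_order_two (hD.1.orderOf_eq a ha)
  have hainv : a⁻¹ = a := inv_eq_of_mul_eq_one_left ea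
  constructor
  · rintro e ⟨heD, hea⟩ q hq
    have ee := sq_of_order_two (hD.1.orderOf_eq e heD)
    have heinv : e⁻¹ = e := inv_eq_of_mul_eq_one_left ee
    have hle : ⁅Cfsg.pCore 2 G, Subgroup.zpowers a⁆ ≤ Subgroup.centralizer ({e} : Set G) := by
      rw [Subgroup.commutator_le]
      intro g₁ hg₁ g₂ hg₂
      rw [commutatorElement_def, Subgroup.mem_centralizer_iff]
      intro z hz
      rw [Set.mem_singleton_iff] at hz
      rw [hz]
      -- g₂ = 1 or a
      obtain ⟨k, rfl⟩ := Subgroup.mem_zpowers_iff.mp hg₂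
      have hk : a ^ k = 1 ∨ a ^ k = a := by
        have h := zpow_mod_orderOf a k
        rw [hD.1.orderOf_eq a ha] at h
        rcases Int.emod_two_eq_zero_or_one k with h0 | h1
        · left
          rw [← h]
          have : k % ((2 : ℕ) : ℤ) = 0 := by exact_mod_cast h0
          rw [this, zpow_zero]
        · right
          rw [← h]
          have : k % ((2 : ℕ) : ℤ) = 1 := by exact_mod_cast h1
          rw [this, zpow_one]
      rcases hk with hk | hk
      · rw [hk]; simp
      · rw [hk]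
        -- a' = g₁ a g₁⁻¹ ∈ D commutes with e
        have ha' : g₁ * a * g₁⁻¹ ∈ D := hD.1.conj_mem a ha g₁
        have ht : g₁ * a * g₁⁻¹ * a⁻¹ ∈ Cfsg.pCore 2 G := by
          have : a * g₁⁻¹ * a⁻¹ ∈ Cfsg.pCore 2 G := hQn.conj_mem _ (Subgroup.inv_mem _ hg₁) a
          have e3 : g₁ * a * g₁⁻¹ * a⁻¹ = g₁ * (a * g₁⁻¹ * a⁻¹) := by group
          rw [e3]; exact Subgroup.mul_mem _ hg₁ this
        have hsq : (e * (g₁ * a * g₁⁻¹)) ^ 2 ∈ Cfsg.pCore 2 G := by
          have e3 : (e * (g₁ * a * g₁⁻¹)) ^ 2 =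
              (e * (g₁ * a * g₁⁻¹ * a⁻¹) * e⁻¹) * (a * (g₁ * a * g₁⁻¹ * a⁻¹) * a⁻¹) := by
            rw [pow_two, heinv, hainv]
            have hae : a * e = e * a := hea.symm
            calc e * (g₁ * a * g₁⁻¹) * (e * (g₁ * a * g₁⁻¹))
                = e * (g₁ * a * g₁⁻¹ * a) * (a * e) * (g₁ * a * g₁⁻¹) := by
                  have : a * (a * e) = e := by rw [← mul_assoc, ea, one_mul]
                  calc e * (g₁ * a * g₁⁻¹) * (e * (g₁ * a * g₁⁻¹))
                      = e * (g₁ * a * g₁⁻¹) * (a * (a * e)) * (g₁ * a * g₁⁻¹) := by rw [this]; group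
                    _ = e * (g₁ * a * g₁⁻¹ * a) * (a * e) * (g₁ * a * g₁⁻¹) := by group
              _ = e * (g₁ * a * g₁⁻¹ * a) * (e * a) * (g₁ * a * g₁⁻¹) := by rw [hae]
              _ = e * (g₁ * a * g₁⁻¹ * a) * e * (a * (g₁ * a * g₁⁻¹ * a) * a) := by
                  have : a * (g₁ * a * g₁⁻¹ * a) * a = a * (g₁ * a * g₁⁻¹) * (a * a) := by group
                  rw [this, ea, mul_one]; group
          rw [e3]
          exact Subgroup.mul_mem _ (hQn.conj_mem _ ht e) (hQn.conj_mem _ ht a)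
        have hcomm := commute_of_sq_mem hD heD ha' hsq
        symm
        calc g₁ * a * g₁⁻¹ * a⁻¹ * e = g₁ * a * g₁⁻¹ * (a * e) := by rw [hainv]; group
          _ = g₁ * a * g₁⁻¹ * (e * a) := by rw [hea.symm]
          _ = ((g₁ * a * g₁⁻¹) * e) * a := by group
          _ = (e * (g₁ * a * g₁⁻¹)) * a := by rw [hcomm]
          _ = e * (g₁ * a * g₁⁻¹ * a⁻¹) := by rw [hainv]; group
    have := hle hq
    rw [Subgroup.mem_centralizer_iff] at this
    exact this e rfl
  · rintro b ⟨hbD, hba, hodd⟩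
    have eb := sq_of_order_two (hD.1.orderOf_eq b hbD)
    have hbinv : b⁻¹ = b := inv_eq_of_mul_eq_one_left eb
    have hu1 : a * b ≠ 1 := by
      intro h
      apply hba
      have : b = a⁻¹ := (inv_eq_of_mul_eq_one_right h).symm
      rw [this, hainv]
    ext x
    simp only [Subgroup.mem_inf, Subgroup.mem_centralizer_iff, Set.mem_singleton_iff, forall_eq]
    constructor
    · rintro ⟨hxQ, hxu⟩
      -- a₁ = x a x⁻¹
      have ha₁ : x * a * x⁻¹ ∈ D := hD.1.conj_mem a ha x
      have hb₁ : x * b * x⁻¹ ∈ D := hD.1.conj_mem b hbD x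
      have ht : a * (x * a * x⁻¹) ∈ Cfsg.pCore 2 G := by
        have : a * x * a⁻¹ ∈ Cfsg.pCore 2 G := hQn.conj_mem _ hxQ a
        have e3 : a * (x * a * x⁻¹) = (a * x * a⁻¹) * x⁻¹ := by rw [hainv]; group
        rw [e3]; exact Subgroup.mul_mem _ this (Subgroup.inv_mem _ hxQ)
      have hcomm1 : a * (x * a * x⁻¹) = (x * a * x⁻¹) * a :=
        commute_of_sq_mem hD ha ha₁ (Subgroup.pow_mem _ ht 2)
      -- t = a a₁, t² = 1
      have ea₁ := sq_of_order_two (hD.1.orderOf_eq _ ha₁)
      have ht2 : (a * (x * a * x⁻¹)) * (a * (x * a * x⁻¹)) = 1 := by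
        calc (a * (x * a * x⁻¹)) * (a * (x * a * x⁻¹))
            = a * ((x * a * x⁻¹) * a) * (x * a * x⁻¹) := by group
          _ = a * (a * (x * a * x⁻¹)) * (x * a * x⁻¹) := by rw [hcomm1]
          _ = (a * a) * ((x * a * x⁻¹) * (x * a * x⁻¹)) := by group
          _ = 1 := by rw [ea, ea₁, one_mul]
      -- a b₁ = t u
      have hab₁ : a * (x * b * x⁻¹) = (a * (x * a * x⁻¹)) * (a * b) := by
        have hxu' : x * (a * b) * x⁻¹ = a * b := by rw [← hxu]; group
        calc a * (x * b * x⁻¹) = a * (x * (a * (a * b)) * x⁻¹) := by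
              rw [← mul_assoc a a b, ea, one_mul]
          _ = a * (x * a * x⁻¹) * (x * (a * b) * x⁻¹) := by group
          _ = a * (x * a * x⁻¹) * (a * b) := by rw [hxu']
      -- t commutes with u
      have hau : a * (a * b) * a⁻¹ = (a * b)⁻¹ := by
        rw [mul_inv_rev, hainv, hbinv]
        calc a * (a * b) * a = (a * a) * b * a := by group
          _ = b * a := by rw [ea, one_mul]
      have ha₁u : (x * a * x⁻¹) * (a * b) * (x * a * x⁻¹)⁻¹ = (a * b)⁻¹ := by
        have hxu' : x⁻¹ * (a * b) * x = a * b := by rw [mul_assoc, hxu]; group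
        calc (x * a * x⁻¹) * (a * b) * (x * a * x⁻¹)⁻¹ = x * (a * (x⁻¹ * (a * b) * x) * a⁻¹) * x⁻¹ := by group
          _ = x * (a * (a * b) * a⁻¹) * x⁻¹ := by rw [hxu']
          _ = x * (a * b)⁻¹ * x⁻¹ := by rw [hau]
          _ = (x * (a * b) * x⁻¹)⁻¹ := by group
          _ = (a * b)⁻¹ := by
              have : x * (a * b) * x⁻¹ = a * b := by rw [← hxu]; group
              rw [this]
      have htu : Commute (a * (x * a * x⁻¹)) (a * b) := by
        unfold Commute SemiconjBy
        have : (a * (x * a * x⁻¹)) * (a * b) * (a * (x * a * x⁻¹))⁻¹ = a * b := by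
          calc (a * (x * a * x⁻¹)) * (a * b) * (a * (x * a * x⁻¹))⁻¹
              = a * ((x * a * x⁻¹) * (a * b) * (x * a * x⁻¹)⁻¹) * a⁻¹ := by group
            _ = a * (a * b)⁻¹ * a⁻¹ := by rw [ha₁u]
            _ = (a * (a * b) * a⁻¹)⁻¹ := by group
            _ = a * b := by rw [hau, inv_inv]
        calc (a * (x * a * x⁻¹)) * (a * b)
            = ((a * (x * a * x⁻¹)) * (a * b) * (a * (x * a * x⁻¹))⁻¹) * (a * (x * a * x⁻¹)) := by group
          _ = (a * b) * (a * (x * a * x⁻¹)) := by rw [this]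
      -- t = 1
      have ht1 : a * (x * a * x⁻¹) = 1 := by
        by_contra hne
        have hto : orderOf (a * (x * a * x⁻¹)) = 2 := by
          apply orderOf_eq_prime
          · rw [pow_two]; exact ht2
          · exact hne
        have hcop : (orderOf (a * (x * a * x⁻¹))).Coprime (orderOf (a * b)) := by
          rw [hto]; exact (Nat.coprime_two_left).mpr hodd
        have hord := htu.orderOf_mul_eq_mul_orderOf_of_coprime hcop
        rw [← hab₁, hto] at hord
        have eb₁ := sq_of_order_two (hD.1.orderOf_eq _ hb₁)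
        rcases hD.1.pair a ha _ hb₁ with h | h | h
        · -- commute: then (t u)^2 = 1 so order ≤ 2
          have hsq : (a * (x * b * x⁻¹)) ^ 2 = 1 := by
            rw [pow_two]
            calc a * (x * b * x⁻¹) * (a * (x * b * x⁻¹))
                = a * ((x * b * x⁻¹) * a) * (x * b * x⁻¹) := by group
              _ = a * (a * (x * b * x⁻¹)) * (x * b * x⁻¹) := by rw [h]
              _ = (a * a) * ((x * b * x⁻¹) * (x * b * x⁻¹)) := by group
              _ = 1 := by rw [ea, eb₁, one_mul]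
          have hdvd := orderOf_dvd_of_pow_eq_one hsq
          rw [hord] at hdvd
          have hle := Nat.le_of_dvd (by norm_num) hdvd
          have hpos : 0 < orderOf (a * b) := orderOf_pos _
          have h1 : orderOf (a * b) = 1 := by omega
          exact hu1 (orderOf_eq_one_iff.mp h1)
        · rw [hord] at h
          exact (Nat.not_odd_iff_even.mpr (even_two_mul _)) h
        · exact hD.2 a ha _ hb₁ h.1
      -- hence x commutes with a
      have hxa : a * x = x * a := by
        have h1 : x * a * x⁻¹ = a := by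
          have : x * a * x⁻¹ = a⁻¹ := (inv_eq_of_mul_eq_one_right ht1).symm
          rw [this, hainv]
        calc a * x = (x * a * x⁻¹) * x := by rw [h1]
          _ = x * a := by group
      refine ⟨⟨hxQ, hxa⟩, ?_⟩
      calc b * x = a * ((a * b) * x) := by rw [← mul_assoc, ← mul_assoc, ea, one_mul]
        _ = a * (x * (a * b)) := by rw [hxu]
        _ = (a * x) * (a * b) := by group
        _ = (x * a) * (a * b) := by rw [hxa]
        _ = x * ((a * a) * b) := by group
        _ = x * b := by rw [ea, one_mul]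
    · rintro ⟨⟨hxQ, hxa⟩, hxb⟩
      refine ⟨hxQ, ?_⟩
      calc a * b * x = a * (b * x) := by group
        _ = a * (x * b) := by rw [hxb]
        _ = (a * x) * b := by group
        _ = (x * a) * b := by rw [hxa]
        _ = x * (a * b) := by group

end Cfsg.Agent.S5049
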