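import Cfsg.Statements.S5057
import Cfsg.Agent.Lib.Helper8_A6

set_option autoImplicit false
open Cfsg

namespace Cfsg.Agent.S5057

/-- The involutions of the alternating group of degree 6 form a class of root involutions (a single conjugacy class of involutions generating the group, any two of which commute, have product of odd order, or have product of order 4 whose square is again an involution of the class), and the product of any two of them has order at most 5. -/
theorem result :
    Cfsg.IsRootInvolutionClass {g : ↥(alternatingGroup (Fin 6)) | orderOf g = 2} ∧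
    ∀ d ∈ {g : ↥(alternatingGroup (Fin 6)) | orderOf g = 2}, ∀ e ∈ {g : ↥(alternatingGroup (Fin 6)) | orderOf g = 2},
      orderOf (d * e) ≤ 5 := by
  open Cfsg.Agent.Helper8A6 in
  have hconjord : ∀ (d g : alternatingGroup (Fin 6)), orderOf (g * d * g⁻¹) = orderOf d := by
    intro d g
    have := MulEquiv.orderOf_eq (MulAut.conj g) d
    rwa [MulAut.conj_apply] at this
  have hinv : ∀ d : alternatingGroup (Fin 6), orderOf d = 2 → d⁻¹ = d := by
    intro d hd
    apply inv_eq_of_mul_eq_one_left
    rw [← pow_two, ← hd]
    exact pow_orderOf_eq_one d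
  have hcls : ∀ a ∈ {g : ↥(alternatingGroup (Fin 6)) | orderOf g = 2},
      ∀ b ∈ {g : ↥(alternatingGroup (Fin 6)) | orderOf g = 2}, ∃ g, b = g * a * g⁻¹ := by
    intro a ha b hb
    obtain ⟨ga, hga⟩ := conj_inv0 a ha
    obtain ⟨gb, hgb⟩ := conj_inv0 b hb
    refine ⟨gb * ga⁻¹, ?_⟩
    rw [hgb, hga]
    group
  have hne : ({g : ↥(alternatingGroup (Fin 6)) | orderOf g = 2}).Nonempty := ⟨inv0, orderOf_inv0⟩
  have hsimple : IsSimpleGroup (alternatingGroup (Fin 6)) :=
    alternatingGroup.isSimpleGroup (by simp)
  refine ⟨⟨⟨fun d hd => hd, ?_, ?_, ?_⟩, hne, hcls⟩, ?_⟩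
  · -- generation
    have hconj : Group.conjugatesOfSet {g : ↥(alternatingGroup (Fin 6)) | orderOf g = 2} =
        {g : ↥(alternatingGroup (Fin 6)) | orderOf g = 2} := by
      apply Set.Subset.antisymm
      · intro x hx
        rw [Group.mem_conjugatesOfSet_iff] at hx
        obtain ⟨a, ha, hax⟩ := hx
        rw [isConj_iff] at hax
        obtain ⟨c, rfl⟩ := hax
        show orderOf _ = 2
        rw [hconjord]
        exact ha
      · exact Group.subset_conjugatesOfSet
    have hnc : Subgroup.normalClosure {g : ↥(alternatingGroup (Fin 6)) | orderOf g = 2} =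
        Subgroup.closure {g : ↥(alternatingGroup (Fin 6)) | orderOf g = 2} := by
      unfold Subgroup.normalClosure
      rw [hconj]
    rw [← hnc]
    rcases (Subgroup.normalClosure_normal
      (s := {g : ↥(alternatingGroup (Fin 6)) | orderOf g = 2})).eq_bot_or_eq_top with h | h
    · exfalso
      have h1 : inv0 ∈ Subgroup.normalClosure {g : ↥(alternatingGroup (Fin 6)) | orderOf g = 2} :=
        Subgroup.subset_normalClosure orderOf_inv0
      rw [h, Subgroup.mem_bot] at h1
      have h2 := orderOf_inv0
      rw [h1, orderOf_one] at h2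
      exact absurd h2 (by norm_num)
    · exact h
  · intro d hd g
    show orderOf _ = 2
    rw [hconjord]
    exact hd
  · intro a ha b hb
    have ha' : orderOf a = 2 := ha
    have hb' : orderOf b = 2 := hb
    have hcomm : (a * b) ^ 2 = 1 → a * b = b * a := by
      intro h
      rw [pow_two] at h
      have h1 : a * b = (a * b)⁻¹ := eq_inv_of_mul_eq_one_left h
      rw [mul_inv_rev, hinv a ha', hinv b hb'] at h1
      exact h1
    rcases orderOf_a6 (a * b) with h | h | h | h | h
    · left
      apply hcomm
      rw [orderOf_eq_one_iff] at h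
      rw [h, one_pow]
    · left
      apply hcomm
      rw [← h]
      exact pow_orderOf_eq_one _
    · right; left
      rw [h]; decide
    · right; right
      refine ⟨h, ?_⟩
      show orderOf ((a * b) ^ 2) = 2
      rw [orderOf_pow, h]
      decide
    · right; left
      rw [h]; decide
  · intro d _ e _
    rcases orderOf_a6 (d * e) with h | h | h | h | h <;> omega

end Cfsg.Agent.S5057
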