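import Cfsg.Statements.S5059
import Cfsg.Agent.Lib.Helper8_QuadPair

set_option autoImplicit false
universe u
open Cfsg

namespace Cfsg.Agent.S5059

/-- Let k be a field of characteristic not 2 with k not of order 3, M a finite-dimensional k-vector space and G ≤ GL(M) such that (G, M) is a quadratic pair (M irreducible for G, and G generated by its quadratically acting elements σ whose scalar family 1 + c(σ − 1), c ∈ k, lies in G). Write 𝒬_d for the quadratic elements of G of minimal commutator rank, E(σ) for the subgroup generated by the members of 𝒬_d with the same fixed space and commutator space as σ, and Σ for the set of these subgroups. Then for σ ∈ 𝒬_d the subgroup E(σ) consists exactly of those members together with the identity, it is abelian, and if k has prime characteristic p every element of E(σ) has order dividing p. -/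
theorem result {k : Type u} [Field k] (hk2 : ringChar k ≠ 2) (hk3 : Nat.card k ≠ 3)
    {M : Type u} [AddCommGroup M] [Module k M] [FiniteDimensional k M]
    {G : Subgroup (LinearMap.GeneralLinearGroup k M)} (hG : Cfsg.IsQuadraticPair G)
    {σ : LinearMap.GeneralLinearGroup k M} (hσ : σ ∈ Cfsg.minimalQuadraticElements G) :
    (Cfsg.sameActionSubgroup G σ : Set (LinearMap.GeneralLinearGroup k M)) = Cfsg.sameActionClass G σ ∪ {1} ∧
    IsMulCommutative ↥(Cfsg.sameActionSubgroup G σ) ∧
    (∀ p : ℕ, p.Prime → ringChar k = p → ∀ x ∈ Cfsg.sameActionSubgroup G σ, x ^ p = 1) := by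
  open Cfsg.Agent.Helper8QuadPair in
  have hq : IsQuadraticOn σ := hσ.1.2.1
  have hle : Cfsg.sameActionSubgroup G σ ≤ bigGroup G _ _ (range_le_ker_of_quadratic hq) :=
    (Subgroup.closure_le _).mpr (sameActionClass_le_bigGroup G σ hq)
  refine ⟨?_, ⟨⟨fun a b => Subtype.ext (bigGroup_comm G _ _ _ (hle a.2) (hle b.2))⟩⟩, ?_⟩
  · ext ρ
    constructor
    · intro hρ
      by_cases h1 : ρ = 1
      · right; exact h1
      · left
        exact mem_sameActionClass_of_mem_bigGroup G σ hσ ρ (hle hρ) h1
    · rintro (hρ | hρ)
      · exact Subgroup.subset_closure hρ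
      · rw [Set.mem_singleton_iff] at hρ
        rw [hρ]
        exact Subgroup.one_mem _
  · intro p _ hp x hx
    exact bigGroup_pow_char G _ _ _ (hle hx) p hp

end Cfsg.Agent.S5059
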