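import Cfsg.Statements.S5067
import Mathlib

set_option autoImplicit false
open Cfsg

namespace Cfsg.Agent.S5067

open scoped commutatorElement

theorem lcs_mono {P : Type*} [Group P] {A B : Subgroup P} (h : A ≤ B) (n : ℕ) :
    A.lowerCentralSeries n ≤ B.lowerCentralSeries n := by
  induction n with
  | zero => exact h
  | succ n ih =>
    rw [Subgroup.lowerCentralSeries_succ, Subgroup.lowerCentralSeries_succ]
    exact Subgroup.commutator_mono ih h

/-- `[E P', E P'] ≤ [P', P]` for abelian `E`. -/
theorem comm_le {P : Type*} [Group P] {E : Subgroup P} (hE : IsMulCommutative ↥E) :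
    ⁅E ⊔ commutator P, E ⊔ commutator P⁆ ≤ (⊤ : Subgroup P).lowerCentralSeries 2 := by
  have hK : ((⊤ : Subgroup P).lowerCentralSeries 2).Normal := inferInstance
  have hcomm : ∀ e ∈ E, ∀ e' ∈ E, e * e' = e' * e := fun e he e' he' =>
    congrArg Subtype.val (hE.is_comm.comm ⟨e, he⟩ ⟨e', he'⟩)
  -- elements of P' are central modulo K
  have hcentral : ∀ z ∈ commutator P, ∀ g : P,
      (QuotientGroup.mk' ((⊤ : Subgroup P).lowerCentralSeries 2)) z *
        (QuotientGroup.mk' ((⊤ : Subgroup P).lowerCentralSeries 2)) g =
      (QuotientGroup.mk' ((⊤ : Subgroup P).lowerCentralSeries 2)) g *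
        (QuotientGroup.mk' ((⊤ : Subgroup P).lowerCentralSeries 2)) z := by
    intro z hz g
    have h1 : ⁅z, g⁆ ∈ (⊤ : Subgroup P).lowerCentralSeries 2 := by
      rw [Subgroup.lowerCentralSeries_succ, Subgroup.top_lowerCentralSeries_one]
      exact Subgroup.commutator_mem_commutator hz (Subgroup.mem_top g)
    have h2 : (QuotientGroup.mk' ((⊤ : Subgroup P).lowerCentralSeries 2)) ⁅z, g⁆ = 1 := by
      rw [QuotientGroup.mk'_apply, QuotientGroup.eq_one_iff]; exact h1
    rw [commutatorElement_def, map_mul, map_mul, map_mul, map_inv, map_inv] at h2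
    have := mul_inv_eq_one.mp h2
    rw [mul_inv_eq_iff_eq_mul] at this
    exact this
  rw [Subgroup.commutator_le]
  intro x hx y hy
  obtain ⟨e, he, z, hz, rfl⟩ := Subgroup.mem_sup_of_normal_right.mp hx
  obtain ⟨e', he', z', hz', rfl⟩ := Subgroup.mem_sup_of_normal_right.mp hy
  rw [← QuotientGroup.eq_one_iff, ← QuotientGroup.mk'_apply, commutatorElement_def]
  simp only [map_mul, map_inv]
  set π := QuotientGroup.mk' ((⊤ : Subgroup P).lowerCentralSeries 2) with hπ
  have h1 : π e * π e' = π e' * π e := by rw [← map_mul, ← map_mul, hcomm e he e' he']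
  have hz1 : ∀ g, π z * π g = π g * π z := fun g => hcentral z hz g
  have hz2 : ∀ g, π z' * π g = π g * π z' := fun g => hcentral z' hz' g
  have h2 : (π e * π z) * (π e' * π z') = (π e' * π z') * (π e * π z) := by
    calc (π e * π z) * (π e' * π z') = π e * (π z * π e') * π z' := by group
      _ = π e * (π e' * π z) * π z' := by rw [hz1]
      _ = (π e * π e') * (π z * π z') := by group
      _ = (π e' * π e) * (π z' * π z) := by rw [h1, hz1]
      _ = π e' * (π e * π z') * π z := by group
      _ = π e' * (π z' * π e) * π z := by rw [hz2]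
      _ = (π e' * π z') * (π e * π z) := by group
  calc π e * π z * (π e' * π z') * (π e * π z)⁻¹ * (π e' * π z')⁻¹
      = ((π e * π z) * (π e' * π z')) * (π e * π z)⁻¹ * (π e' * π z')⁻¹ := by group
    _ = ((π e' * π z') * (π e * π z)) * (π e * π z)⁻¹ * (π e' * π z')⁻¹ := by rw [h2]
    _ = 1 := by group

theorem class_lt {P : Type*} [Group P] [Group.IsNilpotent P] (hna : ¬ IsMulCommutative P)
    {E : Subgroup P} (hE : IsMulCommutative ↥E) :
    Group.nilpotencyClass ↥(Subgroup.normalClosure (E : Set P)) < Group.nilpotencyClass P := by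
  -- class at least two
  have hc2 : 2 ≤ Group.nilpotencyClass P := by
    by_contra hlt
    have hle : Group.nilpotencyClass P ≤ 1 := by omega
    have h1 := Subgroup.lowerCentralSeries_eq_bot_iff_nilpotencyClass_le.mpr hle
    rw [Subgroup.top_lowerCentralSeries_one, commutator_eq_bot_iff] at h1
    exact hna h1
  have hMn : (E ⊔ commutator P).Normal := Subgroup.Normal.of_commutator_le P le_sup_right
  have hNM : Subgroup.normalClosure (E : Set P) ≤ E ⊔ commutator P :=
    Subgroup.normalClosure_le_normal (fun x hx => Subgroup.mem_sup_left hx)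
  -- the lower central series of M
  have hM : ∀ i : ℕ, (E ⊔ commutator P).lowerCentralSeries (i + 1) ≤
      (⊤ : Subgroup P).lowerCentralSeries (i + 2) := by
    intro i
    induction i with
    | zero =>
      rw [Subgroup.lowerCentralSeries_succ, Subgroup.lowerCentralSeries_zero]
      exact comm_le hE
    | succ i ih =>
      rw [Subgroup.lowerCentralSeries_succ, Subgroup.lowerCentralSeries_succ (⊤ : Subgroup P) (i + 1 + 1)]
      exact Subgroup.commutator_mono ih le_top
  have hbot : (Subgroup.normalClosure (E : Set P)).lowerCentralSeries (Group.nilpotencyClass P - 1) = ⊥ := by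
    rw [eq_bot_iff]
    obtain ⟨k, hk⟩ : ∃ k, Group.nilpotencyClass P = k + 2 := ⟨Group.nilpotencyClass P - 2, by omega⟩
    have e1 : Group.nilpotencyClass P - 1 = k + 1 := by omega
    rw [e1]
    calc (Subgroup.normalClosure (E : Set P)).lowerCentralSeries (k + 1)
        ≤ (E ⊔ commutator P).lowerCentralSeries (k + 1) := lcs_mono hNM _
      _ ≤ (⊤ : Subgroup P).lowerCentralSeries (k + 2) := hM k
      _ = ⊥ := by rw [← hk]; exact Subgroup.lowerCentralSeries_nilpotencyClass
  have h2 : (⊤ : Subgroup ↥(Subgroup.normalClosure (E : Set P))).lowerCentralSeries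
      (Group.nilpotencyClass P - 1) = ⊥ := by
    rw [← Subgroup.map_eq_bot_iff_of_injective _ (Subgroup.subtype_injective _),
      Subgroup.top_subtype_lowerCentralSeries]
    exact hbot
  have h3 := Subgroup.lowerCentralSeries_eq_bot_iff_nilpotencyClass_le.mp h2
  omega

/-- Let P be a non-abelian nilpotent p-group (every element of p-power order; P possibly infinite) generated by two abelian subgroups E and F. Then the normal closure of E in P, and likewise that of F, has nilpotency class strictly smaller than that of P. -/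
theorem result {P : Type*} [Group P] {p : ℕ} [Fact p.Prime] (hP : IsPGroup p P) [Group.IsNilpotent P]
    (hna : ¬ IsMulCommutative P) {E F : Subgroup P} (hE : IsMulCommutative ↥E) (hF : IsMulCommutative ↥F) (hgen : E ⊔ F = ⊤) :
    Group.nilpotencyClass ↥(Subgroup.normalClosure (E : Set P)) < Group.nilpotencyClass P ∧
    Group.nilpotencyClass ↥(Subgroup.normalClosure (F : Set P)) < Group.nilpotencyClass P :=
  ⟨class_lt hna hE, class_lt hna hF⟩

end Cfsg.Agent.S5067
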