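import Mathlib
import Cfsg.Statements.S5070
import Cfsg.Agent.S0766
import Cfsg.Agent.S0765
import Cfsg.Agent.S5043

set_option autoImplicit false

open Matrix
open Cfsg

namespace Cfsg.Agent.S5070

open Matrix Cfsg.Agent.Lib.Helper1_Symp

section basic

variable {F : Type*} [Field F] {m : ℕ}

/-- the symplectic transvection as a group element -/
def sv (p : Fin m ⊕ Fin m → F) (c : F) : Matrix.symplecticGroup (Fin m) F :=
  ⟨sympTransvection m p c, sympTransvection_mem p c⟩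

lemma coe_sv (p : Fin m ⊕ Fin m → F) (c : F) :
    ((sv p c : Matrix.symplecticGroup (Fin m) F) : Matrix (Fin m ⊕ Fin m) (Fin m ⊕ Fin m) F)
      = sympTransvection m p c := rfl

lemma sv_mul (p : Fin m ⊕ Fin m → F) (c d : F) : sv p c * sv p d = sv p (c + d) := by
  apply Subtype.ext
  exact sympTransvection_mul p c d

lemma sv_zero (p : Fin m ⊕ Fin m → F) : sv p (0 : F) = 1 := by
  apply Subtype.ext
  exact sympTransvection_zero p

lemma sv_inv (p : Fin m ⊕ Fin m → F) (c : F) : (sv p c)⁻¹ = sv p (-c) := by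
  apply inv_eq_of_mul_eq_one_right
  rw [sv_mul, add_neg_cancel, sv_zero]

lemma sv_apply (p : Fin m ⊕ Fin m → F) (c : F) (x : Fin m ⊕ Fin m → F) :
    (sv p c).1 *ᵥ x = x + (c * sympForm m F x p) • p :=
  sympTransvection_mulVec p c x

lemma coe_mul_inv' (g : Matrix.symplecticGroup (Fin m) F) : g.1 * (g⁻¹).1 = 1 := by
  have : g.1 * (g⁻¹).1 = ((g * g⁻¹ : Matrix.symplecticGroup (Fin m) F) : Matrix _ _ F) := rfl
  rw [this, mul_inv_cancel]
  rfl

lemma conj_sv (g : Matrix.symplecticGroup (Fin m) F) (p : Fin m ⊕ Fin m → F) (c : F) :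
    g * sv p c * g⁻¹ = sv (g.1 *ᵥ p) c := by
  apply Subtype.ext
  exact sympTransvection_conj g.2 (coe_mul_inv' g) p c

lemma sv_smul (a : F) (p : Fin m ⊕ Fin m → F) (c : F) : sv (a • p) c = sv p (a * a * c) := by
  apply Subtype.ext
  exact sympTransvection_smul p a c

/-- the root group of a point -/
def T (p : Fin m ⊕ Fin m → F) : Subgroup (Matrix.symplecticGroup (Fin m) F) where
  carrier := {g | ∃ c : F, g = sv p c}
  one_mem' := ⟨0, (sv_zero p).symm⟩
  mul_mem' := by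
    rintro _ _ ⟨c, rfl⟩ ⟨d, rfl⟩
    exact ⟨c + d, sv_mul p c d⟩
  inv_mem' := by
    rintro _ ⟨c, rfl⟩
    exact ⟨-c, sv_inv p c⟩

lemma mem_T (p : Fin m ⊕ Fin m → F) (g : Matrix.symplecticGroup (Fin m) F) :
    g ∈ T p ↔ ∃ c : F, g = sv p c := Iff.rfl

lemma sv_mem (p : Fin m ⊕ Fin m → F) (c : F) : sv p c ∈ T p := ⟨c, rfl⟩

lemma conjBy_T (p : Fin m ⊕ Fin m → F) (g : Matrix.symplecticGroup (Fin m) F) :
    Cfsg.conjBy (T p) g = T (g.1 *ᵥ p) := by
  ext t
  rw [Cfsg.conjBy, Subgroup.mem_map_equiv, mem_T, mem_T]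
  simp only [MulAut.conj_symm_apply]
  constructor
  · rintro ⟨c, hc⟩
    refine ⟨c, ?_⟩
    rw [← conj_sv, ← hc]
    group
  · rintro ⟨c, hc⟩
    refine ⟨c, ?_⟩
    rw [hc, ← conj_sv]
    group

lemma T_smul (a : F) (ha : a ≠ 0) (p : Fin m ⊕ Fin m → F) : T (a • p) = T p := by
  ext t
  rw [mem_T, mem_T]
  constructor
  · rintro ⟨c, rfl⟩
    exact ⟨a * a * c, sv_smul a p c⟩
  · rintro ⟨c, rfl⟩
    refine ⟨c / (a * a), ?_⟩
    rw [sv_smul]
    congr 1
    field_simp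

lemma exists_form_ne (p : Fin m ⊕ Fin m → F) (hp : p ≠ 0) :
    ∃ x : Fin m ⊕ Fin m → F, sympForm m F x p ≠ 0 := by
  by_contra hcon
  push Not at hcon
  apply hp
  have hJ : Matrix.J (Fin m) F *ᵥ p = 0 := by
    funext i
    have := hcon (Pi.single i 1)
    unfold sympForm at this
    rw [single_one_dotProduct] at this
    exact this
  have h2 := congrArg (fun v => Matrix.J (Fin m) F *ᵥ v) hJ
  simp only [mulVec_mulVec, Matrix.J_squared, mulVec_zero, neg_mulVec, one_mulVec] at h2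
  exact neg_eq_zero.mp h2

lemma sv_ne_one (p : Fin m ⊕ Fin m → F) (hp : p ≠ 0) (c : F) (hc : c ≠ 0) : sv p c ≠ 1 := by
  intro h
  obtain ⟨x, hx⟩ := exists_form_ne p hp
  have h1 := sv_apply p c x
  rw [h] at h1
  have h2 : ((1 : Matrix.symplecticGroup (Fin m) F) : Matrix _ _ F) *ᵥ x = x := by
    show (1 : Matrix _ _ F) *ᵥ x = x
    exact one_mulVec x
  rw [h2] at h1
  have h3 : (c * sympForm m F x p) • p = 0 := by
    have := congrArg (fun v => v - x) h1
    simpa using this.symm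
  rcases smul_eq_zero.mp h3 with h4 | h4
  · rcases mul_eq_zero.mp h4 with h5 | h5
    · exact hc h5
    · exact hx h5
  · exact hp h4

end basic

section pairs

open scoped commutatorElement

variable {F : Type*} [Field F] {m : ℕ}

lemma sv_comm_of (p q : Fin m ⊕ Fin m → F) (h : sympForm m F p q = 0) (c d : F) :
    sv p c * sv q d = sv q d * sv p c := by
  have h1 := conj_sv (sv q d) p c
  rw [sv_apply, h, mul_zero, zero_smul, add_zero] at h1
  calc sv p c * sv q d = (sv q d * sv p c * (sv q d)⁻¹)* sv q d := by rw [h1]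
    _ = sv q d * sv p c := by group

lemma comm_case (p q : Fin m ⊕ Fin m → F) (h : sympForm m F p q = 0) : ⁅T p, T q⁆ = ⊥ := by
  rw [Subgroup.commutator_eq_bot_iff_le_centralizer]
  intro a ha
  rw [Subgroup.mem_centralizer_iff]
  intro b hb
  obtain ⟨c, rfl⟩ := ha
  obtain ⟨d, rfl⟩ := hb
  exact (sv_comm_of p q h c d).symm

lemma T_comm (p : Fin m ⊕ Fin m → F) (s t : Matrix.symplecticGroup (Fin m) F) (hs : s ∈ T p)
    (ht : t ∈ T p) : s * t = t * s := by
  obtain ⟨c, rfl⟩ := hs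
  obtain ⟨d, rfl⟩ := ht
  rw [sv_mul, sv_mul, add_comm]

lemma T_isMulCommutative (p : Fin m ⊕ Fin m → F) : IsMulCommutative (T p) :=
  ⟨⟨fun a b => Subtype.ext (T_comm p a b a.2 b.2)⟩⟩

lemma T_nilpotent (p : Fin m ⊕ Fin m → F) : Group.IsNilpotent (T p) := by
  letI : CommGroup (T p) :=
    { (inferInstance : Group (T p)) with
      mul_comm := fun a b => Subtype.ext (T_comm p a b a.2 b.2) }
  exact CommGroup.isNilpotent

lemma T_ne (p q : Fin m ⊕ Fin m → F) (h : sympForm m F p q ≠ 0) : T p ≠ T q := by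
  intro heq
  have hmem : sv q 1 ∈ T p := heq ▸ sv_mem q 1
  obtain ⟨c, hc⟩ := hmem
  have h1 := congrArg (fun g : Matrix.symplecticGroup (Fin m) F => g.1 *ᵥ p) hc
  simp only [sv_apply, sympForm_self, mul_zero, zero_smul, add_zero, one_mul] at h1
  have h2 : sympForm m F p q • q = 0 := by
    have := congrArg (fun v => v - p) h1
    simpa using this
  rcases smul_eq_zero.mp h2 with h3 | h3
  · exact h h3
  · rw [h3, sympForm_zero_right] at h
    exact h rfl

lemma rank_one_cond (p q : Fin m ⊕ Fin m → F) (h : sympForm m F p q ≠ 0) :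
    Cfsg.RankOneCondition (T p) (T q) := by
  have hq : q ≠ 0 := by
    rintro rfl
    exact h (sympForm_zero_right p)
  intro a ha ha1
  obtain ⟨c, rfl⟩ := ha
  have hc : c ≠ 0 := by
    rintro rfl
    exact ha1 (sv_zero p)
  set γ := sympForm m F p q with hγ
  have hγ' : sympForm m F q p = -γ := by rw [sympForm_swap]
  have hd : -(c * γ * γ)⁻¹ ≠ 0 := neg_ne_zero.mpr (inv_ne_zero (mul_ne_zero (mul_ne_zero hc h) h))
  refine ⟨sv q (-(c * γ * γ)⁻¹), sv_mem q _, sv_ne_one q hq _ hd, ?_⟩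
  rw [conjBy_T, conjBy_T, sv_inv, sv_inv, sv_apply, sv_apply, ← hγ, hγ']
  have e1 : p + (- -(c * γ * γ)⁻¹ * γ) • q = (c * γ)⁻¹ • (q + (-c * -γ) • p) := by
    ext i
    simp only [Pi.add_apply, Pi.smul_apply, smul_eq_mul]
    field_simp
    ring
  rw [e1]
  exact T_smul _ (inv_ne_zero (mul_ne_zero hc h)) _

lemma rank_one_pair (p q : Fin m ⊕ Fin m → F) (h : sympForm m F p q ≠ 0) :
    Cfsg.IsRankOnePair (T p) (T q) where
  ne := T_ne p q h
  nilpotent_left := T_nilpotent p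
  nilpotent_right := T_nilpotent q
  cond_left := rank_one_cond p q h
  cond_right := rank_one_cond q p (by rw [sympForm_swap]; exact neg_ne_zero.mpr h)

lemma form_ne_of_rank_one (p q : Fin m ⊕ Fin m → F) (hp : p ≠ 0)
    (hR : Cfsg.IsRankOnePair (T p) (T q)) : sympForm m F p q ≠ 0 := by
  intro h
  obtain ⟨b, hb, _, hconj⟩ := hR.cond_left (sv p 1) (sv_mem p 1) (sv_ne_one p hp 1 one_ne_zero)
  obtain ⟨d, rfl⟩ := hb
  rw [conjBy_T, conjBy_T, sv_inv, sv_inv, sv_apply, sv_apply, h, sympForm_swap, h] at hconj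
  simp only [mul_zero, zero_smul, add_zero, neg_zero] at hconj
  exact hR.ne hconj

lemma not_central (p q : Fin m ⊕ Fin m → F) (h : sympForm m F p q ≠ 0)
    (hcen : ∀ c ∈ ⁅T p, T q⁆, ∀ x ∈ T p ⊔ T q, c * x = x * c) : False := by
  have hp : p ≠ 0 := by
    rintro rfl
    exact h (sympForm_zero_left q)
  have h1 := hcen ⁅sv p 1, sv q 1⁆
    (Subgroup.commutator_mem_commutator (sv_mem p 1) (sv_mem q 1)) (sv p 1)
    (Subgroup.mem_sup_left (sv_mem p 1))
  rw [commutatorElement_def] at h1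
  -- x := b a⁻¹ b⁻¹ commutes with a
  have h2 : (sv q 1 * (sv p 1)⁻¹ * (sv q 1)⁻¹) * sv p 1
      = sv p 1 * (sv q 1 * (sv p 1)⁻¹ * (sv q 1)⁻¹) := by
    have h3 : sv p 1 * (sv q 1 * (sv p 1)⁻¹ * (sv q 1)⁻¹) * sv p 1
        = sv p 1 * (sv p 1 * (sv q 1 * (sv p 1)⁻¹ * (sv q 1)⁻¹)) := by
      rw [← mul_assoc, ← mul_assoc, ← mul_assoc, ← mul_assoc] at *
      simpa [mul_assoc] using h1
    have h4 := mul_left_cancel (a := sv p 1) (by simpa [mul_assoc] using h3 :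
      sv p 1 * ((sv q 1 * (sv p 1)⁻¹ * (sv q 1)⁻¹) * sv p 1)
        = sv p 1 * (sv p 1 * (sv q 1 * (sv p 1)⁻¹ * (sv q 1)⁻¹)))
    exact h4
  rw [sv_inv p 1, conj_sv, sv_apply] at h2
  set γ := sympForm m F p q with hγ
  have h5 := congrArg (fun g : Matrix.symplecticGroup (Fin m) F => g.1 *ᵥ p) h2
  simp only [Submonoid.coe_mul, ← mulVec_mulVec, sv_apply, sympForm_self, mul_zero, zero_smul,
    add_zero, sympForm_add_left, sympForm_add_right, sympForm_smul_left, sympForm_smul_right,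
    one_mul, ← hγ] at h5
  have hγ' : sympForm m F q p = -γ := by rw [sympForm_swap]
  rw [hγ'] at h5
  -- extract the coefficient
  have h6 : (0 + -1 * (0 + γ * γ) * (0 + γ * -γ)) • p = 0 := by
    have := congrArg (fun v => v - (p + (-1 * (0 + γ * γ)) • (p + γ • q))) h5
    simp only [sub_self, add_sub_cancel_left] at this
    exact this.symm
  rcases smul_eq_zero.mp h6 with h7 | h7
  · have h9 : γ ^ 4 = 0 := by linear_combination h7
    exact h (pow_eq_zero_iff (by norm_num) |>.mp h9)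
  · exact hp h7

end pairs

section Sdef

variable {F : Type*} [Field F] {m : ℕ}

/-- the family of root groups, as in the statement -/
def Sset (F : Type*) [Field F] (m : ℕ) : Set (Subgroup (Matrix.symplecticGroup (Fin m) F)) :=
  {A | ∃ p : Fin m ⊕ Fin m → F, p ≠ 0 ∧
    A = Subgroup.closure {g : Matrix.symplecticGroup (Fin m) F | ∃ c : F,
      ∀ v : Fin m ⊕ Fin m → F,
        (g : Matrix (Fin m ⊕ Fin m) (Fin m ⊕ Fin m) F) *ᵥ v =
          v + (c * (v ⬝ᵥ (Matrix.J (Fin m) F *ᵥ p))) • p}}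

lemma gen_eq (p : Fin m ⊕ Fin m → F) :
    {g : Matrix.symplecticGroup (Fin m) F | ∃ c : F, ∀ v : Fin m ⊕ Fin m → F,
        (g : Matrix (Fin m ⊕ Fin m) (Fin m ⊕ Fin m) F) *ᵥ v =
          v + (c * (v ⬝ᵥ (Matrix.J (Fin m) F *ᵥ p))) • p} = (T p : Set _) := by
  ext g
  constructor
  · rintro ⟨c, hc⟩
    refine ⟨c, ?_⟩
    apply Subtype.ext
    apply Matrix.mulVec_injective
    funext v
    rw [hc v, coe_sv, sympTransvection_mulVec]
    rfl
  · rintro ⟨c, rfl⟩
    refine ⟨c, fun v => ?_⟩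
    rw [sv_apply]
    rfl

lemma S_iff (A : Subgroup (Matrix.symplecticGroup (Fin m) F)) :
    A ∈ Sset F m ↔ ∃ p : Fin m ⊕ Fin m → F, p ≠ 0 ∧ A = T p := by
  unfold Sset
  simp only [Set.mem_ofPred_eq, gen_eq, Subgroup.closure_eq]

lemma hSmem (p : Fin m ⊕ Fin m → F) (hp : p ≠ 0) : T p ∈ Sset F m :=
  (S_iff _).mpr ⟨p, hp, rfl⟩

lemma sv_zero_vec (c : F) : sv (0 : Fin m ⊕ Fin m → F) c = 1 := by
  apply Subtype.ext
  show sympTransvection m (0 : Fin m ⊕ Fin m → F) c = 1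
  unfold sympTransvection
  simp

lemma generates : (⨆ A ∈ Sset F m, A) = ⊤ := by
  rw [eq_top_iff, ← Cfsg.Agent.S0765.result m, Subgroup.closure_le]
  rintro A ⟨w, c, hA⟩
  have hAs : A = sv w c := Subtype.ext hA
  rw [SetLike.mem_coe, hAs]
  by_cases hw : w = 0
  · rw [hw, sv_zero_vec]
    exact Subgroup.one_mem _
  · apply Subgroup.mem_iSup_of_mem (T w)
    apply Subgroup.mem_iSup_of_mem (hSmem w hw)
    exact sv_mem w c

lemma mulVec_ne_zero (g : Matrix.symplecticGroup (Fin m) F) (p : Fin m ⊕ Fin m → F) (hp : p ≠ 0) :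
    g.1 *ᵥ p ≠ 0 := by
  intro h
  apply hp
  have h1 := Cfsg.Agent.S0765.inv_mulVec g h
  rw [mulVec_zero] at h1
  exact h1.symm

theorem isRootSubgroupSet : Cfsg.IsRootSubgroupSet (Sset F m) where
  commutative := by
    intro A hA
    obtain ⟨p, _, rfl⟩ := (S_iff A).mp hA
    exact T_isMulCommutative p
  ne_bot := by
    intro A hA
    obtain ⟨p, hp, rfl⟩ := (S_iff A).mp hA
    intro hbot
    have h1 := sv_mem p (1 : F)
    rw [hbot, Subgroup.mem_bot] at h1
    exact sv_ne_one p hp 1 one_ne_zero h1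
  generates := generates
  conj_mem := by
    intro A hA g
    obtain ⟨p, hp, rfl⟩ := (S_iff A).mp hA
    rw [conjBy_T]
    exact hSmem _ (mulVec_ne_zero g p hp)
  pair := by
    intro A hA B hB
    obtain ⟨p, hp, rfl⟩ := (S_iff A).mp hA
    obtain ⟨q, hq, rfl⟩ := (S_iff B).mp hB
    by_cases h : sympForm m F p q = 0
    · left
      exact comm_case p q h
    · right; left
      exact rank_one_pair p q h

lemma exists_pair_one (p : Fin m ⊕ Fin m → F) (hp : p ≠ 0) :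
    ∃ p' : Fin m ⊕ Fin m → F, sympForm m F p p' = 1 := by
  obtain ⟨x, hx⟩ := exists_form_ne p hp
  have hx' : sympForm m F p x ≠ 0 := by
    rw [sympForm_swap]
    exact neg_ne_zero.mpr hx
  refine ⟨(sympForm m F p x)⁻¹ • x, ?_⟩
  rw [sympForm_smul_right, inv_mul_cancel₀ hx']

theorem isConjClass : Cfsg.IsConjClassOfSubgroups (Sset F (m + 1)) := by
  constructor
  · refine ⟨T (Pi.single (Sum.inl 0) 1), hSmem _ ?_⟩
    intro h
    have := congrFun h (Sum.inl 0)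
    simp at this
  · intro A hA B hB
    obtain ⟨p, hp, rfl⟩ := (S_iff A).mp hA
    obtain ⟨q, hq, rfl⟩ := (S_iff B).mp hB
    obtain ⟨p', hp'⟩ := exists_pair_one p hp
    obtain ⟨q', hq'⟩ := exists_pair_one q hq
    obtain ⟨g, _, hg, _⟩ := Cfsg.Agent.S0766.result (m + 1) p p' q q' hp' hq'
    refine ⟨g, ?_⟩
    rw [conjBy_T]
    show T q = T (g.1 *ᵥ p)
    have : g.1 *ᵥ p = q := hg
    rw [this]

theorem isDegenerate : Cfsg.IsDegenerateRootSet (Sset F m) := by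
  intro A hA B hB hcase
  obtain ⟨p, hp, rfl⟩ := (S_iff A).mp hA
  obtain ⟨q, hq, rfl⟩ := (S_iff B).mp hB
  obtain ⟨h1, h2, _, _⟩ := hcase
  by_cases h : sympForm m F p q = 0
  · rw [comm_case p q h] at h1
    exact isRootSubgroupSet.ne_bot _ h1 rfl
  · exact not_central p q h h2

theorem isConnected : Cfsg.IsConnectedFamily (Cfsg.FAdj (Sset F m)) (Sset F m) := by
  intro A hA B hB
  obtain ⟨p, hp, rfl⟩ := (S_iff A).mp hA
  obtain ⟨q, hq, rfl⟩ := (S_iff B).mp hB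
  obtain ⟨x₁, h₁⟩ := exists_form_ne p hp
  obtain ⟨x₂, h₂⟩ := exists_form_ne q hq
  have hr : ∃ r : Fin m ⊕ Fin m → F, sympForm m F r p ≠ 0 ∧ sympForm m F r q ≠ 0 := by
    by_cases h3 : sympForm m F x₁ q = 0
    · by_cases h4 : sympForm m F x₂ p = 0
      · refine ⟨x₁ + x₂, ?_, ?_⟩
        · rw [sympForm_add_left, h4, add_zero]; exact h₁
        · rw [sympForm_add_left, h3, zero_add]; exact h₂
      · exact ⟨x₂, h4, h₂⟩
    · exact ⟨x₁, h₁, h3⟩
  obtain ⟨r, hr1, hr2⟩ := hr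
  have hr0 : r ≠ 0 := by
    rintro rfl
    exact hr1 (sympForm_zero_left p)
  have hpr : sympForm m F p r ≠ 0 := by
    rw [sympForm_swap]; exact neg_ne_zero.mpr hr1
  have hAC : Cfsg.FAdj (Sset F m) (T p) (T r) := ⟨hA, hSmem r hr0, rank_one_pair p r hpr⟩
  have hCB : Cfsg.FAdj (Sset F m) (T r) (T q) := ⟨hSmem r hr0, hB, rank_one_pair r q hr2⟩
  exact (Relation.ReflTransGen.single hAC).trans (Relation.ReflTransGen.single hCB)

end Sdef

section kroot

variable {F : Type*} [Field F] {m : ℕ}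

lemma psl2_data {ι : Type} [Fintype ι] [DecidableEq ι] (u φ w ψ : ι → F)
    (h1 : φ ⬝ᵥ u = 0) (h2 : ψ ⬝ᵥ w = 0) (hα : φ ⬝ᵥ w ≠ 0) (hβ : ψ ⬝ᵥ u ≠ 0) :
    ∃ (U : Matrix ι (Fin 2) F) (Φ : Matrix (Fin 2) ι F), Φ * U = 1 ∧
      (fun i => U i 0) = u ∧ (fun i => U i 1) = (φ ⬝ᵥ w)⁻¹ • w ∧
      (fun j => Φ 0 j) = (ψ ⬝ᵥ u)⁻¹ • ψ ∧ (fun j => Φ 1 j) = φ := by
  let U : Matrix ι (Fin 2) F := Matrix.of fun i j => if j = 0 then u i else (φ ⬝ᵥ w)⁻¹ * w i
  let Φ : Matrix (Fin 2) ι F := Matrix.of fun j i => if j = 0 then (ψ ⬝ᵥ u)⁻¹ * ψ i else φ i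
  have hU0 : (fun i => U i 0) = u := by
    ext i; simp [U]
  have hU1 : (fun i => U i 1) = (φ ⬝ᵥ w)⁻¹ • w := by
    ext i; simp [U]
  have hΦ0 : (fun j => Φ 0 j) = (ψ ⬝ᵥ u)⁻¹ • ψ := by
    ext i; simp [Φ]
  have hΦ1 : (fun j => Φ 1 j) = φ := by
    ext i; simp [Φ]
  refine ⟨U, Φ, ?_, hU0, hU1, hΦ0, hΦ1⟩
  ext a b
  have hab : (Φ * U) a b = (fun j => Φ a j) ⬝ᵥ (fun i => U i b) := by
    rw [Matrix.mul_apply]; rfl
  rw [hab]
  fin_cases a <;> fin_cases b
  · show (fun j => Φ 0 j) ⬝ᵥ (fun i => U i 0) = (1 : Matrix (Fin 2) (Fin 2) F) 0 0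
    rw [hΦ0, hU0, smul_dotProduct, smul_eq_mul, inv_mul_cancel₀ hβ, Matrix.one_apply_eq]
  · show (fun j => Φ 0 j) ⬝ᵥ (fun i => U i 1) = (1 : Matrix (Fin 2) (Fin 2) F) 0 1
    rw [hΦ0, hU1, smul_dotProduct, dotProduct_smul, h2, smul_zero, smul_zero,
      Matrix.one_apply_ne (by decide)]
  · show (fun j => Φ 1 j) ⬝ᵥ (fun i => U i 0) = (1 : Matrix (Fin 2) (Fin 2) F) 1 0
    rw [hΦ1, hU0, h1, Matrix.one_apply_ne (by decide)]
  · show (fun j => Φ 1 j) ⬝ᵥ (fun i => U i 1) = (1 : Matrix (Fin 2) (Fin 2) F) 1 1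
    rw [hΦ1, hU1, dotProduct_smul, smul_eq_mul, inv_mul_cancel₀ hα, Matrix.one_apply_eq]

theorem psl2_pair (p q : Fin m ⊕ Fin m → F) (h : sympForm m F p q ≠ 0) :
    Cfsg.IsPSL2PairOver F (T p) (T q) := by
  have h1 : (Matrix.J (Fin m) F *ᵥ p) ⬝ᵥ p = 0 := by
    rw [dotProduct_comm]; exact sympForm_self p
  have h2 : (Matrix.J (Fin m) F *ᵥ q) ⬝ᵥ q = 0 := by
    rw [dotProduct_comm]; exact sympForm_self q
  have hα : (Matrix.J (Fin m) F *ᵥ p) ⬝ᵥ q ≠ 0 := by
    rw [dotProduct_comm]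
    show sympForm m F q p ≠ 0
    rw [sympForm_swap]; exact neg_ne_zero.mpr h
  have hβ : (Matrix.J (Fin m) F *ᵥ q) ⬝ᵥ p ≠ 0 := by
    rw [dotProduct_comm]; exact h
  obtain ⟨U, Φ, hΦU, hU0, hU1, hΦ0, hΦ1⟩ := psl2_data p (Matrix.J (Fin m) F *ᵥ p) q
    (Matrix.J (Fin m) F *ᵥ q) h1 h2 hα hβ
  generalize hαd : (Matrix.J (Fin m) F *ᵥ p) ⬝ᵥ q = α at *
  generalize hβd : (Matrix.J (Fin m) F *ᵥ q) ⬝ᵥ p = β at *
  have hupper : ∀ g : SpecialLinearGroup (Fin 2) F,
      (g : Matrix (Fin 2) (Fin 2) F) 1 0 = 0 → (g : Matrix (Fin 2) (Fin 2) F) 0 0 = 1 →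
      (g : Matrix (Fin 2) (Fin 2) F) 1 1 = 1 →
      ((Cfsg.Agent.S5043.rho U Φ hΦU g : SpecialLinearGroup (Fin m ⊕ Fin m) F) :
        Matrix (Fin m ⊕ Fin m) (Fin m ⊕ Fin m) F)
        = sympTransvection m p ((g : Matrix (Fin 2) (Fin 2) F) 0 1) := by
    intro g h10 h00 h11
    rw [Cfsg.Agent.S5043.coe_rho, Cfsg.Agent.S5043.iot_upper U Φ _ (by simp [h00])
      (by simp [h10]) (by simp [h11]), hU0, hΦ1]
    unfold sympTransvection
    simp
  have hlower : ∀ g : SpecialLinearGroup (Fin 2) F,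
      (g : Matrix (Fin 2) (Fin 2) F) 0 1 = 0 → (g : Matrix (Fin 2) (Fin 2) F) 0 0 = 1 →
      (g : Matrix (Fin 2) (Fin 2) F) 1 1 = 1 →
      ((Cfsg.Agent.S5043.rho U Φ hΦU g : SpecialLinearGroup (Fin m ⊕ Fin m) F) :
        Matrix (Fin m ⊕ Fin m) (Fin m ⊕ Fin m) F)
        = sympTransvection m q ((g : Matrix (Fin 2) (Fin 2) F) 1 0 * α⁻¹ * β⁻¹) := by
    intro g h01 h00 h11
    rw [Cfsg.Agent.S5043.coe_rho, Cfsg.Agent.S5043.iot_lower U Φ _ (by simp [h00])
      (by simp [h01]) (by simp [h11]), hU1, hΦ0, smul_vecMulVec, vecMulVec_smul, smul_smul,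
      smul_smul]
    unfold sympTransvection
    simp
  have hmem : ∀ g : SpecialLinearGroup (Fin 2) F,
      ((Cfsg.Agent.S5043.rho U Φ hΦU g : SpecialLinearGroup (Fin m ⊕ Fin m) F) :
        Matrix (Fin m ⊕ Fin m) (Fin m ⊕ Fin m) F) ∈ Matrix.symplecticGroup (Fin m) F := by
    intro g
    apply Cfsg.Agent.Helper9SLn.transvection_induction
      (P := fun g => ((Cfsg.Agent.S5043.rho U Φ hΦU g : SpecialLinearGroup (Fin m ⊕ Fin m) F) :
        Matrix (Fin m ⊕ Fin m) (Fin m ⊕ Fin m) F) ∈ Matrix.symplecticGroup (Fin m) F) g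
    · intro i j hij a
      fin_cases i <;> fin_cases j
      · exact absurd rfl hij
      · rw [hupper _ (by simp [Matrix.SpecialLinearGroup.transvection_coe])
          (by simp [Matrix.SpecialLinearGroup.transvection_coe])
          (by simp [Matrix.SpecialLinearGroup.transvection_coe])]
        exact sympTransvection_mem _ _
      · rw [hlower _ (by simp [Matrix.SpecialLinearGroup.transvection_coe])
          (by simp [Matrix.SpecialLinearGroup.transvection_coe])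
          (by simp [Matrix.SpecialLinearGroup.transvection_coe])]
        exact sympTransvection_mem _ _
      · exact absurd rfl hij
    · intro A B hA hB
      rw [map_mul, Matrix.SpecialLinearGroup.coe_mul]
      exact Submonoid.mul_mem _ hA hB
  let ρ : SpecialLinearGroup (Fin 2) F →* Matrix.symplecticGroup (Fin m) F :=
    { toFun := fun g => ⟨_, hmem g⟩
      map_one' := by
        apply Subtype.ext
        show ((Cfsg.Agent.S5043.rho U Φ hΦU 1 : SpecialLinearGroup (Fin m ⊕ Fin m) F) :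
          Matrix (Fin m ⊕ Fin m) (Fin m ⊕ Fin m) F) = 1
        rw [map_one]; rfl
      map_mul' := by
        intro a b
        apply Subtype.ext
        show ((Cfsg.Agent.S5043.rho U Φ hΦU (a * b) : SpecialLinearGroup (Fin m ⊕ Fin m) F) :
          Matrix (Fin m ⊕ Fin m) (Fin m ⊕ Fin m) F) = _
        rw [map_mul, Matrix.SpecialLinearGroup.coe_mul]; rfl }
  have hρ : ∀ g, ((ρ g : Matrix.symplecticGroup (Fin m) F) :
      Matrix (Fin m ⊕ Fin m) (Fin m ⊕ Fin m) F)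
      = ((Cfsg.Agent.S5043.rho U Φ hΦU g : SpecialLinearGroup (Fin m ⊕ Fin m) F) :
        Matrix (Fin m ⊕ Fin m) (Fin m ⊕ Fin m) F) := fun g => rfl
  have hinj : Function.Injective ρ := by
    intro g g' hgg
    apply Cfsg.Agent.S5043.rho_injective U Φ hΦU
    apply Subtype.ext
    have := congrArg (fun t : Matrix.symplecticGroup (Fin m) F => t.1) hgg
    exact this
  have hup : (Cfsg.upperUnipotentSL2 F).map ρ = T p := by
    unfold Cfsg.upperUnipotentSL2
    rw [MonoidHom.map_closure]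
    apply le_antisymm
    · rw [Subgroup.closure_le]
      rintro _ ⟨g, ⟨h10, h00, h11⟩, rfl⟩
      refine ⟨(g : Matrix (Fin 2) (Fin 2) F) 0 1, ?_⟩
      apply Subtype.ext
      rw [hρ, hupper g h10 h00 h11]; rfl
    · rintro t ⟨c, rfl⟩
      apply Subgroup.subset_closure
      refine ⟨Matrix.SpecialLinearGroup.transvection (zero_ne_one : (0 : Fin 2) ≠ 1) c, ?_, ?_⟩
      · simp [Matrix.SpecialLinearGroup.transvection_coe]
      · apply Subtype.ext
        rw [hρ, hupper _ (by simp [Matrix.SpecialLinearGroup.transvection_coe])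
          (by simp [Matrix.SpecialLinearGroup.transvection_coe])
          (by simp [Matrix.SpecialLinearGroup.transvection_coe]), coe_sv]
        simp [Matrix.SpecialLinearGroup.transvection_coe]
  have hα0 : α ≠ 0 := hα
  have hβ0 : β ≠ 0 := hβ
  have hlow : (Cfsg.lowerUnipotentSL2 F).map ρ = T q := by
    unfold Cfsg.lowerUnipotentSL2
    rw [MonoidHom.map_closure]
    apply le_antisymm
    · rw [Subgroup.closure_le]
      rintro _ ⟨g, ⟨h01, h00, h11⟩, rfl⟩
      refine ⟨(g : Matrix (Fin 2) (Fin 2) F) 1 0 * α⁻¹ * β⁻¹, ?_⟩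
      apply Subtype.ext
      rw [hρ, hlower g h01 h00 h11]; rfl
    · rintro t ⟨c, rfl⟩
      apply Subgroup.subset_closure
      refine ⟨Matrix.SpecialLinearGroup.transvection (one_ne_zero : (1 : Fin 2) ≠ 0)
        (c * (α * β)), ?_, ?_⟩
      · simp [Matrix.SpecialLinearGroup.transvection_coe]
      · apply Subtype.ext
        rw [hρ, hlower _ (by simp [Matrix.SpecialLinearGroup.transvection_coe])
          (by simp [Matrix.SpecialLinearGroup.transvection_coe])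
          (by simp [Matrix.SpecialLinearGroup.transvection_coe]), coe_sv]
        congr 1
        simp [Matrix.SpecialLinearGroup.transvection_coe]
        field_simp
  refine ⟨ρ, ?_, ?_, hup, hlow⟩
  · rw [← hup, ← hlow, ← Subgroup.map_sup, Cfsg.Agent.S5043.sl2_top, MonoidHom.range_eq_map]
  · rw [(MonoidHom.ker_eq_bot_iff _).mpr hinj]
    exact bot_le

end kroot

/-- Let F be a field, m a natural number and V = F^{2(m+1)} with the standard non-degenerate alternating form f(u, v) = uᵀ J v. For a non-zero vector p let T(p) be the group of symplectic transvections v ↦ v + c f(v, p) p, c ∈ F. Then the subgroups T(p), p ≠ 0, generate the symplectic group Sp_{2(m+1)}(F) and form a degenerate class of abstract F-root subgroups of it (any two of them either commute elementwise or are the unipotent subgroups of a rank one group that is an image of SL₂(F) with central kernel, never the commutator case), and their graph of rank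 one pairs is connected. -/
theorem result (F : Type*) [Field F] (m : ℕ) :
    Cfsg.IsRootSubgroupClass {A : Subgroup ↥(Matrix.symplecticGroup (Fin (m + 1)) F) | ∃ p : Fin (m + 1) ⊕ Fin (m + 1) → F, p ≠ 0 ∧
        A = Subgroup.closure {g : ↥(Matrix.symplecticGroup (Fin (m + 1)) F) | ∃ c : F, ∀ v : Fin (m + 1) ⊕ Fin (m + 1) → F,
          (g : Matrix (Fin (m + 1) ⊕ Fin (m + 1)) (Fin (m + 1) ⊕ Fin (m + 1)) F) *ᵥ v =
            v + (c * (v ⬝ᵥ (Matrix.J (Fin (m + 1)) F *ᵥ p))) • p}} ∧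
    Cfsg.IsDegenerateRootSet {A : Subgroup ↥(Matrix.symplecticGroup (Fin (m + 1)) F) | ∃ p : Fin (m + 1) ⊕ Fin (m + 1) → F, p ≠ 0 ∧
        A = Subgroup.closure {g : ↥(Matrix.symplecticGroup (Fin (m + 1)) F) | ∃ c : F, ∀ v : Fin (m + 1) ⊕ Fin (m + 1) → F,
          (g : Matrix (Fin (m + 1) ⊕ Fin (m + 1)) (Fin (m + 1) ⊕ Fin (m + 1)) F) *ᵥ v =
            v + (c * (v ⬝ᵥ (Matrix.J (Fin (m + 1)) F *ᵥ p))) • p}} ∧
    Cfsg.IsKRootSubgroupSet F {A : Subgroup ↥(Matrix.symplecticGroup (Fin (m + 1)) F) | ∃ p : Fin (m + 1) ⊕ Fin (m + 1) → F, p ≠ 0 ∧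
        A = Subgroup.closure {g : ↥(Matrix.symplecticGroup (Fin (m + 1)) F) | ∃ c : F, ∀ v : Fin (m + 1) ⊕ Fin (m + 1) → F,
          (g : Matrix (Fin (m + 1) ⊕ Fin (m + 1)) (Fin (m + 1) ⊕ Fin (m + 1)) F) *ᵥ v =
            v + (c * (v ⬝ᵥ (Matrix.J (Fin (m + 1)) F *ᵥ p))) • p}} ∧
    Cfsg.IsConnectedFamily (Cfsg.FAdj {A : Subgroup ↥(Matrix.symplecticGroup (Fin (m + 1)) F) | ∃ p : Fin (m + 1) ⊕ Fin (m + 1) → F, p ≠ 0 ∧
        A = Subgroup.closure {g : ↥(Matrix.symplecticGroup (Fin (m + 1)) F) | ∃ c : F, ∀ v : Fin (m + 1) ⊕ Fin (m + 1) → F,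
          (g : Matrix (Fin (m + 1) ⊕ Fin (m + 1)) (Fin (m + 1) ⊕ Fin (m + 1)) F) *ᵥ v =
            v + (c * (v ⬝ᵥ (Matrix.J (Fin (m + 1)) F *ᵥ p))) • p}})
      {A : Subgroup ↥(Matrix.symplecticGroup (Fin (m + 1)) F) | ∃ p : Fin (m + 1) ⊕ Fin (m + 1) → F, p ≠ 0 ∧
        A = Subgroup.closure {g : ↥(Matrix.symplecticGroup (Fin (m + 1)) F) | ∃ c : F, ∀ v : Fin (m + 1) ⊕ Fin (m + 1) → F,
          (g : Matrix (Fin (m + 1) ⊕ Fin (m + 1)) (Fin (m + 1) ⊕ Fin (m + 1)) F) *ᵥ v =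
            v + (c * (v ⬝ᵥ (Matrix.J (Fin (m + 1)) F *ᵥ p))) • p}} := by
  have hroot : Cfsg.IsRootSubgroupSet (Sset F (m + 1)) := isRootSubgroupSet
  refine ⟨⟨hroot, isConjClass⟩, isDegenerate, ⟨hroot, ?_⟩, isConnected⟩
  intro A hA B hB hR
  obtain ⟨p, hp, rfl⟩ := (S_iff A).mp hA
  obtain ⟨q, hq, rfl⟩ := (S_iff B).mp hB
  exact psl2_pair p q (form_ne_of_rank_one p q hp hR)

end Cfsg.Agent.S5070
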