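import Cfsg.Statements.S5078

set_option autoImplicit false
open Cfsg

namespace Cfsg.Agent.S5078

/-- In any fusion system over a finite subgroup S, a receptive subgroup is fully centralized. -/
theorem result {Ω : Type*} [Group Ω] {S : Subgroup Ω} [Finite S] (F : Cfsg.FusionSystem S) (P : Subgroup Ω) (hP : F.IsReceptive P) : F.IsFullyCentralized P := by
  obtain ⟨hPS, hrec⟩ := hP
  refine ⟨hPS, ?_⟩
  rintro Q ⟨φ, hφ, hφr⟩
  subst hφr
  obtain ⟨χ, hχ, hχφ⟩ := F.inv_mem hφ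
  have hQS : φ.range ≤ S := (F.le_of_mem hχ).1
  -- χ has range P
  have hχr : χ.range = P := by
    ext y
    constructor
    · rintro ⟨⟨_, x, rfl⟩, rfl⟩
      rw [hχφ x]
      exact x.2
    · intro hy
      exact ⟨⟨φ ⟨y, hy⟩, ⟨y, hy⟩, rfl⟩, hχφ ⟨y, hy⟩⟩
  obtain ⟨ψ, hψ, hψχ⟩ := hrec φ.range χ hχ hχr
  have hψinj : Function.Injective ψ := F.injective_of_mem hψ
  -- C_S(Q) ≤ N
  have hCN : FusionSystem.centralizerIn S φ.range ≤ FusionSystem.extender S φ.range χ := by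
    intro g hg
    obtain ⟨hgS, hgC⟩ := hg
    apply Subgroup.subset_closure
    refine ⟨hgS, Subgroup.centralizer_le_normalizer _ hgC, 1, S.one_mem, ?_⟩
    intro x hx
    have hcomm : (x : Ω) * g = g * (x : Ω) := (Subgroup.mem_centralizer_iff.mp hgC) x x.2
    have : (⟨g * (x : Ω) * g⁻¹, hx⟩ : φ.range) = x := by
      apply Subtype.ext
      show g * (x : Ω) * g⁻¹ = x
      rw [← hcomm]; group
    rw [this]; simp
  -- Q ≤ N
  have hQN : φ.range ≤ FusionSystem.extender S φ.range χ := by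
    intro g hg
    apply Subgroup.subset_closure
    refine ⟨hQS hg, Subgroup.le_normalizer hg, χ ⟨g, hg⟩, (F.le_of_mem hχ).2 _, ?_⟩
    intro x hx
    have : (⟨g * (x : Ω) * g⁻¹, hx⟩ : φ.range) = ⟨g, hg⟩ * x * ⟨g, hg⟩⁻¹ := by
      apply Subtype.ext
      rfl
    rw [this, map_mul, map_mul, map_inv]
  -- ψ maps C_S(Q) into C_S(P)
  have hmaps : ∀ c : FusionSystem.centralizerIn S φ.range,
      ψ ⟨(c : Ω), hCN c.2⟩ ∈ FusionSystem.centralizerIn S P := by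
    intro c
    refine ⟨(F.le_of_mem hψ).2 _, ?_⟩
    show ψ ⟨(c : Ω), hCN c.2⟩ ∈ Subgroup.centralizer (P : Set Ω)
    rw [Subgroup.mem_centralizer_iff]
    intro y hy
    -- y = χ (φ y) = ψ (φ y)
    have hφy : φ ⟨y, hy⟩ ∈ φ.range := ⟨⟨y, hy⟩, rfl⟩
    have h1 : ψ ⟨φ ⟨y, hy⟩, hQN hφy⟩ = y := by
      rw [hψχ (φ ⟨y, hy⟩) hφy (hQN hφy)]
      exact hχφ ⟨y, hy⟩
    have hcomm : φ ⟨y, hy⟩ * (c : Ω) = (c : Ω) * φ ⟨y, hy⟩ :=
      (Subgroup.mem_centralizer_iff.mp c.2.2) _ hφy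
    have h2 : (⟨φ ⟨y, hy⟩, hQN hφy⟩ : ↥(FusionSystem.extender S φ.range χ)) * ⟨(c : Ω), hCN c.2⟩ = ⟨(c : Ω), hCN c.2⟩ * ⟨φ ⟨y, hy⟩, hQN hφy⟩ := by
      apply Subtype.ext
      exact hcomm
    have h3 := congrArg ψ h2
    rw [map_mul, map_mul, h1] at h3
    exact h3
  have : Finite ↥(FusionSystem.centralizerIn S P) :=
    Finite.of_injective (Subgroup.inclusion (inf_le_left : FusionSystem.centralizerIn S P ≤ S))
      (Subgroup.inclusion_injective _)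
  apply Nat.card_le_card_of_injective (fun c : FusionSystem.centralizerIn S φ.range =>
    (⟨ψ ⟨(c : Ω), hCN c.2⟩, hmaps c⟩ : FusionSystem.centralizerIn S P))
  intro c d hcd
  have h1 : ψ ⟨(c : Ω), hCN c.2⟩ = ψ ⟨(d : Ω), hCN d.2⟩ := by
    have := congrArg Subtype.val hcd
    exact this
  have h2 := hψinj h1
  apply Subtype.ext
  have h3 : ((⟨(c : Ω), hCN c.2⟩ : ↥(FusionSystem.extender S φ.range χ)) : Ω) = ((⟨(d : Ω), hCN d.2⟩ : ↥(FusionSystem.extender S φ.range χ)) : Ω) := by rw [h2]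
  exact h3

end Cfsg.Agent.S5078
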