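import Cfsg.Statements.S5081
import Cfsg.Agent.Lib.Helper8_Essential

set_option autoImplicit false
open Cfsg

namespace Cfsg.Agent.S5081

open Cfsg.FusionSystem Cfsg.Agent.Lib.Helper8_Saturated Cfsg.Agent.Lib.Helper8_Fusion
  Cfsg.Agent.Lib.Helper8_Alperin Cfsg.Agent.Lib.Helper8_Essential

/-- Let F be a saturated fusion system over a finite p-group S, P a proper subgroup of S that is fully normalized, and H the subgroup of Aut_F(P) generated by the automorphisms that extend to maps of the system defined on strictly larger subgroups of S. Then either P is not essential and H is all of Aut_F(P), or P is essential and the image of H in Out_F(P) = Aut_F(P)/Inn(P) is strongly p-embedded there. -/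
theorem result {Ω : Type*} [Group Ω] {S : Subgroup Ω} [Finite S] (p : ℕ) [Fact p.Prime] (hS : IsPGroup p S) (F : Cfsg.FusionSystem S) (hF : F.IsSaturated p) (P : Subgroup Ω) (hPS : P < S) (hPn : F.IsFullyNormalized P) (H : Subgroup (MulAut P)) (hH : H = Subgroup.closure {α : MulAut P | ∃ (Q : Subgroup Ω) (hPQ : P < Q) (φ : Q →* Ω), φ ∈ F.Hom Q ∧ ∀ x : P, φ (Subgroup.inclusion hPQ.le x) = α x}) : (¬ F.IsEssential p P ∧ H = F.autGroup P) ∨ (F.IsEssential p P ∧ ∃ _ : ((Cfsg.Inn P).subgroupOf (F.autGroup P)).Normal, Cfsg.IsStronglyPEmbedded p ((H.subgroupOf (F.autGroup P)).map (QuotientGroup.mk' ((Cfsg.Inn P).subgroupOf (F.autGroup P))))) := by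
  have hPle : P ≤ S := hPS.le
  have : Finite P := finite_of_le hPle
  -- H ≤ Aut_F(P)
  have hHle : H ≤ F.autGroup P := by
    rw [hH, Subgroup.closure_le]
    rintro α ⟨Q, hPQ, φ, hφ, hφα⟩
    exact aut_mem_of_extends F hPQ.le hφ hφα
  -- automorphisms extending to bigger subgroups lie in H
  have hHext : ∀ α ∈ F.autGroup P, (∃ (R : Subgroup Ω) (hPR : P ≤ R) (ψ : R →* Ω),
      Nat.card P < Nat.card R ∧ ψ ∈ F.Hom R ∧ ∀ x : P, ψ ⟨x, hPR x.2⟩ = ((α x : P) : Ω)) → α ∈ H := by
    rintro α - ⟨R, hPR, ψ, hcard, hψ, hext⟩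
    rw [hH]
    apply Subgroup.subset_closure
    have hlt : P < R := lt_of_le_of_ne hPR (fun h => by subst h; exact lt_irrefl _ hcard)
    exact ⟨R, hlt, ψ, hψ, hext⟩
  by_cases hcen : F.IsCentric P
  · by_cases hle : F.autGroup P ≤ H
    · left
      refine ⟨?_, le_antisymm hHle hle⟩
      rintro ⟨-, -, hI, M, hM⟩
      obtain ⟨c, hc⟩ := extendable_le_conj hS F hF hPn hcen hI M hM
      -- all of Aut_F(P) maps into c M c⁻¹
      have hall : ∀ (α : MulAut P) (hα : α ∈ F.autGroup P),
          c⁻¹ * (QuotientGroup.mk' ((Inn P).subgroupOf (F.autGroup P)) ⟨α, hα⟩) * c ∈ M := by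
        let K : Subgroup (MulAut P) :=
          ((M.map (MulAut.conj c).toMonoidHom).comap
            (QuotientGroup.mk' ((Inn P).subgroupOf (F.autGroup P)))).map (F.autGroup P).subtype
        have hHK : H ≤ K := by
          rw [hH, Subgroup.closure_le]
          rintro α ⟨Q, hPQ, φ, hφ, hφα⟩
          have hα : α ∈ F.autGroup P := aut_mem_of_extends F hPQ.le hφ hφα
          refine ⟨⟨α, hα⟩, ?_, rfl⟩
          refine ⟨_, hc α hα ⟨Q, hPQ, φ, hφ, hφα⟩, ?_⟩
          simp only [MulEquiv.coe_toMonoidHom, MulAut.conj_apply]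
          group
        intro α hα
        obtain ⟨β, hβ, hβα⟩ := hHK (hle hα)
        obtain ⟨m, hm, hmβ⟩ := hβ
        have hβα' : β = ⟨α, hα⟩ := Subtype.ext hβα
        rw [← hβα', ← hmβ]
        simp only [MulEquiv.coe_toMonoidHom, MulAut.conj_apply]
        have : c⁻¹ * (c * m * c⁻¹) * c = m := by group
        rw [this]; exact hm
      apply hM.2.1
      rw [eq_top_iff]
      intro x _
      obtain ⟨a, ha⟩ := QuotientGroup.mk'_surjective ((Inn P).subgroupOf (F.autGroup P)) (c * x * c⁻¹)
      have := hall a a.2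
      have h2 : c⁻¹ * (c * x * c⁻¹) * c = x := by group
      have h3 : (QuotientGroup.mk' ((Inn P).subgroupOf (F.autGroup P))) ⟨a, a.2⟩ = c * x * c⁻¹ := ha
      rw [h3, h2] at this
      exact this
    · right
      obtain ⟨hI, hemb⟩ := stronglyPEmbedded_of_extension_closed hS F hF hPn hcen hPS.ne H hHext hle
      exact ⟨⟨hcen, hPn, hI, _, hemb⟩, hI, hemb⟩
  · left
    refine ⟨fun h => hcen h.1, le_antisymm hHle ?_⟩
    obtain ⟨hPfc, -⟩ := fullyNormalized_facts hS F hF hPn
    have hPr := receptive_of_fullyCentralized hS F hF hPfc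
    have hnotle : ¬ centralizerIn S P ≤ P := fun h => hcen (centric_of_fullyCentralized hS F hF hPfc h)
    obtain ⟨c, hcC, hcP⟩ := SetLike.not_le_iff_exists.mp hnotle
    intro α hα
    have hαIso : α ∈ Iso F P P := (mem_autGroup_iff F hPle α).mp hα
    obtain ⟨ψ, hψ, hψφ⟩ := hPr.2 P _ hαIso (range_subtype_comp α)
    have hPE : P ≤ extender S P (P.subtype.comp α.toMonoidHom) := le_extender F hαIso
    have hcE : c ∈ extender S P (P.subtype.comp α.toMonoidHom) := centralizerIn_le_extender P _ hcC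
    have hES : extender S P (P.subtype.comp α.toMonoidHom) ≤ S :=
      (extender_le_normalizerIn P _).trans inf_le_left
    have : Finite ↥(extender S P (P.subtype.comp α.toMonoidHom)) := finite_of_le hES
    have hlt : P < extender S P (P.subtype.comp α.toMonoidHom) :=
      lt_of_le_of_ne hPE (fun h => hcP (by rw [h]; exact hcE))
    exact hHext α hα ⟨_, hPE, ψ, Set.Finite.card_lt_card (Set.toFinite _) hlt, hψ,
      fun y => hψφ y y.2 (hPE y.2)⟩

end Cfsg.Agent.S5081
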