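import Cfsg.Statements.S5083
import Cfsg.Agent.Lib.Helper8_Alperin

set_option autoImplicit false
open Cfsg

namespace Cfsg.Agent.S5083

open Cfsg.FusionSystem Cfsg.Agent.Lib.Helper8_Saturated Cfsg.Agent.Lib.Helper8_Fusion
  Cfsg.Agent.Lib.Helper8_Alperin

/-- `S` is fully normalized in any fusion system over `S`. -/
theorem top_fullyNormalized {Ω : Type*} [Group Ω] {S : Subgroup Ω} [Finite S]
    (F : Cfsg.FusionSystem S) : F.IsFullyNormalized S := by
  refine ⟨le_rfl, ?_⟩
  intro Q _
  have h1 : normalizerIn S S = S := le_antisymm inf_le_left (le_normalizerIn le_rfl)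
  rw [h1]
  exact Subgroup.card_le_of_le inf_le_left

/-- If F is a saturated fusion system over a finite p-group S in which Aut_F(P) is a p-group for every P ≤ S, then F is the inner fusion system of S (all its maps are conjugations by elements of S). -/
theorem result {Ω : Type*} [Group Ω] {S : Subgroup Ω} [Finite S] (p : ℕ) [Fact p.Prime] (hS : IsPGroup p S) (F : Cfsg.FusionSystem S) (hF : F.IsSaturated p) (h : ∀ P : Subgroup Ω, P ≤ S → IsPGroup p (F.autGroup P)) : F = Cfsg.innerFusionSystem S := by
  apply fusionSystem_ext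
  intro P
  apply Set.eq_of_subset_of_subset
  · refine alperin hS F hF (innerFusionSystem S) ?_ P
    intro Q hQ
    rcases hQ with rfl | hQ
    · obtain ⟨-, -, R, hR⟩ := fullyNormalized_facts hS F hF (top_fullyNormalized F)
      have hRtop : (R : Subgroup (F.autGroup Q)) = ⊤ := by
        have h1 : IsPGroup p (⊤ : Subgroup (F.autGroup Q)) :=
          (h Q le_rfl).of_equiv Subgroup.topEquiv.symm
        exact (R.is_maximal' h1 le_top).symm
      intro α hα
      have h2 : (⟨α, hα⟩ : F.autGroup Q) ∈ (R : Subgroup (F.autGroup Q)) := by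
        rw [hRtop]; trivial
      rw [hR] at h2
      exact autInducedBy_le_autGroup (innerFusionSystem Q) le_rfl h2
    · exfalso
      obtain ⟨hcen, -, hI, M, hM⟩ := hQ
      have hQS : Q ≤ S := hcen.1
      have : Finite Q := finite_of_le hQS
      have hp : IsPGroup p (F.autGroup Q ⧸ (Inn Q).subgroupOf (F.autGroup Q)) :=
        (h Q hQS).to_quotient _
      exact not_stronglyPEmbedded_of_isPGroup hp M hM
  · rintro φ ⟨hP, g, hg, hφ⟩
    have : φ = conjHom P g := by
      ext x
      rw [hφ x]; rfl
    rw [this]
    exact F.conj_mem hP hg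

end Cfsg.Agent.S5083
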