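import Cfsg.Statements.S5084
import Cfsg.Agent.Lib.Helper8_Alperin

set_option autoImplicit false
open Cfsg

namespace Cfsg.Agent.S5084

open Cfsg.FusionSystem Cfsg.Agent.Lib.Helper8_Saturated Cfsg.Agent.Lib.Helper8_Fusion
  Cfsg.Agent.Lib.Helper8_Alperin

/-- In a saturated fusion system over a finite p-group S, a subgroup Q is central in the system if and only if Q ≤ S and no element of Q is conjugate in the system to any element other than itself. -/
theorem result {Ω : Type*} [Group Ω] {S : Subgroup Ω} [Finite S] (p : ℕ) [Fact p.Prime] (hS : IsPGroup p S) (F : Cfsg.FusionSystem S) (hF : F.IsSaturated p) (Q : Subgroup Ω) : F.IsCentral Q ↔ (Q ≤ S ∧ ∀ x ∈ Q, ∀ y : Ω, F.IsConjElt x y → y = x) := by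
  constructor
  · intro h
    refine ⟨h.1, ?_⟩
    rintro x hxQ y ⟨φ, hφ, rfl⟩
    obtain ⟨ψ, hψ, hψP, hψQ⟩ := h.2 _ φ hφ
    rw [← hψP ⟨x, Subgroup.mem_zpowers x⟩]
    exact hψQ ⟨x, hxQ⟩
  · rintro ⟨hQS, hconj⟩
    -- Q is central in S
    have hQZ : ∀ x ∈ Q, ∀ s ∈ S, s * x * s⁻¹ = x := by
      intro x hxQ s hs
      apply hconj x hxQ
      have hle : Subgroup.zpowers x ≤ S := by
        rw [Subgroup.zpowers_le]; exact hQS hxQ
      exact ⟨conjHom (Subgroup.zpowers x) s, F.conj_mem hle hs, rfl⟩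
    apply isCentral_of_aut hS F hF
    intro P hP
    have hPS : P ≤ S := by
      rcases hP with rfl | hP
      · exact le_rfl
      · exact hP.1.1
    have hQP : Q ≤ P := by
      rcases hP with rfl | hP
      · exact hQS
      · intro x hxQ
        apply hP.1.2 P (isConj_refl F hPS)
        refine ⟨hQS hxQ, ?_⟩
        show x ∈ Subgroup.centralizer (P : Set Ω)
        rw [Subgroup.mem_centralizer_iff]
        intro y hy
        have h1 := hQZ x hxQ y (hPS hy)
        calc y * x = (y * x * y⁻¹) * y := by group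
          _ = x * y := by rw [h1]
    refine ⟨hQP, ?_⟩
    intro α hα x
    apply hconj x x.2
    have hαIso : α ∈ Iso F P P := (mem_autGroup_iff F hPS α).mp hα
    have hle : Subgroup.zpowers (x : Ω) ≤ P := by
      rw [Subgroup.zpowers_le]; exact hQP x.2
    exact ⟨_, restrict_mem F hle hαIso, rfl⟩

end Cfsg.Agent.S5084
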