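import Cfsg.Statements.S5096
import Cfsg.Agent.Lib.Helper8_Fusion

set_option autoImplicit false
open Cfsg

namespace Cfsg.Agent.S5096

open Cfsg.Agent.Lib.Helper8_Fusion Cfsg.FusionSystem in
/-- For any fusion system over a subgroup S and any Q ≤ S, the maps of the normalizer system N_F(Q) — those maps between subgroups of N_S(Q) that extend to the subgroup generated with Q carrying Q onto Q — form a fusion system over N_S(Q). -/
theorem result {Ω : Type*} [Group Ω] {S : Subgroup Ω} (F : Cfsg.FusionSystem S) (Q : Subgroup Ω) (hQ : Q ≤ S) : ∃ E : Cfsg.FusionSystem (Cfsg.FusionSystem.normalizerIn S Q), F.IsNormalizerSystem Q E := by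
  refine ⟨{ Hom := fun P => F.normalizerHom Q P, le_of_mem := ?_, injective_of_mem := ?_,
            conj_mem := ?_, comp_mem := ?_, inv_mem := ?_ }, fun P => rfl⟩
  · rintro P φ ⟨-, h2, h3, -⟩
    exact ⟨h2, h3⟩
  · rintro P φ ⟨h1, -⟩
    exact F.injective_of_mem h1
  · intro P g hP hg
    have hgN : g ∈ Subgroup.normalizer (Q : Set Ω) := hg.2
    refine ⟨F.conj_mem (hP.trans inf_le_left) hg.1, hP, ?_, conjHom (P ⊔ Q) g,
      F.conj_mem (sup_le (hP.trans inf_le_left) hQ) hg.1, fun x => rfl, ?_⟩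
    · intro x
      show g * (x : Ω) * g⁻¹ ∈ normalizerIn S Q
      exact (normalizerIn S Q).mul_mem ((normalizerIn S Q).mul_mem hg (hP x.2))
        ((normalizerIn S Q).inv_mem hg)
    · rw [map_subgroupOf_eq_iff le_sup_right]
      constructor
      · intro x hx
        show g * x * g⁻¹ ∈ Q
        exact (Subgroup.mem_normalizer_iff.mp hgN x).mp hx
      · intro y hy
        refine ⟨g⁻¹ * y * g, ?_, ?_⟩
        · have := (Subgroup.mem_normalizer_iff.mp ((Subgroup.normalizer (Q : Set Ω)).inv_mem hgN) y).mp hy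
          simpa using this
        · show g * (g⁻¹ * y * g) * g⁻¹ = y
          group
  · rintro P P' φ ψ' ⟨hφ, hPN, hφN, φh, hφh, hφhP, hφhQ⟩ ⟨hψ', hP'N, hψ'N, ψh, hψh, hψhP, hψhQ⟩ h
    obtain ⟨hφQ1, hφQ2⟩ := (map_subgroupOf_eq_iff le_sup_right φh).mp hφhQ
    obtain ⟨hψQ1, hψQ2⟩ := (map_subgroupOf_eq_iff le_sup_right ψh).mp hψhQ
    have vals : ∀ x : ↥(P ⊔ Q), φh x ∈ P' ⊔ Q := by
      apply sup_vals φh
      · intro x hx
        have := hφhP ⟨x, hx⟩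
        have h2 : φh ⟨x, (le_sup_left : P ≤ P ⊔ Q) hx⟩ = φ ⟨x, hx⟩ := this
        rw [h2]
        exact h _
      · exact hφQ1
    refine ⟨F.comp_mem hφ hψ' h, hPN, fun x => hψ'N _, ψh.comp (φh.codRestrict (P' ⊔ Q) vals),
      F.comp_mem hφh hψh vals, ?_, ?_⟩
    · intro x
      show ψh ⟨φh (Subgroup.inclusion le_sup_left x), _⟩ = ψ' ⟨φ x, h x⟩
      rw [← hψhP ⟨φ x, h x⟩]
      congr 1
      apply Subtype.ext
      exact hφhP x
    · rw [map_subgroupOf_eq_iff le_sup_right]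
      constructor
      · intro x hx
        show ψh ⟨φh ⟨x, _⟩, _⟩ ∈ Q
        exact hψQ1 _ (hφQ1 x hx)
      · intro y hy
        obtain ⟨z, hz, hzy⟩ := hψQ2 y hy
        obtain ⟨x, hx, hxz⟩ := hφQ2 z hz
        refine ⟨x, hx, ?_⟩
        show ψh ⟨φh ⟨x, _⟩, _⟩ = y
        rw [← hzy]
        congr 1
        apply Subtype.ext
        exact hxz
  · rintro P φ ⟨hφ, hPN, hφN, φh, hφh, hφhP, hφhQ⟩
    obtain ⟨hφQ1, hφQ2⟩ := (map_subgroupOf_eq_iff le_sup_right φh).mp hφhQ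
    obtain ⟨χ, hχ, hχφ⟩ := F.inv_mem hφ
    obtain ⟨χh, hχh, hχhφh⟩ := F.inv_mem hφh
    have hle : φ.range ⊔ Q ≤ φh.range := by
      apply sup_le
      · rintro _ ⟨x, rfl⟩
        exact ⟨Subgroup.inclusion le_sup_left x, hφhP x⟩
      · intro q hq
        obtain ⟨x, hx, hxq⟩ := hφQ2 q hq
        exact ⟨⟨x, (le_sup_right : Q ≤ P ⊔ Q) hx⟩, hxq⟩
    refine ⟨χ, ⟨hχ, ?_, ?_, χh.comp (Subgroup.inclusion hle), restrict_mem F hle hχh, ?_, ?_⟩, hχφ⟩
    · rintro _ ⟨x, rfl⟩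
      exact hφN x
    · rintro ⟨_, x, rfl⟩
      rw [hχφ]
      exact hPN x.2
    · rintro ⟨_, x, rfl⟩
      rw [hχφ x]
      show χh ⟨φ x, _⟩ = x
      have : (⟨φ x, hle ((le_sup_left : φ.range ≤ φ.range ⊔ Q) ⟨x, rfl⟩)⟩ : φh.range) =
          ⟨φh (Subgroup.inclusion le_sup_left x), ⟨_, rfl⟩⟩ := Subtype.ext (hφhP x).symm
      rw [this, hχhφh]
      rfl
    · rw [map_subgroupOf_eq_iff le_sup_right]
      constructor
      · intro q hq
        obtain ⟨x, hx, hxq⟩ := hφQ2 q hq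
        show χh ⟨q, _⟩ ∈ Q
        have : (⟨q, hle ((le_sup_right : Q ≤ φ.range ⊔ Q) hq)⟩ : φh.range) =
            ⟨φh ⟨x, (le_sup_right : Q ≤ P ⊔ Q) hx⟩, ⟨_, rfl⟩⟩ := Subtype.ext hxq.symm
        rw [this, hχhφh]
        exact hx
      · intro x hx
        refine ⟨φh ⟨x, (le_sup_right : Q ≤ P ⊔ Q) hx⟩, hφQ1 x hx, ?_⟩
        show χh ⟨φh ⟨x, _⟩, _⟩ = x
        rw [hχhφh]

end Cfsg.Agent.S5096
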