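import Cfsg.Statements.S5097
import Cfsg.Agent.Lib.Helper8_Fusion

set_option autoImplicit false
open Cfsg

namespace Cfsg.Agent.S5097

open Cfsg.Agent.Lib.Helper8_Fusion Cfsg.FusionSystem in
/-- For any fusion system over a subgroup S and any Q ≤ S, the maps of the centralizer system C_F(Q) — those maps between subgroups of C_S(Q) that extend to the subgroup generated with Q fixing Q elementwise — form a fusion system over C_S(Q). -/
theorem result {Ω : Type*} [Group Ω] {S : Subgroup Ω} (F : Cfsg.FusionSystem S) (Q : Subgroup Ω) (hQ : Q ≤ S) : ∃ E : Cfsg.FusionSystem (Cfsg.FusionSystem.centralizerIn S Q), F.IsCentralizerSystem Q E := by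
  refine ⟨{ Hom := fun P => F.centralizerHom Q P, le_of_mem := ?_, injective_of_mem := ?_,
            conj_mem := ?_, comp_mem := ?_, inv_mem := ?_ }, fun P => rfl⟩
  · rintro P φ ⟨-, h2, h3, -⟩
    exact ⟨h2, h3⟩
  · rintro P φ ⟨h1, -⟩
    exact F.injective_of_mem h1
  · intro P g hP hg
    have hgC : g ∈ Subgroup.centralizer (Q : Set Ω) := hg.2
    refine ⟨F.conj_mem (hP.trans inf_le_left) hg.1, hP, ?_, conjHom (P ⊔ Q) g,
      F.conj_mem (sup_le (hP.trans inf_le_left) hQ) hg.1, fun x => rfl, ?_⟩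
    · intro x
      show g * (x : Ω) * g⁻¹ ∈ centralizerIn S Q
      exact (centralizerIn S Q).mul_mem ((centralizerIn S Q).mul_mem hg (hP x.2))
        ((centralizerIn S Q).inv_mem hg)
    · intro x
      show g * (x : Ω) * g⁻¹ = x
      have := (Subgroup.mem_centralizer_iff.mp hgC) x x.2
      rw [← this]; group
  · rintro P P' φ ψ' ⟨hφ, hPN, hφN, φh, hφh, hφhP, hφhQ⟩ ⟨hψ', hP'N, hψ'N, ψh, hψh, hψhP, hψhQ⟩ h
    have vals : ∀ x : ↥(P ⊔ Q), φh x ∈ P' ⊔ Q := by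
      apply sup_vals φh
      · intro x hx
        have h2 : φh ⟨x, (le_sup_left : P ≤ P ⊔ Q) hx⟩ = φ ⟨x, hx⟩ := hφhP ⟨x, hx⟩
        rw [h2]
        exact h _
      · intro x hx
        have h2 : φh ⟨x, (le_sup_right : Q ≤ P ⊔ Q) hx⟩ = x := hφhQ ⟨x, hx⟩
        rw [h2]
        exact hx
    refine ⟨F.comp_mem hφ hψ' h, hPN, fun x => hψ'N _, ψh.comp (φh.codRestrict (P' ⊔ Q) vals),
      F.comp_mem hφh hψh vals, ?_, ?_⟩
    · intro x
      show ψh ⟨φh (Subgroup.inclusion le_sup_left x), _⟩ = ψ' ⟨φ x, h x⟩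
      rw [← hψhP ⟨φ x, h x⟩]
      congr 1
      apply Subtype.ext
      exact hφhP x
    · intro x
      show ψh ⟨φh (Subgroup.inclusion le_sup_right x), _⟩ = x
      rw [← hψhQ x]
      congr 1
      apply Subtype.ext
      exact hφhQ x
  · rintro P φ ⟨hφ, hPN, hφN, φh, hφh, hφhP, hφhQ⟩
    obtain ⟨χ, hχ, hχφ⟩ := F.inv_mem hφ
    obtain ⟨χh, hχh, hχhφh⟩ := F.inv_mem hφh
    have hle : φ.range ⊔ Q ≤ φh.range := by
      apply sup_le
      · rintro _ ⟨x, rfl⟩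
        exact ⟨Subgroup.inclusion le_sup_left x, hφhP x⟩
      · intro q hq
        exact ⟨⟨q, (le_sup_right : Q ≤ P ⊔ Q) hq⟩, hφhQ ⟨q, hq⟩⟩
    refine ⟨χ, ⟨hχ, ?_, ?_, χh.comp (Subgroup.inclusion hle), restrict_mem F hle hχh, ?_, ?_⟩, hχφ⟩
    · rintro _ ⟨x, rfl⟩
      exact hφN x
    · rintro ⟨_, x, rfl⟩
      rw [hχφ]
      exact hPN x.2
    · rintro ⟨_, x, rfl⟩
      rw [hχφ x]
      show χh ⟨φ x, _⟩ = x
      have : (⟨φ x, hle ((le_sup_left : φ.range ≤ φ.range ⊔ Q) ⟨x, rfl⟩)⟩ : φh.range) =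
          ⟨φh (Subgroup.inclusion le_sup_left x), ⟨_, rfl⟩⟩ := Subtype.ext (hφhP x).symm
      rw [this, hχhφh]
      rfl
    · intro q
      show χh ⟨(q : Ω), _⟩ = q
      have : (⟨(q : Ω), hle ((le_sup_right : Q ≤ φ.range ⊔ Q) q.2)⟩ : φh.range) =
          ⟨φh (Subgroup.inclusion le_sup_right q), ⟨_, rfl⟩⟩ := Subtype.ext (hφhQ q).symm
      rw [this, hχhφh]
      rfl

end Cfsg.Agent.S5097
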