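import Cfsg.Statements.S5102

set_option autoImplicit false
open Cfsg

namespace Cfsg.Agent.S5102

/-- A normal p-subgroup of a finite group G is normal in the fusion system of G on a Sylow p-subgroup. -/
theorem result {G : Type*} [Group G] [Finite G] (p : ℕ) [Fact p.Prime] (S : Sylow p G) (R : Subgroup G) [R.Normal] (hR : IsPGroup p R) : (Cfsg.groupFusionSystem (S : Subgroup G)).IsNormal R := by
  have hRS : R ≤ (S : Subgroup G) := by
    obtain ⟨Q, hQ⟩ := hR.exists_le_sylow
    obtain ⟨g, hg⟩ := MulAction.exists_smul_eq G Q S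
    -- R = g • R ≤ g • Q = S
    intro x hx
    have hx' : g⁻¹ * x * g⁻¹⁻¹ ∈ R := (inferInstance : R.Normal).conj_mem x hx g⁻¹
    have hxQ : g⁻¹ * x * g⁻¹⁻¹ ∈ (Q : Subgroup G) := hQ hx'
    have : x ∈ ((g • Q : Sylow p G) : Subgroup G) := by
      rw [Sylow.coe_subgroup_smul, Subgroup.mem_pointwise_smul_iff_inv_smul_mem]
      simpa [MulAut.smul_def] using hxQ
    rw [hg] at this
    exact this
  refine ⟨hRS, ?_⟩
  rintro P φ ⟨hP, hφS, g, hg⟩
  -- extension: conjugation by g on P ⊔ R
  have hPR : P ⊔ R ≤ (S : Subgroup G) := sup_le hP hRS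
  have hconjR : ∀ r ∈ R, g * r * g⁻¹ ∈ R := fun r hr => (inferInstance : R.Normal).conj_mem r hr g
  have hvals : ∀ x : ↥(P ⊔ R), g * (x : G) * g⁻¹ ∈ (S : Subgroup G) := by
    rintro ⟨x, hx⟩
    -- x ∈ P ⊔ R; the set of x with g x g⁻¹ ∈ S is a subgroup containing P and R
    have : P ⊔ R ≤ ((S : Subgroup G)).comap (MulAut.conj g).toMonoidHom := by
      apply sup_le
      · intro y hy
        have := hφS ⟨y, hy⟩
        rw [hg] at this
        simpa using this
      · intro y hy
        have := hRS (hconjR y hy)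
        simpa using this
    have := this hx
    simpa using this
  refine ⟨conjHom (P ⊔ R) g, ⟨hPR, hvals, g, fun x => rfl⟩, ?_, ?_⟩
  · intro x
    rw [hg]
    rfl
  · ext y
    constructor
    · rintro ⟨⟨x, hx⟩, hxR, rfl⟩
      exact hconjR x hxR
    · intro hy
      refine ⟨⟨g⁻¹ * y * g, ?_⟩, ?_, ?_⟩
      · apply (le_sup_right : R ≤ P ⊔ R)
        have := (inferInstance : R.Normal).conj_mem y hy g⁻¹
        simpa using this
      · show g⁻¹ * y * g ∈ R
        have := (inferInstance : R.Normal).conj_mem y hy g⁻¹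
        simpa using this
      · show g * (g⁻¹ * y * g) * g⁻¹ = y
        group

end Cfsg.Agent.S5102
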