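import Cfsg.Statements.S5104

set_option autoImplicit false
open Cfsg

namespace Cfsg.Agent.S5104

open Cfsg.FusionSystem in
/-- Extension of an isomorphism onto a receptive subgroup to `Q C_S(Q)`. -/
theorem extend_to_centralizer {Ω : Type*} [Group Ω] {S : Subgroup Ω} (F : Cfsg.FusionSystem S)
    {Q R : Subgroup Ω} (hR : F.IsReceptive R) (χ : Q →* Ω) (hχ : χ ∈ F.Hom Q) (hχr : χ.range = R) :
    ∃ (N : Subgroup Ω) (ψ : N →* Ω), ψ ∈ F.Hom N ∧ ∃ (hQN : Q ≤ N) (hCN : centralizerIn S Q ≤ N),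
      (∀ x : Q, ψ ⟨(x : Ω), hQN x.2⟩ = χ x) ∧
      ∀ c : centralizerIn S Q, ψ ⟨(c : Ω), hCN c.2⟩ ∈ centralizerIn S R := by
  obtain ⟨hRS, hrec⟩ := hR
  have hQS : Q ≤ S := (F.le_of_mem hχ).1
  obtain ⟨ψ, hψ, hψχ⟩ := hrec Q χ hχ hχr
  have hCN : centralizerIn S Q ≤ extender S Q χ := by
    intro g hg
    obtain ⟨hgS, hgC⟩ := hg
    apply Subgroup.subset_closure
    refine ⟨hgS, Subgroup.centralizer_le_normalizer _ hgC, 1, S.one_mem, ?_⟩
    intro x hx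
    have hcomm : (x : Ω) * g = g * (x : Ω) := (Subgroup.mem_centralizer_iff.mp hgC) x x.2
    have : (⟨g * (x : Ω) * g⁻¹, hx⟩ : Q) = x := by
      apply Subtype.ext
      show g * (x : Ω) * g⁻¹ = x
      rw [← hcomm]; group
    rw [this]; simp
  have hQN : Q ≤ extender S Q χ := by
    intro g hg
    apply Subgroup.subset_closure
    refine ⟨hQS hg, Subgroup.le_normalizer hg, χ ⟨g, hg⟩, (F.le_of_mem hχ).2 _, ?_⟩
    intro x hx
    have : (⟨g * (x : Ω) * g⁻¹, hx⟩ : Q) = ⟨g, hg⟩ * x * ⟨g, hg⟩⁻¹ := by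
      apply Subtype.ext
      rfl
    rw [this, map_mul, map_mul, map_inv]
  refine ⟨extender S Q χ, ψ, hψ, hQN, hCN, ?_, ?_⟩
  · intro x
    exact hψχ (x : Ω) x.2 (hQN x.2)
  · intro c
    refine ⟨(F.le_of_mem hψ).2 _, ?_⟩
    show ψ ⟨(c : Ω), hCN c.2⟩ ∈ Subgroup.centralizer (R : Set Ω)
    rw [Subgroup.mem_centralizer_iff]
    intro y hy
    have hy' : y ∈ χ.range := by rw [hχr]; exact hy
    obtain ⟨q, rfl⟩ := hy'
    have h1 : ψ ⟨(q : Ω), hQN q.2⟩ = χ q := hψχ (q : Ω) q.2 (hQN q.2)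
    have hcomm : (q : Ω) * (c : Ω) = (c : Ω) * (q : Ω) :=
      (Subgroup.mem_centralizer_iff.mp c.2.2) _ q.2
    have h2 : (⟨(q : Ω), hQN q.2⟩ : ↥(extender S Q χ)) * ⟨(c : Ω), hCN c.2⟩ =
        ⟨(c : Ω), hCN c.2⟩ * ⟨(q : Ω), hQN q.2⟩ := by
      apply Subtype.ext
      exact hcomm
    have h3 := congrArg ψ h2
    rw [map_mul, map_mul, h1] at h3
    exact h3

open Cfsg.FusionSystem in
/-- In a saturated fusion system over a finite p-group S, a fully centralized subgroup U with C_S(U) ≤ U is centric. -/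
theorem result {Ω : Type*} [Group Ω] {S : Subgroup Ω} [Finite S] (p : ℕ) [Fact p.Prime] (hS : IsPGroup p S) (F : Cfsg.FusionSystem S) (hF : F.IsSaturated p) (U : Subgroup Ω) (hU : F.IsFullyCentralized U) (hC : Cfsg.FusionSystem.centralizerIn S U ≤ U) : F.IsCentric U := by
  obtain ⟨hUS, hUfc⟩ := hU
  refine ⟨hUS, ?_⟩
  obtain ⟨R, ⟨φR, hφR, hφRr⟩, -, hRrec⟩ := hF U hUS
  have hfinC : ∀ P : Subgroup Ω, Finite ↥(centralizerIn S P) := fun P =>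
    Finite.of_injective (Subgroup.inclusion (inf_le_left : centralizerIn S P ≤ S))
      (Subgroup.inclusion_injective _)
  -- Step (a),(b): C_S(R) ≤ R
  have hCR : centralizerIn S R ≤ R := by
    obtain ⟨N, ψ, hψ, hUN, hCN, hψU, hψC⟩ := extend_to_centralizer F hRrec φR hφR hφRr
    have hψinj : Function.Injective ψ := F.injective_of_mem hψ
    let f : centralizerIn S U → centralizerIn S R := fun c => ⟨ψ ⟨(c : Ω), hCN c.2⟩, hψC c⟩
    have hfinj : Function.Injective f := by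
      intro c d hcd
      have h1 : ψ ⟨(c : Ω), hCN c.2⟩ = ψ ⟨(d : Ω), hCN d.2⟩ := congrArg Subtype.val hcd
      have h2 := hψinj h1
      apply Subtype.ext
      have h3 : ((⟨(c : Ω), hCN c.2⟩ : N) : Ω) = ((⟨(d : Ω), hCN d.2⟩ : N) : Ω) := by rw [h2]
      exact h3
    haveI := hfinC R
    have hfbij : Function.Bijective f :=
      hfinj.bijective_of_nat_card_le (hUfc R ⟨φR, hφR, hφRr⟩)
    intro c' hc'
    obtain ⟨c, hc⟩ := hfbij.2 ⟨c', hc'⟩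
    have h1 : ψ ⟨(c : Ω), hCN c.2⟩ = c' := congrArg Subtype.val hc
    have hcU : (c : Ω) ∈ U := hC c.2
    have h2 : ψ ⟨(c : Ω), hCN c.2⟩ = φR ⟨(c : Ω), hcU⟩ := hψU ⟨(c : Ω), hcU⟩
    rw [← h1, h2, ← hφRr]
    exact ⟨_, rfl⟩
  -- Step (c)
  rintro Q ⟨φ, hφ, hφr⟩
  subst hφr
  obtain ⟨χ₀, hχ₀, hχ₀φ⟩ := F.inv_mem hφ
  have hχ₀U : ∀ x : φ.range, χ₀ x ∈ U := by
    rintro ⟨_, x, rfl⟩
    rw [hχ₀φ x]; exact x.2
  have hχ := F.comp_mem hχ₀ hφR hχ₀U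
  have hχr : (φR.comp (χ₀.codRestrict U hχ₀U)).range = R := by
    rw [← hφRr]
    ext y
    constructor
    · rintro ⟨x, rfl⟩
      exact ⟨_, rfl⟩
    · rintro ⟨u, rfl⟩
      refine ⟨⟨φ u, u, rfl⟩, ?_⟩
      show φR ⟨χ₀ ⟨φ u, _⟩, _⟩ = φR u
      congr 1
      apply Subtype.ext
      exact hχ₀φ u
  obtain ⟨N, ψ, hψ, hQN, hCN, hψQ, hψC⟩ := extend_to_centralizer F hRrec _ hχ hχr
  have hψinj : Function.Injective ψ := F.injective_of_mem hψ
  intro c hc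
  have h1 : ψ ⟨c, hCN hc⟩ ∈ R := hCR (hψC ⟨c, hc⟩)
  rw [← hχr] at h1
  obtain ⟨q, hq⟩ := h1
  rw [← hψQ q] at hq
  have h2 := hψinj hq
  have h3 : (q : Ω) = c := congrArg Subtype.val h2
  rw [← h3]
  exact q.2

end Cfsg.Agent.S5104
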