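import Cfsg.Statements.S5107
import Cfsg.Agent.S5076
import Cfsg.Agent.S5088
import Cfsg.Agent.Lib.Helper8_GroupFusion

set_option autoImplicit false
open Cfsg

namespace Cfsg.Agent.S5107

/-- If a Sylow p-subgroup S of a finite group G has nilpotency class at most two and its centre is strongly closed in S with respect to G, then every map of the fusion system of G on S is conjugation by an element of N_G(S), and S is the largest subgroup normal in that fusion system. -/
theorem result {G : Type*} [Group G] [Finite G] (p : ℕ) [Fact p.Prime] (S : Sylow p G) (hcl : ⁅(S : Subgroup G), (S : Subgroup G)⁆ ≤ (S : Subgroup G) ⊓ Subgroup.centralizer ((S : Subgroup G) : Set G)) (hZ : Cfsg.IsStronglyClosed ((S : Subgroup G) ⊓ Subgroup.centralizer ((S : Subgroup G) : Set G)) (S : Subgroup G)) : (∀ (P : Subgroup G) (φ : P →* G), φ ∈ (Cfsg.groupFusionSystem (S : Subgroup G)).Hom P → ∃ g ∈ Subgroup.normalizer ((S : Subgroup G) : Set G), ∀ x : P, φ x = g * (x : G) * g⁻¹) ∧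 (Cfsg.groupFusionSystem (S : Subgroup G)).core = S := by
  open Cfsg.Agent.Lib.Helper8_GroupFusion in
  obtain ⟨F, hFdef⟩ : ∃ F, F = Cfsg.groupFusionSystem (S : Subgroup G) := ⟨_, rfl⟩
  rw [← hFdef]
  have hSp : IsPGroup p (S : Subgroup G) := S.isPGroup'
  have hsat : F.IsSaturated p := by rw [hFdef]; exact Cfsg.Agent.S5076.result p S
  obtain ⟨Z, hZdef⟩ : ∃ Z, Z = (S : Subgroup G) ⊓ Subgroup.centralizer ((S : Subgroup G) : Set G) :=
    ⟨_, rfl⟩
  rw [← hZdef] at hcl hZ
  have hmem : ∀ (P : Subgroup G) (φ : P →* G), φ ∈ F.Hom P ↔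
      P ≤ (S : Subgroup G) ∧ (∀ x : P, φ x ∈ (S : Subgroup G)) ∧ ∃ g : G, ∀ x : P, φ x = g * (x : G) * g⁻¹ := by
    intro P φ
    rw [hFdef]; rfl
  have hZsc : F.StronglyClosed Z := by
    refine ⟨hZ.1, ?_⟩
    intro R hR φ hφ x
    obtain ⟨hRS, hφS, g, hg⟩ := (hmem R φ).mp hφ
    have := hZ.2 x (hR x.2) g (by rw [← hg x]; exact hφS x)
    rw [hg x]; exact this
  have hSsc : F.StronglyClosed (S : Subgroup G) :=
    ⟨le_rfl, fun R hR φ hφ x => (F.le_of_mem hφ).2 x⟩
  have hnorm : F.IsNormal (S : Subgroup G) := by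
    rw [Cfsg.Agent.S5088.result p hSp F hsat]
    refine ⟨2, ![⊥, Z, (S : Subgroup G)], rfl, rfl, ?_, ?_⟩
    · intro a b hab
      fin_cases a <;> fin_cases b <;>
        first | exact bot_le | exact le_rfl | exact hZ.1 | (exfalso; simp at hab)
    · intro i
      fin_cases i
      · refine ⟨hZsc, ?_⟩
        show ⁅(S : Subgroup G), Z⁆ ≤ ⊥
        rw [Subgroup.commutator_le]
        intro s hs z hz
        rw [Subgroup.mem_bot, commutatorElement_def]
        rw [hZdef] at hz
        have := Subgroup.mem_centralizer_iff.mp hz.2 s hs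
        rw [this]; group
      · exact ⟨hSsc, hcl⟩
  constructor
  · intro P φ hφ
    obtain ⟨ψ, hψ, hψφ, hψS⟩ := hnorm.2 P φ hφ
    obtain ⟨-, -, g, hg⟩ := (hmem _ ψ).mp hψ
    refine ⟨g, ?_, fun x => ?_⟩
    · apply mem_normalizer_of_cj_eq
      apply Subgroup.eq_of_le_of_card_ge _ (card_cj _ _).ge
      rintro _ ⟨s, hs, rfl⟩
      show (MulAut.conj g) s ∈ _
      rw [MulAut.conj_apply]
      have h1 : ψ ⟨s, (le_sup_right : (S : Subgroup G) ≤ P ⊔ S) hs⟩ ∈
          ((S : Subgroup G).subgroupOf (P ⊔ S)).map ψ := ⟨_, hs, rfl⟩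
      rw [hψS, hg] at h1
      exact h1
    · rw [← hψφ x, hg]
      rfl
  · apply le_antisymm
    · apply sSup_le
      intro Q hQ
      exact hQ.1
    · exact le_sSup hnorm

end Cfsg.Agent.S5107
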