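import Cfsg.Statements.S5112
import Cfsg.Agent.Lib.Helper8_AutTwo
import Cfsg.Agent.Lib.Helper8_Abelian

set_option autoImplicit false
open Cfsg

namespace Cfsg.Agent.S5112

/-- If S is a dihedral or generalized quaternion 2-group of order at least 16, then in every saturated fusion system over S (at the prime 2) the automorphism group Aut_F(S) consists of the inner automorphisms of S. -/
theorem result {Ω : Type*} [Group Ω] {S : Subgroup Ω} [Finite S] (n : ℕ) (hn : 4 ≤ n) (hshape : Nonempty (S ≃* DihedralGroup (2 ^ (n - 1))) ∨ Nonempty (S ≃* QuaternionGroup (2 ^ (n - 2)))) (F : Cfsg.FusionSystem S) (hF : F.IsSaturated 2) : F.autGroup S = Cfsg.Inn S := by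
  open Cfsg.FusionSystem Cfsg.Agent.Helper8AutTwo Cfsg.Agent.Lib.Helper8_Abelian
    Cfsg.Agent.Lib.Helper8_Saturated Cfsg.Agent.Lib.Helper8_Alperin
    Cfsg.Agent.Lib.Helper8_Hyperfocal in
  have hAut : IsPGroup 2 (MulAut S) ∧ IsPGroup 2 S := by
    rcases hshape with ⟨⟨e⟩⟩ | ⟨⟨e⟩⟩
    · refine ⟨(isPGroup_mulAut_dihedral n hn).of_equiv (MulAut.congr e).symm, ?_⟩
      have h1 : IsPGroup 2 (DihedralGroup (2 ^ (n - 1))) := by
        apply IsPGroup.of_card (n := n)
        rw [DihedralGroup.nat_card, ← pow_succ']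
        congr 1
        omega
      exact h1.of_equiv e.symm
    · refine ⟨(isPGroup_mulAut_quaternion n hn).of_equiv (MulAut.congr e).symm, ?_⟩
      have h1 : IsPGroup 2 (QuaternionGroup (2 ^ (n - 2))) := by
        have : NeZero (2 ^ (n - 2)) := ⟨by positivity⟩
        apply IsPGroup.of_card (n := n)
        rw [Nat.card_eq_fintype_card, QuaternionGroup.card]
        have : n = (n - 2) + 2 := by omega
        conv_rhs => rw [this, pow_add]
        ring
      exact h1.of_equiv e.symm
  obtain ⟨hAutS, hS⟩ := hAut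
  obtain ⟨-, -, P₀, hP₀⟩ := fullyNormalized_facts hS F hF (top_fullyNormalized F)
  rw [autInducedBy_top_eq_inn] at hP₀
  have hAF : IsPGroup 2 (F.autGroup S) := hAutS.to_subgroup _
  have htop : (⊤ : Subgroup (F.autGroup S)) = P₀ :=
    P₀.is_maximal' (hAF.to_subgroup ⊤) le_top
  apply le_antisymm
  · intro α hα
    have h1 : (⟨α, hα⟩ : F.autGroup S) ∈ (P₀ : Subgroup (F.autGroup S)) := by
      rw [← htop]
      exact Subgroup.mem_top _
    rw [hP₀, Subgroup.mem_subgroupOf] at h1
    exact h1
  · exact (inn_le_autInducedBy le_rfl).trans (autInducedBy_le_autGroup F le_rfl)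

end Cfsg.Agent.S5112
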