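import Cfsg.Statements.S5120
import Cfsg.Agent.Lib.Helper8_PPowerNormal3

set_option autoImplicit false
open Cfsg

namespace Cfsg.Agent.S5120

/-- Let F be a saturated fusion system over a finite p-group S and T a subgroup of S containing the hyperfocal subgroup of F and normal in S. Then every saturated subsystem of F over T of p-power index is a normal subsystem of F. -/
theorem result {Ω : Type*} [Group Ω] {S : Subgroup Ω} [Finite S] (p : ℕ) [Fact p.Prime] (hS : IsPGroup p S) (F : Cfsg.FusionSystem S) (hF : F.IsSaturated p) (T : Subgroup Ω) (hTS : T ≤ S) (hTn : (T.subgroupOf S).Normal) (hT : F.hyperfocalSubgroup p ≤ T) (E : Cfsg.FusionSystem T) (hEs : E.IsSaturated p) (hEi : E.HasPPowerIndexIn F p) : E.IsNormalIn F p := by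
  open Cfsg.Agent.Lib.Helper8_PPowerNormal1 Cfsg.Agent.Lib.Helper8_PPowerNormal2
    Cfsg.Agent.Lib.Helper8_PPowerNormal3 Cfsg.Agent.Lib.Helper8_StrongInv in
  have hTsc := over_hyperfocal_stronglyClosed hS F hF hTS hTn hT
  have hinv := autInv_of_pPowerIndex hS F hTS E hEs hEi
  refine ⟨⟨hEs, hF, hEi.1, hTsc, hinv, ?_⟩, ?_⟩
  · intro P hPT φ hφ
    have h1 := frattini_of_pPowerIndex hS F hF hTS hTn hT E hEi hinv P φ hφ P le_rfl hPT
    have h2 : φ.comp (Subgroup.inclusion (le_refl P)) = φ := by
      ext x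
      rfl
    rw [h2] at h1
    exact ((mem_decSystem F E hTS hinv).mp h1).2
  · exact extension_of_pPowerIndex hS F hF hTsc hT E hEs hEi.1

end Cfsg.Agent.S5120
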