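import Cfsg.Statements.S5125
import Cfsg.Agent.Lib.Helper8_Chain
import Cfsg.Agent.Lib.Helper8_Abelian2

set_option autoImplicit false
open Cfsg

namespace Cfsg.Agent.S5125

/-- Let F be a saturated fusion system over a finite p-group S and Q a subgroup strongly closed in F. If Q has a subgroup Q₁ that is normal in F, with Q/Q₁ abelian and Aut_F(Q₁) a p-group, then Q is normal in F. -/
theorem result {Ω : Type*} [Group Ω] {S : Subgroup Ω} [Finite S] (p : ℕ) [Fact p.Prime] (hS : IsPGroup p S) (F : Cfsg.FusionSystem S) (hF : F.IsSaturated p) (Q Q₁ : Subgroup Ω) (hQ : F.StronglyClosed Q) (hQ₁Q : Q₁ ≤ Q) (hQ₁ : F.IsNormal Q₁) (hab : ⁅Q, Q⁆ ≤ Q₁) (hAut : IsPGroup p ↥(F.autGroup Q₁)) : F.IsNormal Q := by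
  open scoped commutatorElement in
  open Cfsg.Agent.Lib.Helper8_Fusion Cfsg.Agent.Lib.Helper8_Saturated Cfsg.Agent.Lib.Helper8_Alperin Cfsg.Agent.Lib.Helper8_Chain Cfsg.Agent.Lib.Helper8_Abelian2 in
  have hQ₁sc : F.StronglyClosed Q₁ := stronglyClosed_of_isNormal F hQ₁
  refine (Cfsg.Agent.S5086.result p hS F hF Q).mpr ⟨hQ, fun P hPc hPr => ?_⟩
  have hPS : P ≤ S := hPc.1
  have hQ₁P : Q₁ ≤ P := normal_le_of_centric_radical hS F hQ₁ hPc hPr
  refine le_of_chain hS F hQ.1 (fun s hs r hr => conj_mem_of_stronglyClosed F hQ hs hr)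
    hPc hPr 1 ![Q₁, Q] rfl ?_ ?_ ?_
  · intro j β hβ x hx
    fin_cases j
    · exact aut_mem_of_stronglyClosed F hQ₁sc hPS hβ hx
    · exact aut_mem_of_stronglyClosed F hQ hPS hβ hx
  · intro i x hx r hr
    fin_cases i
    have hx' : x ∈ Q := hx
    have h1 : ⁅x⁻¹, r⁆ ∈ ⁅Q, Q⁆ :=
      Subgroup.commutator_mem_commutator (Subgroup.inv_mem _ hx') hr
    have h3 : ⁅x⁻¹, r⁆ = x⁻¹ * (r * x * r⁻¹) := by
      rw [commutatorElement_def]; group
    rw [← h3]
    exact hab h1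
  · intro β hβ m hm hβm _ _ x hx
    have hx' : (x : Ω) ∈ Q₁ := hx
    have hβ' : β ∈ Iso F P P := (mem_autGroup_iff F hPS β).mp hβ
    have himg := map_eq_of_stronglyClosed F hQ₁sc hQ₁P hβ'
    have he := restrictEquiv_mem F hβ' hQ₁P himg
    set β₁ : MulAut Q₁ := restrictEquiv _ (F.injective_of_mem hβ') hQ₁P himg with hβ₁
    have hβ₁A : β₁ ∈ F.autGroup Q₁ := (mem_autGroup_iff F hQ₁.1 _).mpr he
    have hstep : ∀ y : Q₁, Subgroup.inclusion hQ₁P (β₁ y) = β (Subgroup.inclusion hQ₁P y) := by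
      intro y
      apply Subtype.ext
      rfl
    have hpow : ∀ (k : ℕ) (y : Q₁), Subgroup.inclusion hQ₁P ((β₁ ^ k) y) =
        (β ^ k) (Subgroup.inclusion hQ₁P y) := by
      intro k
      induction k with
      | zero => intro y; simp
      | succ k ih =>
        intro y
        rw [pow_succ, MulAut.mul_apply, ih, hstep, pow_succ, MulAut.mul_apply]
    have hβ₁m : β₁ ^ m = 1 := by
      ext y
      have := hpow m y
      rw [hβm] at this
      exact congrArg (fun z : P => (z : Ω)) this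
    obtain ⟨k, hk⟩ := hAut ⟨β₁, hβ₁A⟩
    have hk' : β₁ ^ p ^ k = 1 := congrArg (fun z : F.autGroup Q₁ => (z : MulAut Q₁)) hk
    have h3 : β₁ ^ Nat.gcd m (p ^ k) = 1 := pow_gcd_eq_one.mpr ⟨hβ₁m, hk'⟩
    have h4 : Nat.gcd m (p ^ k) = 1 := Nat.Coprime.pow_right k hm
    rw [h4, pow_one] at h3
    have h5 := hstep ⟨x, hx'⟩
    rw [h3] at h5
    exact h5.symm

end Cfsg.Agent.S5125
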