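import Cfsg.Statements.S5126
import Cfsg.Agent.Lib.Helper8_KNorm5
import Cfsg.Agent.Lib.Helper8_Model
import Cfsg.Agent.S5098

set_option autoImplicit false
open Cfsg

namespace Cfsg.Agent.S5126

/-- In a saturated fusion system over a finite p-group S, the normalizer system of a fully normalized, centric, radical subgroup R is constrained, and in every model of that normalizer system the largest normal p-subgroup is the image of R. -/
theorem result {Ω : Type*} [Group Ω] {S : Subgroup Ω} [Finite S] (p : ℕ) [Fact p.Prime] (hS : IsPGroup p S) (F : Cfsg.FusionSystem S) (hF : F.IsSaturated p) (R : Subgroup Ω) (hRn : F.IsFullyNormalized R) (hRc : F.IsCentric R) (hRr : F.IsRadical p R) (E : Cfsg.FusionSystem (Cfsg.FusionSystem.normalizerIn S R)) (hE : F.IsNormalizerSystem R E) {G : Type*} [Group G] (ι : ↥(Cfsg.FusionSystem.normalizerIn S R) →* G) : E.IsConstrained p ∧ (E.IsModel p G ι → (Cfsg.pCore p G : Subgroup G) = (R.subgroupOf (Cfsg.FusionSystem.normalizerIn S R)).map ι) := by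
  open Cfsg.FusionSystem Cfsg.Agent.Lib.Helper8_Fusion Cfsg.Agent.Lib.Helper8_Factor
    Cfsg.Agent.Lib.Helper8_Saturated Cfsg.Agent.Lib.Helper8_Alperin
    Cfsg.Agent.Lib.Helper8_Constrained Cfsg.Agent.Lib.Helper8_KNorm3
    Cfsg.Agent.Lib.Helper8_Model Cfsg.Agent.Lib.Helper4_PCore in
  have hRS : R ≤ S := hRn.1
  have hRN : R ≤ normalizerIn S R := le_normalizerIn hRS
  haveI : Finite (normalizerIn S R) := finite_normalizerIn R
  have hN : IsPGroup p (normalizerIn S R) := hS.to_le inf_le_left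
  have hEsat : E.IsSaturated p := Cfsg.Agent.S5098.result p hS F hF R hRn E hE
  have hEnormal : E.IsNormal R := by
    refine ⟨hRN, ?_⟩
    intro P φ hφ
    rw [hE P] at hφ
    obtain ⟨hφF, hPN, hφN, ψ, hψ, hψP, hψR⟩ := hφ
    refine ⟨ψ, ?_, hψP, hψR⟩
    rw [hE]
    have hle : (P ⊔ R) ⊔ R ≤ P ⊔ R := sup_le le_rfl le_sup_right
    refine ⟨hψ, sup_le hPN hRN,
      map_normalizer_vals F hψ le_sup_right (sup_le hPN hRN) hψR,
      ψ.comp (Subgroup.inclusion hle), restrict_mem F hle hψ, fun x => rfl, ?_⟩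
    rw [map_subgroupOf_restrict hle le_sup_right ψ]
    exact hψR
  have hEcentric : E.IsCentric R := by
    refine ⟨hRN, ?_⟩
    rintro Q' ⟨φ, hφ, rfl⟩
    rw [range_eq_of_isNormal E hEnormal hφ]
    intro x hx
    exact hRc.2 R (isConj_refl F hRS) ⟨hx.1.1, hx.2⟩
  have hEaut : E.autGroup R = F.autGroup R := by
    ext α
    rw [mem_autGroup_iff E hRN, mem_autGroup_iff F hRS]
    show (R.subtype.comp α.toMonoidHom ∈ E.Hom R) ↔ (R.subtype.comp α.toMonoidHom ∈ F.Hom R)
    rw [hE]
    constructor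
    · intro h; exact h.1
    · intro h
      have hle : R ⊔ R ≤ R := sup_le le_rfl le_rfl
      refine ⟨h, hRN, fun x => hRN (α x).2,
        (R.subtype.comp α.toMonoidHom).comp (Subgroup.inclusion hle), restrict_mem F hle h,
        fun x => rfl, ?_⟩
      rw [map_subgroupOf_restrict hle le_sup_right, Subgroup.subgroupOf_self,
        ← MonoidHom.range_eq_map, range_subtype_comp]
  have hEradical : E.IsRadical p R := by
    refine ⟨hRN, ?_⟩
    rw [hEaut]
    exact hRr.2
  refine ⟨⟨hEsat, R, hEnormal, hEcentric⟩, ?_⟩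
  intro hG
  have h1 : E.IsNormal (preimageAlong ι (pCore p G)) := preimage_pCore_isNormal hN hG
  have h2 : preimageAlong ι (pCore p G) ≤ R :=
    normal_le_of_centric_radical hN E h1 hEcentric hEradical
  have h3 := map_le_pCore_of_isNormal hN hG hEnormal h2
  apply le_antisymm _ h3
  obtain ⟨hfin, hreal, ⟨T, hTeq⟩, hcent⟩ := hG
  have hOT : pCore p G ≤ ι.range := by rw [← hTeq]; exact pCore_le_sylow T
  intro x hx
  obtain ⟨s, rfl⟩ := hOT hx
  have hs : (s : Ω) ∈ preimageAlong ι (pCore p G) := (mem_preimageAlong ι _ s.2).mpr hx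
  exact ⟨s, by simpa [Subgroup.mem_subgroupOf] using h2 hs, rfl⟩

end Cfsg.Agent.S5126
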