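import Cfsg.Statements.S5128
import Cfsg.Agent.Lib.Helper8_Morphism

set_option autoImplicit false
open Cfsg

namespace Cfsg.Agent.S5128

/-- In a saturated fusion system over a finite p-group S, the product of two strongly closed subgroups is strongly closed. -/
theorem result {Ω : Type*} [Group Ω] {S : Subgroup Ω} [Finite S] (p : ℕ) [Fact p.Prime] (hS : IsPGroup p S) (F : Cfsg.FusionSystem S) (hF : F.IsSaturated p) (T₁ T₂ : Subgroup Ω) (h₁ : F.StronglyClosed T₁) (h₂ : F.StronglyClosed T₂) : F.StronglyClosed (T₁ ⊔ T₂) := by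
  open Cfsg.FusionSystem Cfsg.Agent.Lib.Helper8_Fusion Cfsg.Agent.Lib.Helper8_Factor Cfsg.Agent.Lib.Helper8_Morphism Cfsg.Agent.Lib.Helper8_Chain in
  have hnorm : (T₁.subgroupOf S).Normal := by
    refine ⟨fun n hn g => ?_⟩
    rw [Subgroup.mem_subgroupOf] at hn ⊢
    exact conj_mem_of_stronglyClosed F h₁ g.2 hn
  let θ : S →* S ⧸ T₁.subgroupOf S := QuotientGroup.mk' (T₁.subgroupOf S)
  have hker : ∀ s : S, θ s = 1 ↔ (s : Ω) ∈ T₁ := by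
    intro s
    rw [QuotientGroup.mk'_apply, QuotientGroup.eq_one_iff, Subgroup.mem_subgroupOf]
  have hrange : θ.range = (⊤ : Subgroup (S ⧸ T₁.subgroupOf S)) :=
    MonoidHom.range_eq_top.mpr (QuotientGroup.mk'_surjective _)
  let E := factorSystem h₁ hker hrange
  have hE : F.IsFactorSystem T₁ θ E := factorSystem_isFactorSystem h₁ hker hrange
  have hmor := factor_isMorphism hS F hF h₁ hE
  have hsupS : T₁ ⊔ T₂ ≤ S := sup_le h₁.1 h₂.1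
  refine ⟨hsupS, ?_⟩
  intro R hR φ hφ x
  obtain ⟨φ', hφ', hRS, hval, hmap, hind⟩ := hmor.2 R φ hφ
  obtain ⟨-, ψ, hψ, hPψ, hvalψ, hmapψ, hindψ⟩ := (hE.2.2.2 _ φ').mp hφ'
  have hM : T₁ ⊔ T₂ ≤ preimageAlong θ (imageAlong θ T₂) :=
    sup_le (kernel_le_preimage hker h₁.1 _) (fun y hy => by
      rw [mem_preimageAlong θ _ (h₂.1 hy)]; exact map_mem_imageAlong θ h₂.1 ⟨y, hy⟩)
  have hx1 : θ ⟨x, hRS x.2⟩ ∈ imageAlong θ T₂ := (mem_preimageAlong θ _ _).mp (hM (hR x.2))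
  obtain ⟨t, ht⟩ := exists_of_mem_imageAlong θ h₂.1 hx1
  have htpre : (t : Ω) ∈ preimageAlong θ (imageAlong θ R) := by
    rw [mem_preimageAlong θ _ (h₂.1 t.2), ht]; exact map_mem_imageAlong θ hRS x
  have h3 : ψ ⟨t, htpre⟩ ∈ T₂ :=
    h₂.2 (preimageAlong θ (imageAlong θ R) ⊓ T₂) inf_le_right _ (restrict_mem F inf_le_left hψ)
      ⟨t, ⟨htpre, t.2⟩⟩
  have h4 : θ ⟨φ x, hval x⟩ = θ ⟨ψ ⟨t, htpre⟩, hvalψ _⟩ := by
    rw [← hind x, ← hindψ ⟨t, htpre⟩]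
    congr 1
    exact Subtype.ext ht.symm
  have h5 : θ ((⟨ψ ⟨t, htpre⟩, hvalψ _⟩ : S)⁻¹ * ⟨φ x, hval x⟩) = 1 := by
    rw [map_mul, map_inv, h4, inv_mul_cancel]
  have h6 : (ψ ⟨t, htpre⟩)⁻¹ * φ x ∈ T₁ := (hker _).mp h5
  have h7 : φ x = ψ ⟨t, htpre⟩ * ((ψ ⟨t, htpre⟩)⁻¹ * φ x) := by group
  rw [h7]
  exact Subgroup.mul_mem _ (Subgroup.mem_sup_right h3) (Subgroup.mem_sup_left h6)

end Cfsg.Agent.S5128
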