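import Cfsg.Statements.S5131

set_option autoImplicit false
open Cfsg

namespace Cfsg.Agent.S5131

/-- Let F be a fusion system over a finite p-group S and F' a fusion system over S'. If α : S → S' is a morphism of fusion systems from F to F' (every map of F induces along α a map of F'), then the kernel of α is strongly closed in S with respect to F. -/
theorem result {Ω : Type*} [Group Ω] {S : Subgroup Ω} [Finite S] (p : ℕ) [Fact p.Prime] (hS : IsPGroup p S) (F : Cfsg.FusionSystem S) {Ω' : Type*} [Group Ω'] {S' : Subgroup Ω'} (F' : Cfsg.FusionSystem S') (α : S →* Ω') (hα : F.IsMorphism F' α) : F.StronglyClosed ((α.ker).map S.subtype) := by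
  have hmemK : ∀ y : Ω, y ∈ (α.ker).map S.subtype ↔ ∃ hy : y ∈ S, α ⟨y, hy⟩ = 1 := by
    intro y
    constructor
    · rintro ⟨s, hs, rfl⟩
      exact ⟨s.2, hs⟩
    · rintro ⟨hy, h⟩
      exact ⟨⟨y, hy⟩, h, rfl⟩
  refine ⟨?_, ?_⟩
  · intro y hy
    obtain ⟨hyS, -⟩ := (hmemK y).mp hy
    exact hyS
  · intro R hR φ hφ x
    obtain ⟨φ', hφ', hP, hφS, hP', hind⟩ := hα.2 R φ hφ
    rw [hmemK]
    refine ⟨hφS x, ?_⟩
    rw [← hind x]
    obtain ⟨hxS, hx1⟩ := (hmemK (x : Ω)).mp (hR x.2)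
    have : (⟨α ⟨(x : Ω), hP x.2⟩, hP' x⟩ : ↥(FusionSystem.imageAlong α R)) = 1 := by
      apply Subtype.ext
      show α ⟨(x : Ω), hP x.2⟩ = 1
      exact hx1
    rw [this, map_one]

end Cfsg.Agent.S5131
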