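import Cfsg.Statements.S5135
import Cfsg.Agent.Lib.Helper8_GroupFusion
import Cfsg.Agent.Lib.Helper8_Factor

set_option autoImplicit false
open Cfsg

namespace Cfsg.Agent.S5135

open Cfsg.Agent.Lib.Helper8_GroupFusion Cfsg.Agent.Lib.Helper8_Factor Cfsg.FusionSystem

/-- A `p`-subgroup of `S H` (`S` Sylow in `G`, `H` normal) is conjugate into `S` by an element of `H`. -/
theorem exists_conj_le {G : Type*} [Group G] [Finite G] (p : ℕ) [Fact p.Prime] (S : Sylow p G)
    (H : Subgroup G) [H.Normal] (A : Subgroup G) (hA : IsPGroup p A) (hle : A ≤ (S : Subgroup G) ⊔ H) :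
    ∃ h ∈ H, cj h A ≤ (S : Subgroup G) := by
  have hT : ∃ R : Sylow p ((S : Subgroup G) ⊔ H : Subgroup G),
      (R : Subgroup ((S : Subgroup G) ⊔ H : Subgroup G)) = (S : Subgroup G).subgroupOf ((S : Subgroup G) ⊔ H) :=
    ⟨S.subtype le_sup_left, Sylow.coe_subtype _ _⟩
  obtain ⟨m, hm, hmA⟩ := exists_cj_le_of_sylow ((S : Subgroup G) ⊔ H) (S : Subgroup G) A hle hA hT
  obtain ⟨s, hs, h, hh, rfl⟩ := Subgroup.mem_sup_of_normal_right.mp hm
  refine ⟨h, hh, ?_⟩
  intro y hy
  have h1 : s * y * s⁻¹ ∈ cj (s * h) A := by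
    rw [← cj_cj]
    exact cj_mem s _ hy
  have h2 := hmA h1
  have : y = s⁻¹ * (s * y * s⁻¹) * s := by group
  rw [this]
  exact Subgroup.mul_mem _ (Subgroup.mul_mem _ (Subgroup.inv_mem _ hs) h2) hs

/-- Let G be a finite group, S a Sylow p-subgroup and H a normal subgroup of G. Then the fusion system of G/H on the image SH/H of S is the factor system of the fusion system of G on S modulo S ∩ H, read through the quotient map restricted to S: for each subgroup P' of SH/H, the conjugation maps by elements of G/H defined on P' with values in SH/H are exactly the homomorphisms induced by the conjugation maps by elements of G defined on the full preimage of P' in S with values in S. -/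
theorem result {G : Type*} [Group G] [Finite G] (p : ℕ) [Fact p.Prime] (S : Sylow p G) (H : Subgroup G) [H.Normal] : (Cfsg.groupFusionSystem (S : Subgroup G)).IsFactorSystem ((S : Subgroup G) ⊓ H) ((QuotientGroup.mk' H).comp (S : Subgroup G).subtype) (Cfsg.groupFusionSystem ((S : Subgroup G).map (QuotientGroup.mk' H))) := by
  have hrange : ((QuotientGroup.mk' H).comp (S : Subgroup G).subtype).range =
      (S : Subgroup G).map (QuotientGroup.mk' H) := by
    rw [MonoidHom.range_comp, Subgroup.range_subtype]
  refine ⟨inf_le_left, ?_, hrange, ?_⟩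
  · intro s
    rw [MonoidHom.comp_apply, Subgroup.coe_subtype, QuotientGroup.mk'_apply, QuotientGroup.eq_one_iff,
      Subgroup.mem_inf]
    exact ⟨fun h => ⟨s.2, h⟩, fun h => h.2⟩
  · intro P' φ'
    constructor
    · rintro ⟨hP', hval', gbar, hg'⟩
      refine ⟨hP', ?_⟩
      obtain ⟨g, rfl⟩ := QuotientGroup.mk'_surjective H gbar
      -- the preimage
      have hPS := preimageAlong_le ((QuotientGroup.mk' H).comp (S : Subgroup G).subtype) P'
      -- g P g⁻¹ ≤ S H
      have hle : cj g (preimageAlong ((QuotientGroup.mk' H).comp (S : Subgroup G).subtype) P') ≤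
          (S : Subgroup G) ⊔ H := by
        rintro _ ⟨x, hx, rfl⟩
        have hxP' : (QuotientGroup.mk' H) x ∈ P' := (mem_preimageAlong _ P' (hPS hx)).mp hx
        have h1 := hval' ⟨_, hxP'⟩
        rw [hg'] at h1
        obtain ⟨s, hs, hs'⟩ := h1
        -- mk s = mk (g x g⁻¹)
        have h2 : (QuotientGroup.mk' H) s = (QuotientGroup.mk' H) (g * x * g⁻¹) := by
          rw [hs']; simp
        rw [QuotientGroup.mk'_apply, QuotientGroup.mk'_apply, QuotientGroup.eq] at h2
        have : (MulAut.conj g).toMonoidHom x = s * (s⁻¹ * (g * x * g⁻¹)) := by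
          simp [MulAut.conj_apply]
        rw [this]
        exact Subgroup.mul_mem _ (Subgroup.mem_sup_left hs) (Subgroup.mem_sup_right h2)
      have hPp : IsPGroup p (cj g (preimageAlong ((QuotientGroup.mk' H).comp (S : Subgroup G).subtype) P')) :=
        (S.2.to_le hPS).map _
      obtain ⟨h, hh, hconj⟩ := exists_conj_le p S H _ hPp hle
      rw [cj_cj] at hconj
      have hvalS : ∀ x : preimageAlong ((QuotientGroup.mk' H).comp (S : Subgroup G).subtype) P',
          Cfsg.conjHom _ (h * g) x ∈ (S : Subgroup G) := by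
        intro x
        apply hconj
        exact cj_mem (h * g) _ x.2
      refine ⟨Cfsg.conjHom _ (h * g), ⟨hPS, hvalS, h * g, fun x => rfl⟩, hPS, hvalS, ?_, ?_⟩
      · intro x
        exact map_mem_of_mem_preimageAlong _ P' x
      · intro x
        rw [hg']
        show (QuotientGroup.mk' H) g * (QuotientGroup.mk' H) (x : G) * ((QuotientGroup.mk' H) g)⁻¹ =
          (QuotientGroup.mk' H) ((h * g) * (x : G) * (h * g)⁻¹)
        have hh1 : (QuotientGroup.mk' H) h = 1 := by
          rw [QuotientGroup.mk'_apply, QuotientGroup.eq_one_iff]; exact hh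
        simp only [map_mul, map_inv, hh1, one_mul]
    · rintro ⟨hP', φ, ⟨hPS, hvalS, g, hg⟩, hP, hval, hmap, hind⟩
      have hsurj : ∀ x' : P', ∃ x : preimageAlong ((QuotientGroup.mk' H).comp (S : Subgroup G).subtype) P',
          ((QuotientGroup.mk' H).comp (S : Subgroup G).subtype) ⟨x, hP x.2⟩ = x' :=
        fun x' => surj_onto hrange hP' x'
      refine ⟨hP', ?_, (QuotientGroup.mk' H) g, ?_⟩
      · intro x'
        obtain ⟨x, hx⟩ := hsurj x'
        have : x' = ⟨((QuotientGroup.mk' H).comp (S : Subgroup G).subtype) ⟨x, hP x.2⟩, hmap x⟩ :=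
          Subtype.ext hx.symm
        rw [this, hind x]
        exact ⟨φ x, hval x, rfl⟩
      · intro x'
        obtain ⟨x, hx⟩ := hsurj x'
        have : x' = ⟨((QuotientGroup.mk' H).comp (S : Subgroup G).subtype) ⟨x, hP x.2⟩, hmap x⟩ :=
          Subtype.ext hx.symm
        rw [this, hind x]
        show (QuotientGroup.mk' H) (φ x) = (QuotientGroup.mk' H) g * (QuotientGroup.mk' H) (x : G) *
          ((QuotientGroup.mk' H) g)⁻¹
        rw [hg x]
        simp only [map_mul, map_inv]

end Cfsg.Agent.S5135
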