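import Cfsg.Statements.S5136
import Cfsg.Agent.Lib.Helper8_Fusion

set_option autoImplicit false
open Cfsg

namespace Cfsg.Agent.S5136

open Cfsg.Agent.Lib.Helper8_Fusion

section
variable {Ω₁ Ω₂ : Type*} [Group Ω₁] [Group Ω₂] {S₁ : Subgroup Ω₁} {S₂ : Subgroup Ω₂}

/-- The defining condition of the product system. -/
def prodCond (F₁ : Cfsg.FusionSystem S₁) (F₂ : Cfsg.FusionSystem S₂) (P : Subgroup (Ω₁ × Ω₂))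
    (φ : P →* Ω₁ × Ω₂) : Prop :=
  P ≤ S₁.prod S₂ ∧
    ∃ φ₁ ∈ F₁.Hom (P.map (MonoidHom.fst Ω₁ Ω₂)), ∃ φ₂ ∈ F₂.Hom (P.map (MonoidHom.snd Ω₁ Ω₂)),
      ∀ (x : P) (h₁ : (x : Ω₁ × Ω₂).1 ∈ P.map (MonoidHom.fst Ω₁ Ω₂))
        (h₂ : (x : Ω₁ × Ω₂).2 ∈ P.map (MonoidHom.snd Ω₁ Ω₂)),
        φ x = (φ₁ ⟨(x : Ω₁ × Ω₂).1, h₁⟩, φ₂ ⟨(x : Ω₁ × Ω₂).2, h₂⟩)

theorem fst_mem (P : Subgroup (Ω₁ × Ω₂)) (x : P) : (x : Ω₁ × Ω₂).1 ∈ P.map (MonoidHom.fst Ω₁ Ω₂) :=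
  ⟨x, x.2, rfl⟩

theorem snd_mem (P : Subgroup (Ω₁ × Ω₂)) (x : P) : (x : Ω₁ × Ω₂).2 ∈ P.map (MonoidHom.snd Ω₁ Ω₂) :=
  ⟨x, x.2, rfl⟩

theorem map_fst_le {P : Subgroup (Ω₁ × Ω₂)} (hP : P ≤ S₁.prod S₂) : P.map (MonoidHom.fst Ω₁ Ω₂) ≤ S₁ := by
  rintro _ ⟨x, hx, rfl⟩
  exact (Subgroup.mem_prod.mp (hP hx)).1

theorem map_snd_le {P : Subgroup (Ω₁ × Ω₂)} (hP : P ≤ S₁.prod S₂) : P.map (MonoidHom.snd Ω₁ Ω₂) ≤ S₂ := by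
  rintro _ ⟨x, hx, rfl⟩
  exact (Subgroup.mem_prod.mp (hP hx)).2

/-- The product map built from two maps on the projections. -/
def prodMap (P : Subgroup (Ω₁ × Ω₂)) (φ₁ : P.map (MonoidHom.fst Ω₁ Ω₂) →* Ω₁)
    (φ₂ : P.map (MonoidHom.snd Ω₁ Ω₂) →* Ω₂) : P →* Ω₁ × Ω₂ :=
  MonoidHom.prod (φ₁.comp ((MonoidHom.fst Ω₁ Ω₂).subgroupMap P)) (φ₂.comp ((MonoidHom.snd Ω₁ Ω₂).subgroupMap P))

theorem prodMap_apply (P : Subgroup (Ω₁ × Ω₂)) (φ₁ : P.map (MonoidHom.fst Ω₁ Ω₂) →* Ω₁)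
    (φ₂ : P.map (MonoidHom.snd Ω₁ Ω₂) →* Ω₂) (x : P) :
    prodMap P φ₁ φ₂ x = (φ₁ ⟨(x : Ω₁ × Ω₂).1, fst_mem P x⟩, φ₂ ⟨(x : Ω₁ × Ω₂).2, snd_mem P x⟩) := rfl

/-- The product fusion system. -/
def prodSystem (F₁ : Cfsg.FusionSystem S₁) (F₂ : Cfsg.FusionSystem S₂) : Cfsg.FusionSystem (S₁.prod S₂) where
  Hom P := {φ | prodCond F₁ F₂ P φ}
  le_of_mem := by
    rintro P φ ⟨hP, φ₁, hφ₁, φ₂, hφ₂, h⟩
    refine ⟨hP, ?_⟩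
    intro x
    rw [h x (fst_mem P x) (snd_mem P x), Subgroup.mem_prod]
    exact ⟨(F₁.le_of_mem hφ₁).2 _, (F₂.le_of_mem hφ₂).2 _⟩
  injective_of_mem := by
    rintro P φ ⟨hP, φ₁, hφ₁, φ₂, hφ₂, h⟩ x y hxy
    rw [h x (fst_mem P x) (snd_mem P x), h y (fst_mem P y) (snd_mem P y), Prod.mk.injEq] at hxy
    have h1 := F₁.injective_of_mem hφ₁ hxy.1
    have h2 := F₂.injective_of_mem hφ₂ hxy.2
    apply Subtype.ext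
    apply Prod.ext
    · exact congrArg Subtype.val h1
    · exact congrArg Subtype.val h2
  conj_mem := by
    intro P g hP hg
    rw [Subgroup.mem_prod] at hg
    refine ⟨hP, Cfsg.conjHom _ g.1, F₁.conj_mem (map_fst_le hP) hg.1, Cfsg.conjHom _ g.2,
      F₂.conj_mem (map_snd_le hP) hg.2, ?_⟩
    intro x h₁ h₂
    apply Prod.ext <;> simp [Cfsg.conjHom, MulAut.conj_apply]
  comp_mem := by
    rintro P Q φ ψ ⟨hP, φ₁, hφ₁, φ₂, hφ₂, h⟩ ⟨hQ, ψ₁, hψ₁, ψ₂, hψ₂, h'⟩ hPQ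
    have hv₁ : ∀ x : P.map (MonoidHom.fst Ω₁ Ω₂), φ₁ x ∈ Q.map (MonoidHom.fst Ω₁ Ω₂) := by
      rintro ⟨_, y, hy, rfl⟩
      refine ⟨φ ⟨y, hy⟩, hPQ ⟨y, hy⟩, ?_⟩
      rw [h ⟨y, hy⟩ (fst_mem P ⟨y, hy⟩) (snd_mem P ⟨y, hy⟩)]
      rfl
    have hv₂ : ∀ x : P.map (MonoidHom.snd Ω₁ Ω₂), φ₂ x ∈ Q.map (MonoidHom.snd Ω₁ Ω₂) := by
      rintro ⟨_, y, hy, rfl⟩
      refine ⟨φ ⟨y, hy⟩, hPQ ⟨y, hy⟩, ?_⟩
      rw [h ⟨y, hy⟩ (fst_mem P ⟨y, hy⟩) (snd_mem P ⟨y, hy⟩)]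
      rfl
    refine ⟨hP, _, F₁.comp_mem hφ₁ hψ₁ hv₁, _, F₂.comp_mem hφ₂ hψ₂ hv₂, ?_⟩
    intro x h₁ h₂
    simp only [MonoidHom.comp_apply]
    rw [h' _ (fst_mem Q _) (snd_mem Q _)]
    apply Prod.ext
    · simp only
      congr 1
      apply Subtype.ext
      simp only [MonoidHom.codRestrict_apply]
      rw [h x h₁ h₂]
    · simp only
      congr 1
      apply Subtype.ext
      simp only [MonoidHom.codRestrict_apply]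
      rw [h x h₁ h₂]
  inv_mem := by
    rintro P φ ⟨hP, φ₁, hφ₁, φ₂, hφ₂, h⟩
    obtain ⟨ψ₁, hψ₁, hinv₁⟩ := F₁.inv_mem hφ₁
    obtain ⟨ψ₂, hψ₂, hinv₂⟩ := F₂.inv_mem hφ₂
    have hle₁ : φ.range.map (MonoidHom.fst Ω₁ Ω₂) ≤ φ₁.range := by
      rintro _ ⟨_, ⟨x, rfl⟩, rfl⟩
      refine ⟨⟨(x : Ω₁ × Ω₂).1, fst_mem P x⟩, ?_⟩
      rw [h x (fst_mem P x) (snd_mem P x)]
      rfl
    have hle₂ : φ.range.map (MonoidHom.snd Ω₁ Ω₂) ≤ φ₂.range := by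
      rintro _ ⟨_, ⟨x, rfl⟩, rfl⟩
      refine ⟨⟨(x : Ω₁ × Ω₂).2, snd_mem P x⟩, ?_⟩
      rw [h x (fst_mem P x) (snd_mem P x)]
      rfl
    have hR : φ.range ≤ S₁.prod S₂ := by
      rintro _ ⟨x, rfl⟩
      rw [h x (fst_mem P x) (snd_mem P x), Subgroup.mem_prod]
      exact ⟨(F₁.le_of_mem hφ₁).2 _, (F₂.le_of_mem hφ₂).2 _⟩
    refine ⟨prodMap φ.range (ψ₁.comp (Subgroup.inclusion hle₁)) (ψ₂.comp (Subgroup.inclusion hle₂)),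
      ⟨hR, _, restrict_mem F₁ hle₁ hψ₁, _, restrict_mem F₂ hle₂ hψ₂, ?_⟩, ?_⟩
    · intro x h₁ h₂
      rfl
    · intro x
      rw [prodMap_apply]
      apply Prod.ext
      · have e := hinv₁ ⟨(x : Ω₁ × Ω₂).1, fst_mem P x⟩
        refine Eq.trans ?_ e
        show ψ₁ _ = ψ₁ _
        congr 1
        apply Subtype.ext
        show (φ x).1 = φ₁ _
        rw [h x (fst_mem P x) (snd_mem P x)]
      · have e := hinv₂ ⟨(x : Ω₁ × Ω₂).2, snd_mem P x⟩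
        refine Eq.trans ?_ e
        show ψ₂ _ = ψ₂ _
        congr 1
        apply Subtype.ext
        show (φ x).2 = φ₂ _
        rw [h x (fst_mem P x) (snd_mem P x)]

end

/-- Let F₁ and F₂ be fusion systems over finite p-groups S₁ and S₂ (inside ambient groups Ω₁ and Ω₂). Then their direct product exists: there is a fusion system over S₁ × S₂ inside Ω₁ × Ω₂ whose maps with source P ≤ S₁ × S₂ are exactly the restrictions to P of the homomorphisms (x₁, x₂) ↦ (φ₁ x₁, φ₂ x₂) with φ₁ a map of F₁ on the first projection of P and φ₂ a map of F₂ on the second projection. -/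
theorem result {Ω₁ Ω₂ : Type*} [Group Ω₁] [Group Ω₂] {S₁ : Subgroup Ω₁} {S₂ : Subgroup Ω₂} [Finite S₁] [Finite S₂] (p : ℕ) [Fact p.Prime] (h₁ : IsPGroup p S₁) (h₂ : IsPGroup p S₂) (F₁ : Cfsg.FusionSystem S₁) (F₂ : Cfsg.FusionSystem S₂) : ∃ E : Cfsg.FusionSystem (S₁.prod S₂), Cfsg.FusionSystem.IsProductSystem F₁ F₂ E := by
  refine ⟨prodSystem F₁ F₂, ?_⟩
  intro P φ
  exact Iff.rfl

end Cfsg.Agent.S5136
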