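import Cfsg.Statements.S5139
import Cfsg.Agent.Lib.Helper8_HyperfocalThm
import Cfsg.Agent.Lib.Helper8_PPower

set_option autoImplicit false
open Cfsg

namespace Cfsg.Agent.S5139

/-- Let G be a finite group with Sylow p-subgroup S and O^p(G) the subgroup generated by the elements of order prime to p. Then the p-residual subsystem of the fusion system of G on S — the saturated subsystem of p-power index over the hyperfocal subgroup — is the fusion system of O^p(G) on S ∩ O^p(G): its maps are exactly the conjugation maps by elements of O^p(G) between subgroups of S ∩ O^p(G). -/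
theorem result {G : Type*} [Group G] [Finite G] (p : ℕ) [Fact p.Prime] (S : Sylow p G) (E : Cfsg.FusionSystem ((Cfsg.groupFusionSystem (S : Subgroup G)).hyperfocalSubgroup p)) (hE : (Cfsg.groupFusionSystem (S : Subgroup G)).IsPResidual p E) : ∃ h : (S : Subgroup G) ⊓ Cfsg.pResidual p G ≤ Cfsg.pResidual p G, ∀ P : Subgroup G, E.Hom P = (Cfsg.fusionSystemOfSubgroup (Cfsg.pResidual p G) ((S : Subgroup G) ⊓ Cfsg.pResidual p G) h).Hom P := by
  open Cfsg.Agent.Lib.Helper8_HyperfocalThm Cfsg.Agent.Lib.Helper8_NormalSub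
    Cfsg.Agent.Lib.Helper8_Saturated Cfsg.Agent.Lib.Helper8_Hyperfocal
    Cfsg.Agent.Lib.Helper8_FactorHyp Cfsg.Agent.Lib.Helper3_PResidual in
  refine ⟨inf_le_right, fun P => ?_⟩
  obtain ⟨hEsat, hEF, hhyp, hEidx⟩ := hE
  obtain ⟨F, hFdef⟩ : ∃ F, F = Cfsg.groupFusionSystem (S : Subgroup G) := ⟨_, rfl⟩
  obtain ⟨R, hRdef⟩ : ∃ R, R = Cfsg.pResidual p G := ⟨_, rfl⟩
  have heq : (Cfsg.groupFusionSystem (S : Subgroup G)).hyperfocalSubgroup p =
      (S : Subgroup G) ⊓ Cfsg.pResidual p G := hyperfocal_eq S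
  rw [← hRdef] at heq ⊢
  haveI hRn : R.Normal := by rw [hRdef]; exact pResidual_normal p G
  obtain ⟨E₀, hE₀def⟩ : ∃ E₀, E₀ = Cfsg.fusionSystemOfSubgroup R ((S : Subgroup G) ⊓ R) inf_le_right :=
    ⟨_, rfl⟩
  rw [← hE₀def]
  have hE₀sat : E₀.IsSaturated p := by rw [hE₀def]; exact subgroupSystem_saturated S R
  have hE₀F : E₀.IsSubsystemOf (Cfsg.groupFusionSystem (S : Subgroup G)) := by
    rw [hE₀def]
    rintro Q φ ⟨hQ, hφT, g, -, hg⟩
    exact ⟨hQ.trans inf_le_left, fun x => (hφT x).1, g, hg⟩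
  have hSp : IsPGroup p (S : Subgroup G) := S.isPGroup'
  have hE₀idx : ∀ Q : Subgroup G, Q ≤ (S : Subgroup G) ⊓ R →
      (Cfsg.pResidual p ((Cfsg.groupFusionSystem (S : Subgroup G)).autGroup Q)).map
        ((Cfsg.groupFusionSystem (S : Subgroup G)).autGroup Q).subtype ≤ E₀.autGroup Q := by
    rintro Q hQ _ ⟨β, hβ, rfl⟩
    have hQS : Q ≤ (S : Subgroup G) := hQ.trans inf_le_left
    have h1 := pResidual_le_map_of_surjective p (normToAut (S : Subgroup G) hQS)
      (normToAut_surjective (S : Subgroup G) hQS) hβ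
    obtain ⟨g, hg, rfl⟩ := h1
    have h2 : (g : G) ∈ R := by
      rw [hRdef]
      exact map_pResidual_le p (Subgroup.normalizer (Q : Set G)).subtype ⟨g, hg, rfl⟩
    rw [mem_autGroup_iff _ hQ, hE₀def]
    exact ⟨hQ, fun x => hQ (Subtype.property _), (g : G), h2, fun x => rfl⟩
  have h1 : E.IsSubsystemOf E₀ :=
    Cfsg.Agent.Lib.Helper8_PPower.le_of_pPowerIndex (hSp.to_le (hyperfocal_le _ p))
      (Cfsg.groupFusionSystem (S : Subgroup G)) E hEsat hEF E₀ heq.le hE₀idx
  have h2 : E₀.IsSubsystemOf E :=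
    Cfsg.Agent.Lib.Helper8_PPower.le_of_pPowerIndex (hSp.to_le inf_le_left)
      (Cfsg.groupFusionSystem (S : Subgroup G)) E₀ hE₀sat hE₀F E heq.ge hEidx
  exact Set.Subset.antisymm (h1 P) (h2 P)

end Cfsg.Agent.S5139
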