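import Cfsg.Statements.S5337
import Cfsg.Agent.Lib.Helper8_Abelian2

set_option autoImplicit false
open Cfsg

namespace Cfsg.Agent.S5337

/-- Let F be a saturated fusion system over a finite abelian p-group S. Then F is simple if and only if S has order p and F is the inner system of S (whose only maps are the inclusions, S being abelian). -/
theorem result {Ω : Type*} [Group Ω] {S : Subgroup Ω} [Finite S] (p : ℕ) [Fact p.Prime] (hS : IsPGroup p S) (F : Cfsg.FusionSystem S) (hF : F.IsSaturated p) (hab : ∀ x ∈ S, ∀ y ∈ S, x * y = y * x) : F.IsSimple p ↔ (Nat.card S = p ∧ ∀ P : Subgroup Ω, F.Hom P = (Cfsg.innerFusionSystem S).Hom P) := by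
  open Cfsg.Agent.Lib.Helper8_Fusion Cfsg.Agent.Lib.Helper8_Saturated Cfsg.Agent.Lib.Helper8_Alperin Cfsg.Agent.Lib.Helper8_Frobenius Cfsg.Agent.Lib.Helper8_Abelian Cfsg.Agent.Lib.Helper8_Abelian2 in
  constructor
  · rintro ⟨-, hSne, hsimp⟩
    have hStop : F.StronglyClosed S := ⟨le_rfl, fun R hR φ hφ x => (F.le_of_mem hφ).2 x⟩
    have hinner : ∀ P : Subgroup Ω, F.Hom P = (Cfsg.innerFusionSystem S).Hom P := by
      rcases hsimp S _ (inner_isNormalIn_of_abelian hS F hF hab hStop) with h | ⟨-, h⟩
      · exact absurd h hSne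
      · exact fun P => (h P).symm
    refine ⟨?_, hinner⟩
    -- a subgroup of order p
    have hdvd : p ^ 1 ∣ Nat.card S := by
      rw [pow_one]
      have hne1 : Nat.card S ≠ 1 := by
        intro h1
        apply hSne
        exact Subgroup.card_eq_one.mp h1
      exact (hS.card_eq_or_dvd).resolve_left hne1
    obtain ⟨K, hK⟩ := Sylow.exists_subgroup_card_pow_prime p hdvd
    rw [pow_one] at hK
    have hTcard : Nat.card (K.map S.subtype) = p := by
      rw [Subgroup.card_map_of_injective S.subtype_injective, hK]
    have hTS : K.map S.subtype ≤ S := by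
      rintro _ ⟨x, -, rfl⟩
      exact x.2
    have hTsc : F.StronglyClosed (K.map S.subtype) := by
      refine ⟨hTS, ?_⟩
      intro R hR φ hφ x
      rw [hinner R] at hφ
      rw [inner_apply_of_abelian hab hφ x]
      exact hR x.2
    rcases hsimp _ _ (inner_isNormalIn_of_abelian hS F hF hab hTsc) with h | ⟨h, -⟩
    · exfalso
      rw [h, Subgroup.card_bot] at hTcard
      exact (Nat.Prime.one_lt Fact.out).ne hTcard
    · rw [← h]
      exact hTcard
  · rintro ⟨hcard, hinner⟩
    have hp : p.Prime := Fact.out
    refine ⟨hF, ?_, ?_⟩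
    · intro h
      rw [h, Subgroup.card_bot] at hcard
      exact hp.one_lt.ne hcard
    · intro T E hE
      have hTS : T ≤ S := hE.1.2.2.2.1.1
      have hdvd : Nat.card T ∣ p := by
        rw [← hcard]
        exact Subgroup.card_dvd_of_le hTS
      rcases (Nat.dvd_prime hp).mp hdvd with h1 | h1
      · left
        exact Subgroup.card_eq_one.mp h1
      · right
        have hTeq : T = S := by
          have : Finite T := finite_of_le hTS
          apply Subgroup.eq_of_le_of_card_ge hTS
          rw [h1, hcard]
        subst hTeq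
        refine ⟨rfl, fun P => Set.Subset.antisymm (hE.1.2.2.1 P) ?_⟩
        rw [hinner P]
        exact inner_le E P

end Cfsg.Agent.S5337
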