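import Cfsg.Statements.S5148
import Cfsg.Agent.Lib.Helper8_Factor2
import Cfsg.Agent.Lib.Helper8_Abelian2
import Cfsg.Agent.S5144
import Cfsg.Agent.S5337

set_option autoImplicit false
open Cfsg

namespace Cfsg.Agent.S5148

/-- A quasisimple fusion system over a finite p-group S (saturated, equal to its p-residual subsystem, with simple — in particular nontrivial — factor system modulo its centre) has S nonabelian. -/
theorem result {Ω : Type*} [Group Ω] {S : Subgroup Ω} [Finite S] (p : ℕ) [Fact p.Prime] (hS : IsPGroup p S) (F : Cfsg.FusionSystem S) (hq : F.Quasisimple p) : ¬ IsMulCommutative S := by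
  open Cfsg.Agent.Lib.Helper8_Fusion Cfsg.Agent.Lib.Helper8_Saturated Cfsg.Agent.Lib.Helper8_Frobenius Cfsg.Agent.Lib.Helper8_Abelian2 Cfsg.Agent.Lib.Helper8_Factor Cfsg.Agent.Lib.Helper8_Factor2 in
  intro hcomm
  have hab : ∀ x ∈ S, ∀ y ∈ S, x * y = y * x := fun x hx y hy =>
    congrArg Subtype.val (hcomm.is_comm.comm ⟨x, hx⟩ ⟨y, hy⟩)
  obtain ⟨hF, hhyp, hfac⟩ := hq
  have hZc := Cfsg.Agent.S5144.result F
  have hZS : F.center ≤ S := hZc.1
  -- maps of `F` fix the centre pointwise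
  have hZfix : ∀ (P : Subgroup Ω) (φ : P →* Ω), φ ∈ F.Hom P → ∀ x : P, (x : Ω) ∈ F.center →
      φ x = x := by
    intro P φ hφ x hx
    obtain ⟨ψ, -, hψP, hψZ⟩ := hZc.2 P φ hφ
    have h1 := hψP x
    have h2 := hψZ ⟨x, hx⟩
    have h3 : Subgroup.inclusion (le_sup_left : P ≤ P ⊔ F.center) x =
        Subgroup.inclusion (le_sup_right : F.center ≤ P ⊔ F.center) ⟨x, hx⟩ := rfl
    rw [h3, h2] at h1
    exact h1.symm
  have hZsc : F.StronglyClosed F.center := by
    refine ⟨hZS, fun R hR φ hφ x => ?_⟩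
    rw [hZfix R φ hφ x (hR x.2)]
    exact hR x.2
  have hker : ∀ s : S, QuotientGroup.mk' ((F.center).subgroupOf S) s = 1 ↔ (s : Ω) ∈ F.center := by
    intro s
    rw [QuotientGroup.mk'_apply, QuotientGroup.eq_one_iff]
    rfl
  have hrange : (QuotientGroup.mk' ((F.center).subgroupOf S)).range = ⊤ :=
    MonoidHom.range_eq_top.mpr (QuotientGroup.mk'_surjective _)
  have hEfac := factorSystem_isFactorSystem hZsc hker hrange
  have hEs := hfac _ hEfac
  have hS' : IsPGroup p (⊤ : Subgroup (S ⧸ (F.center).subgroupOf S)) :=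
    (hS.to_quotient _).to_subgroup ⊤
  have hab' : ∀ x ∈ (⊤ : Subgroup (S ⧸ (F.center).subgroupOf S)), ∀ y ∈ (⊤ : Subgroup (S ⧸ (F.center).subgroupOf S)),
      x * y = y * x := by
    intro x _ y _
    obtain ⟨a, rfl⟩ := QuotientGroup.mk_surjective x
    obtain ⟨b, rfl⟩ := QuotientGroup.mk_surjective y
    rw [← QuotientGroup.mk_mul, ← QuotientGroup.mk_mul, hcomm.is_comm.comm a b]
  obtain ⟨-, hinner⟩ := (Cfsg.Agent.S5337.result p hS' _ hEs.1 hab').mp hEs
  have htriv : ∀ (P' : Subgroup (S ⧸ (F.center).subgroupOf S)) (φ' : P' →* (S ⧸ (F.center).subgroupOf S)),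
      φ' ∈ (factorSystem hZsc hker hrange).Hom P' → ∀ x' : P', φ' x' = x' := by
    intro P' φ' hφ' x'
    rw [hinner P'] at hφ'
    exact inner_apply_of_abelian hab' hφ' x'
  -- every automorphism of order prime to p is trivial
  have hone : ∀ (P : Subgroup Ω), P ≤ S → ∀ α ∈ F.autGroup P, ∀ m : ℕ, Nat.Coprime m p →
      α ^ m = 1 → α = 1 := by
    intro P hPS α hα m hm hαm
    have hα' : α ∈ Iso F P P := (mem_autGroup_iff F hPS α).mp hα
    obtain ⟨ψ, hψ, hψP, hψZ⟩ := hZc.2 P _ hα'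
    ext x
    have h1 := theta_map_eq_of_trivial hZsc hEfac htriv le_sup_right hψ
      (Subgroup.inclusion le_sup_left x)
    have h2 : (QuotientGroup.mk' ((F.center).subgroupOf S))
        (⟨x, hPS x.2⟩⁻¹ * ⟨((α x : P) : Ω), hPS (α x).2⟩) = 1 := by
      rw [map_mul, map_inv, inv_mul_eq_one]
      have h1' : (QuotientGroup.mk' ((F.center).subgroupOf S)) ⟨x, hPS x.2⟩ =
          (QuotientGroup.mk' ((F.center).subgroupOf S))
            ⟨ψ (Subgroup.inclusion le_sup_left x), (F.le_of_mem hψ).2 _⟩ := h1.symm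
      rw [h1']
      congr 1
      apply Subtype.ext
      exact hψP x
    have h3 : ((x⁻¹ * α x : P) : Ω) ∈ F.center := (hker _).mp h2
    have h4 : α (x⁻¹ * α x) = x⁻¹ * α x := Subtype.ext (hZfix P _ hα' _ h3)
    have h5 := eq_one_of_coprime_fix (hS.to_le hPS) α m hm hαm x (x⁻¹ * α x) (by group) h4
    have h6 : α x = x * (x⁻¹ * α x) := by group
    rw [h6, h5, mul_one]
    rfl
  -- the hyperfocal subgroup is trivial
  have hhypbot : F.hyperfocalSubgroup p = ⊥ := by
    rw [Cfsg.FusionSystem.hyperfocalSubgroup, Subgroup.closure_eq_bot_iff]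
    rintro y ⟨P, α, x, hPS, hα, rfl⟩
    have hres : Cfsg.pResidual p (F.autGroup P) = ⊥ := by
      rw [Cfsg.pResidual, Subgroup.closure_eq_bot_iff]
      intro g hg
      have hPfin : Finite P := finite_of_le hPS
      have h1 : (g : MulAut P) ^ orderOf g = 1 := by
        have h0 := pow_orderOf_eq_one g
        have h2 := congrArg (fun z : F.autGroup P => (z : MulAut P)) h0
        exact h2
      have := hone P hPS g g.2 (orderOf g) hg h1
      exact Subtype.ext this
    rw [hres, Subgroup.mem_bot] at hα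
    rw [hα]
    simp
  -- contradiction
  have hSbot : S = ⊥ := by rw [← hhyp, hhypbot]
  apply hEs.2.1
  rw [eq_bot_iff]
  intro x _
  obtain ⟨a, rfl⟩ := QuotientGroup.mk_surjective x
  have ha : (a : Ω) ∈ (⊥ : Subgroup Ω) := hSbot ▸ a.2
  have ha1 : a = 1 := Subtype.ext ((Subgroup.mem_bot).mp ha)
  rw [ha1]
  exact Subgroup.one_mem _

end Cfsg.Agent.S5148
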