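import Cfsg.Statements.S5153
import Cfsg.Agent.Lib.Helper8_Saturated

set_option autoImplicit false
open Cfsg

namespace Cfsg.Agent.S5153

open Cfsg.Agent.Lib.Helper8_Fusion Cfsg.Agent.Lib.Helper8_Saturated Cfsg.FusionSystem in
/-- Fully normalized subgroups of a strongly closed subgroup `U` are fully normalized in every
subsystem over `U`. -/
theorem descend {Ω : Type*} [Group Ω] {S : Subgroup Ω} [Finite S] {p : ℕ} [Fact p.Prime]
    (hS : IsPGroup p S) (F : Cfsg.FusionSystem S) (hF : F.IsSaturated p) {U : Subgroup Ω}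
    (D : Cfsg.FusionSystem U) (hD : D.IsSubsystemOf F) (hU : F.StronglyClosed U)
    {P : Subgroup Ω} (hPU : P ≤ U) (hP : F.IsFullyNormalized P) : D.IsFullyNormalized P := by
  refine ⟨hPU, ?_⟩
  intro P' hPP'
  obtain ⟨φ, hφ, hr⟩ := hPP'
  have hFc : F.IsConj P P' := ⟨φ, hD P hφ, hr⟩
  obtain ⟨-, hPa⟩ := fullyNormalized_facts hS F hF hP
  have hPr := receptive_of_fullyNormalized hS F hF hP
  obtain ⟨χ, hχ, hχN, -⟩ := exists_normalizer_map hS F hPa hPr (isConj_symm F hFc)
  have hle : normalizerIn U P' ≤ normalizerIn S P' := fun x hx => ⟨hU.1 hx.1, hx.2⟩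
  have hχ' := restrict_mem F hle hχ
  have hNU : normalizerIn U P' ≤ U := inf_le_left
  let f : normalizerIn U P' → normalizerIn U P := fun x =>
    ⟨χ (Subgroup.inclusion hle x), hU.2 _ hNU _ hχ' x, (hχN _).2⟩
  have hf : Function.Injective f := by
    intro x y hxy
    have h1 : χ (Subgroup.inclusion hle x) = χ (Subgroup.inclusion hle y) :=
      congrArg (fun z : normalizerIn U P => (z : Ω)) hxy
    exact Subgroup.inclusion_injective hle (F.injective_of_mem hχ h1)
  have : Finite (normalizerIn U P) := finite_of_le ((inf_le_left : normalizerIn U P ≤ U).trans hU.1)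
  exact Nat.card_le_card_of_injective f hf

open Cfsg.Agent.Lib.Helper8_Fusion Cfsg.Agent.Lib.Helper8_Saturated Cfsg.FusionSystem in
theorem aux {Ω : Type*} [Group Ω] {T S : Subgroup Ω} {E : Cfsg.FusionSystem T}
    {F : Cfsg.FusionSystem S} {p : ℕ} (hE : E.IsSubnormalIn F p) :
    ∀ [Fact p.Prime] [Finite S], IsPGroup p S → F.IsSaturated p →
      T ≤ S ∧ ∀ P : Subgroup Ω, P ≤ T → F.IsFullyNormalized P → E.IsFullyNormalized P := by
  induction hE with
  | refl F p =>
    intro _ _ hS hF
    exact ⟨le_rfl, fun P _ h => h⟩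
  | @step U S E D F p hED hDF ih =>
    intro _ _ hS hF
    have hUS : U ≤ S := hDF.1.2.2.2.1.1
    have : Finite U := finite_of_le hUS
    obtain ⟨hTU, ih'⟩ := ih (hS.to_le hUS) hDF.1.1
    exact ⟨hTU.trans hUS, fun P hPT hP => ih' P hPT
      (descend hS F hF D hDF.1.2.2.1 hDF.1.2.2.2.1 (hPT.trans hTU) hP)⟩

/-- Let F be a saturated fusion system over a finite p-group S and E a subnormal subsystem of F over T. Then every subgroup of T that is fully normalized in F is fully normalized in E. -/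
theorem result {Ω : Type*} [Group Ω] {S : Subgroup Ω} [Finite S] (p : ℕ) [Fact p.Prime] (hS : IsPGroup p S) (F : Cfsg.FusionSystem S) (hF : F.IsSaturated p) {T : Subgroup Ω} (E : Cfsg.FusionSystem T) (hE : E.IsSubnormalIn F p) (P : Subgroup Ω) (hPT : P ≤ T) (hP : F.IsFullyNormalized P) : E.IsFullyNormalized P := by
  exact (aux hE hS hF).2 P hPT hP

end Cfsg.Agent.S5153
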