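import Cfsg.Statements.S5164
import Cfsg.Agent.Lib.Helper8_SylowAlt

set_option autoImplicit false
open Cfsg

namespace Cfsg.Agent.S5164

/-- For n ≥ 6 and a prime p, a nontrivial Sylow p-subgroup of the alternating group of degree n is abelian if and only if n < p². -/
theorem result (n p : ℕ) (hn : 6 ≤ n) [Fact p.Prime] (S : Sylow p (alternatingGroup (Fin n))) (hS : (S : Subgroup (alternatingGroup (Fin n))) ≠ ⊥) : IsMulCommutative S ↔ n < p ^ 2 := by
  open Cfsg.Agent.Helper8SylowAlt in
  constructor
  · intro hc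
    by_contra hlt
    push Not at hlt
    obtain ⟨P, hP, x, hx, y, hy, hxy⟩ := exists_alt_pgroup p n hlt hn
    exact sylow_not_comm_of_pgroup p P hP x y hx hy hxy S hc
  · intro hlt
    have hQ : IsPGroup p ((S : Subgroup (alternatingGroup (Fin n))).map
        (alternatingGroup (Fin n)).subtype) := S.isPGroup'.map _
    refine ⟨⟨fun a b => ?_⟩⟩
    apply Subtype.ext
    apply Subtype.ext
    have := perm_pgroup_comm p _ hQ (by simpa using hlt) a.1.1 b.1.1
      ⟨a.1, a.2, rfl⟩ ⟨b.1, b.2, rfl⟩
    simpa using this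

end Cfsg.Agent.S5164
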