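import Cfsg.Statements.S5185
import Cfsg.Agent.Lib.Helper8_SL2Aut
import Cfsg.Agent.S5080

set_option autoImplicit false
universe u
open Cfsg

namespace Cfsg.Agent.S5185

/-- Let F be a saturated fusion system over a finite p-group S and H an essential subgroup of order p². Then H is elementary abelian (isomorphic to C_p × C_p) and its F-automorphism group contains a subgroup isomorphic to SL(2,p). -/
theorem result {Ω : Type u} [Group Ω] {S : Subgroup Ω} [Finite S] (p : ℕ) [Fact p.Prime] (hS : IsPGroup p S)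
    (F : Cfsg.FusionSystem S) (hF : F.IsSaturated p) (H : Subgroup Ω) (hH : F.IsEssential p H) (hcard : Nat.card H = p ^ 2) :
    Cfsg.IsElementaryAbelian p H ∧
      ∃ K : Subgroup ↥(F.autGroup H), Nonempty (↥K ≃* Matrix.SpecialLinearGroup (Fin 2) (ZMod p)) := by
  have hrad := Cfsg.Agent.S5080.result p hS F hF H hH
  obtain ⟨hcent, _, hnorm, E, hE⟩ := hH
  have hHS : H ≤ S := hcent.1
  haveI : Finite H := Finite.of_injective (Subgroup.inclusion hHS) (Subgroup.inclusion_injective hHS)
  have hcomm : ∀ a b : H, a * b = b * a := IsPGroup.commutative_of_card_eq_prime_sq hcard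
  letI inst : CommGroup H := { (inferInstance : Group H) with mul_comm := hcomm }
  have hInn : Cfsg.Inn H = ⊥ := by
    rw [eq_bot_iff]
    rintro _ ⟨h, rfl⟩
    rw [Subgroup.mem_bot]
    ext x
    show ((h * x * h⁻¹ : H) : Ω) = x
    rw [hcomm h x, mul_assoc, mul_inv_cancel, mul_one]
  have hpA : p ∣ Nat.card (F.autGroup H) :=
    dvd_trans hE.1 (Subgroup.card_quotient_dvd_card _)
  have hcore0 : Cfsg.pCore p (F.autGroup H) = ⊥ := by
    have h1 := hrad.2
    rw [hInn] at h1
    exact (Subgroup.map_eq_bot_iff_of_injective _ (F.autGroup H).subtype_injective).mp h1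
  have hcore : ∀ N : Subgroup (F.autGroup H), N.Normal → IsPGroup p N → N = ⊥ := by
    intro N hN hNp
    rw [eq_bot_iff, ← hcore0]
    exact le_sSup ⟨hN, hNp⟩
  obtain ⟨hexp, ρ, hρinj, hρle⟩ :=
    Cfsg.Agent.Lib.Helper8_SL2Aut.exists_sl2 (H := H) hcard (F.autGroup H) hpA hcore
  refine ⟨⟨⟨⟨fun a b => hcomm a b⟩⟩, fun a ha => ?_⟩, ρ.range.subgroupOf (F.autGroup H), ⟨?_⟩⟩
  · have := hexp ⟨a, ha⟩
    exact congrArg (fun z : H => (z : Ω)) this
  · exact (Subgroup.subgroupOfEquivOfLe hρle).trans (MonoidHom.ofInjective hρinj).symm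

end Cfsg.Agent.S5185
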