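import Cfsg.Statements.S5223
import Cfsg.Agent.Lib.Helper8_Frobenius

set_option autoImplicit false
open Cfsg

namespace Cfsg.Agent.S5223

/-- Let F be a saturated fusion system over a finite p-group S. Suppose there are subgroups Q₀ = S, Q₁, …, Qₙ = 1 (not required to be nested) such that for each i < n the focal subgroup of Qᵢ (generated by the elements x⁻¹φ(x), x ∈ Qᵢ, φ a map of F defined on the cyclic group generated by x) lies in Qᵢ₊₁. Then F is the inner fusion system of S. -/
theorem result {Ω : Type*} [Group Ω] {S : Subgroup Ω} [Finite S] (p : ℕ) [Fact p.Prime] (hS : IsPGroup p S) (F : Cfsg.FusionSystem S) (hF : F.IsSaturated p) (n : ℕ) (Q : Fin (n + 1) → Subgroup Ω) (hQ0 : Q 0 = S) (hQn : Q (Fin.last n) = ⊥) (hstep : ∀ i : Fin n, Subgroup.closure {y : Ω | ∃ x ∈ Q i.castSucc, ∃ φ ∈ F.Hom (Subgroup.zpowers x), y = x⁻¹ * φ ⟨x, Subgroup.mem_zpowers x⟩} ≤ Q i.succ) : ∀ P : Subgroup Ω, F.Hom P = (Cfsg.innerFusionSystem S).Hom P := by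
  open Cfsg.Agent.Lib.Helper8_Fusion Cfsg.Agent.Lib.Helper8_Saturated Cfsg.Agent.Lib.Helper8_Alperin Cfsg.Agent.Lib.Helper8_Frobenius in
  apply eq_inner_of_pGroup hS F hF
  intro P hP
  have hPS : P ≤ S := by
    rcases hP with rfl | hP
    · exact le_rfl
    · exact hP.1.1
  have : Finite P := finite_of_le hPS
  apply isPGroup_of_coprime_trivial
  intro α hα m hm hαm
  rw [mem_autGroup_iff F hPS] at hα
  have key : ∀ i : Fin (n + 1), ∀ y : P, (y : Ω) ∈ Q i → α y = y := by
    intro i
    induction i using Fin.reverseInduction with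
    | last =>
      intro y hy
      rw [hQn, Subgroup.mem_bot] at hy
      have : y = 1 := Subtype.ext hy
      rw [this, map_one]
    | cast i ih =>
      intro y hy
      have hwQ : ((y⁻¹ * α y : P) : Ω) ∈ Q i.succ := by
        apply hstep i
        apply Subgroup.subset_closure
        have hle : Subgroup.zpowers (y : Ω) ≤ P := by
          rw [Subgroup.zpowers_le]; exact y.2
        exact ⟨(y : Ω), hy, (P.subtype.comp α.toMonoidHom).comp (Subgroup.inclusion hle),
          restrict_mem F hle hα, rfl⟩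
      have hαw := ih _ hwQ
      have hw1 : y⁻¹ * α y = 1 :=
        eq_one_of_coprime_fix (hS.to_le hPS) α m hm hαm y _ (by group) hαw
      have h2 : α y = y * (y⁻¹ * α y) := by group
      rw [h2, hw1, mul_one]
  ext y
  have := key 0 y (by rw [hQ0]; exact hPS y.2)
  rw [this]
  rfl

end Cfsg.Agent.S5223
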