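import Cfsg.Statements.S5226
import Cfsg.Agent.Lib.Helper8_WeaklyClosed
import Cfsg.Agent.S5088

set_option autoImplicit false
open Cfsg

namespace Cfsg.Agent.S5226

/-- Let F be a saturated fusion system over a finite p-group S and Q a subgroup of S. Then Q is normal in F (F equals the normalizer system of Q) if and only if Q is strongly closed in F and admits a central series 1 = Q₀ ≤ Q₁ ≤ ⋯ ≤ Qₙ = Q ([Qᵢ₊₁, Q] ≤ Qᵢ) all of whose proper terms are weakly closed in F. -/
theorem result {Ω : Type*} [Group Ω] {S : Subgroup Ω} [Finite S] (p : ℕ) [Fact p.Prime] (hS : IsPGroup p S) (F : Cfsg.FusionSystem S) (hF : F.IsSaturated p) (Q : Subgroup Ω) : F.IsNormal Q ↔ F.StronglyClosed Q ∧ ∃ (n : ℕ) (C : Fin (n + 1) → Subgroup Ω), C 0 = ⊥ ∧ C (Fin.last n) = Q ∧ Monotone C ∧ (∀ i : Fin n, ⁅C i.succ, Q⁆ ≤ C i.castSucc) ∧ ∀ i : Fin n, F.WeaklyClosed (C i.castSucc) := by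
  open scoped commutatorElement in
  open Cfsg.Agent.Lib.Helper8_Fusion Cfsg.Agent.Lib.Helper8_Saturated Cfsg.Agent.Lib.Helper8_Alperin Cfsg.Agent.Lib.Helper8_Chain Cfsg.Agent.Lib.Helper8_WeaklyClosed in
  have hbotsc : F.StronglyClosed (⊥ : Subgroup Ω) := by
    refine ⟨bot_le, fun R hR φ hφ x => ?_⟩
    have hx : x = 1 := Subtype.ext ((Subgroup.mem_bot).mp (hR x.2))
    rw [hx, map_one]
    exact Subgroup.one_mem _
  constructor
  · intro hQ
    obtain ⟨n, Qs, h0, hlast, hmono, hstep⟩ := (Cfsg.Agent.S5088.result p hS F hF Q).mp hQ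
    have hall : ∀ j : Fin (n + 1), F.StronglyClosed (Qs j) := by
      intro j
      refine Fin.cases ?_ (fun i => (hstep i).1) j
      rw [h0]; exact hbotsc
    refine ⟨stronglyClosed_of_isNormal F hQ, n, Qs, h0, hlast, hmono, ?_, ?_⟩
    · intro i
      rw [Subgroup.commutator_comm]; exact (hstep i).2
    · intro i
      exact weaklyClosed_of_stronglyClosed F (hall i.castSucc)
  · rintro ⟨hQsc, n, C, h0, hlast, hmono, hcomm, hw⟩
    have hCQ : ∀ j : Fin (n + 1), C j ≤ Q := by
      intro j
      rw [← hlast]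
      exact hmono (Fin.le_last j)
    have key : ∀ k (hk : k < n + 1), F.StronglyClosed (C ⟨k, hk⟩) := by
      intro k
      induction k using Nat.strong_induction_on with
      | _ k ih =>
        intro hk
        cases k with
        | zero =>
          have : (⟨0, hk⟩ : Fin (n + 1)) = 0 := rfl
          rw [this, h0]; exact hbotsc
        | succ k =>
          have hk' : k < n := by omega
          have hCk : F.IsNormal (C ⟨k, by omega⟩) := by
            refine (Cfsg.Agent.S5088.result p hS F hF _).mpr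
              ⟨k, fun j => C ⟨j, by have := j.2; omega⟩, ?_, ?_, ?_, ?_⟩
            · exact h0
            · rfl
            · intro a b hab
              exact hmono (Fin.mk_le_mk.mpr hab)
            · rintro ⟨j, hj⟩
              refine ⟨ih (j + 1) (by omega) (by omega), ?_⟩
              have h1 := hcomm ⟨j, by omega⟩
              rw [Subgroup.commutator_comm]
              exact (Subgroup.commutator_mono le_rfl (hCQ _)).trans h1
          by_cases hlastk : k + 1 = n
          · have : (⟨k + 1, hk⟩ : Fin (n + 1)) = Fin.last n := Fin.ext hlastk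
            rw [this, hlast]; exact hQsc
          · have hk2 : k + 1 < n := by omega
            exact stronglyClosed_of_weaklyClosed_step hS F hF hQsc hCk
              (hmono (Fin.mk_le_mk.mpr (Nat.le_succ k))) (hCQ _) (hcomm ⟨k, hk'⟩)
              (hw ⟨k + 1, hk2⟩)
    refine (Cfsg.Agent.S5088.result p hS F hF Q).mpr ⟨n, C, h0, hlast, hmono, ?_⟩
    rintro ⟨i, hi⟩
    refine ⟨key (i + 1) (by omega), ?_⟩
    rw [Subgroup.commutator_comm]
    exact hcomm ⟨i, hi⟩

end Cfsg.Agent.S5226
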