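import Cfsg.Statements.S5290
import Cfsg.Agent.Lib.Helper8_Inner
import Cfsg.Agent.Lib.Helper8_NormalCrit
import Cfsg.Agent.S5106

set_option autoImplicit false
open Cfsg

namespace Cfsg.Agent.S5290

/-- Let F be a saturated fusion system over a finite p-group S and Q a subgroup of S. Then Q is normal in F (F = N_F(Q)) if and only if the inner fusion system of Q, consisting of the conjugations by elements of Q on subgroups of Q, is a weakly normal subsystem of F (both saturated, Q strongly closed, invariant under F-conjugation, with the Frattini property). -/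
theorem result {Ω : Type*} [Group Ω] {S : Subgroup Ω} [Finite S] (p : ℕ) [Fact p.Prime] (hS : IsPGroup p S)
    (F : Cfsg.FusionSystem S) (hF : F.IsSaturated p)
    (Q : Subgroup Ω) (hQ : Q ≤ S) :
    F.IsNormal Q ↔ (Cfsg.innerFusionSystem Q).IsWeaklyNormalIn F p := by
  open Cfsg.Agent.Lib.Helper8_Fusion Cfsg.Agent.Lib.Helper8_Saturated Cfsg.Agent.Lib.Helper8_Alperin Cfsg.Agent.Lib.Helper8_NormalCrit Cfsg.Agent.Lib.Helper8_Inner in
  have hQfin : Finite Q := finite_of_le hQ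
  have hS5106 := Cfsg.Agent.S5106.result p hS F hF Q hQ
  constructor
  · intro hN
    have hext := hS5106.mp hN
    refine ⟨inner_saturated (hS.to_le hQ), hF, ?_, stronglyClosed_of_isNormal F hN, ?_, ?_⟩
    · -- subsystem
      rintro P φ ⟨hP, g, hg, hφ⟩
      have : φ = Cfsg.conjHom P g := by
        ext x; rw [hφ x]; rfl
      rw [this]
      exact F.conj_mem (hP.trans hQ) (hQ hg)
    · -- invariance
      intro P hPQ φ hφ α hα
      obtain ⟨-, g, hg, hφg⟩ := hφ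
      have hle : (P.subgroupOf Q).map (Q.subtype.comp α.toMonoidHom) ≤ Q := by
        rintro _ ⟨x, -, rfl⟩
        exact (α x).2
      refine ⟨Cfsg.conjHom _ ((α ⟨g, hg⟩ : Q) : Ω),
        (Cfsg.innerFusionSystem Q).conj_mem hle (α ⟨g, hg⟩).2, ?_⟩
      intro x hφx hαx
      show ((α ⟨g, hg⟩ : Q) : Ω) * ((α ⟨x, hPQ x.2⟩ : Q) : Ω) * ((α ⟨g, hg⟩ : Q) : Ω)⁻¹ =
        ((α ⟨φ x, hφx⟩ : Q) : Ω)
      have h1 : (⟨φ x, hφx⟩ : Q) = ⟨g, hg⟩ * ⟨x, hPQ x.2⟩ * (⟨g, hg⟩ : Q)⁻¹ :=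
        Subtype.ext (hφg x)
      rw [h1, map_mul, map_mul, map_inv]
      rfl
    · -- Frattini condition
      intro P hPQ φ hφ
      obtain ⟨α, hα, hαφ⟩ := hext P hPQ φ hφ
      refine ⟨α, hα, P.subtype, ⟨hPQ, 1, Q.one_mem, fun x => by simp⟩, ?_⟩
      intro x hx
      rw [← hαφ x]
      rfl
  · rintro ⟨-, -, -, -, -, hfr⟩
    apply hS5106.mpr
    intro P hPQ φ hφ
    obtain ⟨α, hα, φ₀, ⟨-, g, hg, hφ₀g⟩, hαφ⟩ := hfr P hPQ φ hφ
    have hcg : (MulAut.conj (⟨g, hg⟩ : Q) : MulAut Q) ∈ F.autGroup Q :=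
      autInducedBy_le_autGroup F hQ (inn_le_autInducedBy hQ ⟨⟨g, hg⟩, rfl⟩)
    refine ⟨α * MulAut.conj (⟨g, hg⟩ : Q), Subgroup.mul_mem _ hα hcg, ?_⟩
    intro x
    have hx : φ₀ x ∈ Q := by
      rw [hφ₀g x]
      exact Q.mul_mem (Q.mul_mem hg (hPQ x.2)) (Q.inv_mem hg)
    rw [hαφ x hx, MulAut.mul_apply]
    congr 2
    apply Subtype.ext
    show _ = φ₀ x
    rw [hφ₀g x]
    simp [MulAut.conj_apply]

end Cfsg.Agent.S5290
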