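import Cfsg.Statements.S5297
import Cfsg.Agent.Lib.Helper8_ControlNormal

set_option autoImplicit false
universe u
open Cfsg

namespace Cfsg.Agent.S5297

/-- Let F be a saturated fusion system over a finite p-group S. If every map of F between cyclic subgroups of the hyperfocal subgroup of F of order p or 4 is a map of the normalizer system of S (it extends to a map of F defined on all of S), then S is normal in F. -/
theorem result {Ω : Type u} [Group Ω] {S : Subgroup Ω} [Finite S] (p : ℕ) [Fact p.Prime] (hS : IsPGroup p S)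
    (F : Cfsg.FusionSystem S) (hF : F.IsSaturated p)
    (h : ∀ A B : Subgroup Ω, A ≤ (F.hyperfocalSubgroup p) → B ≤ (F.hyperfocalSubgroup p) → IsCyclic ↥A → (Nat.card ↥A = p ∨ Nat.card ↥A = 4) → IsCyclic ↥B → (Nat.card ↥B = p ∨ Nat.card ↥B = 4) →
      F.homSet A B ⊆ F.normalizerHom S A) :
    F.IsNormal S := by
  open Cfsg.Agent.Lib.Helper8_Saturated Cfsg.Agent.Lib.Helper8_Alperin
    Cfsg.Agent.Lib.Helper8_Frobenius Cfsg.Agent.Lib.Helper8_ControlFusion
    Cfsg.Agent.Lib.Helper8_ControlNormal Cfsg.Agent.Lib.Helper8_Series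
    Cfsg.Agent.Lib.Helper8_Hyperfocal in
  apply isNormal_of_aut hS F hF
  intro P hP
  rcases hP with rfl | hP
  · refine ⟨le_rfl, ?_⟩
    intro α hα x
    exact (α _).2
  · exfalso
    have hPS : P ≤ S := hP.1.1
    apply essential_false_of_chain hS F hF hP
    intro a ha x hxY hxsmall i hxZ
    by_cases hx1 : x = 1
    · rw [hx1, map_one]; exact Subgroup.one_mem _
    have hx1' : (x : Ω) ≠ 1 := fun h1 => hx1 (Subtype.ext h1)
    have hax1' : ((a x : P) : Ω) ≠ 1 := by
      intro h1
      apply hx1
      have : a x = 1 := Subtype.ext h1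
      have h2 : a x = a 1 := by rw [this, map_one]
      exact a.injective h2
    have hxs : (x : Ω) ^ p = 1 ∨ (p = 2 ∧ (x : Ω) ^ 4 = 1) := by
      rcases hxsmall with h1 | ⟨h2, h1⟩
      · left
        have := congrArg Subtype.val h1
        simpa using this
      · right
        refine ⟨h2, ?_⟩
        have := congrArg Subtype.val h1
        simpa using this
    have haxs : ((a x : P) : Ω) ^ p = 1 ∨ (p = 2 ∧ ((a x : P) : Ω) ^ 4 = 1) := by
      rcases hxsmall with h1 | ⟨h2, h1⟩
      · left
        have h3 : (a x) ^ p = 1 := by rw [← map_pow, h1, map_one]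
        have := congrArg Subtype.val h3
        simpa using this
      · right
        refine ⟨h2, ?_⟩
        have h3 : (a x) ^ 4 = 1 := by rw [← map_pow, h1, map_one]
        have := congrArg Subtype.val h3
        simpa using this
    have haxY : ((a x : P) : Ω) ∈ F.hyperfocalSubgroup p :=
      aut_mem_of_stronglyClosed F hPS (hyperfocal_stronglyClosed hS F hF) a ha x hxY
    obtain ⟨φ, hφ, hφx⟩ := restrict_zpowers F hPS a ha x
    have hAle : Subgroup.zpowers (x : Ω) ≤ F.hyperfocalSubgroup p := by
      rw [Subgroup.zpowers_le]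
      exact hxY
    have hBle : Subgroup.zpowers ((a x : P) : Ω) ≤ F.hyperfocalSubgroup p := by
      rw [Subgroup.zpowers_le]
      exact haxY
    have hext := h _ _ hAle hBle inferInstance (card_zpowers_of_small hx1' hxs)
      inferInstance (card_zpowers_of_small hax1' haxs) hφ
    obtain ⟨-, -, -, ψ, hψ, hψφ, hψS⟩ := hext
    have h1 := upper_map_mem (le_sup_right : S ≤ Subgroup.zpowers (x : Ω) ⊔ S) ψ
      (F.injective_of_mem hψ) hψS i
      (Subgroup.inclusion le_sup_left ⟨(x : Ω), Subgroup.mem_zpowers _⟩) hxZ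
    rw [hψφ, hφx] at h1
    exact h1

end Cfsg.Agent.S5297
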