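import Cfsg.Statements.S5299
import Cfsg.Agent.Lib.Helper8_Involves

set_option autoImplicit false
universe u
open Cfsg

namespace Cfsg.Agent.S5299

open Cfsg.Agent.Lib.Helper8_Involves

/-- Let F be a saturated fusion system over a finite p-group S, H a finite group and Q a p-subgroup of H. If Q is not involved in S (no section of S is isomorphic to Q), then F is H-free: H is involved in no model of the normalizer system of a fully normalized centric subgroup. -/
theorem result {Ω : Type u} [Group Ω] {S : Subgroup Ω} [Finite S] (p : ℕ) [Fact p.Prime] (hS : IsPGroup p S)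
    (F : Cfsg.FusionSystem S) (hF : F.IsSaturated p) (H : Type*) [Group H] [Finite H] (Q : Subgroup H) (hQ : IsPGroup p Q)
    (hfree : ¬ Cfsg.Involves (↥Q) (↥S)) : F.IsSectionFree p H := by
  intro Q' _ _ N _ L _ ι hmodel hinv
  obtain ⟨hfin, ⟨hinj, _⟩, ⟨T, hT⟩, _⟩ := hmodel
  apply hfree
  have h1 : Cfsg.Involves Q L := involves_subgroup Q hinv
  have h2 : Cfsg.Involves Q (T : Subgroup L) := involves_sylow p hQ h1 T
  rw [hT] at h2
  have h3 : Cfsg.Involves Q (Cfsg.FusionSystem.normalizerIn S Q') :=
    involves_of_injective (MonoidHom.ofInjective hinj).symm.toMonoidHom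
      (MonoidHom.ofInjective hinj).symm.injective h2
  have hle : Cfsg.FusionSystem.normalizerIn S Q' ≤ S := inf_le_left
  exact involves_of_injective (Subgroup.inclusion hle) (Subgroup.inclusion_injective hle) h3

end Cfsg.Agent.S5299
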