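import Cfsg.Statements.S5300
import Cfsg.Agent.Lib.Helper8_OmegaFusion

set_option autoImplicit false
universe u
open Cfsg

namespace Cfsg.Agent.S5300

/-- Let F be a saturated fusion system over a finite p-group S. If every cyclic subgroup of the focal subgroup of F of order p (of order 2 or 4 when p = 2) is normal in S, then S is normal in F. -/
theorem result {Ω : Type u} [Group Ω] {S : Subgroup Ω} [Finite S] (p : ℕ) [Fact p.Prime] (hS : IsPGroup p S)
    (F : Cfsg.FusionSystem S) (hF : F.IsSaturated p)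
    (hnorm : ∀ x ∈ F.focalSubgroup, (x ^ p = 1 ∨ (p = 2 ∧ x ^ 4 = 1)) → ∀ s ∈ S, s * x * s⁻¹ ∈ Subgroup.zpowers x) :
    F.IsNormal S := by
  open Cfsg.Agent.Lib.Helper8_Saturated Cfsg.Agent.Lib.Helper8_Alperin
    Cfsg.Agent.Lib.Helper8_OmegaFusion in
  apply isNormal_of_aut hS F hF (Q := S)
  intro P hP
  rcases hP with rfl | hP
  · exact ⟨le_rfl, fun α _ x => (α _).2⟩
  exfalso
  have hPS : P ≤ S := hP.1.1
  have hgen : ∀ a ∈ F.autGroup P, ∀ x : P, (x : Ω)⁻¹ * ((a x : P) : Ω) ∈ F.focalSubgroup := by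
    intro a ha x
    apply Subgroup.subset_closure
    exact ⟨P, P.subtype.comp a.toMonoidHom, x, (mem_autGroup_iff F hPS a).mp ha, rfl⟩
  apply essential_false hS F hF hP F.focalSubgroup
  · intro a ha x hx
    have : ((a x : P) : Ω) = (x : Ω) * ((x : Ω)⁻¹ * ((a x : P) : Ω)) := by group
    rw [this]
    exact Subgroup.mul_mem _ hx (hgen a ha x)
  · intro β hβ _ x
    exact hgen β hβ x
  · intro u hu x hxT hx
    obtain ⟨g, hgS, hgN, hg⟩ := (mem_autInducedBy_iff S P u).mp hu
    obtain ⟨j, hj⟩ := hS ⟨g, hgS⟩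
    have hj' : g ^ (p ^ j) = 1 := by
      have := congrArg Subtype.val hj
      simpa using this
    have hx' : (x : Ω) ^ p = 1 ∨ (p = 2 ∧ (x : Ω) ^ 4 = 1) := by
      rcases hx with h | ⟨h2, h⟩
      · left
        have := congrArg Subtype.val h
        simpa using this
      · right
        refine ⟨h2, ?_⟩
        have := congrArg Subtype.val h
        simpa using this
    rcases conj_eq_or_inv g (x : Ω) j hj' (hnorm _ hxT hx' g hgS) hx' with h | ⟨h2, h⟩
    · left
      apply Subtype.ext
      rw [hg x, h]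
    · right
      refine ⟨h2, ?_⟩
      apply Subtype.ext
      rw [hg x, h]
      rfl

end Cfsg.Agent.S5300
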