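import Cfsg.Statements.S5301
import Cfsg.Agent.Lib.Helper8_Alperin
import Cfsg.Agent.S5080

set_option autoImplicit false
universe u
open Cfsg

namespace Cfsg.Agent.S5301

open Cfsg.FusionSystem Cfsg.Agent.Lib.Helper8_Saturated Cfsg.Agent.Lib.Helper8_Fusion
  Cfsg.Agent.Lib.Helper8_Alperin

/-- Let F be a saturated fusion system over a finite p-group S. If for every subgroup P of S that is fully normalized, centric and radical in F the automorphism group that F induces on P has a normal Sylow p-subgroup, then S is normal in F. -/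
theorem result {Ω : Type u} [Group Ω] {S : Subgroup Ω} [Finite S] (p : ℕ) [Fact p.Prime] (hS : IsPGroup p S)
    (F : Cfsg.FusionSystem S) (hF : F.IsSaturated p)
    (hcl : ∀ P : Subgroup Ω, F.IsFullyNormalized P → F.IsCentric P → F.IsRadical p P →
      ∃ R : Sylow p ↥(F.autGroup P), (R : Subgroup ↥(F.autGroup P)).Normal) :
    F.IsNormal S := by
  -- there are no essential subgroups
  have hness : ∀ P : Subgroup Ω, ¬ F.IsEssential p P := by
    intro P hP
    have hrad := Cfsg.Agent.S5080.result p hS F hF P hP
    obtain ⟨hcen, hfn, hI, M, hM⟩ := hP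
    obtain ⟨R, hRn⟩ := hcl P hfn hcen hrad
    have hPS : P ≤ S := hcen.1
    have : Finite P := finite_of_le hPS
    have hcore := Cfsg.Agent.S5080.pCore_eq_bot_of_stronglyPEmbedded p hM
    have hπsurj : Function.Surjective (QuotientGroup.mk' ((Inn P).subgroupOf (F.autGroup P))) :=
      QuotientGroup.mk'_surjective _
    let R' := R.mapSurjective hπsurj
    have hR'n : R'.toSubgroup.Normal := by
      show ((R : Subgroup (F.autGroup P)).map _).Normal
      exact Subgroup.Normal.map hRn _ hπsurj
    have hle : R'.toSubgroup ≤ pCore p _ :=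
      Cfsg.Agent.Lib.Helper4_PCore.le_pCore _ hR'n R'.isPGroup'
    rw [hcore] at hle
    exact R'.ne_bot_of_dvd_card hM.1 (le_bot_iff.mp hle)
  apply isNormal_of_aut hS F hF
  intro P hP
  rcases hP with rfl | hP
  · exact ⟨le_rfl, fun α _ x => (α ⟨x, x.2⟩).2⟩
  · exact absurd hP (hness P)

end Cfsg.Agent.S5301
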