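import Cfsg.Statements.S5306
import Cfsg.Agent.Lib.Helper8_Thompson
import Cfsg.Agent.Lib.Helper8_GroupFusion

set_option autoImplicit false
open Cfsg

namespace Cfsg.Agent.S5306

open Cfsg.Agent.Lib.Helper8_Thompson Cfsg.Agent.Lib.Helper8_GroupFusion

/-- Let P be a Sylow p-subgroup of the finite group X and J = J(P) its Thompson subgroup (generated by the elementary abelian subgroups of P of largest order). If x and y lie in the centre of J and y = g x g⁻¹ for some g in X, then y = n x n⁻¹ for some n in the normalizer N_X(J). -/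
theorem result {X : Type*} [Group X] [Finite X] (p : ℕ) [Fact p.Prime] (P : Sylow p X) (J : Subgroup X) (hJ : J = Cfsg.thompsonSubgroupOf p (P : Subgroup X))
    (x y : X) (hx : x ∈ J ∧ ∀ j ∈ J, Commute j x) (hy : y ∈ J ∧ ∀ j ∈ J, Commute j y) (g : X) (hg : g * x * g⁻¹ = y) :
    ∃ n ∈ Subgroup.normalizer (J : Set X), n * x * n⁻¹ = y := by
  have hJP : J ≤ (P : Subgroup X) := by rw [hJ]; exact thompson_le p _
  have hJp : IsPGroup p J := P.2.to_le hJP
  -- both J and g J g⁻¹ centralize y
  have hJC : J ≤ Subgroup.centralizer ({y} : Set X) := by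
    intro j hj
    rw [Subgroup.mem_centralizer_iff]
    intro z hz
    rw [Set.mem_singleton_iff] at hz
    rw [hz]
    exact ((hy.2 j hj).eq).symm
  have hgJC : cj g J ≤ Subgroup.centralizer ({y} : Set X) := by
    rintro _ ⟨j, hj, rfl⟩
    rw [Subgroup.mem_centralizer_iff]
    intro z hz
    rw [Set.mem_singleton_iff] at hz
    rw [hz, ← hg]
    have := (hx.2 j hj).eq
    simp only [MulEquiv.coe_toMonoidHom, MulAut.conj_apply]
    calc g * x * g⁻¹ * (g * j * g⁻¹) = g * (x * j) * g⁻¹ := by group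
      _ = g * (j * x) * g⁻¹ := by rw [this]
      _ = g * j * g⁻¹ * (g * x * g⁻¹) := by group
  -- a Sylow subgroup of C containing J
  obtain ⟨R, hR⟩ := (hJp.comap_subtype (K := Subgroup.centralizer ({y} : Set X))).exists_le_sylow
  have hR0 : ∃ R' : Sylow p (Subgroup.centralizer ({y} : Set X)),
      (R' : Subgroup (Subgroup.centralizer ({y} : Set X))) =
        ((R : Subgroup (Subgroup.centralizer ({y} : Set X))).map (Subgroup.centralizer ({y} : Set X)).subtype).subgroupOf
          (Subgroup.centralizer ({y} : Set X)) := by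
    refine ⟨R, ?_⟩
    unfold Subgroup.subgroupOf
    rw [Subgroup.comap_map_eq_self_of_injective (Subgroup.subtype_injective _)]
  have hJR0 : J ≤ (R : Subgroup (Subgroup.centralizer ({y} : Set X))).map (Subgroup.centralizer ({y} : Set X)).subtype := by
    intro j hj
    exact ⟨⟨j, hJC hj⟩, hR (by simpa [Subgroup.mem_subgroupOf] using hj), rfl⟩
  have hR0p : IsPGroup p ((R : Subgroup (Subgroup.centralizer ({y} : Set X))).map
      (Subgroup.centralizer ({y} : Set X)).subtype) := R.2.map _
  obtain ⟨c, hc, hcJ⟩ := exists_cj_le_of_sylow (Subgroup.centralizer ({y} : Set X)) _ (cj g J) hgJC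
    (hJp.map _) hR0
  -- a Sylow subgroup of X containing R₀
  obtain ⟨P₁, hP₁⟩ := hR0p.exists_le_sylow
  obtain ⟨k, hk⟩ := MulAction.exists_smul_eq X P P₁
  have hP₁eq : cj k (P : Subgroup X) = P₁ := by
    rw [← hk, Sylow.coe_subgroup_smul]
    ext z
    rw [mem_cj, Subgroup.mem_pointwise_smul_iff_inv_smul_mem]
    simp [MulAut.smul_def]
  -- J(P₁) = J
  have h1 : Cfsg.thompsonSubgroupOf p (cj k (P : Subgroup X)) = J := by
    rw [hJ]
    apply thompson_eq_of_le
    rw [← hJ]
    show J ≤ cj k (P : Subgroup X)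
    rw [hP₁eq]
    exact hJR0.trans hP₁
  -- J(P₁) = (c g) J (c g)⁻¹
  have h2 : Cfsg.thompsonSubgroupOf p (cj k (P : Subgroup X)) = cj (c * g) J := by
    have e1 : cj k (P : Subgroup X) = cjT (k * (c * g)⁻¹) (cjT (c * g) (P : Subgroup X)) := by
      rw [cjT_cjT, inv_mul_cancel_right]
    have e2 : cj (c * g) J = Cfsg.thompsonSubgroupOf p (cjT (c * g) (P : Subgroup X)) := by
      rw [thompson_cjT, ← hJ]
    rw [e1, e2]
    apply thompson_eq_of_le
    rw [← e2, ← e1, hP₁eq, ← cj_cj]
    exact hcJ.trans hP₁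
  refine ⟨c * g, ?_, ?_⟩
  · apply mem_normalizer_of_cj_eq
    rw [← h2, h1]
  · rw [Subgroup.mem_centralizer_iff] at hc
    have hcy := hc y rfl
    calc c * g * x * (c * g)⁻¹ = c * (g * x * g⁻¹) * c⁻¹ := by group
      _ = c * y * c⁻¹ := by rw [hg]
      _ = y * c * c⁻¹ := by rw [hcy]
      _ = y := by group

end Cfsg.Agent.S5306
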