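import Cfsg.Statements.S5326
import Cfsg.Agent.Lib.Helper8_Generating

set_option autoImplicit false
open Cfsg

namespace Cfsg.Agent.S5326

/-- Let F be a saturated fusion system over a finite p-group S and Q an essential subgroup. Then the F-conjugacy class of Q cannot be left out of a generating family: there is a fusion system E over S whose automorphism group of every subgroup R ≤ S not F-conjugate to Q contains Aut_F(R), and yet E does not contain every map of F. -/
theorem result {Ω : Type*} [Group Ω] {S : Subgroup Ω} [Finite S] (p : ℕ) [Fact p.Prime] (hS : IsPGroup p S) (F : Cfsg.FusionSystem S) (hF : F.IsSaturated p) (Q : Subgroup Ω) (hQ : F.IsEssential p Q) : ∃ E : Cfsg.FusionSystem S, (∀ R : Subgroup Ω, R ≤ S → ¬ F.IsConj Q R → F.autGroup R ≤ E.autGroup R) ∧ ¬ F ≤ E := by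
  open Cfsg.Agent.Lib.Helper8_Fusion Cfsg.Agent.Lib.Helper8_Saturated Cfsg.Agent.Lib.Helper8_Alperin Cfsg.Agent.Lib.Helper8_Essential Cfsg.Agent.Lib.Helper8_Abelian Cfsg.Agent.Lib.Helper8_Generating in
  have hQS : Q ≠ S := by
    rintro rfl
    exact not_essential_top hS F hF hQ
  obtain ⟨hQc, hQn, hI, M, hM⟩ := hQ
  obtain ⟨c, hc⟩ := extendable_le_conj hS F hF hQn hQc hI M hM
  let π := QuotientGroup.mk' ((Inn Q).subgroupOf (F.autGroup Q))
  let H₀ : Subgroup (F.autGroup Q) := M.comap ((MulAut.conj c⁻¹).toMonoidHom.comp π)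
  have hH₀ : ∀ a : F.autGroup Q, a ∈ H₀ ↔ c⁻¹ * π a * c ∈ M := by
    intro a
    show (MulAut.conj c⁻¹) (π a) ∈ M ↔ _
    rw [MulAut.conj_apply, inv_inv]
  let H' : Subgroup (MulAut Q) := H₀.map (F.autGroup Q).subtype
  have hH' : ∀ α ∈ F.autGroup Q, (∃ (Q' : Subgroup Ω) (hQQ' : Q < Q') (φ : Q' →* Ω), φ ∈ F.Hom Q' ∧
      ∀ x : Q, φ (Subgroup.inclusion hQQ'.le x) = ((α x : Q) : Ω)) → α ∈ H' := by
    intro α hα hext
    exact ⟨⟨α, hα⟩, (hH₀ _).mpr (hc α hα hext), rfl⟩
  refine ⟨omitSystem hS F hF hQn hQS H' hH', ?_, ?_⟩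
  · intro R hR hRQ
    exact autGroup_le_omitSystem hS F hF hQn hQS H' hH' hR (fun h => hRQ (isConj_symm F h))
  · intro hle
    have hMtop : M ≠ ⊤ := hM.2.1
    obtain ⟨m, hm⟩ : ∃ m, m ∉ M := by
      by_contra hcon
      apply hMtop
      rw [eq_top_iff]
      intro x _
      by_contra hx
      exact hcon ⟨x, hx⟩
    obtain ⟨a, ha⟩ := QuotientGroup.mk'_surjective ((Inn Q).subgroupOf (F.autGroup Q)) (c * m * c⁻¹)
    have haH₀ : a ∉ H₀ := by
      rw [hH₀]
      show ¬ (c⁻¹ * (QuotientGroup.mk' ((Inn Q).subgroupOf (F.autGroup Q))) a * c ∈ M)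
      rw [ha]
      have : c⁻¹ * (c * m * c⁻¹) * c = m := by group
      rw [this]
      exact hm
    have haF : Q.subtype.comp (a : MulAut Q).toMonoidHom ∈ F.Hom Q :=
      (mem_autGroup_iff F hQn.1 _).mp a.2
    have haE := hle Q haF
    obtain ⟨b, hb, hba⟩ := mem_of_mem_omitSystem hS F hF hQn hQS H' hH' haE
    have : b = a := Subtype.ext hba
    rw [this] at hb
    exact haH₀ hb

end Cfsg.Agent.S5326
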