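import Cfsg.Statements.S5327
import Cfsg.Agent.Lib.Helper8_Generating
import Cfsg.Agent.S5326

set_option autoImplicit false
open Cfsg

namespace Cfsg.Agent.S5327

/-- Let F be a saturated fusion system over a finite p-group S. Call a family of subgroups of S generating when every fusion system over S whose automorphism group of each member R contains Aut_F(R) contains every map of F. If two families are each closed under F-conjugacy and each generating, then their intersection is generating. -/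
theorem result {Ω : Type*} [Group Ω] {S : Subgroup Ω} [Finite S] (p : ℕ) [Fact p.Prime] (hS : IsPGroup p S) (F : Cfsg.FusionSystem S) (hF : F.IsSaturated p) (𝒬₁ 𝒬₂ : Set (Subgroup Ω)) (h₁ : ∀ R ∈ 𝒬₁, ∀ R' : Subgroup Ω, F.IsConj R R' → R' ∈ 𝒬₁) (h₂ : ∀ R ∈ 𝒬₂, ∀ R' : Subgroup Ω, F.IsConj R R' → R' ∈ 𝒬₂) (hg₁ : ∀ E : Cfsg.FusionSystem S, (∀ R ∈ 𝒬₁, F.autGroup R ≤ E.autGroup R) → F ≤ E) (hg₂ : ∀ E : Cfsg.FusionSystem S, (∀ R ∈ 𝒬₂, F.autGroup R ≤ E.autGroup R) → F ≤ E) (E : Cfsg.FusionSystem S) (hE : ∀ R ∈ 𝒬₁ ∩ 𝒬₂, F.autGroup R ≤ E.autGroup R) : F ≤ E := by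
  open Cfsg.Agent.Lib.Helper8_Fusion Cfsg.Agent.Lib.Helper8_Saturated Cfsg.Agent.Lib.Helper8_Alperin Cfsg.Agent.Lib.Helper8_Frobenius Cfsg.Agent.Lib.Helper8_Generating in
  have htriv : ∀ (R : Subgroup Ω) (E' : Cfsg.FusionSystem S), ¬ R ≤ S →
      F.autGroup R ≤ E'.autGroup R := by
    intro R E' hRS α hα
    have : F.autGroup R = ⊥ := by
      rw [Cfsg.FusionSystem.autGroup, Subgroup.closure_eq_bot_iff]
      intro β hβ
      exact absurd (F.le_of_mem hβ).1 hRS
    rw [this, Subgroup.mem_bot] at hα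
    rw [hα]; exact Subgroup.one_mem _
  -- every essential subgroup lies in each conjugacy-closed generating family
  have hess : ∀ (𝒬 : Set (Subgroup Ω)), (∀ R ∈ 𝒬, ∀ R' : Subgroup Ω, F.IsConj R R' → R' ∈ 𝒬) →
      (∀ E' : Cfsg.FusionSystem S, (∀ R ∈ 𝒬, F.autGroup R ≤ E'.autGroup R) → F ≤ E') →
      ∀ Q : Subgroup Ω, F.IsEssential p Q → Q ∈ 𝒬 := by
    intro 𝒬 hcl hgen Q hQ
    by_contra hQ𝒬
    obtain ⟨E₀, hE₀, hnot⟩ := Cfsg.Agent.S5326.result p hS F hF Q hQ
    apply hnot
    apply hgen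
    intro R hR
    by_cases hRS : R ≤ S
    · apply hE₀ R hRS
      intro hQR
      exact hQ𝒬 (hcl R hR Q (isConj_symm F hQR))
    · exact htriv R E₀ hRS
  -- `S` lies in each generating family, unless `Aut_F(S)` is inner
  have htop : ∀ (𝒬 : Set (Subgroup Ω)),
      (∀ E' : Cfsg.FusionSystem S, (∀ R ∈ 𝒬, F.autGroup R ≤ E'.autGroup R) → F ≤ E') →
      S ∈ 𝒬 ∨ F.autGroup S ≤ (Cfsg.innerFusionSystem S).autGroup S := by
    intro 𝒬 hgen
    by_cases hS𝒬 : S ∈ 𝒬
    · exact Or.inl hS𝒬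
    right
    let E₁ : Cfsg.FusionSystem S := subsystemOfProp F
      (fun P φ => P = S → φ ∈ (Cfsg.innerFusionSystem S).Hom P)
      (fun hP hg _ => (Cfsg.innerFusionSystem S).conj_mem hP hg)
      (by
        intro P R φ ψ hφ hψ h1 h2 h hPS
        subst hPS
        have hr := range_eq_of_hom_top F hφ
        have hRS : R = P := by
          apply le_antisymm (F.le_of_mem hψ).1
          rw [← hr]
          rintro _ ⟨x, rfl⟩
          exact h x
        exact (Cfsg.innerFusionSystem P).comp_mem (h1 rfl) (h2 hRS) h)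
      (by
        intro P φ hφ h1 ψ hψ hψφ hr
        have hPS : P = S := by
          have hPS' : P ≤ S := (F.le_of_mem hφ).1
          have : Finite P := finite_of_le hPS'
          apply Subgroup.eq_of_le_of_card_ge hPS'
          rw [← hr]
          exact (Nat.card_congr (MonoidHom.ofInjective (F.injective_of_mem hφ)).toEquiv).ge
        obtain ⟨ψ', hψ', hψ'φ⟩ := (Cfsg.innerFusionSystem S).inv_mem (h1 hPS)
        have : ψ = ψ' := by
          ext ⟨_, x, rfl⟩
          rw [hψφ x, hψ'φ x]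
        rw [this]; exact hψ')
    have hle : F ≤ E₁ := by
      apply hgen
      intro R hR
      by_cases hRS : R ≤ S
      · intro α hα
        rw [mem_autGroup_iff _ hRS] at hα ⊢
        refine ⟨hα, fun h => ?_⟩
        exact absurd (h ▸ hR) hS𝒬
      · exact htriv R E₁ hRS
    intro α hα
    rw [mem_autGroup_iff _ le_rfl] at hα ⊢
    exact (hle S hα).2 rfl
  -- conclusion by Alperin's theorem
  apply alperin hS F hF E
  intro P hP
  rcases hP with rfl | hP
  · have hinn : (Cfsg.innerFusionSystem P).autGroup P ≤ E.autGroup P := by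
      apply Subgroup.closure_mono
      intro α hα
      exact inner_le E P hα
    rcases htop 𝒬₁ hg₁ with h1 | h1
    · rcases htop 𝒬₂ hg₂ with h2 | h2
      · exact hE P ⟨h1, h2⟩
      · exact h2.trans hinn
    · exact h1.trans hinn
  · exact hE P ⟨hess 𝒬₁ h₁ hg₁ P hP, hess 𝒬₂ h₂ hg₂ P hP⟩

end Cfsg.Agent.S5327
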