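import Cfsg.Statements.S5330
import Cfsg.Agent.Lib.Helper8_Abelian
import Cfsg.Agent.S5144

set_option autoImplicit false
open Cfsg

namespace Cfsg.Agent.S5330

/-- Let F be a saturated fusion system over a finite abelian p-group S. Then S is the internal direct product of the centre of the system and the focal subgroup: Z(F) ∩ foc(F) = 1 and Z(F)·foc(F) = S. -/
theorem result {Ω : Type*} [Group Ω] {S : Subgroup Ω} [Finite S] (p : ℕ) [Fact p.Prime] (hS : IsPGroup p S) (F : Cfsg.FusionSystem S) (hF : F.IsSaturated p) (hab : ∀ x ∈ S, ∀ y ∈ S, x * y = y * x) : F.center ⊓ F.focalSubgroup = ⊥ ∧ F.center ⊔ F.focalSubgroup = S := by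
  open Cfsg.Agent.Lib.Helper8_Fusion Cfsg.Agent.Lib.Helper8_Saturated Cfsg.Agent.Lib.Helper8_Alperin Cfsg.Agent.Lib.Helper8_Abelian in
  -- commutative group structure on `S`
  letI instC : CommGroup S :=
    { (inferInstance : Group S) with mul_comm := fun a b => Subtype.ext (hab a a.2 b b.2) }
  have hcopA := card_autGroup_top_coprime_of_abelian hS F hF hab
  have hcop : Nat.Coprime (Nat.card S) (Nat.card (F.autGroup S)) := by
    obtain ⟨k, hk⟩ := IsPGroup.iff_card.mp hS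
    rw [hk]
    exact (Nat.Coprime.pow_right k hcopA).symm
  obtain ⟨hdec, hint⟩ := abelian_coprime (V := S) (F.autGroup S) hcop
  -- the centre is fixed by `Aut_F(S)`
  have hcen := Cfsg.Agent.S5144.result F
  have hcenS : F.center ≤ S := hcen.1
  have hcenfix : ∀ (z : Ω) (hz : z ∈ F.center), ∀ α ∈ F.autGroup S,
      α ⟨z, hcenS hz⟩ = ⟨z, hcenS hz⟩ := by
    intro z hz α hα
    have hα' : α ∈ Iso F S S := (mem_autGroup_iff F le_rfl α).mp hα
    obtain ⟨ψ, hψ, hψS, hψQ⟩ := hcen.2 S _ hα'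
    have h1 := hψS ⟨z, hcenS hz⟩
    have h2 := hψQ ⟨z, hz⟩
    apply Subtype.ext
    have h3 : (Subgroup.inclusion (le_sup_left : S ≤ S ⊔ F.center) ⟨z, hcenS hz⟩) =
        (Subgroup.inclusion (le_sup_right : F.center ≤ S ⊔ F.center) ⟨z, hz⟩) := rfl
    rw [h3, h2] at h1
    exact h1.symm
  -- the fixed points are central
  let Q : Subgroup Ω :=
    { carrier := {x | ∃ hx : x ∈ S, ∀ α ∈ F.autGroup S, α ⟨x, hx⟩ = ⟨x, hx⟩}
      one_mem' := ⟨S.one_mem, fun α _ => map_one α⟩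
      mul_mem' := by
        rintro a b ⟨ha, ha'⟩ ⟨hb, hb'⟩
        refine ⟨S.mul_mem ha hb, fun α hα => ?_⟩
        have : (⟨a * b, S.mul_mem ha hb⟩ : S) = ⟨a, ha⟩ * ⟨b, hb⟩ := rfl
        rw [this, map_mul, ha' α hα, hb' α hα]
      inv_mem' := by
        rintro a ⟨ha, ha'⟩
        refine ⟨S.inv_mem ha, fun α hα => ?_⟩
        have : (⟨a⁻¹, S.inv_mem ha⟩ : S) = (⟨a, ha⟩ : S)⁻¹ := rfl
        rw [this, map_inv, ha' α hα] }
  have hQS : Q ≤ S := fun x hx => hx.1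
  have hQc : F.IsCentral Q := by
    refine ⟨hQS, ?_⟩
    intro P φ hφ
    obtain ⟨α, hα, hαφ⟩ := exists_aut_top_of_abelian hS F hF hab P φ hφ
    have hα' : α ∈ Iso F S S := (mem_autGroup_iff F le_rfl α).mp hα
    have hPS : P ≤ S := (F.le_of_mem hφ).1
    have hle : P ⊔ Q ≤ S := sup_le hPS hQS
    refine ⟨_, restrict_mem F hle hα', ?_, ?_⟩
    · intro x
      exact (hαφ x (hPS x.2)).symm
    · rintro ⟨x, hxS, hx⟩
      exact congrArg Subtype.val (hx α hα)
  have hQcen : Q ≤ F.center := le_sSup hQc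
  -- the focal subgroup is the image of `[S, Aut_F(S)]`
  have hfoc1 : F.focalSubgroup ≤
      (Subgroup.closure {y : S | ∃ a ∈ F.autGroup S, ∃ x : S, y = x⁻¹ * a x}).map S.subtype := by
    rw [FusionSystem.focalSubgroup, Subgroup.closure_le]
    rintro _ ⟨P, φ, x, hφ, rfl⟩
    obtain ⟨α, hα, hαφ⟩ := exists_aut_top_of_abelian hS F hF hab P φ hφ
    have hPS : P ≤ S := (F.le_of_mem hφ).1
    refine ⟨(⟨x, hPS x.2⟩ : S)⁻¹ * α ⟨x, hPS x.2⟩,
      Subgroup.subset_closure ⟨α, hα, ⟨x, hPS x.2⟩, rfl⟩, ?_⟩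
    rw [hαφ x (hPS x.2)]
    rfl
  have hfoc2 : (Subgroup.closure {y : S | ∃ a ∈ F.autGroup S, ∃ x : S, y = x⁻¹ * a x}).map
      S.subtype ≤ F.focalSubgroup := by
    rw [Subgroup.map_le_iff_le_comap, Subgroup.closure_le]
    rintro _ ⟨α, hα, x, rfl⟩
    have hα' : α ∈ Iso F S S := (mem_autGroup_iff F le_rfl α).mp hα
    show S.subtype (x⁻¹ * α x) ∈ F.focalSubgroup
    apply Subgroup.subset_closure
    exact ⟨S, _, x, hα', rfl⟩
  have hfocS : F.focalSubgroup ≤ S := by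
    intro y hy
    obtain ⟨w, -, rfl⟩ := hfoc1 hy
    exact w.2
  constructor
  · rw [eq_bot_iff]
    rintro z ⟨hzc, hzf⟩
    rw [Subgroup.mem_bot]
    obtain ⟨w, hw, hwz⟩ := hfoc1 hzf
    have hwz' : w = ⟨z, hcenS hzc⟩ := Subtype.ext hwz
    have h1 := hint ⟨z, hcenS hzc⟩ (fun a ha => hcenfix z hzc a ha) (hwz' ▸ hw)
    exact congrArg Subtype.val h1
  · apply le_antisymm (sup_le hcenS hfocS)
    intro v hv
    obtain ⟨c, w, hc, hw, hvcw⟩ := hdec ⟨v, hv⟩
    have h1 : (c : Ω) ∈ F.center := hQcen ⟨c.2, fun α hα => hc α hα⟩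
    have h2 : (w : Ω) ∈ F.focalSubgroup := hfoc2 ⟨w, hw, rfl⟩
    have h3 : v = (c : Ω) * (w : Ω) := congrArg Subtype.val hvcw
    rw [h3]
    exact Subgroup.mul_mem_sup h1 h2

end Cfsg.Agent.S5330
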