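import Cfsg.Statements.S5331
import Cfsg.Agent.Lib.Helper8_Abelian
import Cfsg.Agent.Lib.Helper8_DistinctInv

set_option autoImplicit false
open Cfsg

namespace Cfsg.Agent.S5331

/-- Let S be a finite abelian 2-group that is a direct product of cyclic groups of pairwise distinct orders 2^{a_1} < 2^{a_2} < ⋯ < 2^{a_n} (all a_i ≥ 1). Then every saturated fusion system over S is the inner one: its maps are exactly the conjugations by elements of S. -/
theorem result {Ω : Type*} [Group Ω] {S : Subgroup Ω} [Finite S] (n : ℕ) (a : Fin n → ℕ) (ha : StrictMono a) (ha1 : ∀ i, 1 ≤ a i) (e : ↥S ≃* Multiplicative ((i : Fin n) → ZMod (2 ^ a i))) (F : Cfsg.FusionSystem S) (hF : F.IsSaturated 2) (P : Subgroup Ω) : F.Hom P = (Cfsg.innerFusionSystem S).Hom P := by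
  haveI : Fact (Nat.Prime 2) := ⟨Nat.prime_two⟩
  have hab : ∀ x ∈ S, ∀ y ∈ S, x * y = y * x := by
    intro x hx y hy
    have h := e.injective (a₁ := (⟨x, hx⟩ * ⟨y, hy⟩ : S)) (a₂ := ⟨y, hy⟩ * ⟨x, hx⟩)
      (by rw [map_mul, map_mul, mul_comm])
    exact congrArg Subtype.val h
  have hS : IsPGroup 2 S := by
    intro g
    obtain ⟨k, hk⟩ := Cfsg.Agent.Lib.Helper8_DistinctInv.coord_hord a (Multiplicative.toAdd (e g))
    refine ⟨k, ?_⟩
    apply e.injective
    rw [map_pow, map_one]
    exact congrArg Multiplicative.ofAdd hk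
  ext φ
  constructor
  · intro hφ
    obtain ⟨α, hα, hαφ⟩ :=
      Cfsg.Agent.Lib.Helper8_Abelian.exists_aut_top_of_abelian hS F hF hab P φ hφ
    have hcop := Cfsg.Agent.Lib.Helper8_Abelian.card_autGroup_top_coprime_of_abelian hS F hF hab
    haveI : Finite (MulAut S) := inferInstance
    have hm1 : orderOf α ∣ Nat.card (F.autGroup S) := by
      have h1 : orderOf (⟨α, hα⟩ : F.autGroup S) ∣ Nat.card (F.autGroup S) :=
        orderOf_dvd_natCard _
      rwa [Subgroup.orderOf_mk] at h1
    have hmodd : Odd (orderOf α) := by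
      rw [← Nat.not_even_iff_odd]
      intro hev
      have h2 : 2 ∣ Nat.card (F.autGroup S) := dvd_trans (even_iff_two_dvd.mp hev) hm1
      have := Nat.Coprime.eq_one_of_dvd hcop.symm h2
      omega
    let θ : ((i : Fin n) → ZMod (2 ^ a i)) →+ ((i : Fin n) → ZMod (2 ^ a i)) :=
      AddMonoidHom.toMultiplicative.symm
        ((e.toMonoidHom.comp α.toMonoidHom).comp e.symm.toMonoidHom)
    have hθ : ∀ x, θ x = Multiplicative.toAdd (e (α (e.symm (Multiplicative.ofAdd x)))) :=
      fun x => rfl
    have hiter : ∀ (k : ℕ) x,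
        θ^[k] x = Multiplicative.toAdd (e ((α ^ k) (e.symm (Multiplicative.ofAdd x)))) := by
      intro k
      induction k with
      | zero => intro x; simp
      | succ k ih =>
        intro x
        rw [Function.iterate_succ_apply', ih, hθ, pow_succ', MulAut.mul_apply]
        simp
    have hθm : ∀ x, θ^[orderOf α] x = x := by
      intro x
      rw [hiter, pow_orderOf_eq_one]
      simp
    have htriv := Cfsg.Agent.Lib.Helper8_DistinctInv.coord_odd_trivial a ha ha1 θ hmodd hθm
    have hα1 : ∀ s : S, α s = s := by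
      intro s
      have h1 := htriv (Multiplicative.toAdd (e s))
      rw [hθ] at h1
      have h2 : e (α (e.symm (Multiplicative.ofAdd (Multiplicative.toAdd (e s))))) = e s :=
        congrArg Multiplicative.ofAdd h1
      have h3 := e.injective h2
      simpa using h3
    show φ ∈ {φ : P →* Ω | P ≤ S ∧ ∃ g ∈ S, ∀ x : P, φ x = g * (x : Ω) * g⁻¹}
    refine ⟨(F.le_of_mem hφ).1, 1, S.one_mem, fun x => ?_⟩
    rw [hαφ x ((F.le_of_mem hφ).1 x.2), hα1]
    simp
  · exact fun h => Cfsg.Agent.Lib.Helper8_Frobenius.inner_le F P h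

end Cfsg.Agent.S5331
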