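import Cfsg.Statements.S5333
import Cfsg.Agent.Lib.Helper8_Centric
import Cfsg.Agent.S5097

set_option autoImplicit false
open Cfsg

namespace Cfsg.Agent.S5333

/-- Let F′ ≤ F be saturated fusion systems over the same finite p-group S. Suppose that for every subgroup Z ≤ S of order p that is fully centralized in F′, the maps of F and of F′ with source Z coincide and the centralizer systems C_F(Z) and C_{F′}(Z) coincide. Then F = F′. -/
theorem result {Ω : Type*} [Group Ω] {S : Subgroup Ω} [Finite S] (p : ℕ) [Fact p.Prime] (hS : IsPGroup p S) (F : Cfsg.FusionSystem S) (hF : F.IsSaturated p) (F' : Cfsg.FusionSystem S) (hF' : F'.IsSaturated p) (hle : F' ≤ F) (hZ : ∀ Z : Subgroup Ω, Z ≤ S → Nat.card Z = p → F'.IsFullyCentralized Z → F.Hom Z = F'.Hom Z ∧ ∀ (C C' : Cfsg.FusionSystem (Cfsg.FusionSystem.centralizerIn S Z)), F.IsCentralizerSystem Z C → F'.IsCentralizerSystem Z C' → ∀ P : Subgroup Ω, C.Hom P = C'.Hom P) (P : Subgroup Ω) : F.Hom P = F'.Hom P := by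
  open Cfsg.Agent.Lib.Helper8_Fusion Cfsg.Agent.Lib.Helper8_Saturated Cfsg.Agent.Lib.Helper8_Alperin Cfsg.Agent.Lib.Helper8_Centric Cfsg.FusionSystem in
  have h := alperin hS F hF F' (by
    intro P hP α hα
    have hPc : F.IsCentric P := by
      rcases hP with rfl | hP
      · exact top_isCentric F
      · exact hP.1
    have hPS : P ≤ S := hPc.1
    by_cases hSbot : S = ⊥
    · -- trivial case
      have hPbot : P = ⊥ := by rw [← le_bot_iff, ← hSbot]; exact hPS
      have hα1 : α = 1 := by
        ext x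
        have hx : ∀ y : P, y = 1 := by
          intro y
          apply Subtype.ext
          have h2 : P ≤ ⊥ := hPbot.le
          have := h2 y.2
          rwa [Subgroup.mem_bot] at this
        rw [hx (α x), hx ((1 : MulAut P) x)]
      rw [hα1]
      exact Subgroup.one_mem _
    -- a central element of order p
    have : Nontrivial S := (Subgroup.nontrivial_iff_ne_bot S).mpr hSbot
    have := hS.center_nontrivial
    have hcp : IsPGroup p (Subgroup.center S) := hS.to_subgroup _
    have hdvd : p ∣ Nat.card (Subgroup.center S) := by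
      have hne1 : Nat.card (Subgroup.center S) ≠ 1 := by
        intro h1
        have := (Nat.card_eq_one_iff_unique.mp h1).1
        exact not_subsingleton _ this
      exact hcp.card_eq_or_dvd.resolve_left hne1
    obtain ⟨z₀, hz₀⟩ := exists_prime_orderOf_dvd_card' p hdvd
    set z : Ω := ((z₀ : S) : Ω) with hz
    have hzS : z ∈ S := (z₀ : S).2
    have hzord : orderOf z = p := by
      rw [hz, Subgroup.orderOf_coe, Subgroup.orderOf_coe]; exact hz₀
    have hzcomm : ∀ s ∈ S, s * z = z * s := by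
      intro s hs
      have := (Subgroup.mem_center_iff.mp z₀.2) ⟨s, hs⟩
      exact congrArg Subtype.val this
    set Z : Subgroup Ω := Subgroup.zpowers z with hZdef
    have hZS : Z ≤ S := by rw [hZdef, Subgroup.zpowers_le]; exact hzS
    have hZcard : Nat.card Z = p := by rw [hZdef, Nat.card_zpowers, hzord]
    have hZcomm : ∀ y ∈ Z, ∀ s ∈ S, s * y = y * s := by
      intro y hy s hs
      obtain ⟨k, rfl⟩ := Subgroup.mem_zpowers_iff.mp hy
      exact ((Commute.zpow_right (hzcomm s hs) k : Commute s (z ^ k))).eq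
    have hCZ : centralizerIn S Z = S := by
      apply le_antisymm inf_le_left
      intro s hs
      refine ⟨hs, ?_⟩
      show s ∈ Subgroup.centralizer (Z : Set Ω)
      rw [Subgroup.mem_centralizer_iff]
      intro y hy
      exact (hZcomm y hy s hs).symm
    have hZfc : F'.IsFullyCentralized Z := by
      refine ⟨hZS, fun Q _ => ?_⟩
      rw [hCZ]
      exact Subgroup.card_le_of_le inf_le_left
    obtain ⟨hHomZ, hCsys⟩ := hZ Z hZS hZcard hZfc
    have hZP : Z ≤ P := by
      intro y hy
      apply hPc.2 P (isConj_refl F hPS)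
      refine ⟨hZS hy, ?_⟩
      show y ∈ Subgroup.centralizer (P : Set Ω)
      rw [Subgroup.mem_centralizer_iff]
      intro x hx
      exact hZcomm y hy x (hPS hx)
    have hαIso : α ∈ Iso F P P := (mem_autGroup_iff F hPS α).mp hα
    rw [mem_autGroup_iff F' hPS]
    set φ : P →* Ω := P.subtype.comp α.toMonoidHom with hφdef
    have hφ : φ ∈ F.Hom P := hαIso
    have hφZ : φ.comp (Subgroup.inclusion hZP) ∈ F'.Hom Z := by
      rw [← hHomZ]; exact restrict_mem F hZP hφ
    obtain ⟨ψ₀, hψ₀, hψ₀φ⟩ := F'.inv_mem hφZ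
    have hZ'P : (φ.comp (Subgroup.inclusion hZP)).range ≤ P := by
      rintro _ ⟨y, rfl⟩
      exact (α (Subgroup.inclusion hZP y)).2
    have hψ₀r : ψ₀.range = Z := by
      ext y
      constructor
      · rintro ⟨⟨_, y', rfl⟩, rfl⟩
        rw [hψ₀φ y']; exact y'.2
      · intro hy
        exact ⟨⟨_, ⟨⟨y, hy⟩, rfl⟩⟩, hψ₀φ ⟨y, hy⟩⟩
    have hZrec : F'.IsReceptive Z := receptive_of_fullyCentralized hS F' hF' hZfc
    obtain ⟨ψ, hψ, hψψ₀⟩ := receptive_extend F' hZrec hψ₀ hψ₀r P hZ'P (by
      intro g hg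
      -- g centralizes Z' = α(Z)
      have hgc : ∀ x : (φ.comp (Subgroup.inclusion hZP)).range, g * (x : Ω) * g⁻¹ = x := by
        rintro ⟨_, y, rfl⟩
        show g * ((α (Subgroup.inclusion hZP y) : P) : Ω) * g⁻¹ = ((α (Subgroup.inclusion hZP y) : P) : Ω)
        have h1 : (α.symm ⟨g, hg⟩ : P) * Subgroup.inclusion hZP y = Subgroup.inclusion hZP y * (α.symm ⟨g, hg⟩ : P) := by
          apply Subtype.ext
          exact hZcomm y y.2 _ (hPS (α.symm ⟨g, hg⟩).2)
        have h2 := congrArg α h1
        rw [map_mul, map_mul, MulEquiv.apply_symm_apply] at h2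
        have h3 := congrArg (fun w : P => (w : Ω)) h2
        simp only [Subgroup.coe_mul] at h3
        rw [h3]; group
      refine ⟨hPS hg, ?_, 1, S.one_mem, ?_⟩
      · rw [Subgroup.mem_normalizer_iff]
        intro y
        constructor
        · intro hy
          rw [hgc ⟨y, hy⟩]; exact hy
        · intro hy
          have h1 := hgc ⟨g * y * g⁻¹, hy⟩
          have h2 : g * y * g⁻¹ = y := by
            have h3 : g * (g * y * g⁻¹) * g⁻¹ = g * y * g⁻¹ := h1
            exact mul_left_cancel (mul_right_cancel h3)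
          rw [← h2]; exact hy
      · intro x hx
        have h1 : (⟨g * (x : Ω) * g⁻¹, hx⟩ : (φ.comp (Subgroup.inclusion hZP)).range) = x :=
          Subtype.ext (hgc x)
        rw [h1]; simp)
    -- χ = ψ ∘ φ fixes Z
    have hφP : ∀ x : P, φ x ∈ P := fun x => (α x).2
    have hχ : ψ.comp (φ.codRestrict P hφP) ∈ F.Hom P := F.comp_mem hφ (hle _ hψ) hφP
    have hχZ : ∀ y : Z, (ψ.comp (φ.codRestrict P hφP)) (Subgroup.inclusion hZP y) = (y : Ω) := by
      intro y
      have h1 := hψψ₀ ⟨_, ⟨y, rfl⟩⟩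
      have h2 := hψ₀φ y
      rw [← h2, ← h1]
      rfl
    -- χ is a map of the centralizer system
    obtain ⟨C, hC⟩ := Cfsg.Agent.S5097.result F Z hZS
    obtain ⟨C', hC'⟩ := Cfsg.Agent.S5097.result F' Z hZS
    have hsup : P ⊔ Z ≤ P := sup_le le_rfl hZP
    have hχC : ψ.comp (φ.codRestrict P hφP) ∈ F.centralizerHom Z P := by
      refine ⟨hχ, by rw [hCZ]; exact hPS, fun x => by rw [hCZ]; exact (F.le_of_mem hχ).2 x,
        (ψ.comp (φ.codRestrict P hφP)).comp (Subgroup.inclusion hsup), restrict_mem F hsup hχ,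
        fun x => rfl, ?_⟩
      intro y
      exact hχZ y
    rw [← hC P, hCsys C C' hC hC' P, hC' P] at hχC
    have hχ' : ψ.comp (φ.codRestrict P hφP) ∈ F'.Hom P := hχC.1
    -- φ = ψ⁻¹ ∘ χ
    obtain ⟨ψi, hψi, hψi'⟩ := F'.inv_mem hψ
    have hv : ∀ x : P, (ψ.comp (φ.codRestrict P hφP)) x ∈ ψ.range := fun x => ⟨_, rfl⟩
    refine comp_mem' F' hχ' hψi hv φ ?_
    intro x
    exact (hψi' (φ.codRestrict P hφP x)).symm)
  exact Set.Subset.antisymm (h P) (hle P)

end Cfsg.Agent.S5333
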