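import Cfsg.Statements.S5335
import Cfsg.Agent.Lib.Helper8_Centric

set_option autoImplicit false
open Cfsg

namespace Cfsg.Agent.S5335

/-- Let F′ ≤ F be saturated fusion systems over the same finite p-group S. If the maps of F and of F′ with source Q coincide for every F-centric subgroup Q that is minimal among F-centric subgroups, then F = F′. -/
theorem result {Ω : Type*} [Group Ω] {S : Subgroup Ω} [Finite S] (p : ℕ) [Fact p.Prime] (hS : IsPGroup p S) (F : Cfsg.FusionSystem S) (hF : F.IsSaturated p) (F' : Cfsg.FusionSystem S) (hF' : F'.IsSaturated p) (hle : F' ≤ F) (hmin : ∀ Q : Subgroup Ω, F.IsCentric Q → (∀ R : Subgroup Ω, R < Q → ¬ F.IsCentric R) → F.Hom Q = F'.Hom Q) (P : Subgroup Ω) : F.Hom P = F'.Hom P := by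
  open Cfsg.Agent.Lib.Helper8_Fusion Cfsg.Agent.Lib.Helper8_Saturated Cfsg.Agent.Lib.Helper8_Alperin Cfsg.Agent.Lib.Helper8_Centric in
  have h := alperin hS F hF F' (by
    intro P hP α hα
    have hPc : F.IsCentric P := by
      rcases hP with rfl | hP
      · exact top_isCentric F
      · exact hP.1
    have hPS : P ≤ S := hPc.1
    rw [mem_autGroup_iff _ hPS] at hα ⊢
    exact hom_centric_le_of_minimal hS F hF F' hF' hle hmin hPc hα)
  exact Set.Subset.antisymm (h P) (hle P)

end Cfsg.Agent.S5335
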