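import Cfsg.Statements.S5336
import Cfsg.Agent.Lib.Helper8_NormalSub

set_option autoImplicit false
open Cfsg

namespace Cfsg.Agent.S5336

/-- Let G be a finite group with Sylow p-subgroup S whose fusion system F_S(G) is simple. If G has no nontrivial normal subgroup of order prime to p and no proper subgroup H containing S induces the same fusion system on S as G does, then G is a simple group. -/
theorem result {G : Type*} [Group G] [Finite G] (p : ℕ) [Fact p.Prime] (S : Sylow p G) (hsimple : (Cfsg.groupFusionSystem (S : Subgroup G)).IsSimple p) (hcore : Cfsg.pPrimeCore p G = ⊥) (hmin : ∀ (H : Subgroup G) (hSH : (S : Subgroup G) ≤ H), H ≠ ⊤ → ∃ P : Subgroup G, (Cfsg.fusionSystemOfSubgroup H (S : Subgroup G) hSH).Hom P ≠ (Cfsg.groupFusionSystem (S : Subgroup G)).Hom P) : IsSimpleGroup G := by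
  obtain ⟨hsat, hSne, hall⟩ := hsimple
  haveI : Nontrivial G := by
    by_contra hnt
    rw [not_nontrivial_iff_subsingleton] at hnt
    exact hSne (Subsingleton.elim _ _)
  refine IsSimpleGroup.mk ?_
  intro N hN
  haveI := hN
  have hnorm := Cfsg.Agent.Lib.Helper8_NormalSub.subgroupSystem_normalIn S N
  rcases hall _ _ hnorm with h0 | ⟨hT, hE⟩
  · -- S ⊓ N = ⊥ : N is a p'-group
    left
    have hcop : (Nat.card N).Coprime p := by
      have hp : p.Prime := Fact.out
      apply Nat.Coprime.symm
      rw [Nat.Prime.coprime_iff_not_dvd hp]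
      intro hdvd
      have h1 := (Cfsg.Agent.Lib.Helper5_Residual.sylowInfNormal S N).ne_bot_of_dvd_card hdvd
      apply h1
      rw [Cfsg.Agent.Lib.Helper5_Residual.coe_sylowInfNormal, ← Subgroup.inf_subgroupOf_right, h0]
      exact Subgroup.bot_subgroupOf _
    have hle : N ≤ Cfsg.pPrimeCore p G := le_sSup ⟨hN, hcop⟩
    rw [hcore] at hle
    exact le_bot_iff.mp hle
  · right
    have hSN : (S : Subgroup G) ≤ N := inf_eq_left.mp hT
    by_contra hne
    obtain ⟨P, hP⟩ := hmin N hSN hne
    apply hP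
    rw [← hE P]
    ext φ
    constructor
    · rintro ⟨h1, h2, g, hg, h3⟩
      exact ⟨le_inf h1 (h1.trans hSN), fun x => ⟨h2 x, hSN (h2 x)⟩, g, hg, h3⟩
    · rintro ⟨h1, h2, g, hg, h3⟩
      exact ⟨h1.trans inf_le_left, fun x => (h2 x).1, g, hg, h3⟩

end Cfsg.Agent.S5336
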