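import Cfsg.Statements.S5338
import Cfsg.Agent.Lib.Helper8_Frattini

set_option autoImplicit false
open Cfsg

namespace Cfsg.Agent.S5338

/-- Let F be a saturated fusion system over a finite p-group S and F′ ≤ F a saturated subsystem over all of S that is invariant under F in the conjugation sense: for every map φ of F with source Q and every map ψ of F′ between subgroups R ≤ Q (with values in Q), the transported map φψφ⁻¹ defined on φ(R) is again a map of F′. If moreover Aut_{F′}(S) = Aut_F(S), then F′ = F. -/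
theorem result {Ω : Type*} [Group Ω] {S : Subgroup Ω} [Finite S] (p : ℕ) [Fact p.Prime] (hS : IsPGroup p S) (F : Cfsg.FusionSystem S) (hF : F.IsSaturated p) (F' : Cfsg.FusionSystem S) (hF' : F'.IsSaturated p) (hle : F' ≤ F) (hinv : ∀ (Q : Subgroup Ω) (φ : ↥Q →* Ω), φ ∈ F.Hom Q → ∀ (R : Subgroup Ω) (hRQ : R ≤ Q) (ψ : ↥R →* Ω), ψ ∈ F'.Hom R → ∀ (hψQ : ∀ x : R, ψ x ∈ Q), ∃ χ ∈ F'.Hom ((R.subgroupOf Q).map φ), ∀ (x : R) (hx : φ ⟨(x : Ω), hRQ x.2⟩ ∈ (R.subgroupOf Q).map φ), χ ⟨φ ⟨(x : Ω), hRQ x.2⟩, hx⟩ = φ ⟨ψ x, hψQ x⟩) (htop : F'.autGroup S = F.autGroup S) (P : Subgroup Ω) : F'.Hom P = F.Hom P := by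
  open Cfsg.Agent.Lib.Helper8_Fusion Cfsg.Agent.Lib.Helper8_Saturated Cfsg.Agent.Lib.Helper8_Alperin Cfsg.Agent.Lib.Helper8_Frattini in
  have hnormal : ∀ Q : Subgroup Ω, Q ≤ S → ∀ α ∈ F.autGroup Q, ∀ β ∈ F'.autGroup Q,
      α * β * α⁻¹ ∈ F'.autGroup Q := by
    intro Q hQS α hα β hβ
    rw [mem_autGroup_iff _ hQS] at hα hβ ⊢
    obtain ⟨χ, hχ, hχφ⟩ := hinv Q _ hα Q le_rfl _ hβ (fun x => (β x).2)
    have hmap : (Q.subgroupOf Q).map (Q.subtype.comp α.toMonoidHom) = Q := by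
      ext y
      constructor
      · rintro ⟨x, -, rfl⟩
        exact (α x).2
      · intro hy
        refine ⟨α⁻¹ ⟨y, hy⟩, by simp, ?_⟩
        show ((α (α⁻¹ ⟨y, hy⟩) : Q) : Ω) = y
        simp
    refine hom_congr F' hmap hχ _ ?_
    intro x hx hx'
    have hxα : x = (Q.subtype.comp α.toMonoidHom) ⟨((α⁻¹ ⟨x, hx'⟩ : Q) : Ω), (le_refl Q) (α⁻¹ ⟨x, hx'⟩).2⟩ := by
      show x = ((α (α⁻¹ ⟨x, hx'⟩) : Q) : Ω)
      simp
    have h1 := hχφ (α⁻¹ ⟨x, hx'⟩) (by rw [← hxα]; exact hx)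
    have h2 : (⟨x, hx⟩ : ↥((Q.subgroupOf Q).map (Q.subtype.comp α.toMonoidHom))) =
        ⟨(Q.subtype.comp α.toMonoidHom) ⟨((α⁻¹ ⟨x, hx'⟩ : Q) : Ω), (le_refl Q) (α⁻¹ ⟨x, hx'⟩).2⟩,
          by rw [← hxα]; exact hx⟩ := Subtype.ext hxα
    rw [h2, h1]
    rfl
  have h := alperin_skeleton hS F hF F' (by
    intro Q hQn IH
    by_cases hQS : Q = S
    · subst hQS
      exact htop.ge
    · exact autGroup_le_of_frattini hS F hF F' hQn hQS (hnormal Q hQn.1) IH)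
  exact Set.Subset.antisymm (hle P) (h P)

end Cfsg.Agent.S5338
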