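import Cfsg.Statements.S5341
import Cfsg.Agent.Lib.Helper8_Saturated

set_option autoImplicit false
open Cfsg

namespace Cfsg.Agent.S5341

open Cfsg.FusionSystem Cfsg.Agent.Lib.Helper8_Saturated Cfsg.Agent.Lib.Helper8_Fusion

/-- Let F be a saturated fusion system over a finite p-group S, T a subgroup strongly closed in F, and F′ any fusion system over T all of whose maps are maps of F. For a subgroup Q ≤ T: if Q is fully centralized in F then it is fully centralized in F′, and if Q is fully normalized in F then it is fully normalized in F′. -/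
theorem result {Ω : Type*} [Group Ω] {S : Subgroup Ω} [Finite S] (p : ℕ) [Fact p.Prime] (hS : IsPGroup p S) (F : Cfsg.FusionSystem S) (hF : F.IsSaturated p) (T : Subgroup Ω) (hT : F.StronglyClosed T) (F' : Cfsg.FusionSystem T) (hsub : F'.IsSubsystemOf F) (Q : Subgroup Ω) (hQT : Q ≤ T) : (F.IsFullyCentralized Q → F'.IsFullyCentralized Q) ∧ (F.IsFullyNormalized Q → F'.IsFullyNormalized Q) := by
  have hTS : T ≤ S := hT.1
  have : Finite T := finite_of_le hTS
  constructor
  · intro hQ
    have hQr := receptive_of_fullyCentralized hS F hF hQ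
    refine ⟨hQT, ?_⟩
    rintro R ⟨φ, hφ, hφr⟩
    have hQR : F.IsConj Q R := ⟨φ, hsub Q hφ, hφr⟩
    obtain ⟨χ, hχ, hχr⟩ := isConj_symm F hQR
    obtain ⟨N, ψ, hψ, hRN, hCN, -, hψC⟩ := extend_to_centralizer F hQr χ hχ hχr
    have hψinj := F.injective_of_mem hψ
    have hle : centralizerIn T R ≤ centralizerIn S R := fun c hc => ⟨hTS hc.1, hc.2⟩
    have hleN : centralizerIn T R ≤ N := hle.trans hCN
    have hres := restrict_mem F hleN hψ
    have hvalsT := hT.2 (centralizerIn T R) inf_le_left _ hres
    let f : centralizerIn T R → centralizerIn T Q := fun c =>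
      ⟨ψ ⟨(c : Ω), hleN c.2⟩, hvalsT c, (hψC ⟨(c : Ω), hle c.2⟩).2⟩
    have hfinj : Function.Injective f := by
      intro c d hcd
      have h1 : ψ ⟨(c : Ω), hleN c.2⟩ = ψ ⟨(d : Ω), hleN d.2⟩ :=
        congrArg (fun z : centralizerIn T Q => (z : Ω)) hcd
      have h2 := hψinj h1
      apply Subtype.ext
      exact congrArg (fun z : N => (z : Ω)) h2
    have : Finite (centralizerIn T Q) := finite_of_le (inf_le_left : centralizerIn T Q ≤ T)
    exact Nat.card_le_card_of_injective f hfinj
  · intro hQ
    obtain ⟨-, hQa⟩ := fullyNormalized_facts hS F hF hQ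
    have hQr := receptive_of_fullyNormalized hS F hF hQ
    refine ⟨hQT, ?_⟩
    rintro R ⟨φ, hφ, hφr⟩
    have hQR : F.IsConj Q R := ⟨φ, hsub Q hφ, hφr⟩
    obtain ⟨ψ, hψ, hψN, -⟩ := exists_normalizer_map hS F hQa hQr (isConj_symm F hQR)
    have hψinj := F.injective_of_mem hψ
    have hle : normalizerIn T R ≤ normalizerIn S R := fun c hc => ⟨hTS hc.1, hc.2⟩
    have hres := restrict_mem F hle hψ
    have hvalsT := hT.2 (normalizerIn T R) inf_le_left _ hres
    let f : normalizerIn T R → normalizerIn T Q := fun c =>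
      ⟨ψ ⟨(c : Ω), hle c.2⟩, hvalsT c, (hψN ⟨(c : Ω), hle c.2⟩).2⟩
    have hfinj : Function.Injective f := by
      intro c d hcd
      have h1 : ψ ⟨(c : Ω), hle c.2⟩ = ψ ⟨(d : Ω), hle d.2⟩ :=
        congrArg (fun z : normalizerIn T Q => (z : Ω)) hcd
      have h2 := hψinj h1
      apply Subtype.ext
      exact congrArg (fun z : normalizerIn S R => (z : Ω)) h2
    have : Finite (normalizerIn T Q) := finite_of_le (inf_le_left : normalizerIn T Q ≤ T)
    exact Nat.card_le_card_of_injective f hfinj

end Cfsg.Agent.S5341
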