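import Cfsg.Statements.S5345
-- import your own Cfsg.Agent.* helpers here

set_option autoImplicit false
open Cfsg

namespace Cfsg.Agent.S5345

/-- Two members of a set of 3-transpositions lying in a common 2-subgroup commute. -/
theorem commute_of_mem_two_group {G : Type*} [Group G] {D : Set G}
    (hD : Cfsg.IsThreeTranspositionSet D) {P : Subgroup G} (hP : IsPGroup 2 P)
    {d e : G} (hd : d ∈ D) (he : e ∈ D) (hdP : d ∈ P) (heP : e ∈ P) : Commute d e := by
  have hd2 : d * d = 1 := by
    have := hD.1 d hd
    rw [← pow_two, ← this, pow_orderOf_eq_one]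
  have he2 : e * e = 1 := by
    have := hD.1 e he
    rw [← pow_two, ← this, pow_orderOf_eq_one]
  have hdinv : d⁻¹ = d := inv_eq_of_mul_eq_one_left hd2
  have heinv : e⁻¹ = e := inv_eq_of_mul_eq_one_left he2
  have key : (d * e) ^ 2 = 1 := by
    rcases hD.2 d hd e he with h | h
    · exact h
    · -- order divides 3 and is a power of 2
      obtain ⟨k, hk⟩ := hP ⟨d * e, P.mul_mem hdP heP⟩
      have hk' : (d * e) ^ (2 ^ k) = 1 := by
        have := congrArg Subtype.val hk
        simpa using this
      have h1 : orderOf (d * e) ∣ 3 := orderOf_dvd_of_pow_eq_one h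
      have h2 : orderOf (d * e) ∣ 2 ^ k := orderOf_dvd_of_pow_eq_one hk'
      have h3 : orderOf (d * e) ∣ Nat.gcd 3 (2 ^ k) := Nat.dvd_gcd h1 h2
      have h4 : Nat.gcd 3 (2 ^ k) = 1 := by
        apply Nat.Coprime.pow_right
        decide
      rw [h4, Nat.dvd_one, orderOf_eq_one_iff] at h3
      rw [h3, one_pow]
  -- (de)^2 = 1 → de = ed
  unfold Commute SemiconjBy
  have : d * e * (d * e) = 1 := by rw [← pow_two]; exact key
  calc d * e = d * e * (d * e) * (e⁻¹ * d⁻¹) := by group
    _ = e * d := by rw [this, one_mul, hdinv, heinv]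

/-- A subgroup generated by pairwise commuting involutions is a 2-group. -/
theorem isPGroup_closure {G : Type*} [Group G] {E : Set G}
    (h2 : ∀ a ∈ E, a * a = 1) (hc : ∀ a ∈ E, ∀ b ∈ E, Commute a b) :
    IsPGroup 2 (Subgroup.closure E) := by
  have hcomm : ∀ x ∈ Subgroup.closure E, ∀ y ∈ Subgroup.closure E, x * y = y * x := by
    have := Subgroup.isMulCommutative_closure (k := E) (fun x hx y hy => hc x hx y hy)
    intro x hx y hy
    have h := this.is_comm.comm ⟨x, hx⟩ ⟨y, hy⟩
    exact congrArg Subtype.val h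
  have hsq : ∀ x (hx : x ∈ Subgroup.closure E), x * x = 1 := by
    intro x hx
    induction hx using Subgroup.closure_induction with
    | mem x hx => exact h2 x hx
    | one => simp
    | mul x y hx hy ihx ihy =>
      calc x * y * (x * y) = x * (y * x) * y := by group
        _ = x * (x * y) * y := by rw [hcomm y hy x hx]
        _ = (x * x) * (y * y) := by group
        _ = 1 := by rw [ihx, ihy, one_mul]
    | inv x hx ih =>
      have : x⁻¹ = x := inv_eq_of_mul_eq_one_left ih
      rw [this, ih]
  intro g
  refine ⟨1, ?_⟩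
  apply Subtype.ext
  have := hsq g.1 g.2
  simp [pow_two, this]

/-- Let D be a conjugation-invariant generating set of 3-transpositions of a finite group G and T a Sylow 2-subgroup of G. Then the members of D lying in T generate an abelian subgroup, and their number is the width of D (the largest number of pairwise commuting members of D). -/
theorem result {G : Type*} [Group G] [Finite G] {D : Set G} (hD : Cfsg.IsThreeTranspositionGroup D) (T : Sylow 2 G) : IsMulCommutative (Subgroup.closure {d : G | d ∈ D ∧ d ∈ T}) ∧ {d : G | d ∈ D ∧ d ∈ T}.ncard = Cfsg.commutingWidth D := by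
  obtain ⟨hD3, hconj, _⟩ := hD
  have hcommT : ∀ a ∈ {d : G | d ∈ D ∧ d ∈ T}, ∀ b ∈ {d : G | d ∈ D ∧ d ∈ T}, Commute a b := by
    intro a ha b hb
    exact commute_of_mem_two_group hD3 T.isPGroup' ha.1 hb.1 ha.2 hb.2
  refine ⟨Subgroup.isMulCommutative_closure (fun x hx y hy => hcommT x hx y hy), ?_⟩
  unfold Cfsg.commutingWidth
  have hbdd : BddAbove {n : ℕ | ∃ E : Set G, E ⊆ D ∧ E.Finite ∧ (∀ a ∈ E, ∀ b ∈ E, Commute a b) ∧ E.ncard = n} := by
    refine ⟨Nat.card G, ?_⟩
    rintro n ⟨E, _, _, _, rfl⟩
    rw [← Set.ncard_univ]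
    exact Set.ncard_le_ncard (Set.subset_univ _) (Set.toFinite _)
  apply le_antisymm
  · apply le_csSup hbdd
    exact ⟨_, fun x hx => hx.1, Set.toFinite _, hcommT, rfl⟩
  · apply csSup_le
    · exact ⟨_, _, fun x hx => hx.1, Set.toFinite _, hcommT, rfl⟩
    · rintro n ⟨E, hED, _, hEc, rfl⟩
      have hE2 : ∀ a ∈ E, a * a = 1 := by
        intro a ha
        have := hD3.1 a (hED ha)
        rw [← pow_two, ← this, pow_orderOf_eq_one]
      obtain ⟨Q, hQ⟩ := (isPGroup_closure hE2 hEc).exists_le_sylow
      obtain ⟨g, hg⟩ := MulAction.exists_smul_eq G Q T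
      -- g • Q = T
      have himg : (fun x => g * x * g⁻¹) '' E ⊆ {d : G | d ∈ D ∧ d ∈ T} := by
        rintro _ ⟨x, hx, rfl⟩
        refine ⟨hconj g x (hED hx), ?_⟩
        have hxQ : x ∈ (Q : Subgroup G) := hQ (Subgroup.subset_closure hx)
        have : g * x * g⁻¹ ∈ ((g • Q : Sylow 2 G) : Subgroup G) := by
          rw [Sylow.coe_subgroup_smul]
          have h := Subgroup.smul_mem_pointwise_smul x (MulAut.conj g) (Q : Subgroup G) hxQ
          exact h
        rw [hg] at this
        exact this
      have hinj : Function.Injective (fun x : G => g * x * g⁻¹) := by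
        intro a b hab
        simpa using hab
      rw [← Set.ncard_image_of_injective E hinj]
      exact Set.ncard_le_ncard himg (Set.toFinite _)

end Cfsg.Agent.S5345
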