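import Cfsg.Statements.S5348
-- import your own Cfsg.Agent.* helpers here

set_option autoImplicit false
open Cfsg

namespace Cfsg.Agent.S5348

/-- Let D be a conjugation-invariant generating set of 3-transpositions of a finite group G and d a member of D. Let V be the set of members of D commuting with exactly the same members of D as d, and W the set of members w of D such that the members of D other than w commuting with w are precisely the members of D other than d commuting with d. Then V = {d} or W = {d}. -/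
theorem result {G : Type*} [Group G] [Finite G] {D : Set G} (hD : Cfsg.IsThreeTranspositionGroup D) {d : G} (hd : d ∈ D) : {v : G | v ∈ D ∧ ∀ e ∈ D, Commute v e ↔ Commute d e} = {d} ∨ {w : G | w ∈ D ∧ {y : G | y ∈ D ∧ y ≠ d ∧ Commute d y} = {y : G | y ∈ D ∧ y ≠ w ∧ Commute w y}} = {d} := by
  by_contra hcon
  rw [not_or] at hcon
  obtain ⟨hV, hW⟩ := hcon
  have hdV : d ∈ {v : G | v ∈ D ∧ ∀ e ∈ D, Commute v e ↔ Commute d e} := ⟨hd, fun e _ => Iff.rfl⟩
  have hdW : d ∈ {w : G | w ∈ D ∧ {y : G | y ∈ D ∧ y ≠ d ∧ Commute d y} = {y : G | y ∈ D ∧ y ≠ w ∧ Commute w y}} :=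
    ⟨hd, rfl⟩
  have exV : ∃ v, v ∈ {v : G | v ∈ D ∧ ∀ e ∈ D, Commute v e ↔ Commute d e} ∧ v ≠ d := by
    by_contra hno
    push_neg at hno
    apply hV
    ext x
    constructor
    · intro hx; exact hno x hx
    · intro hx; rw [Set.mem_singleton_iff] at hx; rw [hx]; exact hdV
  have exW : ∃ w, w ∈ {w : G | w ∈ D ∧ {y : G | y ∈ D ∧ y ≠ d ∧ Commute d y} = {y : G | y ∈ D ∧ y ≠ w ∧ Commute w y}} ∧ w ≠ d := by
    by_contra hno
    push_neg at hno
    apply hW
    ext x
    constructor
    · intro hx; exact hno x hx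
    · intro hx; rw [Set.mem_singleton_iff] at hx; rw [hx]; exact hdW
  obtain ⟨v, ⟨hvD, hv⟩, hvd⟩ := exV
  obtain ⟨w, ⟨hwD, hw⟩, hwd⟩ := exW
  -- w does not commute with d
  have hwd' : ¬ Commute w d := by
    intro hc
    have : d ∈ {y : G | y ∈ D ∧ y ≠ w ∧ Commute w y} := ⟨hd, fun h => hwd h.symm, hc⟩
    rw [← hw] at this
    exact this.2.1 rfl
  -- v commutes with d
  have hvd' : Commute d v := ((hv d hd).mpr (Commute.refl d)).symm
  have : v ∈ {y : G | y ∈ D ∧ y ≠ d ∧ Commute d y} := ⟨hvD, hvd, hvd'⟩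
  rw [hw] at this
  obtain ⟨_, _, hwv⟩ := this
  exact hwd' ((hv w hwD).mp hwv.symm).symm

end Cfsg.Agent.S5348
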