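import Cfsg.Statements.S5349
import Cfsg.Agent.Lib.Helper8_ThreeTransp

set_option autoImplicit false
open Cfsg

namespace Cfsg.Agent.S5349

/-- Let D be a conjugacy class of 3-transpositions generating the finite group G, with at least two members, and d a member of D. Then the set of members of D commuting with exactly the same members of D as d coincides with the set of members of D lying in the coset of d modulo the largest normal 2-subgroup of G, and also with the orbit of d under conjugation by that normal 2-subgroup. -/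
theorem result {G : Type*} [Group G] [Finite G] {D : Set G} (hD : Cfsg.IsThreeTranspositionClass D) (hD2 : ∃ a ∈ D, ∃ b ∈ D, a ≠ b) {d : G} (hd : d ∈ D) : {v : G | v ∈ D ∧ ∀ e ∈ D, Commute v e ↔ Commute d e} = {v : G | v ∈ D ∧ d⁻¹ * v ∈ Cfsg.pCore 2 G} ∧ {v : G | v ∈ D ∧ ∀ e ∈ D, Commute v e ↔ Commute d e} = {v : G | ∃ g ∈ Cfsg.pCore 2 G, v = g * d * g⁻¹} := by
  have hD3 := hD.1
  have hconj := Cfsg.Agent.Lib.Helper8_ThreeTransp.conj_mem_of_class hD
  have : Fact (Nat.Prime 2) := ⟨Nat.prime_two⟩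
  have hQn : (Cfsg.pCore 2 G).Normal := Cfsg.Agent.Lib.Helper4_PCore.pCore_normal 2 G
  have hQ : IsPGroup 2 (Cfsg.pCore 2 G) := Cfsg.Agent.Lib.Helper4_PCore.pCore_isPGroup
  have hdi := Cfsg.Agent.Lib.Helper8_ThreeTransp.inv_eq hD3 hd
  -- V ⊆ B
  have hVB : ∀ v, Cfsg.Agent.Lib.Helper8_ThreeTransp.Veq D d v → v ∈ D ∧ d⁻¹ * v ∈ Cfsg.pCore 2 G := by
    intro v hv
    refine ⟨hv.1, ?_⟩
    rw [hdi]
    exact Cfsg.Agent.Lib.Helper8_ThreeTransp.Esub_le_pCore hD3 hconj hd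
      (Cfsg.Agent.Lib.Helper8_ThreeTransp.mem_Esub hv)
  -- B ⊆ V
  have hBV : ∀ v, v ∈ D → d⁻¹ * v ∈ Cfsg.pCore 2 G → Cfsg.Agent.Lib.Helper8_ThreeTransp.Veq D d v := by
    intro v hv hdv
    refine ⟨hv, fun e he => ⟨fun h => ?_, fun h => ?_⟩⟩
    · have h1 : v⁻¹ * d ∈ Cfsg.pCore 2 G := by
        have := (Cfsg.pCore 2 G).inv_mem hdv
        rwa [mul_inv_rev, inv_inv] at this
      exact Cfsg.Agent.Lib.Helper8_ThreeTransp.commute_of_coset hD3 hQn hQ hv hd he h1 h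
    · exact Cfsg.Agent.Lib.Helper8_ThreeTransp.commute_of_coset hD3 hQn hQ hd hv he hdv h
  -- V ⊆ C
  have hVC : ∀ v, Cfsg.Agent.Lib.Helper8_ThreeTransp.Veq D d v →
      ∃ g ∈ Cfsg.pCore 2 G, v = g * d * g⁻¹ := by
    intro v hv
    obtain ⟨e, he, hed⟩ := Cfsg.Agent.Lib.Helper8_ThreeTransp.exists_not_commute hD hD2 hd
    have hde : ¬ Commute d e := fun h => hed h.symm
    have hu := Cfsg.Agent.Lib.Helper8_ThreeTransp.key hD3 hconj he hd hv hde
    have hwi := Cfsg.Agent.Lib.Helper8_ThreeTransp.gen_inv hD3 hd hv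
    have hgi := Cfsg.Agent.Lib.Helper8_ThreeTransp.gen_inv hD3 he hu
    refine ⟨e * ((d * v) * e * (d * v)⁻¹), ?_, ?_⟩
    · exact Cfsg.Agent.Lib.Helper8_ThreeTransp.Esub_le_pCore hD3 hconj he
        (Cfsg.Agent.Lib.Helper8_ThreeTransp.mem_Esub hu)
    · rw [hgi, hwi]
      have hev : ¬ Commute e v := fun h => hed (((hv.2 e he).mp h.symm).symm)
      exact (Cfsg.Agent.Lib.Helper8_ThreeTransp.path_conj
        (Cfsg.Agent.Lib.Helper8_ThreeTransp.mul_self hD3 hd)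
        (Cfsg.Agent.Lib.Helper8_ThreeTransp.mul_self hD3 he)
        (Cfsg.Agent.Lib.Helper8_ThreeTransp.mul_self hD3 hv.1)
        (hv.commute hd).eq
        (Cfsg.Agent.Lib.Helper8_ThreeTransp.braid hD3 he hv.1 hev)
        (Cfsg.Agent.Lib.Helper8_ThreeTransp.braid hD3 he hd hed)).symm
  -- C ⊆ B
  have hCB : ∀ v, (∃ g ∈ Cfsg.pCore 2 G, v = g * d * g⁻¹) → v ∈ D ∧ d⁻¹ * v ∈ Cfsg.pCore 2 G := by
    rintro v ⟨g, hg, rfl⟩
    refine ⟨hconj g d hd, ?_⟩
    have h1 : d⁻¹ * (g * d * g⁻¹) = (d⁻¹ * g * d⁻¹⁻¹) * g⁻¹ := by group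
    rw [h1]
    exact (Cfsg.pCore 2 G).mul_mem (hQn.conj_mem g hg d⁻¹) ((Cfsg.pCore 2 G).inv_mem hg)
  constructor
  · ext v
    exact ⟨fun h => hVB v h, fun h => hBV v h.1 h.2⟩
  · ext v
    constructor
    · intro h; exact hVC v h
    · intro h
      have := hCB v h
      exact hBV v this.1 this.2

end Cfsg.Agent.S5349
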