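import Cfsg.Statements.S5355
import Cfsg.Agent.Lib.Helper8_ThreeTranspS4

set_option autoImplicit false
open Cfsg

namespace Cfsg.Agent.S5355

/-- Let D be a conjugacy class of 3-transpositions generating the finite group G, with at least two members, and d a member of D. Suppose that every member of D commuting with d commutes with exactly the same members of D as d does, and that exactly one member of D other than d commutes with d. Then G is isomorphic to the symmetric group of degree 4. -/
theorem result {G : Type*} [Group G] [Finite G] {D : Set G} (hD : Cfsg.IsThreeTranspositionClass D) (hD2 : ∃ a ∈ D, ∃ b ∈ D, a ≠ b) {d : G} (hd : d ∈ D) (hV : {y : G | y ∈ D ∧ Commute d y} = {v : G | v ∈ D ∧ ∀ e ∈ D, Commute v e ↔ Commute d e}) (hm : {y : G | y ∈ D ∧ Commute d y}.ncard = 2) : Nonempty (G ≃* Equiv.Perm (Fin 4)) := by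
  open Cfsg.Agent.Lib.Helper8_ThreeTransp Cfsg.Agent.Lib.Helper8_ThreeTranspS4 in
  have hD3 := hD.1
  have hconj := conj_mem_of_class hD
  have hcard : ∀ a ∈ D, {y : G | y ∈ D ∧ Commute a y}.ncard = 2 := by
    intro a ha
    obtain ⟨c, hc⟩ := isConj_iff.mp (isConj_of_class hD hd ha)
    have hset : {y : G | y ∈ D ∧ Commute a y}
        = (fun y => c * y * c⁻¹) '' {y : G | y ∈ D ∧ Commute d y} := by
      ext y
      constructor
      · rintro ⟨hy, hay⟩
        refine ⟨c⁻¹ * y * c, ⟨?_, ?_⟩, by group⟩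
        · have := hconj c⁻¹ y hy; rwa [inv_inv] at this
        · rw [← hc] at hay
          exact commute_conj_iff.mp hay
      · rintro ⟨z, ⟨hz, hdz⟩, rfl⟩
        refine ⟨hconj c z hz, ?_⟩
        rw [← hc, commute_conj_iff]
        have h1 : c⁻¹ * (c * z * c⁻¹) * c = z := by group
        rw [h1]; exact hdz
    rw [hset, Set.ncard_image_of_injective _ (fun y y' h => by simpa using h)]
    exact hm
  have hP : Uniq D := by
    intro a ha x hx x' hx' hax hax' hxa hx'a
    obtain ⟨p, q, hpq, hS⟩ := Set.ncard_eq_two.mp (hcard a ha)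
    have h1 : a ∈ ({p, q} : Set G) := by rw [← hS]; exact ⟨ha, Commute.refl a⟩
    have h2 : x ∈ ({p, q} : Set G) := by rw [← hS]; exact ⟨hx, hax⟩
    have h3 : x' ∈ ({p, q} : Set G) := by rw [← hS]; exact ⟨hx', hax'⟩
    simp only [Set.mem_insert_iff, Set.mem_singleton_iff] at h1 h2 h3
    rcases h1 with rfl | rfl <;> rcases h2 with rfl | rfl <;> rcases h3 with rfl | rfl <;>
      first | rfl | exact absurd rfl hxa | exact absurd rfl hx'a
  have hE : Ex D := by
    intro a ha
    obtain ⟨p, q, hpq, hS⟩ := Set.ncard_eq_two.mp (hcard a ha)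
    have h1 : a ∈ ({p, q} : Set G) := by rw [← hS]; exact ⟨ha, Commute.refl a⟩
    have hp : p ∈ {y : G | y ∈ D ∧ Commute a y} := by rw [hS]; simp
    have hq : q ∈ {y : G | y ∈ D ∧ Commute a y} := by rw [hS]; simp
    simp only [Set.mem_insert_iff, Set.mem_singleton_iff] at h1
    rcases h1 with rfl | rfl
    · exact ⟨q, hq.1, hq.2, fun h => hpq h.symm⟩
    · exact ⟨p, hp.1, hp.2, hpq⟩
  obtain ⟨e, he, hed⟩ := exists_not_commute hD hD2 hd
  have hde : ¬ Commute d e := fun h => hed h.symm
  obtain ⟨d', hd', hdd', hd'ne⟩ := hE d hd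
  obtain ⟨φ, hinj, h01, h12, h23, ⟨h03D, h03c, h03ne⟩, h02, ⟨h13D, h13c, h13ne⟩⟩ :=
    s4_facts hD3 hconj hP hd hd' hdd' hd'ne he hde
  have hded : d * e * d ∈ D := conj_self_mem hD3 hconj hd he
  have hall : ∀ y ∈ D, y ∈ φ.range := by
    intro y hy
    by_contra hyr
    apply no_outside hD3 hconj hP hE hd he hy hde
    · intro h
      by_cases hyd : y = d
      · exact hyr ⟨_, h01.trans hyd.symm⟩
      · have : y = d' := hP d hd y hy d' hd' h hdd' hyd hd'ne
        exact hyr ⟨_, h23.trans this.symm⟩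
    · intro h
      by_cases hye : y = e
      · exact hyr ⟨_, h12.trans hye.symm⟩
      · have : y = φ (Equiv.swap 0 3) := hP e he y hy _ h03D h h03c hye h03ne
        exact hyr ⟨_, this.symm⟩
    · intro h
      by_cases hyf : y = d * e * d
      · exact hyr ⟨_, h02.trans hyf.symm⟩
      · have : y = φ (Equiv.swap 1 3) := hP _ hded y hy _ h13D h h13c hyf h13ne
        exact hyr ⟨_, this.symm⟩
  have hsurj : Function.Surjective φ := by
    rw [← MonoidHom.range_eq_top, eq_top_iff, ← hD.2.2, Subgroup.closure_le]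
    exact hall
  exact ⟨(MulEquiv.ofBijective φ ⟨hinj, hsurj⟩).symm⟩

end Cfsg.Agent.S5355
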