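import Cfsg.Statements.S5358
-- import your own Cfsg.Agent.* helpers here

set_option autoImplicit false
open scoped MatrixGroups
open Cfsg

namespace Cfsg.Agent.S5358

open Matrix in
theorem polarVec_dot {n : ℕ} (Q : QuadraticForm (ZMod 3) (Fin n → ZMod 3)) (u x : Fin n → ZMod 3) :
    Cfsg.polarVec (⇑Q) u ⬝ᵥ x = QuadraticMap.polar (⇑Q) u x := by
  have h := LinearMap.pi_apply_eq_sum_univ (QuadraticMap.polarBilin Q u) x
  rw [QuadraticMap.polarBilin_apply_apply] at h
  rw [h]
  unfold dotProduct Cfsg.polarVec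
  apply Finset.sum_congr rfl
  intro i _
  rw [QuadraticMap.polarBilin_apply_apply, smul_eq_mul, mul_comm]
  congr 2
  funext j
  rw [Pi.single_apply]
  simp only [eq_comm]

/-- Let Q be a non-degenerate quadratic form on the n-dimensional coordinate space over the field with three elements and u, v vectors of the same non-zero norm Q(u) = Q(v) spanning different lines (v ≠ u and v ≠ −u). Then the reflection matrices of u and v commute if and only if u and v are orthogonal for the polar form of Q. -/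
theorem result (n : ℕ) (Q : QuadraticForm (ZMod 3) (Fin n → ZMod 3)) (hQ : (QuadraticMap.polarBilin Q).Nondegenerate) (u v : Fin n → ZMod 3) (hu : Q u ≠ 0) (huv : Q u = Q v) (h1 : v ≠ u) (h2 : v ≠ -u) : Commute (Cfsg.reflectionMatrix (⇑Q) u) (Cfsg.reflectionMatrix (⇑Q) v) ↔ QuadraticMap.polar (⇑Q) u v = 0 := by
  have hv : Q v ≠ 0 := huv ▸ hu
  have hsymm : QuadraticMap.polar (⇑Q) v u = QuadraticMap.polar (⇑Q) u v := QuadraticMap.polar_comm _ _ _
  -- the products
  have hUV : Matrix.vecMulVec u (Cfsg.polarVec (⇑Q) u) * Matrix.vecMulVec v (Cfsg.polarVec (⇑Q) v)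
      = QuadraticMap.polar (⇑Q) u v • Matrix.vecMulVec u (Cfsg.polarVec (⇑Q) v) := by
    rw [Matrix.vecMulVec_mul_vecMulVec, polarVec_dot, Matrix.vecMulVec_smul]
  have hVU : Matrix.vecMulVec v (Cfsg.polarVec (⇑Q) v) * Matrix.vecMulVec u (Cfsg.polarVec (⇑Q) u)
      = QuadraticMap.polar (⇑Q) u v • Matrix.vecMulVec v (Cfsg.polarVec (⇑Q) u) := by
    rw [Matrix.vecMulVec_mul_vecMulVec, polarVec_dot, Matrix.vecMulVec_smul, hsymm]
  unfold Commute SemiconjBy Cfsg.reflectionMatrix
  constructor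
  · intro h
    by_contra hne
    -- expand
    have h' : ((Q u)⁻¹ * (Q v)⁻¹) • (Matrix.vecMulVec u (Cfsg.polarVec (⇑Q) u) * Matrix.vecMulVec v (Cfsg.polarVec (⇑Q) v))
        = ((Q u)⁻¹ * (Q v)⁻¹) • (Matrix.vecMulVec v (Cfsg.polarVec (⇑Q) v) * Matrix.vecMulVec u (Cfsg.polarVec (⇑Q) u)) := by
      have e1 : ∀ (a b : ZMod 3) (A B : Matrix (Fin n) (Fin n) (ZMod 3)),
          (1 - a • A) * (1 - b • B) = 1 - a • A - b • B + (a * b) • (A * B) := by
        intro a b A B
        rw [sub_mul, mul_sub, mul_sub, one_mul, mul_one, one_mul, smul_mul_smul_comm]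
        abel
      rw [e1, e1] at h
      have h3 : ((Q u)⁻¹ * (Q v)⁻¹) • (Matrix.vecMulVec u (Cfsg.polarVec (⇑Q) u) * Matrix.vecMulVec v (Cfsg.polarVec (⇑Q) v))
        = ((Q v)⁻¹ * (Q u)⁻¹) • (Matrix.vecMulVec v (Cfsg.polarVec (⇑Q) v) * Matrix.vecMulVec u (Cfsg.polarVec (⇑Q) u)) := by
        have h4 : ∀ (X Y Z W : Matrix (Fin n) (Fin n) (ZMod 3)), 1 - X - Y + Z = 1 - Y - X + W → Z = W := by
          intro X Y Z W hh
          have : 1 - X - Y + Z = 1 - X - Y + W := by rw [hh]; abel
          exact add_left_cancel this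
        exact h4 _ _ _ _ h
      rw [h3, mul_comm]
    have hab : (Q u)⁻¹ * (Q v)⁻¹ ≠ 0 := mul_ne_zero (inv_ne_zero hu) (inv_ne_zero hv)
    have h5 := smul_right_injective _ hab h'
    rw [hUV, hVU] at h5
    have h6 := smul_right_injective _ hne h5
    -- apply to u
    have h7 := congrArg (fun M => M.mulVec u) h6
    simp only [Matrix.vecMulVec_mulVec, polarVec_dot, hsymm, QuadraticMap.polar_self] at h7
    -- h7 : op (polar u v) • u = op (2 • Q u) • v
    have h8 : QuadraticMap.polar (⇑Q) u v • u = (2 • Q u) • v := by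
      funext i
      have := congrFun h7 i
      simpa [mul_comm] using this
    -- hence v = c • u
    have h2Q : (2 • Q u : ZMod 3) ≠ 0 := by
      intro h0
      apply hu
      have : (2 : ZMod 3) * Q u = 0 := by simpa [two_smul, two_mul] using h0
      rcases mul_eq_zero.mp this with h | h
      · exact absurd h (by decide)
      · exact h
    have h9 : v = ((2 • Q u)⁻¹ * QuadraticMap.polar (⇑Q) u v) • u := by
      rw [mul_smul, h8, smul_smul, inv_mul_cancel₀ h2Q, one_smul]
    generalize ((2 • Q u)⁻¹ * QuadraticMap.polar (⇑Q) u v) = c at h9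
    have hc : ∀ c : ZMod 3, c = 0 ∨ c = 1 ∨ c = -1 := by decide
    have hc := hc c
    rcases hc with rfl | rfl | rfl
    · rw [zero_smul] at h9
      apply hv
      rw [h9, QuadraticMap.map_zero]
    · rw [one_smul] at h9
      exact h1 h9
    · rw [neg_one_smul] at h9
      exact h2 h9
  · intro h0
    have e1 : ∀ (a b : ZMod 3) (A B : Matrix (Fin n) (Fin n) (ZMod 3)),
        (1 - a • A) * (1 - b • B) = 1 - a • A - b • B + (a * b) • (A * B) := by
      intro a b A B
      rw [sub_mul, mul_sub, mul_sub, one_mul, mul_one, one_mul, smul_mul_smul_comm]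
      abel
    rw [e1, e1, hUV, hVU, h0, zero_smul, zero_smul, smul_zero, smul_zero]
    abel

end Cfsg.Agent.S5358
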