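import Cfsg.Statements.S5363
-- import your own Cfsg.Agent.* helpers here

set_option autoImplicit false
open Cfsg

namespace Cfsg.Agent.S5363

theorem sq_of_order_two {G : Type*} [Group G] {d : G} (h : orderOf d = 2) : d * d = 1 := by
  rw [← pow_two, ← h, pow_orderOf_eq_one]

theorem commute_of_mul_sq {G : Type*} [Group G] {d e : G} (hd : d * d = 1) (he : e * e = 1)
    (h : (d * e) ^ 2 = 1) : Commute d e := by
  have hdinv : d⁻¹ = d := inv_eq_of_mul_eq_one_left hd
  have heinv : e⁻¹ = e := inv_eq_of_mul_eq_one_left he
  unfold Commute SemiconjBy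
  have : d * e * (d * e) = 1 := by rw [← pow_two]; exact h
  calc d * e = d * e * (d * e) * (e⁻¹ * d⁻¹) := by group
    _ = e * d := by rw [this, one_mul, hdinv, heinv]

theorem aux_odd {G : Type*} [Group G] (a r : G) (j : ℕ) (h : (r ^ j)⁻¹ * a = a * r ^ j) :
    a * r ^ (2 * j + 1) = (r ^ j)⁻¹ * (a * r) * r ^ j := by
  rw [← mul_assoc, h]
  group

/-- Let D be a conjugation-invariant set of involutions of a finite group G. Then every product of two members of D has odd order or order 2 if and only if, for every a in D and every b in D different from a and commuting with a, the members of D commuting with a b are exactly those commuting with both a and b. -/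
theorem result {G : Type*} [Group G] [Finite G] {D : Set G} (hinv : ∀ d ∈ D, orderOf d = 2) (hconj : ∀ g : G, ∀ d ∈ D, g * d * g⁻¹ ∈ D) : (∀ a ∈ D, ∀ b ∈ D, Odd (orderOf (a * b)) ∨ orderOf (a * b) = 2) ↔ ∀ a ∈ D, ∀ b ∈ D, b ≠ a → Commute a b → {y : G | y ∈ D ∧ Commute (a * b) y} = {y : G | y ∈ D ∧ Commute a y} ∩ {y : G | y ∈ D ∧ Commute b y} := by
  constructor
  · intro H a ha b hb hba hab
    have ha2 := sq_of_order_two (hinv a ha)
    have hb2 := sq_of_order_two (hinv b hb)
    have hainv : a⁻¹ = a := inv_eq_of_mul_eq_one_left ha2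
    have hbinv : b⁻¹ = b := inv_eq_of_mul_eq_one_left hb2
    ext y
    constructor
    · rintro ⟨hy, hyz⟩
      have hy2 := sq_of_order_two (hinv y hy)
      -- suffices: Commute a y
      suffices hay : Commute a y by
        refine ⟨⟨hy, hay⟩, hy, ?_⟩
        have : b = a * (a * b) := by rw [← mul_assoc, ha2, one_mul]
        rw [this]
        exact hay.mul_left hyz
      -- order of z = a b is 2
      have hz2 : (a * b) * (a * b) = 1 := by
        rw [hab.symm.mul_mul_mul_comm, ha2, hb2, one_mul]
      have hz1 : a * b ≠ 1 := by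
        intro h1
        apply hba
        have : b = a⁻¹ := (inv_eq_of_mul_eq_one_right h1).symm
        rw [this, hainv]
      have hzo : orderOf (a * b) = 2 := by
        apply orderOf_eq_prime
        · rw [pow_two]; exact hz2
        · exact hz1
      rcases H a ha y hy with hodd | h2
      · -- b y = z (a y), order 2 * m
        have hzc : Commute (a * b) (a * y) := by
          apply Commute.mul_right _ hyz
          -- a b commutes with a
          exact (Commute.refl a).mul_left hab.symm
        have hcop : (orderOf (a * b)).Coprime (orderOf (a * y)) := by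
          rw [hzo]
          exact (Nat.coprime_two_left).mpr hodd
        have hord := hzc.orderOf_mul_eq_mul_orderOf_of_coprime hcop
        have hby : a * b * (a * y) = b * y := by
          rw [hab.eq]
          calc b * a * (a * y) = b * (a * a) * y := by group
            _ = b * y := by rw [ha2, mul_one]
        rw [hby, hzo] at hord
        rcases H b hb y hy with hodd' | h2'
        · exfalso
          rw [hord] at hodd'
          exact (Nat.not_odd_iff_even.mpr (even_two_mul _)) hodd'
        · rw [h2'] at hord
          have : orderOf (a * y) = 1 := by omega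
          rw [orderOf_eq_one_iff] at this
          have hya : y = a := by
            have : y = a⁻¹ := (inv_eq_of_mul_eq_one_right this).symm
            rw [this, hainv]
          rw [hya]
      · apply commute_of_mul_sq ha2 hy2
        rw [← h2, pow_orderOf_eq_one]
    · rintro ⟨⟨hy, hay⟩, _, hby⟩
      exact ⟨hy, hay.mul_left hby⟩
  · intro H a ha b hb
    have ha2 := sq_of_order_two (hinv a ha)
    have hb2 := sq_of_order_two (hinv b hb)
    have hainv : a⁻¹ = a := inv_eq_of_mul_eq_one_left ha2
    have hbinv : b⁻¹ = b := inv_eq_of_mul_eq_one_left hb2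
    by_cases hodd : Odd (orderOf (a * b))
    · left; exact hodd
    right
    rw [Nat.not_odd_iff_even] at hodd
    obtain ⟨k, hk⟩ := hodd
    have hpos : 0 < orderOf (a * b) := orderOf_pos _
    have hkpos : 0 < k := by omega
    -- notation
    have hra : a * (a * b) * a⁻¹ = (a * b)⁻¹ := by
      rw [mul_inv_rev, hainv, hbinv]
      calc a * (a * b) * a = (a * a) * b * a := by group
        _ = b * a := by rw [ha2, one_mul]
    have hrb : b * (a * b) * b⁻¹ = (a * b)⁻¹ := by
      rw [mul_inv_rev, hainv, hbinv]
      calc b * (a * b) * b = b * a * (b * b) := by group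
        _ = b * a := by rw [hb2, mul_one]
    have hra' : ∀ j : ℕ, a * (a * b) ^ j * a⁻¹ = ((a * b) ^ j)⁻¹ := by
      intro j; rw [← conj_pow, hra, inv_pow]
    have hrb' : ∀ j : ℕ, b * (a * b) ^ j * b⁻¹ = ((a * b) ^ j)⁻¹ := by
      intro j; rw [← conj_pow, hrb, inv_pow]
    have hswap : ∀ j : ℕ, ((a * b) ^ j)⁻¹ * a = a * (a * b) ^ j := by
      intro j
      rw [← hra' j]
      group
    -- u = r^k is an involution
    have hu2 : (a * b) ^ k * (a * b) ^ k = 1 := by
      rw [← pow_add, ← hk, pow_orderOf_eq_one]
    have hu1 : (a * b) ^ k ≠ 1 := by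
      apply pow_ne_one_of_lt_orderOf (by omega) (by omega)
    have huinv : ((a * b) ^ k)⁻¹ = (a * b) ^ k := inv_eq_of_mul_eq_one_left hu2
    -- c = a * r^k ∈ D
    have hcD : a * (a * b) ^ k ∈ D := by
      rcases Nat.even_or_odd' k with ⟨j, hj | hj⟩
      · have : a * (a * b) ^ k = ((a * b) ^ j)⁻¹ * a * (((a * b) ^ j)⁻¹)⁻¹ := by
          rw [hswap j, inv_inv, hj, two_mul, pow_add, mul_assoc]
        rw [this]
        exact hconj _ a ha
      · have : a * (a * b) ^ k = ((a * b) ^ j)⁻¹ * b * (((a * b) ^ j)⁻¹)⁻¹ := by
          have e1 : b = a * (a * b) := by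
            rw [← mul_assoc a a b, ha2, one_mul]
          rw [inv_inv, hj]
          have e2 := aux_odd a (a * b) j (hswap j)
          rw [← e1] at e2
          exact e2
        rw [this]
        exact hconj _ b hb
    have hca : a * (a * b) ^ k ≠ a := by
      intro h
      apply hu1
      exact mul_left_cancel (a := a) (by rw [h, mul_one])
    have hcomm : Commute a (a * (a * b) ^ k) := by
      unfold Commute SemiconjBy
      have h1 := hra' k
      rw [huinv, hainv] at h1
      rw [h1, ← mul_assoc, ha2, one_mul]
    have hset := H a ha _ hcD hca hcomm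
    have hprod : a * (a * (a * b) ^ k) = (a * b) ^ k := by
      rw [← mul_assoc, ha2, one_mul]
    rw [hprod] at hset
    have hbmem : b ∈ {y : G | y ∈ D ∧ Commute ((a * b) ^ k) y} := by
      refine ⟨hb, ?_⟩
      unfold Commute SemiconjBy
      have h1 := hrb' k
      rw [huinv, hbinv] at h1
      calc (a * b) ^ k * b = (b * (a * b) ^ k * b) * b := by rw [h1]
        _ = b * (a * b) ^ k * (b * b) := by group
        _ = b * (a * b) ^ k := by rw [hb2, mul_one]
    rw [hset] at hbmem
    have hab : Commute a b := hbmem.1.2
    have hsq : (a * b) ^ 2 = 1 := by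
      rw [pow_two, hab.symm.mul_mul_mul_comm, ha2, hb2, one_mul]
    have hdvd : orderOf (a * b) ∣ 2 := orderOf_dvd_of_pow_eq_one hsq
    have hle : orderOf (a * b) ≤ 2 := Nat.le_of_dvd (by norm_num) hdvd
    omega

end Cfsg.Agent.S5363
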