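import Cfsg.Statements.S5366
import Cfsg.Agent.Lib.Helper8_FischerModels

set_option autoImplicit false
open Cfsg

namespace Cfsg.Agent.S5366

/-- Let L be a nondegenerate Fischer space on the point type X (every point on a line). Then for every point x the map t(x) — sending a point collinear with x to the third point of their common line and fixing every other point — is a permutation of X of order 2 and an automorphism of the line system; and the set of all t(x) satisfies the 3-transposition order conditions in the permutation group of X (any two have product of order at most 3). -/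
theorem result {X : Type*} (L : Set (Set X)) (hL : Cfsg.IsFischerSpace L) (hnd : Cfsg.LineSystem.IsNondegenerate L) : (∀ x : X, ∃ σ : Equiv.Perm X, ⇑σ = Cfsg.LineSystem.lineMap L x ∧ orderOf σ = 2 ∧ Cfsg.LineSystem.IsIso L L σ) ∧ Cfsg.IsThreeTranspositionSet {σ : Equiv.Perm X | ∃ x : X, ⇑σ = Cfsg.LineSystem.lineMap L x} := by
  open Cfsg.LineSystem Cfsg.Agent.Lib.Helper8_FischerSpace Cfsg.Agent.Lib.Helper8_FischerModels in
  have hPL := hL.1
  have h3 := hL.2.1
  have hRC : ReflClosed L := reflClosed_of_fischer hL dual_pl dual_reflClosed aff_pl aff_reflClosed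
  -- the permutations
  have hperm : ∀ x : X, ∃ σ : Equiv.Perm X, ⇑σ = lineMap L x := fun x =>
    ⟨(lineMap_involutive hPL x).toPerm, rfl⟩
  have hsq : ∀ (σ : Equiv.Perm X) (x : X), ⇑σ = lineMap L x → σ * σ = 1 := by
    intro σ x hσ
    ext y
    show σ (σ y) = y
    rw [hσ]
    exact lineMap_involutive hPL x y
  have hne1 : ∀ (σ : Equiv.Perm X) (x : X), ⇑σ = lineMap L x → σ ≠ 1 := by
    intro σ x hσ h1
    obtain ⟨l, hl, hxl⟩ := hnd x
    have hfin : l.Finite := Set.finite_of_ncard_ne_zero (by rw [h3 l hl]; norm_num)
    have hlt : ({x} : Set X).ncard < l.ncard := by rw [h3 l hl, Set.ncard_singleton]; norm_num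
    obtain ⟨y, hyl, hy⟩ := Set.exists_mem_notMem_of_ncard_lt_ncard hlt (Set.toFinite _)
    have hyx : y ≠ x := fun h => hy (by rw [h]; simp)
    obtain ⟨z, hzx, hzy, _, e⟩ := exists_third (h3 l hl) hxl hyl (Ne.symm hyx)
    have e1 : lineMap L x y = z := lineMap_eq_third hPL hzx hzy (Ne.symm hyx) (e ▸ hl)
    have : σ y = y := by rw [h1]; rfl
    rw [hσ, e1] at this
    exact hzy this
  have horder : ∀ (σ : Equiv.Perm X) (x : X), ⇑σ = lineMap L x → orderOf σ = 2 := by
    intro σ x hσ
    apply orderOf_eq_prime
    · rw [pow_two]; exact hsq σ x hσ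
    · exact hne1 σ x hσ
  have hiso : ∀ (σ : Equiv.Perm X) (x : X), ⇑σ = lineMap L x → IsIso L L σ := by
    intro σ x hσ l
    constructor
    · intro hl
      rw [hσ]; exact hRC x l hl
    · intro hl
      have h2 := hRC x _ hl
      rw [hσ] at hl
      have e : lineMap L x '' (lineMap L x '' l) = l := by
        rw [Set.image_image]
        conv_rhs => rw [← Set.image_id l]
        apply Set.image_congr
        intro y _
        exact lineMap_involutive hPL x y
      rw [hσ, e] at h2
      exact h2
  refine ⟨fun x => ?_, ⟨?_, ?_⟩⟩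
  · obtain ⟨σ, hσ⟩ := hperm x
    exact ⟨σ, hσ, horder σ x hσ, hiso σ x hσ⟩
  · rintro σ ⟨x, hσ⟩
    exact horder σ x hσ
  · rintro σ ⟨x, hσ⟩ τ ⟨y, hτ⟩
    have hσσ := hsq σ x hσ
    have hττ := hsq τ y hτ
    have hσi : σ⁻¹ = σ := inv_eq_of_mul_eq_one_left hσσ
    -- conjugate of τ by σ is the reflection in σ y
    have hconj : ∀ w : X, (σ * τ * σ) w = lineMap L (σ y) w := by
      intro w
      show σ (τ (σ w)) = _
      have := lineMap_iso hPL hPL σ (hiso σ x hσ) y (σ w)
      rw [← hτ] at this
      rw [← this]
      congr 1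
      show σ (σ w) = w
      have := congrArg (fun f : Equiv.Perm X => f w) hσσ
      exact this
    by_cases hc : Col L x y
    · right
      obtain ⟨h1, h2, h3', h4⟩ := lineMap_spec L x y hc
      have e1 : σ y = lineMap L x y := by rw [hσ]
      have e2 : τ x = lineMap L x y := by
        rw [hτ]
        apply lineMap_eq_third hPL h2 h1 (Ne.symm h3')
        rw [triple_swap]; exact h4
      have hconj' : ∀ w : X, (τ * σ * τ) w = lineMap L (τ x) w := by
        intro w
        show τ (σ (τ w)) = _
        have := lineMap_iso hPL hPL τ (hiso τ y hτ) x (τ w)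
        rw [← hσ] at this
        rw [← this]
        congr 1
        show τ (τ w) = w
        have := congrArg (fun f : Equiv.Perm X => f w) hττ
        exact this
      have hbraid : σ * τ * σ = τ * σ * τ := by
        ext w
        rw [hconj w, hconj' w, e1, e2]
      rw [pow_succ, pow_two]
      calc σ * τ * (σ * τ) * (σ * τ) = (σ * τ * σ) * (τ * σ * τ) := by group
        _ = (τ * σ * τ) * (τ * σ * τ) := by rw [hbraid]
        _ = τ * σ * (τ * τ) * σ * τ := by group
        _ = τ * (σ * σ) * τ := by rw [hττ]; group
        _ = 1 := by rw [hσσ, mul_one, hττ]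
    · left
      have e1 : σ y = y := by rw [hσ]; exact lineMap_of_not L x y hc
      have hcomm : σ * τ * σ = τ := by
        ext w
        rw [hconj w, e1, hτ]
      rw [pow_two]
      calc σ * τ * (σ * τ) = (σ * τ * σ) * τ := by group
        _ = τ * τ := by rw [hcomm]
        _ = 1 := hττ

end Cfsg.Agent.S5366
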