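import Cfsg.Statements.S5367
import Cfsg.Agent.Lib.Helper8_TTLines
import Cfsg.Agent.Lib.Helper8_TTAffine
import Cfsg.Agent.Lib.Helper8_TTDual

set_option autoImplicit false
open Cfsg

namespace Cfsg.Agent.S5367

/-- Let D be a conjugation-invariant generating set of 3-transpositions of a finite group G. Then the line system on D whose lines are the triples {x, y, y x y⁻¹} for non-commuting members x, y of D is a Fischer space: two points lie on at most one line, lines have three points, and two different meeting lines generate a subspace isomorphic to the dual affine plane of order two or to the affine plane of order three. -/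
theorem result {G : Type*} [Group G] [Finite G] {D : Set G} (hD : Cfsg.IsThreeTranspositionGroup D) : Cfsg.IsFischerSpace (Cfsg.threeTranspositionLines D) := by
  open Cfsg.Agent.Lib.Helper8_TTLines Cfsg.Agent.Lib.Helper8_TTAffine
    Cfsg.Agent.Lib.Helper8_TTDual Cfsg.LineSystem in
  obtain ⟨hD3, hconj, _⟩ := hD
  refine ⟨pl hD3 hconj, three hD3 hconj, ?_⟩
  rintro l hl m hm hlm ⟨z, hzl, hzm⟩
  obtain ⟨b, hbl, hbz⟩ := exists_other hD3 hconj hl z
  obtain ⟨c, hcm, hcz⟩ := exists_other hD3 hconj hm z
  obtain ⟨nab, hl'⟩ := line_of_two hD3 hconj hl hzl hbl (Ne.symm hbz)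
  obtain ⟨nac, hm'⟩ := line_of_two hD3 hconj hm hzm hcm (Ne.symm hcz)
  have hcl : c ∉ l := by
    intro h
    apply hlm
    rw [(line_of_two hD3 hconj hl hzl h (Ne.symm hcz)).2, ← hm']
  by_cases h1 : Commute (b : G) (c : G)
  · left
    rw [hl', hm']
    refine dual_case hD3 hconj z.2 b.2 c.2 nab nac h1 ?_
    intro e
    apply hcl
    rwa [← Subtype.ext e]
  by_cases h2 : Commute ((z : G) * b * z) (c : G)
  · left
    have hb1 := third_mem hD3 hconj z.2 b.2
    have hb1l : (⟨(z : G) * b * z, hb1⟩ : D) ∈ l := by rw [hl']; exact Or.inr (Or.inr rfl)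
    have hb1z : (⟨(z : G) * b * z, hb1⟩ : D) ≠ z := by
      intro e
      exact (third_ne hD3 hconj ⟨z.2, b.2, nab⟩).1 (congrArg Subtype.val e)
    obtain ⟨nab1, hl''⟩ := line_of_two hD3 hconj hl hzl hb1l (Ne.symm hb1z)
    rw [hl'', hm']
    refine dual_case hD3 hconj z.2 hb1 c.2 nab1 nac h2 ?_
    intro e
    apply hcl
    have : (⟨(z : G) * b * z, hb1⟩ : D) = c := Subtype.ext e
    rwa [← this]
  · right
    rw [hl', hm']
    exact affine_case hD3 hconj z.2 b.2 c.2 nab nac h1 h2

end Cfsg.Agent.S5367
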