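import Cfsg.Statements.S5394
import Mathlib
import Cfsg.Agent.Lib.Helper1_Inv

set_option autoImplicit false
open Cfsg
open scoped Pointwise
open Cfsg.Agent.Lib.Helper1_Golay Cfsg.Agent.Lib.Helper1_Chain Cfsg.Agent.Lib.Helper1_Inv

namespace Cfsg.Agent.S5394

theorem fixed_of_conj {g k : Equiv.Perm GolayPt} {r : List ℕ}
    (h : ∀ p, (k * g * k⁻¹) p = tfun r p) (p : GolayPt) : g p = p ↔ tfun r (k p) = k p := by
  rw [← h]
  simp

theorem typeA_fixed {g k : Equiv.Perm GolayPt} (hk : k ∈ M24)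
    (h : ∀ p, (k * g * k⁻¹) p = tfun repA p) :
    (Finset.univ.filter fun p => g p = p) = k⁻¹ • maskSet 628112 := by
  ext p
  rw [Finset.mem_filter, fixed_of_conj h, repA_fix, Finset.mem_inv_smul_finset_iff, mem_maskSet]
  simp

theorem typeA_octad {g k : Equiv.Perm GolayPt} (hk : k ∈ M24)
    (h : ∀ p, (k * g * k⁻¹) p = tfun repA p) :
    (Finset.univ.filter fun p => g p = p) ∈ octads := by
  rw [typeA_fixed hk h]
  exact smul_mem_octads (M24.inv_mem hk) (maskSet_mem_octads repA_octad)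

theorem typeA_exists_fixed {g k : Equiv.Perm GolayPt} (hk : k ∈ M24)
    (h : ∀ p, (k * g * k⁻¹) p = tfun repA p) : ∃ p, g p = p := by
  have h8 := (typeA_octad hk h).2
  have : (Finset.univ.filter fun p => g p = p).Nonempty := by
    rw [← Finset.card_pos, h8]; decide
  obtain ⟨p, hp⟩ := this
  exact ⟨p, (Finset.mem_filter.1 hp).2⟩

theorem typeB_free {g k : Equiv.Perm GolayPt}
    (h : ∀ p, (k * g * k⁻¹) p = tfun repB p) : ∀ p, g p ≠ p := by
  intro p hp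
  exact repB_free (k p) ((fixed_of_conj h p).1 hp)

theorem order_two_of_table {r : List ℕ} {σ : Equiv.Perm GolayPt} (hσ : ∀ p, σ p = tfun r p)
    (hinv : IsInvT r) (hne : ∃ p, tfun r p ≠ p) : orderOf σ = 2 := by
  apply orderOf_eq_prime
  · ext p
    rw [pow_two, Equiv.Perm.mul_apply, hσ, hσ, hinv p]
    rfl
  · intro h
    obtain ⟨p, hp⟩ := hne
    apply hp
    rw [← hσ, h]
    rfl

set_option maxRecDepth 1000000 in
theorem repA_moves : tfun repA (bpt 0) ≠ bpt 0 := by decide +kernel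

theorem result : (∀ g ∈ Cfsg.M24, orderOf g = 2 → (Finset.univ.filter fun p => g p = p) ∈ Cfsg.octads ∨ ∀ p, g p ≠ p) ∧ (∃ g ∈ Cfsg.M24, orderOf g = 2 ∧ (Finset.univ.filter fun p => g p = p) ∈ Cfsg.octads) ∧ (∃ g ∈ Cfsg.M24, orderOf g = 2 ∧ ∀ p, g p ≠ p) ∧ ∀ g ∈ Cfsg.M24, ∀ h ∈ Cfsg.M24, orderOf g = 2 → orderOf h = 2 → ((∀ p, g p ≠ p) ↔ (∀ p, h p ≠ p)) → ∃ k ∈ Cfsg.M24, k * g * k⁻¹ = h := by
  refine ⟨?_, ?_, ?_, ?_⟩
  · intro g hg h2
    obtain ⟨k, hk, h | h⟩ := normal_form hg h2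
    · exact Or.inl (typeA_octad hk h)
    · exact Or.inr (typeB_free h)
  · obtain ⟨σ, hσ, hσt⟩ := exists_perm_of_good rep_good.1
    have h2 := order_two_of_table hσt rep_inv.1 ⟨_, repA_moves⟩
    refine ⟨σ, hσ, h2, ?_⟩
    have : ∀ p, ((1 : Equiv.Perm GolayPt) * σ * 1⁻¹) p = tfun repA p := by
      intro p; simp [hσt]
    exact typeA_octad M24.one_mem this
  · obtain ⟨σ, hσ, hσt⟩ := exists_perm_of_good rep_good.2
    have h2 := order_two_of_table hσt rep_inv.2 ⟨bpt 0, repB_free _⟩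
    refine ⟨σ, hσ, h2, ?_⟩
    intro p
    rw [hσt]
    exact repB_free p
  · intro g hg h hh hg2 hh2 hiff
    obtain ⟨kg, hkg, hA | hB⟩ := normal_form hg hg2 <;>
    obtain ⟨kh, hkh, hA' | hB'⟩ := normal_form hh hh2
    · refine ⟨kh⁻¹ * kg, M24.mul_mem (M24.inv_mem hkh) hkg, ?_⟩
      have : kg * g * kg⁻¹ = kh * h * kh⁻¹ := Equiv.ext fun p => by rw [hA, hA']
      calc kh⁻¹ * kg * g * (kh⁻¹ * kg)⁻¹ = kh⁻¹ * (kg * g * kg⁻¹) * kh := by group
        _ = kh⁻¹ * (kh * h * kh⁻¹) * kh := by rw [this]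
        _ = h := by group
    · exfalso
      obtain ⟨p, hp⟩ := typeA_exists_fixed hkg hA
      exact hiff.2 (typeB_free hB') p hp
    · exfalso
      obtain ⟨p, hp⟩ := typeA_exists_fixed hkh hA'
      exact hiff.1 (typeB_free hB) p hp
    · refine ⟨kh⁻¹ * kg, M24.mul_mem (M24.inv_mem hkh) hkg, ?_⟩
      have : kg * g * kg⁻¹ = kh * h * kh⁻¹ := Equiv.ext fun p => by rw [hB, hB']
      calc kh⁻¹ * kg * g * (kh⁻¹ * kg)⁻¹ = kh⁻¹ * (kg * g * kg⁻¹) * kh := by group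
        _ = kh⁻¹ * (kh * h * kh⁻¹) * kh := by rw [this]
        _ = h := by group

end Cfsg.Agent.S5394
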