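import Cfsg.Statements.S5395
import Mathlib

set_option autoImplicit false
open Cfsg
open scoped IsMulCommutative

namespace Cfsg.Agent.S5395

variable {E : Type*} [Group E]

/-- commutator map into the centre, as a hom in the second variable. -/
noncomputable def cInner (hc : ∀ a b : E, a * b * a⁻¹ * b⁻¹ ∈ Subgroup.center E) (g : E) :
    E →* Subgroup.center E :=
  MonoidHom.mk' (fun x => ⟨g * x * g⁻¹ * x⁻¹, hc g x⟩) (by
    intro x y
    apply Subtype.ext
    have h := (Subgroup.mem_center_iff.mp (hc g y)) (x⁻¹)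
    show g * (x * y) * g⁻¹ * (x * y)⁻¹ = (g * x * g⁻¹ * x⁻¹) * (g * y * g⁻¹ * y⁻¹)
    have : g * (x * y) * g⁻¹ * (x * y)⁻¹ = g * x * g⁻¹ * ((g * y * g⁻¹ * y⁻¹) * x⁻¹) := by group
    rw [this, ← h]; group)

noncomputable def cHom (hc : ∀ a b : E, a * b * a⁻¹ * b⁻¹ ∈ Subgroup.center E) :
    E →* (E →* Subgroup.center E) :=
  MonoidHom.mk' (fun g => cInner hc g) (by
    intro g h
    ext x
    show g * h * x * (g * h)⁻¹ * x⁻¹ = (g * x * g⁻¹ * x⁻¹) * (h * x * h⁻¹ * x⁻¹)
    have h1 := (Subgroup.mem_center_iff.mp (hc h x)) (x * g⁻¹ * x⁻¹)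
    have : g * h * x * (g * h)⁻¹ * x⁻¹ = g * ((h * x * h⁻¹ * x⁻¹) * (x * g⁻¹ * x⁻¹)) := by group
    rw [this, ← h1]; group)

theorem result {E : Type*} [Group E] [Finite E] (hE : Cfsg.IsExtraspecial 2 E) (φ : E ≃* E) (hφ : ∀ x : E, φ x * x⁻¹ ∈ Subgroup.center E) : ∃ g : E, ∀ x : E, φ x = g * x * g⁻¹ := by
  classical
  obtain ⟨⟨hp, hfr, hcomm⟩, hZ⟩ := hE
  have hc : ∀ a b : E, a * b * a⁻¹ * b⁻¹ ∈ Subgroup.center E := by
    intro a b
    rw [← hcomm]
    exact Subgroup.commutator_mem_commutator (Subgroup.mem_top a) (Subgroup.mem_top b)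
  -- the hom d_φ
  let d : E →* Subgroup.center E := MonoidHom.mk' (fun x => ⟨φ x * x⁻¹, hφ x⟩) (by
    intro x y
    apply Subtype.ext
    have h := (Subgroup.mem_center_iff.mp (hφ y)) (x⁻¹)
    show φ (x * y) * (x * y)⁻¹ = (φ x * x⁻¹) * (φ y * y⁻¹)
    rw [map_mul]
    have : φ x * φ y * (x * y)⁻¹ = φ x * ((φ y * y⁻¹) * x⁻¹) := by group
    rw [this, ← h]; group)
  -- kernel of cHom is the centre
  have hker : (cHom hc).ker = Subgroup.center E := by
    ext g
    rw [MonoidHom.mem_ker, Subgroup.mem_center_iff]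
    constructor
    · intro h x
      have := congrArg (fun f : E →* Subgroup.center E => ((f x : Subgroup.center E) : E)) h
      simp only [MonoidHom.one_apply, Subgroup.coe_one] at this
      have h2 : g * x * g⁻¹ * x⁻¹ = 1 := this
      have : g * x = x * g := by
        calc g * x = (g * x * g⁻¹ * x⁻¹) * (x * g) := by group
          _ = x * g := by rw [h2, one_mul]
      exact this.symm
    · intro h
      ext x
      show g * x * g⁻¹ * x⁻¹ = 1
      rw [← h x]; group
  have hrange : Nat.card (cHom hc).range * 2 = Nat.card E := by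
    rw [← Subgroup.index_ker, hker, ← hZ, Subgroup.index_mul_card]
  -- upper bound on card of Hom(E, Z)
  have hfin : Finite (E →* Subgroup.center E) := by
    apply Finite.of_injective (fun f : E →* Subgroup.center E => (f : E → Subgroup.center E))
    exact DFunLike.coe_injective
  have hbound : Nat.card (E →* Subgroup.center E) * 2 ≤ Nat.card E := by
    -- embedding of the centre into ℂˣ
    have hne : ∃ z : Subgroup.center E, z ≠ 1 := by
      by_contra hcon
      push Not at hcon
      have : Nat.card (Subgroup.center E) = 1 := by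
        rw [Nat.card_eq_one_iff_unique]
        exact ⟨⟨fun a b => by rw [hcon a, hcon b]⟩, ⟨1⟩⟩
      omega
    obtain ⟨z, hz⟩ := hne
    haveI : NeZero (Monoid.exponent (Subgroup.center E)) := ⟨Monoid.exponent_ne_zero_of_finite⟩
    obtain ⟨ι, hι⟩ := CommGroup.exists_apply_ne_one_of_hasEnoughRootsOfUnity (Subgroup.center E) ℂ hz
    have hιinj : Function.Injective ι := by
      rw [← MonoidHom.ker_eq_bot_iff]
      by_contra hk
      -- kernel nontrivial, of card dividing 2, so all
      have h1 : Nat.card ι.ker ∣ 2 := by rw [← hZ]; exact Subgroup.card_subgroup_dvd_card _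
      have h2 : Nat.card ι.ker ≠ 1 := by
        intro h; exact hk (Subgroup.card_eq_one.mp h)
      have h3 : Nat.card ι.ker = 2 := by
        rcases (Nat.dvd_prime Nat.prime_two).mp h1 with h | h
        · exact absurd h h2
        · exact h
      have h4 : ι.ker = ⊤ := by
        apply Subgroup.eq_top_of_card_eq; rw [h3, hZ]
      have : z ∈ ι.ker := by rw [h4]; exact Subgroup.mem_top z
      exact hι (MonoidHom.mem_ker.mp this)
    have hinj2 : Function.Injective (fun f : E →* Subgroup.center E => ι.comp f) := by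
      intro f1 f2 h
      ext x
      have := DFunLike.congr_fun h x
      simp only [MonoidHom.comp_apply] at this
      exact congrArg Subtype.val (hιinj this)
    have hfin2 : Finite (E →* ℂˣ) := by
      haveI : Finite (Abelianization E →* ℂˣ) := by
        apply Nat.finite_of_card_ne_zero
        haveI : NeZero (Monoid.exponent (Abelianization E)) := ⟨Monoid.exponent_ne_zero_of_finite⟩
        rw [CommGroup.card_monoidHom_of_hasEnoughRootsOfUnity]
        exact Nat.card_pos.ne'
      exact Finite.of_equiv _ (Abelianization.lift (G := E) (A := ℂˣ)).symm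
    have h1 := Nat.card_le_card_of_injective _ hinj2
    have h2 : Nat.card (E →* ℂˣ) = Nat.card (Abelianization E) := by
      rw [Nat.card_congr (Abelianization.lift (G := E) (A := ℂˣ))]
      haveI : NeZero (Monoid.exponent (Abelianization E)) := ⟨Monoid.exponent_ne_zero_of_finite⟩
      exact CommGroup.card_monoidHom_of_hasEnoughRootsOfUnity _ _
    have h3 : Nat.card (Abelianization E) * 2 = Nat.card E := by
      have : Nat.card (Abelianization E) = (commutator E).index := rfl
      rw [this, hcomm, ← hZ, Subgroup.index_mul_card]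
    rw [h2] at h1
    calc Nat.card (E →* Subgroup.center E) * 2 ≤ Nat.card (Abelianization E) * 2 :=
          Nat.mul_le_mul_right 2 h1
      _ = Nat.card E := h3
  have htop : (cHom hc).range = ⊤ := by
    apply Subgroup.eq_top_of_le_card
    have : Nat.card (E →* Subgroup.center E) * 2 ≤ Nat.card (cHom hc).range * 2 := by
      rw [hrange]; exact hbound
    omega
  have hd : d ∈ (cHom hc).range := by rw [htop]; exact Subgroup.mem_top d
  obtain ⟨g, hg⟩ := hd
  refine ⟨g, fun x => ?_⟩
  have := congrArg (fun f : E →* Subgroup.center E => ((f x : Subgroup.center E) : E)) hg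
  have h2 : g * x * g⁻¹ * x⁻¹ = φ x * x⁻¹ := this
  calc φ x = (φ x * x⁻¹) * x := by group
    _ = (g * x * g⁻¹ * x⁻¹) * x := by rw [h2]
    _ = g * x * g⁻¹ := by group

end Cfsg.Agent.S5395
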