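import Cfsg.Statements.S5396
import Mathlib
import Cfsg.Agent.Lib.Helper3_ExtModels
import Cfsg.Agent.Lib.Helper3_Extra2b

set_option autoImplicit false
open Cfsg

namespace Cfsg.Agent.S5396

open Cfsg.Agent.Lib.Helper3_QuadF2 Cfsg.Agent.Lib.Helper3_ExtCocycle Cfsg.Agent.Lib.Helper3_ExtModels
open Cfsg.Agent.Lib.Helper3_Extra2b

theorem sgn_ext {V : Type*} [AddCommGroup V] [Finite V] (c : Cocycle V)
    (hV2 : ∀ v : V, v + v = 0) :
    sgn (Ext c) = 2 * (2 * (N₀ (qc c) : ℤ) - (Nat.card V : ℤ)) := by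
  unfold sgn
  rw [card_sq hV2, card_ext]; push_cast; ring

theorem sSup_of_rank {E : Type*} [Group E] [Finite E] (hP : IsPGroup 2 E) (m : ℕ)
    (h1 : Cfsg.PRankLE 2 (m + 1) E) (h2 : ¬ Cfsg.PRankLE 2 m E) :
    sSup {k : ℕ | ∃ A : Subgroup E, Cfsg.IsElementaryAbelian 2 A ∧ Nat.card A = 2 ^ k} = m + 1 := by
  haveI : Fact (Nat.Prime 2) := ⟨Nat.prime_two⟩
  apply IsGreatest.csSup_eq
  constructor
  · unfold Cfsg.PRankLE at h2
    push Not at h2
    obtain ⟨A, hAc, hAe, hAcard⟩ := h2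
    obtain ⟨k, hk⟩ := (hP.to_subgroup A).exists_card_eq
    have := h1 A hAc hAe
    rw [hk] at this hAcard
    have hk1 : k ≤ m + 1 := (Nat.pow_le_pow_iff_right (by norm_num)).mp this
    have hk2 : m < k := (Nat.pow_lt_pow_iff_right (by norm_num)).mp hAcard
    have hkm : k = m + 1 := by omega
    exact ⟨A, ⟨hAc, hAe⟩, by rw [hk, hkm]⟩
  · rintro k ⟨A, ⟨hAc, hAe⟩, hk⟩
    have := h1 A hAc hAe
    rw [hk] at this
    exact (Nat.pow_le_pow_iff_right (by norm_num)).mp this

/-- For every n ≥ 1 there exist finite extraspecial 2-groups of order 2^(2n+1) whose 2-rank (the largest rank of an elementary abelian subgroup) is n, and ones whose 2-rank is n + 1 (so for each such order there are two non-isomorphic extraspecial 2-groups, told apart by their 2-rank). -/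
theorem result (n : ℕ) (hn : 1 ≤ n) : ∀ r ∈ ({n, n + 1} : Set ℕ), ∃ (E : Type) (_ : Group E) (_ : Finite E), Cfsg.IsExtraspecial 2 E ∧ Nat.card E = 2 ^ (2 * n + 1) ∧ sSup {k : ℕ | ∃ A : Subgroup E, Cfsg.IsElementaryAbelian 2 A ∧ Nat.card A = 2 ^ k} = r := by
  obtain ⟨m, rfl⟩ : ∃ m, n = m + 1 := ⟨n - 1, by omega⟩
  intro r hr
  rcases hr with rfl | hr
  · -- minus type
    have hV2 : ∀ v : (ZMod 2 × ZMod 2) × ((Fin m → ZMod 2) × (Fin m → ZMod 2)), v + v = 0 :=
      two_prod two_A (two_P m)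
    have hnd := csum_nondeg nondeg_A (nondeg_P m)
    have hE := isExtraspecial (c := csum cA (cP m)) hV2 hnd
    have hcard : Nat.card (Ext (csum cA (cP m))) = 2 ^ (2 * (m + 1) + 1) := by
      rw [card_ext, Nat.card_prod, card_VP, Nat.card_prod]
      simp only [Nat.card_zmod]
      ring
    have hs : sgn (Ext (csum cA (cP m))) < 0 := by
      rw [sgn_ext _ hV2]
      have hm := sign_mul (qc cA) (qc (cP m))
      have hq : qc (csum cA (cP m)) = fun p => qc cA p.1 + qc (cP m) p.2 := rfl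
      rw [hq, hm, N₀_A]
      have h1 := sign_P_pos m
      have h4 : (Nat.card (ZMod 2 × ZMod 2) : ℤ) = 4 := by
        rw [Nat.card_prod]; simp
      rw [h4]
      push_cast
      linarith
    obtain ⟨r1, r2⟩ := rank_neg hE (m + 1) hcard hs
    rw [Nat.add_sub_cancel] at r2
    exact ⟨Ext (csum cA (cP m)), inferInstance, inferInstance, hE, hcard,
      sSup_of_rank hE.1.1 m r1 r2⟩
  · -- plus type
    rw [Set.mem_singleton_iff] at hr
    subst hr
    haveI : Nontrivial ((Fin (m + 1) → ZMod 2) × (Fin (m + 1) → ZMod 2)) :=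
      ⟨⟨0, (fun _ => 1, 0), by
        intro h
        have h' : (0 : ZMod 2) = 1 := congrFun (congrArg Prod.fst h) 0
        exact absurd h' (by decide)⟩⟩
    have hV2 := two_P (m + 1)
    have hnd := nondeg_P (m + 1)
    have hE := isExtraspecial (c := cP (m + 1)) hV2 hnd
    have hcard : Nat.card (Ext (cP (m + 1))) = 2 ^ (2 * (m + 1) + 1) := by
      rw [card_ext, card_VP]; ring
    have hs : 0 < sgn (Ext (cP (m + 1))) := by
      rw [sgn_ext _ hV2]
      have h1 := sign_P_pos (m + 1)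
      linarith
    obtain ⟨r1, r2⟩ := rank_pos hE (m + 1) hcard hs
    exact ⟨Ext (cP (m + 1)), inferInstance, inferInstance, hE, hcard,
      sSup_of_rank hE.1.1 (m + 1) r1 r2⟩

end Cfsg.Agent.S5396
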