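import Cfsg.Statements.S5420
import Mathlib.Tactic

set_option autoImplicit false
open Cfsg

namespace Cfsg.Agent.S5420

theorem eq_one_of_odd_of_two_pow {G : Type*} [Group G] [Finite G] (K : Subgroup G) (hK : Odd (Nat.card K))
    (x : G) (hxK : x ∈ K) (n : ℕ) (hx : x ^ 2 ^ n = 1) : x = 1 := by
  have h1 : orderOf x ∣ 2 ^ n := orderOf_dvd_of_pow_eq_one hx
  have h2 : orderOf x ∣ Nat.card K := Subgroup.orderOf_dvd_natCard K hxK
  have hcop : Nat.Coprime (Nat.card K) (2 ^ n) := (Nat.Coprime.pow_right n hK.coprime_two_right)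
  have h3 := Nat.dvd_gcd h2 h1
  rw [hcop.gcd_eq_one, Nat.dvd_one] at h3
  exact orderOf_eq_one_iff.mp h3

theorem mem_pgroup_pow {G : Type*} [Group G] (P : Subgroup G) (hP : IsPGroup 2 P) (x : G) (hx : x ∈ P) :
    ∃ n : ℕ, x ^ 2 ^ n = 1 := by
  obtain ⟨n, hn⟩ := hP ⟨x, hx⟩
  refine ⟨n, ?_⟩
  have := congrArg (fun y : P => (y : G)) hn
  simpa using this

theorem pCore_normal' (p : ℕ) (G : Type*) [Group G] : (Cfsg.pCore p G).Normal := by
  unfold Cfsg.pCore
  exact Subgroup.sSup_normal _ (fun H hH => hH.1)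

theorem pCore_isPGroup' (p : ℕ) [Fact p.Prime] (G : Type*) [Group G] : IsPGroup p (Cfsg.pCore p G) := by
  unfold Cfsg.pCore
  exact Sylow.sSup_of_normal _ (fun H hH => hH.2) (fun H hH => hH.1)

/-- commuting from a commutator lying in an odd-order subgroup and a 2-subgroup -/
theorem commute_of_comm_mem {G : Type*} [Group G] [Finite G] (K : Subgroup G) (hK : Odd (Nat.card K))
    (P : Subgroup G) (hP : IsPGroup 2 P) (a k : G) (h1 : a * k * a⁻¹ * k⁻¹ ∈ K) (h2 : a * k * a⁻¹ * k⁻¹ ∈ P) :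
    a * k = k * a := by
  obtain ⟨n, hn⟩ := mem_pgroup_pow P hP _ h2
  have := eq_one_of_odd_of_two_pow K hK _ h1 n hn
  calc a * k = (a * k * a⁻¹ * k⁻¹) * (k * a) := by group
    _ = k * a := by rw [this, one_mul]

/-- the last clause of largeness, given that Z(Q) centralizes every odd-order Q-invariant subgroup -/
theorem large_of_center_centralizes {G : Type*} [Group G] [Finite G] (Q : Subgroup G) (hL1 : Cfsg.IsExtraspecial 2 ↥Q)
    (hL2 : Subgroup.centralizer (Q : Set G) = ((Subgroup.center ↥Q).map Q.subtype))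
    (hL3 : Subgroup.centralizer (((Subgroup.center ↥Q).map Q.subtype) : Set G) ≤ Subgroup.normalizer (Q : Set G))
    (K : Subgroup G) (hK : Odd (Nat.card K)) (hQK : Q ≤ Subgroup.normalizer (K : Set G))
    (hcomm : ∀ z ∈ (Subgroup.center ↥Q).map Q.subtype, ∀ k ∈ K, z * k = k * z) : K = ⊥ := by
  have hQ2 : IsPGroup 2 Q := hL1.1.1
  have hKN : K ≤ Subgroup.normalizer (Q : Set G) := by
    intro k hk
    apply hL3
    rw [Subgroup.mem_centralizer_iff]
    intro z hz
    exact hcomm z hz k hk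
  have hKC : K ≤ Subgroup.centralizer (Q : Set G) := by
    intro k hk
    rw [Subgroup.mem_centralizer_iff]
    intro q hq
    apply commute_of_comm_mem K hK Q hQ2 q k
    · have h1 := (Subgroup.mem_normalizer_iff.mp (hQK hq) k).mp hk
      exact K.mul_mem h1 (K.inv_mem hk)
    · have hk' := hKN hk
      have h1 := (Subgroup.mem_normalizer_iff.mp hk' q⁻¹).mp (Q.inv_mem hq)
      have e : q * k * q⁻¹ * k⁻¹ = q * (k * q⁻¹ * k⁻¹) := by group
      rw [e]
      exact Q.mul_mem hq h1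
  rw [eq_bot_iff]
  intro k hk
  rw [Subgroup.mem_bot]
  have hkQ : k ∈ Q := by
    have := hKC hk
    rw [hL2] at this
    exact Subgroup.map_subtype_le _ this
  obtain ⟨n, hn⟩ := mem_pgroup_pow Q hQ2 k hkQ
  exact eq_one_of_odd_of_two_pow K hK k hk n hn

/-- Large extraspecial 2-subgroups, criterion one. -/
theorem result {G : Type*} [Group G] [Finite G] (Q : Subgroup G) (hL1 : Cfsg.IsExtraspecial 2 ↥Q) (hL2 : Subgroup.centralizer (Q : Set G) = ((Subgroup.center ↥Q).map Q.subtype)) (hL3 : Subgroup.centralizer (((Subgroup.center ↥Q).map Q.subtype) : Set G) ≤ Subgroup.normalizer (Q : Set G)) (hZ : ((Subgroup.center ↥Q).map Q.subtype) ≤ Cfsg.pCore 2 G) : Cfsg.IsLargeExtraspecial Q := by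
  refine ⟨hL1, hL2, hL3, ?_⟩
  intro K hK hQK
  apply large_of_center_centralizes Q hL1 hL2 hL3 K hK hQK
  intro z hz k hk
  haveI : Fact (Nat.Prime 2) := ⟨Nat.prime_two⟩
  apply commute_of_comm_mem K hK (Cfsg.pCore 2 G) (pCore_isPGroup' 2 G) z k
  · have hzQ : z ∈ Q := Subgroup.map_subtype_le _ hz
    have h1 := (Subgroup.mem_normalizer_iff.mp (hQK hzQ) k).mp hk
    exact K.mul_mem h1 (K.inv_mem hk)
  · have hzO := hZ hz
    have hn := pCore_normal' 2 G
    have h1 := hn.conj_mem z⁻¹ ((Cfsg.pCore 2 G).inv_mem hzO) k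
    have e : z * k * z⁻¹ * k⁻¹ = z * (k * z⁻¹ * k⁻¹) := by group
    rw [e]
    exact (Cfsg.pCore 2 G).mul_mem hzO h1

end Cfsg.Agent.S5420
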