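-- Statement S5434
import Cfsg.Statements.S5434
import Mathlib
import Cfsg.Agent.Lib.Lead_Coprime
import Cfsg.Agent.Lib.Helper4_Frattini
import Cfsg.Agent.Lib.Helper7_PFrattini

set_option autoImplicit false
open Cfsg

namespace Cfsg.Agent.S5434

open scoped commutatorElement

section
variable {G : Type*} [Group G] [Finite G]

/-- basic facts about an extraspecial 2-subgroup, packaged. -/
structure Facts (Q Z : Subgroup G) : Prop where
  pg : IsPGroup 2 Q
  card : Nat.card Z = 2
  le : Z ≤ Q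
  comm : ∀ x ∈ Q, ∀ y ∈ Q, ⁅x, y⁆ ∈ Z
  sq : ∀ x ∈ Q, x ^ 2 ∈ Z
  central : ∀ z ∈ Z, ∀ x ∈ Q, z * x = x * z
  mem : ∀ w ∈ Q, (∀ x ∈ Q, w * x = x * w) → w ∈ Z

lemma facts_of_extraspecial (Q : Subgroup G) (hE : Cfsg.IsExtraspecial 2 ↥Q) :
    Facts Q ((Subgroup.center ↥Q).map Q.subtype) := by
  obtain ⟨⟨hp, hfr, hco⟩, hcard⟩ := hE
  haveI : Fact (Nat.Prime 2) := ⟨Nat.prime_two⟩
  refine ⟨hp, ?_, ?_, ?_, ?_, ?_, ?_⟩
  · rw [Subgroup.card_map_of_injective Q.subtype_injective]; exact hcard
  · exact Subgroup.map_subtype_le _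
  · intro x hx y hy
    have : ⁅(⟨x, hx⟩ : Q), ⟨y, hy⟩⁆ ∈ Subgroup.center ↥Q := by
      rw [← hco, commutator_def]
      exact Subgroup.commutator_mem_commutator (Subgroup.mem_top _) (Subgroup.mem_top _)
    exact ⟨_, this, by simp [commutatorElement_def]⟩
  · intro x hx
    have : (⟨x, hx⟩ : Q) ^ 2 ∈ Subgroup.center ↥Q := by
      rw [← hfr]
      exact Cfsg.Agent.Lib.Helper7_PFrattini.pow_mem_frattini hp _
    exact ⟨_, this, by simp⟩
  · rintro _ ⟨z, hz, rfl⟩ x hx
    have := Subgroup.mem_center_iff.1 hz ⟨x, hx⟩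
    have := congrArg Subtype.val this
    simpa using this.symm
  · intro w hw hcomm
    refine ⟨⟨w, hw⟩, ?_, rfl⟩
    show (⟨w, hw⟩ : Q) ∈ Subgroup.center ↥Q
    rw [Subgroup.mem_center_iff]
    intro g
    apply Subtype.ext
    simpa using (hcomm g g.2).symm

lemma two_elems {Z : Subgroup G} (hcard : Nat.card Z = 2) :
    ∃ z₀ ∈ Z, z₀ ≠ 1 ∧ ∀ w ∈ Z, w ≠ 1 → w = z₀ := by
  obtain ⟨⟨z₀, hz₀⟩, hne, huniq⟩ := (Nat.card_eq_two_iff' (1 : Z)).1 hcard
  refine ⟨z₀, hz₀, fun h => hne (Subtype.ext h), ?_⟩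
  intro w hw hw1
  have := huniq ⟨w, hw⟩ (fun h => hw1 (congrArg Subtype.val h))
  exact congrArg Subtype.val this

/-- Lemma X -/
lemma extraspecial_factor (Q Z : Subgroup G) (hF : Facts Q Z) (R R' : Subgroup G)
    (hsup : R ⊔ R' = Q) (hcomm : ∀ x ∈ R, ∀ y ∈ R', x * y = y * x)
    (hnonab : ∃ x ∈ R, ∃ y ∈ R, x * y ≠ y * x) : Cfsg.IsExtraspecial 2 ↥R := by
  haveI : Fact (Nat.Prime 2) := ⟨Nat.prime_two⟩
  have hRQ : R ≤ Q := by rw [← hsup]; exact le_sup_left
  have hR'Q : R' ≤ Q := by rw [← hsup]; exact le_sup_right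
  obtain ⟨z₀, hz₀Z, hz₀1, hz₀u⟩ := two_elems hF.card
  obtain ⟨x, hx, y, hy, hxy⟩ := hnonab
  have hc1 : ⁅x, y⁆ ≠ 1 := by
    intro h
    apply hxy
    rw [commutatorElement_eq_one_iff_mul_comm] at h
    exact h
  have hcz : ⁅x, y⁆ = z₀ := hz₀u _ (hF.comm x (hRQ hx) y (hRQ hy)) hc1
  have hz₀R : z₀ ∈ R := by
    rw [← hcz]
    exact R.mul_mem (R.mul_mem (R.mul_mem hx hy) (R.inv_mem hx)) (R.inv_mem hy)
  have hZR : Z ≤ R := by
    intro w hw
    by_cases hw1 : w = 1
    · rw [hw1]; exact R.one_mem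
    · rw [hz₀u w hw hw1]; exact hz₀R
  -- centre
  have hcen : ∀ w : R, w ∈ Subgroup.center ↥R ↔ (w : G) ∈ Z := by
    intro w
    constructor
    · intro hw
      apply hF.mem _ (hRQ w.2)
      have h1 : R ⊔ R' ≤ Subgroup.centralizer {(w : G)} := by
        apply sup_le
        · intro r hr
          rw [Subgroup.mem_centralizer_singleton_iff]
          have := Subgroup.mem_center_iff.1 hw ⟨r, hr⟩
          have := congrArg Subtype.val this
          simpa using this
        · intro r hr
          rw [Subgroup.mem_centralizer_singleton_iff]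
          exact (hcomm w w.2 r hr).symm
      intro q hq
      have := h1 (by rw [hsup]; exact hq)
      rw [Subgroup.mem_centralizer_singleton_iff] at this
      exact this.symm
    · intro hw
      rw [Subgroup.mem_center_iff]
      intro g
      apply Subtype.ext
      have := hF.central _ hw g (hRQ g.2)
      simpa using this.symm
  have hcencard : Nat.card (Subgroup.center ↥R) = 2 := by
    rw [← hF.card]
    apply Nat.card_congr
    refine ⟨fun w => ⟨(w : R), (hcen w.1).1 w.2⟩, fun z => ⟨⟨z, hZR z.2⟩, (hcen _).2 z.2⟩, ?_, ?_⟩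
    · intro w; rfl
    · intro z; rfl
  have hpR : IsPGroup 2 ↥R := hF.pg.to_le hRQ
  have hcomle : commutator ↥R ≤ Subgroup.center ↥R := by
    rw [commutator_def, Subgroup.commutator_le]
    intro a _ b _
    rw [hcen]
    have := hF.comm a (hRQ a.2) b (hRQ b.2)
    simpa [commutatorElement_def] using this
  have hcenle : Subgroup.center ↥R ≤ commutator ↥R := by
    intro w hw
    by_cases hw1 : (w : G) = 1
    · have : w = 1 := Subtype.ext hw1
      rw [this]; exact Subgroup.one_mem _
    · have hwz : (w : G) = z₀ := hz₀u _ ((hcen w).1 hw) hw1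
      have : w = ⁅(⟨x, hx⟩ : R), ⟨y, hy⟩⁆ := by
        apply Subtype.ext
        rw [hwz, ← hcz]
        simp [commutatorElement_def]
      rw [this, commutator_def]
      exact Subgroup.commutator_mem_commutator (Subgroup.mem_top _) (Subgroup.mem_top _)
  have hcomeq : commutator ↥R = Subgroup.center ↥R := le_antisymm hcomle hcenle
  refine ⟨⟨hpR, ?_, hcomeq⟩, hcencard⟩
  apply le_antisymm
  · apply Cfsg.Agent.Lib.Helper4_Frattini.frattini_le_of_elementary_quotient (p := 2)
    · intro a b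
      apply hcomle
      rw [commutator_def]
      exact Subgroup.commutator_mem_commutator (Subgroup.mem_top _) (Subgroup.mem_top _)
    · intro a
      rw [hcen]
      have := hF.sq a (hRQ a.2)
      simpa using this
  · rw [← hcomeq, commutator_def, Subgroup.commutator_le]
    intro a _ b _
    rw [commutatorElement_def]
    exact Cfsg.Agent.Lib.Helper7_PFrattini.comm_mem_frattini hpR a b

end

theorem result {G : Type*} [Group G] [Finite G] (Q : Subgroup G) (hQ : Cfsg.IsLargeExtraspecial Q) (A : Subgroup G) (hA : A ≤ Subgroup.normalizer (Q : Set G)) (hAodd : Odd (Nat.card ↥A)) (hA1 : A ≠ ⊥) : (Q ⊓ Subgroup.centralizer (A : Set G)) ⊔ ⁅Q, A⁆ = Q ∧ (∀ x ∈ Q ⊓ Subgroup.centralizer (A : Set G), ∀ y ∈ ⁅Q, A⁆, x * y = y * x) ∧ Cfsg.IsExtraspecial 2 ↥⁅Q, A⁆ ∧ (Q ⊓ Subgroup.centralizer (A : Set G) = ((Subgroup.center ↥Q).map Q.subtype) ∨ Cfsg.IsExtraspecial 2 ↥(Q ⊓ Subgroup.centralizer (A : Set G))) := by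
  obtain ⟨hE, hCQ, hN, hodd⟩ := hQ
  have hF := facts_of_extraspecial Q hE
  set Z := (Subgroup.center ↥Q).map Q.subtype with hZ
  obtain ⟨z₀, hz₀Z, hz₀1, hz₀u⟩ := two_elems hF.card
  have hDQ : ⁅Q, A⁆ ≤ Q := Cfsg.Agent.Lib.Lead_Coprime.commutator_le_of_le_normalizer Q A hA
  -- A centralizes Z
  have hAZ : Z ≤ Subgroup.centralizer (A : Set G) := by
    intro z hz
    rw [Subgroup.mem_centralizer_iff]
    intro a ha
    by_cases hz1 : z = 1
    · rw [hz1]; simp
    · have hzz : z = z₀ := hz₀u z hz hz1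
      have haQ := hA ha
      rw [Subgroup.mem_normalizer_iff] at haQ
      have h1 : a * z * a⁻¹ ∈ Z := by
        apply hF.mem
        · exact (haQ z).1 (hF.le hz)
        · intro x hx
          have hx' : a⁻¹ * x * a ∈ Q := by
            have := (haQ (a⁻¹ * x * a)).2 (by simpa [mul_assoc] using hx)
            exact this
          have := hF.central z hz _ hx'
          calc a * z * a⁻¹ * x = a * (z * (a⁻¹ * x * a)) * a⁻¹ := by group
            _ = a * ((a⁻¹ * x * a) * z) * a⁻¹ := by rw [this]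
            _ = x * (a * z * a⁻¹) := by group
      have h2 : a * z * a⁻¹ ≠ 1 := by
        intro h
        apply hz1
        have : z = a⁻¹ * (a * z * a⁻¹) * a := by group
        rw [this, h]; group
      have h3 : a * z * a⁻¹ = z := by rw [hz₀u _ h1 h2, hzz]
      calc a * z = (a * z * a⁻¹) * a := by group
        _ = z * a := by rw [h3]
  have hZC : Z ≤ Q ⊓ Subgroup.centralizer (A : Set G) := le_inf hF.le hAZ
  -- coprime
  have hcop : (Nat.card A).Coprime (Nat.card Q) := by
    obtain ⟨k, hk⟩ := hF.pg.exists_card_eq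
    rw [hk]
    apply Nat.Coprime.pow_right
    exact (Nat.coprime_two_right).2 hAodd
  have hsolvQ : Group.IsSolvable Q := by
    haveI : Fact (Nat.Prime 2) := ⟨Nat.prime_two⟩
    haveI := hF.pg.isNilpotent
    infer_instance
  -- (1)
  have h1 : (Q ⊓ Subgroup.centralizer (A : Set G)) ⊔ ⁅Q, A⁆ = Q := by
    apply le_antisymm
    · exact sup_le inf_le_left hDQ
    · intro k hk
      obtain ⟨n, hn, c, hc, rfl⟩ := Cfsg.Agent.Lib.Lead_Coprime.decomp A Q hA hcop (Or.inr hsolvQ) k hk
      exact Subgroup.mul_mem _ (Subgroup.mem_sup_right hn) (Subgroup.mem_sup_left hc)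
  -- (2)
  have h2 : ∀ x ∈ Q ⊓ Subgroup.centralizer (A : Set G), ∀ y ∈ ⁅Q, A⁆, x * y = y * x := by
    have hrot : ⁅⁅Q, A⁆, Q ⊓ Subgroup.centralizer (A : Set G)⁆ = ⊥ := by
      apply Subgroup.commutator_commutator_eq_bot_of_rotate
      · have : ⁅A, Q ⊓ Subgroup.centralizer (A : Set G)⁆ = ⊥ := by
          rw [Subgroup.commutator_comm, Subgroup.commutator_eq_bot_iff_le_centralizer]
          exact inf_le_right
        rw [this, Subgroup.commutator_bot_left]
      · have hle : ⁅Q ⊓ Subgroup.centralizer (A : Set G), Q⁆ ≤ Z := by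
          rw [Subgroup.commutator_le]
          intro c hc q hq
          exact hF.comm c hc.1 q hq
        have hZA : ⁅Z, A⁆ = ⊥ := by
          rw [Subgroup.commutator_eq_bot_iff_le_centralizer]
          exact hAZ
        rw [eq_bot_iff, ← hZA]
        exact Subgroup.commutator_mono hle le_rfl
    rw [Subgroup.commutator_eq_bot_iff_le_centralizer] at hrot
    intro x hx y hy
    have := hrot hy
    rw [Subgroup.mem_centralizer_iff] at this
    exact this x hx
  -- central elements lemma
  have hcentral : ∀ w ∈ Q, (∀ x ∈ Q ⊓ Subgroup.centralizer (A : Set G), w * x = x * w) →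
      (∀ y ∈ ⁅Q, A⁆, w * y = y * w) → w ∈ Z := by
    intro w hw hwC hwD
    apply hF.mem w hw
    have hle : (Q ⊓ Subgroup.centralizer (A : Set G)) ⊔ ⁅Q, A⁆ ≤ Subgroup.centralizer {w} := by
      apply sup_le
      · intro r hr
        rw [Subgroup.mem_centralizer_singleton_iff]
        exact (hwC r hr).symm
      · intro r hr
        rw [Subgroup.mem_centralizer_singleton_iff]
        exact (hwD r hr).symm
    intro q hq
    have := hle (by rw [h1]; exact hq)
    rw [Subgroup.mem_centralizer_singleton_iff] at this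
    exact this.symm
  refine ⟨h1, h2, ?_, ?_⟩
  · -- (3)
    apply extraspecial_factor Q Z hF ⁅Q, A⁆ (Q ⊓ Subgroup.centralizer (A : Set G))
      (by rw [sup_comm]; exact h1) (fun x hx y hy => (h2 y hy x hx).symm)
    by_contra hab
    push Not at hab
    -- D abelian ⇒ D ≤ Z
    have hDZ : ⁅Q, A⁆ ≤ Z := by
      intro d hd
      apply hcentral d (hDQ hd)
      · intro x hx; exact (h2 x hx d hd).symm
      · intro y hy; exact hab d hd y hy
    have hQC : Q ≤ Subgroup.centralizer (A : Set G) := by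
      have : Q ≤ Q ⊓ Subgroup.centralizer (A : Set G) := by
        conv_lhs => rw [← h1]
        exact sup_le le_rfl (hDZ.trans hZC)
      exact this.trans inf_le_right
    have hAcen : A ≤ Subgroup.centralizer (Q : Set G) := by
      intro a ha
      rw [Subgroup.mem_centralizer_iff]
      intro q hq
      have := hQC hq
      rw [Subgroup.mem_centralizer_iff] at this
      exact (this a ha).symm
    rw [hCQ] at hAcen
    have hdvd := Subgroup.card_dvd_of_le hAcen
    rw [hF.card] at hdvd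
    have hA1' : Nat.card A = 1 := by
      rcases (Nat.dvd_prime Nat.prime_two).1 hdvd with h | h
      · exact h
      · rw [h] at hAodd; exact absurd hAodd (by decide)
    exact hA1 (Subgroup.card_eq_one.1 hA1')
  · -- (4)
    by_cases hab : ∃ x ∈ Q ⊓ Subgroup.centralizer (A : Set G),
        ∃ y ∈ Q ⊓ Subgroup.centralizer (A : Set G), x * y ≠ y * x
    · right
      exact extraspecial_factor Q Z hF (Q ⊓ Subgroup.centralizer (A : Set G)) ⁅Q, A⁆ h1 h2 hab
    · left
      push Not at hab
      apply le_antisymm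
      · intro c hc
        apply hcentral c hc.1
        · intro x hx; exact hab c hc x hx
        · intro y hy; exact h2 c hc y hy
      · exact hZC

end Cfsg.Agent.S5434
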