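-- Statement S5421
import Cfsg.Statements.S5421
import Mathlib
import Cfsg.Agent.S5420
import Cfsg.Agent.S5434
import Cfsg.Agent.Lib.Helper9_Four

set_option autoImplicit false
open Cfsg

namespace Cfsg.Agent.S5421

open scoped commutatorElement

theorem result {G : Type*} [Group G] [Finite G] (Q : Subgroup G) (hL1 : Cfsg.IsExtraspecial 2 ↥Q) (hL2 : Subgroup.centralizer (Q : Set G) = ((Subgroup.center ↥Q).map Q.subtype)) (hL3 : Subgroup.centralizer (((Subgroup.center ↥Q).map Q.subtype) : Set G) ≤ Subgroup.normalizer (Q : Set G)) (b : G) (hbQ : b ∈ Q) (hbZ : b ∉ ((Subgroup.center ↥Q).map Q.subtype)) (hb : orderOf b = 2) (hZ : ((Subgroup.center ↥Q).map Q.subtype) ≤ (Cfsg.pCore 2 ↥(Subgroup.centralizer ({b} : Set G))).map (Subgroup.centralizer ({b} : Set G)).subtype) : Cfsg.IsLargeExtraspecial Q := by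
  refine ⟨hL1, hL2, hL3, ?_⟩
  intro K hK hQK
  apply Cfsg.Agent.S5420.large_of_center_centralizes Q hL1 hL2 hL3 K hK hQK
  have hF := Cfsg.Agent.S5434.facts_of_extraspecial Q hL1
  set Z := (Subgroup.center ↥Q).map Q.subtype with hZdef
  obtain ⟨z₀, hz₀Z, hz₀1, hz₀u⟩ := Cfsg.Agent.S5434.two_elems hF.card
  intro z hz k hk
  by_cases hz1 : z = 1
  · rw [hz1]; simp
  have hzz : z * z = 1 := by
    by_contra hne
    have h1 : z * z = z₀ := hz₀u _ (Z.mul_mem hz hz) hne
    have h2 : z = z₀ := hz₀u _ hz hz1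
    apply hz1
    have : z * z = z := by rw [h1, h2]
    calc z = z⁻¹ * (z * z) := by group
      _ = z⁻¹ * z := by rw [this]
      _ = 1 := by group
  have hzu : ∀ w ∈ Z, w ≠ 1 → w = z := by
    intro w hw hw1
    rw [hz₀u w hw hw1, hz₀u z hz hz1]
  have hbb : b * b = 1 := by
    have := pow_orderOf_eq_one b
    rw [hb, pow_two] at this
    exact this
  have hzQ : z ∈ Q := hF.le hz
  have hbz : b * z = z * b := (hF.central z hz b hbQ).symm
  have hbK := hQK hbQ
  have hzK := hQK hzQ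
  have hgen := Cfsg.Agent.Helper9Four.four_gen K hK b z hbb hzz hbz hbK hzK
  -- part b
  haveI : Fact (Nat.Prime 2) := ⟨Nat.prime_two⟩
  have hpartb : ∀ k ∈ K ⊓ Subgroup.centralizer {b}, z * k = k * z := by
    intro k hk
    set C := Subgroup.centralizer ({b} : Set G) with hC
    have hTp : IsPGroup 2 ((Cfsg.pCore 2 ↥C).map C.subtype) :=
      (Cfsg.Agent.S5420.pCore_isPGroup' 2 ↥C).map _
    apply Cfsg.Agent.S5420.commute_of_comm_mem K hK _ hTp z k
    · have h1 := (Subgroup.mem_normalizer_iff.mp hzK k).mp hk.1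
      exact K.mul_mem h1 (K.inv_mem hk.1)
    · obtain ⟨z', hz', hzz'⟩ := hZ hz
      have hn := Cfsg.Agent.S5420.pCore_normal' 2 ↥C
      have h2 : (⟨k, hk.2⟩ : C) * z'⁻¹ * (⟨k, hk.2⟩ : C)⁻¹ ∈ Cfsg.pCore 2 ↥C :=
        hn.conj_mem _ (Subgroup.inv_mem _ hz') _
      have h3 : z' * ((⟨k, hk.2⟩ : C) * z'⁻¹ * (⟨k, hk.2⟩ : C)⁻¹) ∈ Cfsg.pCore 2 ↥C :=
        Subgroup.mul_mem _ hz' h2
      refine ⟨_, h3, ?_⟩
      simp only [Subgroup.subtype_apply, Subgroup.coe_mul, Subgroup.coe_inv]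
      have : (z' : G) = z := hzz'
      rw [this]; group
  -- conjugating element
  obtain ⟨q, hq, hqb⟩ : ∃ q ∈ Q, q * b * q⁻¹ = b * z := by
    have : ∃ q ∈ Q, b * q ≠ q * b := by
      by_contra hcon
      push Not at hcon
      exact hbZ (hF.mem b hbQ hcon)
    obtain ⟨q, hq, hqb⟩ := this
    refine ⟨q, hq, ?_⟩
    have h1 : ⁅q, b⁆ ∈ Z := hF.comm q hq b hbQ
    have h2 : ⁅q, b⁆ ≠ 1 := by
      intro h
      rw [commutatorElement_eq_one_iff_mul_comm] at h
      exact hqb h.symm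
    have h3 : ⁅q, b⁆ = z := hzu _ h1 h2
    rw [commutatorElement_def] at h3
    calc q * b * q⁻¹ = (q * b * q⁻¹ * b⁻¹) * b := by group
      _ = z * b := by rw [h3]
      _ = b * z := hbz.symm
  have hzq : z * q = q * z := hF.central z hz q hq
  have hpartbz : ∀ k ∈ K ⊓ Subgroup.centralizer {b * z}, z * k = k * z := by
    intro k hk
    have hk1 : q⁻¹ * k * q ∈ K := by
      have := (Subgroup.mem_normalizer_iff.mp (hQK (Q.inv_mem hq)) k).mp hk.1
      simpa using this
    have hkbz : (b * z) * k = k * (b * z) := by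
      have : k ∈ Subgroup.centralizer {b * z} := hk.2
      rw [Subgroup.mem_centralizer_singleton_iff] at this
      exact this.symm
    have hk2 : q⁻¹ * k * q ∈ Subgroup.centralizer {b} := by
      rw [Subgroup.mem_centralizer_singleton_iff]
      have e1 : b = q⁻¹ * (b * z) * q := by rw [← hqb]; group
      calc q⁻¹ * k * q * b = q⁻¹ * k * q * (q⁻¹ * (b * z) * q) := by rw [← e1]
        _ = q⁻¹ * (k * (b * z)) * q := by group
        _ = q⁻¹ * ((b * z) * k) * q := by rw [hkbz]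
        _ = (q⁻¹ * (b * z) * q) * (q⁻¹ * k * q) := by group
        _ = b * (q⁻¹ * k * q) := by rw [← e1]
    have h3 := hpartb _ ⟨hk1, hk2⟩
    have hzq' : z * q⁻¹ = q⁻¹ * z := by
      calc z * q⁻¹ = q⁻¹ * (q * z) * q⁻¹ := by group
        _ = q⁻¹ * (z * q) * q⁻¹ := by rw [hzq]
        _ = q⁻¹ * z := by group
    calc z * k = q * (q⁻¹ * z) * k := by group
      _ = q * (z * q⁻¹) * k := by rw [hzq']
      _ = q * (z * (q⁻¹ * k * q)) * q⁻¹ := by group
      _ = q * ((q⁻¹ * k * q) * z) * q⁻¹ := by rw [h3]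
      _ = k * (q * z) * q⁻¹ := by group
      _ = k * (z * q) * q⁻¹ := by rw [hzq]
      _ = k * z := by group
  -- conclude
  have hle : K ≤ Subgroup.centralizer {z} := by
    rw [hgen]
    apply sup_le (sup_le ?_ ?_) ?_
    · intro k hk
      rw [Subgroup.mem_centralizer_singleton_iff]
      exact (hpartb k hk).symm
    · exact inf_le_right
    · intro k hk
      rw [Subgroup.mem_centralizer_singleton_iff]
      exact (hpartbz k hk).symm
  have := hle hk
  rw [Subgroup.mem_centralizer_singleton_iff] at this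
  exact this.symm

end Cfsg.Agent.S5421
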