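import Cfsg.Statements.S5433
import Mathlib.Tactic

set_option autoImplicit false
open Cfsg

namespace Cfsg.Agent.S5433

/-- Frattini argument for a large extraspecial 2-subgroup. -/
theorem result {G : Type*} [Group G] [Finite G] (Q : Subgroup G) (hQ : Cfsg.IsLargeExtraspecial Q) (L : Subgroup G) [L.Normal] (hQL : Q ≤ L) : L ⊔ Subgroup.normalizer (Q : Set G) = ⊤ := by
  classical
  haveI : Fact (Nat.Prime 2) := ⟨Nat.prime_two⟩
  obtain ⟨hE, hL2, hL3, -⟩ := hQ
  have hQ2 : IsPGroup 2 Q := hE.1.1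
  have hcardZ : Nat.card (Subgroup.center Q) = 2 := hE.2
  set Z := (Subgroup.center ↥Q).map Q.subtype with hZdef
  have hcardZ' : Nat.card Z = 2 := by
    rw [hZdef, Subgroup.card_map_of_injective (Subgroup.subtype_injective Q)]
    exact hcardZ
  obtain ⟨P, hP⟩ := (hQ2.comap_subtype (K := L)).exists_le_sylow
  set T := (P : Subgroup L).map L.subtype with hTdef
  have hQT : Q ≤ T := by
    intro q hq
    exact ⟨⟨q, hQL hq⟩, hP (show (⟨q, hQL hq⟩ : L) ∈ Q.subgroupOf L from hq), rfl⟩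
  have hT2 : IsPGroup 2 T := P.isPGroup'.map _
  -- Z nontrivial, so T nontrivial
  obtain ⟨⟨z0, hz0Z⟩, hz0ne, hz0uniq⟩ := (Nat.card_eq_two_iff' (1 : Z)).mp hcardZ'
  have hz0ne' : z0 ≠ 1 := fun h => hz0ne (Subtype.ext h)
  have hZQ : Z ≤ Q := Subgroup.map_subtype_le _
  have hTnt : Nontrivial T := ⟨⟨⟨z0, hQT (hZQ hz0Z)⟩, 1, fun h => hz0ne' (congrArg Subtype.val h)⟩⟩
  have hcnt : Nontrivial (Subgroup.center T) := hT2.center_nontrivial
  obtain ⟨⟨⟨t, htT⟩, htc⟩, htne⟩ := exists_ne (1 : Subgroup.center T)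
  have htne' : t ≠ 1 := fun h => htne (Subtype.ext (Subtype.ext h))
  have htcomm : ∀ x ∈ T, x * t = t * x := by
    intro x hx
    rw [Subgroup.mem_center_iff] at htc
    have := htc ⟨x, hx⟩
    exact congrArg Subtype.val this
  -- central elements of T lie in Z
  have hcenZ : ∀ s ∈ T, (∀ x ∈ T, x * s = s * x) → s ∈ Z := by
    intro s _ hs
    rw [← hL2, Subgroup.mem_centralizer_iff]
    intro q hq
    exact hs q (hQT hq)
  have htZ : t ∈ Z := hcenZ t htT htcomm
  have ht_eq : ∀ s ∈ Z, s ≠ 1 → s = t := by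
    intro s hs hs1
    have h1 := hz0uniq ⟨s, hs⟩ (fun h => hs1 (congrArg Subtype.val h))
    have h2 := hz0uniq ⟨t, htZ⟩ (fun h => htne' (congrArg Subtype.val h))
    have := h1.trans h2.symm
    exact congrArg Subtype.val this
  have hNT : Subgroup.normalizer (T : Set G) ≤ Subgroup.normalizer (Q : Set G) := by
    intro n hn
    apply hL3
    have hnT : ∀ x, x ∈ T ↔ n * x * n⁻¹ ∈ T := Subgroup.mem_normalizer_iff.mp hn
    have hnT' : ∀ x ∈ T, n⁻¹ * x * n ∈ T := by
      intro x hx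
      rw [hnT]
      have e : n * (n⁻¹ * x * n) * n⁻¹ = x := by group
      rwa [e]
    have h1 : n * t * n⁻¹ ∈ Z := by
      apply hcenZ _ ((hnT t).mp htT)
      intro x hx
      have := htcomm _ (hnT' x hx)
      calc x * (n * t * n⁻¹) = n * ((n⁻¹ * x * n) * t) * n⁻¹ := by group
        _ = n * (t * (n⁻¹ * x * n)) * n⁻¹ := by rw [this]
        _ = n * t * n⁻¹ * x := by group
    have h2 : n * t * n⁻¹ ≠ 1 := by
      intro h
      apply htne'
      have : t = n⁻¹ * (n * t * n⁻¹) * n := by group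
      rw [this, h]; group
    have h3 := ht_eq _ h1 h2
    rw [Subgroup.mem_centralizer_iff]
    intro s hs
    by_cases hs1 : s = 1
    · subst hs1; simp
    · have := ht_eq s hs hs1
      subst this
      calc s * n = (n * s * n⁻¹) * n := by rw [h3]
        _ = n * s := by group
  have hfr := Sylow.normalizer_sup_eq_top P
  rw [eq_top_iff, ← hfr, sup_comm]
  exact sup_le_sup_left hNT L

end Cfsg.Agent.S5433
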