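import Cfsg.Statements.S5437
import Mathlib.Tactic

set_option autoImplicit false
open Cfsg

namespace Cfsg.Agent.S5437

theorem mem_map_conj {G : Type*} [Group G] (H : Subgroup G) (g x : G) :
    x ∈ H.map (MulAut.conj g).toMonoidHom ↔ g⁻¹ * x * g ∈ H := by
  constructor
  · rintro ⟨y, hy, rfl⟩
    simp only [MulEquiv.coe_toMonoidHom, MulAut.conj_apply]
    have : g⁻¹ * (g * y * g⁻¹) * g = y := by group
    rw [this]; exact hy
  · intro h
    exact ⟨g⁻¹ * x * g, h, by simp only [MulEquiv.coe_toMonoidHom, MulAut.conj_apply]; group⟩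

theorem smul_coset_eq {G : Type*} [Group G] (H : Subgroup G) (x g : G) :
    x • (g : G ⧸ H) = (g : G ⧸ H) ↔ g⁻¹ * x * g ∈ H := by
  rw [MulAction.Quotient.smul_coe, QuotientGroup.eq, smul_eq_mul]
  constructor
  · intro h
    have := H.inv_mem h
    have e : ((x * g)⁻¹ * g)⁻¹ = g⁻¹ * x * g := by group
    rwa [e] at this
  · intro h
    have := H.inv_mem h
    have e : (g⁻¹ * x * g)⁻¹ = (x * g)⁻¹ * g := by group
    rwa [e] at this

theorem result {G : Type*} [Group G] [Finite G] (I : Set G) (hI : ∀ x ∈ I, orderOf x = 2) (hIc : ∀ g : G, ∀ x ∈ I, g * x * g⁻¹ ∈ I) (H : Subgroup G) : ((∀ x ∈ I, x ∈ H → (∀ g : G, g * x * g⁻¹ ∈ H → ∃ h ∈ H, h * x * h⁻¹ = g * x * g⁻¹) ∧ Subgroup.centralizer ({x} : Set G) ≤ H) ↔ (∀ g : G, g ∉ H → ∀ x ∈ I, ¬ (x ∈ H ∧ x ∈ (H : Subgroup G).map (MulAut.conj g).toMonoidHom))) ∧ ((∀ g : G, g ∉ H → ∀ x ∈ I, ¬ (x ∈ H ∧ x ∈ (H : Subgroup G).map (MulAut.conj g).toMonoidHom)) ↔ ∀ x ∈ I, x ∈ H → ∃! c : G ⧸ H,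 x • c = c) := by
  simp only [mem_map_conj]
  refine ⟨⟨?_, ?_⟩, ⟨?_, ?_⟩⟩
  · intro hA g hg x hxI ⟨hxH, hxg⟩
    -- y = g⁻¹ x g ∈ I ∩ H
    have hyI : g⁻¹ * x * g ∈ I := by
      have := hIc g⁻¹ x hxI
      rwa [inv_inv] at this
    obtain ⟨h1, h2⟩ := hA _ hyI hxg
    have e : g * (g⁻¹ * x * g) * g⁻¹ = x := by group
    obtain ⟨h, hh, hconj⟩ := h1 g (by rw [e]; exact hxH)
    have hc : h⁻¹ * g ∈ Subgroup.centralizer ({g⁻¹ * x * g} : Set G) := by
      rw [Subgroup.mem_centralizer_iff]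
      intro m hm
      rw [Set.mem_singleton_iff] at hm
      subst hm
      -- from h y h⁻¹ = g y g⁻¹
      have : g⁻¹ * x * g = h⁻¹ * (g * (g⁻¹ * x * g) * g⁻¹) * h := by
        rw [← hconj]; group
      calc g⁻¹ * x * g * (h⁻¹ * g) = (h⁻¹ * (g * (g⁻¹ * x * g) * g⁻¹) * h) * (h⁻¹ * g) := by rw [← this]
        _ = h⁻¹ * g * (g⁻¹ * x * g) := by group
    have := h2 hc
    apply hg
    have h3 := H.mul_mem hh this
    have e2 : h * (h⁻¹ * g) = g := by group
    rwa [e2] at h3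
  · intro hB x hxI hxH
    constructor
    · intro g hg
      by_cases hgH : g ∈ H
      · exact ⟨g, hgH, rfl⟩
      · exfalso
        apply hB g hgH (g * x * g⁻¹) (hIc g x hxI)
        refine ⟨hg, ?_⟩
        have e : g⁻¹ * (g * x * g⁻¹) * g = x := by group
        rw [e]; exact hxH
    · intro c hc
      by_contra hcH
      apply hB c hcH x hxI
      refine ⟨hxH, ?_⟩
      rw [Subgroup.mem_centralizer_iff] at hc
      have := hc x (Set.mem_singleton x)
      have e : c⁻¹ * x * c = x := by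
        calc c⁻¹ * x * c = c⁻¹ * (x * c) := by group
          _ = c⁻¹ * (c * x) := by rw [this]
          _ = x := by group
      rw [e]; exact hxH
  · intro hB x hxI hxH
    refine ⟨((1 : G) : G ⧸ H), ?_, ?_⟩
    · show x • ((1 : G) : G ⧸ H) = ((1 : G) : G ⧸ H)
      rw [smul_coset_eq]
      simpa using hxH
    · intro c
      induction c using QuotientGroup.induction_on with
      | H g =>
        intro hfix
        change x • (g : G ⧸ H) = (g : G ⧸ H) at hfix
        rw [smul_coset_eq] at hfix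
        by_cases hgH : g ∈ H
        · rw [QuotientGroup.eq]
          simpa using hgH
        · exact absurd ⟨hxH, hfix⟩ (hB g hgH x hxI)
  · intro hC g hg x hxI ⟨hxH, hxg⟩
    obtain ⟨c, _, huniq⟩ := hC x hxI hxH
    have h1 : ((1 : G) : G ⧸ H) = c := huniq _ (by
      show x • ((1 : G) : G ⧸ H) = ((1 : G) : G ⧸ H)
      rw [smul_coset_eq]; simpa using hxH)
    have h2 : (g : G ⧸ H) = c := huniq _ (by
      show x • (g : G ⧸ H) = (g : G ⧸ H)
      rw [smul_coset_eq]; exact hxg)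
    have h3 : ((1 : G) : G ⧸ H) = (g : G ⧸ H) := h1.trans h2.symm
    rw [QuotientGroup.eq] at h3
    apply hg
    simpa using h3

end Cfsg.Agent.S5437
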