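import Cfsg.Statements.S5438
import Mathlib.Tactic

set_option autoImplicit false
open Cfsg

namespace Cfsg.Agent.S5438

open scoped Pointwise

/-- Any two Sylow subgroups are conjugate, elementwise form. -/
theorem sylow_conj_mem {K : Type*} [Group K] [Finite K] {p : ℕ} [Fact p.Prime] (S S' : Sylow p K) :
    ∃ a : K, ∀ y ∈ S, a * y * a⁻¹ ∈ S' := by
  obtain ⟨a, ha⟩ := MulAction.exists_smul_eq K S S'
  refine ⟨a, fun y hy => ?_⟩
  have h1 : MulAut.conj a • y ∈ MulAut.conj a • (S : Subgroup K) :=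
    Subgroup.smul_mem_pointwise_smul y (MulAut.conj a) S hy
  have h2 : ((a • S : Sylow p K) : Subgroup K) = MulAut.conj a • (S : Subgroup K) := rfl
  rw [← h2, ha] at h1
  have h3 : a * y * a⁻¹ ∈ (S' : Subgroup K) := by
    simpa [MulAut.smul_def, MulAut.conj_apply] using h1
  exact h3

/-- a 2-element of a subgroup `N` can be moved by `N` into a given Sylow 2-subgroup of `N` -/
theorem exists_conj_mem_sylow {G : Type*} [Group G] [Finite G] (N : Subgroup G) (S' : Sylow 2 N)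
    (y : G) (hyN : y ∈ N) (k : ℕ) (hy : orderOf y = 2 ^ k) :
    ∃ a ∈ N, ∃ hm : a * y * a⁻¹ ∈ N, (⟨a * y * a⁻¹, hm⟩ : N) ∈ S' := by
  haveI : Fact (Nat.Prime 2) := ⟨Nat.prime_two⟩
  have hpg : IsPGroup 2 (Subgroup.zpowers (⟨y, hyN⟩ : N)) := by
    apply IsPGroup.of_card (n := k)
    rw [Nat.card_zpowers, ← hy]
    exact Subgroup.orderOf_mk y hyN
  obtain ⟨S, hS⟩ := hpg.exists_le_sylow
  obtain ⟨a, ha⟩ := sylow_conj_mem S S'
  have := ha ⟨y, hyN⟩ (hS (Subgroup.mem_zpowers _))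
  exact ⟨a, a.2, (a * ⟨y, hyN⟩ * a⁻¹).2, this⟩

theorem result {G : Type*} [Group G] [Finite G] (z : G) (hz : Cfsg.IsTwoCentralInvolution z) (H : Subgroup G) (hzH : z ∈ H) (hfix : ∀ g : G, g⁻¹ * z * g ∈ H → g ∈ H) : Odd H.index ∧ ∀ x ∈ H, (∃ k : ℕ, orderOf x = 2 ^ k) → ∀ g : G, g * x * g⁻¹ ∈ H → ∃ h ∈ H, h * x * h⁻¹ = g * x * g⁻¹ := by
  classical
  haveI : Fact (Nat.Prime 2) := ⟨Nat.prime_two⟩
  obtain ⟨hz2, P, hzP, hzc⟩ := hz
  -- centralizer of z lies in H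
  have hCz : ∀ c : G, c * z = z * c → c ∈ H := by
    intro c hc
    apply hfix
    have : c⁻¹ * z * c = z := by
      calc c⁻¹ * z * c = c⁻¹ * (z * c) := by group
        _ = c⁻¹ * (c * z) := by rw [hc]
        _ = z := by group
    rw [this]; exact hzH
  have hPH : (P : Subgroup G) ≤ H := fun x hx => hCz x (hzc x hx)
  -- commuting conjugates of z
  have hcomm : ∀ r s : G, (r * z * r⁻¹) * (s * z * s⁻¹) = (s * z * s⁻¹) * (r * z * r⁻¹) → s⁻¹ * r ∈ H := by
    intro r s h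
    apply hfix
    apply hCz
    have e1 : (s⁻¹ * r)⁻¹ * z * (s⁻¹ * r) * z = r⁻¹ * ((s * z * s⁻¹) * (r * z * r⁻¹)) * r := by group
    have e2 : z * ((s⁻¹ * r)⁻¹ * z * (s⁻¹ * r)) = r⁻¹ * ((r * z * r⁻¹) * (s * z * s⁻¹)) * r := by group
    rw [e1, e2, h]
  refine ⟨?_, ?_⟩
  · -- index odd
    have h1 : H.index ∣ (P : Subgroup G).index := Subgroup.index_dvd_of_le hPH
    have h2 : ¬ 2 ∣ (P : Subgroup G).index := P.not_dvd_index
    rw [← Nat.not_even_iff_odd, even_iff_two_dvd]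
    exact fun h => h2 (h.trans h1)
  · intro x hxH ⟨k, hk⟩ g hgx
    -- orders
    have hk' : orderOf (g * x * g⁻¹) = 2 ^ k := by
      rw [← hk]
      have : g * x * g⁻¹ = MulAut.conj g x := by simp [MulAut.conj_apply]
      rw [this, MulEquiv.orderOf_eq]
    -- move x and gxg⁻¹ into P by elements of H
    obtain ⟨a, haH, ham, haP⟩ := exists_conj_mem_sylow H (P.subtype hPH) x hxH k hk
    obtain ⟨b, hbH, hbm, hbP⟩ := exists_conj_mem_sylow H (P.subtype hPH) (g * x * g⁻¹) hgx k hk'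
    have haP' : a * x * a⁻¹ ∈ (P : Subgroup G) := haP
    have hbP' : b * (g * x * g⁻¹) * b⁻¹ ∈ (P : Subgroup G) := hbP
    set x' := a * x * a⁻¹ with hx'
    set kk := b * g * a⁻¹ with hkk
    have hkx' : kk * x' * kk⁻¹ = b * (g * x * g⁻¹) * b⁻¹ := by
      rw [hkk, hx']; group
    have hkx'P : kk * x' * kk⁻¹ ∈ (P : Subgroup G) := by rw [hkx']; exact hbP'
    -- z commutes with x' and kk x' kk⁻¹
    have hzx' : x' * z = z * x' := hzc x' haP'
    have hzy' : (kk * x' * kk⁻¹) * z = z * (kk * x' * kk⁻¹) := hzc _ hkx'P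
    -- work in N = C_G(x')
    set N := Subgroup.centralizer ({x'} : Set G) with hN
    have huN : z ∈ N := by
      rw [hN, Subgroup.mem_centralizer_iff]
      intro m hm
      rw [Set.mem_singleton_iff] at hm
      subst hm
      exact hzx'
    have hvN : kk⁻¹ * z * kk ∈ N := by
      rw [hN, Subgroup.mem_centralizer_iff]
      intro m hm
      rw [Set.mem_singleton_iff] at hm
      subst hm
      calc x' * (kk⁻¹ * z * kk) = kk⁻¹ * ((kk * x' * kk⁻¹) * z) * kk := by group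
        _ = kk⁻¹ * (z * (kk * x' * kk⁻¹)) * kk := by rw [hzy']
        _ = kk⁻¹ * z * kk * x' := by group
    have hvord : orderOf (kk⁻¹ * z * kk) = 2 ^ 1 := by
      rw [pow_one, ← hz2]
      have : kk⁻¹ * z * kk = MulAut.conj kk⁻¹ z := by simp [MulAut.conj_apply]
      rw [this, MulEquiv.orderOf_eq]
    -- Sylow 2-subgroup of N containing v
    have hpgv : IsPGroup 2 (Subgroup.zpowers (⟨kk⁻¹ * z * kk, hvN⟩ : N)) := by
      apply IsPGroup.of_card (n := 1)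
      rw [Nat.card_zpowers, ← hvord]
      exact Subgroup.orderOf_mk _ hvN
    obtain ⟨Sv, hSv⟩ := hpgv.exists_le_sylow
    obtain ⟨c, hcN, hcm, hcS⟩ := exists_conj_mem_sylow N Sv z huN 1 (by rw [pow_one]; exact hz2)
    have hvS : (⟨kk⁻¹ * z * kk, hvN⟩ : N) ∈ Sv := hSv (Subgroup.mem_zpowers _)
    -- Sv maps into a Sylow 2-subgroup R of G
    have hpgS : IsPGroup 2 ((Sv : Subgroup N).map N.subtype) := Sv.isPGroup'.map _
    obtain ⟨R, hR⟩ := hpgS.exists_le_sylow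
    have hu'R : c * z * c⁻¹ ∈ R := hR ⟨⟨c * z * c⁻¹, hcm⟩, hcS, rfl⟩
    have hvR : kk⁻¹ * z * kk ∈ R := hR ⟨⟨kk⁻¹ * z * kk, hvN⟩, hvS, rfl⟩
    -- R = m P m⁻¹
    obtain ⟨m, hm⟩ := sylow_conj_mem R P
    -- z' = m⁻¹ z m is central in R
    have hz'c : ∀ y ∈ R, y * (m⁻¹ * z * m) = (m⁻¹ * z * m) * y := by
      intro y hy
      have := hzc _ (hm y hy)
      calc y * (m⁻¹ * z * m) = m⁻¹ * ((m * y * m⁻¹) * z) * m := by group
        _ = m⁻¹ * (z * (m * y * m⁻¹)) * m := by rw [this]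
        _ = m⁻¹ * z * m * y := by group
    have h1 := hcomm c m⁻¹ (by
      have := hz'c _ hu'R
      simpa [mul_assoc] using this)
    have h2 := hcomm kk⁻¹ m⁻¹ (by
      have := hz'c _ hvR
      simpa [mul_assoc] using this)
    -- (m c) and (m kk⁻¹) in H, so kk c ∈ H
    have h3 : kk * c ∈ H := by
      have := H.mul_mem (H.inv_mem h2) h1
      have e : (m⁻¹⁻¹ * kk⁻¹)⁻¹ * (m⁻¹⁻¹ * c) = kk * c := by group
      rwa [e] at this
    have hcx' : c * x' * c⁻¹ = x' := by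
      rw [hN, Subgroup.mem_centralizer_iff] at hcN
      have := hcN x' (Set.mem_singleton _)
      calc c * x' * c⁻¹ = (c * x') * c⁻¹ := by group
        _ = (x' * c) * c⁻¹ := by rw [← this]
        _ = x' := by group
    refine ⟨b⁻¹ * (kk * c) * a, H.mul_mem (H.mul_mem (H.inv_mem hbH) h3) haH, ?_⟩
    calc b⁻¹ * (kk * c) * a * x * (b⁻¹ * (kk * c) * a)⁻¹
        = b⁻¹ * (kk * (c * (a * x * a⁻¹) * c⁻¹) * kk⁻¹) * b := by group
      _ = b⁻¹ * (kk * x' * kk⁻¹) * b := by rw [← hx', hcx']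
      _ = g * x * g⁻¹ := by rw [hkx']; group

end Cfsg.Agent.S5438
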