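import Cfsg.Statements.S5439
import Mathlib.Tactic

set_option autoImplicit false
open Cfsg

namespace Cfsg.Agent.S5439

theorem smul_coset_eq {G : Type*} [Group G] (H : Subgroup G) (x g : G) :
    x • (g : G ⧸ H) = (g : G ⧸ H) ↔ g⁻¹ * x * g ∈ H := by
  rw [MulAction.Quotient.smul_coe, QuotientGroup.eq, smul_eq_mul]
  constructor
  · intro h
    have := H.inv_mem h
    have e : ((x * g)⁻¹ * g)⁻¹ = g⁻¹ * x * g := by group
    rwa [e] at this
  · intro h
    have := H.inv_mem h
    have e : (g⁻¹ * x * g)⁻¹ = (x * g)⁻¹ * g := by group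
    rwa [e] at this

/-- two involutions are conjugate in the dihedral group they generate, or there is a central involution `w`
with `a * w` conjugate to `a` or to `b`. -/
theorem dihedral_dichotomy {G : Type*} [Group G] [Finite G] (a b : G) (ha : a * a = 1) (hb : b * b = 1) :
    IsConj a b ∨ ∃ w : G, w ≠ 1 ∧ a * w = w * a ∧ b * w = w * b ∧ (IsConj a (a * w) ∨ IsConj b (a * w)) := by
  have hainv : a⁻¹ = a := inv_eq_of_mul_eq_one_right ha
  have hbinv : b⁻¹ = b := inv_eq_of_mul_eq_one_right hb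
  set c := a * b with hc
  have hcinv : c⁻¹ = b * a := by rw [hc, mul_inv_rev, hainv, hbinv]
  have hac : a * c * a⁻¹ = c⁻¹ := by
    rw [hcinv, hc, hainv]
    calc a * (a * b) * a = (a * a) * b * a := by group
      _ = b * a := by rw [ha, one_mul]
  have hbc : b * c * b⁻¹ = c⁻¹ := by
    rw [hcinv, hc, hbinv]
    calc b * (a * b) * b = b * a * (b * b) := by group
      _ = b * a := by rw [hb, mul_one]
  have hacj : ∀ j : ℕ, a * (c ^ j)⁻¹ = c ^ j * a := by
    intro j
    have h1 : a * c ^ j * a⁻¹ = (c ^ j)⁻¹ := by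
      rw [← conj_pow, hac, inv_pow]
    have h2 : a * (c ^ j)⁻¹ * a⁻¹ = c ^ j := by
      have := congrArg (fun x => x⁻¹) h1
      simp only [mul_inv_rev, inv_inv] at this
      rw [mul_assoc]; exact this
    calc a * (c ^ j)⁻¹ = (a * (c ^ j)⁻¹ * a⁻¹) * a := by group
      _ = c ^ j * a := by rw [h2]
  have hbcj : ∀ j : ℕ, b * (c ^ j)⁻¹ = c ^ j * b := by
    intro j
    have h1 : b * c ^ j * b⁻¹ = (c ^ j)⁻¹ := by
      rw [← conj_pow, hbc, inv_pow]
    have h2 : b * (c ^ j)⁻¹ * b⁻¹ = c ^ j := by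
      have := congrArg (fun x => x⁻¹) h1
      simp only [mul_inv_rev, inv_inv] at this
      rw [mul_assoc]; exact this
    calc b * (c ^ j)⁻¹ = (b * (c ^ j)⁻¹ * b⁻¹) * b := by group
      _ = c ^ j * b := by rw [h2]
  have hnpos : 0 < orderOf c := orderOf_pos c
  rcases Nat.even_or_odd' (orderOf c) with ⟨m, hm | hm⟩
  · -- even order
    right
    have hmpos : 0 < m := by omega
    have hw1 : c ^ m ≠ 1 := pow_ne_one_of_lt_orderOf hmpos.ne' (by omega)
    have hww : c ^ m * c ^ m = 1 := by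
      rw [← pow_add, ← two_mul, ← hm, pow_orderOf_eq_one]
    have hwinv : (c ^ m)⁻¹ = c ^ m := inv_eq_of_mul_eq_one_right hww
    have haw : a * c ^ m = c ^ m * a := by
      have := hacj m
      rwa [hwinv] at this
    have hbw : b * c ^ m = c ^ m * b := by
      have := hbcj m
      rwa [hwinv] at this
    refine ⟨c ^ m, hw1, haw, hbw, ?_⟩
    rcases Nat.even_or_odd' m with ⟨j, hj | hj⟩
    · left
      rw [isConj_iff]
      refine ⟨c ^ j, ?_⟩
      calc c ^ j * a * (c ^ j)⁻¹ = c ^ j * (a * (c ^ j)⁻¹) := by group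
        _ = c ^ j * (c ^ j * a) := by rw [hacj j]
        _ = c ^ (2 * j) * a := by rw [two_mul, pow_add]; group
        _ = a * c ^ m := by rw [← hj, haw]
    · right
      rw [isConj_iff]
      refine ⟨c ^ j * a, ?_⟩
      have haba : a * b * a⁻¹ = c * a := by
        rw [hc, hainv]
      calc c ^ j * a * b * (c ^ j * a)⁻¹ = c ^ j * (a * b * a⁻¹) * (c ^ j)⁻¹ := by group
        _ = c ^ j * (c * a) * (c ^ j)⁻¹ := by rw [haba]
        _ = c ^ j * c * (a * (c ^ j)⁻¹) := by group
        _ = c ^ j * c * (c ^ j * a) := by rw [hacj j]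
        _ = c ^ (2 * j + 1) * a := by rw [two_mul, pow_succ, pow_add]; group
        _ = a * c ^ m := by rw [← hj, haw]
  · -- odd order: conjugate
    left
    rw [isConj_iff]
    refine ⟨c ^ m, ?_⟩
    have h1 : c ^ (2 * m) * c = 1 := by
      rw [← pow_succ, ← hm, pow_orderOf_eq_one]
    have h2 : c ^ (2 * m) = b * a := by
      rw [← hcinv]
      exact eq_inv_of_mul_eq_one_left h1
    calc c ^ m * a * (c ^ m)⁻¹ = c ^ m * (a * (c ^ m)⁻¹) := by group
      _ = c ^ m * (c ^ m * a) := by rw [hacj m]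
      _ = c ^ (2 * m) * a := by rw [two_mul, pow_add]; group
      _ = b * a * a := by rw [h2]
      _ = b := by rw [mul_assoc, ha, mul_one]

theorem result {G : Type*} [Group G] [Finite G] (I J : Set G) (a₀ b₀ : G) (ha₀ : orderOf a₀ = 2) (hb₀ : orderOf b₀ = 2) (hI : I = {x | IsConj a₀ x}) (hJ : J = {x | IsConj b₀ x}) (hIJ : I ≠ J) (H : Subgroup G) (hfix : ∀ x ∈ I ∪ J, ∃! c : G ⧸ H, x • c = c) (hcent : ∀ a ∈ I, a ∈ H → ∀ b ∈ I ∪ J, b ∈ H → a ≠ b → a * b = b * a → Subgroup.centralizer ({a * b} : Set G) ≤ H) : H = ⊤ := by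
  classical
  subst hI hJ
  have hnc : ¬ IsConj a₀ b₀ := by
    intro h
    apply hIJ
    ext x
    simp only [Set.mem_setOf_eq]
    exact ⟨fun hx => h.symm.trans hx, fun hx => h.trans hx⟩
  have hsqI : ∀ a, IsConj a₀ a → a * a = 1 := by
    intro a ha
    rw [isConj_iff] at ha
    obtain ⟨g, rfl⟩ := ha
    have : a₀ * a₀ = 1 := by rw [← sq, ← ha₀, pow_orderOf_eq_one]
    calc g * a₀ * g⁻¹ * (g * a₀ * g⁻¹) = g * (a₀ * a₀) * g⁻¹ := by group
      _ = 1 := by rw [this]; group
  have hsqJ : ∀ b, IsConj b₀ b → b * b = 1 := by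
    intro b hb
    rw [isConj_iff] at hb
    obtain ⟨g, rfl⟩ := hb
    have : b₀ * b₀ = 1 := by rw [← sq, ← hb₀, pow_orderOf_eq_one]
    calc g * b₀ * g⁻¹ * (g * b₀ * g⁻¹) = g * (b₀ * b₀) * g⁻¹ := by group
      _ = 1 := by rw [this]; group
  -- an element of I ∩ H
  obtain ⟨a, haI, haH⟩ : ∃ a, IsConj a₀ a ∧ a ∈ H := by
    obtain ⟨c, hc, -⟩ := hfix a₀ (Or.inl (IsConj.refl a₀))
    induction c using QuotientGroup.induction_on with
    | H g =>
      change a₀ • (g : G ⧸ H) = (g : G ⧸ H) at hc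
      rw [smul_coset_eq] at hc
      refine ⟨g⁻¹ * a₀ * g, ?_, hc⟩
      rw [isConj_iff]
      exact ⟨g⁻¹, by group⟩
  -- membership via unique fixed coset
  have hmem_of_comm : ∀ w : G, a * w = w * a → w ∈ H := by
    intro w hw
    obtain ⟨c, -, huniq⟩ := hfix a (Or.inl haI)
    have h1 : ((1 : G) : G ⧸ H) = c := huniq _ (by
      show a • ((1 : G) : G ⧸ H) = ((1 : G) : G ⧸ H)
      rw [smul_coset_eq]; simpa using haH)
    have h2 : (w : G ⧸ H) = c := huniq _ (by
      show a • (w : G ⧸ H) = (w : G ⧸ H)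
      rw [smul_coset_eq]
      have : w⁻¹ * a * w = a := by
        calc w⁻¹ * a * w = w⁻¹ * (a * w) := by group
          _ = w⁻¹ * (w * a) := by rw [hw]
          _ = a := by group
      rw [this]; exact haH)
    have h3 : ((1 : G) : G ⧸ H) = (w : G ⧸ H) := h1.trans h2.symm
    rw [QuotientGroup.eq] at h3
    simpa using h3
  -- J ⊆ H
  have hJH : ∀ b, IsConj b₀ b → b ∈ H := by
    intro b hbJ
    rcases dihedral_dichotomy a b (hsqI a haI) (hsqJ b hbJ) with hconj | ⟨w, hw1, haw, hbw, hcw⟩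
    · exact absurd ((haI.trans hconj).trans hbJ.symm) hnc
    · have hwH : w ∈ H := hmem_of_comm w haw
      have hawIJ : a * w ∈ {x | IsConj a₀ x} ∪ {x | IsConj b₀ x} := by
        rcases hcw with h | h
        · exact Or.inl (haI.trans h)
        · exact Or.inr (hbJ.trans h)
      have hne : a ≠ a * w := by
        intro h
        apply hw1
        have : a * 1 = a * w := by rw [mul_one]; exact h
        exact (mul_left_cancel this).symm
      have hcm : a * (a * w) = (a * w) * a := by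
        rw [mul_assoc, ← haw]
      have := hcent a haI haH (a * w) hawIJ (H.mul_mem haH hwH) hne hcm
      apply this
      rw [Subgroup.mem_centralizer_iff]
      intro x hx
      rw [Set.mem_singleton_iff] at hx
      subst hx
      have e : a * (a * w) = w := by rw [← mul_assoc, hsqI a haI, one_mul]
      rw [e]
      exact hbw.symm
  -- conclude
  rw [eq_top_iff]
  intro g _
  obtain ⟨c, -, huniq⟩ := hfix b₀ (Or.inr (IsConj.refl b₀))
  have h1 : ((1 : G) : G ⧸ H) = c := huniq _ (by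
    show b₀ • ((1 : G) : G ⧸ H) = ((1 : G) : G ⧸ H)
    rw [smul_coset_eq]
    simpa using hJH b₀ (IsConj.refl b₀))
  have h2 : (g : G ⧸ H) = c := huniq _ (by
    show b₀ • (g : G ⧸ H) = (g : G ⧸ H)
    rw [smul_coset_eq]
    apply hJH
    rw [isConj_iff]
    exact ⟨g⁻¹, by group⟩)
  have h3 : ((1 : G) : G ⧸ H) = (g : G ⧸ H) := h1.trans h2.symm
  rw [QuotientGroup.eq] at h3
  simpa using h3

end Cfsg.Agent.S5439
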