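import Cfsg.Statements.S5459
import Mathlib

set_option autoImplicit false
open Cfsg
open scoped commutatorElement

namespace Cfsg.Agent.S5459

/-- normal subgroups of a quasisimple group are central or everything -/
theorem qs_dichotomy {L : Type*} [Group L] (hL : Cfsg.IsQuasisimple L) (N : Subgroup L) [hN : N.Normal] :
    N ≤ Subgroup.center L ∨ N = ⊤ := by
  obtain ⟨hperf, hsimp⟩ := hL
  have hsurj : Function.Surjective (QuotientGroup.mk' (Subgroup.center L)) :=
    QuotientGroup.mk'_surjective _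
  have hnorm : (N.map (QuotientGroup.mk' (Subgroup.center L))).Normal :=
    Subgroup.Normal.map hN _ hsurj
  rcases hnorm.eq_bot_or_eq_top with h | h
  · left
    intro x hx
    have : QuotientGroup.mk' (Subgroup.center L) x ∈ N.map (QuotientGroup.mk' (Subgroup.center L)) :=
      Subgroup.mem_map_of_mem _ hx
    rw [h, Subgroup.mem_bot] at this
    exact (QuotientGroup.eq_one_iff x).mp this
  · right
    -- every element is n * z
    have hdecomp : ∀ x : L, ∃ n ∈ N, ∃ z ∈ Subgroup.center L, x = n * z := by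
      intro x
      have : QuotientGroup.mk' (Subgroup.center L) x ∈ N.map (QuotientGroup.mk' (Subgroup.center L)) := by
        rw [h]; exact Subgroup.mem_top _
      obtain ⟨n, hn, hnx⟩ := this
      refine ⟨n, hn, n⁻¹ * x, ?_, by group⟩
      have : (QuotientGroup.mk' (Subgroup.center L)) (n⁻¹ * x) = 1 := by
        rw [map_mul, map_inv, hnx]; group
      exact (QuotientGroup.eq_one_iff _).mp this
    have hcomm : commutator L ≤ N := by
      rw [commutator_def, Subgroup.commutator_le]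
      intro a _ b _
      obtain ⟨n, hn, z, hz, rfl⟩ := hdecomp a
      obtain ⟨n', hn', z', hz', rfl⟩ := hdecomp b
      have hz1 := Subgroup.mem_center_iff.mp hz
      have hz2 := Subgroup.mem_center_iff.mp hz'
      have : ⁅n * z, n' * z'⁆ = ⁅n, n'⁆ := by
        rw [commutatorElement_def, commutatorElement_def]
        have e1 : (n * z)⁻¹ = z⁻¹ * n⁻¹ := by group
        have e2 : (n' * z')⁻¹ = z'⁻¹ * n'⁻¹ := by group
        rw [e1, e2]
        calc n * z * (n' * z') * (z⁻¹ * n⁻¹) * (z'⁻¹ * n'⁻¹)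
            = n * (z * n') * (z' * z⁻¹) * n⁻¹ * z'⁻¹ * n'⁻¹ := by group
          _ = n * (n' * z) * (z' * z⁻¹) * n⁻¹ * z'⁻¹ * n'⁻¹ := by rw [hz1 n']
          _ = n * n' * (z * z') * (z⁻¹ * n⁻¹) * z'⁻¹ * n'⁻¹ := by group
          _ = n * n' * (z' * z) * (z⁻¹ * n⁻¹) * z'⁻¹ * n'⁻¹ := by rw [hz1 z']
          _ = n * n' * (z' * n⁻¹) * z'⁻¹ * n'⁻¹ := by group
          _ = n * n' * (n⁻¹ * z') * z'⁻¹ * n'⁻¹ := by rw [hz2 n⁻¹]
          _ = n * n' * n⁻¹ * n'⁻¹ := by group
      rw [this]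
      exact Subgroup.commutator_mem_commutator hn hn' |> fun h => by
        have hle : ⁅N, N⁆ ≤ N := Subgroup.commutator_le_left N N
        exact hle h
    have := hperf.commutator_eq_top
    rw [this] at hcomm
    exact top_le_iff.mp hcomm


theorem comm_cancel {G : Type*} [Group G] (n z n' z' : G) (h1 : Commute z n') (h2 : Commute z z')
    (h3 : Commute z' n) : ⁅n * z, n' * z'⁆ = ⁅n, n'⁆ := by
  rw [commutatorElement_def, commutatorElement_def]
  have e1 : (n * z)⁻¹ = z⁻¹ * n⁻¹ := by group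
  have e2 : (n' * z')⁻¹ = z'⁻¹ * n'⁻¹ := by group
  have h3' : z' * n⁻¹ = n⁻¹ * z' := (h3.inv_right).eq
  rw [e1, e2]
  calc n * z * (n' * z') * (z⁻¹ * n⁻¹) * (z'⁻¹ * n'⁻¹)
      = n * (z * n') * (z' * z⁻¹) * n⁻¹ * z'⁻¹ * n'⁻¹ := by group
    _ = n * (n' * z) * (z' * z⁻¹) * n⁻¹ * z'⁻¹ * n'⁻¹ := by rw [h1.eq]
    _ = n * n' * (z * z') * (z⁻¹ * n⁻¹) * z'⁻¹ * n'⁻¹ := by group
    _ = n * n' * (z' * z) * (z⁻¹ * n⁻¹) * z'⁻¹ * n'⁻¹ := by rw [h2.eq]
    _ = n * n' * (z' * n⁻¹) * z'⁻¹ * n'⁻¹ := by group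
    _ = n * n' * (n⁻¹ * z') * z'⁻¹ * n'⁻¹ := by rw [h3']
    _ = n * n' * n⁻¹ * n'⁻¹ := by group

theorem result {G : Type*} [Group G] [Finite G] (L : Subgroup G) [L.Normal] (hL : Cfsg.IsQuasisimple ↥L) (d : G) (hd : orderOf d = 2) (hgen : L ⊔ Subgroup.zpowers d = ⊤) (hodd : Odd (Nat.card ↥(Subgroup.center ↥L))) (hinv : ∀ c ∈ (Subgroup.center ↥L).map L.subtype, d * c * d⁻¹ = c⁻¹) [hn : ((Subgroup.center ↥L).map L.subtype).Normal] (hconn : (Cfsg.commutingGraph (conjugatesOf (QuotientGroup.mk d : G ⧸ (Subgroup.center ↥L).map L.subtype))).Connected) : (Cfsg.commutingGraph (conjugatesOf d)).Connected := by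
  classical
  set Z : Subgroup G := (Subgroup.center ↥L).map L.subtype with hZdef
  have hLn : L.Normal := inferInstance
  have hZL : Z ≤ L := by
    intro x hx; obtain ⟨y, _, rfl⟩ := hx; exact y.2
  have hZcent : ∀ z ∈ Z, ∀ x ∈ L, x * z = z * x := by
    intro z hz x hx
    obtain ⟨y, hy, rfl⟩ := hz
    have := Subgroup.mem_center_iff.mp hy ⟨x, hx⟩
    exact congrArg Subtype.val this
  have hZcard : Nat.card Z = Nat.card (Subgroup.center ↥L) :=
    Nat.card_congr ((Subgroup.center ↥L).equivMapOfInjective L.subtype L.subtype_injective).symm.toEquiv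
  have hZodd : Odd (Nat.card Z) := hZcard ▸ hodd
  have hpowcard : ∀ z ∈ Z, z ^ Nat.card Z = 1 := by
    intro z hz
    have := pow_card_eq_one' (G := Z) (x := ⟨z, hz⟩)
    have h2 : ((⟨z, hz⟩ : Z) ^ Nat.card Z : Z).1 = (1 : Z).1 := congrArg Subtype.val this
    rwa [Subgroup.coe_pow] at h2
  have hsqrt : ∀ z ∈ Z, ∃ w ∈ Z, w * w = z := by
    intro z hz
    obtain ⟨k, hk⟩ := hZodd
    refine ⟨z ^ (k + 1), Z.pow_mem hz _, ?_⟩
    have h1 := hpowcard z hz
    rw [← pow_add, show k + 1 + (k + 1) = (2 * k + 1) + 1 by ring, ← hk, pow_succ, h1, one_mul]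
  have hsq1 : ∀ z ∈ Z, z * z = 1 → z = 1 := by
    intro z hz h
    obtain ⟨k, hk⟩ := hZodd
    have h1 := hpowcard z hz
    rw [hk, pow_succ, pow_mul, sq, h, one_pow, one_mul] at h1
    exact h1
  have hdd : d * d = 1 := by
    have := pow_orderOf_eq_one d
    rw [hd, sq] at this; exact this
  set D : Set G := conjugatesOf d with hDdef
  have hdD : d ∈ D := mem_conjugatesOf_self
  have hDmem : ∀ a, a ∈ D ↔ ∃ g : G, g * d * g⁻¹ = a := by
    intro a
    show IsConj d a ↔ _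
    rw [isConj_iff]
  have hDconj : ∀ a ∈ D, ∀ g : G, g * a * g⁻¹ ∈ D := by
    intro a ha g
    obtain ⟨h, rfl⟩ := (hDmem a).mp ha
    exact (hDmem _).mpr ⟨g * h, by group⟩
  have haa : ∀ a ∈ D, a * a = 1 := by
    intro a ha
    obtain ⟨g, rfl⟩ := (hDmem a).mp ha
    calc g * d * g⁻¹ * (g * d * g⁻¹) = g * (d * d) * g⁻¹ := by group
      _ = 1 := by rw [hdd]; group
  have hainv : ∀ a ∈ D, a⁻¹ = a := by
    intro a ha
    exact inv_eq_of_mul_eq_one_left (haa a ha)
  have hDinv : ∀ a ∈ D, ∀ c ∈ Z, a * c * a⁻¹ = c⁻¹ := by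
    intro a ha c hc
    obtain ⟨g, rfl⟩ := (hDmem a).mp ha
    have h1 : g⁻¹ * c * g ∈ Z := by
      have := hn.conj_mem c hc g⁻¹
      simpa using this
    have h2 := hinv _ h1
    calc g * d * g⁻¹ * c * (g * d * g⁻¹)⁻¹ = g * (d * (g⁻¹ * c * g) * d⁻¹) * g⁻¹ := by group
      _ = g * (g⁻¹ * c * g)⁻¹ * g⁻¹ := by rw [h2]
      _ = c⁻¹ := by group
  -- Lemma 4
  have hfib : ∀ a ∈ D, ∀ z ∈ Z, ∃ u ∈ Z, u * a * u⁻¹ = a * z := by
    intro a ha z hz
    obtain ⟨w, hw, hwz⟩ := hsqrt z hz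
    refine ⟨w⁻¹, Z.inv_mem hw, ?_⟩
    have h1 := hDinv a ha w⁻¹ (Z.inv_mem hw)
    rw [inv_inv] at h1
    have h2 := hainv a ha
    calc w⁻¹ * a * w⁻¹⁻¹ = a * (a⁻¹ * w⁻¹ * a) * w := by group
      _ = a * (a * w⁻¹ * a⁻¹) * w := by rw [h2]
      _ = a * w * w := by rw [h1]
      _ = a * z := by rw [mul_assoc, hwz]
  have hfibD : ∀ a ∈ D, ∀ z ∈ Z, a * z ∈ D := by
    intro a ha z hz
    obtain ⟨u, _, hu⟩ := hfib a ha z hz
    rw [← hu]; exact hDconj a ha u
  -- Lemma 5
  have hlift : ∀ a ∈ D, ∀ b ∈ D, (QuotientGroup.mk a : G ⧸ Z) * QuotientGroup.mk b = QuotientGroup.mk b * QuotientGroup.mk a →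
      ∃ w ∈ Z, a * (b * w) = (b * w) * a := by
    intro a ha b hb hcomm
    have hz0 : b⁻¹ * (a * b * a⁻¹) ∈ Z := by
      rw [← QuotientGroup.eq_one_iff]
      simp only [QuotientGroup.mk_mul, QuotientGroup.mk_inv]
      rw [hcomm]; group
    obtain ⟨w, hw, hww⟩ := hsqrt _ hz0
    refine ⟨w, hw, ?_⟩
    have h1 := hDinv a ha w hw
    have h2 : a * (b * w) * a⁻¹ = b * w := by
      calc a * (b * w) * a⁻¹ = b * (b⁻¹ * (a * b * a⁻¹)) * (a * w * a⁻¹) := by group
        _ = b * (w * w) * w⁻¹ := by rw [h1, hww]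
        _ = b * w := by group
    calc a * (b * w) = (a * (b * w) * a⁻¹) * a := by group
      _ = (b * w) * a := by rw [h2]
  -- the graph
  set Γ := Cfsg.commutingGraph D with hΓ
  let d0 : D := ⟨d, hdD⟩
  let R : G → Prop := fun x => ∃ hx : x ∈ D, Γ.Reachable d0 ⟨x, hx⟩
  -- conjugation graph hom
  let cj : G → (Γ →g Γ) := fun g =>
    { toFun := fun x => ⟨g * x.1 * g⁻¹, hDconj x.1 x.2 g⟩
      map_rel' := by
        intro x y hxy
        rw [hΓ, Cfsg.commutingGraph, SimpleGraph.fromRel_adj] at hxy ⊢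
        obtain ⟨hne, hc⟩ := hxy
        refine ⟨?_, ?_⟩
        · intro h
          apply hne
          have := congrArg Subtype.val h
          simp only at this
          apply Subtype.ext
          have h3 : g⁻¹ * (g * x.1 * g⁻¹) * g = g⁻¹ * (g * y.1 * g⁻¹) * g := by rw [this]
          simpa [mul_assoc] using h3
        · rcases hc with hc | hc
          · left
            show (g * x.1 * g⁻¹) * (g * y.1 * g⁻¹) = (g * y.1 * g⁻¹) * (g * x.1 * g⁻¹)
            have := hc.eq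
            calc (g * x.1 * g⁻¹) * (g * y.1 * g⁻¹) = g * (x.1 * y.1) * g⁻¹ := by group
              _ = g * (y.1 * x.1) * g⁻¹ := by rw [this]
              _ = _ := by group
          · right
            show (g * y.1 * g⁻¹) * (g * x.1 * g⁻¹) = (g * x.1 * g⁻¹) * (g * y.1 * g⁻¹)
            have := hc.eq
            calc (g * y.1 * g⁻¹) * (g * x.1 * g⁻¹) = g * (y.1 * x.1) * g⁻¹ := by group
              _ = g * (x.1 * y.1) * g⁻¹ := by rw [this]
              _ = _ := by group }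
  -- stabiliser of the component
  let S : Subgroup G :=
    { carrier := {g | ∀ x, R x ↔ R (g * x * g⁻¹)}
      mul_mem' := by
        intro g h hg hh x
        rw [hh x, hg (h * x * h⁻¹)]
        have : g * (h * x * h⁻¹) * g⁻¹ = g * h * x * (g * h)⁻¹ := by group
        rw [this]
      one_mem' := by intro x; simp
      inv_mem' := by
        intro g hg x
        have := hg (g⁻¹ * x * g⁻¹⁻¹)
        have e : g * (g⁻¹ * x * g⁻¹⁻¹) * g⁻¹ = x := by group
        rw [e] at this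
        exact this.symm }
  have hSmem : ∀ g, g ∈ S ↔ ∀ x, R x ↔ R (g * x * g⁻¹) := fun g => Iff.rfl
  have hCS : ∀ a, R a → a ∈ S := by
    intro a hRa
    obtain ⟨haD, hra⟩ := hRa
    have hfwd : ∀ x, R x → R (a * x * a⁻¹) := by
      intro x ⟨hxD, hrx⟩
      refine ⟨hDconj x hxD a, ?_⟩
      have h1 := hra.map (cj a)
      have h2 := hrx.map (cj a)
      have e1 : (cj a) ⟨a, haD⟩ = ⟨a, haD⟩ := by
        apply Subtype.ext
        show a * a * a⁻¹ = a
        group
      rw [e1] at h1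
      exact hra.trans (h1.symm.trans h2)
    rw [hSmem]
    intro x
    refine ⟨hfwd x, fun h => ?_⟩
    have := hfwd _ h
    have e : a * (a * x * a⁻¹) * a⁻¹ = x := by
      have h2 := hainv a haD
      rw [h2]
      calc a * (a * x * a) * a = (a * a) * x * (a * a) := by group
        _ = x := by rw [haa a haD]; group
    rw [e] at this
    exact this
  -- path lifting
  set Zbar := conjugatesOf (QuotientGroup.mk d : G ⧸ Z) with hZbar
  have hstep : ∀ u v : Zbar, (Cfsg.commutingGraph Zbar).Adj u v → (∃ c, R c ∧ (QuotientGroup.mk c : G ⧸ Z) = u.1) →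
      (∃ c, R c ∧ (QuotientGroup.mk c : G ⧸ Z) = v.1) := by
    intro u v hadj ⟨c, hRc, hcu⟩
    rw [Cfsg.commutingGraph, SimpleGraph.fromRel_adj] at hadj
    obtain ⟨hne, hc⟩ := hadj
    have hcomm : u.1 * v.1 = v.1 * u.1 := by
      rcases hc with hc | hc
      · exact hc.eq
      · exact hc.eq.symm
    have hv : IsConj (QuotientGroup.mk d : G ⧸ Z) v.1 := v.2
    rw [isConj_iff] at hv
    obtain ⟨gbar, hg⟩ := hv
    obtain ⟨g, rfl⟩ := QuotientGroup.mk_surjective gbar
    have hbD : g * d * g⁻¹ ∈ D := hDconj d hdD g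
    have hbv : (QuotientGroup.mk (g * d * g⁻¹) : G ⧸ Z) = v.1 := by
      rw [← hg]; simp
    obtain ⟨hcD, hrc⟩ := hRc
    have hcomm' : (QuotientGroup.mk c : G ⧸ Z) * QuotientGroup.mk (g * d * g⁻¹) =
        QuotientGroup.mk (g * d * g⁻¹) * QuotientGroup.mk c := by
      rw [hcu, hbv]; exact hcomm
    obtain ⟨w, hw, hcw⟩ := hlift c hcD _ hbD hcomm'
    have hbwD := hfibD _ hbD w hw
    refine ⟨g * d * g⁻¹ * w, ⟨hbwD, ?_⟩, ?_⟩
    · by_cases heq : c = g * d * g⁻¹ * w
      · have : (⟨g * d * g⁻¹ * w, hbwD⟩ : D) = ⟨c, hcD⟩ := Subtype.ext heq.symm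
        rw [this]; exact hrc
      · apply hrc.trans
        apply SimpleGraph.Adj.reachable
        rw [hΓ, Cfsg.commutingGraph, SimpleGraph.fromRel_adj]
        refine ⟨fun h => heq (congrArg Subtype.val h), Or.inl hcw⟩
    · rw [← hbv, QuotientGroup.mk_mul]
      have : (QuotientGroup.mk w : G ⧸ Z) = 1 := (QuotientGroup.eq_one_iff w).mpr hw
      rw [this, mul_one]
  have hliftall : ∀ v : Zbar, ∃ c, R c ∧ (QuotientGroup.mk c : G ⧸ Z) = v.1 := by
    intro v
    let v0 : Zbar := ⟨QuotientGroup.mk d, mem_conjugatesOf_self⟩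
    have hr : (Cfsg.commutingGraph Zbar).Reachable v0 v := hconn.preconnected v0 v
    rw [SimpleGraph.reachable_iff_reflTransGen] at hr
    induction hr with
    | refl => exact ⟨d, ⟨hdD, SimpleGraph.Reachable.refl _⟩, rfl⟩
    | tail _ hadj ih => exact hstep _ _ hadj ih
  have hDSZ : ∀ x ∈ D, ∃ c, R c ∧ ∃ z ∈ Z, x = c * z := by
    intro x hx
    have hxbar : (QuotientGroup.mk x : G ⧸ Z) ∈ Zbar := by
      obtain ⟨g, rfl⟩ := (hDmem x).mp hx
      show IsConj (QuotientGroup.mk d : G ⧸ Z) _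
      rw [isConj_iff]
      exact ⟨QuotientGroup.mk g, by simp⟩
    obtain ⟨c, hRc, hc⟩ := hliftall ⟨_, hxbar⟩
    refine ⟨c, hRc, c⁻¹ * x, ?_, by group⟩
    rw [← QuotientGroup.eq_one_iff, QuotientGroup.mk_mul, QuotientGroup.mk_inv, hc]
    group
  -- Z ≤ S
  have hZS : Z ≤ S := by
    set P := Subgroup.normalClosure ({d} : Set G) with hP
    have hPn : P.Normal := Subgroup.normalClosure_normal
    have hdP : d ∈ P := Subgroup.subset_normalClosure (Set.mem_singleton d)
    have hPle : P ≤ S ⊔ Z := by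
      rw [hP, Subgroup.normalClosure, Subgroup.closure_le]
      intro x hx
      rw [Group.mem_conjugatesOfSet_iff] at hx
      obtain ⟨a, ha, hax⟩ := hx
      rw [Set.mem_singleton_iff] at ha
      rw [ha] at hax
      have hxD : x ∈ D := hax
      obtain ⟨c, hRc, z, hz, rfl⟩ := hDSZ x hxD
      exact Subgroup.mul_mem _ (Subgroup.mem_sup_left (hCS c hRc)) (Subgroup.mem_sup_right hz)
    have hNn : (P.subgroupOf L).Normal := Subgroup.normal_subgroupOf
    have hperf : ⁅L, L⁆ = L := Subgroup.isPerfect_iff.mp hL.1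
    rcases qs_dichotomy hL (P.subgroupOf L) with hA | hB
    · -- degenerate case: d centralizes L
      have hcen : ∀ x ∈ L, ∀ y ∈ L, (d * x * d⁻¹ * x⁻¹) * y = y * (d * x * d⁻¹ * x⁻¹) := by
        intro x hx y hy
        have hxL : d * x * d⁻¹ * x⁻¹ ∈ L :=
          L.mul_mem (hLn.conj_mem x hx d) (L.inv_mem hx)
        have hxP : d * x * d⁻¹ * x⁻¹ ∈ P := by
          have h1 : x * d⁻¹ * x⁻¹ ∈ P := hPn.conj_mem _ (P.inv_mem hdP) x
          have : d * x * d⁻¹ * x⁻¹ = d * (x * d⁻¹ * x⁻¹) := by group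
          rw [this]; exact P.mul_mem hdP h1
        have hmem : (⟨d * x * d⁻¹ * x⁻¹, hxL⟩ : L) ∈ P.subgroupOf L := by
          rw [Subgroup.mem_subgroupOf]; exact hxP
        have := Subgroup.mem_center_iff.mp (hA hmem) ⟨y, hy⟩
        exact (congrArg Subtype.val this).symm
      have hLcent : L ≤ Subgroup.centralizer ({d} : Set G) := by
        rw [← hperf, Subgroup.commutator_le]
        intro x hx y hy
        rw [Subgroup.mem_centralizer_iff]
        intro e he
        rw [Set.mem_singleton_iff] at he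
        rw [he]
        -- d * ⁅x,y⁆ * d⁻¹ = ⁅x, y⁆
        have hx' : d * x * d⁻¹ = x * (x⁻¹ * (d * x * d⁻¹ * x⁻¹) * x) := by group
        have hy' : d * y * d⁻¹ = y * (y⁻¹ * (d * y * d⁻¹ * y⁻¹) * y) := by group
        have hzx : ∀ t ∈ L, Commute (x⁻¹ * (d * x * d⁻¹ * x⁻¹) * x) t := by
          intro t ht
          have h1 := hcen x hx (x * t * x⁻¹) (L.mul_mem (L.mul_mem hx ht) (L.inv_mem hx))
          show (x⁻¹ * (d * x * d⁻¹ * x⁻¹) * x) * t = t * (x⁻¹ * (d * x * d⁻¹ * x⁻¹) * x)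
          calc (x⁻¹ * (d * x * d⁻¹ * x⁻¹) * x) * t = x⁻¹ * ((d * x * d⁻¹ * x⁻¹) * (x * t * x⁻¹)) * x := by group
            _ = x⁻¹ * ((x * t * x⁻¹) * (d * x * d⁻¹ * x⁻¹)) * x := by rw [h1]
            _ = _ := by group
        have hzy : ∀ t ∈ L, Commute (y⁻¹ * (d * y * d⁻¹ * y⁻¹) * y) t := by
          intro t ht
          have h1 := hcen y hy (y * t * y⁻¹) (L.mul_mem (L.mul_mem hy ht) (L.inv_mem hy))
          show (y⁻¹ * (d * y * d⁻¹ * y⁻¹) * y) * t = t * (y⁻¹ * (d * y * d⁻¹ * y⁻¹) * y)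
          calc (y⁻¹ * (d * y * d⁻¹ * y⁻¹) * y) * t = y⁻¹ * ((d * y * d⁻¹ * y⁻¹) * (y * t * y⁻¹)) * y := by group
            _ = y⁻¹ * ((y * t * y⁻¹) * (d * y * d⁻¹ * y⁻¹)) * y := by rw [h1]
            _ = _ := by group
        have hzyL : y⁻¹ * (d * y * d⁻¹ * y⁻¹) * y ∈ L := by
          have hyL : d * y * d⁻¹ * y⁻¹ ∈ L :=
            L.mul_mem (hLn.conj_mem y hy d) (L.inv_mem hy)
          exact L.mul_mem (L.mul_mem (L.inv_mem hy) hyL) hy
        have key : d * ⁅x, y⁆ * d⁻¹ = ⁅x, y⁆ := by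
          have : d * ⁅x, y⁆ * d⁻¹ = ⁅d * x * d⁻¹, d * y * d⁻¹⁆ := by
            rw [commutatorElement_def, commutatorElement_def]; group
          rw [this, hx', hy']
          exact comm_cancel _ _ _ _ (hzx y hy) (hzx _ hzyL) (hzy x hx)
        calc d * ⁅x, y⁆ = (d * ⁅x, y⁆ * d⁻¹) * d := by group
          _ = ⁅x, y⁆ * d := by rw [key]
      intro c hc
      have h1 := hinv c hc
      have h2 := Subgroup.mem_centralizer_iff.mp (hLcent (hZL hc)) d (Set.mem_singleton d)
      have h3 : c * c = 1 := by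
        have : d * c * d⁻¹ = c := by rw [h2]; group
        rw [this] at h1
        calc c * c = c * c⁻¹ := by rw [← h1]
          _ = 1 := mul_inv_cancel c
      rw [hsq1 c hc h3]
      exact S.one_mem
    · -- L ≤ P
      have hLP : L ≤ P := by
        intro x hx
        have : (⟨x, hx⟩ : L) ∈ P.subgroupOf L := by rw [hB]; exact Subgroup.mem_top _
        exact Subgroup.mem_subgroupOf.mp this
      have hdec : ∀ x ∈ L, ∃ s ∈ S, ∃ z ∈ Z, x = s * z := by
        intro x hx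
        have h1 : x ∈ ((S ⊔ Z : Subgroup G) : Set G) := hPle (hLP hx)
        rw [Subgroup.mul_normal] at h1
        obtain ⟨s, hs, z, hz, rfl⟩ := h1
        exact ⟨s, hs, z, hz, rfl⟩
      have hLS : L ≤ S := by
        rw [← hperf, Subgroup.commutator_le]
        intro x hx y hy
        obtain ⟨s, hs, z, hz, rfl⟩ := hdec x hx
        obtain ⟨s', hs', z', hz', rfl⟩ := hdec y hy
        have hsL : s ∈ L := by
          have : s = (s * z) * z⁻¹ := by group
          rw [this]; exact L.mul_mem hx (L.inv_mem (hZL hz))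
        have hsL' : s' ∈ L := by
          have : s' = (s' * z') * z'⁻¹ := by group
          rw [this]; exact L.mul_mem hy (L.inv_mem (hZL hz'))
        rw [comm_cancel s z s' z' (hZcent z hz s' hsL').symm (hZcent z hz z' (hZL hz')).symm
          (hZcent z' hz' s hsL).symm]
        rw [commutatorElement_def]
        exact S.mul_mem (S.mul_mem (S.mul_mem hs hs') (S.inv_mem hs)) (S.inv_mem hs')
      exact hZL.trans hLS
  -- conclusion
  have hall : ∀ x ∈ D, R x := by
    intro x hx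
    obtain ⟨c, hRc, z, hz, rfl⟩ := hDSZ x hx
    obtain ⟨u, hu, huc⟩ := hfib c hRc.1 z hz
    have := (hSmem u).mp (hZS hu) c
    rw [huc] at this
    exact this.mp hRc
  haveI : Nonempty D := ⟨d0⟩
  refine SimpleGraph.Connected.mk ?_
  intro u v
  obtain ⟨_, hu⟩ := hall u.1 u.2
  obtain ⟨_, hv⟩ := hall v.1 v.2
  exact hu.symm.trans hv

end Cfsg.Agent.S5459
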