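import Cfsg.Statements.S5600
import Mathlib
import Cfsg.Agent.Lib.Helper1_Six
import Cfsg.Agent.Lib.Helper1_M24d
import Cfsg.Agent.Lib.Helper1_Restrict
import Cfsg.Agent.S1553

set_option autoImplicit false
open Cfsg
open scoped Pointwise
open Cfsg.Agent.Lib.Helper1_Chain Cfsg.Agent.Lib.Helper1_Golay
open Cfsg.Agent.Lib.Helper1_Restrict

namespace Cfsg.Agent.S5600

/-- every permutation of a 6-set is induced by `M24` -/
theorem induce_perm (E : Finset GolayPt) (hE : E.card = 6) (σ : Equiv.Perm ↥E) :
    ∃ g ∈ M24, ∀ p : ↥E, g p = σ p := by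
  classical
  let f : GolayPt → GolayPt := fun p => if h : p ∈ E then ((σ ⟨p, h⟩ : ↥E) : GolayPt) else p
  have hfE : ∀ p (h : p ∈ E), f p = σ ⟨p, h⟩ := fun p h => dif_pos h
  have hfmem : ∀ p ∈ E, f p ∈ E := fun p h => by rw [hfE p h]; exact (σ ⟨p, h⟩).2
  have hfinj : ∀ p ∈ E, ∀ q ∈ E, f p = f q → p = q := by
    intro p hp q hq h
    rw [hfE p hp, hfE q hq] at h
    have := σ.injective (Subtype.ext h)
    exact congrArg Subtype.val this
  have hl : E.toList.Nodup := Finset.nodup_toList E
  have hlen : E.toList.length = 6 := by rw [Finset.length_toList, hE]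
  have hl' : (E.toList.map f).Nodup := by
    apply List.Nodup.map_on _ hl
    intro p hp q hq h
    exact hfinj p (Finset.mem_toList.1 hp) q (Finset.mem_toList.1 hq) h
  have himg : (E.toList.map f).toFinset = E := by
    apply Finset.eq_of_subset_of_card_le
    · intro p hp
      rw [List.mem_toFinset, List.mem_map] at hp
      obtain ⟨q, hq, rfl⟩ := hp
      exact hfmem q (Finset.mem_toList.1 hq)
    · rw [List.toFinset_card_of_nodup hl', List.length_map, hlen, hE]
  obtain ⟨g, hg, hgl⟩ := exists_map_six hl hl' hlen (by rw [List.length_map, hlen])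
    (by rw [himg, Finset.toList_toFinset])
  refine ⟨g, hg, fun p => ?_⟩
  have := (List.map_inj_left.1 hgl) p.1 (Finset.mem_toList.2 p.2)
  rw [this, hfE p.1 p.2]

/-- an even permutation of eight points fixing six of them is trivial -/
theorem eq_one_of_fix_six {o E : Finset GolayPt} (ho : o.card = 8) (hEo : E ⊆ o) (hE : E.card = 6)
    (e : Equiv.Perm ↥o) (he : e ∈ alternatingGroup ↥o) (hfix : ∀ x : ↥o, x.1 ∈ E → e x = x) :
    e = 1 := by
  classical
  have h2 : (o \ E).card = 2 := by
    rw [Finset.card_sdiff_of_subset hEo, ho, hE]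
  obtain ⟨a, b, hab, hoE⟩ := Finset.card_eq_two.1 h2
  have ha : a ∈ o \ E := by rw [hoE]; simp
  have hb : b ∈ o \ E := by rw [hoE]; simp
  rw [Finset.mem_sdiff] at ha hb
  have hcases : ∀ x : ↥o, x.1 ∈ E ∨ x.1 = a ∨ x.1 = b := by
    intro x
    by_cases hx : x.1 ∈ E
    · exact Or.inl hx
    · have : x.1 ∈ o \ E := Finset.mem_sdiff.2 ⟨x.2, hx⟩
      rw [hoE] at this
      simp only [Finset.mem_insert, Finset.mem_singleton] at this
      exact Or.inr this
  have hnotE : ∀ x : ↥o, x.1 ∉ E → (e x).1 ∉ E := by
    intro x hx hex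
    have := hfix (e x) hex
    have := e.injective this
    rw [this] at hex
    exact hx hex
  let a' : ↥o := ⟨a, ha.1⟩
  let b' : ↥o := ⟨b, hb.1⟩
  have hab' : a' ≠ b' := fun h => hab (congrArg Subtype.val h)
  by_cases hea : e a' = a'
  · -- identity
    apply Equiv.ext
    intro x
    rcases hcases x with hx | hx | hx
    · exact hfix x hx
    · have : x = a' := Subtype.ext hx
      rw [this]; exact hea
    · have hxb : x = b' := Subtype.ext hx
      rw [hxb]
      rcases hcases (e b') with h | h | h
      · exact absurd h (hnotE b' hb.2)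
      · have h' : e b' = a' := Subtype.ext h
        have : e b' = e a' := by rw [h', hea]
        exact absurd (e.injective this) (Ne.symm hab')
      · exact Subtype.ext h
  · exfalso
    have heab : e a' = b' := by
      rcases hcases (e a') with h | h | h
      · exact absurd h (hnotE a' ha.2)
      · exact absurd (Subtype.ext h) hea
      · exact Subtype.ext h
    have heba : e b' = a' := by
      rcases hcases (e b') with h | h | h
      · exact absurd h (hnotE b' hb.2)
      · exact Subtype.ext h
      · have h' : e b' = b' := Subtype.ext h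
        have : e b' = e a' := by rw [h', heab]
        exact absurd (e.injective this) (Ne.symm hab')
    have hswap : e = Equiv.swap a' b' := by
      apply Equiv.ext
      intro x
      rcases hcases x with hx | hx | hx
      · rw [hfix x hx, Equiv.swap_apply_of_ne_of_ne]
        · intro h; rw [h] at hx; exact ha.2 hx
        · intro h; rw [h] at hx; exact hb.2 hx
      · have : x = a' := Subtype.ext hx
        rw [this, heab, Equiv.swap_apply_left]
      · have : x = b' := Subtype.ext hx
        rw [this, heba, Equiv.swap_apply_right]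
    rw [Equiv.Perm.mem_alternatingGroup, hswap, Equiv.Perm.sign_swap hab'] at he
    exact absurd he (by decide)

theorem pstab_six_in_octad {o E : Finset GolayPt} (ho : o ∈ octads) (hEo : E ⊆ o)
    (hE : E.card = 6) : pstab M24 E = pstab M24 o := by
  apply le_antisymm
  · intro g hg
    refine ⟨hg.1, ?_⟩
    have hgo : g • o = o := by
      symm
      apply octads_inter_lt ho (smul_mem_octads hg.1 ho)
      have : E ⊆ o ∩ g • o := by
        intro p hp
        rw [Finset.mem_inter]
        refine ⟨hEo hp, ?_⟩
        rw [← hg.2 p hp]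
        exact Finset.smul_mem_smul_finset (hEo hp)
      have := Finset.card_le_card this
      omega
    have h := mem_iff_of_smul_eq hgo
    have halt : g.subtypePerm h ∈ alternatingGroup ↥o := by
      have h1553 := Cfsg.Agent.S1553.result o ho
      have : g.subtypePerm h ∈ {e : Equiv.Perm ↥o | ∃ g : Equiv.Perm GolayPt, g ∈ M24 ∧
          ∃ h : (∀ x, g x ∈ o ↔ x ∈ o), g.subtypePerm h = e} := ⟨g, hg.1, h, rfl⟩
      rw [h1553] at this
      exact this
    have h1 := eq_one_of_fix_six ho.2 hEo hE _ halt (by
      intro x hx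
      apply Subtype.ext
      exact hg.2 x.1 hx)
    intro b hb
    have := congrArg (fun e : Equiv.Perm ↥o => ((e ⟨b, hb⟩ : ↥o) : GolayPt)) h1
    exact this
  · exact pstab_mono M24 hEo

theorem card_subtype_eq (E : Finset GolayPt) :
    Nat.card {g : Equiv.Perm GolayPt // g ∈ M24 ∧ ∀ p ∈ E, g p = p} = Nat.card (pstab M24 E) :=
  rfl

/-- statement -/
theorem result (E : Finset Cfsg.GolayPt) (hE : E.card = 6) : (∀ σ : Equiv.Perm ↥E, ∃ g ∈ Cfsg.M24, ∀ p : ↥E, g p = σ p) ∧ ((∃ o ∈ Cfsg.octads, E ⊆ o) → Nat.card {g : Equiv.Perm Cfsg.GolayPt // g ∈ Cfsg.M24 ∧ ∀ p ∈ E, g p = p} = 16) ∧ ((¬ ∃ o ∈ Cfsg.octads, E ⊆ o) → Nat.card {g : Equiv.Perm Cfsg.GolayPt // g ∈ Cfsg.M24 ∧ ∀ p ∈ E, g p = p} = 3 ∧ Nat.card ↥(MulAction.stabilizer Cfsg.M24 E) = 2160) := by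
  refine ⟨induce_perm E hE, ?_, ?_⟩
  · rintro ⟨o, ho, hEo⟩
    rw [card_subtype_eq, pstab_six_in_octad ho hEo hE, ← pstab_eq_inf_fixing]
    exact (octad_pointwise_stabilizer ho).1
  · intro hno
    have hl : E.toList.Nodup := Finset.nodup_toList E
    have hlen : E.toList.length = 6 := by rw [Finset.length_toList, hE]
    obtain ⟨g, hg, q, hq, hlq⟩ := exists_std_six hl hlen
    rw [Finset.toList_toFinset] at hq
    have hq5 : q = bpt 5 := by
      rcases hq with ⟨_, h⟩ | ⟨h, _⟩
      · exact absurd h hno
      · exact h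
    subst hq5
    have himg : E = (Fset 6).image g := by
      have h1 : E = E.toList.toFinset := (Finset.toList_toFinset E).symm
      have h2 : List.map bpt (List.range 5) ++ [bpt 5] = List.map bpt (List.range 6) := rfl
      rw [h1, hlq, h2]
      ext p
      rw [List.mem_toFinset, List.mem_map, Finset.mem_image]
      constructor
      · rintro ⟨a, ha, rfl⟩
        exact ⟨a, List.mem_toFinset.2 ha, rfl⟩
      · rintro ⟨a, ha, rfl⟩
        exact ⟨a, List.mem_toFinset.1 ha, rfl⟩
    have h3 : Nat.card (pstab M24 E) = 3 := by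
      rw [himg, card_pstab_image M24 _ hg, card_pstab6]
    refine ⟨by rw [card_subtype_eq, h3], ?_⟩
    have hr := card_range_restrictHom M24 E
    rw [pstab_eq_inf_fixing, h3] at hr
    have hrange : (restrictHom M24 E).range = ⊤ := by
      rw [eq_top_iff]
      intro σ _
      rw [mem_range_restrictHom]
      obtain ⟨g, hg, hgσ⟩ := induce_perm E hE σ
      have h : ∀ x, g x ∈ E ↔ x ∈ E := by
        have hsub : g • E ⊆ E := by
          intro x hx
          obtain ⟨y, hy, rfl⟩ := Finset.mem_smul_finset.1 hx
          have := hgσ ⟨y, hy⟩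
          show g y ∈ E
          simp only at this
          rw [this]
          exact (σ ⟨y, hy⟩).2
        have heq : g • E = E :=
          Finset.eq_of_subset_of_card_le hsub (by rw [Finset.card_smul_finset])
        exact mem_iff_of_smul_eq heq
      refine ⟨g, hg, h, ?_⟩
      apply Equiv.ext
      intro x
      apply Subtype.ext
      exact hgσ x
    rw [hrange, Subgroup.card_top, Nat.card_eq_fintype_card, Fintype.card_perm, Fintype.card_coe,
      hE] at hr
    have : (6 : ℕ).factorial = 720 := by decide
    rw [this] at hr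
    omega

end Cfsg.Agent.S5600
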