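import Cfsg.Statements.S5521
import Mathlib
import Cfsg.Agent.S5600

set_option autoImplicit false
open Cfsg
open scoped Pointwise
open Cfsg.Agent.Lib.Helper1_Chain Cfsg.Agent.Lib.Helper1_Golay

namespace Cfsg.Agent.S5521

theorem exists_ne_one {G : Type*} [Group G] (H : Subgroup G) (h : 1 < Nat.card H) :
    ∃ g ∈ H, g ≠ 1 := by
  by_contra hcon
  push Not at hcon
  have : H = ⊥ := by
    rw [eq_bot_iff]
    intro g hg
    rw [Subgroup.mem_bot]
    exact hcon g hg
  rw [this, Subgroup.card_bot] at h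
  exact absurd h (by decide)

set_option maxRecDepth 100000 in
theorem Fset7_card : (Fset 7).card = 7 := by decide +kernel

/-- statement -/
theorem result :
    (∀ B : Finset Cfsg.GolayPt, B.card ≤ 6 → ∃ g ∈ Cfsg.M24, g ≠ 1 ∧ ∀ b ∈ B, g b = b) ∧
    (∃ B : Finset Cfsg.GolayPt, B.card = 7 ∧ ∀ g ∈ Cfsg.M24, (∀ b ∈ B, g b = b) → g = 1) := by
  constructor
  · intro B hB
    have h24 : 6 ≤ Fintype.card GolayPt := by decide
    obtain ⟨E, hBE, hE⟩ := Finset.exists_superset_card_eq hB h24
    obtain ⟨-, h16, h3⟩ := Cfsg.Agent.S5600.result E hE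
    have hcard : 1 < Nat.card (pstab M24 E) := by
      by_cases hoct : ∃ o ∈ octads, E ⊆ o
      · have := h16 hoct
        rw [Cfsg.Agent.S5600.card_subtype_eq] at this
        rw [this]; decide
      · have := (h3 hoct).1
        rw [Cfsg.Agent.S5600.card_subtype_eq] at this
        rw [this]; decide
    obtain ⟨g, hg, hg1⟩ := exists_ne_one _ hcard
    exact ⟨g, hg.1, hg1, fun b hb => hg.2 b (hBE hb)⟩
  · refine ⟨Fset 7, Fset7_card, fun g hg hfix => ?_⟩
    apply Equiv.ext
    intro p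
    exact rigid ⟨hg, hfix⟩ p

end Cfsg.Agent.S5521
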