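import Cfsg.Statements.S5541
import Mathlib

set_option autoImplicit false
open Cfsg

namespace Cfsg.Agent.S5541

theorem result {H : Type*} [Group H] {U : Type*} [AddCommGroup U] [Module ℝ U] [FiniteDimensional ℝ U] (ρ : Representation ℝ H U) (hirr : ∀ W : Submodule ℝ U, (∀ g : H, W.map (ρ g) ≤ W) → W = ⊥ ∨ W = ⊤) (B : LinearMap.BilinForm ℝ U) (hB0 : B ≠ 0) (hBs : ∀ u v, B u v = B v u) (hBi : ∀ (g : H) (u v : U), B (ρ g u) (ρ g v) = B u v) : (∃ m : U →ₗ[ℝ] U →ₗ[ℝ] U, m ≠ 0 ∧ (∀ u v, m u v = m v u) ∧ (∀ (g : H) (u v : U), m (ρ g u) (ρ g v) = ρ g (m u v)) ∧ ∀ m' : U →ₗ[ℝ] U →ₗ[ℝ] U, (∀ (g : H) (u v : U), m' (ρ g u) (ρ g v) = ρ g (m' u v)) → ∃ c : ℝ, m' = c • m) ↔ (∃ t : U →ₗ[ℝ] U →ₗ[ℝ] U →ₗ[ℝ] ℝ, t ≠ 0 ∧ (∀ u v w, t u v w = t v u w ∧ t u v w = t u w v) ∧ (∀ (g : H) (u v w : U), t (ρ g u) (ρ g v) (ρ g w) = t u v w) ∧ ∀ t' : U →ₗ[ℝ] U →ₗ[ℝ] U →ₗ[ℝ] ℝ, (∀ (g : H) (u v w : U), t' (ρ g u) (ρ g v) (ρ g w) = t' u v w) → ∃ c : ℝ, t' = c • t) := by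
  have hginv : ∀ (g : H) (v : U), ρ g (ρ g⁻¹ v) = v := by
    intro g v
    have h1 : ρ g * ρ g⁻¹ = 1 := by rw [← map_mul, mul_inv_cancel, map_one]
    have := congrArg (fun f : Module.End ℝ U => f v) h1
    simpa using this
  have hginv' : ∀ (g : H) (v : U), ρ g⁻¹ (ρ g v) = v := by
    intro g v
    have h1 : ρ g⁻¹ * ρ g = 1 := by rw [← map_mul, inv_mul_cancel, map_one]
    have := congrArg (fun f : Module.End ℝ U => f v) h1
    simpa using this
  -- B nondegenerate
  have hker : LinearMap.ker B = ⊥ := by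
    have hinvt : ∀ g : H, (LinearMap.ker B).map (ρ g) ≤ LinearMap.ker B := by
      intro g w hw
      obtain ⟨u, hu, rfl⟩ := hw
      have hu' : B u = 0 := LinearMap.mem_ker.mp hu
      rw [LinearMap.mem_ker]
      ext v
      have : B (ρ g u) v = B (ρ g u) (ρ g (ρ g⁻¹ v)) := by rw [hginv]
      rw [this, hBi, hu']; simp
    rcases hirr (LinearMap.ker B) hinvt with h | h
    · exact h
    · exfalso; apply hB0
      ext u v
      have : u ∈ LinearMap.ker B := by rw [h]; exact Submodule.mem_top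
      rw [LinearMap.mem_ker] at this
      simp [this]
  have hnd : B.Nondegenerate := LinearMap.BilinForm.nondegenerate_iff_ker_eq_bot.mpr hker
  have hsep : ∀ x y : U, (∀ w, B x w = B y w) → x = y := by
    intro x y h
    have : x - y ∈ LinearMap.ker B := by
      rw [LinearMap.mem_ker]; ext w; simp [h w]
    rw [hker, Submodule.mem_bot] at this
    exact sub_eq_zero.mp this
  -- conversions
  let toT : (U →ₗ[ℝ] U →ₗ[ℝ] U) → (U →ₗ[ℝ] U →ₗ[ℝ] U →ₗ[ℝ] ℝ) := fun m => m.compr₂ B
  let toM : (U →ₗ[ℝ] U →ₗ[ℝ] U →ₗ[ℝ] ℝ) → (U →ₗ[ℝ] U →ₗ[ℝ] U) := fun t =>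
    t.compr₂ ((B.toDual hnd).symm : Module.Dual ℝ U →ₗ[ℝ] U)
  have htoT : ∀ m u v w, toT m u v w = B (m u v) w := fun m u v w => rfl
  have htoM : ∀ t u v w, B (toM t u v) w = t u v w := by
    intro t u v w
    show B ((B.toDual hnd).symm (t u v)) w = t u v w
    exact LinearMap.BilinForm.apply_toDual_symm_apply (t u v) w
  have hTinv : ∀ m, (∀ (g : H) (u v : U), m (ρ g u) (ρ g v) = ρ g (m u v)) →
      ∀ (g : H) (u v w : U), toT m (ρ g u) (ρ g v) (ρ g w) = toT m u v w := by
    intro m hm g u v w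
    rw [htoT, htoT, hm, hBi]
  have hMequiv : ∀ t, (∀ (g : H) (u v w : U), t (ρ g u) (ρ g v) (ρ g w) = t u v w) →
      ∀ (g : H) (u v : U), toM t (ρ g u) (ρ g v) = ρ g (toM t u v) := by
    intro t ht g u v
    apply hsep
    intro w
    rw [htoM]
    have : B (ρ g (toM t u v)) w = B (ρ g (toM t u v)) (ρ g (ρ g⁻¹ w)) := by rw [hginv]
    rw [this, hBi, htoM]
    have : t (ρ g u) (ρ g v) w = t (ρ g u) (ρ g v) (ρ g (ρ g⁻¹ w)) := by rw [hginv]
    rw [this, ht]
  constructor
  · rintro ⟨m, hm0, hmc, hme, hmu⟩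
    have ht0 : toT m ≠ 0 := by
      intro h
      apply hm0
      ext u v
      apply hsep
      intro w
      have := congrArg (fun t : U →ₗ[ℝ] U →ₗ[ℝ] U →ₗ[ℝ] ℝ => t u v w) h
      simp only [htoT] at this
      simpa using this
    have huniq : ∀ t' : U →ₗ[ℝ] U →ₗ[ℝ] U →ₗ[ℝ] ℝ, (∀ (g : H) (u v w : U), t' (ρ g u) (ρ g v) (ρ g w) = t' u v w) → ∃ c : ℝ, t' = c • toT m := by
      intro t' ht'
      obtain ⟨c, hc⟩ := hmu (toM t') (hMequiv t' ht')
      refine ⟨c, ?_⟩
      ext u v w
      rw [← htoM t' u v w, hc]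
      simp [htoT]
    have hsym12 : ∀ u v w, toT m u v w = toT m v u w := by
      intro u v w; rw [htoT, htoT, hmc]
    -- the swapped form
    let t' : U →ₗ[ℝ] U →ₗ[ℝ] U →ₗ[ℝ] ℝ :=
      LinearMap.mk₂ ℝ (fun u v => (toT m u).flip v)
        (by intro a b c; ext w; simp)
        (by intro c a b; ext w; simp)
        (by intro a b c; ext w; simp)
        (by intro c a b; ext w; simp)
    have ht'app : ∀ u v w, t' u v w = toT m u w v := fun u v w => rfl
    have ht'inv : ∀ (g : H) (u v w : U), t' (ρ g u) (ρ g v) (ρ g w) = t' u v w := by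
      intro g u v w
      rw [ht'app, ht'app]; exact hTinv m hme g u w v
    obtain ⟨c, hc⟩ := huniq t' ht'inv
    have hcapp : ∀ u v w, toT m u w v = c * toT m u v w := by
      intro u v w
      rw [← ht'app, hc]; simp
    have hc2 : c = 1 := by
      -- find nonzero value
      have : ∃ u v w, toT m u v w ≠ 0 := by
        by_contra hcon
        push Not at hcon
        apply ht0
        ext u v w
        simpa using hcon u v w
      obtain ⟨u, v, w, hne⟩ := this
      have h1 : toT m u v w = c * (c * toT m u v w) := by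
        rw [← hcapp u v w, ← hcapp u w v]
      have hcc : c * c = 1 := by
        have : (c * c - 1) * toT m u v w = 0 := by linarith
        rcases mul_eq_zero.mp this with h | h
        · linarith
        · exact absurd h hne
      have hcases : c = 1 ∨ c = -1 := by
        have : (c - 1) * (c + 1) = 0 := by ring_nf; linarith
        rcases mul_eq_zero.mp this with h | h
        · left; linarith
        · right; linarith
      rcases hcases with h | h
      · exact h
      · exfalso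
        subst h
        -- antisymmetric in last two, symmetric in first two => zero
        have e1 := hcapp u v w  -- t u w v = - t u v w
        have e2 := hsym12 u w v -- t u w v = t w u v
        have e3 := hcapp w u v  -- t w v u = - t w u v
        have e4 := hsym12 w v u -- t w v u = t v w u
        have e5 := hcapp v w u  -- t v u w = - t v w u
        have e6 := hsym12 v u w -- t v u w = t u v w
        apply hne
        linarith
    subst hc2
    refine ⟨toT m, ht0, ?_, hTinv m hme, huniq⟩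
    intro u v w
    refine ⟨hsym12 u v w, ?_⟩
    have := hcapp u w v
    rw [one_mul] at this
    exact this
  · rintro ⟨t, ht0, hts, hti, htu⟩
    have hm0 : toM t ≠ 0 := by
      intro h
      apply ht0
      ext u v w
      rw [← htoM t u v w, h]; simp
    refine ⟨toM t, hm0, ?_, hMequiv t hti, ?_⟩
    · intro u v
      apply hsep
      intro w
      rw [htoM, htoM]; exact (hts u v w).1
    · intro m' hm'
      obtain ⟨c, hc⟩ := htu (toT m') (hTinv m' hm')
      refine ⟨c, ?_⟩
      ext u v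
      apply hsep
      intro w
      rw [← htoT m' u v w, hc]
      simp [htoM]

end Cfsg.Agent.S5541
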