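import Cfsg.Statements.S5543
import Mathlib

set_option autoImplicit false
open Cfsg

namespace Cfsg.Agent.S5543

theorem result {V : Type*} [AddCommGroup V] [Module ℝ V] [FiniteDimensional ℝ V] (mul : V →ₗ[ℝ] V →ₗ[ℝ] V) (B : LinearMap.BilinForm ℝ V) (hV : Cfsg.Axial.IsMajoranaAmbient mul B) (X : Subgroup (V ≃ₗ[ℝ] V)) (hX : ∀ x ∈ X, x * x = 1) (ax : (V ≃ₗ[ℝ] V) → V) (hax : ∀ x ∈ X, x ≠ 1 → Cfsg.Axial.IsMajoranaPair mul B x (ax x)) (h1 : ∀ x ∈ X, x ≠ 1 → B (ax x) (ax x) = 1) (h2A : ∀ x ∈ X, ∀ y ∈ X, x ≠ 1 → y ≠ 1 → x ≠ y → mul (ax x) (ax y) = (1 / 8 : ℝ) • (ax x + ax y - ax (x * y))) : Nat.card ↥X ≤ 4 := by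
  classical
  have hinvX : ∀ a ∈ X, a⁻¹ = a := fun a ha => inv_eq_of_mul_eq_one_left (hX a ha)
  have hcomm : ∀ a ∈ X, ∀ b ∈ X, a * b = b * a := by
    intro a ha b hb
    have h := hX (a * b) (X.mul_mem ha hb)
    have : a * b = (a * b)⁻¹ := (inv_eq_of_mul_eq_one_left h).symm
    rw [this, mul_inv_rev, hinvX a ha, hinvX b hb]
  -- 1/4-eigenvectors
  have eig14 : ∀ p ∈ X, ∀ q ∈ X, p ≠ 1 → q ≠ 1 → p ≠ q →
      mul (ax p) (ax q - ax (p * q)) = (1 / 4 : ℝ) • (ax q - ax (p * q)) := by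
    intro p hp q hq hp1 hq1 hpq
    have hpqX : p * q ∈ X := X.mul_mem hp hq
    have hpq1 : p * q ≠ 1 := by
      intro h
      apply hpq
      have : q = p⁻¹ := (inv_eq_of_mul_eq_one_right h).symm
      rw [this, hinvX p hp]
    have hppq : p ≠ p * q := by
      intro h
      apply hq1
      have : p * 1 = p * q := by rw [mul_one]; exact h
      exact (mul_left_cancel this).symm
    have e1 := h2A p hp q hq hp1 hq1 hpq
    have e2 := h2A p hp (p * q) hpqX hp1 hpq1 hppq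
    have e3 : p * (p * q) = q := by rw [← mul_assoc, hX p hp, one_mul]
    rw [e3] at e2
    rw [map_sub, e1, e2]
    module
  -- main contradiction
  have main : ∀ x ∈ X, ∀ y ∈ X, ∀ z ∈ X, x ≠ 1 → y ≠ 1 → x ≠ y → z ≠ 1 → z ≠ x → z ≠ y → z ≠ x * y → False := by
    intro x hx y hy z hz hx1 hy1 hxy hz1 hzx hzy hzxy
    have hxyX := X.mul_mem hx hy
    have hxzX := X.mul_mem hx hz
    have hyzX := X.mul_mem hy hz
    have hxyzX := X.mul_mem hx hyzX
    have hxy1 : x * y ≠ 1 := by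
      intro h; apply hxy
      have : y = x⁻¹ := (inv_eq_of_mul_eq_one_right h).symm
      rw [this, hinvX x hx]
    have hxz1 : x * z ≠ 1 := by
      intro h; apply hzx
      have : z = x⁻¹ := (inv_eq_of_mul_eq_one_right h).symm
      rw [this, hinvX x hx]
    have hyz1 : y * z ≠ 1 := by
      intro h; apply hzy
      have : z = y⁻¹ := (inv_eq_of_mul_eq_one_right h).symm
      rw [this, hinvX y hy]
    have hxyz1 : x * (y * z) ≠ 1 := by
      intro h; apply hzxy
      have h' : (x * y) * z = 1 := by rw [mul_assoc]; exact h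
      have : z = (x * y)⁻¹ := (inv_eq_of_mul_eq_one_right h').symm
      rw [this, hinvX _ hxyX]
    have hyxz : y ≠ x * z := by
      intro h; apply hzxy
      rw [h, ← mul_assoc, hX x hx, one_mul]
    have hxyz : x * y ≠ z := fun h => hzxy h.symm
    have hxyxz : x * y ≠ x * z := fun h => hzy (mul_left_cancel h).symm
    have hyzx : x ≠ y * z := by
      intro h; apply hzxy
      rw [h, hcomm y hy z hz, mul_assoc, hX y hy, mul_one]
    have hyz_ne : y ≠ z := fun h => hzy h.symm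
    -- products
    have p1 := h2A y hy z hz hy1 hz1 hyz_ne
    have p2 := h2A y hy (x * z) hxzX hy1 hxz1 hyxz
    have p3 := h2A (x * y) hxyX z hz hxy1 hz1 hxyz
    have p4 := h2A (x * y) hxyX (x * z) hxzX hxy1 hxz1 hxyxz
    have g2 : y * (x * z) = x * (y * z) := by
      rw [← mul_assoc, hcomm y hy x hx, mul_assoc]
    have g3 : x * y * z = x * (y * z) := mul_assoc _ _ _
    have g4 : x * y * (x * z) = y * z := by
      rw [hcomm x hx y hy, mul_assoc, ← mul_assoc x x z, hX x hx, one_mul]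
    rw [g2] at p2
    rw [g3] at p3
    rw [g4] at p4
    -- eigenvectors
    have ev := eig14 x hx y hy hx1 hy1 hxy
    have ew := eig14 x hx z hz hx1 hz1 (fun h => hzx h.symm)
    have eu := eig14 x hx (y * z) hyzX hx1 hyz1 hyzx
    -- the product
    have hprod : mul (ax y - ax (x * y)) (ax z - ax (x * z)) = (-(1 / 4) : ℝ) • (ax (y * z) - ax (x * (y * z))) := by
      simp only [map_sub, LinearMap.sub_apply]
      rw [p1, p2, p3, p4]
      module
    obtain ⟨_, _, ⟨⟨hne, hidem, hsum, hfus⟩, hprim⟩, _⟩ := hax x hx hx1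
    have hS : (1 / 4 : ℝ) ∈ Cfsg.Axial.majoranaSpectrum := by
      simp [Cfsg.Axial.majoranaSpectrum]
    have hvmem : ax y - ax (x * y) ∈ Cfsg.Axial.eigen mul (ax x) (1 / 4) := by
      rw [Cfsg.Axial.eigen, Module.End.mem_eigenspace_iff]; exact ev
    have hwmem : ax z - ax (x * z) ∈ Cfsg.Axial.eigen mul (ax x) (1 / 4) := by
      rw [Cfsg.Axial.eigen, Module.End.mem_eigenspace_iff]; exact ew
    have hf := hfus (1 / 4) hS (1 / 4) hS _ hvmem _ hwmem
    have hlaw : Cfsg.Axial.monsterLaw (1 / 4 : ℝ) (1 / 32) (1 / 4) (1 / 4) = {1, 0} := by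
      unfold Cfsg.Axial.monsterLaw
      have h1 : ¬ ((1 / 4 : ℝ) = 1 / 32) := by norm_num
      simp [h1]
    rw [hlaw, hprod] at hf
    have hsumeq : Cfsg.Axial.eigenSum mul (ax x) {1, 0} =
        Cfsg.Axial.eigen mul (ax x) 1 ⊔ Cfsg.Axial.eigen mul (ax x) 0 := by
      unfold Cfsg.Axial.eigenSum
      rw [iSup_insert, iSup_singleton]
    rw [hsumeq, Submodule.mem_sup] at hf
    obtain ⟨p, hp, q, hq, hpq⟩ := hf
    rw [Cfsg.Axial.eigen, Module.End.mem_eigenspace_iff] at hp hq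
    set u := ax (y * z) - ax (x * (y * z)) with hu
    -- u is a 1/4-eigenvector and  -(1/4) u = p + q
    have hup : mul (ax x) ((-(1 / 4) : ℝ) • u) = (1 / 4 : ℝ) • ((-(1 / 4) : ℝ) • u) := by
      rw [map_smul, eu, smul_comm]
    rw [← hpq, map_add, hp, hq] at hup
    -- p + 0 = 1/4 (p + q)
    have hq' : q = (3 : ℝ) • p := by
      have h3 : (1 : ℝ) • p + (0 : ℝ) • q = (1 / 4 : ℝ) • (p + q) := hup
      have : (4 : ℝ) • ((1 : ℝ) • p + (0 : ℝ) • q) = (4 : ℝ) • ((1 / 4 : ℝ) • (p + q)) := by rw [h3]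
      have h4 : (4 : ℝ) • p = p + q := by
        calc (4 : ℝ) • p = (4 : ℝ) • ((1 : ℝ) • p + (0 : ℝ) • q) := by module
          _ = (4 : ℝ) • ((1 / 4 : ℝ) • (p + q)) := this
          _ = p + q := by module
      calc q = (p + q) - p := by abel
        _ = (4 : ℝ) • p - p := by rw [h4]
        _ = (3 : ℝ) • p := by module
    have hp0 : p = 0 := by
      have h5 : mul (ax x) q = (3 : ℝ) • mul (ax x) p := by rw [hq', map_smul]
      rw [hq, hp] at h5
      have : (3 : ℝ) • p = 0 := by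
        calc (3 : ℝ) • p = (3 : ℝ) • (1 : ℝ) • p := by module
          _ = (0 : ℝ) • q := h5.symm
          _ = 0 := zero_smul _ _
      have h6 : (3 : ℝ) ≠ 0 := by norm_num
      exact (smul_eq_zero.mp this).resolve_left h6
    have hq0 : q = 0 := by rw [hq', hp0, smul_zero]
    have hu0 : u = 0 := by
      have : (-(1 / 4) : ℝ) • u = 0 := by rw [← hpq, hp0, hq0, add_zero]
      have h6 : (-(1 / 4) : ℝ) ≠ 0 := by norm_num
      exact (smul_eq_zero.mp this).resolve_left h6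
    have haeq : ax (y * z) = ax (x * (y * z)) := sub_eq_zero.mp hu0
    -- final contradiction
    have hne2 : y * z ≠ x * (y * z) := by
      intro h
      apply hx1
      have : 1 * (y * z) = x * (y * z) := by rw [one_mul]; exact h
      exact (mul_right_cancel this).symm
    have p5 := h2A (y * z) hyzX (x * (y * z)) hxyzX hyz1 hxyz1 hne2
    have g5 : y * z * (x * (y * z)) = x := by
      rw [hcomm x hx _ hyzX, ← mul_assoc, hX _ hyzX, one_mul]
    rw [g5, ← haeq] at p5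
    obtain ⟨_, _, ⟨⟨_, hidem2, _, _⟩, _⟩, _⟩ := hax (y * z) hyzX hyz1
    rw [hidem2] at p5
    have hax6 : ax x = (-6 : ℝ) • ax (y * z) := by
      have : (8 : ℝ) • ax (y * z) = (8 : ℝ) • ((1 / 8 : ℝ) • (ax (y * z) + ax (y * z) - ax x)) := by
        rw [← p5]
      have h7 : (8 : ℝ) • ax (y * z) = ax (y * z) + ax (y * z) - ax x := by
        rw [this]; module
      calc ax x = (ax (y * z) + ax (y * z)) - (ax (y * z) + ax (y * z) - ax x) := by abel
        _ = (ax (y * z) + ax (y * z)) - (8 : ℝ) • ax (y * z) := by rw [h7]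
        _ = (-6 : ℝ) • ax (y * z) := by module
    have hb1 := h1 x hx hx1
    have hb2 := h1 (y * z) hyzX hyz1
    rw [hax6] at hb1
    simp only [map_smul, LinearMap.smul_apply, smul_eq_mul] at hb1
    rw [hb2] at hb1
    norm_num at hb1
  -- conclude
  have hsub : ∃ x y : (V ≃ₗ[ℝ] V), ∀ z ∈ X, z ∈ ({1, x, y, x * y} : Finset (V ≃ₗ[ℝ] V)) := by
    by_cases hc1 : ∃ x ∈ X, x ≠ 1
    · obtain ⟨x, hx, hx1⟩ := hc1
      by_cases hc2 : ∃ y ∈ X, y ≠ 1 ∧ y ≠ x
      · obtain ⟨y, hy, hy1, hyx⟩ := hc2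
        refine ⟨x, y, fun z hz => ?_⟩
        by_contra hcon
        simp only [Finset.mem_insert, Finset.mem_singleton, not_or] at hcon
        obtain ⟨c1, c2, c3, c4⟩ := hcon
        exact main x hx y hy z hz hx1 hy1 (fun h => hyx h.symm) c1 c2 c3 c4
      · push Not at hc2
        refine ⟨x, 1, fun z hz => ?_⟩
        by_cases hz1 : z = 1
        · simp [hz1]
        · have := hc2 z hz hz1
          simp [this]
    · push Not at hc1
      refine ⟨1, 1, fun z hz => ?_⟩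
      simp [hc1 z hz]
  obtain ⟨x, y, hxy⟩ := hsub
  have hsubset : (X : Set (V ≃ₗ[ℝ] V)) ⊆ ↑({1, x, y, x * y} : Finset (V ≃ₗ[ℝ] V)) := by
    intro z hz
    exact hxy z hz
  have hcard : Nat.card X = (X : Set (V ≃ₗ[ℝ] V)).ncard := (Nat.card_coe_set_eq _)
  rw [hcard]
  calc (X : Set (V ≃ₗ[ℝ] V)).ncard ≤ (↑({1, x, y, x * y} : Finset (V ≃ₗ[ℝ] V)) : Set (V ≃ₗ[ℝ] V)).ncard :=
        Set.ncard_le_ncard hsubset (Finset.finite_toSet _)
    _ = ({1, x, y, x * y} : Finset (V ≃ₗ[ℝ] V)).card := Set.ncard_coe_finset _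
    _ ≤ 4 := Finset.card_le_four

end Cfsg.Agent.S5543
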