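import Cfsg.Statements.S5545
import Mathlib

set_option autoImplicit false
open Cfsg

namespace Cfsg.Agent.S5545

open Cfsg.Axial

section
variable {V : Type*} [AddCommGroup V] [Module ℝ V]

lemma eigen_map (mul : V →ₗ[ℝ] V →ₗ[ℝ] V) (σ : V ≃ₗ[ℝ] V)
    (hσ : ∀ u v : V, σ (mul u v) = mul (σ u) (σ v)) (a : V) (c : ℝ) :
    eigen mul (σ a) c = (eigen mul a c).map (σ : V →ₗ[ℝ] V) := by
  ext x
  simp only [eigen, Module.End.mem_eigenspace_iff, Submodule.mem_map]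
  constructor
  · intro hx
    refine ⟨σ.symm x, ?_, by simp⟩
    apply σ.injective
    rw [hσ, map_smul]
    simpa using hx
  · rintro ⟨y, hy, rfl⟩
    show mul (σ a) (σ y) = c • σ y
    rw [← hσ, hy, map_smul]

lemma eigenSum_map (mul : V →ₗ[ℝ] V →ₗ[ℝ] V) (σ : V ≃ₗ[ℝ] V)
    (hσ : ∀ u v : V, σ (mul u v) = mul (σ u) (σ v)) (a : V) (S : Set ℝ) :
    eigenSum mul (σ a) S = (eigenSum mul a S).map (σ : V →ₗ[ℝ] V) := by
  simp only [eigenSum, Submodule.map_iSup, eigen_map mul σ hσ]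

lemma pair_transport (mul : V →ₗ[ℝ] V →ₗ[ℝ] V) (B : LinearMap.BilinForm ℝ V) (μ σ : V ≃ₗ[ℝ] V) (a : V)
    (hσ : ∀ u v : V, σ (mul u v) = mul (σ u) (σ v))
    (hc : ∀ v, μ (σ v) = σ (μ v))
    (h : IsMajoranaPair mul B μ a) : IsMajoranaPair mul B μ (σ a) := by
  obtain ⟨hm, hB, ⟨⟨hne, hid, htop, hfus⟩, hprim⟩, hfix, hneg⟩ := h
  refine ⟨hm, hB, ⟨⟨?_, ?_, ?_, ?_⟩, ?_⟩, ?_, ?_⟩
  · simpa using hne
  · rw [← hσ, hid]
  · rw [eigenSum_map mul σ hσ, htop]; simp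
  · intro c hc' d hd u hu v hv
    rw [eigen_map mul σ hσ] at hu hv
    obtain ⟨u', hu', rfl⟩ := hu
    obtain ⟨v', hv', rfl⟩ := hv
    rw [eigenSum_map mul σ hσ]
    refine ⟨mul u' v', hfus c hc' d hd u' hu' v' hv', ?_⟩
    exact hσ u' v'
  · rw [eigen_map mul σ hσ, hprim, Submodule.map_span, Set.image_singleton]; rfl
  · intro v hv
    rw [eigenSum_map mul σ hσ] at hv
    obtain ⟨v', hv', rfl⟩ := hv
    show μ (σ v') = σ v'
    rw [hc]
    congr 1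
    exact hfix v' hv'
  · intro v hv
    rw [eigen_map mul σ hσ] at hv
    obtain ⟨v', hv', rfl⟩ := hv
    show μ (σ v') = - σ v'
    rw [hc, ← map_neg]
    congr 1
    exact hneg v' hv'


lemma law00 : monsterLaw (1/4:ℝ) (1/32) 0 0 = {0} := by
  unfold monsterLaw; norm_num

lemma law0q : monsterLaw (1/4:ℝ) (1/32) 0 (1/4) = {1/4} := by
  unfold monsterLaw; norm_num

lemma lawqq : monsterLaw (1/4:ℝ) (1/32) (1/4) (1/4) = {1, 0} := by
  unfold monsterLaw; norm_num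

lemma mem_eigen (mul : V →ₗ[ℝ] V →ₗ[ℝ] V) (a x : V) (c : ℝ) : x ∈ eigen mul a c ↔ mul a x = c • x := by
  simp only [eigen, Module.End.mem_eigenspace_iff]

lemma decomp (mul : V →ₗ[ℝ] V →ₗ[ℝ] V) (B : LinearMap.BilinForm ℝ V) (hV : IsMajoranaAmbient mul B)
    (μ : V ≃ₗ[ℝ] V) (a w : V)
    (h : IsMajoranaPair mul B μ a) (hn : B a a = 1) (hw : μ w = w) :
    ∃ u0 u : V, w = (B a w) • a + u0 + u ∧ mul a u0 = 0 ∧ mul a u = (1/4 : ℝ) • u ∧
      mul a (mul u0 u0) = 0 ∧ mul a (mul u0 u) = (1/4 : ℝ) • mul u0 u ∧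
      ∃ z0 : V, mul u u = ((1/4 : ℝ) * B u u) • a + z0 ∧ mul a z0 = 0 := by
  obtain ⟨hcomm, hsymm, hpos, hassoc, hnorton⟩ := hV
  obtain ⟨hm, hB, ⟨⟨hne, hid, htop, hfus⟩, hprim⟩, hfix, hneg⟩ := h
  have hwmem : w ∈ eigenSum mul a majoranaSpectrum := by rw [htop]; trivial
  have hS : eigenSum mul a majoranaSpectrum
      = eigen mul a 1 ⊔ (eigen mul a 0 ⊔ (eigen mul a (1/4) ⊔ eigen mul a (1/32))) := by
    simp only [eigenSum, majoranaSpectrum, iSup_insert, iSup_singleton]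
  rw [hS] at hwmem
  obtain ⟨x1, hx1, y, hy, rfl⟩ := Submodule.mem_sup.1 hwmem
  obtain ⟨x0, hx0, y', hy', rfl⟩ := Submodule.mem_sup.1 hy
  obtain ⟨x4, hx4, x32, hx32, rfl⟩ := Submodule.mem_sup.1 hy'
  have hplus : x1 + (x0 + x4) ∈ eigenSum mul a {1, 0, 1/4} := by
    simp only [eigenSum, iSup_insert, iSup_singleton]
    exact Submodule.add_mem_sup hx1 (Submodule.add_mem_sup hx0 hx4)
  have h1 : μ (x1 + (x0 + x4)) = x1 + (x0 + x4) := hfix _ hplus
  have h2 : μ x32 = - x32 := hneg _ hx32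
  have h32 : x32 = 0 := by
    have e : μ (x1 + (x0 + (x4 + x32))) = (x1 + (x0 + x4)) - x32 := by
      have : x1 + (x0 + (x4 + x32)) = (x1 + (x0 + x4)) + x32 := by abel
      rw [this, map_add, h1, h2]; abel
    rw [hw] at e
    have : (2:ℝ) • x32 = 0 := by
      have e' : x1 + (x0 + (x4 + x32)) - (x1 + (x0 + x4) - x32) = 0 := sub_eq_zero.2 e
      rw [← e']; module
    simpa using this
  subst h32
  rw [hprim] at hx1
  obtain ⟨l, rfl⟩ := Submodule.mem_span_singleton.1 hx1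
  rw [mem_eigen] at hx0 hx4
  rw [zero_smul] at hx0
  have hB0 : B a x0 = 0 := by
    have : B (mul a a) x0 = B a (mul a x0) := (hassoc a a x0).symm
    rw [hid, hx0, map_zero] at this
    exact this
  have hB4 : B a x4 = 0 := by
    have : B (mul a a) x4 = B a (mul a x4) := (hassoc a a x4).symm
    rw [hid, hx4, map_smul, smul_eq_mul] at this
    linarith
  have hl : B a (l • a + (x0 + (x4 + 0))) = l := by
    simp only [map_add, map_smul, smul_eq_mul, hn, hB0, hB4, map_zero]; ring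
  rw [hl]
  refine ⟨x0, x4, by module, hx0, hx4, ?_, ?_, ?_⟩
  · have := hfus 0 (by simp [majoranaSpectrum]) 0 (by simp [majoranaSpectrum]) x0
      ((mem_eigen _ _ _ _).2 (by rw [hx0, zero_smul])) x0 ((mem_eigen _ _ _ _).2 (by rw [hx0, zero_smul]))
    rw [law00] at this
    simp only [eigenSum, iSup_singleton] at this
    rw [mem_eigen, zero_smul] at this
    exact this
  · have := hfus 0 (by simp [majoranaSpectrum]) (1/4) (by simp [majoranaSpectrum]) x0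
      ((mem_eigen _ _ _ _).2 (by rw [hx0, zero_smul])) x4 ((mem_eigen _ _ _ _).2 hx4)
    rw [law0q] at this
    simp only [eigenSum, iSup_singleton] at this
    rw [mem_eigen] at this
    exact this
  · have := hfus (1/4) (by simp [majoranaSpectrum]) (1/4) (by simp [majoranaSpectrum]) x4
      ((mem_eigen _ _ _ _).2 hx4) x4 ((mem_eigen _ _ _ _).2 hx4)
    rw [lawqq] at this
    simp only [eigenSum, iSup_insert, iSup_singleton] at this
    obtain ⟨y1, hy1, z0, hz0, hyz⟩ := Submodule.mem_sup.1 this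
    rw [hprim] at hy1
    obtain ⟨m, rfl⟩ := Submodule.mem_span_singleton.1 hy1
    rw [mem_eigen, zero_smul] at hz0
    have hBz : B a z0 = 0 := by
      have : B (mul a a) z0 = B a (mul a z0) := (hassoc a a z0).symm
      rw [hid, hz0, map_zero] at this
      exact this
    have hm' : m = (1/4 : ℝ) * B x4 x4 := by
      have e1 : B a (mul x4 x4) = m := by
        rw [← hyz]; simp only [map_add, map_smul, smul_eq_mul, hn, hBz]; ring
      have e2 : B a (mul x4 x4) = B (mul a x4) x4 := hassoc a x4 x4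
      rw [hx4, map_smul, LinearMap.smul_apply, smul_eq_mul] at e2
      rw [← e1, e2]
    refine ⟨z0, ?_, hz0⟩
    rw [← hm', hyz]


lemma a_alpha (mul : V →ₗ[ℝ] V →ₗ[ℝ] V) (B : LinearMap.BilinForm ℝ V) (hV : IsMajoranaAmbient mul B)
    (μ : V ≃ₗ[ℝ] V) (a w : V)
    (h : IsMajoranaPair mul B μ a) (hn : B a a = 1) (hw : μ w = w) :
    mul a (mul a w) = (1/4 : ℝ) • mul a w + ((3/4 : ℝ) * B a w) • a := by
  obtain ⟨u0, u, hdec, h0, h4, -⟩ := decomp mul B hV μ a w h hn hw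
  have hid : mul a a = a := h.2.2.1.1.2.1
  have e1 : mul a w = (B a w) • a + (1/4:ℝ) • u := by
    conv_lhs => rw [hdec]
    simp only [map_add, map_smul, hid, h0, h4]; module
  rw [e1]
  simp only [map_add, map_smul, hid, h4]; module

lemma key (mul : V →ₗ[ℝ] V →ₗ[ℝ] V) (B : LinearMap.BilinForm ℝ V) (hV : IsMajoranaAmbient mul B)
    (μ : V ≃ₗ[ℝ] V) (a w : V)
    (h : IsMajoranaPair mul B μ a) (hn : B a a = 1) (hw : μ w = w) (hww : mul w w = w)
    (hsym : mul w (mul a w) = (1/4 : ℝ) • mul a w + ((3/4 : ℝ) * B a w) • w) :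
    (16 : ℝ) • mul (mul a w) (mul a w)
      = (4 * B a w - 1) • mul a w + (3 * B a w) • w + (8 * (B a w)^2 + 2 * B a w) • a
    ∧ (B a w = 0 → mul a w = 0) := by
  have haα := a_alpha mul B hV μ a w h hn hw
  obtain ⟨u0, u, hdec, h0, h4, h00, h04, z0, huu, hz0⟩ := decomp mul B hV μ a w h hn hw
  obtain ⟨hcomm, hsymm, hpos, hassoc, hnorton⟩ := hV
  have hid : mul a a = a := h.2.2.1.1.2.1
  have hane : a ≠ 0 := h.2.2.1.1.1
  have e1 : mul a w = (B a w) • a + (1/4:ℝ) • u := by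
    conv_lhs => rw [hdec]
    simp only [map_add, map_smul, hid, h0, h4]; module
  obtain ⟨l, hl⟩ : ∃ l, l = B a w := ⟨_, rfl⟩
  rw [← hl] at hdec e1 hsym haα ⊢
  obtain ⟨α, hα⟩ : ∃ α, α = mul a w := ⟨_, rfl⟩
  rw [← hα] at e1 hsym haα ⊢
  have hwa : mul w a = α := by rw [hcomm, hα]
  have hexp : mul w w = (l^2) • a + mul u0 u0 + mul u u + (l/2) • u + (2:ℝ) • mul u0 u := by
    conv_lhs => rw [hdec]
    simp only [map_add, map_smul, LinearMap.add_apply, LinearMap.smul_apply, hid, h0, h4,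
      hcomm u0 a, hcomm u a, hcomm u u0]
    module
  rw [hww, huu] at hexp
  -- separation
  obtain ⟨m, hm⟩ : ∃ m, m = (1/4 : ℝ) * B u u := ⟨_, rfl⟩
  rw [← hm] at hexp huu
  have hsum : (l^2 + m - l) • a + (mul u0 u0 + z0 - u0) + ((l/2) • u + (2:ℝ) • mul u0 u - u) = 0 := by
    have : (l^2 + m - l) • a + (mul u0 u0 + z0 - u0) + ((l/2) • u + (2:ℝ) • mul u0 u - u)
        = (l ^ 2 • a + mul u0 u0 + (m • a + z0) + (l / 2) • u + (2:ℝ) • mul u0 u) - w := by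
      conv_rhs => rw [hdec]
      module
    rw [this, ← hexp, sub_self]
  have hs1 := congrArg (mul a) hsum
  simp only [map_add, map_sub, map_smul, hid, h0, h4, h00, h04, hz0, map_zero] at hs1
  have hs2 := congrArg (mul a) hs1
  simp only [map_add, map_sub, map_smul, hid, h0, h4, h00, h04, hz0, map_zero] at hs2
  have hd4 : (l/2) • u + (2:ℝ) • mul u0 u - u = 0 := by
    have : (l/2) • u + (2:ℝ) • mul u0 u - u
      = (16/3 : ℝ) • (((l ^ 2 + m - l) • a + (0 + 0 - 0) +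
            ((l / 2) • (1 / 4 : ℝ) • u + (2:ℝ) • (1 / 4 : ℝ) • mul u0 u - (1 / 4 : ℝ) • u))
          - ((l ^ 2 + m - l) • a + (0 + 0 - 0) +
      ((l / 2) • (1 / 4 : ℝ) • (1 / 4 : ℝ) • u + (2:ℝ) • (1 / 4 : ℝ) • (1 / 4 : ℝ) • mul u0 u - (1 / 4 : ℝ) • (1 / 4 : ℝ) • u))) := by
      module
    rw [this, hs1, hs2, sub_zero, smul_zero]
  have hd1 : (l^2 + m - l) • a = 0 := by
    have : (l^2 + m - l) • a = ((l ^ 2 + m - l) • a + (0 + 0 - 0) +
            ((l / 2) • (1 / 4 : ℝ) • u + (2:ℝ) • (1 / 4 : ℝ) • mul u0 u - (1 / 4 : ℝ) • u))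
          - (1/4 : ℝ) • ((l/2) • u + (2:ℝ) • mul u0 u - u) := by module
    rw [this, hs1, hd4, smul_zero, sub_zero]
  have hlm : l^2 + m - l = 0 := by
    rcases smul_eq_zero.1 hd1 with h' | h'
    · exact h'
    · exact absurd h' hane
  have hu : u = (4:ℝ) • α - (4*l) • a := by rw [e1]; module
  have hu0 : u0 = w + (3*l) • a - (4:ℝ) • α := by
    have : u0 = w - l • a - u := by conv_rhs => rw [hdec]; abel
    rw [this, hu]; module
  constructor
  · rw [hu0, hu] at hd4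
    simp only [map_add, map_sub, map_smul, LinearMap.add_apply, LinearMap.sub_apply,
      LinearMap.smul_apply, hid, hwa, haα, hsym, hcomm α a] at hd4
    rw [← sub_eq_zero, ← smul_zero (-1/2 : ℝ) (A := V), ← hd4]
    module
  · intro hl0
    have hBu : B u u = 0 := by
      rw [hl0] at hlm; rw [hm] at hlm; linarith
    have hu0' : u = 0 := by
      by_contra hne
      have := hpos u hne
      linarith
    rw [e1, hl0, hu0']; simp


lemma final_2A (mul : V →ₗ[ℝ] V →ₗ[ℝ] V) (a w α : V) (hcomm : IsCommMul mul) (haa : mul a a = a)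
    (hww : mul w w = w) (hα : mul a w = α) (h1 : mul a α = (1/4:ℝ) • α + (3/32:ℝ) • a)
    (h2 : mul w α = (1/4:ℝ) • α + (3/32:ℝ) • w)
    (h3 : mul α α = -(1/32:ℝ) • α + (3/128:ℝ) • (a + w)) :
    mul (a + w - (8:ℝ) • α) (a + w - (8:ℝ) • α) = a + w - (8:ℝ) • α ∧
    mul a (a + w - (8:ℝ) • α) = (1/8:ℝ) • (a + (a + w - (8:ℝ) • α) - w) ∧
    mul w (a + w - (8:ℝ) • α) = (1/8:ℝ) • (w + (a + w - (8:ℝ) • α) - a) := by
  have hwa : mul w a = α := by rw [hcomm]; exact hα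
  have hαa := hcomm α a
  have hαw := hcomm α w
  refine ⟨?_, ?_, ?_⟩
  · simp only [map_add, map_sub, map_smul, LinearMap.add_apply, LinearMap.sub_apply,
      LinearMap.smul_apply, haa, hww, hα, hwa, hαa, hαw, h1, h2, h3]
    module
  · simp only [map_add, map_sub, map_smul, LinearMap.add_apply, LinearMap.sub_apply,
      LinearMap.smul_apply, haa, hww, hα, hwa, hαa, hαw, h1, h2, h3]
    module
  · simp only [map_add, map_sub, map_smul, LinearMap.add_apply, LinearMap.sub_apply,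
      LinearMap.smul_apply, haa, hww, hα, hwa, hαa, hαw, h1, h2, h3]
    module

end


/-- Let V be a finite-dimensional real vector space with a commutative bilinear product and a positive-definite symmetric bilinear form that associates with the product and satisfies the Norton inequality (the Majorana setting of the definitions). Let μ₀, μ₁ be commuting Majorana involutions with distinct axial vectors a₀ ≠ a₁ of squared length 1, each involution having no other axial vector. Then either a₀ and a₁ are orthogonal with a₀ ∘ a₁ = 0 (type 2B), or their inner product is 1/8 and, with a₂ = a₀ + a₁ − 8 a₀ ∘ a₁, the vector a₂ is an idempotent and a₀ ∘ a₂ = (1/8)(a₀ + a₂ − a₁), a₁ ∘ a₂ = (1/8)(a₁ + a₂ − a₀) (type 2A: the three idempotents span a subalgebra with aᵢ ∘ aⱼ = (1/8)(aᵢ + aⱼ − aₖ)). -/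
theorem result {V : Type*} [AddCommGroup V] [Module ℝ V] [FiniteDimensional ℝ V] (mul : V →ₗ[ℝ] V →ₗ[ℝ] V) (B : LinearMap.BilinForm ℝ V) (hV : Cfsg.Axial.IsMajoranaAmbient mul B) (μ₀ μ₁ : V ≃ₗ[ℝ] V) (a₀ a₁ : V) (h₀ : Cfsg.Axial.IsMajoranaPair mul B μ₀ a₀) (h₁ : Cfsg.Axial.IsMajoranaPair mul B μ₁ a₁) (hu₀ : ∀ a : V, Cfsg.Axial.IsMajoranaPair mul B μ₀ a → a = a₀) (hu₁ : ∀ a : V, Cfsg.Axial.IsMajoranaPair mul B μ₁ a → a = a₁) (hn₀ : B a₀ a₀ = 1) (hn₁ : B a₁ a₁ = 1) (hc : μ₀ * μ₁ = μ₁ * μ₀) (hne : a₀ ≠ a₁) : (B a₀ a₁ = 0 ∧ mul a₀ a₁ = 0) ∨ (B a₀ a₁ = 1 / 8 ∧ mul (a₀ + a₁ - (8 : ℝ) • mul a₀ a₁) (a₀ + a₁ - (8 : ℝ) • mul a₀ a₁) = a₀ + a₁ - (8 : ℝ) • mul a₀ a₁ ∧ mul a₀ (a₀ + a₁ - (8 : ℝ) • mul a₀ a₁) = (1 / 8 : ℝ) • (a₀ + (a₀ + a₁ - (8 : ℝ) • mul a₀ a₁) - a₁) ∧ mul a₁ (a₀ + a₁ - (8 : ℝ) • mul a₀ a₁) = (1 / 8 : ℝ) • (a₁ + (a₀ + a₁ - (8 : ℝ) • mul a₀ a₁) - a₀)) := by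
  have hcomm := hV.1
  have hsymm := hV.2.1
  have hfix01 : μ₀ a₁ = a₁ := by
    apply hu₁
    apply pair_transport mul B μ₁ μ₀ a₁ h₀.1 ?_ h₁
    intro v
    have := congrArg (fun f => f v) hc
    simpa [LinearEquiv.mul_apply] using this.symm
  have hfix10 : μ₁ a₀ = a₀ := by
    apply hu₀
    apply pair_transport mul B μ₀ μ₁ a₀ h₁.1 ?_ h₀
    intro v
    have := congrArg (fun f => f v) hc
    simpa [LinearEquiv.mul_apply] using this
  have idem0 : mul a₀ a₀ = a₀ := h₀.2.2.1.1.2.1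
  have idem1 : mul a₁ a₁ = a₁ := h₁.2.2.1.1.2.1
  have A0 := a_alpha mul B hV μ₀ a₀ a₁ h₀ hn₀ hfix01
  have A1 := a_alpha mul B hV μ₁ a₁ a₀ h₁ hn₁ hfix10
  rw [hcomm a₁ a₀, hsymm a₁ a₀] at A1
  obtain ⟨K0, Z0⟩ := key mul B hV μ₀ a₀ a₁ h₀ hn₀ hfix01 idem1 A1
  have A0' : mul a₀ (mul a₁ a₀) = (1/4 : ℝ) • mul a₁ a₀ + ((3/4 : ℝ) * B a₁ a₀) • a₀ := by
    rw [hcomm a₁ a₀, hsymm a₁ a₀]; exact A0
  obtain ⟨K1, -⟩ := key mul B hV μ₁ a₁ a₀ h₁ hn₁ hfix10 idem0 A0'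
  rw [hcomm a₁ a₀, hsymm a₁ a₀] at K1
  obtain ⟨l, hl⟩ : ∃ l, l = B a₀ a₁ := ⟨_, rfl⟩
  obtain ⟨α, hα⟩ : ∃ α, α = mul a₀ a₁ := ⟨_, rfl⟩
  rw [← hl] at K0 K1 A0 A1 Z0 ⊢
  rw [← hα] at K0 K1 A0 A1 Z0 ⊢
  have hdiff : (l * (1 - 8 * l)) • (a₁ - a₀) = 0 := by
    have : (l * (1 - 8*l)) • (a₁ - a₀)
        = ((4 * l - 1) • α + (3 * l) • a₁ + (8 * l^2 + 2*l) • a₀)
          - ((4 * l - 1) • α + (3 * l) • a₀ + (8 * l^2 + 2*l) • a₁) := by module
    rw [this, ← K0, ← K1, sub_self]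
  rcases smul_eq_zero.1 hdiff with h' | h'
  · rcases mul_eq_zero.1 h' with h'' | h''
    · left; exact ⟨h'', Z0 h''⟩
    · right
      have hl8 : l = 1/8 := by linarith
      refine ⟨hl8, ?_⟩
      apply final_2A mul a₀ a₁ α hcomm idem0 idem1 hα.symm ?_ ?_ ?_
      · rw [A0, hl8]; norm_num
      · rw [A1, hl8]; norm_num
      · have : mul α α = (1/16 : ℝ) • ((16 : ℝ) • mul α α) := by module
        rw [this, K0, hl8]; module
  · exact absurd (sub_eq_zero.1 h').symm hne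

end Cfsg.Agent.S5545
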