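import Cfsg.Statements.S5550
import Mathlib
import Cfsg.Agent.Lib.Helper1_Sextets
import Cfsg.Agent.Lib.Helper1_M12e
import Cfsg.Agent.Lib.Helper1_M12d
import Cfsg.Agent.S1554
import Cfsg.Agent.S1635

set_option autoImplicit false
open Cfsg
open scoped Pointwise
open Cfsg.Agent.Lib.Helper1_Chain Cfsg.Agent.Lib.Helper1_Golay

namespace Cfsg.Agent.S5550

local notation "𝒢" => supports (golayCode : Set (GolayPt → ZMod 2))
local notation "V" => (GolayPt → ZMod 2)

/-- elements of the stabilizer of the standard octad and the point `5`, moving `6` anywhere -/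
def PA : List (List ℕ) := [[0, 1, 2, 3, 4, 5, 6, 7, 8, 9, 10, 11, 12, 13, 14, 15, 16, 17, 18, 19, 20, 21, 22, 23],
  [7, 12, 2, 4, 3, 5, 8, 10, 9, 13, 0, 6, 1, 14, 11, 19, 21, 15, 20, 17, 16, 22, 23, 18],
  [0, 4, 7, 10, 12, 5, 9, 1, 14, 19, 2, 23, 3, 17, 18, 11, 15, 16, 6, 20, 8, 21, 13, 22],
  [1, 7, 3, 4, 10, 5, 11, 2, 13, 16, 0, 15, 12, 6, 20, 23, 21, 14, 8, 17, 9, 19, 22, 18],
  [0, 3, 4, 1, 7, 5, 13, 10, 20, 9, 2, 14, 12, 18, 16, 23, 19, 6, 17, 11, 8, 22, 15, 21],
  [7, 0, 2, 1, 10, 5, 14, 12, 8, 15, 3, 22, 4, 21, 16, 13, 9, 20, 19, 17, 23, 6, 18, 11],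
  [2, 1, 12, 10, 4, 5, 15, 3, 8, 21, 7, 18, 0, 6, 9, 13, 16, 17, 23, 20, 22, 14, 19, 11],
  [2, 3, 7, 12, 1, 5, 16, 10, 6, 9, 0, 11, 4, 23, 13, 19, 22, 17, 21, 15, 14, 18, 8, 20],
  [10, 1, 4, 7, 3, 5, 17, 12, 14, 9, 2, 18, 0, 20, 11, 13, 8, 19, 23, 22, 6, 16, 15, 21],
  [7, 1, 4, 0, 12, 5, 18, 10, 22, 13, 2, 11, 3, 14, 23, 20, 21, 8, 16, 9, 19, 17, 6, 15],
  [0, 7, 4, 10, 2, 5, 19, 3, 8, 13, 1, 9, 12, 20, 22, 6, 17, 16, 14, 21, 11, 15, 23, 18],
  [3, 0, 12, 2, 4, 5, 20, 7, 17, 23, 10, 16, 1, 8, 21, 9, 15, 19, 13, 18, 14, 22, 6, 11],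
  [7, 1, 0, 10, 4, 5, 21, 3, 20, 15, 2, 13, 12, 17, 9, 18, 19, 6, 23, 8, 22, 11, 16, 14],
  [3, 0, 7, 10, 12, 5, 22, 2, 11, 15, 4, 8, 1, 13, 20, 19, 6, 23, 14, 16, 18, 17, 9, 21],
  [12, 7, 2, 3, 1, 5, 23, 10, 15, 14, 4, 21, 0, 9, 17, 22, 6, 13, 8, 19, 16, 11, 18, 20]]

set_option maxRecDepth 1000000 in
theorem PA_good : ∀ t ∈ PA, GoodTable t := by
  decide +kernel

set_option maxRecDepth 1000000 in
theorem PA_stab : ∀ t ∈ PA, ∀ p, Omask.testBit (idx p) = Omask.testBit (idx (tfun t p)) := by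
  decide +kernel

set_option maxRecDepth 1000000 in
theorem PA_fix : ∀ t ∈ PA, tfun t (bpt 5) = bpt 5 := by
  decide +kernel

set_option maxRecDepth 1000000 in
theorem PA_trans : ∀ y, y ∉ maskSet Omask → y ≠ bpt 5 → ∃ t ∈ PA, tfun t (pt 6) = y := by
  decide +kernel

/-- the stabilizer of the standard octad and `bpt 5` maps `pt 6` to any other outside point -/
theorem std_out {y : GolayPt} (hy : y ∉ maskSet Omask) (hy5 : y ≠ bpt 5) :
    ∃ σ ∈ M24, σ • maskSet Omask = maskSet Omask ∧ σ (bpt 5) = bpt 5 ∧ σ (pt 6) = y := by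
  obtain ⟨t, ht, hty⟩ := PA_trans y hy hy5
  obtain ⟨σ, hσ, hσt⟩ := exists_perm_of_good (PA_good t ht)
  refine ⟨σ, hσ, smul_maskSet_of_table hσt (PA_stab t ht), ?_, ?_⟩
  · rw [hσt]; exact PA_fix t ht
  · rw [hσt]; exact hty

theorem inv_apply_eq {σ : Equiv.Perm GolayPt} {a b : GolayPt} (h : σ a = b) : σ⁻¹ b = a := by
  rw [Equiv.Perm.inv_eq_iff_eq]; exact h.symm

theorem inv_smul_eq {σ : Equiv.Perm GolayPt} {s : Finset GolayPt} (h : σ • s = s) : σ⁻¹ • s = s := by
  conv_lhs => rw [← h]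
  rw [inv_smul_smul]

/-- octad stabilizer: fixing one outside point, transitive on the other outside points -/
theorem octad_out {o : Finset GolayPt} (ho : o ∈ octads) {p q q' : GolayPt} (hp : p ∉ o)
    (hq : q ∉ o) (hq' : q' ∉ o) (hpq : p ≠ q) (hpq' : p ≠ q') :
    ∃ σ ∈ M24, σ • o = o ∧ σ p = p ∧ σ q = q' := by
  obtain ⟨k, hk, hko, hkp⟩ := Cfsg.Agent.S1554.exists_std_octad_point ho hp
  have hout : ∀ z, z ∉ o → z ≠ p → k⁻¹ z ∉ maskSet Omask ∧ k⁻¹ z ≠ bpt 5 := by
    intro z hz hzp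
    constructor
    · intro h
      apply hz
      rw [← hko]
      have := Finset.smul_mem_smul_finset (a := k) h
      simpa using this
    · intro h
      apply hzp
      rw [← hkp, ← h]; simp
  obtain ⟨σ1, hσ1, h1o, h15, h16⟩ := std_out (hout q hq (Ne.symm hpq)).1 (hout q hq (Ne.symm hpq)).2
  obtain ⟨σ2, hσ2, h2o, h25, h26⟩ := std_out (hout q' hq' (Ne.symm hpq')).1 (hout q' hq' (Ne.symm hpq')).2
  refine ⟨k * σ2 * σ1⁻¹ * k⁻¹, M24.mul_mem (M24.mul_mem (M24.mul_mem hk hσ2) (M24.inv_mem hσ1))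
    (M24.inv_mem hk), ?_, ?_, ?_⟩
  · rw [mul_smul, mul_smul, mul_smul]
    conv_lhs => rw [← hko]
    rw [inv_smul_smul, inv_smul_eq h1o, h2o, hko]
  · simp only [Equiv.Perm.mul_apply]
    rw [inv_apply_eq hkp, inv_apply_eq h15, h25, hkp]
  · simp only [Equiv.Perm.mul_apply]
    rw [inv_apply_eq h16, h26]
    simp

/-- octad stabilizer: fixing one point of the octad, transitive on the other points of it -/
theorem octad_in {o : Finset GolayPt} (ho : o ∈ octads) {p q q' : GolayPt} (hp : p ∈ o)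
    (hq : q ∈ o) (hq' : q' ∈ o) (hpq : p ≠ q) (hpq' : p ≠ q') :
    ∃ σ ∈ M24, σ • o = o ∧ σ p = p ∧ σ q = q' := by
  have h5 : 5 ≤ o.card := by rw [ho.2]; decide
  have hmem : ∀ x y : GolayPt, x ∈ o → y ∈ o → ∀ a ∈ [x, y], a ∈ o := by
    intro x y hx hy a ha
    simp only [List.mem_cons, List.mem_nil_iff, or_false] at ha
    rcases ha with rfl | rfl
    · exact hx
    · exact hy
  obtain ⟨l, hl, hlen, hlo, hpre⟩ := exists_extend_list h5 (l := [p, q])
    (by simp [hpq]) (hmem p q hp hq) (by simp)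
  obtain ⟨l', hl', hlen', hlo', hpre'⟩ := exists_extend_list h5 (l := [p, q'])
    (by simp [hpq']) (hmem p q' hp hq') (by simp)
  obtain ⟨g, hg, hgl⟩ := exists_map_lists hl hl' (by rw [hlen, hlen']) (by rw [hlen])
  have h0 : g (l[0]'(by rw [hlen]; decide)) = l'[0]'(by rw [hlen']; decide) := by
    have := List.getElem_map (f := g) (l := l) (i := 0) (h := by rw [List.length_map, hlen]; decide)
    rw [← this]
    simp only [hgl]
  have h1 : g (l[1]'(by rw [hlen]; decide)) = l'[1]'(by rw [hlen']; decide) := by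
    have := List.getElem_map (f := g) (l := l) (i := 1) (h := by rw [List.length_map, hlen]; decide)
    rw [← this]
    simp only [hgl]
  have e0 := hpre 0 (by simp) (by rw [hlen]; decide)
  have e1 := hpre 1 (by simp) (by rw [hlen]; decide)
  have e0' := hpre' 0 (by simp) (by rw [hlen']; decide)
  have e1' := hpre' 1 (by simp) (by rw [hlen']; decide)
  simp only [List.getElem_cons_zero, List.getElem_cons_succ] at e0 e1 e0' e1'
  rw [e0, e0'] at h0
  rw [e1, e1'] at h1
  refine ⟨g, hg, ?_, h0, h1⟩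
  apply octads_inter_lt (smul_mem_octads hg ho) ho
  have hsub : l'.toFinset ⊆ g • o ∩ o := by
    intro x hx
    rw [List.mem_toFinset] at hx
    rw [Finset.mem_inter]
    refine ⟨?_, hlo' x hx⟩
    rw [← hgl, List.mem_map] at hx
    obtain ⟨y, hy, rfl⟩ := hx
    exact Finset.smul_mem_smul_finset (a := g) (hlo y hy)
  have := Finset.card_le_card hsub
  rw [List.toFinset_card_of_nodup hl', hlen'] at this
  exact this

/-- the stabilizer of a code set fixes a point and moves a second point of the same side to a third -/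
theorem T2 {U : Finset GolayPt} (hU : U ∈ 𝒢) {p q q' : GolayPt} (hpq : p ≠ q) (hpq' : p ≠ q')
    (hcls : (p ∈ U ∧ q ∈ U ∧ q' ∈ U) ∨ (p ∉ U ∧ q ∉ U ∧ q' ∉ U)) :
    ∃ σ ∈ M24, σ • U = U ∧ σ p = p ∧ σ q = q' := by
  have h2 : ∃ σ ∈ M24, σ p = p ∧ σ q = q' := by
    obtain ⟨g, hg, hgl⟩ := exists_map_lists (l := [p, q]) (l' := [p, q']) (by simp [hpq])
      (by simp [hpq']) rfl (by simp)
    simp only [List.map_cons, List.map_nil, List.cons.injEq, and_true] at hgl
    exact ⟨g, hg, hgl.1, hgl.2⟩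
  rcases card_of_mem_G hU with h | h | h | h | h
  · rw [Finset.card_eq_zero] at h
    obtain ⟨σ, hσ, h1, h2⟩ := h2
    exact ⟨σ, hσ, by rw [h, Finset.smul_finset_empty], h1, h2⟩
  · have ho : U ∈ octads := ⟨hU, h⟩
    rcases hcls with ⟨a, b, c⟩ | ⟨a, b, c⟩
    · exact octad_in ho a b c hpq hpq'
    · exact octad_out ho a b c hpq hpq'
  · have hd : U ∈ dodecads := ⟨hU, h⟩
    rcases hcls with ⟨a, b, c⟩ | ⟨a, b, c⟩
    · obtain ⟨g, hg, hgd, hgl⟩ := dodecad_map_lists hd (l := [p, q]) (l' := [p, q']) (by simp [hpq])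
        (by simp [hpq']) (by
          intro x hx
          simp only [List.mem_cons, List.mem_nil_iff, or_false] at hx
          rcases hx with rfl | rfl
          · exact a
          · exact b) (by
          intro x hx
          simp only [List.mem_cons, List.mem_nil_iff, or_false] at hx
          rcases hx with rfl | rfl
          · exact a
          · exact c) rfl (by simp)
      simp only [List.map_cons, List.map_nil, List.cons.injEq, and_true] at hgl
      exact ⟨g, hg, hgd, hgl.1, hgl.2⟩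
    · have hd' := compl_mem_dodecads hd
      obtain ⟨g, hg, hgd, hgl⟩ := dodecad_map_lists hd' (l := [p, q]) (l' := [p, q']) (by simp [hpq])
        (by simp [hpq']) (by
          intro x hx
          simp only [List.mem_cons, List.mem_nil_iff, or_false] at hx
          rw [Finset.mem_compl]
          rcases hx with rfl | rfl
          · exact a
          · exact b) (by
          intro x hx
          simp only [List.mem_cons, List.mem_nil_iff, or_false] at hx
          rw [Finset.mem_compl]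
          rcases hx with rfl | rfl
          · exact a
          · exact c) rfl (by simp)
      simp only [List.map_cons, List.map_nil, List.cons.injEq, and_true] at hgl
      refine ⟨g, hg, ?_, hgl.1, hgl.2⟩
      rw [smul_finset_compl'] at hgd
      exact compl_injective hgd
  · have ho : Uᶜ ∈ octads := by
      refine ⟨compl_mem hU, ?_⟩
      rw [Finset.card_compl, h]; rfl
    have hfin : ∃ σ ∈ M24, σ • Uᶜ = Uᶜ ∧ σ p = p ∧ σ q = q' := by
      rcases hcls with ⟨a, b, c⟩ | ⟨a, b, c⟩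
      · exact octad_out ho (by rw [Finset.mem_compl]; exact not_not.2 a)
          (by rw [Finset.mem_compl]; exact not_not.2 b)
          (by rw [Finset.mem_compl]; exact not_not.2 c) hpq hpq'
      · exact octad_in ho (Finset.mem_compl.2 a) (Finset.mem_compl.2 b) (Finset.mem_compl.2 c)
          hpq hpq'
    obtain ⟨σ, hσ, hσU, h1, h2⟩ := hfin
    refine ⟨σ, hσ, ?_, h1, h2⟩
    rw [smul_finset_compl'] at hσU
    exact compl_injective hσU
  · have hUu : U = Finset.univ := by
      apply Finset.eq_univ_of_card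
      rw [h]; rfl
    obtain ⟨σ, hσ, h1, h2⟩ := h2
    exact ⟨σ, hσ, by rw [hUu, Finset.smul_finset_univ], h1, h2⟩

theorem not_mem_G {s s' : Finset GolayPt} (hcard : s'.card = s.card) (h4 : s.card ≤ 4)
    (hne : s' ≠ s) (h : s.card ≤ 3 ∨ (s' ∩ s).Nonempty) : symmDiff s' s ∉ 𝒢 := by
  intro hG
  have h1 := card_symmDiff_add s' s
  have h2 := card_of_mem_G hG
  have h3 : (symmDiff s' s).card ≠ 0 := by
    intro h0
    rw [Finset.card_eq_zero] at h0
    exact hne (symmDiff_eq_bot.1 h0)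
  rcases h with h | h
  · omega
  · have := Finset.card_pos.2 h
    omega

/-- the side of a point -/
def side (U : Finset GolayPt) (x : GolayPt) : Finset GolayPt := if x ∈ U then U else Uᶜ

theorem mem_side (U : Finset GolayPt) (x : GolayPt) : x ∈ side U x := by
  unfold side
  by_cases h : x ∈ U
  · simp [h]
  · simp [h]

theorem mem_side_iff (U : Finset GolayPt) (x y : GolayPt) : y ∈ side U x ↔ (y ∈ U ↔ x ∈ U) := by
  unfold side
  by_cases h : x ∈ U
  · simp [h]
  · simp [h]

theorem card_side {U : Finset GolayPt} (hU : U ∈ 𝒢) (x : GolayPt) : 8 ≤ (side U x).card := by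
  unfold side
  have h := card_of_mem_G hU
  by_cases hx : x ∈ U
  · simp only [hx, if_true]
    have : 0 < U.card := Finset.card_pos.2 ⟨x, hx⟩
    omega
  · simp only [hx, if_false]
    rw [Finset.card_compl]
    have h24 : Fintype.card GolayPt = 24 := by decide
    have : U.card < 24 := by
      by_contra hcon
      have : U = Finset.univ := by
        apply Finset.eq_univ_of_card
        rw [h24]
        have := Finset.card_le_univ U
        omega
      exact hx (this ▸ Finset.mem_univ x)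
    omega

theorem cls_of_side {U : Finset GolayPt} {p q q' : GolayPt} (hp : p ∈ side U q)
    (hq' : q' ∈ side U q) : (p ∈ U ∧ q ∈ U ∧ q' ∈ U) ∨ (p ∉ U ∧ q ∉ U ∧ q' ∉ U) := by
  rw [mem_side_iff] at hp hq'
  by_cases h : q ∈ U
  · left; exact ⟨hp.2 h, h, hq'.2 h⟩
  · right; exact ⟨fun h' => h (hp.1 h'), h, fun h' => h (hq'.1 h')⟩

theorem exists_move {U : Finset GolayPt} (hU : U ∈ 𝒢) {s : Finset GolayPt} (hs : s.Nonempty)
    (hs4 : s.card ≤ 4) : ∃ σ ∈ M24, σ • U = U ∧ symmDiff (σ • s) s ∉ 𝒢 := by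
  by_cases h3 : s.card ≤ 3
  · obtain ⟨q, hq⟩ := hs
    have h8 := card_side hU q
    have hne1 : (side U q \ s).Nonempty := by
      rw [← Finset.card_pos]
      have := Finset.le_card_sdiff s (side U q)
      omega
    obtain ⟨q', hq'⟩ := hne1
    rw [Finset.mem_sdiff] at hq'
    have hne2 : (side U q \ {q, q'}).Nonempty := by
      rw [← Finset.card_pos]
      have := Finset.le_card_sdiff {q, q'} (side U q)
      have h2 : ({q, q'} : Finset GolayPt).card ≤ 2 := Finset.card_le_two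
      omega
    obtain ⟨p, hp⟩ := hne2
    simp only [Finset.mem_sdiff, Finset.mem_insert, Finset.mem_singleton, not_or] at hp
    obtain ⟨σ, hσ, hσU, hσp, hσq⟩ := T2 hU (p := p) (q := q) (q' := q') hp.2.1 hp.2.2
      (cls_of_side hp.1 hq'.1)
    refine ⟨σ, hσ, hσU, not_mem_G (Finset.card_smul_finset σ s) hs4 ?_ (Or.inl h3)⟩
    intro heq
    apply hq'.2
    rw [← heq, ← hσq]
    exact Finset.smul_mem_smul_finset (a := σ) hq
  · have h4 : s.card = 4 := by omega
    -- two points of `s` on the same side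
    have hpair : ∃ p ∈ s, ∃ q ∈ s, p ≠ q ∧ p ∈ side U q := by
      have hsplit := Finset.card_sdiff_add_card_inter s U
      by_cases hin : 2 ≤ (s ∩ U).card
      · obtain ⟨p, hp, q, hq, hpq⟩ := Finset.one_lt_card.1 (by omega : 1 < (s ∩ U).card)
        rw [Finset.mem_inter] at hp hq
        refine ⟨p, hp.1, q, hq.1, hpq, ?_⟩
        rw [mem_side_iff]; exact ⟨fun _ => hq.2, fun _ => hp.2⟩
      · obtain ⟨p, hp, q, hq, hpq⟩ := Finset.one_lt_card.1 (by omega : 1 < (s \ U).card)
        rw [Finset.mem_sdiff] at hp hq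
        refine ⟨p, hp.1, q, hq.1, hpq, ?_⟩
        rw [mem_side_iff]; exact ⟨fun h => absurd h hp.2, fun h => absurd h hq.2⟩
    obtain ⟨p, hp, q, hq, hpq, hpside⟩ := hpair
    have h8 := card_side hU q
    have hne1 : (side U q \ s).Nonempty := by
      rw [← Finset.card_pos]
      have := Finset.le_card_sdiff s (side U q)
      omega
    obtain ⟨q', hq'⟩ := hne1
    rw [Finset.mem_sdiff] at hq'
    have hpq' : p ≠ q' := fun h => hq'.2 (h ▸ hp)
    obtain ⟨σ, hσ, hσU, hσp, hσq⟩ := T2 hU (p := p) (q := q) (q' := q') hpq hpq'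
      (cls_of_side hpside hq'.1)
    refine ⟨σ, hσ, hσU, not_mem_G (Finset.card_smul_finset σ s) hs4 ?_ (Or.inr ⟨p, ?_⟩)⟩
    · intro heq
      apply hq'.2
      rw [← heq, ← hσq]
      exact Finset.smul_mem_smul_finset (a := σ) hq
    · rw [Finset.mem_inter]
      refine ⟨?_, hp⟩
      rw [← hσp]
      exact Finset.smul_mem_smul_finset (a := σ) hp

/-- permuting the coordinates of an indicator word -/
theorem act_ind (σ : Equiv.Perm GolayPt) (s : Finset GolayPt) :
    (fun p => ind s (σ.symm p)) = ind (σ • s) := by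
  funext p
  unfold ind
  have : σ.symm p ∈ s ↔ p ∈ σ • s := by
    rw [← Finset.inv_smul_mem_iff]; rfl
  simp only [this]

theorem act_mem {σ : Equiv.Perm GolayPt} (hσ : σ ∈ M24) {c : V} (hc : c ∈ golayCode) :
    (fun p => c (σ.symm p)) ∈ golayCode := by
  have h1 : support₂ c ∈ 𝒢 := ⟨c, hc, rfl⟩
  have h2 := smul_mem_of_mem_M24 hσ h1
  rw [mem_supports_iff, ← act_ind, ind_support₂] at h2
  exact h2

/-- Let u be a word of the length-24 binary Golay code of the definitions (possibly zero or all-ones) and w any binary word of length 24 outside the code. Then some automorphism of the code (a coordinate permutation preserving it) fixes u but moves w to a word not congruent to w modulo the code: the stabilizer of a codeword fixes no non-zero element of the quotient of the space of all words by the code. -/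
theorem result (u : (Cfsg.GolayPt → ZMod 2)) (hu : u ∈ Cfsg.golayCode) (w : (Cfsg.GolayPt → ZMod 2)) (hw : w ∉ Cfsg.golayCode) : ∃ σ ∈ Cfsg.M24, (fun p => u (σ.symm p)) = u ∧ (fun p => w (σ.symm p)) - w ∉ Cfsg.golayCode := by
  obtain ⟨s, hs4, hs⟩ := Cfsg.Agent.S1635.exists_leader w
  have hsne : s.Nonempty := by
    rw [Finset.nonempty_iff_ne_empty]
    rintro rfl
    rw [ind_empty, sub_zero] at hs
    exact hw hs
  have hU : support₂ u ∈ 𝒢 := ⟨u, hu, rfl⟩
  obtain ⟨σ, hσ, hσU, hnot⟩ := exists_move hU hsne hs4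
  refine ⟨σ, hσ, ?_, ?_⟩
  · rw [← ind_support₂ u, act_ind, hσU]
  · intro hmem
    apply hnot
    rw [← Cfsg.Agent.S1635.ind_sub_mem_iff, ← act_ind]
    have h1 : (fun p => (w - ind s) (σ.symm p)) ∈ golayCode := act_mem hσ hs
    have h2 : (fun p => ind s (σ.symm p)) - ind s =
        ((fun p => w (σ.symm p)) - w) - ((fun p => (w - ind s) (σ.symm p)) - (w - ind s)) := by
      funext p
      simp only [Pi.sub_apply]
      ring
    rw [h2]
    exact golayCode.sub_mem hmem (golayCode.sub_mem h1 hs)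

end Cfsg.Agent.S5550
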