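import Cfsg.Statements.S5562
import Mathlib.Tactic

set_option autoImplicit false
open Cfsg

namespace Cfsg.Agent.S5562

theorem sq_one_of_conj {G : Type*} [Group G] (d : G) (hd : orderOf d = 2) (e : G) (he : e ∈ conjugatesOf d) :
    e * e = 1 := by
  have he' : IsConj d e := he
  rw [isConj_iff] at he'
  obtain ⟨g, rfl⟩ := he'
  have : d * d = 1 := by rw [← sq, ← hd, pow_orderOf_eq_one]
  calc g * d * g⁻¹ * (g * d * g⁻¹) = g * (d * d) * g⁻¹ := by group
    _ = 1 := by rw [this]; group

theorem conj_mem {G : Type*} [Group G] (d : G) (e : G) (he : e ∈ conjugatesOf d) (g : G) :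
    g * e * g⁻¹ ∈ conjugatesOf d := by
  have he' : IsConj d e := he
  show IsConj d (g * e * g⁻¹)
  exact he'.trans (isConj_iff.mpr ⟨g, rfl⟩)

theorem result {G : Type*} [Group G] [Finite G] (d : G) (hd : orderOf d = 2)
    (hodd : ∀ a ∈ conjugatesOf d, ∀ b ∈ conjugatesOf d, Odd (orderOf (a * b)))
    (x : G) (hx : orderOf x = 2) :
    ∀ e ∈ conjugatesOf d,
      ∃! a : G, a ∈ conjugatesOf d ∧ Commute a x ∧ Commute e (a * x) := by
  intro e he
  have hxx : x * x = 1 := by rw [← sq, ← hx, pow_orderOf_eq_one]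
  have hxinv : x⁻¹ = x := inv_eq_of_mul_eq_one_right hxx
  have hee : e * e = 1 := sq_one_of_conj d hd e he
  have heinv : e⁻¹ = e := inv_eq_of_mul_eq_one_right hee
  set f := x * e * x with hf
  have hfD : f ∈ conjugatesOf d := by
    have := conj_mem d e he x
    rwa [hxinv] at this
  have hff : f * f = 1 := sq_one_of_conj d hd f hfD
  have hfinv : f⁻¹ = f := inv_eq_of_mul_eq_one_right hff
  set u := e * f with hu
  have huinv : u⁻¹ = f * e := by rw [hu, mul_inv_rev, heinv, hfinv]
  obtain ⟨j, hj⟩ := hodd e he f hfD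
  have hun : u ^ (2 * j + 1) = 1 := by rw [← hj]; exact pow_orderOf_eq_one u
  -- e inverts u
  have heu : e * u * e⁻¹ = u⁻¹ := by
    rw [huinv, hu, heinv]
    calc e * (e * f) * e = (e * e) * f * e := by group
      _ = f * e := by rw [hee, one_mul]
  have hxu : x * u * x⁻¹ = u⁻¹ := by
    rw [huinv, hu, hxinv, hf]
    calc x * (e * (x * e * x)) * x = x * e * x * e * (x * x) := by group
      _ = x * e * x * e := by rw [hxx, mul_one]
  have heuk : ∀ k : ℕ, e * u ^ k = (u ^ k)⁻¹ * e := by
    intro k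
    have h1 : e * u ^ k * e⁻¹ = (u ^ k)⁻¹ := by rw [← conj_pow, heu, inv_pow]
    calc e * u ^ k = (e * u ^ k * e⁻¹) * e := by group
      _ = (u ^ k)⁻¹ * e := by rw [h1]
  have hxuk : ∀ k : ℕ, x * u ^ k = (u ^ k)⁻¹ * x := by
    intro k
    have h1 : x * u ^ k * x⁻¹ = (u ^ k)⁻¹ := by rw [← conj_pow, hxu, inv_pow]
    calc x * u ^ k = (x * u ^ k * x⁻¹) * x := by group
      _ = (u ^ k)⁻¹ * x := by rw [h1]
  -- the candidate
  set a₁ := u ^ j * e with ha₁
  have hu2j : u ^ j * u ^ j = u⁻¹ := by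
    have : u ^ j * u ^ j * u = 1 := by
      rw [← pow_add, ← pow_succ, ← two_mul]; exact hun
    exact eq_inv_of_mul_eq_one_left this
  have ha₁sq : a₁ * a₁ = 1 := by
    rw [ha₁]
    calc u ^ j * e * (u ^ j * e) = u ^ j * (e * u ^ j) * e := by group
      _ = u ^ j * ((u ^ j)⁻¹ * e) * e := by rw [heuk j]
      _ = e * e := by group
      _ = 1 := hee
  have ha₁inv : a₁⁻¹ = a₁ := inv_eq_of_mul_eq_one_right ha₁sq
  have ha₁e : a₁ * e * a₁ = f := by
    have hfe : f = u⁻¹ * e := by
      rw [huinv, mul_assoc, hee, mul_one]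
    rw [ha₁]
    calc u ^ j * e * e * (u ^ j * e) = u ^ j * (e * e) * (u ^ j * e) := by group
      _ = u ^ j * u ^ j * e := by rw [hee]; group
      _ = u⁻¹ * e := by rw [hu2j]
      _ = f := hfe.symm
  have ha₁f : a₁ * f * a₁ = e := by
    rw [← ha₁e]
    calc a₁ * (a₁ * e * a₁) * a₁ = (a₁ * a₁) * e * (a₁ * a₁) := by group
      _ = e := by rw [ha₁sq]; group
  have ha₁x : a₁ * x = x * a₁ := by
    have hfe : f = u⁻¹ * e := by
      rw [huinv, mul_assoc, hee, mul_one]
    have hxe : x * e = f * x := by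
      rw [hf]
      calc x * e = x * e * (x * x) := by rw [hxx, mul_one]
        _ = x * e * x * x := by group
    have h3 : (u ^ j)⁻¹ * u⁻¹ = u ^ j := by
      rw [← hu2j]; group
    symm
    rw [ha₁]
    calc x * (u ^ j * e) = (x * u ^ j) * e := by group
      _ = (u ^ j)⁻¹ * x * e := by rw [hxuk j]
      _ = (u ^ j)⁻¹ * (x * e) := by group
      _ = (u ^ j)⁻¹ * (f * x) := by rw [hxe]
      _ = (u ^ j)⁻¹ * (u⁻¹ * e * x) := by rw [hfe]
      _ = ((u ^ j)⁻¹ * u⁻¹) * e * x := by group
      _ = u ^ j * e * x := by rw [h3]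
  have ha₁D : a₁ ∈ conjugatesOf d := by
    -- a₁ = u^i e u^{-i}, i = j (j+1)
    have hpow : u ^ (j * (j + 1)) * u ^ (j * (j + 1)) = u ^ j := by
      rw [← pow_add]
      have : j * (j + 1) + j * (j + 1) = (2 * j + 1) * j + j := by ring
      rw [this, pow_add, pow_mul, hun, one_pow, one_mul]
    have : a₁ = u ^ (j * (j + 1)) * e * (u ^ (j * (j + 1)))⁻¹ := by
      rw [ha₁]
      have h1 := heuk (j * (j + 1))
      have h2 : e * (u ^ (j * (j + 1)))⁻¹ = u ^ (j * (j + 1)) * e := by
        calc e * (u ^ (j * (j + 1)))⁻¹ = (u ^ (j * (j + 1))) * ((u ^ (j * (j + 1)))⁻¹ * e) * (u ^ (j * (j + 1)))⁻¹ := by group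
          _ = (u ^ (j * (j + 1))) * (e * u ^ (j * (j + 1))) * (u ^ (j * (j + 1)))⁻¹ := by rw [h1]
          _ = u ^ (j * (j + 1)) * e := by group
      calc u ^ j * e = u ^ (j * (j + 1)) * u ^ (j * (j + 1)) * e := by rw [hpow]
        _ = u ^ (j * (j + 1)) * (u ^ (j * (j + 1)) * e) := by group
        _ = u ^ (j * (j + 1)) * (e * (u ^ (j * (j + 1)))⁻¹) := by rw [h2]
        _ = u ^ (j * (j + 1)) * e * (u ^ (j * (j + 1)))⁻¹ := by group
    rw [this]
    exact conj_mem d e he _
  have hcomm₁ : e * (a₁ * x) = (a₁ * x) * e := by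
    have : a₁ * x * e * x * a₁ = e := by
      calc a₁ * x * e * x * a₁ = a₁ * (x * e * x) * a₁ := by group
        _ = e := ha₁f
    calc e * (a₁ * x) = (a₁ * x * e * x * a₁) * (a₁ * x) := by rw [this]
      _ = a₁ * x * e * (x * (a₁ * a₁) * x) := by group
      _ = a₁ * x * e := by rw [ha₁sq, mul_one, hxx, mul_one]
  refine ⟨a₁, ⟨ha₁D, ha₁x, hcomm₁⟩, ?_⟩
  rintro a ⟨haD, hax, hae⟩
  have haa : a * a = 1 := sq_one_of_conj d hd a haD
  have hainv : a⁻¹ = a := inv_eq_of_mul_eq_one_right haa
  have hax' : a * x = x * a := hax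
  have hae' : e * (a * x) = (a * x) * e := hae
  -- a e a = f
  have haea : a * e * a = f := by
    rw [hf]
    calc a * e * a = a * (e * (a * x)) * x := by
            calc a * e * a = a * e * a * (x * x) := by rw [hxx, mul_one]
              _ = a * (e * (a * x)) * x := by group
      _ = a * ((a * x) * e) * x := by rw [hae']
      _ = (a * a) * x * e * x := by group
      _ = x * e * x := by rw [haa, one_mul]
  have hafa : a * f * a = e := by
    rw [← haea]
    calc a * (a * e * a) * a = (a * a) * e * (a * a) := by group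
      _ = e := by rw [haa]; group
  -- t = a a₁ commutes with e and f
  set t := a * a₁ with ht
  have hte : t * e = e * t := by
    rw [ht]
    calc a * a₁ * e = a * (a₁ * e * a₁) * a₁ := by
            calc a * a₁ * e = a * a₁ * e * (a₁ * a₁) := by rw [ha₁sq, mul_one]
              _ = a * (a₁ * e * a₁) * a₁ := by group
      _ = a * f * a₁ := by rw [ha₁e]
      _ = (a * f * a) * a * a₁ := by
            calc a * f * a₁ = a * f * (a * a) * a₁ := by rw [haa, mul_one]
              _ = (a * f * a) * a * a₁ := by group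
      _ = e * (a * a₁) := by rw [hafa]; group
  have htf : t * f = f * t := by
    rw [ht]
    calc a * a₁ * f = a * (a₁ * f * a₁) * a₁ := by
            calc a * a₁ * f = a * a₁ * f * (a₁ * a₁) := by rw [ha₁sq, mul_one]
              _ = a * (a₁ * f * a₁) * a₁ := by group
      _ = a * e * a₁ := by rw [ha₁f]
      _ = (a * e * a) * a * a₁ := by
            calc a * e * a₁ = a * e * (a * a) * a₁ := by rw [haa, mul_one]
              _ = (a * e * a) * a * a₁ := by group
      _ = f * (a * a₁) := by rw [haea]; group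
  have htu : t * u = u * t := by
    rw [hu]
    calc t * (e * f) = (t * e) * f := by group
      _ = e * (t * f) := by rw [hte]; group
      _ = e * f * t := by rw [htf]; group
  have htuj : t * u ^ j = u ^ j * t := by
    have : Commute t u := htu
    exact this.pow_right j
  have hta₁ : t * a₁ = a₁ * t := by
    rw [ha₁]
    calc t * (u ^ j * e) = (t * u ^ j) * e := by group
      _ = u ^ j * (t * e) := by rw [htuj]; group
      _ = u ^ j * e * t := by rw [hte]; group
  -- hence a commutes with a₁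
  have haa₁ : a * a₁ = a₁ * a := by
    have h1 : a * a₁ * a₁ = a₁ * (a * a₁) := hta₁
    calc a * a₁ = (a₁ * (a * a₁)) * a₁ := by rw [← h1]; rw [mul_assoc (a * a₁), ha₁sq, mul_one]
      _ = a₁ * a * (a₁ * a₁) := by group
      _ = a₁ * a := by rw [ha₁sq, mul_one]
  have htt : t * t = 1 := by
    rw [ht]
    calc a * a₁ * (a * a₁) = a * (a₁ * a) * a₁ := by group
      _ = a * (a * a₁) * a₁ := by rw [haa₁]
      _ = (a * a) * (a₁ * a₁) := by group
      _ = 1 := by rw [haa, ha₁sq, one_mul]
  have ht1 : t = 1 := by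
    have hoddt : Odd (orderOf t) := hodd a haD a₁ ha₁D
    have hdvd : orderOf t ∣ 2 := orderOf_dvd_of_pow_eq_one (by rw [sq]; exact htt)
    have : orderOf t = 1 := by
      rcases (Nat.dvd_prime Nat.prime_two).mp hdvd with h | h
      · exact h
      · rw [h] at hoddt; exact absurd hoddt (by decide)
    exact orderOf_eq_one_iff.mp this
  calc a = a * (a₁ * a₁) := by rw [ha₁sq, mul_one]
    _ = (a * a₁) * a₁ := by group
    _ = a₁ := by rw [← ht, ht1, one_mul]

end Cfsg.Agent.S5562
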