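import Cfsg.Statements.S5594
import Mathlib
import Cfsg.Agent.Lib.Helper1_Co0
import Cfsg.Agent.Lib.Helper1_M12

set_option autoImplicit false
open Cfsg
open scoped Pointwise
open Cfsg.Agent.Lib.Helper1_Chain Cfsg.Agent.Lib.Helper1_Golay Cfsg.Agent.Lib.Helper1_Co0

namespace Cfsg.Agent.S5594

/-- an involution of `M24` interchanging the reference dodecad with its complement -/
def tsw : List ℕ := [11, 19, 13, 7, 12, 18, 21, 3, 16, 20, 14, 0, 4, 2, 10, 23, 8, 22, 5, 1, 9, 6, 17, 15]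

set_option maxRecDepth 1000000 in
theorem tsw_good : GoodTable tsw ∧ (∀ p, tfun tsw (tfun tsw p) = p) ∧
    (∀ p, d0.testBit (idx p) = !(d0.testBit (idx (tfun tsw p)))) := by
  decide +kernel

theorem exists_swap : ∃ g ∈ M24, (∀ p, g (g p) = p) ∧ ∀ p, (p ∈ maskSet d0 ↔ g p ∉ maskSet d0) := by
  obtain ⟨hgood, hinv, hsw⟩ := tsw_good
  obtain ⟨σ, hσ, hσt⟩ := exists_perm_of_good hgood
  refine ⟨σ, hσ, fun p => by rw [hσt, hσt, hinv], fun p => ?_⟩
  rw [mem_maskSet, mem_maskSet, hσt, hsw p]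
  cases d0.testBit (idx (tfun tsw p)) <;> simp

theorem d0_mem : maskSet d0 ∈ supports (golayCode : Set (GolayPt → ZMod 2)) := d0_dodecad.1

theorem negCo_sq : negCo * negCo = 1 := by
  apply Subtype.ext
  apply Equiv.ext
  intro v
  show negCo • (negCo • v) = v
  rw [negCo_smul', negCo_smul', neg_neg]

/-- statement -/
theorem result :
    ∃ n : ↥Cfsg.Co0, (∀ v : ↥Cfsg.leechLattice, ((n • v : ↥Cfsg.leechLattice) : Cfsg.GolayPt → ℤ) = -(v : Cfsg.GolayPt → ℤ)) ∧
    ∀ K : Subgroup ↥Cfsg.Co0, ¬ (Subgroup.zpowers n).IsComplement' K := by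
  refine ⟨negCo, negCo_smul, ?_⟩
  intro K hK
  obtain ⟨g, hg, hgg, hgd⟩ := exists_swap
  set h : ↥Co0 := monoCo g hg (maskSet d0) d0_mem with hh
  -- `h` squares to the negation
  have hsq : h * h = negCo := by
    apply Subtype.ext
    apply Equiv.ext
    intro v
    apply Subtype.ext
    show ((h • (h • v) : ↥leechLattice) : GolayPt → ℤ) = ((negCo • v : ↥leechLattice) : GolayPt → ℤ)
    rw [negCo_smul, hh, monoCo_smul, monoCo_smul]
    funext i
    unfold signedPerm
    have hsymm : ∀ j, g.symm j = g j := by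
      intro j
      rw [Equiv.symm_apply_eq, hgg]
    simp only [hsymm, hgg, Pi.neg_apply]
    by_cases hi : i ∈ maskSet d0
    · have : g i ∉ maskSet d0 := (hgd i).1 hi
      simp only [hi, this, if_true, if_false]
    · have : g i ∈ maskSet d0 := by
        by_contra hcon
        exact hi ((hgd i).2 hcon)
      simp only [hi, this, if_true, if_false]
  -- decompose `h`
  obtain ⟨⟨z, k⟩, hzk, -⟩ := hK.existsUnique h
  simp only at hzk
  have hzc : ∀ x : ↥Co0, x * z.1 = z.1 * x := by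
    intro x
    obtain ⟨j, hj⟩ := Subgroup.mem_zpowers_iff.1 z.2
    rw [← hj]
    have : Commute x negCo := negCo_comm x
    exact (this.zpow_right j).eq
  have hzz : z.1 * z.1 = 1 := by
    obtain ⟨j, hj⟩ := Subgroup.mem_zpowers_iff.1 z.2
    rw [← hj, ← zpow_add, ← two_mul, zpow_mul, zpow_two, negCo_sq, one_zpow]
  have hkk : negCo = k.1 * k.1 := by
    rw [← hsq, ← hzk]
    calc z.1 * k.1 * (z.1 * k.1) = z.1 * (k.1 * z.1) * k.1 := by group
      _ = z.1 * (z.1 * k.1) * k.1 := by rw [hzc k.1]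
      _ = (z.1 * z.1) * (k.1 * k.1) := by group
      _ = k.1 * k.1 := by rw [hzz, one_mul]
  have h1 : negCo ∈ K := by rw [hkk]; exact K.mul_mem k.2 k.2
  have h2 : negCo ∈ Subgroup.zpowers negCo := Subgroup.mem_zpowers negCo
  exact negCo_ne_one (Subgroup.disjoint_def.1 hK.disjoint h2 h1)

end Cfsg.Agent.S5594
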