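import Cfsg.Statements.S5599
import Mathlib
import Cfsg.Agent.Lib.Helper1_M22

set_option autoImplicit false
open Cfsg
open scoped Pointwise
open Cfsg.Agent.Lib.Helper1_Chain Cfsg.Agent.Lib.Helper1_Golay

namespace Cfsg.Agent.S5599

theorem mem_M22_iff (x : Equiv.Perm GolayPt) :
    x ∈ Cfsg.Spor.M22 ↔ x ∈ M24 ∧ x none = none ∧ x (some 0) = some 0 := by
  unfold Cfsg.Spor.M22 Cfsg.Spor.M23
  simp only [Subgroup.mem_inf, MulAction.mem_stabilizer_iff, Equiv.Perm.smul_def, and_assoc]

theorem mem_K_iff (x : Equiv.Perm GolayPt) :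
    x ∈ Cfsg.M24 ⊓ MulAction.stabilizer (Equiv.Perm Cfsg.GolayPt) ({none, some 0} : Finset Cfsg.GolayPt)
      ↔ x ∈ M24 ∧ ((x none = none ∧ x (some 0) = some 0) ∨ (x none = some 0 ∧ x (some 0) = none)) := by
  rw [Subgroup.mem_inf]
  constructor
  · rintro ⟨hx, hs'⟩
    have hs : x • ({none, some 0} : Finset GolayPt) = {none, some 0} :=
      MulAction.mem_stabilizer_iff.1 hs'
    refine ⟨hx, ?_⟩
    have h1 : x none ∈ ({none, some 0} : Finset GolayPt) := by
      rw [← hs]
      exact Finset.smul_mem_smul_finset (a := x) (Finset.mem_insert_self _ _)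
    have h2 : x (some 0) ∈ ({none, some 0} : Finset GolayPt) := by
      rw [← hs]
      exact Finset.smul_mem_smul_finset (a := x)
        (Finset.mem_insert_of_mem (Finset.mem_singleton_self _))
    have hne : x none ≠ x (some 0) := fun h => by
      have := x.injective h
      exact absurd this (by decide)
    simp only [Finset.mem_insert, Finset.mem_singleton] at h1 h2
    rcases h1 with h1 | h1 <;> rcases h2 with h2 | h2
    · exact absurd (h1.trans h2.symm) hne
    · left; exact ⟨h1, h2⟩
    · right; exact ⟨h1, h2⟩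
    · exact absurd (h1.trans h2.symm) hne
  · rintro ⟨hx, h⟩
    refine ⟨hx, MulAction.mem_stabilizer_iff.2 ?_⟩
    have : x • ({none, some 0} : Finset GolayPt) = {x none, x (some 0)} := by
      rw [Finset.smul_finset_insert, Finset.smul_finset_singleton]
      rfl
    rw [this]
    rcases h with ⟨h1, h2⟩ | ⟨h1, h2⟩
    · rw [h1, h2]
    · rw [h1, h2, Finset.pair_comm]

theorem exists_fifth (a b c d : GolayPt) : ∃ q : GolayPt, q ≠ a ∧ q ≠ b ∧ q ≠ c ∧ q ≠ d := by
  by_contra hcon
  push Not at hcon
  have h : ({a, b, c, d} : Finset GolayPt) = Finset.univ := by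
    apply Finset.eq_univ_iff_forall.2
    intro q
    simp only [Finset.mem_insert, Finset.mem_singleton]
    by_cases h1 : q = a
    · left; exact h1
    · by_cases h2 : q = b
      · right; left; exact h2
      · by_cases h3 : q = c
        · right; right; left; exact h3
        · right; right; right; exact hcon q h1 h2 h3
  have hc : ({a, b, c, d} : Finset GolayPt).card ≤ 4 := Finset.card_le_four
  rw [h, Finset.card_univ] at hc
  have : Fintype.card GolayPt = 24 := by decide
  omega

/-- In the automorphism group of the length-24 code, the two-point Mathieu group (permutations of the code's group fixing the extra point and the residue 0) has index 2 in the setwise stabiliser of that pair of points, and an element of the code's group interchanging the two points normalises the two-point group and induces on it, by conjugation, an automorphism that is not inner. -/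
theorem result (g : Equiv.Perm Cfsg.GolayPt) (hg : g ∈ Cfsg.M24) (h₁ : g none = some 0) (h₂ : g (some 0) = none) : Cfsg.Spor.M22.relIndex (Cfsg.M24 ⊓ MulAction.stabilizer (Equiv.Perm Cfsg.GolayPt) ({none, some 0} : Finset Cfsg.GolayPt)) = 2 ∧ (∀ x ∈ Cfsg.Spor.M22, g * x * g⁻¹ ∈ Cfsg.Spor.M22) ∧ ¬ ∃ h ∈ Cfsg.Spor.M22, ∀ x ∈ Cfsg.Spor.M22, g * x * g⁻¹ = h * x * h⁻¹ := by
  have hg1 : g⁻¹ none = some 0 := by rw [Equiv.Perm.inv_eq_iff_eq]; exact h₂.symm
  have hg2 : g⁻¹ (some 0) = none := by rw [Equiv.Perm.inv_eq_iff_eq]; exact h₁.symm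
  refine ⟨?_, ?_, ?_⟩
  · rw [Subgroup.relIndex_eq_two_iff]
    refine ⟨g, (mem_K_iff g).2 ⟨hg, Or.inr ⟨h₁, h₂⟩⟩, ?_⟩
    intro b hb
    obtain ⟨hb24, hb'⟩ := (mem_K_iff b).1 hb
    rcases hb' with ⟨b1, b2⟩ | ⟨b1, b2⟩
    · right
      refine ⟨(mem_M22_iff b).2 ⟨hb24, b1, b2⟩, ?_⟩
      intro h
      have := ((mem_M22_iff _).1 h).2.1
      rw [Equiv.Perm.mul_apply, h₁, b2] at this
      exact absurd this (by decide)
    · left
      refine ⟨(mem_M22_iff _).2 ⟨M24.mul_mem hb24 hg, ?_, ?_⟩, ?_⟩
      · rw [Equiv.Perm.mul_apply, h₁, b2]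
      · rw [Equiv.Perm.mul_apply, h₂, b1]
      · intro h
        have := ((mem_M22_iff _).1 h).2.1
        rw [b1] at this
        exact absurd this (by decide)
  · intro x hx
    obtain ⟨hx24, x1, x2⟩ := (mem_M22_iff x).1 hx
    refine (mem_M22_iff _).2 ⟨M24.mul_mem (M24.mul_mem hg hx24) (M24.inv_mem hg), ?_, ?_⟩
    · rw [Equiv.Perm.mul_apply, Equiv.Perm.mul_apply, hg1, x2, h₂]
    · rw [Equiv.Perm.mul_apply, Equiv.Perm.mul_apply, hg2, x1, h₁]
  · rintro ⟨h, hh, hconj⟩
    obtain ⟨hh24, hh1, hh2⟩ := (mem_M22_iff h).1 hh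
    have hi1 : h⁻¹ none = none := by rw [Equiv.Perm.inv_eq_iff_eq]; exact hh1.symm
    have hi2 : h⁻¹ (some 0) = some 0 := by rw [Equiv.Perm.inv_eq_iff_eq]; exact hh2.symm
    obtain ⟨c, hc⟩ : ∃ c, c = h⁻¹ * g := ⟨_, rfl⟩
    have hc24 : c ∈ M24 := by rw [hc]; exact M24.mul_mem (M24.inv_mem hh24) hg
    have hc1 : c none = some 0 := by rw [hc, Equiv.Perm.mul_apply, h₁, hi2]
    have hc2 : c (some 0) = none := by rw [hc, Equiv.Perm.mul_apply, h₂, hi1]
    have hcomm : ∀ x ∈ Cfsg.Spor.M22, c * x = x * c := by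
      intro x hx
      have := hconj x hx
      rw [hc]
      calc h⁻¹ * g * x = h⁻¹ * (g * x * g⁻¹) * g := by group
        _ = h⁻¹ * (h * x * h⁻¹) * g := by rw [this]
        _ = x * (h⁻¹ * g) := by group
    have hfix : ∀ p : GolayPt, p ≠ none → p ≠ some 0 → c p = p := by
      intro p hp1 hp2
      by_contra hne
      have hq1 : c p ≠ none := by
        intro h'
        have := c.injective (h'.trans hc2.symm)
        exact hp2 this
      have hq2 : c p ≠ some 0 := by
        intro h'
        have := c.injective (h'.trans hc1.symm)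
        exact hp1 this
      obtain ⟨q, hqa, hqb, hqc, hqd⟩ := exists_fifth none (some 0) p (c p)
      obtain ⟨x, hx24, xa, xb, xc, xd⟩ := exists_map_four (a := none) (b := some 0) (c := p)
        (d := c p) (a' := none) (b' := some 0) (c' := p) (d' := q) (by decide) (Ne.symm hp1)
        (Ne.symm hq1) (Ne.symm hp2) (Ne.symm hq2) (Ne.symm hne) (by decide) (Ne.symm hp1)
        (Ne.symm hqa) (Ne.symm hp2) (Ne.symm hqb) (Ne.symm hqc)
      have hxM : x ∈ Cfsg.Spor.M22 := (mem_M22_iff x).2 ⟨hx24, xa, xb⟩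
      have h1 := congrArg (fun y : Equiv.Perm GolayPt => y p) (hcomm x hxM)
      simp only [Equiv.Perm.mul_apply] at h1
      rw [xc, xd] at h1
      exact hqd h1.symm
    have h9 : 9 ≤ (Finset.univ.filter (fun x => c x = x)).card := by
      have hsub : (Finset.univ \ ({none, some 0} : Finset GolayPt)) ⊆
          Finset.univ.filter (fun x => c x = x) := by
        intro p hp
        simp only [Finset.mem_sdiff, Finset.mem_univ, true_and, Finset.mem_insert,
          Finset.mem_singleton, not_or] at hp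
        simp only [Finset.mem_filter, Finset.mem_univ, true_and]
        exact hfix p hp.1 hp.2
      have hcard : (Finset.univ \ ({none, some 0} : Finset GolayPt)).card = 22 := by decide
      have := Finset.card_le_card hsub
      omega
    have hone := eq_one_of_nine_fixed hc24 h9
    rw [hone] at hc1
    exact absurd hc1 (by decide)

end Cfsg.Agent.S5599
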