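import Cfsg.Statements.S5601
import Mathlib
import Cfsg.Agent.Lib.Helper1_Ord3
import Cfsg.Agent.S5394

set_option autoImplicit false
open Cfsg
open scoped Pointwise
open Cfsg.Agent.Lib.Helper1_Golay Cfsg.Agent.Lib.Helper1_Chain Cfsg.Agent.Lib.Helper1_Inv
open Cfsg.Agent.Lib.Helper1_Ord3

namespace Cfsg.Agent.S5601

theorem exists_gen {X : Subgroup ↥M24} (hX : Nat.card X = 3) :
    ∃ x : ↥M24, orderOf x = 3 ∧ X = Subgroup.zpowers x := by
  haveI : Fact (Nat.Prime 3) := ⟨by norm_num⟩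
  have hc : IsCyclic X := isCyclic_of_prime_card hX
  obtain ⟨g, hg⟩ := hc.exists_generator
  refine ⟨g.1, ?_, ?_⟩
  · rw [Subgroup.orderOf_coe, orderOf_eq_card_of_forall_mem_zpowers hg, hX]
  · ext y
    constructor
    · intro hy
      obtain ⟨n, hn⟩ := Subgroup.mem_zpowers_iff.1 (hg ⟨y, hy⟩)
      rw [Subgroup.mem_zpowers_iff]
      refine ⟨n, ?_⟩
      have := congrArg Subtype.val hn
      simpa using this
    · intro hy
      obtain ⟨n, rfl⟩ := Subgroup.mem_zpowers_iff.1 hy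
      exact X.zpow_mem g.2 n

theorem fixed_zpowers (x : ↥M24) :
    {p : GolayPt | ∀ y ∈ Subgroup.zpowers x, ((y : ↥M24) : Equiv.Perm GolayPt) p = p} =
      {p | (x : Equiv.Perm GolayPt) p = p} := by
  ext p
  constructor
  · intro h
    exact h x (Subgroup.mem_zpowers x)
  · intro h y hy
    obtain ⟨n, rfl⟩ := Subgroup.mem_zpowers_iff.1 hy
    rw [Subgroup.coe_zpow]
    exact Equiv.Perm.zpow_apply_eq_self_of_apply_eq_self h n

theorem fix_ncard_A {g k : Equiv.Perm GolayPt} (h : ∀ p, (k * g * k⁻¹) p = tfun repA3 p) :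
    {p | g p = p}.ncard = 6 := by
  have : {p | g p = p} = ↑(k⁻¹ • maskSet 46176) := by
    ext p
    rw [Set.mem_ofPred_eq, Cfsg.Agent.S5394.fixed_of_conj h, repA3_fix, Finset.mem_coe,
      Finset.mem_inv_smul_finset_iff, mem_maskSet]
    rfl
  rw [this, Set.ncard_coe_finset, Finset.card_smul_finset, card_maskSet, repA3_card]

theorem fix_ncard_B {g k : Equiv.Perm GolayPt} (h : ∀ p, (k * g * k⁻¹) p = tfun repB3 p) :
    {p | g p = p}.ncard = 0 := by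
  have : {p | g p = p} = ∅ := by
    ext p
    simp only [Set.mem_ofPred_eq, Set.mem_empty_iff_false, iff_false]
    intro hp
    exact repB3_free (k p) ((Cfsg.Agent.S5394.fixed_of_conj h p).1 hp)
  rw [this, Set.ncard_empty]

theorem order_three_of_table {r : List ℕ} {σ : Equiv.Perm GolayPt} (hσM : σ ∈ M24)
    (hσ : ∀ p, σ p = tfun r p) (hord : IsOrd3T r) (hne : ∃ p, tfun r p ≠ p) :
    orderOf (⟨σ, hσM⟩ : ↥M24) = 3 := by
  rw [← Subgroup.orderOf_coe]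
  show orderOf σ = 3
  haveI : Fact (Nat.Prime 3) := ⟨by norm_num⟩
  apply orderOf_eq_prime
  · ext p
    rw [pow_succ, pow_two, Equiv.Perm.mul_apply, Equiv.Perm.mul_apply, hσ, hσ, hσ, hord p]
    rfl
  · intro h
    obtain ⟨p, hp⟩ := hne
    apply hp
    rw [← hσ, h]
    rfl

set_option maxRecDepth 1000000 in
theorem repA3_moves : tfun repA3 (bpt 0) ≠ bpt 0 := by decide +kernel

theorem conj_zpowers {x y k : ↥M24} (h : k * x * k⁻¹ = y) :
    MulAut.conj k • Subgroup.zpowers x = Subgroup.zpowers y := by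
  have h1 : MulAut.conj k • Subgroup.zpowers x =
      Subgroup.map (MulAut.conj k).toMonoidHom (Subgroup.zpowers x) := rfl
  rw [h1, MonoidHom.map_zpowers, ← h]
  rfl

theorem result : (∀ X : Subgroup ↥Cfsg.M24, Nat.card X = 3 → {p : Cfsg.GolayPt | ∀ x ∈ X, ((x : ↥Cfsg.M24) : Equiv.Perm Cfsg.GolayPt) p = p}.ncard = 6 ∨ {p : Cfsg.GolayPt | ∀ x ∈ X, ((x : ↥Cfsg.M24) : Equiv.Perm Cfsg.GolayPt) p = p}.ncard = 0) ∧ (∃ X : Subgroup ↥Cfsg.M24, Nat.card X = 3 ∧ {p : Cfsg.GolayPt | ∀ x ∈ X, ((x : ↥Cfsg.M24) : Equiv.Perm Cfsg.GolayPt) p = p}.ncard = 6) ∧ (∃ X : Subgroup ↥Cfsg.M24, Nat.card X = 3 ∧ {p : Cfsg.GolayPt | ∀ x ∈ X, ((x : ↥Cfsg.M24) : Equiv.Perm Cfsg.GolayPt) p = p}.ncard = 0) ∧ ∀ X Y : Subgroup ↥Cfsg.M24, Nat.card X = 3 → Nat.card Y = 3 → {p : Cfsg.GolayPt | ∀ x ∈ X, ((x : ↥Cfsg.M24) : Equiv.Perm Cfsg.GolayPt) p = p}.ncard = {p : Cfsg.GolayPt | ∀ x ∈ Y, ((x : ↥Cfsg.M24) : Equiv.Perm Cfsg.GolayPt)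 p = p}.ncard → ∃ k : ↥Cfsg.M24, MulAut.conj k • X = Y := by
  have hord : ∀ x : ↥M24, orderOf x = 3 → orderOf (x : Equiv.Perm GolayPt) = 3 := by
    intro x hx
    rw [Subgroup.orderOf_coe, hx]
  refine ⟨?_, ?_, ?_, ?_⟩
  · intro X hX
    obtain ⟨x, hx, rfl⟩ := exists_gen hX
    rw [fixed_zpowers]
    obtain ⟨k, hk, h | h⟩ := normal_form3 x.2 (hord x hx)
    · exact Or.inl (fix_ncard_A h)
    · exact Or.inr (fix_ncard_B h)
  · obtain ⟨σ, hσ, hσt⟩ := exists_perm_of_good rep3_good.1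
    have h3 := order_three_of_table hσ hσt rep3_ord.1 ⟨_, repA3_moves⟩
    refine ⟨Subgroup.zpowers ⟨σ, hσ⟩, by rw [Nat.card_zpowers, h3], ?_⟩
    rw [fixed_zpowers]
    have : ∀ p, ((1 : Equiv.Perm GolayPt) * σ * 1⁻¹) p = tfun repA3 p := by
      intro p; simp [hσt]
    exact fix_ncard_A this
  · obtain ⟨σ, hσ, hσt⟩ := exists_perm_of_good rep3_good.2
    have h3 := order_three_of_table hσ hσt rep3_ord.2 ⟨bpt 0, repB3_free _⟩
    refine ⟨Subgroup.zpowers ⟨σ, hσ⟩, by rw [Nat.card_zpowers, h3], ?_⟩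
    rw [fixed_zpowers]
    have : ∀ p, ((1 : Equiv.Perm GolayPt) * σ * 1⁻¹) p = tfun repB3 p := by
      intro p; simp [hσt]
    exact fix_ncard_B this
  · intro X Y hX hY hXY
    obtain ⟨x, hx, rfl⟩ := exists_gen hX
    obtain ⟨y, hy, rfl⟩ := exists_gen hY
    rw [fixed_zpowers, fixed_zpowers] at hXY
    have key : ∀ (kx ky : Equiv.Perm GolayPt) (hkx : kx ∈ M24) (hky : ky ∈ M24) (r : List ℕ),
        (∀ p, (kx * x.1 * kx⁻¹) p = tfun r p) → (∀ p, (ky * y.1 * ky⁻¹) p = tfun r p) →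
        ∃ k : ↥M24, MulAut.conj k • Subgroup.zpowers x = Subgroup.zpowers y := by
      intro kx ky hkx hky r h1 h2
      refine ⟨⟨ky⁻¹ * kx, M24.mul_mem (M24.inv_mem hky) hkx⟩, ?_⟩
      apply conj_zpowers
      apply Subtype.ext
      show ky⁻¹ * kx * x.1 * (ky⁻¹ * kx)⁻¹ = y.1
      have : kx * x.1 * kx⁻¹ = ky * y.1 * ky⁻¹ := Equiv.ext fun p => by rw [h1, h2]
      calc ky⁻¹ * kx * x.1 * (ky⁻¹ * kx)⁻¹ = ky⁻¹ * (kx * x.1 * kx⁻¹) * ky := by group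
        _ = ky⁻¹ * (ky * y.1 * ky⁻¹) * ky := by rw [this]
        _ = y.1 := by group
    obtain ⟨kx, hkx, hA | hB⟩ := normal_form3 x.2 (hord x hx) <;>
    obtain ⟨ky, hky, hA' | hB'⟩ := normal_form3 y.2 (hord y hy)
    · exact key kx ky hkx hky _ hA hA'
    · exfalso
      rw [fix_ncard_A hA, fix_ncard_B hB'] at hXY
      exact absurd hXY (by decide)
    · exfalso
      rw [fix_ncard_B hB, fix_ncard_A hA'] at hXY
      exact absurd hXY (by decide)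
    · exact key kx ky hkx hky _ hB hB'

end Cfsg.Agent.S5601
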