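import Cfsg.Statements.S5602
import Mathlib
import Cfsg.Agent.Lib.Helper1_InvCount
import Cfsg.Agent.Lib.Helper1_Ord3
import Cfsg.Agent.S5394

set_option autoImplicit false
open Cfsg
open scoped Pointwise
open Cfsg.Agent.Lib.Helper1_Golay Cfsg.Agent.Lib.Helper1_Chain Cfsg.Agent.Lib.Helper1_Inv
open Cfsg.Agent.Lib.Helper1_InvCount Cfsg.Agent.Lib.Helper1_Ord3 Cfsg.Agent.Lib.Helper1_Cert

namespace Cfsg.Agent.S5602

set_option maxRecDepth 1000000 in
theorem validA3 : ValidTable repA3 := by decide +kernel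

set_option maxRecDepth 1000000 in
theorem countsA3 : counts repA3 = (21, 15, 16) := by decide +kernel

/-- the fixed dodecad masks -/
def fixedDod (r : List ℕ) : List ℕ :=
  (allWords rows).filter fun n => decide (imgL r n = n) && decide (popc n = 12)

set_option maxRecDepth 1000000 in
theorem len_fixedDod : (fixedDod repA3).length = 20 := by decide +kernel

theorem dodecads_eq : dodecads = maskSet '' {n | n ∈ (allWords rows).filter (fun n => popc n = 12)} := by
  have h := wordsOfWeight_eq 12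
  have h2 : (fun n => support₂ (natWord n)) = maskSet := by
    funext n
    exact (maskSet_eq_support₂ n).symm
  rw [h2] at h
  exact h

theorem ncard_fixed_dodecads {r : List ℕ} (hr : ValidTable r) {σ : Equiv.Perm GolayPt}
    (hσ : ∀ p, σ p = tfun r p) :
    {d : Finset GolayPt | d ∈ dodecads ∧ σ • d = d}.ncard = (fixedDod r).length := by
  classical
  have h1 : {d : Finset GolayPt | d ∈ dodecads ∧ σ • d = d} = maskSet '' ↑(fixedDod r).toFinset := by
    ext d
    rw [dodecads_eq]
    simp only [Set.mem_ofPred_eq, Set.mem_image, List.coe_toFinset, fixedDod, List.mem_filter,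
      Bool.and_eq_true, decide_eq_true_eq]
    constructor
    · rintro ⟨⟨n, ⟨hn, hp⟩, rfl⟩, hfix⟩
      refine ⟨n, ⟨hn, ?_, hp⟩, rfl⟩
      rw [smul_maskSet_img hσ hr] at hfix
      exact maskSet_inj (imgL_lt hr n) (allWords_lt n hn) hfix
    · rintro ⟨n, ⟨hn, hfix, hp⟩, rfl⟩
      refine ⟨⟨n, ⟨hn, hp⟩, rfl⟩, ?_⟩
      rw [smul_maskSet_img hσ hr, hfix]
  have hinj : Set.InjOn maskSet (↑(fixedDod r).toFinset : Set ℕ) := by
    intro a ha b hb hab
    simp only [List.coe_toFinset, Set.mem_ofPred_eq, fixedDod, List.mem_filter] at ha hb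
    exact maskSet_inj (allWords_lt a ha.1) (allWords_lt b hb.1) hab
  rw [h1, Set.InjOn.ncard_image hinj, Set.ncard_coe_finset]
  exact List.toFinset_card_of_nodup (allWords_nodup.filter _)

theorem result (g : Equiv.Perm Cfsg.GolayPt) (hg : g ∈ Cfsg.M24) (h₃ : orderOf g = 3) (h₆ : (Finset.univ.filter fun p => g p = p).card = 6) : {o : Finset Cfsg.GolayPt | o ∈ Cfsg.octads ∧ g • o = o}.ncard = 21 ∧ {T : Finset (Finset Cfsg.GolayPt) | T ∈ Cfsg.trios ∧ g • T = T}.ncard = 15 ∧ {S : Finset (Finset Cfsg.GolayPt) | S ∈ Cfsg.sextets ∧ g • S = S}.ncard = 16 ∧ {d : Finset Cfsg.GolayPt | d ∈ Cfsg.dodecads ∧ g • d = d}.ncard = 20 := by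
  obtain ⟨k, hk, h | h⟩ := normal_form3 hg h₃
  · have h1 := ncard_fixed_of_conj validA3 hk h
    rw [countsA3] at h1
    refine ⟨h1.1, h1.2.1, h1.2.2, ?_⟩
    rw [ncard_fixed_conj dodecads (fun σ hσ y hy => smul_mem_dodecads hσ hy) hk rfl,
      ncard_fixed_dodecads validA3 h, len_fixedDod]
  · exfalso
    have hne : (Finset.univ.filter fun p => g p = p).Nonempty := by
      rw [← Finset.card_pos, h₆]; decide
    obtain ⟨p, hp⟩ := hne
    have hp' := (Finset.mem_filter.1 hp).2
    rw [Cfsg.Agent.S5394.fixed_of_conj h] at hp'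
    exact repB3_free _ hp'

end Cfsg.Agent.S5602
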