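import Cfsg.Statements.S5603
import Mathlib
import Cfsg.Agent.Lib.Helper1_InvCount
import Cfsg.Agent.Lib.Helper1_Ord3
import Cfsg.Agent.S5394

set_option autoImplicit false
open Cfsg
open scoped Pointwise
open Cfsg.Agent.Lib.Helper1_Golay Cfsg.Agent.Lib.Helper1_Chain Cfsg.Agent.Lib.Helper1_Inv
open Cfsg.Agent.Lib.Helper1_InvCount Cfsg.Agent.Lib.Helper1_Ord3 Cfsg.Agent.Lib.Helper1_Cert

namespace Cfsg.Agent.S5603

set_option maxRecDepth 1000000 in
theorem validB3 : ValidTable repB3 := by decide +kernel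

set_option maxRecDepth 1000000 in
theorem countsB3 : counts repB3 = (0, 15, 7) := by decide +kernel

set_option maxRecDepth 1000000 in
theorem repA3_hasfix : ∃ q : GolayPt, tfun repA3 q = q := by decide +kernel

theorem typeA3_exists_fixed {g k : Equiv.Perm GolayPt}
    (h : ∀ p, (k * g * k⁻¹) p = tfun repA3 p) : ∃ p, g p = p := by
  obtain ⟨q, hq⟩ := repA3_hasfix
  refine ⟨k⁻¹ q, ?_⟩
  rw [Cfsg.Agent.S5394.fixed_of_conj h]
  simpa using hq

theorem result (g : Equiv.Perm Cfsg.GolayPt) (hg : g ∈ Cfsg.M24) (h₃ : orderOf g = 3) (h₀ : ∀ p, g p ≠ p) : {S : Finset (Finset Cfsg.GolayPt) | S ∈ Cfsg.sextets ∧ g • S = S}.ncard = 7 ∧ {T : Finset (Finset Cfsg.GolayPt) | T ∈ Cfsg.trios ∧ g • T = T}.ncard = 15 := by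
  obtain ⟨k, hk, h | h⟩ := normal_form3 hg h₃
  · exfalso
    obtain ⟨p, hp⟩ := typeA3_exists_fixed h
    exact h₀ p hp
  · have := ncard_fixed_of_conj validB3 hk h
    rw [countsB3] at this
    exact ⟨this.2.2, this.2.1⟩

end Cfsg.Agent.S5603
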