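import Cfsg.Statements.S5605
import Mathlib
import Cfsg.Agent.Lib.Helper1_InvCount
import Cfsg.Agent.S5394

set_option autoImplicit false
open Cfsg
open scoped Pointwise
open Cfsg.Agent.Lib.Helper1_Golay Cfsg.Agent.Lib.Helper1_Chain Cfsg.Agent.Lib.Helper1_Inv
open Cfsg.Agent.Lib.Helper1_InvCount

namespace Cfsg.Agent.S5605

theorem result (g : Equiv.Perm Cfsg.GolayPt) (hg : g ∈ Cfsg.M24) (h₂ : orderOf g = 2) (h₈ : (Finset.univ.filter fun p => g p = p).card = 8) : {o : Finset Cfsg.GolayPt | o ∈ Cfsg.octads ∧ g • o = o}.ncard = 71 ∧ {T : Finset (Finset Cfsg.GolayPt) | T ∈ Cfsg.trios ∧ g • T = T}.ncard = 99 ∧ {S : Finset (Finset Cfsg.GolayPt) | S ∈ Cfsg.sextets ∧ g • S = S}.ncard = 91 := by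
  obtain ⟨k, hk, h | h⟩ := normal_form hg h₂
  · have := ncard_fixed_of_conj rep_valid.1 hk h
    rw [countsA] at this
    exact this
  · exfalso
    have hne : (Finset.univ.filter fun p => g p = p).Nonempty := by
      rw [← Finset.card_pos, h₈]; decide
    obtain ⟨p, hp⟩ := hne
    exact Cfsg.Agent.S5394.typeB_free h p (Finset.mem_filter.1 hp).2

end Cfsg.Agent.S5605
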