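import Cfsg.Statements.S5609
import Mathlib
import Cfsg.Agent.Lib.Helper1_Octads2

set_option autoImplicit false
open Cfsg
open scoped Pointwise
open Cfsg.Agent.Lib.Helper1_Chain Cfsg.Agent.Lib.Helper1_Golay

namespace Cfsg.Agent.S5609

section graph
variable {V : Type*} {G : SimpleGraph V} {u v : V}

theorem dist_two_of {w : V} (hne : u ≠ v) (hnadj : ¬ G.Adj u v) (h1 : G.Adj u w)
    (h2 : G.Adj w v) : G.dist u v = 2 := by
  have hle : G.dist u v ≤ 2 :=
    SimpleGraph.dist_le (SimpleGraph.Walk.cons h1 (SimpleGraph.Walk.cons h2 SimpleGraph.Walk.nil))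
  have hr : G.Reachable u v :=
    ⟨SimpleGraph.Walk.cons h1 (SimpleGraph.Walk.cons h2 SimpleGraph.Walk.nil)⟩
  have h0 : G.dist u v ≠ 0 := fun h => hne (hr.dist_eq_zero_iff.1 h)
  have h1' : G.dist u v ≠ 1 := fun h => hnadj (SimpleGraph.dist_eq_one_iff_adj.1 h)
  omega

theorem exists_of_dist_two (h : G.dist u v = 2) : ∃ w, G.Adj u w ∧ G.Adj w v := by
  have hr : G.Reachable u v := SimpleGraph.Reachable.of_dist_ne_zero (by rw [h]; decide)
  obtain ⟨p, hp⟩ := hr.exists_walk_length_eq_dist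
  rw [h] at hp
  cases p with
  | nil => simp at hp
  | cons h1 p' =>
    cases p' with
    | nil => simp at hp
    | cons h2 p'' =>
      cases p'' with
      | nil => exact ⟨_, h1, h2⟩
      | cons h3 p''' => simp at hp

theorem dist_three_of {a b : V} (hne : u ≠ v) (hnadj : ¬ G.Adj u v)
    (hnc : ¬ ∃ w, G.Adj u w ∧ G.Adj w v) (h1 : G.Adj u a) (h2 : G.Adj a b) (h3 : G.Adj b v) :
    G.dist u v = 3 := by
  have hle : G.dist u v ≤ 3 :=
    SimpleGraph.dist_le (SimpleGraph.Walk.cons h1 (SimpleGraph.Walk.cons h2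
      (SimpleGraph.Walk.cons h3 SimpleGraph.Walk.nil)))
  have hr : G.Reachable u v :=
    ⟨SimpleGraph.Walk.cons h1 (SimpleGraph.Walk.cons h2
      (SimpleGraph.Walk.cons h3 SimpleGraph.Walk.nil))⟩
  have h0 : G.dist u v ≠ 0 := fun h => hne (hr.dist_eq_zero_iff.1 h)
  have h1' : G.dist u v ≠ 1 := fun h => hnadj (SimpleGraph.dist_eq_one_iff_adj.1 h)
  have h2' : G.dist u v ≠ 2 := fun h => hnc (exists_of_dist_two h)
  omega

end graph

theorem adj_iff {o o' : Finset GolayPt} (ho : o ∈ octads) (ho' : o' ∈ octads) :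
    (blockGraph octads).Adj ⟨o, ho⟩ ⟨o', ho'⟩ ↔ Disjoint o o' := by
  unfold blockGraph
  rw [SimpleGraph.fromRel_adj]
  constructor
  · rintro ⟨_, h | h⟩
    · exact h
    · exact h.symm
  · intro h
    refine ⟨?_, Or.inl h⟩
    intro heq
    have heq' : o = o' := congrArg Subtype.val heq
    subst heq'
    rw [disjoint_self] at h
    have := ho.2
    rw [h] at this
    simp at this

theorem disjoint_iff_card {o o' : Finset GolayPt} : Disjoint o o' ↔ (o ∩ o').card = 0 := by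
  rw [Finset.card_eq_zero, Finset.disjoint_iff_inter_eq_empty]

theorem disjoint_smul_iff (k : Equiv.Perm GolayPt) (a b : Finset GolayPt) :
    Disjoint (k • a) (k • b) ↔ Disjoint a b := by
  rw [Finset.disjoint_iff_inter_eq_empty, Finset.disjoint_iff_inter_eq_empty,
    ← Finset.smul_finset_inter, Finset.smul_finset_eq_empty]

theorem disjoint_maskSet {a b : ℕ} : Disjoint (maskSet a) (maskSet b) ↔ popc (a &&& b) = 0 := by
  rw [disjoint_iff_card, ← maskSet_and, card_maskSet]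

set_option maxRecDepth 1000000 in
theorem std_data : IsOctadMask 7612992 ∧ popc (Omask &&& 7612992) = 0 ∧
    popc (7612992 &&& 622863) = 0 ∧ IsOctadMask 1009728 ∧ IsOctadMask 7345676 ∧
    popc (Omask &&& 1009728) = 0 ∧ popc (1009728 &&& 7345676) = 0 ∧
    popc (7345676 &&& 352547) = 0 := by
  decide +kernel

set_option maxRecDepth 1000000 in
theorem std_none : ∀ n ∈ allWords rows, popc n = 8 → popc (Omask &&& n) = 0 →
    popc (n &&& 352547) = 0 → False := by
  decide +kernel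

/-- two octads meeting in four points have a common neighbour -/
theorem common_four {o o' : Finset GolayPt} (ho : o ∈ octads) (ho' : o' ∈ octads)
    (h4 : (o ∩ o').card = 4) : ∃ x ∈ octads, Disjoint o x ∧ Disjoint x o' := by
  obtain ⟨k, hk, hko, hko'⟩ := octad_pair_std ho ho' (k := 4) (by decide) h4
  have hko'' : k • maskSet 622863 = o' := hko'
  obtain ⟨d1, d2, d3, -⟩ := std_data
  refine ⟨k • maskSet 7612992, smul_mem_octads hk (maskSet_mem_octads d1), ?_, ?_⟩
  · rw [← hko, disjoint_smul_iff]; exact disjoint_maskSet.2 d2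
  · rw [← hko'', disjoint_smul_iff]; exact disjoint_maskSet.2 d3

theorem path_two {o o' : Finset GolayPt} (ho : o ∈ octads) (ho' : o' ∈ octads)
    (h2 : (o ∩ o').card = 2) : (¬ ∃ x ∈ octads, Disjoint o x ∧ Disjoint x o') ∧
      ∃ a ∈ octads, ∃ b ∈ octads, Disjoint o a ∧ Disjoint a b ∧ Disjoint b o' := by
  obtain ⟨k, hk, hko, hko'⟩ := octad_pair_std ho ho' (k := 2) (by decide) h2
  have hko'' : k • maskSet 352547 = o' := hko'
  obtain ⟨-, -, -, d1, d2, d3, d4, d5⟩ := std_data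
  constructor
  · rintro ⟨x, hx, hox, hxo'⟩
    have hX : k⁻¹ • x ∈ octads := smul_mem_octads (M24.inv_mem hk) hx
    obtain ⟨n, hn, hn8, hXn⟩ := octad_eq_maskSet hX
    have hx' : x = k • maskSet n := by rw [← hXn, smul_inv_smul]
    rw [← hko, hx', disjoint_smul_iff] at hox
    rw [← hko'', hx', disjoint_smul_iff] at hxo'
    exact std_none n hn hn8 (disjoint_maskSet.1 hox) (disjoint_maskSet.1 hxo')
  · refine ⟨k • maskSet 1009728, smul_mem_octads hk (maskSet_mem_octads d1),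
      k • maskSet 7345676, smul_mem_octads hk (maskSet_mem_octads d2), ?_, ?_, ?_⟩
    · rw [← hko, disjoint_smul_iff]; exact disjoint_maskSet.2 d3
    · rw [disjoint_smul_iff]; exact disjoint_maskSet.2 d4
    · rw [← hko'', disjoint_smul_iff]; exact disjoint_maskSet.2 d5

theorem dist_cases {o o' : Finset GolayPt} (ho : o ∈ octads) (ho' : o' ∈ octads) (hne : o ≠ o') :
    ((o ∩ o').card = 0 → (blockGraph octads).dist ⟨o, ho⟩ ⟨o', ho'⟩ = 1) ∧
    ((o ∩ o').card = 4 → (blockGraph octads).dist ⟨o, ho⟩ ⟨o', ho'⟩ = 2) ∧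
    ((o ∩ o').card = 2 → (blockGraph octads).dist ⟨o, ho⟩ ⟨o', ho'⟩ = 3) := by
  have hne' : (⟨o, ho⟩ : octads) ≠ ⟨o', ho'⟩ := fun h => hne (congrArg Subtype.val h)
  refine ⟨fun h0 => ?_, fun h4 => ?_, fun h2 => ?_⟩
  · rw [SimpleGraph.dist_eq_one_iff_adj, adj_iff, disjoint_iff_card]; exact h0
  · obtain ⟨x, hx, h1, h2⟩ := common_four ho ho' h4
    have hnadj : ¬ (blockGraph octads).Adj ⟨o, ho⟩ ⟨o', ho'⟩ := by
      rw [adj_iff, disjoint_iff_card, h4]; decide
    exact dist_two_of (w := ⟨x, hx⟩) hne' hnadj ((adj_iff ho hx).2 h1) ((adj_iff hx ho').2 h2)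
  · obtain ⟨hnc, a, ha, b, hb, h1, h2', h3⟩ := path_two ho ho' h2
    have hnadj : ¬ (blockGraph octads).Adj ⟨o, ho⟩ ⟨o', ho'⟩ := by
      rw [adj_iff, disjoint_iff_card, h2]; decide
    refine dist_three_of (a := ⟨a, ha⟩) (b := ⟨b, hb⟩) hne' hnadj ?_ ((adj_iff ho ha).2 h1)
      ((adj_iff ha hb).2 h2') ((adj_iff hb ho').2 h3)
    rintro ⟨⟨x, hx⟩, hx1, hx2⟩
    exact hnc ⟨x, hx, (adj_iff ho hx).1 hx1, (adj_iff hx ho').1 hx2⟩

/-- statement -/
theorem result (o o' : Finset Cfsg.GolayPt) (ho : o ∈ Cfsg.octads) (ho' : o' ∈ Cfsg.octads) (hne : o ≠ o') : (Cfsg.blockGraph Cfsg.octads).Connected ∧ ((Cfsg.blockGraph Cfsg.octads).dist ⟨o, ho⟩ ⟨o', ho'⟩ = 1 ↔ (o ∩ o').card = 0) ∧ ((Cfsg.blockGraph Cfsg.octads).dist ⟨o, ho⟩ ⟨o', ho'⟩ = 2 ↔ (o ∩ o').card = 4) ∧ ((Cfsg.blockGraph Cfsg.octads).dist ⟨o, ho⟩ ⟨o', ho'⟩ = 3 ↔ (o ∩ o').card = 2) := by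
  obtain ⟨d0, d4, d2⟩ := dist_cases ho ho' hne
  have hcases : (o ∩ o').card = 0 ∨ (o ∩ o').card = 2 ∨ (o ∩ o').card = 4 := by
    rcases card_inter_octads ho ho' with h | h | h | h
    · exact Or.inl h
    · exact Or.inr (Or.inl h)
    · exact Or.inr (Or.inr h)
    · exact absurd h hne
  refine ⟨?_, ?_, ?_, ?_⟩
  · haveI : Nonempty octads := ⟨⟨o, ho⟩⟩
    refine ⟨fun ⟨a, ha⟩ ⟨b, hb⟩ => ?_⟩
    by_cases hab : a = b
    · subst hab; exact SimpleGraph.Reachable.refl _
    · obtain ⟨e0, e4, e2⟩ := dist_cases ha hb hab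
      apply SimpleGraph.Reachable.of_dist_ne_zero
      rcases card_inter_octads ha hb with h | h | h | h
      · rw [e0 h]; decide
      · rw [e2 h]; decide
      · rw [e4 h]; decide
      · exact absurd h hab
  · constructor
    · intro h
      rcases hcases with h0 | h2 | h4
      · exact h0
      · rw [d2 h2] at h; omega
      · rw [d4 h4] at h; omega
    · exact d0
  · constructor
    · intro h
      rcases hcases with h0 | h2 | h4
      · rw [d0 h0] at h; omega
      · rw [d2 h2] at h; omega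
      · exact h4
    · exact d4
  · constructor
    · intro h
      rcases hcases with h0 | h2 | h4
      · rw [d0 h0] at h; omega
      · exact h2
      · rw [d4 h4] at h; omega
    · exact d2

end Cfsg.Agent.S5609
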