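import Cfsg.Statements.S5612
import Mathlib
import Cfsg.Agent.Lib.Helper1_OrbitCert2
import Cfsg.Agent.Lib.Helper1_OC_T0_octads
import Cfsg.Agent.Lib.Helper1_OC_T0_sextets
import Cfsg.Agent.Lib.Helper1_SextetStab
import Cfsg.Agent.Lib.Helper1_Trios

set_option autoImplicit false
open Cfsg
open scoped Pointwise
open Cfsg.Agent.Lib.Helper1_Golay Cfsg.Agent.Lib.Helper1_Chain Cfsg.Agent.Lib.Helper1_Cert

namespace Cfsg.Agent.S5612

section octads
open Cfsg.Agent.Lib.Helper1_OC_T0_octads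

set_option maxRecDepth 1000000 in
theorem basesO_ok : ∀ c ∈ [c1, c2, c3], IsOctadMask (c.base.headD 0) := by decide +kernel

set_option maxRecDepth 1000000 in
theorem lensO : ([c1, c2, c3].map fun c => c.ents.length) = [3, 84, 672] := by
  decide +kernel

theorem decomp_T0_octads : OrbitDecomp T0 octads [3, 84, 672] := by
  have h := decomp_of_cert encF encS x0 gens [c1, c2, c3] octads
    (fun σ hσ y hy => smul_mem_octads hσ hy) (by decide +kernel) gens_ok (by decide)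
    (by
      intro c hc
      simp only [List.mem_cons, List.not_mem_nil, or_false] at hc
      rcases hc with rfl | rfl | rfl
      exacts [c1_ok, c2_ok, c3_ok])
    (fun c hc => maskSet_mem_octads (basesO_ok c hc))
    (by rw [lensO, ncard_octads]; decide)
  rw [lensO] at h
  exact h

end octads

section sextets
open Cfsg.Agent.Lib.Helper1_OC_T0_sextets

set_option maxRecDepth 1000000 in
theorem basesS_ok : ∀ c ∈ [c1, c2, c3, c4], SextetL c.base := by decide +kernel

set_option maxRecDepth 1000000 in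
theorem lensS : ([c1, c2, c3, c4].map fun c => c.ents.length) = [7, 84, 336, 1344] := by
  decide +kernel

theorem decomp_T0_sextets : OrbitDecomp T0 sextets [7, 84, 336, 1344] := by
  have h := decomp_of_cert encF encF x0 gens [c1, c2, c3, c4] sextets
    (fun σ hσ y hy => smul_mem_sextets hσ hy) (by decide +kernel) gens_ok (by decide)
    (by
      intro c hc
      simp only [List.mem_cons, List.not_mem_nil, or_false] at hc
      rcases hc with rfl | rfl | rfl | rfl
      exacts [c1_ok, c2_ok, c3_ok, c4_ok])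
    (fun c hc => mset_mem_sextets (basesS_ok c hc))
    (by rw [lensS, Cfsg.Agent.S1550.ncard_sextets]; decide)
  rw [lensS] at h
  exact h

end sextets

theorem result (T : Finset (Finset Cfsg.GolayPt)) (hT : T ∈ Cfsg.trios) : (∃ X₁ ∈ Cfsg.octads, ∃ X₂ ∈ Cfsg.octads, ∃ X₃ ∈ Cfsg.octads, (MulAction.orbit ↥(MulAction.stabilizer Cfsg.M24 T) X₁).ncard = 3 ∧ (MulAction.orbit ↥(MulAction.stabilizer Cfsg.M24 T) X₂).ncard = 84 ∧ (MulAction.orbit ↥(MulAction.stabilizer Cfsg.M24 T) X₃).ncard = 672 ∧ Cfsg.octads = MulAction.orbit ↥(MulAction.stabilizer Cfsg.M24 T) X₁ ∪ MulAction.orbit ↥(MulAction.stabilizer Cfsg.M24 T) X₂ ∪ MulAction.orbit ↥(MulAction.stabilizer Cfsg.M24 T) X₃) ∧ (∃ Y₁ ∈ Cfsg.sextets, ∃ Y₂ ∈ Cfsg.sextets, ∃ Y₃ ∈ Cfsg.sextets, ∃ Y₄ ∈ Cfsg.sextets, (MulAction.orbit ↥(MulAction.stabilizer Cfsg.M24 T) Y₁).ncard = 7 ∧ (MulAction.orbit ↥(MulAction.stabilizer Cfsg.M24 T) Y₂).ncard = 84 ∧ (MulAction.orbit ↥(MulAction.stabilizer Cfsg.M24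 T) Y₃).ncard = 336 ∧ (MulAction.orbit ↥(MulAction.stabilizer Cfsg.M24 T) Y₄).ncard = 1344 ∧ Cfsg.sextets = MulAction.orbit ↥(MulAction.stabilizer Cfsg.M24 T) Y₁ ∪ MulAction.orbit ↥(MulAction.stabilizer Cfsg.M24 T) Y₂ ∪ MulAction.orbit ↥(MulAction.stabilizer Cfsg.M24 T) Y₃ ∪ MulAction.orbit ↥(MulAction.stabilizer Cfsg.M24 T) Y₄) := by
  obtain ⟨g, hg, rfl⟩ := trio_trans hT
  exact ⟨(decomp_T0_octads.smul (fun σ hσ y hy => smul_mem_octads hσ hy) hg).three,
    (decomp_T0_sextets.smul (fun σ hσ y hy => smul_mem_sextets hσ hy) hg).four⟩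

end Cfsg.Agent.S5612
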