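import Cfsg.Statements.S5613
import Mathlib
import Cfsg.Agent.Lib.Helper1_OrbitStab

set_option autoImplicit false
open Cfsg
open scoped Pointwise
open Cfsg.Agent.Lib.Helper1_Chain Cfsg.Agent.Lib.Helper1_Golay Cfsg.Agent.Lib.Helper1_OrbitStab

namespace Cfsg.Agent.S5613

/-- In the group of the length-24 code, the joint stabiliser of two octads has order 10752, 1152 or 720 according as the octads meet in 0, 4 or 2 points. -/
theorem result (o o' : Finset Cfsg.GolayPt) (ho : o ∈ Cfsg.octads) (ho' : o' ∈ Cfsg.octads) : ((o ∩ o').card = 0 → Nat.card ↥(MulAction.stabilizer Cfsg.M24 o ⊓ MulAction.stabilizer Cfsg.M24 o') = 10752) ∧ ((o ∩ o').card = 4 → Nat.card ↥(MulAction.stabilizer Cfsg.M24 o ⊓ MulAction.stabilizer Cfsg.M24 o') = 1152) ∧ ((o ∩ o').card = 2 → Nat.card ↥(MulAction.stabilizer Cfsg.M24 o ⊓ MulAction.stabilizer Cfsg.M24 o') = 720) := by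
  have h := card_eq_orbit_mul_inf (G := M24) (MulAction.stabilizer M24 o) o'
  rw [card_stabilizer_octad ho, orbit_stabilizer_octad ho ho', Finset.inter_comm o' o] at h
  obtain ⟨h30, h448, h280⟩ := ncard_octads_inter_octad ho
  refine ⟨fun hc => ?_, fun hc => ?_, fun hc => ?_⟩
  · rw [hc, h30] at h; omega
  · rw [hc, h280] at h; omega
  · rw [hc, h448] at h; omega

end Cfsg.Agent.S5613
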