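import Cfsg.Statements.S5614
import Mathlib
import Cfsg.Agent.Lib.Helper1_OrbitStab
import Cfsg.Agent.Lib.Helper1_M24d
import Cfsg.Agent.Lib.Helper1_Restrict
import Cfsg.Agent.S5600
import Cfsg.Agent.S5613

set_option autoImplicit false
open Cfsg
open scoped Pointwise
open Cfsg.Agent.Lib.Helper1_Chain Cfsg.Agent.Lib.Helper1_Golay
open Cfsg.Agent.Lib.Helper1_Restrict

namespace Cfsg.Agent.S5614

/-- every element of the pointwise stabilizer of the standard octad is given by a table -/
theorem pstabO_table {g : Equiv.Perm GolayPt} (hg : g ∈ pstab M24 (maskSet Omask)) :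
    ∃ t ∈ PK, ∀ p, g p = tfun t p := by
  obtain ⟨t, ht, hty⟩ := PK_trans _ (pstabO_h1 hg)
  obtain ⟨σ, hσ, hσt⟩ := exists_perm_of_good (PK_good t ht)
  have hσO : σ ∈ pstab M24 (maskSet Omask) :=
    ⟨hσ, fun b hb => by rw [hσt]; exact PK_fix t ht b hb⟩
  have hk : σ⁻¹ * g ∈ pstab M24 (insert (bpt 5) (maskSet Omask)) := by
    refine ⟨M24.mul_mem (M24.inv_mem hσ) hg.1, fun b hb => ?_⟩
    rw [Equiv.Perm.mul_apply, Equiv.Perm.inv_eq_iff_eq]
    rcases Finset.mem_insert.mp hb with rfl | hb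
    · rw [hσt, hty]
    · rw [hg.2 b hb, hσO.2 b hb]
  refine ⟨t, ht, fun p => ?_⟩
  have := rigid (pstab_mono M24 Fset7_subset hk) p
  rw [Equiv.Perm.mul_apply, Equiv.Perm.inv_eq_iff_eq] at this
  rw [this, hσt]

set_option maxRecDepth 1000000 in
theorem PK_stab_trivial : ∀ t ∈ PK,
    (∀ p, (352547 : ℕ).testBit (idx p) = (352547 : ℕ).testBit (idx (tfun t p))) →
      ∀ p, tfun t p = p := by
  decide +kernel

theorem std_trivial {g : Equiv.Perm GolayPt} (hg : g ∈ pstab M24 (maskSet Omask))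
    (hg' : g • maskSet 352547 = maskSet 352547) : g = 1 := by
  obtain ⟨t, ht, hgt⟩ := pstabO_table hg
  have h := PK_stab_trivial t ht (by
    intro p
    have := mem_iff_of_smul_eq hg' p
    rw [mem_maskSet, mem_maskSet, hgt] at this
    cases h1 : (352547 : ℕ).testBit (idx p) <;> cases h2 : (352547 : ℕ).testBit (idx (tfun t p))
    · rfl
    · exact absurd (this.1 h2) (by rw [h1]; decide)
    · exact absurd (this.2 h1) (by rw [h2]; decide)
    · rfl)
  apply Equiv.ext
  intro p
  rw [hgt, h]; rfl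

theorem trivial_of_fix {o o' : Finset GolayPt} (ho : o ∈ octads) (ho' : o' ∈ octads)
    (h2 : (o ∩ o').card = 2) {g : Equiv.Perm GolayPt} (hg : g ∈ pstab M24 o)
    (hg' : g • o' = o') : g = 1 := by
  obtain ⟨k, hk, hko, hko'⟩ := octad_pair_std ho ho' (k := 2) (by decide) h2
  have hko'' : k • maskSet 352547 = o' := hko'
  have h1 : k⁻¹ * g * k ∈ pstab M24 (maskSet Omask) := by
    refine ⟨M24.mul_mem (M24.mul_mem (M24.inv_mem hk) hg.1) hk, fun b hb => ?_⟩
    have hkb : k b ∈ o := by rw [← hko]; exact Finset.smul_mem_smul_finset hb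
    rw [Equiv.Perm.mul_apply, Equiv.Perm.mul_apply, hg.2 _ hkb]
    simp
  have h2' : (k⁻¹ * g * k) • maskSet 352547 = maskSet 352547 := by
    rw [mul_smul, mul_smul, hko'', hg', ← hko'', inv_smul_smul]
  have := std_trivial h1 h2'
  have h3 : g = k * (k⁻¹ * g * k) * k⁻¹ := by group
  rw [h3, this]; group

/-- the action on the six points of `o` outside `o'` -/
def res (o o' : Finset GolayPt) :
    ↥(MulAction.stabilizer M24 o ⊓ MulAction.stabilizer M24 o') →* Equiv.Perm ↥(o \ o') :=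
  MonoidHom.mk' (fun g => (g.1.1).subtypePerm (mem_iff_of_smul_eq (by
    have h1 : (g.1.1 : Equiv.Perm GolayPt) • o = o := (Subgroup.mem_inf.1 g.2).1
    have h2 : (g.1.1 : Equiv.Perm GolayPt) • o' = o' := (Subgroup.mem_inf.1 g.2).2
    rw [Finset.smul_finset_sdiff, h1, h2]))) (by
    intro g h
    ext x
    rfl)

/-- statement -/
theorem result (o o' : Finset Cfsg.GolayPt) (ho : o ∈ Cfsg.octads) (ho' : o' ∈ Cfsg.octads) (h₂ : (o ∩ o').card = 2) : Nonempty (↥(MulAction.stabilizer Cfsg.M24 o ⊓ MulAction.stabilizer Cfsg.M24 o') ≃* Equiv.Perm (Fin 6)) := by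
  have hD : (o \ o').card = 6 := by
    have := Finset.card_sdiff_add_card_inter o o'
    rw [ho.2] at this
    omega
  have hinj : Function.Injective (res o o') := by
    rw [injective_iff_map_eq_one]
    intro g hg
    have hgD : g.1.1 ∈ pstab M24 (o \ o') := by
      refine ⟨g.1.2, fun b hb => ?_⟩
      have := congrArg (fun e : Equiv.Perm ↥(o \ o') => ((e ⟨b, hb⟩ : ↥(o \ o')) : GolayPt)) hg
      exact this
    rw [Cfsg.Agent.S5600.pstab_six_in_octad ho Finset.sdiff_subset hD] at hgD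
    have h2 : (g.1.1 : Equiv.Perm GolayPt) • o' = o' := (Subgroup.mem_inf.1 g.2).2
    have := trivial_of_fix ho ho' h₂ hgD h2
    apply Subtype.ext
    apply Subtype.ext
    exact this
  have hcard : Nat.card (Equiv.Perm ↥(o \ o')) ≤
      Nat.card ↥(MulAction.stabilizer M24 o ⊓ MulAction.stabilizer M24 o') := by
    rw [((Cfsg.Agent.S5613.result o o' ho ho').2.2) h₂, Nat.card_eq_fintype_card,
      Fintype.card_perm, Fintype.card_coe, hD]
    decide
  have hbij := hinj.bijective_of_nat_card_le hcard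
  have e1 := MulEquiv.ofBijective (res o o') hbij
  have e2 := Equiv.permCongrHom (Finset.equivFinOfCardEq hD)
  exact ⟨e1.trans e2⟩

end Cfsg.Agent.S5614
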