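import Cfsg.Statements.S5616
import Mathlib
import Cfsg.Agent.Lib.Helper1_Sextets2
import Cfsg.Agent.S1550
import Cfsg.Agent.S1554

set_option autoImplicit false
open Cfsg
open scoped Pointwise
open Cfsg.Agent.Lib.Helper1_Chain Cfsg.Agent.Lib.Helper1_Golay

namespace Cfsg.Agent.S5616

/-- number of tetrads of `S` meeting `Y` -/
def f (Y : Finset GolayPt) (S : Finset (Finset GolayPt)) : ℕ :=
  (S.filter fun t => (t ∩ Y).Nonempty).card

theorem mem_filter_of_mem {Y : Finset GolayPt} {S : Finset (Finset GolayPt)} {t : Finset GolayPt}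
    (ht : t ∈ S) {y : GolayPt} (hy : y ∈ Y) (hyt : y ∈ t) :
    t ∈ S.filter fun t => (t ∩ Y).Nonempty :=
  Finset.mem_filter.2 ⟨ht, ⟨y, Finset.mem_inter.2 ⟨hyt, hy⟩⟩⟩

/-- the sextet of a tetrad -/
noncomputable def sextetOf (t : Finset GolayPt) : Finset (Finset GolayPt) :=
  if h : t.card = 4 then (existsUnique_sextet h).choose else ∅

theorem sextetOf_spec {t : Finset GolayPt} (h : t.card = 4) :
    sextetOf t ∈ sextets ∧ t ∈ sextetOf t := by
  unfold sextetOf
  rw [dif_pos h]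
  exact (existsUnique_sextet h).choose_spec.1

theorem sextetOf_eq {S : Finset (Finset GolayPt)} (hS : S ∈ sextets) {t : Finset GolayPt}
    (ht : t ∈ S) : sextetOf t = S :=
  sextet_ext (sextetOf_spec (hS.2.1 t ht)).1 hS (sextetOf_spec (hS.2.1 t ht)).2 ht

/-- abstract counting: a class of sextets with a distinguished tetrad -/
theorem ncard_class (cls : Set (Finset (Finset GolayPt))) (P : Finset GolayPt → Prop)
    (hsub : cls ⊆ sextets)
    (ha : ∀ S ∈ cls, ∃ t ∈ S, P t)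
    (hb : ∀ t : Finset GolayPt, t.card = 4 → P t → sextetOf t ∈ cls)
    (hc : ∀ S ∈ sextets, ∀ t ∈ S, ∀ t' ∈ S, P t → P t' → t = t') :
    cls.ncard = {t : Finset GolayPt | t.card = 4 ∧ P t}.ncard := by
  have himg : cls = sextetOf '' {t : Finset GolayPt | t.card = 4 ∧ P t} := by
    ext S
    constructor
    · intro hS
      obtain ⟨t, ht, hP⟩ := ha S hS
      exact ⟨t, ⟨(hsub hS).2.1 t ht, hP⟩, sextetOf_eq (hsub hS) ht⟩
    · rintro ⟨t, ⟨h4, hP⟩, rfl⟩
      exact hb t h4 hP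
  rw [himg, Set.InjOn.ncard_image]
  rintro t ⟨h4, hP⟩ t' ⟨h4', hP'⟩ heq
  have h1 := sextetOf_spec h4
  have h2 := sextetOf_spec h4'
  rw [← heq] at h2
  exact hc _ h1.1 t h1.2 t' h2.2 hP hP'

section structure_lemmas
variable {Y : Finset GolayPt} {S : Finset (Finset GolayPt)}

theorem f_pos (hY : Y.card = 3) (hS : S ∈ sextets) : 1 ≤ f Y S := by
  have : Y.Nonempty := by rw [← Finset.card_pos, hY]; decide
  obtain ⟨y, hy⟩ := this
  obtain ⟨t, ht, hyt⟩ := sextet_cover hS y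
  exact Finset.card_pos.2 ⟨t, mem_filter_of_mem ht hy hyt⟩

theorem f_le (hY : Y.card = 3) (hS : S ∈ sextets) : f Y S ≤ 3 := by
  classical
  rw [← hY]
  unfold f
  have hex : ∀ t ∈ S.filter (fun t => (t ∩ Y).Nonempty), ∃ y, y ∈ t ∩ Y := by
    intro t ht
    exact (Finset.mem_filter.1 ht).2
  choose! pick hpick using hex
  apply Finset.card_le_card_of_injOn pick
  · intro t ht
    exact (Finset.mem_inter.1 (hpick t ht)).2
  · intro t ht u hu htu
    have h1 := (Finset.mem_inter.1 (hpick t ht)).1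
    have h2 := (Finset.mem_inter.1 (hpick u hu)).1
    rw [← htu] at h2
    exact sextet_tet_unique hS (Finset.mem_filter.1 ht).1 (Finset.mem_filter.1 hu).1 h1 h2

theorem L1 (hS : S ∈ sextets) (h : f Y S = 1) : ∃ t ∈ S, Y ⊆ t := by
  obtain ⟨t1, ht1⟩ := Finset.card_eq_one.1 h
  have ht1S : t1 ∈ S := by
    have : t1 ∈ S.filter fun t => (t ∩ Y).Nonempty := by rw [ht1]; exact Finset.mem_singleton_self _
    exact (Finset.mem_filter.1 this).1
  refine ⟨t1, ht1S, fun y hy => ?_⟩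
  obtain ⟨t, ht, hyt⟩ := sextet_cover hS y
  have := mem_filter_of_mem ht hy hyt
  rw [ht1, Finset.mem_singleton] at this
  rw [← this]; exact hyt

theorem C1 (hY : Y.card = 3) (hS : S ∈ sextets) {t : Finset GolayPt} (ht : t ∈ S) (hYt : Y ⊆ t) :
    f Y S = 1 := by
  unfold f
  rw [Finset.card_eq_one]
  refine ⟨t, ?_⟩
  ext u
  rw [Finset.mem_filter, Finset.mem_singleton]
  constructor
  · rintro ⟨hu, y, hy⟩
    rw [Finset.mem_inter] at hy
    exact sextet_tet_unique hS hu ht hy.1 (hYt hy.2)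
  · rintro rfl
    refine ⟨ht, ?_⟩
    have : Y.Nonempty := by rw [← Finset.card_pos, hY]; decide
    obtain ⟨y, hy⟩ := this
    exact ⟨y, Finset.mem_inter.2 ⟨hYt hy, hy⟩⟩

theorem L2 (hY : Y.card = 3) (hS : S ∈ sextets) (h : f Y S = 2) : ∃ t ∈ S, (t ∩ Y).card = 2 := by
  classical
  obtain ⟨t1, t2, hne, h12⟩ := Finset.card_eq_two.1 h
  have hmem : ∀ t, t ∈ S.filter (fun t => (t ∩ Y).Nonempty) ↔ t = t1 ∨ t = t2 := by
    intro t; rw [h12]; simp
  have ht1 := (Finset.mem_filter.1 ((hmem t1).2 (Or.inl rfl)))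
  have ht2 := (Finset.mem_filter.1 ((hmem t2).2 (Or.inr rfl)))
  have hdis : Disjoint t1 t2 := sextet_disjoint hS ht1.1 ht2.1 hne
  have hYsub : Y ⊆ t1 ∪ t2 := by
    intro y hy
    obtain ⟨t, ht, hyt⟩ := sextet_cover hS y
    rcases (hmem t).1 (mem_filter_of_mem ht hy hyt) with rfl | rfl
    · exact Finset.mem_union_left _ hyt
    · exact Finset.mem_union_right _ hyt
  have hsum : (t1 ∩ Y).card + (t2 ∩ Y).card = 3 := by
    rw [← hY, ← Finset.card_union_of_disjoint]
    · congr 1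
      rw [← Finset.union_inter_distrib_right]
      exact Finset.inter_eq_right.2 hYsub
    · exact Finset.disjoint_of_subset_left Finset.inter_subset_left
        (Finset.disjoint_of_subset_right Finset.inter_subset_left hdis)
  have h1 := Finset.card_pos.2 ht1.2
  have h2 := Finset.card_pos.2 ht2.2
  by_cases h : (t1 ∩ Y).card = 2
  · exact ⟨t1, ht1.1, h⟩
  · exact ⟨t2, ht2.1, by omega⟩

theorem C2 (hY : Y.card = 3) (hS : S ∈ sextets) {t : Finset GolayPt} (ht : t ∈ S)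
    (h2 : (t ∩ Y).card = 2) : f Y S = 2 := by
  classical
  -- the third point
  have hex : (Y \ t).card = 1 := by
    have := Finset.card_sdiff_add_card_inter Y t
    rw [Finset.inter_comm] at this
    omega
  obtain ⟨y3, hy3⟩ := Finset.card_eq_one.1 hex
  have hy3' : y3 ∈ Y \ t := by rw [hy3]; exact Finset.mem_singleton_self _
  rw [Finset.mem_sdiff] at hy3'
  obtain ⟨t2, ht2, hy3t2⟩ := sextet_cover hS y3
  have hne : t ≠ t2 := fun h => hy3'.2 (h ▸ hy3t2)
  unfold f
  rw [Finset.card_eq_two]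
  refine ⟨t, t2, hne, ?_⟩
  ext u
  rw [Finset.mem_filter, Finset.mem_insert, Finset.mem_singleton]
  constructor
  · rintro ⟨hu, y, hy⟩
    rw [Finset.mem_inter] at hy
    by_cases hyt : y ∈ t
    · left; exact sextet_tet_unique hS hu ht hy.1 hyt
    · right
      have : y ∈ Y \ t := Finset.mem_sdiff.2 ⟨hy.2, hyt⟩
      rw [hy3, Finset.mem_singleton] at this
      rw [this] at hy
      exact sextet_tet_unique hS hu ht2 hy.1 hy3t2
  · rintro (rfl | rfl)
    · refine ⟨ht, ?_⟩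
      rw [← Finset.card_pos, h2]; decide
    · exact ⟨ht2, ⟨y3, Finset.mem_inter.2 ⟨hy3t2, hy3'.1⟩⟩⟩

theorem L3 (hY : Y.card = 3) (hS : S ∈ sextets) (h : f Y S = 3) :
    ∃ a b c t1 t2 t3, Y = {a, b, c} ∧ a ≠ b ∧ a ≠ c ∧ b ≠ c ∧ t1 ∈ S ∧ t2 ∈ S ∧ t3 ∈ S ∧
      t1 ≠ t2 ∧ t1 ≠ t3 ∧ t2 ≠ t3 ∧ a ∈ t1 ∧ b ∈ t2 ∧ c ∈ t3 := by
  classical
  obtain ⟨t1, t2, t3, h12, h13, h23, hfil⟩ := Finset.card_eq_three.1 h
  have hmem : ∀ t, t ∈ S.filter (fun t => (t ∩ Y).Nonempty) ↔ t = t1 ∨ t = t2 ∨ t = t3 := by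
    intro t; rw [hfil]; simp
  have ht1 := (Finset.mem_filter.1 ((hmem t1).2 (Or.inl rfl)))
  have ht2 := (Finset.mem_filter.1 ((hmem t2).2 (Or.inr (Or.inl rfl))))
  have ht3 := (Finset.mem_filter.1 ((hmem t3).2 (Or.inr (Or.inr rfl))))
  obtain ⟨a, ha⟩ := ht1.2
  obtain ⟨b, hb⟩ := ht2.2
  obtain ⟨c, hc⟩ := ht3.2
  rw [Finset.mem_inter] at ha hb hc
  have hab : a ≠ b := fun h => h12 (sextet_tet_unique hS ht1.1 ht2.1 ha.1 (h ▸ hb.1))
  have hac : a ≠ c := fun h => h13 (sextet_tet_unique hS ht1.1 ht3.1 ha.1 (h ▸ hc.1))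
  have hbc : b ≠ c := fun h => h23 (sextet_tet_unique hS ht2.1 ht3.1 hb.1 (h ▸ hc.1))
  refine ⟨a, b, c, t1, t2, t3, ?_, hab, hac, hbc, ht1.1, ht2.1, ht3.1, h12, h13, h23, ha.1, hb.1,
    hc.1⟩
  symm
  apply Finset.eq_of_subset_of_card_le
  · intro x hx
    simp only [Finset.mem_insert, Finset.mem_singleton] at hx
    rcases hx with rfl | rfl | rfl
    · exact ha.2
    · exact hb.2
    · exact hc.2
  · rw [hY, Finset.card_insert_of_notMem, Finset.card_insert_of_notMem, Finset.card_singleton]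
    · simpa using hbc
    · simp [hab, hac]

end structure_lemmas

/-! ### counting -/

set_option maxRecDepth 1000000 in
theorem cnt1 : ((Finset.powersetCard 4 (Finset.univ : Finset GolayPt)).filter
    (fun t => Fset 3 ⊆ t)).card = 21 := by
  decide +kernel

set_option maxRecDepth 1000000 in
theorem cnt2 : ((Finset.powersetCard 4 (Finset.univ : Finset GolayPt)).filter
    (fun t => (t ∩ Fset 3).card = 2)).card = 630 := by
  decide +kernel

theorem ncard1 {Y : Finset GolayPt} (hY : Y.card = 3) :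
    {t : Finset GolayPt | t.card = 4 ∧ Y ⊆ t}.ncard = 21 := by
  obtain ⟨g, hg, rfl⟩ := exists_map_triad hY
  rw [← cnt1, ← ncard_ksubsets_smul g 4 (fun t => Fset 3 ⊆ t)]
  congr 1
  ext t
  simp only [Set.mem_ofPred_eq]
  have : Fset 3 ⊆ g⁻¹ • t ↔ g • Fset 3 ⊆ t := by
    rw [← Finset.smul_finset_subset_smul_finset_iff (a := g) (s := Fset 3), smul_inv_smul]
  rw [this]

theorem ncard2 {Y : Finset GolayPt} (hY : Y.card = 3) :
    {t : Finset GolayPt | t.card = 4 ∧ (t ∩ Y).card = 2}.ncard = 630 := by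
  obtain ⟨g, hg, rfl⟩ := exists_map_triad hY
  rw [← cnt2, ← ncard_ksubsets_smul g 4 (fun t => (t ∩ Fset 3).card = 2)]
  congr 1
  ext t
  simp only [Set.mem_ofPred_eq]
  have : g⁻¹ • t ∩ Fset 3 = g⁻¹ • (t ∩ g • Fset 3) := by
    rw [Finset.smul_finset_inter, inv_smul_smul]
  rw [this, Finset.card_smul_finset]

theorem class1_card {Y : Finset GolayPt} (hY : Y.card = 3) :
    {S : Finset (Finset GolayPt) | S ∈ sextets ∧ f Y S = 1}.ncard = 21 := by
  rw [← ncard1 hY]
  apply ncard_class _ (fun t => Y ⊆ t)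
  · intro S hS; exact hS.1
  · intro S hS; exact L1 hS.1 hS.2
  · intro t h4 hP
    have := sextetOf_spec h4
    exact ⟨this.1, C1 hY this.1 this.2 hP⟩
  · intro S hS t ht t' ht' hP hP'
    have : Y.Nonempty := by rw [← Finset.card_pos, hY]; decide
    obtain ⟨y, hy⟩ := this
    exact sextet_tet_unique hS ht ht' (hP hy) (hP' hy)

theorem class2_card {Y : Finset GolayPt} (hY : Y.card = 3) :
    {S : Finset (Finset GolayPt) | S ∈ sextets ∧ f Y S = 2}.ncard = 630 := by
  classical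
  rw [← ncard2 hY]
  apply ncard_class _ (fun t => (t ∩ Y).card = 2)
  · intro S hS; exact hS.1
  · intro S hS; exact L2 hY hS.1 hS.2
  · intro t h4 hP
    have := sextetOf_spec h4
    exact ⟨this.1, C2 hY this.1 this.2 hP⟩
  · intro S hS t ht t' ht' hP hP'
    by_contra hne
    have hdis := sextet_disjoint hS ht ht' hne
    have h1 : ((t ∩ Y) ∪ (t' ∩ Y)).card = 4 := by
      rw [Finset.card_union_of_disjoint, hP, hP']
      exact Finset.disjoint_of_subset_left Finset.inter_subset_left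
        (Finset.disjoint_of_subset_right Finset.inter_subset_left hdis)
    have h2 : ((t ∩ Y) ∪ (t' ∩ Y)).card ≤ Y.card :=
      Finset.card_le_card (Finset.union_subset Finset.inter_subset_right Finset.inter_subset_right)
    omega

theorem class3_card {Y : Finset GolayPt} (hY : Y.card = 3) :
    {S : Finset (Finset GolayPt) | S ∈ sextets ∧ f Y S = 3}.ncard = 1120 := by
  have h1 := class1_card hY
  have h2 := class2_card hY
  have hall : (sextets : Set (Finset (Finset GolayPt))) =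
      ({S | S ∈ sextets ∧ f Y S = 1} ∪ {S | S ∈ sextets ∧ f Y S = 2}) ∪
        {S | S ∈ sextets ∧ f Y S = 3} := by
    ext S
    simp only [Set.mem_union, Set.mem_ofPred_eq]
    constructor
    · intro hS
      have h1 := f_pos hY hS
      have h3 := f_le hY hS
      have : f Y S = 1 ∨ f Y S = 2 ∨ f Y S = 3 := by omega
      rcases this with h | h | h
      · left; left; exact ⟨hS, h⟩
      · left; right; exact ⟨hS, h⟩
      · right; exact ⟨hS, h⟩
    · rintro ((h | h) | h) <;> exact h.1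
  have hd12 : Disjoint {S : Finset (Finset GolayPt) | S ∈ sextets ∧ f Y S = 1}
      {S | S ∈ sextets ∧ f Y S = 2} := by
    rw [Set.disjoint_left]
    rintro S ⟨_, h⟩ ⟨_, h'⟩
    omega
  have hd3 : Disjoint ({S : Finset (Finset GolayPt) | S ∈ sextets ∧ f Y S = 1} ∪
      {S | S ∈ sextets ∧ f Y S = 2}) {S | S ∈ sextets ∧ f Y S = 3} := by
    rw [Set.disjoint_left]
    rintro S (⟨_, h⟩ | ⟨_, h⟩) ⟨_, h'⟩ <;> omega
  have htot := Cfsg.Agent.S1550.ncard_sextets
  rw [hall, Set.ncard_union_eq hd3, Set.ncard_union_eq hd12, h1, h2] at htot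
  omega

/-! ### transitivity -/

theorem trans_via_tetrad {Y : Finset GolayPt} {S S' : Finset (Finset GolayPt)} (hS : S ∈ sextets)
    (hS' : S' ∈ sextets) {t t' : Finset GolayPt} (ht : t ∈ S) (ht' : t' ∈ S')
    (h1 : (Y ∩ t).card = (Y ∩ t').card) (h5 : (Y ∪ t).card ≤ 5) :
    ∃ g ∈ M24, g • Y = Y ∧ g • S = S' := by
  obtain ⟨g, hg, hgY, hgt⟩ := exists_stab_map (s := Y) (y := t) (z := t') h1
    (by rw [hS.2.1 t ht, hS'.2.1 t' ht']) h5
  exact ⟨g, hg, hgY, smul_sextet_eq hg hS hS' ht (hgt ▸ ht')⟩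

/-- three tetrads of a sextet with marked points: no octad contains the first tetrad and the marked
points of the two others -/
theorem not_subset_octad {S : Finset (Finset GolayPt)} (hS : S ∈ sextets)
    {t1 t2 t3 : Finset GolayPt} (ht1 : t1 ∈ S) (ht2 : t2 ∈ S) (ht3 : t3 ∈ S) (h12 : t1 ≠ t2)
    (h13 : t1 ≠ t3) (h23 : t2 ≠ t3) {b c : GolayPt} (hb : b ∈ t2) (hc : c ∈ t3)
    {o : Finset GolayPt} (ho : o ∈ octads) (hbo : b ∈ o) (hco : c ∈ o) : ¬ t1 ⊆ o := by
  intro hsub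
  have hbt : b ∉ t1 := fun h => h12 (sextet_tet_unique hS ht1 ht2 h hb)
  have hct : c ∉ t1 := fun h => h13 (sextet_tet_unique hS ht1 ht3 h hc)
  obtain ⟨u, hu, hbu, hcu⟩ := same_tet_of_octad hS ht1 ho hsub hbo hco hbt hct
  have e1 := sextet_tet_unique hS hu ht2 hbu hb
  have e2 := sextet_tet_unique hS hu ht3 hcu hc
  exact h23 (e1.symm.trans e2)

theorem tetrad_eq {t : Finset GolayPt} (h4 : t.card = 4) {a : GolayPt} (ha : a ∈ t) :
    ∃ p q r, p ≠ q ∧ p ≠ r ∧ q ≠ r ∧ a ≠ p ∧ a ≠ q ∧ a ≠ r ∧ t = {a, p, q, r} := by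
  classical
  have h3 : (t.erase a).card = 3 := by rw [Finset.card_erase_of_mem ha, h4]
  obtain ⟨p, q, r, hpq, hpr, hqr, he⟩ := Finset.card_eq_three.1 h3
  have hmem : ∀ x, x ∈ t.erase a ↔ x = p ∨ x = q ∨ x = r := by
    intro x; rw [he]; simp
  have hp := (Finset.mem_erase.1 ((hmem p).2 (Or.inl rfl))).1
  have hq := (Finset.mem_erase.1 ((hmem q).2 (Or.inr (Or.inl rfl)))).1
  have hr := (Finset.mem_erase.1 ((hmem r).2 (Or.inr (Or.inr rfl)))).1
  refine ⟨p, q, r, hpq, hpr, hqr, Ne.symm hp, Ne.symm hq, Ne.symm hr, ?_⟩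
  rw [← Finset.insert_erase ha, he]

theorem class3_trans {Y : Finset GolayPt} {S S' : Finset (Finset GolayPt)}
    (hS : S ∈ sextets) (hS' : S' ∈ sextets)
    {a b c : GolayPt} {t1 t2 t3 : Finset GolayPt} (hYe : Y = {a, b, c}) (hab : a ≠ b) (hac : a ≠ c)
    (hbc : b ≠ c) (ht1 : t1 ∈ S) (ht2 : t2 ∈ S) (ht3 : t3 ∈ S) (h12 : t1 ≠ t2) (h13 : t1 ≠ t3)
    (h23 : t2 ≠ t3) (ha : a ∈ t1) (hb : b ∈ t2) (hc : c ∈ t3)
    {a' b' c' : GolayPt} {t1' t2' t3' : Finset GolayPt} (hYe' : Y = {a', b', c'}) (hab' : a' ≠ b')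
    (hac' : a' ≠ c') (hbc' : b' ≠ c') (ht1' : t1' ∈ S') (ht2' : t2' ∈ S') (ht3' : t3' ∈ S')
    (h12' : t1' ≠ t2') (h13' : t1' ≠ t3') (h23' : t2' ≠ t3') (ha' : a' ∈ t1') (hb' : b' ∈ t2')
    (hc' : c' ∈ t3') :
    ∃ g ∈ M24, g • Y = Y ∧ g • S = S' := by
  classical
  obtain ⟨p, q, r, hpq, hpr, hqr, hap, haq, har, het1⟩ := tetrad_eq (hS.2.1 t1 ht1) ha
  obtain ⟨p', q', r', hpq', hpr', hqr', hap', haq', har', het1'⟩ := tetrad_eq (hS'.2.1 t1' ht1') ha'
  have hpt1 : p ∈ t1 := by rw [het1]; simp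
  have hqt1 : q ∈ t1 := by rw [het1]; simp
  have hpt1' : p' ∈ t1' := by rw [het1']; simp
  have hqt1' : q' ∈ t1' := by rw [het1']; simp
  have hbt1 : b ∉ t1 := fun h => h12 (sextet_tet_unique hS ht1 ht2 h hb)
  have hct1 : c ∉ t1 := fun h => h13 (sextet_tet_unique hS ht1 ht3 h hc)
  have hbt1' : b' ∉ t1' := fun h => h12' (sextet_tet_unique hS' ht1' ht2' h hb')
  have hct1' : c' ∉ t1' := fun h => h13' (sextet_tet_unique hS' ht1' ht3' h hc')
  have hbp : b ≠ p := fun h => hbt1 (h ▸ hpt1)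
  have hbq : b ≠ q := fun h => hbt1 (h ▸ hqt1)
  have hcp : c ≠ p := fun h => hct1 (h ▸ hpt1)
  have hcq : c ≠ q := fun h => hct1 (h ▸ hqt1)
  have hbp' : b' ≠ p' := fun h => hbt1' (h ▸ hpt1')
  have hbq' : b' ≠ q' := fun h => hbt1' (h ▸ hqt1')
  have hcp' : c' ≠ p' := fun h => hct1' (h ▸ hpt1')
  have hcq' : c' ≠ q' := fun h => hct1' (h ▸ hqt1')
  obtain ⟨g0, hg0, hgl⟩ := exists_map_lists (l := [a, b, c, p, q]) (l' := [a', b', c', p', q'])
    (by simp [hab, hac, hap, haq, hbc, hbp, hbq, hcp, hcq, hpq])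
    (by simp [hab', hac', hap', haq', hbc', hbp', hbq', hcp', hcq', hpq']) rfl (by simp)
  simp only [List.map_cons, List.map_nil, List.cons.injEq, and_true] at hgl
  obtain ⟨ga, gb, gc, gp, gq⟩ := hgl
  have hg0Y : g0 • Y = Y := by
    conv_lhs => rw [hYe]
    rw [Finset.smul_finset_insert, Finset.smul_finset_insert, Finset.smul_finset_singleton]
    show {g0 a, g0 b, g0 c} = Y
    rw [ga, gb, gc, ← hYe']
  -- the octad through the five image points
  have h5 : ({a', b', c', p', q'} : Finset GolayPt).card = 5 := by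
    rw [Finset.card_insert_of_notMem, Finset.card_insert_of_notMem, Finset.card_insert_of_notMem,
      Finset.card_insert_of_notMem, Finset.card_singleton]
    · simpa using hpq'
    · simp [hcp', hcq']
    · simp [hbc', hbp', hbq']
    · simp [hab', hac', hap', haq']
  obtain ⟨o, ⟨ho, hsub⟩, -⟩ := octads_steiner.2 _ h5
  have hao : a' ∈ o := hsub (by simp)
  have hbo : b' ∈ o := hsub (by simp)
  have hco : c' ∈ o := hsub (by simp)
  have hpo : p' ∈ o := hsub (by simp)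
  have hqo : q' ∈ o := hsub (by simp)
  -- the fourth points lie outside the octad
  have hr' : r' ∉ o := by
    intro h
    apply not_subset_octad hS' ht1' ht2' ht3' h12' h13' h23' hb' hc' ho hbo hco
    rw [het1']
    intro x hx
    simp only [Finset.mem_insert, Finset.mem_singleton] at hx
    rcases hx with rfl | rfl | rfl | rfl <;> assumption
  have hS'' := smul_mem_sextets hg0 hS
  have hmem'' : ∀ {t : Finset GolayPt}, t ∈ S → g0 • t ∈ g0 • S := fun h =>
    Finset.smul_mem_smul_finset h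
  have hgt1 : g0 • t1 = {a', p', q', g0 r} := by
    rw [het1, Finset.smul_finset_insert, Finset.smul_finset_insert, Finset.smul_finset_insert,
      Finset.smul_finset_singleton]
    show {g0 a, g0 p, g0 q, g0 r} = _
    rw [ga, gp, gq]
  have hr'' : g0 r ∉ o := by
    intro h
    have hne : ∀ {t u : Finset GolayPt}, t ≠ u → g0 • t ≠ g0 • u := fun h h' =>
      h (smul_left_cancel g0 h')
    apply not_subset_octad hS'' (hmem'' ht1) (hmem'' ht2) (hmem'' ht3) (hne h12) (hne h13) (hne h23)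
      (b := b') (c := c') (by rw [← gb]; exact Finset.smul_mem_smul_finset (a := g0) hb)
      (by rw [← gc]; exact Finset.smul_mem_smul_finset (a := g0) hc) ho hbo hco
    rw [hgt1]
    intro x hx
    simp only [Finset.mem_insert, Finset.mem_singleton] at hx
    rcases hx with rfl | rfl | rfl | rfl <;> assumption
  obtain ⟨h, hh, hhr⟩ := Cfsg.Agent.S1554.exists_pstab_map ho hr'' hr'
  have hfix : ∀ x ∈ o, h x = x := hh.2
  refine ⟨h * g0, M24.mul_mem hh.1 hg0, ?_, ?_⟩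
  · rw [mul_smul, hg0Y]
    apply Cfsg.Agent.S1554.smul_eq_of_fix
    intro x hx
    apply hfix
    rw [hYe'] at hx
    simp only [Finset.mem_insert, Finset.mem_singleton] at hx
    rcases hx with rfl | rfl | rfl <;> assumption
  · apply smul_sextet_eq (M24.mul_mem hh.1 hg0) hS hS' ht1
    rw [mul_smul, hgt1, Finset.smul_finset_insert, Finset.smul_finset_insert,
      Finset.smul_finset_insert, Finset.smul_finset_singleton]
    show {h a', h p', h q', h (g0 r)} ∈ S'
    rw [hfix a' hao, hfix p' hpo, hfix q' hqo, hhr, ← het1']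
    exact ht1'

/-- Let Y be a set of 3 of the 24 points. The sextets of the length-24 code whose tetrads meeting Y number 1, 2 or 3 are respectively 21, 630 and 1120 in number, and two sextets with the same number of tetrads meeting Y are conjugate under the setwise stabiliser of Y in the code's group. -/
theorem result (Y : Finset Cfsg.GolayPt) (hY : Y.card = 3) : {S : Finset (Finset Cfsg.GolayPt) | S ∈ Cfsg.sextets ∧ (S.filter fun t => (t ∩ Y).Nonempty).card = 1}.ncard = 21 ∧ {S : Finset (Finset Cfsg.GolayPt) | S ∈ Cfsg.sextets ∧ (S.filter fun t => (t ∩ Y).Nonempty).card = 2}.ncard = 630 ∧ {S : Finset (Finset Cfsg.GolayPt) | S ∈ Cfsg.sextets ∧ (S.filter fun t => (t ∩ Y).Nonempty).card = 3}.ncard = 1120 ∧ ∀ S S' : Finset (Finset Cfsg.GolayPt), S ∈ Cfsg.sextets → S' ∈ Cfsg.sextets → (S.filter fun t => (t ∩ Y).Nonempty).card = (S'.filter fun t => (t ∩ Y).Nonempty).card → ∃ g ∈ Cfsg.M24, g • Y = Y ∧ g • S = S' := by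
  classical
  refine ⟨class1_card hY, class2_card hY, class3_card hY, ?_⟩
  intro S S' hS hS' hff
  have hff' : f Y S = f Y S' := hff
  have h1 := f_pos hY hS
  have h3 := f_le hY hS
  have hcases : f Y S = 1 ∨ f Y S = 2 ∨ f Y S = 3 := by omega
  rcases hcases with h | h | h
  · obtain ⟨t, ht, hYt⟩ := L1 hS h
    obtain ⟨t', ht', hYt'⟩ := L1 hS' (hff' ▸ h)
    apply trans_via_tetrad hS hS' ht ht'
    · rw [Finset.inter_eq_left.2 hYt, Finset.inter_eq_left.2 hYt']
    · rw [Finset.union_eq_right.2 hYt, hS.2.1 t ht]; decide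
  · obtain ⟨t, ht, h2⟩ := L2 hY hS h
    obtain ⟨t', ht', h2'⟩ := L2 hY hS' (hff' ▸ h)
    apply trans_via_tetrad hS hS' ht ht'
    · rw [Finset.inter_comm, h2, Finset.inter_comm, h2']
    · have := Finset.card_union_add_card_inter Y t
      rw [Finset.inter_comm, h2, hY, hS.2.1 t ht] at this
      omega
  · obtain ⟨a, b, c, t1, t2, t3, hYe, hab, hac, hbc, ht1, ht2, ht3, h12, h13, h23, ha, hb, hc⟩ :=
      L3 hY hS h
    obtain ⟨a', b', c', t1', t2', t3', hYe', hab', hac', hbc', ht1', ht2', ht3', h12', h13', h23',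
      ha', hb', hc'⟩ := L3 hY hS' (hff' ▸ h)
    exact class3_trans hS hS' hYe hab hac hbc ht1 ht2 ht3 h12 h13 h23 ha hb hc hYe' hab' hac' hbc'
      ht1' ht2' ht3' h12' h13' h23' ha' hb' hc'

end Cfsg.Agent.S5616
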