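import Cfsg.Statements.S5617
import Mathlib
import Cfsg.Agent.Lib.Helper1_OrbitCert2
import Cfsg.Agent.Lib.Helper1_OC_D0_sextets
import Cfsg.Agent.Lib.Helper1_SextetStab
import Cfsg.Agent.Lib.Helper1_M12d

set_option autoImplicit false
open Cfsg
open scoped Pointwise
open Cfsg.Agent.Lib.Helper1_Golay Cfsg.Agent.Lib.Helper1_Chain Cfsg.Agent.Lib.Helper1_Cert
open Cfsg.Agent.Lib.Helper1_OC_D0_sextets

namespace Cfsg.Agent.S5617

set_option maxRecDepth 1000000 in
theorem bases_ok : ∀ c ∈ [c1, c2, c3], SextetL c.base := by decide +kernel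

set_option maxRecDepth 1000000 in
theorem lens : ([c1, c2, c3].map fun c => c.ents.length) = [396, 495, 880] := by
  decide +kernel

theorem decomp_D0 : OrbitDecomp (mset x0) sextets [396, 495, 880] := by
  have h := decomp_of_cert encF encF x0 gens [c1, c2, c3] sextets
    (fun σ hσ y hy => smul_mem_sextets hσ hy) (by decide +kernel) gens_ok (by decide)
    (by
      intro c hc
      simp only [List.mem_cons, List.not_mem_nil, or_false] at hc
      rcases hc with rfl | rfl | rfl
      exacts [c1_ok, c2_ok, c3_ok])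
    (fun c hc => mset_mem_sextets (bases_ok c hc))
    (by rw [lens, Cfsg.Agent.S1550.ncard_sextets]; decide)
  rw [lens] at h
  exact h

set_option maxRecDepth 1000000 in
theorem compl_bits : ∀ p : GolayPt, (16611456 : ℕ).testBit (idx p) = !(165759 : ℕ).testBit (idx p) := by
  decide +kernel

theorem mset_x0 : mset x0 = {maskSet d0, Finset.univ \ maskSet d0} := by
  have h : maskSet 16611456 = Finset.univ \ maskSet d0 := by
    ext p
    rw [mem_maskSet, Finset.mem_sdiff, mem_maskSet, compl_bits p]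
    simp [d0]
  rw [← h]
  ext v
  rw [mem_mset]
  simp [x0, d0, eq_comm]

theorem result (d : Finset Cfsg.GolayPt) (hd : d ∈ Cfsg.dodecads) : ∃ X₁ ∈ Cfsg.sextets, ∃ X₂ ∈ Cfsg.sextets, ∃ X₃ ∈ Cfsg.sextets, (MulAction.orbit ↥(MulAction.stabilizer Cfsg.M24 ({d, Finset.univ \ d} : Finset (Finset Cfsg.GolayPt))) X₁).ncard = 396 ∧ (MulAction.orbit ↥(MulAction.stabilizer Cfsg.M24 ({d, Finset.univ \ d} : Finset (Finset Cfsg.GolayPt))) X₂).ncard = 495 ∧ (MulAction.orbit ↥(MulAction.stabilizer Cfsg.M24 ({d, Finset.univ \ d} : Finset (Finset Cfsg.GolayPt))) X₃).ncard = 880 ∧ Cfsg.sextets = MulAction.orbit ↥(MulAction.stabilizer Cfsg.M24 ({d, Finset.univ \ d} : Finset (Finset Cfsg.GolayPt))) X₁ ∪ MulAction.orbit ↥(MulAction.stabilizer Cfsg.M24 ({d, Finset.univ \ d} : Finset (Finset Cfsg.GolayPt))) X₂ ∪ MulAction.orbit ↥(MulAction.stabilizer Cfsg.M24 ({d, Finset.univ \ d} : Finset (Finset Cfsg.GolayPt))) X₃ := by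
  obtain ⟨g, hg, rfl⟩ := M24_dodecad_transitive d0_dodecad hd
  have hd' := decomp_D0.smul (fun σ hσ y hy => smul_mem_sextets hσ hy) hg
  have heq : g • mset x0 = {g • maskSet d0, Finset.univ \ g • maskSet d0} := by
    rw [mset_x0]
    have : ∀ s : Finset GolayPt, Finset.univ \ s = sᶜ := fun s => (Finset.compl_eq_univ_sdiff s).symm
    rw [this, this, ← smul_finset_compl']
    ext v
    simp only [Finset.mem_smul_finset, Finset.mem_insert, Finset.mem_singleton]
    constructor
    · rintro ⟨u, rfl | rfl, rfl⟩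
      · exact Or.inl rfl
      · exact Or.inr rfl
    · rintro (rfl | rfl)
      · exact ⟨_, Or.inl rfl, rfl⟩
      · exact ⟨_, Or.inr rfl, rfl⟩
  rw [heq] at hd'
  exact hd'.three

end Cfsg.Agent.S5617
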