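import Cfsg.Statements.S5618
import Mathlib
import Cfsg.Agent.Lib.Helper1_M12e

set_option autoImplicit false
open Cfsg
open scoped Pointwise
open Cfsg.Agent.Lib.Helper1_Chain Cfsg.Agent.Lib.Helper1_Golay Cfsg.Agent.Lib.Helper1_Restrict

namespace Cfsg.Agent.S5618

/-- an element of the dodecad stabilizer fixing five points of the dodecad is trivial -/
theorem trivial_of_fix {d s : Finset GolayPt} (hd : d ∈ dodecads) (hsd : s ⊆ d) (h5 : 5 ≤ s.card)
    {k : Equiv.Perm GolayPt} (hk : k ∈ M24) (hkd : k • d = d) (hfix : ∀ p ∈ s, k p = p) :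
    k = 1 := by
  obtain ⟨x, hx⟩ := exists_embedding_of_card h5
  exact dodecad_rigid hd hk hkd x (fun i => hsd (hx i)) (fun i => hfix _ (hx i))

theorem smul_mem_hexadsOn {d C : Finset GolayPt} (hC : C ∈ hexadsOn d) {g : Equiv.Perm GolayPt}
    (hg : g ∈ M24) (hgd : g • d = d) : g • C ∈ hexadsOn d := by
  obtain ⟨h6, o, ho, hoC⟩ := hC
  refine ⟨by rw [Finset.card_smul_finset]; exact h6, g • o, smul_mem_octads hg ho, ?_⟩
  rw [← hoC, Finset.smul_finset_inter, hgd]

theorem hexad_eq_of_five {d C C' : Finset GolayPt} (hC : C ∈ hexadsOn d) (hC' : C' ∈ hexadsOn d)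
    (h5 : 5 ≤ (C ∩ C').card) : C = C' := by
  obtain ⟨_, o, ho, hoC⟩ := hC
  obtain ⟨_, o', ho', hoC'⟩ := hC'
  have : o = o' := by
    apply octads_inter_lt ho ho'
    apply le_trans h5
    apply Finset.card_le_card
    rw [← hoC, ← hoC']
    intro p hp
    simp only [Finset.mem_inter] at hp ⊢
    exact ⟨hp.1.1, hp.2.1⟩
  rw [← hoC, ← hoC', this]

/-- two permutations agreeing on all but at most one point agree -/
theorem perm_eq_of_agree {α : Type*} [Fintype α] [DecidableEq α] (e e' : Equiv.Perm α)
    (s : Finset α) (hs : Fintype.card α ≤ s.card + 1) (h : ∀ x ∈ s, e x = e' x) : e = e' := by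
  apply Equiv.ext
  intro z
  by_cases hz : z ∈ s
  · exact h z hz
  · -- `z` is the only point outside `s`
    have huniq : ∀ y, y ∉ s → y = z := by
      intro y hy
      by_contra hyz
      have : (insert y (insert z s)).card ≤ Fintype.card α := Finset.card_le_univ _
      rw [Finset.card_insert_of_notMem, Finset.card_insert_of_notMem hz] at this
      · omega
      · rw [Finset.mem_insert, not_or]; exact ⟨hyz, hy⟩
    have h1 : ∀ f : Equiv.Perm α, (∀ x ∈ s, f x = x) → f z = z := by
      intro f hf
      apply huniq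
      intro hfz
      have := hf (f z) hfz
      exact hz (f.injective this ▸ hfz)
    have := h1 (e'⁻¹ * e) (by
      intro x hx
      rw [Equiv.Perm.mul_apply, h x hx]; simp)
    rw [Equiv.Perm.mul_apply, Equiv.Perm.inv_eq_iff_eq] at this
    exact this

/-- the action on the hexad -/
def res (d C : Finset GolayPt) :
    ↥(MulAction.stabilizer M24 d ⊓ MulAction.stabilizer M24 C) →* Equiv.Perm ↥C :=
  MonoidHom.mk' (fun g => (g.1.1).subtypePerm (mem_iff_of_smul_eq (Subgroup.mem_inf.1 g.2).2)) (by
    intro g h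
    ext x
    rfl)

/-- statement -/
theorem result (d : Finset Cfsg.GolayPt) (hd : d ∈ Cfsg.dodecads) (C : Finset Cfsg.GolayPt) (hC : C ∈ Cfsg.hexadsOn d) : Nonempty (↥(MulAction.stabilizer Cfsg.M24 d ⊓ MulAction.stabilizer Cfsg.M24 C) ≃* Equiv.Perm (Fin 6)) ∧ (∀ g ∈ MulAction.stabilizer Cfsg.M24 d ⊓ MulAction.stabilizer Cfsg.M24 C, (∀ p ∈ C, ((g : ↥Cfsg.M24) : Equiv.Perm Cfsg.GolayPt) p = p) → g = 1) ∧ ∀ g ∈ MulAction.stabilizer Cfsg.M24 d ⊓ MulAction.stabilizer Cfsg.M24 C, (∀ p ∈ d \ C, ((g : ↥Cfsg.M24) : Equiv.Perm Cfsg.GolayPt) p = p) → g = 1 := by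
  classical
  have hC6 : C.card = 6 := hC.1
  have hCd : C ⊆ d := by
    obtain ⟨_, o, _, hoC⟩ := hC
    rw [← hoC]; exact Finset.inter_subset_right
  have hDC : (d \ C).card = 6 := by
    rw [Finset.card_sdiff_of_subset hCd, hd.2, hC6]
  have hfaith : ∀ g ∈ MulAction.stabilizer M24 d ⊓ MulAction.stabilizer M24 C,
      (∀ p ∈ C, ((g : ↥M24) : Equiv.Perm GolayPt) p = p) → g = 1 := by
    intro g hg hfix
    apply Subtype.ext
    exact trivial_of_fix hd hCd (by rw [hC6]; decide) g.2 (Subgroup.mem_inf.1 hg).1 hfix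
  refine ⟨?_, hfaith, ?_⟩
  · have hinj : Function.Injective (res d C) := by
      rw [injective_iff_map_eq_one]
      intro g hg
      have := hfaith g.1 g.2 (by
        intro p hp
        have := congrArg (fun e : Equiv.Perm ↥C => ((e ⟨p, hp⟩ : ↥C) : GolayPt)) hg
        exact this)
      exact Subtype.ext this
    have hsurj : Function.Surjective (res d C) := by
      intro σ
      -- five points of the hexad and their images
      let f : GolayPt → GolayPt := fun p => if h : p ∈ C then ((σ ⟨p, h⟩ : ↥C) : GolayPt) else p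
      have hfC : ∀ p (h : p ∈ C), f p = σ ⟨p, h⟩ := fun p h => dif_pos h
      have hfmem : ∀ p ∈ C, f p ∈ C := fun p h => by rw [hfC p h]; exact (σ ⟨p, h⟩).2
      have hfinj : ∀ p ∈ C, ∀ q ∈ C, f p = f q → p = q := by
        intro p hp q hq h
        rw [hfC p hp, hfC q hq] at h
        have := σ.injective (Subtype.ext h)
        exact congrArg Subtype.val this
      set l := C.toList.take 5 with hl_def
      have hlC : ∀ a ∈ l, a ∈ C := fun a ha => Finset.mem_toList.1 (List.mem_of_mem_take ha)
      have hlnd : l.Nodup := (Finset.nodup_toList C).sublist (List.take_sublist 5 _)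
      have hllen : l.length = 5 := by
        rw [hl_def, List.length_take, Finset.length_toList, hC6]
        rfl
      have hl'nd : (l.map f).Nodup := by
        apply List.Nodup.map_on _ hlnd
        intro p hp q hq h
        exact hfinj p (hlC p hp) q (hlC q hq) h
      obtain ⟨g, hg, hgd, hgl⟩ := dodecad_map_lists hd hlnd hl'nd (fun a ha => hCd (hlC a ha))
        (by
          intro a ha
          rw [List.mem_map] at ha
          obtain ⟨b, hb, rfl⟩ := ha
          exact hCd (hfmem b (hlC b hb))) (by rw [List.length_map]) (by rw [hllen])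
      have hgf : ∀ a ∈ l, g a = f a := List.map_inj_left.1 hgl
      have hgC : g • C = C := by
        apply hexad_eq_of_five (smul_mem_hexadsOn hC hg hgd) hC
        have hsub : (l.map f).toFinset ⊆ g • C ∩ C := by
          intro p hp
          rw [List.mem_toFinset, List.mem_map] at hp
          obtain ⟨a, ha, rfl⟩ := hp
          rw [Finset.mem_inter]
          refine ⟨?_, hfmem a (hlC a ha)⟩
          rw [← hgf a ha]
          exact Finset.smul_mem_smul_finset (hlC a ha)
        have := Finset.card_le_card hsub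
        rw [List.toFinset_card_of_nodup hl'nd, List.length_map, hllen] at this
        exact this
      refine ⟨⟨⟨g, hg⟩, Subgroup.mem_inf.2 ⟨hgd, hgC⟩⟩, ?_⟩
      apply perm_eq_of_agree _ _ (l.toFinset.subtype (· ∈ C))
      · rw [Fintype.card_coe, hC6, Finset.card_subtype]
        have : l.toFinset.filter (· ∈ C) = l.toFinset := by
          apply Finset.filter_true_of_mem
          intro a ha
          exact hlC a (List.mem_toFinset.1 ha)
        rw [this, List.toFinset_card_of_nodup hlnd, hllen]
      · intro x hx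
        rw [Finset.mem_subtype, List.mem_toFinset] at hx
        apply Subtype.ext
        show g x.1 = ((σ x : ↥C) : GolayPt)
        rw [hgf x.1 hx, hfC x.1 x.2]
    have e1 := MulEquiv.ofBijective (res d C) ⟨hinj, hsurj⟩
    have e2 := Equiv.permCongrHom (Finset.equivFinOfCardEq hC6)
    exact ⟨e1.trans e2⟩
  · intro g hg hfix
    apply Subtype.ext
    exact trivial_of_fix hd Finset.sdiff_subset (by rw [hDC]; decide) g.2
      (Subgroup.mem_inf.1 hg).1 hfix

end Cfsg.Agent.S5618
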