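import Cfsg.Statements.S5624
import Cfsg.Agent.Lib.Helper9_Golay

set_option autoImplicit false
open Cfsg
open Cfsg.Agent.Helper9G

namespace Cfsg.Agent.S5624

theorem add_self_zmod2 (u : Fin 24 → ZMod 2) : u + u = 0 := by
  have := sub_eq_add' u u
  rw [sub_self] at this
  exact this.symm

theorem result (C : Submodule (ZMod 2) (Fin 24 → ZMod 2)) (hdim : Module.finrank (ZMod 2) C = 12) (horth : ∀ v ∈ C, ∀ w ∈ C, ∑ i, v i * w i = 0) (hmin : ∀ w ∈ C, w ≠ 0 → 8 ≤ hammingNorm w) : Submodule.span (ZMod 2) {w : Fin 24 → ZMod 2 | w ∈ C ∧ hammingNorm w = 8} = C := by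
  classical
  have hC : IsGolay C := ⟨hdim, horth, hmin⟩
  apply le_antisymm
  · rw [Submodule.span_le]
    intro w hw
    exact hw.1
  · have key : ∀ n : ℕ, ∀ c ∈ C, hammingNorm c = n →
        c ∈ Submodule.span (ZMod 2) {w : Fin 24 → ZMod 2 | w ∈ C ∧ hammingNorm w = 8} := by
      intro n
      induction n using Nat.strong_induction_on with
      | _ n ih =>
        intro c hc hn
        by_cases h0 : c = 0
        · rw [h0]; exact Submodule.zero_mem _
        · have h8 := hmin c hc h0
          rw [hammingNorm_eq] at h8
          obtain ⟨S, hSc, hS⟩ := Finset.exists_subset_card_eq (s := supp c) (n := 5) (by omega)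
          obtain ⟨o, ho, ho8, hSo⟩ := octad_exists hC S hS
          have hoC' : o ∈ Submodule.span (ZMod 2) {w : Fin 24 → ZMod 2 | w ∈ C ∧ hammingNorm w = 8} :=
            Submodule.subset_span ⟨ho, ho8⟩
          have hco : c + o ∈ C := C.add_mem hc ho
          have h5 : 5 ≤ (supp c ∩ supp o).card := by
            rw [← hS]
            apply Finset.card_le_card
            intro x hx
            rw [Finset.mem_inter]
            exact ⟨hSc hx, hSo hx⟩
          have hcard := card_supp_add c o
          rw [hammingNorm_eq] at ho8 hn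
          have hlt : hammingNorm (c + o) < n := by
            rw [hammingNorm_eq]; omega
          have hmem := ih _ hlt (c + o) hco rfl
          have : c = (c + o) + o := by
            rw [add_assoc, add_self_zmod2, add_zero]
          rw [this]
          exact Submodule.add_mem _ hmem hoC'
    intro c hc
    exact key _ c hc rfl

end Cfsg.Agent.S5624
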