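import Cfsg.Statements.S5621
import Cfsg.Agent.S5624

set_option autoImplicit false
open Cfsg
open Cfsg.Agent.Helper9G

namespace Cfsg.Agent.S5621

theorem result (C : Submodule (ZMod 2) (Fin 24 → ZMod 2)) (hdim : Module.finrank (ZMod 2) C = 12) (horth : ∀ v ∈ C, ∀ w ∈ C, ∑ i, v i * w i = 0) (hmin : ∀ w ∈ C, w ≠ 0 → 8 ≤ hammingNorm w) : ∀ w ∈ C, 4 ∣ hammingNorm w := by
  classical
  have hspan := Cfsg.Agent.S5624.result C hdim horth hmin
  have key : ∀ w ∈ Submodule.span (ZMod 2) {w : Fin 24 → ZMod 2 | w ∈ C ∧ hammingNorm w = 8},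
      w ∈ C ∧ 4 ∣ hammingNorm w := by
    intro w hw
    induction hw using Submodule.span_induction with
    | mem x hx => exact ⟨hx.1, by rw [hx.2]; norm_num⟩
    | zero => exact ⟨C.zero_mem, by rw [hammingNorm_zero]; exact dvd_zero 4⟩
    | add x y _ _ hx hy =>
      refine ⟨C.add_mem hx.1 hy.1, ?_⟩
      have hev := even_inter_of_dot_zero x y (horth x hx.1 y hy.1)
      obtain ⟨k, hk⟩ := hev
      have hcard := card_supp_add x y
      obtain ⟨a, ha⟩ := hx.2
      obtain ⟨b, hb⟩ := hy.2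
      rw [hammingNorm_eq] at ha hb ⊢
      refine ⟨a + b - k, ?_⟩
      omega
    | smul a x _ hx =>
      rcases zmod2_cases a with h | h
      · rw [h, zero_smul]
        exact ⟨C.zero_mem, by rw [hammingNorm_zero]; exact dvd_zero 4⟩
      · rw [h, one_smul]; exact hx
  intro w hw
  rw [← hspan] at hw
  exact (key w hw).2

end Cfsg.Agent.S5621
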