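import Cfsg.Statements.S5622
import Cfsg.Agent.Lib.Helper9_Golay

set_option autoImplicit false
open Cfsg
open Cfsg.Agent.Helper9G

namespace Cfsg.Agent.S5622

theorem support₂_eq (w : Fin 24 → ZMod 2) : Cfsg.support₂ w = supp w := by
  unfold Cfsg.support₂ supp
  congr 1

theorem result (C : Submodule (ZMod 2) (Fin 24 → ZMod 2)) (hdim : Module.finrank (ZMod 2) C = 12) (horth : ∀ v ∈ C, ∀ w ∈ C, ∑ i, v i * w i = 0) (hmin : ∀ w ∈ C, w ≠ 0 → 8 ≤ hammingNorm w) : (∃ w ∈ C, hammingNorm w = 8) ∧ Cfsg.IsSteinerSystem 5 8 (Cfsg.wordsOfWeight (C : Set (Fin 24 → ZMod 2)) 8) := by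
  classical
  have hC : IsGolay C := ⟨hdim, horth, hmin⟩
  constructor
  · obtain ⟨S, _, hS⟩ := Finset.exists_subset_card_eq (s := (Finset.univ : Finset (Fin 24))) (n := 5)
      (by rw [Finset.card_univ, Fintype.card_fin]; omega)
    obtain ⟨c, hc, h8, _⟩ := octad_exists hC S hS
    exact ⟨c, hc, h8⟩
  · constructor
    · intro b hb
      exact hb.2
    · intro S hS
      obtain ⟨c, hc, h8, hSc⟩ := octad_exists hC S hS
      refine ⟨supp c, ⟨⟨⟨c, hc, support₂_eq c⟩, by rw [← hammingNorm_eq]; exact h8⟩, hSc⟩, ?_⟩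
      rintro b' ⟨⟨⟨c', hc', hb'⟩, hb'card⟩, hSb'⟩
      rw [support₂_eq] at hb'
      have h8' : hammingNorm c' = 8 := by rw [hammingNorm_eq, hb']; exact hb'card
      have h5 : 5 ≤ (supp c ∩ supp c').card := by
        rw [← hS]
        apply Finset.card_le_card
        intro x hx
        rw [Finset.mem_inter]
        exact ⟨hSc hx, by rw [hb']; exact hSb' hx⟩
      rw [← hb', octad_unique hC c c' hc hc' h8 h8' h5]

end Cfsg.Agent.S5622
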