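import Cfsg.Statements.S5623
import Cfsg.Agent.Lib.Helper9_Golay

set_option autoImplicit false
open Cfsg
open Cfsg.Agent.Helper9G

namespace Cfsg.Agent.S5623

theorem result (C : Submodule (ZMod 2) (Fin 24 → ZMod 2)) (hdim : Module.finrank (ZMod 2) C = 12) (horth : ∀ v ∈ C, ∀ w ∈ C, ∑ i, v i * w i = 0) (hmin : ∀ w ∈ C, w ≠ 0 → 8 ≤ hammingNorm w) (w : Fin 24 → ZMod 2) : (∃ u : Fin 24 → ZMod 2, {u : Fin 24 → ZMod 2 | u - w ∈ C ∧ hammingNorm u ≤ 4} = {u} ∧ hammingNorm u ≤ 3) ∨ ({u : Fin 24 → ZMod 2 | u - w ∈ C ∧ hammingNorm u ≤ 4}.ncard = 6 ∧ ∀ u ∈ {u : Fin 24 → ZMod 2 | u - w ∈ C ∧ hammingNorm u ≤ 4}, hammingNorm u = 4 ∧ ∀ u' ∈ {u : Fin 24 → ZMod 2 | u - w ∈ C ∧ hammingNorm u ≤ 4}, u ≠ u' → Disjoint (Finset.univ.filter fun i => u i ≠ 0) (Finset.univ.filter fun i => u' i ≠ 0)) := by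
  classical
  have hC : IsGolay C := ⟨hdim, horth, hmin⟩
  have hsub : ∀ u u' : Fin 24 → ZMod 2, u - w ∈ C → u' - w ∈ C → u - u' ∈ C := by
    intro u u' h1 h2
    have : u - u' = (u - w) - (u' - w) := by abel
    rw [this]; exact C.sub_mem h1 h2
  rcases counting hC w with ⟨u, hu3, huw⟩ | ⟨hall4, hcard⟩
  · left
    refine ⟨u, ?_, hu3⟩
    ext u'
    simp only [Set.mem_setOf_eq, Set.mem_singleton_iff]
    constructor
    · rintro ⟨h1, h2⟩
      by_contra hne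
      have := close_words hC u' u (hsub u' u h1 huw) hne h2 (by omega)
      omega
    · rintro rfl
      exact ⟨huw, by omega⟩
  · right
    have hS : {u : Fin 24 → ZMod 2 | u - w ∈ C ∧ hammingNorm u ≤ 4} =
        ↑((Finset.univ.filter (fun u : Fin 24 → ZMod 2 => hammingNorm u = 4)).filter
          (fun u => u - w ∈ C)) := by
      ext u
      simp only [Set.mem_setOf_eq, Finset.coe_filter, Finset.mem_filter, Finset.mem_univ, true_and]
      constructor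
      · rintro ⟨h1, h2⟩; exact ⟨hall4 u h1 h2, h1⟩
      · rintro ⟨h1, h2⟩; exact ⟨h2, by omega⟩
    refine ⟨?_, ?_⟩
    · rw [hS, Set.ncard_coe_finset, hcard]
    · rintro u ⟨hu1, hu2⟩
      refine ⟨hall4 u hu1 hu2, ?_⟩
      rintro u' ⟨hu1', hu2'⟩ hne
      exact (close_words hC u u' (hsub u u' hu1 hu1') hne hu2 hu2').2.2

end Cfsg.Agent.S5623
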