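import Cfsg.Statements.S5625
import Mathlib

set_option autoImplicit false
open Cfsg

namespace Cfsg.Agent.S5625

theorem result (α : Type*) [Fintype α] [DecidableEq α] (hα : Fintype.card α = 24) (B : Set (Finset α)) (hB : Cfsg.IsSteinerSystem 5 8 B) (Y : Finset α) (hY : Y.card = 3) : {b : Finset α | b ∈ B ∧ (b ∩ Y).card = 3}.ncard = 21 ∧ {b : Finset α | b ∈ B ∧ (b ∩ Y).card = 2}.ncard = 168 ∧ {b : Finset α | b ∈ B ∧ (b ∩ Y).card = 1}.ncard = 360 ∧ {b : Finset α | b ∈ B ∧ (b ∩ Y).card = 0}.ncard = 210 := by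
  classical
  obtain ⟨hB8, hB5⟩ := hB
  set Bf : Finset (Finset α) := Finset.univ.filter (· ∈ B) with hBf
  have hmemBf : ∀ b, b ∈ Bf ↔ b ∈ B := by intro b; simp [hBf]
  let N : Finset α → ℕ := fun S => (Bf.filter (fun b => S ⊆ b)).card
  have hN5 : ∀ S : Finset α, S.card = 5 → N S = 1 := by
    intro S hS
    obtain ⟨b, ⟨hb, hSb⟩, huniq⟩ := hB5 S hS
    show (Bf.filter (fun b => S ⊆ b)).card = 1
    rw [Finset.card_eq_one]
    refine ⟨b, ?_⟩
    ext b'
    simp only [Finset.mem_filter, Finset.mem_singleton, hmemBf]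
    constructor
    · rintro ⟨h1, h2⟩; exact huniq b' ⟨h1, h2⟩
    · rintro rfl; exact ⟨hb, hSb⟩
  have hstep : ∀ (i c : ℕ), (∀ S' : Finset α, S'.card = i + 1 → N S' = c) →
      ∀ S : Finset α, S.card = i → N S * (8 - i) = (24 - i) * c := by
    intro i c hc S hS
    have h1 : ∑ b ∈ Bf.filter (fun b => S ⊆ b), (b \ S).card = N S * (8 - i) := by
      rw [Finset.sum_const_nat (m := 8 - i)]
      intro b hb
      rw [Finset.mem_filter, hmemBf] at hb
      rw [Finset.card_sdiff_of_subset hb.2, hB8 b hb.1, hS]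
    have h2 : ∑ b ∈ Bf.filter (fun b => S ⊆ b), (b \ S).card =
        ∑ x ∈ Finset.univ \ S, N (insert x S) := by
      have hcard : ∀ b : Finset α, (b \ S).card = ∑ x ∈ Finset.univ \ S, if x ∈ b then 1 else 0 := by
        intro b
        rw [Finset.sum_boole]
        simp only [Nat.cast_id]
        congr 1; ext x; simp [and_comm]
      simp_rw [hcard]
      rw [Finset.sum_comm]
      apply Finset.sum_congr rfl
      intro x hx
      rw [Finset.sum_boole]
      simp only [Nat.cast_id]
      show _ = (Bf.filter (fun b => insert x S ⊆ b)).card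
      congr 1
      ext b
      simp only [Finset.mem_filter, Finset.insert_subset_iff]
      tauto
    have h3 : ∑ x ∈ Finset.univ \ S, N (insert x S) = (24 - i) * c := by
      rw [Finset.sum_const_nat (m := c)]
      · rw [Finset.card_sdiff_of_subset (Finset.subset_univ S), Finset.card_univ, hα, hS]
      · intro x hx
        apply hc
        rw [Finset.card_insert_of_notMem (by simpa using hx), hS]
    rw [← h1, h2, h3]
  have hN4 : ∀ S : Finset α, S.card = 4 → N S = 5 := by
    intro S hS; have := hstep 4 1 hN5 S hS; omega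
  have hN3 : ∀ S : Finset α, S.card = 3 → N S = 21 := by
    intro S hS; have := hstep 3 5 hN4 S hS; omega
  have hN2 : ∀ S : Finset α, S.card = 2 → N S = 77 := by
    intro S hS; have := hstep 2 21 hN3 S hS; omega
  have hN1 : ∀ S : Finset α, S.card = 1 → N S = 253 := by
    intro S hS; have := hstep 1 77 hN2 S hS; omega
  have hN0 : ∀ S : Finset α, S.card = 0 → N S = 759 := by
    intro S hS; have := hstep 0 253 hN1 S hS; omega
  -- e_i
  let e : ℕ → ℕ := fun i => (Bf.filter (fun b => (b ∩ Y).card = i)).card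
  have hset : ∀ i, {b : Finset α | b ∈ B ∧ (b ∩ Y).card = i}.ncard = e i := by
    intro i
    have : {b : Finset α | b ∈ B ∧ (b ∩ Y).card = i} = ↑(Bf.filter (fun b => (b ∩ Y).card = i)) := by
      ext b; simp [hmemBf]
    rw [this, Set.ncard_coe_finset]
  -- the sums
  have hsum : ∀ (j c : ℕ), (∀ S : Finset α, S.card = j → N S = c) →
      ∑ b ∈ Bf, ((b ∩ Y).card).choose j = (Nat.choose 3 j) * c := by
    intro j c hc
    have h1 : ∀ b : Finset α, ((b ∩ Y).card).choose j =
        ∑ P ∈ Finset.powersetCard j Y, if P ⊆ b then 1 else 0 := by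
      intro b
      rw [Finset.sum_boole]
      simp only [Nat.cast_id]
      rw [← Finset.card_powersetCard]
      congr 1
      ext P
      simp only [Finset.mem_powersetCard, Finset.mem_filter, Finset.subset_inter_iff]
      tauto
    simp_rw [h1]
    rw [Finset.sum_comm]
    have h2 : ∀ P ∈ Finset.powersetCard j Y, (∑ b ∈ Bf, if P ⊆ b then 1 else 0) = c := by
      intro P hP
      rw [Finset.sum_boole]
      simp only [Nat.cast_id]
      exact hc P (Finset.mem_powersetCard.mp hP).2
    rw [Finset.sum_congr rfl h2, Finset.sum_const, Finset.card_powersetCard, hY, smul_eq_mul]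
  have hfiber : ∀ j : ℕ, ∑ b ∈ Bf, ((b ∩ Y).card).choose j = ∑ i ∈ Finset.range 4, e i * Nat.choose i j := by
    intro j
    have hmaps : ∀ b ∈ Bf, (b ∩ Y).card ∈ Finset.range 4 := by
      intro b _
      rw [Finset.mem_range]
      have := Finset.card_le_card (Finset.inter_subset_right : b ∩ Y ⊆ Y)
      omega
    rw [← Finset.sum_fiberwise_of_maps_to hmaps]
    apply Finset.sum_congr rfl
    intro i _
    rw [Finset.sum_const_nat (m := Nat.choose i j)]
    intro b hb
    rw [(Finset.mem_filter.mp hb).2]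
  have s3 := (hfiber 3).symm.trans (hsum 3 21 hN3)
  have s2 := (hfiber 2).symm.trans (hsum 2 77 hN2)
  have s1 := (hfiber 1).symm.trans (hsum 1 253 hN1)
  have s0 := (hfiber 0).symm.trans (hsum 0 759 hN0)
  simp only [Finset.sum_range_succ, Finset.sum_range_zero] at s0 s1 s2 s3
  norm_num [Nat.choose] at s0 s1 s2 s3
  rw [hset, hset, hset, hset]
  refine ⟨?_, ?_, ?_, ?_⟩ <;> omega

end Cfsg.Agent.S5625
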