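import Cfsg.Statements.S5632
import Cfsg.Agent.Lib.Helper9_Transv

set_option autoImplicit false
open Cfsg

namespace Cfsg.Agent.S5632

theorem result {F : Type*} [Field F] [Fintype F] (n : ℕ) (W U : Submodule F (Fin n → F)) (hW0 : W ≠ ⊥) (hWU : W < U) (hdim : Module.finrank F W + Module.finrank F U = n) : ∃ K : Subgroup (Matrix.GeneralLinearGroup (Fin n) F), Cfsg.Geo.subspaceStabilizer W ⊓ Cfsg.Geo.subspaceStabilizer U ⊓ Cfsg.Geo.specialLinear (Fin n) F < K ∧ K < Cfsg.Geo.specialLinear (Fin n) F := by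
  have hU : U ≠ ⊤ := by
    intro h
    rw [h, finrank_top, Module.finrank_fin_fun] at hdim
    have : Module.finrank F W = 0 := by omega
    exact hW0 (Submodule.finrank_eq_zero.mp this)
  have hWtop : W ≠ ⊤ := by
    intro h
    rw [h] at hWU
    exact not_top_lt hWU
  exact Cfsg.Agent.Helper9.between_of_witnesses W U
    (Cfsg.Agent.Helper9.exists_SL_stab_not_stab_nested W U hWU hU)
    (Cfsg.Agent.Helper9.exists_SL_not_stab W hW0 hWtop)

end Cfsg.Agent.S5632
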