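import Cfsg.Statements.S5642
import Cfsg.Agent.S5631
import Mathlib

set_option autoImplicit false
open Cfsg

namespace Cfsg.Agent.S5642

open Cfsg.Agent.Helper9 Cfsg.Agent.S5631 Matrix

variable {n : ℕ} {F : Type*} [Field F]

theorem glTransv_congr {φ φ' : Module.Dual F (Fin n → F)} {y y' : Fin n → F} (hφ : φ = φ')
    (hy : y = y') (h : φ y = 0) (h' : φ' y' = 0) : glTransv φ y h = glTransv φ' y' h' := by
  subst hφ; subst hy; rfl

theorem glTransv_add (φ φ' : Module.Dual F (Fin n → F)) (y : Fin n → F) (h : φ y = 0)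
    (h' : φ' y = 0) (h'' : (φ + φ') y = 0) :
    glTransv (φ + φ') y h'' = glTransv φ y h * glTransv φ' y h' := by
  apply gl_ext_mulVec
  intro v
  rw [gl_mul_mulVec, glTransv_mulVec, glTransv_mulVec, glTransv_mulVec]
  simp only [LinearMap.add_apply, map_add, map_smul, h, smul_zero, add_zero, smul_eq_mul]
  module

section Form

variable {f : (Fin n → F) → (Fin n → F) → F} (hf : Cfsg.Geo.IsSymplecticForm f)
include hf

theorem f_zero_left (v : Fin n → F) : f 0 v = 0 := by
  have := hf.bilinear.smul_left 0 0 v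
  simpa using this

theorem f_zero_right (v : Fin n → F) : f v 0 = 0 := by
  have := hf.bilinear.smul_right 0 v 0
  simpa using this

theorem f_sub_left (x y v : Fin n → F) : f (x - y) v = f x v - f y v := by
  have h1 := hf.bilinear.add_left (x - y) y v
  rw [sub_add_cancel] at h1
  rw [h1]; ring

theorem f_sub_right (v x y : Fin n → F) : f v (x - y) = f v x - f v y := by
  have h1 := hf.bilinear.add_right v (x - y) y
  rw [sub_add_cancel] at h1
  rw [h1]; ring

/-- the functional `x ↦ f x u` -/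
def fd (u : Fin n → F) : Module.Dual F (Fin n → F) where
  toFun x := f x u
  map_add' x y := hf.bilinear.add_left x y u
  map_smul' c x := hf.bilinear.smul_left c x u

theorem fd_apply (u x : Fin n → F) : fd hf u x = f x u := rfl

theorem fd_add (u v : Fin n → F) : fd hf (u + v) = fd hf u + fd hf v := by
  apply LinearMap.ext
  intro x
  rw [LinearMap.add_apply, fd_apply, fd_apply, fd_apply]
  exact hf.bilinear.add_right _ _ _

theorem fd_smul (c : F) (u : Fin n → F) : fd hf (c • u) = c • fd hf u := by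
  apply LinearMap.ext
  intro x
  rw [LinearMap.smul_apply, fd_apply, fd_apply]
  exact hf.bilinear.smul_right _ _ _

/-- every functional is represented by a vector -/
theorem exists_repr (φ : Module.Dual F (Fin n → F)) : ∃ z, ∀ x, φ x = f x z := by
  let L : (Fin n → F) →ₗ[F] Module.Dual F (Fin n → F) :=
    { toFun := fun z => fd hf z
      map_add' := fd_add hf
      map_smul' := fd_smul hf }
  have hinj : Function.Injective L := by
    rw [← LinearMap.ker_eq_bot, LinearMap.ker_eq_bot']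
    intro z hz
    by_contra hz0
    obtain ⟨⟨x, hx⟩, _⟩ := hf.nondegenerate z hz0
    apply hx
    have := LinearMap.congr_fun hz x
    exact this
  have hfin : Module.finrank F (Fin n → F) = Module.finrank F (Module.Dual F (Fin n → F)) :=
    (Subspace.dual_finrank_eq).symm
  have hsurj := (LinearMap.injective_iff_surjective_of_finrank_eq_finrank hfin).1 hinj
  obtain ⟨z, hz⟩ := hsurj φ
  exact ⟨z, fun x => by rw [← hz]; rfl⟩

/-- two non-zero vectors have a common non-orthogonal vector -/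
theorem two_nonzero (a w : Fin n → F) (ha0 : a ≠ 0) (hw0 : w ≠ 0) :
    ∃ y, f a y ≠ 0 ∧ f w y ≠ 0 := by
  obtain ⟨_, ⟨ya, hya⟩⟩ := hf.nondegenerate a ha0
  obtain ⟨_, ⟨yw, hyw⟩⟩ := hf.nondegenerate w hw0
  by_cases h1 : f w ya = 0
  · by_cases h2 : f a yw = 0
    · refine ⟨ya + yw, ?_, ?_⟩
      · rw [hf.bilinear.add_right, h2, add_zero]; exact hya
      · rw [hf.bilinear.add_right, h1, zero_add]; exact hyw
    · exact ⟨yw, h2, hyw⟩
  · exact ⟨ya, hya, h1⟩

/-- symplectic transvection -/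
noncomputable def st (u : Fin n → F) (c : F) : Matrix.GeneralLinearGroup (Fin n) F :=
  glTransv (c • fd hf u) u (by
    rw [LinearMap.smul_apply, fd_apply, hf.alternating, smul_zero])

theorem st_mulVec (u : Fin n → F) (c : F) (x : Fin n → F) :
    ((st hf u c : Matrix.GeneralLinearGroup (Fin n) F) : Matrix (Fin n) (Fin n) F) *ᵥ x =
      x + (c * f x u) • u := by
  unfold st
  rw [glTransv_mulVec]
  rfl

theorem st_mem_SL (u : Fin n → F) (c : F) : st hf u c ∈ Cfsg.Geo.specialLinear (Fin n) F :=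
  glTransv_mem_SL _ _ _

theorem st_isometry (u : Fin n → F) (c : F) (x x' : Fin n → F) :
    f (((st hf u c : Matrix.GeneralLinearGroup (Fin n) F) : Matrix (Fin n) (Fin n) F) *ᵥ x)
      (((st hf u c : Matrix.GeneralLinearGroup (Fin n) F) : Matrix (Fin n) (Fin n) F) *ᵥ x') =
      f x x' := by
  rw [st_mulVec, st_mulVec]
  simp only [hf.bilinear.add_left, hf.bilinear.add_right, hf.bilinear.smul_left,
    hf.bilinear.smul_right, hf.alternating]
  rw [hf.skew u x']
  ring

theorem st_mem_sim (u : Fin n → F) (c : F) : st hf u c ∈ Cfsg.Geo.similarityGroup f :=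
  ⟨1, fun x x' => by rw [st_isometry hf u c x x']; simp⟩

/-- moving one vector to another by symplectic transvections orthogonal to nothing in particular -/
theorem st_move (z z' : Fin n → F) (h : f z z' ≠ 0) :
    ((st hf (z - z') (1 / f z z') : Matrix.GeneralLinearGroup (Fin n) F) :
      Matrix (Fin n) (Fin n) F) *ᵥ z = z' := by
  rw [st_mulVec, f_sub_right hf, hf.alternating, zero_sub, one_div, mul_neg, inv_mul_cancel₀ h]
  module

/-- Step 1: a non-similarity produces a non-symplectic transvection direction -/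
theorem exists_nonsymp (g : Matrix.GeneralLinearGroup (Fin n) F)
    (hg : g ∉ Cfsg.Geo.similarityGroup f) :
    ∃ v : Fin n → F, v ≠ 0 ∧ ¬ ∃ a : F,
      (fd hf v).comp (Matrix.mulVecLin ((g⁻¹ : Matrix.GeneralLinearGroup (Fin n) F) :
        Matrix (Fin n) (Fin n) F)) = a • fd hf ((g : Matrix (Fin n) (Fin n) F) *ᵥ v) := by
  classical
  by_contra hcon
  push Not at hcon
  apply hg
  -- a(v)
  have hkey : ∀ v : Fin n → F, v ≠ 0 → ∃ a : F, ∀ x, f x v = a *
      f ((g : Matrix (Fin n) (Fin n) F) *ᵥ x) ((g : Matrix (Fin n) (Fin n) F) *ᵥ v) := by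
    intro v hv
    obtain ⟨a, ha⟩ := hcon v hv
    refine ⟨a, fun x => ?_⟩
    have := LinearMap.congr_fun ha ((g : Matrix (Fin n) (Fin n) F) *ᵥ x)
    simp only [LinearMap.comp_apply, Matrix.mulVecLin_apply, inv_mulVec_mulVec, fd_apply,
      LinearMap.smul_apply, smul_eq_mul] at this
    exact this
  choose a ha using hkey
  by_cases hV : ∃ v₁ : Fin n → F, v₁ ≠ 0
  · obtain ⟨v₁, hv₁⟩ := hV
    have ha0 : ∀ v (hv : v ≠ 0), a v hv ≠ 0 := by
      intro v hv h0
      obtain ⟨⟨x, hx⟩, _⟩ := hf.nondegenerate v hv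
      apply hx
      rw [ha v hv x, h0, zero_mul]
    have hsym : ∀ x v (hx : x ≠ 0) (hv : v ≠ 0), f x v ≠ 0 → a v hv = a x hx := by
      intro x v hx hv hxv
      have h1 := ha v hv x
      have h2 := ha x hx v
      rw [hf.skew v x, hf.skew ((g : Matrix (Fin n) (Fin n) F) *ᵥ v)] at h2
      have h3 : f ((g : Matrix (Fin n) (Fin n) F) *ᵥ x) ((g : Matrix (Fin n) (Fin n) F) *ᵥ v) ≠ 0 := by
        intro h0
        apply hxv
        rw [h1, h0, mul_zero]
      have h4 : (a v hv - a x hx) *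
          f ((g : Matrix (Fin n) (Fin n) F) *ᵥ x) ((g : Matrix (Fin n) (Fin n) F) *ᵥ v) = 0 := by
        linear_combination -h1 - h2
      rcases mul_eq_zero.1 h4 with h5 | h5
      · exact sub_eq_zero.1 h5
      · exact absurd h5 h3
    have hconst : ∀ v (hv : v ≠ 0), a v hv = a v₁ hv₁ := by
      intro v hv
      obtain ⟨x, hx1, hx2⟩ := two_nonzero hf v v₁ hv hv₁
      have hx0 : x ≠ 0 := by
        rintro rfl
        exact hx1 (f_zero_right hf v)
      have e1 := hsym v x hv hx0 hx1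
      have e2 := hsym v₁ x hv₁ hx0 hx2
      rw [← e1, e2]
    refine ⟨Units.mk0 (a v₁ hv₁)⁻¹ (inv_ne_zero (ha0 v₁ hv₁)), fun x v => ?_⟩
    by_cases hv : v = 0
    · subst hv
      rw [Matrix.mulVec_zero, f_zero_right hf, f_zero_right hf, mul_zero]
    · have := ha v hv x
      rw [hconst v hv] at this
      rw [this, Units.val_mk0, ← mul_assoc, inv_mul_cancel₀ (ha0 v₁ hv₁), one_mul]
  · push Not at hV
    refine ⟨1, fun x v => ?_⟩
    rw [hV v, Matrix.mulVec_zero, f_zero_right hf, f_zero_right hf, mul_zero]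

/-- Step 3: transport along isometries in `M` fixing `y` -/
theorem transport (M : Subgroup (Matrix.GeneralLinearGroup (Fin n) F))
    (y z : Fin n → F) (m : Matrix.GeneralLinearGroup (Fin n) F) (hm : m ∈ M)
    (hmy : (m : Matrix (Fin n) (Fin n) F) *ᵥ y = y)
    (hiso : ∀ x x', f ((m : Matrix (Fin n) (Fin n) F) *ᵥ x) ((m : Matrix (Fin n) (Fin n) F) *ᵥ x') = f x x')
    (hP : ∀ (c : F) (h : (c • fd hf z) y = 0), glTransv (c • fd hf z) y h ∈ M) :
    ∀ (c : F) (h : (c • fd hf ((m : Matrix (Fin n) (Fin n) F) *ᵥ z)) y = 0),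
      glTransv (c • fd hf ((m : Matrix (Fin n) (Fin n) F) *ᵥ z)) y h ∈ M := by
  intro c h
  have h1 : (c • fd hf ((m : Matrix (Fin n) (Fin n) F) *ᵥ z))
      ((m : Matrix (Fin n) (Fin n) F) *ᵥ y) = 0 := by rw [hmy]; exact h
  have e1 : glTransv (c • fd hf ((m : Matrix (Fin n) (Fin n) F) *ᵥ z)) y h =
      glTransv (c • fd hf ((m : Matrix (Fin n) (Fin n) F) *ᵥ z))
        ((m : Matrix (Fin n) (Fin n) F) *ᵥ y) h1 := glTransv_congr rfl hmy.symm _ _
  rw [e1, conj_glTransv]
  have e2 : (c • fd hf ((m : Matrix (Fin n) (Fin n) F) *ᵥ z)).comp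
      (Matrix.mulVecLin (m : Matrix (Fin n) (Fin n) F)) = c • fd hf z := by
    apply LinearMap.ext
    intro x
    simp only [LinearMap.comp_apply, Matrix.mulVecLin_apply, LinearMap.smul_apply, fd_apply, hiso]
  have h2 : (c • fd hf z) y = 0 := by
    rw [← e2, LinearMap.comp_apply, Matrix.mulVecLin_apply]
    exact h1
  have e3 : glTransv ((c • fd hf ((m : Matrix (Fin n) (Fin n) F) *ᵥ z)).comp
      (Matrix.mulVecLin (m : Matrix (Fin n) (Fin n) F))) y (by rw [e2]; exact h2) =
      glTransv (c • fd hf z) y h2 := glTransv_congr e2 rfl _ _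
  rw [e3]
  exact M.mul_mem (M.mul_mem hm (hP c h2)) (M.inv_mem hm)

/-- one step: from `z₁` to `z₂` non-orthogonal, both orthogonal to `y` -/
theorem step_P (M : Subgroup (Matrix.GeneralLinearGroup (Fin n) F))
    (hHM : Cfsg.Geo.similarityGroup f ⊓ Cfsg.Geo.specialLinear (Fin n) F ≤ M)
    (y z₁ z₂ : Fin n → F) (h1 : f y z₁ = 0) (h2 : f y z₂ = 0) (h12 : f z₁ z₂ ≠ 0)
    (hP : ∀ (c : F) (h : (c • fd hf z₁) y = 0), glTransv (c • fd hf z₁) y h ∈ M) :
    ∀ (c : F) (h : (c • fd hf z₂) y = 0), glTransv (c • fd hf z₂) y h ∈ M := by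
  have hm : st hf (z₁ - z₂) (1 / f z₁ z₂) ∈ M := hHM ⟨st_mem_sim hf _ _, st_mem_SL hf _ _⟩
  have hmy : ((st hf (z₁ - z₂) (1 / f z₁ z₂) : Matrix.GeneralLinearGroup (Fin n) F) :
      Matrix (Fin n) (Fin n) F) *ᵥ y = y := by
    rw [st_mulVec, f_sub_right hf, h1, h2, sub_zero, mul_zero, zero_smul, add_zero]
  have := transport hf M y z₁ _ hm hmy (st_isometry hf _ _) hP
  rw [st_move hf z₁ z₂ h12] at this
  exact this

/-- Step 3: all transvections along `y` are in `M` -/
theorem all_along (M : Subgroup (Matrix.GeneralLinearGroup (Fin n) F))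
    (hHM : Cfsg.Geo.similarityGroup f ⊓ Cfsg.Geo.specialLinear (Fin n) F ≤ M)
    (y : Fin n → F) (ψ : Module.Dual F (Fin n → F)) (hψy : ψ y = 0)
    (hψM : ∀ (c : F) (h : (c • ψ) y = 0), glTransv (c • ψ) y h ∈ M)
    (hψ : ¬ ∃ a : F, ψ = a • fd hf y) :
    ∀ (φ : Module.Dual F (Fin n → F)) (h : φ y = 0), glTransv φ y h ∈ M := by
  classical
  obtain ⟨z₀, hz₀⟩ := exists_repr hf ψ
  have hψeq : ψ = fd hf z₀ := LinearMap.ext (fun x => by rw [hz₀ x]; rfl)
  have hyz₀ : f y z₀ = 0 := by rw [← hz₀ y]; exact hψy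
  have hz₀y : z₀ ∉ Submodule.span F {y} := by
    intro h
    obtain ⟨t, ht⟩ := Submodule.mem_span_singleton.1 h
    apply hψ
    exact ⟨t, by rw [hψeq, ← ht, fd_smul hf]⟩
  have hP0 : ∀ (c : F) (h : (c • fd hf z₀) y = 0), glTransv (c • fd hf z₀) y h ∈ M := by
    intro c h
    have h' : (c • ψ) y = 0 := by rw [hψeq]; exact h
    have e : glTransv (c • fd hf z₀) y h = glTransv (c • ψ) y h' :=
      glTransv_congr (by rw [hψeq]) rfl _ _
    rw [e]
    exact hψM c h'
  -- a vector orthogonal to y, not orthogonal to a given z outside the span of y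
  have haux : ∀ z : Fin n → F, z ∉ Submodule.span F {y} → ∃ x, f y x = 0 ∧ f z x ≠ 0 := by
    intro z hz
    obtain ⟨θ, hθ1, hθ2⟩ := exists_functional _ _ hz
    obtain ⟨x, hx⟩ := exists_repr hf θ
    refine ⟨x, ?_, ?_⟩
    · rw [← hx y]; exact hθ2 y (Submodule.mem_span_singleton_self y)
    · rw [← hx z]; exact hθ1
  -- P z for all z orthogonal to y
  have hPall : ∀ z : Fin n → F, f y z = 0 →
      ∀ (c : F) (h : (c • fd hf z) y = 0), glTransv (c • fd hf z) y h ∈ M := by
    intro z hyz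
    by_cases hzy : z ∈ Submodule.span F {y}
    · obtain ⟨t, ht⟩ := Submodule.mem_span_singleton.1 hzy
      intro c h
      have e : glTransv (c • fd hf z) y h = st hf y (c * t) := by
        unfold st
        apply glTransv_congr _ rfl
        rw [← ht, fd_smul hf, smul_smul]
      rw [e]
      exact hHM ⟨st_mem_sim hf _ _, st_mem_SL hf _ _⟩
    · by_cases hcase : f z₀ z = 0
      · obtain ⟨x₁, hx₁y, hx₁⟩ := haux z₀ hz₀y
        obtain ⟨x₂, hx₂y, hx₂⟩ := haux z hzy
        obtain ⟨w, hwy, hw1, hw2⟩ : ∃ w, f y w = 0 ∧ f z₀ w ≠ 0 ∧ f z w ≠ 0 := by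
          by_cases e1 : f z x₁ = 0
          · by_cases e2 : f z₀ x₂ = 0
            · refine ⟨x₁ + x₂, ?_, ?_, ?_⟩
              · rw [hf.bilinear.add_right, hx₁y, hx₂y, add_zero]
              · rw [hf.bilinear.add_right, e2, add_zero]; exact hx₁
              · rw [hf.bilinear.add_right, e1, zero_add]; exact hx₂
            · exact ⟨x₂, hx₂y, e2, hx₂⟩
          · exact ⟨x₁, hx₁y, hx₁, e1⟩
        have hPw := step_P hf M hHM y z₀ w hyz₀ hwy hw1 hP0
        have hwz : f w z ≠ 0 := by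
          rw [hf.skew]; exact neg_ne_zero.2 hw2
        exact step_P hf M hHM y w z hwy hyz hwz hPw
      · exact step_P hf M hHM y z₀ z hyz₀ hyz hcase hP0
  intro φ h
  obtain ⟨z, hz⟩ := exists_repr hf φ
  have hφeq : φ = (1 : F) • fd hf z := by
    rw [one_smul]
    exact LinearMap.ext (fun x => by rw [hz x]; rfl)
  have hyz : f y z = 0 := by rw [← hz y]; exact h
  have h' : ((1 : F) • fd hf z) y = 0 := by rw [← hφeq]; exact h
  have e : glTransv φ y h = glTransv ((1 : F) • fd hf z) y h' := glTransv_congr hφeq rfl _ _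
  rw [e]
  exact hPall z hyz 1 h'

/-- Step 4: all transvections are in `M` -/
theorem all_transv (M : Subgroup (Matrix.GeneralLinearGroup (Fin n) F))
    (hHM : Cfsg.Geo.similarityGroup f ⊓ Cfsg.Geo.specialLinear (Fin n) F ≤ M)
    (y : Fin n → F) (hy0 : y ≠ 0)
    (hy : ∀ (φ : Module.Dual F (Fin n → F)) (h : φ y = 0), glTransv φ y h ∈ M) :
    ∀ (y' : Fin n → F) (φ : Module.Dual F (Fin n → F)) (h : φ y' = 0), glTransv φ y' h ∈ M := by
  have hmove : ∀ (y₁ y₂ : Fin n → F), f y₁ y₂ ≠ 0 →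
      (∀ (φ : Module.Dual F (Fin n → F)) (h : φ y₁ = 0), glTransv φ y₁ h ∈ M) →
      ∀ (φ : Module.Dual F (Fin n → F)) (h : φ y₂ = 0), glTransv φ y₂ h ∈ M := by
    intro y₁ y₂ h12 h1 φ h
    have hm : st hf (y₁ - y₂) (1 / f y₁ y₂) ∈ M := hHM ⟨st_mem_sim hf _ _, st_mem_SL hf _ _⟩
    have hmv := st_move hf y₁ y₂ h12
    have h' : φ (((st hf (y₁ - y₂) (1 / f y₁ y₂) : Matrix.GeneralLinearGroup (Fin n) F) :
      Matrix (Fin n) (Fin n) F) *ᵥ y₁) = 0 := by rw [hmv]; exact h
    have e : glTransv φ y₂ h = glTransv φ (((st hf (y₁ - y₂) (1 / f y₁ y₂) :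
        Matrix.GeneralLinearGroup (Fin n) F) : Matrix (Fin n) (Fin n) F) *ᵥ y₁) h' :=
      glTransv_congr rfl hmv.symm _ _
    rw [e, conj_glTransv]
    exact M.mul_mem (M.mul_mem hm (h1 _ _)) (M.inv_mem hm)
  intro y' φ h
  by_cases hy'0 : y' = 0
  · subst hy'0
    rw [glTransv_zero]
    exact M.one_mem
  by_cases hcase : f y y' = 0
  · obtain ⟨w, hw1, hw2⟩ := two_nonzero hf y y' hy0 hy'0
    have hPw := hmove y w hw1 hy
    have hwy' : f w y' ≠ 0 := by rw [hf.skew]; exact neg_ne_zero.2 hw2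
    exact hmove w y' hwy' hPw φ h
  · exact hmove y y' hcase hy φ h

/-- Step 5: some element of `SL` is not a similarity -/
theorem exists_SL_not_sim (hn : 3 ≤ n) :
    ∃ g ∈ Cfsg.Geo.specialLinear (Fin n) F, g ∉ Cfsg.Geo.similarityGroup f := by
  classical
  let y : Fin n → F := Pi.single ⟨0, by omega⟩ 1
  have hy0 : y ≠ 0 := by
    intro h
    have := congrFun h ⟨0, by omega⟩
    simp [y] at this
  obtain ⟨⟨x₀, hx₀⟩, _⟩ := hf.nondegenerate y hy0
  have hP : Submodule.span F (({y, x₀} : Finset (Fin n → F)) : Set (Fin n → F)) ≠ ⊤ := by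
    intro h
    have h1 := finrank_span_finset_le_card (R := F) ({y, x₀} : Finset (Fin n → F))
    unfold Set.finrank at h1
    rw [h, finrank_top, Module.finrank_pi, Fintype.card_fin] at h1
    have h2 : ({y, x₀} : Finset (Fin n → F)).card ≤ 2 := Finset.card_le_two
    omega
  obtain ⟨u, hu⟩ := exists_notMem_of_ne_top _ hP
  obtain ⟨φ, hφu, hφP⟩ := exists_functional _ _ hu
  have hφy : φ y = 0 := hφP y (Submodule.subset_span (by simp))
  have hφx : φ x₀ = 0 := hφP x₀ (Submodule.subset_span (by simp))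
  refine ⟨glTransv φ y hφy, glTransv_mem_SL _ _ _, ?_⟩
  rintro ⟨c, hc⟩
  have h1 := hc x₀ y
  rw [glTransv_mulVec, glTransv_mulVec, hφy, hφx, zero_smul, add_zero, add_zero] at h1
  have hc1 : (c : F) = 1 := by
    have : ((c : F) - 1) * f x₀ y = 0 := by linear_combination -h1
    rcases mul_eq_zero.1 this with h | h
    · exact sub_eq_zero.1 h
    · exact absurd h hx₀
  have h2 := hc u x₀
  rw [glTransv_mulVec, glTransv_mulVec, hφx, zero_smul, add_zero, hc1, one_mul,
    hf.bilinear.add_left, hf.bilinear.smul_left] at h2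
  have h3 : φ u * f y x₀ = 0 := by linear_combination h2
  rcases mul_eq_zero.1 h3 with h | h
  · exact hφu h
  · apply hx₀
    rw [hf.skew, h, neg_zero]

end Form

theorem result {F : Type*} [Field F] [Fintype F] (n : ℕ) (hn : 13 ≤ n) (f : (Fin n → F) → (Fin n → F) → F) (hf : Cfsg.Geo.IsSymplecticForm f) : Cfsg.Geo.IsMaximalIn (Cfsg.Geo.specialLinear (Fin n) F) (Cfsg.Geo.similarityGroup f ⊓ Cfsg.Geo.specialLinear (Fin n) F) := by
  classical
  constructor
  · refine lt_of_le_of_ne inf_le_right ?_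
    intro hcon
    obtain ⟨g, hg1, hg2⟩ := exists_SL_not_sim hf (by omega)
    rw [← hcon] at hg1
    exact hg2 hg1.1
  · intro M hHM hMK
    by_cases hMH : M = Cfsg.Geo.similarityGroup f ⊓ Cfsg.Geo.specialLinear (Fin n) F
    · left; exact hMH
    right
    have hlt : Cfsg.Geo.similarityGroup f ⊓ Cfsg.Geo.specialLinear (Fin n) F < M :=
      lt_of_le_of_ne hHM (Ne.symm hMH)
    obtain ⟨g, hgM, hgH⟩ := SetLike.exists_of_lt hlt
    have hgS : g ∉ Cfsg.Geo.similarityGroup f := fun h => hgH ⟨h, hMK hgM⟩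
    obtain ⟨v, hv0, hv⟩ := exists_nonsymp hf g hgS
    set y : Fin n → F := (g : Matrix (Fin n) (Fin n) F) *ᵥ v with hy
    set ψ : Module.Dual F (Fin n → F) := (fd hf v).comp (Matrix.mulVecLin
      ((g⁻¹ : Matrix.GeneralLinearGroup (Fin n) F) : Matrix (Fin n) (Fin n) F)) with hψ
    have hy0 : y ≠ 0 := by
      intro h
      apply hv0
      have := congrArg (fun w => ((g⁻¹ : Matrix.GeneralLinearGroup (Fin n) F) :
        Matrix (Fin n) (Fin n) F) *ᵥ w) h
      simp only [hy, inv_mulVec_mulVec, Matrix.mulVec_zero] at this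
      exact this
    have hψy : ψ y = 0 := by
      rw [hψ, hy, LinearMap.comp_apply, Matrix.mulVecLin_apply, inv_mulVec_mulVec, fd_apply,
        hf.alternating]
    have hψM : ∀ (c : F) (h : (c • ψ) y = 0), glTransv (c • ψ) y h ∈ M := by
      intro c h
      rw [conj_glTransv]
      have e2 : (c • ψ).comp (Matrix.mulVecLin (g : Matrix (Fin n) (Fin n) F)) = c • fd hf v := by
        apply LinearMap.ext
        intro x
        simp only [hψ, LinearMap.comp_apply, Matrix.mulVecLin_apply, LinearMap.smul_apply,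
          inv_mulVec_mulVec]
      have h2 : (c • fd hf v) v = 0 := by
        rw [LinearMap.smul_apply, fd_apply, hf.alternating, smul_zero]
      have e3 : glTransv ((c • ψ).comp (Matrix.mulVecLin (g : Matrix (Fin n) (Fin n) F))) v
          (by rw [e2]; exact h2) = st hf v c := glTransv_congr e2 rfl _ _
      rw [e3]
      exact M.mul_mem (M.mul_mem hgM (hHM ⟨st_mem_sim hf _ _, st_mem_SL hf _ _⟩)) (M.inv_mem hgM)
    have halong := all_along hf M hHM y ψ hψy hψM hv
    have hall := all_transv hf M hHM y hy0 halong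
    apply le_antisymm hMK
    refine le_trans specialLinear_le_closure_transvSet ?_
    rw [Subgroup.closure_le]
    rintro x ⟨φ, y', h, rfl⟩
    exact hall y' φ h

end Cfsg.Agent.S5642



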