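import Cfsg.Statements.S5646
import Cfsg.Agent.Lib.Helper9_Sp
import Mathlib

set_option autoImplicit false
open Cfsg

namespace Cfsg.Agent.S5646

open Cfsg.Agent.Helper9Sp Cfsg.Agent.Lib.Helper1_Symp Matrix

variable {m : ℕ} {F : Type*} [Field F]

theorem isCompl_perp (W : Submodule F (Fin m ⊕ Fin m → F))
    (hW : Cfsg.Geo.IsNondegenerateOn (Cfsg.sympForm m F) W) : IsCompl W (perp W) := by
  apply (LinearMap.BilinForm.isCompl_orthogonal_iff_disjoint symB_isRefl).2
  rw [Submodule.disjoint_def]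
  intro x hx hx'
  by_contra hx0
  obtain ⟨⟨y, hy, hy'⟩, _⟩ := hW x hx hx0
  exact hy' ((mem_perp W x).1 hx' y hy)

theorem result {F : Type*} [Field F] [Fintype F] (m : ℕ) (hm : 7 ≤ m) (W : Submodule F (Fin m ⊕ Fin m → F)) (hW0 : W ≠ ⊥) (hW : Cfsg.Geo.IsNondegenerateOn (Cfsg.sympForm m F) W) (hdim : Module.finrank F W < m) : Cfsg.Geo.IsMaximalIn (Cfsg.spGL m F) (Cfsg.Geo.subspaceStabilizer W ⊓ Cfsg.spGL m F) := by
  classical
  have hcompl := isCompl_perp W hW
  have hdisj : ∀ x, x ∈ W → x ∈ perp W → x = 0 := by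
    intro x h1 h2
    exact (Submodule.disjoint_def.1 hcompl.disjoint) x h1 h2
  have hsum : ∀ v : Fin m ⊕ Fin m → F, ∃ a ∈ W, ∃ b ∈ perp W, a + b = v := by
    intro v
    have : v ∈ W ⊔ perp W := by rw [hcompl.sup_eq_top]; trivial
    exact Submodule.mem_sup.1 this
  have hfin : Module.finrank F W + Module.finrank F (perp W) = 2 * m := by
    rw [Submodule.finrank_add_eq_of_isCompl hcompl, Module.finrank_pi]
    simp
    ring
  -- non-degeneracy of W and of its perp
  have hnd1 : ∀ a ∈ W, a ≠ 0 → ∃ y ∈ W, sympForm m F a y ≠ 0 := fun a ha ha0 => (hW a ha ha0).2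
  have hnd2 : ∀ b ∈ perp W, b ≠ 0 → ∃ y ∈ perp W, sympForm m F b y ≠ 0 := by
    intro b hb hb0
    obtain ⟨v, hv⟩ := exists_form_ne_zero b hb0
    obtain ⟨v1, hv1, v2, hv2, rfl⟩ := hsum v
    refine ⟨v2, hv2, ?_⟩
    rw [sympForm_add_right] at hv
    have : sympForm m F b v1 = 0 := by
      rw [sympForm_swap, (mem_perp W b).1 hb v1 hv1, neg_zero]
    rw [this, zero_add] at hv
    exact hv
  have horth : ∀ w₁ ∈ W, ∀ w₂ ∈ perp W, sympForm m F w₁ w₂ = 0 :=
    fun w₁ h1 w₂ h2 => (mem_perp W w₂).1 h2 w₁ h1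
  have horth' : ∀ w₁ ∈ perp W, ∀ w₂ ∈ W, sympForm m F w₁ w₂ = 0 := by
    intro w₁ h1 w₂ h2
    rw [sympForm_swap, horth w₂ h2 w₁ h1, neg_zero]
  have hperp0 : perp W ≠ ⊥ := by
    intro h
    rw [h, finrank_bot] at hfin
    omega
  constructor
  · refine lt_of_le_of_ne inf_le_right ?_
    intro hcon
    obtain ⟨w, hw, hw0⟩ := Submodule.exists_mem_ne_zero_of_ne_bot hW0
    obtain ⟨a, ha, haw⟩ := hnd1 w hw hw0
    obtain ⟨b, hb, hb0⟩ := Submodule.exists_mem_ne_zero_of_ne_bot hperp0
    have hg : spT (a + b) 1 ∈ Cfsg.spGL m F := spT_mem _ _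
    rw [← hcon] at hg
    have h1 := ((mem_stab_iff W _).1 hg.1 w).1 hw
    rw [spT_mulVec, one_mul, sympForm_add_right, horth w hw b hb, add_zero, smul_add] at h1
    have h2 : sympForm m F w a • b ∈ W := by
      have : sympForm m F w a • b = (w + (sympForm m F w a • a + sympForm m F w a • b)) -
          (w + sympForm m F w a • a) := by abel
      rw [this]
      exact W.sub_mem h1 (W.add_mem hw (W.smul_mem _ ha))
    have h3 : b ∈ W := by
      have : b = (sympForm m F w a)⁻¹ • (sympForm m F w a • b) := by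
        rw [smul_smul, inv_mul_cancel₀ haw, one_smul]
      rw [this]
      exact W.smul_mem _ h2
    exact hb0 (hdisj b h3 hb)
  · intro M hHM hMK
    by_cases hMH : M = Cfsg.Geo.subspaceStabilizer W ⊓ Cfsg.spGL m F
    · left; exact hMH
    right
    have hlt : Cfsg.Geo.subspaceStabilizer W ⊓ Cfsg.spGL m F < M :=
      lt_of_le_of_ne hHM (Ne.symm hMH)
    obtain ⟨g, hgM, hgH⟩ := SetLike.exists_of_lt hlt
    have hgW : g ∉ Cfsg.Geo.subspaceStabilizer W := fun h => hgH ⟨h, hMK hgM⟩
    have hX1 : ∀ w ∈ W, w ∈ XS M := by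
      intro w hw c
      exact hHM ⟨spT_stab_of_mem W w hw c, spT_mem w c⟩
    have hX2 : ∀ w ∈ perp W, w ∈ XS M := by
      intro w hw c
      exact hHM ⟨spT_stab_of_perp W w hw c, spT_mem w c⟩
    -- an element of X with both components non-zero
    obtain ⟨a, ha, b, hb, ha0, hb0, hab⟩ : ∃ a ∈ W, ∃ b ∈ perp W, a ≠ 0 ∧ b ≠ 0 ∧ a + b ∈ XS M := by
      by_contra hcon
      push Not at hcon
      have hunion : ∀ x ∈ XS M, x ∈ W ∨ x ∈ perp W := by
        intro x hx
        obtain ⟨a, ha, b, hb, rfl⟩ := hsum x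
        by_cases ha0 : a = 0
        · right; rw [ha0, zero_add]; exact hb
        · by_cases hb0 : b = 0
          · left; rw [hb0, add_zero]; exact ha
          · exact absurd hx (hcon a ha b hb ha0 hb0)
      have hS1 : ∀ x ∈ W.map (glEquiv g : (Fin m ⊕ Fin m → F) →ₗ[F] (Fin m ⊕ Fin m → F)),
          x ∈ W ∨ x ∈ perp W := by
        rintro x ⟨w, hw, rfl⟩
        exact hunion _ (XS_act M hMK g hgM w (hX1 w hw))
      have hS2 : ∀ x ∈ (perp W).map (glEquiv g : (Fin m ⊕ Fin m → F) →ₗ[F] (Fin m ⊕ Fin m → F)),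
          x ∈ W ∨ x ∈ perp W := by
        rintro x ⟨w, hw, rfl⟩
        exact hunion _ (XS_act M hMK g hgM w (hX2 w hw))
      have h1 : W.map (glEquiv g : (Fin m ⊕ Fin m → F) →ₗ[F] (Fin m ⊕ Fin m → F)) ≤ perp W := by
        rcases le_or_le_of_subset_union _ _ _ hS1 with h | h
        · exfalso
          apply hgW
          apply mem_stab_of_forall
          intro w hw
          exact h ⟨w, hw, rfl⟩
        · exact h
      have h2 : (perp W).map (glEquiv g : (Fin m ⊕ Fin m → F) →ₗ[F] (Fin m ⊕ Fin m → F)) ≤ W := by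
        rcases le_or_le_of_subset_union _ _ _ hS2 with h | h
        · exact h
        · exfalso
          -- then everything maps into perp W
          have hall : ∀ v : Fin m ⊕ Fin m → F, v ∈ perp W := by
            intro v
            obtain ⟨a, ha, b, hb, hv⟩ := hsum ((glEquiv g).symm v)
            have : v = glEquiv g a + glEquiv g b := by
              rw [← map_add, hv, LinearEquiv.apply_symm_apply]
            rw [this]
            exact (perp W).add_mem (h1 ⟨a, ha, rfl⟩) (h ⟨b, hb, rfl⟩)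
          obtain ⟨w, hw, hw0⟩ := Submodule.exists_mem_ne_zero_of_ne_bot hW0
          exact hw0 (hdisj w hw (hall w))
      have e1 : Module.finrank F W ≤ Module.finrank F (perp W) := by
        rw [← LinearEquiv.finrank_map_eq (glEquiv g) W]
        exact Submodule.finrank_mono h1
      have e2 : Module.finrank F (perp W) ≤ Module.finrank F W := by
        rw [← LinearEquiv.finrank_map_eq (glEquiv g) (perp W)]
        exact Submodule.finrank_mono h2
      omega
    -- sliding
    have hstep1 : ∀ a' ∈ W, a' + b ∈ XS M :=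
      slide M hMK W (perp W) hX1 hX2 horth hnd1 a b ha ha0 hb hab
    apply le_antisymm hMK
    apply spGL_le_of_XS
    intro v
    obtain ⟨a', ha', b', hb', rfl⟩ := hsum v
    have h3 : b + a' ∈ XS M := by
      rw [add_comm]; exact hstep1 a' ha'
    have := slide M hMK (perp W) W hX2 hX1 horth' hnd2 b a' hb hb0 ha' h3 b' hb'
    rw [add_comm]
    exact this

end Cfsg.Agent.S5646
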