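import Cfsg.Statements.S5726
-- import your own Cfsg.Agent.* helpers here

set_option autoImplicit false
open Cfsg

namespace Cfsg.Agent.S5726

theorem sylow_orbit_eq_univ {G Ω : Type*} [Group G] [Finite G] [MulAction G Ω] [Fintype Ω]
    (htr : MulAction.IsPretransitive G Ω)
    (p k : ℕ) [hp : Fact p.Prime] (hΩ : Fintype.card Ω = p ^ k) (P : Sylow p G) (ω : Ω) :
    MulAction.orbit (P : Subgroup G) ω = Set.univ := by
  classical
  have hos : (MulAction.orbit (P : Subgroup G) ω).ncard * Nat.card (MulAction.stabilizer (P : Subgroup G) ω)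
      = Nat.card (P : Subgroup G) := by
    rw [← MulAction.index_stabilizer, Subgroup.index_mul_card]
  have hosG : p ^ k * Nat.card (MulAction.stabilizer G ω) = Nat.card G := by
    rw [← hΩ, ← Nat.card_eq_fintype_card, ← MulAction.index_stabilizer_of_transitive G ω,
      Subgroup.index_mul_card]
  -- stabilizer in P is a p-group
  have hPp : IsPGroup p (P : Subgroup G) := P.isPGroup'
  have hstabp : IsPGroup p (MulAction.stabilizer (P : Subgroup G) ω) := hPp.to_subgroup _
  obtain ⟨j, hj⟩ := (IsPGroup.iff_card).mp hstabp
  -- stabilizer in P embeds into stabilizer in G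
  have hdvd : Nat.card (MulAction.stabilizer (P : Subgroup G) ω) ∣ Nat.card (MulAction.stabilizer G ω) := by
    let f : MulAction.stabilizer (P : Subgroup G) ω →* MulAction.stabilizer G ω :=
      { toFun := fun x => ⟨((x : (P : Subgroup G)) : G), by
          have := x.2
          rw [MulAction.mem_stabilizer_iff] at this ⊢
          exact this⟩
        map_one' := rfl
        map_mul' := fun _ _ => rfl }
    apply Subgroup.card_dvd_of_injective f
    intro x y hxy
    have := congrArg (fun z : MulAction.stabilizer G ω => (z : G)) hxy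
    exact Subtype.ext (Subtype.ext this)
  have hcardP : Nat.card (P : Subgroup G) = p ^ (Nat.card G).factorization p := P.card_eq_multiplicity
  set a := (Nat.card G).factorization p with ha
  rw [hj] at hdvd hos
  rw [hcardP] at hos
  have hGpos : Nat.card G ≠ 0 := Nat.card_pos.ne'
  have hjk : j + k ≤ a := by
    have h1 : p ^ (k + j) ∣ Nat.card G := by
      rw [← hosG, pow_add]
      exact Nat.mul_dvd_mul_left _ hdvd
    have := (hp.out.pow_dvd_iff_le_factorization hGpos).mp h1
    omega
  -- orbit size
  have horb : (MulAction.orbit (P : Subgroup G) ω).ncard = p ^ (a - j) := by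
    have hpj : 0 < p ^ j := pow_pos hp.out.pos _
    apply Nat.eq_of_mul_eq_mul_right hpj
    rw [hos, ← pow_add]
    congr 1; omega
  have hle : p ^ k ≤ (MulAction.orbit (P : Subgroup G) ω).ncard := by
    rw [horb]
    exact Nat.pow_le_pow_right hp.out.pos (by omega)
  -- so orbit is everything
  rw [Set.eq_univ_iff_ncard, Nat.card_eq_fintype_card, hΩ]
  apply le_antisymm _ hle
  rw [← hΩ, ← Nat.card_eq_fintype_card]
  exact Set.ncard_le_card _

/-- Let G be a finite permutation group acting faithfully and transitively on a set of prime-power size. Then G has a fixed-point-free element of order p. -/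
theorem result {G Ω : Type*} [Group G] [Finite G] [MulAction G Ω] [FaithfulSMul G Ω] [Fintype Ω] (htr : MulAction.IsPretransitive G Ω)
    (p k : ℕ) (hp : p.Prime) (hk : 1 ≤ k) (hΩ : Fintype.card Ω = p ^ k) :
    ∃ g : G, orderOf g = p ∧ ∀ ω : Ω, g • ω ≠ ω := by
  classical
  haveI : Fact p.Prime := ⟨hp⟩
  obtain ⟨P⟩ : Nonempty (Sylow p G) := inferInstance
  have horb := fun ω => sylow_orbit_eq_univ htr p k hΩ P ω
  have hPp : IsPGroup p (P : Subgroup G) := P.isPGroup'
  -- Ω nonempty
  have hΩpos : 0 < Fintype.card Ω := by rw [hΩ]; exact pow_pos hp.pos _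
  obtain ⟨ω₀⟩ : Nonempty Ω := Fintype.card_pos_iff.mp hΩpos
  -- P is nontrivial
  have hPnt : Nontrivial (P : Subgroup G) := by
    by_contra hnt
    rw [not_nontrivial_iff_subsingleton] at hnt
    have h1 : MulAction.orbit (P : Subgroup G) ω₀ = {ω₀} := by
      ext x
      constructor
      · rintro ⟨g, rfl⟩
        have : g = 1 := Subsingleton.elim _ _
        subst this
        simp
      · rintro rfl
        exact MulAction.mem_orbit_self _
    have h2 : ({ω₀} : Set Ω) = Set.univ := by rw [← h1, horb]
    have h3 : Fintype.card Ω = 1 := by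
      rw [← Nat.card_eq_fintype_card, ← Set.ncard_univ, ← h2, Set.ncard_singleton]
    rw [hΩ] at h3
    have h4 : p ^ 1 ≤ p ^ k := Nat.pow_le_pow_right hp.pos hk
    rw [pow_one] at h4
    have := hp.two_le
    omega
  -- center of P is a nontrivial p-group
  have hcnt : Nontrivial (Subgroup.center (P : Subgroup G)) := hPp.center_nontrivial
  have hcp : IsPGroup p (Subgroup.center (P : Subgroup G)) := hPp.to_subgroup _
  have hdvd : p ∣ Nat.card (Subgroup.center (P : Subgroup G)) := by
    obtain ⟨n, hn⟩ := (IsPGroup.iff_card).mp hcp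
    rw [hn]
    rcases n with _ | n
    · exfalso
      rw [pow_zero] at hn
      have := (Nat.card_eq_one_iff_unique.mp hn).1
      exact not_subsingleton _ this
    · exact dvd_pow_self p (Nat.succ_ne_zero n)
  obtain ⟨z, hz⟩ := exists_prime_orderOf_dvd_card' p hdvd
  refine ⟨((z : (P : Subgroup G)) : G), ?_, ?_⟩
  · rw [Subgroup.orderOf_coe, Subgroup.orderOf_coe]; exact hz
  · intro ω hω
    -- z fixes all points
    have hall : ∀ ω' : Ω, ((z : (P : Subgroup G)) : G) • ω' = ω' := by
      intro ω'
      have : ω' ∈ MulAction.orbit (P : Subgroup G) ω := by rw [horb]; trivial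
      obtain ⟨x, rfl⟩ := this
      have hcomm : (z : (P : Subgroup G)) * x = x * z := by
        have := z.2
        rw [Subgroup.mem_center_iff] at this
        exact (this x).symm
      change ((z : (P : Subgroup G)) : G) • ((x : G) • ω) = (x : G) • ω
      rw [smul_smul]
      have hc' : ((z : (P : Subgroup G)) : G) * (x : G) = (x : G) * ((z : (P : Subgroup G)) : G) := by
        have := congrArg (fun y : (P : Subgroup G) => (y : G)) hcomm
        simpa using this
      rw [hc', ← smul_smul, hω]
    have hz1 : ((z : (P : Subgroup G)) : G) = 1 := by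
      apply FaithfulSMul.eq_of_smul_eq_smul (α := Ω)
      intro a
      rw [hall a, one_smul]
    have : orderOf ((z : (P : Subgroup G)) : G) = p := by
      rw [Subgroup.orderOf_coe, Subgroup.orderOf_coe]; exact hz
    rw [hz1, orderOf_one] at this
    exact hp.one_lt.ne this

end Cfsg.Agent.S5726
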