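import Cfsg.Statements.S5727
import Cfsg.Agent.S5726

set_option autoImplicit false
open Cfsg

namespace Cfsg.Agent.S5727

/-- A `p`-group acting with all point stabilizers of index `p` on `m * p` points, `m < p`, has an element
without fixed points whose `p`-th power acts trivially. -/
theorem pgroup_derangement {P Ω : Type*} [Group P] [Finite P] [MulAction P Ω] [Fintype Ω]
    (p m a : ℕ) (hp : p.Prime) (hmp : m < p) (hΩ : Fintype.card Ω = m * p)
    (hP : Nat.card P = p ^ a)
    (hidx : ∀ ω : Ω, (MulAction.stabilizer P ω).index = p) :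
    ∃ g : P, (∀ ω : Ω, g • ω ≠ ω) ∧ ∀ ω : Ω, g ^ p • ω = ω := by
  classical
  haveI : Fintype P := Fintype.ofFinite P
  -- a ≠ 0 unless Ω is empty
  by_cases hΩe : IsEmpty Ω
  · exact ⟨1, fun ω => (hΩe.false ω).elim, fun ω => (hΩe.false ω).elim⟩
  rw [not_isEmpty_iff] at hΩe
  obtain ⟨ω₀⟩ := hΩe
  have ha : a ≠ 0 := by
    rintro rfl
    have h1 := (MulAction.stabilizer P ω₀).index_dvd_card
    rw [hidx ω₀, hP, pow_zero] at h1
    exact hp.one_lt.ne' (Nat.dvd_one.mp h1)
  have hminFac : (Nat.card P).minFac = p := by rw [hP]; exact hp.pow_minFac ha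
  have hnormal : ∀ ω : Ω, (MulAction.stabilizer P ω).Normal := fun ω =>
    Subgroup.normal_of_index_eq_minFac_card (by rw [hidx ω, hminFac])
  have hcardstab : ∀ ω : Ω, p * Nat.card (MulAction.stabilizer P ω) = Nat.card P := by
    intro ω
    rw [← hidx ω, Subgroup.index_mul_card]
  by_contra hcon
  push_neg at hcon
  -- every g with a fixed point has the p-th power condition, so must all have a fixed point
  have hfix : ∀ g : P, ∃ ω : Ω, g • ω = ω := by
    intro g
    by_contra hg
    push_neg at hg
    obtain ⟨ω, hω⟩ := hcon g hg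
    apply hω
    haveI := hnormal ω
    have := (MulAction.stabilizer P ω).pow_index_mem g
    rw [hidx ω] at this
    exact this
  -- fixed point sets have at least p elements
  have hge : ∀ g : P, p ≤ (Finset.univ.filter (fun ω : Ω => g • ω = ω)).card := by
    intro g
    obtain ⟨ω, hω⟩ := hfix g
    have hsub : MulAction.orbit P ω ⊆ ((Finset.univ.filter (fun ω' : Ω => g • ω' = ω')) : Set Ω) := by
      rintro _ ⟨x, rfl⟩
      simp only [Finset.coe_filter, Finset.mem_univ, true_and, Set.mem_setOf_eq]
      haveI := hnormal ω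
      have hmem : x⁻¹ * g * x ∈ MulAction.stabilizer P ω := by
        have hg : g ∈ MulAction.stabilizer P ω := hω
        have := (hnormal ω).conj_mem g hg x⁻¹
        simpa using this
      rw [MulAction.mem_stabilizer_iff] at hmem
      calc g • x • ω = x • ((x⁻¹ * g * x) • ω) := by simp [mul_smul]
        _ = x • ω := by rw [hmem]
    have h1 : (MulAction.orbit P ω).ncard = p := by rw [← MulAction.index_stabilizer, hidx ω]
    have h2 := Set.ncard_le_ncard hsub (Finset.finite_toSet _)
    rw [h1, Set.ncard_coe_finset] at h2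
    exact h2
  -- double counting
  have hdc : ∑ g : P, (Finset.univ.filter (fun ω : Ω => g • ω = ω)).card
      = ∑ ω : Ω, (Finset.univ.filter (fun g : P => g • ω = ω)).card := by
    simp_rw [Finset.card_filter]
    exact Finset.sum_comm
  have hstabcard : ∀ ω : Ω, (Finset.univ.filter (fun g : P => g • ω = ω)).card
      = Nat.card (MulAction.stabilizer P ω) := by
    intro ω
    rw [Nat.card_eq_fintype_card, Fintype.card_subtype]
    congr 1
  have hT : p * ∑ ω : Ω, (Finset.univ.filter (fun g : P => g • ω = ω)).card = m * p * Nat.card P := by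
    rw [Finset.mul_sum]
    simp_rw [hstabcard, hcardstab]
    rw [Finset.sum_const, Finset.card_univ, hΩ, smul_eq_mul]
  have hS : p * Nat.card P ≤ ∑ g : P, (Finset.univ.filter (fun ω : Ω => g • ω = ω)).card := by
    calc p * Nat.card P = ∑ _g : P, p := by
          rw [Finset.sum_const, Finset.card_univ, smul_eq_mul, Nat.card_eq_fintype_card, mul_comm]
      _ ≤ _ := Finset.sum_le_sum (fun g _ => hge g)
  rw [hdc] at hS
  have h3 : p * (p * Nat.card P) ≤ m * p * Nat.card P := by
    rw [← hT]; exact Nat.mul_le_mul_left _ hS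
  have hPpos : 0 < Nat.card P := Nat.card_pos
  have h4 : p * p * Nat.card P ≤ m * p * Nat.card P := by rw [mul_assoc]; exact h3
  have h5 : p * p ≤ m * p := Nat.le_of_mul_le_mul_right h4 hPpos
  have h6 : p ≤ m := Nat.le_of_mul_le_mul_right h5 hp.pos
  omega

theorem sylow_stab_index {G Ω : Type*} [Group G] [Finite G] [MulAction G Ω] [Fintype Ω]
    (htr : MulAction.IsPretransitive G Ω)
    (p m : ℕ) [hp : Fact p.Prime] (hm : 1 ≤ m) (hmp : m < p) (hΩ : Fintype.card Ω = m * p) (P : Sylow p G) (ω : Ω) :
    (MulAction.stabilizer (P : Subgroup G) ω).index = p := by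
  classical
  have hos : (MulAction.orbit (P : Subgroup G) ω).ncard * Nat.card (MulAction.stabilizer (P : Subgroup G) ω)
      = Nat.card (P : Subgroup G) := by
    rw [← MulAction.index_stabilizer, Subgroup.index_mul_card]
  have hosG : m * p * Nat.card (MulAction.stabilizer G ω) = Nat.card G := by
    rw [← hΩ, ← Nat.card_eq_fintype_card, ← MulAction.index_stabilizer_of_transitive G ω,
      Subgroup.index_mul_card]
  have hPp : IsPGroup p (P : Subgroup G) := P.isPGroup'
  have hstabp : IsPGroup p (MulAction.stabilizer (P : Subgroup G) ω) := hPp.to_subgroup _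
  obtain ⟨j, hj⟩ := (IsPGroup.iff_card).mp hstabp
  have hdvd : Nat.card (MulAction.stabilizer (P : Subgroup G) ω) ∣ Nat.card (MulAction.stabilizer G ω) := by
    let f : MulAction.stabilizer (P : Subgroup G) ω →* MulAction.stabilizer G ω :=
      { toFun := fun x => ⟨((x : (P : Subgroup G)) : G), by
          have := x.2
          rw [MulAction.mem_stabilizer_iff] at this ⊢
          exact this⟩
        map_one' := rfl
        map_mul' := fun _ _ => rfl }
    apply Subgroup.card_dvd_of_injective f
    intro x y hxy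
    have := congrArg (fun z : MulAction.stabilizer G ω => (z : G)) hxy
    exact Subtype.ext (Subtype.ext this)
  have hcardP : Nat.card (P : Subgroup G) = p ^ (Nat.card G).factorization p := P.card_eq_multiplicity
  set a := (Nat.card G).factorization p with ha
  rw [hj] at hdvd hos
  rw [hcardP] at hos
  have hGpos : Nat.card G ≠ 0 := Nat.card_pos.ne'
  have hjk : j + 1 ≤ a := by
    have h1 : p ^ (1 + j) ∣ Nat.card G := by
      rw [← hosG, pow_add, pow_one, mul_assoc]
      exact Dvd.dvd.mul_left (Nat.mul_dvd_mul_left _ hdvd) _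
    have := (hp.out.pow_dvd_iff_le_factorization hGpos).mp h1
    omega
  have horb : (MulAction.orbit (P : Subgroup G) ω).ncard = p ^ (a - j) := by
    have hpj : 0 < p ^ j := pow_pos hp.out.pos _
    apply Nat.eq_of_mul_eq_mul_right hpj
    rw [hos, ← pow_add]
    congr 1; omega
  have hle : (MulAction.orbit (P : Subgroup G) ω).ncard ≤ m * p := by
    rw [← hΩ, ← Nat.card_eq_fintype_card]
    exact Set.ncard_le_card _
  rw [MulAction.index_stabilizer, horb]
  have hlt : p ^ (a - j) < p ^ 2 := by
    rw [← horb]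
    calc _ ≤ m * p := hle
      _ < p * p := Nat.mul_lt_mul_of_pos_right hmp hp.out.pos
      _ = p ^ 2 := (sq p).symm
  have := (Nat.pow_lt_pow_iff_right hp.out.one_lt).mp hlt
  have : a - j = 1 := by omega
  rw [this, pow_one]

/-- Let G be a finite permutation group acting faithfully and transitively on a set of m * p points, with p prime and m ≤ p. Then G has a fixed-point-free element of order p. -/
theorem result {G Ω : Type*} [Group G] [Finite G] [MulAction G Ω] [FaithfulSMul G Ω] [Fintype Ω] (htr : MulAction.IsPretransitive G Ω)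
    (p m : ℕ) (hp : p.Prime) (hm : 1 ≤ m) (hmp : m ≤ p) (hΩ : Fintype.card Ω = m * p) :
    ∃ g : G, orderOf g = p ∧ ∀ ω : Ω, g • ω ≠ ω := by
  classical
  rcases hmp.eq_or_lt with rfl | hlt
  · exact Cfsg.Agent.S5726.result htr m 2 hp (by norm_num) (by rw [hΩ, sq])
  have : Fact p.Prime := ⟨hp⟩
  obtain ⟨P⟩ : Nonempty (Sylow p G) := inferInstance
  have hcardP : Nat.card (P : Subgroup G) = p ^ (Nat.card G).factorization p := P.card_eq_multiplicity
  obtain ⟨g, hg1, hg2⟩ := pgroup_derangement (P := (P : Subgroup G)) (Ω := Ω) p m _ hp hlt hΩ hcardP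
    (fun ω => sylow_stab_index htr p m hm hlt hΩ P ω)
  have hΩpos : 0 < Fintype.card Ω := by rw [hΩ]; exact Nat.mul_pos hm hp.pos
  obtain ⟨ω₀⟩ : Nonempty Ω := Fintype.card_pos_iff.mp hΩpos
  refine ⟨(g : G), ?_, fun ω => hg1 ω⟩
  apply orderOf_eq_prime
  · apply FaithfulSMul.eq_of_smul_eq_smul (α := Ω)
    intro ω
    rw [one_smul]
    exact hg2 ω
  · intro h1
    apply hg1 ω₀
    change (g : G) • ω₀ = ω₀
    rw [h1, one_smul]

end Cfsg.Agent.S5727
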