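import Cfsg.Statements.S5728
import Mathlib

set_option autoImplicit false
open Cfsg

namespace Cfsg.Agent.S5728

theorem result (p s : ℕ) [Fact p.Prime] (hs : p = 2 ^ s - 1)
    (g : Equiv.Perm (GaloisField p 2)) (hg : g ∈ Cfsg.affineGroup (GaloisField p 2)) (hord : (orderOf g).Prime) :
    ∃ x ∈ Cfsg.affineGroup (GaloisField p 2), ∃ a b : ZMod p, a ≠ 0 ∧
      ∀ y : GaloisField p 2, (x * g * x⁻¹) y = algebraMap (ZMod p) (GaloisField p 2) a * y + algebraMap (ZMod p) (GaloisField p 2) b := by
  classical
  have hp : p.Prime := Fact.out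
  obtain ⟨a, b, hab⟩ := hg
  have hg1 : g ≠ 1 := by
    intro h; rw [h, orderOf_one] at hord; exact Nat.not_prime_one hord
  by_cases ha : a = 1
  · -- translation
    subst ha
    have hab' : ∀ x, g x = x + b := by intro x; rw [hab x]; simp
    have hb : b ≠ 0 := by
      intro hb; apply hg1; ext x; rw [hab' x, hb]; simp
    refine ⟨Equiv.mulLeft₀ b⁻¹ (inv_ne_zero hb), ?_, 1, 1, one_ne_zero, ?_⟩
    · exact ⟨Units.mk0 b⁻¹ (inv_ne_zero hb), 0, fun x => by simp⟩
    · intro y
      have hinv : (Equiv.mulLeft₀ b⁻¹ (inv_ne_zero hb))⁻¹ y = b * y := by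
        rw [Equiv.Perm.inv_def]
        apply (Equiv.mulLeft₀ b⁻¹ (inv_ne_zero hb)).injective
        rw [Equiv.apply_symm_apply]
        simp [hb]
      have e : ∀ t, (Equiv.mulLeft₀ b⁻¹ (inv_ne_zero hb)) t = b⁻¹ * t := fun t => rfl
      rw [Equiv.Perm.mul_apply, Equiv.Perm.mul_apply, hinv, hab', e, map_one, one_mul]
      field_simp
  · -- fixed point
    have ha' : (a : GaloisField p 2) ≠ 1 := by
      intro h; apply ha; exact Units.ext h
    have h1a : (1 : GaloisField p 2) - a ≠ 0 := by
      intro h; apply ha'; exact (sub_eq_zero.mp h).symm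
    set y0 : GaloisField p 2 := b / (1 - a) with hy0
    have hfix : (a : GaloisField p 2) * y0 + b = y0 := by
      rw [hy0]; field_simp; ring
    -- powers
    have hpow : ∀ k : ℕ, ∀ y, (g ^ k) y = (a : GaloisField p 2) ^ k * (y - y0) + y0 := by
      intro k
      induction k with
      | zero => intro y; simp
      | succ k ih =>
        intro y
        rw [pow_succ', Equiv.Perm.mul_apply, ih, hab]
        rw [pow_succ']
        linear_combination hfix
    have har : (a : GaloisField p 2) ^ (orderOf g) = 1 := by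
      have := hpow (orderOf g) (y0 + 1)
      rw [pow_orderOf_eq_one] at this
      simp only [Equiv.Perm.coe_one, id_eq, add_sub_cancel_left, mul_one] at this
      have h2 : y0 + 1 = y0 + (a : GaloisField p 2) ^ (orderOf g) := by rw [this]; ring
      exact (add_left_cancel h2).symm
    have har' : a ^ (orderOf g) = 1 := by
      apply Units.ext; rw [Units.val_pow_eq_pow_val]; exact har
    have hoa : orderOf a = orderOf g := by
      have hdvd := orderOf_dvd_of_pow_eq_one har'
      rcases hord.eq_one_or_self_of_dvd _ hdvd with h | h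
      · exfalso; exact ha (orderOf_eq_one_iff.mp h)
      · exact h
    -- orderOf a divides p^2 - 1
    have hcard : Nat.card (GaloisField p 2)ˣ = p ^ 2 - 1 := by
      rw [Nat.card_units, GaloisField.card p 2 (by norm_num)]
    have hdvd : orderOf g ∣ p ^ 2 - 1 := by
      rw [← hoa, ← hcard]; exact orderOf_dvd_natCard a
    -- p odd, p + 1 = 2 ^ s
    have hs1 : 2 ^ s = p + 1 := by
      have : 1 ≤ 2 ^ s := Nat.one_le_two_pow
      omega
    have hs0 : s ≠ 0 := by
      intro h; rw [h] at hs1; simp at hs1; exact hp.ne_zero hs1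
    have hpodd : 2 ∣ p - 1 := by
      obtain ⟨t, rfl⟩ : ∃ t, s = t + 1 := ⟨s - 1, by omega⟩
      rw [pow_succ] at hs1
      have hp2 := hp.two_le
      omega
    have hfac : p ^ 2 - 1 = (p - 1) * 2 ^ s := by
      rw [hs1]
      have hp2 := hp.one_le
      obtain ⟨t, rfl⟩ : ∃ t, p = t + 1 := ⟨p - 1, by omega⟩
      simp only [Nat.add_sub_cancel]
      have : (t + 1) ^ 2 = t * (t + 1 + 1) + 1 := by ring
      rw [this]; simp
    have hdvd2 : orderOf g ∣ p - 1 := by
      rw [hfac] at hdvd
      rcases (Nat.Prime.dvd_mul hord).mp hdvd with h | h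
      · exact h
      · have := (Nat.prime_dvd_prime_iff_eq hord Nat.prime_two).mp (hord.dvd_of_dvd_pow h)
        rw [this]; exact hpodd
    have hap1 : (a : GaloisField p 2) ^ (p - 1) = 1 := by
      obtain ⟨t, ht⟩ := hdvd2
      rw [ht, pow_mul, har, one_pow]
    have hap : (a : GaloisField p 2) ^ p = a := by
      have h := pow_succ (a : GaloisField p 2) (p - 1)
      rw [Nat.sub_add_cancel hp.one_le] at h
      rw [h, hap1, one_mul]
    have hmem : (a : GaloisField p 2) ∈ (⊥ : Subfield (GaloisField p 2)) :=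
      (Subfield.mem_bot_iff_pow_eq_self (GaloisField p 2) p).mpr hap
    obtain ⟨n, hn⟩ := (mem_bot_iff_intCast p (GaloisField p 2)).mp hmem
    have hn' : algebraMap (ZMod p) (GaloisField p 2) (n : ZMod p) = a := by
      rw [map_intCast]; exact hn
    refine ⟨Equiv.addRight (-y0), ?_, (n : ZMod p), 0, ?_, ?_⟩
    · exact ⟨1, -y0, fun x => by simp [sub_eq_add_neg]⟩
    · intro h
      rw [h, map_zero] at hn'
      exact a.ne_zero hn'.symm
    · intro y
      have hinv : (Equiv.addRight (-y0))⁻¹ y = y + y0 := by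
        rw [Equiv.Perm.inv_def]
        apply (Equiv.addRight (-y0)).injective
        rw [Equiv.apply_symm_apply]
        simp
      rw [Equiv.Perm.mul_apply, Equiv.Perm.mul_apply, hinv, hab, hn', map_zero]
      have e : ∀ t, (Equiv.addRight (-y0)) t = t + -y0 := fun t => rfl
      rw [e]
      linear_combination hfix

end Cfsg.Agent.S5728
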