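import Cfsg.Statements.S5729
import Mathlib.Tactic

set_option autoImplicit false
open Cfsg

namespace Cfsg.Agent.S5729

open MulAction

theorem result {G Ω : Type*} [Group G] [Finite G] [MulAction G Ω] [FaithfulSMul G Ω] [Fintype Ω] (htr : MulAction.IsPretransitive G Ω) (hn : 3 ≤ Fintype.card Ω) :
    ((MulAction.IsPretransitive G Ω ∧ (∃ g : G, g ≠ 1 ∧ ∃ ω : Ω, g • ω = ω) ∧ ∀ g : G, g ≠ 1 → Nat.card (MulAction.fixedBy Ω g) ≤ 1) ∧ Nat.card G = Fintype.card Ω * (Fintype.card Ω - 1) ∧ Fintype.card Ω * Nat.card {g : G // ∀ ω : Ω, g • ω ≠ ω} = Nat.card G) ∨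
    Nat.card G < Fintype.card Ω * Nat.card {g : G // ∀ ω : Ω, g • ω ≠ ω} := by
  classical
  haveI : Fintype G := Fintype.ofFinite G
  set n := Fintype.card Ω with hndef
  have hΩne : Nonempty Ω := Fintype.card_pos_iff.mp (by omega)
  obtain ⟨ω₀⟩ := hΩne
  set f : G → ℕ := fun g => (Finset.univ.filter (fun ω : Ω => g • ω = ω)).card with hf
  have hfcard : ∀ g : G, Fintype.card (fixedBy Ω g) = f g := fun g =>
    Fintype.card_of_subtype _ (by intro x; simp [MulAction.mem_fixedBy])
  have hfle : ∀ g, f g ≤ n := fun g => Finset.card_le_univ _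
  have hf1 : f 1 = n := by
    simp only [hf, one_smul, Finset.filter_true, Finset.card_univ, hndef]
  have hfn : ∀ g, f g = n → g = 1 := by
    intro g hg
    have : Finset.univ.filter (fun ω : Ω => g • ω = ω) = Finset.univ :=
      (Finset.card_eq_iff_eq_univ _).mp hg
    apply FaithfulSMul.eq_of_smul_eq_smul (α := Ω)
    intro a
    have ha : a ∈ Finset.univ.filter (fun ω : Ω => g • ω = ω) := by rw [this]; exact Finset.mem_univ a
    rw [one_smul]
    exact (Finset.mem_filter.mp ha).2
  have hf0 : ∀ g, f g = 0 ↔ ∀ ω : Ω, g • ω ≠ ω := by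
    intro g
    simp only [hf, Finset.card_eq_zero, Finset.filter_eq_empty_iff, Finset.mem_univ, true_imp_iff]
  set N := Fintype.card G with hN
  -- Burnside on Ω
  have I1 : ∑ g, f g = N := by
    have h := MulAction.sum_card_fixedBy_eq_card_orbits_mul_card_group G Ω
    simp only [hfcard] at h
    rw [h]
    have : Fintype.card (Quotient (orbitRel G Ω)) = 1 := by
      rw [Fintype.card_eq_one_iff]
      refine ⟨⟦ω₀⟧, fun y => ?_⟩
      induction y using Quotient.inductionOn with
      | h a =>
        apply Quotient.sound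
        show a ∈ orbit G ω₀
        rw [MulAction.orbit_eq_univ]; trivial
    rw [this, one_mul]
  -- Burnside on Ω × Ω
  have I2 : ∃ r : ℕ, 2 ≤ r ∧ ∑ g, (f g) ^ 2 = r * N := by
    refine ⟨Fintype.card (Quotient (orbitRel G (Ω × Ω))), ?_, ?_⟩
    · -- at least two orbits
      obtain ⟨ω₁, hω₁⟩ : ∃ ω₁ : Ω, ω₁ ≠ ω₀ := by
        by_contra hcon
        push Not at hcon
        have : Fintype.card Ω ≤ 1 := Fintype.card_le_one_iff.mpr (fun a b => (hcon a).trans (hcon b).symm)
        omega
      have hne : (⟦(ω₀, ω₀)⟧ : Quotient (orbitRel G (Ω × Ω))) ≠ ⟦(ω₀, ω₁)⟧ := by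
        intro h
        have h' := Quotient.exact h
        obtain ⟨g, hg⟩ := h'
        simp only [Prod.smul_mk, Prod.mk.injEq] at hg
        have h1 : g • ω₀ = ω₀ := hg.1
        have h2 : g • ω₁ = ω₀ := hg.2
        exact hω₁ (MulAction.injective g (h2.trans h1.symm))
      have := Fintype.one_lt_card_iff.mpr ⟨_, _, hne⟩
      omega
    · have h := MulAction.sum_card_fixedBy_eq_card_orbits_mul_card_group G (Ω × Ω)
      rw [← h]
      apply Finset.sum_congr rfl
      intro g _
      have : Fintype.card (fixedBy (Ω × Ω) g) = f g * f g := by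
        rw [← hfcard g, ← Fintype.card_prod]
        apply Fintype.card_congr
        exact
          { toFun := fun p => (⟨p.1.1, by
                have := p.2; rw [MulAction.mem_fixedBy] at this ⊢
                exact congrArg Prod.fst this⟩, ⟨p.1.2, by
                have := p.2; rw [MulAction.mem_fixedBy] at this ⊢
                exact congrArg Prod.snd this⟩)
            invFun := fun q => ⟨(q.1.1, q.2.1), by
                rw [MulAction.mem_fixedBy]
                exact Prod.ext q.1.2 q.2.2⟩
            left_inv := fun p => rfl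
            right_inv := fun q => rfl }
      rw [this, sq]
  obtain ⟨r, hr2, I2⟩ := I2
  -- derangement count
  set d := (Finset.univ.filter (fun g : G => f g = 0)).card with hd
  have hdcard : Nat.card {g : G // ∀ ω : Ω, g • ω ≠ ω} = d := by
    rw [Nat.card_eq_fintype_card]
    exact Fintype.card_of_subtype _ (by intro x; simp [hf0])
  have hNcard : Nat.card G = N := Nat.card_eq_fintype_card
  rw [hdcard, hNcard]
  -- integer version
  have hsum_ind : ∑ g : G, (if f g = 0 then (n : ℤ) else 0) = (n : ℤ) * d := by
    rw [← Finset.sum_filter, Finset.sum_const, hd]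
    simp [mul_comm]
  have hterm : ∀ g : G, ((f g : ℤ) - 1) * ((f g : ℤ) - n) ≤ (if f g = 0 then (n : ℤ) else 0) := by
    intro g
    by_cases h0 : f g = 0
    · simp [h0]
    · rw [if_neg h0]
      have h1 : (1 : ℤ) ≤ f g := by exact_mod_cast Nat.one_le_iff_ne_zero.mpr h0
      have h2 : (f g : ℤ) ≤ n := by exact_mod_cast hfle g
      nlinarith
  have hsumterm : ∑ g : G, (((f g : ℤ) - 1) * ((f g : ℤ) - n)) = ((r : ℤ) - 1) * N := by
    have e : ∀ g : G, ((f g : ℤ) - 1) * ((f g : ℤ) - n) = ((f g : ℤ)) ^ 2 - (n + 1) * (f g : ℤ) + n := by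
      intro g; ring
    simp only [e]
    rw [Finset.sum_add_distrib, Finset.sum_sub_distrib, ← Finset.mul_sum, Finset.sum_const, Finset.card_univ]
    have i1 : ∑ g : G, (f g : ℤ) = N := by exact_mod_cast I1
    have i2 : ∑ g : G, (f g : ℤ) ^ 2 = r * N := by exact_mod_cast I2
    rw [i1, i2]
    simp only [nsmul_eq_mul]
    rw [← hN]
    ring
  have hineq : ((r : ℤ) - 1) * N ≤ (n : ℤ) * d := by
    rw [← hsumterm, ← hsum_ind]
    exact Finset.sum_le_sum (fun g _ => hterm g)
  have hr2' : (2 : ℤ) ≤ r := by exact_mod_cast hr2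
  have hNnn : (0 : ℤ) ≤ N := by positivity
  have hle : (N : ℤ) ≤ (n : ℤ) * d := by nlinarith
  rcases lt_or_eq_of_le hle with hlt | heq
  · right
    exact_mod_cast hlt
  · left
    -- all the slack terms vanish
    have hslack : ∑ g : G, ((if f g = 0 then (n : ℤ) else 0) - ((f g : ℤ) - 1) * ((f g : ℤ) - n)) = 0 := by
      apply le_antisymm
      · rw [Finset.sum_sub_distrib, hsum_ind, hsumterm]
        nlinarith
      · exact Finset.sum_nonneg (fun g _ => sub_nonneg.mpr (hterm g))
    have hzero := (Finset.sum_eq_zero_iff_of_nonneg (fun g _ => sub_nonneg.mpr (hterm g))).mp hslack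
    have hfvals : ∀ g : G, f g ≠ 0 → f g = 1 ∨ f g = n := by
      intro g h0
      have := hzero g (Finset.mem_univ g)
      rw [if_neg h0, zero_sub, neg_eq_zero, mul_eq_zero] at this
      rcases this with h | h
      · left; have : (f g : ℤ) = 1 := by linarith
        exact_mod_cast this
      · right; have : (f g : ℤ) = n := by linarith
        exact_mod_cast this
    have hfle1 : ∀ g : G, g ≠ 1 → f g ≤ 1 := by
      intro g hg
      by_cases h0 : f g = 0
      · omega
      · rcases hfvals g h0 with h | h
        · omega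
        · exact absurd (hfn g h) hg
    -- count: Σ f = (N - d) + (n - 1)
    have hfdecomp : ∀ g : G, f g = (if f g = 0 then 0 else 1) + (if g = 1 then n - 1 else 0) := by
      intro g
      by_cases hg : g = 1
      · subst hg
        rw [hf1]
        have : n ≠ 0 := by omega
        simp [this]; omega
      · by_cases h0 : f g = 0
        · simp [h0, hg]
        · have := hfle1 g hg
          simp [h0, hg]; omega
    have hcount : N = (N - d) + (n - 1) := by
      have h1 : ∑ g : G, f g = ∑ g : G, ((if f g = 0 then 0 else 1) + (if g = 1 then n - 1 else 0)) :=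
        Finset.sum_congr rfl (fun g _ => hfdecomp g)
      rw [I1, Finset.sum_add_distrib, Finset.sum_ite_eq' Finset.univ (1 : G)] at h1
      simp only [Finset.mem_univ, if_true] at h1
      have h2 : ∑ g : G, (if f g = 0 then 0 else 1) = N - d := by
        rw [Finset.sum_ite, Finset.sum_const_zero, zero_add, Finset.sum_const, smul_eq_mul, mul_one]
        have := Finset.card_filter_add_card_filter_not (s := (Finset.univ : Finset G)) (fun g => f g = 0)
        rw [Finset.card_univ] at this
        omega
      rw [h2] at h1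
      exact h1
    have hdN : d ≤ N := by
      rw [hd, hN, ← Finset.card_univ]
      exact Finset.card_le_card (Finset.filter_subset _ _)
    have hdn : d = n - 1 := by omega
    have hNval : N = n * (n - 1) := by
      have : (N : ℤ) = (n : ℤ) * (d : ℤ) := heq
      have h3 : N = n * d := by exact_mod_cast this
      rw [h3, hdn]
    refine ⟨⟨htr, ?_, ?_⟩, hNval, ?_⟩
    · -- some non-identity element fixes a point
      have hcard : 1 < (Finset.univ.filter (fun g : G => ¬ f g = 0)).card := by
        have := Finset.card_filter_add_card_filter_not (s := (Finset.univ : Finset G)) (fun g => f g = 0)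
        rw [Finset.card_univ, ← hd, ← hN] at this
        have h4 : (Finset.univ.filter (fun g : G => ¬ f g = 0)).card = N - d := by omega
        rw [h4, hNval, hdn]
        have : n - 1 ≥ 2 := by omega
        have h5 : n * (n - 1) ≥ 3 * (n - 1) := Nat.mul_le_mul_right _ hn
        omega
      obtain ⟨a, ha, b, hb, hab⟩ := Finset.one_lt_card.mp hcard
      have key : ∀ g : G, f g ≠ 0 → ∃ ω : Ω, g • ω = ω := by
        intro g hg
        by_contra hcon
        push Not at hcon
        exact hg ((hf0 g).mpr hcon)
      by_cases ha1 : a = 1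
      · have hb1 : b ≠ 1 := fun h => hab (ha1.trans h.symm)
        exact ⟨b, hb1, key b (Finset.mem_filter.mp hb).2⟩
      · exact ⟨a, ha1, key a (Finset.mem_filter.mp ha).2⟩
    · intro g hg
      rw [Nat.card_eq_fintype_card, hfcard]
      exact hfle1 g hg
    · have : (N : ℤ) = (n : ℤ) * (d : ℤ) := heq
      exact_mod_cast this.symm

end Cfsg.Agent.S5729
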