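import Cfsg.Statements.S5738
import Mathlib.Tactic

set_option autoImplicit false
open Cfsg

namespace Cfsg.Agent.S5738

variable {F K : Type*} [Field F] [Field K] [Algebra F K]

/-- the Singer map -/
noncomputable abbrev sing (F K : Type*) [Field F] [Field K] [Algebra F K] : Kˣ →* (Module.End F K)ˣ :=
  Units.map ((Algebra.lmul F K : K →ₐ[F] Module.End F K) : K →* Module.End F K)

theorem sing_apply (c : Kˣ) (x : K) : ((sing F K c : (Module.End F K)ˣ) : Module.End F K) x = c * x := by
  simp [sing]

/-- the unit of End attached to an algebra automorphism -/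
noncomputable def autUnit (σ : K ≃ₐ[F] K) : (Module.End F K)ˣ where
  val := σ.toLinearMap
  inv := σ.symm.toLinearMap
  val_inv := by ext x; simp
  inv_val := by ext x; simp

theorem autUnit_apply (σ : K ≃ₐ[F] K) (x : K) : ((autUnit σ : (Module.End F K)ˣ) : Module.End F K) x = σ x := rfl

theorem autUnit_inv_apply (σ : K ≃ₐ[F] K) (x : K) :
    (((autUnit σ)⁻¹ : (Module.End F K)ˣ) : Module.End F K) x = σ.symm x := rfl

theorem units_ext_apply {u v : (Module.End F K)ˣ} (h : ∀ x : K, (u : Module.End F K) x = (v : Module.End F K) x) :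
    u = v := Units.ext (LinearMap.ext h)

theorem unit_inv_apply (u : (Module.End F K)ˣ) (x : K) :
    ((u⁻¹ : (Module.End F K)ˣ) : Module.End F K) ((u : Module.End F K) x) = x := by
  have h3 : ((u⁻¹ : (Module.End F K)ˣ) : Module.End F K) * (u : Module.End F K) = 1 := by
    rw [← Units.val_mul]; simp
  exact LinearMap.congr_fun h3 x

theorem unit_apply_inv (u : (Module.End F K)ˣ) (x : K) :
    (u : Module.End F K) (((u⁻¹ : (Module.End F K)ˣ) : Module.End F K) x) = x := by
  have h3 : (u : Module.End F K) * ((u⁻¹ : (Module.End F K)ˣ) : Module.End F K) = 1 := by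
    rw [← Units.val_mul]; simp
  exact LinearMap.congr_fun h3 x

theorem conj_autUnit (σ : K ≃ₐ[F] K) (k : Kˣ) :
    autUnit σ * sing F K k * (autUnit σ)⁻¹ = sing F K (Units.map (σ : K →* K) k) := by
  apply units_ext_apply
  intro x
  simp only [Units.val_mul, Module.End.mul_apply, autUnit_apply, autUnit_inv_apply, sing_apply]
  simp

theorem autUnit_mem_normalizer (σ : K ≃ₐ[F] K) :
    autUnit σ ∈ Subgroup.normalizer (((sing F K).range : Subgroup (Module.End F K)ˣ) : Set (Module.End F K)ˣ) := by
  rw [Subgroup.mem_normalizer_iff]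
  intro h
  constructor
  · rintro ⟨k, rfl⟩
    rw [conj_autUnit]
    exact ⟨_, rfl⟩
  · rintro ⟨k, hk⟩
    refine ⟨Units.map (σ.symm : K →* K) k, ?_⟩
    have h1 : h = (autUnit σ)⁻¹ * (autUnit σ * h * (autUnit σ)⁻¹) * autUnit σ := by group
    rw [h1, ← hk]
    apply units_ext_apply
    intro x
    simp only [Units.val_mul, Module.End.mul_apply, autUnit_apply, autUnit_inv_apply, sing_apply]
    simp

/-- the parametrisation of the normaliser -/
noncomputable def param (F K : Type*) [Field F] [Field K] [Algebra F K] :
    Kˣ × (K ≃ₐ[F] K) → Subgroup.normalizer (((sing F K).range : Subgroup (Module.End F K)ˣ) : Set (Module.End F K)ˣ) :=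
  fun p => ⟨sing F K p.1 * autUnit p.2,
    Subgroup.mul_mem _ (Subgroup.le_normalizer ⟨p.1, rfl⟩) (autUnit_mem_normalizer p.2)⟩

theorem param_apply (p : Kˣ × (K ≃ₐ[F] K)) (x : K) :
    (((param F K p : (Module.End F K)ˣ)) : Module.End F K) x = p.1 * p.2 x := by
  simp only [param, Units.val_mul, Module.End.mul_apply, autUnit_apply, sing_apply]

theorem param_injective : Function.Injective (param F K) := by
  rintro ⟨c, σ⟩ ⟨c', σ'⟩ h
  have h' : ∀ x : K, (c : K) * σ x = c' * σ' x := by
    intro x
    have := congrArg (fun u : Subgroup.normalizer (((sing F K).range : Subgroup (Module.End F K)ˣ) : Set (Module.End F K)ˣ) =>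
      (((u : (Module.End F K)ˣ)) : Module.End F K) x) h
    simpa only [param_apply] using this
  have hc : c = c' := by
    apply Units.ext
    have := h' 1
    simpa using this
  subst hc
  have hσ : σ = σ' := by
    ext x
    have := h' x
    exact mul_left_cancel₀ c.ne_zero this
  rw [hσ]

theorem param_surjective : Function.Surjective (param F K) := by
  rintro ⟨φ, hφ⟩
  -- c = φ 1
  have hinj : Function.Injective (φ : Module.End F K) := by
    have : Function.LeftInverse ((φ⁻¹ : (Module.End F K)ˣ) : Module.End F K) (φ : Module.End F K) :=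
      fun x => unit_inv_apply φ x
    exact this.injective
  have hc0 : (φ : Module.End F K) 1 ≠ 0 := by
    intro h0
    have : (φ : Module.End F K) 1 = (φ : Module.End F K) 0 := by rw [h0, map_zero]
    exact one_ne_zero (hinj this)
  set c : Kˣ := Units.mk0 _ hc0 with hcdef
  set ψ : (Module.End F K)ˣ := (sing F K c)⁻¹ * φ with hψ
  have hψN : ψ ∈ Subgroup.normalizer (((sing F K).range : Subgroup (Module.End F K)ˣ) : Set (Module.End F K)ˣ) :=
    Subgroup.mul_mem _ (Subgroup.inv_mem _ (Subgroup.le_normalizer ⟨c, rfl⟩)) hφ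
  have hψapp : ∀ x : K, (ψ : Module.End F K) x = (c : K)⁻¹ * (φ : Module.End F K) x := by
    intro x
    rw [hψ, Units.val_mul, Module.End.mul_apply, ← map_inv, sing_apply]
    simp
  have hψ1 : (ψ : Module.End F K) 1 = 1 := by
    rw [hψapp 1, hcdef]
    simp [hc0]
  have hψinv1 : ((ψ⁻¹ : (Module.End F K)ˣ) : Module.End F K) 1 = 1 := by
    have := unit_inv_apply ψ 1
    rwa [hψ1] at this
  -- multiplicativity
  have hmul : ∀ k x : K, (ψ : Module.End F K) (k * x) = (ψ : Module.End F K) k * (ψ : Module.End F K) x := by
    intro k x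
    by_cases hk : k = 0
    · subst hk; simp
    · have hmem := (Subgroup.mem_normalizer_iff.mp hψN (sing F K (Units.mk0 k hk))).mp ⟨_, rfl⟩
      obtain ⟨k', hk'⟩ := hmem
      have e1 : (k' : K) = (ψ : Module.End F K) k := by
        have := congrArg (fun u : (Module.End F K)ˣ => (u : Module.End F K) 1) hk'
        simp only [Units.val_mul, Module.End.mul_apply, sing_apply, hψinv1] at this
        simpa using this
      have e2 : sing F K k' * ψ = ψ * sing F K (Units.mk0 k hk) := by
        rw [hk']; group
      have := congrArg (fun u : (Module.End F K)ˣ => (u : Module.End F K) x) e2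
      simp only [Units.val_mul, Module.End.mul_apply, sing_apply] at this
      rw [e1] at this
      simpa using this.symm
  -- the algebra automorphism
  let σ : K ≃ₐ[F] K :=
    { toFun := fun x => (ψ : Module.End F K) x
      invFun := fun x => ((ψ⁻¹ : (Module.End F K)ˣ) : Module.End F K) x
      left_inv := fun x => unit_inv_apply ψ x
      right_inv := fun x => unit_apply_inv ψ x
      map_mul' := hmul
      map_add' := fun x y => map_add _ x y
      commutes' := fun r => by
        show (ψ : Module.End F K) (algebraMap F K r) = algebraMap F K r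
        rw [Algebra.algebraMap_eq_smul_one, map_smul, hψ1] }
  refine ⟨(c, σ), ?_⟩
  apply Subtype.ext
  apply units_ext_apply
  intro x
  rw [param_apply]
  show (c : K) * (ψ : Module.End F K) x = (φ : Module.End F K) x
  rw [hψapp x, ← mul_assoc, mul_inv_cancel₀ c.ne_zero, one_mul]

theorem result {F K : Type*} [Field F] [Fintype F] [Field K] [Fintype K] [Algebra F K] (n : ℕ) (hn : 2 ≤ n) (hdim : Module.finrank F K = n) :
    Nat.card (Subgroup.normalizer (((Units.map ((Algebra.lmul F K : K →ₐ[F] Module.End F K) : K →* Module.End F K)).range : Subgroup (Module.End F K)ˣ) : Set (Module.End F K)ˣ)) = n * (Fintype.card K - 1) := by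
  have e := Equiv.ofBijective (param F K) ⟨param_injective, param_surjective⟩
  rw [← Nat.card_congr e, Nat.card_prod, Nat.card_units, IsGalois.card_aut_eq_finrank, hdim,
    Nat.card_eq_fintype_card, mul_comm]

end Cfsg.Agent.S5738
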