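import Cfsg.Statements.S5739
import Cfsg.Agent.S5738
import Mathlib.Tactic

set_option autoImplicit false
open Cfsg

namespace Cfsg.Agent.S5739

open Cfsg.Agent.S5738

variable {F K : Type*} [Field F] [Field K] [Algebra F K]

/-- elements `x` of `K` whose multiplication is a `g`-conjugate of a multiplication -/
def conjAlg (g : (Module.End F K)ˣ) : Subalgebra F K where
  carrier := {x | ∃ y : K, ∀ v : K, x * v = (g : Module.End F K) (y * ((g⁻¹ : (Module.End F K)ˣ) : Module.End F K) v)}
  mul_mem' := by
    rintro x1 x2 ⟨y1, h1⟩ ⟨y2, h2⟩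
    refine ⟨y1 * y2, fun v => ?_⟩
    rw [mul_assoc, h1, h2, unit_inv_apply, mul_assoc]
  one_mem' := ⟨1, fun v => by rw [one_mul, one_mul, unit_apply_inv]⟩
  add_mem' := by
    rintro x1 x2 ⟨y1, h1⟩ ⟨y2, h2⟩
    refine ⟨y1 + y2, fun v => ?_⟩
    rw [add_mul, h1, h2, add_mul, map_add]
  zero_mem' := ⟨0, fun v => by simp⟩
  algebraMap_mem' := by
    intro r
    refine ⟨algebraMap F K r, fun v => ?_⟩
    rw [← Algebra.smul_def, ← Algebra.smul_def, map_smul, unit_apply_inv]

theorem mem_conjAlg (g : (Module.End F K)ˣ) (x : K) :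
    x ∈ conjAlg g ↔ ∃ y : K, ∀ v : K, x * v = (g : Module.End F K) (y * ((g⁻¹ : (Module.End F K)ˣ) : Module.End F K) v) :=
  Iff.rfl

theorem result {F K : Type*} [Field F] [Fintype F] [Field K] [Fintype K] [Algebra F K] (n : ℕ) (hn : 2 ≤ n) (hdim : Module.finrank F K = n)
    (g : (Module.End F K)ˣ) (hg : ((Units.map ((Algebra.lmul F K : K →ₐ[F] Module.End F K) : K →* Module.End F K)).range).map (MulAut.conj g).toMonoidHom ≠ (Units.map ((Algebra.lmul F K : K →ₐ[F] Module.End F K) : K →* Module.End F K)).range) :
    ∃ r : ℕ, 1 ≤ r ∧ r ∣ n ∧ r < n ∧ Nat.card ↥(((Units.map ((Algebra.lmul F K : K →ₐ[F] Module.End F K) : K →* Module.End F K)).range).map (MulAut.conj g).toMonoidHom ⊓ (Units.map ((Algebra.lmul F K : K →ₐ[F] Module.End F K) : K →* Module.End F K)).range) ∣ Fintype.card F ^ r - 1 := by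
  classical
  haveI : Finite (Module.End F K) :=
    Finite.of_injective (fun f : Module.End F K => (f : K → K)) DFunLike.coe_injective
  change ((sing F K).range).map (MulAut.conj g).toMonoidHom ≠ (sing F K).range at hg
  change ∃ r : ℕ, 1 ≤ r ∧ r ∣ n ∧ r < n ∧ Nat.card ↥(((sing F K).range).map (MulAut.conj g).toMonoidHom ⊓ (sing F K).range) ∣ Fintype.card F ^ r - 1
  have hLinj : Function.Injective (sing F K) := by
    intro a b hab
    apply Units.ext
    have := congrArg (fun u : (Module.End F K)ˣ => (u : Module.End F K) 1) hab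
    simpa [sing_apply] using this
  have hS : (conjAlg g).IsAlgebraic := fun x _ => Algebra.IsAlgebraic.isAlgebraic x
  set E : IntermediateField F K := hS.toIntermediateField with hE
  have hmemE : ∀ x : K, x ∈ E ↔ x ∈ conjAlg g := fun x => Iff.rfl
  set r := Module.finrank F E with hr
  have hrn : r * Module.finrank E K = n := by
    rw [← hdim]; exact Module.finrank_mul_finrank F E K
  have hrpos : 1 ≤ r := Module.finrank_pos
  have hnpos : 0 < n := by omega
  have hrdvd : r ∣ n := Dvd.intro _ hrn
  have hrle : r ≤ n := Nat.le_of_dvd hnpos hrdvd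
  refine ⟨r, hrpos, hrdvd, ?_, ?_⟩
  · -- r < n
    rcases hrle.eq_or_lt with heq | hlt
    · exfalso
      apply hg
      -- E = ⊤
      have htop : E.toSubalgebra.toSubmodule = ⊤ := by
        apply Submodule.eq_top_of_finrank_eq
        show Module.finrank F E = Module.finrank F K
        rw [hdim, ← heq]
      have hall : ∀ x : K, x ∈ conjAlg g := by
        intro x
        have : x ∈ E.toSubalgebra.toSubmodule := by rw [htop]; trivial
        exact this
      symm
      apply Subgroup.eq_of_le_of_card_ge
      · rintro _ ⟨k, rfl⟩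
        obtain ⟨y, hy⟩ := hall (k : K)
        have hy0 : y ≠ 0 := by
          rintro rfl
          have := hy 1
          simp at this
        refine ⟨sing F K (Units.mk0 y hy0), ⟨_, rfl⟩, ?_⟩
        apply units_ext_apply
        intro v
        simp only [MulEquiv.coe_toMonoidHom, MulAut.conj_apply, Units.val_mul, Module.End.mul_apply, sing_apply]
        exact (hy v).symm
      · rw [Subgroup.card_map_of_injective (MulAut.conj g).injective]
    · exact hlt
  · -- the divisibility
    set A := ((sing F K).range).map (MulAut.conj g).toMonoidHom ⊓ (sing F K).range with hA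
    have hA1 : (A.comap (sing F K)).map (sing F K) = A :=
      Subgroup.map_comap_eq_self (inf_le_right)
    have hc1 : Nat.card A = Nat.card (A.comap (sing F K)) := by
      conv_lhs => rw [← hA1]
      exact Subgroup.card_map_of_injective hLinj
    -- image of Eˣ in Kˣ
    have hUinj : Function.Injective (Units.map (E.val : E →* K)) := by
      intro a b hab
      apply Units.ext
      have := congrArg (fun u : Kˣ => (u : K)) hab
      exact Subtype.ext (by simpa using this)
    have hle : A.comap (sing F K) ≤ (Units.map (E.val : E →* K)).range := by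
      intro k hk
      have hk1 : sing F K k ∈ ((sing F K).range).map (MulAut.conj g).toMonoidHom := hk.1
      obtain ⟨_, ⟨y, rfl⟩, hy⟩ := hk1
      have hkE : (k : K) ∈ E := by
        rw [hmemE, mem_conjAlg]
        refine ⟨(y : K), fun v => ?_⟩
        have := congrArg (fun u : (Module.End F K)ˣ => (u : Module.End F K) v) hy
        simp only [MulEquiv.coe_toMonoidHom, MulAut.conj_apply, Units.val_mul, Module.End.mul_apply, sing_apply] at this
        exact this.symm
      have hkE' : ((k⁻¹ : Kˣ) : K) ∈ E := by
        rw [Units.val_inv_eq_inv_val]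
        exact E.inv_mem hkE
      refine ⟨⟨⟨k, hkE⟩, ⟨_, hkE'⟩, ?_, ?_⟩, ?_⟩
      · apply Subtype.ext; simp
      · apply Subtype.ext; simp
      · apply Units.ext; rfl
    have hd1 : Nat.card (A.comap (sing F K)) ∣ Nat.card (Units.map (E.val : E →* K)).range :=
      Subgroup.card_dvd_of_le hle
    have hc2 : Nat.card (Units.map (E.val : E →* K)).range = Nat.card Eˣ := by
      rw [MonoidHom.range_eq_map, Subgroup.card_map_of_injective hUinj, Subgroup.card_top]
    have hc3 : Nat.card Eˣ = Fintype.card F ^ r - 1 := by
      rw [Nat.card_units, Nat.card_eq_fintype_card, Module.card_eq_pow_finrank (K := F) (V := E)]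
    rw [hc1, ← hc3, ← hc2]
    exact hd1

end Cfsg.Agent.S5739
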