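import Cfsg.Statements.S5747
import Mathlib

set_option autoImplicit false
open Cfsg

namespace Cfsg.Agent.S5747

section
variable {G Ω : Type*} [Group G] [MulAction G Ω]

/-- irredundant base for a subgroup, list form -/
def IB : Subgroup G → List Ω → Prop
  | K, [] => K = ⊥
  | K, a :: l => (∃ g ∈ K, g • a ≠ a) ∧ IB (K ⊓ MulAction.stabilizer G a) l

/-- function form -/
def IBf (K : Subgroup G) {t : ℕ} (f : Fin t → Ω) : Prop :=
  (∀ g ∈ K, (∀ i : Fin t, g • f i = f i) → g = 1) ∧
    ∀ i : Fin t, ∃ g ∈ K, (∀ j : Fin t, j < i → g • f j = f j) ∧ g • f i ≠ f i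

lemma ibf_iff (K : Subgroup G) {t : ℕ} (f : Fin t → Ω) : IBf K f ↔ IB K (List.ofFn f) := by
  induction t generalizing K with
  | zero =>
    simp only [IBf, List.ofFn_zero, IB, Subgroup.eq_bot_iff_forall]
    constructor
    · rintro ⟨h, -⟩ g hg
      exact h g hg (fun i => i.elim0)
    · intro h
      exact ⟨fun g hg _ => h g hg, fun i => i.elim0⟩
  | succ t ih =>
    rw [List.ofFn_succ, IB, ← ih]
    constructor
    · rintro ⟨h1, h2⟩
      refine ⟨?_, ?_, ?_⟩
      · obtain ⟨g, hg, -, hg2⟩ := h2 0
        exact ⟨g, hg, hg2⟩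
      · rintro g ⟨hgK, hga⟩ hfix
        apply h1 g hgK
        intro i
        refine Fin.cases ?_ (fun j => ?_) i
        · exact hga
        · exact hfix j
      · intro i
        obtain ⟨g, hg, hg1, hg2⟩ := h2 i.succ
        refine ⟨g, ⟨hg, hg1 0 (Fin.succ_pos i)⟩, ?_, hg2⟩
        intro j hj
        exact hg1 j.succ (Fin.succ_lt_succ_iff.2 hj)
    · rintro ⟨⟨g0, hg0, hg0'⟩, h1, h2⟩
      refine ⟨?_, ?_⟩
      · intro g hg hfix
        exact h1 g ⟨hg, hfix 0⟩ (fun i => hfix i.succ)
      · intro i
        refine Fin.cases ?_ (fun i' => ?_) i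
        · exact ⟨g0, hg0, fun j hj => absurd hj (Fin.not_lt_zero j), hg0'⟩
        · obtain ⟨g, ⟨hgK, hga⟩, hg1, hg2⟩ := h2 i'
          refine ⟨g, hgK, ?_, hg2⟩
          intro j
          refine Fin.cases ?_ (fun j' => ?_) j
          · intro _; exact hga
          · intro hj; exact hg1 j' (Fin.succ_lt_succ_iff.1 hj)

def IsBase (K : Subgroup G) (l : List Ω) : Prop := ∀ g ∈ K, (∀ x ∈ l, g • x = x) → g = 1

lemma IB.isBase {K : Subgroup G} {l : List Ω} (h : IB K l) : IsBase K l := by
  induction l generalizing K with
  | nil =>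
    intro g hg _
    have : K = ⊥ := h
    rw [this] at hg
    exact Subgroup.mem_bot.1 hg
  | cons a l ih =>
    intro g hg hfix
    exact ih h.2 g ⟨hg, hfix a (List.mem_cons_self)⟩ (fun x hx => hfix x (List.mem_cons_of_mem _ hx))

lemma IB.moved {K : Subgroup G} {l : List Ω} (h : IB K l) : ∀ x ∈ l, ∃ g ∈ K, g • x ≠ x := by
  induction l generalizing K with
  | nil => intro x hx; simp at hx
  | cons a l ih =>
    intro x hx
    rcases List.mem_cons.1 hx with rfl | hx
    · exact h.1
    · obtain ⟨g, hg, hg'⟩ := ih h.2 x hx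
      exact ⟨g, hg.1, hg'⟩

lemma IB.nodup {K : Subgroup G} {l : List Ω} (h : IB K l) : l.Nodup := by
  induction l generalizing K with
  | nil => exact List.nodup_nil
  | cons a l ih =>
    refine List.nodup_cons.2 ⟨?_, ih h.2⟩
    intro ha
    obtain ⟨g, hg, hg'⟩ := h.2.moved a ha
    exact hg' hg.2

open Classical in
noncomputable def prune : Subgroup G → List Ω → List Ω
  | _, [] => []
  | K, a :: l => if ∃ g ∈ K, g • a ≠ a then a :: prune (K ⊓ MulAction.stabilizer G a) l else prune K l

lemma prune_sublist (K : Subgroup G) (l : List Ω) : (prune K l).Sublist l := by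
  induction l generalizing K with
  | nil => simp [prune]
  | cons a l ih =>
    rw [prune]
    split_ifs with h
    · exact (ih _).cons₂ a
    · exact (ih _).cons a

lemma prune_IB {K : Subgroup G} {l : List Ω} (h : IsBase K l) : IB K (prune K l) := by
  induction l generalizing K with
  | nil =>
    show K = ⊥
    rw [Subgroup.eq_bot_iff_forall]
    intro g hg
    exact h g hg (fun x hx => by simp at hx)
  | cons a l ih =>
    rw [prune]
    split_ifs with hm
    · refine ⟨hm, ih ?_⟩
      rintro g ⟨hgK, hga⟩ hfix
      apply h g hgK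
      intro x hx
      rcases List.mem_cons.1 hx with rfl | hx
      · exact hga
      · exact hfix x hx
    · apply ih
      intro g hgK hfix
      apply h g hgK
      intro x hx
      rcases List.mem_cons.1 hx with rfl | hx
      · by_contra hne
        exact hm ⟨g, hgK, hne⟩
      · exact hfix x hx

/-- reorder property for K -/
def Reord (K : Subgroup G) : Prop := ∀ l l' : List Ω, l.Perm l' → IB K l → IB K l'

lemma Reord.stab {K : Subgroup G} (h : Reord (Ω := Ω) K) (a : Ω) (ha : ∃ g ∈ K, g • a ≠ a) :
    Reord (Ω := Ω) (K ⊓ MulAction.stabilizer G a) := by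
  intro l l' hp hl
  have : IB K (a :: l') := h (a :: l) (a :: l') (hp.cons a) ⟨ha, hl⟩
  exact this.2

lemma IB_bot_nil {l : List Ω} (h : IB (⊥ : Subgroup G) l) : l = [] := by
  cases l with
  | nil => rfl
  | cons a l =>
    obtain ⟨g, hg, hg'⟩ := h.1
    rw [Subgroup.mem_bot] at hg
    subst hg
    simp at hg'

lemma card_stab_lt [Finite G] (K : Subgroup G) (a : Ω) (ha : ∃ g ∈ K, g • a ≠ a) :
    Nat.card (K ⊓ MulAction.stabilizer G a : Subgroup G) < Nat.card K := by
  obtain ⟨g, hg, hg'⟩ := ha
  have hlt : K ⊓ MulAction.stabilizer G a < K := by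
    refine lt_of_le_of_ne inf_le_left ?_
    intro heq
    have : g ∈ K ⊓ MulAction.stabilizer G a := by rw [heq]; exact hg
    exact hg' this.2
  have : ((K ⊓ MulAction.stabilizer G a : Subgroup G) : Set G) ⊂ (K : Set G) := by
    exact SetLike.coe_ssubset_coe.2 hlt
  have h2 := Set.ncard_lt_ncard this (Set.toFinite _)
  exact h2

theorem same_length [Finite G] : ∀ (n : ℕ) (K : Subgroup G), Nat.card K = n → Reord (Ω := Ω) K →
    ∀ l l' : List Ω, IB K l → IB K l' → l.length = l'.length := by
  intro n
  induction n using Nat.strong_induction_on with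
  | _ n ih =>
    intro K hK hR
    -- shared point lemma
    have shared : ∀ m m' : List Ω, IB K m → IB K m' → ∀ x, x ∈ m → x ∈ m' → m.length = m'.length := by
      classical
      intro m m' hm hm' x hx hx'
      have h1 : IB K (x :: m.erase x) := hR _ _ (List.perm_cons_erase hx) hm
      have h2 : IB K (x :: m'.erase x) := hR _ _ (List.perm_cons_erase hx') hm'
      have hlt := card_stab_lt K x h1.1
      rw [hK] at hlt
      have := ih _ hlt (K ⊓ MulAction.stabilizer G x) rfl (hR.stab x h1.1) _ _ h1.2 h2.2
      have e1 := (List.perm_cons_erase hx).length_eq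
      have e2 := (List.perm_cons_erase hx').length_eq
      simp only [List.length_cons] at e1 e2
      omega
    intro l l' hl hl'
    cases l with
    | nil =>
      have hKb : K = ⊥ := hl
      rw [hKb] at hl'
      rw [IB_bot_nil hl']
    | cons a l =>
      cases l' with
      | nil =>
        have hKb : K = ⊥ := hl'
        rw [hKb] at hl
        rw [IB_bot_nil hl]
      | cons b l' =>
        -- prune b :: l' relative to Ka
        have hbase : IsBase (K ⊓ MulAction.stabilizer G a) (b :: l') := by
          intro g hg hfix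
          exact hl'.isBase g hg.1 hfix
        have hc := prune_IB hbase
        have hsub := prune_sublist (K ⊓ MulAction.stabilizer G a) (b :: l')
        rcases hcase : prune (K ⊓ MulAction.stabilizer G a) (b :: l') with _ | ⟨x, c'⟩
        · rw [hcase] at hc
          have hKa : K ⊓ MulAction.stabilizer G a = ⊥ := hc
          have hlnil : l = [] := by
            have := hl.2
            rw [hKa] at this
            exact IB_bot_nil this
          subst hlnil
          -- show Kb = ⊥
          have hKb : K ⊓ MulAction.stabilizer G b = ⊥ := by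
            by_contra hne
            have hmoved : ∃ g ∈ K ⊓ MulAction.stabilizer G b, g • a ≠ a := by
              by_contra hnm
              push Not at hnm
              apply hne
              rw [eq_bot_iff, ← hKa]
              intro g hg
              exact ⟨hg.1, hnm g hg⟩
            have hba : IB K [b, a] := by
              refine ⟨hl'.1, hmoved, ?_⟩
              show K ⊓ MulAction.stabilizer G b ⊓ MulAction.stabilizer G a = ⊥
              rw [eq_bot_iff, ← hKa]
              intro g hg
              exact ⟨hg.1.1, hg.2⟩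
            have := shared [b, a] [a] hba hl a (by simp) (by simp)
            simp at this
          have hlnil' : l' = [] := by
            have := hl'.2
            rw [hKb] at this
            exact IB_bot_nil this
          subst hlnil'
          rfl
        · rw [hcase] at hc hsub
          have hac : IB K (a :: x :: c') := ⟨hl.1, hc⟩
          have e1 := shared (a :: x :: c') (a :: l) hac hl a (by simp) (by simp)
          have hxmem : x ∈ b :: l' := hsub.subset (by simp)
          have e2 := shared (a :: x :: c') (b :: l') hac hl' x (by simp) hxmem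
          rw [← e1, e2]


lemma exists_perm_of_perm {l l' : List Ω} (hp : l.Perm l') (hn : l'.Nodup) :
    ∃ σ : Equiv.Perm (Fin l.length), List.ofFn (l.get ∘ σ) = l' := by
  have hlen : l.length = l'.length := hp.length_eq
  have hmem : ∀ i : Fin l.length, ∃ j : Fin l.length, l.get j = l'.get (Fin.cast hlen i) := by
    intro i
    have : l'.get (Fin.cast hlen i) ∈ l := hp.mem_iff.2 (List.get_mem _ _)
    obtain ⟨j, hj⟩ := List.mem_iff_get.1 this
    exact ⟨j, hj⟩
  choose τ hτ using hmem
  have hinj : Function.Injective τ := by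
    intro i j hij
    have : l'.get (Fin.cast hlen i) = l'.get (Fin.cast hlen j) := by rw [← hτ, ← hτ, hij]
    have := (List.Nodup.get_inj_iff hn).1 this
    exact Fin.cast_injective _ this
  refine ⟨Equiv.ofBijective τ (Finite.injective_iff_bijective.1 hinj), ?_⟩
  apply List.ext_get
  · simp [hlen]
  · intro n h1 h2
    have hn' : n < l.length := by simpa using h1
    have := hτ ⟨n, hn'⟩
    simp only [List.get_eq_getElem, Fin.cast_mk] at this
    simp [this]

end


/-- Let a finite group G act on a finite set Ω. An irredundant base is a sequence of points ω₁, …, ω_t whose pointwise stabiliser is trivial and in which each ω_i is moved by some element fixing ω₁, …, ω_{i−1}. Then all irredundant bases have the same length if and only if every reordering of an irredundant base is again an irredundant base. -/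
theorem result {G Ω : Type*} [Group G] [Finite G] [MulAction G Ω] [Fintype Ω] :
    (∀ (t t' : ℕ) (f : Fin t → Ω) (f' : Fin t' → Ω), ((∀ g : G, (∀ i : Fin t, g • f i = f i) → g = 1) ∧ ∀ i : Fin t, ∃ g : G, (∀ j : Fin t, j < i → g • f j = f j) ∧ g • f i ≠ f i) → ((∀ g : G, (∀ i : Fin t', g • f' i = f' i) → g = 1) ∧ ∀ i : Fin t', ∃ g : G, (∀ j : Fin t', j < i → g • f' j = f' j) ∧ g • f' i ≠ f' i) → t = t') ↔
    (∀ (t : ℕ) (f : Fin t → Ω) (σ : Equiv.Perm (Fin t)), ((∀ g : G, (∀ i : Fin t, g • f i = f i) → g = 1) ∧ ∀ i : Fin t, ∃ g : G, (∀ j : Fin t, j < i → g • f j = f j) ∧ g • f i ≠ f i) → ((∀ g : G, (∀ i : Fin t, g • (f ∘ σ) i = (f ∘ σ) i) → g = 1) ∧ ∀ i : Fin t, ∃ g : G, (∀ j : Fin t, j < i → g • (f ∘ σ) j = (f ∘ σ) j) ∧ g • (f ∘ σ) i ≠ (f ∘ σ) i)) := by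
  have conv : ∀ {t : ℕ} (f : Fin t → Ω), ((∀ g : G, (∀ i : Fin t, g • f i = f i) → g = 1) ∧
      ∀ i : Fin t, ∃ g : G, (∀ j : Fin t, j < i → g • f j = f j) ∧ g • f i ≠ f i)
      ↔ IB (⊤ : Subgroup G) (List.ofFn f) := by
    intro t f
    rw [← ibf_iff]
    simp [IBf]
  constructor
  · intro h1 t f σ hf
    rw [conv] at hf ⊢
    have hl : ∀ l l' : List Ω, IB (⊤ : Subgroup G) l → IB (⊤ : Subgroup G) l' →
        l.length = l'.length := by
      intro l l' hl hl'
      apply h1 l.length l'.length l.get l'.get
      · rw [conv, List.ofFn_get]; exact hl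
      · rw [conv, List.ofFn_get]; exact hl'
    have hperm : (List.ofFn (f ∘ σ)).Perm (List.ofFn f) := Equiv.Perm.ofFn_comp_perm σ f
    have hbase : IsBase (⊤ : Subgroup G) (List.ofFn (f ∘ σ)) := by
      intro g hg hfix
      exact hf.isBase g hg (fun x hx => hfix x (hperm.mem_iff.2 hx))
    have hpr := prune_IB hbase
    have hsub := prune_sublist (⊤ : Subgroup G) (List.ofFn (f ∘ σ))
    have hlen := hl _ _ hpr hf
    have hlen' : (prune (⊤ : Subgroup G) (List.ofFn (f ∘ σ))).length
        = (List.ofFn (f ∘ σ)).length := by rw [hlen, hperm.length_eq]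
    rw [← hsub.eq_of_length hlen']
    exact hpr
  · intro h2 t t' f f' hf hf'
    rw [conv] at hf hf'
    have hR : Reord (Ω := Ω) (⊤ : Subgroup G) := by
      intro l l' hp hl
      obtain ⟨σ, hσ⟩ := exists_perm_of_perm hp (hp.nodup_iff.1 hl.nodup)
      have := h2 l.length l.get σ (by rw [conv, List.ofFn_get]; exact hl)
      rw [conv, hσ] at this
      exact this
    have := same_length _ (⊤ : Subgroup G) rfl hR _ _ hf hf'
    simpa using this

end Cfsg.Agent.S5747
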