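import Cfsg.Statements.S5754
import Mathlib.Tactic

set_option autoImplicit false
open Cfsg

namespace Cfsg.Agent.S5754

open QuadraticMap

variable {F V : Type*} [Field F] [AddCommGroup V] [Module F V]

/-- the reflection map -/
noncomputable def reflFun (Q : QuadraticForm F V) (a : V) : V →ₗ[F] V :=
  LinearMap.id - ((Q a)⁻¹ • (polarBilin Q a)).smulRight a

theorem reflFun_apply (Q : QuadraticForm F V) (a v : V) :
    reflFun Q a v = v - ((Q a)⁻¹ * polar Q a v) • a := by
  simp [reflFun]

theorem reflFun_invol (Q : QuadraticForm F V) (a : V) (ha : Q a ≠ 0) (v : V) :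
    reflFun Q a (reflFun Q a v) = v := by
  rw [reflFun_apply, reflFun_apply]
  have h1 : polar Q a (v - ((Q a)⁻¹ * polar Q a v) • a) = - polar Q a v := by
    rw [polar_sub_right, polar_smul_right, polar_self]
    simp only [smul_eq_mul, nsmul_eq_mul, Nat.cast_ofNat]
    field_simp
    ring
  rw [h1]
  simp only [mul_neg, neg_smul, sub_neg_eq_add, sub_add_cancel]

theorem reflFun_isom (Q : QuadraticForm F V) (a : V) (ha : Q a ≠ 0) (v : V) :
    Q (reflFun Q a v) = Q v := by
  rw [reflFun_apply, sub_eq_add_neg, ← neg_smul, QuadraticMap.map_add (⇑Q), QuadraticMap.map_smul,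
    polar_smul_right, polar_comm Q v a]
  simp only [smul_eq_mul]
  field_simp
  ring

/-- the reflection as an isometry -/
noncomputable def reflIso (Q : QuadraticForm F V) (a : V) (ha : Q a ≠ 0) : Q.IsometryEquiv Q :=
  { LinearEquiv.ofInvolutive (reflFun Q a) (reflFun_invol Q a ha) with
    map_app' := fun m => reflFun_isom Q a ha m }

theorem reflIso_apply (Q : QuadraticForm F V) (a : V) (ha : Q a ≠ 0) (v : V) :
    reflIso Q a ha v = v - ((Q a)⁻¹ * polar Q a v) • a := reflFun_apply Q a v

theorem map_sub_eq (Q : QuadraticForm F V) (x y : V) : Q (x - y) = Q x + Q y - polar Q x y := by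
  rw [sub_eq_add_neg, QuadraticMap.map_add (⇑Q), QuadraticMap.map_neg, polar_neg_right]
  ring

theorem polar_iso (Q : QuadraticForm F V) (φ : Q.IsometryEquiv Q) (x y : V) :
    polar Q (φ x) (φ y) = polar Q x y := by
  unfold polar
  rw [← _root_.map_add, φ.map_app, φ.map_app, φ.map_app]

theorem main_induction (Q : QuadraticForm F V) (hQ : Q.Anisotropic) (n : ℕ) (v v' : Fin n → V)
    (hQv : ∀ i, Q (v i) = Q (v' i)) (hpol : ∀ i j, polar Q (v i) (v j) = polar Q (v' i) (v' j)) :
    ∀ k : ℕ, ∃ φ : Q.IsometryEquiv Q, ∀ i : Fin n, i.val < k → φ (v i) = v' i := by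
  intro k
  induction k with
  | zero => exact ⟨QuadraticMap.IsometryEquiv.refl Q, fun i hi => absurd hi (Nat.not_lt_zero _)⟩
  | succ k ih =>
    obtain ⟨φ, hφ⟩ := ih
    by_cases hk : k < n
    · set idx : Fin n := ⟨k, hk⟩ with hidx
      by_cases hw : φ (v idx) = v' idx
      · refine ⟨φ, fun i hi => ?_⟩
        rcases Nat.lt_succ_iff_lt_or_eq.mp hi with h | h
        · exact hφ i h
        · have : i = idx := Fin.ext h
          rw [this]; exact hw
      · set a := φ (v idx) - v' idx with ha
        have ha0 : a ≠ 0 := sub_ne_zero.mpr hw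
        have hQa : Q a ≠ 0 := fun h => ha0 (hQ a h)
        have hQw : Q (φ (v idx)) = Q (v' idx) := by rw [φ.map_app, hQv]
        refine ⟨φ.trans (reflIso Q a hQa), fun i hi => ?_⟩
        show reflIso Q a hQa (φ (v i)) = v' i
        rcases Nat.lt_succ_iff_lt_or_eq.mp hi with h | h
        · rw [hφ i h, reflIso_apply]
          have : polar Q a (v' i) = 0 := by
            rw [ha, polar_sub_left, ← hφ i h, polar_iso, hφ i h, hpol, sub_self]
          rw [this, mul_zero, zero_smul, sub_zero]
        · have hi' : i = idx := Fin.ext h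
          rw [hi', reflIso_apply]
          have h1 : polar Q a (φ (v idx)) = Q a := by
            rw [ha, polar_sub_left, polar_self, map_sub_eq, hQw, polar_comm Q (φ (v idx)) (v' idx)]
            simp only [smul_eq_mul, nsmul_eq_mul]
            ring
          rw [h1, inv_mul_cancel₀ hQa, one_smul, ha]
          abel
    · refine ⟨φ, fun i _ => hφ i (lt_of_lt_of_le i.isLt (not_lt.mp hk))⟩

theorem result {F V : Type*} [Field F] [Finite F] [AddCommGroup V] [Module F V] [Module.Finite F V]
    (Q : QuadraticForm F V) (hQ : Q.Anisotropic) (n : ℕ) (hn : 2 ≤ n) (u u' : Fin n → V)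
    (h2 : ∀ i j : Fin n, i ≠ j → ∃ (φ : Q.IsometryEquiv Q) (c : V), φ (u i) + c = u' i ∧ φ (u j) + c = u' j) :
    ∃ (φ : Q.IsometryEquiv Q) (c : V), ∀ i, φ (u i) + c = u' i := by
  set z : Fin n := ⟨0, by omega⟩ with hz
  have key : ∀ i j : Fin n, Q (u i - u j) = Q (u' i - u' j) := by
    intro i j
    by_cases hij : i = j
    · subst hij; simp
    · obtain ⟨φ, c, h1, h2'⟩ := h2 i j hij
      rw [← h1, ← h2', add_sub_add_right_eq_sub, ← map_sub, φ.map_app]
  set v : Fin n → V := fun i => u i - u z with hv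
  set v' : Fin n → V := fun i => u' i - u' z with hv'
  have hQv : ∀ i, Q (v i) = Q (v' i) := fun i => key i z
  have hsub : ∀ i j, Q (v i - v j) = Q (v' i - v' j) := by
    intro i j
    have e1 : v i - v j = u i - u j := by simp [hv]
    have e2 : v' i - v' j = u' i - u' j := by simp [hv']
    rw [e1, e2, key]
  have hpol : ∀ i j, polar Q (v i) (v j) = polar Q (v' i) (v' j) := by
    intro i j
    have h1 := map_sub_eq Q (v i) (v j)
    have h2 := map_sub_eq Q (v' i) (v' j)
    have h3 : polar Q (v i) (v j) = Q (v i) + Q (v j) - Q (v i - v j) := by rw [h1]; ring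
    have h4 : polar Q (v' i) (v' j) = Q (v' i) + Q (v' j) - Q (v' i - v' j) := by rw [h2]; ring
    rw [h3, h4, hQv i, hQv j, hsub i j]
  obtain ⟨φ, hφ⟩ := main_induction Q hQ n v v' hQv hpol n
  refine ⟨φ, u' z - φ (u z), fun i => ?_⟩
  have := hφ i i.isLt
  simp only [hv, hv', map_sub] at this
  have e : φ (u i) + (u' z - φ (u z)) = (φ (u i) - φ (u z)) + u' z := by abel
  rw [e, this]
  abel

end Cfsg.Agent.S5754
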