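import Mathlib
import Cfsg.Statements.S5763

set_option autoImplicit false
open Cfsg

namespace Cfsg.Agent.S5763

open scoped Pointwise

/-- The pair label of a point. -/
def pr (x : Fin 8) : ℕ := x.val / 2
/-- The quad label of a point. -/
def qd (x : Fin 8) : ℕ := x.val / 4

/-- The automorphism group of the standard binary tree structure on `Fin 8`
(pairs `{2k, 2k+1}`, quads `{4k, …, 4k+3}`). -/
def P0 : Subgroup (Equiv.Perm (Fin 8)) where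
  carrier := {g | ∀ i j : Fin 8, (pr i = pr j ↔ pr (g i) = pr (g j)) ∧
    (qd i = qd j ↔ qd (g i) = qd (g j))}
  one_mem' := fun _ _ => ⟨Iff.rfl, Iff.rfl⟩
  mul_mem' := by
    intro g h hg hh i j
    have h1 := hh i j
    have h2 := hg (h i) (h j)
    exact ⟨h1.1.trans h2.1, h1.2.trans h2.2⟩
  inv_mem' := by
    intro g hg i j
    have h1 := hg (g⁻¹ i) (g⁻¹ j)
    simp only [Equiv.Perm.inv_def, Equiv.apply_symm_apply] at h1
    exact ⟨h1.1.symm, h1.2.symm⟩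

theorem mem_P0 {g : Equiv.Perm (Fin 8)} : g ∈ P0 ↔ ∀ i j : Fin 8,
    (pr i = pr j ↔ pr (g i) = pr (g j)) ∧ (qd i = qd j ↔ qd (g i) = qd (g j)) := Iff.rfl

theorem pow_eight (g : Equiv.Perm (Fin 8)) (hg : g ∈ P0) : g ^ 8 = 1 := by
  have c1 : ∀ k ∈ P0, ∀ i, qd ((k * k) i) = qd i := by
    intro k hk i
    have h := ((mem_P0.mp hk) i (k i)).2
    show qd (k (k i)) = qd i
    have b1 : qd i < 2 := by have := i.2; unfold qd; omega
    have b2 : qd (k i) < 2 := by have := (k i).2; unfold qd; omega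
    have b3 : qd (k (k i)) < 2 := by have := (k (k i)).2; unfold qd; omega
    by_cases e : qd i = qd (k i)
    · have := h.mp e; omega
    · have : ¬ qd (k i) = qd (k (k i)) := fun e' => e (h.mpr e')
      omega
  have c2 : ∀ k ∈ P0, (∀ i, qd (k i) = qd i) → ∀ i, pr ((k * k) i) = pr i := by
    intro k hk hq i
    have h := ((mem_P0.mp hk) i (k i)).1
    show pr (k (k i)) = pr i
    have q1 := hq i
    have q2 := hq (k i)
    have r : ∀ x : Fin 8, pr x / 2 = qd x := by intro x; unfold pr qd; omega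
    have r1 := r i
    have r2 := r (k i)
    have r3 := r (k (k i))
    by_cases e : pr i = pr (k i)
    · have := h.mp e; omega
    · have : ¬ pr (k i) = pr (k (k i)) := fun e' => e (h.mpr e')
      omega
  have c3 : ∀ k : Equiv.Perm (Fin 8), (∀ i, pr (k i) = pr i) → ∀ i, (k * k) i = i := by
    intro k hp i
    show k (k i) = i
    have p1 := hp i
    have p2 := hp (k i)
    by_cases e : k i = i
    · rw [e, e]
    · have e2 : k (k i) ≠ k i := fun h => e (k.injective h)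
      apply Fin.ext
      have e' : (k i).val ≠ i.val := fun h => e (Fin.ext h)
      have e2' : (k (k i)).val ≠ (k i).val := fun h => e2 (Fin.ext h)
      unfold pr at p1 p2
      omega
  have m2 : g * g ∈ P0 := P0.mul_mem hg hg
  have q2 := c1 g hg
  have p4 := c2 (g * g) m2 q2
  have i8 := c3 ((g * g) * (g * g)) p4
  have e8 : g ^ 8 = ((g * g) * (g * g)) * ((g * g) * (g * g)) := by
    simp only [pow_succ, pow_zero, one_mul, mul_assoc]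
  rw [e8]
  exact Equiv.ext (fun i => by rw [i8 i]; rfl)

theorem isPGroup_P0 : IsPGroup 2 P0 := by
  intro g
  refine ⟨3, ?_⟩
  apply Subtype.ext
  have h := pow_eight g.1 g.2
  simpa using h

/-- One-directional preservation of the structure pulled back along `T`. -/
abbrev chk (T w : Fin 8 → Fin 8) : Prop :=
  ∀ i j : Fin 8, (pr (T i) = pr (T j) → pr (T (w i)) = pr (T (w j))) ∧
    (qd (T i) = qd (T j) → qd (T (w i)) = qd (T (w j)))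

/-- Involutive vectors. -/
abbrev invo (w : Fin 8 → Fin 8) : Prop := ∀ i, w (w i) = i

/-- The permutation given by an involutive vector. -/
def mk (w : Fin 8 → Fin 8) (h : invo w) : Equiv.Perm (Fin 8) := ⟨w, w, h, h⟩

theorem conj_mem (τ : Equiv.Perm (Fin 8)) (w : Fin 8 → Fin 8) (h : invo w) (hc : chk (⇑τ) w) :
    τ * mk w h * τ⁻¹ ∈ P0 := by
  rw [mem_P0]
  intro a b
  have h1 := hc (τ⁻¹ a) (τ⁻¹ b)
  have h2 := hc (w (τ⁻¹ a)) (w (τ⁻¹ b))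
  rw [h (τ⁻¹ a), h (τ⁻¹ b)] at h2
  simp only [Equiv.Perm.inv_def, Equiv.apply_symm_apply] at h1 h2
  exact ⟨⟨h1.1, h2.1⟩, ⟨h1.2, h2.2⟩⟩

theorem mk_mem (w : Fin 8 → Fin 8) (h : invo w) (hc : chk id w) : mk w h ∈ P0 := by
  have h0 := conj_mem 1 w h hc
  simpa using h0

/-- The candidate witnesses. -/
def ws : Fin 11 → (Fin 8 → Fin 8) :=
  ![![4, 5, 6, 7, 0, 1, 2, 3], ![0, 1, 2, 3, 4, 5, 7, 6], ![1, 0, 3, 2, 6, 7, 4, 5],
    ![7, 6, 5, 4, 3, 2, 1, 0], ![0, 1, 3, 2, 4, 5, 6, 7], ![1, 0, 2, 3, 4, 5, 6, 7],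
    ![2, 3, 0, 1, 5, 4, 7, 6], ![6, 7, 5, 4, 3, 2, 0, 1], ![5, 4, 6, 7, 1, 0, 2, 3],
    ![5, 4, 7, 6, 1, 0, 3, 2], ![7, 6, 4, 5, 2, 3, 1, 0]]

theorem ws_ok : ∀ k : Fin 11, invo (ws k) ∧ (∃ i, ws k i ≠ i) ∧ chk id (ws k) := by
  decide +kernel

set_option synthInstance.maxHeartbeats 400000 in
set_option synthInstance.maxSize 4096 in
theorem core : ∀ t0 t1 : Fin 8, t0 < t1 → ∀ t2 : Fin 8, t0 < t2 → t2 ≠ t1 →
    ∀ t3 : Fin 8, t2 < t3 → t3 ≠ t1 →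
    ∀ t4 : Fin 8, t0 < t4 → t4 ≠ t1 → t4 ≠ t2 → t4 ≠ t3 →
    ∀ t5 : Fin 8, t4 < t5 → t5 ≠ t1 → t5 ≠ t2 → t5 ≠ t3 →
    ∀ t6 : Fin 8, t4 < t6 → t6 ≠ t1 → t6 ≠ t2 → t6 ≠ t3 → t6 ≠ t5 →
    ∀ t7 : Fin 8, t6 < t7 → t7 ≠ t1 → t7 ≠ t2 → t7 ≠ t3 → t7 ≠ t5 →
    ∃ k : Fin 11, chk ![t0, t1, t2, t3, t4, t5, t6, t7] (ws k) := by decide +kernel

/-! ### Generators used for the canonical form -/

def v01 : Fin 8 → Fin 8 := ![1, 0, 2, 3, 4, 5, 6, 7]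
def v23 : Fin 8 → Fin 8 := ![0, 1, 3, 2, 4, 5, 6, 7]
def v45 : Fin 8 → Fin 8 := ![0, 1, 2, 3, 5, 4, 6, 7]
def v67 : Fin 8 → Fin 8 := ![0, 1, 2, 3, 4, 5, 7, 6]
def vr0 : Fin 8 → Fin 8 := ![2, 3, 0, 1, 4, 5, 6, 7]
def vr1 : Fin 8 → Fin 8 := ![0, 1, 2, 3, 6, 7, 4, 5]
def vs : Fin 8 → Fin 8 := ![4, 5, 6, 7, 0, 1, 2, 3]

theorem g01_ok : invo v01 ∧ chk id v01 := by decide +kernel
theorem g23_ok : invo v23 ∧ chk id v23 := by decide +kernel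
theorem g45_ok : invo v45 ∧ chk id v45 := by decide +kernel
theorem g67_ok : invo v67 ∧ chk id v67 := by decide +kernel
theorem gr0_ok : invo vr0 ∧ chk id vr0 := by decide +kernel
theorem gr1_ok : invo vr1 ∧ chk id vr1 := by decide +kernel
theorem gs_ok : invo vs ∧ chk id vs := by decide +kernel

def q01 : Equiv.Perm (Fin 8) := mk v01 g01_ok.1
def q23 : Equiv.Perm (Fin 8) := mk v23 g23_ok.1
def q45 : Equiv.Perm (Fin 8) := mk v45 g45_ok.1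
def q67 : Equiv.Perm (Fin 8) := mk v67 g67_ok.1
def r0 : Equiv.Perm (Fin 8) := mk vr0 gr0_ok.1
def r1 : Equiv.Perm (Fin 8) := mk vr1 gr1_ok.1
def sw : Equiv.Perm (Fin 8) := mk vs gs_ok.1

theorem q01_mem : q01 ∈ P0 := mk_mem _ _ g01_ok.2
theorem q23_mem : q23 ∈ P0 := mk_mem _ _ g23_ok.2
theorem q45_mem : q45 ∈ P0 := mk_mem _ _ g45_ok.2
theorem q67_mem : q67 ∈ P0 := mk_mem _ _ g67_ok.2
theorem r0_mem : r0 ∈ P0 := mk_mem _ _ gr0_ok.2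
theorem r1_mem : r1 ∈ P0 := mk_mem _ _ gr1_ok.2
theorem sw_mem : sw ∈ P0 := mk_mem _ _ gs_ok.2

theorem step (τ : Equiv.Perm (Fin 8)) (Pr : Equiv.Perm (Fin 8) → Prop)
    (q : Equiv.Perm (Fin 8)) (hq : q ∈ P0) (a b : Fin 8) (hab : a ≠ b) (hqa : q a = b)
    (hqb : q b = a) (hP : ∀ τ', Pr τ' → Pr (τ' * q))
    (h : ∃ q' ∈ P0, Pr (τ * q')) :
    ∃ q' ∈ P0, Pr (τ * q') ∧ (τ * q') a < (τ * q') b := by
  obtain ⟨q', hq', hPr⟩ := h
  by_cases hlt : (τ * q') a < (τ * q') b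
  · exact ⟨q', hq', hPr, hlt⟩
  · refine ⟨q' * q, P0.mul_mem hq' hq, ?_, ?_⟩
    · rw [← mul_assoc]; exact hP _ hPr
    · have hne : (τ * q') a ≠ (τ * q') b := fun e => hab ((τ * q').injective e)
      have hlt' : (τ * q') b < (τ * q') a := lt_of_le_of_ne (not_lt.mp hlt) (Ne.symm hne)
      rw [← mul_assoc]
      show (τ * q') (q a) < (τ * q') (q b)
      rw [hqa, hqb]; exact hlt'

def C1 (σ : Equiv.Perm (Fin 8)) : Prop := True ∧ σ 0 < σ 1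
def C2 (σ : Equiv.Perm (Fin 8)) : Prop := C1 σ ∧ σ 2 < σ 3
def C3 (σ : Equiv.Perm (Fin 8)) : Prop := C2 σ ∧ σ 4 < σ 5
def C4 (σ : Equiv.Perm (Fin 8)) : Prop := C3 σ ∧ σ 6 < σ 7
def C5 (σ : Equiv.Perm (Fin 8)) : Prop := C4 σ ∧ σ 0 < σ 2
def C6 (σ : Equiv.Perm (Fin 8)) : Prop := C5 σ ∧ σ 4 < σ 6
def C7 (σ : Equiv.Perm (Fin 8)) : Prop := C6 σ ∧ σ 0 < σ 4

theorem canon_exists (τ : Equiv.Perm (Fin 8)) : ∃ q ∈ P0, C7 (τ * q) := by
  have s0 : ∃ q' ∈ P0, (fun _ : Equiv.Perm (Fin 8) => True) (τ * q') :=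
    ⟨1, P0.one_mem, trivial⟩
  have s1 : ∃ q' ∈ P0, C1 (τ * q') :=
    step τ (fun _ => True) q01 q01_mem 0 1 (by decide) rfl rfl (fun _ _ => trivial) s0
  have s2 : ∃ q' ∈ P0, C2 (τ * q') :=
    step τ C1 q23 q23_mem 2 3 (by decide) rfl rfl
      (fun σ h => ⟨trivial, (show σ (q23 0) < σ (q23 1) from h.2)⟩) s1
  have s3 : ∃ q' ∈ P0, C3 (τ * q') :=
    step τ C2 q45 q45_mem 4 5 (by decide) rfl rfl
      (fun σ h => ⟨⟨trivial, (show σ (q45 0) < σ (q45 1) from h.1.2)⟩,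
        (show σ (q45 2) < σ (q45 3) from h.2)⟩) s2
  have s4 : ∃ q' ∈ P0, C4 (τ * q') :=
    step τ C3 q67 q67_mem 6 7 (by decide) rfl rfl
      (fun σ h => ⟨⟨⟨trivial, (show σ (q67 0) < σ (q67 1) from h.1.1.2)⟩,
        (show σ (q67 2) < σ (q67 3) from h.1.2)⟩,
        (show σ (q67 4) < σ (q67 5) from h.2)⟩) s3
  have s5 : ∃ q' ∈ P0, C5 (τ * q') :=
    step τ C4 r0 r0_mem 0 2 (by decide) rfl rfl
      (fun σ h => ⟨⟨⟨⟨trivial, (show σ (r0 0) < σ (r0 1) from h.1.1.2)⟩,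
        (show σ (r0 2) < σ (r0 3) from h.1.1.1.2)⟩,
        (show σ (r0 4) < σ (r0 5) from h.1.2)⟩,
        (show σ (r0 6) < σ (r0 7) from h.2)⟩) s4
  have s6 : ∃ q' ∈ P0, C6 (τ * q') :=
    step τ C5 r1 r1_mem 4 6 (by decide) rfl rfl
      (fun σ h => ⟨⟨⟨⟨⟨trivial, (show σ (r1 0) < σ (r1 1) from h.1.1.1.1.2)⟩,
        (show σ (r1 2) < σ (r1 3) from h.1.1.1.2)⟩,
        (show σ (r1 4) < σ (r1 5) from h.1.2)⟩,
        (show σ (r1 6) < σ (r1 7) from h.1.1.2)⟩,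
        (show σ (r1 0) < σ (r1 2) from h.2)⟩) s5
  exact step τ C6 sw sw_mem 0 4 (by decide) rfl rfl
      (fun σ h => ⟨⟨⟨⟨⟨⟨trivial, (show σ (sw 0) < σ (sw 1) from h.1.1.1.2)⟩,
        (show σ (sw 2) < σ (sw 3) from h.1.1.2)⟩,
        (show σ (sw 4) < σ (sw 5) from h.1.1.1.1.1.2)⟩,
        (show σ (sw 6) < σ (sw 7) from h.1.1.1.1.2)⟩,
        (show σ (sw 0) < σ (sw 2) from h.2)⟩,
        (show σ (sw 4) < σ (sw 6) from h.1.2)⟩) s6

/-- The core statement for a permutation in canonical form. -/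
theorem coreC_canon (σ : Equiv.Perm (Fin 8)) (h : C7 σ) :
    ∃ g ∈ P0, g ≠ 1 ∧ σ * g * σ⁻¹ ∈ P0 := by
  obtain ⟨⟨⟨⟨⟨⟨⟨_, h01⟩, h23⟩, h45⟩, h67⟩, h02⟩, h46⟩, h04⟩ := h
  have inj : ∀ a b : Fin 8, a ≠ b → σ a ≠ σ b := fun a b hab e => hab (σ.injective e)
  obtain ⟨k, hchk⟩ := core (σ 0) (σ 1) h01 (σ 2) h02 (inj 2 1 (by decide))
    (σ 3) h23 (inj 3 1 (by decide))
    (σ 4) h04 (inj 4 1 (by decide)) (inj 4 2 (by decide)) (inj 4 3 (by decide))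
    (σ 5) h45 (inj 5 1 (by decide)) (inj 5 2 (by decide)) (inj 5 3 (by decide))
    (σ 6) h46 (inj 6 1 (by decide)) (inj 6 2 (by decide)) (inj 6 3 (by decide))
      (inj 6 5 (by decide))
    (σ 7) h67 (inj 7 1 (by decide)) (inj 7 2 (by decide)) (inj 7 3 (by decide))
      (inj 7 5 (by decide))
  have hv : (![σ 0, σ 1, σ 2, σ 3, σ 4, σ 5, σ 6, σ 7] : Fin 8 → Fin 8) = ⇑σ := by
    funext i
    fin_cases i <;> rfl
  rw [hv] at hchk
  obtain ⟨hinv, ⟨i, hi⟩, hid⟩ := ws_ok k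
  refine ⟨mk (ws k) hinv, mk_mem (ws k) hinv hid, ?_, conj_mem σ (ws k) hinv hchk⟩
  intro e
  apply hi
  have := congrArg (fun p : Equiv.Perm (Fin 8) => p i) e
  exact this

theorem coreC (τ : Equiv.Perm (Fin 8)) : ∃ g ∈ P0, g ≠ 1 ∧ τ * g * τ⁻¹ ∈ P0 := by
  obtain ⟨q, hq, hC⟩ := canon_exists τ
  obtain ⟨g, hg, hg1, hgc⟩ := coreC_canon (τ * q) hC
  refine ⟨q * g * q⁻¹, P0.mul_mem (P0.mul_mem hq hg) (P0.inv_mem hq), ?_, ?_⟩
  · intro e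
    exact hg1 (conj_eq_one_iff.mp e)
  · have e : τ * (q * g * q⁻¹) * τ⁻¹ = τ * q * g * (τ * q)⁻¹ := by group
    rw [e]; exact hgc

/-- The symmetric group of degree 8 does not have two Sylow 2-subgroups with trivial intersection. -/
theorem result (H : Sylow 2 (Equiv.Perm (Fin 8))) (x : Equiv.Perm (Fin 8)) :
    (H : Subgroup (Equiv.Perm (Fin 8))) ⊓ (H : Subgroup (Equiv.Perm (Fin 8))).map (MulAut.conj x).toMonoidHom ≠ ⊥ := by
  obtain ⟨Q, hQ⟩ := isPGroup_P0.exists_le_sylow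
  obtain ⟨y, hy⟩ := MulAction.exists_smul_eq (Equiv.Perm (Fin 8)) Q H
  have hmem : ∀ p ∈ P0, y * p * y⁻¹ ∈ (H : Subgroup (Equiv.Perm (Fin 8))) := by
    intro p hp
    have h1 : MulAut.conj y • p ∈ MulAut.conj y • (Q : Subgroup (Equiv.Perm (Fin 8))) :=
      Subgroup.smul_mem_pointwise_smul p _ _ (hQ hp)
    rw [← Sylow.pointwise_smul_def, ← Sylow.smul_def, hy] at h1
    simpa [MulAut.smul_def] using h1
  obtain ⟨g, hg, hg1, hgc⟩ := coreC (y⁻¹ * x * y)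
  have he : y * ((y⁻¹ * x * y) * g * (y⁻¹ * x * y)⁻¹) * y⁻¹ = x * (y * g * y⁻¹) * x⁻¹ := by group
  have m1 := hmem _ hgc
  rw [he] at m1
  have m2 : x * (y * g * y⁻¹) * x⁻¹ ∈
      (H : Subgroup (Equiv.Perm (Fin 8))).map (MulAut.conj x).toMonoidHom :=
    ⟨y * g * y⁻¹, hmem g hg, by simp [MulAut.conj_apply]⟩
  intro hbot
  have m3 : x * (y * g * y⁻¹) * x⁻¹ ∈
      (H : Subgroup (Equiv.Perm (Fin 8))) ⊓
        (H : Subgroup (Equiv.Perm (Fin 8))).map (MulAut.conj x).toMonoidHom :=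
    Subgroup.mem_inf.mpr ⟨m1, m2⟩
  rw [hbot, Subgroup.mem_bot] at m3
  exact hg1 (conj_eq_one_iff.mp (conj_eq_one_iff.mp m3))

end Cfsg.Agent.S5763
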