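import Cfsg.Statements.S5887
import Mathlib

set_option autoImplicit false
open Cfsg
open scoped Matrix

namespace Cfsg.Agent.S5887

/-- A commutative subalgebra of a matrix algebra in which every non-zero element is invertible
is a field. -/
theorem isField_of {F : Type*} [Field F] {n : ℕ} [NeZero n]
    (A : Subalgebra F (Matrix (Fin n) (Fin n) F))
    (hc : ∀ x ∈ A, ∀ y ∈ A, x * y = y * x) (hi : ∀ x ∈ A, x ≠ 0 → ∃ y ∈ A, x * y = 1) :
    IsField A :=
  { exists_pair_ne := ⟨0, 1, fun h => by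
      have h2 := congrArg Subtype.val h
      simp at h2⟩
    mul_comm := fun a b => Subtype.ext (hc a.1 a.2 b.1 b.2)
    mul_inv_cancel := fun {a} ha => by
      obtain ⟨y, hy, hxy⟩ := hi a.1 a.2
        (fun h => ha (Subtype.ext (h.trans (ZeroMemClass.coe_zero A).symm)))
      exact ⟨⟨y, hy⟩, Subtype.ext hxy⟩ }

/-- Given a field `L` acting on `F^n` through `ι`, inside a larger "field" subalgebra `B` of dimension
less than `n`, and an element `x` of `B` outside `ι L`, there is a unipotent matrix of determinant one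
commuting with `ι L` which does not conjugate `x` into `B`. -/
theorem exists_transvection {F : Type*} [Field F] {L : Type*} [Field L] [Algebra F L] {n : ℕ}
    {p : ℕ} [Fact p.Prime] [CharP F p]
    (ι : L →ₐ[F] Matrix (Fin n) (Fin n) F)
    (B : Subalgebra F (Matrix (Fin n) (Fin n) F)) (hAB : ∀ l : L, ι l ∈ B)
    (hBi : ∀ x ∈ B, x ≠ 0 → ∃ y ∈ B, y * x = 1)
    (hBdim : Module.finrank F B < n) (x : Matrix (Fin n) (Fin n) F) (hxB : x ∈ B)
    (hxA : ∀ l : L, ι l ≠ x) :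
    ∃ g : GL (Fin n) F, Matrix.GeneralLinearGroup.det g = 1 ∧
      (∀ l : L, (g : Matrix (Fin n) (Fin n) F) * ι l = ι l * g) ∧
      (g : Matrix (Fin n) (Fin n) F) * x * ((g⁻¹ : GL (Fin n) F) : Matrix (Fin n) (Fin n) F) ∉ B := by
  classical
  haveI : NeZero n := ⟨by omega⟩
  letI : Module L (Fin n → F) := Module.compHom (Fin n → F)
    ((Matrix.toLinAlgEquiv' : Matrix (Fin n) (Fin n) F ≃ₐ[F] Module.End F (Fin n → F)).toAlgHom.comp
      ι).toRingHom
  have hsm : ∀ (l : L) (v : Fin n → F), l • v = (ι l) *ᵥ v := fun l v => rfl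
  obtain ⟨v, hv⟩ := exists_ne (0 : Fin n → F)
  let ev : B →ₗ[F] (Fin n → F) :=
    { toFun := fun β => (β : Matrix (Fin n) (Fin n) F) *ᵥ v
      map_add' := fun a b => by simp [Matrix.add_mulVec]
      map_smul' := fun c a => by simp [Matrix.smul_mulVec] }
  have hrange : LinearMap.range ev ≠ ⊤ := by
    intro htop
    have h1 : Module.finrank F (LinearMap.range ev) ≤ Module.finrank F B :=
      LinearMap.finrank_range_le ev
    rw [htop, finrank_top, Module.finrank_fintype_fun_eq_card, Fintype.card_fin] at h1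
    omega
  obtain ⟨w, hw⟩ : ∃ w, w ∉ LinearMap.range ev := by
    by_contra hcon
    push Not at hcon
    exact hrange (Submodule.eq_top_iff'.mpr hcon)
  have hw' : ∀ β ∈ B, β *ᵥ v ≠ w := fun β hβ h => hw ⟨⟨β, hβ⟩, h⟩
  have hx_ne : ∀ (α : L), x - ι α ≠ 0 := fun α h => hxA α (sub_eq_zero.mp h).symm
  have hxv : x *ᵥ v ∉ Submodule.span L ({v, w} : Set (Fin n → F)) := by
    intro hmem
    obtain ⟨α, β, hαβ⟩ := Submodule.mem_span_pair.mp hmem
    rw [hsm, hsm] at hαβ
    by_cases hβ : β = 0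
    · rw [hβ, map_zero, Matrix.zero_mulVec, add_zero] at hαβ
      obtain ⟨y, hyB, hy⟩ := hBi (x - ι α) (B.sub_mem hxB (hAB α)) (hx_ne α)
      apply hv
      have h1 : (x - ι α) *ᵥ v = 0 := by rw [Matrix.sub_mulVec, hαβ, sub_self]
      have h2 : (y * (x - ι α)) *ᵥ v = 0 := by
        rw [← Matrix.mulVec_mulVec, h1, Matrix.mulVec_zero]
      rw [hy, Matrix.one_mulVec] at h2
      exact h2
    · apply hw' (ι β⁻¹ * (x - ι α)) (B.mul_mem (hAB _) (B.sub_mem hxB (hAB α)))
      rw [← Matrix.mulVec_mulVec, Matrix.sub_mulVec, ← hαβ, add_sub_cancel_left,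
        Matrix.mulVec_mulVec, ← map_mul, inv_mul_cancel₀ hβ, map_one, Matrix.one_mulVec]
  obtain ⟨φ, hφx, hφp⟩ := Submodule.exists_dual_map_eq_bot_of_notMem hxv inferInstance
  have hφ0 : ∀ u ∈ Submodule.span L ({v, w} : Set (Fin n → F)), φ u = 0 := by
    intro u hu
    have h1 : φ u ∈ (Submodule.span L ({v, w} : Set (Fin n → F))).map φ :=
      Submodule.mem_map_of_mem hu
    rw [hφp] at h1
    exact (Submodule.mem_bot L).mp h1
  have hφv : φ v = 0 := hφ0 v (Submodule.subset_span (by simp))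
  have hφw : φ w = 0 := hφ0 w (Submodule.subset_span (by simp))
  have htower : ∀ (a : F) (u : Fin n → F), (algebraMap F L a) • u = a • u := by
    intro a u
    rw [hsm, AlgHom.commutes, Algebra.algebraMap_eq_smul_one, Matrix.smul_mulVec,
      Matrix.one_mulVec]
  let Nlin : (Fin n → F) →ₗ[F] (Fin n → F) :=
    { toFun := fun u => φ u • w
      map_add' := fun u u' => by rw [map_add, add_smul]
      map_smul' := fun a u => by
        rw [RingHom.id_apply, ← htower a u, map_smul, smul_eq_mul, mul_smul, htower] }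
  obtain ⟨N, hNdef⟩ : ∃ N : Matrix (Fin n) (Fin n) F, N = LinearMap.toMatrix' Nlin := ⟨_, rfl⟩
  have hN : ∀ u, N *ᵥ u = φ u • w := by
    intro u
    rw [hNdef, ← Matrix.toLin'_apply, Matrix.toLin'_toMatrix']
    rfl
  have hext : ∀ M M' : Matrix (Fin n) (Fin n) F, (∀ u, M *ᵥ u = M' *ᵥ u) → M = M' := by
    intro M M' h
    apply Matrix.toLin'.injective
    apply LinearMap.ext
    intro u
    rw [Matrix.toLin'_apply, Matrix.toLin'_apply]
    exact h u
  have hN2 : N * N = 0 := hext _ _ (fun u => by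
    rw [← Matrix.mulVec_mulVec, hN, hN, map_smul, hφw, smul_zero, zero_smul, Matrix.zero_mulVec])
  have hNl : ∀ l : L, N * ι l = ι l * N := fun l => hext _ _ (fun u => by
    rw [← Matrix.mulVec_mulVec, ← Matrix.mulVec_mulVec, hN, hN, ← hsm, ← hsm, map_smul,
      smul_eq_mul, mul_smul])
  have h1 : (1 + N) * (1 - N) = 1 := by
    have h : (1 + N) * (1 - N) = 1 - N * N := by noncomm_ring
    rw [h, hN2, sub_zero]
  have h2 : (1 - N) * (1 + N) = 1 := by
    have h : (1 - N) * (1 + N) = 1 - N * N := by noncomm_ring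
    rw [h, hN2, sub_zero]
  refine ⟨⟨1 + N, 1 - N, h1, h2⟩, ?_, ?_, ?_⟩
  · -- determinant
    have hp2 : 2 ≤ p := (Fact.out : p.Prime).two_le
    have hNp : N ^ p = 0 := by
      obtain ⟨k, hk⟩ : ∃ k, p = k + 2 := ⟨p - 2, by omega⟩
      rw [hk, pow_add, pow_two, hN2, mul_zero]
    have hp : (1 + N) ^ p = 1 := by
      rw [add_pow_char_of_commute p (Commute.one_left N), one_pow, hNp, add_zero]
    apply Units.ext
    rw [Matrix.GeneralLinearGroup.val_det_apply]
    show (1 + N).det = 1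
    have hd : (1 + N).det ^ p = 1 := by rw [← Matrix.det_pow, hp, Matrix.det_one]
    have h3 : ((1 + N).det - 1) ^ p = 0 := by rw [sub_pow_char, hd, one_pow, sub_self]
    exact sub_eq_zero.mp ((pow_eq_zero_iff (by omega)).mp h3)
  · intro l
    show (1 + N) * ι l = ι l * (1 + N)
    rw [add_mul, one_mul, mul_add, mul_one, hNl]
  · show (1 + N) * x * (1 - N) ∉ B
    intro hy
    have hyv : ((1 + N) * x * (1 - N)) *ᵥ v = x *ᵥ v + φ (x *ᵥ v) • w := by
      rw [← Matrix.mulVec_mulVec, ← Matrix.mulVec_mulVec, Matrix.sub_mulVec, Matrix.one_mulVec,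
        hN v, hφv, zero_smul, sub_zero, Matrix.add_mulVec, Matrix.one_mulVec, hN]
    apply hw' (ι (φ (x *ᵥ v))⁻¹ * ((1 + N) * x * (1 - N) - x))
      (B.mul_mem (hAB _) (B.sub_mem hy hxB))
    rw [← Matrix.mulVec_mulVec, Matrix.sub_mulVec, hyv, add_sub_cancel_left, hsm,
      Matrix.mulVec_mulVec, ← map_mul, inv_mul_cancel₀ hφx, map_one, Matrix.one_mulVec]

/-- Let F be a finite field, n a positive integer and r a composite number (r > 1, not prime) that divides n with r < n. Let K be a subalgebra of the algebra of n × n matrices over F which is a field of degree r over F (commutative, every non-zero element invertible, of dimension r over F). Then the normaliser N of K in GL_n(F) (a group of type ΓL_{n/r}(F_{q^r})) is not a maximal subgroup of GL_n(F), and N ∩ SL_n(F) is not a maximal subgroup of SL_n(F): both lie properly inside the normaliser of an intermediate subfield of prime degree over F. -/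
theorem result {F : Type*} [Field F]
    [Fintype F] (n r : ℕ) (hr1 : 1 < r) (hrp : ¬ r.Prime) (hrn : r ∣ n) (hlt : r < n)
    (K : Subalgebra F (Matrix (Fin n) (Fin n) F)) (hK : Cfsg.Geo.IsFieldSubalgebra r K) :
    ¬ IsCoatom (Cfsg.Geo.subalgebraNormalizer K) ∧
      ¬ Cfsg.Geo.IsMaximalIn (Cfsg.Geo.specialLinear (Fin n) F)
        (Cfsg.Geo.subalgebraNormalizer K ⊓ Cfsg.Geo.specialLinear (Fin n) F) := by
  classical
  haveI : NeZero n := ⟨by omega⟩
  obtain ⟨hKc, hKi, hKdim⟩ := hK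
  obtain ⟨p, hp⟩ := CharP.exists F
  haveI := hp
  haveI : Fact p.Prime := ⟨CharP.char_is_prime F p⟩
  obtain ⟨f, hf⟩ := FiniteField.card F p
  obtain ⟨a, har, ha2, halt⟩ := Nat.exists_dvd_of_not_prime2 hr1 hrp
  obtain ⟨b, rfl⟩ := har
  obtain ⟨q, hq⟩ : ∃ q, q = Fintype.card F := ⟨_, rfl⟩
  have hq2 : 2 ≤ q := by rw [hq]; exact Fintype.one_lt_card
  have hqp : q = p ^ (f : ℕ) := by rw [hq]; exact hf.2
  have hb2 : 2 ≤ b := by
    by_contra h
    have h1 : b ≤ 1 := by omega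
    have h2 : a * b ≤ a * 1 := Nat.mul_le_mul_left a h1
    omega
  have hab : a < a * b := by nlinarith
  have hQ : q ^ a < q ^ (a * b) := Nat.pow_lt_pow_right (by omega) hab
  have hqQ : q < q ^ a := by
    calc q = q ^ 1 := (pow_one q).symm
      _ < q ^ a := Nat.pow_lt_pow_right (by omega) (by omega)
  obtain ⟨q1, hq1⟩ : ∃ q1, q = q1 + 1 := ⟨q - 1, by omega⟩
  obtain ⟨Q1, hQ1⟩ : ∃ Q1, q ^ a = Q1 + 1 := ⟨q ^ a - 1, by omega⟩
  obtain ⟨R1, hR1⟩ : ∃ R1, q ^ (a * b) = R1 + 1 := ⟨q ^ (a * b) - 1, by omega⟩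
  have hdvd : Q1 ∣ R1 := by
    have h := Nat.sub_dvd_pow_sub_pow (q ^ a) 1 b
    rw [one_pow, ← pow_mul, hQ1, hR1, Nat.add_sub_cancel, Nat.add_sub_cancel] at h
    exact h
  obtain ⟨t, ht⟩ := hdvd
  have hq1pos : 0 < q1 := by omega
  have hq1Q1 : q1 < Q1 := by omega
  have hR1pos : 0 < R1 := by omega
  have htpos : 0 < t := by
    rcases Nat.eq_zero_or_pos t with h | h
    · rw [h, mul_zero] at ht; omega
    · exact h
  -- the intermediate field
  let K₁ : Subalgebra F (Matrix (Fin n) (Fin n) F) :=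
    { carrier := {x | x ∈ K ∧ x ^ (q ^ a) = x}
      mul_mem' := fun {x y} hx hy => ⟨K.mul_mem hx.1 hy.1, by
        rw [(show Commute x y from hKc x hx.1 y hy.1).mul_pow, hx.2, hy.2]⟩
      one_mem' := ⟨K.one_mem, one_pow _⟩
      add_mem' := fun {x y} hx hy => ⟨K.add_mem hx.1 hy.1, by
        have h : q ^ a = p ^ ((f : ℕ) * a) := by rw [hqp, pow_mul]
        rw [h, add_pow_char_pow_of_commute p _ (hKc x hx.1 y hy.1), ← h, hx.2, hy.2]⟩
      zero_mem' := ⟨K.zero_mem, zero_pow (by omega)⟩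
      algebraMap_mem' := fun c => ⟨K.algebraMap_mem c, by
        rw [← map_pow, hq, FiniteField.pow_card_pow]⟩ }
  have hK₁mem : ∀ x, x ∈ K₁ ↔ x ∈ K ∧ x ^ (q ^ a) = x := fun x => Iff.rfl
  have hK₁K : K₁ ≤ K := fun x hx => hx.1
  have hK₁c : ∀ x ∈ K₁, ∀ y ∈ K₁, x * y = y * x := fun x hx y hy => hKc x hx.1 y hy.1
  have hK₁i : ∀ x ∈ K₁, x ≠ 0 → ∃ y ∈ K₁, x * y = 1 := by
    intro x hx hx0
    obtain ⟨y, hyK, hxy⟩ := hKi x hx.1 hx0
    have hcomm : Commute x y := hKc x hx.1 y hyK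
    have h1 : x * y ^ (q ^ a) = 1 := by
      have h2 : (x * y) ^ (q ^ a) = 1 := by rw [hxy, one_pow]
      rwa [hcomm.mul_pow, hx.2] at h2
    refine ⟨y, ⟨hyK, ?_⟩, hxy⟩
    calc y ^ (q ^ a) = (y * x) * y ^ (q ^ a) := by rw [← hcomm.eq, hxy, one_mul]
      _ = y * (x * y ^ (q ^ a)) := mul_assoc _ _ _
      _ = y := by rw [h1, mul_one]
  have hK₁dim : Module.finrank F K₁ < n := by
    have h1 : Module.finrank F K₁ ≤ Module.finrank F K :=
      LinearMap.finrank_le_finrank_of_injective (f := (Subalgebra.inclusion hK₁K).toLinearMap)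
        (Subalgebra.inclusion_injective hK₁K)
    omega
  -- normalisers
  have hNle : Cfsg.Geo.subalgebraNormalizer K ≤ Cfsg.Geo.subalgebraNormalizer K₁ := by
    intro g hg
    have hg' : ∀ k : Matrix (Fin n) (Fin n) F,
        k ∈ K ↔ (g : Matrix (Fin n) (Fin n) F) * k * ((g⁻¹ : GL (Fin n) F) : Matrix (Fin n) (Fin n) F) ∈ K := hg
    show ∀ k : Matrix (Fin n) (Fin n) F,
        k ∈ K₁ ↔ (g : Matrix (Fin n) (Fin n) F) * k * ((g⁻¹ : GL (Fin n) F) : Matrix (Fin n) (Fin n) F) ∈ K₁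
    intro k
    rw [hK₁mem, hK₁mem, Units.conj_pow]
    constructor
    · rintro ⟨hk, hkq⟩
      exact ⟨(hg' k).mp hk, by rw [hkq]⟩
    · rintro ⟨hk, hkq⟩
      exact ⟨(hg' k).mpr hk, (Units.mul_right_inj g).mp ((Units.mul_left_inj g⁻¹).mp hkq)⟩
  -- the field structure on K and a generator of its unit group
  have hcardK : Nat.card K = q ^ (a * b) := by
    rw [Module.natCard_eq_pow_finrank (K := F) (V := K), hKdim, Nat.card_eq_fintype_card, hq]
  have hKF : IsField K := isField_of K hKc hKi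
  letI : Field K := hKF.toField
  obtain ⟨ζ, hζ⟩ := IsCyclic.exists_generator (α := Kˣ)
  have hord : orderOf ζ = R1 := by
    rw [orderOf_eq_card_of_forall_mem_zpowers hζ, Nat.card_units K, hcardK, hR1,
      Nat.add_sub_cancel]
  obtain ⟨z, hz⟩ : ∃ z : Matrix (Fin n) (Fin n) F, z = ((ζ : K) : Matrix (Fin n) (Fin n) F) :=
    ⟨_, rfl⟩
  have hzK : z ∈ K := by rw [hz]; exact (ζ : K).2
  have hzpow : ∀ m : ℕ, z ^ m = (((ζ ^ m : Kˣ) : K) : Matrix (Fin n) (Fin n) F) := by
    intro m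
    induction m with
    | zero => rw [pow_zero, pow_zero]; rfl
    | succ m ih => rw [pow_succ, ih, pow_succ, hz]; rfl
  have hzR : z ^ R1 = 1 := by
    rw [hzpow, ← hord, pow_orderOf_eq_one]; rfl
  -- an element of K outside K₁
  have hz_notin : z ∉ K₁ := by
    rintro ⟨-, hzQ⟩
    have h1 : ζ ^ (q ^ a) = ζ := by
      apply Units.ext; apply Subtype.ext
      rw [← hzpow, ← hz]; exact hzQ
    have h2 : ζ ^ Q1 = 1 := by
      have h3 : ζ ^ Q1 * ζ = 1 * ζ := by
        rw [← pow_succ, ← hQ1, one_mul]; exact h1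
      exact mul_right_cancel h3
    have h4 := orderOf_dvd_of_pow_eq_one h2
    rw [hord] at h4
    have h5 := Nat.le_of_dvd (by omega) h4
    omega
  -- an element of K₁ which is not a scalar
  have hx1K₁ : z ^ t ∈ K₁ := by
    refine ⟨K.pow_mem hzK t, ?_⟩
    rw [hQ1, pow_succ, ← pow_mul, mul_comm t, ← ht, hzR, one_mul]
  have hx1bot : ∀ c : F, (Algebra.ofId F (Matrix (Fin n) (Fin n) F)) c ≠ z ^ t := by
    intro c hc
    rw [Algebra.ofId_apply] at hc
    have h1 : (z ^ t) ^ q = z ^ t := by rw [← hc, ← map_pow, hq, FiniteField.pow_card]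
    have h2 : ζ ^ (t * q1) = 1 := by
      have h3 : ζ ^ (t * q1) * ζ ^ t = 1 * ζ ^ t := by
        rw [← pow_add, one_mul]
        apply Units.ext; apply Subtype.ext
        rw [← hzpow, ← hzpow]
        have h4 : t * q1 + t = t * q := by rw [hq1]; ring
        rw [h4, pow_mul]; exact h1
      exact mul_right_cancel h3
    have h4 := orderOf_dvd_of_pow_eq_one h2
    rw [hord] at h4
    have h5 := Nat.le_of_dvd (Nat.mul_pos htpos hq1pos) h4
    rw [ht] at h5
    nlinarith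
  -- a determinant one matrix not normalising K₁
  obtain ⟨g₁, hg₁det, -, hg₁⟩ := exists_transvection (p := p)
    (Algebra.ofId F (Matrix (Fin n) (Fin n) F)) K₁
    (fun l => by rw [Algebra.ofId_apply]; exact K₁.algebraMap_mem l)
    (fun x hx h0 => by
      obtain ⟨y, hy, hxy⟩ := hK₁i x hx h0
      exact ⟨y, hy, by rw [hK₁c y hy x hx]; exact hxy⟩)
    hK₁dim (z ^ t) hx1K₁ hx1bot
  -- a determinant one matrix centralising K₁ and not normalising K
  letI : Field K₁ := (isField_of K₁ hK₁c hK₁i).toField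
  obtain ⟨g₂, hg₂det, hg₂c, hg₂⟩ := exists_transvection (p := p) (L := K₁) K₁.val K
    (fun l => l.2.1)
    (fun x hx h0 => by
      obtain ⟨y, hy, hxy⟩ := hKi x hx h0
      exact ⟨y, hy, by rw [hKc y hy x hx]; exact hxy⟩)
    (by omega) z hzK (fun l h => hz_notin (h ▸ l.2))
  have hg₁N : g₁ ∉ Cfsg.Geo.subalgebraNormalizer K₁ := by
    intro h
    have h' : ∀ k : Matrix (Fin n) (Fin n) F,
        k ∈ K₁ ↔ (g₁ : Matrix (Fin n) (Fin n) F) * k * ((g₁⁻¹ : GL (Fin n) F) : Matrix (Fin n) (Fin n) F) ∈ K₁ := h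
    exact hg₁ ((h' _).mp hx1K₁)
  have hg₂N : g₂ ∉ Cfsg.Geo.subalgebraNormalizer K := by
    intro h
    have h' : ∀ k : Matrix (Fin n) (Fin n) F,
        k ∈ K ↔ (g₂ : Matrix (Fin n) (Fin n) F) * k * ((g₂⁻¹ : GL (Fin n) F) : Matrix (Fin n) (Fin n) F) ∈ K := h
    exact hg₂ ((h' _).mp hzK)
  have hg₂N₁ : g₂ ∈ Cfsg.Geo.subalgebraNormalizer K₁ := by
    show ∀ k : Matrix (Fin n) (Fin n) F,
        k ∈ K₁ ↔ (g₂ : Matrix (Fin n) (Fin n) F) * k * ((g₂⁻¹ : GL (Fin n) F) : Matrix (Fin n) (Fin n) F) ∈ K₁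
    intro k
    obtain ⟨G, hG⟩ : ∃ G : Matrix (Fin n) (Fin n) F, G = (g₂ : Matrix (Fin n) (Fin n) F) := ⟨_, rfl⟩
    obtain ⟨G', hG'⟩ : ∃ G' : Matrix (Fin n) (Fin n) F,
        G' = ((g₂⁻¹ : GL (Fin n) F) : Matrix (Fin n) (Fin n) F) := ⟨_, rfl⟩
    have hGG' : G * G' = 1 := by rw [hG, hG']; exact Units.mul_inv g₂
    have hG'G : G' * G = 1 := by rw [hG, hG']; exact Units.inv_mul g₂
    have hcomm : ∀ κ ∈ K₁, G * κ = κ * G := fun κ hκ => by
      rw [hG]; exact hg₂c ⟨κ, hκ⟩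
    rw [← hG, ← hG']
    constructor
    · intro hk
      rw [hcomm k hk, mul_assoc, hGG', mul_one]
      exact hk
    · intro hm
      obtain ⟨m, hmdef⟩ : ∃ m, m = G * k * G' := ⟨_, rfl⟩
      rw [← hmdef] at hm
      have e1 : G' * m * G = k := by
        have h : G' * m * G = (G' * G) * k * (G' * G) := by rw [hmdef]; noncomm_ring
        rw [h, hG'G, one_mul, mul_one]
      have e2 : G' * m * G = m := by
        rw [mul_assoc, ← hcomm m hm, ← mul_assoc, hG'G, one_mul]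
      rw [← e1, e2]
      exact hm
  have hg₁SL : g₁ ∈ Cfsg.Geo.specialLinear (Fin n) F := MonoidHom.mem_ker.mpr hg₁det
  have hg₂SL : g₂ ∈ Cfsg.Geo.specialLinear (Fin n) F := MonoidHom.mem_ker.mpr hg₂det
  constructor
  · intro hco
    have hlt' : Cfsg.Geo.subalgebraNormalizer K < Cfsg.Geo.subalgebraNormalizer K₁ :=
      lt_of_le_of_ne hNle (fun h => hg₂N (h ▸ hg₂N₁))
    have htop := hco.2 _ hlt'
    exact hg₁N (htop ▸ Subgroup.mem_top g₁)
  · rintro ⟨-, hmax⟩
    rcases hmax (Cfsg.Geo.subalgebraNormalizer K₁ ⊓ Cfsg.Geo.specialLinear (Fin n) F)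
      (inf_le_inf_right _ hNle) inf_le_right with h | h
    · have h1 : g₂ ∈ Cfsg.Geo.subalgebraNormalizer K₁ ⊓ Cfsg.Geo.specialLinear (Fin n) F :=
        ⟨hg₂N₁, hg₂SL⟩
      rw [h] at h1
      exact hg₂N h1.1
    · have h1 : g₁ ∈ Cfsg.Geo.subalgebraNormalizer K₁ ⊓ Cfsg.Geo.specialLinear (Fin n) F := by
        rw [h]; exact hg₁SL
      exact hg₁N h1.1

end Cfsg.Agent.S5887
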