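import Cfsg.Statements.S5905
import Mathlib

set_option autoImplicit false
open Cfsg

namespace Cfsg.Agent.S5905

variable {Ω : Type*} [Fintype Ω] [DecidableEq Ω] {b : ℕ}

/-- the set of partition-preserving permutations -/
def pres (f : Ω → Fin b) : Set (Equiv.Perm Ω) :=
  {g : Equiv.Perm Ω | ∀ x y : Ω, f x = f y ↔ f (g x) = f (g y)}

/-- the partition-preserving permutations as a subgroup -/
def presSubgroup (f : Ω → Fin b) : Subgroup (Equiv.Perm Ω) where
  carrier := pres f
  mul_mem' := by
    intro g h hg hh x y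
    rw [hh x y, hg (h x) (h y)]; rfl
  one_mem' := by intro x y; rfl
  inv_mem' := by
    intro g hg x y
    have := hg (g⁻¹ x) (g⁻¹ y)
    have e1 : g (g⁻¹ x) = x := by rw [← Equiv.Perm.mul_apply, mul_inv_cancel, Equiv.Perm.one_apply]
    have e2 : g (g⁻¹ y) = y := by rw [← Equiv.Perm.mul_apply, mul_inv_cancel, Equiv.Perm.one_apply]
    rw [e1, e2] at this
    exact this.symm

theorem closure_pres (f : Ω → Fin b) : Subgroup.closure (pres f) = presSubgroup f := by
  apply le_antisymm
  · rw [Subgroup.closure_le]; intro g hg; exact hg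
  · intro g hg; exact Subgroup.subset_closure hg

theorem mem_pres_of_perm (f : Ω → Fin b) (g : Equiv.Perm Ω) (π : Equiv.Perm (Fin b))
    (h : ∀ x, f (g x) = π (f x)) : g ∈ pres f := by
  intro x y
  rw [h x, h y]
  exact π.injective.eq_iff.symm

theorem swap_mem_pres (f : Ω → Fin b) (x y : Ω) (h : f x = f y) : Equiv.swap x y ∈ pres f := by
  apply mem_pres_of_perm f _ 1
  intro z
  rw [Equiv.Perm.one_apply]
  by_cases hzx : z = x
  · rw [hzx, Equiv.swap_apply_left, h]
  · by_cases hzy : z = y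
    · rw [hzy, Equiv.swap_apply_right, h]
    · rw [Equiv.swap_apply_of_ne_of_ne hzx hzy]

/-- an element of the partition stabiliser interchanging two fibres and fixing the rest -/
theorem exists_fibre_swap (f : Ω → Fin b) (a : ℕ) (hf : ∀ i : Fin b, Nat.card {x : Ω // f x = i} = a)
    (j k : Fin b) (hjk : j ≠ k) (v : Ω) (hv : f v = j) :
    ∃ σ : Equiv.Perm Ω, σ ∈ pres f ∧ f (σ v) = k ∧ ∀ u, f u ≠ j → f u ≠ k → σ u = u := by
  classical
  have e1 : {x : Ω // f x = j} ≃ Fin a := Finite.equivFinOfCardEq (hf j)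
  have e2 : {x : Ω // f x = k} ≃ Fin a := Finite.equivFinOfCardEq (hf k)
  let e : {x : Ω // f x = j} ≃ {x : Ω // f x = k} := e1.trans e2.symm
  let s : Ω → Ω := fun x =>
    if h : f x = j then (e ⟨x, h⟩).1 else if h' : f x = k then (e.symm ⟨x, h'⟩).1 else x
  have hs1 : ∀ x (h : f x = j), s x = (e ⟨x, h⟩).1 := by
    intro x h; simp only [s, dif_pos h]
  have hs2 : ∀ x (h : f x = k), s x = (e.symm ⟨x, h⟩).1 := by
    intro x h
    have : ¬ f x = j := by rw [h]; exact fun h' => hjk h'.symm
    simp only [s, dif_neg this, dif_pos h]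
  have hs3 : ∀ x, f x ≠ j → f x ≠ k → s x = x := by
    intro x h1 h2; simp only [s, dif_neg h1, dif_neg h2]
  have hfs1 : ∀ x, f x = j → f (s x) = k := by
    intro x h; rw [hs1 x h]; exact (e ⟨x, h⟩).2
  have hfs2 : ∀ x, f x = k → f (s x) = j := by
    intro x h; rw [hs2 x h]; exact (e.symm ⟨x, h⟩).2
  have hinv : Function.Involutive s := by
    intro x
    by_cases h1 : f x = j
    · have h2 := hfs1 x h1
      rw [hs2 _ h2]
      have : (⟨s x, h2⟩ : {x : Ω // f x = k}) = e ⟨x, h1⟩ := Subtype.ext (hs1 x h1)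
      rw [this, Equiv.symm_apply_apply]
    · by_cases h2 : f x = k
      · have h3 := hfs2 x h2
        rw [hs1 _ h3]
        have : (⟨s x, h3⟩ : {x : Ω // f x = j}) = e.symm ⟨x, h2⟩ := Subtype.ext (hs2 x h2)
        rw [this, Equiv.apply_symm_apply]
      · rw [hs3 x h1 h2, hs3 x h1 h2]
  refine ⟨hinv.toPerm s, ?_, ?_, ?_⟩
  · apply mem_pres_of_perm f _ (Equiv.swap j k)
    intro x
    show f (s x) = _
    by_cases h1 : f x = j
    · rw [hfs1 x h1, h1, Equiv.swap_apply_left]
    · by_cases h2 : f x = k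
      · rw [hfs2 x h2, h2, Equiv.swap_apply_right]
      · rw [hs3 x h1 h2, Equiv.swap_apply_of_ne_of_ne h1 h2]
  · exact hfs1 v hv
  · intro u h1 h2
    exact hs3 u h1 h2

/-- The partition stabiliser is a maximal subgroup. -/
theorem isCoatom_presSubgroup (a : ℕ) (ha : 2 ≤ a) (hb : 2 ≤ b)
    (f : Ω → Fin b) (hf : ∀ i : Fin b, Nat.card {x : Ω // f x = i} = a) :
    IsCoatom (presSubgroup f) := by
  classical
  -- fibres are nonempty and have two distinct elements
  have hfib2 : ∀ i : Fin b, ∃ x y : Ω, f x = i ∧ f y = i ∧ x ≠ y := by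
    intro i
    have h1 : 1 < Nat.card {x : Ω // f x = i} := by rw [hf i]; omega
    haveI : Finite {x : Ω // f x = i} := inferInstance
    rw [Finite.one_lt_card_iff_nontrivial] at h1
    obtain ⟨⟨x, hx⟩, ⟨y, hy⟩, hxy⟩ := h1
    exact ⟨x, y, hx, hy, fun h => hxy (Subtype.ext h)⟩
  constructor
  · -- not top
    intro htop
    obtain ⟨x, z, hx, hz, hxz⟩ := hfib2 ⟨0, by omega⟩
    obtain ⟨y, _, hy, _, _⟩ := hfib2 ⟨1, by omega⟩
    have hne : f x ≠ f y := by
      rw [hx, hy]; intro h; simp [Fin.ext_iff] at h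
    have hmem : Equiv.swap x y ∈ presSubgroup f := by rw [htop]; exact Subgroup.mem_top _
    have h1 := (hmem x z).mp (by rw [hx, hz])
    rw [Equiv.swap_apply_left] at h1
    have hzy : z ≠ y := by
      intro h; apply hne; rw [← h, hx, hz]
    rw [Equiv.swap_apply_of_ne_of_ne (Ne.symm hxz) hzy] at h1
    apply hne
    rw [hx, ← hz, ← h1]
  · intro G hG
    -- the relation
    let R : Ω → Ω → Prop := fun x y => x = y ∨ Equiv.swap x y ∈ G
    have Rsymm : ∀ x y, R x y → R y x := by
      intro x y h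
      rcases h with h | h
      · exact Or.inl h.symm
      · right; rw [Equiv.swap_comm]; exact h
    have Rtrans : ∀ x y z, R x y → R y z → R x z := by
      intro x y z h1 h2
      rcases h1 with h1 | h1
      · rw [h1]; exact h2
      rcases h2 with h2 | h2
      · rw [← h2]; exact Or.inr h1
      by_cases hxz : x = z
      · exact Or.inl hxz
      by_cases hxy : x = y
      · rw [hxy]; exact Or.inr h2
      right
      have := Equiv.swap_mul_swap_mul_swap (x := x) (y := y) (z := z) hxy hxz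
      rw [Equiv.swap_comm x z, ← this]
      exact G.mul_mem (G.mul_mem h2 h1) h2
    have Rinv : ∀ g ∈ G, ∀ x y, R x y → R (g x) (g y) := by
      intro g hg x y h
      rcases h with h | h
      · left; rw [h]
      · right
        rw [Equiv.swap_apply_apply]
        exact G.mul_mem (G.mul_mem hg h) (G.inv_mem hg)
    have Rfib : ∀ x y, f x = f y → R x y := by
      intro x y h
      right
      exact hG.le (swap_mem_pres f x y h)
    -- an element outside
    obtain ⟨g, hgG, hgK⟩ := SetLike.exists_of_lt hG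
    have hex : ∃ u v, R u v ∧ f u ≠ f v := by
      have : ¬ ∀ x y : Ω, f x = f y ↔ f (g x) = f (g y) := hgK
      push Not at this
      obtain ⟨x, y, hxy⟩ := this
      rcases hxy with ⟨h1, h2⟩ | ⟨h1, h2⟩
      · exact ⟨g x, g y, Rinv g hgG x y (Rfib x y h1), h2⟩
      · refine ⟨x, y, ?_, h1⟩
        have := Rinv g⁻¹ (G.inv_mem hgG) (g x) (g y) (Rfib _ _ h2)
        simpa using this
    obtain ⟨u, v, hRuv, hfuv⟩ := hex
    have hall : ∀ w, R u w := by
      intro w
      by_cases h1 : f w = f u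
      · exact Rfib u w h1.symm
      by_cases h2 : f w = f v
      · exact Rtrans u v w hRuv (Rfib v w h2.symm)
      · obtain ⟨σ, hσ, hσv, hσfix⟩ := exists_fibre_swap f a hf (f v) (f w) (Ne.symm h2) v rfl
        have hσG : σ ∈ G := hG.le hσ
        have h3 := Rinv σ hσG u v hRuv
        rw [hσfix u hfuv (Ne.symm h1)] at h3
        exact Rtrans u (σ v) w h3 (Rfib _ _ hσv)
    have hallR : ∀ p q, R p q := fun p q => Rtrans p u q (Rsymm u p (hall p)) (hall q)
    rw [eq_top_iff, ← Equiv.Perm.closure_isSwap, Subgroup.closure_le]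
    intro τ hτ
    obtain ⟨x, y, hxy, rfl⟩ := hτ
    rcases hallR x y with h | h
    · exact absurd h hxy
    · exact h

theorem result {Ω : Type*} [Fintype Ω] [DecidableEq Ω] (a b : ℕ) (ha : 2 ≤ a) (hb : 2 ≤ b)
    (f : Ω → Fin b) (hf : ∀ i : Fin b, Nat.card {x : Ω // f x = i} = a) :
    IsCoatom (Subgroup.closure {g : Equiv.Perm Ω | ∀ x y : Ω, f x = f y ↔ f (g x) = f (g y)}) := by
  have := closure_pres f
  unfold pres at this
  rw [this]
  exact isCoatom_presSubgroup a ha hb f hf

end Cfsg.Agent.S5905
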