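import Cfsg.Statements.S5894
import Cfsg.Agent.S5905
import Mathlib

set_option autoImplicit false
open Cfsg

namespace Cfsg.Agent.S5894

theorem isCoatom_subgroupOf {G : Type*} [Group G] (H M : Subgroup G) (hHM : H ≤ M) (hne : H ≠ M)
    (hmax : ∀ L : Subgroup G, H < L → L ≤ M → L = M) : IsCoatom (H.subgroupOf M) := by
  constructor
  · intro h; rw [Subgroup.subgroupOf_eq_top] at h; exact hne (le_antisymm hHM h)
  · intro L' hL'
    have hLM : L'.map M.subtype ≤ M := Subgroup.map_subtype_le L'
    have hL'eq : (L'.map M.subtype).subgroupOf M = L' :=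
      Subgroup.comap_map_eq_self_of_injective M.subtype_injective L'
    have hHL : H < L'.map M.subtype := by
      refine lt_of_le_of_ne ?_ ?_
      · intro x hx
        have : (⟨x, hHM hx⟩ : M) ∈ H.subgroupOf M := Subgroup.mem_subgroupOf.mpr hx
        exact ⟨⟨x, hHM hx⟩, hL'.le this, rfl⟩
      · intro h
        rw [← h] at hL'eq
        exact hL'.ne hL'eq
    have := hmax _ hHL hLM
    rw [← hL'eq, this]; exact Subgroup.subgroupOf_self M

/-- the fibrewise stabiliser -/
def fibStab {Ω : Type*} {b : ℕ} (f : Ω → Fin b) : Subgroup (Equiv.Perm Ω) where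
  carrier := {g | ∀ x, f (g x) = f x}
  mul_mem' := by
    intro g h hg hh x
    rw [Equiv.Perm.mul_apply, hg, hh]
  one_mem' := by intro x; rfl
  inv_mem' := by
    intro g hg x
    have := hg (g⁻¹ x)
    have e1 : g (g⁻¹ x) = x := by rw [← Equiv.Perm.mul_apply, mul_inv_cancel, Equiv.Perm.one_apply]
    rw [e1] at this
    exact this.symm

theorem result (m : ℕ) (hm : 2 ≤ m) :
    ∃ M H K : Subgroup (Equiv.Perm (Fin (2 * m))), IsCoatom M ∧ M.index = 2 * m ∧ H ≤ M ∧ IsCoatom (H.subgroupOf M) ∧
      IsCoatom K ∧ H ≤ K ∧ ¬ IsCoatom (H.subgroupOf K) := by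
  classical
  set Ω := Fin (2 * m) with hΩ
  let o : Ω := ⟨0, by omega⟩
  let x1 : Ω := ⟨1, by omega⟩
  let f : Ω → Fin 2 := fun x => if x.val < m then 0 else 1
  have hfo : f o = 0 := by simp [f, o]; omega
  have hfx1 : f x1 = 0 := by simp [f, x1]; omega
  have hox1 : o ≠ x1 := by
    intro h
    have h2 : (0 : ℕ) = 1 := congrArg Fin.val h
    exact absurd h2 (by decide)
  -- fibre cards
  have hf : ∀ i : Fin 2, Nat.card {x : Ω // f x = i} = m := by
    intro i
    rw [Nat.card_eq_fintype_card, Fintype.card_subtype]
    fin_cases i
    · have : (Finset.univ.filter (fun x : Ω => f x = (0 : Fin 2))) = Finset.univ.filter (fun x : Ω => x.val < m) := by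
        ext x; simp only [Finset.mem_filter, Finset.mem_univ, true_and, f]
        by_cases h : x.val < m <;> simp [h]
      show (Finset.univ.filter (fun x : Ω => f x = (0 : Fin 2))).card = m
      rw [this]
      have h2 : (Finset.univ.filter (fun x : Fin (2 * m) => x.val < m)).card = m := by
        rw [Fin.card_filter_val_lt]; omega
      exact h2
    · have : (Finset.univ.filter (fun x : Ω => f x = (1 : Fin 2))) = Finset.univ.filter (fun x : Ω => ¬ x.val < m) := by
        ext x; simp only [Finset.mem_filter, Finset.mem_univ, true_and, f]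
        by_cases h : x.val < m <;> simp [h]
      show (Finset.univ.filter (fun x : Ω => f x = (1 : Fin 2))).card = m
      rw [this]
      have h2 : (Finset.univ.filter (fun x : Fin (2 * m) => x.val < m)).card = m := by
        rw [Fin.card_filter_val_lt]; omega
      rw [Finset.filter_not, Finset.card_sdiff_of_subset (Finset.filter_subset _ _), Finset.card_univ]
      have h4 : Fintype.card Ω = 2 * m := Fintype.card_fin _
      rw [h4]
      have h5 : (Finset.univ.filter (fun x : Ω => x.val < m)).card = m := h2
      rw [h5]; omega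
  set M : Subgroup (Equiv.Perm Ω) := MulAction.stabilizer (Equiv.Perm Ω) o with hM
  set N : Subgroup (Equiv.Perm Ω) := fibStab f with hN
  set K : Subgroup (Equiv.Perm Ω) := Cfsg.Agent.S5905.presSubgroup f with hK
  have hmemM : ∀ g : Equiv.Perm Ω, g ∈ M ↔ g o = o := fun g => MulAction.mem_stabilizer_iff
  have hmemN : ∀ g : Equiv.Perm Ω, g ∈ N ↔ ∀ x, f (g x) = f x := fun g => Iff.rfl
  have hNK : N ≤ K := by
    intro g hg
    apply Cfsg.Agent.S5905.mem_pres_of_perm f g 1
    intro x; rw [Equiv.Perm.one_apply]; exact hg x
  refine ⟨M, M ⊓ N, K, ?_, ?_, inf_le_left, ?_, ?_, inf_le_right.trans hNK, ?_⟩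
  · -- M coatom
    have := Equiv.Perm.isCoatom_stabilizer (α := Ω) (s := {o}) (Set.singleton_nonempty o)
      ⟨x1, by simp [hox1.symm]⟩ (by
        rw [Nat.card_eq_fintype_card, Fintype.card_fin, Set.ncard_singleton]; omega)
    rw [MulAction.stabilizer_singleton] at this
    exact this
  · -- index
    rw [hM, MulAction.index_stabilizer_of_transitive, Nat.card_eq_fintype_card, Fintype.card_fin]
  · -- coatom in M
    apply isCoatom_subgroupOf _ _ inf_le_left
    · intro h
      -- an element of M not in N
      obtain ⟨σ, _, hσv, hσfix⟩ := Cfsg.Agent.S5905.exists_fibre_swap f m hf 0 1 (by decide) o hfo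
      -- swap x1 with something in the other fibre
      let y1 : Ω := ⟨m, by omega⟩
      have hfy1 : f y1 = 1 := by simp [f, y1]
      have hmem : Equiv.swap x1 y1 ∈ M := by
        rw [hmemM]
        apply Equiv.swap_apply_of_ne_of_ne hox1
        intro h; have := congrArg f h; rw [hfo, hfy1] at this; exact absurd this (by decide)
      rw [← h] at hmem
      have := (hmemN _).mp hmem.2 x1
      rw [Equiv.swap_apply_left, hfy1, hfx1] at this
      exact absurd this (by decide)
    · intro L hHL hLM
      apply le_antisymm hLM
      let R : Ω → Ω → Prop := fun x y => x = y ∨ Equiv.swap x y ∈ L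
      have Rsymm : ∀ x y, R x y → R y x := by
        intro x y h
        rcases h with h | h
        · exact Or.inl h.symm
        · right; rw [Equiv.swap_comm]; exact h
      have Rtrans : ∀ x y z, R x y → R y z → R x z := by
        intro x y z h1 h2
        rcases h1 with h1 | h1
        · rw [h1]; exact h2
        rcases h2 with h2 | h2
        · rw [← h2]; exact Or.inr h1
        by_cases hxz : x = z
        · exact Or.inl hxz
        by_cases hxy : x = y
        · rw [hxy]; exact Or.inr h2
        right
        have := Equiv.swap_mul_swap_mul_swap (x := x) (y := y) (z := z) hxy hxz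
        rw [Equiv.swap_comm x z, ← this]
        exact L.mul_mem (L.mul_mem h2 h1) h2
      have Rinv : ∀ g ∈ L, ∀ x y, R x y → R (g x) (g y) := by
        intro g hg x y h
        rcases h with h | h
        · left; rw [h]
        · right
          rw [Equiv.swap_apply_apply]
          exact L.mul_mem (L.mul_mem hg h) (L.inv_mem hg)
      have Rfib : ∀ x y, x ≠ o → y ≠ o → f x = f y → R x y := by
        intro x y hx hy h
        right
        apply hHL.le
        refine ⟨?_, ?_⟩
        · exact (hmemM _).mpr (Equiv.swap_apply_of_ne_of_ne hx.symm hy.symm)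
        · intro z
          by_cases hzx : z = x
          · rw [hzx, Equiv.swap_apply_left, h]
          · by_cases hzy : z = y
            · rw [hzy, Equiv.swap_apply_right, h]
            · rw [Equiv.swap_apply_of_ne_of_ne hzx hzy]
      obtain ⟨g, hgL, hgH⟩ := SetLike.exists_of_lt hHL
      have hgo : g o = o := (hmemM g).mp (hLM hgL)
      have hgN : ¬ ∀ x, f (g x) = f x := fun h => hgH ⟨hLM hgL, h⟩
      push Not at hgN
      obtain ⟨x, hx⟩ := hgN
      have hxo : x ≠ o := by
        intro h; rw [h, hgo] at hx; exact hx rfl
      have hgne : ∀ y, y ≠ o → g y ≠ o := by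
        intro y hy h
        apply hy
        apply g.injective; rw [h, hgo]
      -- counting: some y in P1 with g y in P1
      have hcount : ∃ y, f y = 1 ∧ f (g y) = 1 := by
        by_contra hcon
        push Not at hcon
        set P1 := Finset.univ.filter (fun x : Ω => f x = 1) with hP1
        set P0 := (Finset.univ.filter (fun x : Ω => f x = 0)).erase o with hP0
        have hc1 : P1.card = m := by
          have := hf 1
          rw [Nat.card_eq_fintype_card, Fintype.card_subtype] at this
          exact this
        have hc0 : P0.card = m - 1 := by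
          rw [hP0, Finset.card_erase_of_mem (by simp [hfo])]
          have := hf 0
          rw [Nat.card_eq_fintype_card, Fintype.card_subtype] at this
          rw [this]
        have hle : P1.card ≤ P0.card := by
          apply Finset.card_le_card_of_injOn (fun y => g y)
          · intro y hy
            have hy1 : f y = 1 := (Finset.mem_filter.mp hy).2
            have hyo : y ≠ o := by
              intro h; rw [h, hfo] at hy1; exact absurd hy1 (by decide)
            have h0 : f (g y) = 0 := by
              have := hcon y hy1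
              have h2 : ∀ t : Fin 2, t ≠ 1 → t = 0 := by decide
              exact h2 _ this
            simp only [hP0, Finset.coe_erase, Finset.coe_filter, Finset.mem_univ, true_and,
              Set.mem_diff, Set.mem_setOf_eq, Set.mem_singleton_iff]
            exact ⟨h0, hgne y hyo⟩
          · intro y _ z _ h
            exact g.injective h
        omega
      obtain ⟨y, hy1, hgy1⟩ := hcount
      have hyo : y ≠ o := by
        intro h; rw [h, hfo] at hy1; exact absurd hy1 (by decide)
      -- cross pair
      have hcross : ∃ u v, u ≠ o ∧ v ≠ o ∧ f u = 0 ∧ f v = 1 ∧ R u v := by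
        have h2 : ∀ t : Fin 2, t ≠ 1 → t = 0 := by decide
        have h3 : ∀ t : Fin 2, t ≠ 0 → t = 1 := by decide
        by_cases hfx : f x = 0
        · have hgx1 : f (g x) = 1 := by
            apply h3; rw [← hfx]; exact hx
          refine ⟨x, y, hxo, hyo, hfx, hy1, ?_⟩
          have hR := Rfib (g x) (g y) (hgne x hxo) (hgne y hyo) (by rw [hgx1, hgy1])
          have := Rinv g⁻¹ (L.inv_mem hgL) _ _ hR
          simpa using this
        · have hfx1' : f x = 1 := h3 _ hfx
          have hgx0 : f (g x) = 0 := by
            apply h2; rw [← hfx1']; exact hx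
          refine ⟨g x, g y, hgne x hxo, hgne y hyo, hgx0, hgy1, ?_⟩
          exact Rinv g hgL x y (Rfib x y hxo hyo (by rw [hfx1', hy1]))
      obtain ⟨u, v, huo, hvo, hfu, hfv, hRuv⟩ := hcross
      have hall : ∀ p, p ≠ o → R u p := by
        intro p hp
        have h3 : ∀ t : Fin 2, t ≠ 0 → t = 1 := by decide
        by_cases hfp : f p = 0
        · exact Rfib u p huo hp (by rw [hfu, hfp])
        · exact Rtrans u v p hRuv (Rfib v p hvo hp (by rw [hfv, h3 _ hfp]))
      have hallR : ∀ p q, p ≠ o → q ≠ o → R p q := fun p q hp hq =>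
        Rtrans p u q (Rsymm u p (hall p hp)) (hall q hq)
      -- M ≤ L
      intro τ hτ
      have hτo : τ o = o := (hmemM τ).mp hτ
      have h1 : ∀ x : Ω, (τ x ≠ o) ↔ (x ≠ o) := by
        intro x
        constructor
        · intro h hx; apply h; rw [hx, hτo]
        · intro h hx; apply h; apply τ.injective; rw [hx, hτo]
      have h2 : ∀ x : Ω, τ x ≠ x → x ≠ o := by
        intro x hx h; apply hx; rw [h, hτo]
      obtain ⟨ρ, hρ⟩ : ∃ ρ : Equiv.Perm {x : Ω // x ≠ o}, Equiv.Perm.ofSubtype ρ = τ :=
        ⟨_, Equiv.Perm.ofSubtype_subtypePerm (p := fun x : Ω => x ≠ o) (f := τ) h1 h2⟩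
      rw [← hρ]
      clear hρ
      induction ρ using Equiv.Perm.swap_induction_on with
      | one => rw [map_one]; exact L.one_mem
      | swap_mul ρ a b hab ih =>
        rw [map_mul]
        apply L.mul_mem _ ih
        rw [Equiv.Perm.ofSubtype_swap_eq]
        rcases hallR a.1 b.1 a.2 b.2 with h | h
        · exact absurd (Subtype.ext h) hab
        · exact h
  · -- K coatom
    exact Cfsg.Agent.S5905.isCoatom_presSubgroup m hm (le_refl 2) f hf
  · -- not coatom in K
    intro hco
    have hlt : (M ⊓ N).subgroupOf K < N.subgroupOf K := by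
      refine lt_of_le_of_ne ?_ ?_
      · intro g hg
        rw [Subgroup.mem_subgroupOf] at hg ⊢
        exact hg.2
      · intro h
        have hsw : Equiv.swap o x1 ∈ N := by
          intro z
          by_cases hzx : z = o
          · rw [hzx, Equiv.swap_apply_left, hfx1, hfo]
          · by_cases hzy : z = x1
            · rw [hzy, Equiv.swap_apply_right, hfx1, hfo]
            · rw [Equiv.swap_apply_of_ne_of_ne hzx hzy]
        have hswK : Equiv.swap o x1 ∈ K := hNK hsw
        have : (⟨Equiv.swap o x1, hswK⟩ : K) ∈ N.subgroupOf K := Subgroup.mem_subgroupOf.mpr hsw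
        rw [← h, Subgroup.mem_subgroupOf] at this
        have h2 := (hmemM _).mp this.1
        rw [Equiv.swap_apply_left] at h2
        exact hox1 h2.symm
    have htop := hco.2 _ hlt
    rw [Subgroup.subgroupOf_eq_top] at htop
    obtain ⟨σ, hσ, hσv, _⟩ := Cfsg.Agent.S5905.exists_fibre_swap f m hf 0 1 (by decide) o hfo
    have := (hmemN σ).mp (htop hσ) o
    rw [hσv, hfo] at this
    exact absurd this (by decide)

end Cfsg.Agent.S5894
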