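import Cfsg.Statements.S5895
import Cfsg.Agent.S5894
import Mathlib

set_option autoImplicit false
open Cfsg

namespace Cfsg.Agent.S5895

/-- the group of maps `v ↦ (i ↦ eps i * v (i + k) + t i)` on `(ZMod d → ZMod p)`. -/
@[ext] structure Aff (p d : ℕ) where
  eps : ZMod d → (ZMod p)ˣ
  k : ZMod d
  t : ZMod d → ZMod p

namespace Aff

variable {p d : ℕ}

instance : Mul (Aff p d) :=
  ⟨fun g h => ⟨fun i => g.eps i * h.eps (i + g.k), g.k + h.k,
    fun i => (g.eps i : ZMod p) * h.t (i + g.k) + g.t i⟩⟩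

instance : One (Aff p d) := ⟨⟨fun _ => 1, 0, fun _ => 0⟩⟩

instance : Inv (Aff p d) :=
  ⟨fun g => ⟨fun i => (g.eps (i - g.k))⁻¹, -g.k,
    fun i => -(((g.eps (i - g.k))⁻¹ : (ZMod p)ˣ) : ZMod p) * g.t (i - g.k)⟩⟩

@[simp] theorem mul_eps (g h : Aff p d) (i : ZMod d) : (g * h).eps i = g.eps i * h.eps (i + g.k) := rfl
@[simp] theorem mul_k (g h : Aff p d) : (g * h).k = g.k + h.k := rfl
@[simp] theorem mul_t (g h : Aff p d) (i : ZMod d) :
    (g * h).t i = (g.eps i : ZMod p) * h.t (i + g.k) + g.t i := rfl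
@[simp] theorem one_eps (i : ZMod d) : (1 : Aff p d).eps i = 1 := rfl
@[simp] theorem one_k : (1 : Aff p d).k = 0 := rfl
@[simp] theorem one_t (i : ZMod d) : (1 : Aff p d).t i = 0 := rfl
@[simp] theorem inv_eps (g : Aff p d) (i : ZMod d) : (g⁻¹).eps i = (g.eps (i - g.k))⁻¹ := rfl
@[simp] theorem inv_k (g : Aff p d) : (g⁻¹).k = -g.k := rfl
@[simp] theorem inv_t (g : Aff p d) (i : ZMod d) :
    (g⁻¹).t i = -(((g.eps (i - g.k))⁻¹ : (ZMod p)ˣ) : ZMod p) * g.t (i - g.k) := rfl

instance : Group (Aff p d) where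
  mul_assoc := by
    intro a b c
    ext i
    · simp only [mul_eps, mul_k, Units.val_mul]
      rw [add_assoc]; ring
    · simp only [mul_k]; rw [add_assoc]
    · simp only [mul_t, mul_eps, mul_k, Units.val_mul]
      rw [add_assoc]; ring
  one_mul := by
    intro a
    ext i
    · simp
    · simp
    · simp
  mul_one := by
    intro a
    ext i
    · simp
    · simp
    · simp
  inv_mul_cancel := by
    intro a
    ext i
    · simp [sub_eq_add_neg]
    · simp
    · simp [sub_eq_add_neg]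


instance [NeZero d] [NeZero p] : Finite (Aff p d) := by
  apply Finite.of_injective (fun g : Aff p d => (g.eps, g.k, g.t))
  intro g h hgh
  simp only [Prod.mk.injEq] at hgh
  exact Aff.ext hgh.1 hgh.2.1 hgh.2.2

/-- translation -/
def tr (t : ZMod d → ZMod p) : Aff p d := ⟨fun _ => 1, 0, t⟩
/-- linear part -/
def lin (e : ZMod d → (ZMod p)ˣ) (k : ZMod d) : Aff p d := ⟨e, k, fun _ => 0⟩

theorem eq_tr_mul_lin (g : Aff p d) : g = tr g.t * lin g.eps g.k := by
  ext i <;> simp [tr, lin]

theorem tr_add (s t : ZMod d → ZMod p) : tr (p := p) (d := d) s * tr t = tr (s + t) := by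
  ext i <;> simp [tr, add_comm]

theorem tr_zero : tr (p := p) (d := d) 0 = 1 := by
  ext i <;> simp [tr]

theorem tr_neg (t : ZMod d → ZMod p) : (tr (p := p) (d := d) t)⁻¹ = tr (-t) := by
  rw [inv_eq_iff_mul_eq_one, tr_add, add_neg_cancel, tr_zero]

theorem lin_mul_tr (e : ZMod d → (ZMod p)ˣ) (k : ZMod d) (t : ZMod d → ZMod p) :
    lin e k * tr t = tr (fun i => (e i : ZMod p) * t (i + k)) * lin e k := by
  ext i <;> simp [tr, lin]

theorem conj_tr (e : ZMod d → (ZMod p)ˣ) (k : ZMod d) (t : ZMod d → ZMod p) :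
    lin e k * tr t * (lin e k)⁻¹ = tr (fun i => (e i : ZMod p) * t (i + k)) := by
  rw [lin_mul_tr, mul_assoc, mul_inv_cancel, mul_one]

/-- the action on vectors -/
instance : MulAction (Aff p d) (ZMod d → ZMod p) where
  smul g v := fun i => (g.eps i : ZMod p) * v (i + g.k) + g.t i
  one_smul := by
    intro v
    funext i
    show ((1 : Aff p d).eps i : ZMod p) * v (i + (1 : Aff p d).k) + (1 : Aff p d).t i = v i
    simp
  mul_smul := by
    intro g h v
    funext i
    show ((g * h).eps i : ZMod p) * v (i + (g * h).k) + (g * h).t i =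
      (g.eps i : ZMod p) * ((h.eps (i + g.k) : ZMod p) * v (i + g.k + h.k) + h.t (i + g.k)) + g.t i
    simp only [mul_eps, mul_k, mul_t, Units.val_mul]
    rw [add_assoc]; ring

theorem smul_apply (g : Aff p d) (v : ZMod d → ZMod p) (i : ZMod d) :
    (g • v) i = (g.eps i : ZMod p) * v (i + g.k) + g.t i := rfl

instance : MulAction.IsPretransitive (Aff p d) (ZMod d → ZMod p) := by
  constructor
  intro v w
  refine ⟨tr (w - v), ?_⟩
  funext i
  rw [smul_apply]
  simp [tr]

theorem mem_stab_zero (g : Aff p d) :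
    g ∈ MulAction.stabilizer (Aff p d) (0 : ZMod d → ZMod p) ↔ g.t = 0 := by
  rw [MulAction.mem_stabilizer_iff]
  constructor
  · intro h
    funext i
    have := congrFun h i
    rw [smul_apply] at this
    simpa using this
  · intro h
    funext i
    rw [smul_apply, h]
    simp

theorem tr_mem_of_lt [Fact p.Prime] [NeZero d] (hp2 : p ≠ 2)
    (Y : Subgroup (Aff p d))
    (hY : MulAction.stabilizer (Aff p d) (0 : ZMod d → ZMod p) < Y) :
    ∀ t : ZMod d → ZMod p, tr t ∈ Y := by
  classical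
  have hM : ∀ e k, lin (p := p) (d := d) e k ∈ Y := by
    intro e k
    apply hY.le
    rw [mem_stab_zero]
    rfl
  -- the additive subgroup of translations in Y
  let T : AddSubgroup (ZMod d → ZMod p) :=
    { carrier := {t | tr t ∈ Y}
      zero_mem' := by
        show tr 0 ∈ Y
        rw [tr_zero]; exact Y.one_mem
      add_mem' := by
        intro a b ha hb
        show tr (a + b) ∈ Y
        rw [← tr_add]; exact Y.mul_mem ha hb
      neg_mem' := by
        intro a ha
        show tr (-a) ∈ Y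
        rw [← tr_neg]; exact Y.inv_mem ha }
  have hT : ∀ t, t ∈ T ↔ tr t ∈ Y := fun t => Iff.rfl
  have hconj : ∀ (e : ZMod d → (ZMod p)ˣ) (k : ZMod d) (t : ZMod d → ZMod p), t ∈ T →
      (fun i => (e i : ZMod p) * t (i + k)) ∈ T := by
    intro e k t ht
    rw [hT] at ht ⊢
    rw [← conj_tr]
    exact Y.mul_mem (Y.mul_mem (hM e k) ht) (Y.inv_mem (hM e k))
  -- a nonzero translation
  obtain ⟨g, hgY, hgM⟩ := SetLike.exists_of_lt hY
  rw [mem_stab_zero] at hgM
  have hgt : g.t ∈ T := by
    rw [hT]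
    have h1 : tr g.t = g * (lin g.eps g.k)⁻¹ :=
      eq_mul_inv_of_mul_eq (eq_tr_mul_lin g).symm
    rw [h1]
    exact Y.mul_mem hgY (Y.inv_mem (hM _ _))
  obtain ⟨j, hj⟩ : ∃ j, g.t j ≠ 0 := by
    by_contra hcon
    push Not at hcon
    exact hgM (funext hcon)
  -- single j (2 * g.t j)
  have h2 : (2 : ZMod p) ≠ 0 := by
    intro h
    have : ((2 : ℕ) : ZMod p) = 0 := by exact_mod_cast h
    rw [ZMod.natCast_eq_zero_iff] at this
    have hp : p.Prime := Fact.out
    have := (Nat.prime_dvd_prime_iff_eq hp Nat.prime_two).1 this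
    exact hp2 this
  have hs1 : Pi.single j (2 * g.t j) ∈ T := by
    have := hconj (fun i => if i = j then -1 else 1) 0 g.t hgt
    have h3 := T.sub_mem hgt this
    convert h3 using 1
    funext i
    by_cases hij : i = j
    · subst hij
      simp
      ring
    · simp [hij]
  set c := 2 * g.t j with hc
  have hc0 : c ≠ 0 := mul_ne_zero h2 hj
  have hs2 : ∀ a : ZMod p, Pi.single j a ∈ T := by
    intro a
    by_cases ha : a = 0
    · rw [ha, Pi.single_zero]; exact T.zero_mem
    have hu : a * c⁻¹ ≠ 0 := mul_ne_zero ha (inv_ne_zero hc0)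
    have := hconj (fun i => if i = j then Units.mk0 _ hu else 1) 0 _ hs1
    convert this using 1
    funext i
    by_cases hij : i = j
    · subst hij
      simp
      field_simp
    · simp [hij]
  have hs3 : ∀ (i : ZMod d) (a : ZMod p), Pi.single i a ∈ T := by
    intro i a
    have := hconj (fun _ => 1) (j - i) _ (hs2 a)
    convert this using 1
    funext l
    by_cases hli : l = i
    · subst hli
      simp
    · have : l + (j - l) = j := by ring
      have h4 : l + (j - i) ≠ j := by
        intro h5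
        apply hli
        linear_combination h5
      simp [hli, h4]
  intro t
  rw [← hT]
  letI : Fintype (ZMod d) := ZMod.fintype d
  have : t = ∑ i, Pi.single i (t i) := (Finset.univ_sum_single t).symm
  rw [this]
  exact T.sum_mem (fun i _ => hs3 i (t i))

theorem isCoatom_stab [Fact p.Prime] [NeZero d] (hp2 : p ≠ 2) :
    IsCoatom (MulAction.stabilizer (Aff p d) (0 : ZMod d → ZMod p)) := by
  constructor
  · intro h
    have hp : p.Prime := Fact.out
    have : tr (p := p) (d := d) (fun _ => 1) ∈ MulAction.stabilizer (Aff p d) (0 : ZMod d → ZMod p) := by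
      rw [h]; trivial
    rw [mem_stab_zero] at this
    have h1 := congrFun this 0
    simp [tr] at h1
  · intro Y hY
    rw [eq_top_iff]
    intro g _
    rw [eq_tr_mul_lin g]
    refine Y.mul_mem (tr_mem_of_lt hp2 Y hY _) (hY.le ?_)
    rw [mem_stab_zero]
    rfl

end Aff

theorem isCoatom_of_index_prime {G : Type*} [Group G] (H : Subgroup G) (h : H.index.Prime) :
    IsCoatom H := by
  constructor
  · intro hH
    rw [hH, Subgroup.index_top] at h
    exact Nat.not_prime_one h
  · intro Y hY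
    have h1 := Subgroup.relIndex_mul_index hY.le
    have h2 : Y.index ∣ H.index := Dvd.intro_left _ h1
    rcases (Nat.dvd_prime h).1 h2 with h3 | h3
    · exact Subgroup.index_eq_one.1 h3
    · exfalso
      rw [h3] at h1
      have h4 : H.relIndex Y = 1 := by
        have hpos := h.pos
        have : H.relIndex Y * H.index = 1 * H.index := by rw [h1, one_mul]
        exact Nat.eq_of_mul_eq_mul_right hpos this
      rw [Subgroup.relIndex_eq_one] at h4
      exact absurd h4 (not_le_of_gt hY)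

namespace Aff
variable {p d : ℕ}

/-- the shift part mod `r` -/
def psi (p : ℕ) {d r : ℕ} (hrd : r ∣ d) : Aff p d →* Multiplicative (ZMod r) where
  toFun g := Multiplicative.ofAdd (ZMod.castHom hrd (ZMod r) g.k)
  map_one' := by
    show Multiplicative.ofAdd (ZMod.castHom hrd (ZMod r) (0 : ZMod d)) = 1
    rw [map_zero]; rfl
  map_mul' := by
    intro g h
    show Multiplicative.ofAdd (ZMod.castHom hrd (ZMod r) (g.k + h.k)) = _
    rw [map_add]; rfl

theorem mem_ker_psi {r : ℕ} (hrd : r ∣ d) (g : Aff p d) :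
    g ∈ (psi p hrd).ker ↔ ZMod.castHom hrd (ZMod r) g.k = 0 := by
  rw [MonoidHom.mem_ker]
  exact Iff.rfl

theorem psi_lin_surj {r : ℕ} [NeZero d] (hrd : r ∣ d) (x : Multiplicative (ZMod r)) :
    ∃ k : ZMod d, psi p hrd (lin (fun _ => 1) k) = x := by
  obtain ⟨k, hk⟩ := ZMod.castHom_surjective hrd (Multiplicative.toAdd x)
  exact ⟨k, by show Multiplicative.ofAdd (ZMod.castHom hrd (ZMod r) k) = x; rw [hk]; rfl⟩

/-- the intermediate subgroup -/
def midX (p : ℕ) {d r : ℕ} (hrd : r ∣ d) : Subgroup (Aff p d) where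
  carrier := {g | ZMod.castHom hrd (ZMod r) g.k = 0 ∧
    ∀ i, ZMod.castHom hrd (ZMod r) i ≠ 0 → g.t i = 0}
  one_mem' := by
    refine ⟨map_zero _, fun i _ => rfl⟩
  mul_mem' := by
    rintro g h ⟨hg1, hg2⟩ ⟨hh1, hh2⟩
    refine ⟨?_, fun i hi => ?_⟩
    · show ZMod.castHom hrd (ZMod r) (g.k + h.k) = 0
      rw [map_add, hg1, hh1, add_zero]
    · rw [mul_t, hg2 i hi, hh2 (i + g.k), mul_zero, add_zero]
      rw [map_add, hg1, add_zero]
      exact hi
  inv_mem' := by
    rintro g ⟨hg1, hg2⟩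
    refine ⟨?_, fun i hi => ?_⟩
    · show ZMod.castHom hrd (ZMod r) (-g.k) = 0
      rw [map_neg, hg1, neg_zero]
    · rw [inv_t, hg2 (i - g.k), mul_zero]
      rw [map_sub, hg1, sub_zero]
      exact hi

end Aff

theorem result_odd (p d : ℕ) (hp : p.Prime) (hp2 : p ≠ 2) (hd : 2 ≤ d) :
    ∃ (G : Type) (_ : Group G) (_ : Finite G) (M H K : Subgroup G), IsCoatom M ∧ M.index = p ^ d ∧ H ≤ M ∧
      IsCoatom (H.subgroupOf M) ∧ IsCoatom K ∧ H ≤ K ∧ ¬ IsCoatom (H.subgroupOf K) := by
  classical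
  haveI : Fact p.Prime := ⟨hp⟩
  haveI : NeZero d := ⟨by omega⟩
  haveI : NeZero p := ⟨hp.ne_zero⟩
  obtain ⟨r, hr, hrd⟩ := Nat.exists_prime_and_dvd (show d ≠ 1 by omega)
  haveI : Fact r.Prime := ⟨hr⟩
  haveI : NeZero r := ⟨hr.ne_zero⟩
  set M : Subgroup (Aff p d) := MulAction.stabilizer (Aff p d) (0 : ZMod d → ZMod p) with hMdef
  set K : Subgroup (Aff p d) := (Aff.psi p hrd).ker with hKdef
  have hsurj : Function.Surjective (Aff.psi p (d := d) hrd) := by
    intro x
    obtain ⟨k, hk⟩ := Aff.psi_lin_surj (p := p) hrd x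
    exact ⟨_, hk⟩
  have hKidx : K.index = r := by
    rw [hKdef, Subgroup.index_ker, MonoidHom.range_eq_top.2 hsurj, Subgroup.card_top]
    show Nat.card (ZMod r) = r
    rw [Nat.card_zmod]
  have hKco : IsCoatom K := isCoatom_of_index_prime K (by rw [hKidx]; exact hr)
  have hMco : IsCoatom M := Aff.isCoatom_stab hp2
  have hMidx : M.index = p ^ d := by
    rw [hMdef, MulAction.index_stabilizer_of_transitive, Nat.card_fun, Nat.card_zmod, Nat.card_zmod]
  refine ⟨Aff p d, inferInstance, inferInstance, M, M ⊓ K, K, hMco, hMidx, inf_le_left, ?_, hKco,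
    inf_le_right, ?_⟩
  · -- index r in M
    rw [Subgroup.inf_subgroupOf_left]
    apply isCoatom_of_index_prime
    have h1 : K.subgroupOf M = ((Aff.psi p hrd).comp M.subtype).ker := by
      rw [hKdef, ← MonoidHom.comap_ker]
      rfl
    have hsurj2 : Function.Surjective ((Aff.psi p hrd).comp M.subtype) := by
      intro x
      obtain ⟨k, hk⟩ := Aff.psi_lin_surj (p := p) hrd x
      refine ⟨⟨Aff.lin (fun _ => 1) k, ?_⟩, hk⟩
      rw [hMdef, Aff.mem_stab_zero]
      rfl
    rw [h1, Subgroup.index_ker, MonoidHom.range_eq_top.2 hsurj2, Subgroup.card_top]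
    show (Nat.card (ZMod r)).Prime
    rw [Nat.card_zmod]
    exact hr
  · intro hco
    have hXK : Aff.midX p hrd ≤ K := by
      intro g hg
      rw [hKdef, Aff.mem_ker_psi]
      exact hg.1
    have hHX : M ⊓ K ≤ Aff.midX p hrd := by
      intro g hg
      refine ⟨(Aff.mem_ker_psi hrd g).1 hg.2, fun i _ => ?_⟩
      have := (Aff.mem_stab_zero g).1 hg.1
      rw [this]; rfl
    have h0K : Aff.tr (p := p) (d := d) (Pi.single 0 1) ∈ K := by
      rw [hKdef, Aff.mem_ker_psi]
      exact map_zero _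
    have h1K : Aff.tr (p := p) (d := d) (Pi.single 1 1) ∈ K := by
      rw [hKdef, Aff.mem_ker_psi]
      exact map_zero _
    have hlt : (M ⊓ K).subgroupOf K < (Aff.midX p hrd).subgroupOf K := by
      rw [SetLike.lt_iff_le_and_exists]
      refine ⟨fun x hx => ?_, ⟨⟨_, h0K⟩, ?_, ?_⟩⟩
      · rw [Subgroup.mem_subgroupOf] at hx ⊢
        exact hHX hx
      · rw [Subgroup.mem_subgroupOf]
        refine ⟨map_zero _, fun i hi => ?_⟩
        show (Pi.single (0 : ZMod d) (1 : ZMod p) : ZMod d → ZMod p) i = 0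
        have : i ≠ 0 := by
          rintro rfl
          exact hi (map_zero _)
        simp [this]
      · rw [Subgroup.mem_subgroupOf]
        intro h
        have := (Aff.mem_stab_zero _).1 h.1
        have h2 := congrFun this 0
        simp [Aff.tr] at h2
    have htop := hco.2 _ hlt
    have : (⟨_, h1K⟩ : K) ∈ (Aff.midX p hrd).subgroupOf K := by rw [htop]; trivial
    rw [Subgroup.mem_subgroupOf] at this
    have h3 := this.2 1 (by rw [map_one]; exact one_ne_zero)
    simp [Aff.tr] at h3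

theorem result (p d : ℕ) (hp : p.Prime)
    (hd : 2 ≤ d) :
    ∃ (G : Type) (_ : Group G) (_ : Finite G) (M H K : Subgroup G), IsCoatom M ∧ M.index = p ^ d ∧ H ≤ M ∧
      IsCoatom (H.subgroupOf M) ∧ IsCoatom K ∧ H ≤ K ∧ ¬ IsCoatom (H.subgroupOf K) := by
  by_cases hp2 : p = 2
  · subst hp2
    obtain ⟨M, H, K, h1, h2, h3, h4, h5, h6, h7⟩ :=
      Cfsg.Agent.S5894.result (2 ^ (d - 1)) (by
        calc 2 = 2 ^ 1 := by norm_num
          _ ≤ 2 ^ (d - 1) := Nat.pow_le_pow_right (by norm_num) (by omega))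
    refine ⟨Equiv.Perm (Fin (2 * 2 ^ (d - 1))), inferInstance, inferInstance, M, H, K, h1, ?_, h3, h4,
      h5, h6, h7⟩
    rw [h2, ← pow_succ']
    congr 1
    omega
  · exact result_odd p d hp hp2 hd

end Cfsg.Agent.S5895
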