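import Cfsg.Statements.S5896
import Cfsg.Agent.S4203
import Mathlib

set_option autoImplicit false
open Cfsg

namespace Cfsg.Agent.S5896

section Ext

variable (G : Type) [Group G] [Fintype G]

/-- translation action on functions -/
def tra {G : Type} [Group G] (g : G) (f : G → ZMod 3) : G → ZMod 3 := fun x => f (g⁻¹ * x)

theorem tra_apply {G : Type} [Group G] (g : G) (f : G → ZMod 3) (x : G) : tra g f x = f (g⁻¹ * x) := rfl

theorem tra_one {G : Type} [Group G] (f : G → ZMod 3) : tra (1 : G) f = f := by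
  funext x; simp [tra]

theorem tra_mul {G : Type} [Group G] (g h : G) (f : G → ZMod 3) : tra (g * h) f = tra g (tra h f) := by
  funext x; simp [tra, mul_assoc]

theorem tra_add {G : Type} [Group G] (g : G) (f f' : G → ZMod 3) : tra g (f + f') = tra g f + tra g f' := by
  funext x; simp [tra]

theorem tra_neg {G : Type} [Group G] (g : G) (f : G → ZMod 3) : tra g (-f) = - tra g f := by
  funext x; simp [tra]

theorem tra_sub {G : Type} [Group G] (g : G) (f f' : G → ZMod 3) : tra g (f - f') = tra g f - tra g f' := by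
  funext x; simp [tra]

theorem tra_zero {G : Type} [Group G] (g : G) : tra g (0 : G → ZMod 3) = 0 := by
  funext x; simp [tra]

theorem sum_tra {G : Type} [Group G] [Fintype G] (g : G) (f : G → ZMod 3) : ∑ x, tra g f x = ∑ x, f x := by
  exact Fintype.sum_equiv (Equiv.mulLeft g⁻¹) _ _ (fun x => rfl)

/-- the split extension of the augmentation-zero functions by `G` -/
@[ext] structure Ext where
  v : G → ZMod 3
  hv : ∑ x, v x = 0
  g : G

variable {G}

instance : Mul (Ext G) :=
  ⟨fun a b => ⟨a.v + tra a.g b.v, by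
    rw [Finset.sum_congr rfl (fun x _ => Pi.add_apply a.v (tra a.g b.v) x), Finset.sum_add_distrib,
      a.hv, sum_tra, b.hv, add_zero], a.g * b.g⟩⟩

instance : One (Ext G) := ⟨⟨0, by simp, 1⟩⟩

instance : Inv (Ext G) :=
  ⟨fun a => ⟨- tra a.g⁻¹ a.v, by
    rw [Finset.sum_congr rfl (fun x _ => Pi.neg_apply (tra a.g⁻¹ a.v) x), Finset.sum_neg_distrib,
      sum_tra, a.hv, neg_zero], a.g⁻¹⟩⟩

@[simp] theorem mul_v (a b : Ext G) : (a * b).v = a.v + tra a.g b.v := rfl
@[simp] theorem mul_g (a b : Ext G) : (a * b).g = a.g * b.g := rfl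
@[simp] theorem one_v : (1 : Ext G).v = 0 := rfl
@[simp] theorem one_g : (1 : Ext G).g = 1 := rfl
@[simp] theorem inv_v (a : Ext G) : (a⁻¹).v = - tra a.g⁻¹ a.v := rfl
@[simp] theorem inv_g (a : Ext G) : (a⁻¹).g = a.g⁻¹ := rfl

instance : Group (Ext G) where
  mul_assoc := by
    intro a b c
    ext1
    · simp only [mul_v, mul_g, tra_add, tra_mul, add_assoc]
    · simp only [mul_g, mul_assoc]
  one_mul := by
    intro a
    ext1
    · simp [tra_one]
    · simp
  mul_one := by
    intro a
    ext1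
    · simp [tra_zero]
    · simp
  inv_mul_cancel := by
    intro a
    ext1
    · simp
    · simp

instance : Finite (Ext G) := by
  apply Finite.of_injective (fun a : Ext G => (a.v, a.g))
  intro a b hab
  simp only [Prod.mk.injEq] at hab
  exact Ext.ext hab.1 hab.2

/-- projection -/
def proj : Ext G →* G where
  toFun a := a.g
  map_one' := rfl
  map_mul' _ _ := rfl

/-- the section -/
def sec : G →* Ext G where
  toFun g := ⟨0, by simp, g⟩
  map_one' := rfl
  map_mul' a b := by
    ext1
    · simp [tra_zero]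
    · rfl

/-- the normal subgroup -/
def nv (v : G → ZMod 3) (hv : ∑ x, v x = 0) : Ext G := ⟨v, hv, 1⟩

theorem proj_surjective : Function.Surjective (proj : Ext G →* G) := fun g => ⟨sec g, rfl⟩

theorem eq_nv_mul_sec (a : Ext G) : a = nv a.v a.hv * sec a.g := by
  ext1
  · simp [nv, sec, tra_zero]
  · simp [nv, sec]

theorem sec_comm_nv (g : G) (v : G → ZMod 3) (hv : ∑ x, v x = 0) :
    sec g * nv v hv * (sec g)⁻¹ * (nv v hv)⁻¹ =
      nv (tra g v - v) (by
        rw [Finset.sum_congr rfl (fun x _ => Pi.sub_apply (tra g v) v x), Finset.sum_sub_distrib,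
          sum_tra, hv, sub_zero]) := by
  ext1
  · simp [nv, sec, tra_zero, tra_one, sub_eq_add_neg]
  · simp [nv, sec]

theorem conj_nv (a : Ext G) (v : G → ZMod 3) (hv : ∑ x, v x = 0) :
    a * nv v hv * a⁻¹ * (nv v hv)⁻¹ =
      nv (tra a.g v - v) (by
        rw [Finset.sum_congr rfl (fun x _ => Pi.sub_apply (tra a.g v) v x), Finset.sum_sub_distrib,
          sum_tra, hv, sub_zero]) := by
  ext1
  · simp only [mul_v, mul_g, inv_v, inv_g, nv, tra_one, tra_neg, tra_add, inv_one, mul_one,
      ← tra_mul, mul_inv_cancel]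
    abel
  · simp [nv]

end Ext

theorem isCoatom_comap {G' G : Type*} [Group G'] [Group G] (π : G' →* G)
    (hπ : Function.Surjective π) (H : Subgroup G) (hH : IsCoatom H) : IsCoatom (H.comap π) := by
  constructor
  · intro h
    apply hH.1
    rw [eq_top_iff]
    intro x _
    obtain ⟨a, rfl⟩ := hπ x
    have : a ∈ H.comap π := by rw [h]; trivial
    exact this
  · intro Y hY
    have h1 : H ≤ Y.map π := by
      intro h hh
      obtain ⟨a, rfl⟩ := hπ h
      exact ⟨a, hY.le hh, rfl⟩
    have h2 : H ≠ Y.map π := by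
      intro h
      apply not_le_of_gt hY
      intro y hy
      show π y ∈ H
      rw [h]
      exact ⟨y, hy, rfl⟩
    have h3 : Y.map π = ⊤ := hH.2 _ (lt_of_le_of_ne h1 h2)
    rw [eq_top_iff]
    intro a _
    have : π a ∈ Y.map π := by rw [h3]; trivial
    obtain ⟨y, hy, hya⟩ := this
    have h4 : y⁻¹ * a ∈ H.comap π := by
      show π (y⁻¹ * a) ∈ H
      rw [map_mul, map_inv, hya, inv_mul_cancel]
      exact H.one_mem
    have : a = y * (y⁻¹ * a) := by group
    rw [this]
    exact Y.mul_mem hy (hY.le h4)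

section Perfect

variable {G : Type} [Group G] [Fintype G] [DecidableEq G]

theorem nv_add (v w : G → ZMod 3) (hv : ∑ x, v x = 0) (hw : ∑ x, w x = 0)
    (hvw : ∑ x, (v + w) x = 0) : nv (v + w) hvw = nv v hv * nv w hw := by
  ext1
  · simp [nv, tra_one]
  · simp [nv]

theorem nv_zero (h : ∑ x, (0 : G → ZMod 3) x = 0) : nv (0 : G → ZMod 3) h = 1 := by
  ext1 <;> simp [nv]

theorem nv_neg (v : G → ZMod 3) (hv : ∑ x, v x = 0) (hv' : ∑ x, (-v) x = 0) :
    nv (-v) hv' = (nv v hv)⁻¹ := by
  ext1
  · simp [nv, tra_one]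
  · simp [nv]

theorem sum_add_zero (v w : G → ZMod 3) (hv : ∑ x, v x = 0) (hw : ∑ x, w x = 0) :
    ∑ x, (v + w) x = 0 := by
  rw [Finset.sum_congr rfl (fun x _ => Pi.add_apply v w x), Finset.sum_add_distrib, hv, hw, add_zero]

theorem sum_neg_zero (v : G → ZMod 3) (hv : ∑ x, v x = 0) : ∑ x, (-v) x = 0 := by
  rw [Finset.sum_congr rfl (fun x _ => Pi.neg_apply v x), Finset.sum_neg_distrib, hv, neg_zero]

theorem sum_tra_sub (g : G) (v : G → ZMod 3) (hv : ∑ x, v x = 0) : ∑ x, (tra g v - v) x = 0 := by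
  rw [Finset.sum_congr rfl (fun x _ => Pi.sub_apply (tra g v) v x), Finset.sum_sub_distrib,
    sum_tra, hv, sub_zero]

/-- the set of `v` with `nv v` in a given subgroup, as an additive subgroup -/
def dsub (K : Subgroup (Ext G)) : AddSubgroup (G → ZMod 3) where
  carrier := {v | ∃ hv : ∑ x, v x = 0, nv v hv ∈ K}
  zero_mem' := ⟨by simp, by rw [nv_zero]; exact K.one_mem⟩
  add_mem' := by
    rintro v w ⟨hv, hv'⟩ ⟨hw, hw'⟩
    refine ⟨sum_add_zero v w hv hw, ?_⟩
    rw [nv_add v w hv hw]
    exact K.mul_mem hv' hw'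
  neg_mem' := by
    rintro v ⟨hv, hv'⟩
    refine ⟨sum_neg_zero v hv, ?_⟩
    rw [nv_neg v hv]
    exact K.inv_mem hv'

theorem tra_single (x y : G) : tra x (Pi.single y (1 : ZMod 3)) = Pi.single (x * y) 1 := by
  funext z
  rw [tra_apply]
  by_cases h : z = x * y
  · subst h
    simp
  · have : x⁻¹ * z ≠ y := by
      intro h'
      apply h
      rw [← h']
      group
    simp [h, this]

theorem sum_single_sub (x y : G) :
    ∑ z, ((Pi.single x (1 : ZMod 3) : G → ZMod 3) - (Pi.single y (1 : ZMod 3) : G → ZMod 3)) z = 0 := by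
  rw [Finset.sum_congr rfl (fun z _ => Pi.sub_apply _ _ z), Finset.sum_sub_distrib]
  simp

theorem perfect_ext (hG : commutator G = ⊤) : commutator (Ext G) = ⊤ := by
  classical
  set K := commutator (Ext G) with hK
  set D := dsub K with hD
  -- commutators with the section
  have hcomm : ∀ (g : G) (v : G → ZMod 3), ∑ x, v x = 0 → tra g v - v ∈ D := by
    intro g v hv
    refine ⟨sum_tra_sub g v hv, ?_⟩
    rw [← sec_comm_nv g v hv, hK, commutator_def]
    have := Subgroup.commutator_mem_commutator (Subgroup.mem_top (sec g)) (Subgroup.mem_top (nv v hv))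
    rwa [commutatorElement_def] at this
  -- the homomorphism to the quotient
  let ψ : G →* Multiplicative ((G → ZMod 3) ⧸ D) :=
    { toFun := fun x => Multiplicative.ofAdd
        (QuotientAddGroup.mk ((Pi.single x (1 : ZMod 3) : G → ZMod 3) - Pi.single 1 1))
      map_one' := by
        rw [sub_self]
        rfl
      map_mul' := by
        intro x y
        rw [← ofAdd_add, ← QuotientAddGroup.mk_add]
        congr 1
        rw [QuotientAddGroup.eq]
        have h1 := hcomm x _ (sum_single_sub y 1)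
        rw [tra_sub, tra_single, tra_single, mul_one] at h1
        have : -((Pi.single (x * y) (1 : ZMod 3) : G → ZMod 3) - Pi.single 1 1) +
            ((Pi.single x (1 : ZMod 3) : G → ZMod 3) - Pi.single 1 1 +
              ((Pi.single y (1 : ZMod 3) : G → ZMod 3) - Pi.single 1 1)) =
            -((Pi.single (x * y) (1 : ZMod 3) : G → ZMod 3) - Pi.single x 1 -
              ((Pi.single y (1 : ZMod 3) : G → ZMod 3) - Pi.single 1 1)) := by abel
        rw [this]
        exact D.neg_mem h1 }
  have hψ : ∀ x : G, (Pi.single x (1 : ZMod 3) : G → ZMod 3) - Pi.single 1 1 ∈ D := by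
    intro x
    have h1 : x ∈ ψ.ker := by
      apply Abelianization.commutator_subset_ker ψ
      rw [hG]; trivial
    rw [MonoidHom.mem_ker] at h1
    have h2 : (QuotientAddGroup.mk ((Pi.single x (1 : ZMod 3) : G → ZMod 3) - Pi.single 1 1) :
        (G → ZMod 3) ⧸ D) = 0 := h1
    exact (QuotientAddGroup.eq_zero_iff _).1 h2
  -- every augmentation-zero function is in D
  have hall : ∀ v : G → ZMod 3, ∑ x, v x = 0 → v ∈ D := by
    intro v hv
    have h1 : v = ∑ x, (v x).val • ((Pi.single x (1 : ZMod 3) : G → ZMod 3) - Pi.single 1 1) := by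
      funext z
      rw [Finset.sum_apply]
      simp only [Pi.smul_apply, Pi.sub_apply, nsmul_eq_mul, ZMod.natCast_val, ZMod.cast_id', id_eq,
        mul_sub]
      rw [Finset.sum_sub_distrib, ← Finset.sum_mul, hv, zero_mul, sub_zero]
      simp [Pi.single_apply]
    rw [h1]
    exact D.sum_mem (fun x _ => D.nsmul_mem (hψ x) _)
  rw [eq_top_iff]
  intro a _
  rw [eq_nv_mul_sec a]
  refine Subgroup.mul_mem _ ?_ ?_
  · obtain ⟨_, h⟩ := hall a.v a.hv
    exact h
  · have h1 : sec a.g ∈ (commutator G).map (sec : G →* Ext G) := by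
      rw [hG]
      exact ⟨a.g, Subgroup.mem_top _, rfl⟩
    rw [commutator_def, Subgroup.map_commutator] at h1
    rw [hK, commutator_def]
    exact Subgroup.commutator_mono le_top le_top h1

end Perfect

section Step

open scoped commutatorElement

variable {G : Type} [Group G] [Fintype G] [DecidableEq G]

theorem nv_mem_comap (H : Subgroup G) (v : G → ZMod 3) (hv : ∑ x, v x = 0) :
    nv v hv ∈ H.comap (proj : Ext G →* G) := by
  show (1 : G) ∈ H
  exact H.one_mem

theorem solvable_comap (H : Subgroup G) (hH : Group.IsSolvable H) :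
    Group.IsSolvable (H.comap (proj : Ext G →* G)) := by
  have hker : (proj : Ext G →* G).ker ≤ H.comap (proj : Ext G →* G) := by
    intro a ha
    show a.g ∈ H
    have : a.g = 1 := ha
    rw [this]
    exact H.one_mem
  haveI : Group.IsSolvable (proj : Ext G →* G).ker := by
    apply isSolvable_of_comm
    rintro ⟨a, ha⟩ ⟨b, hb⟩
    apply Subtype.ext
    have ha' : a.g = 1 := ha
    have hb' : b.g = 1 := hb
    show a * b = b * a
    ext1
    · simp [ha', hb', tra_one, add_comm]
    · simp [ha', hb']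
  haveI := hH
  apply Group.isSolvable_of_ker_le_range (Subgroup.inclusion hker)
    ((proj : Ext G →* G).subgroupComap H)
  rintro ⟨a, ha⟩ hx
  have h1 : a.g = 1 := by
    have := congrArg Subtype.val (MonoidHom.mem_ker.1 hx)
    exact this
  exact ⟨⟨a, h1⟩, rfl⟩

theorem derived_step (H : Subgroup G) (hcard : 4 ≤ Fintype.card G) (d : ℕ)
    (hd : derivedSeries H d ≠ ⊥) :
    derivedSeries (H.comap (proj : Ext G →* G)) (d + 1) ≠ ⊥ := by
  classical
  intro hbot
  obtain ⟨⟨x, hx⟩, hx1⟩ := Subgroup.ne_bot_iff_exists_ne_one.1 hd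
  have hsurj : Function.Surjective ((proj : Ext G →* G).subgroupComap H) :=
    MonoidHom.subgroupComap_surjective_of_surjective _ _ proj_surjective
  have hmap := map_derivedSeries_eq hsurj d
  rw [← hmap] at hx
  obtain ⟨y, hy, hyx⟩ := hx
  have hx1' : (x : G) ≠ 1 := by
    intro h
    apply hx1
    apply Subtype.ext
    apply Subtype.ext
    exact h
  have hyg : (y : Ext G).g = (x : G) := congrArg Subtype.val hyx
  set x₀ : G := (x : G) with hx₀
  have hnorm := derivedSeries_normal (G := H.comap (proj : Ext G →* G)) d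
  -- first commutator
  have claim1 : ∀ (v : G → ZMod 3) (hv : ∑ z, v z = 0),
      (⟨nv (tra x₀ v - v) (sum_tra_sub x₀ v hv), nv_mem_comap H _ _⟩ :
        H.comap (proj : Ext G →* G)) ∈ derivedSeries (H.comap (proj : Ext G →* G)) d := by
    intro v hv
    have e : (⟨nv (tra x₀ v - v) (sum_tra_sub x₀ v hv), nv_mem_comap H _ _⟩ :
        H.comap (proj : Ext G →* G)) =
        y * (⟨nv v hv, nv_mem_comap H v hv⟩ * y⁻¹ * (⟨nv v hv, nv_mem_comap H v hv⟩)⁻¹) := by
      apply Subtype.ext
      have := conj_nv (y : Ext G) v hv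
      simp only [hyg] at this
      show nv (tra x₀ v - v) (sum_tra_sub x₀ v hv) =
        (y : Ext G) * (nv v hv * (y : Ext G)⁻¹ * (nv v hv)⁻¹)
      rw [← this]
      simp only [mul_assoc]
    rw [e]
    exact Subgroup.mul_mem _ hy (hnorm.conj_mem _ (Subgroup.inv_mem _ hy) _)
  -- second commutator
  have claim2 : ∀ (v : G → ZMod 3) (hv : ∑ z, v z = 0),
      tra x₀ (tra x₀ v - v) - (tra x₀ v - v) = 0 := by
    intro v hv
    have hw := sum_tra_sub x₀ v hv
    have h1 := claim1 v hv
    have h2 : ⁅y, (⟨nv (tra x₀ v - v) hw, nv_mem_comap H _ _⟩ : H.comap (proj : Ext G →* G))⁆ ∈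
        derivedSeries (H.comap (proj : Ext G →* G)) (d + 1) :=
      Subgroup.commutator_mem_commutator hy h1
    rw [hbot, Subgroup.mem_bot, commutatorElement_def] at h2
    have h3 := congrArg Subtype.val h2
    have h4 := conj_nv (y : Ext G) (tra x₀ v - v) hw
    simp only [hyg] at h4
    have h5 : ((y * (⟨nv (tra x₀ v - v) hw, nv_mem_comap H _ _⟩ : H.comap (proj : Ext G →* G)) *
        y⁻¹ * (⟨nv (tra x₀ v - v) hw, nv_mem_comap H _ _⟩ : H.comap (proj : Ext G →* G))⁻¹ :
        H.comap (proj : Ext G →* G)) : Ext G) =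
        (y : Ext G) * nv (tra x₀ v - v) hw * (y : Ext G)⁻¹ * (nv (tra x₀ v - v) hw)⁻¹ := rfl
    rw [h5, h4] at h3
    exact congrArg Ext.v h3
  -- choose a point
  obtain ⟨a, ha⟩ : ∃ a : G, a ∉ ({1, x₀⁻¹, x₀⁻¹ * x₀⁻¹} : Finset G) := by
    by_contra hcon
    push Not at hcon
    have : (Finset.univ : Finset G) ⊆ {1, x₀⁻¹, x₀⁻¹ * x₀⁻¹} := fun a _ => hcon a
    have h1 := Finset.card_le_card this
    rw [Finset.card_univ] at h1
    have h2 : ({1, x₀⁻¹, x₀⁻¹ * x₀⁻¹} : Finset G).card ≤ 3 := Finset.card_le_three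
    omega
  simp only [Finset.mem_insert, Finset.mem_singleton, not_or] at ha
  obtain ⟨ha1, ha2, ha3⟩ := ha
  have h := claim2 ((Pi.single 1 (1 : ZMod 3) : G → ZMod 3) - Pi.single a 1) (sum_single_sub 1 a)
  have h' := congrFun h 1
  simp only [Pi.sub_apply, tra_apply, Pi.zero_apply, mul_one] at h'
  have hx0inv : x₀⁻¹ ≠ 1 := by
    intro h0
    exact hx1' (inv_eq_one.1 h0)
  have e1 : (Pi.single (1 : G) (1 : ZMod 3) : G → ZMod 3) 1 = 1 := by simp
  have e2 : (Pi.single a (1 : ZMod 3) : G → ZMod 3) 1 = 0 := by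
    rw [Pi.single_apply, if_neg (Ne.symm ha1)]
  have e3 : (Pi.single (1 : G) (1 : ZMod 3) : G → ZMod 3) x₀⁻¹ = 0 := by
    rw [Pi.single_apply, if_neg hx0inv]
  have e4 : (Pi.single a (1 : ZMod 3) : G → ZMod 3) x₀⁻¹ = 0 := by
    rw [Pi.single_apply, if_neg (Ne.symm ha2)]
  have e5 : (Pi.single a (1 : ZMod 3) : G → ZMod 3) (x₀⁻¹ * x₀⁻¹) = 0 := by
    rw [Pi.single_apply, if_neg (Ne.symm ha3)]
  rw [e1, e2, e3, e4, e5] at h'
  by_cases hsq : x₀⁻¹ * x₀⁻¹ = 1
  · rw [hsq, e1] at h'
    revert h'
    decide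
  · have e6 : (Pi.single (1 : G) (1 : ZMod 3) : G → ZMod 3) (x₀⁻¹ * x₀⁻¹) = 0 := by
      rw [Pi.single_apply, if_neg hsq]
    rw [e6] at h'
    revert h'
    decide

end Step

theorem solvable_of_card_twelve {K : Type*} [Group K] [Finite K] (h : Nat.card K = 12) :
    Group.IsSolvable K := by
  apply Cfsg.Agent.S4203.result
  intro M hM
  have hdiv : M.index ∣ 12 := h ▸ M.index_dvd_card
  have hne1 : M.index ≠ 1 := fun h1 => hM.1 (Subgroup.index_eq_one.1 h1)
  have hmul := M.card_mul_index
  rw [h] at hmul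
  have key : ∀ n, Nat.card M = 2 ^ n → 2 ^ (n + 1) ∣ 12 → False := by
    intro n hn hdvd
    haveI : Fact (Nat.Prime 2) := ⟨Nat.prime_two⟩
    obtain ⟨K', hK', hMK'⟩ := Sylow.exists_subgroup_card_pow_succ (h ▸ hdvd) hn
    have hlt : M < K' := by
      refine lt_of_le_of_ne hMK' ?_
      intro e
      rw [e, hK'] at hn
      have : 2 ^ n < 2 ^ (n + 1) := Nat.pow_lt_pow_right (by norm_num) (by omega)
      omega
    have htop := hM.2 K' hlt
    rw [htop, Subgroup.card_top, h] at hK'
    have hle : n + 1 ≤ 3 := by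
      by_contra hcon
      push Not at hcon
      have : 2 ^ 4 ≤ 2 ^ (n + 1) := Nat.pow_le_pow_right (by norm_num) (by omega)
      omega
    have hn3 : n ≤ 2 := by omega
    interval_cases n <;> omega
  have hle : M.index ≤ 12 := Nat.le_of_dvd (by norm_num) hdiv
  have hpos : 0 < M.index := Nat.pos_of_ne_zero (fun h0 => by rw [h0] at hdiv; omega)
  interval_cases hidx : M.index
  · exact absurd rfl hne1
  · exact ⟨2, Nat.prime_two, Or.inl rfl⟩
  · exact ⟨3, Nat.prime_three, Or.inl rfl⟩
  · exact ⟨2, Nat.prime_two, Or.inr rfl⟩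
  · omega
  · exfalso
    exact key 1 (by omega) (by norm_num)
  · omega
  · omega
  · omega
  · omega
  · omega
  · exfalso
    exact key 0 (by omega) (by norm_num)

theorem base : ∃ (G : Type) (_ : Group G) (_ : Finite G) (H : Subgroup G), commutator G = ⊤ ∧
    IsCoatom H ∧ Group.IsSolvable H ∧ derivedSeries H 0 ≠ ⊥ := by
  classical
  have h5 : Nat.card (Fin 5) = 5 := by simp
  haveI : MulAction.IsPreprimitive (alternatingGroup (Fin 5)) (Fin 5) :=
    alternatingGroup.isPreprimitive_of_three_le_card (Fin 5) (by rw [h5]; norm_num)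
  have hidx : (MulAction.stabilizer (alternatingGroup (Fin 5)) (4 : Fin 5)).index = 5 := by
    rw [MulAction.index_stabilizer_of_transitive, h5]
  have hcardG : Nat.card (alternatingGroup (Fin 5)) = 60 := by
    have := two_mul_nat_card_alternatingGroup (α := Fin 5)
    rw [Nat.card_perm, h5] at this
    have h120 : Nat.factorial 5 = 120 := by decide
    omega
  have hcardH : Nat.card (MulAction.stabilizer (alternatingGroup (Fin 5)) (4 : Fin 5)) = 12 := by
    have := (MulAction.stabilizer (alternatingGroup (Fin 5)) (4 : Fin 5)).card_mul_index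
    rw [hidx, hcardG] at this
    omega
  refine ⟨alternatingGroup (Fin 5), inferInstance, inferInstance,
    MulAction.stabilizer (alternatingGroup (Fin 5)) (4 : Fin 5),
    commutator_alternatingGroup_eq_top (by rw [h5]),
    MulAction.IsPreprimitive.isCoatom_stabilizer_of_isPreprimitive _ _,
    solvable_of_card_twelve hcardH, ?_⟩
  rw [derivedSeries_zero]
  haveI : Nontrivial (MulAction.stabilizer (alternatingGroup (Fin 5)) (4 : Fin 5)) := by
    rw [← Finite.one_lt_card_iff_nontrivial, hcardH]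
    norm_num
  exact top_ne_bot

theorem result (d : ℕ) :
    ∃ (G : Type) (_ : Group G) (_ : Finite G) (H : Subgroup G), commutator G = ⊤ ∧ IsCoatom H ∧ Group.IsSolvable H ∧
      derivedSeries H d ≠ ⊥ := by
  classical
  induction d with
  | zero => exact base
  | succ d ih =>
    obtain ⟨G, hGrp, hFin, H, hperf, hco, hsol, hder⟩ := ih
    letI : Fintype G := Fintype.ofFinite G
    -- |G| ≥ 4
    have hcard : 4 ≤ Fintype.card G := by
      have h1 := H.card_mul_index
      rw [Nat.card_eq_fintype_card (α := G)] at h1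
      have h2 : 2 ≤ Nat.card H := by
        obtain ⟨a, ha⟩ := Subgroup.ne_bot_iff_exists_ne_one.1 hder
        haveI : Nontrivial H := ⟨⟨(a : H), 1, fun h => ha (Subtype.ext h)⟩⟩
        exact Finite.one_lt_card
      have h3 : 2 ≤ H.index := by
        have h0 : H.index ≠ 0 := Subgroup.index_ne_zero_of_finite
        have h1' : H.index ≠ 1 := fun h => hco.1 (Subgroup.index_eq_one.1 h)
        omega
      calc 4 = 2 * 2 := by norm_num
        _ ≤ Nat.card H * H.index := Nat.mul_le_mul h2 h3
        _ = Fintype.card G := h1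
    refine ⟨Ext G, inferInstance, inferInstance, H.comap (proj : Ext G →* G), perfect_ext hperf,
      isCoatom_comap _ proj_surjective H hco, solvable_comap H hsol, derived_step H hcard d hder⟩

end Cfsg.Agent.S5896



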