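import Cfsg.Statements.S5902
import Cfsg.Agent.S5901

set_option autoImplicit false
open Cfsg

namespace Cfsg.Agent.S5902

theorem interval_of_complemented {G : Type*} [Group G] (X : Subgroup G)
    (hK : ComplementedLattice (Subgroup X)) :
    ∀ Y : Subgroup G, ⊥ ≤ Y → Y ≤ X → ∃ C : Subgroup G, ⊥ ≤ C ∧ C ≤ X ∧ Y ⊔ C = X ∧ Y ⊓ C = ⊥ := by
  intro Y _ hYX
  obtain ⟨C', hC'⟩ := hK.exists_isCompl (Y.subgroupOf X)
  refine ⟨C'.map X.subtype, bot_le, Subgroup.map_subtype_le C', ?_, ?_⟩
  · have h1 : (Y.subgroupOf X).map X.subtype = Y := Subgroup.map_subgroupOf_eq_of_le hYX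
    rw [← h1, ← Subgroup.map_sup, hC'.sup_eq_top, ← MonoidHom.range_eq_map, Subgroup.range_subtype]
  · have h1 : (Y.subgroupOf X).map X.subtype = Y := Subgroup.map_subgroupOf_eq_of_le hYX
    rw [← h1, ← Subgroup.map_inf _ _ _ (Subgroup.subtype_injective X), hC'.inf_eq_bot, Subgroup.map_bot]

theorem part_a {G : Type*} [Group G] [Finite G] (X M : Subgroup G)
    (hK : ComplementedLattice (Subgroup X))
    (hM : IsCoatom M) (hXM : X ≤ M) (huniq : ∀ M' : Subgroup G, IsCoatom M' → X ≤ M' → M' = M) :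
    (∀ H : Subgroup G, ¬ H ≤ M.normalCore → ∃ C : Subgroup G, H ⊔ C = ⊤ ∧ H ⊓ C = ⊥) := by
  intro H hH
  rw [SetLike.not_le_iff_exists] at hH
  obtain ⟨a, haH, haN⟩ := hH
  have : ∃ b : G, b * a * b⁻¹ ∉ M := by
    by_contra hcon
    push Not at hcon
    exact haN hcon
  obtain ⟨b, hb⟩ := this
  have hXtop : X ≠ ⊤ := by
    rintro rfl
    exact hM.1 (top_le_iff.mp hXM)
  have hH' : ¬ H.map (MulAut.conj b).toMonoidHom ≤ M := by
    intro hle
    apply hb
    apply hle
    exact ⟨a, haH, by simp [MulAut.conj_apply]⟩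
  have hinj : Function.Injective (MulAut.conj b).toMonoidHom := (MulAut.conj b).injective
  have hinj' : Function.Injective (MulAut.conj b⁻¹).toMonoidHom := (MulAut.conj b⁻¹).injective
  have hHT : H.map (MulAut.conj b).toMonoidHom ⊓ ⊥ = ⊥ := inf_bot_eq _
  obtain ⟨C', hC1, hC2⟩ := Cfsg.Agent.S5901.result ⊥ X M bot_le hXtop (interval_of_complemented X hK)
    hM hXM huniq _ hH' hHT
  have hback : (H.map (MulAut.conj b).toMonoidHom).map (MulAut.conj b⁻¹).toMonoidHom = H := by
    rw [Subgroup.map_map]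
    have : (MulAut.conj b⁻¹).toMonoidHom.comp (MulAut.conj b).toMonoidHom = MonoidHom.id G := by
      ext x; simp [MulAut.conj_apply, mul_assoc]
    rw [this, Subgroup.map_id]
  refine ⟨C'.map (MulAut.conj b⁻¹).toMonoidHom, ?_, ?_⟩
  · rw [← hback, ← Subgroup.map_sup, hC1]
    exact Subgroup.map_top_of_surjective _ (MulAut.conj b⁻¹).surjective
  · rw [← hback, ← Subgroup.map_inf _ _ _ hinj', hC2, Subgroup.map_bot]

/-- Let G be a finite group and X ≤ G a subgroup whose subgroup lattice is complemented, lying in a unique maximal subgroup M of G. Then every subgroup H not contained in the core of M has a lattice complement in G; consequently the quotient of G by the core of M has a complemented subgroup lattice. -/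
theorem result {G : Type*} [Group G] [Finite G] (X M : Subgroup G)
    (hK : ComplementedLattice (Subgroup X))
    (hM : IsCoatom M) (hXM : X ≤ M) (huniq : ∀ M' : Subgroup G, IsCoatom M' → X ≤ M' → M' = M) :
    (∀ H : Subgroup G, ¬ H ≤ M.normalCore → ∃ C : Subgroup G, H ⊔ C = ⊤ ∧ H ⊓ C = ⊥) ∧
    ComplementedLattice (Subgroup (G ⧸ M.normalCore)) := by
  have ha := part_a X M hK hM hXM huniq
  refine ⟨ha, ⟨fun Hbar => ?_⟩⟩
  set N := M.normalCore with hN
  have hsurj : Function.Surjective (QuotientGroup.mk' N) := QuotientGroup.mk'_surjective N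
  by_cases hle : Hbar.comap (QuotientGroup.mk' N) ≤ N
  · refine ⟨⊤, ?_⟩
    have : Hbar = ⊥ := by
      rw [← Subgroup.map_comap_eq_self_of_surjective hsurj Hbar, eq_bot_iff]
      calc (Hbar.comap (QuotientGroup.mk' N)).map (QuotientGroup.mk' N) ≤ N.map (QuotientGroup.mk' N) :=
            Subgroup.map_mono hle
        _ = ⊥ := by rw [QuotientGroup.map_mk'_self]
    rw [this]
    exact isCompl_bot_top
  · obtain ⟨C, hC1, hC2⟩ := ha _ hle
    refine ⟨C.map (QuotientGroup.mk' N), ?_⟩
    rw [isCompl_iff, disjoint_iff, codisjoint_iff]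
    constructor
    · rw [eq_bot_iff]
      rintro x ⟨hx1, ⟨c, hc, rfl⟩⟩
      have hcH : c ∈ Hbar.comap (QuotientGroup.mk' N) := hx1
      have : c ∈ Hbar.comap (QuotientGroup.mk' N) ⊓ C := ⟨hcH, hc⟩
      rw [hC2, Subgroup.mem_bot] at this
      rw [this, map_one]
      exact Subgroup.one_mem _
    · rw [← Subgroup.map_comap_eq_self_of_surjective hsurj Hbar, ← Subgroup.map_sup, hC1]
      exact Subgroup.map_top_of_surjective _ hsurj

end Cfsg.Agent.S5902
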