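import Cfsg.Statements.S5903
import Cfsg.Agent.S5901

set_option autoImplicit false
open Cfsg

namespace Cfsg.Agent.S5903

theorem interval_of_quotient {G : Type*} [Group G] (X N : Subgroup G) (hNX : N ≤ X)
    [(N.subgroupOf X).Normal] (hK : ComplementedLattice (Subgroup (X ⧸ N.subgroupOf X))) :
    ∀ Y : Subgroup G, N ≤ Y → Y ≤ X → ∃ C : Subgroup G, N ≤ C ∧ C ≤ X ∧ Y ⊔ C = X ∧ Y ⊓ C = N := by
  intro Y hNY hYX
  set π := QuotientGroup.mk' (N.subgroupOf X) with hπ
  have hsurj : Function.Surjective π := QuotientGroup.mk'_surjective _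
  have hker : π.ker = N.subgroupOf X := QuotientGroup.ker_mk' _
  obtain ⟨Cbar, hC⟩ := hK.exists_isCompl ((Y.subgroupOf X).map π)
  have hNXY : N.subgroupOf X ≤ Y.subgroupOf X := Subgroup.comap_mono hNY
  have hY1 : ((Y.subgroupOf X).map π).comap π = Y.subgroupOf X :=
    Subgroup.comap_map_eq_self (by rw [hker]; exact hNXY)
  have hYm : (Y.subgroupOf X).map X.subtype = Y := Subgroup.map_subgroupOf_eq_of_le hYX
  have hNm : (N.subgroupOf X).map X.subtype = N := Subgroup.map_subgroupOf_eq_of_le hNX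
  refine ⟨(Cbar.comap π).map X.subtype, ?_, Subgroup.map_subtype_le _, ?_, ?_⟩
  · refine hNm.ge.trans (Subgroup.map_mono ?_)
    have := Subgroup.ker_le_comap π Cbar
    rwa [hker] at this
  · rw [← hYm, ← Subgroup.map_sup, ← hY1, Subgroup.comap_sup_eq π _ _ hsurj, hC.sup_eq_top,
      Subgroup.comap_top, ← MonoidHom.range_eq_map, Subgroup.range_subtype]
  · rw [← hYm, ← Subgroup.map_inf _ _ _ (Subgroup.subtype_injective X), ← hY1, ← Subgroup.comap_inf,
      hC.inf_eq_bot, MonoidHom.comap_bot, hker, hNm]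

/-- Let G be a finite simple group, X ≤ G a subgroup lying in a unique maximal subgroup M of G, and N ≤ X a subgroup of prime order centralized by M (so N is normal in X). If the quotient X/N has a complemented subgroup lattice, then so does G. -/
theorem result {G : Type*} [Group G] [Finite G] [IsSimpleGroup G] (X M N : Subgroup G)
    (hM : IsCoatom M) (hXM : X ≤ M) (huniq : ∀ M' : Subgroup G, IsCoatom M' → X ≤ M' → M' = M)
    (hNX : N ≤ X) (hN : (Nat.card N).Prime) (hcen : ∀ n ∈ N, ∀ m ∈ M, m * n = n * m)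
    [(N.subgroupOf X).Normal] (hK : ComplementedLattice (Subgroup (X ⧸ N.subgroupOf X))) :
    ComplementedLattice (Subgroup G) := by
  classical
  have hXtop : X ≠ ⊤ := by
    rintro rfl
    exact hM.1 (top_le_iff.mp hXM)
  have hNbot : N ≠ ⊥ := by
    rintro rfl
    rw [Subgroup.card_bot] at hN
    exact Nat.not_prime_one hN
  have hint := interval_of_quotient X N hNX hK
  refine ⟨fun H => ?_⟩
  by_cases hHb : H = ⊥
  · exact ⟨⊤, hHb ▸ isCompl_bot_top⟩
  by_cases hHt : H = ⊤
  · exact ⟨⊥, hHt ▸ isCompl_top_bot⟩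
  -- key: some g with neither condition
  have key : ∃ g : G, ¬ (∀ n ∈ N, g * n * g⁻¹ ∈ H) ∧ ¬ (∀ h ∈ H, g⁻¹ * h * g ∈ M) := by
    by_contra hcon
    have hcon : ∀ g : G, ¬ (∀ n ∈ N, g * n * g⁻¹ ∈ H) → (∀ h ∈ H, g⁻¹ * h * g ∈ M) := by
      intro g h1
      by_contra h2
      exact hcon ⟨g, h1, h2⟩
    -- every conjugate of an element of N normalizes H
    have hnc : Subgroup.normalClosure (N : Set G) = ⊤ := by
      rcases (Subgroup.normalClosure_normal (s := (N : Set G))).eq_bot_or_eq_top with h | h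
      · exfalso
        apply hNbot
        rw [eq_bot_iff, ← h]
        exact Subgroup.le_normalClosure
      · exact h
    have hnorm : Subgroup.normalizer (H : Set G) = ⊤ := by
      rw [eq_top_iff, ← hnc, Subgroup.normalClosure]
      rw [Subgroup.closure_le]
      intro x hx
      rw [Group.mem_conjugatesOfSet_iff] at hx
      obtain ⟨n, hn, hconj⟩ := hx
      rw [isConj_iff] at hconj
      obtain ⟨g, rfl⟩ := hconj
      by_cases h1 : ∀ n ∈ N, g * n * g⁻¹ ∈ H
      · exact Subgroup.le_normalizer (h1 n hn)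
      · have h2 := hcon g h1
        have hc : g * n * g⁻¹ ∈ Subgroup.centralizer (H : Set G) := by
          rw [Subgroup.mem_centralizer_iff]
          intro h hh
          have := hcen n hn _ (h2 h hh)
          -- (g⁻¹ h g) n = n (g⁻¹ h g)
          calc h * (g * n * g⁻¹) = g * ((g⁻¹ * h * g) * n) * g⁻¹ := by group
            _ = g * (n * (g⁻¹ * h * g)) * g⁻¹ := by rw [this]
            _ = g * n * g⁻¹ * h := by group
        exact Subgroup.centralizer_le_normalizer _ hc
    have hHn : H.Normal := Subgroup.normalizer_eq_top_iff.mp hnorm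
    rcases hHn.eq_bot_or_eq_top with h | h
    · exact hHb h
    · exact hHt h
  obtain ⟨g, hg1, hg2⟩ := key
  -- H' = g⁻¹ H g
  have hH' : ¬ H.map (MulAut.conj g⁻¹).toMonoidHom ≤ M := by
    intro hle
    apply hg2
    intro h hh
    apply hle
    exact ⟨h, hh, by simp [MulAut.conj_apply]⟩
  have hHT : H.map (MulAut.conj g⁻¹).toMonoidHom ⊓ N = ⊥ := by
    have hsub : (H.map (MulAut.conj g⁻¹).toMonoidHom ⊓ N) ≤ N := inf_le_right
    have h1 := ((H.map (MulAut.conj g⁻¹).toMonoidHom ⊓ N).subgroupOf N).eq_bot_or_eq_top_of_prime_card (hp := ⟨hN⟩)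
    rcases h1 with h1 | h1
    · rw [Subgroup.subgroupOf_eq_bot, disjoint_iff, inf_assoc, inf_idem] at h1
      exact h1
    · exfalso
      rw [Subgroup.subgroupOf_eq_top] at h1
      apply hg1
      intro n hn
      have := (h1 hn).1
      obtain ⟨h, hh, hhn⟩ := this
      simp only [MulEquiv.coe_toMonoidHom, MulAut.conj_apply, inv_inv] at hhn
      rw [← hhn]
      have : g * (g⁻¹ * h * g) * g⁻¹ = h := by group
      rw [this]
      exact hh
  obtain ⟨C', hC1, hC2⟩ := Cfsg.Agent.S5901.result N X M hNX hXtop hint hM hXM huniq _ hH' hHT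
  have hinj' : Function.Injective (MulAut.conj g).toMonoidHom := (MulAut.conj g).injective
  have hback : (H.map (MulAut.conj g⁻¹).toMonoidHom).map (MulAut.conj g).toMonoidHom = H := by
    rw [Subgroup.map_map]
    have : (MulAut.conj g).toMonoidHom.comp (MulAut.conj g⁻¹).toMonoidHom = MonoidHom.id G := by
      ext x; simp [MulAut.conj_apply, mul_assoc]
    rw [this, Subgroup.map_id]
  refine ⟨C'.map (MulAut.conj g).toMonoidHom, ?_⟩
  rw [isCompl_iff, disjoint_iff, codisjoint_iff]
  constructor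
  · rw [← hback, ← Subgroup.map_inf _ _ _ hinj', hC2, Subgroup.map_bot]
  · rw [← hback, ← Subgroup.map_sup, hC1]
    exact Subgroup.map_top_of_surjective _ (MulAut.conj g).surjective

end Cfsg.Agent.S5903
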