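import Cfsg.Statements.S5904
import Mathlib.Tactic

set_option autoImplicit false
open scoped Pointwise
open Cfsg

namespace Cfsg.Agent.S5904

/-- the stabilizer of the partition {O, Oᶜ} -/
def partStab {Ω : Type*} (O : Set Ω) : Subgroup (Equiv.Perm Ω) where
  carrier := {τ | τ • O = O ∨ τ • O = Oᶜ}
  one_mem' := Or.inl (one_smul _ O)
  mul_mem' := by
    intro a b ha hb
    simp only [Set.mem_setOf_eq] at ha hb ⊢
    rw [mul_smul]
    rcases hb with hb | hb
    · rw [hb]; exact ha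
    · rw [hb, Set.smul_set_compl]
      rcases ha with ha | ha
      · rw [ha]; exact Or.inr rfl
      · rw [ha, compl_compl]; exact Or.inl rfl
  inv_mem' := by
    intro a ha
    simp only [Set.mem_setOf_eq] at ha ⊢
    rcases ha with ha | ha
    · left
      rw [inv_smul_eq_iff, ha]
    · right
      rw [inv_smul_eq_iff, Set.smul_set_compl, ha, compl_compl]

theorem exists_swap_perm {Ω : Type*} (O : Set Ω) (e : O ≃ ↥Oᶜ) :
    ∃ σ : Equiv.Perm Ω, σ • O = Oᶜ := by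
  classical
  let σ : Equiv.Perm Ω :=
    (Equiv.Set.sumCompl O).symm.trans ((Equiv.sumComm _ _).trans
      ((Equiv.sumCongr e.symm e).trans (Equiv.Set.sumCompl O)))
  have h1 : ∀ x (hx : x ∈ O), σ x = (e ⟨x, hx⟩ : Ω) := by
    intro x hx
    simp [σ, Equiv.Set.sumCompl_symm_apply_of_mem hx]
  have h2 : ∀ x (hx : x ∈ Oᶜ), σ x = (e.symm ⟨x, hx⟩ : Ω) := by
    intro x hx
    simp [σ, Equiv.Set.sumCompl_symm_apply_of_notMem hx]
  refine ⟨σ, ?_⟩
  ext y
  constructor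
  · rintro ⟨x, hx, rfl⟩
    show σ x ∈ Oᶜ
    rw [h1 x hx]
    exact (e ⟨x, hx⟩).2
  · intro hy
    refine ⟨(e.symm ⟨y, hy⟩ : Ω), (e.symm ⟨y, hy⟩).2, ?_⟩
    show σ (e.symm ⟨y, hy⟩ : Ω) = y
    rw [h1 _ (e.symm ⟨y, hy⟩).2]
    simp

theorem result {Ω : Type*} [Fintype Ω] [DecidableEq Ω] (hΩ : 2 < Fintype.card Ω)
    (O : Set Ω) (hO : Nat.card O = Nat.card ↥Oᶜ) :
    ¬ IsCoatom (MulAction.stabilizer (Equiv.Perm Ω) O) := by
  classical
  intro hco
  obtain ⟨e⟩ := Finite.card_eq.mp hO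
  obtain ⟨σ, hσ⟩ := exists_swap_perm O e
  -- sizes
  have hcard : Nat.card O + Nat.card ↥Oᶜ = Fintype.card Ω := by
    rw [← Nat.card_eq_fintype_card, Nat.card_coe_set_eq, Nat.card_coe_set_eq]
    exact Set.ncard_add_ncard_compl O
  have hO2 : 2 ≤ Nat.card O := by omega
  rw [Nat.card_coe_set_eq] at hO2
  obtain ⟨a, a', haO, ha'O, haa'⟩ : ∃ a a', a ∈ O ∧ a' ∈ O ∧ a ≠ a' := by
    have : 1 < O.ncard := hO2
    rw [Set.one_lt_ncard_iff] at this
    obtain ⟨a, a', h1, h2, h3⟩ := this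
    exact ⟨a, a', h1, h2, h3⟩
  have hOc2 : 2 ≤ Nat.card ↥Oᶜ := by rw [← hO, Nat.card_coe_set_eq]; exact hO2
  rw [Nat.card_coe_set_eq] at hOc2
  obtain ⟨b, hbO⟩ : ∃ b, b ∈ Oᶜ := by
    have : Oᶜ.ncard ≠ 0 := by omega
    exact Set.nonempty_of_ncard_ne_zero this
  have hOne : O ≠ Oᶜ := by
    intro h
    have : a ∈ Oᶜ := h ▸ haO
    exact this haO
  -- stab ≤ partStab, strictly
  have hle : MulAction.stabilizer (Equiv.Perm Ω) O ≤ partStab O := by
    intro τ hτ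
    exact Or.inl (MulAction.mem_stabilizer_iff.mp hτ)
  have hσK : σ ∈ partStab O := Or.inr hσ
  have hσS : σ ∉ MulAction.stabilizer (Equiv.Perm Ω) O := by
    intro h
    rw [MulAction.mem_stabilizer_iff, hσ] at h
    exact hOne h.symm
  have hlt : MulAction.stabilizer (Equiv.Perm Ω) O < partStab O :=
    lt_of_le_of_ne hle (fun h => hσS (h ▸ hσK))
  have htop := hco.2 _ hlt
  -- the transposition (a b) is not in partStab
  have hτ : Equiv.swap a b ∈ partStab O := by rw [htop]; trivial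
  have hbmem : b ∈ Equiv.swap a b • O := ⟨a, haO, by simp [Equiv.Perm.smul_def]⟩
  have ha'mem : a' ∈ Equiv.swap a b • O := by
    refine ⟨a', ha'O, ?_⟩
    have h1 : a' ≠ a := fun h => haa' h.symm
    have h2 : a' ≠ b := fun h => hbO (h ▸ ha'O)
    simp [Equiv.Perm.smul_def, Equiv.swap_apply_of_ne_of_ne h1 h2]
  rcases hτ with h | h
  · rw [h] at hbmem
    exact hbO hbmem
  · rw [h] at ha'mem
    exact ha'mem ha'O

end Cfsg.Agent.S5904
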