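import Cfsg.Statements.S5911
import Mathlib

set_option autoImplicit false
open Cfsg

namespace Cfsg.Agent.S5911

open Nat

lemma fact_gt (k : ℕ) (hk : 3 ≤ k) : 2 ^ k * (k+1)! < (2*k)! := by
  induction k, hk using Nat.le_induction with
  | base => decide
  | succ k hk ih =>
    have e1 : (2 * (k+1))! = (2*k+2) * ((2*k+1) * (2*k)!) := by
      have : 2 * (k+1) = (2*k+1) + 1 := by ring
      rw [this, Nat.factorial_succ, Nat.factorial_succ]
    have e2 : (k+1+1)! = (k+2) * (k+1)! := by
      rw [Nat.factorial_succ]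
    rw [e1, e2, pow_succ]
    have h1 : 2 * (k+2) ≤ (2*k+2) * (2*k+1) := by nlinarith
    calc 2 ^ k * 2 * ((k + 2) * (k + 1)!) = (2 * (k+2)) * (2^k * (k+1)!) := by ring
      _ ≤ ((2*k+2) * (2*k+1)) * (2^k * (k+1)!) := Nat.mul_le_mul_right _ h1
      _ < ((2*k+2) * (2*k+1)) * (2*k)! := by
          apply Nat.mul_lt_mul_of_pos_left ih
          positivity
      _ = _ := by ring

lemma arith (n k : ℕ) (hk : 2 * (k+1) ≤ n) (h6 : n ≠ 6)
    (h : (n - 2)! * 2 = (n - 2 * (k+1))! * 2 ^ (k+1) * (k+1)!) : k = 0 := by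
  obtain ⟨j, rfl⟩ : ∃ j, n = j + 2 * (k+1) := ⟨n - 2*(k+1), by omega⟩
  have e1 : j + 2 * (k+1) - 2 = j + 2 * k := by omega
  have e2 : j + 2 * (k+1) - 2 * (k+1) = j := by omega
  rw [e1, e2] at h
  have h' : (j + 2*k)! = j ! * (2 ^ k * (k+1)!) := by
    have : (j + 2*k)! * 2 = (j ! * (2 ^ k * (k+1)!)) * 2 := by rw [h, pow_succ]; ring
    exact Nat.eq_of_mul_eq_mul_right (by norm_num) this
  have hdvd : j ! * (2*k)! ≤ (j + 2*k)! :=
    Nat.le_of_dvd (Nat.factorial_pos _) (Nat.factorial_mul_factorial_dvd_factorial_add j (2*k))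
  rw [h'] at hdvd
  have hle : (2*k)! ≤ 2 ^ k * (k+1)! := Nat.le_of_mul_le_mul_left hdvd (Nat.factorial_pos j)
  have hk3 : k < 3 := by
    by_contra hcon
    push Not at hcon
    exact absurd (fact_gt k hcon) (not_lt.2 hle)
  interval_cases k
  · rfl
  · exfalso
    have e3 : (j + 2*1)! = (j+2) * ((j+1) * j !) := by
      rw [show j + 2*1 = (j+1)+1 by ring, Nat.factorial_succ, Nat.factorial_succ]
    rw [e3] at h'
    have hj := Nat.factorial_pos j
    have : (j+2) * (j+1) = 4 := by
      have : ((j+2) * (j+1)) * j ! = 4 * j ! := by rw [← mul_assoc] at h'; rw [h']; simp; ring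
      exact Nat.eq_of_mul_eq_mul_right hj this
    have hj2 : j ≤ 2 := by nlinarith
    interval_cases j <;> simp at this
  · exfalso
    have e3 : (j + 2*2)! = (j+4) * ((j+3) * ((j+2) * ((j+1) * j !))) := by
      rw [show j + 2*2 = (((j+1)+1)+1)+1 by ring, Nat.factorial_succ, Nat.factorial_succ,
        Nat.factorial_succ, Nat.factorial_succ]
    rw [e3] at h'
    have hj := Nat.factorial_pos j
    have : (j+4) * (j+3) * (j+2) * (j+1) = 24 := by
      have : ((j+4) * (j+3) * (j+2) * (j+1)) * j ! = 24 * j ! := by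
        have : (2:ℕ)^2 * (2+1)! = 24 := by decide
        rw [this] at h'
        rw [mul_comm 24, ← h']; ring
      exact Nat.eq_of_mul_eq_mul_right hj this
    have hj0 : j = 0 := by
      by_contra hne
      have hj1 : 1 ≤ j := Nat.one_le_iff_ne_zero.2 hne
      have a : 20 ≤ (j+4)*(j+3) := by nlinarith
      have b : 6 ≤ (j+2)*(j+1) := by nlinarith
      have c := Nat.mul_le_mul a b
      have hprod : (j+4)*(j+3)*((j+2)*(j+1)) = 24 := by rw [← this]; ring
      omega
    subst hj0
    exact h6 rfl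

section
variable {Ω X : Type*} [Fintype Ω] [DecidableEq Ω] [Fintype X] [DecidableEq X]

lemma isSwap_map (hc : Fintype.card Ω = Fintype.card X) (h6 : Fintype.card Ω ≠ 6)
    (Φ : Equiv.Perm Ω ≃* Equiv.Perm X) (s : Equiv.Perm Ω) (hs : s.IsSwap) : (Φ s).IsSwap := by
  have hsc : s.cycleType = {2} := by
    rw [hs.isCycle.cycleType, Equiv.Perm.card_support_eq_two.2 hs]
  have hord : orderOf (Φ s) = 2 := by
    rw [MulEquiv.orderOf_eq]
    rw [← Equiv.Perm.lcm_cycleType, hsc]; simp
  obtain ⟨k, hk⟩ := Equiv.Perm.cycleType_prime_order (σ := Φ s) (by rw [hord]; exact Nat.prime_two)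
  rw [hord] at hk
  have hcard : Nat.card {h : Equiv.Perm Ω | IsConj s h} = Nat.card {h : Equiv.Perm X | IsConj (Φ s) h} := by
    apply Nat.card_congr
    refine (Φ.toEquiv.subtypeEquiv ?_)
    intro h
    constructor
    · intro hh; exact Φ.toMonoidHom.map_isConj hh
    · intro hh
      have := Φ.symm.toMonoidHom.map_isConj hh
      simpa using this
  have h1 := Equiv.Perm.card_isConj_mul_eq s
  have h2 := Equiv.Perm.card_isConj_mul_eq (Φ s)
  rw [hsc] at h1
  rw [hk, ← hcard, ← hc] at h2
  have hsum : 2 * (k+1) ≤ Fintype.card Ω := by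
    have := Equiv.Perm.sum_cycleType_le (Φ s)
    rw [hk, ← hc] at this
    simp only [Multiset.sum_replicate, smul_eq_mul] at this
    omega
  have hpos : 0 < Nat.card {h : Equiv.Perm Ω | IsConj s h} := by
    have : Nonempty {h : Equiv.Perm Ω | IsConj s h} := ⟨⟨s, IsConj.refl s⟩⟩
    exact Nat.card_pos
  have h3 : (Fintype.card Ω - 2)! * 2 = (Fintype.card Ω - 2 * (k+1))! * 2 ^ (k+1) * (k+1)! := by
    have e1 : ∀ m : ℕ, (Multiset.replicate (k+1) 2).count m = if m = 2 then k+1 else 0 := by
      intro m; rw [Multiset.count_replicate]; simp [eq_comm]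
    have h1' : Nat.card {h : Equiv.Perm Ω | IsConj s h} * ((Fintype.card Ω - 2)! * 2) = (Fintype.card Ω)! := by
      simpa using h1
    have h2' : Nat.card {h : Equiv.Perm Ω | IsConj s h} *
        ((Fintype.card Ω - 2 * (k+1))! * 2 ^ (k+1) * (k+1)!) = (Fintype.card Ω)! := by
      have e2 : (Multiset.replicate (k+1) 2).toFinset = {2} := by
        rw [Multiset.toFinset_replicate, if_neg (Nat.succ_ne_zero k)]
      rw [e2, Multiset.sum_replicate, Multiset.prod_replicate, Finset.prod_singleton,
        Multiset.count_replicate_self, smul_eq_mul, mul_comm (k+1) 2] at h2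
      exact h2
    exact Nat.eq_of_mul_eq_mul_left hpos (h1'.trans h2'.symm)
  have hk0 := arith _ k hsum h6 h3
  subst hk0
  rw [← Equiv.Perm.card_support_eq_two, ← Equiv.Perm.sum_cycleType, hk]
  simp

end


section
variable {Ω : Type*} [DecidableEq Ω]

lemma swap_normal (s : Equiv.Perm Ω) (hs : s.IsSwap) (b : Ω) (hb : s b ≠ b) :
    s = Equiv.swap b (s b) := by
  obtain ⟨e, f, hef, rfl⟩ := hs
  rw [Equiv.swap_apply_ne_self_iff] at hb
  rcases hb.2 with rfl | rfl
  · rw [Equiv.swap_apply_left]
  · rw [Equiv.swap_apply_right, Equiv.swap_comm]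

lemma shared_of_not_commute (s s' : Equiv.Perm Ω) (h : ¬ Commute s s') :
    ∃ c, s c ≠ c ∧ s' c ≠ c := by
  by_contra hcon
  push Not at hcon
  apply h
  apply Equiv.Perm.Disjoint.commute
  intro x
  by_cases hx : s x = x
  · exact Or.inl hx
  · exact Or.inr (hcon x hx)

lemma star {Y : Type*} [Fintype Y] [DecidableEq Y] (hY : 4 ≤ Fintype.card Y)
    (t : Y → Equiv.Perm Ω) (hsw : ∀ y, (t y).IsSwap)
    (hnc : ∀ y y', y ≠ y' → ¬ Commute (t y) (t y')) : ∃ a, ∀ y, t y a ≠ a := by
  by_contra hno
  push Not at hno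
  have hne : Nonempty Y := by
    rw [← Fintype.card_pos_iff]; omega
  obtain ⟨y₁⟩ := hne
  obtain ⟨a, b, hab, h1⟩ := hsw y₁
  obtain ⟨ya, hya⟩ := hno a
  obtain ⟨yb, hyb⟩ := hno b
  have hya1 : ya ≠ y₁ := by
    rintro rfl
    rw [h1, Equiv.swap_apply_left] at hya
    exact hab hya.symm
  have hyb1 : yb ≠ y₁ := by
    rintro rfl
    rw [h1, Equiv.swap_apply_right] at hyb
    exact hab hyb
  -- t ya moves b
  have hyab : t ya b ≠ b := by
    obtain ⟨c, hc1, hc2⟩ := shared_of_not_commute _ _ (hnc ya y₁ hya1)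
    rw [h1, Equiv.swap_apply_ne_self_iff] at hc2
    rcases hc2.2 with rfl | rfl
    · exact absurd hya hc1
    · exact hc1
  have hyba : t yb a ≠ a := by
    obtain ⟨c, hc1, hc2⟩ := shared_of_not_commute _ _ (hnc yb y₁ hyb1)
    rw [h1, Equiv.swap_apply_ne_self_iff] at hc2
    rcases hc2.2 with rfl | rfl
    · exact hc1
    · exact absurd hyb hc1
  have e2 := swap_normal (t ya) (hsw ya) b hyab
  have e3 := swap_normal (t yb) (hsw yb) a hyba
  set c := t ya b with hc
  set d := t yb a with hd
  have hca : c ≠ a := by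
    intro h
    rw [e2, h, Equiv.swap_apply_right] at hya
    exact hab hya.symm
  have hdb : d ≠ b := by
    intro h
    rw [e3, h, Equiv.swap_apply_right] at hyb
    exact hab hyb
  have hyab' : ya ≠ yb := by
    rintro rfl
    exact hyba hya
  have hcd : c = d := by
    obtain ⟨z, hz1, hz2⟩ := shared_of_not_commute _ _ (hnc ya yb hyab')
    rw [e2, Equiv.swap_apply_ne_self_iff] at hz1
    rw [e3, Equiv.swap_apply_ne_self_iff] at hz2
    rcases hz1.2 with rfl | rfl
    · rcases hz2.2 with h | h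
      · exact absurd h.symm hab
      · exact absurd h.symm hdb
    · rcases hz2.2 with h | h
      · exact absurd h hca
      · exact h
  -- fourth element
  obtain ⟨y₄, hy₄⟩ : ∃ y₄, y₄ ∉ ({y₁, ya, yb} : Finset Y) := by
    by_contra hcon
    push Not at hcon
    have : (Finset.univ : Finset Y) ⊆ {y₁, ya, yb} := fun y _ => hcon y
    have h3 := Finset.card_le_card this
    have h4 : ({y₁, ya, yb} : Finset Y).card ≤ 3 := Finset.card_le_three
    rw [Finset.card_univ] at h3
    omega
  simp only [Finset.mem_insert, Finset.mem_singleton, not_or] at hy₄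
  obtain ⟨h41, h4a, h4b⟩ := hy₄
  have n1 := hnc y₄ y₁ h41
  have na := hnc y₄ ya h4a
  have nb := hnc y₄ yb h4b
  obtain ⟨z, hz1, hz2⟩ := shared_of_not_commute _ _ n1
  rw [h1, Equiv.swap_apply_ne_self_iff] at hz2
  rcases hz2.2 with rfl | rfl
  · -- t y₄ moves a (= z)
    have e4 := swap_normal (t y₄) (hsw y₄) z hz1
    obtain ⟨w, hw1, hw2⟩ := shared_of_not_commute _ _ na
    rw [e2, Equiv.swap_apply_ne_self_iff] at hw2
    rw [e4, Equiv.swap_apply_ne_self_iff] at hw1
    rcases hw1.2 with rfl | rfl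
    · rcases hw2.2 with h | h
      · exact hab h
      · exact hca h.symm
    · rcases hw2.2 with h | h
      · apply n1
        rw [e4, h, h1]
      · apply nb
        rw [e4, h, e3, ← hcd]
  · -- t y₄ moves b (= z)
    have e4 := swap_normal (t y₄) (hsw y₄) z hz1
    obtain ⟨w, hw1, hw2⟩ := shared_of_not_commute _ _ nb
    rw [e3, Equiv.swap_apply_ne_self_iff] at hw2
    rw [e4, Equiv.swap_apply_ne_self_iff] at hw1
    rcases hw1.2 with rfl | rfl
    · rcases hw2.2 with h | h
      · exact hab h.symm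
      · exact hdb h.symm
    · rcases hw2.2 with h | h
      · apply n1
        rw [e4, h, h1, Equiv.swap_comm]
      · apply na
        rw [e4, h, e2, hcd]

end

section
variable {Ω X : Type*} [Fintype Ω] [DecidableEq Ω] [Fintype X] [DecidableEq X]

theorem stab_le (hc : Fintype.card Ω = Fintype.card X) (h6 : Fintype.card Ω ≠ 6)
    (h5 : 5 ≤ Fintype.card Ω) (Φ : Equiv.Perm Ω ≃* Equiv.Perm X) (x₀ : X) :
    ∃ a : Ω, ∀ g : Equiv.Perm Ω, g a = a → Φ g x₀ = x₀ := by
  -- the family
  have hcardY : 4 ≤ Fintype.card {y : X // y ≠ x₀} := by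
    rw [Fintype.card_subtype_compl, Fintype.card_subtype_eq]
    omega
  have hsw : ∀ y : {y : X // y ≠ x₀}, (Φ.symm (Equiv.swap x₀ y.1)).IsSwap := by
    intro y
    apply isSwap_map hc.symm (by rw [← hc]; exact h6)
    exact ⟨x₀, y.1, y.2.symm, rfl⟩
  have hnc : ∀ y y' : {y : X // y ≠ x₀}, y ≠ y' →
      ¬ Commute (Φ.symm (Equiv.swap x₀ y.1)) (Φ.symm (Equiv.swap x₀ y'.1)) := by
    intro y y' hyy' hcomm
    have h1 : Equiv.swap x₀ y.1 * Equiv.swap x₀ y'.1 = Equiv.swap x₀ y'.1 * Equiv.swap x₀ y.1 := by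
      apply Φ.symm.injective
      rw [map_mul, map_mul]
      exact hcomm.eq
    have h2 := congrArg (fun f : Equiv.Perm X => f y.1) h1
    have hne : y.1 ≠ y'.1 := fun h => hyy' (Subtype.ext h)
    simp only [Equiv.Perm.coe_mul, Function.comp_apply] at h2
    rw [Equiv.swap_apply_of_ne_of_ne y.2 hne, Equiv.swap_apply_right,
      Equiv.swap_apply_left] at h2
    exact y'.2 h2.symm
  obtain ⟨a, ha⟩ := star hcardY _ hsw hnc
  refine ⟨a, ?_⟩
  -- swap case
  have hswap : ∀ s : Equiv.Perm Ω, s.IsSwap → s a = a → Φ s x₀ = x₀ := by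
    intro s hs hsa
    by_contra hmv
    have h1 := swap_normal (Φ s) (isSwap_map hc h6 Φ s hs) x₀ hmv
    have h2 : s = Φ.symm (Equiv.swap x₀ (Φ s x₀)) := by
      rw [← h1]; simp
    have := ha ⟨Φ s x₀, hmv⟩
    rw [← h2] at this
    exact this hsa
  -- induction on support
  have key : ∀ m : ℕ, ∀ g : Equiv.Perm Ω, g.support.card = m → g a = a → Φ g x₀ = x₀ := by
    intro m
    induction m using Nat.strong_induction_on with
    | _ m ih =>
      intro g hgm hga
      by_cases hg1 : g = 1
      · subst hg1; simp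
      · obtain ⟨x, hx⟩ : ∃ x, g x ≠ x := by
          by_contra hcon
          push Not at hcon
          exact hg1 (Equiv.Perm.ext hcon)
        have hxa : x ≠ a := by
          rintro rfl; exact hx hga
        have hgxa : g x ≠ a := by
          intro h
          apply hxa
          apply g.injective
          rw [h, hga]
        have hsa : Equiv.swap x (g x) a = a := Equiv.swap_apply_of_ne_of_ne hxa.symm hgxa.symm
        have hlt := Equiv.Perm.card_support_swap_mul hx
        have h1 := ih _ (by rw [← hgm]; exact hlt) (Equiv.swap x (g x) * g) rfl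
          (by rw [Equiv.Perm.mul_apply, hga, hsa])
        have h2 := hswap (Equiv.swap x (g x)) ⟨x, g x, hx.symm, rfl⟩ hsa
        have h3 : g = Equiv.swap x (g x) * (Equiv.swap x (g x) * g) := by
          rw [← mul_assoc, Equiv.swap_mul_self, one_mul]
        rw [h3, map_mul, Equiv.Perm.mul_apply, h1, h2]
  intro g hga
  exact key _ g rfl hga

end
section
variable {Ω : Type*} [Fintype Ω] [DecidableEq Ω]

lemma eq_of_le_of_index (H K : Subgroup (Equiv.Perm Ω)) (hle : K ≤ H) (hidx : K.index = H.index) :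
    H = K := by
  have h1 := Subgroup.relIndex_mul_index hle
  rw [hidx] at h1
  have hne : H.index ≠ 0 := Subgroup.index_ne_zero_of_finite
  have h2 : K.relIndex H = 1 := by
    have : K.relIndex H * H.index = 1 * H.index := by rw [h1, one_mul]
    exact Nat.eq_of_mul_eq_mul_right (Nat.pos_of_ne_zero hne) this
  exact le_antisymm (Subgroup.relIndex_eq_one.1 h2) hle

lemma index_stab (a : Ω) :
    (MulAction.stabilizer (Equiv.Perm Ω) a).index = Fintype.card Ω := by
  rw [MulAction.index_stabilizer_of_transitive, Nat.card_eq_fintype_card]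

theorem big (h6 : Fintype.card Ω ≠ 6) (h5 : 5 ≤ Fintype.card Ω)
    (H : Subgroup (Equiv.Perm Ω)) (hH : H.index = Fintype.card Ω) :
    ∃ x : Ω, H = MulAction.stabilizer (Equiv.Perm Ω) x := by
  classical
  haveI : Fintype (Equiv.Perm Ω ⧸ H) := Fintype.ofFinite _
  have hcX : Fintype.card Ω = Fintype.card (Equiv.Perm Ω ⧸ H) := by
    rw [← hH, Subgroup.index_eq_card, Nat.card_eq_fintype_card]
  have hker : (MulAction.toPermHom (Equiv.Perm Ω) (Equiv.Perm Ω ⧸ H)).ker = ⊥ := by
    by_contra hne
    have hle : (MulAction.toPermHom (Equiv.Perm Ω) (Equiv.Perm Ω ⧸ H)).ker ≤ H := by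
      rw [← Subgroup.normalCore_eq_ker]; exact Subgroup.normalCore_le H
    have hnt : Nontrivial (MulAction.toPermHom (Equiv.Perm Ω) (Equiv.Perm Ω ⧸ H)).ker :=
      (Subgroup.nontrivial_iff_ne_bot _).2 hne
    have hA := Equiv.Perm.alternatingGroup_le_of_normal (by simpa using h5) hnt
    have hdvd : H.index ∣ (alternatingGroup Ω).index := Subgroup.index_dvd_of_le (hA.trans hle)
    haveI : Nontrivial Ω := by
      rw [← Fintype.one_lt_card_iff_nontrivial]; omega
    rw [alternatingGroup.index_eq_two, hH] at hdvd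
    have := Nat.le_of_dvd (by norm_num) hdvd
    omega
  have hinj : Function.Injective (MulAction.toPermHom (Equiv.Perm Ω) (Equiv.Perm Ω ⧸ H)) :=
    (MonoidHom.ker_eq_bot_iff _).1 hker
  have hbij : Function.Bijective (MulAction.toPermHom (Equiv.Perm Ω) (Equiv.Perm Ω ⧸ H)) := by
    rw [Fintype.bijective_iff_injective_and_card]
    refine ⟨hinj, ?_⟩
    rw [Fintype.card_perm, Fintype.card_perm, hcX]
  obtain ⟨a, ha⟩ := stab_le hcX h6 h5 (MulEquiv.ofBijective _ hbij)
    (((1 : Equiv.Perm Ω) : Equiv.Perm Ω ⧸ H))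
  refine ⟨a, ?_⟩
  have hle : MulAction.stabilizer (Equiv.Perm Ω) a ≤ H := by
    intro g hg
    have h1 := ha g hg
    rw [← MulAction.stabilizer_quotient H]
    exact h1
  exact eq_of_le_of_index H _ hle (by rw [index_stab, hH])

lemma small (p m : ℕ) (hp : p.Prime) (hn : Fintype.card Ω = p + 1)
    (H : Subgroup (Equiv.Perm Ω)) (hH : H.index = Fintype.card Ω)
    (hcard : Nat.card H = p * m) (hm : m ≤ 2) :
    ∃ x : Ω, H = MulAction.stabilizer (Equiv.Perm Ω) x := by
  haveI := Fact.mk hp
  obtain ⟨c', hc'⟩ := exists_prime_orderOf_dvd_card' (G := H) p (by rw [hcard]; exact dvd_mul_right p m)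
  have hc : orderOf (c' : Equiv.Perm Ω) = p := by rw [Subgroup.orderOf_coe]; exact hc'
  -- unique fixed point
  obtain ⟨k, hk⟩ := Equiv.Perm.cycleType_prime_order (σ := (c' : Equiv.Perm Ω)) (by rw [hc]; exact hp)
  rw [hc] at hk
  have hsum := Equiv.Perm.sum_cycleType_le (c' : Equiv.Perm Ω)
  rw [hk, Multiset.sum_replicate, smul_eq_mul, hn] at hsum
  have hk0 : k = 0 := by
    have := hp.two_le
    by_contra hne
    have : 2 ≤ k + 1 := by omega
    nlinarith
  subst hk0
  have hsupp : (c' : Equiv.Perm Ω).support.card = p := by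
    rw [← Equiv.Perm.sum_cycleType, hk]; simp
  have hfix : ((c' : Equiv.Perm Ω).support)ᶜ.card = 1 := by
    rw [Finset.card_compl, hsupp, hn]; omega
  obtain ⟨x, hx⟩ := Finset.card_eq_one.1 hfix
  have hxfix : (c' : Equiv.Perm Ω) x = x := by
    have : x ∈ ((c' : Equiv.Perm Ω).support)ᶜ := by rw [hx]; simp
    simpa using this
  have hxuniq : ∀ z, (c' : Equiv.Perm Ω) z = z → z = x := by
    intro z hz
    have : z ∈ ((c' : Equiv.Perm Ω).support)ᶜ := by simpa using hz
    rw [hx] at this
    simpa using this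
  -- normality
  have hPcard : Nat.card (Subgroup.zpowers c') = p := by rw [Nat.card_zpowers, hc']
  have hPidx : (Subgroup.zpowers c').index = m := by
    have := Subgroup.card_mul_index (Subgroup.zpowers c')
    rw [hPcard, hcard] at this
    exact Nat.eq_of_mul_eq_mul_left hp.pos this
  have hPn : (Subgroup.zpowers c').Normal := by
    have hne : (Subgroup.zpowers c').index ≠ 0 := Subgroup.index_ne_zero_of_finite
    rw [hPidx] at hne
    have : m = 1 ∨ m = 2 := by omega
    rcases this with h | h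
    · rw [h] at hPidx
      rw [Subgroup.index_eq_one.1 hPidx]
      infer_instance
    · rw [h] at hPidx
      exact Subgroup.normal_of_index_eq_two hPidx
  refine ⟨x, ?_⟩
  have hle : H ≤ MulAction.stabilizer (Equiv.Perm Ω) x := by
    intro h hh
    have hconj := hPn.conj_mem c' (Subgroup.mem_zpowers c') ⟨h, hh⟩
    obtain ⟨i, hi⟩ := Subgroup.mem_zpowers_iff.1 hconj
    have hi' : (c' : Equiv.Perm Ω) ^ i = h * (c' : Equiv.Perm Ω) * h⁻¹ := by
      have := congrArg (Subtype.val) hi
      simpa using this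
    have h1 : ((c' : Equiv.Perm Ω) ^ i) x = x :=
      Equiv.Perm.zpow_apply_eq_self_of_apply_eq_self hxfix i
    rw [hi'] at h1
    have h2 : (c' : Equiv.Perm Ω) (h⁻¹ x) = h⁻¹ x := by
      have := congrArg (h⁻¹ : Equiv.Perm Ω) h1
      simpa using this
    have h3 := hxuniq _ h2
    rw [MulAction.mem_stabilizer_iff]
    show h x = x
    have h4 : x = h x := by
      have := congrArg h h3
      simpa using this
    exact h4.symm
  symm
  exact eq_of_le_of_index _ H hle (by rw [index_stab, hH])

end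



/-- Let Ω be a finite set whose size n is not 6. Then every subgroup of the symmetric group on Ω of index n is the stabilizer of a point. -/
theorem result {Ω : Type*} [Fintype Ω] [DecidableEq Ω] (h6 : Fintype.card Ω ≠ 6)
    (H : Subgroup (Equiv.Perm Ω)) (hH : H.index = Fintype.card Ω) :
    ∃ x : Ω, H = MulAction.stabilizer (Equiv.Perm Ω) x := by
  have hcardG : Nat.card H * H.index = (Fintype.card Ω).factorial := by
    rw [Subgroup.card_mul_index, Nat.card_eq_fintype_card, Fintype.card_perm]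
  by_cases h5 : 5 ≤ Fintype.card Ω
  · exact big h6 h5 H hH
  · push Not at h5
    have hne : H.index ≠ 0 := Subgroup.index_ne_zero_of_finite
    rw [hH] at hcardG hne
    obtain ⟨n, hn⟩ : ∃ n, Fintype.card Ω = n := ⟨_, rfl⟩
    rw [hn] at hcardG hne h5
    interval_cases n
    · exact absurd rfl hne
    · have : Nonempty Ω := Fintype.card_pos_iff.1 (by omega)
      obtain ⟨x⟩ := this
      refine ⟨x, ?_⟩
      have hss : Subsingleton (Equiv.Perm Ω) := by
        rw [← Fintype.card_le_one_iff_subsingleton, Fintype.card_perm, hn]; decide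
      ext g
      have : g = 1 := Subsingleton.elim _ _
      subst this
      simp
    · have : Nonempty Ω := Fintype.card_pos_iff.1 (by omega)
      obtain ⟨x⟩ := this
      refine ⟨x, ?_⟩
      have h1 : Nat.card H = 1 := by
        have : Nat.card H * 2 = 1 * 2 := by rw [hcardG]; decide
        exact Nat.eq_of_mul_eq_mul_right (by norm_num) this
      have h2 : Nat.card (MulAction.stabilizer (Equiv.Perm Ω) x) = 1 := by
        have := Subgroup.card_mul_index (MulAction.stabilizer (Equiv.Perm Ω) x)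
        rw [index_stab, Nat.card_eq_fintype_card (α := Equiv.Perm Ω), Fintype.card_perm, hn] at this
        have : Nat.card (MulAction.stabilizer (Equiv.Perm Ω) x) * 2 = 1 * 2 := by rw [this]; decide
        exact Nat.eq_of_mul_eq_mul_right (by norm_num) this
      rw [Subgroup.card_eq_one.1 h1, Subgroup.card_eq_one.1 h2]
    · apply small 2 1 Nat.prime_two (by omega) H hH ?_ (by norm_num)
      have : Nat.card H * 3 = 2 * 3 := by rw [hcardG]; decide
      have := Nat.eq_of_mul_eq_mul_right (by norm_num) this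
      omega
    · apply small 3 2 Nat.prime_three (by omega) H hH ?_ (by norm_num)
      have : Nat.card H * 4 = 6 * 4 := by rw [hcardG]; decide
      have := Nat.eq_of_mul_eq_mul_right (by norm_num) this
      omega

end Cfsg.Agent.S5911
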