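import Cfsg.Statements.S5912
import Mathlib
import Cfsg.Agent.Lib.Helper9_M12gen

set_option autoImplicit false
open Cfsg

namespace Cfsg.Agent.S5912

open Equiv
open Cfsg.Agent.Lib.Helper9_M12gen.Helper9G

abbrev P6 := Perm (Fin 6)

def s0 : P6 := ⟨![0,2,3,4,5,1], ![0,5,1,2,3,4], by decide, by decide⟩
def g0 : P6 := ⟨![0,1,3,5,2,4], ![0,1,4,2,5,3], by decide, by decide⟩
def x0 : P6 := ⟨![1,0,2,4,3,5], ![1,0,2,4,3,5], by decide, by decide⟩
def sw : P6 := ⟨![1,0,2,3,4,5], ![1,0,2,3,4,5], by decide, by decide⟩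

def tab (f : P6) : List (Fin 6) := List.ofFn f
def beq (f g : P6) : Bool := decide (tab f = tab g)
def memb (f : P6) (L : List P6) : Bool := L.any (beq f)

theorem beq_iff {f g : P6} : beq f g = true ↔ f = g := by
  unfold beq tab
  rw [decide_eq_true_iff]
  constructor
  · intro h; exact DFunLike.coe_injective (List.ofFn_injective h)
  · rintro rfl; rfl

theorem memb_iff {f : P6} {L : List P6} : memb f L = true ↔ f ∈ L := by
  unfold memb
  rw [List.any_eq_true]
  constructor
  · rintro ⟨b, hb, h⟩; rw [beq_iff.mp h]; exact hb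
  · intro h; exact ⟨f, h, beq_iff.mpr rfl⟩

def Plist : List P6 := [1, s0, s0^2, s0^3, s0^4]
def Clist : List P6 := [1, g0, g0^2, g0^3]
def Blist : List P6 := Plist.flatMap fun n => Clist.map fun c => n * c
def Rlist : List P6 := [1, x0, s0*x0, s0^2*x0, s0^3*x0, s0^4*x0]
def Klist : List P6 := Rlist.flatMap fun r => Blist.map fun b => r * b

def K2 : Subgroup P6 := Subgroup.closure {s0, g0, x0}

theorem s0_mem : s0 ∈ K2 := Subgroup.subset_closure (by simp)
theorem g0_mem : g0 ∈ K2 := Subgroup.subset_closure (by simp)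
theorem x0_mem : x0 ∈ K2 := Subgroup.subset_closure (by simp)

/-! ### kernel computations -/

set_option maxRecDepth 100000 in
theorem F1 : (Klist.all fun g =>
    memb (s0 * g) Klist && memb (g0 * g) Klist && memb (x0 * g) Klist) = true := by
  decide +kernel

theorem F2 : memb 1 Klist = true := by decide +kernel

set_option maxRecDepth 100000 in
theorem F3 : (Klist.map tab).Nodup := by decide +kernel

set_option maxRecDepth 100000 in
theorem DN : ∀ g : P6, g 0 = 0 → memb (g * s0 * g⁻¹) Plist = true → memb g Blist = true := by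
  decide +kernel

set_option maxRecDepth 100000 in
theorem DX : ∀ x : P6, x 0 = 1 → x 1 = 0 → memb (x * g0 * x⁻¹) Blist = true →
    memb (x0 * x) Blist = true ∨ memb (sw * x) Blist = true := by
  decide +kernel

theorem s0_fix0 : ∀ j : Fin 5, (s0 ^ j.val) 0 = 0 := by decide +kernel

theorem s0_trans : ∀ a b : Fin 6, a ≠ 0 → b ≠ 0 → ∃ j : Fin 5, (s0 ^ j.val) a = b := by
  decide +kernel

theorem nofix : ∀ p : Fin 6, s0 p = p → x0 p = p → False := by decide +kernel

theorem s0_pow5 : s0 ^ 5 = 1 := by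
  apply Equiv.ext
  decide +kernel

theorem s0_ne : s0 ≠ 1 := by
  intro h
  have := congrArg (fun f : P6 => f 1) h
  revert this
  decide +kernel

theorem hos : orderOf s0 = 5 := by
  have : Fact (Nat.Prime 5) := ⟨by norm_num⟩
  exact orderOf_eq_prime s0_pow5 s0_ne

theorem g0_memB : memb g0 Blist = true := by decide +kernel

theorem sw_word0 : (sw * s0 * sw * s0⁻¹ * sw) 0 = 0 := by decide +kernel

theorem sw_wordB : ¬ memb (sw * s0 * sw * s0⁻¹ * sw) Blist = true := by decide +kernel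

theorem Blen : Blist.length = 20 := by decide +kernel
theorem Klen : Klist.length = 120 := by decide +kernel

/-! ### the subgroup `K2` has order 120 -/

theorem K2_sub : ∀ g ∈ K2, g ∈ Klist := by
  show ∀ g ∈ Subgroup.closure ({s0, g0, x0} : Set P6), g ∈ {g | g ∈ Klist}
  refine closure_sub ({s0, g0, x0} : Set P6) {g | g ∈ Klist} (memb_iff.mp F2) ?_
  intro g hg l hl
  have hl' := List.all_eq_true.mp F1 l hl
  simp only [Bool.and_eq_true] at hl'
  simp only [Set.mem_insert_iff, Set.mem_singleton_iff] at hg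
  rcases hg with rfl | rfl | rfl
  · exact memb_iff.mp hl'.1.1
  · exact memb_iff.mp hl'.1.2
  · exact memb_iff.mp hl'.2

theorem P_sub : ∀ g ∈ Plist, g ∈ K2 := by
  intro g hg
  simp only [Plist, List.mem_cons, List.not_mem_nil, or_false] at hg
  rcases hg with rfl | rfl | rfl | rfl | rfl
  · exact K2.one_mem
  · exact s0_mem
  all_goals exact K2.pow_mem s0_mem _

theorem C_sub : ∀ g ∈ Clist, g ∈ K2 := by
  intro g hg
  simp only [Clist, List.mem_cons, List.not_mem_nil, or_false] at hg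
  rcases hg with rfl | rfl | rfl | rfl
  · exact K2.one_mem
  · exact g0_mem
  all_goals exact K2.pow_mem g0_mem _

theorem B_sub : ∀ g ∈ Blist, g ∈ K2 := by
  intro g hg
  simp only [Blist, List.mem_flatMap, List.mem_map] at hg
  obtain ⟨n, hn, c, hc, rfl⟩ := hg
  exact K2.mul_mem (P_sub n hn) (C_sub c hc)

theorem R_sub : ∀ g ∈ Rlist, g ∈ K2 := by
  intro g hg
  simp only [Rlist, List.mem_cons, List.not_mem_nil, or_false] at hg
  rcases hg with rfl | rfl | rfl | rfl | rfl | rfl
  · exact K2.one_mem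
  · exact x0_mem
  · exact K2.mul_mem s0_mem x0_mem
  all_goals exact K2.mul_mem (K2.pow_mem s0_mem _) x0_mem

theorem K_sub : ∀ g ∈ Klist, g ∈ K2 := by
  intro g hg
  simp only [Klist, List.mem_flatMap, List.mem_map] at hg
  obtain ⟨r, hr, b, hb, rfl⟩ := hg
  exact K2.mul_mem (R_sub r hr) (B_sub b hb)

theorem card_K2 : Nat.card K2 = 120 := by
  have hnd : Klist.Nodup := List.Nodup.of_map tab F3
  have e : ↥K2 ≃ {g // g ∈ Klist.toFinset} :=
    Equiv.subtypeEquivRight (fun g => by
      rw [List.mem_toFinset]; exact ⟨K2_sub g, K_sub g⟩)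
  rw [Nat.card_congr e, Nat.card_eq_fintype_card, Fintype.card_coe,
    List.toFinset_card_of_nodup hnd]
  exact Klen

theorem card_P6 : Nat.card P6 = 720 := by
  rw [Nat.card_eq_fintype_card, Fintype.card_perm, Fintype.card_fin]; rfl

theorem index_of_card {H : Subgroup P6} (h : Nat.card H = 120) : H.index = 6 := by
  have := Subgroup.card_mul_index H
  rw [h, card_P6] at this
  omega

theorem card_of_index {H : Subgroup P6} (h : H.index = 6) : Nat.card H = 120 := by
  have := Subgroup.card_mul_index H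
  rw [h, card_P6] at this
  omega

/-! ### groups of order 20 -/

theorem fact20 : (20 : ℕ).factorization 5 = 1 := by
  rw [show (20 : ℕ) = 5 * 4 by norm_num, Nat.factorization_mul (by norm_num) (by norm_num),
    Finsupp.add_apply, Nat.Prime.factorization_self (by norm_num),
    Nat.factorization_eq_zero_of_not_dvd (by norm_num)]

theorem ord20 {G : Type*} [Group G] (hG : Nat.card G = 20) (x : G) (hox : orderOf x = 5) (g : G) :
    g * x * g⁻¹ ∈ Subgroup.zpowers x := by
  have : Finite G := Nat.finite_of_card_ne_zero (by omega)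
  have : Fact (Nat.Prime 5) := ⟨by norm_num⟩
  have hcardZ : Nat.card (Subgroup.zpowers x) = 5 := by rw [Nat.card_zpowers, hox]
  have hf : (Nat.card G).factorization 5 = 1 := by rw [hG]; exact fact20
  obtain ⟨P, hP⟩ : ∃ P : Sylow 5 G, (P : Subgroup G) = Subgroup.zpowers x :=
    ⟨Sylow.ofCard (Subgroup.zpowers x) (by rw [hcardZ, hf, pow_one]), Sylow.coe_ofCard _ _⟩
  have hmod := card_sylow_modEq_one 5 G
  have hdvd := Sylow.card_dvd_index P
  have hidx : (P : Subgroup G).index = 4 := by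
    have := Subgroup.card_mul_index (P : Subgroup G)
    rw [hP, hcardZ, hG] at this
    rw [hP]; omega
  rw [hidx] at hdvd
  have hle := Nat.le_of_dvd (by norm_num) hdvd
  have hone : Nat.card (Sylow 5 G) = 1 := by
    unfold Nat.ModEq at hmod
    interval_cases h : Nat.card (Sylow 5 G) <;> omega
  have : Subsingleton (Sylow 5 G) := (Nat.card_eq_one_iff_unique.mp hone).1
  have hn : (P : Subgroup G).Normal := Sylow.normal_of_subsingleton P
  rw [hP] at hn
  exact hn.conj_mem x (Subgroup.mem_zpowers x) g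

theorem ord20_sub {G : Type*} [Group G] (K : Subgroup G) (hK : Nat.card K = 20) (x : G)
    (hx : x ∈ K) (hox : orderOf x = 5) (g : G) (hg : g ∈ K) :
    g * x * g⁻¹ ∈ Subgroup.zpowers x := by
  have h := ord20 hK (⟨x, hx⟩ : K) (by rw [← hox]; exact Subgroup.orderOf_mk x hx) ⟨g, hg⟩
  obtain ⟨k, hk⟩ := Subgroup.mem_zpowers_iff.mp h
  refine Subgroup.mem_zpowers_iff.mpr ⟨k, ?_⟩
  have := congrArg Subtype.val hk
  simpa using this

theorem zp_P (y : P6) (hy : y ∈ Subgroup.zpowers s0) : memb y Plist = true := by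
  rw [memb_iff]
  rw [← mem_powers_iff_mem_zpowers] at hy
  obtain ⟨n, rfl⟩ := (Submonoid.mem_powers_iff _ _).mp hy
  rw [← pow_mod_orderOf, hos]
  have hlt : n % 5 < 5 := Nat.mod_lt _ (by norm_num)
  generalize n % 5 = m at hlt ⊢
  interval_cases m <;> simp [Plist]

/-! ### the core uniqueness statement -/

theorem core (H : Subgroup P6) (hidx : H.index = 6) (hs : s0 ∈ H) (hmove : ∃ h ∈ H, h 0 ≠ 0) :
    H = K2 := by
  have hcard : Nat.card H = 120 := card_of_index hidx
  have htr : ∀ p : Fin 6, ∃ k ∈ H, k 0 = p := by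
    intro p
    by_cases hp : p = 0
    · exact ⟨1, H.one_mem, by rw [hp]; rfl⟩
    · obtain ⟨h, hh, h0⟩ := hmove
      obtain ⟨j, hj⟩ := s0_trans (h 0) p h0 hp
      exact ⟨s0 ^ j.val * h, H.mul_mem (H.pow_mem hs _) hh, by rw [Perm.mul_apply]; exact hj⟩
  have hpre : MulAction.IsPretransitive H (Fin 6) := by
    refine ⟨fun a b => ?_⟩
    obtain ⟨g, hg, e⟩ := htr a
    obtain ⟨g', hg', e'⟩ := htr b
    refine ⟨⟨g' * g⁻¹, H.mul_mem hg' (H.inv_mem hg)⟩, ?_⟩
    show (g' * g⁻¹) a = b
    rw [← e, Perm.mul_apply, inv_app, e']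
  let H0 : Subgroup P6 := H ⊓ MulAction.stabilizer P6 (0 : Fin 6)
  have hH0mem : ∀ g, g ∈ H0 ↔ g ∈ H ∧ g 0 = 0 := by
    intro g
    show g ∈ H ⊓ MulAction.stabilizer P6 (0 : Fin 6) ↔ _
    rw [Subgroup.mem_inf, MulAction.mem_stabilizer_iff]
    exact Iff.rfl
  have hcard0 : Nat.card H0 = 20 := by
    have h1 : (MulAction.stabilizer H (0 : Fin 6)).index = Nat.card (Fin 6) :=
      MulAction.index_stabilizer_of_transitive H (0 : Fin 6)
    have h2 := Subgroup.card_mul_index (MulAction.stabilizer H (0 : Fin 6))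
    have hmap : (MulAction.stabilizer H (0 : Fin 6)).map H.subtype = H0 := by
      ext k
      rw [Subgroup.mem_map, hH0mem]
      constructor
      · rintro ⟨⟨k', hk'⟩, hfix, rfl⟩
        exact ⟨hk', MulAction.mem_stabilizer_iff.mp hfix⟩
      · rintro ⟨hk, h0⟩
        exact ⟨⟨k, hk⟩, MulAction.mem_stabilizer_iff.mpr h0, rfl⟩
    have hc : Nat.card H0 = Nat.card (MulAction.stabilizer H (0 : Fin 6)) := by
      rw [← hmap]
      exact Subgroup.card_map_of_injective H.subtype_injective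
    rw [h1, hcard, Nat.card_eq_fintype_card (α := Fin 6), Fintype.card_fin] at h2
    omega
  have hB : ∀ g ∈ H, g 0 = 0 → memb g Blist = true := by
    intro g hg hg0
    have hgH0 : g ∈ H0 := (hH0mem g).2 ⟨hg, hg0⟩
    have hsH0 : s0 ∈ H0 := (hH0mem s0).2 ⟨hs, by decide +kernel⟩
    have hz : g * s0 * g⁻¹ ∈ Subgroup.zpowers s0 :=
      ord20_sub H0 hcard0 s0 hsH0 hos g hgH0
    exact DN g hg0 (zp_P _ hz)
  have hBsub : ∀ b ∈ Blist, b ∈ H := by
    have hsubset : (H0 : Set P6) ⊆ ↑Blist.toFinset := by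
      intro g hg
      have := (hH0mem g).1 hg
      simp only [Finset.mem_coe, List.mem_toFinset]
      exact memb_iff.mp (hB g this.1 this.2)
    have h3 : (H0 : Set P6).ncard = 20 := by
      rw [← hcard0]; exact (Nat.card_coe_set_eq _).symm
    have hle : (↑Blist.toFinset : Set P6).ncard ≤ (H0 : Set P6).ncard := by
      rw [Set.ncard_coe_finset, h3]
      have h1 : Blist.toFinset.card ≤ Blist.length := List.toFinset_card_le _
      rw [Blen] at h1
      exact h1
    have heq := Set.eq_of_subset_of_ncard_le hsubset hle (Set.toFinite _)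
    intro b hb
    have hb' : b ∈ (H0 : Set P6) := by
      rw [heq]; simpa using hb
    exact ((hH0mem b).1 hb').1
  have hg0 : g0 ∈ H := hBsub g0 (memb_iff.mp g0_memB)
  obtain ⟨h, hh, h01⟩ := htr 1
  have hq : h⁻¹ 0 ≠ 0 := by
    intro e
    have h2 : h (h⁻¹ 0) = 0 := app_inv h 0
    rw [e, h01] at h2
    exact absurd h2 (by decide)
  obtain ⟨j, hj⟩ := s0_trans 1 (h⁻¹ 0) (by decide) hq
  have hxH : h * s0 ^ j.val ∈ H := H.mul_mem hh (H.pow_mem hs _)
  generalize hx : h * s0 ^ j.val = x at hxH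
  have hx0 : x 0 = 1 := by rw [← hx, Perm.mul_apply, s0_fix0 j, h01]
  have hx1 : x 1 = 0 := by rw [← hx, Perm.mul_apply, hj, app_inv]
  have hxi0 : x⁻¹ 0 = 1 := by rw [← hx1, inv_app]
  have hy0 : (x * g0 * x⁻¹) 0 = 0 := by
    rw [Perm.mul_apply, Perm.mul_apply, hxi0, show g0 1 = 1 by decide +kernel, hx1]
  have hyB := hB _ (H.mul_mem (H.mul_mem hxH hg0) (H.inv_mem hxH)) hy0
  have hx0H : x0 ∈ H := by
    rcases DX x hx0 hx1 hyB with hA | hA
    · have h1 := hBsub _ (memb_iff.mp hA)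
      have e : x0 = (x0 * x) * x⁻¹ := by group
      rw [e]; exact H.mul_mem h1 (H.inv_mem hxH)
    · exfalso
      have h1 := hBsub _ (memb_iff.mp hA)
      have hsw : sw ∈ H := by
        have e : sw = (sw * x) * x⁻¹ := by group
        rw [e]; exact H.mul_mem h1 (H.inv_mem hxH)
      have hw : sw * s0 * sw * s0⁻¹ * sw ∈ H :=
        H.mul_mem (H.mul_mem (H.mul_mem (H.mul_mem hsw hs) hsw) (H.inv_mem hs)) hsw
      exact sw_wordB (hB _ hw sw_word0)
  have hle : K2 ≤ H := by
    unfold K2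
    rw [Subgroup.closure_le]
    intro g hg
    simp only [Set.mem_insert_iff, Set.mem_singleton_iff] at hg
    rcases hg with rfl | rfl | rfl <;> assumption
  exact (Subgroup.eq_of_le_of_card_ge hle (le_of_eq (by rw [hcard, card_K2]))).symm

/-! ### every index-6 subgroup has a conjugate containing `s0` -/

theorem ct5 (τ : P6) (h : orderOf τ = 5) : τ.cycleType = {5} := by
  obtain ⟨n, hn⟩ := Equiv.Perm.cycleType_prime_order (σ := τ) (by rw [h]; norm_num)
  rw [h] at hn
  have hsum := Equiv.Perm.sum_cycleType τ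
  have hle : τ.support.card ≤ 6 := by
    have := Finset.card_le_univ τ.support
    simpa using this
  rw [hn, Multiset.sum_replicate, smul_eq_mul] at hsum
  have hn0 : n = 0 := by omega
  rw [hn, hn0]; rfl

theorem conj_s0 (H : Subgroup P6) (hidx : H.index = 6) :
    ∃ c : P6, s0 ∈ H.map (MulAut.conj c).toMonoidHom := by
  have hcard := card_of_index hidx
  have : Fact (Nat.Prime 5) := ⟨by norm_num⟩
  obtain ⟨σ, hσ⟩ := exists_prime_orderOf_dvd_card' (G := H) 5 (by rw [hcard]; norm_num)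
  have hτ : orderOf (σ : P6) = 5 := by rw [Subgroup.orderOf_coe]; exact hσ
  have hconj : IsConj (σ : P6) s0 := by
    rw [Equiv.Perm.isConj_iff_cycleType_eq, ct5 _ hτ, ct5 _ hos]
  obtain ⟨c, hc⟩ := isConj_iff.mp hconj
  exact ⟨c, Subgroup.mem_map.mpr ⟨(σ : P6), σ.2, hc⟩⟩

theorem conj_back {G : Type*} [Group G] (H : Subgroup G) (c : G) :
    (H.map (MulAut.conj c).toMonoidHom).map (MulAut.conj c⁻¹).toMonoidHom = H := by
  ext k
  rw [Subgroup.mem_map]
  constructor
  · rintro ⟨k', hk', rfl⟩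
    obtain ⟨k'', hk'', rfl⟩ := Subgroup.mem_map.mp hk'
    have e : (MulAut.conj c⁻¹).toMonoidHom ((MulAut.conj c).toMonoidHom k'') = k'' := by
      show c⁻¹ * (c * k'' * c⁻¹) * c⁻¹⁻¹ = k''
      group
    rw [e]; exact hk''
  · intro hk
    refine ⟨c * k * c⁻¹, Subgroup.mem_map.mpr ⟨k, hk, rfl⟩, ?_⟩
    show c⁻¹ * (c * k * c⁻¹) * c⁻¹⁻¹ = k
    group

theorem idx_stab : (MulAction.stabilizer P6 (0 : Fin 6)).index = 6 := by
  have := MulAction.index_stabilizer_of_transitive P6 (0 : Fin 6)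
  rw [this, Nat.card_eq_fintype_card, Fintype.card_fin]

theorem main6 : ∃ H₁ H₂ : Subgroup P6, H₁.index = 6 ∧ H₂.index = 6 ∧
    (¬ ∃ g : P6, Subgroup.map (MulAut.conj g).toMonoidHom H₁ = H₂) ∧
    ∀ H : Subgroup P6, H.index = 6 →
      ∃ g : P6, Subgroup.map (MulAut.conj g).toMonoidHom H₁ = H ∨
        Subgroup.map (MulAut.conj g).toMonoidHom H₂ = H := by
  refine ⟨MulAction.stabilizer P6 (0 : Fin 6), K2, idx_stab, index_of_card card_K2, ?_, ?_⟩
  · rintro ⟨g, hg⟩
    have hfix : ∀ k ∈ K2, k (g 0) = g 0 := by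
      intro k hk
      rw [← hg] at hk
      obtain ⟨k', hk', rfl⟩ := Subgroup.mem_map.mp hk
      have h0 : k' 0 = 0 := MulAction.mem_stabilizer_iff.mp hk'
      show (g * k' * g⁻¹) (g 0) = g 0
      rw [Perm.mul_apply, Perm.mul_apply, inv_app, h0]
    exact nofix (g 0) (hfix s0 s0_mem) (hfix x0 x0_mem)
  · intro H hidx
    obtain ⟨c, hc⟩ := conj_s0 H hidx
    have hidx' : (H.map (MulAut.conj c).toMonoidHom).index = 6 := by
      exact (Subgroup.index_map_equiv H (MulAut.conj c)).trans hidx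
    have hback := conj_back H c
    by_cases hmv : ∃ k ∈ H.map (MulAut.conj c).toMonoidHom, k 0 ≠ 0
    · have := core _ hidx' hc hmv
      exact ⟨c⁻¹, Or.inr (by rw [← this]; exact hback)⟩
    · push Not at hmv
      have hle : H.map (MulAut.conj c).toMonoidHom ≤ MulAction.stabilizer P6 (0 : Fin 6) :=
        fun k hk => MulAction.mem_stabilizer_iff.mpr (hmv k hk)
      have heq : H.map (MulAut.conj c).toMonoidHom = MulAction.stabilizer P6 (0 : Fin 6) :=
        Subgroup.eq_of_le_of_card_ge hle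
          (le_of_eq (by rw [card_of_index hidx', card_of_index idx_stab]))
      exact ⟨c⁻¹, Or.inl (by rw [← heq]; exact hback)⟩

/-! ### transfer along a group isomorphism -/

theorem transfer {G G' : Type*} [Group G] [Group G'] (ψ : G' ≃* G)
    (h : ∃ H₁ H₂ : Subgroup G', H₁.index = 6 ∧ H₂.index = 6 ∧
      (¬ ∃ g : G', Subgroup.map (MulAut.conj g).toMonoidHom H₁ = H₂) ∧
      ∀ H : Subgroup G', H.index = 6 →
        ∃ g : G', Subgroup.map (MulAut.conj g).toMonoidHom H₁ = H ∨
          Subgroup.map (MulAut.conj g).toMonoidHom H₂ = H) :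
    ∃ H₁ H₂ : Subgroup G, H₁.index = 6 ∧ H₂.index = 6 ∧
      (¬ ∃ g : G, Subgroup.map (MulAut.conj g).toMonoidHom H₁ = H₂) ∧
      ∀ H : Subgroup G, H.index = 6 →
        ∃ g : G, Subgroup.map (MulAut.conj g).toMonoidHom H₁ = H ∨
          Subgroup.map (MulAut.conj g).toMonoidHom H₂ = H := by
  obtain ⟨K₁, K₂, h1, h2, hnc, hall⟩ := h
  have hmc : ∀ (g' : G') (K : Subgroup G'),
      (K.map (MulAut.conj g').toMonoidHom).map ψ.toMonoidHom =
        (K.map ψ.toMonoidHom).map (MulAut.conj (ψ g')).toMonoidHom := by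
    intro g' K
    rw [Subgroup.map_map, Subgroup.map_map]
    congr 1
    ext x
    show ψ (g' * x * g'⁻¹) = ψ g' * ψ x * (ψ g')⁻¹
    rw [map_mul, map_mul, map_inv]
  refine ⟨K₁.map ψ.toMonoidHom, K₂.map ψ.toMonoidHom, ?_, ?_, ?_, ?_⟩
  · rw [← h1]; exact Subgroup.index_map_equiv K₁ ψ
  · rw [← h2]; exact Subgroup.index_map_equiv K₂ ψ
  · rintro ⟨g, hg⟩
    apply hnc
    refine ⟨ψ.symm g, ?_⟩
    apply Subgroup.map_injective (f := ψ.toMonoidHom) ψ.injective
    rw [hmc, MulEquiv.apply_symm_apply]; exact hg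
  · intro H hH
    have hidx : (H.map ψ.symm.toMonoidHom).index = 6 := by
      rw [← hH]; exact Subgroup.index_map_equiv H ψ.symm
    obtain ⟨g', hg'⟩ := hall _ hidx
    have hback : (H.map ψ.symm.toMonoidHom).map ψ.toMonoidHom = H := by
      ext k
      rw [Subgroup.mem_map]
      constructor
      · rintro ⟨k', hk', rfl⟩
        obtain ⟨k'', hk'', rfl⟩ := Subgroup.mem_map.mp hk'
        have e : ψ.toMonoidHom (ψ.symm.toMonoidHom k'') = k'' := ψ.apply_symm_apply k''
        rw [e]; exact hk''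
      · intro hk
        exact ⟨ψ.symm k, Subgroup.mem_map.mpr ⟨k, hk, rfl⟩, ψ.apply_symm_apply k⟩
    refine ⟨ψ g', ?_⟩
    rcases hg' with e | e
    · left; rw [← hmc, e, hback]
    · right; rw [← hmc, e, hback]

/-- The symmetric group on a 6-element set Ω has exactly two conjugacy classes of subgroups of index 6: there are two non-conjugate subgroups of index 6 (a point stabilizer and a transitive subgroup isomorphic to S₅), and every subgroup of index 6 is conjugate to one of them. -/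
theorem result {Ω : Type*} [Fintype Ω] [DecidableEq Ω] (h6 : Fintype.card Ω = 6) :
    ∃ H₁ H₂ : Subgroup (Equiv.Perm Ω), H₁.index = 6 ∧ H₂.index = 6 ∧
      (¬ ∃ g : Equiv.Perm Ω, Subgroup.map (MulAut.conj g).toMonoidHom H₁ = H₂) ∧
      ∀ H : Subgroup (Equiv.Perm Ω), H.index = 6 →
        ∃ g : Equiv.Perm Ω, Subgroup.map (MulAut.conj g).toMonoidHom H₁ = H ∨ Subgroup.map (MulAut.conj g).toMonoidHom H₂ = H := by
  have e : Ω ≃ Fin 6 := Fintype.equivFinOfCardEq h6
  exact transfer (Equiv.permCongrHom e).symm main6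

end Cfsg.Agent.S5912
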