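import Cfsg.Statements.S5913
import Mathlib.Tactic

set_option autoImplicit false
open Cfsg

namespace Cfsg.Agent.S5913

theorem result {S : Type*} [Group S] [IsSimpleGroup S] (hS : ¬ IsMulCommutative S) (n : ℕ)
    (N : Subgroup (Fin n → S)) [N.Normal] :
    ∃ T : Finset (Fin n), ∀ x : Fin n → S, x ∈ N ↔ ∀ i, i ∉ T → x i = 1 := by
  classical
  -- centre of S is trivial
  have hcen : Subgroup.center S = ⊥ := by
    rcases (inferInstance : (Subgroup.center S).Normal).eq_bot_or_eq_top with h | h
    · exact h
    · exfalso
      apply hS
      refine ⟨⟨fun a b => ?_⟩⟩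
      have : b ∈ Subgroup.center S := by rw [h]; trivial
      rw [Subgroup.mem_center_iff] at this
      exact this a
  refine ⟨Finset.univ.filter (fun i => ∃ y ∈ N, y i ≠ 1), fun x => ⟨?_, ?_⟩⟩
  · intro hx i hi
    by_contra hne
    apply hi
    simp only [Finset.mem_filter, Finset.mem_univ, true_and]
    exact ⟨x, hx, hne⟩
  · intro hx
    -- each factor of x lies in N
    have hfac : ∀ i : Fin n, Pi.mulSingle i (x i) ∈ N := by
      intro i
      by_cases hi : i ∈ Finset.univ.filter (fun i => ∃ y ∈ N, y i ≠ 1)
      · simp only [Finset.mem_filter, Finset.mem_univ, true_and] at hi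
        obtain ⟨y, hyN, hyi⟩ := hi
        -- the normal subgroup M_i of S
        have hMn : (N.comap (MonoidHom.mulSingle (fun _ : Fin n => S) i)).Normal := inferInstance
        have hne : N.comap (MonoidHom.mulSingle (fun _ : Fin n => S) i) ≠ ⊥ := by
          have hyc : y i ∉ Subgroup.center S := by
            rw [hcen, Subgroup.mem_bot]; exact hyi
          rw [Subgroup.mem_center_iff] at hyc
          push Not at hyc
          obtain ⟨s, hs⟩ := hyc
          intro hbot
          have hmem : s * y i * s⁻¹ * (y i)⁻¹ ∈ N.comap (MonoidHom.mulSingle (fun _ : Fin n => S) i) := by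
            rw [Subgroup.mem_comap]
            have h1 : Pi.mulSingle i s * y * (Pi.mulSingle i s)⁻¹ * y⁻¹ ∈ N :=
              N.mul_mem (‹N.Normal›.conj_mem y hyN _) (N.inv_mem hyN)
            have h2 : (MonoidHom.mulSingle (fun _ : Fin n => S) i) (s * y i * s⁻¹ * (y i)⁻¹)
                = Pi.mulSingle i s * y * (Pi.mulSingle i s)⁻¹ * y⁻¹ := by
              ext j
              by_cases hj : j = i
              · subst hj; simp
              · simp [Pi.mulSingle_eq_of_ne hj]
            rw [h2]; exact h1
          rw [hbot, Subgroup.mem_bot] at hmem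
          apply hs
          calc s * y i = (s * y i * s⁻¹ * (y i)⁻¹) * (y i * s) := by group
            _ = y i * s := by rw [hmem, one_mul]
        rcases hMn.eq_bot_or_eq_top with h | h
        · exact absurd h hne
        · have : x i ∈ N.comap (MonoidHom.mulSingle (fun _ : Fin n => S) i) := by rw [h]; trivial
          exact this
      · rw [hx i hi, Pi.mulSingle_one]
        exact N.one_mem
    have := Finset.noncommProd_mulSingle x
    rw [← this]
    exact Subgroup.noncommProd_mem N _ (fun i _ => hfac i)

end Cfsg.Agent.S5913
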