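import Cfsg.Statements.S5944
import Mathlib.Tactic

set_option autoImplicit false
open Cfsg

namespace Cfsg.Agent.S5944

/-- For n ≠ 4, every proper subgroup of the symmetric group S_n other than the alternating group A_n has index at least n. -/
theorem result (n : ℕ) (hn : n ≠ 4) (H : Subgroup (Equiv.Perm (Fin n))) (hH : H ≠ ⊤) (hA : H ≠ alternatingGroup (Fin n)) : n ≤ H.index := by
  classical
  by_contra hlt
  push Not at hlt
  have hidx_pos : 0 < H.index := Nat.pos_of_ne_zero (Subgroup.index_ne_zero_of_finite)
  have h2 : 2 ≤ H.index := by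
    rcases Nat.lt_or_ge H.index 2 with h | h
    · exfalso; apply hH; apply Subgroup.index_eq_one.mp; omega
    · exact h
  have h3 : 3 ≤ H.index := by
    rcases Nat.lt_or_ge H.index 3 with h | h
    · exfalso; apply hA; exact Equiv.Perm.eq_alternatingGroup_of_index_eq_two (by omega)
    · exact h
  have hn5 : 5 ≤ n := by omega
  by_cases hN : H.normalCore = ⊥
  · -- faithful action on cosets
    have hker : (MulAction.toPermHom (Equiv.Perm (Fin n)) (Equiv.Perm (Fin n) ⧸ H)).ker = ⊥ := by
      rw [← Subgroup.normalCore_eq_ker, hN]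
    have hinj : Function.Injective (MulAction.toPermHom (Equiv.Perm (Fin n)) (Equiv.Perm (Fin n) ⧸ H)) :=
      (MonoidHom.ker_eq_bot_iff _).mp hker
    have hcard := Nat.card_le_card_of_injective _ hinj
    haveI : Fintype (Equiv.Perm (Fin n) ⧸ H) := Fintype.ofFinite _
    rw [Nat.card_eq_fintype_card, Nat.card_eq_fintype_card, Fintype.card_perm, Fintype.card_perm,
      Fintype.card_fin, ← Nat.card_eq_fintype_card] at hcard
    have : Nat.card (Equiv.Perm (Fin n) ⧸ H) = H.index := rfl
    rw [this] at hcard
    have := (Nat.factorial_lt hidx_pos).mpr hlt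
    omega
  · haveI : Nontrivial H.normalCore := by
      rw [Subgroup.nontrivial_iff_ne_bot]; exact hN
    have hle : alternatingGroup (Fin n) ≤ H.normalCore :=
      Equiv.Perm.alternatingGroup_le_of_normal (by simpa using hn5) inferInstance
    have hle2 : alternatingGroup (Fin n) ≤ H := hle.trans (Subgroup.normalCore_le H)
    have hdvd := Subgroup.index_dvd_of_le hle2
    haveI : Nontrivial (Fin n) := ⟨⟨⟨0, by omega⟩, ⟨1, by omega⟩, by simp [Fin.ext_iff]⟩⟩
    rw [alternatingGroup.index_eq_two] at hdvd
    have := Nat.le_of_dvd (by norm_num) hdvd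
    omega

end Cfsg.Agent.S5944
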