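import Cfsg.Statements.S5945
import Mathlib
import Cfsg.Agent.S5912

set_option autoImplicit false
open Cfsg

namespace Cfsg.Agent.S5945

open Equiv
open Cfsg.Agent.Lib.Helper9_M12gen.Helper9G
open Cfsg.Agent.S5912

def t1 : P6 := ⟨![0,1,2,4,3,5], ![0,1,2,4,3,5], by decide, by decide⟩
def t2 : P6 := ⟨![0,1,2,5,4,3], ![0,1,2,5,4,3], by decide, by decide⟩
def t3 : P6 := ⟨![0,1,2,3,5,4], ![0,1,2,3,5,4], by decide, by decide⟩
def t4 : P6 := ⟨![0,1,2,4,5,3], ![0,1,2,5,3,4], by decide, by decide⟩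
def t5 : P6 := ⟨![0,1,2,5,3,4], ![0,1,2,4,5,3], by decide, by decide⟩
def T : Fin 6 → P6 := ![1, t1, t2, t3, t4, t5]

def p : Fin 6 → Fin 3 := ![0,0,1,2,2,1]
def predb (g : P6) : Bool := decide (∀ x y : Fin 6, p x = p y ↔ p (g x) = p (g y))

/-! ### kernel computations -/

set_option maxRecDepth 100000 in
theorem C1 : ∀ g : P6, ∃ i : Fin 6, memb ((T i)⁻¹ * g) Klist = true := by decide +kernel

set_option maxRecDepth 100000 in
theorem C2 : ∀ i j : Fin 6, i ≠ j →
    (Klist.any fun k => !memb ((T j)⁻¹ * T i * k * ((T j)⁻¹ * T i)⁻¹) Klist) = true := by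
  decide +kernel

set_option maxRecDepth 100000 in
theorem C3 : (Klist.all fun k => beq k 1 || Klist.any fun b => !predb (b * k * b⁻¹)) = true := by
  decide +kernel

set_option maxRecDepth 100000 in
theorem C4 : (Klist.filter predb).length = 24 := by decide +kernel

theorem third : ∀ a b : Fin 6, ∃ c, c ≠ a ∧ c ≠ b := by decide

/-! ### the classification of index-6 subgroups, explicit form -/

theorem main6' (H : Subgroup P6) (hidx : H.index = 6) :
    ∃ g : P6, Subgroup.map (MulAut.conj g).toMonoidHom (MulAction.stabilizer P6 (0 : Fin 6)) = H ∨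
      Subgroup.map (MulAut.conj g).toMonoidHom K2 = H := by
  obtain ⟨c, hc⟩ := conj_s0 H hidx
  have hidx' : (H.map (MulAut.conj c).toMonoidHom).index = 6 :=
    (Subgroup.index_map_equiv H (MulAut.conj c)).trans hidx
  have hback := conj_back H c
  by_cases hmv : ∃ k ∈ H.map (MulAut.conj c).toMonoidHom, k 0 ≠ 0
  · have := core _ hidx' hc hmv
    exact ⟨c⁻¹, Or.inr (by rw [← this]; exact hback)⟩
  · push Not at hmv
    have hle : H.map (MulAut.conj c).toMonoidHom ≤ MulAction.stabilizer P6 (0 : Fin 6) :=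
      fun k hk => MulAction.mem_stabilizer_iff.mpr (hmv k hk)
    have heq : H.map (MulAut.conj c).toMonoidHom = MulAction.stabilizer P6 (0 : Fin 6) :=
      Subgroup.eq_of_le_of_card_ge hle
        (le_of_eq (by rw [card_of_index hidx', card_of_index idx_stab]))
    exact ⟨c⁻¹, Or.inl (by rw [← heq]; exact hback)⟩

theorem idx_stab' (a : Fin 6) : (MulAction.stabilizer P6 a).index = 6 := by
  have := MulAction.index_stabilizer_of_transitive P6 a
  rw [this, Nat.card_eq_fintype_card, Fintype.card_fin]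

theorem idx_conjK (t : P6) : (K2.map (MulAut.conj t).toMonoidHom).index = 6 :=
  (Subgroup.index_map_equiv K2 (MulAut.conj t)).trans (index_of_card card_K2)

theorem map_conj_mul_mem {G : Type*} [Group G] (K : Subgroup G) (t k : G) (hk : k ∈ K) :
    K.map (MulAut.conj (t * k)).toMonoidHom = K.map (MulAut.conj t).toMonoidHom := by
  ext y
  rw [Subgroup.mem_map, Subgroup.mem_map]
  constructor
  · rintro ⟨z, hz, rfl⟩
    refine ⟨k * z * k⁻¹, K.mul_mem (K.mul_mem hk hz) (K.inv_mem hk), ?_⟩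
    show t * (k * z * k⁻¹) * t⁻¹ = t * k * z * (t * k)⁻¹
    group
  · rintro ⟨z, hz, rfl⟩
    refine ⟨k⁻¹ * z * k, K.mul_mem (K.mul_mem (K.inv_mem hk) hz) hk, ?_⟩
    show t * k * (k⁻¹ * z * k) * (t * k)⁻¹ = t * z * t⁻¹
    group

theorem conjK_nofix (t : P6) (a : Fin 6)
    (h : ∀ y ∈ K2.map (MulAut.conj t).toMonoidHom, y a = a) : False := by
  have h1 := h (t * s0 * t⁻¹) (Subgroup.mem_map.mpr ⟨s0, s0_mem, rfl⟩)
  have h2 := h (t * x0 * t⁻¹) (Subgroup.mem_map.mpr ⟨x0, x0_mem, rfl⟩)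
  have e1 : s0 (t⁻¹ a) = t⁻¹ a := by
    have := congrArg (fun z => t⁻¹ z) h1
    simpa only [Perm.mul_apply, inv_app] using this
  have e2 : x0 (t⁻¹ a) = t⁻¹ a := by
    have := congrArg (fun z => t⁻¹ z) h2
    simpa only [Perm.mul_apply, inv_app] using this
  exact nofix _ e1 e2

/-! ### counting -/

noncomputable def F : Fin 6 ⊕ Fin 6 → {H : Subgroup P6 // H.index = 6}
  | Sum.inl a => ⟨MulAction.stabilizer P6 a, idx_stab' a⟩
  | Sum.inr i => ⟨K2.map (MulAut.conj (T i)).toMonoidHom, idx_conjK (T i)⟩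

theorem F_inj : Function.Injective F := by
  rintro (a | i) (b | j) h
  · have h' : MulAction.stabilizer P6 a = MulAction.stabilizer P6 b := congrArg Subtype.val h
    congr 1
    by_contra hab
    obtain ⟨c, hca, hcb⟩ := third a b
    have hm : Equiv.swap b c ∈ MulAction.stabilizer P6 a :=
      MulAction.mem_stabilizer_iff.mpr (Equiv.swap_apply_of_ne_of_ne hab hca.symm)
    rw [h'] at hm
    have := MulAction.mem_stabilizer_iff.mp hm
    rw [Perm.smul_def, Equiv.swap_apply_left] at this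
    exact hcb this
  · exfalso
    have h' : MulAction.stabilizer P6 a = K2.map (MulAut.conj (T j)).toMonoidHom :=
      congrArg Subtype.val h
    exact conjK_nofix (T j) a (fun y hy => by
      rw [← h'] at hy; exact MulAction.mem_stabilizer_iff.mp hy)
  · exfalso
    have h' : K2.map (MulAut.conj (T i)).toMonoidHom = MulAction.stabilizer P6 b :=
      congrArg Subtype.val h
    exact conjK_nofix (T i) b (fun y hy => by
      rw [h'] at hy; exact MulAction.mem_stabilizer_iff.mp hy)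
  · have h' : K2.map (MulAut.conj (T i)).toMonoidHom = K2.map (MulAut.conj (T j)).toMonoidHom :=
      congrArg Subtype.val h
    congr 1
    by_contra hij
    obtain ⟨k, hk, hkn⟩ := List.any_eq_true.mp (C2 i j hij)
    have hkK : k ∈ K2 := K_sub k hk
    have hm : T i * k * (T i)⁻¹ ∈ K2.map (MulAut.conj (T j)).toMonoidHom := by
      rw [← h']; exact Subgroup.mem_map.mpr ⟨k, hkK, rfl⟩
    obtain ⟨k', hk', e⟩ := Subgroup.mem_map.mp hm
    have e' : T j * k' * (T j)⁻¹ = T i * k * (T i)⁻¹ := e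
    have hk'eq : k' = (T j)⁻¹ * T i * k * ((T j)⁻¹ * T i)⁻¹ := by
      have e3 : k' = (T j)⁻¹ * (T j * k' * (T j)⁻¹) * T j := by group
      rw [e3, e']; group
    have hmem : memb ((T j)⁻¹ * T i * k * ((T j)⁻¹ * T i)⁻¹) Klist = true := by
      rw [← hk'eq]; exact memb_iff.mpr (K2_sub k' hk')
    rw [hmem] at hkn
    exact absurd hkn (by decide)

theorem F_surj : Function.Surjective F := by
  rintro ⟨H, hH⟩
  obtain ⟨g, hg | hg⟩ := main6' H hH
  · refine ⟨Sum.inl (g 0), Subtype.ext ?_⟩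
    show MulAction.stabilizer P6 (g 0) = H
    rw [← hg]
    exact MulAction.stabilizer_smul_eq_stabilizer_map_conj g (0 : Fin 6)
  · obtain ⟨i, hi⟩ := C1 g
    refine ⟨Sum.inr i, Subtype.ext ?_⟩
    show K2.map (MulAut.conj (T i)).toMonoidHom = H
    rw [← hg]
    have hk : (T i)⁻¹ * g ∈ K2 := K_sub _ (memb_iff.mp hi)
    have := map_conj_mul_mem K2 (T i) _ hk
    rw [show T i * ((T i)⁻¹ * g) = g by group] at this
    exact this.symm

theorem card12 : Nat.card {H : Subgroup P6 // H.index = 6} = 12 := by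
  have h := Nat.card_congr (Equiv.ofBijective F ⟨F_inj, F_surj⟩)
  rw [Nat.card_eq_fintype_card, Fintype.card_sum, Fintype.card_fin] at h
  omega

/-! ### isomorphism type -/

theorem card_perm5 : Nat.card (Perm (Fin 5)) = 120 := by
  rw [Nat.card_eq_fintype_card, Fintype.card_perm, Fintype.card_fin]; rfl

theorem iso_stab : Nonempty (MulAction.stabilizer P6 (0 : Fin 6) ≃* Perm (Fin 5)) := by
  let φ : Perm {x : Fin 6 // x ≠ 0} →* P6 := Equiv.Perm.ofSubtype
  have hφ : ∀ f, φ f ∈ MulAction.stabilizer P6 (0 : Fin 6) := by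
    intro f
    rw [MulAction.mem_stabilizer_iff]
    exact Equiv.Perm.ofSubtype_apply_of_not_mem f (by simp)
  let ψ : Perm {x : Fin 6 // x ≠ 0} →* MulAction.stabilizer P6 (0 : Fin 6) :=
    φ.codRestrict _ hφ
  have hinj : Function.Injective ψ :=
    (MonoidHom.injective_codRestrict φ _ hφ).mpr Equiv.Perm.ofSubtype_injective
  let e5 : Perm {x : Fin 6 // x ≠ 0} ≃* Perm (Fin 5) :=
    Equiv.permCongrHom (finSuccAboveEquiv (0 : Fin 6)).symm
  have hc1 : Nat.card (Perm {x : Fin 6 // x ≠ 0}) = 120 := by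
    rw [Nat.card_congr e5.toEquiv, card_perm5]
  have hbij : Function.Bijective ψ :=
    hinj.bijective_of_nat_card_le (by rw [hc1, card_of_index idx_stab])
  exact ⟨(MulEquiv.ofBijective ψ hbij).symm.trans e5⟩

def StabS : Subgroup P6 where
  carrier := {g | ∀ x y : Fin 6, p x = p y ↔ p (g x) = p (g y)}
  one_mem' := fun _ _ => Iff.rfl
  mul_mem' := by
    intro a b ha hb x y
    exact (hb x y).trans (ha (b x) (b y))
  inv_mem' := by
    intro a ha x y
    have := ha (a⁻¹ x) (a⁻¹ y)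
    rw [app_inv, app_inv] at this
    exact this.symm

theorem predb_iff (g : P6) : predb g = true ↔ g ∈ StabS := by
  unfold predb; rw [decide_eq_true_iff]; exact Iff.rfl

def U5 : Subgroup K2 := StabS.subgroupOf K2

theorem card_U5 : Nat.card U5 = 24 := by
  have h1 : U5 = (StabS ⊓ K2).subgroupOf K2 := (Subgroup.inf_subgroupOf_right StabS K2).symm
  rw [h1, Nat.card_congr (Subgroup.subgroupOfEquivOfLe (inf_le_right : StabS ⊓ K2 ≤ K2)).toEquiv]
  have hnd : (Klist.filter predb).Nodup := (List.Nodup.of_map tab F3).filter _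
  have e : ↥(StabS ⊓ K2) ≃ {g // g ∈ (Klist.filter predb).toFinset} :=
    Equiv.subtypeEquivRight (fun g => by
      rw [List.mem_toFinset, List.mem_filter, Subgroup.mem_inf, predb_iff]
      exact ⟨fun h => ⟨K2_sub g h.2, h.1⟩, fun h => ⟨h.2, K_sub g h.1⟩⟩)
  rw [Nat.card_congr e, Nat.card_eq_fintype_card, Fintype.card_coe,
    List.toFinset_card_of_nodup hnd]
  exact C4

theorem index_U5 : U5.index = 5 := by
  have := Subgroup.card_mul_index U5
  rw [card_U5, card_K2] at this
  omega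

theorem core_U5 : (MulAction.toPermHom K2 (K2 ⧸ U5)).ker = ⊥ := by
  rw [← Subgroup.normalCore_eq_ker, eq_bot_iff]
  rintro ⟨k, hk⟩ hcore
  rw [Subgroup.mem_bot]
  have hkl := K2_sub k hk
  have h3 := List.all_eq_true.mp C3 k hkl
  rcases Bool.or_eq_true_iff.mp h3 with h1 | h2
  · exact Subtype.ext (beq_iff.mp h1)
  · exfalso
    obtain ⟨b, hb, hbn⟩ := List.any_eq_true.mp h2
    have hbK := K_sub b hb
    have hm : (⟨b, hbK⟩ : K2) * ⟨k, hk⟩ * (⟨b, hbK⟩ : K2)⁻¹ ∈ U5 :=
      (show ∀ b' : K2, b' * ⟨k, hk⟩ * b'⁻¹ ∈ U5 from hcore) ⟨b, hbK⟩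
    have hm' : b * k * b⁻¹ ∈ StabS := Subgroup.mem_subgroupOf.mp hm
    rw [(predb_iff _).mpr hm'] at hbn
    exact absurd hbn (by decide)

theorem iso_K2 : Nonempty (K2 ≃* Perm (Fin 5)) := by
  have hinj : Function.Injective (MulAction.toPermHom K2 (K2 ⧸ U5)) :=
    (MonoidHom.ker_eq_bot_iff _).mp core_U5
  have hq : Nat.card (K2 ⧸ U5) = 5 := index_U5
  have : Finite (K2 ⧸ U5) := Nat.finite_of_card_ne_zero (by omega)
  let e : (K2 ⧸ U5) ≃ Fin 5 := Finite.equivFinOfCardEq hq
  let ρ' : K2 →* Perm (Fin 5) :=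
    (Equiv.permCongrHom e).toMonoidHom.comp (MulAction.toPermHom K2 (K2 ⧸ U5))
  have hinj' : Function.Injective ρ' := (Equiv.permCongrHom e).injective.comp hinj
  have hbij : Function.Bijective ρ' :=
    hinj'.bijective_of_nat_card_le (by rw [card_perm5, card_K2])
  exact ⟨MulEquiv.ofBijective ρ' hbij⟩

theorem partb (H : Subgroup P6) (hH : H.index = 6) : Nonempty (H ≃* Perm (Fin 5)) := by
  obtain ⟨g, hg | hg⟩ := main6' H hH
  · subst hg
    obtain ⟨e⟩ := iso_stab
    exact ⟨(Subgroup.equivMapOfInjective _ _ (MulAut.conj g).injective).symm.trans e⟩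
  · subst hg
    obtain ⟨e⟩ := iso_K2
    exact ⟨(Subgroup.equivMapOfInjective _ _ (MulAut.conj g).injective).symm.trans e⟩

/-- The symmetric group S_6 has exactly 12 subgroups of index 6; each of them is isomorphic to S_5, and at least one of them is not the stabilizer of any point. -/
theorem result : Nat.card {H : Subgroup (Equiv.Perm (Fin 6)) // H.index = 6} = 12 ∧ (∀ H : Subgroup (Equiv.Perm (Fin 6)), H.index = 6 → Nonempty (H ≃* Equiv.Perm (Fin 5))) ∧ ∃ H : Subgroup (Equiv.Perm (Fin 6)), H.index = 6 ∧ ∀ a : Fin 6, H ≠ MulAction.stabilizer (Equiv.Perm (Fin 6)) a := by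
  refine ⟨card12, partb, K2, index_of_card card_K2, ?_⟩
  intro a h
  have h1 : s0 ∈ MulAction.stabilizer P6 a := by rw [← h]; exact s0_mem
  have h2 : x0 ∈ MulAction.stabilizer P6 a := by rw [← h]; exact x0_mem
  exact nofix a (MulAction.mem_stabilizer_iff.mp h1) (MulAction.mem_stabilizer_iff.mp h2)

end Cfsg.Agent.S5945
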