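import Cfsg.Statements.S5947
import Mathlib

set_option autoImplicit false
open Cfsg

namespace Cfsg.Agent.S5947

universe u v w

/-- Index bound for a representation of a finite abelian group whose order is invertible in `F`. -/
theorem index_bound {F : Type u} [Field F] {G : Type w} [Group G] [Finite G]
    (hc : ∀ a b : G, a * b = b * a) (hF : ((Nat.card G : ℕ) : F) ≠ 0) :
    ∀ (n : ℕ) (V : Type v) [AddCommGroup V] [Module F V] [Finite V] [Nontrivial V],
      Nat.card V = n → ∀ ρ : G →* Module.End F V,
        ρ.ker.index + 1 ≤ Nat.card V ∧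
          ((∃ g, ρ g ≠ 1 ∧ ∃ v, v ≠ 0 ∧ ρ g v = v) → ρ.ker.index + 3 ≤ Nat.card V) := by
  intro n
  induction n using Nat.strong_induction_on with
  | _ n ih =>
  intro V _ _ _ _ hn ρ
  have hcomm : ∀ (a b : G) (v : V), ρ a (ρ b v) = ρ b (ρ a v) := by
    intro a b v
    rw [← Module.End.mul_apply, ← Module.End.mul_apply, ← map_mul, ← map_mul, hc a b]
  have key : (∃ g, ρ g ≠ 1 ∧ ∃ v, v ≠ 0 ∧ ρ g v = v) → ρ.ker.index + 3 ≤ Nat.card V := by
    rintro ⟨g₀, hg₀, v₀, hv₀, hfix⟩
    let W : Submodule F V := LinearMap.ker (ρ g₀ - 1)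
    have hW : ∀ w, w ∈ W ↔ ρ g₀ w = w := by
      intro w
      show w ∈ LinearMap.ker (ρ g₀ - 1) ↔ _
      rw [LinearMap.mem_ker, LinearMap.sub_apply, Module.End.one_apply, sub_eq_zero]
    have hWinv : ∀ g : G, ∀ w ∈ W, ρ g w ∈ W := by
      intro g w hw
      rw [hW] at hw ⊢
      rw [hcomm, hw]
    let ρW : G →* Module.End F W :=
      { toFun := fun g => (ρ g).restrict (hWinv g)
        map_one' := by
          apply LinearMap.ext; intro w; apply Subtype.ext
          simp
        map_mul' := by
          intro a b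
          apply LinearMap.ext; intro w; apply Subtype.ext
          simp [Module.End.mul_apply] }
    let ρQ : G →* Module.End F (V ⧸ W) :=
      { toFun := fun g => W.mapQ W (ρ g) (fun w hw => hWinv g w hw)
        map_one' := by
          refine Submodule.linearMap_qext _ (LinearMap.ext fun v => ?_)
          simp [Submodule.mapQ_apply]
        map_mul' := by
          intro a b
          refine Submodule.linearMap_qext _ (LinearMap.ext fun v => ?_)
          simp [Submodule.mapQ_apply, Module.End.mul_apply] }
    have hker : ρW.ker ⊓ ρQ.ker ≤ ρ.ker := by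
      intro g hg
      obtain ⟨h1, h2⟩ := Subgroup.mem_inf.mp hg
      rw [MonoidHom.mem_ker] at h1 h2 ⊢
      have hNW : ∀ w ∈ W, ρ g w = w := by
        intro w hw
        have h3 : ((ρW g) ⟨w, hw⟩ : V) = ρ g w := rfl
        rw [h1] at h3
        exact h3.symm
      have hNQ : ∀ v, ρ g v - v ∈ W := by
        intro v
        have h3 : (ρQ g) (Submodule.Quotient.mk v) = Submodule.Quotient.mk (ρ g v) := rfl
        rw [h2] at h3
        have h4 : (Submodule.Quotient.mk v : V ⧸ W) = Submodule.Quotient.mk (ρ g v) := h3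
        rw [Submodule.Quotient.eq] at h4
        have h5 := W.neg_mem h4
        rwa [neg_sub] at h5
      have hstep : ∀ v, ρ g (ρ g v - v) = ρ g v - v := fun v => hNW _ (hNQ v)
      have hpow : ∀ (k : ℕ) (v : V), ((ρ g) ^ k) v = v + k • (ρ g v - v) := by
        intro k
        induction k with
        | zero => intro v; simp
        | succ k ihk =>
          intro v
          have e : ρ g (ρ g v) - ρ g v = ρ g v - v := by
            have := hstep v
            rwa [map_sub] at this
          rw [pow_succ, Module.End.mul_apply, ihk (ρ g v), e, succ_nsmul]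
          abel
      have hone : (ρ g) ^ (Nat.card G) = 1 := by rw [← map_pow, pow_card_eq_one', map_one]
      apply LinearMap.ext
      intro v
      have h5 := hpow (Nat.card G) v
      rw [hone, Module.End.one_apply] at h5
      have h6 : (Nat.card G) • (ρ g v - v) = 0 := by
        apply add_left_cancel (a := v)
        rw [add_zero]
        exact h5.symm
      rw [← Nat.cast_smul_eq_nsmul F, smul_eq_zero] at h6
      rcases h6 with h6 | h6
      · exact absurd h6 hF
      · rw [Module.End.one_apply]; exact sub_eq_zero.mp h6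
    haveI : Nontrivial W :=
      ⟨⟨⟨v₀, (hW v₀).mpr hfix⟩, 0, fun h => hv₀ (congrArg Subtype.val h)⟩⟩
    have hWtop : W ≠ ⊤ := by
      intro h
      apply hg₀
      apply LinearMap.ext
      intro v
      have hv : v ∈ W := h ▸ Submodule.mem_top
      rw [Module.End.one_apply]
      exact (hW v).mp hv
    haveI : Nontrivial (V ⧸ W) := Submodule.Quotient.nontrivial_iff.mpr hWtop
    haveI : Finite (V ⧸ W) := Finite.of_surjective W.mkQ (Submodule.mkQ_surjective W)
    have hmul : Nat.card V = Nat.card W * Nat.card (V ⧸ W) :=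
      Submodule.card_eq_card_quotient_mul_card W
    have hW2 : 1 < Nat.card W := Finite.one_lt_card
    have hQ2 : 1 < Nat.card (V ⧸ W) := Finite.one_lt_card
    have hWlt : Nat.card W < n := by rw [← hn, hmul]; nlinarith
    have hQlt : Nat.card (V ⧸ W) < n := by rw [← hn, hmul]; nlinarith
    have ihW := (ih _ hWlt W rfl ρW).1
    have ihQ := (ih _ hQlt (V ⧸ W) rfl ρQ).1
    have hidx1 : ρ.ker.index ≤ (ρW.ker ⊓ ρQ.ker).index :=
      Nat.le_of_dvd (Nat.pos_of_ne_zero Subgroup.index_ne_zero_of_finite)
        (Subgroup.index_dvd_of_le hker)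
    have hidx2 : (ρW.ker ⊓ ρQ.ker).index ≤ ρW.ker.index * ρQ.ker.index :=
      Subgroup.index_inf_le
    have p1 : 1 ≤ ρW.ker.index := Nat.pos_of_ne_zero Subgroup.index_ne_zero_of_finite
    have p2 : 1 ≤ ρQ.ker.index := Nat.pos_of_ne_zero Subgroup.index_ne_zero_of_finite
    have h7 : (ρW.ker.index + 1) * (ρQ.ker.index + 1) ≤ Nat.card W * Nat.card (V ⧸ W) :=
      Nat.mul_le_mul ihW ihQ
    rw [hmul]
    nlinarith [h7]
  refine ⟨?_, key⟩
  by_cases hnf : ∃ g, ρ g ≠ 1 ∧ ∃ v, v ≠ 0 ∧ ρ g v = v
  · have := key hnf; omega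
  · push_neg at hnf
    obtain ⟨v₀, hv₀⟩ := exists_ne (0 : V)
    let lft : G ⧸ ρ.ker →* Module.End F V := QuotientGroup.lift ρ.ker ρ le_rfl
    have hl : ∀ g : G, lft (QuotientGroup.mk g : G ⧸ ρ.ker) = ρ g :=
      fun g => QuotientGroup.lift_mk _ _ _
    have hinv : ∀ g : G, ρ g⁻¹ (ρ g v₀) = v₀ := by
      intro g
      rw [← Module.End.mul_apply, ← map_mul, inv_mul_cancel, map_one, Module.End.one_apply]
    let f : Option (G ⧸ ρ.ker) → V := fun o => o.elim 0 (fun q => lft q v₀)
    have hfn : f none = 0 := rfl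
    have hfs : ∀ g : G, f (some (QuotientGroup.mk g : G ⧸ ρ.ker)) = ρ g v₀ := by
      intro g
      show lft (QuotientGroup.mk g : G ⧸ ρ.ker) v₀ = ρ g v₀
      rw [hl]
    have hz : ∀ g : G, ρ g v₀ ≠ 0 := by
      intro g h0
      have h2 := hinv g
      rw [h0, map_zero] at h2
      exact hv₀ h2.symm
    have hf : Function.Injective f := by
      intro a b hab
      cases a with
      | none =>
        cases b with
        | none => rfl
        | some q =>
          exfalso
          obtain ⟨g, rfl⟩ := QuotientGroup.mk_surjective q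
          rw [hfn, hfs] at hab
          exact hz g hab.symm
      | some p =>
        cases b with
        | none =>
          exfalso
          obtain ⟨g, rfl⟩ := QuotientGroup.mk_surjective p
          rw [hfn, hfs] at hab
          exact hz g hab
        | some q =>
          obtain ⟨a, rfl⟩ := QuotientGroup.mk_surjective p
          obtain ⟨b, rfl⟩ := QuotientGroup.mk_surjective q
          rw [hfs, hfs] at hab
          congr 1
          rw [QuotientGroup.eq, MonoidHom.mem_ker]
          by_contra hne
          apply hnf _ hne v₀ hv₀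
          rw [map_mul, Module.End.mul_apply, ← hab, hinv]
    have h8 := Nat.card_le_card_of_injective f hf
    rw [Finite.card_option] at h8
    exact h8

/-- A field of endomorphisms of `K` of the same size as `K` is conjugate to the multiplications. -/
theorem exists_conj {F : Type u} {K : Type v} {L : Type w} [Field F] [Field K] [Fintype K]
    [Algebra F K] [Field L] [Finite L] [Algebra F L] (ι : L →ₐ[F] Module.End F K)
    (hcard : Nat.card L = Nat.card K) :
    ∃ g : (Module.End F K)ˣ, ∀ x : K, ∃ l : L,
      (g : Module.End F K) * Algebra.lmul F K x = ι l * (g : Module.End F K) := by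
  classical
  haveI : Fintype L := Fintype.ofFinite L
  have hc : Fintype.card L = Fintype.card K := by
    rw [← Nat.card_eq_fintype_card, ← Nat.card_eq_fintype_card]; exact hcard
  haveI h1 : Polynomial.IsSplittingField F K (Polynomial.X ^ Fintype.card K - Polynomial.X) :=
    FiniteField.isSplittingField_sub K F
  haveI h2 : Polynomial.IsSplittingField F L (Polynomial.X ^ Fintype.card K - Polynomial.X) := by
    rw [← hc]; exact FiniteField.isSplittingField_sub L F
  let σ : K ≃ₐ[F] L :=
    (Polynomial.IsSplittingField.algEquiv K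
      (Polynomial.X ^ Fintype.card K - Polynomial.X : Polynomial F)).trans
      (Polynomial.IsSplittingField.algEquiv L
        (Polynomial.X ^ Fintype.card K - Polynomial.X : Polynomial F)).symm
  let g₀ : Module.End F K :=
    { toFun := fun x => ι (σ x) 1
      map_add' := by
        intro x y
        show ι (σ (x + y)) 1 = ι (σ x) 1 + ι (σ y) 1
        rw [map_add, map_add, LinearMap.add_apply]
      map_smul' := by
        intro r x
        show ι (σ (r • x)) 1 = r • ι (σ x) 1
        rw [map_smul, map_smul, LinearMap.smul_apply] }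
  have hg₀ : ∀ x y, g₀ (x * y) = ι (σ x) (g₀ y) := by
    intro x y
    show ι (σ (x * y)) 1 = ι (σ x) (ι (σ y) 1)
    rw [map_mul, map_mul, Module.End.mul_apply]
  have hg1 : g₀ 1 = 1 := by
    show ι (σ 1) 1 = 1
    rw [map_one σ, map_one ι, Module.End.one_apply]
  have hinj : Function.Injective g₀ := by
    rw [injective_iff_map_eq_zero]
    intro x hx
    by_contra hne
    have h3 : g₀ (x⁻¹ * x) = 0 := by rw [hg₀, hx, map_zero]
    rw [inv_mul_cancel₀ hne, hg1] at h3
    exact one_ne_zero h3
  obtain ⟨g, hg⟩ := (Module.End.isUnit_iff g₀).mpr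
    ⟨hinj, Finite.injective_iff_surjective.mp hinj⟩
  refine ⟨g, fun x => ⟨σ x, ?_⟩⟩
  rw [hg]
  apply LinearMap.ext
  intro y
  rw [Module.End.mul_apply, Module.End.mul_apply]
  exact hg₀ x y

/-- Let F ⊆ K be finite fields with |F| = q and [K : F] = n ≥ 2, regard K as an n-dimensional F-vector space, and let M ≤ GL_F(K) be the Singer group of multiplications by non-zero elements of K (cyclic of order q^n − 1). Assume (n, q) ≠ (6, 2), and that it is not the case that n = 2 with q a prime such that q + 1 is a power of 2. Then every abelian subgroup of GL_F(K) of order q^n − 1 is conjugate to M. -/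
theorem result {F K : Type*} [Field F] [Fintype F] [Field K] [Fintype K] [Algebra F K] (n : ℕ) (hn : 2 ≤ n) (hdim : Module.finrank F K = n)
    (hex1 : ¬ (n = 6 ∧ Fintype.card F = 2))
    (hex2 : ¬ (n = 2 ∧ (Fintype.card F).Prime ∧ ∃ a : ℕ, Fintype.card F + 1 = 2 ^ a))
    (U : Subgroup (Module.End F K)ˣ) (hU : IsMulCommutative U) (hcard : Nat.card U = Fintype.card K - 1) :
    ∃ g : (Module.End F K)ˣ, U.map (MulAut.conj g).toMonoidHom = (Units.map ((Algebra.lmul F K : K →ₐ[F] Module.End F K) : K →* Module.End F K)).range := by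
  classical
  haveI : Finite (Module.End F K) :=
    Finite.of_injective (fun f : Module.End F K => (f : K → K)) DFunLike.coe_injective
  have hKcard : Fintype.card K = Fintype.card F ^ n := by
    rw [← hdim]; exact Module.card_eq_pow_finrank
  have hK2 : 2 ≤ Fintype.card K := Fintype.one_lt_card
  have hc : ∀ a b : U, a * b = b * a := fun a b => hU.is_comm.comm a b
  have h0 : ((Fintype.card F : ℕ) : F) = 0 := by simp
  have hF : ((Nat.card U : ℕ) : F) ≠ 0 := by
    rw [hcard, Nat.cast_sub (by omega), hKcard, Nat.cast_pow, h0, zero_pow (by omega),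
      Nat.cast_one, zero_sub]
    exact neg_ne_zero.mpr one_ne_zero
  let ρ : U →* Module.End F K := (Units.coeHom (Module.End F K)).comp U.subtype
  have hρinj : Function.Injective ρ := by
    intro a b hab
    exact Subtype.ext (Units.ext hab)
  have hfree : ∀ u : U, u ≠ 1 → ∀ v : K, v ≠ 0 → u.1.1 v ≠ v := by
    intro u hu v hv hfix
    have hu1 : ρ u ≠ 1 := by
      intro h1
      apply hu
      apply hρinj
      rw [h1, map_one]
    have hb := (index_bound hc hF (Nat.card K) K rfl ρ).2 ⟨u, hu1, v, hv, hfix⟩
    rw [(MonoidHom.ker_eq_bot_iff ρ).mpr hρinj, Subgroup.index_bot, hcard,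
      Nat.card_eq_fintype_card] at hb
    omega
  have hne1 : ∀ u : U, u.1.1 1 ≠ 0 := by
    intro u h
    have h2 : (u.1⁻¹).1 (u.1.1 1) = 1 := by
      rw [← Module.End.mul_apply, Units.inv_mul, Module.End.one_apply]
    rw [h, map_zero] at h2
    exact zero_ne_one h2
  let e : U → Kˣ := fun u => Units.mk0 (u.1.1 1) (hne1 u)
  have he : Function.Injective e := by
    intro a b hab
    have h1 : a.1.1 1 = b.1.1 1 := congrArg Units.val hab
    by_contra hne
    have h2 : a⁻¹ * b ≠ 1 := fun h => hne (inv_mul_eq_one.mp h)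
    apply hfree (a⁻¹ * b) h2 1 one_ne_zero
    show ((a.1⁻¹ * b.1 : (Module.End F K)ˣ) : Module.End F K) 1 = 1
    rw [Units.val_mul, Module.End.mul_apply, ← h1, ← Module.End.mul_apply, Units.inv_mul,
      Module.End.one_apply]
  have hbij : Function.Bijective e :=
    he.bijective_of_nat_card_le (by rw [Nat.card_units K, hcard, Nat.card_eq_fintype_card])
  have htrans : ∀ x : K, x ≠ 0 → ∃ u : U, u.1.1 1 = x := by
    intro x hx
    obtain ⟨u, hu⟩ := hbij.2 (Units.mk0 x hx)
    exact ⟨u, congrArg Units.val hu⟩
  have hL1 : ∀ T : Module.End F K, (∀ u : U, u.1.1 * T = T * u.1.1) → T 1 = 0 → T = 0 := by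
    intro T hT h1
    apply LinearMap.ext
    intro x
    by_cases hx : x = 0
    · rw [hx, map_zero, map_zero]
    · obtain ⟨u, rfl⟩ := htrans x hx
      have h2 : T (u.1.1 1) = (u.1.1 * T) 1 := by rw [hT u]; rfl
      rw [h2, Module.End.mul_apply, h1, map_zero, LinearMap.zero_apply]
  let Uset : Set (Module.End F K) := {a | ∃ u : U, u.1.1 = a}
  let A : Subalgebra F (Module.End F K) := Subalgebra.centralizer F Uset
  have hAmem : ∀ T : Module.End F K, T ∈ A ↔ ∀ u : U, u.1.1 * T = T * u.1.1 := by
    intro T
    show T ∈ Subalgebra.centralizer F Uset ↔ _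
    rw [Subalgebra.mem_centralizer_iff]
    constructor
    · intro h u; exact h _ ⟨u, rfl⟩
    · rintro h _ ⟨u, rfl⟩; exact h u
  have hUA : ∀ u : U, u.1.1 ∈ A := by
    intro u
    rw [hAmem]
    intro u'
    have h2 := congrArg (fun w : U => w.1.1) (hc u' u)
    exact h2
  have hL2 : ∀ T ∈ A, T = 0 ∨ ∃ u : U, u.1.1 = T := by
    intro T hT
    by_cases h1 : T 1 = 0
    · exact Or.inl (hL1 T ((hAmem T).mp hT) h1)
    · right
      obtain ⟨u, hu⟩ := htrans _ h1
      refine ⟨u, ?_⟩
      have hsub : T - u.1.1 = 0 := by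
        apply hL1
        · intro u'
          rw [mul_sub, sub_mul, (hAmem T).mp hT u', (hAmem _).mp (hUA u) u']
        · rw [LinearMap.sub_apply, hu, sub_self]
      exact (sub_eq_zero.mp hsub).symm
  have hAfield : IsField A :=
    { exists_pair_ne := by
        refine ⟨0, 1, fun h => ?_⟩
        have h2 := congrArg (fun a : A => (a : Module.End F K) (1 : K)) h
        simp at h2
      mul_comm := by
        intro a b
        apply Subtype.ext
        rw [Subalgebra.coe_mul, Subalgebra.coe_mul]
        rcases hL2 a.1 a.2 with h | ⟨u, hu⟩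
        · rw [h, zero_mul, mul_zero]
        · rw [← hu]; exact (hAmem b.1).mp b.2 u
      mul_inv_cancel := by
        intro a ha
        rcases hL2 a.1 a.2 with h | ⟨u, hu⟩
        · exact absurd (Subtype.ext (h.trans (ZeroMemClass.coe_zero A).symm)) ha
        · refine ⟨⟨(u⁻¹).1.1, hUA u⁻¹⟩, ?_⟩
          apply Subtype.ext
          rw [Subalgebra.coe_mul, ← hu]
          show u.1.1 * (u.1⁻¹).1 = 1
          rw [Units.mul_inv] }
  let ev : A ≃ K := Equiv.ofBijective (fun a : A => a.1 1) (by
    constructor
    · intro a b hab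
      apply Subtype.ext
      have hsub : a.1 - b.1 = 0 := by
        apply hL1
        · exact (hAmem _).mp (A.sub_mem a.2 b.2)
        · rw [LinearMap.sub_apply]; exact sub_eq_zero.mpr hab
      exact sub_eq_zero.mp hsub
    · intro x
      by_cases hx : x = 0
      · refine ⟨0, ?_⟩
        show (0 : A).1 1 = x
        rw [hx, ZeroMemClass.coe_zero, LinearMap.zero_apply]
      · obtain ⟨u, hu⟩ := htrans x hx
        exact ⟨⟨u.1.1, hUA u⟩, hu⟩)
  haveI : Finite A := Finite.of_equiv K ev.symm
  have hcardA : Nat.card A = Nat.card K := Nat.card_congr ev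
  letI : Field A := hAfield.toField
  obtain ⟨g, hg⟩ := exists_conj (F := F) (K := K) (L := A) A.val hcardA
  let μ : Kˣ →* (Module.End F K)ˣ :=
    Units.map ((Algebra.lmul F K : K →ₐ[F] Module.End F K) : K →* Module.End F K)
  have hsub : μ.range.map (MulAut.conj g).toMonoidHom ≤ U := by
    intro w hw
    obtain ⟨y, hy, rfl⟩ := Subgroup.mem_map.mp hw
    obtain ⟨x, rfl⟩ := MonoidHom.mem_range.mp hy
    obtain ⟨l, hl⟩ := hg (x : K)
    have hval : ((MulAut.conj g).toMonoidHom (μ x)).1 = (l : Module.End F K) := by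
      have e1 : ((MulAut.conj g).toMonoidHom (μ x)).1
          = g.1 * Algebra.lmul F K (x : K) * (g⁻¹).1 := rfl
      rw [e1, hl, mul_assoc, Units.mul_inv, mul_one]
      rfl
    rcases hL2 _ l.2 with h0 | ⟨u, hu⟩
    · exfalso
      have h3 : IsUnit (l : Module.End F K) := hval ▸ Units.isUnit _
      rw [h0] at h3
      exact not_isUnit_zero h3
    · have h4 : (MulAut.conj g).toMonoidHom (μ x) = u.1 := Units.ext (hval.trans hu.symm)
      rw [h4]; exact u.2
  have hinjM : Function.Injective (fun x : Kˣ => (MulAut.conj g).toMonoidHom (μ x)) := by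
    intro x y hxy
    have h1 : μ x = μ y := (MulAut.conj g).injective hxy
    have h2 : Algebra.lmul F K (x : K) = Algebra.lmul F K (y : K) := congrArg Units.val h1
    have h4 : (x : K) * 1 = (y : K) * 1 := congrArg (fun T : Module.End F K => T 1) h2
    rw [mul_one, mul_one] at h4
    exact Units.ext h4
  have hcardle : Nat.card U ≤ Nat.card (μ.range.map (MulAut.conj g).toMonoidHom) := by
    rw [hcard, ← Nat.card_eq_fintype_card, ← Nat.card_units K]
    exact Nat.card_le_card_of_injective
      (fun x : Kˣ => (⟨(MulAut.conj g).toMonoidHom (μ x),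
        Subgroup.mem_map_of_mem _ (MonoidHom.mem_range.mpr ⟨x, rfl⟩)⟩ :
          μ.range.map (MulAut.conj g).toMonoidHom))
      (fun x y hxy => hinjM (congrArg Subtype.val hxy))
  have heq : μ.range.map (MulAut.conj g).toMonoidHom = U :=
    Subgroup.eq_of_le_of_card_ge hsub hcardle
  refine ⟨g⁻¹, ?_⟩
  show U.map (MulAut.conj g⁻¹).toMonoidHom = μ.range
  rw [← heq, Subgroup.map_map]
  have hid : ((MulAut.conj g⁻¹).toMonoidHom.comp (MulAut.conj g).toMonoidHom)
      = MonoidHom.id _ := by
    apply MonoidHom.ext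
    intro a
    show g⁻¹ * (g * a * g⁻¹) * g⁻¹⁻¹ = a
    group
  rw [hid, Subgroup.map_id]

end Cfsg.Agent.S5947
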