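import Cfsg.Statements.S5952
import Mathlib

set_option autoImplicit false
open Cfsg Module

namespace Cfsg.Agent.S5952

variable {F V : Type*} [Field F] [AddCommGroup V] [Module F V] [FiniteDimensional F V]

/-- existence of subspaces of given dimension inside a subspace -/
theorem exists_sub_finrank (C : Submodule F V) (r : ℕ) (hr : r ≤ finrank F C) :
    ∃ W : Submodule F V, W ≤ C ∧ finrank F W = r := by
  obtain ⟨b, hb⟩ := exists_linearIndependent_of_le_finrank (R := F) (M := C) hr
  refine ⟨(Submodule.span F (Set.range b)).map C.subtype, ?_, ?_⟩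
  · intro x hx
    obtain ⟨y, _, rfl⟩ := hx
    exact y.2
  · rw [Submodule.finrank_map_subtype_eq, finrank_span_eq_card hb, Fintype.card_fin]

theorem finrank_sup_of_disjoint (A B : Submodule F V) (h : A ⊓ B = ⊥) :
    finrank F ↥(A ⊔ B) = finrank F A + finrank F B := by
  have := Submodule.finrank_sup_add_finrank_inf_eq A B
  rw [h, finrank_bot] at this
  omega

theorem map_iSup_le (f : V →ₗ[F] V) {ι : Type*} (J : ι → Prop) (U : ι → Submodule F V)
    (hU : ∀ j, (U j).map f ≤ U j) : (⨆ j, ⨆ (_ : J j), U j).map f ≤ ⨆ j, ⨆ (_ : J j), U j := by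
  rw [Submodule.map_iSup]
  apply iSup_le
  intro j
  rw [Submodule.map_iSup]
  apply iSup_le
  intro hj
  exact (hU j).trans (le_iSup₂_of_le j hj le_rfl)

/-- dimension of invariant subspaces of a sum of irreducibles -/
theorem dvd_finrank_of_invariant (f : V →ₗ[F] V) {s a : ℕ} (U : Fin s → Submodule F V)
    (hUinv : ∀ j, (U j).map f ≤ U j) (hUdim : ∀ j, finrank F ↥(U j) = a)
    (hUirr : ∀ j, ∀ W : Submodule F V, W ≤ U j → W.map f ≤ W → W = ⊥ ∨ W = U j)
    (hind : iSupIndep U) (J : Finset (Fin s)) :
    ∀ X : Submodule F V, X ≤ (⨆ j ∈ J, U j) → X.map f ≤ X → a ∣ finrank F X := by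
  classical
  induction J using Finset.induction_on with
  | empty =>
    intro X hX _
    simp only [Finset.notMem_empty, iSup_false, iSup_bot, le_bot_iff] at hX
    rw [hX, finrank_bot]; exact dvd_zero a
  | insert j0 J' hj0 ih =>
    intro X hX hXinv
    rw [Finset.iSup_insert] at hX
    set P' := ⨆ j ∈ J', U j with hP'
    have hP'inv : P'.map f ≤ P' := map_iSup_le f (fun j => j ∈ J') U hUinv
    have hdisj : U j0 ⊓ P' = ⊥ := by
      have := hind.disjoint_biSup (x := j0) (y := (↑J' : Set (Fin s))) (by simpa using hj0)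
      rw [disjoint_iff] at this
      simpa using this
    -- X'' and Y
    have h1 : a ∣ finrank F ↥(X ⊓ P') := by
      apply ih _ inf_le_right
      intro x hx
      obtain ⟨y, hy, rfl⟩ := hx
      exact ⟨hXinv ⟨y, hy.1, rfl⟩, hP'inv ⟨y, hy.2, rfl⟩⟩
    set Y := (X ⊔ P') ⊓ U j0 with hY
    have hYinv : Y.map f ≤ Y := by
      intro x hx
      obtain ⟨y, hy, rfl⟩ := hx
      refine ⟨?_, hUinv j0 ⟨y, hy.2, rfl⟩⟩
      have : (X ⊔ P').map f ≤ X ⊔ P' := by
        rw [Submodule.map_sup]
        exact sup_le_sup hXinv hP'inv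
      exact this ⟨y, hy.1, rfl⟩
    have hYcases := hUirr j0 Y inf_le_right hYinv
    have hYdim : finrank F Y = 0 ∨ finrank F Y = a := by
      rcases hYcases with h | h
      · left; rw [h, finrank_bot]
      · right; rw [h, hUdim]
    have hmod : X ⊔ P' = Y ⊔ P' := by
      have h2 : (P' ⊔ U j0) ⊓ (X ⊔ P') = P' ⊔ U j0 ⊓ (X ⊔ P') :=
        sup_inf_assoc_of_le (U j0) (le_sup_right : P' ≤ X ⊔ P')
      have h3 : (P' ⊔ U j0) ⊓ (X ⊔ P') = X ⊔ P' := by
        apply inf_eq_right.mpr
        apply sup_le
        · rw [sup_comm]; exact hX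
        · exact le_sup_left
      rw [h3] at h2
      rw [h2, hY, sup_comm, inf_comm]
    have hYP : Y ⊓ P' = ⊥ := by
      apply le_bot_iff.mp
      calc Y ⊓ P' ≤ U j0 ⊓ P' := inf_le_inf_right _ inf_le_right
        _ = ⊥ := hdisj
    have e1 := Submodule.finrank_sup_add_finrank_inf_eq X P'
    have e2 := finrank_sup_of_disjoint Y P' hYP
    rw [hmod, e2] at e1
    have e3 : finrank F X = finrank F Y + finrank F ↥(X ⊓ P') := by omega
    rw [e3]
    rcases hYdim with h | h
    · rw [h, zero_add]; exact h1
    · rw [h]; exact Dvd.dvd.add (dvd_refl a) h1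

/-- dimension of a partial sum -/
theorem finrank_biSup (f : V →ₗ[F] V) {s a : ℕ} (U : Fin s → Submodule F V)
    (hUdim : ∀ j, finrank F ↥(U j) = a) (hind : iSupIndep U) (J : Finset (Fin s)) :
    finrank F ↥(⨆ j ∈ J, U j) = J.card * a := by
  classical
  induction J using Finset.induction_on with
  | empty => simp
  | insert j0 J' hj0 ih =>
    rw [Finset.iSup_insert, Finset.card_insert_of_notMem hj0]
    have hdisj : U j0 ⊓ (⨆ j ∈ J', U j) = ⊥ := by
      have := hind.disjoint_biSup (x := j0) (y := (↑J' : Set (Fin s))) (by simpa using hj0)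
      rw [disjoint_iff] at this
      simpa using this
    rw [finrank_sup_of_disjoint _ _ hdisj, ih, hUdim]; ring

theorem result {F V : Type*} [Field F] [AddCommGroup V] [Module F V]
    [FiniteDimensional F V] (f : V →ₗ[F] V) (hf : Function.Bijective f) (hss : Module.End.IsSemisimple f)
    {s a : ℕ} (ha : 1 ≤ a) (U : Fin s → Submodule F V)
    (hUinv : ∀ j, (U j).map f ≤ U j) (hUdim : ∀ j, Module.finrank F ↥(U j) = a)
    (hUirr : ∀ j, ∀ W : Submodule F V, W ≤ U j → W.map f ≤ W → W = ⊥ ∨ W = U j)
    (hdec : DirectSum.IsInternal (fun o : Option (Fin s) => o.elim (Module.End.eigenspace f 1) U))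
    (m : ℕ) (hm : 0 < m) (hmV : m < Module.finrank F V) :
    (∃ W : Submodule F V, Module.finrank F ↥W = m ∧ W.map f ≤ W) ↔
    (m ≤ Module.finrank F ↥(Module.End.eigenspace f 1) ∨
      (a ≤ m ∧ m % a ≤ Module.finrank F ↥(Module.End.eigenspace f 1))) := by
  classical
  set C := Module.End.eigenspace f 1 with hC
  set A : Option (Fin s) → Submodule F V := fun o => o.elim C U with hA
  have hindA : iSupIndep A := hdec.submodule_iSupIndep
  have hind : iSupIndep U := by
    have := hindA.comp (Option.some_injective (Fin s))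
    exact this
  set P := ⨆ j, U j with hP
  have hPeq : P = ⨆ j ∈ (Finset.univ : Finset (Fin s)), U j := by simp [hP]
  have htop : C ⊔ P = ⊤ := by
    have := hdec.submodule_iSup_eq_top
    rw [iSup_option] at this
    exact this
  have hCP : C ⊓ P = ⊥ := by
    have := hindA none
    rw [disjoint_iff] at this
    have h2 : (⨆ j, ⨆ (_ : j ≠ none), A j) = P := by
      rw [iSup_option]
      simp [hA, hP]
    rw [h2] at this
    exact this
  have hPinv : P.map f ≤ P := by
    rw [hPeq]
    exact map_iSup_le f (fun j => j ∈ (Finset.univ : Finset (Fin s))) U hUinv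
  have hCfix : ∀ c ∈ C, f c = c := by
    intro c hc
    have := Module.End.mem_eigenspace_iff.mp hc
    rw [this, one_smul]
  have hdimV : finrank F V = finrank F C + s * a := by
    have h1 := finrank_sup_of_disjoint C P hCP
    rw [htop, finrank_top] at h1
    rw [h1, hPeq, finrank_biSup f U hUdim hind, Finset.card_univ, Fintype.card_fin]
  constructor
  · rintro ⟨W, hWdim, hWinv⟩
    -- g = f - 1
    set g : V →ₗ[F] V := f - 1 with hg
    have hker : LinearMap.ker g = C := by
      ext x
      rw [LinearMap.mem_ker, hC, Module.End.mem_eigenspace_iff, hg]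
      simp [sub_eq_zero]
    have hrn := LinearMap.finrank_range_add_finrank_ker (g.domRestrict W)
    rw [LinearMap.range_domRestrict, LinearMap.ker_domRestrict, hker] at hrn
    have hd0 : finrank F ↥(Submodule.comap W.subtype C) ≤ finrank F C := by
      have e : finrank F ↥(Submodule.comap W.subtype C) = finrank F ↥((Submodule.comap W.subtype C).map W.subtype) :=
        (Submodule.finrank_map_subtype_eq W _).symm
      rw [e]
      apply Submodule.finrank_mono
      intro x hx
      obtain ⟨y, hy, rfl⟩ := hx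
      exact hy
    -- W' = W.map g is invariant and inside P
    have hW'P : W.map g ≤ P := by
      intro x hx
      obtain ⟨w, _, rfl⟩ := hx
      have : w ∈ C ⊔ P := by rw [htop]; exact Submodule.mem_top
      obtain ⟨c, hc, p, hp, rfl⟩ := Submodule.mem_sup.mp this
      have h1 : g c = 0 := by rw [hg]; simp [hCfix c hc]
      rw [map_add, h1, zero_add, hg]
      simp only [LinearMap.sub_apply, Module.End.one_apply]
      exact P.sub_mem (hPinv ⟨p, hp, rfl⟩) hp
    have hW'inv : (W.map g).map f ≤ W.map g := by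
      intro x hx
      obtain ⟨y, hy, rfl⟩ := hx
      obtain ⟨w, hw, rfl⟩ := hy
      refine ⟨f w, hWinv ⟨w, hw, rfl⟩, ?_⟩
      rw [hg]; simp
    have hdvd : a ∣ finrank F ↥(W.map g) := by
      rw [hPeq] at hW'P
      exact dvd_finrank_of_invariant f U hUinv hUdim hUirr hind Finset.univ _ hW'P hW'inv
    obtain ⟨k, hk⟩ := hdvd
    rw [hk, hWdim] at hrn
    rcases Nat.eq_zero_or_pos k with hk0 | hkpos
    · left
      rw [hk0, mul_zero, zero_add] at hrn
      omega
    · right
      constructor
      · calc a = a * 1 := (mul_one a).symm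
          _ ≤ a * k := Nat.mul_le_mul_left a hkpos
          _ ≤ m := by omega
      · have : m % a = finrank F ↥(Submodule.comap W.subtype C) % a := by
          rw [← hrn, Nat.mul_add_mod]
        rw [this]
        exact (Nat.mod_le _ _).trans hd0
  · intro h
    -- choose k' and r
    have key : ∃ k' r : ℕ, k' ≤ s ∧ r ≤ finrank F C ∧ k' * a + r = m := by
      rcases h with h | ⟨h1, h2⟩
      · exact ⟨0, m, Nat.zero_le _, h, by ring⟩
      · by_cases hks : m / a ≤ s
        · refine ⟨m / a, m % a, hks, h2, ?_⟩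
          rw [mul_comm]; exact Nat.div_add_mod m a
        · push Not at hks
          have h3 : s * a ≤ m := by
            calc s * a ≤ (m / a) * a := Nat.mul_le_mul_right a hks.le
              _ ≤ m := Nat.div_mul_le_self m a
          refine ⟨s, m - s * a, le_refl s, by omega, by omega⟩
    obtain ⟨k', r, hk's, hrC, hkr⟩ := key
    obtain ⟨J, _, hJcard⟩ := Finset.exists_subset_card_eq (s := (Finset.univ : Finset (Fin s)))
      (n := k') (by rw [Finset.card_univ, Fintype.card_fin]; exact hk's)
    obtain ⟨W0, hW0C, hW0dim⟩ := exists_sub_finrank C r hrC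
    refine ⟨(⨆ j ∈ J, U j) ⊔ W0, ?_, ?_⟩
    · have hPJ : (⨆ j ∈ J, U j) ≤ P := by
        apply iSup₂_le
        intro j _
        exact le_iSup U j
      have hdisj : (⨆ j ∈ J, U j) ⊓ W0 = ⊥ := by
        apply le_bot_iff.mp
        calc (⨆ j ∈ J, U j) ⊓ W0 ≤ P ⊓ C := inf_le_inf hPJ hW0C
          _ = ⊥ := by rw [inf_comm]; exact hCP
      rw [finrank_sup_of_disjoint _ _ hdisj, finrank_biSup f U hUdim hind, hJcard, hW0dim, hkr]
    · rw [Submodule.map_sup]
      apply sup_le_sup
      · exact map_iSup_le f (fun j => j ∈ J) U hUinv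
      · intro x hx
        obtain ⟨y, hy, rfl⟩ := hx
        rw [hCfix y (hW0C hy)]; exact hy

end Cfsg.Agent.S5952
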